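import Groth.Statements.S18122
import Mathlib

set_option autoImplicit false
universe u
open Pinch

namespace Groth.Agent.S18122aux
open MvPolynomial

variable {K : Type u} [Field K]

abbrev S (K : Type u) [Field K] := MvPolynomial (Fin 2) K
noncomputable abbrev R (K : Type u) [Field K] : Subalgebra K (MvPolynomial (Fin 2) K) :=
  Algebra.adjoin K {X 0 ^ 2, X 0 * X 1, X 1}

theorem hx2 : (X 0 ^ 2 : S K) ∈ R K := Algebra.subset_adjoin (by simp)
theorem hxy : (X 0 * X 1 : S K) ∈ R K := Algebra.subset_adjoin (by simp)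
theorem hy : (X 1 : S K) ∈ R K := Algebra.subset_adjoin (by simp)

theorem restrict_eq (δ : Derivation K (R K) (S K)) (D : Derivation K (S K) (S K))
    (h1 : D (X 0 ^ 2) = δ ⟨X 0 ^ 2, hx2⟩) (h2 : D (X 0 * X 1) = δ ⟨_, hxy⟩)
    (h3 : D (X 1) = δ ⟨_, hy⟩) : ∀ r : R K, D r = δ r := by
  rintro ⟨r, hr⟩
  induction hr using Algebra.adjoin_induction with
  | mem x hx =>
    simp only [Set.mem_insert_iff, Set.mem_singleton_iff] at hx
    rcases hx with rfl | rfl | rfl
    · exact h1
    · exact h2
    · exact h3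
  | algebraMap r =>
    show D (algebraMap K (S K) r) = δ (algebraMap K (R K) r)
    rw [Derivation.map_algebraMap, Derivation.map_algebraMap]
  | add x y hx hy ihx ihy =>
    show D (x + y) = δ (⟨x, hx⟩ + ⟨y, hy⟩)
    rw [map_add, map_add, ihx, ihy]
  | mul x y hx hy ihx ihy =>
    show D (x * y) = δ (⟨x, hx⟩ * ⟨y, hy⟩)
    rw [Derivation.leibniz, Derivation.leibniz, ihx, ihy]
    rfl

variable [NeZero (2 : K)]

theorem half_two : (C (2⁻¹ : K) : S K) * 2 = 1 := by
  rw [show (2 : S K) = C 2 from (map_ofNat C 2).symm, ← C_mul, inv_mul_cancel₀ two_ne_zero, C_1]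

theorem half_add (p : S K) : (C (2⁻¹ : K) : S K) * (p + p) = p := by
  rw [← two_mul, ← mul_assoc, half_two, one_mul]

theorem add_self_cancel {p q : S K} (h : p + p = q + q) : p = q := by
  rw [← half_add p, h, half_add]

/-- the relation forced by `(xy)² = y² x²` -/
theorem rel (δ : Derivation K (R K) (S K)) :
    (X 1 : S K) * δ ⟨X 0 ^ 2, hx2⟩ =
      X 0 * (δ ⟨_, hxy⟩ + δ ⟨_, hxy⟩ - (X 0 * δ ⟨_, hy⟩ + X 0 * δ ⟨_, hy⟩)) := by
  have hr : (⟨_, hxy⟩ : R K) * ⟨_, hxy⟩ = ⟨_, hy⟩ * ⟨_, hy⟩ * ⟨_, hx2⟩ := by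
    apply Subtype.ext
    show (X 0 * X 1 : S K) * (X 0 * X 1) = X 1 * X 1 * X 0 ^ 2
    ring
  have h := congrArg δ hr
  rw [Derivation.leibniz, Derivation.leibniz, Derivation.leibniz] at h
  simp only [Subalgebra.smul_def, smul_eq_mul, Subalgebra.coe_mul] at h
  apply mul_left_cancel₀ (X_ne_zero (R := K) (1 : Fin 2))
  linear_combination (-1 : S K) * h

theorem main (δ : Derivation K (R K) (S K)) :
    ∃! D : Derivation K (S K) (S K), ∀ r : R K, D r = δ r := by
  set a := δ ⟨X 0 ^ 2, hx2⟩ with ha
  set b := δ ⟨_, hxy⟩ with hb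
  set c := δ ⟨_, hy⟩ with hc
  have hrel : (X 1 : S K) * a = X 0 * (b + b - (X 0 * c + X 0 * c)) := rel δ
  have hdvd : (X 0 : S K) ∣ a := by
    have h1 : (X 0 : S K) ∣ X 1 * a := ⟨_, hrel⟩
    rcases X_dvd_mul_iff.1 h1 with h | h
    · exfalso
      rw [X_dvd_X] at h
      exact absurd h (by decide)
    · exact h
  obtain ⟨a', ha'⟩ := hdvd
  have hya' : (X 1 : S K) * a' = b + b - (X 0 * c + X 0 * c) := by
    apply mul_left_cancel₀ (X_ne_zero (R := K) (0 : Fin 2))
    rw [← hrel, ha']; ring
  set d : S K := C (2⁻¹ : K) * a' with hd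
  have hdd : d + d = a' := by rw [hd, ← mul_add, half_add]
  have hyd : (X 1 : S K) * d = b - X 0 * c := by
    apply add_self_cancel
    have : (X 1 : S K) * d + X 1 * d = X 1 * (d + d) := by ring
    rw [this, hdd, hya']; ring
  refine ⟨mkDerivation K ![d, c], ?_, ?_⟩
  · apply restrict_eq
    · have e : mkDerivation K ![d, c] (X 0 ^ 2) = X 0 * d + X 0 * d := by
        rw [pow_two, Derivation.leibniz, mkDerivation_X]
        simp only [Matrix.cons_val_zero, smul_eq_mul]
      rw [e, ← ha, ha', ← hdd]; ring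
    · rw [Derivation.leibniz, mkDerivation_X, mkDerivation_X]
      simp only [Matrix.cons_val_zero, Matrix.cons_val_one, smul_eq_mul]
      rw [hyd, ← hb]; ring
    · rw [mkDerivation_X]
      rfl
  · intro D' hD'
    apply MvPolynomial.derivation_ext
    intro i
    rw [mkDerivation_X]
    fin_cases i
    · show D' (X 0) = d
      have h1 := hD' ⟨_, hx2⟩
      simp only at h1
      have e : D' (X 0 ^ 2) = X 0 * (D' (X 0) + D' (X 0)) := by
        rw [pow_two, Derivation.leibniz, smul_eq_mul, ← mul_add]
      rw [e, ← ha, ha'] at h1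
      have h2 := mul_left_cancel₀ (X_ne_zero (R := K) (0 : Fin 2)) h1
      apply add_self_cancel
      rw [h2, hdd]
    · show D' (X 1) = c
      exact hD' ⟨_, hy⟩

end Groth.Agent.S18122aux

namespace Groth.Agent.S18122

/-- Let K be a field in which 2 ≠ 0, S = K[x, y], and R ⊆ S the K-subalgebra generated by x^2, x y and
y; R is the coordinate ring of the pinch point u^2 = v^2 w (u = x y, v = y, w = x^2) and S is its
normalization. Then restriction along R ⊆ S is a bijection from the K-derivations S → S onto the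
K-derivations R → S: every K-derivation R → S extends uniquely to S. In sheaf terms, the natural
injective map from the tangent sheaf of the normalization to the dual of the pulled-back sheaf of
differentials of the pinch point is an isomorphism. (The text works over an algebraically closed
field of characteristic different from 2 and for every semi-smooth variety; only this model case is
stated, and the computation uses only 2 ≠ 0.) -/
theorem result
    (K : Type u) [Field K] [NeZero (2 : K)] :
    letI R : Subalgebra K (MvPolynomial (Fin 2) K) :=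
      Algebra.adjoin K {MvPolynomial.X 0 ^ 2, MvPolynomial.X 0 * MvPolynomial.X 1, MvPolynomial.X 1}
    ∀ δ : Derivation K R (MvPolynomial (Fin 2) K),
      ∃! D : Derivation K (MvPolynomial (Fin 2) K) (MvPolynomial (Fin 2) K),
        ∀ r : R, D (r : MvPolynomial (Fin 2) K) = δ r := by
  intro δ
  exact Groth.Agent.S18122aux.main δ

end Groth.Agent.S18122
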