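import Groth.Statements.S18123
import Mathlib

set_option autoImplicit false
universe u
open Pinch

namespace Groth.Agent.S18123aux
open MvPolynomial

variable {K : Type u} [Field K]

abbrev S (K : Type u) [Field K] := MvPolynomial (Fin 2) K
noncomputable abbrev R (K : Type u) [Field K] : Subalgebra K (MvPolynomial (Fin 2) K) :=
  Algebra.adjoin K {X 0 ^ 2, X 0 * X 1, X 1}

theorem hx2 : (X 0 ^ 2 : S K) ∈ R K := Algebra.subset_adjoin (by simp)
theorem hxy : (X 0 * X 1 : S K) ∈ R K := Algebra.subset_adjoin (by simp)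
theorem hy : (X 1 : S K) ∈ R K := Algebra.subset_adjoin (by simp)

/-- reduction mod `y` -/
noncomputable def ev0 (K : Type u) [Field K] : S K →ₐ[K] Polynomial K :=
  MvPolynomial.aeval ![Polynomial.X, 0]

theorem ev0_X0 : ev0 K (X 0) = Polynomial.X := by simp [ev0]
theorem ev0_X1 : ev0 K (X 1) = 0 := by simp [ev0]

theorem lemA (f : S K) (hf : f ∈ R K) : ∃ g : Polynomial K, ev0 K f = Polynomial.expand K 2 g := by
  induction hf using Algebra.adjoin_induction with
  | mem x hx =>
    simp only [Set.mem_insert_iff, Set.mem_singleton_iff] at hx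
    rcases hx with rfl | rfl | rfl
    · exact ⟨Polynomial.X, by rw [map_pow, ev0_X0, Polynomial.expand_X]⟩
    · exact ⟨0, by rw [map_mul, ev0_X1, mul_zero, map_zero]⟩
    · exact ⟨0, by rw [ev0_X1, map_zero]⟩
  | algebraMap r =>
    refine ⟨Polynomial.C r, ?_⟩
    rw [AlgHom.commutes, Polynomial.expand_C]; rfl
  | add x y hx hy ihx ihy =>
    obtain ⟨g1, h1⟩ := ihx
    obtain ⟨g2, h2⟩ := ihy
    exact ⟨g1 + g2, by rw [map_add, map_add, h1, h2]⟩
  | mul x y hx hy ihx ihy =>
    obtain ⟨g1, h1⟩ := ihx
    obtain ⟨g2, h2⟩ := ihy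
    exact ⟨g1 * g2, by rw [map_mul, map_mul, h1, h2]⟩

theorem lemB (f : S K) : ∃ h : S K, f = Polynomial.aeval (X 0 : S K) (ev0 K f) + X 1 * h := by
  induction f using MvPolynomial.induction_on with
  | C a =>
    refine ⟨0, ?_⟩
    have : ev0 K (C a) = Polynomial.C a := by
      rw [← MvPolynomial.algebraMap_eq, AlgHom.commutes]; rfl
    rw [this, Polynomial.aeval_C, mul_zero, add_zero]; rfl
  | add p q hp hq =>
    obtain ⟨h1, e1⟩ := hp
    obtain ⟨h2, e2⟩ := hq
    refine ⟨h1 + h2, ?_⟩
    rw [map_add, map_add, mul_add]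
    nth_rewrite 1 [e1, e2]
    ring
  | mul_X p i hp =>
    obtain ⟨h1, e1⟩ := hp
    fin_cases i
    · refine ⟨h1 * X 0, ?_⟩
      show p * X 0 = Polynomial.aeval (X 0 : S K) (ev0 K (p * X 0)) + X 1 * (h1 * X 0)
      rw [map_mul, ev0_X0, map_mul, Polynomial.aeval_X]
      nth_rewrite 1 [e1]
      ring
    · refine ⟨p, ?_⟩
      show p * X 1 = Polynomial.aeval (X 0 : S K) (ev0 K (p * X 1)) + X 1 * p
      rw [map_mul, ev0_X1, mul_zero, map_zero, zero_add, mul_comm]

theorem lemC (h : S K) : X 1 * h ∈ R K ∧ X 0 * X 1 * h ∈ R K := by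
  induction h using MvPolynomial.induction_on with
  | C a =>
    rw [← MvPolynomial.algebraMap_eq]
    exact ⟨(R K).mul_mem hy ((R K).algebraMap_mem a), (R K).mul_mem hxy ((R K).algebraMap_mem a)⟩
  | add p q hp hq =>
    rw [mul_add, mul_add]
    exact ⟨(R K).add_mem hp.1 hq.1, (R K).add_mem hp.2 hq.2⟩
  | mul_X p i hp =>
    fin_cases i
    · show X 1 * (p * X 0) ∈ R K ∧ X 0 * X 1 * (p * X 0) ∈ R K
      refine ⟨?_, ?_⟩
      · have : (X 1 : S K) * (p * X 0) = X 0 * X 1 * p := by ring
        rw [this]; exact hp.2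
      · have : (X 0 : S K) * X 1 * (p * X 0) = X 0 ^ 2 * (X 1 * p) := by ring
        rw [this]; exact (R K).mul_mem hx2 hp.1
    · show X 1 * (p * X 1) ∈ R K ∧ X 0 * X 1 * (p * X 1) ∈ R K
      refine ⟨?_, ?_⟩
      · have : (X 1 : S K) * (p * X 1) = X 1 * p * X 1 := by ring
        rw [this]; exact (R K).mul_mem hp.1 hy
      · have : (X 0 : S K) * X 1 * (p * X 1) = X 0 * X 1 * p * X 1 := by ring
        rw [this]; exact (R K).mul_mem hp.2 hy

theorem lemD (p : Polynomial K) : Polynomial.aeval (X 0 ^ 2 : S K) p ∈ R K := by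
  have := Subalgebra.aeval_coe (R K) ⟨X 0 ^ 2, hx2⟩ p
  simp only at this
  rw [this]
  exact Subtype.property _

theorem lemE (g1 g' : Polynomial K)
    (h : Polynomial.X * Polynomial.expand K 2 g1 = Polynomial.expand K 2 g') : g1 = 0 := by
  ext k
  have := congrArg (fun q => Polynomial.coeff q (2 * k + 1)) h
  simp only [Polynomial.coeff_X_mul, Polynomial.coeff_expand (by norm_num : 0 < 2)] at this
  rw [if_pos (dvd_mul_right 2 k), if_neg (by omega)] at this
  rw [Polynomial.coeff_zero, ← this]
  congr 1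
  omega

theorem lemF (P0 g' : Polynomial K) (h : Polynomial.X * P0 = Polynomial.expand K 2 g') :
    ∃ p : Polynomial K, P0 = Polynomial.X * Polynomial.expand K 2 p := by
  have h0 : g'.coeff 0 = 0 := by
    have := congrArg (fun q => Polynomial.coeff q 0) h
    simp only [Polynomial.coeff_expand (by norm_num : 0 < 2), Polynomial.mul_coeff_zero,
      Polynomial.coeff_X_zero, zero_mul] at this
    simpa using this.symm
  have hg : g' = Polynomial.X * g'.divX := by
    have := Polynomial.X_mul_divX_add g'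
    rw [h0, map_zero, add_zero] at this
    exact this.symm
  refine ⟨g'.divX, ?_⟩
  apply mul_left_cancel₀ (Polynomial.X_ne_zero (R := K))
  rw [h]
  nth_rewrite 1 [hg]
  rw [map_mul, Polynomial.expand_X]
  ring

variable [NeZero (2 : K)]

theorem half_two : (Polynomial.C (2⁻¹ : K)) * 2 = 1 := by
  rw [show (2 : Polynomial K) = Polynomial.C 2 from (map_ofNat Polynomial.C 2).symm,
    ← Polynomial.C_mul, inv_mul_cancel₀ two_ne_zero, Polynomial.C_1]

theorem half_add (p : Polynomial K) : (Polynomial.C (2⁻¹ : K)) * (p + p) = p := by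
  rw [← two_mul, ← mul_assoc, half_two, one_mul]

theorem main (D : Derivation K (S K) (S K)) :
    (∀ r ∈ R K, D r ∈ R K) ↔
      (D (X 1) ∈ Ideal.span {(X 1 : S K)} ∧
        ∃ (s : S K) (p : Polynomial K), D (X 0) = X 1 * s + X 0 * Polynomial.aeval (X 0 ^ 2 : S K) p) := by
  constructor
  · intro h
    have hQ := h _ hy
    have hxyD := h _ hxy
    have hx2D := h _ hx2
    rw [Derivation.leibniz, smul_eq_mul, smul_eq_mul] at hxyD
    rw [pow_two, Derivation.leibniz, smul_eq_mul] at hx2D
    obtain ⟨g1, e1⟩ := lemA _ hQ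
    obtain ⟨g2, e2⟩ := lemA _ hxyD
    obtain ⟨g3, e3⟩ := lemA _ hx2D
    rw [map_add, map_mul, map_mul, ev0_X0, ev0_X1, zero_mul, add_zero, e1] at e2
    have hg1 := lemE g1 g2 e2
    rw [hg1, map_zero] at e1
    rw [map_add, map_mul, ev0_X0] at e3
    refine ⟨?_, ?_⟩
    · obtain ⟨hq, eq⟩ := lemB (D (X 1))
      rw [e1, map_zero, zero_add] at eq
      rw [Ideal.mem_span_singleton]
      exact ⟨hq, eq⟩
    · have e4 : Polynomial.X * ev0 K (D (X 0)) = Polynomial.expand K 2 (Polynomial.C (2⁻¹ : K) * g3) := by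
        rw [map_mul, Polynomial.expand_C, ← e3, half_add]
      obtain ⟨p, hp⟩ := lemF _ _ e4
      obtain ⟨s, es⟩ := lemB (D (X 0))
      refine ⟨s, p, ?_⟩
      rw [hp, map_mul, Polynomial.aeval_X, Polynomial.expand_aeval] at es
      rw [es]; ring
  · rintro ⟨hQ, s, p, hP⟩
    rw [Ideal.mem_span_singleton] at hQ
    obtain ⟨q, hq⟩ := hQ
    intro r hr
    induction hr using Algebra.adjoin_induction with
    | mem x hx =>
      simp only [Set.mem_insert_iff, Set.mem_singleton_iff] at hx
      rcases hx with rfl | rfl | rfl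
      · rw [pow_two, Derivation.leibniz, smul_eq_mul, hP]
        have : (X 0 : S K) * (X 1 * s + X 0 * Polynomial.aeval (X 0 ^ 2 : S K) p) +
            X 0 * (X 1 * s + X 0 * Polynomial.aeval (X 0 ^ 2 : S K) p) =
            (X 0 * X 1 * s + X 0 * X 1 * s) + (X 0 ^ 2 * Polynomial.aeval (X 0 ^ 2 : S K) p +
              X 0 ^ 2 * Polynomial.aeval (X 0 ^ 2 : S K) p) := by ring
        rw [this]
        exact (R K).add_mem ((R K).add_mem (lemC s).2 (lemC s).2)
          ((R K).add_mem ((R K).mul_mem hx2 (lemD p)) ((R K).mul_mem hx2 (lemD p)))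
      · rw [Derivation.leibniz, smul_eq_mul, smul_eq_mul, hq]
        have : (X 0 : S K) * (X 1 * q) + X 1 * D (X 0) = X 0 * X 1 * q + X 1 * D (X 0) := by ring
        rw [this]
        exact (R K).add_mem (lemC q).2 (lemC _).1
      · rw [hq]; exact (lemC q).1
    | algebraMap r =>
      rw [Derivation.map_algebraMap]; exact (R K).zero_mem
    | add x y hx hy ihx ihy =>
      rw [map_add]; exact (R K).add_mem ihx ihy
    | mul x y hx hy ihx ihy =>
      rw [Derivation.leibniz, smul_eq_mul, smul_eq_mul]
      exact (R K).add_mem ((R K).mul_mem hx ihy) ((R K).mul_mem hy ihx)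

end Groth.Agent.S18123aux

namespace Groth.Agent.S18123

/-- Let K be a field in which 2 ≠ 0, S = K[x, y], and R ⊆ S the K-subalgebra generated by x^2, x y, y,
the coordinate ring of the pinch point with normalization S, obtained by gluing the plane along the
line y = 0 via x ↦ -x. A K-derivation D of S maps R into R if and only if D(y) is a multiple of y
and D(x) = y s + x p(x^2) for some s in S and some polynomial p in one variable. Every K-derivation
R → S extends uniquely to S, and under this identification the derivations mapping R into R form the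
image of the tangent sheaf of the pinch point in that of its normalization; so this image contains y
times all derivations of S, and modulo those it is spanned by the odd multiples x^(2k+1) ∂/∂x, the
part of the tangent sheaf of the line y = 0 invariant under x ↦ -x. (The text works over an
algebraically closed field of characteristic different from 2; the computation uses only 2 ≠ 0.) -/
theorem result
    (K : Type u) [Field K] [NeZero (2 : K)]
    (D : Derivation K (MvPolynomial (Fin 2) K) (MvPolynomial (Fin 2) K)) :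
    letI x : MvPolynomial (Fin 2) K := MvPolynomial.X 0
    letI y : MvPolynomial (Fin 2) K := MvPolynomial.X 1
    letI R : Subalgebra K (MvPolynomial (Fin 2) K) := Algebra.adjoin K {x ^ 2, x * y, y}
    (∀ r ∈ R, D r ∈ R) ↔
      (D y ∈ Ideal.span {y} ∧
        ∃ (s : MvPolynomial (Fin 2) K) (p : Polynomial K), D x = y * s + x * Polynomial.aeval (x ^ 2) p) := by
  exact Groth.Agent.S18123aux.main D

end Groth.Agent.S18123
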