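import Groth.Statements.S18125
import Mathlib

set_option autoImplicit false
universe u
open Pinch

namespace Groth.Agent.S18125aux
open MvPolynomial


variable {K : Type*} [Field K] {σ : Type*}

/-- `f - aeval g f` lies in the ideal generated by the `X i - g i` -/
theorem sub_aeval_mem (g : σ → MvPolynomial σ K) (I : Ideal (MvPolynomial σ K))
    (hI : ∀ i, X i - g i ∈ I) (f : MvPolynomial σ K) : f - aeval g f ∈ I := by
  induction f using MvPolynomial.induction_on with
  | C a => simp
  | add p q hp hq =>
    rw [map_add]
    have : p + q - (aeval g p + aeval g q) = (p - aeval g p) + (q - aeval g q) := by ring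
    rw [this]; exact I.add_mem hp hq
  | mul_X p i hp =>
    rw [map_mul, aeval_X]
    have : p * X i - aeval g p * g i = (p - aeval g p) * X i + aeval g p * (X i - g i) := by ring
    rw [this]
    exact I.add_mem (I.mul_mem_right _ hp) (I.mul_mem_left _ (hI i))

theorem main [NeZero (2 : K)] (n : ℕ) (u v w : MvPolynomial (Fin (n + 3)) K)
    (hu : u = X 0) (hv : v = X 1) (hw : w = X 2) :
    Ideal.span {u, v} = Ideal.span {u ^ 2 - v ^ 2 * w, 2 * u, -(2 * v * w), -(v ^ 2)} ⊔ Ideal.span {v} ∧
    (Ideal.span {u ^ 2 - v ^ 2 * w, 2 * u, -(2 * v * w), -(v ^ 2)}).colon (Ideal.span {v}) =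
      Ideal.span {u, v, w} := by
  obtain ⟨Jac, hJac⟩ : ∃ J, J = Ideal.span {u ^ 2 - v ^ 2 * w, 2 * u, -(2 * v * w), -(v ^ 2)} := ⟨_, rfl⟩
  rw [← hJac]
  have h2 : (2 : K) ≠ 0 := NeZero.ne 2
  have huJ : u ∈ Jac := by
    have h : 2 * u ∈ Jac := by
      rw [hJac]; exact Ideal.subset_span (by simp)
    have : u = C (2⁻¹ : K) * (2 * u) := by
      have : (C (2⁻¹ : K) : MvPolynomial (Fin (n + 3)) K) * 2 = 1 := by
        rw [show (2 : MvPolynomial (Fin (n + 3)) K) = C 2 from (map_ofNat C 2).symm, ← C_mul, inv_mul_cancel₀ h2, C_1]
      rw [← mul_assoc, this, one_mul]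
    rw [this]; exact Jac.mul_mem_left _ h
  have hvvJ : v ^ 2 ∈ Jac := by
    have h : -(v ^ 2) ∈ Jac := by
      rw [hJac]; exact Ideal.subset_span (by simp)
    simpa using Jac.neg_mem h
  have hvwJ : v * w ∈ Jac := by
    have h : -(2 * v * w) ∈ Jac := by
      rw [hJac]; exact Ideal.subset_span (by simp)
    have h' : 2 * (v * w) ∈ Jac := by
      have := Jac.neg_mem h
      rw [neg_neg] at this
      rwa [mul_assoc] at this
    have : v * w = C (2⁻¹ : K) * (2 * (v * w)) := by
      have : (C (2⁻¹ : K) : MvPolynomial (Fin (n + 3)) K) * 2 = 1 := by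
        rw [show (2 : MvPolynomial (Fin (n + 3)) K) = C 2 from (map_ofNat C 2).symm, ← C_mul, inv_mul_cancel₀ h2, C_1]
      rw [← mul_assoc, this, one_mul]
    rw [this]; exact Jac.mul_mem_left _ h'
  have hJle : Jac ≤ Ideal.span {u, v} := by
    rw [hJac, Ideal.span_le]
    intro x hx
    simp only [Set.mem_insert_iff, Set.mem_singleton_iff] at hx
    have hu' : u ∈ Ideal.span {u, v} := Ideal.subset_span (by simp)
    have hv' : v ∈ Ideal.span {u, v} := Ideal.subset_span (by simp)
    rcases hx with rfl | rfl | rfl | rfl
    · have : u ^ 2 - v ^ 2 * w = u * u - (v * w) * v := by ring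
      rw [this]
      exact Ideal.sub_mem _ (Ideal.mul_mem_left _ _ hu') (Ideal.mul_mem_left _ _ hv')
    · exact Ideal.mul_mem_left _ _ hu'
    · have : -(2 * v * w) = (-(2 * w)) * v := by ring
      rw [this]; exact Ideal.mul_mem_left _ _ hv'
    · have : -(v ^ 2) = (-v) * v := by ring
      rw [this]; exact Ideal.mul_mem_left _ _ hv'
  refine ⟨?_, ?_⟩
  · apply le_antisymm
    · rw [Ideal.span_le]
      intro x hx
      simp only [Set.mem_insert_iff, Set.mem_singleton_iff] at hx
      rcases hx with rfl | rfl
      · exact Ideal.mem_sup_left huJ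
      · exact Ideal.mem_sup_right (Ideal.subset_span rfl)
    · exact sup_le hJle (Ideal.span_mono (by simp))
  · apply le_antisymm
    · intro f hf
      rw [Ideal.mem_colon_span_singleton] at hf
      let g : Fin (n + 3) → MvPolynomial (Fin (n + 3)) K := fun i => if i = 0 ∨ i = 2 then 0 else X i
      have hg0 : g 0 = 0 := by simp [g]
      have hg2 : g 2 = 0 := by simp [g]
      have hg1 : g 1 = X 1 := by
        have h10 : (1 : Fin (n + 3)) ≠ 0 := by simp
        have h12 : (1 : Fin (n + 3)) ≠ 2 := by
          intro h; have := congrArg Fin.val h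
          rw [Fin.val_one, Fin.val_two] at this
          omega
        simp [g, h10, h12]
      have hφJ : Jac ≤ (Ideal.span {v ^ 2}).comap (aeval g : MvPolynomial (Fin (n + 3)) K →ₐ[K] _) := by
        rw [hJac, Ideal.span_le]
        intro x hx
        simp only [Set.mem_insert_iff, Set.mem_singleton_iff] at hx
        rw [SetLike.mem_coe, Ideal.mem_comap]
        rcases hx with rfl | rfl | rfl | rfl
        · simp [hu, hv, hw, hg0, hg2]
        · simp [hu, hg0]
        · simp [hw, hg2]
        · simp only [map_neg, map_pow, hv, aeval_X, hg1]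
          exact neg_mem (Ideal.subset_span rfl)
      have h1 := hφJ hf
      rw [Ideal.mem_comap, map_mul, Ideal.mem_span_singleton] at h1
      obtain ⟨c, hc⟩ := h1
      have hφv : aeval g v = v := by rw [hv, aeval_X, hg1]
      rw [hφv] at hc
      have hvne : v ≠ 0 := by rw [hv]; exact X_ne_zero _
      have hφf : aeval g f = v * c := by
        have : v * aeval g f = v * (v * c) := by rw [mul_comm, hc]; ring
        exact mul_left_cancel₀ hvne this
      have hsub : f - aeval g f ∈ Ideal.span {u, v, w} := by
        apply sub_aeval_mem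
        intro i
        by_cases hi : i = 0 ∨ i = 2
        · rcases hi with rfl | rfl
          · rw [hg0, sub_zero, ← hu]; exact Ideal.subset_span (by simp)
          · rw [hg2, sub_zero, ← hw]; exact Ideal.subset_span (by simp)
        · simp [g, hi]
      have : f = (f - aeval g f) + v * c := by rw [← hφf]; ring
      rw [this]
      refine Ideal.add_mem _ hsub (Ideal.mul_mem_right _ _ (Ideal.subset_span (by simp)))
    · rw [Ideal.span_le]
      intro x hx
      simp only [Set.mem_insert_iff, Set.mem_singleton_iff] at hx
      rw [SetLike.mem_coe, Ideal.mem_colon_span_singleton]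
      rcases hx with rfl | rfl | rfl
      · exact Jac.mul_mem_right _ huJ
      · rw [← pow_two]; exact hvvJ
      · rw [mul_comm]; exact hvwJ


end Groth.Agent.S18125aux

open Groth.Agent.S18125aux

namespace Groth.Agent.S18125

/-- Let K be a field in which 2 ≠ 0, n ≥ 0, S = K[u, v, w, t_1, …, t_n] (u, v, w the first three
variables), h = u^2 - v^2 w the equation of the pinch-point model, and Jac the ideal generated by h
and its three partial derivatives 2u, -2vw, -v^2, which cuts out the scheme-theoretic singular locus
of {h = 0}. Then the ideal (u, v) of the double locus is Jac + (v), and the colon ideal of Jac by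
(v) is (u, v, w). Consequently (u, v)/Jac, the ideal of the double locus restricted to the singular
locus, is an invertible sheaf on the pinch locus u = v = w = 0: it is free of rank one over K[t_1,
…, t_n] on the class of v. (The text states this for every semi-smooth variety and reduces to this
model; K algebraically closed is not needed for the model computation.) -/
theorem result
    (K : Type u) [Field K] [NeZero (2 : K)] (n : ℕ) :
    letI u : MvPolynomial (Fin (n + 3)) K := MvPolynomial.X 0
    letI v : MvPolynomial (Fin (n + 3)) K := MvPolynomial.X 1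
    letI w : MvPolynomial (Fin (n + 3)) K := MvPolynomial.X 2
    letI Jac : Ideal (MvPolynomial (Fin (n + 3)) K) :=
      Ideal.span {u ^ 2 - v ^ 2 * w, 2 * u, -(2 * v * w), -(v ^ 2)}
    Ideal.span {u, v} = Jac ⊔ Ideal.span {v} ∧ Jac.colon (Ideal.span {v}) = Ideal.span {u, v, w} := by
  exact main n _ _ _ rfl rfl rfl

end Groth.Agent.S18125
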