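import Groth.Statements.S18127
import Mathlib

set_option autoImplicit false
universe u
open LocAlg

namespace Groth.Agent.S18127

/-- Let R be a local ring with maximal ideal m and algebraically closed residue field, and M an n × n
matrix over R whose reduction modulo m has rank at most r. Then the determinant of M lies in m^(n −
r). (The published setting is the local ring of germs of holomorphic functions at a point of a
complex manifold, where this says that the determinant vanishes to order at least n − r at a point
where the matrix has rank at most r.) -/
theorem result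
    {R : Type u} [CommRing R] [IsLocalRing R] [IsAlgClosed (IsLocalRing.ResidueField R)]
    {n : ℕ} (M : Matrix (Fin n) (Fin n) R) (r : ℕ)
    (hr : (M.map (IsLocalRing.residue R)).rank ≤ r) :
    M.det ∈ IsLocalRing.maximalIdeal R ^ (n - r) := by
  classical
  set res := IsLocalRing.residue R with hres
  have hsurj : Function.Surjective res := IsLocalRing.residue_surjective
  obtain ⟨L, L', D, hD⟩ :=
    Matrix.Pivot.exists_list_transvec_mul_mul_list_transvec_eq_diagonal (M.map res)
  -- lifting transvection structs
  let lift : Matrix.TransvectionStruct (Fin n) (IsLocalRing.ResidueField R) →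
      Matrix.TransvectionStruct (Fin n) R := fun t =>
    ⟨t.i, t.j, t.hij, (hsurj t.c).choose⟩
  have hlift : ∀ t, (lift t).toMatrix.map res = t.toMatrix := by
    intro t
    have hc : res (hsurj t.c).choose = t.c := (hsurj t.c).choose_spec
    ext a b
    simp only [Matrix.TransvectionStruct.toMatrix, Matrix.transvection, Matrix.map_apply, lift, Matrix.add_apply,
      map_add, Matrix.one_apply, Matrix.single_apply]
    split_ifs <;> simp [hc]
  have hprod : ∀ L : List (Matrix.TransvectionStruct (Fin n) (IsLocalRing.ResidueField R)),
      ((L.map lift).map Matrix.TransvectionStruct.toMatrix).prod.map res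
        = (L.map Matrix.TransvectionStruct.toMatrix).prod := by
    intro L
    induction L with
    | nil => simp [Matrix.map_one]
    | cons t L ih =>
      simp only [List.map_cons, List.prod_cons]
      rw [Matrix.map_mul, ih, hlift]
  set P := ((L.map lift).map Matrix.TransvectionStruct.toMatrix).prod with hP
  set Q := ((L'.map lift).map Matrix.TransvectionStruct.toMatrix).prod with hQ
  set A := P * M * Q with hA
  have hAres : A.map res = Matrix.diagonal D := by
    rw [hA, Matrix.map_mul, Matrix.map_mul, hprod, hprod, hD]
  have hdetA : A.det = M.det := by
    rw [hA, Matrix.det_mul, Matrix.det_mul, hP, hQ, Matrix.TransvectionStruct.det_toMatrix_prod,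
      Matrix.TransvectionStruct.det_toMatrix_prod, one_mul, mul_one]
  -- rank
  have hrank : (Matrix.diagonal D).rank = (M.map res).rank := by
    rw [← hD]
    rw [Matrix.rank_mul_eq_left_of_isUnit_det, Matrix.rank_mul_eq_right_of_isUnit_det]
    · rw [Matrix.TransvectionStruct.det_toMatrix_prod]; exact isUnit_one
    · rw [Matrix.TransvectionStruct.det_toMatrix_prod]; exact isUnit_one
  rw [Matrix.rank_diagonal] at hrank
  set Z : Finset (Fin n) := Finset.univ.filter (fun i => D i = 0) with hZ
  have hZcard : n - r ≤ Z.card := by
    have h1 : Fintype.card {i // D i ≠ 0} = (Finset.univ.filter (fun i => D i ≠ 0)).card := by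
      rw [Fintype.card_subtype]
    have h2 : (Finset.univ.filter (fun i => D i ≠ 0)).card + Z.card = n := by
      have := Finset.card_filter_add_card_filter_not (s := (Finset.univ : Finset (Fin n)))
        (fun i => D i ≠ 0)
      simp only [not_not, Finset.card_univ, Fintype.card_fin] at this
      exact this
    omega
  have hentry : ∀ i ∈ Z, ∀ j, A i j ∈ IsLocalRing.maximalIdeal R := by
    intro i hi j
    have hDi : D i = 0 := (Finset.mem_filter.mp hi).2
    have := congrFun (congrFun hAres i) j
    rw [Matrix.map_apply, Matrix.diagonal_apply] at this
    have h0 : res (A i j) = 0 := by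
      rw [this]; split_ifs <;> simp [hDi]
    rwa [hres, IsLocalRing.residue_eq_zero_iff] at h0
  rw [← hdetA, ← Matrix.det_transpose, Matrix.det_apply]
  refine Ideal.sum_mem _ fun σ _ => ?_
  have hmem : ∏ i, (Matrix.transpose A) (σ i) i ∈ IsLocalRing.maximalIdeal R ^ (n - r) := by
    refine Ideal.pow_le_pow_right hZcard ?_
    rw [← Finset.prod_mul_prod_compl Z]
    refine Ideal.mul_mem_right _ _ ?_
    rw [← Finset.prod_const]
    exact Ideal.prod_mem_prod fun i hi => hentry i hi (σ i)
  rcases Int.units_eq_one_or (Equiv.Perm.sign σ) with h | h
  · rw [h, one_smul]; exact hmem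
  · rw [h, Units.neg_smul, one_smul]; exact neg_mem hmem

end Groth.Agent.S18127
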