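import Groth.Statements.S18136
import Mathlib

set_option autoImplicit false
universe u v
open IsLocalRing
open CAlg

namespace Groth.Agent.S18136

/-- Let A be a regular local ring with maximal ideal m and residue field k, written as a directed
colimit of regular local rings A_j with local transition maps (compatible maps ψ_j : A_j → A that
are jointly surjective, an element dying in A dying at some later stage). Let f_1, …, f_c, g_1, …,
g_d ∈ m have linearly independent classes in m/m^2 over k, and put I = (f_1, …, f_c) ⊆ I' = (f_1, …,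
f_c, g_1, …, g_d) (so I is generated by part of a regular system of parameters of A and I'/I by part
of a regular system of parameters of A/I; for a regular local ring the condition on I ⊆ I' is stated
through such a joint family). Then there are an index j_0 and ideals I_j ⊆ I'_j ⊆ A_j for j ≥ j_0
such that: each I_j is generated by c elements and I'_j by these together with d further elements of
the maximal ideal m_j, the c + d classes in m_j/m_j^2 being linearly independent over the residue
field of A_j; the transition maps carry I_i, I'_i onto generators of I_j, I'_j for j_0 ≤ i ≤ j; and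
I_j, I'_j generate I, I' in A. -/
theorem result
    {A : Type u} [CommRing A] [IsRegularLocalRing A]
    {ι : Type v} [Preorder ι] [Nonempty ι] [IsDirected ι (· ≤ ·)]
    (B : ι → Type u) [∀ j, CommRing (B j)] [∀ j, IsRegularLocalRing (B j)]
    (φ : ∀ i j, i ≤ j → (B i →+* B j)) (hφloc : ∀ i j (h : i ≤ j), IsLocalHom (φ i j h))
    (hφ : ∀ i j l (hij : i ≤ j) (hjl : j ≤ l), (φ j l hjl).comp (φ i j hij) = φ i l (hij.trans hjl))
    (ψ : ∀ j, B j →+* A) (hψ : ∀ i j (h : i ≤ j), (ψ j).comp (φ i j h) = ψ i)
    (hsurj : ∀ a : A, ∃ j, ∃ x : B j, ψ j x = a)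
    (hker : ∀ j (x : B j), ψ j x = 0 → ∃ l, ∃ h : j ≤ l, φ j l h x = 0)
    (c d : ℕ) (f : Fin c → maximalIdeal A) (g : Fin d → maximalIdeal A)
    (hind : LinearIndependent (ResidueField A) (⇑(maximalIdeal A).toCotangent ∘ Sum.elim f g)) :
    ∃ j₀ : ι, ∃ (P : ∀ j, j₀ ≤ j → Ideal (B j)) (Q : ∀ j, j₀ ≤ j → Ideal (B j)),
      (∀ j (hj : j₀ ≤ j), ∃ (F : Fin c → maximalIdeal (B j)) (E : Fin d → maximalIdeal (B j)),
        LinearIndependent (ResidueField (B j)) (⇑(maximalIdeal (B j)).toCotangent ∘ Sum.elim F E) ∧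
        P j hj = Ideal.span (Set.range (fun s => (F s : B j))) ∧
        Q j hj = P j hj ⊔ Ideal.span (Set.range (fun t => (E t : B j)))) ∧
      (∀ i j (hi : j₀ ≤ i) (hij : i ≤ j),
        (P i hi).map (φ i j hij) = P j (le_trans hi hij) ∧ (Q i hi).map (φ i j hij) = Q j (le_trans hi hij)) ∧
      (∀ j (hj : j₀ ≤ j),
        (P j hj).map (ψ j) = Ideal.span (Set.range (fun s => (f s : A))) ∧
        (Q j hj).map (ψ j) = Ideal.span (Set.range (fun s => (f s : A))) ⊔ Ideal.span (Set.range (fun t => (g t : A)))) := by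
  classical
  have hψ' : ∀ i j (h : i ≤ j) (x : B i), ψ j (φ i j h x) = ψ i x := fun i j h x => by
    rw [← hψ i j h]; rfl
  have hφ' : ∀ i j l (hij : i ≤ j) (hjl : j ≤ l) (x : B i),
      φ j l hjl (φ i j hij x) = φ i l (hij.trans hjl) x :=
    fun i j l hij hjl x => by rw [← hφ i j l hij hjl]; rfl
  have hloc : ∀ j (x : B j), IsUnit (ψ j x) → IsUnit x := by
    intro j x hx
    obtain ⟨y, hy⟩ := hx.exists_right_inv
    obtain ⟨l, y', rfl⟩ := hsurj y
    obtain ⟨m, hjm, hlm⟩ := exists_ge_ge j l
    have h0 : ψ m (φ j m hjm x * φ l m hlm y' - 1) = 0 := by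
      rw [map_sub, map_mul, hψ', hψ', hy, map_one, sub_self]
    obtain ⟨n, hmn, hn⟩ := hker m _ h0
    rw [map_sub, map_mul, map_one, hφ', hφ', sub_eq_zero] at hn
    have : IsUnit (φ j n (hjm.trans hmn) x) := IsUnit.of_mul_eq_one _ hn
    exact (hφloc j n _).map_nonunit x this
  have hmem : ∀ j (x : B j), ψ j x ∈ maximalIdeal A ↔ x ∈ maximalIdeal (B j) := by
    intro j x
    rw [mem_maximalIdeal, mem_maximalIdeal, mem_nonunits_iff, mem_nonunits_iff, not_iff_not]
    exact ⟨hloc j x, fun h => h.map (ψ j)⟩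
  -- lift the finite family
  have hlift : ∀ s : Fin c ⊕ Fin d, ∃ j, ∃ x : B j, ψ j x = ((Sum.elim f g s : maximalIdeal A) : A) :=
    fun s => hsurj _
  choose jf xf hxf using hlift
  obtain ⟨j₀, hj₀⟩ := Finset.exists_le (Finset.univ.image jf)
  have hj₀' : ∀ s, jf s ≤ j₀ := fun s => hj₀ _ (Finset.mem_image_of_mem _ (Finset.mem_univ s))
  let H0 : Fin c ⊕ Fin d → B j₀ := fun s => φ (jf s) j₀ (hj₀' s) (xf s)
  have hH0 : ∀ s, ψ j₀ (H0 s) = ((Sum.elim f g s : maximalIdeal A) : A) := fun s => by
    simp only [H0]; rw [hψ', hxf]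
  let Hj : ∀ j, j₀ ≤ j → Fin c ⊕ Fin d → B j := fun j hj s => φ j₀ j hj (H0 s)
  have hHj : ∀ j hj s, ψ j (Hj j hj s) = ((Sum.elim f g s : maximalIdeal A) : A) := fun j hj s => by
    simp only [Hj]; rw [hψ', hH0]
  have hHjm : ∀ j hj s, Hj j hj s ∈ maximalIdeal (B j) := fun j hj s => by
    rw [← hmem, hHj]; exact (Sum.elim f g s).2
  have hHjφ : ∀ i j (hi : j₀ ≤ i) (hij : i ≤ j) s, φ i j hij (Hj i hi s) = Hj j (hi.trans hij) s :=
    fun i j hi hij s => by simp only [Hj]; rw [hφ']
  refine ⟨j₀, fun j hj => Ideal.span (Set.range fun s : Fin c => Hj j hj (Sum.inl s)),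
    fun j hj => Ideal.span (Set.range fun s : Fin c => Hj j hj (Sum.inl s)) ⊔
      Ideal.span (Set.range fun t : Fin d => Hj j hj (Sum.inr t)), ?_, ?_, ?_⟩
  · intro j hj
    refine ⟨fun s => ⟨Hj j hj (Sum.inl s), hHjm j hj _⟩, fun t => ⟨Hj j hj (Sum.inr t), hHjm j hj _⟩,
      ?_, rfl, rfl⟩
    rw [Fintype.linearIndependent_iff]
    intro γ hγ
    have hres : ∀ s, ∃ r : B j, residue (B j) r = γ s := fun s => residue_surjective _
    choose γt hγt using hres
    -- the element of m_j
    have hG : ∀ s, ((Sum.elim (fun s => (⟨Hj j hj (Sum.inl s), hHjm j hj _⟩ : maximalIdeal (B j)))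
        (fun t => (⟨Hj j hj (Sum.inr t), hHjm j hj _⟩ : maximalIdeal (B j))) s : maximalIdeal (B j)) : B j)
        = Hj j hj s := by
      intro s; cases s <;> rfl
    have hsum : (maximalIdeal (B j)).toCotangent (∑ s, γt s •
        (Sum.elim (fun s => (⟨Hj j hj (Sum.inl s), hHjm j hj _⟩ : maximalIdeal (B j)))
        (fun t => (⟨Hj j hj (Sum.inr t), hHjm j hj _⟩ : maximalIdeal (B j))) s)) = 0 := by
      rw [map_sum, ← hγ]
      refine Finset.sum_congr rfl fun s _ => ?_
      rw [map_smul, ← hγt s]
      rfl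
    rw [Ideal.toCotangent_eq_zero] at hsum
    have hz : ∑ s, γt s * Hj j hj s ∈ maximalIdeal (B j) ^ 2 := by
      convert hsum using 1
      simp only [Submodule.coe_sum, Submodule.coe_smul, smul_eq_mul, hG]
    have hz' : ∑ s, ψ j (γt s) * ((Sum.elim f g s : maximalIdeal A) : A) ∈ maximalIdeal A ^ 2 := by
      have h1 := Ideal.mem_map_of_mem (ψ j) hz
      rw [Ideal.map_pow] at h1
      have h2 : (maximalIdeal (B j)).map (ψ j) ≤ maximalIdeal A := by
        rw [Ideal.map_le_iff_le_comap]
        intro x hx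
        exact (hmem j x).mpr hx
      have h3 := Ideal.pow_right_mono h2 2 h1
      simpa only [map_sum, map_mul, hHj] using h3
    have hcot : ∑ s, residue A (ψ j (γt s)) • ((maximalIdeal A).toCotangent ∘ Sum.elim f g) s = 0 := by
      have : (maximalIdeal A).toCotangent (∑ s, ψ j (γt s) • Sum.elim f g s) = 0 := by
        rw [Ideal.toCotangent_eq_zero]
        convert hz' using 1
        simp only [Submodule.coe_sum, Submodule.coe_smul, smul_eq_mul]
      rw [map_sum] at this
      rw [← this]
      refine Finset.sum_congr rfl fun s _ => ?_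
      rw [map_smul]
      rfl
    have hzero := Fintype.linearIndependent_iff.mp hind _ hcot
    intro s
    have h1 := hzero s
    rw [residue_eq_zero_iff, hmem] at h1
    rw [← hγt s, residue_eq_zero_iff]
    exact h1
  · intro i j hi hij
    have hP : (Ideal.span (Set.range fun s : Fin c => Hj i hi (Sum.inl s))).map (φ i j hij)
        = Ideal.span (Set.range fun s : Fin c => Hj j (le_trans hi hij) (Sum.inl s)) := by
      rw [Ideal.map_span, ← Set.range_comp]
      congr 2
      funext s
      exact hHjφ i j hi hij _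
    have hE : (Ideal.span (Set.range fun s : Fin d => Hj i hi (Sum.inr s))).map (φ i j hij)
        = Ideal.span (Set.range fun s : Fin d => Hj j (le_trans hi hij) (Sum.inr s)) := by
      rw [Ideal.map_span, ← Set.range_comp]
      congr 2
      funext s
      exact hHjφ i j hi hij _
    exact ⟨hP, by rw [Ideal.map_sup, hP, hE]⟩
  · intro j hj
    have hP : (Ideal.span (Set.range fun s : Fin c => Hj j hj (Sum.inl s))).map (ψ j)
        = Ideal.span (Set.range fun s : Fin c => (f s : A)) := by
      rw [Ideal.map_span, ← Set.range_comp]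
      congr 2
      funext s
      exact hHj j hj _
    have hE : (Ideal.span (Set.range fun s : Fin d => Hj j hj (Sum.inr s))).map (ψ j)
        = Ideal.span (Set.range fun s : Fin d => (g s : A)) := by
      rw [Ideal.map_span, ← Set.range_comp]
      congr 2
      funext s
      exact hHj j hj _
    exact ⟨hP, by rw [Ideal.map_sup, hP, hE]⟩

end Groth.Agent.S18136
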