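import Groth.Statements.S18153
import Mathlib

set_option autoImplicit false
universe u w
open FrobAlg

namespace Groth.Agent.S18153

theorem det_eq_zero_of_col_sum {m : ℕ} (hm : 0 < m) {R : Type*} [CommRing R]
    (N : Matrix (Fin m) (Fin m) R) (h : ∀ j, ∑ i, N i j = 0) : N.det = 0 := by
  have h1 := Matrix.det_updateRow_sum N ⟨0, hm⟩ (fun _ => (1 : R))
  rw [one_smul] at h1
  rw [← h1]
  apply Matrix.det_eq_zero_of_row_eq_zero ⟨0, hm⟩
  intro j
  simp [Matrix.updateRow_self, Finset.sum_apply, h j]

theorem prod_monomial' {τ R : Type*} [CommSemiring R] {ι : Type*} (s : Finset ι)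
    (a : ι → τ →₀ ℕ) (c : ι → R) :
    ∏ i ∈ s, MvPolynomial.monomial (a i) (c i) =
      MvPolynomial.monomial (∑ i ∈ s, a i) (∏ i ∈ s, c i) := by
  classical
  induction s using Finset.induction_on with
  | empty => simp
  | insert i s hi ih =>
    rw [Finset.prod_insert hi, Finset.sum_insert hi, Finset.prod_insert hi, ih,
      MvPolynomial.monomial_mul]

theorem key_monomial (p : ℕ) [Fact p.Prime] (R : Type u) [CommRing R] [CharP R p]
    {m : ℕ} (hm : 0 < m) (σ : Type w) (v : Fin m → (Fin m ⊕ σ →₀ ℕ)) :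
    MvPolynomial.coeff
        (Finsupp.sumElim (Finsupp.equivFunOnFinite.symm fun _ : Fin m => p - 1) (0 : σ →₀ ℕ))
        (Matrix.of fun i j : Fin m => MvPolynomial.pderiv (Sum.inl j)
          (MvPolynomial.monomial (v i) (1 : R))).det = 0 := by
  classical
  set μ : Fin m ⊕ σ →₀ ℕ :=
    Finsupp.sumElim (Finsupp.equivFunOnFinite.symm fun _ : Fin m => p - 1) (0 : σ →₀ ℕ) with hμ
  set e : Fin m ⊕ σ →₀ ℕ := ∑ i : Fin m, Finsupp.single (Sum.inl i) 1 with he
  have hterm : ∀ π : Equiv.Perm (Fin m),
      MvPolynomial.coeff μ (∏ i, MvPolynomial.monomial (v (π i) - Finsupp.single (Sum.inl i) 1)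
        (((v (π i) (Sum.inl i) : ℕ) : R))) =
      if ∑ i, v i = μ + e then ∏ i, (((v (π i) (Sum.inl i) : ℕ) : R)) else 0 := by
    intro π
    rw [prod_monomial', MvPolynomial.coeff_monomial]
    by_cases hA : ∃ i, v (π i) (Sum.inl i) = 0
    · obtain ⟨i, hi⟩ := hA
      have : ∏ i, (((v (π i) (Sum.inl i) : ℕ) : R)) = 0 :=
        Finset.prod_eq_zero (Finset.mem_univ i) (by rw [hi, Nat.cast_zero])
      rw [this]
      simp
    · push_neg at hA
      have hle : ∀ i, Finsupp.single (Sum.inl i) 1 ≤ v (π i) := by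
        intro i
        rw [Finsupp.single_le_iff]
        exact Nat.one_le_iff_ne_zero.mpr (hA i)
      have hsum : ∑ i, (v (π i) - Finsupp.single (Sum.inl i) 1) + e = ∑ i, v i := by
        rw [he, ← Finset.sum_add_distrib, ← Equiv.sum_comp π v]
        exact Finset.sum_congr rfl fun i _ => tsub_add_cancel_of_le (hle i)
      have hiff : (∑ i, (v (π i) - Finsupp.single (Sum.inl i) 1) = μ) ↔ (∑ i, v i = μ + e) := by
        rw [← hsum]
        exact (add_left_injective e).eq_iff.symm
      simp only [hiff]
  rw [Matrix.det_apply', MvPolynomial.coeff_sum]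
  simp only [Matrix.of_apply, MvPolynomial.pderiv_monomial, one_mul]
  have hterm' : ∀ π : Equiv.Perm (Fin m),
      MvPolynomial.coeff μ ((((Equiv.Perm.sign π : ℤˣ) : ℤ) : MvPolynomial (Fin m ⊕ σ) R) *
        ∏ i, MvPolynomial.monomial (v (π i) - Finsupp.single (Sum.inl i) 1)
        (((v (π i) (Sum.inl i) : ℕ) : R))) =
      if ∑ i, v i = μ + e then
        (((Equiv.Perm.sign π : ℤˣ) : ℤ) : R) * ∏ i, (((v (π i) (Sum.inl i) : ℕ) : R)) else 0 := by
    intro π
    have : ((((Equiv.Perm.sign π : ℤˣ) : ℤ) : MvPolynomial (Fin m ⊕ σ) R)) =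
        MvPolynomial.C ((((Equiv.Perm.sign π : ℤˣ) : ℤ) : R)) := by simp
    rw [this, MvPolynomial.coeff_C_mul, hterm π]
    split_ifs <;> simp
  rw [Finset.sum_congr rfl (fun π _ => hterm' π)]
  by_cases cond : ∑ i, v i = μ + e
  · simp only [if_pos cond]
    have hdet := Matrix.det_apply' (Matrix.of fun i j : Fin m => (((v i (Sum.inl j) : ℕ) : R)))
    simp only [Matrix.of_apply] at hdet
    rw [← hdet]
    apply det_eq_zero_of_col_sum hm
    intro j
    simp only [Matrix.of_apply]
    rw [← Nat.cast_sum]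
    have h1 : ∑ i, v i (Sum.inl j) = (∑ i, v i) (Sum.inl j) := by
      rw [Finsupp.finsetSum_apply]
    have h2 : (μ + e) (Sum.inl j) = p := by
      rw [Finsupp.add_apply, hμ, Finsupp.sumElim_inl, he, Finsupp.finsetSum_apply]
      have hpp : (Finsupp.equivFunOnFinite.symm fun _ : Fin m => p - 1) j = p - 1 := rfl
      rw [hpp]
      rw [Finset.sum_eq_single j]
      · rw [Finsupp.single_eq_same]
        have := (Fact.out : p.Prime).one_lt
        omega
      · intro b _ hb
        rw [Finsupp.single_apply, if_neg]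
        intro h
        exact hb (Sum.inl_injective h)
      · intro h; exact absurd (Finset.mem_univ j) h
    rw [h1, cond, h2]
    exact CharP.cast_eq_zero R p
  · simp only [if_neg cond, Finset.sum_const_zero]

/-- Let R be a commutative ring of prime characteristic p and f_1, …, f_m (m ≥ 1) polynomials over R in
the variables t_1, …, t_m and a further, possibly empty, family of variables s_a. Then in the m × m
Jacobian determinant det(∂f_i/∂t_j) with respect to the t-variables, the coefficient of the monomial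
t_1^{p-1} ⋯ t_m^{p-1} (all s-exponents zero) vanishes. (In the source this is the claim, for formal
power series in n ≥ m variables over the base field, to which the proof of the proposition reduces;
the coefficient in question only involves truncations of the f_i, so the polynomial form over any
ring of characteristic p is the same assertion.) -/
theorem result
    (p : ℕ) [Fact p.Prime] (R : Type u) [CommRing R] [CharP R p]
    {m : ℕ} (hm : 0 < m) (σ : Type w) (f : Fin m → MvPolynomial (Fin m ⊕ σ) R) :
    MvPolynomial.coeff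
        (Finsupp.sumElim (Finsupp.equivFunOnFinite.symm fun _ : Fin m => p - 1) (0 : σ →₀ ℕ))
        (Matrix.of fun i j : Fin m => MvPolynomial.pderiv (Sum.inl j) (f i)).det = 0 := by
  classical
  let S := MvPolynomial (Fin m ⊕ σ) R
  let μ : Fin m ⊕ σ →₀ ℕ :=
    Finsupp.sumElim (Finsupp.equivFunOnFinite.symm fun _ : Fin m => p - 1) (0 : σ →₀ ℕ)
  let L : MvPolynomial (Fin m ⊕ σ) R →ₗ[R] (Fin m → MvPolynomial (Fin m ⊕ σ) R) :=
    LinearMap.pi (fun j => (MvPolynomial.pderiv (R := R) (σ := Fin m ⊕ σ) (Sum.inl j)).toLinearMap)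
  let Φ : MultilinearMap R (fun _ : Fin m => MvPolynomial (Fin m ⊕ σ) R) R :=
    (MvPolynomial.lcoeff R μ).compMultilinearMap
      (((Matrix.detRowAlternating (n := Fin m)
        (R := MvPolynomial (Fin m ⊕ σ) R)).toMultilinearMap.restrictScalars R).compLinearMap
          (fun _ => L))
  have hΦ : ∀ g : Fin m → MvPolynomial (Fin m ⊕ σ) R, Φ g = MvPolynomial.coeff μ
      (Matrix.of fun i j : Fin m => MvPolynomial.pderiv (Sum.inl j) (g i)).det := fun g => rfl
  have hzero : Φ = 0 := by
    refine Module.Basis.ext_multilinear (fun _ => MvPolynomial.basisMonomials (Fin m ⊕ σ) R) ?_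
    intro v
    rw [hΦ]
    simp only [MvPolynomial.coe_basisMonomials]
    exact key_monomial p R hm σ v
  have := hΦ f
  rw [hzero] at this
  exact this.symm

end Groth.Agent.S18153
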