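import Groth.Statements.S18154
import Mathlib

set_option autoImplicit false
universe u v
open FrobAlg

namespace Groth.Agent.S18154

open TensorProduct

section Pow
variable {k A : Type*} [CommRing k] [CommRing A] [Algebra k A]

/-- In characteristic `p`, the `p`-th power of a derivation satisfies the Leibniz rule. -/
theorem pow_p_leibniz (p : ℕ) [hp : Fact p.Prime] (hpk : (p : k) = 0) (δ : Derivation k A A) (a b : A) :
    ((δ : A →ₗ[k] A) ^ p) (a * b) = a * ((δ : A →ₗ[k] A) ^ p) b + b * ((δ : A →ₗ[k] A) ^ p) a := by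
  set f : A →ₗ[k] A := (δ : A →ₗ[k] A) with hf
  let X : Module.End k (A ⊗[k] A) := f.rTensor A
  let Y : Module.End k (A ⊗[k] A) := f.lTensor A
  let μ : A ⊗[k] A →ₗ[k] A := LinearMap.mul' k A
  have hXY : Commute X Y := by
    change X * Y = Y * X
    rw [Module.End.mul_eq_comp, Module.End.mul_eq_comp, LinearMap.rTensor_comp_lTensor,
      LinearMap.lTensor_comp_rTensor]
  have hμ : μ ∘ₗ (X + Y) = f ∘ₗ μ := by
    apply TensorProduct.ext'
    intro x y
    simp [X, Y, μ, f, mul_comm]
    ring
  have hμn : ∀ n : ℕ, μ ∘ₗ (X + Y) ^ n = (f ^ n) ∘ₗ μ := by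
    intro n
    induction n with
    | zero => simp [Module.End.one_eq_id]
    | succ n ih =>
      rw [pow_succ, Module.End.mul_eq_comp, ← LinearMap.comp_assoc, ih, LinearMap.comp_assoc, hμ,
        ← LinearMap.comp_assoc, pow_succ, Module.End.mul_eq_comp]
  have hp0 : ((p : ℕ) : Module.End k (A ⊗[k] A)) = 0 := by
    have : ((p : ℕ) : Module.End k (A ⊗[k] A)) = algebraMap k _ (p : k) := by
      rw [map_natCast]
    rw [this, hpk, map_zero]
  have hadd : (X + Y) ^ p = X ^ p + Y ^ p := by
    rw [hXY.add_pow_prime_eq hp.out, hp0]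
    simp
  have := LinearMap.congr_fun (hμn p) (a ⊗ₜ b)
  rw [hadd] at this
  simp only [LinearMap.comp_apply, LinearMap.add_apply, X, Y, LinearMap.rTensor_pow,
    LinearMap.lTensor_pow, LinearMap.rTensor_tmul, LinearMap.lTensor_tmul, μ,
    LinearMap.mul'_apply, map_add] at this
  rw [← this]
  ring

end Pow
section Det
variable {k A : Type*} [CommRing k] [CommRing A] [Algebra k A] {ι : Type*} [Fintype ι]
  [DecidableEq ι]
variable (d : ι → Derivation k A A)

/-- a row `ω` (a 1-form in coordinates) is closed. -/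
def Closed (ω : ι → A) : Prop := ∀ j l, d j (ω l) = d l (ω j)

omit [Fintype ι] in
theorem leibniz_prod (D : Derivation k A A) (s : Finset ι) (f : ι → A) :
    D (∏ i ∈ s, f i) = ∑ i ∈ s, (∏ j ∈ s.erase i, f j) * D (f i) := by
  induction s using Finset.induction_on with
  | empty => simp
  | insert a s ha ih =>
    rw [Finset.prod_insert ha, Derivation.leibniz, ih, Finset.sum_insert ha, Finset.erase_insert ha]
    simp only [smul_eq_mul]
    rw [Finset.mul_sum, add_comm]
    congr 1
    apply Finset.sum_congr rfl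
    intro i hi
    have : (insert a s).erase i = insert a (s.erase i) := by
      rw [Finset.erase_insert_of_ne]; rintro rfl; exact ha hi
    rw [this, Finset.prod_insert (by simp [ha])]
    ring

theorem piola (M : ι → ι → A) (i0 : ι) (hM : ∀ i, i ≠ i0 → Closed d (M i)) :
    ∑ σ : Equiv.Perm ι,
      Equiv.Perm.sign σ • d (σ i0) (∏ i ∈ Finset.univ.erase i0, M i (σ i)) = 0 := by
  simp_rw [leibniz_prod, Finset.smul_sum]
  rw [Finset.sum_comm]
  apply Finset.sum_eq_zero
  intro i' hi'
  have hne : i' ≠ i0 := Finset.ne_of_mem_erase hi'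
  apply Finset.sum_involution (fun σ _ => σ * Equiv.swap i0 i')
  · intro σ _
    have h1 : (σ * Equiv.swap i0 i') i0 = σ i' := by simp
    have h2 : (σ * Equiv.swap i0 i') i' = σ i0 := by simp
    have h3 : ∀ i ∈ (Finset.univ.erase i0).erase i', M i ((σ * Equiv.swap i0 i') i) = M i (σ i) := by
      intro i hi
      simp only [Finset.mem_erase] at hi
      simp [Equiv.swap_apply_of_ne_of_ne hi.2.1 hi.1]
    rw [Equiv.Perm.sign_mul, Equiv.Perm.sign_swap hne.symm, h1, h2, Finset.prod_congr rfl h3,
      hM i' hne (σ i') (σ i0)]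
    simp
  · intro σ _ _ h
    have : Equiv.swap i0 i' = 1 := by simpa using h
    exact hne.symm (Equiv.swap_eq_one_iff.mp this)
  · intro σ _; exact Finset.mem_univ _
  · intro σ _; simp [mul_assoc]

theorem lam_det_exact_row (Λ : A →+ A) (hΛ : ∀ j a, Λ (d j a) = 0) (M : ι → ι → A) (i0 : ι)
    (g : A) (h0 : ∀ j, M i0 j = d j g) (hM : ∀ i, i ≠ i0 → Closed d (M i)) :
    Λ (Matrix.of M).det = 0 := by
  rw [← Matrix.det_transpose, Matrix.det_apply]
  simp only [Matrix.transpose_apply, Matrix.of_apply]
  have key : ∀ σ : Equiv.Perm ι, ∏ i, M i (σ i) =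
      d (σ i0) (g * ∏ i ∈ Finset.univ.erase i0, M i (σ i)) -
        g * d (σ i0) (∏ i ∈ Finset.univ.erase i0, M i (σ i)) := by
    intro σ
    rw [← Finset.mul_prod_erase Finset.univ _ (Finset.mem_univ i0), h0, Derivation.leibniz]
    simp only [smul_eq_mul]; ring
  have hu : ∀ (u : ℤˣ) (x : A), Λ (u • x) = u • Λ x := by
    intro u x
    rw [Units.smul_def, Units.smul_def, map_zsmul]
  have e : ∑ σ : Equiv.Perm ι, Equiv.Perm.sign σ • ∏ i, M i (σ i) =
      (∑ σ : Equiv.Perm ι, Equiv.Perm.sign σ •
        d (σ i0) (g * ∏ i ∈ Finset.univ.erase i0, M i (σ i))) -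
      g * ∑ σ : Equiv.Perm ι, Equiv.Perm.sign σ •
        d (σ i0) (∏ i ∈ Finset.univ.erase i0, M i (σ i)) := by
    simp_rw [key, smul_sub, Finset.sum_sub_distrib, Finset.mul_sum, mul_smul_comm]
  rw [e, piola d M i0 hM, mul_zero, sub_zero, map_sum]
  apply Finset.sum_eq_zero
  intro σ _
  rw [hu, hΛ, smul_zero]

omit [Fintype ι] [DecidableEq ι] in
theorem closed_add {ω η : ι → A} (h1 : Closed d ω) (h2 : Closed d η) : Closed d (ω + η) := by
  intro j l
  simp only [Pi.add_apply, map_add, h1 j l, h2 j l]

omit [Fintype ι] [DecidableEq ι] in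
theorem closed_grad (hc : ∀ i j a, d i (d j a) = d j (d i a)) (g : A) :
    Closed d (fun j => d j g) := by
  intro j l
  exact hc j l g

theorem lam_det_update (Λ : A →+ A) (hΛ : ∀ j a, Λ (d j a) = 0) (M : ι → ι → A)
    (hM : ∀ i, Closed d (M i)) (i0 : ι) (g : A) :
    Λ (Matrix.of (Function.update M i0 (M i0 + fun j => d j g))).det = Λ (Matrix.of M).det := by
  have h1 : Matrix.of (Function.update M i0 (M i0 + fun j => d j g)) =
      Matrix.updateRow (Matrix.of M) i0 (M i0 + fun j => d j g) := rfl
  have h2 : Matrix.updateRow (Matrix.of M) i0 (M i0) = Matrix.of M := by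
    ext i j
    by_cases hi : i = i0
    · subst hi; simp
    · simp [Matrix.updateRow_ne hi]
  have h3 : Matrix.updateRow (Matrix.of M) i0 (fun j => d j g) =
      Matrix.of (Function.update M i0 (fun j => d j g)) := rfl
  rw [h1, Matrix.det_updateRow_add, h2, map_add, h3,
    lam_det_exact_row d Λ hΛ (Function.update M i0 (fun j => d j g)) i0 g (by simp)
      (by intro i hi; rw [Function.update_of_ne hi]; exact hM i), add_zero]

/-- the interpolating matrices -/
def MS (s f : ι → A) (S : Finset ι) : ι → ι → A :=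
  fun i j => (if i = j then s i else 0) + (if i ∈ S then d j (f i) else 0)

theorem closed_MS (hc : ∀ i j a, d i (d j a) = d j (d i a)) (s f : ι → A)
    (hs : ∀ i j, i ≠ j → d j (s i) = 0) (S : Finset ι) (i : ι) : Closed d (MS d s f S i) := by
  have h1 : Closed d (fun j => if i = j then s i else 0) := by
    intro j l
    dsimp only
    by_cases hj : i = j
    · by_cases hl : i = l
      · rw [← hj, ← hl]
      · rw [if_neg hl, if_pos hj, map_zero, hs i l hl]
    · by_cases hl : i = l
      · rw [if_neg hj, if_pos hl, map_zero, hs i j hj]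
      · rw [if_neg hj, if_neg hl, map_zero, map_zero]
  have h2 : Closed d (fun j => if i ∈ S then d j (f i) else 0) := by
    by_cases hi : i ∈ S
    · simp only [if_pos hi]; exact closed_grad d hc (f i)
    · simp only [if_neg hi]; intro j l; simp
  exact closed_add d h1 h2

theorem lam_det_MS (Λ : A →+ A) (hΛ : ∀ j a, Λ (d j a) = 0)
    (hc : ∀ i j a, d i (d j a) = d j (d i a)) (s f : ι → A)
    (hs : ∀ i j, i ≠ j → d j (s i) = 0) (S : Finset ι) :
    Λ (Matrix.of (MS d s f S)).det = Λ (∏ i, s i) := by
  induction S using Finset.induction_on with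
  | empty =>
    have : Matrix.of (MS d s f ∅) = Matrix.diagonal s := by
      ext i j
      simp [MS, Matrix.diagonal_apply]
    rw [this, Matrix.det_diagonal]
  | insert a S ha ih =>
    have : MS d s f (insert a S) =
        Function.update (MS d s f S) a (MS d s f S a + fun j => d j (f a)) := by
      ext i j
      by_cases hi : i = a
      · subst hi
        simp [MS, ha]
      · rw [Function.update_of_ne hi]
        simp [MS, hi]
    rw [this, lam_det_update d Λ hΛ _ (closed_MS d hc s f hs S), ih]

end Det

section Coord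
variable {k A : Type*} [CommRing k] [CommRing A] [Algebra k A] {ι : Type*} [Fintype ι]
  [DecidableEq ι] (t : ι → A) (b : Module.Basis ι A (KaehlerDifferential k A))

/-- the partial derivative dual to the basis `b`. -/
noncomputable def pd (j : ι) : Derivation k A A :=
  (b.coord j).compDer (KaehlerDifferential.D k A)

omit [Fintype ι] [DecidableEq ι] in
theorem pd_apply (j : ι) (a : A) : pd b j a = b.coord j (KaehlerDifferential.D k A a) := rfl

variable (hb : ∀ i, b i = KaehlerDifferential.D k A (t i))
include hb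

omit [Fintype ι] in
theorem pd_t (i j : ι) : pd b j (t i) = if i = j then 1 else 0 := by
  rw [pd_apply, ← hb, Module.Basis.coord_apply, Module.Basis.repr_self, Finsupp.single_apply]

omit [Fintype ι] [DecidableEq ι] in
theorem der_eq_zero (δ : Derivation k A A) (h : ∀ l, δ (t l) = 0) (a : A) : δ a = 0 := by
  have h1 : δ.liftKaehlerDifferential = 0 := by
    apply b.ext
    intro l
    rw [hb, Derivation.liftKaehlerDifferential_comp_D, h l]
    rfl
  rw [← Derivation.liftKaehlerDifferential_comp_D δ a, h1]
  rfl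

omit [Fintype ι] in
theorem pd_comm (i j : ι) (a : A) : pd b i (pd b j a) = pd b j (pd b i a) := by
  have := der_eq_zero t b hb ⁅pd b i, pd b j⁆ (fun l => by
    rw [Derivation.commutator_apply, pd_t t b hb, pd_t t b hb]
    split_ifs <;> simp) a
  rw [Derivation.commutator_apply, sub_eq_zero] at this
  exact this

omit [Fintype ι] in
theorem pd_pow_p (p : ℕ) [hp : Fact p.Prime] (hpk : (p : k) = 0) (j : ι) (a : A) :
    (((pd b j : Derivation k A A) : A →ₗ[k] A) ^ p) a = 0 := by
  let δp : Derivation k A A := Derivation.mk' (((pd b j : Derivation k A A) : A →ₗ[k] A) ^ p)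
    (fun x y => by
      rw [pow_p_leibniz p hpk (pd b j) x y]
      simp only [smul_eq_mul])
  have h := der_eq_zero t b hb δp (fun l => by
    change (((pd b j : Derivation k A A) : A →ₗ[k] A) ^ p) (t l) = 0
    obtain ⟨q, hq⟩ : ∃ q, p = q + 2 := ⟨p - 2, by have := hp.out.two_le; omega⟩
    rw [hq, Module.End.pow_apply, Function.iterate_succ_apply, Function.iterate_succ_apply]
    have e1 : ((pd b j : Derivation k A A) : A →ₗ[k] A) (t l) = if l = j then 1 else 0 :=
      pd_t t b hb l j
    rw [e1]
    have e2 : ((pd b j : Derivation k A A) : A →ₗ[k] A) (if l = j then 1 else 0) = 0 := by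
      split_ifs
      · exact (pd b j).map_one_eq_zero
      · exact map_zero _
    rw [e2]
    exact iterate_map_zero _ _) a
  exact h

omit [Fintype ι] in
theorem pd_t_pow (i j : ι) (hij : i ≠ j) (m : ℕ) : pd b j (t i ^ m) = 0 := by
  rw [Derivation.leibniz_pow, pd_t t b hb, if_neg hij, smul_zero, smul_zero]

omit [Fintype ι] in
theorem iter_fact (a : ι) (m : ℕ) : ∀ c : A, pd b a c = 0 →
    (((pd b a : Derivation k A A) : A →ₗ[k] A) ^ m) (c * t a ^ m) = m.factorial • c := by
  induction m with
  | zero => intro c _; simp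
  | succ m ih =>
    intro c hc
    rw [pow_succ, Module.End.mul_apply]
    have e : ((pd b a : Derivation k A A) : A →ₗ[k] A) (c * t a ^ (m + 1)) =
        (m + 1) • (c * t a ^ m) := by
      change pd b a (c * t a ^ (m + 1)) = _
      rw [Derivation.leibniz, hc, Derivation.leibniz_pow, pd_t t b hb, if_pos rfl]
      simp only [smul_eq_mul, Nat.add_sub_cancel, mul_one, mul_zero, add_zero, nsmul_eq_mul]
      ring
    rw [e, map_nsmul, ih c hc, Nat.factorial_succ, mul_smul]

end Coord

section Lam
variable {k A : Type*} [CommRing k] [CommRing A] [Algebra k A] {ι : Type*} [Fintype ι]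
  [DecidableEq ι] (t : ι → A) (b : Module.Basis ι A (KaehlerDifferential k A))
  (hb : ∀ i, b i = KaehlerDifferential.D k A (t i)) (p : ℕ)

include hb in
omit [Fintype ι] in
theorem comm_pow (i j : ι) :
    Commute (((pd b i : Derivation k A A) : A →ₗ[k] A) ^ (p - 1))
      (((pd b j : Derivation k A A) : A →ₗ[k] A) ^ (p - 1)) := by
  apply Commute.pow_pow
  change _ * _ = _ * _
  apply LinearMap.ext
  intro a
  exact pd_comm t b hb i j a

include hb in
omit [Fintype ι] in
theorem pairwise_comm (S : Finset ι) : (S : Set ι).Pairwise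
    (Function.onFun Commute fun i => ((pd b i : Derivation k A A) : A →ₗ[k] A) ^ (p - 1)) :=
  fun i _ j _ _ => comm_pow t b hb p i j

/-- partial products of the `∂_i^{p-1}`. -/
noncomputable def LamS (S : Finset ι) : Module.End k A :=
  S.noncommProd (fun i => ((pd b i : Derivation k A A) : A →ₗ[k] A) ^ (p - 1))
    (pairwise_comm t b hb p S)

theorem lamS_pd [hp : Fact p.Prime] (hpk : (p : k) = 0) (j : ι) (a : A) :
    LamS t b hb p Finset.univ (pd b j a) = 0 := by
  unfold LamS
  rw [← Finset.noncommProd_erase_mul Finset.univ (Finset.mem_univ j), Module.End.mul_apply]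
  have : (((pd b j : Derivation k A A) : A →ₗ[k] A) ^ (p - 1)) (pd b j a) =
      (((pd b j : Derivation k A A) : A →ₗ[k] A) ^ p) a := by
    have hp1 : p = (p - 1) + 1 := by have := hp.out.two_le; omega
    conv_rhs => rw [hp1, pow_succ, Module.End.mul_apply]
    rfl
  rw [this, pd_pow_p t b hb p hpk j a, map_zero]

omit [Fintype ι] in
theorem lamS_prod (S : Finset ι) : ∀ c : A, (∀ i ∈ S, pd b i c = 0) →
    LamS t b hb p S (c * ∏ i ∈ S, t i ^ (p - 1)) = ((p - 1).factorial ^ S.card) • c := by
  induction S using Finset.induction_on with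
  | empty => intro c _; simp [LamS]
  | insert a S ha ih =>
    intro c hc
    unfold LamS
    rw [Finset.noncommProd_insert_of_notMem _ _ _ _ ha, Module.End.mul_apply,
      Finset.prod_insert ha, ← mul_assoc]
    have h1 := ih (c * t a ^ (p - 1)) (fun i hi => by
      rw [Derivation.leibniz, hc i (Finset.mem_insert_of_mem hi),
        pd_t_pow t b hb a i (by rintro rfl; exact ha hi)]
      simp)
    unfold LamS at h1
    rw [h1, map_nsmul, iter_fact t b hb a (p - 1) c (hc a (Finset.mem_insert_self a S)),
      Finset.card_insert_of_notMem ha, pow_succ, mul_smul]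

end Lam

theorem result' (p : ℕ) [hp : Fact p.Prime] (k : Type u) [Field k] [CharP k p]
    (A : Type v) [CommRing A] [IsDomain A] [Algebra k A]
    {n : ℕ} (t : Fin n → A) (b : Module.Basis (Fin n) A (KaehlerDifferential k A))
    (hb : ∀ i, b i = KaehlerDifferential.D k A (t i)) (f : Fin n → A) :
    (Matrix.of fun i j : Fin n =>
        (if i = j then t i ^ (p - 1) else 0) +
          b.coord j (KaehlerDifferential.D k A (f i))).det ≠ 0 := by
  have hpk : (p : k) = 0 := CharP.cast_eq_zero k p
  set Λ : A →+ A := (LamS t b hb p Finset.univ : A →ₗ[k] A).toAddMonoidHom with hΛdef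
  have hΛ : ∀ j a, Λ (pd b j a) = 0 := fun j a => lamS_pd t b hb p hpk j a
  have hM : (Matrix.of fun i j : Fin n => (if i = j then t i ^ (p - 1) else 0) +
      b.coord j (KaehlerDifferential.D k A (f i))) =
      Matrix.of (MS (pd b) (fun i => t i ^ (p - 1)) f Finset.univ) := by
    ext i j
    simp [MS, pd_apply]
  intro h0
  have h1 := lam_det_MS (pd b) Λ hΛ (pd_comm t b hb) (fun i => t i ^ (p - 1)) f
    (fun i j hij => pd_t_pow t b hb i j hij (p - 1)) Finset.univ
  rw [← hM, h0, map_zero] at h1
  have h2 := lamS_prod t b hb p Finset.univ 1 (fun i _ => (pd b i).map_one_eq_zero)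
  rw [one_mul] at h2
  have h3 : (((p - 1).factorial ^ (Finset.univ : Finset (Fin n)).card : ℕ) : A) = 0 := by
    have h4 : Λ (∏ i, t i ^ (p - 1)) = LamS t b hb p Finset.univ (∏ i, t i ^ (p - 1)) := rfl
    rw [h4, h2] at h1
    rw [h1, nsmul_eq_mul, mul_one]
  have h5 : (((p - 1).factorial ^ (Finset.univ : Finset (Fin n)).card : ℕ) : k) = 0 := by
    apply FaithfulSMul.algebraMap_injective k A
    rw [map_natCast, map_zero]
    exact h3
  have h6 := (CharP.cast_eq_zero_iff k p _).mp h5
  have h7 := (Nat.Prime.dvd_factorial hp.out).mp (hp.out.dvd_of_dvd_pow h6)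
  have := hp.out.two_le
  omega

/-- Let k be an algebraically closed field of characteristic p, A a smooth k-algebra that is an integral
domain, and t_1, …, t_n ∈ A such that dt_1, …, dt_n is a basis of the module of Kähler differentials
Ω_{A/k}. Let (B, ι, π, Φ) be a flat lifting of A over W_2(k) together with a lift Φ of Frobenius,
T_i ∈ B lifts of the t_i, and F_i ∈ B with Φ(T_i) = T_i^p + p·F_i; put f_i = π(F_i) ∈ A. Then the n
× n matrix over A with entries δ_{ij} t_i^{p-1} + ∂f_i/∂t_j, the partial derivatives being the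
coordinates of df_i in the basis dt_j, has nonzero determinant. This is the matrix of the A-linear
map F_A^*Ω_{A/k} → Ω_{A/k} obtained from dΦ after dividing by p, which is therefore generically
bijective. (The source states generic bijectivity for a smooth variety and reduces it to this
determinant on an affine open with étale coordinates.) -/
theorem result
    (p : ℕ) [Fact p.Prime] (k : Type u) [Field k] [IsAlgClosed k] [CharP k p]
    (A : Type v) [CommRing A] [IsDomain A] [Algebra k A] [Algebra.Smooth k A]
    {n : ℕ} (t : Fin n → A) (b : Module.Basis (Fin n) A (KaehlerDifferential k A))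
    (hb : ∀ i, b i = KaehlerDifferential.D k A (t i))
    (B : Type v) [CommRing B] (ι : FrobAlg.W2 p k →+* B) (π : B →+* A) (Φ : B →+* B)
    (hΦ : FrobAlg.IsFrobLift p k A B ι π Φ)
    (T F : Fin n → B) (hT : ∀ i, π (T i) = t i) (hF : ∀ i, Φ (T i) = T i ^ p + (p : B) * F i) :
    (Matrix.of fun i j : Fin n =>
        (if i = j then t i ^ (p - 1) else 0) +
          b.coord j (KaehlerDifferential.D k A (π (F i)))).det ≠ 0 := by
  exact result' p k A t b hb (fun i => π (F i))

end Groth.Agent.S18154
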