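import Groth.Statements.S18156
import Mathlib

set_option autoImplicit false
universe u v
open CAlg

namespace Groth.Agent.S18156

/-- Let k be a field and A a regular local ring that is a k-algebra, with maximal ideal m and m-adic
completion Â. Then every k-derivation D of A into itself extends to a k-derivation D̂ of Â into
itself along the canonical map ρ : A → Â, in the sense that D̂(ρ(a)) = ρ(D(a)) for every a ∈ A. (The
source works throughout over an algebraically closed field of characteristic p; neither assumption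
enters this statement.) -/
theorem result
    (k : Type u) [Field k] (A : Type v) [CommRing A] [Algebra k A] [IsRegularLocalRing A]
    (D : Derivation k A A) :
    ∃ Dhat : Derivation k (AdicCompletion (IsLocalRing.maximalIdeal A) A)
        (AdicCompletion (IsLocalRing.maximalIdeal A) A),
      ∀ a : A, Dhat (algebraMap A (AdicCompletion (IsLocalRing.maximalIdeal A) A) a) =
        algebraMap A (AdicCompletion (IsLocalRing.maximalIdeal A) A) (D a) := by
  classical
  set m := IsLocalRing.maximalIdeal A with hm
  have htop : ∀ n : ℕ, (m ^ n • ⊤ : Submodule A A) = m ^ n := fun n => by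
    rw [smul_eq_mul, Ideal.mul_top]
  -- `D` maps `m^(n+1)` into `m^n`
  have hD : ∀ (n : ℕ) (a : A), a ∈ m ^ (n + 1) → D a ∈ m ^ n := by
    intro n
    induction n with
    | zero => intro a _; simp
    | succ n ih =>
      intro a ha
      rw [pow_succ] at ha
      refine Submodule.smul_induction_on ha ?_ ?_
      · intro x hx y hy
        rw [smul_eq_mul, Derivation.leibniz]
        refine Ideal.add_mem _ ?_ ?_
        · rw [smul_eq_mul]; exact Ideal.mul_mem_right _ _ hx
        · rw [smul_eq_mul, mul_comm, pow_succ]; exact Ideal.mul_mem_mul (ih x hx) hy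
      · intro x y hx hy; rw [map_add]; exact Ideal.add_mem _ hx hy
  have hwd : ∀ (n : ℕ) (a b : A),
      (Submodule.Quotient.mk a : A ⧸ (m ^ (n + 1) • ⊤ : Submodule A A)) = Submodule.Quotient.mk b →
      (Submodule.Quotient.mk (D a) : A ⧸ (m ^ n • ⊤ : Submodule A A)) = Submodule.Quotient.mk (D b) := by
    intro n a b h
    rw [Submodule.Quotient.eq] at h ⊢
    rw [htop] at h ⊢
    rw [← map_sub]; exact hD n _ h
  have hsurj : ∀ (n : ℕ) (q : A ⧸ (m ^ n • ⊤ : Submodule A A)), ∃ a : A, Submodule.Quotient.mk a = q :=
    fun n q => Submodule.Quotient.mk_surjective _ q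
  choose lift hlift using hsurj
  let f : AdicCompletion m A → ∀ n : ℕ, A ⧸ (m ^ n • ⊤ : Submodule A A) :=
    fun x n => Submodule.Quotient.mk (D (lift (n + 1) (x.val (n + 1))))
  have hchar : ∀ (x : AdicCompletion m A) (n : ℕ) (a : A),
      (Submodule.Quotient.mk a : A ⧸ (m ^ (n + 1) • ⊤ : Submodule A A)) = x.val (n + 1) →
      f x n = Submodule.Quotient.mk (D a) := by
    intro x n a h
    apply hwd
    rw [hlift, h]
  have hcompat : ∀ (x : AdicCompletion m A) {i j : ℕ} (hij : i ≤ j),
      AdicCompletion.transitionMap m A hij (f x j) = f x i := by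
    intro x i j hij
    have h1 : f x j = Submodule.Quotient.mk (D (lift (j + 1) (x.val (j + 1)))) := rfl
    have h2 : f x i = Submodule.Quotient.mk (D (lift (j + 1) (x.val (j + 1)))) := by
      apply hchar
      calc (Submodule.Quotient.mk (lift (j + 1) (x.val (j + 1))) : A ⧸ (m ^ (i + 1) • ⊤ : Submodule A A))
          = AdicCompletion.transitionMap m A (Nat.succ_le_succ hij)
              (Submodule.Quotient.mk (lift (j + 1) (x.val (j + 1)))) := rfl
        _ = AdicCompletion.transitionMap m A (Nat.succ_le_succ hij) (x.val (j + 1)) := by rw [hlift]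
        _ = x.val (i + 1) := x.2 _
    rw [h1, h2]
    rfl
  let Dh : AdicCompletion m A → AdicCompletion m A := fun x => ⟨f x, hcompat x⟩
  have hDh : ∀ (x : AdicCompletion m A) (n : ℕ) (a : A),
      (Submodule.Quotient.mk a : A ⧸ (m ^ (n + 1) • ⊤ : Submodule A A)) = x.val (n + 1) →
      (Dh x).val n = Submodule.Quotient.mk (D a) := hchar
  have hadd : ∀ x y, Dh (x + y) = Dh x + Dh y := by
    intro x y
    apply AdicCompletion.ext
    intro n
    rw [AdicCompletion.val_add_apply]
    rw [hDh x n _ (hlift (n + 1) (x.val (n + 1))), hDh y n _ (hlift (n + 1) (y.val (n + 1))),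
      hDh (x + y) n (lift (n + 1) (x.val (n + 1)) + lift (n + 1) (y.val (n + 1)))
        (by rw [Submodule.Quotient.mk_add, hlift, hlift, AdicCompletion.val_add_apply]),
      map_add, Submodule.Quotient.mk_add]
  have hsmul : ∀ (c : k) x, Dh (c • x) = c • Dh x := by
    intro c x
    apply AdicCompletion.ext
    intro n
    rw [AdicCompletion.val_smul_apply]
    rw [hDh x n _ (hlift (n + 1) (x.val (n + 1))),
      hDh (c • x) n (c • lift (n + 1) (x.val (n + 1)))
        (by rw [Submodule.Quotient.mk_smul, hlift, AdicCompletion.val_smul_apply]),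
      D.map_smul, Submodule.Quotient.mk_smul]
  have hleib : ∀ x y : AdicCompletion m A, Dh (x * y) = x • Dh y + y • Dh x := by
    intro x y
    apply AdicCompletion.ext
    intro n
    obtain ⟨a, hx⟩ : ∃ a : A, (Submodule.Quotient.mk a : A ⧸ (m ^ (n + 1) • ⊤ : Submodule A A))
        = x.val (n + 1) := ⟨_, hlift _ _⟩
    obtain ⟨b, hy⟩ : ∃ b : A, (Submodule.Quotient.mk b : A ⧸ (m ^ (n + 1) • ⊤ : Submodule A A))
        = y.val (n + 1) := ⟨_, hlift _ _⟩
    have hxn : (Submodule.Quotient.mk a : A ⧸ (m ^ n • ⊤ : Submodule A A)) = x.val n := by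
      calc (Submodule.Quotient.mk a : A ⧸ (m ^ n • ⊤ : Submodule A A))
          = AdicCompletion.transitionMap m A (Nat.le_succ n) (Submodule.Quotient.mk a) := rfl
        _ = AdicCompletion.transitionMap m A (Nat.le_succ n) (x.val (n + 1)) := by rw [hx]
        _ = x.val n := x.2 _
    have hyn : (Submodule.Quotient.mk b : A ⧸ (m ^ n • ⊤ : Submodule A A)) = y.val n := by
      calc (Submodule.Quotient.mk b : A ⧸ (m ^ n • ⊤ : Submodule A A))
          = AdicCompletion.transitionMap m A (Nat.le_succ n) (Submodule.Quotient.mk b) := rfl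
        _ = AdicCompletion.transitionMap m A (Nat.le_succ n) (y.val (n + 1)) := by rw [hy]
        _ = y.val n := y.2 _
    change (Dh (x * y)).val n = (x * Dh y).val n + (y * Dh x).val n
    rw [AdicCompletion.val_mul, AdicCompletion.val_mul]
    rw [hDh x n a hx, hDh y n b hy,
      hDh (x * y) n (a * b) (by rw [AdicCompletion.val_mul, ← hx, ← hy]; rfl),
      Derivation.leibniz, ← hxn, ← hyn]
    rfl
  let DL : AdicCompletion m A →ₗ[k] AdicCompletion m A :=
    { toFun := Dh, map_add' := hadd, map_smul' := hsmul }
  refine ⟨Derivation.mk' DL hleib, ?_⟩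
  intro a
  apply AdicCompletion.ext
  intro n
  change (Dh (algebraMap A (AdicCompletion m A) a)).val n = _
  rw [hDh _ n a (by rfl)]
  rfl

end Groth.Agent.S18156
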