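import Groth.Statements.S18177
import Groth.Agent.Lib.helper16.FFLin

set_option autoImplicit false
open FunFld

namespace Groth.Agent.S18177

/-- Let `k` be an algebraically closed field of characteristic zero and `K/k` a function field of one
variable (the function field of a smooth projective curve over `k`). A `g^r_d` is a divisor `D` of
degree `d` with a subspace `V ⊆ L(D)` of dimension `r + 1`; for a place `P` and `n ≥ 0`, `V(-nP) = V
∩ L(D - nP)` is the space of members vanishing to order at least `n` at `P`, so `dim V(-nP)` counts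
the vanishing orders `m_0 < ⋯ < m_r` of `V` at `P` that are at least `n`, and the weight of `V` at
`P` is `∑_{n=1}^{d} dim V(-nP) - r(r+1)/2`. Let `(D, V)` be a `g^r_d` with `r ≥ 1` and `P ≠ Q`
places at which the weights are large: `w(V, P) + w(V, Q) ≥ (r+1)(d-r) - (r-1)`, that is `(r+1)d + 1
≤ ∑_{n=1}^{d} dim V(-nP) + ∑_{n=1}^{d} dim V(-nQ) + r`. Then `V` contains members with divisors `m_i
Q + (d - m_i) P` for two different indices `i`, and hence `m(Q - P)` is a principal divisor for some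
`1 ≤ m ≤ d`. (In the source `K` is an elliptic tail of a degenerate curve, `P` its node and `Q` the
limit of the moving ramification point, the weight hypothesis coming from `ρ ≤ 0`; it concludes that
only finitely many `Q` are possible. The torsion assertion holds in any genus and is what is stated
here.) (The source states this for curves over the complex numbers.) -/
theorem result
    (k : Type*) [Field k] [IsAlgClosed k] [CharZero k]
    (K : Type*) [Field K] [Algebra k K] (hK : FunFld.IsFunctionField k K)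
    (d r : ℕ) (hr : 1 ≤ r) (D : FunFld.Divisor k K) (hD : D.deg = d)
    (V : Submodule k K) (hV : V ≤ FunFld.L D) (hVr : Module.finrank k ↥V = r + 1)
    (P Q : FunFld.Place k K) (hPQ : P ≠ Q)
    (hw : (r + 1) * d + 1 ≤
      (∑ n ∈ Finset.range d, Module.finrank k ↥(V ⊓ FunFld.L (D - Finsupp.single P ((n : ℤ) + 1)))) +
        (∑ n ∈ Finset.range d, Module.finrank k ↥(V ⊓ FunFld.L (D - Finsupp.single Q ((n : ℤ) + 1)))) + r) :
    ∃ m : ℕ, 1 ≤ m ∧ m ≤ d ∧ ∃ h : K, h ≠ 0 ∧
      FunFld.div k h = Finsupp.single Q (m : ℤ) - Finsupp.single P (m : ℤ) := by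
  open Groth.Agent.Lib.helper16.FF in
  have hdeg : ∀ R : FunFld.Place k K, R.deg = 1 := fun R => deg_eq_one_of_isAlgClosed hK R
  have hfdV : FiniteDimensional k V := by
    have := finiteDimensional_L hK D
    exact Submodule.finiteDimensional_of_le hV
  let a : ℕ → ℕ := fun n => Module.finrank k ↥(V ⊓ FunFld.L (D - Finsupp.single P ((n : ℤ))))
  let b : ℕ → ℕ := fun n => Module.finrank k ↥(V ⊓ FunFld.L (D - Finsupp.single Q ((n : ℤ))))
  have ha0 : a 0 = r + 1 := by
    show Module.finrank k ↥(V ⊓ FunFld.L (D - Finsupp.single P (((0 : ℕ) : ℤ)))) = r + 1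
    rw [Nat.cast_zero, Finsupp.single_zero, sub_zero, inf_eq_left.mpr hV, hVr]
  have hb0 : b 0 = r + 1 := by
    show Module.finrank k ↥(V ⊓ FunFld.L (D - Finsupp.single Q (((0 : ℕ) : ℤ)))) = r + 1
    rw [Nat.cast_zero, Finsupp.single_zero, sub_zero, inf_eq_left.mpr hV, hVr]
  have hwa : ∑ n ∈ Finset.range d, Module.finrank k ↥(V ⊓ FunFld.L (D - Finsupp.single P ((n : ℤ) + 1))) = ∑ n ∈ Finset.range d, a (n + 1) := by
    refine Finset.sum_congr rfl ?_
    intro n _
    show _ = Module.finrank k ↥(V ⊓ FunFld.L (D - Finsupp.single P (((n + 1 : ℕ) : ℤ))))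
    rw [Nat.cast_add, Nat.cast_one]
  have hwb : ∑ n ∈ Finset.range d, Module.finrank k ↥(V ⊓ FunFld.L (D - Finsupp.single Q ((n : ℤ) + 1))) = ∑ n ∈ Finset.range d, b (n + 1) := by
    refine Finset.sum_congr rfl ?_
    intro n _
    show _ = Module.finrank k ↥(V ⊓ FunFld.L (D - Finsupp.single Q (((n + 1 : ℕ) : ℤ))))
    rw [Nat.cast_add, Nat.cast_one]
  rw [hwa, hwb] at hw
  have he : ∀ n < d + 1, (a n : ℤ) + b (d - n) - (r + 1) ≤ 1 := by
    intro n hn
    have := Groth.Agent.Lib.helper16.FF.finrank_add_finrank_le_add_one hK hV hPQ (hdeg P) (hdeg Q)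
      (n := (n : ℤ)) (m := ((d - n : ℕ) : ℤ)) (by positivity) (by positivity)
      (by rw [hD]; push_cast [Nat.cast_sub (Nat.lt_succ_iff.mp hn)]; omega)
    rw [hVr] at this
    have h' : a n + b (d - n) ≤ r + 1 + 1 := this
    omega
  have hsum : 2 ≤ ∑ n ∈ Finset.range (d + 1), ((a n : ℤ) + b (d - n) - (r + 1)) := by
    rw [Finset.sum_sub_distrib, Finset.sum_add_distrib]
    have h1 : ∑ n ∈ Finset.range (d + 1), (b (d - n) : ℤ) = ∑ n ∈ Finset.range (d + 1), (b n : ℤ) := by
      have := Finset.sum_range_reflect (fun n => (b n : ℤ)) (d + 1)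
      simpa using this
    rw [h1, Finset.sum_range_succ' (fun n => (a n : ℤ)), Finset.sum_range_succ' (fun n => (b n : ℤ)),
      ha0, hb0]
    rw [Finset.sum_const, Finset.card_range]
    have hw' : (((r + 1) * d + 1 : ℕ) : ℤ) ≤ ((∑ n ∈ Finset.range d, a (n + 1) + ∑ n ∈ Finset.range d, b (n + 1) + r : ℕ) : ℤ) := by
      exact_mod_cast hw
    push_cast at hw' ⊢
    rw [nsmul_eq_mul]
    push_cast
    nlinarith
  obtain ⟨n₁, n₂, h12, h2N, e1, e2⟩ := exists_two_of_two_le_sum (d + 1) _ he hsum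
  have hn1 : n₁ ≤ d := by omega
  have hn2 : n₂ ≤ d := by omega
  obtain ⟨s₁, hs₁0, -, hs₁⟩ := exists_div_eq_of_finrank_lt hK hV hPQ (hdeg P) (hdeg Q)
      (n := (n₁ : ℤ)) (m := ((d - n₁ : ℕ) : ℤ)) (by positivity) (by positivity)
      (by rw [hD]; push_cast [Nat.cast_sub hn1]; omega)
      (by rw [hVr]; show r + 1 < a n₁ + b (d - n₁); omega)
  obtain ⟨s₂, hs₂0, -, hs₂⟩ := exists_div_eq_of_finrank_lt hK hV hPQ (hdeg P) (hdeg Q)
      (n := (n₂ : ℤ)) (m := ((d - n₂ : ℕ) : ℤ)) (by positivity) (by positivity)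
      (by rw [hD]; push_cast [Nat.cast_sub hn2]; omega)
      (by rw [hVr]; show r + 1 < a n₂ + b (d - n₂); omega)
  refine ⟨n₂ - n₁, by omega, by omega, s₁ * s₂⁻¹, mul_ne_zero hs₁0 (inv_ne_zero hs₂0), ?_⟩
  rw [div_mul hK hs₁0 (inv_ne_zero hs₂0), div_inv hK, hs₁, hs₂]
  ext R
  simp only [Finsupp.sub_apply, Finsupp.add_apply, Finsupp.neg_apply]
  push_cast [Nat.cast_sub hn1, Nat.cast_sub hn2, Nat.cast_sub (le_of_lt h12)]
  by_cases hRP : R = P
  · subst hRP
    rw [Finsupp.single_eq_same, Finsupp.single_eq_same, Finsupp.single_eq_same,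
      Finsupp.single_eq_of_ne hPQ, Finsupp.single_eq_of_ne hPQ, Finsupp.single_eq_of_ne hPQ]
    omega
  · rw [Finsupp.single_eq_of_ne hRP, Finsupp.single_eq_of_ne hRP, Finsupp.single_eq_of_ne hRP]
    by_cases hRQ : R = Q
    · subst hRQ
      rw [Finsupp.single_eq_same, Finsupp.single_eq_same, Finsupp.single_eq_same]
      omega
    · rw [Finsupp.single_eq_of_ne hRQ, Finsupp.single_eq_of_ne hRQ, Finsupp.single_eq_of_ne hRQ]
      omega

end Groth.Agent.S18177
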