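import Groth.Statements.S18179
import Groth.Agent.Lib.helper16.FFBackbone

set_option autoImplicit false
open FunFld

namespace Groth.Agent.S18179

/-- Let `k` be an algebraically closed field of characteristic zero and `K/k` a function field of one
variable (the function field of a smooth projective curve over `k`). A `g^r_d` is a divisor `D` of
degree `d` with a subspace `V ⊆ L(D)` of dimension `r + 1`; for a place `P` and `n ≥ 0`, `V(-nP) = V
∩ L(D - nP)` is the space of members vanishing to order at least `n` at `P`, so `dim V(-nP)` counts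
the vanishing orders `m_0 < ⋯ < m_r` of `V` at `P` that are at least `n`, and the weight of `V` at
`P` is `∑_{n=1}^{d} dim V(-nP) - r(r+1)/2`. Aspects `(D_Y, V_Y)` on `K_Y` and `(D_Z, V_Z)` on `K_Z`
of a limit `g^r_d` on two components meeting in a node (a place `P` of `K_Y` and a place `Q` of
`K_Z`) are compatible there when `m_i(V_Y, P) + m_{r-i}(V_Z, Q) = d` for every `i`, equivalently
`dim V_Y(-nP) + dim V_Z(-(d+1-n)Q) = r + 1` for `0 ≤ n ≤ d + 1`. A backbone is a chain of rational
components `Z_0, …, Z_N` (function fields `K_i` of genus `0`), `Z_i` meeting `Z_{i+1}` in a node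
given by a place `B_i` of `K_i` and a place `A_{i+1}` of `K_{i+1}`, the two node places `A_i ≠ B_i`
of an inner component being distinct; each `Z_i` carries an aspect `(D_i, V_i)` of a limit `g^r_d`
and consecutive aspects are compatible at the nodes. A set `T` of indices marks the components
carrying a tail: for `i ∈ T` the aspect `V_i` has at least a cusp (`dim V_i(-2Q_i) ≥ r`) at a
further place `Q_i` of `K_i`, distinct from the node places of `Z_i`. (In the source these are the
backbone components of a flag curve to which a chain of rational curves ending in an elliptic tail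
is attached, `T` has `g` elements, and the cusp is forced by that chain.) Conclusion: `r · |T| ≤
(r+1)(d-r)`, that is, the Brill–Noether number `ρ(|T|, r, d) = |T| - (r+1)(|T| - d + r)` is
nonnegative. (The source deduces from this, by degenerating a general curve of genus `g` to a flag
curve with `g` tails, that a general curve has no `g^r_d` when `ρ < 0`; that consequence is not
stated here.) (The source states this for curves over the complex numbers.) -/
theorem result
    (k : Type*) [Field k] [IsAlgClosed k] [CharZero k]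
    (N : ℕ) (Z : Fin (N + 1) → Type*) [∀ i, Field (Z i)] [∀ i, Algebra k (Z i)]
    (hZ : ∀ i, FunFld.IsFunctionField k (Z i)) (hrat : ∀ i, FunFld.genus k (Z i) = 0)
    (d r : ℕ) (D : ∀ i, FunFld.Divisor k (Z i)) (hD : ∀ i, (D i).deg = d)
    (V : ∀ i, Submodule k (Z i)) (hV : ∀ i, V i ≤ FunFld.L (D i))
    (hVr : ∀ i, Module.finrank k ↥(V i) = r + 1)
    (A B : ∀ i, FunFld.Place k (Z i))
    (hAB : ∀ i : Fin (N + 1), 0 < (i : ℕ) → (i : ℕ) < N → A i ≠ B i)
    (hcomp : ∀ (l : Fin N) (m : ℕ), m ≤ d + 1 →
      Module.finrank k ↥((V l.castSucc) ⊓ FunFld.L ((D l.castSucc) - Finsupp.single (B l.castSucc) ((m : ℤ)))) +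
        Module.finrank k ↥((V l.succ) ⊓ FunFld.L ((D l.succ) - Finsupp.single (A l.succ) ((d : ℤ) + 1 - m))) = r + 1)
    (T : Finset (Fin (N + 1))) (Q : ∀ i, FunFld.Place k (Z i))
    (hQA : ∀ i ∈ T, 0 < (i : ℕ) → Q i ≠ A i) (hQB : ∀ i ∈ T, (i : ℕ) < N → Q i ≠ B i)
    (hcusp : ∀ i ∈ T, r ≤ Module.finrank k ↥((V i) ⊓ FunFld.L ((D i) - Finsupp.single (Q i) ((2 : ℤ))))) :
    r * T.card + r * (r + 1) ≤ (r + 1) * d := by
  open Groth.Agent.Lib.helper16.FF in
  have heven : r * (r + 1) = 2 * (r * (r + 1) / 2) := by
    obtain ⟨t, ht⟩ := Nat.even_mul_succ_self r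
    omega
  have hlast : (T.filter (fun i' : Fin (N + 1) => N < (i' : ℕ))).card = 0 := by
    rw [Finset.card_eq_zero, Finset.filter_eq_empty_iff]
    intro i _
    have := i.2
    omega
  have hcard : T.card = (T.filter (fun i' : Fin (N + 1) => (i' : ℕ) < N)).card +
      (if (⟨N, Nat.lt_succ_self N⟩ : Fin (N + 1)) ∈ T then 1 else 0) +
      (T.filter (fun i' : Fin (N + 1) => N < (i' : ℕ))).card :=
    card_eq_filter_add T ⟨N, Nat.lt_succ_self N⟩
  rw [hlast, add_zero] at hcard
  rcases Nat.eq_zero_or_pos N with hN0 | hNpos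
  · -- a single component
    obtain ⟨R, hR⟩ := exists_place_ne (hZ ⟨N, Nat.lt_succ_self N⟩) (Q ⟨N, Nat.lt_succ_self N⟩)
    have h1 := end_bound hZ hD hV hVr hcusp ⟨N, Nat.lt_succ_self N⟩ R (fun _ => Ne.symm hR)
    have h2 := half_le_wsum (hZ ⟨N, Nat.lt_succ_self N⟩) (hV _) (hD _) (hVr _) R
    have hfirst : (T.filter (fun i' : Fin (N + 1) => (i' : ℕ) < N)).card = 0 := by
      rw [Finset.card_eq_zero, Finset.filter_eq_empty_iff]
      intro i _
      omega
    rw [hfirst, zero_add] at hcard
    rw [hcard]
    omega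
  · have hL := backbone_left hZ hrat hD hV hVr hAB hcomp hQA hQB hcusp N (Nat.lt_succ_self N) hNpos
    have h1 := end_bound hZ hD hV hVr hcusp ⟨N, Nat.lt_succ_self N⟩ (A ⟨N, Nat.lt_succ_self N⟩)
      (fun hi => hQA _ hi hNpos)
    rw [hcard, mul_add]
    omega

end Groth.Agent.S18179
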