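import Groth.Statements.S18183
import Groth.Agent.Lib.helper16.FFBackbone
import Groth.Agent.Lib.helper16.FFPluecker

set_option autoImplicit false
open FunFld

namespace Groth.Agent.S18183

/-- Let `k` be an algebraically closed field of characteristic zero and `K/k` a function field of one
variable (the function field of a smooth projective curve over `k`). A `g^r_d` is a divisor `D` of
degree `d` with a subspace `V ⊆ L(D)` of dimension `r + 1`; for a place `P` and `n ≥ 0`, `V(-nP) = V
∩ L(D - nP)` is the space of members vanishing to order at least `n` at `P`, so `dim V(-nP)` counts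
the vanishing orders `m_0 < ⋯ < m_r` of `V` at `P` that are at least `n`, and the weight of `V` at
`P` is `∑_{n=1}^{d} dim V(-nP) - r(r+1)/2`. Aspects `(D_Y, V_Y)` on `K_Y` and `(D_Z, V_Z)` on `K_Z`
of a limit `g^r_d` on two components meeting in a node (a place `P` of `K_Y` and a place `Q` of
`K_Z`) are compatible there when `m_i(V_Y, P) + m_{r-i}(V_Z, Q) = d` for every `i`, equivalently
`dim V_Y(-nP) + dim V_Z(-(d+1-n)Q) = r + 1` for `0 ≤ n ≤ d + 1`. A backbone is a chain of rational
components `Z_0, …, Z_N` (function fields `K_i` of genus `0`), `Z_i` meeting `Z_{i+1}` in a node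
given by a place `B_i` of `K_i` and a place `A_{i+1}` of `K_{i+1}`, the two node places `A_i ≠ B_i`
of an inner component being distinct; each `Z_i` carries an aspect `(D_i, V_i)` of a limit `g^r_d`
and consecutive aspects are compatible at the nodes. A set `T` of indices marks the components
carrying a tail: for `i ∈ T` the aspect `V_i` has at least a cusp (`dim V_i(-2Q_i) ≥ r`) at a
further place `Q_i` of `K_i`, distinct from the node places of `Z_i`. (In the source these are the
backbone components of a flag curve to which a chain of rational curves ending in an elliptic tail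
is attached, `T` has `g` elements, and the cusp is forced by that chain.) Let `Q'` be a place of
some `Z_i` other than its node places and other than `Q_i` when `i ∈ T`. Then `w(V_i, Q') ≤
(r+1)(d-r) - r · |T|`, that is `∑_{j=1}^{d} dim V_i(-jQ') + r · |T| + r(r+1) ≤ (r+1)d + r(r+1)/2`.
Hence, when `|T| = g` and the moving-point Brill–Noether number `ρ = 1 + g - (r+1)(g+r-d) - ∑(m_i -
i)` is `≤ 0`, a point with vanishing sequence `(m_i)`, whose weight is then at least `(r+1)(d-r) -
rg + 1`, cannot lie on a backbone component away from the nodes; the source states this as: the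
limit of the ramification point lies on an elliptic tail. (The printed argument bounds such weights
only by `(r+1)(d-r) - r(g-1)`; the sharper bound here also uses that the aspect has weight at least
`r` at a cusp.) (The source states this for curves over the complex numbers.) -/
theorem result
    (k : Type*) [Field k] [IsAlgClosed k] [CharZero k]
    (N : ℕ) (Z : Fin (N + 1) → Type*) [∀ i, Field (Z i)] [∀ i, Algebra k (Z i)]
    (hZ : ∀ i, FunFld.IsFunctionField k (Z i)) (hrat : ∀ i, FunFld.genus k (Z i) = 0)
    (d r : ℕ) (D : ∀ i, FunFld.Divisor k (Z i)) (hD : ∀ i, (D i).deg = d)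
    (V : ∀ i, Submodule k (Z i)) (hV : ∀ i, V i ≤ FunFld.L (D i))
    (hVr : ∀ i, Module.finrank k ↥(V i) = r + 1)
    (A B : ∀ i, FunFld.Place k (Z i))
    (hAB : ∀ i : Fin (N + 1), 0 < (i : ℕ) → (i : ℕ) < N → A i ≠ B i)
    (hcomp : ∀ (l : Fin N) (m : ℕ), m ≤ d + 1 →
      Module.finrank k ↥((V l.castSucc) ⊓ FunFld.L ((D l.castSucc) - Finsupp.single (B l.castSucc) ((m : ℤ)))) +
        Module.finrank k ↥((V l.succ) ⊓ FunFld.L ((D l.succ) - Finsupp.single (A l.succ) ((d : ℤ) + 1 - m))) = r + 1)
    (T : Finset (Fin (N + 1))) (Q : ∀ i, FunFld.Place k (Z i))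
    (hQA : ∀ i ∈ T, 0 < (i : ℕ) → Q i ≠ A i) (hQB : ∀ i ∈ T, (i : ℕ) < N → Q i ≠ B i)
    (hcusp : ∀ i ∈ T, r ≤ Module.finrank k ↥((V i) ⊓ FunFld.L ((D i) - Finsupp.single (Q i) ((2 : ℤ)))))
    (i : Fin (N + 1)) (Q' : FunFld.Place k (Z i)) (hQ'A : 0 < (i : ℕ) → Q' ≠ A i)
    (hQ'B : (i : ℕ) < N → Q' ≠ B i) (hQ'Q : i ∈ T → Q' ≠ Q i) :
    (∑ j ∈ Finset.range d, Module.finrank k ↥((V i) ⊓ FunFld.L ((D i) - Finsupp.single Q' ((j : ℤ) + 1)))) + r * T.card + r * (r + 1) ≤
      (r + 1) * d + r * (r + 1) / 2 := by
  open Groth.Agent.Lib.helper16.FF in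
  classical
  have heven : r * (r + 1) = 2 * (r * (r + 1) / 2) := by
    obtain ⟨t, ht⟩ := Nat.even_mul_succ_self r
    omega
  have hcard : T.card = (T.filter (fun i' : Fin (N + 1) => (i' : ℕ) < (i : ℕ))).card +
      (if i ∈ T then 1 else 0) + (T.filter (fun i' : Fin (N + 1) => (i : ℕ) < (i' : ℕ))).card :=
    card_eq_filter_add T i
  -- lower bounds at the special points
  have hLA : 0 < (i : ℕ) →
      r * (T.filter (fun i' : Fin (N + 1) => (i' : ℕ) < (i : ℕ))).card + r * (r + 1) / 2 ≤
        wsum d (V i) (D i) (A i) := fun h0 =>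
    backbone_left hZ hrat hD hV hVr hAB hcomp hQA hQB hcusp i.1 i.2 h0
  have hLB : (i : ℕ) < N →
      r * (T.filter (fun i' : Fin (N + 1) => (i : ℕ) < (i' : ℕ))).card + r * (r + 1) / 2 ≤
        wsum d (V i) (D i) (B i) := fun hN =>
    backbone_right hZ hrat hD hV hVr hAB hcomp hQA hQB hcusp (N - i.1 - 1) i.1 i.2 (by omega)
  have hLQ : i ∈ T → r * (r + 1) / 2 + r ≤ wsum d (V i) (D i) (Q i) := fun hT =>
    half_add_le_wsum_of_cusp (hZ i) (hV i) (hD i) (hVr i) (Q i) (hcusp i hT)
  have hL0 : ¬ 0 < (i : ℕ) → (T.filter (fun i' : Fin (N + 1) => (i' : ℕ) < (i : ℕ))).card = 0 := by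
    intro h0
    rw [Finset.card_eq_zero, Finset.filter_eq_empty_iff]
    intro j _
    omega
  have hR0 : ¬ (i : ℕ) < N → (T.filter (fun i' : Fin (N + 1) => (i : ℕ) < (i' : ℕ))).card = 0 := by
    intro hN
    rw [Finset.card_eq_zero, Finset.filter_eq_empty_iff]
    intro j _
    have := j.2
    omega
  have hpl := fun (l : List (FunFld.Place k (Z i))) (hl : l.Nodup) =>
    pluecker_list (hZ i) (hrat i) (hV i) (hD i) (hVr i) l hl
  show wsum d (V i) (D i) Q' + r * T.card + r * (r + 1) ≤ (r + 1) * d + r * (r + 1) / 2
  rw [hcard, mul_add, mul_add]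
  by_cases h0 : 0 < (i : ℕ) <;> by_cases hN : (i : ℕ) < N <;> by_cases hT : i ∈ T
  · have h1 := hpl [Q', A i, B i, Q i] (by
      simp only [List.nodup_cons, List.mem_cons, List.not_mem_nil, or_false, not_or,
        List.nodup_nil, and_true, not_false_eq_true]
      exact ⟨⟨hQ'A h0, hQ'B hN, hQ'Q hT⟩, ⟨hAB i h0 hN, Ne.symm (hQA i hT h0)⟩,
        Ne.symm (hQB i hT hN)⟩)
    simp only [List.map_cons, List.map_nil, List.sum_cons, List.sum_nil, List.length_cons,
      List.length_nil] at h1
    have := hLA h0; have := hLB hN; have := hLQ hT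
    rw [if_pos hT]
    omega
  · have h1 := hpl [Q', A i, B i] (by
      simp only [List.nodup_cons, List.mem_cons, List.not_mem_nil, or_false, not_or,
        List.nodup_nil, and_true, not_false_eq_true]
      exact ⟨⟨hQ'A h0, hQ'B hN⟩, hAB i h0 hN⟩)
    simp only [List.map_cons, List.map_nil, List.sum_cons, List.sum_nil, List.length_cons,
      List.length_nil] at h1
    have := hLA h0; have := hLB hN
    rw [if_neg hT]
    omega
  · have h1 := hpl [Q', A i, Q i] (by
      simp only [List.nodup_cons, List.mem_cons, List.not_mem_nil, or_false, not_or,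
        List.nodup_nil, and_true, not_false_eq_true]
      exact ⟨⟨hQ'A h0, hQ'Q hT⟩, Ne.symm (hQA i hT h0)⟩)
    simp only [List.map_cons, List.map_nil, List.sum_cons, List.sum_nil, List.length_cons,
      List.length_nil] at h1
    have := hLA h0; have := hLQ hT
    rw [if_pos hT, hR0 hN, mul_zero]
    omega
  · have h1 := hpl [Q', A i] (by
      simp only [List.nodup_cons, List.mem_cons, List.not_mem_nil, or_false, not_or,
        List.nodup_nil, and_true, not_false_eq_true]
      exact hQ'A h0)
    simp only [List.map_cons, List.map_nil, List.sum_cons, List.sum_nil, List.length_cons,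
      List.length_nil] at h1
    have := hLA h0
    rw [if_neg hT, hR0 hN, mul_zero]
    omega
  · have h1 := hpl [Q', B i, Q i] (by
      simp only [List.nodup_cons, List.mem_cons, List.not_mem_nil, or_false, not_or,
        List.nodup_nil, and_true, not_false_eq_true]
      exact ⟨⟨hQ'B hN, hQ'Q hT⟩, Ne.symm (hQB i hT hN)⟩)
    simp only [List.map_cons, List.map_nil, List.sum_cons, List.sum_nil, List.length_cons,
      List.length_nil] at h1
    have := hLB hN; have := hLQ hT
    rw [if_pos hT, hL0 h0, mul_zero]
    omega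
  · have h1 := hpl [Q', B i] (by
      simp only [List.nodup_cons, List.mem_cons, List.not_mem_nil, or_false, not_or,
        List.nodup_nil, and_true, not_false_eq_true]
      exact hQ'B hN)
    simp only [List.map_cons, List.map_nil, List.sum_cons, List.sum_nil, List.length_cons,
      List.length_nil] at h1
    have := hLB hN
    rw [if_neg hT, hL0 h0, mul_zero]
    omega
  · have h1 := hpl [Q', Q i] (by
      simp only [List.nodup_cons, List.mem_cons, List.not_mem_nil, or_false, not_or,
        List.nodup_nil, and_true, not_false_eq_true]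
      exact hQ'Q hT)
    simp only [List.map_cons, List.map_nil, List.sum_cons, List.sum_nil, List.length_cons,
      List.length_nil] at h1
    have := hLQ hT
    rw [if_pos hT, hL0 h0, hR0 hN, mul_zero]
    omega
  · have h1 := hpl [Q'] (by simp)
    simp only [List.map_cons, List.map_nil, List.sum_cons, List.sum_nil, List.length_cons,
      List.length_nil] at h1
    rw [if_neg hT, hL0 h0, hR0 hN, mul_zero]
    omega

end Groth.Agent.S18183
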