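import Groth.Statements.S18185
import Groth.Agent.Lib.helper16.FFChain
import Groth.Agent.S18184

set_option autoImplicit false
open FunFld

namespace Groth.Agent.S18185

/-- Let `k` be an algebraically closed field of characteristic zero and `K/k` a function field of one
variable (the function field of a smooth projective curve over `k`). A `g^r_d` is a divisor `D` of
degree `d` with a subspace `V ⊆ L(D)` of dimension `r + 1`; for a place `P` and `n ≥ 0`, `V(-nP) = V
∩ L(D - nP)` is the space of members vanishing to order at least `n` at `P`, so `dim V(-nP)` counts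
the vanishing orders `m_0 < ⋯ < m_r` of `V` at `P` that are at least `n`, and the weight of `V` at
`P` is `∑_{n=1}^{d} dim V(-nP) - r(r+1)/2`. Aspects `(D_Y, V_Y)` on `K_Y` and `(D_Z, V_Z)` on `K_Z`
of a limit `g^r_d` on two components meeting in a node (a place `P` of `K_Y` and a place `Q` of
`K_Z`) are compatible there when `m_i(V_Y, P) + m_{r-i}(V_Z, Q) = d` for every `i`, equivalently
`dim V_Y(-nP) + dim V_Z(-(d+1-n)Q) = r + 1` for `0 ≤ n ≤ d + 1`. Consider a chain of components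
`U_0, U_1, …, U_n` (`n ≥ 1`; function fields `K_l`), `U_l` meeting `U_{l+1}` in a node given by
places `B_l` of `K_l` and `A_{l+1}` of `K_{l+1}`, with `A_l ≠ B_l` on the inner components `U_1, …,
U_{n-1}`, which have genus `0`; each `U_l` carries an aspect `(D_l, V_l)` of a limit `g^r_d`,
consecutive aspects compatible at the nodes, and the weight of `V_0` at `B_0` is at most `(r+1)(d-r)
- c`. (In the source `U_0` is a backbone component of a flag curve with `g` tails, `U_1, …, U_{n-1}`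
the chain of rational curves attached to it at `B_0`, `U_n` the elliptic tail, and `c = r(g-1)`, the
weight bound at `B_0` being the one established for backbone components.) Assume moreover that `U_n`
has positive genus. Then at every place `Q'` of an inner component `U_l` (`0 < l < n`) other than
`A_l, B_l`, the weight of `V_l` is at most `(r+1)(d-r) - c - r`: `∑_{j=1}^{d} dim V_l(-jQ') + c + r
+ r(r+1) ≤ (r+1)d + r(r+1)/2`. With `c = r(g-1)` this is `(r+1)(d-r) - rg`, so when `ρ ≤ 0` the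
limit of the moving ramification point (weight `≥ (r+1)(d-r) - rg + 1`) is not on the chain curves
either. (The printed argument bounds such weights only by `(r+1)(d-r) - r(g-1)`; the extra `r` comes
from the cusp that `V_l` has at `B_l`.) (The source states this for curves over the complex
numbers.) -/
theorem result
    (k : Type*) [Field k] [IsAlgClosed k] [CharZero k]
    (n : ℕ) (hn : 0 < n) (U : Fin (n + 1) → Type*) [∀ l, Field (U l)] [∀ l, Algebra k (U l)]
    (hU : ∀ l, FunFld.IsFunctionField k (U l))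
    (hrat : ∀ l : Fin (n + 1), 0 < (l : ℕ) → (l : ℕ) < n → FunFld.genus k (U l) = 0)
    (d r : ℕ) (D : ∀ l, FunFld.Divisor k (U l)) (hD : ∀ l, (D l).deg = d)
    (V : ∀ l, Submodule k (U l)) (hV : ∀ l, V l ≤ FunFld.L (D l))
    (hVr : ∀ l, Module.finrank k ↥(V l) = r + 1)
    (A B : ∀ l, FunFld.Place k (U l))
    (hAB : ∀ l : Fin (n + 1), 0 < (l : ℕ) → (l : ℕ) < n → A l ≠ B l)
    (hcomp : ∀ (l : Fin n) (m : ℕ), m ≤ d + 1 →
      Module.finrank k ↥((V l.castSucc) ⊓ FunFld.L ((D l.castSucc) - Finsupp.single (B l.castSucc) ((m : ℤ)))) +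
        Module.finrank k ↥((V l.succ) ⊓ FunFld.L ((D l.succ) - Finsupp.single (A l.succ) ((d : ℤ) + 1 - m))) = r + 1)
    (c : ℕ) (hc : (∑ j ∈ Finset.range d, Module.finrank k ↥((V 0) ⊓ FunFld.L ((D 0) - Finsupp.single (B 0) ((j : ℤ) + 1)))) + c + r * (r + 1) ≤ (r + 1) * d + r * (r + 1) / 2)
    (hpos : 0 < FunFld.genus k (U (Fin.last n)))
    (l : Fin (n + 1)) (hl0 : 0 < (l : ℕ)) (hln : (l : ℕ) < n)
    (Q' : FunFld.Place k (U l)) (hQ'A : Q' ≠ A l) (hQ'B : Q' ≠ B l) :
    (∑ j ∈ Finset.range d, Module.finrank k ↥((V l) ⊓ FunFld.L ((D l) - Finsupp.single Q' ((j : ℤ) + 1)))) + c + r + r * (r + 1) ≤ (r + 1) * d + r * (r + 1) / 2 := by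
  open Groth.Agent.Lib.helper16.FF in
  have heven : r * (r + 1) = 2 * (r * (r + 1) / 2) := by
    obtain ⟨t, ht⟩ := Nat.even_mul_succ_self r
    omega
  obtain ⟨lv, hlv⟩ := l
  obtain ⟨l', rfl⟩ : ∃ l', lv = l' + 1 := ⟨lv - 1, by
    have : 0 < lv := hl0
    omega⟩
  have hln' : l' + 1 < n := hln
  have h1 : c + r * (r + 1) / 2 ≤ wsum d (V ⟨l' + 1, hlv⟩) (D ⟨l' + 1, hlv⟩) (A ⟨l' + 1, hlv⟩) :=
    Groth.Agent.S18184.result k n hn U hU hrat d r D hD V hV hVr A B hAB hcomp c hc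
      ⟨l' + 1, hlv⟩ hl0
  -- the cusp at `B_l`
  have hcusp : r ≤ Module.finrank k ↥((V ⟨l' + 1, hlv⟩) ⊓
      FunFld.L ((D ⟨l' + 1, hlv⟩) - Finsupp.single (B ⟨l' + 1, hlv⟩) (2 : ℤ))) := by
    rcases Nat.eq_zero_or_pos d with hd0 | hdpos
    · have := le_deg_of_finrank (hU ⟨l' + 1, hlv⟩) (hV _) (hD _) (hVr _)
      have hr0 : r = 0 := by omega
      rw [hr0]
      exact Nat.zero_le _
    · have claim2 : ∀ (t j : ℕ) (hj : j < n + 1), 0 < j → j + t = n →
          Module.finrank k ↥((V ⟨j, hj⟩) ⊓ FunFld.L ((D ⟨j, hj⟩) -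
            Finsupp.single (A ⟨j, hj⟩) ((d : ℤ) + 1 - ((2 : ℕ) : ℤ)))) ≤ 1 := by
        intro t
        induction t with
        | zero =>
          intro j hj hj0 hjn
          have hjn' : j = n := by omega
          subst hjn'
          refine le_trans (finrank_inf_L_le_ell (hU ⟨j, hj⟩) _ _) ?_
          apply ell_le_one_of_deg_eq_one (hU ⟨j, hj⟩) hpos
          rw [deg_sub, deg_single, hD, deg_eq_one_of_isAlgClosed (hU ⟨j, hj⟩)]
          push_cast
          ring
        | succ t ih =>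
          intro j hj hj0 hjn
          have hj1 : j + 1 < n + 1 := by omega
          have ih' := ih (j + 1) hj1 (by omega) (by omega)
          have hc2 : Module.finrank k ↥((V ⟨j, hj⟩) ⊓ FunFld.L ((D ⟨j, hj⟩) -
                Finsupp.single (B ⟨j, hj⟩) (((2 : ℕ) : ℤ)))) +
              Module.finrank k ↥((V ⟨j + 1, hj1⟩) ⊓ FunFld.L ((D ⟨j + 1, hj1⟩) -
                Finsupp.single (A ⟨j + 1, hj1⟩) ((d : ℤ) + 1 - ((2 : ℕ) : ℤ)))) = r + 1 :=
            hcomp ⟨j, by omega⟩ 2 (by omega)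
          have hle := Groth.Agent.Lib.helper16.FF.finrank_add_finrank_le (hU ⟨j, hj⟩) (hV ⟨j, hj⟩)
            (hAB ⟨j, hj⟩ hj0 (show j < n by omega)) (deg_eq_one_of_isAlgClosed (hU ⟨j, hj⟩) _)
            (deg_eq_one_of_isAlgClosed (hU ⟨j, hj⟩) _)
            (n := (d : ℤ) + 1 - ((2 : ℕ) : ℤ)) (m := ((2 : ℕ) : ℤ))
            (by push_cast; omega) (by positivity) (by rw [hD]; push_cast; omega)
          rw [hVr] at hle
          omega
      have hj2 : l' + 1 + 1 < n + 1 := by omega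
      have h2 := claim2 (n - (l' + 1 + 1)) (l' + 1 + 1) hj2 (by omega) (by omega)
      have hc2 : Module.finrank k ↥((V ⟨l' + 1, hlv⟩) ⊓ FunFld.L ((D ⟨l' + 1, hlv⟩) -
            Finsupp.single (B ⟨l' + 1, hlv⟩) (((2 : ℕ) : ℤ)))) +
          Module.finrank k ↥((V ⟨l' + 1 + 1, hj2⟩) ⊓ FunFld.L ((D ⟨l' + 1 + 1, hj2⟩) -
            Finsupp.single (A ⟨l' + 1 + 1, hj2⟩) ((d : ℤ) + 1 - ((2 : ℕ) : ℤ)))) = r + 1 :=
        hcomp ⟨l' + 1, hln'⟩ 2 (by omega)
      have e : ((2 : ℕ) : ℤ) = (2 : ℤ) := by norm_num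
      rw [e] at hc2 h2
      omega
  have hcompat : Compat d r (V ⟨l', by omega⟩) (D ⟨l', by omega⟩) (B ⟨l', by omega⟩)
      (V ⟨l' + 1, hlv⟩) (D ⟨l' + 1, hlv⟩) (A ⟨l' + 1, hlv⟩) := hcomp ⟨l', by omega⟩
  have h3 := hcompat.symm.three_point_cusp (hU _) (hrat ⟨l' + 1, hlv⟩ hl0 hln) (hV _) (hD _)
    (hVr _) (hU _) (hV _) (hD _) (hVr _) hcusp (hAB ⟨l' + 1, hlv⟩ hl0 hln) hQ'A hQ'B
  show wsum d (V ⟨l' + 1, hlv⟩) (D ⟨l' + 1, hlv⟩) Q' + c + r + r * (r + 1) ≤
    (r + 1) * d + r * (r + 1) / 2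
  omega

end Groth.Agent.S18185
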