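import Groth.Statements.S18188
import Mathlib

set_option autoImplicit false
universe u
open OrbRR

namespace Groth.Agent.S18188

/-- Let K be a field in which 6 ≠ 0, let j < N be natural numbers (so N ≥ 1), and let ζ ∈ K be a
primitive N-th root of unity. Then the sum over i = 1, …, N − 1 of ζ^{ij} / (2 − ζ^i − ζ^{−i})
equals j(j − N)/2 + (N² − 1)/12. (The published setting is characteristic zero; the identity is
stated here over any field of characteristic different from 2 and 3, where the published proof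
applies unchanged: a field containing a primitive N-th root of unity has characteristic prime to N,
and each denominator 2 − ζ^i − ζ^{−i} = −(1 − ζ^i)²/ζ^i with 0 < i < N is nonzero. In
characteristics 2 and 3 the right-hand side has no meaning.) -/
theorem result (K : Type u) [Field K] (h6 : (6 : K) ≠ 0)
    (N j : ℕ) (hj : j < N) (ζ : K) (hζ : IsPrimitiveRoot ζ N) :
    ∑ i ∈ Finset.Ioo 0 N, ζ ^ (i * j) / (2 - ζ ^ i - (ζ ^ i)⁻¹) =
      (j : K) * ((j : K) - (N : K)) / 2 + ((N : K) ^ 2 - 1) / 12 := by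
  classical
  have h2 : (2 : K) ≠ 0 := fun h => h6 (by rw [show (6 : K) = 2 * 3 by norm_num, h, zero_mul])
  have h3 : (3 : K) ≠ 0 := fun h => h6 (by rw [show (6 : K) = 2 * 3 by norm_num, h, mul_zero])
  have h12 : (12 : K) ≠ 0 := by
    rw [show (12 : K) = 2 * 6 by norm_num]; exact mul_ne_zero h2 h6
  have h4 : (4 : K) ≠ 0 := by
    rw [show (4 : K) = 2 * 2 by norm_num]; exact mul_ne_zero h2 h2
  have hNpos : 0 < N := by omega
  haveI : NeZero N := ⟨by omega⟩
  have hNK : (N : K) ≠ 0 := (hζ.neZero' (R := K)).out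
  have hζ0 : ζ ≠ 0 := hζ.ne_zero (by omega)
  -- the denominators
  have hd : ∀ i ∈ Finset.Ioo 0 N, 2 - ζ ^ i - (ζ ^ i)⁻¹ ≠ 0 := by
    intro i hi
    rw [Finset.mem_Ioo] at hi
    have h1 : ζ ^ i ≠ 1 := hζ.pow_ne_one_of_pos_of_lt (by omega) hi.2
    have h0 : ζ ^ i ≠ 0 := pow_ne_zero _ hζ0
    have : 2 - ζ ^ i - (ζ ^ i)⁻¹ = -((1 - ζ ^ i) ^ 2 * (ζ ^ i)⁻¹) := by
      field_simp; ring
    rw [this]
    exact neg_ne_zero.mpr (mul_ne_zero (pow_ne_zero _ (sub_ne_zero.mpr (Ne.symm h1)))
      (inv_ne_zero h0))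
  set g : ℕ → K := fun j => ∑ i ∈ Finset.Ioo 0 N, ζ ^ (i * j) / (2 - ζ ^ i - (ζ ^ i)⁻¹) with hg
  set hh : ℕ → K := fun j => (j : K) * ((j : K) - (N : K)) / 2 + ((N : K) ^ 2 - 1) / 12 with hhh
  set δ : ℕ → K := fun j => g j - hh j with hδ
  -- geometric sums
  have hgeom : ∀ x : K, x ≠ 1 → x ^ N = 1 → ∑ i ∈ Finset.Ioo 0 N, x ^ i = -1 := by
    intro x hx hxN
    have h1 : ∑ i ∈ Finset.range N, x ^ i = 0 := by
      rw [geom_sum_eq hx, hxN, sub_self, zero_div]
    have h2 : Finset.range N = insert 0 (Finset.Ioo 0 N) := by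
      ext i; simp only [Finset.mem_range, Finset.mem_insert, Finset.mem_Ioo]; omega
    rw [h2, Finset.sum_insert (by simp), pow_zero] at h1
    linear_combination h1
  -- second difference of g
  have hg2 : ∀ j, j + 2 ≤ N → g (j + 2) - 2 * g (j + 1) + g j = 1 := by
    intro j hj2
    have : g (j + 2) - 2 * g (j + 1) + g j = -∑ i ∈ Finset.Ioo 0 N, (ζ ^ (j + 1)) ^ i := by
      simp only [hg]
      rw [Finset.mul_sum, ← Finset.sum_sub_distrib, ← Finset.sum_add_distrib, ← Finset.sum_neg_distrib]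
      refine Finset.sum_congr rfl fun i hi => ?_
      have hdi := hd i hi
      have h0 : ζ ^ i ≠ 0 := pow_ne_zero _ hζ0
      have e1 : ζ ^ (i * (j + 2)) = ζ ^ (i * j) * (ζ ^ i) ^ 2 := by
        rw [← pow_mul, ← pow_add]; ring_nf
      have e2 : ζ ^ (i * (j + 1)) = ζ ^ (i * j) * ζ ^ i := by
        rw [← pow_add]; ring_nf
      have e3 : (ζ ^ (j + 1)) ^ i = ζ ^ (i * j) * ζ ^ i := by
        rw [← pow_mul, ← pow_add]; ring_nf
      rw [e1, e2, e3]
      have key : ((ζ ^ i) ^ 2 - 2 * ζ ^ i + 1) / (2 - ζ ^ i - (ζ ^ i)⁻¹) = -(ζ ^ i) := by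
        rw [div_eq_iff hdi]; field_simp; ring
      have : ζ ^ (i * j) * (ζ ^ i) ^ 2 / (2 - ζ ^ i - (ζ ^ i)⁻¹)
          - 2 * (ζ ^ (i * j) * ζ ^ i / (2 - ζ ^ i - (ζ ^ i)⁻¹))
          + ζ ^ (i * j) / (2 - ζ ^ i - (ζ ^ i)⁻¹)
          = ζ ^ (i * j) * (((ζ ^ i) ^ 2 - 2 * ζ ^ i + 1) / (2 - ζ ^ i - (ζ ^ i)⁻¹)) := by ring
      rw [this, key]; ring
    rw [this, hgeom]
    · ring
    · exact hζ.pow_ne_one_of_pos_of_lt (by omega) (by omega)
    · rw [← pow_mul, mul_comm, pow_mul, hζ.pow_eq_one, one_pow]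
  have hh2 : ∀ j, hh (j + 2) - 2 * hh (j + 1) + hh j = 1 := by
    intro j
    simp only [hhh]
    push_cast
    field_simp
    ring
  have hδ2 : ∀ j, j + 2 ≤ N → δ (j + 2) = 2 * δ (j + 1) - δ j := by
    intro j hj2
    have a := hg2 j hj2
    have b := hh2 j
    simp only [hδ]
    linear_combination a - b
  -- δ is affine
  have haff : ∀ j, j ≤ N → δ j = δ 0 + (j : K) * (δ 1 - δ 0) := by
    intro j
    induction j using Nat.strong_induction_on with
    | _ j ih =>
      intro hjN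
      match j with
      | 0 => simp
      | 1 => simp
      | (j + 2) =>
        rw [hδ2 j hjN, ih (j + 1) (by omega) (by omega), ih j (by omega) (by omega)]
        push_cast; ring
  -- periodicity
  have hgN : g N = g 0 := by
    simp only [hg]
    refine Finset.sum_congr rfl fun i _ => ?_
    rw [mul_comm, pow_mul, hζ.pow_eq_one, one_pow, mul_zero, pow_zero]
  have hhN : hh N = hh 0 := by simp only [hhh]; push_cast; ring
  have hc : δ 1 - δ 0 = 0 := by
    have := haff N le_rfl
    have hδN : δ N = δ 0 := by simp only [hδ]; rw [hgN, hhN]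
    rw [hδN] at this
    have : (N : K) * (δ 1 - δ 0) = 0 := by linear_combination -this
    exact (mul_eq_zero.mp this).resolve_left hNK
  have hconst : ∀ j, j ≤ N → δ j = δ 0 := by
    intro j hj; rw [haff j hj, hc]; ring
  -- sums
  have hsumg : ∑ j ∈ Finset.range N, g j = 0 := by
    simp only [hg]
    rw [Finset.sum_comm]
    apply Finset.sum_eq_zero
    intro i hi
    rw [← Finset.sum_div]
    have : ∑ j ∈ Finset.range N, ζ ^ (i * j) = 0 := by
      have h1 : ζ ^ i ≠ 1 := by
        rw [Finset.mem_Ioo] at hi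
        exact hζ.pow_ne_one_of_pos_of_lt (by omega) hi.2
      have : ∑ j ∈ Finset.range N, ζ ^ (i * j) = ∑ j ∈ Finset.range N, (ζ ^ i) ^ j := by
        refine Finset.sum_congr rfl fun j _ => ?_
        rw [pow_mul]
      rw [this, geom_sum_eq h1, ← pow_mul, mul_comm, pow_mul, hζ.pow_eq_one, one_pow, sub_self,
        zero_div]
    rw [this, zero_div]
  have hsumh : ∀ n : ℕ, ∑ j ∈ Finset.range n, hh j
      = (n : K) * ((n : K) - 1) * (2 * (n : K) - 1) / 12 - (N : K) * (n : K) * ((n : K) - 1) / 4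
        + (n : K) * ((N : K) ^ 2 - 1) / 12 := by
    intro n
    induction n with
    | zero => simp
    | succ n ih =>
      rw [Finset.sum_range_succ, ih]
      simp only [hhh]
      push_cast
      field_simp
      ring
  have hsumh0 : ∑ j ∈ Finset.range N, hh j = 0 := by
    rw [hsumh N]; field_simp; ring
  have hδ0 : δ 0 = 0 := by
    have : ∑ j ∈ Finset.range N, δ j = 0 := by
      simp only [hδ]
      rw [Finset.sum_sub_distrib, hsumg, hsumh0, sub_zero]
    have h2 : ∑ j ∈ Finset.range N, δ j = (N : K) * δ 0 := by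
      rw [Finset.sum_congr rfl (fun j hj => hconst j (le_of_lt (Finset.mem_range.mp hj)))]
      simp
    rw [h2] at this
    exact (mul_eq_zero.mp this).resolve_left hNK
  have := hconst j (le_of_lt hj)
  rw [hδ0] at this
  simp only [hδ, hg, hhh] at this
  exact sub_eq_zero.mp this

end Groth.Agent.S18188
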