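import Groth.Statements.S18189
import Mathlib
import Groth.Agent.S18188

set_option autoImplicit false
open OrbRR

namespace Groth.Agent.S18189

/-- Let N ≥ 1 be a natural number, let ζ ∈ ℂ be a primitive N-th root of unity, and put f(i) = i(i −
N)/2 + (N² − 1)/12 for 0 ≤ i < N. For every natural number m the complex number ε_m = (1/N)
∑_{i=0}^{N−1} f(i) ζ^{mi}, an eigenvalue of the symmetric circulant N × N matrix with (i, j) entry
f(j − i)/N, is real and nonnegative. -/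
theorem result (N : ℕ) (hN : 0 < N) (ζ : ℂ)
    (hζ : IsPrimitiveRoot ζ N) (m : ℕ) :
    (∑ i ∈ Finset.range N,
        ((i : ℂ) * ((i : ℂ) - (N : ℂ)) / 2 + ((N : ℂ) ^ 2 - 1) / 12) / (N : ℂ) * ζ ^ (m * i)).im = 0 ∧
    0 ≤ (∑ i ∈ Finset.range N,
        ((i : ℂ) * ((i : ℂ) - (N : ℂ)) / 2 + ((N : ℂ) ^ 2 - 1) / 12) / (N : ℂ) * ζ ^ (m * i)).re := by
  classical
  have hNC : (N : ℂ) ≠ 0 := by exact_mod_cast hN.ne'
  have h6 : (6 : ℂ) ≠ 0 := by norm_num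
  have hnorm : ‖ζ‖ = 1 := hζ.norm'_eq_one hN.ne'
  -- rewrite f via S18188
  have hf : ∀ i ∈ Finset.range N,
      ((i : ℂ) * ((i : ℂ) - (N : ℂ)) / 2 + ((N : ℂ) ^ 2 - 1) / 12)
        = ∑ l ∈ Finset.Ioo 0 N, ζ ^ (l * i) / (2 - ζ ^ l - (ζ ^ l)⁻¹) := by
    intro i hi
    exact (Groth.Agent.S18188.result ℂ h6 N i (Finset.mem_range.mp hi) ζ hζ).symm
  have htotal : (∑ i ∈ Finset.range N,
        ((i : ℂ) * ((i : ℂ) - (N : ℂ)) / 2 + ((N : ℂ) ^ 2 - 1) / 12) / (N : ℂ) * ζ ^ (m * i))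
      = ∑ l ∈ Finset.Ioo 0 N,
          if ζ ^ (l + m) = 1 then (2 - ζ ^ l - (ζ ^ l)⁻¹)⁻¹ else 0 := by
    rw [Finset.sum_congr rfl (fun i hi => by rw [hf i hi])]
    simp only [Finset.sum_div, Finset.sum_mul]
    rw [Finset.sum_comm]
    refine Finset.sum_congr rfl fun l _ => ?_
    have : ∀ i ∈ Finset.range N, ζ ^ (l * i) / (2 - ζ ^ l - (ζ ^ l)⁻¹) / (N : ℂ) * ζ ^ (m * i)
        = (2 - ζ ^ l - (ζ ^ l)⁻¹)⁻¹ / (N : ℂ) * (ζ ^ (l + m)) ^ i := by
      intro i _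
      rw [← pow_mul, add_mul, pow_add]; ring
    rw [Finset.sum_congr rfl this, ← Finset.mul_sum]
    split_ifs with h1
    · rw [h1]; simp only [one_pow, Finset.sum_const, Finset.card_range, nsmul_eq_mul, mul_one]
      field_simp
    · have hpow : (ζ ^ (l + m)) ^ N = 1 := by
        rw [← pow_mul, mul_comm, pow_mul, hζ.pow_eq_one, one_pow]
      rw [geom_sum_eq h1, hpow, sub_self, zero_div]
      simp
  rw [htotal]
  have hterm : ∀ l : ℕ, ((if ζ ^ (l + m) = 1 then (2 - ζ ^ l - (ζ ^ l)⁻¹)⁻¹ else 0 : ℂ)).im = 0 ∧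
      0 ≤ ((if ζ ^ (l + m) = 1 then (2 - ζ ^ l - (ζ ^ l)⁻¹)⁻¹ else 0 : ℂ)).re := by
    intro l
    split_ifs
    · have hz : ‖ζ ^ l‖ = 1 := by rw [norm_pow, hnorm, one_pow]
      have hinv : (ζ ^ l)⁻¹ = (starRingEnd ℂ) (ζ ^ l) := Complex.inv_eq_conj hz
      have hd : (2 - ζ ^ l - (ζ ^ l)⁻¹) = ((2 - 2 * (ζ ^ l).re : ℝ) : ℂ) := by
        rw [hinv]
        generalize ζ ^ l = z
        apply Complex.ext
        · simp; ring
        · simp
      have hr : 0 ≤ 2 - 2 * (ζ ^ l).re := by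
        have := Complex.re_le_norm (ζ ^ l)
        rw [hz] at this
        linarith
      rw [hd, ← Complex.ofReal_inv]
      exact ⟨Complex.ofReal_im _, by rw [Complex.ofReal_re]; exact inv_nonneg.mpr hr⟩
    · simp
  constructor
  · rw [Complex.im_sum]
    exact Finset.sum_eq_zero fun l _ => (hterm l).1
  · rw [Complex.re_sum]
    exact Finset.sum_nonneg fun l _ => (hterm l).2

end Groth.Agent.S18189
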