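import Mathlib
import Groth.Statements.S18190
-- import your own Groth.Agent.* helpers here

set_option autoImplicit false
open OrbRR

namespace Groth.Agent.S18190

noncomputable def f (N : ℕ) (t : ℝ) : ℝ := (t * (t - N) / 2 + ((N : ℝ) ^ 2 - 1) / 12) / N

noncomputable def F (N : ℕ) (z : ZMod N) : ℝ := f N (z.val)

lemma f_symm (N : ℕ) (t : ℝ) : f N (N - t) = f N t := by unfold f; ring

lemma f_zero_eq (N : ℕ) : f N 0 = f N N := by unfold f; ring

lemma f_diff (N : ℕ) [NeZero N] (t : ℝ) : 2 * f N t - f N (t + 1) - f N (t - 1) = -1 / N := by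
  have hN : (N : ℝ) ≠ 0 := Nat.cast_ne_zero.mpr (NeZero.ne N)
  unfold f; field_simp; ring

lemma f_neg_one (N : ℕ) [NeZero N] : f N (N - 1) = f N (-1) - 1 := by
  have hN : (N : ℝ) ≠ 0 := Nat.cast_ne_zero.mpr (NeZero.ne N)
  unfold f; field_simp; ring

lemma F_neg (N : ℕ) [NeZero N] (z : ZMod N) : F N (-z) = F N z := by
  unfold F
  rw [ZMod.neg_val]
  split_ifs with h
  · subst h; simp
  · rw [Nat.cast_sub (ZMod.val_lt z).le]
    exact f_symm N _

lemma F_add_one (N : ℕ) [NeZero N] (z : ZMod N) : F N (z + 1) = f N (z.val + 1) := by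
  unfold F
  rw [ZMod.val_add, ZMod.val_one_eq_one_mod, Nat.add_mod_mod]
  have h := ZMod.val_lt z
  by_cases h1 : z.val + 1 < N
  · rw [Nat.mod_eq_of_lt h1]; push_cast; rfl
  · have h2 : z.val + 1 = N := by omega
    rw [h2, Nat.mod_self]
    have h3 : (z.val : ℝ) + 1 = N := by exact_mod_cast h2
    rw [h3]; simpa using f_zero_eq N

lemma F_sub_one (N : ℕ) [NeZero N] (z : ZMod N) :
    F N (z - 1) = f N (z.val - 1) - if z = 0 then 1 else 0 := by
  have hN1 : 1 ≤ N := NeZero.one_le
  have e : z - 1 = z + ((N - 1 : ℕ) : ZMod N) := by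
    rw [Nat.cast_sub hN1, ZMod.natCast_self, Nat.cast_one]; ring
  unfold F
  rw [e, ZMod.val_add, ZMod.val_natCast, Nat.add_mod_mod]
  split_ifs with h0
  · subst h0
    simp only [ZMod.val_zero, zero_add]
    rw [Nat.mod_eq_of_lt (by omega), Nat.cast_sub hN1]
    push_cast
    rw [f_neg_one]
    norm_num
  · have hv : 0 < z.val := by
      rw [pos_iff_ne_zero, ne_eq, ZMod.val_eq_zero]; exact h0
    have h := ZMod.val_lt z
    have h2 : (z.val + (N - 1)) % N = z.val - 1 := by
      have : z.val + (N - 1) = (z.val - 1) + N := by omega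
      rw [this, Nat.add_mod_right, Nat.mod_eq_of_lt (by omega)]
    rw [h2, Nat.cast_sub hv]
    simp

lemma sum_range_aux (N : ℕ) (c : ℝ) (m : ℕ) :
    ∑ v ∈ Finset.range m, (((v : ℝ) * (v - N)) / 2 + c)
      = ((m : ℝ) - 1) * m * (2 * m - 1) / 12 - N * m * (m - 1) / 4 + c * m := by
  induction m with
  | zero => simp
  | succ m ih =>
    rw [Finset.sum_range_succ, ih]
    push_cast
    ring

lemma sum_F (N : ℕ) [NeZero N] : ∑ z : ZMod N, F N z = 0 := by
  obtain ⟨n, rfl⟩ := Nat.exists_eq_succ_of_ne_zero (NeZero.ne N)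
  have hN : ((n + 1 : ℕ) : ℝ) ≠ 0 := Nat.cast_ne_zero.mpr (Nat.succ_ne_zero n)
  change ∑ z : Fin (n + 1), f (n + 1) ((z : ℕ) : ℝ) = 0
  rw [Fin.sum_univ_eq_sum_range (fun v => f (n + 1) (v : ℝ)) (n + 1)]
  unfold f
  rw [← Finset.sum_div, sum_range_aux]
  rw [div_eq_zero_iff]
  left
  push_cast
  ring

theorem result (N : ℕ) [NeZero N] :
    (Matrix.of fun i j : ZMod N =>
        ((((j - i).val : ℝ) * (((j - i).val : ℝ) - (N : ℝ))) / 2 + ((N : ℝ) ^ 2 - 1) / 12) / (N : ℝ)).PosSemidef := by
  have hM : (Matrix.of fun i j : ZMod N =>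
        ((((j - i).val : ℝ) * (((j - i).val : ℝ) - (N : ℝ))) / 2 + ((N : ℝ) ^ 2 - 1) / 12) / (N : ℝ))
      = Matrix.of fun i j => F N (j - i) := by
    ext i j; simp [F, f]
  rw [hM]
  have hN : (N : ℝ) ≠ 0 := Nat.cast_ne_zero.mpr (NeZero.ne N)
  apply Matrix.PosSemidef.of_dotProduct_mulVec_nonneg
  · ext i j
    simp only [Matrix.conjTranspose_apply, Matrix.of_apply, star_trivial]
    rw [← F_neg, neg_sub]
  · intro x
    set y : ZMod N → ℝ := fun i => ∑ j, F N (j - i) * x j with hy
    have hA : ∑ i, y i = 0 := by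
      simp only [hy]
      rw [Finset.sum_comm]
      simp only [← Finset.sum_mul]
      have : ∀ j : ZMod N, ∑ i, F N (j - i) = 0 := by
        intro j
        rw [← sum_F N]
        exact Fintype.sum_equiv (Equiv.subLeft j) _ _ (fun _ => rfl)
      simp [this]
    have hB : ∀ i, 2 * y i - y (i + 1) - y (i - 1) = x i - (∑ j, x j) / N := by
      intro i
      simp only [hy]
      rw [Finset.mul_sum, ← Finset.sum_sub_distrib, ← Finset.sum_sub_distrib]
      have : ∀ j, 2 * (F N (j - i) * x j) - F N (j - (i + 1)) * x j - F N (j - (i - 1)) * x j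
          = (if j = i then x j else 0) - x j / N := by
        intro j
        have e1 : j - (i + 1) = (j - i) - 1 := by ring
        have e2 : j - (i - 1) = (j - i) + 1 := by ring
        rw [e1, e2, F_sub_one, F_add_one]
        have h3 := f_diff N ((j - i).val : ℝ)
        have h4 : F N (j - i) = f N ((j - i).val : ℝ) := rfl
        rw [h4]
        by_cases hji : j = i
        · subst hji
          simp only [sub_self, if_true] at *
          linear_combination (x j) * h3
        · have : j - i ≠ 0 := sub_ne_zero.mpr hji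
          simp only [this, hji, if_false] at *
          linear_combination (x j) * h3
      simp only [this, Finset.sum_sub_distrib, Finset.sum_ite_eq', Finset.mem_univ, if_true,
        ← Finset.sum_div]
    have hC : star x ⬝ᵥ (Matrix.of (fun i j => F N (j - i))).mulVec x = ∑ i, x i * y i := by
      simp [dotProduct, Matrix.mulVec, hy]
    have s1 : ∑ i, y (i + 1) ^ 2 = ∑ i, y i ^ 2 :=
      Fintype.sum_equiv (Equiv.addRight 1) _ _ (fun _ => rfl)
    have s2 : ∑ i, y i * y (i - 1) = ∑ i, y (i + 1) * y i :=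
      (Fintype.sum_equiv (Equiv.addRight 1) (fun i => y (i + 1) * y i) (fun i => y i * y (i - 1))
        (fun i => by simp)).symm
    have e1 : ∑ i, (y i - y (i + 1)) ^ 2 = 2 * ∑ i, y i ^ 2 - 2 * ∑ i, y i * y (i + 1) := by
      have : ∀ i, (y i - y (i + 1)) ^ 2 = y i ^ 2 - 2 * (y i * y (i + 1)) + y (i + 1) ^ 2 :=
        fun i => by ring
      simp only [this, Finset.sum_add_distrib, Finset.sum_sub_distrib, ← Finset.mul_sum, s1]
      ring
    have e2 : ∑ i, y i * (2 * y i - y (i + 1) - y (i - 1))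
        = 2 * ∑ i, y i ^ 2 - 2 * ∑ i, y i * y (i + 1) := by
      have : ∀ i, y i * (2 * y i - y (i + 1) - y (i - 1))
          = 2 * y i ^ 2 - y i * y (i + 1) - y i * y (i - 1) := fun i => by ring
      simp only [this, Finset.sum_sub_distrib, ← Finset.mul_sum, s2]
      have : ∑ i, y (i + 1) * y i = ∑ i, y i * y (i + 1) :=
        Finset.sum_congr rfl (fun i _ => mul_comm _ _)
      rw [this]; ring
    have e3 : ∑ i, y i * (2 * y i - y (i + 1) - y (i - 1)) = ∑ i, x i * y i := by
      simp only [hB, mul_sub, Finset.sum_sub_distrib, ← Finset.sum_mul, hA, zero_mul, sub_zero]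
      exact Finset.sum_congr rfl (fun i _ => mul_comm _ _)
    rw [hC, ← e3, e2, ← e1]
    exact Finset.sum_nonneg (fun i _ => sq_nonneg _)

end Groth.Agent.S18190
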