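import Mathlib
import Groth.Statements.S18206
import Groth.Agent.Lib.helper27.LocImm
import Groth.Agent.Lib.helper6.IdealComap

set_option autoImplicit false
universe u
open LocImm

namespace Groth.Agent.S18206

open CategoryTheory AlgebraicGeometry in
/-- Let `f : X ⟶ Y` be a localizing immersion (localizing and injective on points) of Noetherian
schemes. Then every quasi-coherent ideal sheaf `I` on `X` is the inverse image ideal `J·O_X` of some
quasi-coherent ideal sheaf `J` on `Y` (all such ideals are coherent, the schemes being Noetherian). -/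
theorem result {X Y : Scheme.{u}} [IsNoetherian X] [IsNoetherian Y]
    (f : X ⟶ Y) (hf : LocImm.IsLocImmersion f) (I : X.IdealSheafData) : ∃ J : Y.IdealSheafData, J.comap f = I := by
  refine ⟨I.map f, ?_⟩
  choose W hxW hW hW' hφ using
    fun x => Groth.Agent.Lib.helper27.LocImmLib.exists_affine_nhd f hf x
  apply Scheme.IdealSheafData.ext_of_iSup_eq_top
    (fun x : X => (⟨f ⁻¹ᵁ W x, hW' x⟩ : X.affineOpens))
  · rw [eq_top_iff]
    intro x _
    exact TopologicalSpace.Opens.mem_iSup.mpr ⟨x, hxW x⟩
  · intro x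
    rw [Groth.Agent.Lib.helper6.comap_ideal_of_le f (I.map f) ⟨f ⁻¹ᵁ W x, hW' x⟩ ⟨W x, hW x⟩ le_rfl]
    rw [Scheme.IdealSheafData.ideal_map I f ⟨W x, hW x⟩ (hW' x)]
    simp only [Scheme.Hom.appLE_eq_app]
    exact Groth.Agent.Lib.helper27.LocImmLib.map_comap_of_isLocHom _ (hφ x) _

end Groth.Agent.S18206
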