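import Groth.Statements.S18251
import Mathlib

set_option autoImplicit false
universe u
open W4c5m1nsnscurves
open Curves

namespace Groth.Agent.S18251

open MvPolynomial

/-- lex order with x1 > x0 -/
noncomputable def ord : MonomialOrder (Fin 2) where
  syn := ℕ ×ₗ ℕ
  toSyn :=
    { toFun := fun c => toLex (c 1, c 0)
      invFun := fun p => Finsupp.single 1 (ofLex p).1 + Finsupp.single 0 (ofLex p).2
      left_inv := by
        intro c; ext i; fin_cases i <;> simp
      right_inv := by
        intro p; simp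
      map_add' := by intro x y; rfl }
  toSyn_monotone := by
    intro x y h
    have h0 := h 0; have h1 := h 1
    show toLex (x 1, x 0) ≤ toLex (y 1, y 0)
    rw [Prod.Lex.toLex_le_toLex]
    rcases lt_or_eq_of_le h1 with h | h
    · left; exact h
    · right; exact ⟨h, h0⟩

lemma ord_le (x y : Fin 2 →₀ ℕ) :
    ord.toSyn x ≤ ord.toSyn y ↔ x 1 < y 1 ∨ x 1 = y 1 ∧ x 0 ≤ y 0 := by
  show toLex (x 1, x 0) ≤ toLex (y 1, y 0) ↔ _
  exact Prod.Lex.toLex_le_toLex

/-- exponent vector -/
noncomputable def ex (i j : ℕ) : Fin 2 →₀ ℕ := Finsupp.single 0 i + Finsupp.single 1 j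

@[simp] lemma ex_zero (i j : ℕ) : ex i j 0 = i := by simp [ex]
@[simp] lemma ex_one (i j : ℕ) : ex i j 1 = j := by simp [ex]

lemma ex_eq_iff (i j : ℕ) (n : Fin 2 →₀ ℕ) : ex i j = n ↔ n 0 = i ∧ n 1 = j := by
  constructor
  · rintro rfl; simp
  · rintro ⟨h0, h1⟩; ext t; fin_cases t <;> simp [h0, h1]

lemma eq_ex (n : Fin 2 →₀ ℕ) : n = ex (n 0) (n 1) := ((ex_eq_iff _ _ n).2 ⟨rfl, rfl⟩).symm

variable (R : Type u) [CommRing R]

lemma mon_ex (i j : ℕ) (r : R) :
    monomial (ex i j) r = C r * X 0 ^ i * X 1 ^ j := by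
  rw [ex, X_pow_eq_monomial, X_pow_eq_monomial, C_apply, monomial_mul, monomial_mul]
  simp

variable (a b c d : R)

/-- the relation -/
noncomputable def rel : MvPolynomial (Fin 2) R :=
  X 0 * X 1 ^ 2 - X 0 ^ 2 * X 1 - (C a * X 0 * X 1 + C b * X 0 + C c * X 1 + C d)

lemma rel_eq : rel R a b c d = monomial (ex 1 2) 1 - monomial (ex 2 1) 1 -
    (monomial (ex 1 1) a + monomial (ex 1 0) b + monomial (ex 0 1) c + monomial (ex 0 0) d) := by
  simp only [mon_ex, rel]
  simp

lemma coeff_rel (n : Fin 2 →₀ ℕ) : coeff n (rel R a b c d) =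
    (if n 0 = 1 ∧ n 1 = 2 then 1 else 0) - (if n 0 = 2 ∧ n 1 = 1 then 1 else 0) -
    ((if n 0 = 1 ∧ n 1 = 1 then a else 0) + (if n 0 = 1 ∧ n 1 = 0 then b else 0) +
      (if n 0 = 0 ∧ n 1 = 1 then c else 0) + (if n 0 = 0 ∧ n 1 = 0 then d else 0)) := by
  rw [rel_eq]
  simp only [coeff_sub, coeff_add, coeff_monomial, ex_eq_iff]

lemma supp_rel (n : Fin 2 →₀ ℕ) (h : coeff n (rel R a b c d) ≠ 0) :
    n 1 < 2 ∨ n 1 = 2 ∧ n 0 ≤ 1 := by
  by_contra hne
  apply h
  rw [coeff_rel]
  have h1 : ¬ (n 0 = 1 ∧ n 1 = 2) := by omega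
  have h2 : ¬ (n 0 = 2 ∧ n 1 = 1) := by omega
  have h3 : ¬ (n 0 = 1 ∧ n 1 = 1) := by omega
  have h4 : ¬ (n 0 = 1 ∧ n 1 = 0) := by omega
  have h5 : ¬ (n 0 = 0 ∧ n 1 = 1) := by omega
  have h6 : ¬ (n 0 = 0 ∧ n 1 = 0) := by omega
  simp [h1, h2, h3, h4, h5, h6]

lemma coeff_rel_top : coeff (ex 1 2) (rel R a b c d) = 1 := by
  rw [coeff_rel]; simp

lemma degree_rel [Nontrivial R] : ord.degree (rel R a b c d) = ex 1 2 := by
  apply ord.toSyn.injective
  apply le_antisymm
  · rw [MonomialOrder.degree_le_iff]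
    intro n hn
    rw [ord_le]
    simpa using supp_rel R a b c d n (mem_support_iff.1 hn)
  · apply MonomialOrder.le_degree
    rw [mem_support_iff, coeff_rel_top]
    exact one_ne_zero

lemma lc_rel [Nontrivial R] : ord.leadingCoeff (rel R a b c d) = 1 := by
  rw [MonomialOrder.leadingCoeff, degree_rel, coeff_rel_top]

/-- index exponents -/
noncomputable def E : Option (ℕ ⊕ (Fin 2 × ℕ)) → (Fin 2 →₀ ℕ)
  | none => 0
  | some (Sum.inl k) => ex (k + 1) 1
  | some (Sum.inr (y, k)) => Finsupp.single y (k + 1)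

lemma E_inj : Function.Injective E := by
  intro i j h
  have h0 := DFunLike.congr_fun h 0
  have h1 := DFunLike.congr_fun h 1
  rcases i with _ | i | ⟨y, k⟩ <;> rcases j with _ | j | ⟨y', k'⟩
  all_goals (try fin_cases y) <;> (try fin_cases y') <;> simp [E] at h0 h1 ⊢ <;> omega

lemma E_not_le (i : Option (ℕ ⊕ (Fin 2 × ℕ))) : ¬ (ex 1 2 ≤ E i) := by
  intro h
  have h0 := h 0
  have h1 := h 1
  rcases i with _ | i | ⟨y, k⟩
  all_goals (try fin_cases y) <;> simp [E] at h0 h1 <;> omega

lemma exists_E (n : Fin 2 →₀ ℕ) (h : ¬ (ex 1 2 ≤ n)) : ∃ i, E i = n := by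
  have h' : n 0 = 0 ∨ n 1 ≤ 1 := by
    by_contra hc
    apply h
    intro t
    fin_cases t <;> simp <;> omega
  rcases Nat.eq_zero_or_pos (n 0) with h0 | h0
  · rcases Nat.eq_zero_or_pos (n 1) with h1 | h1
    · refine ⟨none, ?_⟩
      ext t; fin_cases t <;> simp [E, h0, h1]
    · refine ⟨some (Sum.inr (1, n 1 - 1)), ?_⟩
      ext t; fin_cases t <;> simp [E, h0] <;> omega
  · rcases Nat.eq_zero_or_pos (n 1) with h1 | h1
    · refine ⟨some (Sum.inr (0, n 0 - 1)), ?_⟩
      ext t; fin_cases t <;> simp [E, h1] <;> omega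
    · refine ⟨some (Sum.inl (n 0 - 1)), ?_⟩
      ext t; fin_cases t <;> simp [E] <;> omega

lemma cmon3_eq (i : Option (ℕ ⊕ (Fin 2 × ℕ))) :
    cmon3 R a b c d i = Ideal.Quotient.mk _ (monomial (E i) (1 : R)) := by
  rcases i with _ | i | ⟨y, k⟩
  · simp [cmon3, E]
  · simp [cmon3, E, mon_ex]
  · simp [cmon3, E, X_pow_eq_monomial]


theorem span_top : Submodule.span R (Set.range (cmon3 R a b c d)) = ⊤ := by
  rcases subsingleton_or_nontrivial R with hR | hR
  · haveI : Subsingleton (CurveAlg3 R a b c d) := Module.subsingleton R _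
    exact Subsingleton.elim _ _
  rw [eq_top_iff]
  rintro x -
  obtain ⟨p, rfl⟩ := Ideal.Quotient.mk_surjective x
  obtain ⟨g, r, hp, -, hr⟩ := ord.div_single (b := rel R a b c d)
    (by rw [lc_rel]; exact isUnit_one) p
  rw [degree_rel] at hr
  have hmk : Ideal.Quotient.mk (Ideal.span {rel R a b c d}) p = Ideal.Quotient.mk _ r := by
    rw [hp, map_add, map_mul]
    have : Ideal.Quotient.mk (Ideal.span {rel R a b c d}) (rel R a b c d) = 0 :=
      Ideal.Quotient.eq_zero_iff_mem.2 (Ideal.subset_span rfl)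
    rw [this, mul_zero, zero_add]
  show Ideal.Quotient.mk (Ideal.span {rel R a b c d}) p ∈ _
  rw [hmk, r.as_sum, map_sum]
  apply Submodule.sum_mem
  intro n hn
  obtain ⟨i, hi⟩ := exists_E n (hr n hn)
  have h1 : monomial n (coeff n r) = coeff n r • monomial n (1:R) := by
    rw [smul_monomial]; simp
  rw [h1, ← hi]
  have h2 : Ideal.Quotient.mk (Ideal.span {rel R a b c d}) (coeff (E i) r • monomial (E i) (1:R))
      = coeff (E i) r • cmon3 R a b c d i := by
    rw [cmon3_eq]
    exact map_smul (Ideal.Quotient.mkₐ R (Ideal.span {rel R a b c d})) _ _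
  rw [h2]
  exact Submodule.smul_mem (Submodule.span R (Set.range (cmon3 R a b c d))) _
    (Submodule.subset_span ⟨i, rfl⟩)

theorem indep : LinearIndependent R (cmon3 R a b c d) := by
  rcases subsingleton_or_nontrivial R with hR | hR
  · exact linearIndependent_of_subsingleton
  rw [linearIndependent_iff]
  intro l hl
  set P : MvPolynomial (Fin 2) R :=
    Finsupp.linearCombination R (fun i => monomial (E i) (1:R)) l with hP
  have hmem : P ∈ Ideal.span {rel R a b c d} := by
    rw [← Ideal.Quotient.eq_zero_iff_mem]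
    rw [hP, Finsupp.linearCombination_apply, Finsupp.sum, map_sum]
    rw [Finsupp.linearCombination_apply, Finsupp.sum] at hl
    refine Eq.trans ?_ hl
    apply Finset.sum_congr rfl
    intro i _
    rw [cmon3_eq]
    exact map_smul (Ideal.Quotient.mkₐ R (Ideal.span {rel R a b c d})) _ _
  obtain ⟨g, hg⟩ := Ideal.mem_span_singleton'.1 hmem
  have hli : LinearIndependent R (fun i => monomial (E i) (1:R)) := by
    have := (basisMonomials (Fin 2) R).linearIndependent.comp E E_inj
    rw [coe_basisMonomials] at this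
    exact this
  have hcoef : ∀ n, (∀ i, E i ≠ n) → coeff n P = 0 := by
    intro n hn
    rw [hP, Finsupp.linearCombination_apply, Finsupp.sum, coeff_sum]
    apply Finset.sum_eq_zero
    intro i _
    rw [coeff_smul, coeff_monomial, if_neg (hn i), smul_zero]
  have hP0 : P = 0 := by
    by_contra hne
    have hg0 : g ≠ 0 := by
      rintro rfl
      apply hne
      rw [← hg, zero_mul]
    have hdeg := ord.degree_mul_of_isRegular_right hg0
      (g := rel R a b c d) (by rw [lc_rel]; exact isRegular_one)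
    rw [hg, degree_rel] at hdeg
    have hsupp := ord.degree_mem_support hne
    rw [mem_support_iff] at hsupp
    apply hsupp
    apply hcoef
    intro i hE
    apply E_not_le i
    rw [hE, hdeg]
    exact le_add_self
  exact (linearIndependent_iff.1 hli) l hP0

theorem result' : LinearIndependent R (cmon3 R a b c d) ∧
      Submodule.span R (Set.range (cmon3 R a b c d)) = ⊤ :=
  ⟨indep R a b c d, span_top R a b c d⟩

/-- Case n = 3: let R be a commutative ring and a, b, c, d elements of R (a point of U_3, which is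
affine 4-space, so no condition is imposed). Then in the R-algebra R[x_2, x_3]/(x_2 x_3² − x_2² x_3
− a x_2 x_3 − b x_2 − c x_3 − d) the classes of the monomials 1, x_2^k x_3, x_2^k and x_3^k (k ≥ 1)
are linearly independent over R and span, i.e. form an R-basis. -/
theorem result (R : Type u) [CommRing R] (a b c d : R) :
    LinearIndependent R (cmon3 R a b c d) ∧
      Submodule.span R (Set.range (cmon3 R a b c d)) = ⊤ := by
  exact result' R a b c d

end Groth.Agent.S18251
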