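import Groth.Statements.S18265
import Mathlib.RingTheory.Polynomial.UniqueFactorization
import Mathlib.RingTheory.Polynomial.RationalRoot

set_option autoImplicit false
universe u
open InvQ

namespace Groth.Agent.S18265


theorem key {k S : Type*} [CommRing k] [CommRing S] [IsDomain S] [IsIntegrallyClosed S]
    [Algebra k S] (R : Subalgebra k S)
    (hR : ∀ a b s : S, a ∈ R → b ∈ R → b ≠ 0 → a = b * s → s ∈ R) :
    IsIntegrallyClosed R := by
  classical
  have hg : Function.Injective
      ((algebraMap S (FractionRing S)).comp R.val.toRingHom) := by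
    intro x y hxy
    apply Subtype.ext
    exact IsFractionRing.injective S (FractionRing S) hxy
  obtain ⟨ψ, hψ⟩ : ∃ ψ : FractionRing R →+* FractionRing S,
      ∀ r : R, ψ (algebraMap R (FractionRing R) r) = algebraMap S (FractionRing S) (r : S) :=
    ⟨IsFractionRing.lift hg, fun r => IsFractionRing.lift_algebraMap hg r⟩
  clear hg
  refine (isIntegrallyClosed_iff (FractionRing R)).mpr ?_
  intro x hx
  obtain ⟨a, b, hb, rfl⟩ := IsFractionRing.div_surjective (A := R) x
  have hb0 : (b : S) ≠ 0 := by
    intro h0
    exact (nonZeroDivisors.ne_zero hb) (ZeroMemClass.coe_eq_zero.mp h0)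
  have hint : IsIntegral S (ψ
      (algebraMap R (FractionRing R) a / algebraMap R (FractionRing R) b)) := by
    obtain ⟨p, hpm, hpe⟩ := hx
    refine ⟨p.map R.val.toRingHom, hpm.map _, ?_⟩
    rw [Polynomial.eval₂_map]
    have hcomp : (algebraMap S (FractionRing S)).comp R.val.toRingHom =
        ψ.comp
          (algebraMap R (FractionRing R)) := by
      ext r
      exact (hψ r).symm
    rw [hcomp, ← Polynomial.hom_eval₂, hpe, map_zero]
  obtain ⟨s, hs⟩ := (isIntegrallyClosed_iff (FractionRing S)).mp inferInstance hint
  rw [map_div₀, hψ, hψ] at hs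
  have hbL : algebraMap S (FractionRing S) (b : S) ≠ 0 := by
    intro h0
    exact hb0 ((map_eq_zero_iff _ (IsFractionRing.injective S (FractionRing S))).mp h0)
  have hmul : (a : S) = (b : S) * s := by
    apply IsFractionRing.injective S (FractionRing S)
    rw [map_mul, hs]
    field_simp
  have hsR : s ∈ R := hR a b s a.2 b.2 hb0 hmul
  refine ⟨⟨s, hsR⟩, ?_⟩
  have hbK : algebraMap R (FractionRing R) b ≠ 0 := by
    intro h0
    exact (nonZeroDivisors.ne_zero hb)
      ((map_eq_zero_iff _ (IsFractionRing.injective R (FractionRing R))).mp h0)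
  rw [eq_div_iff hbK, ← map_mul]
  congr 1
  apply Subtype.ext
  show s * (b : S) = (a : S)
  rw [hmul, mul_comm]

theorem mem_eq_of_mul {k S : Type*} [CommRing k] [CommRing S] [IsDomain S] [Algebra k S]
    (φ : S →ₐ[k] S) (a b s : S) (ha : a ∈ AlgHom.equalizer φ (AlgHom.id k S))
    (hb : b ∈ AlgHom.equalizer φ (AlgHom.id k S)) (hb0 : b ≠ 0) (h : a = b * s) :
    s ∈ AlgHom.equalizer φ (AlgHom.id k S) := by
  rw [AlgHom.mem_equalizer] at ha hb ⊢
  rw [AlgHom.id_apply] at ha hb ⊢
  have h1 : b * φ s = b * s := by
    calc b * φ s = φ b * φ s := by rw [hb]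
      _ = φ (b * s) := (map_mul φ b s).symm
      _ = φ a := by rw [h]
      _ = a := ha
      _ = b * s := h
  exact mul_left_cancel₀ hb0 h1

/-- Let k be an algebraically closed field and n, m natural numbers, and let R be the ring of polynomial
functions of m vectors of k^(n+1) invariant under the special linear group SL(n+1, k) acting on all
the vectors at once and under the rescalings of the individual vectors by units with product 1
(equivalently: invariant and homogeneous of one and the same degree in each vector) — the graded
ring of invariant sections whose Proj is the quotient variety of ordered m-point sets in projective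
n-space. Then R is integrally closed in its field of fractions; hence that quotient variety is
normal. (Only the normality assertion of the source's statement is given here; its dimension,
rationality and singular-locus assertions are not.) -/
theorem result (k : Type u) [Field k] [IsAlgClosed k] (n m : ℕ) :
    IsIntegrallyClosed (W4c5pointsetsdelpezzo.invRing k n m) := by
  apply key
  intro a b s ha hb hb0 h
  unfold W4c5pointsetsdelpezzo.invRing at ha hb ⊢
  rw [Algebra.mem_inf] at ha hb ⊢
  simp only [Algebra.mem_iInf] at ha hb ⊢
  exact ⟨fun g => mem_eq_of_mul _ a b s (ha.1 g) (hb.1 g) hb0 h,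
    fun t => mem_eq_of_mul _ a b s (ha.2 t) (hb.2 t) hb0 h⟩

end Groth.Agent.S18265
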