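import Groth.Statements.S19202
import Mathlib

set_option autoImplicit false
universe u
open CategoryTheory AlgebraicGeometry
open FlatMor

namespace Groth.Agent.S19202
open CategoryTheory CategoryTheory.Limits AlgebraicGeometry TopologicalSpace

section helpers



/-- the structure map `R → Γ(X, W)` of a scheme over `Spec R` -/
noncomputable def rho (R : Type u) [CommRing R] {X : Scheme.{u}} (p : X ⟶ Spec (CommRingCat.of R))
    (W : X.Opens) : CommRingCat.of R ⟶ Γ(X, W) :=
  (Scheme.ΓSpecIso (CommRingCat.of R)).inv ≫ p.appLE ⊤ W (show W ≤ p ⁻¹ᵁ ⊤ from le_top)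

lemma rho_map (R : Type u) [CommRing R] {X : Scheme.{u}} (p : X ⟶ Spec (CommRingCat.of R))
    {W W' : X.Opens} (h : W' ≤ W) :
    rho R p W ≫ X.presheaf.map (homOfLE h).op = rho R p W' := by
  rw [rho, rho, Category.assoc, Scheme.Hom.appLE_map]

lemma rho_comp (R : Type u) [CommRing R] {X Y : Scheme.{u}} (q : Y ⟶ Spec (CommRingCat.of R))
    (f : X ⟶ Y) (V : Y.Opens) :
    rho R q V ≫ f.app V = rho R (f ≫ q) (f ⁻¹ᵁ V) := by
  rw [rho, rho, Category.assoc, Scheme.Hom.comp_appLE]
  simp only [Scheme.Hom.appLE, Category.assoc]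
  congr 2
  exact f.naturality _

lemma rho_flat (R : Type u) [CommRing R] {X : Scheme.{u}} (p : X ⟶ Spec (CommRingCat.of R))
    [Flat p] (W : X.Opens) (hW : IsAffineOpen W) : (rho R p W).hom.Flat := by
  have h1 : (p.appLE ⊤ W (show W ≤ p ⁻¹ᵁ ⊤ from le_top)).hom.Flat :=
    HasRingHomProperty.appLE (P := @Flat) p ‹Flat p› ⟨⊤, isAffineOpen_top _⟩ ⟨W, hW⟩ _
  rw [rho, CommRingCat.hom_comp]
  refine RingHom.Flat.comp ?_ h1
  exact RingHom.Flat.of_bijective
    (ConcreteCategory.bijective_of_isIso (Scheme.ΓSpecIso (CommRingCat.of R)).inv)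

lemma tf (R : Type u) [CommRing R] [IsDomain R] {X : Scheme.{u}} (p : X ⟶ Spec (CommRingCat.of R))
    [Flat p] (W : X.Opens) (r : R) (hr : r ≠ 0) (t : Γ(X, W))
    (h : (rho R p W).hom r * t = 0) : t = 0 := by
  refine TopCat.Sheaf.eq_of_locally_eq' X.sheaf
    (fun i : {W' : X.affineOpens // W'.1 ≤ W} => i.1.1) W (fun i => homOfLE i.2) ?_ t 0 ?_
  · intro x hx
    obtain ⟨V, hV, hxV, hVW⟩ := Opens.isBasis_iff_nbhd.mp X.isBasis_affineOpens hx
    exact Opens.mem_iSup.mpr ⟨⟨⟨V, hV⟩, hVW⟩, hxV⟩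
  · intro i
    rw [map_zero]
    have hfl := rho_flat R p i.1.1 i.1.2
    algebraize [(rho R p i.1.1).hom]
    have h2 : (rho R p i.1.1).hom r * (X.presheaf.map (homOfLE i.2).op).hom t = 0 := by
      have := congrArg (X.presheaf.map (homOfLE i.2).op).hom h
      rw [map_mul, map_zero] at this
      rw [← this, ← rho_map R p i.2]
      rfl
    have : Module.Flat R Γ(X, i.1.1) := hfl
    have htf : Module.IsTorsionFree R Γ(X, i.1.1) := inferInstance
    have h3 : r • ((X.presheaf.map (homOfLE i.2).op).hom t) = 0 := by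
      rw [Algebra.smul_def]; exact h2
    exact (smul_eq_zero_iff_right (M := Γ(X, i.1.1)) hr).mp h3

/-- colon ideal `(I : a)` -/
def colon {A : Type*} [CommRing A] (I : Ideal A) (a : A) : Ideal A :=
  Submodule.comap (LinearMap.mulLeft A a) I

lemma mem_colon {A : Type*} [CommRing A] (I : Ideal A) (a s : A) : s ∈ colon I a ↔ a * s ∈ I :=
  Iff.rfl

lemma colon_map_away {A : Type*} [CommRing A] (Af : Type*) [CommRing Af] [Algebra A Af] (f : A)
    [IsLocalization.Away f Af] (I : Ideal A) (a : A) :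
    (colon I a).map (algebraMap A Af) = colon (I.map (algebraMap A Af)) (algebraMap A Af a) := by
  apply le_antisymm
  · rw [Ideal.map_le_iff_le_comap]
    intro s hs
    rw [Ideal.mem_comap, mem_colon, ← map_mul]
    exact Ideal.mem_map_of_mem _ hs
  · intro x hx
    rw [mem_colon] at hx
    obtain ⟨s, ⟨_, n, rfl⟩, rfl⟩ := IsLocalization.exists_mk'_eq (Submonoid.powers f) x
    rw [IsLocalization.mk'_mem_map_algebraMap_iff]
    have h1 : algebraMap A Af a * IsLocalization.mk' Af s (⟨f ^ n, n, rfl⟩ : Submonoid.powers f)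
        = IsLocalization.mk' Af (a * s) (⟨f ^ n, n, rfl⟩ : Submonoid.powers f) := by
      rw [IsLocalization.mul_mk'_eq_mk'_of_mul]
    rw [h1, IsLocalization.mk'_mem_map_algebraMap_iff] at hx
    obtain ⟨c, hc, hcs⟩ := hx
    refine ⟨c, hc, ?_⟩
    rw [mem_colon]
    convert hcs using 1
    ring


/-- the colon ideal sheaf `(I : r)` -/
noncomputable def colonSheaf (R : Type u) [CommRing R] {Y : Scheme.{u}}
    (q : Y ⟶ Spec (CommRingCat.of R)) (I : Y.IdealSheafData) (r : R) : Y.IdealSheafData where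
  ideal U := colon (I.ideal U) ((rho R q U.1).hom r)
  map_ideal_basicOpen U s := by
    have := U.2.isLocalization_basicOpen s
    have h1 := colon_map_away (A := Γ(Y, U.1)) Γ(Y, Y.basicOpen s) s (I.ideal U)
      ((rho R q U.1).hom r)
    rw [RingHom.algebraMap_toAlgebra] at h1
    rw [h1, I.map_ideal_basicOpen U s]
    congr 1
    exact congrArg (fun φ => φ.hom r) (rho_map R q (Y.basicOpen_le s))


lemma colonSheaf_le (R : Type u) [CommRing R] [IsDomain R] {X Y : Scheme.{u}}
    (q : Y ⟶ Spec (CommRingCat.of R)) (f : X ⟶ Y) [Flat (f ≫ q)] (r : R) (hr : r ≠ 0) :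
    colonSheaf R q f.ker r ≤ f.ker := by
  refine Scheme.IdealSheafData.le_ofIdeals_iff.mpr ?_
  intro U s hs
  have h1 : (rho R q U.1).hom r * s ∈ RingHom.ker (f.app U.1).hom :=
    Scheme.Hom.ideal_ker_le f U hs
  rw [RingHom.mem_ker, map_mul] at h1
  rw [RingHom.mem_ker]
  refine tf R (f ≫ q) (f ⁻¹ᵁ U.1) r hr _ ?_
  rw [← rho_comp R q f U.1]
  exact h1


lemma fromSpec_comp (R : Type u) [CommRing R] {Y : Scheme.{u}}
    (q : Y ⟶ Spec (CommRingCat.of R)) (U : Y.Opens) (hU : IsAffineOpen U) :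
    hU.fromSpec ≫ q = Spec.map (rho R q U) := by
  rw [rho, Spec.map_comp, ← Scheme.isoSpec_Spec_inv, ← IsAffineOpen.fromSpec_top,
    IsAffineOpen.SpecMap_appLE_fromSpec]

set_option backward.isDefEq.respectTransparency false in
instance flatLocalSrc : IsZariskiLocalAtSource @Flat.{u} := inferInstance



end helpers

/-- Let R be a Dedekind domain, X and Y schemes over Spec R with X flat over Spec R, and f : X → Y a
morphism over Spec R. Then the scheme-theoretic image of f, i.e. the closed subscheme of Y cut out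
by the kernel ideal sheaf of f, is flat over Spec R. (The published statement takes the base to be a
non-singular curve and f proper; this row takes the spectrum of any Dedekind domain and any morphism
f over it.) -/
theorem result (R : Type u) [CommRing R] [IsDedekindDomain R]
    {X Y : Scheme.{u}} (p : X ⟶ Spec (CommRingCat.of R)) (q : Y ⟶ Spec (CommRingCat.of R))
    (f : X ⟶ Y) (w : f ≫ q = p) [Flat p] : Flat (f.imageι ≫ q) := by
  subst w
  refine (IsZariskiLocalAtSource.iff_of_openCover f.ker.subschemeCover.openCover).mpr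
    fun (U : Y.affineOpens) => ?_
  have h1 : f.ker.subschemeCover.openCover.f U ≫ f.imageι ≫ q
      = Spec.map (rho R q U.1 ≫ CommRingCat.ofHom (Ideal.Quotient.mk (f.ker.ideal U))) := by
    rw [Spec.map_comp, ← fromSpec_comp R q U.1 U.2, ← Category.assoc, ← Category.assoc]
    congr 1
    exact (Scheme.IdealSheafData.subschemeCover_map_subschemeι f.ker U).trans
      (Scheme.IdealSheafData.glueDataObjι_ι f.ker U)
  rw [h1]
  refine (HasRingHomProperty.Spec_iff (P := @Flat)).mpr ?_
  set φ := (rho R q U.1 ≫ CommRingCat.ofHom (Ideal.Quotient.mk (f.ker.ideal U))).hom with hφ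
  algebraize [φ]
  have htf : Module.IsTorsionFree R (Γ(Y, U.1) ⧸ f.ker.ideal U) := by
    refine Module.IsTorsionFree.of_smul_eq_zero ?_
    intro r m hm
    by_cases hr : r = 0
    · exact Or.inl hr
    right
    obtain ⟨s, rfl⟩ := Ideal.Quotient.mk_surjective m
    rw [Algebra.smul_def] at hm
    have h2 : algebraMap R (Γ(Y, U.1) ⧸ f.ker.ideal U) r
        = Ideal.Quotient.mk (f.ker.ideal U) ((rho R q U.1).hom r) := rfl
    rw [h2, ← map_mul, Ideal.Quotient.eq_zero_iff_mem] at hm
    rw [Ideal.Quotient.eq_zero_iff_mem]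
    exact colonSheaf_le R q f r hr U hm
  show Module.Flat R (Γ(Y, U.1) ⧸ f.ker.ideal U)
  infer_instance

end Groth.Agent.S19202
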