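import Groth.Statements.S18266
import Mathlib
import Groth.Agent.S19202

set_option autoImplicit false
universe u
open CategoryTheory AlgebraicGeometry
open FDesc

namespace Groth.Agent.S18266

section Helpers
open AlgebraicGeometry CategoryTheory Limits TopologicalSpace TensorProduct

open Groth.Agent.S19202 in
lemma flat_fromSpecResidueField (A : Type u) [CommRing A] [IsDedekindDomain A]
    (η : ↥(Spec (CommRingCat.of A))) (hη : η.asIdeal = ⊥) :
    Flat ((Spec (CommRingCat.of A)).fromSpecResidueField η) ∧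
    ∃ ψ : CommRingCat.of A ⟶ (Spec (CommRingCat.of A)).residueField η,
      Spec.map ψ = (Spec (CommRingCat.of A)).fromSpecResidueField η ∧ Function.Injective ψ.hom := by
  obtain ⟨ψ, hψ⟩ := Spec.map_surjective ((Spec (CommRingCat.of A)).fromSpecResidueField η)
  have hinj : Function.Injective ψ.hom := by
    rw [injective_iff_map_eq_zero]
    intro a ha
    let pt : ↥(Spec ((Spec (CommRingCat.of A)).residueField η)) :=
      (⊥ : PrimeSpectrum ((Spec (CommRingCat.of A)).residueField η))
    have : a ∈ ((Spec.map ψ) pt).asIdeal := by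
      show ψ.hom a ∈ (⊥ : Ideal _)
      rw [ha]; exact zero_mem _
    rw [hψ, Scheme.fromSpecResidueField_apply, hη] at this
    exact this
  refine ⟨?_, ψ, hψ, hinj⟩
  rw [← hψ, Flat.SpecMap_iff]
  algebraize [ψ.hom]
  have : Module.IsTorsionFree A ((Spec (CommRingCat.of A)).residueField η) :=
    Module.isTorsionFree_iff_algebraMap_injective.mpr hinj
  show Module.Flat A ((Spec (CommRingCat.of A)).residueField η)
  infer_instance

lemma inl_injective_of_isPushout {R S T P : CommRingCat.{u}} {a : R ⟶ S} {b : R ⟶ T}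
    {inl : S ⟶ P} {inr : T ⟶ P}
    (h : IsPushout a b inl inr) (ha : a.hom.Flat) (hb : Function.Injective b.hom) :
    Function.Injective inl.hom := by
  algebraize [a.hom, b.hom]
  have h' := CommRingCat.isPushout_tensorProduct R S T
  have e1 : CommRingCat.ofHom (algebraMap R S) = a := rfl
  have e2 : CommRingCat.ofHom (algebraMap R T) = b := rfl
  rw [e1, e2] at h'
  have h3 := h'.inl_isoIsPushout_hom _ _ h
  have hfl : Module.Flat R S := ha
  have hinj : Function.Injective
      (Algebra.TensorProduct.includeLeftRingHom : S →+* S ⊗[R] T) :=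
    Algebra.TensorProduct.includeLeft_injective (S := R) hb
  rw [← h3, CommRingCat.hom_comp, RingHom.coe_comp]
  exact (ConcreteCategory.bijective_of_isIso (h'.isoIsPushout _ _ h).hom).1.comp hinj

lemma eq_zero_of_iso {A B : CommRingCat.{u}} (φ : A ⟶ B) [IsIso φ] (x : A) (h : φ.hom x = 0) :
    x = 0 :=
  (ConcreteCategory.bijective_of_isIso φ).1 (by rw [map_zero]; exact h)

lemma app_fiberι_injective (A : Type u) [CommRing A] [IsDedekindDomain A] {Z : Scheme.{u}}
    (g : Z ⟶ Spec (CommRingCat.of A)) [Flat g]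
    (η : ↥(Spec (CommRingCat.of A))) (hη : η.asIdeal = ⊥) (W : Z.Opens) (hW : IsAffineOpen W)
    (c : Γ(Z, W)) (hc : ((g.fiberι η).app W).hom c = 0) : c = 0 := by
  obtain ⟨-, ψ, hψ, hψinj⟩ := flat_fromSpecResidueField A η hη
  have H : IsPullback (g.fiberι η) (g.fiberToSpecResidueField η) g
      ((Spec (CommRingCat.of A)).fromSpecResidueField η) := IsPullback.of_hasPullback _ _
  have hUST : (⊤ : (Spec ((Spec (CommRingCat.of A)).residueField η)).Opens) ≤
      ((Spec (CommRingCat.of A)).fromSpecResidueField η) ⁻¹ᵁ ⊤ := le_top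
  have hUSX : W ≤ g ⁻¹ᵁ ⊤ := le_top
  have hiso := isIso_pushoutSection_of_isAffineOpen H hUST hUSX rfl (isAffineOpen_top _)
    (isAffineOpen_top _) hW
  have hpo := (isIso_pushoutSection_iff H hUST hUSX rfl).mp hiso
  have hfl : (g.appLE ⊤ W hUSX).hom.Flat :=
    HasRingHomProperty.appLE (P := @Flat) g ‹Flat g› ⟨⊤, isAffineOpen_top _⟩ ⟨W, hW⟩ _
  have hb : Function.Injective
      (((Spec (CommRingCat.of A)).fromSpecResidueField η).appLE ⊤ ⊤ hUST).hom := by
    have e1 : ((Spec (CommRingCat.of A)).fromSpecResidueField η).appLE ⊤ ⊤ hUST =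
        (Spec.map ψ).appTop := by
      rw [hψ, Scheme.Hom.appLE]
      have h1 : (homOfLE hUST) = 𝟙 _ := Subsingleton.elim _ _
      rw [h1]
      erw [CategoryTheory.Functor.map_id]
      exact Category.comp_id _
    rw [e1]
    have e2 := Scheme.ΓSpecIso_naturality ψ
    have e3 : (Spec.map ψ).appTop = (Scheme.ΓSpecIso _).hom ≫ ψ ≫ (Scheme.ΓSpecIso _).inv := by
      rw [← Category.assoc, ← e2, Category.assoc, Iso.hom_inv_id, Category.comp_id]
    rw [e3]
    simp only [CommRingCat.hom_comp, RingHom.coe_comp]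
    exact ((ConcreteCategory.bijective_of_isIso (Scheme.ΓSpecIso _).inv).1.comp hψinj).comp
      (ConcreteCategory.bijective_of_isIso (Scheme.ΓSpecIso _).hom).1
  have hinj := inl_injective_of_isPushout hpo hfl hb
  apply hinj
  rw [map_zero]
  rw [Scheme.Hom.appLE, CommRingCat.hom_comp, RingHom.comp_apply, hc, map_zero]

theorem main (A : Type u) [CommRing A] [IsDomain A]
    [IsDiscreteValuationRing A] {X : Scheme.{u}} (f : X ⟶ Spec (CommRingCat.of A))
    (η : ↥(Spec (CommRingCat.of A))) (hη : η.asIdeal = ⊥) :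
    Flat ((f.fiberι η).imageι ≫ f) ∧
      ∀ (Z : Scheme.{u}) (i : Z ⟶ X), IsClosedImmersion i → Flat (i ≫ f) →
        (f.fiberι η).ker ≤ i.ker := by
  obtain ⟨hflat, -⟩ := flat_fromSpecResidueField A η hη
  constructor
  · have : Flat (f.fiberι η ≫ f) := by
      rw [f.fiber_fac η]; infer_instance
    exact Groth.Agent.S19202.result A (f.fiberι η ≫ f) f (f.fiberι η) rfl
  · intro Z i hi hfl
    refine Scheme.IdealSheafData.le_ofIdeals_iff.mpr (fun U b hb => ?_)
    have hb' := (f.fiberι η).ideal_ker_le U hb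
    rw [RingHom.mem_ker] at hb' ⊢
    have hW : IsAffineOpen (i ⁻¹ᵁ U.1) := U.2.preimage i
    let k : (i ≫ f).fiber η ⟶ f.fiber η :=
      pullback.lift ((i ≫ f).fiberι η ≫ i) ((i ≫ f).fiberToSpecResidueField η)
        (by rw [Category.assoc]; exact (i ≫ f).fiber_fac η)
    have hk : k ≫ f.fiberι η = (i ≫ f).fiberι η ≫ i := pullback.lift_fst _ _ _
    refine app_fiberι_injective A (i ≫ f) η hη _ hW _ ?_
    have h1 := Scheme.Hom.congr_app hk U.1
    have h0 : ((k ≫ f.fiberι η).app U.1).hom b = 0 := by
      show (k.app (f.fiberι η ⁻¹ᵁ U.1)).hom (((f.fiberι η).app U.1).hom b) = 0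
      rw [hb', map_zero]
    have h2 := congr($(h1).hom b)
    rw [h0, CommRingCat.hom_comp, RingHom.comp_apply] at h2
    have h3 := eq_zero_of_iso _ _ h2.symm
    exact h3

end Helpers


/-- Let A be a discrete valuation ring, η the generic point of Spec A, and f : X → Spec A a morphism
from an arbitrary scheme X. The scheme-theoretic closure of the generic fibre X_η in X (the flat
completion) is flat over Spec A, and it is the largest closed subscheme of X flat over Spec A: for
every closed immersion i : Z → X with Z flat over Spec A, the ideal sheaf of the flat completion is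
contained in the ideal sheaf of i. -/
theorem result (A : Type u) [CommRing A] [IsDomain A]
    [IsDiscreteValuationRing A] {X : Scheme.{u}} (f : X ⟶ Spec (CommRingCat.of A))
    (η : ↥(Spec (CommRingCat.of A))) (hη : η.asIdeal = ⊥) :
    Flat ((f.fiberι η).imageι ≫ f) ∧
      ∀ (Z : Scheme.{u}) (i : Z ⟶ X), IsClosedImmersion i → Flat (i ≫ f) → (f.fiberι η).ker ≤ i.ker := by
  exact main A f η hη

end Groth.Agent.S18266
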