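import Groth.Statements.S18283
import Mathlib

set_option autoImplicit false
universe u v
open CAlgX

namespace Groth.Agent.S18283aux

variable {A : Type u} [CommRing A]

/-- A multilinear map evaluated on vectors from `span G` lies in the span of its values
on tuples from `G`. -/
lemma multilinear_mem_span {N N' : Type*} [AddCommGroup N] [Module A N] [AddCommGroup N']
    [Module A N'] {p : ℕ}
    (f : MultilinearMap A (fun _ : Fin p => N) N') (G : Set N) (z : Fin p → N)
    (hz : ∀ b, z b ∈ Submodule.span A G) :
    f z ∈ Submodule.span A {d | ∃ g : Fin p → N, (∀ b, g b ∈ G) ∧ d = f g} := by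
  classical
  suffices h : ∀ (T : Finset (Fin p)) (z : Fin p → N), (∀ b ∈ T, z b ∈ Submodule.span A G) →
      (∀ b, b ∉ T → z b ∈ G) →
      f z ∈ Submodule.span A {d | ∃ g : Fin p → N, (∀ b, g b ∈ G) ∧ d = f g} from
    h Finset.univ z (fun b _ => hz b) (fun b hb => absurd (Finset.mem_univ b) hb)
  intro T
  induction T using Finset.induction_on with
  | empty =>
    intro z _ h2
    exact Submodule.subset_span ⟨z, fun b => h2 b (by simp), rfl⟩
  | insert b₀ T hb₀ ih =>
    intro z h1 h2
    have key : ∀ w ∈ Submodule.span A G, f (Function.update z b₀ w) ∈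
        Submodule.span A {d | ∃ g : Fin p → N, (∀ b, g b ∈ G) ∧ d = f g} := by
      intro w hw
      induction hw using Submodule.span_induction with
      | mem w hw =>
        apply ih
        · intro b hb
          have : b ≠ b₀ := fun h => hb₀ (h ▸ hb)
          rw [Function.update_of_ne this]
          exact h1 b (Finset.mem_insert_of_mem hb)
        · intro b hb
          by_cases hbb : b = b₀
          · subst hbb; simpa using hw
          · rw [Function.update_of_ne hbb]
            exact h2 b (by simp [hbb, hb])
      | zero => rw [f.map_update_zero]; exact Submodule.zero_mem _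
      | add u v _ _ hu hv => rw [f.map_update_add]; exact Submodule.add_mem _ hu hv
      | smul c u _ hu => rw [f.map_update_smul]; exact Submodule.smul_mem _ _ hu
    have := key (z b₀) (h1 b₀ (Finset.mem_insert_self _ _))
    rwa [Function.update_eq_self] at this

variable {ι : Type v} [Fintype ι] [DecidableEq ι]

/-- the marked vector -/
def F (H : Finset ι) (c : ι → ι → A) (j : ι) : ι → A :=
  Pi.single j (1 : A) - ∑ i ∈ Hᶜ, c j i • Pi.single i (1 : A)

lemma F_apply_mem (H : Finset ι) (c : ι → ι → A) (j : ι) {i' : ι} (hi' : i' ∈ H) :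
    F H c j i' = if i' = j then 1 else 0 := by
  unfold F
  rw [Pi.sub_apply, Finset.sum_apply, Finset.sum_eq_zero, sub_zero, Pi.single_apply]
  intro i hi
  have : i' ≠ i := by
    rintro rfl
    exact (Finset.mem_compl.mp hi) hi'
  simp [Pi.single_apply, this]

theorem forward (H : Finset ι) (c : ι → ι → A)
    (v : Fin (H.card + 1) → ι → A)
    (hv : ∀ k, v k ∈ Submodule.span A ((fun j => F H c j) '' ↑H)) :
    exteriorPower.ιMulti A (H.card + 1) v = 0 := by
  have h := multilinear_mem_span (exteriorPower.ιMulti A (H.card + 1) (M := ι → A)).toMultilinearMap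
    ((fun j => F H c j) '' ↑H) v hv
  have hzero : {d | ∃ g : Fin (H.card + 1) → ι → A, (∀ b, g b ∈ (fun j => F H c j) '' ↑H) ∧
      d = (exteriorPower.ιMulti A (H.card + 1) (M := ι → A)).toMultilinearMap g} ⊆ {0} := by
    rintro d ⟨g, hg, rfl⟩
    choose jb hjb hjb' using hg
    obtain ⟨x, -, y, -, hxy, hjxy⟩ := Finset.exists_ne_map_eq_of_card_lt_of_maps_to
      (s := (Finset.univ : Finset (Fin (H.card + 1)))) (t := H) (f := jb) (by simp)
      (fun b _ => hjb b)
    have : g x = g y := by rw [← hjb' x, ← hjb' y, hjxy]
    simp only [Set.mem_singleton_iff, AlternatingMap.coe_multilinearMap]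
    exact AlternatingMap.map_eq_zero_of_eq _ g this hxy
  have := Submodule.span_mono hzero h
  simpa using this


/-- the alternating form: determinant of the columns `col`. -/
noncomputable def D {n : ℕ} (col : Fin n → ι) : (ι → A) [⋀^Fin n]→ₗ[A] A :=
  (Matrix.detRowAlternating (R := A) (n := Fin n)).compLinearMap
    (LinearMap.funLeft A A col)

lemma D_apply {n : ℕ} (col : Fin n → ι) (v : Fin n → ι → A) :
    D col v = Matrix.det (Matrix.of fun a b => v a (col b)) := by
  simp only [D, AlternatingMap.compLinearMap_apply, Matrix.detRowAlternating]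
  rfl

theorem backward (H : Finset ι) (c : ι → ι → A) (M : Submodule A (ι → A))
    (hf : ∀ j ∈ H, F H c j ∈ M)
    (hw : ∀ v : Fin (H.card + 1) → ι → A, (∀ k, v k ∈ M) →
          exteriorPower.ιMulti A (H.card + 1) v = 0) :
    M ≤ Submodule.span A ((fun j => F H c j) '' ↑H) := by
  intro m hm
  set N := Submodule.span A ((fun j => F H c j) '' ↑H) with hN
  have hFN : ∀ j ∈ H, F H c j ∈ N := fun j hj => Submodule.subset_span ⟨j, hj, rfl⟩
  set m' : ι → A := m - ∑ j ∈ H, m j • F H c j with hm'
  have hsumN : ∑ j ∈ H, m j • F H c j ∈ N :=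
    Submodule.sum_mem _ fun j hj => Submodule.smul_mem _ _ (hFN j hj)
  have hm'M : m' ∈ M := by
    apply Submodule.sub_mem _ hm
    exact Submodule.sum_mem _ fun j hj => Submodule.smul_mem _ _ (hf j hj)
  have hm'H : ∀ i ∈ H, m' i = 0 := by
    intro i hi
    rw [hm', Pi.sub_apply, Finset.sum_apply]
    simp only [Pi.smul_apply, smul_eq_mul, F_apply_mem H c _ hi]
    rw [Finset.sum_eq_single i]
    · simp
    · intro j _ hji
      simp [Ne.symm hji]
    · intro h; exact absurd hi h
  suffices hz : m' = 0 by
    have : m = ∑ j ∈ H, m j • F H c j := by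
      rw [← sub_eq_zero]; exact hz
    rw [this]; exact hsumN
  funext i0
  by_cases hi0 : i0 ∈ H
  · exact hm'H i0 hi0
  -- now i0 ∉ H
  let e : Fin H.card ≃ H := H.equivFin.symm
  let col : Fin (H.card + 1) → ι := Fin.lastCases i0 (fun a => (e a : ι))
  let v : Fin (H.card + 1) → ι → A := Fin.lastCases m' (fun a => F H c (e a))
  have hvM : ∀ k, v k ∈ M := by
    intro k
    refine Fin.lastCases ?_ (fun a => ?_) k
    · simp only [v, Fin.lastCases_last]; exact hm'M
    · simp only [v, Fin.lastCases_castSucc]; exact hf _ (e a).2
  have h0 := hw v hvM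
  have hD : D col v = 0 := by
    have := exteriorPower.alternatingMapLinearEquiv_apply_ιMulti (D (A := A) col) v
    rw [← this, h0, map_zero]
  rw [D_apply, Matrix.det_succ_row _ (Fin.last H.card), Fin.sum_univ_castSucc] at hD
  have hz1 : ∀ b : Fin H.card, (Matrix.of fun a b => v a (col b)) (Fin.last H.card) b.castSucc = 0 := by
    intro b
    simp only [Matrix.of_apply, v, col, Fin.lastCases_last, Fin.lastCases_castSucc]
    exact hm'H _ (e b).2
  have hlast : (Matrix.of fun a b => v a (col b)) (Fin.last H.card) (Fin.last H.card) = m' i0 := by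
    simp only [Matrix.of_apply, v, col, Fin.lastCases_last]
  have hsub : (Matrix.of fun a b => v a (col b)).submatrix (Fin.last H.card).succAbove
      (Fin.last H.card).succAbove = (1 : Matrix (Fin H.card) (Fin H.card) A) := by
    ext a b
    simp only [Fin.succAbove_last, Matrix.submatrix_apply, Matrix.of_apply, v, col,
      Fin.lastCases_castSucc, Matrix.one_apply]
    rw [F_apply_mem H c _ (e b).2]
    by_cases hab : a = b
    · simp [hab]
    · have : (e b : ι) ≠ (e a : ι) := by
        intro h
        exact hab (e.injective (Subtype.ext h)).symm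
      simp [hab, this]
  rw [hsub, hlast, Matrix.det_one] at hD
  simp only [hz1, mul_zero, zero_mul, Finset.sum_const_zero, zero_add, mul_one] at hD
  have hsign : ((-1 : A)) ^ ((Fin.last H.card : ℕ) + (Fin.last H.card : ℕ)) = 1 := by
    rw [← two_mul, pow_mul, neg_one_sq, one_pow]
  rw [hsign, one_mul] at hD
  simpa using hD

theorem main (H : Finset ι) (c : ι → ι → A) (M : Submodule A (ι → A))
    (hf : ∀ j ∈ H, (Pi.single j (1 : A) - ∑ i ∈ Hᶜ, c j i • Pi.single i (1 : A)) ∈ M) :
    M = Submodule.span A ((fun j => Pi.single j (1 : A) - ∑ i ∈ Hᶜ, c j i • Pi.single i (1 : A)) '' ↑H)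
      ↔ ∀ v : Fin (H.card + 1) → ι → A, (∀ k, v k ∈ M) →
          exteriorPower.ιMulti A (H.card + 1) v = 0 := by
  constructor
  · intro hM v hv
    apply forward H c v
    intro k
    have := hv k
    rw [hM] at this
    exact this
  · intro hw
    apply le_antisymm
    · exact backward H c M hf hw
    · rw [Submodule.span_le]
      rintro _ ⟨j, hj, rfl⟩
      exact hf j hj

end Groth.Agent.S18283aux

namespace Groth.Agent.S18283

/-- Let A be a commutative ring, ι a finite index type, H a finite set of indices (the head indices) and
c : ι → ι → A a table of coefficients; for j ∈ H put f_j = e_j − Σ_{i ∉ H} c_{ji} e_i in the free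
module A^ι, so that each f_j has head e_j with coefficient 1 and tail supported outside H. If a
submodule M of A^ι contains every f_j with j ∈ H, then M is the A-span of these f_j if and only if
every wedge product of |H|+1 elements of M vanishes in the (|H|+1)-st exterior power of A^ι
(equivalently, every (|H|+1)-minor of every matrix whose rows lie in M vanishes). The published
statement is the case where A is a Noetherian algebra over a field of characteristic zero, A^ι is
the degree-(m+1) part of the polynomial ring over A with its basis of terms, H is the set of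
degree-(m+1) terms of a strongly stable monomial ideal generated in degree m, and M is the
degree-(m+1) part of an ideal generated by a marked set on that monomial ideal; this row allows any
commutative ring and any submodule containing the marked polynomials. -/
theorem result
    {A : Type u} [CommRing A] {ι : Type v} [Fintype ι] [DecidableEq ι]
    (H : Finset ι) (c : ι → ι → A) (M : Submodule A (ι → A))
    (hf : ∀ j ∈ H, (Pi.single j (1 : A) - ∑ i ∈ Hᶜ, c j i • Pi.single i (1 : A)) ∈ M) :
    M = Submodule.span A ((fun j => Pi.single j (1 : A) - ∑ i ∈ Hᶜ, c j i • Pi.single i (1 : A)) '' ↑H)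
      ↔ ∀ v : Fin (H.card + 1) → ι → A, (∀ k, v k ∈ M) →
          exteriorPower.ιMulti A (H.card + 1) v = 0 := by
  exact Groth.Agent.S18283aux.main H c M hf

end Groth.Agent.S18283
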