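import Groth.Statements.S18291
import Mathlib

set_option autoImplicit false
universe v₁ u₁
open CategoryTheory MonoidalCategory CartesianMonoidalCategory MonObj Opposite
open Magnet Magnet.MonAct

namespace Groth.Agent.S18291

theorem result {C : Type u₁} [Category.{v₁} C] [CartesianMonoidalCategory C]
    (A X : C) [MonObj A] (a : Magnet.MonAct A X) :
    Magnet.MonAct.eqvHom.ofPoint a ≫ Magnet.MonAct.eqvHom.evalAt (Magnet.MonAct.regular A) a η[A] = 𝟙 _ ∧
      Magnet.MonAct.eqvHom.evalAt (Magnet.MonAct.regular A) a η[A] ≫ Magnet.MonAct.eqvHom.ofPoint a = 𝟙 _ := by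
  constructor
  · ext T x
    simp only [NatTrans.comp_app, NatTrans.id_app]
    change (eqvHom.evalAt (regular A) a η[A]).app T ((eqvHom.ofPoint a).app T x) = x
    rw [eqvHom.evalAt_app, eqvHom.ofPoint_app_coe, lift_whiskerLeft_assoc, Category.id_comp,
      ← Hom.one_def, lift_one_act]
  · ext T φ
    simp only [NatTrans.comp_app, NatTrans.id_app]
    change (eqvHom.ofPoint a).app T ((eqvHom.evalAt (regular A) a η[A]).app T φ) = φ
    apply Subtype.ext
    rw [eqvHom.ofPoint_app_coe, eqvHom.evalAt_app]
    have h := φ.2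
    rw [mem_eqvHom_iff] at h
    apply hom_ext_lift₂
    intro T' g t
    rw [lift_whiskerLeft_assoc]
    have h1 := h T' g 1 t
    rw [lift_regular_act, _root_.mul_one] at h1
    rw [h1]
    congr 2
    rw [comp_lift_assoc]
    congr 2
    · rw [Hom.one_def, ← Category.assoc]
      congr 1
      exact toUnit_unique _ _
    · simp

end Groth.Agent.S18291
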