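import Groth.Statements.S18292
import Mathlib

set_option autoImplicit false
universe v₁ u₁
open CategoryTheory CategoryTheory.Limits MonoidalCategory CartesianMonoidalCategory MonObj Opposite
open Magnet Magnet.MonAct

namespace Groth.Agent.S18292

theorem result {C : Type u₁} [Category.{v₁} C] [CartesianMonoidalCategory C]
    {A B X₁ X₂ X₃ P : C} [MonObj A] (ρ : Magnet.MonAct A B) (a₁ : Magnet.MonAct A X₁) (a₂ : Magnet.MonAct A X₂)
    (a₃ : Magnet.MonAct A X₃) (aP : Magnet.MonAct A P) (f₁ : X₁ ⟶ X₂) (f₃ : X₃ ⟶ X₂) (p₁ : P ⟶ X₁) (p₃ : P ⟶ X₃)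
    (hsq : IsPullback p₁ p₃ f₁ f₃) (hf₁ : Magnet.MonAct.IsEquivariant a₁ a₂ f₁)
    (hf₃ : Magnet.MonAct.IsEquivariant a₃ a₂ f₃) (hp₁ : Magnet.MonAct.IsEquivariant aP a₁ p₁)
    (hp₃ : Magnet.MonAct.IsEquivariant aP a₃ p₃) :
    IsPullback (Magnet.MonAct.eqvHom.postcomp ρ p₁ hp₁) (Magnet.MonAct.eqvHom.postcomp ρ p₃ hp₃)
      (Magnet.MonAct.eqvHom.postcomp ρ f₁ hf₁) (Magnet.MonAct.eqvHom.postcomp ρ f₃ hf₃) := by
  refine IsPullback.of_forall_isPullback_app fun T => ?_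
  rw [Types.isPullback_iff]
  refine ⟨?_, ?_, ?_⟩
  · ext φ
    apply Subtype.ext
    change ((eqvHom.postcomp ρ f₁ hf₁).app T ((eqvHom.postcomp ρ p₁ hp₁).app T φ)).1 =
      ((eqvHom.postcomp ρ f₃ hf₃).app T ((eqvHom.postcomp ρ p₃ hp₃).app T φ)).1
    simp only [eqvHom.postcomp_app_coe, Category.assoc, hsq.w]
  · rintro φ φ' ⟨h1, h2⟩
    have h1' := congrArg Subtype.val h1
    have h2' := congrArg Subtype.val h2
    rw [eqvHom.postcomp_app_coe, eqvHom.postcomp_app_coe] at h1' h2'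
    apply Subtype.ext
    exact hsq.hom_ext h1' h2'
  · intro φ₁ φ₃ h
    have h' := congrArg Subtype.val h
    rw [eqvHom.postcomp_app_coe, eqvHom.postcomp_app_coe] at h'
    have hφ₁ := φ₁.2
    have hφ₃ := φ₃.2
    unfold IsEquivariant at hφ₁ hφ₃ hp₁ hp₃
    refine ⟨⟨hsq.lift φ₁.1 φ₃.1 h', ?_⟩, ?_, ?_⟩
    · unfold IsEquivariant
      apply hsq.hom_ext
      · rw [Category.assoc, hsq.lift_fst, Category.assoc, hp₁, ← MonoidalCategory.whiskerLeft_comp_assoc,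
          hsq.lift_fst, hφ₁]
      · rw [Category.assoc, hsq.lift_snd, Category.assoc, hp₃, ← MonoidalCategory.whiskerLeft_comp_assoc,
          hsq.lift_snd, hφ₃]
    · apply Subtype.ext
      rw [eqvHom.postcomp_app_coe]
      exact hsq.lift_fst _ _ _
    · apply Subtype.ext
      rw [eqvHom.postcomp_app_coe]
      exact hsq.lift_snd _ _ _

end Groth.Agent.S18292
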