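import Groth.Statements.S18294
import Mathlib

set_option autoImplicit false
universe u
open CategoryTheory MonoidalCategory CartesianMonoidalCategory MonObj AlgebraicGeometry Opposite
open Magnet

namespace Groth.Agent.S18294

universe v₁ u₁

open Magnet.MonAct in
theorem isSheaf_eqvHom_general {C : Type u₁} [Category.{v₁} C] [CartesianMonoidalCategory C]
    (J : GrothendieckTopology C) {A B X : C} [MonObj A]
    (hX : Presieve.IsSheaf J (yoneda.obj X)) (ρ : MonAct A B) (a : MonAct A X) :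
    Presieve.IsSheaf J (eqvHom ρ a) := by
  intro T R hR x hx
  have hxs := (Presieve.compatible_iff_sieveCompatible x).mp hx
  -- value of the family on a composite
  have hxcomp : ∀ {Y Z : C} (f : Y ⟶ T) (g : Z ⟶ Y) (hf : R f),
      (x (g ≫ f) (R.downward_closed hf g)).1 = (B ◁ g) ≫ (x f hf).1 := by
    intro Y Z f g hf
    rw [hxs f g hf]
    rfl
  have hxcongr : ∀ {Y : C} (f f' : Y ⟶ T) (hf : R f) (hf' : R f') (e : f = f'),
      (x f hf).1 = (x f' hf').1 := by
    intro Y f f' hf hf' e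
    subst e
    rfl
  let R' : Sieve (B ⊗ T) := R.pullback (snd B T)
  have hR' : R' ∈ J (B ⊗ T) := J.pullback_stable _ hR
  let y : Presieve.FamilyOfElements (yoneda.obj X) R'.arrows :=
    fun W g hg => lift (g ≫ fst B T) (𝟙 W) ≫ (x (g ≫ snd B T) hg).1
  have hy : y.Compatible := by
    rw [Presieve.compatible_iff_sieveCompatible]
    intro W W' g h hg
    change lift ((h ≫ g) ≫ fst B T) (𝟙 W') ≫ (x ((h ≫ g) ≫ snd B T) _).1 =
      h ≫ lift (g ≫ fst B T) (𝟙 W) ≫ (x (g ≫ snd B T) hg).1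
    rw [hxcongr ((h ≫ g) ≫ snd B T) (h ≫ g ≫ snd B T) _ (R.downward_closed hg h) (Category.assoc _ _ _),
      hxcomp (g ≫ snd B T) h hg]
    rw [← Category.assoc, ← Category.assoc]
    congr 1
    apply CartesianMonoidalCategory.hom_ext <;> simp
  have hsep : ∀ (W : C) (S : Sieve W), S ∈ J W → Presieve.IsSeparatedFor (yoneda.obj X) S.arrows :=
    fun W S hS => (hX S hS).isSeparatedFor
  -- amalgamation
  have hsf := hX R' hR'
  let φ : B ⊗ T ⟶ X := hsf.amalgamate y hy
  have hφ : ∀ {W : C} (g : W ⟶ B ⊗ T) (hg : R' g), g ≫ φ = y g hg := by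
    intro W g hg
    exact hsf.valid_glue hy g hg
  have hφx : ∀ {Y : C} (f : Y ⟶ T) (hf : R f), (B ◁ f) ≫ φ = (x f hf).1 := by
    intro Y f hf
    have hg : R' (B ◁ f) := by
      change R ((B ◁ f) ≫ snd B T)
      rw [whiskerLeft_snd]
      exact R.downward_closed hf _
    rw [hφ (B ◁ f) hg]
    change lift ((B ◁ f) ≫ fst B T) (𝟙 _) ≫ (x ((B ◁ f) ≫ snd B T) _).1 = _
    rw [hxcongr ((B ◁ f) ≫ snd B T) (snd B Y ≫ f) _ (R.downward_closed hf _) (whiskerLeft_snd _ _),
      hxcomp f (snd B Y) hf, ← Category.assoc]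
    convert Category.id_comp _
    apply CartesianMonoidalCategory.hom_ext <;> simp
  -- equivariance
  have hφeq : IsEquivariant (ρ.prod (trivial A T)) a φ := by
    rw [mem_eqvHom_iff]
    intro T' g b t
    apply (hsep T' (R.pullback t) (J.pullback_stable _ hR)).ext
    intro W h hh
    change h ≫ lift (lift g b ≫ ρ.act) t ≫ φ = h ≫ lift g (lift b t ≫ φ) ≫ a.act
    have hh' : R (h ≫ t) := hh
    have key : ∀ β : W ⟶ B, lift β (h ≫ t) ≫ φ = lift β (𝟙 W) ≫ (x (h ≫ t) hh').1 := by
      intro β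
      rw [← hφx (h ≫ t) hh', ← Category.assoc]
      congr 1
      apply CartesianMonoidalCategory.hom_ext <;> simp
    have hx2 := (x (h ≫ t) hh').2
    rw [mem_eqvHom_iff] at hx2
    have := hx2 W (h ≫ g) (h ≫ b) (𝟙 W)
    rw [← Category.assoc, comp_lift, ← Category.assoc, comp_lift, key, this,
      ← Category.assoc h, comp_lift, ← Category.assoc h, comp_lift, key]
  refine ⟨⟨φ, hφeq⟩, ?_, ?_⟩
  · intro Y f hf
    apply Subtype.ext
    exact hφx f hf
  · intro ψ hψ
    apply Subtype.ext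
    apply (hsep _ R' hR').ext
    intro W g hg
    change g ≫ ψ.1 = g ≫ φ
    have hg' : R (g ≫ snd B T) := hg
    have e : g = lift (g ≫ fst B T) (𝟙 W) ≫ (B ◁ (g ≫ snd B T)) := by
      apply CartesianMonoidalCategory.hom_ext <;> simp
    have h1 : (B ◁ (g ≫ snd B T)) ≫ ψ.1 = (x (g ≫ snd B T) hg').1 :=
      congrArg Subtype.val (hψ (g ≫ snd B T) hg')
    rw [e, Category.assoc, Category.assoc, h1, hφx _ hg']

theorem result (S : Scheme.{u}) (A B X : Over S) [MonObj A] (ρ : Magnet.MonAct A B)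
    (a : Magnet.MonAct A X) :
    Presheaf.IsSheaf (QuotSh.J Scheme.fppfPrecoverage S) (Magnet.MonAct.eqvHom ρ a) := by
  rw [isSheaf_iff_isSheaf_of_type]
  apply isSheaf_eqvHom_general
  have : (QuotSh.J Scheme.fppfPrecoverage S).Subcanonical := by
    change (Scheme.fppfTopology.over S).Subcanonical
    infer_instance
  exact GrothendieckTopology.Subcanonical.isSheaf_of_isRepresentable
    (J := QuotSh.J Scheme.fppfPrecoverage S) (yoneda.obj X)

end Groth.Agent.S18294
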