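import Groth.Statements.S18296
import Mathlib

set_option autoImplicit false
universe v₁ u₁
open CategoryTheory MonoidalCategory CartesianMonoidalCategory MonObj Opposite
open Magnet Magnet.MonAct

namespace Groth.Agent.S18296

theorem result {C : Type u₁} [Category.{v₁} C] [CartesianMonoidalCategory C]
    {A B Y Z : C} [MonObj A] (ρ : Magnet.MonAct A B) (a : Magnet.MonAct A Y) (b : Magnet.MonAct A Z) (T : Cᵒᵖ) :
    Function.Bijective (fun φ : (Magnet.MonAct.eqvHom ρ (a.prod b)).obj T =>
      ((Magnet.MonAct.eqvHom.postcomp ρ (fst Y Z) (Magnet.MonAct.isEquivariant_prod_fst a b)).app T φ,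
        (Magnet.MonAct.eqvHom.postcomp ρ (snd Y Z) (Magnet.MonAct.isEquivariant_prod_snd a b)).app T φ)) := by
  constructor
  · intro φ φ' h
    simp only [Prod.mk.injEq] at h
    obtain ⟨h1, h2⟩ := h
    have h1' := congrArg Subtype.val h1
    have h2' := congrArg Subtype.val h2
    rw [eqvHom.postcomp_app_coe, eqvHom.postcomp_app_coe] at h1' h2'
    apply Subtype.ext
    exact CartesianMonoidalCategory.hom_ext _ _ h1' h2'
  · rintro ⟨φ₁, φ₂⟩
    have hφ₁ := φ₁.2
    have hφ₂ := φ₂.2
    rw [isEquivariant_iff] at hφ₁ hφ₂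
    refine ⟨⟨lift φ₁.1 φ₂.1, ?_⟩, ?_⟩
    · rw [isEquivariant_iff]
      intro T' g z
      rw [comp_lift, comp_lift, hφ₁ T' g z, hφ₂ T' g z, comp_lift, lift_prod_act]
    · simp only [Prod.mk.injEq]
      constructor
      · apply Subtype.ext
        rw [eqvHom.postcomp_app_coe]
        simp
      · apply Subtype.ext
        rw [eqvHom.postcomp_app_coe]
        simp

end Groth.Agent.S18296
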