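import Groth.Statements.S18297
import Mathlib

set_option autoImplicit false
universe v₁ u₁
open CategoryTheory MonoidalCategory CartesianMonoidalCategory MonObj Opposite
open Magnet Magnet.MonAct

namespace Groth.Agent.S18297

theorem smul_mul {C : Type u₁} [Category.{v₁} C]
    [CartesianMonoidalCategory C] {A X : C} [MonObj A] [MonObj X] (a : Magnet.MonAct A X)
    (hμ : Magnet.MonAct.IsEquivariant (a.prod a) a μ[X]) {T' : C} (g : T' ⟶ A) (x y : T' ⟶ X) :
    lift g (x * y) ≫ a.act = (lift g x ≫ a.act) * (lift g y ≫ a.act) := by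
  rw [isEquivariant_iff] at hμ
  have h := hμ T' g (lift x y)
  rw [lift_prod_act_assoc] at h
  rw [Hom.mul_def, Hom.mul_def, h]

theorem result {C : Type u₁} [Category.{v₁} C]
    [CartesianMonoidalCategory C] {A B X : C} [MonObj A] [MonObj X] (ρ : Magnet.MonAct A B) (a : Magnet.MonAct A X)
    (hμ : Magnet.MonAct.IsEquivariant (a.prod a) a μ[X])
    (hη : Magnet.MonAct.IsEquivariant (Magnet.MonAct.trivial A (𝟙_ C)) a η[X]) (T : C) (φ ψ : B ⊗ T ⟶ X)
    (hφ : Magnet.MonAct.IsEquivariant (ρ.prod (Magnet.MonAct.trivial A T)) a φ)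
    (hψ : Magnet.MonAct.IsEquivariant (ρ.prod (Magnet.MonAct.trivial A T)) a ψ) :
    Magnet.MonAct.IsEquivariant (ρ.prod (Magnet.MonAct.trivial A T)) a (φ * ψ) ∧
      Magnet.MonAct.IsEquivariant (ρ.prod (Magnet.MonAct.trivial A T)) a (1 : B ⊗ T ⟶ X) := by
  constructor
  · rw [isEquivariant_iff] at hφ hψ ⊢
    intro T' g z
    rw [← Category.assoc, MonObj.comp_mul, MonObj.comp_mul, Category.assoc, Category.assoc,
      hφ T' g z, hψ T' g z, smul_mul a hμ]
  · rw [isEquivariant_iff] at hη ⊢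
    intro T' g z
    rw [← Category.assoc, MonObj.comp_one, MonObj.comp_one]
    have h := hη T' g (toUnit T')
    rw [lift_trivial_act_assoc, ← Hom.one_def] at h
    exact h

end Groth.Agent.S18297
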