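import Groth.Statements.S18301
import Mathlib

set_option autoImplicit false
universe v₁ u₁
open CategoryTheory MonoidalCategory CartesianMonoidalCategory MonObj Opposite
open Magnet Magnet.MonAct

namespace Groth.Agent.S18301

theorem smul_mul {C : Type u₁} [Category.{v₁} C]
    [CartesianMonoidalCategory C] {A X : C} [MonObj A] [MonObj X] (a : Magnet.MonAct A X)
    (hμ : Magnet.MonAct.IsEquivariant (a.prod a) a μ[X]) {T' : C} (g : T' ⟶ A) (x y : T' ⟶ X) :
    lift g (x * y) ≫ a.act = (lift g x ≫ a.act) * (lift g y ≫ a.act) := by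
  rw [isEquivariant_iff] at hμ
  have h := hμ T' g (lift x y)
  rw [lift_prod_act_assoc] at h
  rw [Hom.mul_def, Hom.mul_def, h]

theorem smul_inv {C : Type u₁} [Category.{v₁} C]
    [CartesianMonoidalCategory C] {A X : C} [MonObj A] [GrpObj X] (a : Magnet.MonAct A X)
    (hμ : Magnet.MonAct.IsEquivariant (a.prod a) a μ[X]) {T' : C} (g : T' ⟶ A) (x : T' ⟶ X) :
    lift g (x⁻¹) ≫ a.act = (lift g x ≫ a.act)⁻¹ := by
  have h1 : lift g (1 : T' ⟶ X) ≫ a.act = 1 := by
    have := smul_mul a hμ g 1 1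
    rw [_root_.mul_one] at this
    exact (mul_eq_left.mp this.symm)
  have h2 := smul_mul a hμ g x x⁻¹
  rw [mul_inv_cancel, h1] at h2
  exact (eq_inv_of_mul_eq_one_right h2.symm)

theorem result {C : Type u₁} [Category.{v₁} C]
    [CartesianMonoidalCategory C] {A B X : C} [MonObj A] [GrpObj X] (ρ : Magnet.MonAct A B) (a : Magnet.MonAct A X)
    (hμ : Magnet.MonAct.IsEquivariant (a.prod a) a μ[X]) (T : C) (φ : B ⊗ T ⟶ X)
    (hφ : Magnet.MonAct.IsEquivariant (ρ.prod (Magnet.MonAct.trivial A T)) a φ) :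
    Magnet.MonAct.IsEquivariant (ρ.prod (Magnet.MonAct.trivial A T)) a φ⁻¹ := by
  rw [isEquivariant_iff] at hφ ⊢
  intro T' g z
  rw [← Category.assoc, GrpObj.comp_inv, GrpObj.comp_inv, Category.assoc, hφ T' g z, smul_inv a hμ]

end Groth.Agent.S18301
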