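import Groth.Statements.S18317
import Mathlib
import Groth.Agent.S8021
import Groth.Agent.S8049
import Groth.Agent.S8006
import Groth.Agent.S18763

set_option autoImplicit false
universe u
open CategoryTheory AlgebraicGeometry
open NonAbH1

namespace Groth.Agent.S18317
open CategoryTheory CategoryTheory.Limits AlgebraicGeometry Opposite MonoidalCategory CartesianMonoidalCategory MonObj
open NonAbH1

section helpers



/-- a finite connected scheme over a field has a single point -/
lemma subsingleton_of_finite_connected (K : Type u) [Field K] {G : Scheme.{u}}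
    (g : G ⟶ Spec (CommRingCat.of K)) [IsFinite g] [ConnectedSpace G] : Subsingleton G := by
  have : IsLocallyArtinian (Spec (CommRingCat.of K)) :=
    Scheme.isLocallyArtinianScheme_Spec.mpr (inferInstanceAs (IsArtinianRing K))
  have : IsLocallyArtinian G := IsLocallyArtinian.of_locallyQuasiFinite g
  have : DiscreteTopology G := inferInstance
  exact PreconnectedSpace.trivial_of_discrete

/-- an étale covering of the spectrum of a field has a nonempty affine étale member, which is an
fpqc cover -/
lemma exists_affine_cover (K : Type u) [Field K] (X : Over (Spec (CommRingCat.of K)))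
    (h : IsLocallyTrivialFor Scheme.etalePrecoverage X) :
    ∃ (U : Scheme.{u}) (f : U ⟶ Spec (CommRingCat.of K)) (x : U ⟶ X.left),
      IsAffine U ∧ Nonempty U ∧ Etale f ∧ x ≫ X.hom = f := by
  obtain ⟨R, hR, hsec⟩ := h
  obtain ⟨x₀⟩ : Nonempty (Spec (CommRingCat.of K)) := inferInstance
  rcases hR.1 x₀ with ⟨_, _, ⟨hRf⟩, hx⟩
  rename_i Y f
  obtain ⟨(y : Y), hy⟩ := hx
  obtain ⟨W, hW1, hW2, -⟩ := exists_isAffineOpen_mem_and_subset
    (TopologicalSpace.Opens.mem_top y)
  obtain ⟨s, hs⟩ := hsec f hRf
  have : Etale f := hR.2 hRf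
  refine ⟨W, W.ι ≫ f, W.ι ≫ s, hW1, ⟨⟨y, hW2⟩⟩, inferInstance, ?_⟩
  rw [Category.assoc, hs]



end helpers

/-- Let K be a field and G a finite connected K-group scheme (G → Spec K finite, G connected as a
topological space). Then every G-torsor X over Spec K for the étale topology (a K-scheme with an
action of G whose shear map G ×_K X → X ×_K X is an isomorphism and which acquires a section over
the members of some étale covering of Spec K) is trivial: X has a K-point. -/
theorem result (K : Type u) [Field K]
    (G X : Over (Spec (CommRingCat.of K))) [GrpObj G] [IsFinite G.hom] [ConnectedSpace G.left]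
    (a : AlgGrp.Action G X) (h : NonAbH1.IsTorsorFor Scheme.etalePrecoverage a) :
    NonAbH1.HasSectionOver X (𝟙 (Spec (CommRingCat.of K))) := by
  obtain ⟨hps, hloc⟩ := h
  obtain ⟨U, f, x, hU, hne, hf, hx⟩ := exists_affine_cover K X hloc
  haveI : IsAffine U := hU
  haveI : Etale f := hf
  haveI : Subsingleton (Spec (CommRingCat.of K)) :=
    (inferInstance : Subsingleton (PrimeSpectrum K))
  haveI : Surjective f := ⟨fun s => by
    obtain ⟨u⟩ := hne
    exact ⟨u, Subsingleton.elim _ _⟩⟩
  haveI : QuasiCompact f := inferInstance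
  haveI : Flat f := inferInstance
  haveI : Etale (pullback.fst f f ≫ f) := inferInstance
  haveI : Smooth (pullback.fst f f ≫ f) := inferInstance
  haveI : IsReduced (pullback f f) :=
    Groth.Agent.S8049.reduced_of_smooth (pullback.fst f f ≫ f)
  let Po : Over (Spec (CommRingCat.of K)) := Over.mk (pullback.fst f f ≫ f)
  let x₁ : Po ⟶ X := Over.homMk (pullback.fst f f ≫ x) (by simp [Po, hx])
  let x₂ : Po ⟶ X := Over.homMk (pullback.snd f f ≫ x) (by simp [Po, hx, pullback.condition])
  haveI : IsIso (lift a.act (snd G X)) := hps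
  let w : Po ⟶ G ⊗ X := lift x₁ x₂ ≫ inv (lift a.act (snd G X))
  have hw : w ≫ lift a.act (snd G X) = lift x₁ x₂ := by
    simp only [w, Category.assoc, IsIso.inv_hom_id, Category.comp_id]
  have hw1 : w ≫ a.act = x₁ := by
    have := congrArg (· ≫ fst X X) hw
    simpa using this
  have hw2 : w ≫ snd G X = x₂ := by
    have := congrArg (· ≫ snd X X) hw
    simpa using this
  -- the difference element is trivial
  have hg : w ≫ fst G X = toUnit Po ≫ η[G] := by
    haveI : IsClosedImmersion (η[G]).left := Groth.Agent.S8006.rational_closed K G η[G]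
    haveI : Subsingleton G.left := subsingleton_of_finite_connected K G.hom
    obtain ⟨u⟩ := hne
    haveI : IsReduced Po.left := ‹IsReduced (pullback f f)›
    obtain ⟨n, hn⟩ := Groth.Agent.S8021.factor_closed (w ≫ fst G X).left (η[G]).left (by
      rintro _ ⟨p, rfl⟩
      exact ⟨f u, Subsingleton.elim _ _⟩)
    apply Over.OverMorphism.ext
    rw [← hn, Over.comp_left]
    congr 1
    have h1 : (η[G]).left ≫ G.hom = 𝟙 _ := Over.w η[G]
    have h2 : (w ≫ fst G X).left ≫ G.hom = Po.hom := Over.w (w ≫ fst G X)
    have h3 : (toUnit Po).left = Po.hom := by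
      have := Over.w (toUnit Po)
      simpa using this
    rw [h3, ← h2, ← hn, Category.assoc, h1, Category.comp_id]
  have hx12 : x₁ = x₂ := by
    have hw' : w = lift (toUnit Po) x₂ ≫ (η[G] ▷ X) := by
      apply CartesianMonoidalCategory.hom_ext
      · simp [hg]
      · simp [hw2]
    rw [← hw1, hw', Category.assoc, a.one_act]
    simp
  -- descent along the fpqc cover f
  have compat : ∀ {Z : Scheme.{u}} (p₁ p₂ : Z ⟶ U), p₁ ≫ f = p₂ ≫ f →
      (yoneda.obj X.left).map p₁.op x = (yoneda.obj X.left).map p₂.op x := by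
    intro Z p₁ p₂ hp
    show p₁ ≫ x = p₂ ≫ x
    have e1 : pullback.lift p₁ p₂ hp ≫ x₁.left = p₁ ≫ x := by
      show pullback.lift p₁ p₂ hp ≫ pullback.fst f f ≫ x = _
      rw [← Category.assoc, pullback.lift_fst]
    have e2 : pullback.lift p₁ p₂ hp ≫ x₂.left = p₂ ≫ x := by
      show pullback.lift p₁ p₂ hp ≫ pullback.snd f f ≫ x = _
      rw [← Category.assoc, pullback.lift_snd]
    rw [← e1, ← e2, hx12]
  have hsh : Presieve.IsSheaf Scheme.fpqcTopology (yoneda.obj X.left) :=
    GrothendieckTopology.Subcanonical.isSheaf_of_isRepresentable _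
  have hR : Presieve.singleton f ∈ Scheme.fpqcPrecoverage (Spec (CommRingCat.of K)) :=
    Scheme.Hom.singleton_mem_propQCPrecoverage (P := @Flat) inferInstance
  have hmem : Sieve.generate (Presieve.singleton f) ∈
      Scheme.fpqcTopology (Spec (CommRingCat.of K)) :=
    Precoverage.generate_mem_toGrothendieck hR
  have h2 : Presieve.IsSheafFor (yoneda.obj X.left) (Presieve.singleton f) :=
    (Presieve.isSheafFor_iff_generate _).mpr (hsh _ hmem)
  rw [Presieve.isSheafFor_singleton] at h2
  obtain ⟨s, hs, -⟩ := h2 x compat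
  have hs' : f ≫ s = x := hs
  refine ⟨s, ?_⟩
  refine Groth.Agent.S18763.hom_ext_fpqc _ _ _ hR ?_
  rintro _ _ ⟨⟩
  rw [← Category.assoc, hs', hx, Category.comp_id]

end Groth.Agent.S18317
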