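import Groth.Statements.S18319
import Mathlib
import Groth.Agent.S8049
import Groth.Agent.S18317
import Groth.Agent.S13959

set_option autoImplicit false
universe u
open CategoryTheory AlgebraicGeometry
open NonAbH1

namespace Groth.Agent.S18319
open CategoryTheory CategoryTheory.Limits AlgebraicGeometry Opposite MonoidalCategory CartesianMonoidalCategory MonObj
open NonAbH1

section helpers



/-- an fppf covering of the spectrum of a field has a nonempty affine member -/
lemma exists_affine_cover_fppf (K : Type u) [Field K] (X : Over (Spec (CommRingCat.of K)))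
    (h : IsLocallyTrivialFor Scheme.fppfPrecoverage X) :
    ∃ (U : Scheme.{u}) (f : U ⟶ Spec (CommRingCat.of K)) (x : U ⟶ X.left),
      IsAffine U ∧ Nonempty U ∧ LocallyOfFiniteType f ∧ x ≫ X.hom = f := by
  obtain ⟨R, hR, hsec⟩ := h
  obtain ⟨x₀⟩ : Nonempty (Spec (CommRingCat.of K)) := inferInstance
  rcases hR.1 x₀ with ⟨_, _, ⟨hRf⟩, hx⟩
  rename_i Y f
  obtain ⟨(y : Y), hy⟩ := hx
  obtain ⟨W, hW1, hW2, -⟩ := exists_isAffineOpen_mem_and_subset
    (TopologicalSpace.Opens.mem_top y)
  obtain ⟨s, hs⟩ := hsec f hRf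
  have : LocallyOfFinitePresentation f := (hR.2 hRf).2
  refine ⟨W, W.ι ≫ f, W.ι ≫ s, hW1, ⟨⟨y, hW2⟩⟩, inferInstance, ?_⟩
  rw [Category.assoc, hs]

/-- over a perfect field, a nonempty affine scheme locally of finite type receives a map from a
nonempty affine scheme which is smooth over the field -/
lemma exists_smooth_point (K : Type u) [Field K] [PerfectField K] {U : Scheme.{u}} [IsAffine U]
    (f : U ⟶ Spec (CommRingCat.of K)) [LocallyOfFiniteType f] (hne : Nonempty U) :
    ∃ (V : Scheme.{u}) (j : V ⟶ U), IsAffine V ∧ Nonempty V ∧ Smooth (j ≫ f) := by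
  obtain ⟨u⟩ := hne
  let A := Γ(U, ⊤)
  have hA : Nontrivial A := by
    refine ⟨⟨0, 1, fun h01 => ?_⟩⟩
    have hp := (U.isoSpec.hom u).2
    exact hp.ne_top ((Ideal.eq_top_iff_one _).mpr (h01 ▸ Ideal.zero_mem _))
  let Ar : CommRingCat := CommRingCat.of (A ⧸ nilradical A)
  let q : A ⟶ Ar := CommRingCat.ofHom (Ideal.Quotient.mk (nilradical A))
  let j₀ : Spec Ar ⟶ U := Spec.map q ≫ U.isoSpec.inv
  haveI : IsReduced (A ⧸ nilradical A) :=
    (Ideal.isRadical_iff_quotient_reduced _).mp (Ideal.radical_isRadical _)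
  haveI : IsReduced (Spec Ar) := inferInstance
  haveI : IsClosedImmersion (Spec.map q) :=
    IsClosedImmersion.spec_of_surjective q Ideal.Quotient.mk_surjective
  haveI : LocallyOfFiniteType (j₀ ≫ f) := inferInstance
  haveI : LocallyOfFinitePresentation (j₀ ≫ f) :=
    LocallyOfFinitePresentation.iff_locallyOfFiniteType.mpr inferInstance
  have hd := (j₀ ≫ f).dense_smoothLocus_of_perfectField
  haveI : Nontrivial (A ⧸ nilradical A) := by
    rw [Ideal.Quotient.nontrivial_iff]
    intro htop
    have h1 : (1 : A) ∈ nilradical A := htop ▸ Submodule.mem_top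
    exact not_isNilpotent_one (mem_nilradical.mp h1)
  haveI : Nonempty (Spec Ar) := (inferInstance : Nonempty (PrimeSpectrum (A ⧸ nilradical A)))
  obtain ⟨v, hv⟩ := hd.nonempty
  obtain ⟨W, hW1, hW2, hW3⟩ := exists_isAffineOpen_mem_and_subset hv
  refine ⟨W, W.ι ≫ j₀, hW1, ⟨⟨v, hW2⟩⟩, ?_⟩
  rw [Category.assoc, ← Scheme.Hom.smoothLocus_eq_top_iff, ← Scheme.Hom.preimage_smoothLocus_eq]
  ext w
  constructor
  · intro _
    trivial
  · intro _
    show W.ι w ∈ (j₀ ≫ f).smoothLocus
    exact hW3 w.2



end helpers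

/-- Let K be a perfect field and G a finite connected K-group scheme (G → Spec K finite, G connected).
Then every G-torsor X over Spec K for the fppf topology (simply transitive action, a section over
the members of some fppf covering of Spec K) is trivial: X has a K-point. -/
theorem result (K : Type u) [Field K]
    [PerfectField K] (G X : Over (Spec (CommRingCat.of K))) [GrpObj G] [IsFinite G.hom] [ConnectedSpace G.left]
    (a : AlgGrp.Action G X) (h : NonAbH1.IsTorsorFor Scheme.fppfPrecoverage a) :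
    NonAbH1.HasSectionOver X (𝟙 (Spec (CommRingCat.of K))) := by
  obtain ⟨hps, hloc⟩ := h
  obtain ⟨U, f, x, hU, hne, hf, hx⟩ := exists_affine_cover_fppf K X hloc
  haveI : IsAffine U := hU
  haveI : LocallyOfFiniteType f := hf
  obtain ⟨V, j, hV, hneV, hsm⟩ := exists_smooth_point K f hne
  haveI : Subsingleton G.left := Groth.Agent.S18317.subsingleton_of_finite_connected K G.hom
  haveI : IsAffine V := hV
  haveI : Smooth (j ≫ f) := hsm
  haveI : QuasiCompact (j ≫ f) := inferInstance
  haveI : Flat (j ≫ f) := inferInstance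
  haveI : Smooth (pullback.fst (j ≫ f) (j ≫ f) ≫ (j ≫ f)) := inferInstance
  haveI : IsReduced (pullback (j ≫ f) (j ≫ f)) :=
    Groth.Agent.S8049.reduced_of_smooth (pullback.fst (j ≫ f) (j ≫ f) ≫ (j ≫ f))
  exact Groth.Agent.S13959.descend_point K G X a hps (j ≫ f) (j ≫ x)
    (by rw [Category.assoc, hx]) hneV

end Groth.Agent.S18319
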