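import Groth.Statements.S1832
import Mathlib
import Groth.Agent.Lib.helper12.HerbrandSmul

set_option autoImplicit false
universe u v
open Pointwise
open CycAlg

namespace Groth.Agent.S1832

/-- Over a Noetherian local ring, let (M, φ, ψ) be a (2,1)-periodic complex with M finite and cohomology
of finite length, and let x be a ring element with M/xM supported in dimension ≤ 0. Then (M, xφ, ψ)
and (M, φ, xψ) again have finite-length cohomology, and their Herbrand quotients differ from that of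
(M, φ, ψ) by the Herbrand quotient of (im φ, 0, x), respectively (im ψ, 0, x). -/
theorem result {R : Type u} [CommRing R] [IsNoetherianRing R] [IsLocalRing R] {M : Type v} [AddCommGroup M] [Module R M] [Module.Finite R M] (φ ψ : M →ₗ[R] M) (hper : CycAlg.IsPeriodic φ ψ) (hfin : CycAlg.FinCoh R φ ψ) (x : R) (hx : Module.supportDim R (M ⧸ x • (⊤ : Submodule R M)) ≤ 0) : (CycAlg.FinCoh R (x • φ) ψ ∧ CycAlg.herbrand R (x • φ) ψ = CycAlg.herbrand R φ ψ - CycAlg.herbrand R (0 : ↥(LinearMap.range φ) →ₗ[R] ↥(LinearMap.range φ)) (x • LinearMap.id)) ∧ (CycAlg.FinCoh R φ (x • ψ) ∧ CycAlg.herbrand R φ (x • ψ) = CycAlg.herbrand R φ ψ + CycAlg.herbrand R (0 : ↥(LinearMap.range ψ) →ₗ[R] ↥(LinearMap.range ψ)) (x • LinearMap.id)) := by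
  have key : ∀ (φ ψ : M →ₗ[R] M), CycAlg.IsPeriodic φ ψ → CycAlg.FinCoh R φ ψ →
      (CycAlg.FinCoh R (x • φ) ψ ∧ CycAlg.herbrand R (x • φ) ψ = CycAlg.herbrand R φ ψ -
        CycAlg.herbrand R (0 : ↥(LinearMap.range φ) →ₗ[R] ↥(LinearMap.range φ))
          (x • LinearMap.id)) := by
    intro φ ψ hper hfin
    obtain ⟨hc1, hc2, hb1, hb2⟩ := H12HS.partA φ ψ hper.1 hper.2 x hx
    obtain ⟨ha1, ha2⟩ := hfin
    have ha1' : H12HQ.mu (LinearMap.ker φ) (LinearMap.range ψ) < ⊤ := ha1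
    have ha2' : H12HQ.mu (LinearMap.ker ψ) (LinearMap.range φ) < ⊤ := ha2
    have hfb1 : H12HQ.mu (LinearMap.ker (x • φ)) (LinearMap.range ψ) < ⊤ := by
      rw [hb1]
      exact ENat.add_lt_top.2 ⟨hc2, ha1'⟩
    have hfb2 : H12HQ.mu (LinearMap.ker ψ) (LinearMap.range (x • φ)) < ⊤ := by
      rw [hb2]
      exact ENat.add_lt_top.2 ⟨ha2', hc1⟩
    refine ⟨⟨hfb1, hfb2⟩, ?_⟩
    have e1 : (Module.length R (CycAlg.perH (x • φ) ψ)).toNat =
        (Module.length R (CycAlg.perH (x • (LinearMap.id : ↥(LinearMap.range φ) →ₗ[R] ↥(LinearMap.range φ)))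
          (0 : ↥(LinearMap.range φ) →ₗ[R] ↥(LinearMap.range φ)))).toNat +
        (Module.length R (CycAlg.perH φ ψ)).toNat := by
      have := congrArg ENat.toNat hb1
      rw [ENat.toNat_add hc2.ne ha1'.ne] at this
      exact this
    have e2 : (Module.length R (CycAlg.perH ψ (x • φ))).toNat =
        (Module.length R (CycAlg.perH ψ φ)).toNat +
        (Module.length R (CycAlg.perH (0 : ↥(LinearMap.range φ) →ₗ[R] ↥(LinearMap.range φ))
          (x • (LinearMap.id : ↥(LinearMap.range φ) →ₗ[R] ↥(LinearMap.range φ))))).toNat := by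
      have := congrArg ENat.toNat hb2
      rw [ENat.toNat_add ha2'.ne hc1.ne] at this
      exact this
    unfold CycAlg.herbrand
    rw [e1, e2]
    push_cast
    ring
  have hper' : CycAlg.IsPeriodic ψ φ := ⟨hper.2, hper.1⟩
  have hfin' : CycAlg.FinCoh R ψ φ := ⟨hfin.2, hfin.1⟩
  refine ⟨key φ ψ hper hfin, ?_⟩
  obtain ⟨hF, hH⟩ := key ψ φ hper' hfin'
  refine ⟨⟨hF.2, hF.1⟩, ?_⟩
  have n1 : CycAlg.herbrand R φ (x • ψ) = - CycAlg.herbrand R (x • ψ) φ := by
    unfold CycAlg.herbrand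
    ring
  have n2 : CycAlg.herbrand R φ ψ = - CycAlg.herbrand R ψ φ := by
    unfold CycAlg.herbrand
    ring
  rw [n1, n2, hH]
  ring

end Groth.Agent.S1832
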