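import Groth.Statements.S18343
import Mathlib
import Groth.Agent.Lib.helper22.ThickAffine

set_option autoImplicit false
universe u
open CategoryTheory CategoryTheory.Limits AlgebraicGeometry
open MultCurve

namespace Groth.Agent.S18343

lemma alg_key {R A B : Type*} [CommRing R] [CommRing A] [CommRing B] (φ : R →+* A) (ψ : A →+* B)
    (hsurj : Function.Surjective (ψ.comp φ)) (hsq : (RingHom.ker ψ) ^ 2 = ⊥)
    (hle : RingHom.ker ψ ≤ Ideal.map φ (RingHom.ker (ψ.comp φ))) : Function.Surjective φ := by
  have hKJ : Ideal.map φ (RingHom.ker (ψ.comp φ)) ≤ RingHom.ker ψ := by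
    rw [Ideal.map_le_iff_le_comap]
    intro k hk
    simpa [RingHom.mem_ker] using hk
  have hdecomp : ∀ a : A, ∃ r : R, a - φ r ∈ RingHom.ker ψ := by
    intro a
    obtain ⟨r, hr⟩ := hsurj (ψ a)
    refine ⟨r, ?_⟩
    rw [RingHom.mem_ker, map_sub, ← hr]
    simp
  have hJ : ∀ y ∈ Ideal.map φ (RingHom.ker (ψ.comp φ)), y ∈ φ.range := by
    intro y hy
    unfold Ideal.map at hy
    induction hy using Submodule.span_induction with
    | mem y hy =>
      obtain ⟨k, -, rfl⟩ := hy
      exact ⟨k, rfl⟩
    | zero => exact Subring.zero_mem _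
    | add y z _ _ hy hz => exact Subring.add_mem _ hy hz
    | smul a y hy ih =>
      obtain ⟨r, hr⟩ := hdecomp a
      have hyJ : y ∈ RingHom.ker ψ := hKJ hy
      have h0 : (a - φ r) * y = 0 := by
        have : (a - φ r) * y ∈ (RingHom.ker ψ) ^ 2 := by
          rw [pow_two]
          exact Ideal.mul_mem_mul hr hyJ
        rw [hsq] at this
        exact this
      have h1 : a • y = φ r * y := by
        rw [smul_eq_mul]
        linear_combination h0
      rw [h1]
      exact Subring.mul_mem _ ⟨r, rfl⟩ ih
  intro a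
  obtain ⟨r, hr⟩ := hdecomp a
  obtain ⟨s, hs⟩ := hJ _ (hle hr)
  exact ⟨s + r, by rw [map_add, hs]; ring⟩

lemma spec_key {C : Scheme.{u}} {V : C.Opens} (hV : IsAffineOpen V) {A' : CommRingCat.{u}}
    (q : Γ(C, V) ⟶ A') (x : Γ(C, V))
    (hx : x ∈ (Spec.map q ≫ hV.fromSpec).ker.ideal ⟨V, hV⟩) : q.hom x = 0 := by
  have h1 := (Spec.map q ≫ hV.fromSpec).ideal_ker_le ⟨V, hV⟩ hx
  rw [RingHom.mem_ker] at h1
  rw [Scheme.Hom.comp_app, hV.fromSpec_app_self] at h1
  rw [Category.assoc, Scheme.Hom.naturality, ← Category.assoc] at h1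
  change (((Scheme.ΓSpecIso Γ(C, V)).inv ≫ (Spec.map q).appTop) ≫ _).hom x = 0 at h1
  rw [← Scheme.ΓSpecIso_inv_naturality, Category.assoc] at h1
  rw [CommRingCat.hom_comp, CommRingCat.hom_comp, RingHom.comp_apply, RingHom.comp_apply] at h1
  have key : ∀ {W₁ W₂ : (Spec A').Opens} (m : Opposite.op W₁ ⟶ Opposite.op W₂) [IsIso m]
      (y : Γ(Spec A', W₁)), ((Spec A').presheaf.map m).hom y = 0 → y = 0 := by
    intro W₁ W₂ m _ y hy
    exact (ConcreteCategory.bijective_of_isIso ((Spec A').presheaf.map m)).1
      (by rw [map_zero]; exact hy)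
  have h2 := key _ _ h1
  exact (ConcreteCategory.bijective_of_isIso (Scheme.ΓSpecIso A').inv).1
    (by rw [map_zero]; exact h2)


/-- Suppose C is a ribbon on the reduced scheme D via the closed immersion i : D ⟶ C (meaning the ideal
of D squares to zero and is locally generated by a single section z whose annihilator lies in (z)),
and consider an arbitrary morphism of schemes f : C ⟶ X. The morphism f is a closed immersion
exactly when two things hold: the composite i ≫ f, i.e. f restricted to D, is a closed immersion,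
and pulling back along f the ideal of the scheme-theoretic image of D in X yields the entire ideal
of D in C. This second requirement amounts to surjectivity of the map α_f that sends the pullback of
the conormal sheaf of the image of D in X onto the conormal bundle of D in C. (The statement is
given for arbitrary schemes and any morphism f; the published version assumes all schemes are of
finite type over a field and D is connected, but the proof relies on neither assumption.) -/
theorem result (D C X : Scheme.{u}) (i : D ⟶ C)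
    (hR : MultCurve.IsRibbon i) (f : C ⟶ X) :
    IsClosedImmersion f ↔ (IsClosedImmersion (i ≫ f) ∧ (i ≫ f).ker.comap f = i.ker) := by
  obtain ⟨⟨hi, hsq, -⟩, -⟩ := hR
  haveI := hi
  constructor
  · intro hf
    haveI := hf
    refine ⟨inferInstance, ?_⟩
    have hfst : pullback.fst f (i ≫ f) = pullback.snd f (i ≫ f) ≫ i := by
      rw [← cancel_mono f]
      simp [pullback.condition]
    haveI : IsIso (pullback.snd f (i ≫ f)) := by
      let l : D ⟶ pullback f (i ≫ f) := pullback.lift i (𝟙 D) (Category.id_comp _).symm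
      have hl : l ≫ pullback.snd f (i ≫ f) = 𝟙 D := pullback.lift_snd _ _ _
      have hl1 : l ≫ pullback.fst f (i ≫ f) = i := pullback.lift_fst _ _ _
      refine ⟨l, ?_, hl⟩
      apply pullback.hom_ext
      · rw [Category.assoc, hl1, Category.id_comp, hfst]
      · rw [Category.assoc, hl, Category.id_comp, Category.comp_id]
    rw [← Scheme.IdealSheafData.ker_fst_of_isClosedImmersion, hfst, Scheme.Hom.ker_comp_of_isIso]
  · rintro ⟨hif, hker⟩
    haveI := hif
    haveI hsurj : Surjective i := by
      have h1 : (i.ker ^ 2).support = i.ker.support :=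
        Scheme.IdealSheafData.support_pow _ 2 (by norm_num)
      rw [hsq, Scheme.IdealSheafData.support_bot] at h1
      have h2 := i.support_ker
      constructor
      intro x
      have hx : x ∈ (i.ker.support : Set C) := by rw [← h1]; trivial
      rw [h2, i.isClosedEmbedding.isClosed_range.closure_eq] at hx
      exact hx
    haveI haff : IsAffineHom f := ⟨fun U hU => by
      have h : IsAffineOpen ((i ≫ f) ⁻¹ᵁ U) := hU.preimage (i ≫ f)
      exact Groth.Agent.H22.ThickAffine.isAffineOpen_of_isAffineOpen_preimage i 2 (f ⁻¹ᵁ U)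
        (fun V _ hV => Groth.Agent.H22.ThickAffine.ker_pow_eq_bot_of_idealSheaf i 2 hsq V hV) h⟩
    rw [isClosedImmersion_iff_isAffineHom]
    refine ⟨haff, fun U hU => ?_⟩
    have hV : IsAffineOpen (f ⁻¹ᵁ U) := hU.preimage f
    have hW : IsAffineOpen (i ⁻¹ᵁ (f ⁻¹ᵁ U)) := hV.preimage i
    have hsurjU : Function.Surjective ((i.app (f ⁻¹ᵁ U)).hom.comp (f.app U).hom) := by
      have := (i ≫ f).app_surjective U hU
      rw [Scheme.Hom.comp_app] at this
      exact this
    apply alg_key (f.app U).hom (i.app (f ⁻¹ᵁ U)).hom hsurjU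
    · exact Groth.Agent.H22.ThickAffine.ker_pow_eq_bot_of_idealSheaf i 2 hsq _ hV
    · intro x hx
      set φ := (f.app U).hom with hφ
      set ψ := (i.app (f ⁻¹ᵁ U)).hom with hψ
      set I := Ideal.map φ (RingHom.ker (ψ.comp φ)) with hI
      let A' : CommRingCat.{u} := CommRingCat.of (Γ(C, f ⁻¹ᵁ U) ⧸ I)
      let q : Γ(C, f ⁻¹ᵁ U) ⟶ A' := CommRingCat.ofHom (Ideal.Quotient.mk I)
      rw [← Ideal.Quotient.eq_zero_iff_mem]
      change q.hom x = 0
      apply spec_key hV q x
      have hle : i.ker ≤ (Spec.map q ≫ hV.fromSpec).ker := by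
        rw [← hker, ← Scheme.IdealSheafData.le_map_iff_comap_le, Scheme.IdealSheafData.map_ker]
        have hkk : RingHom.ker (ψ.comp φ) ≤ RingHom.ker (q.hom.comp φ) := by
          intro r hr
          rw [RingHom.mem_ker, RingHom.comp_apply]
          change Ideal.Quotient.mk I (φ r) = 0
          rw [Ideal.Quotient.eq_zero_iff_mem]
          exact Ideal.mem_map_of_mem φ hr
        let β : Γ(D, i ⁻¹ᵁ (f ⁻¹ᵁ U)) →+* A' :=
          RingHom.liftOfSurjective (ψ.comp φ) hsurjU ⟨q.hom.comp φ, hkk⟩
        have hβ : β.comp (ψ.comp φ) = q.hom.comp φ :=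
          RingHom.liftOfRightInverse_comp _ _ _ ⟨q.hom.comp φ, hkk⟩
        let h : Spec A' ⟶ D := Spec.map (CommRingCat.ofHom β) ≫ hW.fromSpec
        have hcomm : h ≫ (i ≫ f) = (Spec.map q ≫ hV.fromSpec) ≫ f := by
          simp only [h, Category.assoc]
          rw [← IsAffineOpen.SpecMap_appLE_fromSpec f hU hV le_rfl,
            ← IsAffineOpen.SpecMap_appLE_fromSpec (i ≫ f) hU hW le_rfl]
          rw [← Spec.map_comp_assoc, ← Spec.map_comp_assoc]
          congr 2
          ext r
          have e1 : Scheme.Hom.appLE (i ≫ f) U (i ⁻¹ᵁ f ⁻¹ᵁ U) le_rfl = (i ≫ f).app U :=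
            (Scheme.Hom.app_eq_appLE (i ≫ f)).symm
          rw [← Scheme.Hom.app_eq_appLE, e1, Scheme.Hom.comp_app]
          exact congr($hβ r)
        rw [← hcomm]
        exact Scheme.Hom.le_ker_comp h (i ≫ f)
      have h3 := (Scheme.IdealSheafData.le_def.mp hle) ⟨f ⁻¹ᵁ U, hV⟩
      apply h3
      rw [Scheme.Hom.ker_apply]
      exact hx

end Groth.Agent.S18343
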