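import Groth.Statements.S1835
import Mathlib
-- import your own Groth.Agent.* helpers here

set_option autoImplicit false
universe u
open CycAlg

namespace Groth.Agent.S1835

namespace H5S1835

theorem le_zero_of (x : WithBot ℕ∞) (h : x + 1 ≤ 1) : x ≤ 0 := by
  induction x using WithBot.recBotCoe with
  | bot => exact bot_le
  | coe n =>
    have h' : ((n + 1 : ℕ∞) : WithBot ℕ∞) ≤ ((1 : ℕ∞) : WithBot ℕ∞) := by exact_mod_cast h
    rw [WithBot.coe_le_coe] at h'
    have : n ≤ 0 := by
      have := (ENat.add_le_add_iff_right (show (1 : ℕ∞) ≠ ⊤ by simp)).mp (by simpa using h' : n + 1 ≤ 0 + 1)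
      exact this
    exact_mod_cast this

theorem length_ne_top (R : Type u) [CommRing R] [IsNoetherianRing R]
    (hR : ringKrullDim R = 1) (b : R) (hb : b ∈ nonZeroDivisors R) :
    Module.length R (R ⧸ Ideal.span {b}) ≠ ⊤ := by
  have h1 := ringKrullDim_quotient_succ_le_of_nonZeroDivisor hb
  rw [hR] at h1
  have h2 : ringKrullDim (R ⧸ Ideal.span {b}) ≤ 0 := le_zero_of _ h1
  have : Ring.KrullDimLE 0 (R ⧸ Ideal.span {b}) := Ring.krullDimLE_iff.mpr (by simpa using h2)
  have : IsArtinianRing (R ⧸ Ideal.span {b}) := IsNoetherianRing.isArtinianRing_of_krullDimLE_zero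
  rw [Module.length_eq_of_surjective (S := R) (R := R ⧸ Ideal.span {b}) (M := R ⧸ Ideal.span {b})
    Ideal.Quotient.mk_surjective]
  exact Module.length_ne_top

/-- chain bound -/
theorem chain_bound (R : Type u) [CommRing R] (I : ℕ → Ideal R) (m : ℕ)
    (hI : ∀ j, j < m → I (j + 1) < I j) (J : Ideal R) (hJ : J ≤ I m) :
    (m : ℕ∞) ≤ Module.length R (R ⧸ J) := by
  have key : ∀ j, j ≤ m → (j : ℕ∞) ≤ Order.coheight (I j) := by
    intro j
    induction j with
    | zero => intro _; simp
    | succ j ih =>
      intro hj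
      have h1 := ih (by omega)
      have h2 := Order.coheight_add_one_le (hI j (by omega))
      calc ((j + 1 : ℕ) : ℕ∞) = (j : ℕ∞) + 1 := by push_cast; rfl
        _ ≤ Order.coheight (I j) + 1 := add_le_add_left h1 1
        _ ≤ _ := h2
  have h3 : Module.length R (R ⧸ J) = Order.coheight J := Module.length_quotient
  rw [h3]
  exact (key m le_rfl).trans (Order.coheight_anti hJ)

theorem main (R : Type u) [CommRing R] [IsNoetherianRing R] [IsLocalRing R]
    (hR : ringKrullDim R = 1) (a b : R) (ha : a ∈ nonZeroDivisors R)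
    (ham : a ∈ IsLocalRing.maximalIdeal R) (hb : b ∈ nonZeroDivisors R) :
    ∃ n : ℕ, ∀ (R' : Type u) [CommRing R'] [Algebra R R'],
      Function.Injective (algebraMap R R') → Module.Finite R R' →
      ∀ (m : ℕ) (c : R'), algebraMap R R' b = algebraMap R R' a ^ m * c → m ≤ n := by
  refine ⟨(Module.length R (R ⧸ Ideal.span {b})).toNat, ?_⟩
  intro R' _ _ hinj hfin m c hbc
  have hlen := length_ne_top R hR b hb
  have hnt : Nontrivial R' := hinj.nontrivial
  -- a' in the Jacobson radical of R'
  set a' := algebraMap R R' a with ha'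
  have hjac : a' ∈ Ideal.jacobson (⊥ : Ideal R') := by
    rw [Ideal.mem_jacobson_bot]
    intro y
    -- 1 + a' y is a unit : otherwise in a maximal ideal M, lying over maximalIdeal R
    by_contra hu
    obtain ⟨M, hM, hmem⟩ := exists_max_ideal_of_mem_nonunits hu
    have hint : Algebra.IsIntegral R R' := inferInstance
    have hcomap : (M.comap (algebraMap R R')).IsMaximal :=
      Ideal.isMaximal_comap_of_isIntegral_of_isMaximal M
    have heq : M.comap (algebraMap R R') = IsLocalRing.maximalIdeal R :=
      IsLocalRing.eq_maximalIdeal hcomap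
    have haM : a' ∈ M := by
      have : a ∈ M.comap (algebraMap R R') := heq ▸ ham
      exact this
    have h1 : (1 : R') ∈ M := by
      have h2 : a' * y ∈ M := M.mul_mem_right y haM
      have h3 : a' * y + 1 - a' * y ∈ M := M.sub_mem hmem h2
      simpa using h3
    exact hM.ne_top ((Ideal.eq_top_iff_one M).mpr h1)
  let I : ℕ → Ideal R := fun j => (Ideal.span {a' ^ j}).comap (algebraMap R R')
  have hI : ∀ j, j < m → I (j + 1) < I j := by
    intro j _
    refine lt_of_le_of_ne ?_ ?_
    · apply Ideal.comap_mono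
      rw [Ideal.span_singleton_le_span_singleton, pow_succ]
      exact Dvd.intro _ rfl
    · intro heq
      have h1 : a ^ j ∈ I j := by
        change algebraMap R R' (a ^ j) ∈ Ideal.span {a' ^ j}
        rw [map_pow]
        exact Ideal.subset_span rfl
      rw [← heq] at h1
      have h2 : algebraMap R R' (a ^ j) ∈ Ideal.span {a' ^ (j + 1)} := h1
      rw [map_pow, Ideal.mem_span_singleton] at h2
      obtain ⟨r, hr⟩ := h2
      -- a'^j = a'^(j+1) r  => a'^j (1 - a' r) = 0
      have hr' : a' ^ j = a' ^ (j + 1) * r := hr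
      have h3 : a' ^ j * (1 - a' * r) = 0 := by
        rw [mul_sub, mul_one, sub_eq_zero]
        calc a' ^ j = a' ^ (j + 1) * r := hr'
          _ = a' ^ j * (a' * r) := by ring
      have hu : IsUnit (1 - a' * r) := by
        have := (Ideal.mem_jacobson_bot.mp hjac) (-r)
        simpa [sub_eq_add_neg, add_comm] using this
      have h4 : a' ^ j = 0 := by
        rcases hu with ⟨u, hu⟩
        rw [← hu] at h3
        exact (Units.mul_left_eq_zero u).mp h3
      have h5 : algebraMap R R' (a ^ j) = 0 := by rw [map_pow]; exact h4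
      have h6 : a ^ j = 0 := hinj (by rw [h5, map_zero])
      have h7 : a ^ j ∈ nonZeroDivisors R := pow_mem ha j
      have hntR : Nontrivial R := inferInstance
      exact nonZeroDivisors.ne_zero h7 h6
  have hJ : Ideal.span {b} ≤ I m := by
    rw [Ideal.span_singleton_le_iff_mem]
    change algebraMap R R' b ∈ Ideal.span {a' ^ m}
    rw [hbc]
    exact Ideal.mul_mem_right _ _ (Ideal.subset_span rfl)
  have hb := chain_bound R I m hI _ hJ
  have : ((Module.length R (R ⧸ Ideal.span {b})).toNat : ℕ∞) = Module.length R (R ⧸ Ideal.span {b}) :=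
    ENat.natCast_toNat hlen
  rw [← this] at hb
  exact_mod_cast hb

end H5S1835

/-- Let R be a Noetherian local ring of dimension 1, a a nonzerodivisor in the maximal ideal and b a
nonzerodivisor. There is an integer n such that whenever b = a^m c in some finite extension ring R ⊆
R', one has m ≤ n. -/
theorem result (R : Type u) [CommRing R] [IsNoetherianRing R] [IsLocalRing R] (hR : ringKrullDim R = 1) (a b : R) (ha : a ∈ nonZeroDivisors R) (ham : a ∈ IsLocalRing.maximalIdeal R) (hb : b ∈ nonZeroDivisors R) : ∃ n : ℕ, ∀ (R' : Type u) [CommRing R'] [Algebra R R'], Function.Injective (algebraMap R R') → Module.Finite R R' → ∀ (m : ℕ) (c : R'), algebraMap R R' b = algebraMap R R' a ^ m * c → m ≤ n := by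
  exact H5S1835.main R hR a b ha ham hb

end Groth.Agent.S1835
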