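import Groth.Statements.S18364
import Mathlib

set_option autoImplicit false
universe u
open CAlg

namespace Groth.Agent.S18364

theorem mem_span_smul_top {A M : Type*} [CommRing A] [AddCommGroup M] [Module A M] (a : A)
    (x : M) : x ∈ Ideal.span {a} • (⊤ : Submodule A M) ↔ ∃ y : M, a • y = x := by
  rw [Submodule.ideal_span_singleton_smul, Submodule.mem_smul_pointwise_iff_exists]
  constructor
  · rintro ⟨y, -, hy⟩
    exact ⟨y, hy⟩
  · rintro ⟨y, hy⟩
    exact ⟨y, Submodule.mem_top, hy⟩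

theorem exists_mul_pow_mem {A : Type*} [CommRing A] (I q : Ideal A) [hq : q.IsPrime]
    (hqI : q ∈ I.minimalPrimes) (a : A) (ha : a ∈ q) :
    ∃ n : ℕ, ∃ u : A, u ∉ q ∧ u * a ^ n ∈ I := by
  have h1 := IsLocalization.AtPrime.radical_map_of_mem_minimalPrimes
    (A := Localization.AtPrime q) q I hqI
  have h2 : algebraMap A (Localization.AtPrime q) a ∈
      (I.map (algebraMap A (Localization.AtPrime q))).radical := by
    rw [h1]; exact Ideal.mem_map_of_mem _ ha
  obtain ⟨n, hn⟩ := h2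
  rw [IsLocalization.mem_map_algebraMap_iff (M := q.primeCompl)] at hn
  obtain ⟨⟨c, b⟩, hcb⟩ := hn
  rw [← map_pow, ← map_mul, IsLocalization.eq_iff_exists q.primeCompl] at hcb
  obtain ⟨t, ht⟩ := hcb
  refine ⟨n, t * b, (t * b).2, ?_⟩
  have : (t : A) * (b : A) * a ^ n = (t : A) * (a ^ n * (b : A)) := by ring
  change (t : A) * (b : A) * a ^ n ∈ I
  rw [this, ht]
  exact I.mul_mem_left _ c.2

theorem exists_pow_smul_mem_ker {A X : Type*} [CommRing A] [AddCommGroup X] [Module A X]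
    (I q : Ideal A) [hq : q.IsPrime] (hqI : q ∈ I.minimalPrimes)
    (hI : ∀ r ∈ I, ∀ x : X, r • x = 0) (a : A) (ha : a ∈ q) (x : X) :
    ∃ n : ℕ, a ^ n • x ∈ LinearMap.ker (LocalizedModule.mkLinearMap q.primeCompl X) := by
  obtain ⟨n, u, hu, hua⟩ := exists_mul_pow_mem I q hqI a ha
  refine ⟨n, ?_⟩
  rw [LinearMap.mem_ker, IsLocalizedModule.eq_zero_iff q.primeCompl]
  refine ⟨⟨u, hu⟩, ?_⟩
  change u • a ^ n • x = 0
  rw [smul_smul]
  exact hI _ hua x

theorem exists_smul_mem_kers {A X : Type*} [CommRing A] [AddCommGroup X] [Module A X]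
    (I : Ideal A) {ι : Type} [Finite ι] (𝔓 : ι → Ideal A) [∀ i, (𝔓 i).IsPrime]
    (h𝔓 : ∀ i, 𝔓 i ∈ I.minimalPrimes) (h𝔓inj : Function.Injective 𝔓)
    (hI : ∀ r ∈ I, ∀ x : X, r • x = 0) (i : ι) (x : X) :
    ∃ s : A, s ∉ 𝔓 i ∧ ∀ j, j ≠ i →
      s • x ∈ LinearMap.ker (LocalizedModule.mkLinearMap (𝔓 j).primeCompl X) := by
  classical
  haveI := Fintype.ofFinite ι
  have h1 : ∀ j, j ≠ i → ∃ s : A, s ∉ 𝔓 i ∧
      s • x ∈ LinearMap.ker (LocalizedModule.mkLinearMap (𝔓 j).primeCompl X) := by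
    intro j hji
    obtain ⟨a, haj, hai⟩ : ∃ a ∈ 𝔓 j, a ∉ 𝔓 i := by
      by_contra hcon
      push Not at hcon
      have hle : 𝔓 j ≤ 𝔓 i := hcon
      have hle' : 𝔓 i ≤ 𝔓 j := (h𝔓 i).2 (h𝔓 j).1 hle
      exact hji (h𝔓inj (le_antisymm hle hle'))
    obtain ⟨n, hn⟩ := exists_pow_smul_mem_ker I (𝔓 j) (h𝔓 j) hI a haj x
    exact ⟨a ^ n, fun h => hai (Ideal.IsPrime.mem_of_pow_mem inferInstance n h), hn⟩
  choose! s hs1 hs2 using h1
  refine ⟨∏ j ∈ Finset.univ.erase i, s j, ?_, ?_⟩
  · rw [Ideal.IsPrime.prod_mem_iff]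
    rintro ⟨j, hj, hmem⟩
    exact hs1 j (Finset.ne_of_mem_erase hj) hmem
  · intro j hji
    have hj : j ∈ Finset.univ.erase i := Finset.mem_erase.mpr ⟨hji, Finset.mem_univ j⟩
    rw [← Finset.mul_prod_erase _ _ hj, mul_comm, mul_smul]
    exact Submodule.smul_mem _ _ (hs2 j hji)

/-- Let A be a Noetherian ring, π an element of A, and (𝔓_i)_{i ∈ ι} an injective finite family listing
exactly the minimal prime ideals over (π). Let M be a finitely generated A-module and M̄ = M/πM. For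
a subset T of ι let K(T) ⊆ M̄ be the submodule of elements whose image in the localisation of M̄ at
𝔓_i is zero for every i ∈ T, and N(T) ⊆ M its preimage in M. Assume K(ι) = 0, i.e. no nonzero
element of M̄ vanishes at all the minimal primes (every associated prime of M̄ is one of the 𝔓_i).
Then for every subset Y of ι with complement Z one has N(Y) ∩ N(Z) = πM, and the same construction
applied to the module N(Y) instead of M — the preimage in N(Y) of the elements of N(Y)/πN(Y)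
vanishing at every 𝔓_i with i ∈ Z — is, as a submodule of M, equal to N(Y) ∩ N(Z). (Geometric
meaning: A is the local ring of a flat family of curves over a discrete valuation ring with
uniformizer π at a point of the reduced special fibre, M the stalk of a torsion-free rank-one sheaf
I, Y a set of components of the special fibre through the point, and N(Y) the stalk of the kernel
I^Y of I → I(s)_Y; the statement is (I^Y)^Z = I^Y ∩ I^Z = πI. Reducedness of A/πA, flatness and rank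
one are not used.) -/
theorem result
    (A : Type u) [CommRing A] [IsNoetherianRing A] (π : A)
    (ι : Type) [Finite ι] (𝔓 : ι → Ideal A) [∀ i, (𝔓 i).IsPrime]
    (h𝔓 : ∀ i, 𝔓 i ∈ (Ideal.span {π}).minimalPrimes) (h𝔓inj : Function.Injective 𝔓)
    (h𝔓surj : ∀ 𝔔 ∈ (Ideal.span {π}).minimalPrimes, ∃ i, 𝔓 i = 𝔔)
    (M : Type u) [AddCommGroup M] [Module A M] [Module.Finite A M]
    (K : Set ι → Submodule A (M ⧸ Ideal.span {π} • (⊤ : Submodule A M)))
    (hK : ∀ T : Set ι, K T = ⨅ i ∈ T, LinearMap.ker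
      (LocalizedModule.mkLinearMap (𝔓 i).primeCompl (M ⧸ Ideal.span {π} • (⊤ : Submodule A M))))
    (htf : K Set.univ = ⊥)
    (N : Set ι → Submodule A M)
    (hN : ∀ T : Set ι, N T = (K T).comap (Submodule.mkQ (Ideal.span {π} • (⊤ : Submodule A M))))
    (Y : Set ι) :
    N Y ⊓ N Yᶜ = Ideal.span {π} • (⊤ : Submodule A M) ∧
    Submodule.map (N Y).subtype
      ((⨅ i ∈ Yᶜ, LinearMap.ker (LocalizedModule.mkLinearMap (𝔓 i).primeCompl
          (↥(N Y) ⧸ Ideal.span {π} • (⊤ : Submodule A ↥(N Y))))).comap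
        (Submodule.mkQ (Ideal.span {π} • (⊤ : Submodule A ↥(N Y)))))
      = N Y ⊓ N Yᶜ := by
  classical
  have hπ : ∀ r ∈ Ideal.span {π}, ∀ x : M ⧸ Ideal.span {π} • (⊤ : Submodule A M), r • x = 0 := by
    intro r hr x
    obtain ⟨m, rfl⟩ := Submodule.Quotient.mk_surjective _ x
    rw [← Submodule.Quotient.mk_smul, Submodule.Quotient.mk_eq_zero]
    exact Submodule.smul_mem_smul hr Submodule.mem_top
  have hKK : K Y ⊓ K Yᶜ = ⊥ := by
    rw [← htf, hK, hK, hK, ← iInf_union, Set.union_compl_self]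
  have part1 : N Y ⊓ N Yᶜ = Ideal.span {π} • (⊤ : Submodule A M) := by
    rw [hN, hN, ← Submodule.comap_inf, hKK, Submodule.comap_bot, Submodule.ker_mkQ]
  refine ⟨part1, ?_⟩
  ext x
  constructor
  · rintro ⟨n, hn, rfl⟩
    rw [Submodule.mem_inf]
    refine ⟨n.2, ?_⟩
    rw [hN, Submodule.mem_comap, hK]
    simp only [Submodule.mem_iInf]
    intro i hi
    rw [SetLike.mem_coe, Submodule.mem_comap] at hn
    simp only [Submodule.mem_iInf] at hn
    have h1 := hn i hi
    rw [LinearMap.mem_ker, IsLocalizedModule.eq_zero_iff (𝔓 i).primeCompl] at h1 ⊢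
    obtain ⟨s, hs⟩ := h1
    refine ⟨s, ?_⟩
    rw [Submodule.mkQ_apply, Submonoid.smul_def, ← Submodule.Quotient.mk_smul,
      Submodule.Quotient.mk_eq_zero, mem_span_smul_top] at hs
    obtain ⟨n', hn'⟩ := hs
    rw [Submodule.subtype_apply, Submodule.mkQ_apply, Submonoid.smul_def,
      ← Submodule.Quotient.mk_smul, Submodule.Quotient.mk_eq_zero, mem_span_smul_top]
    refine ⟨(n' : M), ?_⟩
    have := congrArg Subtype.val hn'
    simpa using this
  · intro hx
    have hxπ : x ∈ Ideal.span {π} • (⊤ : Submodule A M) := by rw [← part1]; exact hx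
    rw [mem_span_smul_top] at hxπ
    obtain ⟨m, hm⟩ := hxπ
    refine ⟨⟨x, hx.1⟩, ?_, rfl⟩
    rw [SetLike.mem_coe, Submodule.mem_comap]
    simp only [Submodule.mem_iInf]
    intro i hi
    obtain ⟨s, hsi, hs⟩ := exists_smul_mem_kers (Ideal.span {π}) 𝔓 h𝔓 h𝔓inj hπ i
      (Submodule.Quotient.mk m : M ⧸ Ideal.span {π} • (⊤ : Submodule A M))
    have hsm : s • m ∈ N Y := by
      rw [hN, Submodule.mem_comap, hK]
      simp only [Submodule.mem_iInf]
      intro j hj
      have hji : j ≠ i := by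
        rintro rfl
        exact hi hj
      rw [map_smul]
      exact hs j hji
    rw [LinearMap.mem_ker, IsLocalizedModule.eq_zero_iff (𝔓 i).primeCompl]
    refine ⟨⟨s, hsi⟩, ?_⟩
    rw [Submodule.mkQ_apply, Submonoid.smul_def, ← Submodule.Quotient.mk_smul,
      Submodule.Quotient.mk_eq_zero, mem_span_smul_top]
    refine ⟨⟨s • m, hsm⟩, ?_⟩
    apply Subtype.ext
    change π • s • m = s • x
    rw [← hm, smul_comm]

end Groth.Agent.S18364
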