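import Groth.Statements.S18365
import Mathlib

set_option autoImplicit false
universe u
open CAlg

namespace Groth.Agent.S18365

theorem mem_span_smul_top {A M : Type*} [CommRing A] [AddCommGroup M] [Module A M] (a : A)
    (x : M) : x ∈ Ideal.span {a} • (⊤ : Submodule A M) ↔ ∃ y : M, a • y = x := by
  rw [Submodule.ideal_span_singleton_smul, Submodule.mem_smul_pointwise_iff_exists]
  constructor
  · rintro ⟨y, -, hy⟩
    exact ⟨y, hy⟩
  · rintro ⟨y, hy⟩
    exact ⟨y, Submodule.mem_top, hy⟩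

theorem mem_ker_iff {A X : Type*} [CommRing A] [AddCommGroup X] [Module A X] (π : A)
    (q : Ideal A) [q.IsPrime] (x : X) :
    (Submodule.mkQ (Ideal.span {π} • (⊤ : Submodule A X)) x) ∈
      LinearMap.ker (LocalizedModule.mkLinearMap q.primeCompl
        (X ⧸ Ideal.span {π} • (⊤ : Submodule A X))) ↔
      ∃ s : A, s ∉ q ∧ ∃ x₁ : X, π • x₁ = s • x := by
  rw [LinearMap.mem_ker, IsLocalizedModule.eq_zero_iff q.primeCompl]
  constructor
  · rintro ⟨s, hs⟩
    rw [Submodule.mkQ_apply, Submonoid.smul_def, ← Submodule.Quotient.mk_smul,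
      Submodule.Quotient.mk_eq_zero, mem_span_smul_top] at hs
    exact ⟨s, s.2, hs⟩
  · rintro ⟨s, hs, x₁, hx₁⟩
    refine ⟨⟨s, hs⟩, ?_⟩
    rw [Submodule.mkQ_apply, Submonoid.smul_def, ← Submodule.Quotient.mk_smul,
      Submodule.Quotient.mk_eq_zero, mem_span_smul_top]
    exact ⟨x₁, hx₁⟩

/-- Let A be a Noetherian ring, π an element of A, (𝔓_i)_{i ∈ ι} an injective finite family listing
exactly the minimal prime ideals over (π), and M a finitely generated A-module on which π acts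
injectively; put M̄ = M/πM. For T ⊆ ι let K(T) ⊆ M̄ be the submodule of elements whose image in the
localisation of M̄ at 𝔓_i vanishes for every i ∈ T, and N(T) ⊆ M its preimage; assume K(ι) = 0.
Suppose that M̄ decomposes at Y, i.e. K(Y) + K(Yᶜ) = M̄, and that for a subset Z the module
N(Y)/πN(Y) decomposes at Z, i.e. its submodule of elements vanishing at every 𝔓_i (i ∈ Z) and its
submodule of elements vanishing at every 𝔓_i (i ∉ Z) together span it. Then M̄ decomposes at Z: K(Z)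
+ K(Zᶜ) = M̄. (Geometric meaning: for a flat family of curves over a discrete valuation ring with
uniformizer π, I a torsion-free rank-one sheaf flat over the base, Y a subcurve of the special fibre
X(s) at which I(s) decomposes and I^Y = ker(I → I(s)_Y): if I^Y(s) decomposes at a subcurve Z then
so does I(s); decomposition of a sheaf at Z is the surjectivity of I(s) → I(s)_Z ⊕ I(s)_{Z^c},
checked on stalks. Reducedness of the special fibre and rank one are not used.) -/
theorem result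
    (A : Type u) [CommRing A] [IsNoetherianRing A] (π : A)
    (ι : Type) [Finite ι] (𝔓 : ι → Ideal A) [∀ i, (𝔓 i).IsPrime]
    (h𝔓 : ∀ i, 𝔓 i ∈ (Ideal.span {π}).minimalPrimes) (h𝔓inj : Function.Injective 𝔓)
    (h𝔓surj : ∀ 𝔔 ∈ (Ideal.span {π}).minimalPrimes, ∃ i, 𝔓 i = 𝔔)
    (M : Type u) [AddCommGroup M] [Module A M] [Module.Finite A M]
    (hπ : ∀ m : M, π • m = 0 → m = 0)
    (K : Set ι → Submodule A (M ⧸ Ideal.span {π} • (⊤ : Submodule A M)))
    (hK : ∀ T : Set ι, K T = ⨅ i ∈ T, LinearMap.ker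
      (LocalizedModule.mkLinearMap (𝔓 i).primeCompl (M ⧸ Ideal.span {π} • (⊤ : Submodule A M))))
    (htf : K Set.univ = ⊥)
    (N : Set ι → Submodule A M)
    (hN : ∀ T : Set ι, N T = (K T).comap (Submodule.mkQ (Ideal.span {π} • (⊤ : Submodule A M))))
    (Y Z : Set ι) (hY : K Y ⊔ K Yᶜ = ⊤)
    (K' : Set ι → Submodule A (↥(N Y) ⧸ Ideal.span {π} • (⊤ : Submodule A ↥(N Y))))
    (hK' : ∀ T : Set ι, K' T = ⨅ i ∈ T, LinearMap.ker
      (LocalizedModule.mkLinearMap (𝔓 i).primeCompl (↥(N Y) ⧸ Ideal.span {π} • (⊤ : Submodule A ↥(N Y)))))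
    (hZ : K' Z ⊔ K' Zᶜ = ⊤) :
    K Z ⊔ K Zᶜ = ⊤ := by
  classical
  have hKK : ∀ T : Set ι, K T ⊓ K Tᶜ = ⊥ := by
    intro T
    rw [← htf, hK, hK, hK, ← iInf_union, Set.union_compl_self]
  have memK : ∀ (T : Set ι) (m : M), (Submodule.mkQ (Ideal.span {π} • (⊤ : Submodule A M))) m ∈ K T ↔
      ∀ i ∈ T, ∃ s : A, s ∉ 𝔓 i ∧ ∃ m₁ : M, π • m₁ = s • m := by
    intro T m
    rw [hK]
    simp only [Submodule.mem_iInf]
    exact forall₂_congr (fun i _ => mem_ker_iff π (𝔓 i) m)
  have memK' : ∀ (T : Set ι) (a : ↥(N Y)), (Submodule.mkQ (Ideal.span {π} • (⊤ : Submodule A ↥(N Y)))) a ∈ K' T ↔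
      ∀ i ∈ T, ∃ s : A, s ∉ 𝔓 i ∧ ∃ n₁ : ↥(N Y), π • n₁ = s • a := by
    intro T a
    rw [hK']
    simp only [Submodule.mem_iInf]
    exact forall₂_congr (fun i _ => mem_ker_iff π (𝔓 i) a)
  have memN : ∀ (T : Set ι) (m : M), m ∈ N T ↔ (Submodule.mkQ (Ideal.span {π} • (⊤ : Submodule A M))) m ∈ K T := by
    intro T m
    rw [hN, Submodule.mem_comap]
  have transfer : ∀ (T : Set ι) (a : ↥(N Y)), (Submodule.mkQ (Ideal.span {π} • (⊤ : Submodule A ↥(N Y)))) a ∈ K' T → (Submodule.mkQ (Ideal.span {π} • (⊤ : Submodule A M))) (a : M) ∈ K T := by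
    intro T a ha
    rw [memK]
    rw [memK'] at ha
    intro i hi
    obtain ⟨s, hs, n₁, hn₁⟩ := ha i hi
    refine ⟨s, hs, (n₁ : M), ?_⟩
    have := congrArg Subtype.val hn₁
    simpa using this
  have decomp : ∀ a₀ : ↥(N Y), ∃ a b n'' : ↥(N Y), (Submodule.mkQ (Ideal.span {π} • (⊤ : Submodule A ↥(N Y)))) a ∈ K' Z ∧ (Submodule.mkQ (Ideal.span {π} • (⊤ : Submodule A ↥(N Y)))) b ∈ K' Zᶜ ∧
      a + b - a₀ = π • n'' := by
    intro a₀
    have h : (Submodule.mkQ (Ideal.span {π} • (⊤ : Submodule A ↥(N Y)))) a₀ ∈ K' Z ⊔ K' Zᶜ := by rw [hZ]; trivial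
    obtain ⟨y, hy, z, hz, hyz⟩ := Submodule.mem_sup.mp h
    obtain ⟨a, rfl⟩ := Submodule.mkQ_surjective _ y
    obtain ⟨b, rfl⟩ := Submodule.mkQ_surjective _ z
    have h0 : (Submodule.mkQ (Ideal.span {π} • (⊤ : Submodule A ↥(N Y)))) (a + b - a₀) = 0 := by
      rw [map_sub, map_add, hyz, sub_self]
    rw [Submodule.mkQ_apply, Submodule.Quotient.mk_eq_zero, mem_span_smul_top] at h0
    obtain ⟨n'', hn''⟩ := h0
    exact ⟨a, b, n'', hy, hz, hn''.symm⟩
  have hzero : ∀ m : M, (Submodule.mkQ (Ideal.span {π} • (⊤ : Submodule A M))) (π • m) = 0 := by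
    intro m
    rw [Submodule.mkQ_apply, Submodule.Quotient.mk_eq_zero, mem_span_smul_top]
    exact ⟨m, rfl⟩
  rw [eq_top_iff]
  intro x _
  have hx : x ∈ K Y ⊔ K Yᶜ := by rw [hY]; trivial
  obtain ⟨x₁, hx₁, x₂, hx₂, rfl⟩ := Submodule.mem_sup.mp hx
  refine Submodule.add_mem _ ?_ ?_
  · obtain ⟨m, rfl⟩ := Submodule.mkQ_surjective _ x₁
    have hmN : m ∈ N Y := (memN Y m).mpr hx₁
    obtain ⟨a, b, n'', ha, hb, hab⟩ := decomp ⟨m, hmN⟩
    have hab' : (a : M) + (b : M) - m = π • (n'' : M) := by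
      have := congrArg Subtype.val hab
      simpa using this
    have hmeq : (Submodule.mkQ (Ideal.span {π} • (⊤ : Submodule A M))) m = (Submodule.mkQ (Ideal.span {π} • (⊤ : Submodule A M))) (a : M) + (Submodule.mkQ (Ideal.span {π} • (⊤ : Submodule A M))) (b : M) := by
      have h0 : (Submodule.mkQ (Ideal.span {π} • (⊤ : Submodule A M))) ((a : M) + (b : M) - m) = 0 := by
        rw [hab']; exact hzero _
      rw [map_sub, map_add, sub_eq_zero] at h0
      exact h0.symm
    rw [hmeq]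
    exact Submodule.add_mem _ (Submodule.mem_sup_left (transfer Z a ha))
      (Submodule.mem_sup_right (transfer Zᶜ b hb))
  · obtain ⟨m, rfl⟩ := Submodule.mkQ_surjective _ x₂
    have hπmN : π • m ∈ N Y := by
      rw [memN, hzero]
      exact Submodule.zero_mem _
    obtain ⟨a, b, n'', ha, hb, hab⟩ := decomp ⟨π • m, hπmN⟩
    have hab' : (a : M) + (b : M) - π • m = π • (n'' : M) := by
      have := congrArg Subtype.val hab
      simpa using this
    have haZ := transfer Z a ha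
    have hbZ := transfer Zᶜ b hb
    have hsum0 : (Submodule.mkQ (Ideal.span {π} • (⊤ : Submodule A M))) (a : M) + (Submodule.mkQ (Ideal.span {π} • (⊤ : Submodule A M))) (b : M) = 0 := by
      have : (a : M) + (b : M) = π • (m + (n'' : M)) := by
        rw [smul_add, ← hab']; abel
      rw [← map_add, this]
      exact hzero _
    have ha0 : (Submodule.mkQ (Ideal.span {π} • (⊤ : Submodule A M))) (a : M) = 0 := by
      have h1 : (Submodule.mkQ (Ideal.span {π} • (⊤ : Submodule A M))) (a : M) ∈ K Z ⊓ K Zᶜ := by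
        refine ⟨haZ, ?_⟩
        rw [eq_neg_of_add_eq_zero_left hsum0]
        exact Submodule.neg_mem _ hbZ
      rw [hKK Z] at h1
      exact (Submodule.mem_bot A).mp h1
    have hb0 : (Submodule.mkQ (Ideal.span {π} • (⊤ : Submodule A M))) (b : M) = 0 := by
      rw [ha0, zero_add] at hsum0
      exact hsum0
    rw [Submodule.mkQ_apply, Submodule.Quotient.mk_eq_zero, mem_span_smul_top] at ha0 hb0
    obtain ⟨a', ha'⟩ := ha0
    obtain ⟨b', hb'⟩ := hb0
    have hreg : a' + b' = m + (n'' : M) := by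
      apply sub_eq_zero.mp
      apply hπ
      rw [smul_sub, smul_add, smul_add, ha', hb', ← hab']
      abel
    have hdec : ∀ y : M ⧸ Ideal.span {π} • (⊤ : Submodule A M),
        ∃ y₁ ∈ K Y, ∃ y₂ ∈ K Yᶜ, y₁ + y₂ = y :=
      fun y => Submodule.mem_sup.mp (by rw [hY]; trivial)
    obtain ⟨αY, hαY, αYc, hαYc, hα⟩ := hdec ((Submodule.mkQ (Ideal.span {π} • (⊤ : Submodule A M))) a')
    obtain ⟨βY, hβY, βYc, hβYc, hβ⟩ := hdec ((Submodule.mkQ (Ideal.span {π} • (⊤ : Submodule A M))) b')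
    have hm_eq : (Submodule.mkQ (Ideal.span {π} • (⊤ : Submodule A M))) m = αYc + βYc := by
      have h1 : (Submodule.mkQ (Ideal.span {π} • (⊤ : Submodule A M))) m = (αY + βY - (Submodule.mkQ (Ideal.span {π} • (⊤ : Submodule A M))) (n'' : M)) + (αYc + βYc) := by
        have : (Submodule.mkQ (Ideal.span {π} • (⊤ : Submodule A M))) m = (Submodule.mkQ (Ideal.span {π} • (⊤ : Submodule A M))) a' + (Submodule.mkQ (Ideal.span {π} • (⊤ : Submodule A M))) b' - (Submodule.mkQ (Ideal.span {π} • (⊤ : Submodule A M))) (n'' : M) := by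
          rw [← map_add, hreg, map_add]; abel
        rw [this, ← hα, ← hβ]; abel
      have h2 : αY + βY - (Submodule.mkQ (Ideal.span {π} • (⊤ : Submodule A M))) (n'' : M) ∈ K Y ⊓ K Yᶜ := by
        refine ⟨Submodule.sub_mem _ (Submodule.add_mem _ hαY hβY) ((memN Y _).mp n''.2), ?_⟩
        have : αY + βY - (Submodule.mkQ (Ideal.span {π} • (⊤ : Submodule A M))) (n'' : M) = (Submodule.mkQ (Ideal.span {π} • (⊤ : Submodule A M))) m - (αYc + βYc) := by
          rw [h1]; abel
        rw [this]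
        exact Submodule.sub_mem _ hx₂ (Submodule.add_mem _ hαYc hβYc)
      rw [hKK Y] at h2
      rw [(Submodule.mem_bot A).mp h2, zero_add] at h1
      exact h1
    rw [hm_eq]
    have key : ∀ (T : Set ι) (c : ↥(N Y)) (c' : M) (_ : π • c' = (c : M))
        (γY γYc : M ⧸ Ideal.span {π} • (⊤ : Submodule A M)) (_ : γY ∈ K Y) (_ : γYc ∈ K Yᶜ)
        (_ : γY + γYc = (Submodule.mkQ (Ideal.span {π} • (⊤ : Submodule A M))) c'), (Submodule.mkQ (Ideal.span {π} • (⊤ : Submodule A ↥(N Y)))) c ∈ K' T → γYc ∈ K T := by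
      intro T c c' hc' γY γYc hγY hγYc hγ hc
      rw [memK'] at hc
      rw [hK]
      simp only [Submodule.mem_iInf]
      intro i hi
      obtain ⟨s, hs, n₁, hn₁⟩ := hc i hi
      have h1 : (n₁ : M) = s • c' := by
        apply sub_eq_zero.mp
        apply hπ
        have h := congrArg Subtype.val hn₁
        simp only [Submodule.coe_smul] at h
        rw [smul_sub, smul_comm π s c', hc', h, sub_self]
      have h2 : s • (Submodule.mkQ (Ideal.span {π} • (⊤ : Submodule A M))) c' ∈ K Y := by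
        rw [← map_smul, ← h1]
        exact (memN Y _).mp n₁.2
      have h3 : s • γYc = 0 := by
        have h4 : s • γYc ∈ K Y ⊓ K Yᶜ := by
          refine ⟨?_, Submodule.smul_mem _ _ hγYc⟩
          have : s • γYc = s • (Submodule.mkQ (Ideal.span {π} • (⊤ : Submodule A M))) c' - s • γY := by
            rw [← hγ, smul_add]; abel
          rw [this]
          exact Submodule.sub_mem _ h2 (Submodule.smul_mem _ _ hγY)
        rw [hKK Y] at h4
        exact (Submodule.mem_bot A).mp h4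
      rw [LinearMap.mem_ker, IsLocalizedModule.eq_zero_iff (𝔓 i).primeCompl]
      exact ⟨⟨s, hs⟩, h3⟩
    exact Submodule.add_mem _
      (Submodule.mem_sup_left (key Z a a' ha' αY αYc hαY hαYc hα ha))
      (Submodule.mem_sup_right (key Zᶜ b b' hb' βY βYc hβY hβYc hβ hb))

end Groth.Agent.S18365
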