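import Groth.Statements.S18366
import Mathlib
import Groth.Agent.S1549
import Groth.Agent.Lib.helper28.SepClosedPoint

set_option autoImplicit false
universe u
open CategoryTheory CategoryTheory.Limits AlgebraicGeometry
open Variety

namespace Groth.Agent.S18366
open CategoryTheory AlgebraicGeometry

/-- Let k be a separably closed field and X a non-empty k-scheme of finite type which is geometrically
reduced. Then X has a k-rational point, i.e. the structure morphism admits a section. (Non-emptiness
is part of the hypotheses: the empty scheme is geometrically reduced of finite type and has no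
point. The published statement does not assume X non-empty; this row does, since the empty scheme
has no rational point.) -/
theorem result (k : Type u) [Field k] [IsSepClosed k]
    {X : Scheme.{u}} (f : X ⟶ Spec (CommRingCat.of k)) [LocallyOfFiniteType f] [QuasiCompact f] [GeometricallyReduced f]
    [Nonempty X] :
    ∃ s : Spec (CommRingCat.of k) ⟶ X, s ≫ f = 𝟙 (Spec (CommRingCat.of k)) := by
  haveI : Flat f := inferInstance
  haveI : IsReduced X := GeometricallyReduced.isReduced_of_flat_of_isLocallyNoetherian f
  letI : X.Over (Spec (CommRingCat.of k)) := ⟨f⟩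
  have hfo : (X ↘ (Spec (CommRingCat.of k))) = f := rfl
  haveI : LocallyOfFiniteType (X ↘ (Spec (CommRingCat.of k))) := by rw [hfo]; infer_instance
  haveI : GeometricallyReduced (X ↘ (Spec (CommRingCat.of k))) := by rw [hfo]; infer_instance
  obtain ⟨U, hUd, hUs⟩ := (Groth.Agent.S1549.result k X).mp inferInstance
  rw [hfo] at hUs
  obtain ⟨x, hx⟩ := hUd.nonempty
  obtain ⟨W, hW1, hW2, hW3⟩ := exists_isAffineOpen_mem_and_subset (x := x) (U := U) hx
  -- W : X.Opens affine, x ∈ W, W ≤ U
  haveI : IsAffine W := hW1
  have hWs : Smooth (W.ι ≫ f) := by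
    have : W.ι ≫ f = X.homOfLE hW3 ≫ (U.ι ≫ f) := by
      rw [← Category.assoc, Scheme.homOfLE_ι]
    rw [this]
    infer_instance
  let C : CommRingCat := Γ(W, ⊤)
  let φ : CommRingCat.of k ⟶ C := Spec.preimage ((W : Scheme).isoSpec.inv ≫ W.ι ≫ f)
  have hφ : Spec.map φ = (W : Scheme).isoSpec.inv ≫ W.ι ≫ f := Spec.map_preimage _
  have hsm : Smooth (Spec.map φ) := by rw [hφ]; infer_instance
  have hφs : φ.hom.Smooth := (HasRingHomProperty.Spec_iff (P := @Smooth)).mp hsm
  letI : Algebra k C := φ.hom.toAlgebra
  haveI : Algebra.Smooth k C := hφs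
  haveI : Nonempty (W : Scheme) := ⟨⟨x, hW2⟩⟩
  haveI : Nontrivial C := by
    have : Nonempty (Spec C) := ⟨(W : Scheme).isoSpec.hom ⟨x, hW2⟩⟩
    have : Nonempty (PrimeSpectrum C) := this
    exact (PrimeSpectrum.nonempty_iff_nontrivial).mp this
  obtain ⟨h⟩ := Groth.Agent.Lib.helper28.SepClosedPoint.exists_algHom_of_smooth k C
  refine ⟨Spec.map (CommRingCat.ofHom h.toRingHom) ≫ (W : Scheme).isoSpec.inv ≫ W.ι, ?_⟩
  rw [Category.assoc, Category.assoc, ← hφ, ← Spec.map_comp]
  have : φ ≫ CommRingCat.ofHom h.toRingHom = 𝟙 _ := by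
    ext c
    exact h.commutes c
  exact (congrArg Spec.map this).trans (Spec.map_id _)

end Groth.Agent.S18366
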