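import Groth.Statements.S18370
import Mathlib

set_option autoImplicit false
set_option linter.style.haveILetI false
universe u
open CategoryTheory CategoryTheory.Limits MonoidalCategory CartesianMonoidalCategory MonObj GrpObj AlgebraicGeometry
open GrpSch

namespace Groth.Agent.S18370

/-- Let S be a scheme and G a commutative S-group scheme which is killed by a natural number n, i.e. the
n-th power map of G is the trivial homomorphism, and let n = a·b with a and b coprime. If i_a : G_a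
→ G and i_b : G_b → G are scheme-theoretic kernels of the a-th and b-th power maps of G, then the
morphism G_a ×_S G_b → G sending (x, y) to i_a(x)·i_b(y) is an isomorphism of S-schemes. (The
published statement assumes n ≠ 0; the case n = 0, where {a, b} = {0, 1} and one kernel is all of G
while the other is trivial, is included here.) -/
theorem result {S : Scheme.{u}} (G Ga Gb : Over S)
    [GrpObj G] [IsCommMonObj G] (n a b : ℕ) (hn : n = a * b) (hab : Nat.Coprime a b)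
    (hG : (𝟙 G) ^ n = 1)
    (ia : Ga ⟶ G) (hia : AlgGrp.IsKernel ia ((𝟙 G) ^ a))
    (ib : Gb ⟶ G) (hib : AlgGrp.IsKernel ib ((𝟙 G) ^ b)) :
    IsIso ((fst Ga Gb ≫ ia) * (snd Ga Gb ≫ ib)) := by
  -- every `T`-point of `G` is killed by `n`
  have key : ∀ {T : Over S} (g : T ⟶ G), g ^ n = 1 := by
    intro T g
    have h1 : g ≫ (𝟙 G) ^ n = (g ≫ 𝟙 G) ^ n := MonObj.comp_pow (𝟙 G) n g
    rw [hG, Category.comp_id, MonObj.comp_one] at h1
    exact h1.symm
  have hpow : ∀ {T : Over S} (g : T ⟶ G) (c : ℕ), g ≫ (𝟙 G) ^ c = g ^ c := by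
    intro T g c
    rw [MonObj.comp_pow, Category.comp_id]
  have hzpow : ∀ {T : Over S} (g : T ⟶ G) (c : ℤ), g ≫ (𝟙 G) ^ c = g ^ c := by
    intro T g c
    rw [GrpObj.comp_zpow, Category.comp_id]
  obtain ⟨u, v, huv⟩ : ∃ u v : ℤ, (a : ℤ) * u + (b : ℤ) * v = 1 := by
    refine ⟨Nat.gcdA a b, Nat.gcdB a b, ?_⟩
    have := Nat.gcd_eq_gcd_ab a b
    rw [hab.gcd_eq_one] at this
    exact_mod_cast this.symm
  -- the two components of the inverse
  have hα : ((𝟙 G) ^ ((b : ℤ) * v)) ≫ (𝟙 G) ^ a = toUnit G ≫ η[G] := by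
    rw [hpow, ← zpow_natCast, ← zpow_mul, mul_comm ((b : ℤ) * v) (a : ℤ), ← _root_.mul_assoc,
      ← Nat.cast_mul, ← hn, zpow_mul, zpow_natCast, key, one_zpow]
    rfl
  have hβ : ((𝟙 G) ^ ((a : ℤ) * u)) ≫ (𝟙 G) ^ b = toUnit G ≫ η[G] := by
    rw [hpow, ← zpow_natCast, ← zpow_mul, mul_comm ((a : ℤ) * u) (b : ℤ), ← _root_.mul_assoc,
      ← Nat.cast_mul, mul_comm b a, ← hn, zpow_mul, zpow_natCast, key, one_zpow]
    rfl
  let α : G ⟶ Ga := hia.lift ((𝟙 G) ^ ((b : ℤ) * v)) (toUnit G) hα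
  let β : G ⟶ Gb := hib.lift ((𝟙 G) ^ ((a : ℤ) * u)) (toUnit G) hβ
  have hαi : α ≫ ia = (𝟙 G) ^ ((b : ℤ) * v) := hia.lift_fst _ _ _
  have hβi : β ≫ ib = (𝟙 G) ^ ((a : ℤ) * u) := hib.lift_fst _ _ _
  have hia_a : ∀ {T : Over S} (f : T ⟶ Ga), (f ≫ ia) ^ a = 1 := by
    intro T f
    rw [← hpow, Category.assoc, hia.w, ← Category.assoc]
    exact MonObj.comp_one (f ≫ toUnit Ga)
  have hib_b : ∀ {T : Over S} (f : T ⟶ Gb), (f ≫ ib) ^ b = 1 := by
    intro T f
    rw [← hpow, Category.assoc, hib.w, ← Category.assoc]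
    exact MonObj.comp_one (f ≫ toUnit Gb)
  set φ : Ga ⊗ Gb ⟶ G := (fst Ga Gb ≫ ia) * (snd Ga Gb ≫ ib) with hφ
  refine ⟨lift α β, ?_, ?_⟩
  · -- φ ≫ ψ = 𝟙
    apply CartesianMonoidalCategory.hom_ext
    · rw [Category.assoc, lift_fst, Category.id_comp]
      apply hia.hom_ext
      · rw [Category.assoc, hαi, hzpow, hφ, mul_zpow]
        have h2 : (snd Ga Gb ≫ ib) ^ ((b : ℤ) * v) = 1 := by
          rw [zpow_mul, zpow_natCast, hib_b, one_zpow]
        have h3 : (fst Ga Gb ≫ ia) ^ ((b : ℤ) * v) = fst Ga Gb ≫ ia := by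
          have : (b : ℤ) * v = 1 - (a : ℤ) * u := by linarith
          rw [this, zpow_sub, zpow_one, zpow_mul, zpow_natCast, hia_a, one_zpow, inv_one, _root_.mul_one]
        rw [h2, h3, _root_.mul_one]
      · exact toUnit_unique _ _
    · rw [Category.assoc, lift_snd, Category.id_comp]
      apply hib.hom_ext
      · rw [Category.assoc, hβi, hzpow, hφ, mul_zpow]
        have h2 : (fst Ga Gb ≫ ia) ^ ((a : ℤ) * u) = 1 := by
          rw [zpow_mul, zpow_natCast, hia_a, one_zpow]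
        have h3 : (snd Ga Gb ≫ ib) ^ ((a : ℤ) * u) = snd Ga Gb ≫ ib := by
          have : (a : ℤ) * u = 1 - (b : ℤ) * v := by linarith
          rw [this, zpow_sub, zpow_one, zpow_mul, zpow_natCast, hib_b, one_zpow, inv_one, _root_.mul_one]
        rw [h2, h3, _root_.one_mul]
      · exact toUnit_unique _ _
  · -- ψ ≫ φ = 𝟙
    rw [hφ, MonObj.comp_mul, ← Category.assoc, lift_fst, ← Category.assoc, lift_snd, hαi, hβi,
      ← zpow_add]
    have : (b : ℤ) * v + (a : ℤ) * u = 1 := by linarith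
    rw [this, zpow_one]

end Groth.Agent.S18370
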