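import Groth.Statements.S18374
import Groth.Agent.Lib.helper13.PhiStabElem

set_option autoImplicit false
universe u
open PhiStab

namespace Groth.Agent.S18374

open PhiStab in
/-- Let (V, E, ends) be a connected finite multigraph, φ a real weighting of its vertices and (m, N) a
sheaf datum on it (an integer multidegree m and a set N of edges, the non-free nodes) whose total
degree Σ_v m v + #N equals Σ_v φ v. Then (m, N) is φ-semistable, i.e. Σ_{v ∈ S} φ v - cut S / 2 ≤
deg_S(m, N) for every nonempty proper vertex set S, if and only if this inequality holds for every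
elementary S (one for which S and its complement both induce connected subgraphs); and likewise for
φ-stability with strict inequalities. This is the statement for a rank-1 torsion-free sheaf of
degree g - 1 on a stable pointed curve with this dual graph, written for the sheaf's combinatorial
datum, on which alone the stability inequalities depend and which takes all values. -/
theorem result {V E : Type u} [Fintype V] [Fintype E] [DecidableEq V] [DecidableEq E]
    (ends : E → V × V) (hconn : LabGraph.Connected ends)
    (φ : V → ℝ) (m : V → ℤ) (N : Finset E) (hdeg : (∑ v : V, φ v) = (totDeg m N : ℝ)) :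
    (IsSemistable ends φ m N ↔
      ∀ S : Finset V, IsElementary ends S →
        (∑ v ∈ S, φ v) - (LabGraph.cut ends S : ℝ) / 2 ≤ (degOn ends m N S : ℝ)) ∧
    (IsStable ends φ m N ↔
      ∀ S : Finset V, IsElementary ends S →
        (∑ v ∈ S, φ v) - (LabGraph.cut ends S : ℝ) / 2 < (degOn ends m N S : ℝ)) := by
  have helemNE : ∀ S : Finset V, IsElementary ends S → S.Nonempty ∧ S ≠ Finset.univ := by
    intro S hS
    have h1 := (Groth.Agent.Lib.helper13.PhiStabElem.connected_ind_iff ends S).mp hS.1
    have h2 := (Groth.Agent.Lib.helper13.PhiStabElem.connected_ind_iff ends Sᶜ).mp hS.2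
    refine ⟨h1.1, ?_⟩
    intro h
    obtain ⟨x, hx⟩ := h2.1
    rw [h] at hx
    simp at hx
  have hFF : ∀ S : Finset V, Groth.Agent.Lib.helper13.PhiStabElem.FF ends φ m N S
      = (degOn ends m N S : ℝ) - (∑ v ∈ S, φ v) + (LabGraph.cut ends S : ℝ) / 2 := fun S => rfl
  constructor
  · constructor
    · intro h S hS
      exact h S (helemNE S hS).1 (helemNE S hS).2
    · intro h S hSne hSu
      have := Groth.Agent.Lib.helper13.PhiStabElem.key ends hconn φ m N hdeg (fun x => 0 ≤ x)
        (fun x y hx hy => add_nonneg hx hy)
        (fun S h1 h2 => by
          have := h S ⟨(Groth.Agent.Lib.helper13.PhiStabElem.connected_ind_iff ends S).mpr h1,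
            (Groth.Agent.Lib.helper13.PhiStabElem.connected_ind_iff ends Sᶜ).mpr h2⟩
          show 0 ≤ Groth.Agent.Lib.helper13.PhiStabElem.FF ends φ m N S
          rw [hFF]
          linarith) S hSne hSu
      have h' : 0 ≤ Groth.Agent.Lib.helper13.PhiStabElem.FF ends φ m N S := this
      rw [hFF] at h'
      linarith
  · constructor
    · intro h S hS
      exact h S (helemNE S hS).1 (helemNE S hS).2
    · intro h S hSne hSu
      have := Groth.Agent.Lib.helper13.PhiStabElem.key ends hconn φ m N hdeg (fun x => 0 < x)
        (fun x y hx hy => add_pos hx hy)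
        (fun S h1 h2 => by
          have := h S ⟨(Groth.Agent.Lib.helper13.PhiStabElem.connected_ind_iff ends S).mpr h1,
            (Groth.Agent.Lib.helper13.PhiStabElem.connected_ind_iff ends Sᶜ).mpr h2⟩
          show 0 < Groth.Agent.Lib.helper13.PhiStabElem.FF ends φ m N S
          rw [hFF]
          linarith) S hSne hSu
      have h' : 0 < Groth.Agent.Lib.helper13.PhiStabElem.FF ends φ m N S := this
      rw [hFF] at h'
      linarith

end Groth.Agent.S18374
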