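import Groth.Statements.S18377
import Mathlib
import Groth.Agent.Lib.helper27.Verlinde2

set_option autoImplicit false
open Complex
open VerlindeComb

namespace Groth.Agent.S18377

open Groth.Agent.Lib.helper27.VerlindeLib in
/-- Let r, k ≥ 1 be integers and v_1 > v_2 > ⋯ > v_r ≥ 0 integers below r + k; put z_j = exp(2πi v_j /
(r + k)) and, for μ = (μ_1, …, μ_r), let S_μ(z) = det(z_j^{μ_i + r - i}) / det(z_j^{r - i}) be the
value of the Schur polynomial (the z_j are distinct, so the Vandermonde denominator is nonzero).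
Then, summing over all μ with k > μ_1 ≥ ⋯ ≥ μ_r ≥ 0 and writing μ* = (k - μ_r, …, k - μ_1), one has
Σ_μ S_μ(z) S_{μ*}(z) = exp(2πi k (v_1 + ⋯ + v_r) / (r + k)) · k (r + k)^{r-1} / ∏_{i<j} (2 sin(π
(v_i - v_j) / (r + k)))². Indices are 0-based below: μ i stands for μ_{i+1}. -/
theorem result (r k : ℕ) (hr : 1 ≤ r) (hk : 1 ≤ k)
    (v : Fin r → ℕ) (hv : StrictAnti v) (hvlt : ∀ i, v i < r + k)
    (z : Fin r → ℂ) (hz : ∀ j, z j = Complex.exp (2 * Real.pi * Complex.I * (v j : ℂ) / ((r : ℂ) + k)))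
    (S : (Fin r → ℕ) → ℂ)
    (hS : ∀ μ : Fin r → ℕ, S μ =
      (Matrix.of fun i j : Fin r => z j ^ (μ i + (r - 1 - (i : ℕ)))).det /
        (Matrix.of fun i j : Fin r => z j ^ (r - 1 - (i : ℕ))).det) :
    (∑ μ ∈ (Finset.univ : Finset (Fin r → Fin k)).filter (fun μ : Fin r → Fin k => Antitone μ),
        S (fun i => (μ i : ℕ)) * S (fun i => k - (μ (Fin.rev i) : ℕ))) =
      Complex.exp (2 * Real.pi * Complex.I * (k : ℂ) * ((∑ j, v j : ℕ) : ℂ) / ((r : ℂ) + k)) *
        ((k : ℂ) * ((r : ℂ) + k) ^ (r - 1)) /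
        (∏ p ∈ (Finset.univ : Finset (Fin r × Fin r)).filter (fun p => p.1 < p.2),
          (((2 : ℝ) * Real.sin (Real.pi * ((v p.1 : ℝ) - (v p.2 : ℝ)) / ((r : ℝ) + k))) ^ 2 : ℝ) : ℂ) := by
  classical
  have hnz : NeZero (r + k) := ⟨by omega⟩
  set n := r + k with hn
  have hncast : ((r : ℂ) + k) = (n : ℂ) := by rw [hn]; push_cast; ring
  have hn0 : (n : ℂ) ≠ 0 := by exact_mod_cast (NeZero.ne n)
  -- z in terms of zeta
  have hzζ : ∀ j, z j = zeta n ^ (v j) := by
    intro j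
    rw [hz, zeta, ← Complex.exp_nat_mul, hncast]
    congr 1
    ring
  set zc : Fin r → ℂ := fun j => (starRingEnd ℂ) (zeta n) ^ (v j) with hzcdef
  have hzc : ∀ j, z j * zc j = 1 := by
    intro j
    rw [hzζ, hzcdef]
    simp only
    rw [← mul_pow, zeta_mul_conj, one_pow]
  have hzn : ∀ j, z j ^ (r + k) = 1 := by
    intro j
    rw [hzζ, ← pow_mul, mul_comm, pow_mul, (zeta_prim n).pow_eq_one, one_pow]
  have hinj : Function.Injective z := by
    intro i j hij
    rw [hzζ, hzζ] at hij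
    exact hv.injective ((zeta_prim n).pow_inj (hvlt i) (hvlt j) hij)
  have hconj : ∀ j, (starRingEnd ℂ) (z j) = zc j := by
    intro j
    rw [hzζ, map_pow]
  set Δ := N z (fun i : Fin r => r - 1 - (i : ℕ)) with hΔ
  have hSN : ∀ μ : Fin r → ℕ, S μ = N z (fun i => μ i + (r - 1 - (i : ℕ))) / Δ := by
    intro μ
    rw [hS]
    rfl
  simp only [hSN]
  have hdiv : ∀ μ : Fin r → Fin k,
      N z (fun i => (μ i : ℕ) + (r - 1 - (i : ℕ))) / Δ *
        (N z (fun i => (k - (μ (Fin.rev i) : ℕ)) + (r - 1 - (i : ℕ))) / Δ) =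
      (N z (fun i => (μ i : ℕ) + (r - 1 - (i : ℕ))) *
        N z (fun i => (k - (μ (Fin.rev i) : ℕ)) + (r - 1 - (i : ℕ)))) / Δ ^ 2 := by
    intro μ
    rw [div_mul_div_comm, sq]
  simp only [hdiv]
  rw [← Finset.sum_div, sum_schur_dual k hr hk z zc hzn hzc hinj]
  -- the denominator
  set vF : Fin r → Fin n := fun i => ⟨v i, hvlt i⟩ with hvF
  have hP : (∏ p ∈ (Finset.univ : Finset (Fin r × Fin r)).filter (fun p => p.1 < p.2),
      (((2 : ℝ) * Real.sin (Real.pi * ((v p.1 : ℝ) - (v p.2 : ℝ)) / ((r : ℝ) + k))) ^ 2 : ℝ)) =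
      D n vF := by
    rw [D_eq_prod, Finset.prod_filter, ← Finset.univ_product_univ, Finset.prod_product]
    refine Finset.prod_congr rfl fun i _ => ?_
    rw [← Finset.prod_filter, Finset.filter_lt_eq_Ioi]
    refine Finset.prod_congr rfl fun j _ => ?_
    have e1 : ((r : ℝ) + k) = ((n : ℕ) : ℝ) := by rw [hn]; push_cast; ring
    rw [e1]
    have e2 : Real.pi * ((v i : ℝ) - (v j : ℝ)) / ((n : ℕ) : ℝ) =
        -(Real.pi * ((((vF j : Fin n) : ℕ) : ℝ) - (((vF i : Fin n) : ℕ) : ℝ)) / ((n : ℕ) : ℝ)) := by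
      simp only [hvF]
      ring
    rw [e2, Real.sin_neg]
    ring
  have hPC : (∏ p ∈ (Finset.univ : Finset (Fin r × Fin r)).filter (fun p => p.1 < p.2),
      (((((2 : ℝ) * Real.sin (Real.pi * ((v p.1 : ℝ) - (v p.2 : ℝ)) / ((r : ℝ) + k))) ^ 2 : ℝ)) : ℂ)) =
      Δ * ((∏ j, zc j ^ (r - 1)) *
        (((Equiv.Perm.sign (Fin.revPerm : Equiv.Perm (Fin r)) : ℤ) : ℂ) * Δ)) := by
    rw [← Complex.ofReal_prod, hP]
    have h1 : D n vF = Complex.normSq Δ := by
      rw [← normSq_N_delta]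
      congr 2
      funext j
      rw [hzζ]
    rw [h1, ← Complex.mul_conj, ← N_dual_delta z zc hzc]
    congr 1
    rw [hΔ]
    unfold N
    rw [RingHom.map_det]
    congr 1
    ext i j
    simp only [RingHom.mapMatrix_apply, Matrix.map_apply, Matrix.of_apply, map_pow, hconj]
  rw [hPC]
  -- exponential factor
  have hE : Complex.exp (2 * Real.pi * Complex.I * (k : ℂ) * ((∑ j, v j : ℕ) : ℂ) / ((r : ℂ) + k)) =
      ∏ j, z j ^ k := by
    have : ∀ j, z j ^ k = Complex.exp ((k : ℂ) * (2 * Real.pi * Complex.I * (v j : ℂ) / ((r : ℂ) + k))) := by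
      intro j
      rw [hz, ← Complex.exp_nat_mul]
    simp only [this]
    rw [← Complex.exp_sum]
    congr 1
    push_cast
    rw [Finset.mul_sum, Finset.sum_div]
    refine Finset.sum_congr rfl fun j _ => ?_
    ring
  rw [hE]
  have hck : ∀ j, zc j ^ (r - 1) * zc j = z j ^ k := by
    intro j
    have h1 : zc j ^ (r - 1) * zc j = zc j ^ r := by
      rw [← pow_succ]; congr 1; omega
    rw [h1]
    have h2 : z j ^ k * z j ^ r = 1 := by rw [← pow_add, add_comm, hzn]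
    have h3 : zc j ^ r * z j ^ r = 1 := by rw [← mul_pow, mul_comm, hzc, one_pow]
    calc zc j ^ r = zc j ^ r * (z j ^ k * z j ^ r) := by rw [h2, mul_one]
      _ = z j ^ k * (zc j ^ r * z j ^ r) := by ring
      _ = z j ^ k := by rw [h3, mul_one]
  have hprod : (∏ j, zc j ^ (r - 1)) * (∏ j, zc j) = ∏ j, z j ^ k := by
    rw [← Finset.prod_mul_distrib]
    exact Finset.prod_congr rfl fun j _ => hck j
  set s : ℂ := ((Equiv.Perm.sign (Fin.revPerm : Equiv.Perm (Fin r)) : ℤ) : ℂ) with hs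
  have hss : s * s = 1 := by
    rw [hs, ← Int.cast_mul]
    rcases Int.units_eq_one_or (Equiv.Perm.sign (Fin.revPerm : Equiv.Perm (Fin r))) with h | h <;>
      simp [h]
  have hs0 : s ≠ 0 := fun h => by rw [h, zero_mul] at hss; exact zero_ne_one hss
  have hzc0 : ∀ j, zc j ≠ 0 := fun j h => by
    have := hzc j; rw [h, mul_zero] at this; exact zero_ne_one this
  have hc'0 : (∏ j, zc j ^ (r - 1)) ≠ 0 := Finset.prod_ne_zero_iff.mpr fun j _ => pow_ne_zero _ (hzc0 j)
  rw [← hprod, hncast]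
  by_cases hΔ0 : Δ = 0
  · rw [hΔ0]; simp
  · field_simp
    linear_combination ((∏ j, zc j) * (k : ℂ)) * hss

end Groth.Agent.S18377
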