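import Groth.Statements.S18378
import Mathlib
import Groth.Agent.Lib.helper27.Verlinde3

set_option autoImplicit false
open Complex
open VerlindeComb

namespace Groth.Agent.S18378

open Groth.Agent.Lib.helper27.VerlindeLib in
/-- Let r, k ≥ 1 be integers and v, v' two integer vectors with r + k > v_1 > ⋯ > v_r ≥ 0 and r + k >
v'_1 > ⋯ > v'_r ≥ 0 whose difference v - v' is not a constant vector (a, …, a). Put z_j = exp(2πi
v_j / (r + k)), z'_j = exp(2πi v'_j / (r + k)), let S_μ(w) = det(w_j^{μ_i + r - i}) / det(w_j^{r -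
i}) be the Schur value at w = z or z', and write |x| for the sum of the coordinates of a vector and
μ* = (k - μ_r, …, k - μ_1). Then the sum over all μ with k ≥ μ_1 ≥ ⋯ ≥ μ_{r-1} ≥ μ_r = 0 of exp(-2πi
|μ| |v| / (r (r + k))) · exp(-2πi |μ*| |v'| / (r (r + k))) · S_μ(z) · S_{μ*}(z') is zero. The
vanishing is the orthogonality of distinct characters and holds exactly for non-equivalent v, v';
for v - v' constant the sum is nonzero. Indices are 0-based below: μ i stands for μ_{i+1}. -/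
theorem result (r k : ℕ) (hr : 1 ≤ r)
    (hk : 1 ≤ k) (v v' : Fin r → ℕ) (hv : StrictAnti v) (hvlt : ∀ i, v i < r + k) (hv' : StrictAnti v')
    (hv'lt : ∀ i, v' i < r + k) (hne : ¬ ∃ a : ℤ, ∀ i, (v i : ℤ) - (v' i : ℤ) = a)
    (z z' : Fin r → ℂ) (hz : ∀ j, z j = Complex.exp (2 * Real.pi * Complex.I * (v j : ℂ) / ((r : ℂ) + k)))
    (hz' : ∀ j, z' j = Complex.exp (2 * Real.pi * Complex.I * (v' j : ℂ) / ((r : ℂ) + k)))
    (S S' : (Fin r → ℕ) → ℂ)
    (hS : ∀ μ : Fin r → ℕ, S μ =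
      (Matrix.of fun i j : Fin r => z j ^ (μ i + (r - 1 - (i : ℕ)))).det /
        (Matrix.of fun i j : Fin r => z j ^ (r - 1 - (i : ℕ))).det)
    (hS' : ∀ μ : Fin r → ℕ, S' μ =
      (Matrix.of fun i j : Fin r => z' j ^ (μ i + (r - 1 - (i : ℕ)))).det /
        (Matrix.of fun i j : Fin r => z' j ^ (r - 1 - (i : ℕ))).det) :
    (∑ μ ∈ (Finset.univ : Finset (Fin r → Fin (k + 1))).filter
        (fun μ : Fin r → Fin (k + 1) => Antitone μ ∧ ∀ i : Fin r, (i : ℕ) = r - 1 → (μ i : ℕ) = 0),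
      Complex.exp (-(2 * Real.pi * Complex.I * ((∑ i, (μ i : ℕ) : ℕ) : ℂ) * ((∑ j, v j : ℕ) : ℂ) /
          ((r : ℂ) * ((r : ℂ) + k)))) *
      Complex.exp (-(2 * Real.pi * Complex.I * ((∑ i, (k - (μ (Fin.rev i) : ℕ)) : ℕ) : ℂ) *
          ((∑ j, v' j : ℕ) : ℂ) / ((r : ℂ) * ((r : ℂ) + k)))) *
      S (fun i => (μ i : ℕ)) * S' (fun i => k - (μ (Fin.rev i) : ℕ))) = 0 := by
  classical
  have hnz : NeZero (r + k) := ⟨by omega⟩
  set n := r + k with hn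
  have hrn0 : r * n ≠ 0 := Nat.mul_ne_zero (by omega) (by omega)
  set ξ : ℂ := Complex.exp (2 * Real.pi * Complex.I / ((r * n : ℕ) : ℂ)) with hξdef
  have hξ : IsPrimitiveRoot ξ (r * n) := Complex.isPrimitiveRoot_exp (r * n) hrn0
  have hξ0 : ξ ≠ 0 := Complex.exp_ne_zero _
  have hcast : ((r : ℂ) + k) = (n : ℂ) := by rw [hn]; push_cast; ring
  have hr0 : (r : ℂ) ≠ 0 := by exact_mod_cast (show r ≠ 0 by omega)
  have hn0 : (n : ℂ) ≠ 0 := by exact_mod_cast (show n ≠ 0 by omega)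
  have hξz : ∀ t : ℤ, ξ ^ t = Complex.exp (2 * Real.pi * Complex.I * (t : ℂ) / ((r : ℂ) * n)) := by
    intro t
    rw [hξdef, ← Complex.exp_int_mul]
    congr 1
    push_cast
    field_simp
  have hzξ : ∀ j, z j = ξ ^ (r * v j) := by
    intro j
    rw [← zpow_natCast, hξz, hz, hcast]
    congr 1
    push_cast
    field_simp
  have hz'ξ : ∀ j, z' j = ξ ^ (r * v' j) := by
    intro j
    rw [← zpow_natCast, hξz, hz', hcast]
    congr 1
    push_cast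
    field_simp
  set zc' : Fin r → ℂ := fun j => (z' j)⁻¹ with hzc'def
  have hz'0 : ∀ j, z' j ≠ 0 := by intro j; rw [hz']; exact Complex.exp_ne_zero _
  have hz'c : ∀ j, z' j * zc' j = 1 := fun j => mul_inv_cancel₀ (hz'0 j)
  have hzn : ∀ j, z j ^ (r + k) = 1 := by
    intro j
    rw [hzξ, ← pow_mul]
    have : r * v j * n = (r * n) * v j := by ring
    rw [this, pow_mul, hξ.pow_eq_one, one_pow]
  have hz'n : ∀ j, z' j ^ (r + k) = 1 := by
    intro j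
    rw [hz'ξ, ← pow_mul]
    have : r * v' j * n = (r * n) * v' j := by ring
    rw [this, pow_mul, hξ.pow_eq_one, one_pow]
  set s : ℤ := (∑ j, (v' j : ℤ)) - (∑ j, (v j : ℤ)) with hs
  set ω : ℂ := ξ ^ s with hω
  have hprodz : (∏ j, z j) = ξ ^ ((r : ℤ) * ∑ j, (v j : ℤ)) := by
    simp only [hzξ]
    rw [Finset.prod_pow_eq_pow_sum, ← Finset.mul_sum, ← zpow_natCast]
    congr 1
    push_cast
    ring
  have hprodz' : (∏ j, zc' j) = ξ ^ (-((r : ℤ) * ∑ j, (v' j : ℤ))) := by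
    simp only [hzc'def, hz'ξ]
    rw [Finset.prod_inv_distrib, Finset.prod_pow_eq_pow_sum, ← Finset.mul_sum, zpow_neg,
      ← zpow_natCast]
    congr 2
    push_cast
    ring
  have hprod : ω ^ r * (∏ j, z j) * (∏ j, zc' j) = 1 := by
    rw [hprodz, hprodz', hω, ← zpow_natCast (ξ ^ s) r, ← zpow_mul, ← zpow_add₀ hξ0, ← zpow_add₀ hξ0]
    have : s * (r : ℤ) + (r : ℤ) * ∑ j, (v j : ℤ) + -((r : ℤ) * ∑ j, (v' j : ℤ)) = 0 := by
      rw [hs]; ring
    rw [this, zpow_zero]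
  have hG := hG_concrete n hr ξ hξ v v' hv hv' hvlt hv'lt hne z zc' ω hzξ
    (fun b => by rw [← hz'ξ]; exact inv_mul_cancel₀ (hz'0 b)) rfl
  -- the prefactor
  set c₀ : ℕ := ∑ i : Fin r, (r - 1 - (i : ℕ)) with hc₀
  set C : ℂ := ξ ^ (-(c₀ : ℤ) * s - ((r : ℤ) * k) * ∑ j, (v' j : ℤ)) with hC
  have hc : ∀ μ : Fin r → Fin (k + 1),
      Complex.exp (-(2 * Real.pi * Complex.I * ((∑ i, (μ i : ℕ) : ℕ) : ℂ) * ((∑ j, v j : ℕ) : ℂ) /
          ((r : ℂ) * ((r : ℂ) + k)))) *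
      Complex.exp (-(2 * Real.pi * Complex.I * ((∑ i, (k - (μ (Fin.rev i) : ℕ)) : ℕ) : ℂ) *
          ((∑ j, v' j : ℕ) : ℂ) / ((r : ℂ) * ((r : ℂ) + k)))) =
      C * ω ^ (∑ i, ((μ i : ℕ) + (r - 1 - (i : ℕ)))) := by
    intro μ
    have hsize : (∑ i, (μ i : ℕ)) + (∑ i, (k - (μ (Fin.rev i) : ℕ))) = r * k := by
      have h1 : (∑ i, (k - (μ (Fin.rev i) : ℕ))) = ∑ i, (k - (μ i : ℕ)) :=
        Equiv.sum_comp (Fin.revPerm : Equiv.Perm (Fin r)) (fun i => k - (μ i : ℕ))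
      rw [h1, ← Finset.sum_add_distrib]
      have h2 : ∀ i : Fin r, (μ i : ℕ) + (k - (μ i : ℕ)) = k := fun i => by
        have := (μ i).2; omega
      simp only [h2, Finset.sum_const, Finset.card_univ, Fintype.card_fin, smul_eq_mul]
    set M : ℕ := ∑ i, (μ i : ℕ) with hM
    set M' : ℕ := ∑ i, (k - (μ (Fin.rev i) : ℕ)) with hM'
    have hM'z : (M' : ℤ) = (r : ℤ) * k - M := by
      have : (M : ℤ) + (M' : ℤ) = (r : ℤ) * k := by exact_mod_cast hsize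
      linarith
    have e1 : Complex.exp (-(2 * Real.pi * Complex.I * (M : ℂ) * ((∑ j, v j : ℕ) : ℂ) /
          ((r : ℂ) * ((r : ℂ) + k)))) = ξ ^ (-((M : ℤ) * ∑ j, (v j : ℤ))) := by
      rw [hξz, hcast]
      congr 1
      push_cast
      ring
    have e2 : Complex.exp (-(2 * Real.pi * Complex.I * (M' : ℂ) * ((∑ j, v' j : ℕ) : ℂ) /
          ((r : ℂ) * ((r : ℂ) + k)))) = ξ ^ (-((M' : ℤ) * ∑ j, (v' j : ℤ))) := by
      rw [hξz, hcast]
      congr 1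
      push_cast
      ring
    rw [e1, e2, hC, hω, ← zpow_natCast (ξ ^ s), ← zpow_mul, ← zpow_add₀ hξ0, ← zpow_add₀ hξ0]
    congr 1
    have hsum : ((∑ i, ((μ i : ℕ) + (r - 1 - (i : ℕ))) : ℕ) : ℤ) = (M : ℤ) + c₀ := by
      rw [Finset.sum_add_distrib, ← hM, ← hc₀]
      push_cast
      rfl
    rw [hsum, hM'z, hs]
    ring
  have hmain := orthogonality_abstract k hr z z' zc' ω hzn hz'n hz'c hprod hG
    (fun μ => Complex.exp (-(2 * Real.pi * Complex.I * ((∑ i, (μ i : ℕ) : ℕ) : ℂ) *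
          ((∑ j, v j : ℕ) : ℂ) / ((r : ℂ) * ((r : ℂ) + k)))) *
      Complex.exp (-(2 * Real.pi * Complex.I * ((∑ i, (k - (μ (Fin.rev i) : ℕ)) : ℕ) : ℂ) *
          ((∑ j, v' j : ℕ) : ℂ) / ((r : ℂ) * ((r : ℂ) + k)))))
    C (Matrix.of fun i j : Fin r => z j ^ (r - 1 - (i : ℕ))).det
    (Matrix.of fun i j : Fin r => z' j ^ (r - 1 - (i : ℕ))).det hc
  refine Eq.trans (Finset.sum_congr rfl fun μ _ => ?_) hmain
  rw [hS, hS']
  rfl

end Groth.Agent.S18378
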