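import Mathlib
import Groth.Statements.S18379
import Groth.Agent.Lib.helper27.Verlinde

set_option autoImplicit false
open VerlindeComb

namespace Groth.Agent.S18379

open Groth.Agent.Lib.helper27.VerlindeLib in
/-- Let r, k ≥ 1 be integers. Summing over all integer vectors v with r + k > v_1 > v_2 > ⋯ > v_{r-1} >
v_r = 0, one has Σ_v ∏_{i<j} (2 sin(π (v_i - v_j) / (r + k)))² = r (r + k)^{r-1}; that is, the
genus-zero Verlinde number of rank r and level k with no parabolic points, defined as (r (r +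
k)^{r-1})⁻¹ times this sum, equals 1. Indices are 0-based below: v i stands for v_{i+1}. -/
theorem result (r k : ℕ) (hr : 1 ≤ r) (hk : 1 ≤ k) :
    (∑ v ∈ (Finset.univ : Finset (Fin r → Fin (r + k))).filter
        (fun v : Fin r → Fin (r + k) => StrictAnti v ∧ ∀ i : Fin r, (i : ℕ) = r - 1 → (v i : ℕ) = 0),
      ∏ p ∈ (Finset.univ : Finset (Fin r × Fin r)).filter (fun p => p.1 < p.2),
        ((2 : ℝ) * Real.sin (Real.pi * ((v p.1 : ℕ) - (v p.2 : ℕ) : ℝ) / ((r : ℝ) + k))) ^ 2) =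
      (r : ℝ) * ((r : ℝ) + k) ^ (r - 1) := by
  classical
  obtain ⟨m, rfl⟩ : ∃ m, r = m + 1 := ⟨r - 1, by omega⟩
  have : NeZero (m + 1 + k) := ⟨by omega⟩
  have hmain := sum_D_strictAnti m k
  have hfilter : (Finset.univ : Finset (Fin (m + 1) → Fin (m + 1 + k))).filter
      (fun v : Fin (m + 1) → Fin (m + 1 + k) =>
        StrictAnti v ∧ ∀ i : Fin (m + 1), (i : ℕ) = m + 1 - 1 → (v i : ℕ) = 0) =
      (Finset.univ : Finset (Fin (m + 1) → Fin (m + 1 + k))).filter
      (fun v : Fin (m + 1) → Fin (m + 1 + k) =>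
        StrictAnti v ∧ ((v (Fin.last m) : Fin (m + 1 + k)) : ℕ) = 0) := by
    apply Finset.filter_congr
    intro v _
    refine and_congr Iff.rfl ⟨fun h => h (Fin.last m) (by simp), fun h i hi => ?_⟩
    have : i = Fin.last m := Fin.ext (by simpa using hi)
    rw [this]; exact h
  rw [hfilter]
  have hsummand : ∀ v : Fin (m + 1) → Fin (m + 1 + k),
      ∏ p ∈ (Finset.univ : Finset (Fin (m + 1) × Fin (m + 1))).filter (fun p => p.1 < p.2),
        ((2 : ℝ) * Real.sin (Real.pi * ((v p.1 : ℕ) - (v p.2 : ℕ) : ℝ) / (((m + 1 : ℕ) : ℝ) + k))) ^ 2 =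
      D (m + 1 + k) v := by
    intro v
    rw [D_eq_prod, Finset.prod_filter, ← Finset.univ_product_univ, Finset.prod_product]
    refine Finset.prod_congr rfl fun i _ => ?_
    rw [← Finset.prod_filter, Finset.filter_lt_eq_Ioi]
    refine Finset.prod_congr rfl fun j _ => ?_
    have e1 : (((m + 1 : ℕ) : ℝ) + k) = ((m + 1 + k : ℕ) : ℝ) := by push_cast; ring
    rw [e1]
    have e2 : Real.pi * ((((v i : Fin (m + 1 + k)) : ℕ) : ℝ) - (((v j : Fin (m + 1 + k)) : ℕ) : ℝ)) /
        ((m + 1 + k : ℕ) : ℝ) =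
        -(Real.pi * ((((v j : Fin (m + 1 + k)) : ℕ) : ℝ) - (((v i : Fin (m + 1 + k)) : ℕ) : ℝ)) /
        ((m + 1 + k : ℕ) : ℝ)) := by ring
    rw [e2, Real.sin_neg]
    ring
  simp only [hsummand]
  rw [hmain]
  have : m + 1 - 1 = m := by omega
  rw [this]
  push_cast
  ring

end Groth.Agent.S18379
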