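import Groth.Statements.S1838
import Mathlib

set_option autoImplicit false
universe u v
open CycDet

namespace Groth.Agent.S1838aux

open CycDet IsLocalRing
set_option linter.unusedSectionVars false

variable {R : Type u} [CommRing R] [IsLocalRing R] {M : Type v} [AddCommGroup M] [Module R M]

lemma spanBefore_mono {l : ℕ} (e : Fin l → M) {i j : ℕ} (h : i ≤ j) :
    spanBefore R M e i ≤ spanBefore R M e j := by
  unfold spanBefore
  apply Submodule.span_mono
  apply Set.image_mono
  intro t ht
  exact lt_of_lt_of_le ht h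

lemma mem_spanBefore {l : ℕ} (e : Fin l → M) {i : ℕ} (j : Fin l) (h : (j : ℕ) < i) :
    e j ∈ spanBefore R M e i :=
  Submodule.subset_span ⟨j, h, rfl⟩

lemma spanBefore_succ {l : ℕ} (e : Fin l → M) (i : Fin l) :
    spanBefore R M e ((i : ℕ) + 1) = spanBefore R M e i ⊔ Submodule.span R {e i} := by
  unfold spanBefore
  rw [← Submodule.span_union]
  congr 1
  ext m
  simp only [Set.mem_image, Set.mem_setOf_eq, Set.mem_union, Set.mem_singleton_iff]
  constructor
  · rintro ⟨j, hj, rfl⟩
    rcases Nat.lt_succ_iff_lt_or_eq.mp hj with h | h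
    · exact Or.inl ⟨j, h, rfl⟩
    · right; rw [Fin.ext h]
  · rintro (⟨j, hj, rfl⟩ | rfl)
    · exact ⟨j, Nat.lt_succ_of_lt hj, rfl⟩
    · exact ⟨i, Nat.lt_succ_self _, rfl⟩

lemma spanBefore_le_of {l : ℕ} (e e' : Fin l → M) (i i' : ℕ)
    (h : ∀ j : Fin l, (j : ℕ) < i → e j ∈ spanBefore R M e' i') :
    spanBefore R M e i ≤ spanBefore R M e' i' := by
  unfold spanBefore
  rw [Submodule.span_le]
  rintro _ ⟨j, hj, rfl⟩
  exact h j hj

lemma spanBefore_congr {l : ℕ} (e e' : Fin l → M) (i : ℕ)
    (h : ∀ j : Fin l, (j : ℕ) < i → e j = e' j) :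
    spanBefore R M e i = spanBefore R M e' i := by
  apply le_antisymm
  · apply spanBefore_le_of
    intro j hj
    rw [h j hj]
    exact mem_spanBefore e' j hj
  · apply spanBefore_le_of
    intro j hj
    rw [← h j hj]
    exact mem_spanBefore e j hj

lemma spanBefore_eq_top {l : ℕ} (hfl : IsFiniteLength R M) (hl : Module.length R M = l)
    (e : Fin l → M) (hnd : ∀ i : Fin l, e i ∉ spanBefore R M e i) :
    spanBefore R M e l = ⊤ := by
  obtain ⟨hN, hA⟩ := isFiniteLength_iff_isNoetherian_isArtinian.mp hfl
  have key : ∀ i : ℕ, i ≤ l → (i : ℕ∞) ≤ Order.height (spanBefore R M e i) := by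
    intro i
    induction i with
    | zero => intro _; simp
    | succ i ih =>
      intro hi
      have hi' : i < l := hi
      have h1 := ih hi'.le
      have hlt : spanBefore R M e i < spanBefore R M e (i + 1) := by
        refine lt_of_le_of_ne (spanBefore_mono e (Nat.le_succ i)) ?_
        intro heq
        apply hnd ⟨i, hi'⟩
        show e ⟨i, hi'⟩ ∈ spanBefore R M e i
        rw [heq]
        exact mem_spanBefore e ⟨i, hi'⟩ (Nat.lt_succ_self i)
      have h2 := Submodule.height_strictMono hlt
      push_cast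
      exact Order.add_one_le_of_lt (lt_of_le_of_lt h1 h2)
  by_contra hne
  have h1 := Submodule.height_strictMono (lt_top_iff_ne_top.mpr hne)
  have h2 := key l le_rfl
  rw [← Module.length_eq_height, hl] at h1
  exact absurd (lt_of_le_of_lt h2 h1) (lt_irrefl _)

noncomputable def sy {l : ℕ} (e : Adm R M l) : DetOfLen R M l :=
  Submodule.Quotient.mk (sym R M e)

lemma sy_eq_zero {l : ℕ} (e : Adm R M l) (a : Fin l) (h : e.1 a ∈ spanBefore R M e.1 a) :
    sy e = 0 := by
  unfold sy
  rw [Submodule.Quotient.mk_eq_zero]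
  apply Submodule.subset_span
  left; left
  exact ⟨e, a, h, rfl⟩

lemma sy_relb {l : ℕ} (e e' : Adm R M l) (a : Fin l) (c : Rˣ)
    (h1 : ∀ j, j ≠ a → e.1 j = e'.1 j)
    (h2 : e.1 a - (c : R) • e'.1 a ∈ spanBefore R M e.1 a) :
    sy e = IsLocalRing.residue R (c : R) • sy e' := by
  unfold sy
  rw [← Submodule.Quotient.mk_smul, ← sub_eq_zero, ← Submodule.Quotient.mk_sub,
    Submodule.Quotient.mk_eq_zero]
  apply Submodule.subset_span
  left; right
  exact ⟨e, e', a, c, h1, h2, rfl⟩

lemma sy_relc {l : ℕ} (e e' : Adm R M l) (a b : Fin l) (hab : (b : ℕ) + 1 = a)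
    (h1 : ∀ r ∈ maximalIdeal R, r • e.1 a ∈ spanBefore R M e.1 b)
    (h2 : e'.1 = e.1 ∘ Equiv.swap a b) : sy e = - sy e' := by
  unfold sy
  rw [eq_neg_iff_add_eq_zero, ← Submodule.Quotient.mk_add, Submodule.Quotient.mk_eq_zero]
  apply Submodule.subset_span
  right
  exact ⟨e, e', a, b, hab, h1, h2, rfl⟩

lemma swap_lt {l : ℕ} (i b : Fin l) (hba : (b : ℕ) + 1 = i) (j : ℕ)
    (hj : j ≤ (b : ℕ) ∨ (i : ℕ) < j) (t : Fin l) (ht : (t : ℕ) < j) :
    ((Equiv.swap i b t : Fin l) : ℕ) < j := by
  by_cases h1 : t = i
  · subst h1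
    rw [Equiv.swap_apply_left]
    omega
  · by_cases h2 : t = b
    · subst h2
      rw [Equiv.swap_apply_right]
      omega
    · rw [Equiv.swap_apply_of_ne_of_ne h1 h2]
      exact ht

lemma spanBefore_swap {l : ℕ} (e : Fin l → M) (i b : Fin l) (hba : (b : ℕ) + 1 = i) (j : ℕ)
    (hj : j ≤ (b : ℕ) ∨ (i : ℕ) < j) :
    spanBefore R M (e ∘ Equiv.swap i b) j = spanBefore R M e j := by
  apply le_antisymm
  · apply spanBefore_le_of
    intro t ht
    exact mem_spanBefore e (Equiv.swap i b t) (swap_lt i b hba j hj t ht)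
  · apply spanBefore_le_of
    intro t ht
    have : e t = (e ∘ Equiv.swap i b) (Equiv.swap i b t) := by simp
    rw [this]
    exact mem_spanBefore _ _ (swap_lt i b hba j hj t ht)

section main
variable {l : ℕ} (f : Adm R M l)

/-- moving `x = f k` from position `i` down to position `k`. -/
lemma claim_move (k : ℕ) (hk : k < l)
    (ih : ∀ e : Adm R M l, (∀ j : Fin l, (j : ℕ) < k + 1 → e.1 j = f.1 j) →
      sy e ∈ Submodule.span (ResidueField R) {sy f}) :
    ∀ (n : ℕ) (e : Adm R M l) (i : Fin l), (i : ℕ) = k + n →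
      (∀ j : Fin l, (j : ℕ) < k → e.1 j = f.1 j) → e.1 i = f.1 ⟨k, hk⟩ →
      sy e ∈ Submodule.span (ResidueField R) {sy f} := by
  intro n
  induction n with
  | zero =>
    intro e i hi hagree hei
    apply ih
    intro j hj
    rcases Nat.lt_succ_iff_lt_or_eq.mp hj with h | h
    · exact hagree j h
    · have h1 : j = i := Fin.ext (by omega)
      have h2 : j = ⟨k, hk⟩ := Fin.ext h
      rw [h1, hei, ← h2, h1]
  | succ n ihn =>
    intro e i hi hagree hei
    have hb : (i : ℕ) - 1 < l := by omega
    set b : Fin l := ⟨(i : ℕ) - 1, hb⟩ with hbdef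
    have hbval : (b : ℕ) = (i : ℕ) - 1 := rfl
    have hba : (b : ℕ) + 1 = i := by omega
    have hkb : k ≤ (b : ℕ) := by omega
    have hspan_k : spanBefore R M e.1 k = spanBefore R M f.1 k :=
      spanBefore_congr _ _ _ hagree
    have hmx : ∀ r ∈ maximalIdeal R, r • e.1 i ∈ spanBefore R M e.1 b := by
      intro r hr
      rw [hei]
      have := f.2 ⟨k, hk⟩ r hr
      apply spanBefore_mono e.1 hkb
      rw [hspan_k]
      exact this
    have hadm : IsAdmissible R M (e.1 ∘ Equiv.swap i b) := by
      intro j r hr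
      by_cases h1 : j = i
      · rw [h1]
        show r • e.1 (Equiv.swap i b i) ∈ _
        rw [Equiv.swap_apply_left]
        have h3 : spanBefore R M (e.1 ∘ Equiv.swap i b) b = spanBefore R M e.1 b :=
          spanBefore_swap e.1 i b hba b (Or.inl le_rfl)
        apply spanBefore_mono (e.1 ∘ Equiv.swap i b) (show (b : ℕ) ≤ (i : ℕ) by omega)
        rw [h3]
        exact e.2 b r hr
      · by_cases h2 : j = b
        · rw [h2]
          show r • e.1 (Equiv.swap i b b) ∈ _
          rw [Equiv.swap_apply_right]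
          rw [spanBefore_swap e.1 i b hba b (Or.inl le_rfl)]
          exact hmx r hr
        · show r • e.1 (Equiv.swap i b j) ∈ _
          rw [Equiv.swap_apply_of_ne_of_ne h1 h2]
          have hj : (j : ℕ) ≤ (b : ℕ) ∨ (i : ℕ) < (j : ℕ) := by
            have h1' : (j : ℕ) ≠ (i : ℕ) := fun h => h1 (Fin.ext h)
            have h2' : (j : ℕ) ≠ (b : ℕ) := fun h => h2 (Fin.ext h)
            omega
          rw [spanBefore_swap e.1 i b hba j hj]
          exact e.2 j r hr
    let e' : Adm R M l := ⟨e.1 ∘ Equiv.swap i b, hadm⟩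
    have hrel := sy_relc e e' i b hba hmx rfl
    rw [hrel]
    apply Submodule.neg_mem
    apply ihn e' b (by omega)
    · intro j hj
      show e.1 (Equiv.swap i b j) = f.1 j
      rw [Equiv.swap_apply_of_ne_of_ne]
      · exact hagree j hj
      · intro h; rw [h] at hj; omega
      · intro h; rw [h] at hj; omega
    · show e.1 (Equiv.swap i b b) = _
      rw [Equiv.swap_apply_right]
      exact hei

lemma claim_step (hfl : IsFiniteLength R M) (hl : Module.length R M = l)
    (hf : ∀ i : Fin l, f.1 i ∉ spanBefore R M f.1 i) (k : ℕ) (hk : k < l)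
    (ih : ∀ e : Adm R M l, (∀ j : Fin l, (j : ℕ) < k + 1 → e.1 j = f.1 j) →
      sy e ∈ Submodule.span (ResidueField R) {sy f})
    (e : Adm R M l) (hagree : ∀ j : Fin l, (j : ℕ) < k → e.1 j = f.1 j) :
    sy e ∈ Submodule.span (ResidueField R) {sy f} := by
  classical
  by_cases hdeg : ∃ a : Fin l, e.1 a ∈ spanBefore R M e.1 a
  · obtain ⟨a, ha⟩ := hdeg
    rw [sy_eq_zero e a ha]
    exact Submodule.zero_mem _
  push_neg at hdeg
  have htop := spanBefore_eq_top hfl hl e.1 hdeg
  set x := f.1 ⟨k, hk⟩ with hx
  have hspan_k : spanBefore R M e.1 k = spanBefore R M f.1 k := spanBefore_congr _ _ _ hagree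
  have hxk : x ∉ spanBefore R M e.1 k := by rw [hspan_k]; exact hf ⟨k, hk⟩
  have hmxk : ∀ r ∈ maximalIdeal R, r • x ∈ spanBefore R M e.1 k := by
    intro r hr
    rw [hspan_k]
    exact f.2 ⟨k, hk⟩ r hr
  have hex : ∃ n, x ∈ spanBefore R M e.1 n := ⟨l, by rw [htop]; trivial⟩
  have hn1 : x ∈ spanBefore R M e.1 (Nat.find hex) := Nat.find_spec hex
  have hn2 : ∀ m < Nat.find hex, x ∉ spanBefore R M e.1 m := fun m hm => Nat.find_min hex hm
  have hnl : Nat.find hex ≤ l := Nat.find_min' hex (by rw [htop]; trivial)
  have hkn : k < Nat.find hex := by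
    by_contra h
    push_neg at h
    exact hxk (spanBefore_mono e.1 h hn1)
  obtain ⟨i0, hi0⟩ : ∃ i0, Nat.find hex = i0 + 1 := ⟨Nat.find hex - 1, by omega⟩
  have hi0l : i0 < l := by omega
  have hki0 : k ≤ i0 := by omega
  set i : Fin l := ⟨i0, hi0l⟩ with hi
  have hival : (i : ℕ) = i0 := rfl
  have hxi : x ∉ spanBefore R M e.1 i := hn2 i0 (by omega)
  have hxi1 : x ∈ spanBefore R M e.1 ((i : ℕ) + 1) := by rw [hival, ← hi0]; exact hn1
  rw [spanBefore_succ, Submodule.mem_sup] at hxi1
  obtain ⟨s, hs, y, hy, hsy⟩ := hxi1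
  obtain ⟨u, rfl⟩ := Submodule.mem_span_singleton.mp hy
  have hu : IsUnit u := by
    by_contra hnu
    have hum : u ∈ maximalIdeal R := (IsLocalRing.mem_maximalIdeal u).mpr hnu
    apply hxi
    rw [← hsy]
    exact Submodule.add_mem _ hs (e.2 i u hum)
  obtain ⟨c, rfl⟩ := hu
  have hei : e.1 i = ((c⁻¹ : Rˣ) : R) • x - ((c⁻¹ : Rˣ) : R) • s := by
    rw [← hsy, smul_add, smul_smul, Units.inv_mul, one_smul]; abel
  -- new tuple
  have hsb_le : ∀ j : ℕ, j ≤ i0 →
      spanBefore R M (Function.update e.1 i x) j = spanBefore R M e.1 j := by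
    intro j hj
    apply spanBefore_congr
    intro t ht
    rw [Function.update_of_ne]
    intro h
    rw [h] at ht
    omega
  have hadm : IsAdmissible R M (Function.update e.1 i x) := by
    intro j r hr
    by_cases h1 : j = i
    · rw [h1, Function.update_self, hsb_le i le_rfl]
      exact spanBefore_mono e.1 hki0 (hmxk r hr)
    · rw [Function.update_of_ne h1]
      have h1' : (j : ℕ) ≠ i0 := fun h => h1 (Fin.ext h)
      rcases Nat.lt_or_ge (j : ℕ) i0 with hlt | hge
      · rw [hsb_le j hlt.le]
        exact e.2 j r hr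
      · have hgt : i0 < (j : ℕ) := by omega
        have hle : spanBefore R M e.1 j ≤ spanBefore R M (Function.update e.1 i x) j := by
          apply spanBefore_le_of
          intro t ht
          by_cases h2 : t = i
          · rw [h2, hei]
            apply Submodule.sub_mem
            · apply Submodule.smul_mem
              have := mem_spanBefore (R := R) (Function.update e.1 i x) i (show (i : ℕ) < j from hgt)
              rwa [Function.update_self] at this
            · apply Submodule.smul_mem
              apply spanBefore_mono (Function.update e.1 i x) (show i0 ≤ (j : ℕ) by omega)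
              rw [hsb_le i0 le_rfl]
              exact hs
          · have := mem_spanBefore (R := R) (Function.update e.1 i x) t ht
            rwa [Function.update_of_ne h2] at this
        exact hle (e.2 j r hr)
  let e2 : Adm R M l := ⟨Function.update e.1 i x, hadm⟩
  have hrel : sy e = residue R ((c⁻¹ : Rˣ) : R) • sy e2 := by
    apply sy_relb e e2 i c⁻¹
    · intro j hj
      show e.1 j = Function.update e.1 i x j
      rw [Function.update_of_ne hj]
    · show e.1 i - ((c⁻¹ : Rˣ) : R) • Function.update e.1 i x i ∈ _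
      rw [Function.update_self]
      have : e.1 i - ((c⁻¹ : Rˣ) : R) • x = -(((c⁻¹ : Rˣ) : R) • s) := by
        rw [hei]; abel
      rw [this]
      exact Submodule.neg_mem _ (Submodule.smul_mem _ _ hs)
  rw [hrel]
  apply Submodule.smul_mem
  refine claim_move f k hk ih (i0 - k) e2 i (by omega) (fun j hj => ?_) ?_
  · show Function.update e.1 i x j = _
    rw [Function.update_of_ne]
    · exact hagree j hj
    · intro h; rw [h] at hj; omega
  · show Function.update e.1 i x i = _
    rw [Function.update_self]

lemma claim_all (hfl : IsFiniteLength R M) (hl : Module.length R M = l)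
    (hf : ∀ i : Fin l, f.1 i ∉ spanBefore R M f.1 i) :
    ∀ (d k : ℕ), k + d = l → ∀ e : Adm R M l, (∀ j : Fin l, (j : ℕ) < k → e.1 j = f.1 j) →
      sy e ∈ Submodule.span (ResidueField R) {sy f} := by
  intro d
  induction d with
  | zero =>
    intro k hk e hagree
    have : e = f := Subtype.ext (funext fun j => hagree j (by omega))
    rw [this]; exact Submodule.mem_span_singleton_self _
  | succ d ihd =>
    intro k hk e hagree
    exact claim_step f hfl hl hf k (by omega) (ihd (k+1) (by omega)) e hagree

end main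

theorem main (R : Type u) [CommRing R] [IsLocalRing R] (M : Type v) [AddCommGroup M] [Module R M]
    (hM : IsFiniteLength R M) : Module.rank (ResidueField R) (Det R M) ≤ 1 := by
  classical
  have hlen : Module.length R M = ((Module.length R M).toNat : ℕ∞) := by
    rw [ENat.coe_toNat]; exact Module.length_ne_top_iff.mpr hM
  rw [rank_le_one_iff]
  by_cases hex : ∃ f : Adm R M (Module.length R M).toNat,
      ∀ i : Fin (Module.length R M).toNat, f.1 i ∉ spanBefore R M f.1 i
  · obtain ⟨f, hf⟩ := hex
    refine ⟨sy f, ?_⟩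
    intro v
    have hv : v ∈ Submodule.span (ResidueField R) {sy f} := by
      obtain ⟨p, rfl⟩ := Submodule.Quotient.mk_surjective _ v
      induction p using Finsupp.induction_linear with
      | zero => simp
      | add p q hp hq => rw [Submodule.Quotient.mk_add]; exact Submodule.add_mem _ hp hq
      | single e c =>
        have : Finsupp.single e c = c • sym R M e := by simp [sym]
        rw [this, Submodule.Quotient.mk_smul]
        exact Submodule.smul_mem _ _ (claim_all f hM hlen hf (Module.length R M).toNat 0 (by omega) e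
          (fun j hj => absurd hj (Nat.not_lt_zero _)))
    obtain ⟨r, hr⟩ := Submodule.mem_span_singleton.mp hv
    exact ⟨r, hr⟩
  · push_neg at hex
    refine ⟨0, fun v => ⟨0, ?_⟩⟩
    obtain ⟨p, rfl⟩ := Submodule.Quotient.mk_surjective _ v
    rw [zero_smul]; symm
    induction p using Finsupp.induction_linear with
    | zero => simp
    | add p q hp hq => rw [Submodule.Quotient.mk_add, hp, hq, add_zero]
    | single e c =>
      obtain ⟨a, ha⟩ := hex e
      have : Finsupp.single e c = c • sym R M e := by simp [sym]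
      rw [this, Submodule.Quotient.mk_smul]
      have h0 := sy_eq_zero e a ha
      unfold sy at h0
      rw [h0, smul_zero]

end Groth.Agent.S1838aux

namespace Groth.Agent.S1838

/-- For a finite length module M over a local ring with residue field κ, the κ-vector space det_κ(M) of
symbols modulo admissible relations has dimension at most 1. -/
theorem result (R : Type u) [CommRing R] [IsLocalRing R] (M : Type v) [AddCommGroup M] [Module R M] (hM : IsFiniteLength R M) : Module.rank (IsLocalRing.ResidueField R) (CycDet.Det R M) ≤ 1 := by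
  exact Groth.Agent.S1838aux.main R M hM

end Groth.Agent.S1838
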