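import Groth.Statements.S18382
import Groth.Agent.Lib.helper22.LabGraphCirc
import Mathlib

set_option autoImplicit false
universe u
open PhiStab

namespace Groth.Agent.S18382

section aux

open PhiStab LabGraph Groth.Agent.H22.Circ

variable {V E : Type u} [Fintype V] [Fintype E] [DecidableEq V] [DecidableEq E]

lemma mem_side (ends : E → V × V) (e : E) (v : V) :
    v ∈ side ends e ↔
      Relation.ReflTransGen (LabGraph.Adj (spanEnds ends (Finset.univ.erase e))) (ends e).1 v := by
  classical
  simp only [side, Finset.mem_filter, Finset.mem_univ, true_and]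

lemma fst_mem_side (ends : E → V × V) (e : E) : (ends e).1 ∈ side ends e :=
  (mem_side ends e _).mpr Relation.ReflTransGen.refl

lemma snd_notMem_side (ends : E → V × V) (hF : DualGr.IsForest ends) (e : E) :
    (ends e).2 ∉ side ends e := by
  intro h
  rw [mem_side] at h
  apply not_reach_of_forest ends Finset.univ (fun C _ => hF C) e (Finset.mem_univ e)
  unfold Reach
  have hle : LabGraph.Adj (spanEnds ends (Finset.univ.erase e)) ≤ AdjIn ends (Finset.univ.erase e) := by
    rintro a b ⟨⟨e', he'⟩, h'⟩
    exact ⟨e', he', h'⟩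
  exact Relation.ReflTransGen.mono hle _ _ h

lemma mem_side_iff_of_ne (ends : E → V × V) (e e' : E) (hne : e' ≠ e) :
    (ends e').1 ∈ side ends e ↔ (ends e').2 ∈ side ends e := by
  have he' : e' ∈ Finset.univ.erase e := Finset.mem_erase.mpr ⟨hne, Finset.mem_univ _⟩
  rw [mem_side, mem_side]
  constructor
  · intro h
    exact h.tail ⟨⟨e', he'⟩, Or.inl rfl⟩
  · intro h
    exact h.tail ⟨⟨e', he'⟩, Or.inr rfl⟩

/-- a function constant along edges of a connected graph is constant -/
lemma const_of_connected (ends : E → V × V) (hconn : ∀ v w : V, Relation.ReflTransGen (Adj ends) v w)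
    (ψ : V → ℝ) (h : ∀ e, ψ (ends e).2 = ψ (ends e).1) (v w : V) : ψ v = ψ w := by
  have := hconn v w
  induction this with
  | refl => rfl
  | tail _ hbc ih =>
    rw [ih]
    obtain ⟨e, he | he⟩ := hbc
    · have := h e
      rw [he] at this
      exact this.symm
    · have := h e
      rw [he] at this
      exact this

/-- the indicator of a side -/
noncomputable def chi (ends : E → V × V) (e : E) (v : V) : ℝ := if v ∈ side ends e then 1 else 0

/-- the vector `Σ a_e χ_e + a₀` -/
noncomputable def TT (ends : E → V × V) (a : E → ℝ) (a₀ : ℝ) (v : V) : ℝ :=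
  (∑ e, a e * chi ends e v) + a₀

lemma chi_diff (ends : E → V × V) (hF : DualGr.IsForest ends) (e e' : E) :
    chi ends e (ends e').2 - chi ends e (ends e').1 = if e = e' then -1 else 0 := by
  unfold chi
  by_cases h : e = e'
  · subst h
    rw [if_neg (snd_notMem_side ends hF e), if_pos (fst_mem_side ends e), if_pos rfl]
    norm_num
  · rw [if_neg h]
    have := mem_side_iff_of_ne ends e e' (Ne.symm h)
    by_cases h1 : (ends e').1 ∈ side ends e
    · rw [if_pos h1, if_pos (this.mp h1)]; norm_num
    · rw [if_neg h1, if_neg (fun h2 => h1 (this.mpr h2))]; norm_num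

lemma TT_diff (ends : E → V × V) (hF : DualGr.IsForest ends) (a : E → ℝ) (a₀ : ℝ) (e' : E) :
    TT ends a a₀ (ends e').2 - TT ends a a₀ (ends e').1 = - a e' := by
  unfold TT
  have : (∑ e, a e * chi ends e (ends e').2 + a₀) - (∑ e, a e * chi ends e (ends e').1 + a₀) =
      ∑ e, a e * (chi ends e (ends e').2 - chi ends e (ends e').1) := by
    rw [add_sub_add_right_eq_sub, ← Finset.sum_sub_distrib]
    exact Finset.sum_congr rfl fun e _ => by ring
  rw [this]
  simp_rw [chi_diff ends hF]
  rw [Finset.sum_eq_single e']
  · rw [if_pos rfl]; ring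
  · intro b _ hb
    rw [if_neg hb, mul_zero]
  · intro h
    exact absurd (Finset.mem_univ _) h

lemma TT_surj (ends : E → V × V) (hT : DualGr.IsTree ends) (ψ : V → ℝ) :
    ∃ a a₀, TT ends a a₀ = ψ := by
  obtain ⟨⟨hne, hconn⟩, hF⟩ := hT
  obtain ⟨v₀⟩ := hne
  let a : E → ℝ := fun e => ψ (ends e).1 - ψ (ends e).2
  let ψ' : V → ℝ := fun v => ψ v - TT ends a 0 v
  have hψ' : ∀ e, ψ' (ends e).2 = ψ' (ends e).1 := by
    intro e
    have := TT_diff ends hF a 0 e
    simp only [ψ', a] at this ⊢
    linarith
  refine ⟨a, ψ' v₀, ?_⟩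
  funext v
  have h1 := const_of_connected ends hconn ψ' hψ' v v₀
  have h2 : TT ends a (ψ' v₀) v = TT ends a 0 v + ψ' v₀ := by
    unfold TT; ring
  rw [h2, ← h1]
  simp only [ψ']
  ring

lemma TT_inj (ends : E → V × V) (hT : DualGr.IsTree ends) (a : E → ℝ) (a₀ : ℝ)
    (h : TT ends a a₀ = 0) : a = 0 ∧ a₀ = 0 := by
  obtain ⟨⟨hne, hconn⟩, hF⟩ := hT
  obtain ⟨v₀⟩ := hne
  have ha : a = 0 := by
    funext e
    have := TT_diff ends hF a a₀ e
    rw [h] at this
    simp only [Pi.zero_apply, sub_zero] at this
    show a e = 0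
    linarith
  refine ⟨ha, ?_⟩
  have := congrFun h v₀
  unfold TT at this
  rw [ha] at this
  simpa using this

/-- adjointness -/
lemma pairing (ends : E → V × V) (φ : V → ℝ) (a : E → ℝ) (a₀ : ℝ) :
    ∑ v, φ v * TT ends a a₀ v =
      (∑ e, a e * ∑ v ∈ side ends e, φ v) + a₀ * ∑ v, φ v := by
  unfold TT
  have h1 : ∀ e, (∑ v ∈ side ends e, φ v) = ∑ v, φ v * chi ends e v := by
    intro e
    unfold chi
    rw [← Finset.sum_filter_add_sum_filter_not Finset.univ (fun v => v ∈ side ends e)
      (fun v => φ v * if v ∈ side ends e then 1 else 0)]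
    have e1 : ∑ x ∈ Finset.univ.filter (fun v => v ∈ side ends e),
        φ x * (if x ∈ side ends e then (1:ℝ) else 0) = ∑ x ∈ side ends e, φ x := by
      have : Finset.univ.filter (fun v => v ∈ side ends e) = side ends e := by
        ext x; simp
      rw [this]
      exact Finset.sum_congr rfl fun x hx => by rw [if_pos hx, mul_one]
    have e2 : ∑ x ∈ Finset.univ.filter (fun v => ¬ v ∈ side ends e),
        φ x * (if x ∈ side ends e then (1:ℝ) else 0) = 0 := by
      apply Finset.sum_eq_zero
      intro x hx
      rw [if_neg (Finset.mem_filter.mp hx).2, mul_zero]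
    rw [e1, e2, add_zero]
  simp_rw [h1, mul_add, Finset.sum_add_distrib, Finset.mul_sum]
  rw [Finset.sum_comm]
  congr 1
  · exact Finset.sum_congr rfl fun e _ => Finset.sum_congr rfl fun v _ => by ring
  · exact Finset.sum_congr rfl fun v _ => by ring

end aux

open PhiStab in
/-- Let (V, E, ends) be a finite tree, that is a connected multigraph without circuits. For every family
of real numbers c_e indexed by the edges and every real c₀ there is exactly one real weighting φ of
the vertices such that, for each edge e, the sum of φ over the side of e containing its first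
endpoint (the vertices joined to that endpoint by a chain of edges other than e) equals c_e, and the
sum of φ over all vertices equals c₀. The lemma itself — a system of stability parameters on all
treelike marked graphs compatible with contractions is determined by its components on the
two-vertex graphs — reduces to this square linear system being nondegenerate. -/
theorem result {V E : Type u} [Fintype V] [Fintype E] [DecidableEq V] [DecidableEq E]
    (ends : E → V × V) (hT : DualGr.IsTree ends)
    (c : E → ℝ) (c₀ : ℝ) :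
    ∃! φ : V → ℝ, (∀ e : E, (∑ v ∈ side ends e, φ v) = c e) ∧ (∑ v : V, φ v) = c₀ := by
  classical
  -- the linear map `T`
  let T : ((E → ℝ) × ℝ) →ₗ[ℝ] (V → ℝ) :=
    { toFun := fun x => TT ends x.1 x.2
      map_add' := by
        intro x y
        funext v
        simp only [TT, Prod.fst_add, Prod.snd_add, Pi.add_apply, add_mul, Finset.sum_add_distrib]
        ring
      map_smul' := by
        intro r x
        funext v
        simp only [TT, Prod.smul_fst, Prod.smul_snd, Pi.smul_apply, smul_eq_mul, RingHom.id_apply,
          mul_add, Finset.mul_sum]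
        congr 1
        exact Finset.sum_congr rfl fun e _ => by ring }
  have hTinj : Function.Injective T := by
    rw [← LinearMap.ker_eq_bot, LinearMap.ker_eq_bot']
    intro x hx
    obtain ⟨h1, h2⟩ := TT_inj ends hT x.1 x.2 hx
    exact Prod.ext h1 h2
  have hTsurj : Function.Surjective T := by
    intro ψ
    obtain ⟨a, a₀, h⟩ := TT_surj ends hT ψ
    exact ⟨(a, a₀), h⟩
  have hdim : Module.finrank ℝ ((E → ℝ) × ℝ) = Module.finrank ℝ (V → ℝ) :=
    (LinearEquiv.ofBijective T ⟨hTinj, hTsurj⟩).finrank_eq
  -- the linear map `L`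
  let L : (V → ℝ) →ₗ[ℝ] ((E → ℝ) × ℝ) :=
    { toFun := fun φ => (fun e => ∑ v ∈ side ends e, φ v, ∑ v, φ v)
      map_add' := by
        intro x y
        refine Prod.ext ?_ ?_
        · funext e
          simp [Finset.sum_add_distrib]
        · simp [Finset.sum_add_distrib]
      map_smul' := by
        intro r x
        refine Prod.ext ?_ ?_
        · funext e
          simp [Finset.mul_sum]
        · simp [Finset.mul_sum] }
  have hLinj : Function.Injective L := by
    rw [← LinearMap.ker_eq_bot, LinearMap.ker_eq_bot']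
    intro φ hφ
    have h1 : ∀ e, ∑ v ∈ side ends e, φ v = 0 := fun e => congrFun (congrArg Prod.fst hφ) e
    have h2 : ∑ v, φ v = 0 := congrArg Prod.snd hφ
    obtain ⟨a, a₀, h⟩ := TT_surj ends hT φ
    have h3 := pairing ends φ a a₀
    rw [h, h2, mul_zero, add_zero] at h3
    simp_rw [h1, mul_zero] at h3
    rw [Finset.sum_const_zero] at h3
    funext v
    have := (Finset.sum_eq_zero_iff_of_nonneg (fun v _ => mul_self_nonneg (φ v))).mp h3 v
      (Finset.mem_univ v)
    exact mul_self_eq_zero.mp this
  have hLsurj : Function.Surjective L :=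
    (LinearMap.injective_iff_surjective_of_finrank_eq_finrank hdim.symm).mp hLinj
  obtain ⟨φ, hφ⟩ := hLsurj (c, c₀)
  refine ⟨φ, ⟨fun e => congrFun (congrArg Prod.fst hφ) e, congrArg Prod.snd hφ⟩, ?_⟩
  rintro φ' ⟨h1, h2⟩
  apply hLinj
  rw [hφ]
  exact Prod.ext (funext h1) h2

end Groth.Agent.S18382
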