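import Groth.Statements.S18383
import Mathlib

set_option autoImplicit false
universe u
open CategoryTheory CategoryTheory.Limits MonoidalCategory CartesianMonoidalCategory MonObj GrpObj AlgebraicGeometry
open GrpSch

namespace Groth.Agent.S18383

section Helpers

section Abstract
variable {C : Type*} [Category C] [CartesianMonoidalCategory C] {G H : C} [GrpObj H]

/-- shear map `(a, h) ↦ (a * h, h)` -/
def shear (H : C) [GrpObj H] : H ⊗ H ⟶ H ⊗ H := lift (fst H H * snd H H) (snd H H)
def shearInv (H : C) [GrpObj H] : H ⊗ H ⟶ H ⊗ H := lift (fst H H * (snd H H)⁻¹) (snd H H)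

lemma shear_shearInv : shear H ≫ shearInv H = 𝟙 _ := by
  apply CartesianMonoidalCategory.hom_ext
  · rw [Category.assoc, shearInv, lift_fst, MonObj.comp_mul, GrpObj.comp_inv, shear, lift_fst,
      lift_snd, Category.id_comp, mul_inv_cancel_right]
  · rw [Category.assoc, shearInv, lift_snd, shear, lift_snd, Category.id_comp]

lemma shearInv_shear : shearInv H ≫ shear H = 𝟙 _ := by
  apply CartesianMonoidalCategory.hom_ext
  · rw [Category.assoc, shear, lift_fst, MonObj.comp_mul, shearInv, lift_fst,
      lift_snd, Category.id_comp, inv_mul_cancel_right]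
  · rw [Category.assoc, shear, lift_snd, shearInv, lift_snd, Category.id_comp]

instance : IsIso (shear H) := ⟨shearInv H, shear_shearInv, shearInv_shear⟩

lemma lift_eq (i : G ⟶ H) : lift ((i ▷ H) ≫ μ[H]) (snd G H) = (i ▷ H) ≫ shear H := by
  apply CartesianMonoidalCategory.hom_ext
  · rw [lift_fst, Category.assoc, shear, lift_fst, MonObj.mul_eq_mul]
  · rw [lift_snd, Category.assoc, shear, lift_snd, whiskerRight_snd]

omit [GrpObj H] in
theorem square (i : G ⟶ H) (K : C) : IsPullback (fst G K) (i ▷ K) i (fst H K) := by
  refine ⟨⟨(whiskerRight_fst i K).symm⟩, ⟨PullbackCone.IsLimit.mk _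
    (fun s => lift s.fst (s.snd ≫ snd H K)) ?_ ?_ ?_⟩⟩
  · intro s; simp
  · intro s
    apply CartesianMonoidalCategory.hom_ext
    · rw [Category.assoc, whiskerRight_fst, lift_fst_assoc, s.condition]
    · rw [Category.assoc, whiskerRight_snd, lift_snd]
  · intro s m h1 h2
    apply CartesianMonoidalCategory.hom_ext
    · rw [lift_fst, h1]
    · rw [lift_snd, ← h2, Category.assoc, whiskerRight_snd]

end Abstract

theorem main {S : Scheme.{u}} (G H : Over S)
    [GrpObj G] [GrpObj H] (i : G ⟶ H) [IsMonHom i] [IsClosedImmersion i.left] :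
    IsClosedImmersion (CartesianMonoidalCategory.lift ((i ▷ H) ≫ μ[H]) (snd G H)).left := by
  rw [lift_eq, Over.comp_left]
  have h1 : IsClosedImmersion (i ▷ H).left := by
    have := (square i H).map (Over.forget S)
    exact MorphismProperty.of_isPullback (P := @IsClosedImmersion) this
      (show IsClosedImmersion i.left from inferInstance)
  have h2 : IsIso (shear H).left :=
    show IsIso ((Over.forget S).map (shear H)) from inferInstance
  infer_instance

end Helpers


/-- Let S be a scheme, H an S-group scheme and i : G → H a homomorphism of S-group schemes which is a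
closed immersion (G a closed subgroup scheme of H). Then the left-translation action of G on H is
strictly free: the S-morphism G ×_S H → H ×_S H, (g, h) ↦ (i(g)·h, h), is a closed immersion. -/
theorem result {S : Scheme.{u}} (G H : Over S)
    [GrpObj G] [GrpObj H] (i : G ⟶ H) [IsMonHom i] [IsClosedImmersion i.left] :
    IsClosedImmersion (CartesianMonoidalCategory.lift ((i ▷ H) ≫ μ[H]) (snd G H)).left := by
  exact main G H i

end Groth.Agent.S18383
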