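import Groth.Statements.S18386
import Mathlib

set_option autoImplicit false
universe u
open LVCorr

namespace Groth.Agent.S18386

open AlgebraicGeometry in
/-- Let X be a connected Noetherian scheme and I a quasi-coherent sheaf of ideals on X, different from
the structure sheaf, such that I^k = I^(k+1) for some natural number k. Then I^k = 0. -/
theorem result (X : Scheme.{u}) [AlgebraicGeometry.IsNoetherian X]
    [ConnectedSpace X] (I : X.IdealSheafData) (hI : I ≠ ⊤) (k : ℕ)
    (h : I ^ k = I ^ (k + 1)) : I ^ k = ⊥ := by
  classical
  -- k ≠ 0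
  have hk : k ≠ 0 := by
    rintro rfl
    apply hI
    have : (1 : X.IdealSheafData) = I := by simpa using h
    exact this.symm
  set J := I ^ k with hJ
  -- J is idempotent
  have hstep : ∀ n : ℕ, I ^ (k + n) = J := by
    intro n
    induction n with
    | zero => simp [hJ]
    | succ n ih => rw [← add_assoc, pow_succ, ih, hJ, ← pow_succ, ← h]
  have hJJ : J * J = J := by
    rw [hJ, ← pow_add]; exact hstep k
  have hJI : J ≤ I := by
    intro U
    change (I ^ k).ideal U ≤ I.ideal U
    rw [AlgebraicGeometry.Scheme.IdealSheafData.ideal_pow]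
    exact Ideal.pow_le_self hk
  -- local generators
  have hloc : ∀ U : X.affineOpens, ∃ e : Γ(X, U.1), IsIdempotentElem e ∧ J.ideal U = Ideal.span {e} := by
    intro U
    have : IsNoetherianRing Γ(X, U.1) := AlgebraicGeometry.IsLocallyNoetherian.component_noetherian U
    have hfg : (J.ideal U).FG := (isNoetherianRing_iff_ideal_fg _).mp inferInstance _
    have hid : IsIdempotentElem (J.ideal U) := by
      have := congrArg (fun K : X.IdealSheafData => K.ideal U) hJJ
      simpa [AlgebraicGeometry.Scheme.IdealSheafData.ideal_mul, IsIdempotentElem] using this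
    exact (Ideal.isIdempotentElem_iff_of_fg _ hfg).mp hid
  choose e he heq using hloc
  -- support ∩ U = U \ basicOpen e
  have hsuppU : ∀ U : X.affineOpens, (J.support : Set X) ∩ U.1 = (X.basicOpen (1 - e U) : Set X) := by
    intro U
    rw [AlgebraicGeometry.Scheme.IdealSheafData.coe_support_inter, heq U,
      AlgebraicGeometry.Scheme.zeroLocus_span, AlgebraicGeometry.Scheme.zeroLocus_singleton]
    ext x
    constructor
    · rintro ⟨hx1, hxU⟩
      by_contra hx2
      -- x ∉ D(e), x ∉ D(1-e), x ∈ U : contradiction since e + (1-e) = 1
      have h1 : x ∈ X.basicOpen (e U + (1 - e U)) := by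
        have : e U + (1 - e U) = 1 := by ring
        rw [this, AlgebraicGeometry.Scheme.basicOpen_of_isUnit _ isUnit_one]
        exact hxU
      have := AlgebraicGeometry.Scheme.basicOpen_add_le (X := X) (e U) (1 - e U) h1
      rcases this with h2 | h2
      · exact hx1 h2
      · exact hx2 h2
    · intro hx
      refine ⟨?_, X.basicOpen_le _ hx⟩
      intro hx1
      have h2 : x ∈ X.basicOpen (e U * (1 - e U)) := by
        rw [AlgebraicGeometry.Scheme.basicOpen_mul]
        exact ⟨hx1, hx⟩
      have h0 : e U * (1 - e U) = 0 := by
        have := (he U).eq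
        rw [mul_sub, mul_one, this, sub_self]
      rw [h0, AlgebraicGeometry.Scheme.basicOpen_zero] at h2
      exact h2
  -- support is open
  have hopen : IsOpen (J.support : Set X) := by
    have : (J.support : Set X) = ⋃ U : X.affineOpens, ((J.support : Set X) ∩ U.1) := by
      rw [← Set.inter_iUnion]
      have hcov : (⋃ U : X.affineOpens, (U.1 : Set X)) = Set.univ := by
        have := AlgebraicGeometry.iSup_affineOpens_eq_top X
        have h2 := congrArg (fun O : X.Opens => (O : Set X)) this
        simpa using h2
      rw [hcov, Set.inter_univ]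
    rw [this]
    refine isOpen_iUnion fun U => ?_
    rw [hsuppU U]
    exact (X.basicOpen _).2
  have hclopen : IsClopen (J.support : Set X) := ⟨J.support.isClosed, hopen⟩
  rcases isClopen_iff.mp hclopen with hemp | huniv
  · exfalso
    apply hI
    have : J.support = ⊥ := by
      apply TopologicalSpace.Closeds.ext
      simpa using hemp
    rw [AlgebraicGeometry.Scheme.IdealSheafData.support_eq_bot_iff] at this
    exact top_le_iff.mp (this ▸ hJI)
  · -- every e U is nilpotent hence zero
    ext U : 2
    change J.ideal U = (⊥ : X.IdealSheafData).ideal U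
    rw [AlgebraicGeometry.Scheme.IdealSheafData.ideal_bot, Pi.bot_apply, heq U]
    have hb : X.basicOpen (e U) = ⊥ := by
      rw [eq_bot_iff]
      intro x hx
      have hxU : x ∈ U.1 := X.basicOpen_le _ hx
      have : x ∈ (J.support : Set X) ∩ U.1 := ⟨by rw [huniv]; trivial, hxU⟩
      rw [AlgebraicGeometry.Scheme.IdealSheafData.coe_support_inter, heq U,
        AlgebraicGeometry.Scheme.zeroLocus_span, AlgebraicGeometry.Scheme.zeroLocus_singleton] at this
      exact this.1 hx
    have hnil : IsNilpotent (e U) :=
      (AlgebraicGeometry.Scheme.isNilpotent_iff_basicOpen_eq_bot_of_isCompact U.2.isCompact _).mpr hb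
    rw [(he U).eq_zero_of_isNilpotent hnil]
    simp

end Groth.Agent.S18386
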