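import Groth.Statements.S18387
import Mathlib

set_option autoImplicit false
universe u
open LVCorr

namespace Groth.Agent.S18387

theorem result (F A : Type u) [Field F] [CommRing A] [Algebra F A]
    [FiniteDimensional F A] : nilradical A ^ Module.finrank F A = ⊥ := by
  set N := nilradical A with hN
  set d := Module.finrank F A with hd
  haveI : IsNoetherian A A := isNoetherian_of_tower F inferInstance
  have hjac : N ≤ Ideal.jacobson ⊥ := by
    rw [hN, nilradical]; exact Ideal.radical_le_jacobson
  -- Nakayama step
  have hnak : ∀ k : ℕ, N ^ (k + 1) = N ^ k → N ^ k = ⊥ := by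
    intro k hk
    apply Submodule.eq_bot_of_le_smul_of_le_jacobson_bot N (N ^ k) (IsNoetherian.noetherian _) _ hjac
    rw [smul_eq_mul, ← pow_succ', hk]
  have key : ∀ k : ℕ, N ^ k = ⊥ ∨ Module.finrank F ((N ^ k).restrictScalars F) + k ≤ d := by
    intro k
    induction k with
    | zero =>
      right
      rw [add_zero]
      exact Submodule.finrank_le _
    | succ k ih =>
      rcases ih with h | h
      · left; rw [pow_succ, h, Ideal.bot_mul]
      · by_cases hb : N ^ (k + 1) = ⊥
        · exact Or.inl hb
        right
        have hle : N ^ (k + 1) ≤ N ^ k := Ideal.pow_le_pow_right (Nat.le_succ k)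
        have hne : N ^ (k + 1) ≠ N ^ k := by
          intro heq
          apply hb
          rw [heq]; exact hnak k heq
        have hlt : (N ^ (k + 1)).restrictScalars F < (N ^ k).restrictScalars F := by
          rw [lt_iff_le_and_ne]
          refine ⟨fun x hx => hle hx, ?_⟩
          intro heq
          apply hne
          exact Submodule.restrictScalars_injective F A A heq
        have := Submodule.finrank_lt_finrank_of_lt hlt
        omega
  rcases key d with h | h
  · exact h
  · have h0 : Module.finrank F ((N ^ d).restrictScalars F) = 0 := by omega
    have := Submodule.finrank_eq_zero.mp h0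
    apply Submodule.restrictScalars_injective F A A
    rw [this, Submodule.restrictScalars_bot]

end Groth.Agent.S18387
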