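import Groth.Statements.S18389
import Mathlib

set_option autoImplicit false
universe u
open LVCorr

namespace Groth.Agent.S18389

open AlgebraicGeometry CategoryTheory in
/-- Let j : C → C̄ be an open immersion with dense image and jX : X → X̄ an open immersion, and let c₁ :
C → X and c̄₁ : C̄ → X̄ satisfy j followed by c̄₁ equals c₁ followed by jX, with c̄₁ separated. Let
U be an open subset of X such that c₁⁻¹(U) is dense in C and the restriction c₁⁻¹(U) → U of c₁ is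
proper. Then c̄₁⁻¹(jX(U)) = j(c₁⁻¹(U)) as open subsets of C̄. (In the source all schemes are
separated of finite type over a field, C̄ and X̄ are compactifications of a correspondence and of X,
so that c̄₁ is automatically separated.) -/
theorem result {C Cb X Xb : Scheme.{u}}
    (j : C ⟶ Cb) [IsOpenImmersion j] (hj : DenseRange j.base)
    (jX : X ⟶ Xb) [IsOpenImmersion jX] (c₁ : C ⟶ X) (cb₁ : Cb ⟶ Xb) [IsSeparated cb₁]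
    (h : j ≫ cb₁ = c₁ ≫ jX) (U : X.Opens) (hU : Dense ((c₁ ⁻¹ᵁ U : C.Opens) : Set C))
    [IsProper (c₁ ∣_ U)] :
    cb₁ ⁻¹ᵁ (jX ''ᵁ U) = j ''ᵁ (c₁ ⁻¹ᵁ U) := by
  have hle : j ''ᵁ (c₁ ⁻¹ᵁ U) ≤ cb₁ ⁻¹ᵁ (jX ''ᵁ U) := by
    rintro _ ⟨c, hc, rfl⟩
    change cb₁ (j c) ∈ jX ''ᵁ U
    have h1 : cb₁ (j c) = jX (c₁ c) := by
      rw [← AlgebraicGeometry.Scheme.Hom.comp_apply, ← AlgebraicGeometry.Scheme.Hom.comp_apply, h]
    rw [h1]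
    exact ⟨c₁ c, hc, rfl⟩
  refine le_antisymm ?_ hle
  have hrange : Set.range ((c₁ ⁻¹ᵁ U).ι ≫ j).base ⊆ Set.range (cb₁ ⁻¹ᵁ (jX ''ᵁ U)).ι.base := by
    rintro _ ⟨c, rfl⟩
    rw [AlgebraicGeometry.Scheme.Opens.range_ι]
    exact hle ⟨(c₁ ⁻¹ᵁ U).ι c, c.2, rfl⟩
  let ι' : (c₁ ⁻¹ᵁ U).toScheme ⟶ (cb₁ ⁻¹ᵁ (jX ''ᵁ U)).toScheme :=
    AlgebraicGeometry.IsOpenImmersion.lift (cb₁ ⁻¹ᵁ (jX ''ᵁ U)).ι ((c₁ ⁻¹ᵁ U).ι ≫ j) hrange
  have hι' : ι' ≫ (cb₁ ⁻¹ᵁ (jX ''ᵁ U)).ι = (c₁ ⁻¹ᵁ U).ι ≫ j :=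
    AlgebraicGeometry.IsOpenImmersion.lift_fac _ _ _
  have hcomp : ι' ≫ (cb₁ ∣_ (jX ''ᵁ U)) = (c₁ ∣_ U) ≫ (jX.isoImage U).hom := by
    rw [← cancel_mono (jX ''ᵁ U).ι]
    simp only [Category.assoc, AlgebraicGeometry.morphismRestrict_ι,
      AlgebraicGeometry.Scheme.Hom.isoImage_hom_ι]
    rw [reassoc_of% hι', h, AlgebraicGeometry.morphismRestrict_ι_assoc]
  haveI : IsProper (ι' ≫ (cb₁ ∣_ (jX ''ᵁ U))) := by
    rw [hcomp]; infer_instance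
  haveI : IsProper ι' := AlgebraicGeometry.IsProper.of_comp ι' (cb₁ ∣_ (jX ''ᵁ U))
  have hclosed : IsClosed (Set.range ι'.base) := ι'.isClosedMap.isClosed_range
  have hdense : Dense (j.base '' ((c₁ ⁻¹ᵁ U : C.Opens) : Set C)) :=
    hj.dense_image j.continuous hU
  intro w hw
  have hmem : (⟨w, hw⟩ : (cb₁ ⁻¹ᵁ (jX ''ᵁ U))) ∈ Set.range ι'.base := by
    rw [← hclosed.closure_eq,
      (cb₁ ⁻¹ᵁ (jX ''ᵁ U)).ι.isOpenEmbedding.isInducing.closure_eq_preimage_closure_image]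
    refine Set.mem_preimage.mpr (closure_mono ?_ (hdense w))
    rintro _ ⟨c, hc, rfl⟩
    refine ⟨ι' ⟨c, hc⟩, ⟨_, rfl⟩, ?_⟩
    rw [← AlgebraicGeometry.Scheme.Hom.comp_apply, hι']
    rfl
  obtain ⟨v, hv⟩ := hmem
  have h2 : w = j ((c₁ ⁻¹ᵁ U).ι v) := by
    have := congrArg (fun z => (cb₁ ⁻¹ᵁ (jX ''ᵁ U)).ι z) hv
    simp only [← AlgebraicGeometry.Scheme.Hom.comp_apply, hι'] at this
    exact this.symm
  rw [h2]
  exact ⟨(c₁ ⁻¹ᵁ U).ι v, v.2, rfl⟩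
end Groth.Agent.S18389
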