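import Groth.Statements.S1839
import Mathlib
import Groth.Agent.S1838

set_option autoImplicit false
universe u v
open CycDet

namespace Groth.Agent.S1839aux

open CycDet IsLocalRing Groth.Agent.S1838aux
set_option linter.unusedSectionVars false
set_option linter.unusedVariables false

variable {R : Type u} [CommRing R] [IsLocalRing R]

section general
variable {N : Type v} [AddCommGroup N] [Module R N]

lemma succAbove_val {n : ℕ} (i : Fin (n+1)) (t : Fin n) :
    ((i.succAbove t : Fin (n+1)) : ℕ) = if (t : ℕ) < (i : ℕ) then (t : ℕ) else (t : ℕ) + 1 := by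
  split_ifs with h
  · rw [Fin.succAbove_of_castSucc_lt _ _ (by rw [Fin.lt_def]; simpa using h)]; rfl
  · rw [Fin.succAbove_of_le_castSucc _ _ (by rw [Fin.le_def]; simpa using h)]; rfl

lemma spanBefore_zero {l : ℕ} (w : Fin l → N) : spanBefore R N w 0 = ⊥ := by
  unfold spanBefore
  simp

lemma spanBefore_le_of' {l l' : ℕ} (e : Fin l → N) (e' : Fin l' → N) (i i' : ℕ)
    (h : ∀ j : Fin l, (j : ℕ) < i → e j ∈ spanBefore R N e' i') :
    spanBefore R N e i ≤ spanBefore R N e' i' := by
  unfold spanBefore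
  rw [Submodule.span_le]
  rintro _ ⟨j, hj, rfl⟩
  exact h j hj

lemma spanBefore_removeNth {n : ℕ} (w : Fin (n+1) → N) (i : Fin (n+1))
    (hi : w i ∈ spanBefore R N w i) (t : Fin n) :
    spanBefore R N (w ∘ i.succAbove) t = spanBefore R N w (i.succAbove t) := by
  have hval := succAbove_val i
  have key : ∀ s : Fin (n+1), s ≠ i → (s : ℕ) < (i.succAbove t : ℕ) →
      w s ∈ spanBefore R N (w ∘ i.succAbove) t := by
    intro s hs hlt
    obtain ⟨s', rfl⟩ := Fin.exists_succAbove_eq hs
    apply mem_spanBefore (w ∘ i.succAbove) s'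
    rw [hval, hval] at hlt
    split_ifs at hlt <;> omega
  apply le_antisymm
  · apply spanBefore_le_of'
    intro s hs
    apply mem_spanBefore w (i.succAbove s)
    rw [hval, hval]
    split_ifs <;> omega
  · apply spanBefore_le_of'
    intro s hs
    by_cases hsi : s = i
    · rw [hsi]
      refine (spanBefore_le_of' w (w ∘ i.succAbove) i t ?_) hi
      intro r hr
      apply key r (by intro h; rw [h] at hr; exact lt_irrefl _ hr)
      rw [hsi] at hs
      omega
    · exact key s hsi hs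

lemma map_spanBefore {M : Type v} [AddCommGroup M] [Module R M] {l : ℕ} (v : Fin l → M) (j : ℕ)
    (f : M →ₗ[R] N) : (spanBefore R M v j).map f = spanBefore R N (f ∘ v) j := by
  unfold spanBefore
  rw [Submodule.map_span, Set.image_comp]

lemma spanBefore_relb {l : ℕ} {g g' : Fin l → N} (a : Fin l) (c : Rˣ)
    (h1 : ∀ j, j ≠ a → g j = g' j)
    (h2 : g a - (c : R) • g' a ∈ spanBefore R N g a) (j : ℕ) :
    spanBefore R N g j = spanBefore R N g' j := by
  have hlow : spanBefore R N g a = spanBefore R N g' a :=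
    spanBefore_congr g g' a (fun t ht => h1 t (by intro h; rw [h] at ht; exact lt_irrefl _ ht))
  apply le_antisymm
  · apply spanBefore_le_of
    intro t ht
    by_cases hta : t = a
    · rw [hta] at ht ⊢
      have : g a = (g a - (c : R) • g' a) + (c : R) • g' a := by abel
      rw [this]
      apply Submodule.add_mem
      · apply spanBefore_mono g' ht.le
        rw [← hlow]; exact h2
      · exact Submodule.smul_mem _ _ (mem_spanBefore g' a ht)
    · rw [h1 t hta]; exact mem_spanBefore g' t ht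
  · apply spanBefore_le_of
    intro t ht
    by_cases hta : t = a
    · rw [hta] at ht ⊢
      have : g' a = ((c⁻¹ : Rˣ) : R) • g a - ((c⁻¹ : Rˣ) : R) • (g a - (c : R) • g' a) := by
        rw [smul_sub, smul_smul, Units.inv_mul, one_smul]; abel
      rw [this]
      apply Submodule.sub_mem
      · exact Submodule.smul_mem _ _ (mem_spanBefore g a ht)
      · exact Submodule.smul_mem _ _ (spanBefore_mono g ht.le h2)
    · rw [← h1 t hta]; exact mem_spanBefore g t ht

end general

section socle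
variable {M : Type v} [AddCommGroup M] [Module R M] {n : ℕ} (x : M)

variable (R) in
/-- the quotient by the line spanned by `x`. -/
abbrev Qt : Type v := M ⧸ Submodule.span R ({x} : Set M)

variable (R) in
/-- the quotient map. -/
def q : M →ₗ[R] Qt R x := (Submodule.span R ({x} : Set M)).mkQ

lemma q_x : q R x x = 0 := by
  unfold q
  rw [Submodule.mkQ_apply, Submodule.Quotient.mk_eq_zero]
  exact Submodule.mem_span_singleton_self x

lemma q_surjective : Function.Surjective (q R x) := Submodule.mkQ_surjective _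

variable (R) in
/-- remove the `i`-th entry and reduce mod `x`. -/
def red (v : Fin (n+1) → M) (i : Fin (n+1)) : Fin n → Qt R x := (q R x ∘ v) ∘ i.succAbove

/-- `(i, u)` is a pivot of `v` for `x`. -/
def P (v : Fin (n+1) → M) (i : Fin (n+1)) (u : Rˣ) : Prop :=
  x ∉ spanBefore R M v i ∧ x - (u : R) • v i ∈ spanBefore R M v i

variable {x}

lemma qv_mem {v : Fin (n+1) → M} {i : Fin (n+1)} {u : Rˣ} (h : P x v i u) :
    (q R x ∘ v) i ∈ spanBefore R (Qt R x) (q R x ∘ v) i := by
  rw [← map_spanBefore]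
  have h1 : q R x (x - (u : R) • v i) ∈ (spanBefore R M v i).map (q R x) :=
    Submodule.mem_map_of_mem h.2
  rw [map_sub, q_x, zero_sub, map_smul] at h1
  have h2 := Submodule.smul_mem _ ((u⁻¹ : Rˣ) : R) (Submodule.neg_mem _ h1)
  rw [neg_neg, smul_smul, Units.inv_mul, one_smul] at h2
  exact h2

lemma R1' {v : Fin (n+1) → M} {i : Fin (n+1)}
    (h : (q R x ∘ v) i ∈ spanBefore R (Qt R x) (q R x ∘ v) i) (t : Fin n) :
    spanBefore R (Qt R x) (red R x v i) t = (spanBefore R M v (i.succAbove t)).map (q R x) := by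
  rw [map_spanBefore]
  exact spanBefore_removeNth (q R x ∘ v) i h t

lemma R1 {v : Fin (n+1) → M} {i : Fin (n+1)} {u : Rˣ} (h : P x v i u) (t : Fin n) :
    spanBefore R (Qt R x) (red R x v i) t = (spanBefore R M v (i.succAbove t)).map (q R x) :=
  R1' (qv_mem h) t

lemma red_adm' {v : Fin (n+1) → M} {i : Fin (n+1)} (hv : IsAdmissible R M v)
    (h : (q R x ∘ v) i ∈ spanBefore R (Qt R x) (q R x ∘ v) i) :
    IsAdmissible R (Qt R x) (red R x v i) := by
  intro t r hr
  rw [R1' h t]
  have := hv (i.succAbove t) r hr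
  show r • q R x (v (i.succAbove t)) ∈ _
  rw [← map_smul]
  exact Submodule.mem_map_of_mem this

lemma red_adm {v : Fin (n+1) → M} {i : Fin (n+1)} {u : Rˣ} (hv : IsAdmissible R M v)
    (h : P x v i u) : IsAdmissible R (Qt R x) (red R x v i) :=
  red_adm' hv (qv_mem h)

lemma P_not_mem {v : Fin (n+1) → M} {i : Fin (n+1)} {u : Rˣ} (h : P x v i u) :
    v i ∉ spanBefore R M v i := by
  intro hv
  apply h.1
  have := Submodule.add_mem _ h.2 (Submodule.smul_mem _ (u : R) hv)
  simpa using this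

lemma P_mem_succ {v : Fin (n+1) → M} {i : Fin (n+1)} {u : Rˣ} (h : P x v i u) :
    x ∈ spanBefore R M v ((i : ℕ) + 1) := by
  rw [spanBefore_succ]
  have : x = (x - (u : R) • v i) + (u : R) • v i := by abel
  rw [this]
  exact Submodule.add_mem _ (Submodule.mem_sup_left h.2)
    (Submodule.mem_sup_right (Submodule.smul_mem _ _ (Submodule.mem_span_singleton_self _)))

lemma P_unique {v : Fin (n+1) → M} {i i' : Fin (n+1)} {u u' : Rˣ} (h : P x v i u)
    (h' : P x v i' u') : i = i' ∧ residue R (u : R) = residue R (u' : R) := by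
  have hii' : i = i' := by
    by_contra hne
    rcases lt_or_gt_of_ne hne with hlt | hgt
    · exact h'.1 (spanBefore_mono v (show (i : ℕ) + 1 ≤ i' from hlt) (P_mem_succ h))
    · exact h.1 (spanBefore_mono v (show (i' : ℕ) + 1 ≤ i from hgt) (P_mem_succ h'))
  subst hii'
  refine ⟨rfl, ?_⟩
  rw [← sub_eq_zero, ← map_sub, IsLocalRing.residue_eq_zero_iff]
  by_contra hnm
  have hunit : IsUnit ((u : R) - (u' : R)) := by
    by_contra hnu; exact hnm ((IsLocalRing.mem_maximalIdeal _).mpr hnu)
  obtain ⟨w, hw⟩ := hunit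
  apply P_not_mem h
  have h1 : (x - (u' : R) • v i) - (x - (u : R) • v i) ∈ spanBefore R M v i :=
    Submodule.sub_mem _ h'.2 h.2
  have h2 : (x - (u' : R) • v i) - (x - (u : R) • v i) = (w : R) • v i := by
    rw [hw, sub_smul]; abel
  rw [h2] at h1
  have h3 := Submodule.smul_mem _ ((w⁻¹ : Rˣ) : R) h1
  rwa [smul_smul, Units.inv_mul, one_smul] at h3

variable (x) (D' : Free R (Qt R x) n →ₗ[ResidueField R] ResidueField R)

open Classical in
/-- value of `D'` on a tuple, zero when it is not admissible. -/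
noncomputable def D'val (w : Fin n → Qt R x) : ResidueField R :=
  if h : IsAdmissible R (Qt R x) w then D' (sym R (Qt R x) ⟨w, h⟩) else 0

lemma D'val_eq (w : Fin n → Qt R x) (h : IsAdmissible R (Qt R x) w) :
    D'val x D' w = D' (sym R (Qt R x) ⟨w, h⟩) := by
  unfold D'val; rw [dif_pos h]

open Classical in
/-- the functional on symbols. -/
noncomputable def Dfun (g : Adm R M (n+1)) : ResidueField R :=
  if h : ∃ (i : Fin (n+1)) (u : Rˣ), P x g.1 i u then
    (-1) ^ ((h.choose : Fin (n+1)) : ℕ) * (residue R ((h.choose_spec.choose : Rˣ) : R))⁻¹ *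
      D'val x D' (red R x g.1 h.choose)
  else 0

lemma Dfun_eq (g : Adm R M (n+1)) {i : Fin (n+1)} {u : Rˣ} (h : P x g.1 i u) :
    Dfun x D' g = (-1) ^ (i : ℕ) * (residue R (u : R))⁻¹ * D'val x D' (red R x g.1 i) := by
  have hex : ∃ (i : Fin (n+1)) (u : Rˣ), P x g.1 i u := ⟨i, u, h⟩
  unfold Dfun
  rw [dif_pos hex]
  obtain ⟨h1, h2⟩ := P_unique hex.choose_spec.choose_spec h
  rw [h2, h1]

lemma Dfun_none (g : Adm R M (n+1)) (h : ¬ ∃ (i : Fin (n+1)) (u : Rˣ), P x g.1 i u) :
    Dfun x D' g = 0 := by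
  unfold Dfun; rw [dif_neg h]

variable (hD' : ∀ y ∈ relSet R (Qt R x) n, D' y = 0)
include hD'

lemma Dfun_deg (g : Adm R M (n+1)) (a : Fin (n+1)) (ha : g.1 a ∈ spanBefore R M g.1 a) :
    Dfun x D' g = 0 := by
  classical
  by_cases hex : ∃ (i : Fin (n+1)) (u : Rˣ), P x g.1 i u
  · obtain ⟨i, u, h⟩ := hex
    rw [Dfun_eq x D' g h, D'val_eq x D' _ (red_adm g.2 h)]
    have hai : a ≠ i := by
      intro hai; rw [hai] at ha; exact P_not_mem h ha
    obtain ⟨a', rfl⟩ := Fin.exists_succAbove_eq hai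
    have : D' (sym R _ ⟨red R x g.1 i, red_adm g.2 h⟩) = 0 := by
      apply hD'
      left; left
      refine ⟨_, a', ?_, rfl⟩
      show red R x g.1 i a' ∈ spanBefore R _ (red R x g.1 i) a'
      rw [R1 h a']
      exact Submodule.mem_map_of_mem ha
    rw [this, mul_zero]
  · exact Dfun_none x D' g hex

lemma Dfun_relb_aux (g g' : Adm R M (n+1)) (a : Fin (n+1)) (c : Rˣ)
    (h1 : ∀ j, j ≠ a → g.1 j = g'.1 j)
    (h2 : g.1 a - (c : R) • g'.1 a ∈ spanBefore R M g.1 a) {i : Fin (n+1)} {u : Rˣ}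
    (h : P x g.1 i u) :
    (∃ (i' : Fin (n+1)) (u' : Rˣ), P x g'.1 i' u') ∧
      Dfun x D' g = residue R (c : R) * Dfun x D' g' := by
  have hsp := spanBefore_relb a c h1 h2
  have hc : residue R (c : R) ≠ 0 := (IsLocalRing.residue_ne_zero_iff_isUnit _).mpr c.isUnit
  have hu : residue R (u : R) ≠ 0 := (IsLocalRing.residue_ne_zero_iff_isUnit _).mpr u.isUnit
  by_cases hia : i = a
  · subst hia
    have hP' : P x g'.1 i (u * c) := by
      refine ⟨by rw [← hsp]; exact h.1, ?_⟩
      rw [← hsp]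
      have : x - ((u * c : Rˣ) : R) • g'.1 i =
          (x - (u : R) • g.1 i) + (u : R) • (g.1 i - (c : R) • g'.1 i) := by
        rw [Units.val_mul, mul_smul, smul_sub]; abel
      rw [this]
      exact Submodule.add_mem _ h.2 (Submodule.smul_mem _ _ h2)
    refine ⟨⟨i, _, hP'⟩, ?_⟩
    rw [Dfun_eq x D' g h, Dfun_eq x D' g' hP']
    have hred : red R x g.1 i = red R x g'.1 i := by
      funext t
      show q R x (g.1 (i.succAbove t)) = q R x (g'.1 (i.succAbove t))
      rw [h1 _ (Fin.succAbove_ne i t)]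
    rw [hred, Units.val_mul, map_mul, mul_inv]
    field_simp
  · have hP' : P x g'.1 i u := by
      refine ⟨by rw [← hsp]; exact h.1, ?_⟩
      rw [← hsp, ← h1 i hia]; exact h.2
    refine ⟨⟨i, u, hP'⟩, ?_⟩
    rw [Dfun_eq x D' g h, Dfun_eq x D' g' hP', D'val_eq x D' _ (red_adm g.2 h),
      D'val_eq x D' _ (red_adm g'.2 hP')]
    obtain ⟨a', rfl⟩ := Fin.exists_succAbove_eq (Ne.symm hia)
    have hrel : D' (sym R _ ⟨red R x g.1 i, red_adm g.2 h⟩) =
        residue R (c : R) * D' (sym R _ ⟨red R x g'.1 i, red_adm g'.2 hP'⟩) := by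
      have := hD' (sym R _ ⟨red R x g.1 i, red_adm g.2 h⟩ -
        residue R (c : R) • sym R _ ⟨red R x g'.1 i, red_adm g'.2 hP'⟩) ?_
      · rw [map_sub, map_smul, smul_eq_mul, sub_eq_zero] at this; exact this
      · left; right
        refine ⟨_, _, a', c, ?_, ?_, rfl⟩
        · intro j hj
          show q R x (g.1 (i.succAbove j)) = q R x (g'.1 (i.succAbove j))
          rw [h1]; intro h; exact hj (Fin.succAbove_right_injective h)
        · show red R x g.1 i a' - (c : R) • red R x g'.1 i a' ∈ spanBefore R _ (red R x g.1 i) a'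
          rw [R1 h a']
          have := Submodule.mem_map_of_mem (f := q R x) h2
          rwa [map_sub, map_smul] at this
    rw [hrel]; ring

lemma Dfun_relb (g g' : Adm R M (n+1)) (a : Fin (n+1)) (c : Rˣ)
    (h1 : ∀ j, j ≠ a → g.1 j = g'.1 j)
    (h2 : g.1 a - (c : R) • g'.1 a ∈ spanBefore R M g.1 a) :
    Dfun x D' g = residue R (c : R) * Dfun x D' g' := by
  classical
  by_cases hex : ∃ (i : Fin (n+1)) (u : Rˣ), P x g.1 i u
  · obtain ⟨i, u, h⟩ := hex
    exact (Dfun_relb_aux x D' hD' g g' a c h1 h2 h).2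
  · by_cases hex' : ∃ (i : Fin (n+1)) (u : Rˣ), P x g'.1 i u
    · exfalso
      obtain ⟨i, u, h⟩ := hex'
      have h1' : ∀ j, j ≠ a → g'.1 j = g.1 j := fun j hj => (h1 j hj).symm
      have h2' : g'.1 a - ((c⁻¹ : Rˣ) : R) • g.1 a ∈ spanBefore R M g'.1 a := by
        rw [← spanBefore_relb a c h1 h2]
        have : g'.1 a - ((c⁻¹ : Rˣ) : R) • g.1 a =
            -(((c⁻¹ : Rˣ) : R) • (g.1 a - (c : R) • g'.1 a)) := by
          rw [smul_sub, smul_smul, Units.inv_mul, one_smul]; abel
        rw [this]; exact Submodule.neg_mem _ (Submodule.smul_mem _ _ h2)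
      exact hex (Dfun_relb_aux x D' hD' g' g a c⁻¹ h1' h2' h).1
    · rw [Dfun_none x D' g hex, Dfun_none x D' g' hex', mul_zero]

/-- hypotheses of relation (c). -/
structure Hc (g g' : Adm R M (n+1)) (a b : Fin (n+1)) : Prop where
  hab : (b : ℕ) + 1 = a
  hm : ∀ r ∈ maximalIdeal R, r • g.1 a ∈ spanBefore R M g.1 b
  hg' : g'.1 = g.1 ∘ Equiv.swap a b

omit hD' in
lemma Hc.ne {g g' : Adm R M (n+1)} {a b : Fin (n+1)} (h : Hc g g' a b) : a ≠ b := by
  intro e
  have := h.hab
  rw [e] at this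
  omega

omit hD' in
lemma Hc.g'_a {g g' : Adm R M (n+1)} {a b : Fin (n+1)} (h : Hc g g' a b) : g'.1 a = g.1 b := by
  rw [h.hg']
  show g.1 (Equiv.swap a b a) = _
  rw [Equiv.swap_apply_left]

omit hD' in
lemma Hc.g'_b {g g' : Adm R M (n+1)} {a b : Fin (n+1)} (h : Hc g g' a b) : g'.1 b = g.1 a := by
  rw [h.hg']
  show g.1 (Equiv.swap a b b) = _
  rw [Equiv.swap_apply_right]

omit hD' in
lemma Hc.g'_of_ne {g g' : Adm R M (n+1)} {a b : Fin (n+1)} (h : Hc g g' a b) (j : Fin (n+1))
    (hja : j ≠ a) (hjb : j ≠ b) : g'.1 j = g.1 j := by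
  rw [h.hg']
  show g.1 (Equiv.swap a b j) = _
  rw [Equiv.swap_apply_of_ne_of_ne hja hjb]

omit hD' in
lemma Hc.span_eq {g g' : Adm R M (n+1)} {a b : Fin (n+1)} (h : Hc g g' a b) (j : ℕ)
    (hj : j ≤ (b : ℕ) ∨ (a : ℕ) < j) : spanBefore R M g'.1 j = spanBefore R M g.1 j := by
  rw [h.hg']
  exact spanBefore_swap g.1 a b h.hab j hj

omit hD' in
lemma Hc.Ea {g g' : Adm R M (n+1)} {a b : Fin (n+1)} (h : Hc g g' a b) :
    spanBefore R M g.1 a = spanBefore R M g.1 b ⊔ Submodule.span R {g.1 b} := by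
  rw [← h.hab]
  exact spanBefore_succ g.1 b

omit hD' in
lemma Hc.Ea' {g g' : Adm R M (n+1)} {a b : Fin (n+1)} (h : Hc g g' a b) :
    spanBefore R M g'.1 a = spanBefore R M g.1 b ⊔ Submodule.span R {g.1 a} := by
  rw [← h.hab, spanBefore_succ g'.1 b, h.span_eq b (Or.inl le_rfl), h.g'_b]

omit hD' in
lemma Hc.symm {g g' : Adm R M (n+1)} {a b : Fin (n+1)} (h : Hc g g' a b) : Hc g' g a b := by
  refine ⟨h.hab, fun r hr => ?_, ?_⟩
  · rw [h.g'_a, h.span_eq b (Or.inl le_rfl)]
    exact g.2 b r hr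
  · rw [h.hg']
    funext j
    show g.1 j = g.1 (Equiv.swap a b (Equiv.swap a b j))
    rw [Equiv.swap_apply_self]

omit hD' in
lemma Hc.deg {g g' : Adm R M (n+1)} {a b : Fin (n+1)} (h : Hc g g' a b)
    (hd : ∃ t : Fin (n+1), g.1 t ∈ spanBefore R M g.1 t) :
    ∃ t : Fin (n+1), g'.1 t ∈ spanBefore R M g'.1 t := by
  obtain ⟨t, ht⟩ := hd
  by_cases hta : t = a
  · rw [hta, h.Ea, Submodule.mem_sup] at ht
    obtain ⟨s, hs, y, hy, hsy⟩ := ht
    obtain ⟨r, rfl⟩ := Submodule.mem_span_singleton.mp hy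
    by_cases hr : r ∈ maximalIdeal R
    · refine ⟨b, ?_⟩
      rw [h.g'_b, h.span_eq b (Or.inl le_rfl), ← hsy]
      exact Submodule.add_mem _ hs (g.2 b r hr)
    · have hru : IsUnit r := by
        by_contra hnu; exact hr ((mem_maximalIdeal r).mpr hnu)
      obtain ⟨w, rfl⟩ := hru
      refine ⟨a, ?_⟩
      rw [h.g'_a, h.Ea']
      have : g.1 b = ((w⁻¹ : Rˣ) : R) • g.1 a - ((w⁻¹ : Rˣ) : R) • s := by
        rw [← hsy, smul_add, smul_smul, Units.inv_mul, one_smul]; abel
      rw [this]
      exact Submodule.sub_mem _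
        (Submodule.mem_sup_right (Submodule.smul_mem _ _ (Submodule.mem_span_singleton_self _)))
        (Submodule.mem_sup_left (Submodule.smul_mem _ _ hs))
  · by_cases htb : t = b
    · refine ⟨a, ?_⟩
      rw [h.g'_a, h.Ea']
      rw [htb] at ht
      exact Submodule.mem_sup_left ht
    · refine ⟨t, ?_⟩
      rw [h.g'_of_ne t hta htb, h.span_eq t ?_]
      · exact ht
      · have := h.hab
        have h1 : (t : ℕ) ≠ a := fun e => hta (Fin.ext e)
        have h2 : (t : ℕ) ≠ b := fun e => htb (Fin.ext e)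
        omega

lemma C_off {g g' : Adm R M (n+1)} {a b : Fin (n+1)} (h : Hc g g' a b) {i : Fin (n+1)} {u : Rˣ}
    (hP : P x g.1 i u) (hia : i ≠ a) (hib : i ≠ b) :
    (∃ (i' : Fin (n+1)) (u' : Rˣ), P x g'.1 i' u') ∧ Dfun x D' g + Dfun x D' g' = 0 := by
  have hab := h.hab
  have hij : (i : ℕ) ≤ b ∨ (a : ℕ) < i := by
    have h1 : (i : ℕ) ≠ a := fun e => hia (Fin.ext e)
    have h2 : (i : ℕ) ≠ b := fun e => hib (Fin.ext e)
    omega
  have hP' : P x g'.1 i u := by
    unfold P
    rw [h.span_eq i hij, h.g'_of_ne i hia hib]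
    exact hP
  refine ⟨⟨i, u, hP'⟩, ?_⟩
  obtain ⟨a', ha'⟩ := Fin.exists_succAbove_eq (Ne.symm hia)
  obtain ⟨b', hb'⟩ := Fin.exists_succAbove_eq (Ne.symm hib)
  have hred : red R x g'.1 i = red R x g.1 i ∘ Equiv.swap a' b' := by
    funext t
    show q R x (g'.1 (i.succAbove t)) = q R x (g.1 (i.succAbove (Equiv.swap a' b' t)))
    rw [h.hg']
    show q R x (g.1 (Equiv.swap a b (i.succAbove t))) = _
    have key : Equiv.swap a b (i.succAbove t) = i.succAbove (Equiv.swap a' b' t) := by
      by_cases hta : t = a'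
      · rw [hta, Equiv.swap_apply_left, ha', Equiv.swap_apply_left, hb']
      · by_cases htb : t = b'
        · rw [htb, Equiv.swap_apply_right, hb', Equiv.swap_apply_right, ha']
        · rw [Equiv.swap_apply_of_ne_of_ne hta htb, Equiv.swap_apply_of_ne_of_ne]
          · rw [← ha']; intro e; exact hta (Fin.succAbove_right_injective e)
          · rw [← hb']; intro e; exact htb (Fin.succAbove_right_injective e)
    rw [key]
  have hb'a' : (b' : ℕ) + 1 = a' := by
    have e1 := succAbove_val i a'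
    have e2 := succAbove_val i b'
    rw [ha'] at e1; rw [hb'] at e2
    split_ifs at e1 e2 <;> omega
  have hmm : ∀ r ∈ maximalIdeal R,
      r • red R x g.1 i a' ∈ spanBefore R (Qt R x) (red R x g.1 i) b' := by
    intro r hr
    rw [R1 hP b', hb']
    show r • q R x (g.1 (i.succAbove a')) ∈ _
    rw [ha', ← map_smul]
    exact Submodule.mem_map_of_mem (h.hm r hr)
  have hrel := hD' (sym R _ ⟨red R x g.1 i, red_adm g.2 hP⟩ +
      sym R _ ⟨red R x g'.1 i, red_adm g'.2 hP'⟩) (by
    right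
    exact ⟨⟨red R x g.1 i, red_adm g.2 hP⟩, ⟨red R x g'.1 i, red_adm g'.2 hP'⟩, a', b', hb'a',
      hmm, hred, rfl⟩)
  rw [map_add] at hrel
  rw [Dfun_eq x D' g hP, Dfun_eq x D' g' hP', D'val_eq x D' _ (red_adm g.2 hP),
    D'val_eq x D' _ (red_adm g'.2 hP'), ← mul_add, hrel, mul_zero]

lemma C_a_small {g g' : Adm R M (n+1)} {a b : Fin (n+1)} (h : Hc g g' a b) {u : Rˣ}
    (hP : P x g.1 a u) (hsm : x - (u : R) • g.1 a ∈ spanBefore R M g.1 b) :
    (∃ (i' : Fin (n+1)) (u' : Rˣ), P x g'.1 i' u') ∧ Dfun x D' g + Dfun x D' g' = 0 := by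
  have hab := h.hab
  have hP' : P x g'.1 b u := by
    unfold P
    rw [h.span_eq b (Or.inl le_rfl), h.g'_b]
    exact ⟨fun hx => hP.1 (spanBefore_mono g.1 (by omega) hx), hsm⟩
  refine ⟨⟨b, u, hP'⟩, ?_⟩
  have hred : red R x g'.1 b = red R x g.1 a := by
    funext t
    show q R x (g'.1 (b.succAbove t)) = q R x (g.1 (a.succAbove t))
    rw [h.hg']
    show q R x (g.1 (Equiv.swap a b (b.succAbove t))) = _
    have key : Equiv.swap a b (b.succAbove t) = a.succAbove t := by
      have e1 := succAbove_val a t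
      have e2 := succAbove_val b t
      by_cases hta : b.succAbove t = a
      · rw [hta, Equiv.swap_apply_left]
        apply Fin.ext
        rw [hta] at e2
        rw [e1]
        split_ifs at e2 ⊢ <;> omega
      · rw [Equiv.swap_apply_of_ne_of_ne hta (Fin.succAbove_ne b t)]
        apply Fin.ext
        have hta' : (b.succAbove t : ℕ) ≠ a := fun e => hta (Fin.ext e)
        rw [e1, e2]
        rw [e2] at hta'
        split_ifs at hta' ⊢ <;> omega
    rw [key]
  rw [Dfun_eq x D' g hP, Dfun_eq x D' g' hP', hred, ← hab, pow_succ]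
  ring

lemma C_a_unit {g g' : Adm R M (n+1)} {a b : Fin (n+1)} (h : Hc g g' a b) {u : Rˣ}
    (hP : P x g.1 a u) (hns : x - (u : R) • g.1 a ∉ spanBefore R M g.1 b)
    (hnda : g.1 a ∉ spanBefore R M g.1 a) (hndb : g.1 b ∉ spanBefore R M g.1 b) :
    (∃ (i' : Fin (n+1)) (u' : Rˣ), P x g'.1 i' u') ∧ Dfun x D' g + Dfun x D' g' = 0 := by
  have hab := h.hab
  have hmem := hP.2
  rw [h.Ea, Submodule.mem_sup] at hmem
  obtain ⟨s', hs', y, hy, hsy⟩ := hmem
  obtain ⟨r, rfl⟩ := Submodule.mem_span_singleton.mp hy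
  have hru : IsUnit r := by
    by_contra hnu
    apply hns
    rw [← hsy]
    exact Submodule.add_mem _ hs' (g.2 b r ((mem_maximalIdeal r).mpr hnu))
  obtain ⟨cr, rfl⟩ := hru
  have hxeq : x = (s' + (cr : R) • g.1 b) + (u : R) • g.1 a := by rw [hsy]; abel
  have hP' : P x g'.1 a cr := by
    constructor
    · rw [h.Ea']
      intro hx
      rw [Submodule.mem_sup] at hx
      obtain ⟨s'', hs'', y, hy, hsy'⟩ := hx
      obtain ⟨w, rfl⟩ := Submodule.mem_span_singleton.mp hy
      have key : (cr : R) • g.1 b = (s'' - s') + (w - (u : R)) • g.1 a := by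
        have h1 : s'' + w • g.1 a = (s' + (cr : R) • g.1 b) + (u : R) • g.1 a := by
          rw [hsy', ← hxeq]
        have h2 : (cr : R) • g.1 b = (s'' + w • g.1 a) - s' - (u : R) • g.1 a := by
          rw [h1]; abel
        rw [h2, sub_smul]; abel
      by_cases hwu : w - (u : R) ∈ maximalIdeal R
      · apply hndb
        have h1 : (cr : R) • g.1 b ∈ spanBefore R M g.1 b := by
          rw [key]
          exact Submodule.add_mem _ (Submodule.sub_mem _ hs'' hs') (h.hm _ hwu)
        have h2 := Submodule.smul_mem _ ((cr⁻¹ : Rˣ) : R) h1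
        rwa [smul_smul, Units.inv_mul, one_smul] at h2
      · have hwu' : IsUnit (w - (u : R)) := by
          by_contra hnu; exact hwu ((mem_maximalIdeal _).mpr hnu)
        obtain ⟨z, hz⟩ := hwu'
        apply hnda
        rw [h.Ea]
        have : g.1 a = ((z⁻¹ : Rˣ) : R) • ((cr : R) • g.1 b) - ((z⁻¹ : Rˣ) : R) • (s'' - s') := by
          rw [key, ← hz, smul_add, smul_smul, Units.inv_mul, one_smul]; abel
        rw [this]
        exact Submodule.sub_mem _
          (Submodule.mem_sup_right (Submodule.smul_mem _ _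
            (Submodule.smul_mem _ _ (Submodule.mem_span_singleton_self _))))
          (Submodule.mem_sup_left (Submodule.smul_mem _ _ (Submodule.sub_mem _ hs'' hs')))
    · rw [h.Ea', h.g'_a]
      have : x - (cr : R) • g.1 b = s' + (u : R) • g.1 a := by
        have h1 : x - (cr : R) • g.1 b =
            ((s' + (cr : R) • g.1 b) + (u : R) • g.1 a) - (cr : R) • g.1 b := by
          rw [← hxeq]
        rw [h1]; abel
      rw [this]
      exact Submodule.add_mem _ (Submodule.mem_sup_left hs')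
        (Submodule.mem_sup_right (Submodule.smul_mem _ _ (Submodule.mem_span_singleton_self _)))
  refine ⟨⟨a, cr, hP'⟩, ?_⟩
  obtain ⟨b', hb'⟩ := Fin.exists_succAbove_eq (Ne.symm h.ne)
  have hq0 : q R x s' + (cr : R) • q R x (g.1 b) + (u : R) • q R x (g.1 a) = 0 := by
    have h0 : q R x ((s' + (cr : R) • g.1 b) + (u : R) • g.1 a) = 0 := by
      rw [← hxeq]; exact q_x x
    rwa [map_add, map_add, map_smul, map_smul] at h0
  have hrel : D' (sym R _ ⟨red R x g'.1 a, red_adm g'.2 hP'⟩) =
      residue R ((-(u⁻¹ * cr) : Rˣ) : R) * D' (sym R _ ⟨red R x g.1 a, red_adm g.2 hP⟩) := by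
    have := hD' (sym R _ ⟨red R x g'.1 a, red_adm g'.2 hP'⟩ -
      residue R ((-(u⁻¹ * cr) : Rˣ) : R) • sym R _ ⟨red R x g.1 a, red_adm g.2 hP⟩) ?_
    · rw [map_sub, map_smul, smul_eq_mul, sub_eq_zero] at this; exact this
    · left; right
      refine ⟨⟨red R x g'.1 a, red_adm g'.2 hP'⟩, ⟨red R x g.1 a, red_adm g.2 hP⟩, b',
        -(u⁻¹ * cr), ?_, ?_, rfl⟩
      · intro j hj
        show q R x (g'.1 (a.succAbove j)) = q R x (g.1 (a.succAbove j))
        rw [h.g'_of_ne _ (Fin.succAbove_ne a j)]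
        rw [← hb']; intro e; exact hj (Fin.succAbove_right_injective e)
      · show red R x g'.1 a b' - ((-(u⁻¹ * cr) : Rˣ) : R) • red R x g.1 a b' ∈
          spanBefore R _ (red R x g'.1 a) b'
        rw [R1 hP' b', hb', h.span_eq b (Or.inl le_rfl)]
        show q R x (g'.1 (a.succAbove b')) - ((-(u⁻¹ * cr) : Rˣ) : R) •
          q R x (g.1 (a.succAbove b')) ∈ _
        rw [hb', h.g'_b]
        have : q R x (g.1 a) - ((-(u⁻¹ * cr) : Rˣ) : R) • q R x (g.1 b) =
            q R x (-(((u⁻¹ : Rˣ) : R) • s')) := by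
          have h2 := congrArg (fun z => ((u⁻¹ : Rˣ) : R) • z) hq0
          simp only [smul_add, smul_smul, Units.inv_mul, one_smul, smul_zero] at h2
          rw [Units.val_neg, Units.val_mul, neg_smul, sub_neg_eq_add, map_neg, map_smul,
            eq_neg_iff_add_eq_zero, ← h2]
          abel
        rw [this]
        exact Submodule.mem_map_of_mem (Submodule.neg_mem _ (Submodule.smul_mem _ _ hs'))
  have hcr : residue R (cr : R) ≠ 0 := (IsLocalRing.residue_ne_zero_iff_isUnit _).mpr cr.isUnit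
  have hu : residue R (u : R) ≠ 0 := (IsLocalRing.residue_ne_zero_iff_isUnit _).mpr u.isUnit
  rw [Dfun_eq x D' g hP, Dfun_eq x D' g' hP', D'val_eq x D' _ (red_adm g.2 hP),
    D'val_eq x D' _ (red_adm g'.2 hP'), hrel, Units.val_neg, Units.val_mul, map_neg, map_mul,
    map_units_inv]
  field_simp
  ring

lemma C_b {g g' : Adm R M (n+1)} {a b : Fin (n+1)} (h : Hc g g' a b) {u : Rˣ}
    (hP : P x g.1 b u) (hnda : g.1 a ∉ spanBefore R M g.1 a) :
    (∃ (i' : Fin (n+1)) (u' : Rˣ), P x g'.1 i' u') ∧ Dfun x D' g + Dfun x D' g' = 0 := by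
  have hab := h.hab
  have hsm' : x - (u : R) • g'.1 a ∈ spanBefore R M g'.1 b := by
    rw [h.g'_a, h.span_eq b (Or.inl le_rfl)]; exact hP.2
  have hP' : P x g'.1 a u := by
    constructor
    · rw [h.Ea']
      intro hx
      rw [Submodule.mem_sup] at hx
      obtain ⟨s, hs, y, hy, hsy⟩ := hx
      obtain ⟨w, rfl⟩ := Submodule.mem_span_singleton.mp hy
      by_cases hw : w ∈ maximalIdeal R
      · apply hP.1
        rw [← hsy]
        exact Submodule.add_mem _ hs (h.hm w hw)
      · have hwu : IsUnit w := by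
          by_contra hnu; exact hw ((mem_maximalIdeal _).mpr hnu)
        obtain ⟨z, rfl⟩ := hwu
        apply hnda
        rw [h.Ea]
        have hxmem : x ∈ spanBefore R M g.1 b ⊔ Submodule.span R {g.1 b} := by
          have : x = (x - (u : R) • g.1 b) + (u : R) • g.1 b := by abel
          rw [this]
          exact Submodule.add_mem _ (Submodule.mem_sup_left hP.2)
            (Submodule.mem_sup_right
              (Submodule.smul_mem _ _ (Submodule.mem_span_singleton_self _)))
        have : g.1 a = ((z⁻¹ : Rˣ) : R) • x - ((z⁻¹ : Rˣ) : R) • s := by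
          rw [← hsy, smul_add, smul_smul, Units.inv_mul, one_smul]; abel
        rw [this]
        exact Submodule.sub_mem _ (Submodule.smul_mem _ _ hxmem)
          (Submodule.mem_sup_left (Submodule.smul_mem _ _ hs))
    · exact spanBefore_mono g'.1 (by omega) hsm'
  have := C_a_small x D' hD' h.symm hP' hsm'
  refine ⟨⟨a, u, hP'⟩, ?_⟩
  rw [add_comm]; exact this.2

lemma C_all {g g' : Adm R M (n+1)} {a b : Fin (n+1)} (h : Hc g g' a b)
    (hnd : ∀ t : Fin (n+1), g.1 t ∉ spanBefore R M g.1 t) {i : Fin (n+1)} {u : Rˣ}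
    (hP : P x g.1 i u) :
    (∃ (i' : Fin (n+1)) (u' : Rˣ), P x g'.1 i' u') ∧ Dfun x D' g + Dfun x D' g' = 0 := by
  by_cases hia : i = a
  · rw [hia] at hP
    by_cases hsm : x - (u : R) • g.1 a ∈ spanBefore R M g.1 b
    · exact C_a_small x D' hD' h hP hsm
    · exact C_a_unit x D' hD' h hP hsm (hnd _) (hnd _)
  · by_cases hib : i = b
    · rw [hib] at hP
      exact C_b x D' hD' h hP (hnd _)
    · exact C_off x D' hD' h hP hia hib

lemma Dfun_relc (g g' : Adm R M (n+1)) (a b : Fin (n+1)) (hab : (b : ℕ) + 1 = a)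
    (hm : ∀ r ∈ maximalIdeal R, r • g.1 a ∈ spanBefore R M g.1 b)
    (hg' : g'.1 = g.1 ∘ Equiv.swap a b) : Dfun x D' g + Dfun x D' g' = 0 := by
  classical
  have h : Hc g g' a b := ⟨hab, hm, hg'⟩
  by_cases hd : ∃ t : Fin (n+1), g.1 t ∈ spanBefore R M g.1 t
  · obtain ⟨t', ht'⟩ := h.deg hd
    obtain ⟨t, ht⟩ := hd
    rw [Dfun_deg x D' hD' g t ht, Dfun_deg x D' hD' g' t' ht', add_zero]
  · have hd0 : ∀ t : Fin (n+1), g.1 t ∉ spanBefore R M g.1 t := fun t ht => hd ⟨t, ht⟩
    have hd' : ∀ t : Fin (n+1), g'.1 t ∉ spanBefore R M g'.1 t := by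
      intro t ht
      obtain ⟨t'', ht''⟩ := h.symm.deg ⟨t, ht⟩
      exact hd0 t'' ht''
    by_cases hex : ∃ (i : Fin (n+1)) (u : Rˣ), P x g.1 i u
    · obtain ⟨i, u, hP⟩ := hex
      exact (C_all x D' hD' h hd0 hP).2
    · by_cases hex' : ∃ (i : Fin (n+1)) (u : Rˣ), P x g'.1 i u
      · exfalso
        obtain ⟨i, u, hP⟩ := hex'
        exact hex (C_all x D' hD' h.symm hd' hP).1
      · rw [Dfun_none x D' g hex, Dfun_none x D' g' hex', add_zero]

/-- the functional. -/
noncomputable def Dmap : Free R M (n+1) →ₗ[ResidueField R] ResidueField R :=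
  Finsupp.linearCombination (ResidueField R) (Dfun x D')

omit hD' in
lemma Dmap_sym (g : Adm R M (n+1)) : Dmap x D' (sym R M g) = Dfun x D' g := by
  unfold Dmap sym
  rw [Finsupp.linearCombination_single, one_smul]

lemma Dmap_rel : ∀ y ∈ relSet R M (n+1), Dmap x D' y = 0 := by
  rintro y ((⟨e, a, ha, rfl⟩ | ⟨e, e', a, c, h1, h2, rfl⟩) | ⟨e, e', a, b, hab, h1, h2, rfl⟩)
  · rw [Dmap_sym]; exact Dfun_deg x D' hD' e a ha
  · rw [map_sub, map_smul, Dmap_sym, Dmap_sym, smul_eq_mul, sub_eq_zero]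
    exact Dfun_relb x D' hD' e e' a c h1 h2
  · rw [map_add, Dmap_sym, Dmap_sym]; exact Dfun_relc x D' hD' e e' a b hab h1 h2

omit hD' in
lemma Dmap_first (hx0 : x ≠ 0) (e : Adm R M (n+1)) (he : e.1 0 = x) :
    Dmap x D' (sym R M e) = D'val x D' (red R x e.1 0) := by
  have hP : P x e.1 0 (1 : Rˣ) := by
    constructor
    · show x ∉ spanBefore R M e.1 ((0 : Fin (n+1)) : ℕ)
      rw [Fin.val_zero, spanBefore_zero, Submodule.mem_bot]; exact hx0
    · rw [he]; simp
  rw [Dmap_sym, Dfun_eq x D' e hP]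
  simp

end socle

section final

lemma length_span_le_one {M : Type v} [AddCommGroup M] [Module R M] (x : M)
    (hmx : ∀ r ∈ maximalIdeal R, r • x = 0) :
    Module.length R (Submodule.span R ({x} : Set M)) ≤ 1 := by
  have hker : maximalIdeal R ≤ LinearMap.ker (LinearMap.toSpanSingleton R M x) := by
    intro r hr
    rw [LinearMap.mem_ker, LinearMap.toSpanSingleton_apply]
    exact hmx r hr
  let f : (R ⧸ maximalIdeal R) →ₗ[R] M :=
    Submodule.liftQ (maximalIdeal R) (LinearMap.toSpanSingleton R M x) hker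
  have hrange : LinearMap.range f = Submodule.span R {x} := by
    rw [Submodule.range_liftQ, LinearMap.range_toSpanSingleton]
  have h1 : Module.length R (LinearMap.range f) ≤ Module.length R (R ⧸ maximalIdeal R) :=
    Module.length_le_of_surjective f.rangeRestrict f.surjective_rangeRestrict
  haveI : IsSimpleModule R (R ⧸ maximalIdeal R) :=
    isSimpleModule_iff_isCoatom.mpr (Ideal.isMaximal_def.mp inferInstance)
  have h2 : Module.length R (R ⧸ maximalIdeal R) = 1 := Module.length_eq_one _ _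
  rw [← hrange]
  exact h1.trans h2.le

lemma length_eq_add {M : Type v} [AddCommGroup M] [Module R M] (x : M) :
    Module.length R M = Module.length R (Submodule.span R ({x} : Set M)) +
      Module.length R (Qt R x) :=
  Module.length_eq_add_of_exact (Submodule.span R ({x} : Set M)).subtype
    (Submodule.span R ({x} : Set M)).mkQ (Submodule.injective_subtype _)
    (Submodule.mkQ_surjective _) (LinearMap.exact_subtype_mkQ _)

lemma first_smul_eq_zero {M : Type v} [AddCommGroup M] [Module R M] {n : ℕ}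
    (e : Fin (n+1) → M) (he : IsAdmissible R M e) :
    ∀ r ∈ maximalIdeal R, r • e 0 = 0 := by
  intro r hr
  have := he 0 r hr
  rw [Fin.val_zero, spanBefore_zero, Submodule.mem_bot] at this
  exact this

lemma qe_zero_mem {M : Type v} [AddCommGroup M] [Module R M] {n : ℕ} (e : Fin (n+1) → M) :
    (q R (e 0) ∘ e) 0 ∈ spanBefore R (Qt R (e 0)) (q R (e 0) ∘ e) ((0 : Fin (n+1)) : ℕ) := by
  show q R (e 0) (e 0) ∈ _
  rw [q_x]
  exact Submodule.zero_mem _

lemma red_span_top {M : Type v} [AddCommGroup M] [Module R M] {n : ℕ} (e : Fin (n+1) → M)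
    (hspan : Submodule.span R (Set.range e) = ⊤) :
    Submodule.span R (Set.range (red R (e 0) e 0)) = ⊤ := by
  rw [eq_top_iff]
  have h1 : (⊤ : Submodule R (Qt R (e 0))) = (Submodule.span R (Set.range e)).map (q R (e 0)) := by
    rw [hspan, Submodule.map_top, LinearMap.range_eq_top.mpr (q_surjective (e 0))]
  rw [h1, Submodule.map_span, Submodule.span_le]
  rintro _ ⟨_, ⟨s, rfl⟩, rfl⟩
  by_cases hs : s = 0
  · rw [hs, q_x]
    exact Submodule.zero_mem _
  · obtain ⟨s', rfl⟩ := Fin.exists_succAbove_eq hs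
    exact Submodule.subset_span ⟨s', rfl⟩

lemma length_le_of_adm : ∀ (n : ℕ) (M : Type v) [AddCommGroup M] [Module R M] (e : Fin n → M),
    IsAdmissible R M e → Submodule.span R (Set.range e) = ⊤ → Module.length R M ≤ n := by
  intro n
  induction n with
  | zero =>
    intro M _ _ e _ hspan
    have : Set.range e = ∅ := Set.range_eq_empty e
    rw [this, Submodule.span_empty] at hspan
    have hsub : Subsingleton M := by
      constructor
      intro a b
      have ha : a ∈ (⊥ : Submodule R M) := by rw [hspan]; trivial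
      have hb : b ∈ (⊥ : Submodule R M) := by rw [hspan]; trivial
      rw [Submodule.mem_bot] at ha hb
      rw [ha, hb]
    rw [Module.length_eq_zero_iff.mpr hsub]
    exact zero_le
  | succ n ih =>
    intro M _ _ e he hspan
    have hmx := first_smul_eq_zero e he
    have hadm : IsAdmissible R (Qt R (e 0)) (red R (e 0) e 0) := red_adm' he (qe_zero_mem e)
    have h1 := ih (Qt R (e 0)) (red R (e 0) e 0) hadm (red_span_top e hspan)
    have h2 := length_span_le_one (e 0) hmx
    rw [length_eq_add (e 0)]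
    calc Module.length R (Submodule.span R ({e 0} : Set M)) + Module.length R (Qt R (e 0))
        ≤ 1 + (n : ℕ∞) := add_le_add h2 h1
      _ = ((n + 1 : ℕ) : ℕ∞) := by push_cast; rw [add_comm]

theorem exists_functional : ∀ (n : ℕ) (M : Type v) [AddCommGroup M] [Module R M],
    Module.length R M = n → ∀ e : Adm R M n, Submodule.span R (Set.range e.1) = ⊤ →
    ∃ D : Free R M n →ₗ[ResidueField R] ResidueField R,
      (∀ y ∈ relSet R M n, D y = 0) ∧ D (sym R M e) ≠ 0 := by
  intro n
  induction n with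
  | zero =>
    intro M _ _ _ e _
    refine ⟨Finsupp.linearCombination (ResidueField R) (fun _ => 1), ?_, ?_⟩
    · rintro y ((⟨e, a, _⟩ | ⟨e, e', a, _⟩) | ⟨e, e', a, _⟩) <;> exact a.elim0
    · unfold sym
      rw [Finsupp.linearCombination_single, one_smul]
      exact one_ne_zero
  | succ n ih =>
    intro M _ _ hlen e hspan
    have hmx := first_smul_eq_zero e.1 e.2
    have hadm : IsAdmissible R (Qt R (e.1 0)) (red R (e.1 0) e.1 0) :=
      red_adm' e.2 (qe_zero_mem e.1)
    have hspan' := red_span_top e.1 hspan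
    have h1 := length_le_of_adm n (Qt R (e.1 0)) (red R (e.1 0) e.1 0) hadm hspan'
    have h2 := length_span_le_one (e.1 0) hmx
    have h3 := length_eq_add (R := R) (e.1 0)
    rw [hlen] at h3
    -- extract naturals
    obtain ⟨b0, hb0⟩ : ∃ b0 : ℕ, Module.length R (Qt R (e.1 0)) = b0 := by
      have : Module.length R (Qt R (e.1 0)) ≠ ⊤ := ne_top_of_le_ne_top (ENat.coe_ne_top n) h1
      exact ⟨_, (ENat.coe_toNat this).symm⟩
    obtain ⟨a0, ha0⟩ : ∃ a0 : ℕ, Module.length R (Submodule.span R ({e.1 0} : Set M)) = a0 := by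
      have : Module.length R (Submodule.span R ({e.1 0} : Set M)) ≠ ⊤ :=
        ne_top_of_le_ne_top (ENat.coe_ne_top 1) (by simpa using h2)
      exact ⟨_, (ENat.coe_toNat this).symm⟩
    rw [hb0] at h1
    rw [ha0] at h2
    rw [ha0, hb0] at h3
    have h1' : b0 ≤ n := by exact_mod_cast h1
    have h2' : a0 ≤ 1 := by exact_mod_cast h2
    have h3' : n + 1 = a0 + b0 := by exact_mod_cast h3
    have hb0n : b0 = n := by omega
    have ha01 : a0 = 1 := by omega
    have hx0 : e.1 0 ≠ 0 := by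
      intro h0
      have : Submodule.span R ({e.1 0} : Set M) = ⊥ := by rw [h0]; exact Submodule.span_zero_singleton R
      rw [this, Module.length_bot] at ha0
      rw [ha01] at ha0
      exact absurd ha0 (by norm_num)
    have hlen' : Module.length R (Qt R (e.1 0)) = n := by rw [hb0, hb0n]
    obtain ⟨D', hD', hne⟩ := ih (Qt R (e.1 0)) hlen' ⟨red R (e.1 0) e.1 0, hadm⟩ hspan'
    refine ⟨Dmap (e.1 0) D', Dmap_rel (e.1 0) D' hD', ?_⟩
    rw [Dmap_first (e.1 0) D' hx0 e rfl, D'val_eq (e.1 0) D' _ hadm]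
    exact hne

theorem main (R : Type u) [CommRing R] [IsLocalRing R] (M : Type v) [AddCommGroup M] [Module R M]
    (hM : IsFiniteLength R M) (e : CycDet.Adm R M (Module.length R M).toNat)
    (he : Submodule.span R (Set.range e.1) = ⊤) : CycDet.symbol R M e ≠ 0 := by
  have hlen : Module.length R M = ((Module.length R M).toNat : ℕ∞) := by
    rw [ENat.coe_toNat]; exact Module.length_ne_top_iff.mpr hM
  obtain ⟨D, hD, hne⟩ := exists_functional (Module.length R M).toNat M hlen e he
  intro h0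
  apply hne
  unfold symbol at h0
  rw [Submodule.Quotient.mk_eq_zero] at h0
  have hle : Submodule.span (ResidueField R) (relSet R M (Module.length R M).toNat) ≤
      LinearMap.ker D := by
    rw [Submodule.span_le]
    intro y hy
    exact hD y hy
  exact hle h0

end final

end Groth.Agent.S1839aux

namespace Groth.Agent.S1839

/-- For a finite length module M over a local ring with residue field κ, the symbol in det_κ(M) of any
admissible tuple of length length(M) whose entries generate M is nonzero. (Together with the rank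
bound dim_κ det_κ(M) ≤ 1 this gives dim_κ det_κ(M) = 1.) -/
theorem result (R : Type u) [CommRing R] [IsLocalRing R] (M : Type v) [AddCommGroup M] [Module R M] (hM : IsFiniteLength R M) (e : CycDet.Adm R M (Module.length R M).toNat) (he : Submodule.span R (Set.range e.1) = ⊤) : CycDet.symbol R M e ≠ 0 := by
  exact Groth.Agent.S1839aux.main R M hM e he

end Groth.Agent.S1839
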