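import Groth.Statements.S18390
import Mathlib

set_option autoImplicit false
universe u
open LVCorr

namespace Groth.Agent.S18390

section helpers
variable {A' A : Type u} [CommRing A'] [CommRing A] (φ : A' →+* A) {I' : Ideal A'} {I : Ideal A}

theorem map_pow_mem (hle : I'.map φ ≤ I) {J : Ideal A'} (hJ : J ≤ I') (m : ℕ) {x : A'} (hx : x ∈ J ^ m) :
    φ x ∈ I ^ m := by
  have h1 : (J ^ m).map φ ≤ I ^ m := by
    rw [Ideal.map_pow]
    exact Ideal.pow_right_mono ((Ideal.map_mono hJ).trans hle) m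
  exact h1 (Ideal.mem_map_of_mem φ hx)

theorem map_pow_mem_succ (hle : I'.map φ ≤ I) {J : Ideal A'} (hJ : J ≤ I') (k : ℕ)
    (hk : ∀ x ∈ J ^ k, φ x ∈ I ^ (k + 1)) (m : ℕ) (hm : k ≤ m) {x : A'} (hx : x ∈ J ^ m) :
    φ x ∈ I ^ (m + 1) := by
  obtain ⟨j, rfl⟩ := Nat.exists_eq_add_of_le hm
  rw [pow_add] at hx
  refine Submodule.mul_induction_on hx ?_ ?_
  · intro r hr s hs
    rw [map_mul]
    have h1 := hk r hr
    have h2 := map_pow_mem φ hle hJ j hs
    have : k + j + 1 = (k + 1) + j := by ring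
    rw [this, pow_add]
    exact Ideal.mul_mem_mul h1 h2
  · intro a b ha hb
    rw [map_add]; exact Ideal.add_mem _ ha hb

end helpers

theorem result (A' A : Type u) [CommRing A'] [CommRing A]
    (φ : A' →+* A) (I' : Ideal A') (hI' : I'.FG) (I : Ideal A) (hle : I'.map φ ≤ I) :
    (∃ k : ℕ, (I' ^ k).map φ ≤ I ^ (k + 1)) ↔
      ∀ n : ℕ, 1 ≤ n → ∀ a ∈ I' ^ n, ∃ k : ℕ, 1 ≤ k ∧ φ a ^ k ∈ I ^ (n * k + 1) := by
  constructor
  · rintro ⟨k, hk⟩ n hn a ha
    have hk' : ∀ x ∈ I' ^ k, φ x ∈ I ^ (k + 1) := fun x hx => hk (Ideal.mem_map_of_mem φ hx)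
    have hK : ∀ x ∈ I' ^ (k + 1), φ x ∈ I ^ (k + 1 + 1) := fun x hx =>
      map_pow_mem_succ φ hle le_rfl k hk' (k + 1) (Nat.le_succ k) hx
    refine ⟨k + 1, Nat.succ_pos k |>.nat_succ_le, ?_⟩
    -- a^(k+1) ∈ (I'^(k+1))^n
    have h1 : a ^ (k + 1) ∈ (I' ^ (k + 1)) ^ n := by
      rw [← pow_mul, mul_comm, pow_mul]
      exact Ideal.pow_mem_pow ha (k + 1)
    -- apply helper with J = I'^(k+1), I replaced by I^(k+2)
    have h2 : φ (a ^ (k + 1)) ∈ (I ^ (k + 1 + 1)) ^ n := by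
      have hle2 : (I' ^ (k + 1)).map φ ≤ I ^ (k + 1 + 1) := by
        rw [Ideal.map_le_iff_le_comap]; intro x hx; exact hK x hx
      exact map_pow_mem φ hle2 le_rfl n h1
    rw [map_pow] at h2
    rw [← pow_mul] at h2
    refine Ideal.pow_le_pow_right ?_ h2
    nlinarith
  · intro h
    -- predicate on sub-ideals
    have key : ∀ J : Ideal A', J.FG → J ≤ I' → ∃ k : ℕ, ∀ x ∈ J ^ k, φ x ∈ I ^ (k + 1) := by
      intro J hJ
      refine Submodule.fg_induction (R := A') (M := A')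
        (motive := fun (J : Ideal A') _ => J ≤ I' → ∃ k : ℕ, ∀ x ∈ J ^ k, φ x ∈ I ^ (k + 1))
        ?_ ?_ J hJ
      · intro a ha
        have haI : a ∈ I' := ha (Submodule.mem_span_singleton_self a)
        obtain ⟨k, hk1, hk⟩ := h 1 le_rfl a (by simpa using haI)
        refine ⟨k, ?_⟩
        intro x hx
        change x ∈ (Ideal.span {a}) ^ k at hx
        rw [Ideal.span_singleton_pow, Ideal.mem_span_singleton] at hx
        obtain ⟨c, rfl⟩ := hx
        rw [map_mul, map_pow]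
        rw [one_mul] at hk
        exact Ideal.mul_mem_right _ _ hk
      · intro J₁ J₂ _ _ h₁ h₂ hsup
        have hJ₁ : J₁ ≤ I' := le_sup_left.trans hsup
        have hJ₂ : J₂ ≤ I' := le_sup_right.trans hsup
        obtain ⟨k₁, hk₁⟩ := h₁ hJ₁
        obtain ⟨k₂, hk₂⟩ := h₂ hJ₂
        refine ⟨k₁ + k₂, ?_⟩
        have hcomap : (J₁ ⊔ J₂) ^ (k₁ + k₂) ≤ (I ^ (k₁ + k₂ + 1)).comap φ := by
          rw [← Ideal.add_eq_sup, add_pow, Ideal.sum_eq_sup]
          apply Finset.sup_le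
          intro i hi
          rw [Finset.mem_range] at hi
          refine Ideal.mul_le_left.trans ?_
          rw [Ideal.mul_le]
          intro r hr s hs
          rw [Ideal.mem_comap, map_mul]
          by_cases hn : k₁ ≤ i
          · have h1 := map_pow_mem_succ φ hle hJ₁ k₁ hk₁ i hn hr
            have h2 := map_pow_mem φ hle hJ₂ _ hs
            have : k₁ + k₂ + 1 = (i + 1) + (k₁ + k₂ - i) := by omega
            rw [this, pow_add]
            exact Ideal.mul_mem_mul h1 h2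
          · have h1 := map_pow_mem φ hle hJ₁ _ hr
            have h2 := map_pow_mem_succ φ hle hJ₂ k₂ hk₂ (k₁ + k₂ - i) (by omega) hs
            have : k₁ + k₂ + 1 = i + (k₁ + k₂ - i + 1) := by omega
            rw [this, pow_add]
            exact Ideal.mul_mem_mul h1 h2
        intro x hx
        exact hcomap hx
    obtain ⟨k, hk⟩ := key I' hI' le_rfl
    refine ⟨k, ?_⟩
    rw [Ideal.map_le_iff_le_comap]
    intro x hx
    exact hk x hx

end Groth.Agent.S18390
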