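import Mathlib
import Groth.Statements.S18391
-- import your own Groth.Agent.* helpers here

set_option autoImplicit false
universe u
open LVCorr

namespace Groth.Agent.S18391

open IsLocalRing

lemma maxIdeal_principal (A : Type*) [CommRing A] [IsDomain A] [IsNoetherianRing A] [IsIntegrallyClosed A]
    (P : Ideal A) [P.IsPrime] (hP : P.height ≤ 1) :
    (maximalIdeal (Localization.AtPrime P)).IsPrincipal ∧
      (∀ I : Ideal (Localization.AtPrime P), I ≠ ⊥ → ∃ n : ℕ, I = maximalIdeal (Localization.AtPrime P) ^ n) := by
  have : IsDomain (Localization.AtPrime P) :=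
    IsLocalization.isDomain_localization P.primeCompl_le_nonZeroDivisors
  have : IsNoetherianRing (Localization.AtPrime P) :=
    IsLocalization.isNoetherianRing P.primeCompl _ inferInstance
  have : IsIntegrallyClosed (Localization.AtPrime P) :=
    isIntegrallyClosed_of_isLocalization _ P.primeCompl P.primeCompl_le_nonZeroDivisors
  have hm : (maximalIdeal (Localization.AtPrime P)).height ≤ 1 := by
    have h1 := IsLocalRing.maximalIdeal_height_eq_ringKrullDim (R := Localization.AtPrime P)
    have h2 := IsLocalization.AtPrime.ringKrullDim_eq_height P (Localization.AtPrime P)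
    rw [h2] at h1
    have : (maximalIdeal (Localization.AtPrime P)).height = P.height := by exact_mod_cast h1
    rw [this]; exact hP
  have key : IsIntegrallyClosed (Localization.AtPrime P) ∧
      ∀ Q : Ideal (Localization.AtPrime P), Q ≠ ⊥ → Q.IsPrime → Q = maximalIdeal _ := by
    refine ⟨inferInstance, ?_⟩
    intro Q hQ hQp
    by_contra hne
    have hlt : Q < maximalIdeal _ := lt_of_le_of_ne (le_maximalIdeal hQp.ne_top) hne
    have h1 := Ideal.height_strict_mono_of_isPrime_of_isPrime hlt
    have h2 : Q.height = 0 := by
      have : Q.height < 1 := lt_of_lt_of_le h1 hm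
      exact Order.lt_one_iff.mp this
    exact hQ (Ideal.height_eq_zero_iff_eq_bot.mp h2)
  exact ⟨((tfae_of_isNoetherianRing_of_isLocalRing_of_isDomain (Localization.AtPrime P)).out 3 4).mp key,
    ((tfae_of_isNoetherianRing_of_isLocalRing_of_isDomain (Localization.AtPrime P)).out 3 6).mp key⟩

theorem result (A : Type u) [CommRing A] [IsDomain A]
    [IsNoetherianRing A] [IsIntegrallyClosed A] (z : A) (hz : (Ideal.span {z}).radical.IsPrime) :
    ∃ (w t : A) (r : ℕ), w ∉ (Ideal.span {z}).radical ∧
      Ideal.span {algebraMap A (Localization.Away w) z} =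
        Ideal.span {algebraMap A (Localization.Away w) t ^ r} ∧
      (Ideal.span {algebraMap A (Localization.Away w) t}).IsPrime := by
  by_cases hz0 : z = 0
  · subst hz0
    refine ⟨1, 0, 1, ?_, ?_, ?_⟩
    · exact fun h => hz.ne_top ((Ideal.eq_top_iff_one _).mpr h)
    · simp
    · simp only [map_zero]
      rw [Ideal.span_singleton_eq_bot.mpr rfl]
      have : IsDomain (Localization.Away (1 : A)) :=
        IsLocalization.isDomain_localization (powers_le_nonZeroDivisors_of_noZeroDivisors one_ne_zero)
      exact Ideal.isPrime_bot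
  set P := (Ideal.span {z}).radical with hPdef
  have hPprime : P.IsPrime := hz
  have hzP : z ∈ P := Ideal.le_radical (Ideal.mem_span_singleton_self z)
  -- P is minimal over (z), so has height ≤ 1
  have hmin : P ∈ (Ideal.span {z}).minimalPrimes := by
    refine ⟨⟨hz, Ideal.le_radical⟩, ?_⟩
    rintro Q ⟨hQ, hzQ⟩ _
    exact hQ.radical_le_iff.mpr hzQ
  have hP1 : P.height ≤ 1 := Ideal.height_le_one_of_isPrincipal_of_mem_minimalPrimes _ _ hmin
  obtain ⟨hprin, hpow⟩ := maxIdeal_principal A P hP1
  have hdom : IsDomain (Localization.AtPrime P) :=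
    IsLocalization.isDomain_localization P.primeCompl_le_nonZeroDivisors
  have hinj : Function.Injective (algebraMap A (Localization.AtPrime P)) :=
    IsLocalization.injective _ P.primeCompl_le_nonZeroDivisors
  -- generator of the maximal ideal coming from A
  obtain ⟨τ, hτ⟩ := hprin.principal
  obtain ⟨t, s₀, rfl⟩ := IsLocalization.exists_mk'_eq P.primeCompl τ
  have hm : maximalIdeal (Localization.AtPrime P) =
      Ideal.span {algebraMap A (Localization.AtPrime P) t} := by
    rw [hτ]
    change Ideal.span _ = Ideal.span _
    rw [Ideal.span_singleton_eq_span_singleton]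
    have hu : IsUnit (algebraMap A (Localization.AtPrime P) s₀) := IsLocalization.map_units _ s₀
    refine ⟨hu.unit, ?_⟩
    simp [IsLocalization.mk'_spec]
  have htP : t ∈ P := by
    rw [← IsLocalization.AtPrime.to_map_mem_maximal_iff (Localization.AtPrime P) P t, hm]
    exact Ideal.mem_span_singleton_self _
  -- local fact
  have LF : ∀ p ∈ P, ∃ s : A, s ∉ P ∧ ∃ b : A, s * p = b * t := by
    intro p hp
    have h1 : algebraMap A (Localization.AtPrime P) p ∈ maximalIdeal (Localization.AtPrime P) :=
      (IsLocalization.AtPrime.to_map_mem_maximal_iff (Localization.AtPrime P) P p).mpr hp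
    rw [hm, Ideal.mem_span_singleton'] at h1
    obtain ⟨β, hβ⟩ := h1
    obtain ⟨b, s, rfl⟩ := IsLocalization.exists_mk'_eq P.primeCompl β
    refine ⟨s, s.2, b, ?_⟩
    apply hinj
    rw [map_mul, map_mul, ← hβ, ← IsLocalization.mk'_spec (Localization.AtPrime P) b s]
    ring
  -- factorisation of z
  have hzne : Ideal.span {algebraMap A (Localization.AtPrime P) z} ≠ ⊥ := by
    rw [Ne, Ideal.span_singleton_eq_bot]
    intro h
    exact hz0 (hinj (by rw [h, map_zero]))
  obtain ⟨r, hr⟩ := hpow _ hzne
  rw [hm, Ideal.span_singleton_pow, Ideal.span_singleton_eq_span_singleton] at hr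
  obtain ⟨u, hu⟩ := hr
  obtain ⟨a, s, has⟩ := IsLocalization.exists_mk'_eq P.primeCompl (u : Localization.AtPrime P)
  have haP : a ∉ P := by
    have : IsUnit (IsLocalization.mk' (Localization.AtPrime P) a s) := by rw [has]; exact u.isUnit
    exact (IsLocalization.AtPrime.isUnit_mk'_iff (Localization.AtPrime P) P a s).mp this
  have hzat : z * a = t ^ r * s := by
    apply hinj
    rw [map_mul, map_mul, map_pow, ← hu, ← has,
      ← IsLocalization.mk'_spec (Localization.AtPrime P) a s]
    ring
  -- finite generation of P
  obtain ⟨G, hG⟩ := (isNoetherianRing_iff_ideal_fg A).mp inferInstance P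
  have hw0 : ∀ G : Finset A, (∀ g ∈ G, g ∈ P) → ∃ w0 : A, w0 ∉ P ∧ ∀ g ∈ G, ∃ b : A, w0 * g = b * t := by
    classical
    intro G
    induction G using Finset.induction_on with
    | empty => exact fun _ => ⟨1, fun h => hPprime.ne_top ((Ideal.eq_top_iff_one _).mpr h), by simp⟩
    | insert g G hg ih =>
      intro hGP
      obtain ⟨w0, hw0, hw0G⟩ := ih (fun g' hg' => hGP g' (Finset.mem_insert_of_mem hg'))
      obtain ⟨s', hs', b', hb'⟩ := LF g (hGP g (Finset.mem_insert_self _ _))
      refine ⟨s' * w0, fun h => (hPprime.mem_or_mem h).elim hs' hw0, ?_⟩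
      intro g' hg'
      rcases Finset.mem_insert.mp hg' with rfl | hg'
      · exact ⟨w0 * b', by rw [mul_assoc, mul_comm w0 g', ← mul_assoc, hb']; ring⟩
      · obtain ⟨b, hb⟩ := hw0G g' hg'
        exact ⟨s' * b, by rw [mul_assoc, hb]; ring⟩
  obtain ⟨w0, hw0P, hw0G⟩ := hw0 G (fun g hg => by rw [← hG]; exact Ideal.subset_span hg)
  have hw0all : ∀ p ∈ P, w0 * p ∈ Ideal.span {t} := by
    intro p hp
    rw [← hG] at hp
    induction hp using Submodule.span_induction with
    | mem g hg =>
      obtain ⟨b, hb⟩ := hw0G g hg
      rw [hb]; exact Ideal.mul_mem_left _ _ (Ideal.mem_span_singleton_self t)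
    | zero => simp
    | add x y _ _ hx hy => rw [mul_add]; exact Ideal.add_mem _ hx hy
    | smul c x _ hx =>
      rw [smul_eq_mul, mul_left_comm]; exact Ideal.mul_mem_left _ _ hx
  -- the element w
  refine ⟨a * s * w0, t, r, ?_, ?_, ?_⟩
  · intro h
    rcases hPprime.mem_or_mem h with h | h
    · rcases hPprime.mem_or_mem h with h | h
      · exact haP h
      · exact s.2 h
    · exact hw0P h
  · set w := a * s * w0 with hw
    have hwu : IsUnit (algebraMap A (Localization.Away w) w) :=
      IsLocalization.Away.algebraMap_isUnit w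
    rw [hw, map_mul, map_mul] at hwu
    have hau : IsUnit (algebraMap A (Localization.Away w) a) :=
      isUnit_of_mul_isUnit_left (isUnit_of_mul_isUnit_left hwu)
    have hsu : IsUnit (algebraMap A (Localization.Away w) (s : A)) :=
      isUnit_of_mul_isUnit_right (isUnit_of_mul_isUnit_left hwu)
    have e := congrArg (algebraMap A (Localization.Away w)) hzat
    rw [map_mul, map_mul, map_pow] at e
    apply le_antisymm
    · rw [Ideal.span_singleton_le_span_singleton]
      rw [← hau.dvd_mul_right, e]
      exact Dvd.intro _ rfl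
    · rw [Ideal.span_singleton_le_span_singleton]
      rw [← hsu.dvd_mul_right, ← e]
      exact Dvd.intro _ rfl
  · set w := a * s * w0 with hw
    have hwu : IsUnit (algebraMap A (Localization.Away w) w) :=
      IsLocalization.Away.algebraMap_isUnit w
    rw [hw, map_mul] at hwu
    have hw0u : IsUnit (algebraMap A (Localization.Away w) w0) :=
      isUnit_of_mul_isUnit_right hwu
    have heq : Ideal.span {algebraMap A (Localization.Away w) t} =
        Ideal.map (algebraMap A (Localization.Away w)) P := by
      apply le_antisymm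
      · rw [Ideal.span_singleton_le_iff_mem]
        exact Ideal.mem_map_of_mem _ htP
      · rw [Ideal.map_le_iff_le_comap]
        intro p hp
        rw [Ideal.mem_comap]
        have h1 := hw0all p hp
        rw [Ideal.mem_span_singleton'] at h1
        obtain ⟨c, hc⟩ := h1
        have h2 := congrArg (algebraMap A (Localization.Away w)) hc
        rw [map_mul, map_mul] at h2
        rw [← Ideal.unit_mul_mem_iff_mem _ hw0u, ← h2]
        exact Ideal.mul_mem_left _ _ (Ideal.mem_span_singleton_self _)
    rw [heq]
    apply IsLocalization.isPrime_of_isPrime_disjoint (Submonoid.powers w) _ P hPprime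
    rw [Set.disjoint_left]
    rintro x ⟨n, rfl⟩ hx
    have : w ∈ P := hPprime.mem_of_pow_mem n hx
    rw [hw] at this
    rcases hPprime.mem_or_mem this with h | h
    · rcases hPprime.mem_or_mem h with h | h
      · exact haP h
      · exact s.2 h
    · exact hw0P h

end Groth.Agent.S18391
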