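import Mathlib
import Groth.Statements.S18392
import Groth.Agent.S18391
-- import your own Groth.Agent.* helpers here

set_option autoImplicit false
universe u
open LVCorr

namespace Groth.Agent.S18392

open IsLocalRing

theorem result (A : Type u) [CommRing A]
    [IsDomain A] [IsNoetherianRing A] [IsIntegrallyClosed A] (z : A)
    (hz : (Ideal.span {z}).radical.IsPrime) (V : Set (PrimeSpectrum A)) (hV : IsOpen V)
    (hVz : V ⊆ (PrimeSpectrum.basicOpen z : Set (PrimeSpectrum A))) (hne : V.Nonempty) :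
    ∃ x : A, x ∉ (Ideal.span {z}).radical ∧
      ((PrimeSpectrum.basicOpen (x * z) : TopologicalSpace.Opens (PrimeSpectrum A)) :
        Set (PrimeSpectrum A)) ⊆ V := by
  obtain ⟨𝔭, h𝔭⟩ := hne
  -- a basic open inside V
  obtain ⟨_, ⟨f, rfl⟩, h𝔭f, hfV⟩ :=
    PrimeSpectrum.isTopologicalBasis_basic_opens.exists_subset_of_mem_open h𝔭 hV
  have hfz : PrimeSpectrum.basicOpen f ≤ PrimeSpectrum.basicOpen z := fun q hq => hVz (hfV hq)
  set P := (Ideal.span {z}).radical with hPdef
  have hPprime : P.IsPrime := hz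
  have hfP : f ∈ P := (PrimeSpectrum.basicOpen_le_basicOpen_iff f z).mp hfz
  have hzP : z ∈ P := Ideal.le_radical (Ideal.mem_span_singleton_self z)
  have hf0 : f ≠ 0 := by
    rintro rfl
    exact h𝔭f (zero_mem _)
  have hz0 : z ≠ 0 := by
    rintro rfl
    exact (hVz h𝔭) (zero_mem _)
  have hmin : P ∈ (Ideal.span {z}).minimalPrimes := by
    refine ⟨⟨hz, Ideal.le_radical⟩, ?_⟩
    rintro Q ⟨hQ, hzQ⟩ _
    exact hQ.radical_le_iff.mpr hzQ
  have hP1 : P.height ≤ 1 := Ideal.height_le_one_of_isPrincipal_of_mem_minimalPrimes _ _ hmin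
  obtain ⟨-, hpow⟩ := Groth.Agent.S18391.maxIdeal_principal A P hP1
  have hdom : IsDomain (Localization.AtPrime P) :=
    IsLocalization.isDomain_localization P.primeCompl_le_nonZeroDivisors
  have hinj : Function.Injective (algebraMap A (Localization.AtPrime P)) :=
    IsLocalization.injective _ P.primeCompl_le_nonZeroDivisors
  have hne' : ∀ g : A, g ≠ 0 → Ideal.span {algebraMap A (Localization.AtPrime P) g} ≠ ⊥ := by
    intro g hg
    rw [Ne, Ideal.span_singleton_eq_bot]
    intro h
    exact hg (hinj (by rw [h, map_zero]))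
  obtain ⟨μ, hμ⟩ := hpow _ (hne' f hf0)
  obtain ⟨r, hr⟩ := hpow _ (hne' z hz0)
  have hr1 : r ≠ 0 := by
    rintro rfl
    rw [pow_zero, Ideal.one_eq_top, Ideal.span_singleton_eq_top] at hr
    have : algebraMap A (Localization.AtPrime P) z ∈ maximalIdeal (Localization.AtPrime P) :=
      (IsLocalization.AtPrime.to_map_mem_maximal_iff (Localization.AtPrime P) P z).mpr hzP
    exact this hr
  have hassoc : Ideal.span {algebraMap A (Localization.AtPrime P) f ^ r} =
      Ideal.span {algebraMap A (Localization.AtPrime P) z ^ μ} := by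
    rw [← Ideal.span_singleton_pow, ← Ideal.span_singleton_pow, hμ, hr, ← pow_mul, ← pow_mul, mul_comm]
  rw [Ideal.span_singleton_eq_span_singleton] at hassoc
  obtain ⟨u, hu⟩ := hassoc
  obtain ⟨a, s, has⟩ := IsLocalization.exists_mk'_eq P.primeCompl (u : Localization.AtPrime P)
  have hfa : f ^ r * a = z ^ μ * s := by
    apply hinj
    rw [map_mul, map_mul, map_pow, map_pow, ← hu, ← has,
      ← IsLocalization.mk'_spec (Localization.AtPrime P) a s]
    ring
  refine ⟨s, s.2, ?_⟩
  intro q hq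
  apply hfV
  rw [SetLike.mem_coe, PrimeSpectrum.mem_basicOpen] at hq ⊢
  intro hfq
  apply hq
  have h1 : z ^ μ * s ∈ q.asIdeal := by
    rw [← hfa]
    exact Ideal.mul_mem_right _ _ (Ideal.pow_mem_of_mem _ hfq r (Nat.pos_of_ne_zero hr1))
  rcases q.isPrime.mem_or_mem h1 with h | h
  · exact Ideal.mul_mem_left _ _ (q.isPrime.mem_of_pow_mem μ h)
  · exact Ideal.mul_mem_right _ _ h

end Groth.Agent.S18392
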