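import Mathlib
import Groth.Statements.S18393
-- import your own Groth.Agent.* helpers here

set_option autoImplicit false
universe u v
open LVCorr

namespace Groth.Agent.S18393

theorem result {C : Type u} {X : Type v}
    [TopologicalSpace C] [TopologicalSpace X] [TopologicalSpace.NoetherianSpace C]
    (c₁ c₂ : C → X) (hc₁ : Continuous c₁) (hc₂ : Continuous c₂) (Z : Set X) (hZ : IsClosed Z) :
    (∀ x ∈ Z, ∃ U : Set X, IsOpen U ∧ x ∈ U ∧
        ∀ y : C, c₂ y ∈ Z → c₂ y ∈ U → c₁ y ∈ U → c₁ y ∈ Z) ↔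
      ∀ T : Set C, T ⊆ closure (c₂ ⁻¹' Z \ c₁ ⁻¹' Z) → IsIrreducible T →
        closure (c₁ '' T) ∩ closure (c₂ '' T) = ∅ := by
  classical
  constructor
  · intro hLI T hTB hT
    rw [Set.eq_empty_iff_forall_notMem]
    rintro x ⟨hx1, hx2⟩
    -- c₂ maps B into Z
    have hB2 : ∀ y ∈ closure (c₂ ⁻¹' Z \ c₁ ⁻¹' Z), c₂ y ∈ Z := by
      intro y hy
      have h1 : closure (c₂ ⁻¹' Z \ c₁ ⁻¹' Z) ⊆ c₂ ⁻¹' Z :=
        closure_minimal Set.sdiff_subset (hZ.preimage hc₂)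
      exact h1 hy
    have hxZ : x ∈ Z := by
      have : closure (c₂ '' T) ⊆ Z := by
        apply closure_minimal _ hZ
        rintro _ ⟨y, hy, rfl⟩
        exact hB2 y (hTB hy)
      exact this hx2
    obtain ⟨U, hUo, hxU, hU⟩ := hLI x hxZ
    -- U meets c₁ '' T and c₂ '' T
    obtain ⟨_, hy1U, ⟨y1, hy1T, rfl⟩⟩ := mem_closure_iff.mp hx1 U hUo hxU
    obtain ⟨_, hy2U, ⟨y2, hy2T, rfl⟩⟩ := mem_closure_iff.mp hx2 U hUo hxU
    obtain ⟨y, hyT, hy1, hy2⟩ := hT.2 (c₁ ⁻¹' U) (c₂ ⁻¹' U) (hUo.preimage hc₁) (hUo.preimage hc₂)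
      ⟨y1, hy1T, hy1U⟩ ⟨y2, hy2T, hy2U⟩
    -- the open set c₁⁻¹U ∩ c₂⁻¹U meets the closure of E, hence E
    have hyB := hTB hyT
    obtain ⟨e, ⟨he1, he2⟩, heE⟩ := mem_closure_iff.mp hyB (c₁ ⁻¹' U ∩ c₂ ⁻¹' U)
      ((hUo.preimage hc₁).inter (hUo.preimage hc₂)) ⟨hy1, hy2⟩
    exact heE.2 (hU e heE.1 he2 he1)
  · intro hD x hxZ
    obtain ⟨S, hSf, hSc, hSi, hSU⟩ :=
      TopologicalSpace.NoetherianSpace.exists_finite_set_isClosed_irreducible
        (isClosed_closure (s := c₂ ⁻¹' Z \ c₁ ⁻¹' Z))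
    let Uf : Set C → Set X := fun t =>
      if x ∈ closure (c₁ '' t) then (closure (c₂ '' t))ᶜ else (closure (c₁ '' t))ᶜ
    refine ⟨⋂ t ∈ S, Uf t, ?_, ?_, ?_⟩
    · apply hSf.isOpen_biInter
      intro t _
      simp only [Uf]
      split_ifs
      · exact isClosed_closure.isOpen_compl
      · exact isClosed_closure.isOpen_compl
    · simp only [Set.mem_iInter]
      intro t ht
      have htB : t ⊆ closure (c₂ ⁻¹' Z \ c₁ ⁻¹' Z) := by
        rw [hSU]; exact Set.subset_sUnion_of_mem ht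
      have hd := hD t htB (hSi t ht)
      simp only [Uf]
      split_ifs with h
      · intro h2
        have : x ∈ closure (c₁ '' t) ∩ closure (c₂ '' t) := ⟨h, h2⟩
        rw [hd] at this
        exact this
      · exact h
    · intro y hy2Z hy2U hy1U
      by_contra hy1Z
      have hyE : y ∈ closure (c₂ ⁻¹' Z \ c₁ ⁻¹' Z) := subset_closure ⟨hy2Z, hy1Z⟩
      rw [hSU] at hyE
      obtain ⟨t, htS, hyt⟩ := hyE
      simp only [Set.mem_iInter] at hy2U hy1U
      have h1 := hy1U t htS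
      have h2 := hy2U t htS
      simp only [Uf] at h1 h2
      split_ifs at h1 h2 with h
      · exact h2 (subset_closure ⟨y, hyt, rfl⟩)
      · exact h1 (subset_closure ⟨y, hyt, rfl⟩)

end Groth.Agent.S18393
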