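import Groth.Statements.S18399
import Mathlib
import Groth.Agent.Lib.helper29.RegQuot
import Groth.Agent.Lib.helper29.CoinvIdeal

set_option autoImplicit false
universe u
open CAlg

namespace Groth.Agent.S18399

/-- Let k be a field and A a regular local k-algebra with residue field k (the structure map from k onto
the residue field of A is surjective), let σ be a k-algebra endomorphism of A of finite order n with
n invertible in k, and let I_σ be the ideal of A generated by the elements f - σ f. Then I_σ is
generated by finitely many elements of the maximal ideal whose classes in the cotangent space m/m^2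
are linearly independent over the residue field. (Such elements are part of a regular system of
parameters of A, hence part of a regular sequence, which is the printed conclusion; the generators
with independent classes are what the argument produces.) -/
theorem result {k : Type u} [Field k] {A : Type u} [CommRing A] [Algebra k A] [IsRegularLocalRing A] (hres : Function.Surjective ⇑(algebraMap k (IsLocalRing.ResidueField A))) (σ : A →ₐ[k] A) (n : ℕ) (hσ : ∀ a : A, (⇑σ)^[n] a = a) (hn : (n : k) ≠ 0) : ∃ (m : ℕ) (f : Fin m → ↥(IsLocalRing.maximalIdeal A)), Ideal.span (Set.range fun i : Fin m => (f i : A)) = Ideal.span (Set.range fun a : A => a - σ a) ∧ LinearIndependent (IsLocalRing.ResidueField A) (fun i : Fin m => (IsLocalRing.maximalIdeal A).toCotangent (f i)) := by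
  classical
  have hn0 : n ≠ 0 := by
    rintro rfl
    simp at hn
  set 𝔪 := IsLocalRing.maximalIdeal A with h𝔪
  let τ : Fin n → A →ₐ[k] A := fun i => σ ^ (i : ℕ)
  have hτ : ∀ (i : Fin n) (a : A), τ i a = (⇑σ)^[(i : ℕ)] a := by
    intro i a
    simp only [τ, AlgHom.coe_pow]
  have hiter_mem : ∀ (j : ℕ), j ≤ n → ∀ x ∈ 𝔪, (⇑σ)^[j] x ∈ 𝔪 := by
    intro j hj x hx
    rw [h𝔪, IsLocalRing.mem_maximalIdeal, mem_nonunits_iff] at hx ⊢
    intro hu
    apply hx
    have h1 : (⇑σ)^[n - j] ((⇑σ)^[j] x) = x := by
      rw [← Function.iterate_add_apply, Nat.sub_add_cancel hj, hσ]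
    rw [← h1, ← AlgHom.coe_pow]
    exact hu.map _
  have hτm : ∀ i, ∀ x ∈ 𝔪, τ i x ∈ 𝔪 := by
    intro i x hx
    rw [hτ]
    exact hiter_mem _ i.2.le x hx
  set S : Set A := Set.range fun a : A => a - σ a with hSdef
  have hS : ∀ s ∈ S, ∑ i, τ i s = 0 := by
    rintro _ ⟨a, rfl⟩
    simp_rw [hτ]
    rw [Fin.sum_univ_eq_sum_range (fun j => (⇑σ)^[j] (a - σ a)) n]
    have : ∀ j, (⇑σ)^[j] (a - σ a) = (⇑σ)^[j] a - (⇑σ)^[j + 1] a := by
      intro j
      rw [Function.iterate_succ_apply, ← AlgHom.coe_pow, map_sub]
    simp_rw [this]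
    rw [Finset.sum_range_sub', hσ]
    simp
  have hJiter : ∀ (j : ℕ) (y : A), y - (⇑σ)^[j] y ∈ Ideal.span S := by
    intro j
    induction j with
    | zero => intro y; simp
    | succ j ih =>
      intro y
      have : y - (⇑σ)^[j + 1] y = (y - (⇑σ)^[j] y) + ((⇑σ)^[j] y - σ ((⇑σ)^[j] y)) := by
        rw [Function.iterate_succ_apply']; ring
      rw [this]
      exact Ideal.add_mem _ (ih y) (Ideal.subset_span ⟨_, rfl⟩)
  have hJ : ∀ i y, y - τ i y ∈ Ideal.span S := by
    intro i y
    rw [hτ]
    exact hJiter _ y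
  have hJm : Ideal.span S ≤ 𝔪 := by
    rw [Ideal.span_le]
    rintro _ ⟨a, rfl⟩
    obtain ⟨c, hc⟩ := Groth.Agent.H29.CoinvIdeal.decomp hres a
    have : a - σ a = (a - algebraMap k A c) - σ (a - algebraMap k A c) := by
      rw [map_sub, AlgHom.commutes]; ring
    change a - σ a ∈ 𝔪
    rw [this]
    have h1 := hiter_mem 1 (Nat.one_le_iff_ne_zero.mpr hn0) _ hc
    rw [Function.iterate_one] at h1
    exact Ideal.sub_mem _ hc h1
  have hcard : (Fintype.card (Fin n) : k) ≠ 0 := by rwa [Fintype.card_fin]
  have key := Groth.Agent.H29.CoinvIdeal.inf_sq_le τ S hres hcard hτm hS hJ hJm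
  exact Groth.Agent.H29.RegQuot.exists_gens_linearIndependent (Ideal.span S) hJm key

end Groth.Agent.S18399
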