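import Groth.Statements.S1840
import Mathlib
import Groth.Agent.S1838

set_option autoImplicit false
universe u v
open CycDet

namespace Groth.Agent.S1840aux

open CycDet IsLocalRing

variable {R : Type u} [CommRing R] [IsLocalRing R] {M : Type v} [AddCommGroup M] [Module R M]
  [Module (ResidueField R) M] [IsScalarTower R (ResidueField R) M]

lemma smul_eq_residue_smul (r : R) (m : M) : r • m = residue R r • m := by
  have : residue R r = algebraMap R (ResidueField R) r := rfl
  rw [this, algebraMap_smul]

/-- wedge vanishes when an entry is in the (R-)span of earlier ones. -/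
lemma wedge_eq_zero {l : ℕ} (v : Fin l → M) (a : Fin l) (h : v a ∈ spanBefore R M v a) :
    exteriorPower.ιMulti (ResidueField R) l v = 0 := by
  apply AlternatingMap.map_linearDependent
  intro hli
  have h1 : v a ∉ Submodule.span (ResidueField R) (v '' {j : Fin l | (j : ℕ) < a}) :=
    hli.notMem_span_image (by simp)
  apply h1
  have h2 : spanBefore R M v a ≤
      (Submodule.span (ResidueField R) (v '' {j : Fin l | (j : ℕ) < a})).restrictScalars R :=
    Submodule.span_le_restrictScalars R (ResidueField R) _
  exact h2 h

lemma isAdmissible_all {l : ℕ} (v : Fin l → M) : IsAdmissible R M v := by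
  intro i r hr
  rw [smul_eq_residue_smul]
  have : residue R r = 0 := (IsLocalRing.residue_eq_zero_iff r).mpr hr
  rw [this, zero_smul]
  exact Submodule.zero_mem _

variable (R M) in
noncomputable def φ0 (l : ℕ) : Free R M l →ₗ[ResidueField R] (⋀[ResidueField R]^l M) :=
  Finsupp.linearCombination (ResidueField R)
    (fun e : Adm R M l => exteriorPower.ιMulti (ResidueField R) l e.1)

lemma φ0_sym {l : ℕ} (e : Adm R M l) :
    φ0 R M l (sym R M e) = exteriorPower.ιMulti (ResidueField R) l e.1 := by
  unfold φ0 sym
  rw [Finsupp.linearCombination_single, one_smul]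

lemma φ0_rel {l : ℕ} : Submodule.span (ResidueField R) (relSet R M l) ≤ LinearMap.ker (φ0 R M l) := by
  classical
  rw [Submodule.span_le]
  rintro x ((⟨e, a, ha, rfl⟩ | ⟨e, e', a, c, h1, h2, rfl⟩) | ⟨e, e', a, b, hab, h1, h2, rfl⟩)
  · rw [SetLike.mem_coe, LinearMap.mem_ker, φ0_sym]
    exact wedge_eq_zero e.1 a ha
  · rw [SetLike.mem_coe, LinearMap.mem_ker, map_sub, map_smul, φ0_sym, φ0_sym, sub_eq_zero]
    -- e = update e' a (c • e' a + s)
    set s := e.1 a - (c : R) • e'.1 a with hs
    have he : e.1 = Function.update e'.1 a ((c : R) • e'.1 a + s) := by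
      funext j
      by_cases hj : j = a
      · rw [hj, Function.update_self, hs]; abel
      · rw [Function.update_of_ne hj]; exact h1 j hj
    have hsb : spanBefore R M e.1 a = spanBefore R M (Function.update e'.1 a s) a := by
      apply Groth.Agent.S1838aux.spanBefore_congr
      intro j hj
      have hja : j ≠ a := by intro h; rw [h] at hj; exact lt_irrefl _ hj
      rw [Function.update_of_ne hja]
      exact h1 j hja
    have hz : exteriorPower.ιMulti (ResidueField R) l (Function.update e'.1 a s) = 0 := by
      apply wedge_eq_zero _ a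
      rw [Function.update_self, ← hsb]
      exact h2
    rw [he, AlternatingMap.map_update_add, hz, add_zero, smul_eq_residue_smul,
      AlternatingMap.map_update_smul, Function.update_eq_self]
  · rw [SetLike.mem_coe, LinearMap.mem_ker, map_add, φ0_sym, φ0_sym, h2]
    have hne : a ≠ b := by
      intro h
      rw [h] at hab
      omega
    rw [AlternatingMap.map_swap _ _ hne]
    abel

variable (R M) in
noncomputable def φ (l : ℕ) : DetOfLen R M l →ₗ[ResidueField R] (⋀[ResidueField R]^l M) :=
  Submodule.liftQ _ (φ0 R M l) φ0_rel

lemma φ_mk {l : ℕ} (e : Adm R M l) :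
    φ R M l (Submodule.Quotient.mk (sym R M e)) =
      exteriorPower.ιMulti (ResidueField R) l e.1 := by
  unfold φ
  rw [Submodule.liftQ_apply, φ0_sym]

lemma φ_surjective (l : ℕ) : Function.Surjective (φ R M l) := by
  rw [← LinearMap.range_eq_top, eq_top_iff, ← exteriorPower.ιMulti_span, Submodule.span_le]
  rintro _ ⟨v, rfl⟩
  exact ⟨Submodule.Quotient.mk (sym R M ⟨v, isAdmissible_all v⟩), φ_mk _⟩

theorem main (R : Type u) [CommRing R] [IsLocalRing R] (M : Type v) [AddCommGroup M] [Module R M]
    [Module (ResidueField R) M] [IsScalarTower R (ResidueField R) M]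
    [Module.Finite (ResidueField R) M] :
    ∃ Φ : Det R M ≃ₗ[ResidueField R] (⋀[ResidueField R]^((Module.length R M).toNat) M),
      ∀ e : Adm R M (Module.length R M).toNat, Φ (symbol R M e) =
        exteriorPower.ιMulti (ResidueField R) ((Module.length R M).toNat) e.1 := by
  have hlen : Module.length R M = (Module.finrank (ResidueField R) M : ℕ∞) := by
    rw [Module.length_eq_of_surjective (S := R) (R := ResidueField R) (M := M)
      IsLocalRing.residue_surjective, Module.length_eq_finrank]
  have hfl : IsFiniteLength R M := by
    rw [← Module.length_ne_top_iff, hlen]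
    exact ENat.coe_ne_top _
  have hl : (Module.length R M).toNat = Module.finrank (ResidueField R) M := by
    rw [hlen]; rfl
  have hrank := Groth.Agent.S1838.result R M hfl
  have hsurj := φ_surjective (R := R) (M := M) (Module.length R M).toNat
  have hfr : Module.finrank (ResidueField R)
      (⋀[ResidueField R]^((Module.length R M).toNat) M) = 1 := by
    rw [exteriorPower.finrank_eq, hl, Nat.choose_self]
  haveI : Nontrivial (⋀[ResidueField R]^((Module.length R M).toNat) M) :=
    Module.nontrivial_of_finrank_pos (R := ResidueField R) (by rw [hfr]; exact Nat.one_pos)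
  have hinj : Function.Injective (φ R M (Module.length R M).toNat) := by
    rw [← LinearMap.ker_eq_bot, LinearMap.ker_eq_bot']
    intro v hv
    obtain ⟨v0, hv0⟩ := rank_le_one_iff.mp hrank
    obtain ⟨r, rfl⟩ := hv0 v
    by_cases hr : r = 0
    · rw [hr, zero_smul]
    · exfalso
      rw [map_smul, smul_eq_zero] at hv
      have hφv0 : φ R M (Module.length R M).toNat v0 = 0 := hv.resolve_left hr
      obtain ⟨w, hw⟩ := exists_ne (0 : ⋀[ResidueField R]^((Module.length R M).toNat) M)
      obtain ⟨v', rfl⟩ := hsurj w
      obtain ⟨r', rfl⟩ := hv0 v'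
      apply hw
      rw [map_smul, hφv0, smul_zero]
  refine ⟨LinearEquiv.ofBijective (φ R M (Module.length R M).toNat) ⟨hinj, hsurj⟩, ?_⟩
  intro e
  rw [LinearEquiv.ofBijective_apply]
  exact φ_mk e

end Groth.Agent.S1840aux

namespace Groth.Agent.S1840

/-- Let M be a finite-dimensional vector space over the residue field κ of a local ring R, viewed as an
R-module. There is a κ-linear isomorphism from det_κ(M) to the top exterior power of M sending the
symbol of an admissible tuple (e₁, …, e_l) to e₁ ∧ … ∧ e_l. -/
theorem result (R : Type u) [CommRing R] [IsLocalRing R] (M : Type v) [AddCommGroup M] [Module R M] [Module (IsLocalRing.ResidueField R) M] [IsScalarTower R (IsLocalRing.ResidueField R) M] [Module.Finite (IsLocalRing.ResidueField R) M] : ∃ Φ : CycDet.Det R M ≃ₗ[IsLocalRing.ResidueField R] (⋀[IsLocalRing.ResidueField R]^((Module.length R M).toNat) M), ∀ e : CycDet.Adm R M (Module.length R M).toNat, Φ (CycDet.symbol R M e) = exteriorPower.ιMulti (IsLocalRing.ResidueField R) ((Module.length R M).toNat) e.1 := by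
  exact Groth.Agent.S1840aux.main R M

end Groth.Agent.S1840
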