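import Groth.Statements.S18402
import Mathlib
-- import your own Groth.Agent.* helpers here

set_option autoImplicit false
universe u
open Pi1

namespace Groth.Agent.S18402


open AlgebraicGeometry CategoryTheory CategoryTheory.Limits

namespace H5S18402

/-- topological core -/
theorem top_core {P Z : Type*} [TopologicalSpace P] [TopologicalSpace Z] (p : P → Z)
    (h1 : GeneralizingMap p)
    (hne : ∀ z, (p ⁻¹' {z}).Nonempty)
    (Θ : Set Z) (hΘfin : Θ.Finite)
    (hΘconn : ∀ θ ∈ Θ, IsPreconnected (p ⁻¹' {θ}))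
    (hΘ : ∀ z, ∃ θ ∈ Θ, θ ⤳ z) [PreconnectedSpace Z] : PreconnectedSpace P := by
  rw [preconnectedSpace_iff_clopen]
  intro U hU
  -- closures of the fibres over Θ
  have hC : ∀ θ ∈ Θ, closure (p ⁻¹' {θ}) ⊆ U ∨ closure (p ⁻¹' {θ}) ∩ U = ∅ := by
    intro θ hθ
    by_cases hne' : (closure (p ⁻¹' {θ}) ∩ U).Nonempty
    · exact Or.inl ((hΘconn θ hθ).closure.subset_isClopen hU hne')
    · exact Or.inr (Set.not_nonempty_iff_eq_empty.1 hne')
  have hcover : ∀ w : P, ∃ θ ∈ Θ, w ∈ closure (p ⁻¹' {θ}) := by
    intro w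
    obtain ⟨θ, hθ, hs⟩ := hΘ (p w)
    obtain ⟨w', hw', hpw'⟩ := h1 hs
    refine ⟨θ, hθ, ?_⟩
    have : w ∈ closure {w'} := specializes_iff_mem_closure.1 hw'
    exact closure_mono (Set.singleton_subset_iff.2 (by simpa using hpw')) this
  let A : Set Z := ⋃ θ ∈ {θ ∈ Θ | closure (p ⁻¹' {θ}) ⊆ U}, closure {θ}
  let B : Set Z := ⋃ θ ∈ {θ ∈ Θ | ¬ closure (p ⁻¹' {θ}) ⊆ U}, closure {θ}
  have hAcl : IsClosed A :=
    (hΘfin.subset (fun θ h => h.1)).isClosed_biUnion (fun θ _ => isClosed_closure)
  have hBcl : IsClosed B :=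
    (hΘfin.subset (fun θ h => h.1)).isClosed_biUnion (fun θ _ => isClosed_closure)
  have hAB : A ∪ B = Set.univ := by
    apply Set.eq_univ_of_forall
    intro z
    obtain ⟨θ, hθ, hs⟩ := hΘ z
    have hz : z ∈ closure {θ} := specializes_iff_mem_closure.1 hs
    by_cases hc : closure (p ⁻¹' {θ}) ⊆ U
    · exact Or.inl (Set.mem_biUnion (show θ ∈ {θ ∈ Θ | closure (p ⁻¹' {θ}) ⊆ U} from ⟨hθ, hc⟩) hz)
    · exact Or.inr (Set.mem_biUnion (show θ ∈ {θ ∈ Θ | ¬ closure (p ⁻¹' {θ}) ⊆ U} from ⟨hθ, hc⟩) hz)
  have hdisj : Disjoint A B := by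
    rw [Set.disjoint_left]
    intro z hzA hzB
    simp only [A, B, Set.mem_iUnion, Set.mem_ofPred_eq] at hzA hzB
    obtain ⟨θi, ⟨hθi, hci⟩, hzi⟩ := hzA
    obtain ⟨θj, ⟨hθj, hcj⟩, hzj⟩ := hzB
    have hcj' : closure (p ⁻¹' {θj}) ∩ U = ∅ := (hC θj hθj).resolve_left hcj
    obtain ⟨w, hw⟩ := hne z
    have hw' : p w = z := hw
    obtain ⟨wi, hwi, hpwi⟩ := h1 (show θi ⤳ p w by rw [hw']; exact specializes_iff_mem_closure.2 hzi)
    obtain ⟨wj, hwj, hpwj⟩ := h1 (show θj ⤳ p w by rw [hw']; exact specializes_iff_mem_closure.2 hzj)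
    have hwiU : wi ∈ U := hci (subset_closure (by simpa using hpwi))
    have hwjU : wj ∉ U := by
      intro h
      have : wj ∈ closure (p ⁻¹' {θj}) ∩ U := ⟨subset_closure (by simpa using hpwj), h⟩
      rw [hcj'] at this
      exact this
    by_cases hwU : w ∈ U
    · exact hwjU (hU.isOpen.stableUnderGeneralization hwj hwU)
    · exact (hU.compl.isOpen.stableUnderGeneralization hwi hwU) hwiU
  have hAclopen : IsClopen A := by
    refine ⟨hAcl, ?_⟩
    have : A = Bᶜ := by
      ext z
      constructor
      · intro hz hzB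
        exact Set.disjoint_left.1 hdisj hz hzB
      · intro hz
        have : z ∈ A ∪ B := by rw [hAB]; trivial
        exact this.resolve_right hz
    rw [this]
    exact hBcl.isOpen_compl
  rcases (preconnectedSpace_iff_clopen.1 ‹PreconnectedSpace Z›) A hAclopen with hA | hA
  · left
    ext w
    simp only [Set.mem_empty_iff_false, iff_false]
    intro hwU
    obtain ⟨θ, hθ, hwθ⟩ := hcover w
    rcases hC θ hθ with hc | hc
    · have : θ ∈ A := Set.mem_biUnion (show θ ∈ {θ ∈ Θ | closure (p ⁻¹' {θ}) ⊆ U} from ⟨hθ, hc⟩)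
        (subset_closure rfl)
      rw [hA] at this
      exact this
    · have : w ∈ closure (p ⁻¹' {θ}) ∩ U := ⟨hwθ, hwU⟩
      rw [hc] at this
      exact this
  · right
    apply Set.eq_univ_of_forall
    intro w
    obtain ⟨θ, hθ, hwθ⟩ := hcover w
    by_cases hc : closure (p ⁻¹' {θ}) ⊆ U
    · exact hc hwθ
    · exfalso
      have hB : θ ∈ B := Set.mem_biUnion (show θ ∈ {θ ∈ Θ | ¬ closure (p ⁻¹' {θ}) ⊆ U} from ⟨hθ, hc⟩)
        (subset_closure rfl)
      have hAθ : θ ∈ A := by rw [hA]; trivial
      exact Set.disjoint_left.1 hdisj hAθ hB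


theorem main' {X W Z₀ : Scheme.{u}}
    [IrreducibleSpace X] (π : W ⟶ X) [Flat π] [GeometricallyIrreducible π]
    (f : Z₀ ⟶ X) [IsFinite f] [Etale f] [ConnectedSpace Z₀] :
    ConnectedSpace ↥(pullback f π) := by
  haveI : Flat f := inferInstance
  let p := pullback.fst f π
  haveI : Flat p := inferInstance
  haveI : GeometricallyIrreducible p := inferInstance
  have hirr : ∀ z : Z₀, IsIrreducible (p.base ⁻¹' {z}) := by
    intro z
    rw [← p.range_fiberι, ← Set.image_univ]
    exact (IrreducibleSpace.isIrreducible_univ _).image _ (p.fiberι _).continuous.continuousOn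
  have hgen : GeneralizingMap p.base := Flat.generalizingMap p
  have hgenZ : GeneralizingMap f.base := Flat.generalizingMap f
  haveI : PreconnectedSpace ↥(pullback f π) :=
    top_core p.base hgen (fun z => (hirr z).nonempty)
      (f.base ⁻¹' {genericPoint X}) (f.finite_preimage_singleton _)
      (fun θ _ => (hirr θ).isPreirreducible.isPreconnected)
      (fun z => by
        obtain ⟨θ, hθ, hθ'⟩ := hgenZ (genericPoint_specializes (f.base z))
        exact ⟨θ, hθ', hθ⟩)
  haveI : Nonempty ↥(pullback f π) := by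
    obtain ⟨z⟩ := (inferInstance : Nonempty Z₀)
    obtain ⟨w, -⟩ := (hirr z).nonempty
    exact ⟨w⟩
  exact ConnectedSpace.mk inferInstance

theorem main {X W : Scheme.{u}}
    [IrreducibleSpace X] (π : W ⟶ X) [Flat π] [GeometricallyIrreducible π]
    (Z : FEt.Cat X) [ConnectedSpace Z.left] :
    ConnectedSpace ↥(pullback Z.hom π) := by
  haveI : IsFinite Z.hom := Z.prop.1
  haveI : Etale Z.hom := Z.prop.2
  exact main' (Z₀ := Z.left) π Z.hom

end H5S18402

open AlgebraicGeometry CategoryTheory CategoryTheory.Limits in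
/-- Let X be an irreducible scheme and π : W ⟶ X a flat morphism whose fibre over every field-valued
point of X is irreducible (so every fibre is geometrically irreducible and π is surjective). Then
for every finite étale cover Z of X with Z connected, the base change of Z along π is connected.
Ranging over all finite étale covers of X, this says that the monodromy group of each cover (the
image of the fundamental group in the permutations of a geometric fibre) is unchanged by pullback
along π. The published statement asserts that equality of monodromy groups, for generically finite,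
generically étale covers between irreducible algebraic stacks. -/
theorem result {X W : Scheme.{u}}
    [IrreducibleSpace X] (π : W ⟶ X) [Flat π] [GeometricallyIrreducible π]
    (Z : FEt.Cat X) [ConnectedSpace Z.left] :
    ConnectedSpace ↥(pullback Z.hom π) := by
  exact H5S18402.main π Z

end Groth.Agent.S18402
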