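import Groth.Statements.S18404
import Mathlib

set_option autoImplicit false
universe u
open Cubic

namespace Groth.Agent.S18404

lemma eval_form (k : ℂ) (x : Fin 3 → ℂ) :
    MvPolynomial.eval x (HesseCubic.form k) =
      x 0 ^ 3 + x 1 ^ 3 + x 2 ^ 3 - 3 * k * (x 0 * x 1 * x 2) := by
  simp [HesseCubic.form]


open MvPolynomial in
/-- Let k ∈ ℂ with k³ ≠ 1 and let h = X₀³ + X₁³ + X₂³ − 3k·X₀X₁X₂ be the Hesse cubic. For a nonzero
vector v with h(v) = 0, the corresponding point is a flex of the plane curve of h — some line
through it meets the curve there with multiplicity three, i.e. there is a vector w linearly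
independent from v with h(v + t·w) = t³·h(w) for every t — exactly when v is a scalar multiple of
one of the nine vectors (0, 1, −γ), (−γ, 0, 1), (1, −γ, 0) with γ³ = 1. -/
theorem result (k : ℂ) (hk : k ^ 3 ≠ 1) (v : Fin 3 → ℂ) (hv : v ≠ 0)
    (hCv : eval v (HesseCubic.form k) = 0) :
    (∃ w : Fin 3 → ℂ, LinearIndependent ℂ ![v, w] ∧
        ∀ t : ℂ, eval (v + t • w) (HesseCubic.form k) = t ^ 3 * eval w (HesseCubic.form k)) ↔
      ∃ γ c : ℂ, γ ^ 3 = 1 ∧ (v = c • ![0, 1, -γ] ∨ v = c • ![-γ, 0, 1] ∨ v = c • ![1, -γ, 0]) := by
  obtain ⟨a, b, c, rfl⟩ : ∃ a b c : ℂ, v = ![a, b, c] :=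
    ⟨v 0, v 1, v 2, by funext i; fin_cases i <;> rfl⟩
  simp only [eval_form] at hCv ⊢
  simp only [Matrix.cons_val_zero, Matrix.cons_val_one, Matrix.cons_val_two,
    Matrix.head_cons, Matrix.tail_cons] at hCv
  have hv0 : a ≠ 0 ∨ b ≠ 0 ∨ c ≠ 0 := by
    by_contra hcon
    push Not at hcon
    apply hv
    rw [hcon.1, hcon.2.1, hcon.2.2]
    funext i; fin_cases i <;> rfl
  constructor
  · rintro ⟨w, hind, hw⟩
    obtain ⟨w0, w1, w2, rfl⟩ : ∃ w0 w1 w2 : ℂ, w = ![w0, w1, w2] :=
      ⟨w 0, w 1, w 2, by funext i; fin_cases i <;> rfl⟩
    simp only [Pi.add_apply, Pi.smul_apply, smul_eq_mul, Matrix.cons_val_zero, Matrix.cons_val_one,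
      Matrix.cons_val_two, Matrix.head_cons, Matrix.tail_cons] at hw
    -- the coefficients of t and t^2
    set A := (3 * a ^ 2 - 3 * k * b * c) * w0 + (3 * b ^ 2 - 3 * k * a * c) * w1 +
      (3 * c ^ 2 - 3 * k * a * b) * w2 with hA
    set B := 3 * (a * w0 ^ 2 + b * w1 ^ 2 + c * w2 ^ 2) -
      3 * k * (a * w1 * w2 + b * w0 * w2 + c * w0 * w1) with hB
    have hexp : ∀ t : ℂ, (a + t * w0) ^ 3 + (b + t * w1) ^ 3 + (c + t * w2) ^ 3 -
        3 * k * ((a + t * w0) * (b + t * w1) * (c + t * w2)) =
        (a ^ 3 + b ^ 3 + c ^ 3 - 3 * k * (a * b * c)) + t * A + t ^ 2 * B +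
          t ^ 3 * (w0 ^ 3 + w1 ^ 3 + w2 ^ 3 - 3 * k * (w0 * w1 * w2)) := by
      intro t
      rw [hA, hB]
      ring
    have h1 := hw 1
    have h2 := hw (-1)
    rw [hexp, hCv] at h1 h2
    have hA0 : A = 0 := by linear_combination (1 / 2 : ℂ) * h1 - (1 / 2 : ℂ) * h2
    have hB0 : B = 0 := by linear_combination (1 / 2 : ℂ) * h1 + (1 / 2 : ℂ) * h2
    -- minors
    have hminor : ¬ (b * w2 - c * w1 = 0 ∧ c * w0 - a * w2 = 0 ∧ a * w1 - b * w0 = 0) := by
      rintro ⟨m0, m1, m2⟩
      rw [LinearIndependent.pair_iff] at hind
      have hcomb0 : w0 • ![a, b, c] + (-a) • ![w0, w1, w2] = 0 := by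
        funext i
        fin_cases i
        · simp; ring
        · simp; linear_combination -m2
        · simp; linear_combination m1
      have hcomb1 : w1 • ![a, b, c] + (-b) • ![w0, w1, w2] = 0 := by
        funext i
        fin_cases i
        · simp; linear_combination m2
        · simp; ring
        · simp; linear_combination -m0
      have hcomb2 : w2 • ![a, b, c] + (-c) • ![w0, w1, w2] = 0 := by
        funext i
        fin_cases i
        · simp; linear_combination -m1
        · simp; linear_combination m0
        · simp; ring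
      rcases hv0 with h | h | h
      · exact h (neg_eq_zero.mp (hind _ _ hcomb0).2)
      · exact h (neg_eq_zero.mp (hind _ _ hcomb1).2)
      · exact h (neg_eq_zero.mp (hind _ _ hcomb2).2)
    -- the Hessian determinant
    set detH := 216 * (1 - k ^ 3) * (a * b * c) -
      54 * k ^ 2 * (a ^ 3 + b ^ 3 + c ^ 3 - 3 * k * (a * b * c)) with hdetH
    have key0 : (b * w2 - c * w1) ^ 2 * detH =
        6 * (a ^ 3 + b ^ 3 + c ^ 3 - 3 * k * (a * b * c)) *
          (2 * B * (6 * a) - (6 * a * w0 - 3 * k * (c * w1 + b * w2)) ^ 2) +
        2 * A * (-2 * A * (6 * a) +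
          2 * (6 * a * w0 - 3 * k * (c * w1 + b * w2)) * (6 * a ^ 2 - 6 * k * b * c)) -
        2 * B * (6 * a ^ 2 - 6 * k * b * c) ^ 2 := by
      rw [hdetH, hA, hB]; ring
    have key1 : (c * w0 - a * w2) ^ 2 * detH =
        6 * (a ^ 3 + b ^ 3 + c ^ 3 - 3 * k * (a * b * c)) *
          (2 * B * (6 * b) - (6 * b * w1 - 3 * k * (c * w0 + a * w2)) ^ 2) +
        2 * A * (-2 * A * (6 * b) +
          2 * (6 * b * w1 - 3 * k * (c * w0 + a * w2)) * (6 * b ^ 2 - 6 * k * a * c)) -
        2 * B * (6 * b ^ 2 - 6 * k * a * c) ^ 2 := by
      rw [hdetH, hA, hB]; ring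
    have key2 : (a * w1 - b * w0) ^ 2 * detH =
        6 * (a ^ 3 + b ^ 3 + c ^ 3 - 3 * k * (a * b * c)) *
          (2 * B * (6 * c) - (6 * c * w2 - 3 * k * (b * w0 + a * w1)) ^ 2) +
        2 * A * (-2 * A * (6 * c) +
          2 * (6 * c * w2 - 3 * k * (b * w0 + a * w1)) * (6 * c ^ 2 - 6 * k * a * b)) -
        2 * B * (6 * c ^ 2 - 6 * k * a * b) ^ 2 := by
      rw [hdetH, hA, hB]; ring
    rw [hCv, hA0, hB0] at key0 key1 key2
    have hdet0 : detH = 0 := by
      by_contra hne
      apply hminor
      refine ⟨?_, ?_, ?_⟩
      · have : (b * w2 - c * w1) ^ 2 * detH = 0 := by rw [key0]; ring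
        exact pow_eq_zero_iff (two_ne_zero) |>.mp ((mul_eq_zero.mp this).resolve_right hne)
      · have : (c * w0 - a * w2) ^ 2 * detH = 0 := by rw [key1]; ring
        exact pow_eq_zero_iff (two_ne_zero) |>.mp ((mul_eq_zero.mp this).resolve_right hne)
      · have : (a * w1 - b * w0) ^ 2 * detH = 0 := by rw [key2]; ring
        exact pow_eq_zero_iff (two_ne_zero) |>.mp ((mul_eq_zero.mp this).resolve_right hne)
    have habc : a * b * c = 0 := by
      rw [hdetH, hCv] at hdet0
      have h3 : (1 - k ^ 3) ≠ 0 := fun h => hk (by linear_combination -h)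
      have h4 : 216 * (1 - k ^ 3) * (a * b * c) = 0 := by linear_combination hdet0
      rcases mul_eq_zero.mp h4 with h5 | h5
      · rcases mul_eq_zero.mp h5 with h6 | h6
        · norm_num at h6
        · exact absurd h6 h3
      · exact h5
    -- conclude
    rcases mul_eq_zero.mp habc with hab | hc0
    · rcases mul_eq_zero.mp hab with ha0 | hb0
      · -- a = 0
        subst ha0
        have hb0 : b ≠ 0 := by
          intro hb0
          subst hb0
          have hc3 : c ^ 3 = 0 := by linear_combination hCv
          have hc0 : c = 0 := pow_eq_zero_iff (three_ne_zero) |>.mp hc3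
          rcases hv0 with h | h | h
          · exact h rfl
          · exact h rfl
          · exact h hc0
        refine ⟨-c / b, b, ?_, Or.inl ?_⟩
        · field_simp
          linear_combination -hCv
        · funext i
          fin_cases i
          · simp
          · simp
          · simp; field_simp
      · -- b = 0
        subst hb0
        have hc0 : c ≠ 0 := by
          intro hc0
          subst hc0
          have ha3 : a ^ 3 = 0 := by linear_combination hCv
          have ha0 : a = 0 := pow_eq_zero_iff (three_ne_zero) |>.mp ha3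
          rcases hv0 with h | h | h
          · exact h ha0
          · exact h rfl
          · exact h rfl
        refine ⟨-a / c, c, ?_, Or.inr (Or.inl ?_)⟩
        · field_simp
          linear_combination -hCv
        · funext i
          fin_cases i
          · simp; field_simp
          · simp
          · simp
    · -- c = 0
      subst hc0
      have ha0 : a ≠ 0 := by
        intro ha0
        subst ha0
        have hb3 : b ^ 3 = 0 := by linear_combination hCv
        have hb0 : b = 0 := pow_eq_zero_iff (three_ne_zero) |>.mp hb3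
        rcases hv0 with h | h | h
        · exact h rfl
        · exact h hb0
        · exact h rfl
      refine ⟨-b / a, a, ?_, Or.inr (Or.inr ?_)⟩
      · field_simp
        linear_combination -hCv
      · funext i
        fin_cases i
        · simp
        · simp; field_simp
        · simp
  · rintro ⟨γ, d, hγ, hcase⟩
    have hd0 : d ≠ 0 := by
      intro hd0
      apply hv
      rcases hcase with h | h | h <;> rw [h, hd0, zero_smul]
    rcases hcase with h | h | h
    · have ha : a = 0 := by have := congrFun h 0; simpa using this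
      have hb : b = d := by have := congrFun h 1; simpa using this
      have hc : c = -(d * γ) := by have := congrFun h 2; simpa using this
      subst ha hb
      refine ⟨![1, -(k * γ), 0], ?_, ?_⟩
      · rw [LinearIndependent.pair_iff]
        intro s t hst
        have e0 := congrFun hst 0
        have e1 := congrFun hst 1
        simp only [Pi.add_apply, Pi.smul_apply, smul_eq_mul, Matrix.cons_val_zero,
          Matrix.cons_val_one, Matrix.cons_val_two, Matrix.head_cons, Matrix.tail_cons,
          Pi.zero_apply] at e0 e1
        have ht : t = 0 := by linear_combination e0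
        rw [ht] at e1
        have hs : s * b = 0 := by linear_combination e1
        exact ⟨(mul_eq_zero.mp hs).resolve_right hd0, ht⟩
      · intro t
        simp only [Pi.add_apply, Pi.smul_apply, smul_eq_mul, Matrix.cons_val_zero,
          Matrix.cons_val_one, Matrix.cons_val_two, Matrix.head_cons,
          Matrix.tail_cons]
        rw [hc]
        linear_combination (-(b ^ 3) - k ^ 3 * t ^ 3 + t ^ 3 * k ^ 3) * hγ
    · have ha : a = -(d * γ) := by have := congrFun h 0; simpa using this
      have hb : b = 0 := by have := congrFun h 1; simpa using this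
      have hc : c = d := by have := congrFun h 2; simpa using this
      subst hb hc
      refine ⟨![0, 1, -(k * γ)], ?_, ?_⟩
      · rw [LinearIndependent.pair_iff]
        intro s t hst
        have e1 := congrFun hst 1
        have e2 := congrFun hst 2
        simp only [Pi.add_apply, Pi.smul_apply, smul_eq_mul, Matrix.cons_val_zero,
          Matrix.cons_val_one, Matrix.cons_val_two, Matrix.head_cons, Matrix.tail_cons,
          Pi.zero_apply] at e1 e2
        have ht : t = 0 := by linear_combination e1
        rw [ht] at e2
        have hs : s * c = 0 := by linear_combination e2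
        exact ⟨(mul_eq_zero.mp hs).resolve_right hd0, ht⟩
      · intro t
        simp only [Pi.add_apply, Pi.smul_apply, smul_eq_mul, Matrix.cons_val_zero,
          Matrix.cons_val_one, Matrix.cons_val_two, Matrix.head_cons,
          Matrix.tail_cons]
        rw [ha]
        linear_combination (-(c ^ 3)) * hγ
    · have ha : a = d := by have := congrFun h 0; simpa using this
      have hb : b = -(d * γ) := by have := congrFun h 1; simpa using this
      have hc : c = 0 := by have := congrFun h 2; simpa using this
      subst ha hc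
      refine ⟨![-(k * γ), 0, 1], ?_, ?_⟩
      · rw [LinearIndependent.pair_iff]
        intro s t hst
        have e0 := congrFun hst 0
        have e2 := congrFun hst 2
        simp only [Pi.add_apply, Pi.smul_apply, smul_eq_mul, Matrix.cons_val_zero,
          Matrix.cons_val_one, Matrix.cons_val_two, Matrix.head_cons, Matrix.tail_cons,
          Pi.zero_apply] at e0 e2
        have ht : t = 0 := by linear_combination e2
        rw [ht] at e0
        have hs : s * a = 0 := by linear_combination e0
        exact ⟨(mul_eq_zero.mp hs).resolve_right hd0, ht⟩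
      · intro t
        simp only [Pi.add_apply, Pi.smul_apply, smul_eq_mul, Matrix.cons_val_zero,
          Matrix.cons_val_one, Matrix.cons_val_two, Matrix.head_cons,
          Matrix.tail_cons]
        rw [hb]
        linear_combination (-(a ^ 3)) * hγ
end Groth.Agent.S18404
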