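import Groth.Statements.S18405
import Mathlib
import Groth.Agent.S18404
import Groth.Agent.Lib.helper27.CubicIface
import Groth.Agent.Lib.helper27.PlaneCubicD
import Groth.Agent.Lib.helper27.PlaneCubicE

set_option autoImplicit false
universe u
open Cubic

namespace Groth.Agent.S18405

open MvPolynomial in
/-- Let f be a nonzero homogeneous cubic in three variables over ℂ whose plane curve is smooth (at every
nonzero zero of f some partial derivative is nonzero), and let A be an invertible matrix whose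
linear substitution X_i ↦ Σ_j A_ij X_j multiplies f by a constant, so that v ↦ A·v is a projective
automorphism of the curve. If A·v is proportional to v for every flex v of the curve (every nonzero
zero v of f through which some line meets the curve with multiplicity three: there is w linearly
independent from v with f(v + t·w) = t³·f(w) for all t), then A is a scalar matrix: the projective
automorphisms of a smooth plane cubic act faithfully on its flexes. -/
theorem result (f : MvPolynomial (Fin 3) ℂ) (hf : f.IsHomogeneous 3)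
    (hf0 : f ≠ 0) (hsm : ∀ v : Fin 3 → ℂ, v ≠ 0 → eval v f = 0 → ∃ i : Fin 3, eval v (pderiv i f) ≠ 0)
    (A : Matrix (Fin 3) (Fin 3) ℂ) (hA : IsUnit A.det)
    (hAf : ∃ c : ℂ, aeval (fun i : Fin 3 => ∑ j : Fin 3, C (A i j) * X j) f = C c * f)
    (hfix : ∀ v : Fin 3 → ℂ, v ≠ 0 → eval v f = 0 →
      (∃ w : Fin 3 → ℂ, LinearIndependent ℂ ![v, w] ∧ ∀ t : ℂ, eval (v + t • w) f = t ^ 3 * eval w f) →
      ∃ d : ℂ, A.mulVec v = d • v) :
    ∃ c : ℂ, A = c • (1 : Matrix (Fin 3) (Fin 3) ℂ) := by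
  classical
  obtain ⟨P, κ, c₀, hP, hκ, hc₀, hfin⟩ := Groth.Agent.Lib.helper27.PlaneCubicD.exists_hesse hf hsm
  have hform : ∀ y : Fin 3 → ℂ, eval y (HesseCubic.form κ) =
      Groth.Agent.Lib.helper27.PlaneCubicB.hesseFn κ y := by
    intro y; simp [HesseCubic.form, Groth.Agent.Lib.helper27.PlaneCubicB.hesseFn]
  have hPP : ∀ y : Fin 3 → ℂ, P⁻¹.mulVec (P.mulVec y) = y := by
    intro y
    rw [Matrix.mulVec_mulVec, Matrix.nonsing_inv_mul _ hP, Matrix.one_mulVec]
  have hPinj : ∀ y : Fin 3 → ℂ, P.mulVec y = 0 → y = 0 := by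
    intro y hy
    have := hPP y
    rw [hy, Matrix.mulVec_zero] at this
    exact this.symm
  -- every one of the nine points is fixed by P⁻¹ A P
  have hnine : ∀ q : Fin 3 → ℂ, Groth.Agent.Lib.helper27.PlaneCubicE.Nine q →
      ∃ d : ℂ, (P⁻¹ * A * P).mulVec q = d • q := by
    intro q hq
    have hq0 : q ≠ 0 := by
      obtain ⟨γ, hγ, h | h | h⟩ := hq <;> rw [h] <;>
        exact Groth.Agent.Lib.helper27.PlaneCubicB.vec3_ne_zero_of (by simp)
    have hCq : eval q (HesseCubic.form κ) = 0 := by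
      rw [hform]
      obtain ⟨γ, hγ, h | h | h⟩ := hq <;> rw [h] <;>
        simp [Groth.Agent.Lib.helper27.PlaneCubicB.hesseFn] <;> linear_combination -hγ
    have hflexq := (Groth.Agent.S18404.result κ hκ q hq0 hCq).mpr (by
      obtain ⟨γ, hγ, h | h | h⟩ := hq
      · exact ⟨γ, 1, hγ, Or.inl (by rw [one_smul]; exact h)⟩
      · exact ⟨γ, 1, hγ, Or.inr (Or.inl (by rw [one_smul]; exact h))⟩
      · exact ⟨γ, 1, hγ, Or.inr (Or.inr (by rw [one_smul]; exact h))⟩)
    obtain ⟨w₀, hind, hw₀⟩ := hflexq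
    have hv0 : P.mulVec q ≠ 0 := fun h => hq0 (hPinj q h)
    have hfv : eval (P.mulVec q) f = 0 := by
      rw [hfin, ← hform, hCq, mul_zero]
    obtain ⟨d, hd⟩ := hfix (P.mulVec q) hv0 hfv ⟨P.mulVec w₀, by
      rw [LinearIndependent.pair_iff] at hind ⊢
      intro a b hab
      apply hind
      apply hPinj
      rw [Matrix.mulVec_add, Matrix.mulVec_smul, Matrix.mulVec_smul]
      exact hab, by
      intro t
      have h1 := hfin (q + t • w₀)
      rw [Matrix.mulVec_add, Matrix.mulVec_smul] at h1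
      rw [h1, hfin, ← hform, ← hform, hw₀ t]
      ring⟩
    refine ⟨d, ?_⟩
    rw [← Matrix.mulVec_mulVec, ← Matrix.mulVec_mulVec, hd, Matrix.mulVec_smul, hPP]
  obtain ⟨ω, hω⟩ : ∃ ω : ℂ, ω ^ 2 + ω + 1 = 0 := by
    obtain ⟨s, hs⟩ := IsAlgClosed.exists_pow_nat_eq (-3 : ℂ) (n := 2) (by norm_num)
    refine ⟨(-1 + s) / 2, ?_⟩
    field_simp
    linear_combination hs
  have hsc := Groth.Agent.Lib.helper27.PlaneCubicE.scalar_of_nine ω hω (P⁻¹ * A * P) hnine
  refine ⟨(P⁻¹ * A * P) 0 0, ?_⟩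
  have h1 : A = P * (P⁻¹ * A * P) * P⁻¹ := by
    rw [mul_assoc, mul_assoc, Matrix.mul_nonsing_inv _ hP, mul_one, ← mul_assoc,
      Matrix.mul_nonsing_inv _ hP, one_mul]
  rw [h1]
  conv_lhs => rw [hsc]
  rw [Matrix.mul_smul, Matrix.smul_mul, mul_one, Matrix.mul_nonsing_inv _ hP]
  congr 1
  rw [← h1]

end Groth.Agent.S18405
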