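import Groth.Statements.S18406
import Mathlib
import Groth.Agent.S18404
import Groth.Agent.Lib.helper27.CubicIface
import Groth.Agent.Lib.helper27.PlaneCubicD
import Groth.Agent.Lib.helper27.PlaneCubicE

set_option autoImplicit false
universe u
open Cubic

namespace Groth.Agent.S18406

open MvPolynomial in
/-- Let f be a nonzero homogeneous cubic in three variables over ℂ whose plane curve is smooth (at every
nonzero zero of f some partial derivative is nonzero), and let v and v′ be flexes of the curve, that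
is nonzero zeros of f through each of which some line meets the curve with multiplicity three (there
is a vector w linearly independent from the point with f(point + t·w) = t³·f(w) for every t). Then a
projective automorphism of the curve carries the point of v to the point of v′: there are an
invertible matrix A whose substitution X_i ↦ Σ_j A_ij X_j multiplies f by a constant c, and a
constant d with A·v = d·v′. (The published statement gives more: a subgroup of the projective
automorphism group isomorphic to C₃ × C₃ acts simply transitively on the nine flexes; only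
transitivity is stated here.) -/
theorem result (f : MvPolynomial (Fin 3) ℂ) (hf : f.IsHomogeneous 3)
    (hf0 : f ≠ 0) (hsm : ∀ v : Fin 3 → ℂ, v ≠ 0 → eval v f = 0 → ∃ i : Fin 3, eval v (pderiv i f) ≠ 0)
    (v v' : Fin 3 → ℂ) (hv : v ≠ 0) (hv' : v' ≠ 0) (hfv : eval v f = 0) (hfv' : eval v' f = 0)
    (hflex : (∃ w : Fin 3 → ℂ, LinearIndependent ℂ ![v, w] ∧ ∀ t : ℂ, eval (v + t • w) f = t ^ 3 * eval w f))
    (hflex' : (∃ w : Fin 3 → ℂ, LinearIndependent ℂ ![v', w] ∧ ∀ t : ℂ, eval (v' + t • w) f = t ^ 3 * eval w f)) :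
    ∃ (A : Matrix (Fin 3) (Fin 3) ℂ) (c d : ℂ), IsUnit A.det ∧
      aeval (fun i : Fin 3 => ∑ j : Fin 3, C (A i j) * X j) f = C c * f ∧ A.mulVec v = d • v' := by
  classical
  open Groth.Agent.Lib.helper27.PlaneCubicB Groth.Agent.Lib.helper27.PlaneCubicE in
  obtain ⟨P, κ, c₀, hP, hκ, hc₀, hfin⟩ := Groth.Agent.Lib.helper27.PlaneCubicD.exists_hesse hf hsm
  have hform : ∀ y : Fin 3 → ℂ, eval y (HesseCubic.form κ) =
      Groth.Agent.Lib.helper27.PlaneCubicB.hesseFn κ y := by
    intro y; simp [HesseCubic.form, Groth.Agent.Lib.helper27.PlaneCubicB.hesseFn]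
  have hPP : ∀ y : Fin 3 → ℂ, P.mulVec (P⁻¹.mulVec y) = y := by
    intro y
    rw [Matrix.mulVec_mulVec, Matrix.mul_nonsing_inv _ hP, Matrix.one_mulVec]
  have key : ∀ v : Fin 3 → ℂ, v ≠ 0 → eval v f = 0 →
      (∃ w : Fin 3 → ℂ, LinearIndependent ℂ ![v, w] ∧
        ∀ t : ℂ, eval (v + t • w) f = t ^ 3 * eval w f) →
      ∃ (a : ℂ) (q : Fin 3 → ℂ), a ≠ 0 ∧ Groth.Agent.Lib.helper27.PlaneCubicE.Nine q ∧
        P⁻¹.mulVec v = a • q := by
    rintro v hv hfv ⟨w, hind, hw⟩
    set u := P⁻¹.mulVec v with hu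
    have hPu : P.mulVec u = v := hPP v
    have hu0 : u ≠ 0 := by
      intro h
      rw [h, Matrix.mulVec_zero] at hPu
      exact hv hPu.symm
    have hCu : eval u (HesseCubic.form κ) = 0 := by
      rw [hform]
      have := hfin u
      rw [hPu, hfv] at this
      exact (mul_eq_zero.mp this.symm).resolve_left hc₀
    have hflexu : ∃ w₀ : Fin 3 → ℂ, LinearIndependent ℂ ![u, w₀] ∧
        ∀ t : ℂ, eval (u + t • w₀) (HesseCubic.form κ) = t ^ 3 * eval w₀ (HesseCubic.form κ) := by
      refine ⟨P⁻¹.mulVec w, ?_, ?_⟩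
      · rw [LinearIndependent.pair_iff] at hind ⊢
        intro a b hab
        apply hind
        have := congrArg P.mulVec hab
        rw [Matrix.mulVec_add, Matrix.mulVec_smul, Matrix.mulVec_smul, hPu, hPP,
          Matrix.mulVec_zero] at this
        exact this
      · intro t
        rw [hform, hform]
        have h1 := hfin (u + t • P⁻¹.mulVec w)
        rw [Matrix.mulVec_add, Matrix.mulVec_smul, hPu, hPP, hw t] at h1
        have h2 := hfin (P⁻¹.mulVec w)
        rw [hPP] at h2
        apply mul_left_cancel₀ hc₀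
        rw [← h1, h2]; ring
    obtain ⟨γ, a, hγ, h⟩ := (Groth.Agent.S18404.result κ hκ u hu0 hCu).mp hflexu
    have ha : a ≠ 0 := by
      rintro rfl
      rcases h with h | h | h <;> (rw [zero_smul] at h; exact hu0 h)
    rcases h with h | h | h
    · exact ⟨a, _, ha, ⟨γ, hγ, Or.inl rfl⟩, h⟩
    · exact ⟨a, _, ha, ⟨γ, hγ, Or.inr (Or.inl rfl)⟩, h⟩
    · exact ⟨a, _, ha, ⟨γ, hγ, Or.inr (Or.inr rfl)⟩, h⟩
  obtain ⟨a, q, ha, hq, e⟩ := key v hv hfv hflex
  obtain ⟨a', q', ha', hq', e'⟩ := key v' hv' hfv' hflex'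
  obtain ⟨N, s, hN, eN⟩ := Groth.Agent.Lib.helper27.PlaneCubicE.nine_transitive κ hq hq'
  refine ⟨P * N * P⁻¹, 1, a * s * a'⁻¹, ?_, ?_, ?_⟩
  · rw [Matrix.det_mul, Matrix.det_mul]
    exact (hP.mul hN.isUnit_det).mul (Matrix.isUnit_nonsing_inv_det P hP)
  · apply MvPolynomial.funext
    intro x
    rw [Groth.Agent.Lib.helper27.CubicIface.eval_subst]
    simp only [map_one, one_mul]
    rw [← Matrix.mulVec_mulVec, ← Matrix.mulVec_mulVec, hfin, hN, ← hfin, hPP]
  · rw [← Matrix.mulVec_mulVec, ← Matrix.mulVec_mulVec, e, Matrix.mulVec_smul, eN,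
      Matrix.mulVec_smul, Matrix.mulVec_smul]
    have hq'v : P.mulVec q' = a'⁻¹ • v' := by
      have := congrArg P.mulVec e'
      rw [hPP, Matrix.mulVec_smul] at this
      rw [this, smul_smul, inv_mul_cancel₀ ha', one_smul]
    rw [hq'v, smul_smul, smul_smul]

end Groth.Agent.S18406
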