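import Groth.Statements.S18412
import Mathlib
import Groth.Agent.Lib.helper27.CubicIface
import Groth.Agent.Lib.helper27.PlaneCubicH

set_option autoImplicit false
universe u
open Cubic

namespace Groth.Agent.S18412

open MvPolynomial in
/-- For all k ∈ ℂ outside a finite set, the Hesse cubic h_k = X₀³ + X₁³ + X₂³ − 3k·X₀X₁X₂ has exactly 18
projective automorphisms; spelled without quotients as: the matrices A of determinant 1 whose
substitution X_i ↦ Σ_j A_ij X_j carries h_k to a constant multiple of h_k are exactly 54 in number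
(every projective class has three lifts of determinant one, so 54 = 3 · 18). As every smooth plane
cubic over ℂ is projectively equivalent to some h_k, this is the statement that the general smooth
plane cubic has a projective automorphism group of order 18. -/
theorem result :
    ∃ T : Finset ℂ, ∀ k : ℂ, k ∉ T →
      Nat.card {A : Matrix (Fin 3) (Fin 3) ℂ // A.det = 1 ∧
        ∃ c : ℂ, aeval (fun i : Fin 3 => ∑ j : Fin 3, C (A i j) * X j) (HesseCubic.form k) =
          C c * HesseCubic.form k} = 54 := by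
  classical
  obtain ⟨ω, hω⟩ : ∃ ω : ℂ, ω ^ 2 + ω + 1 = 0 := by
    obtain ⟨s, hs⟩ := IsAlgClosed.exists_pow_nat_eq (-3 : ℂ) (n := 2) (by norm_num)
    refine ⟨(-1 + s) / 2, ?_⟩
    field_simp
    linear_combination hs
  let N : Polynomial ℂ := 4 - Polynomial.X ^ 3
  let D : Polynomial ℂ := 3 * Polynomial.X ^ 2
  let p : Polynomial ℂ := Polynomial.X * N * (4 - 4 * Polynomial.X ^ 3) *
    (4 * D ^ 3 - N ^ 3 - 3 * Polynomial.X * N ^ 2 * D) * (N ^ 3 - D ^ 3)
  have hp : p ≠ 0 := by
    intro h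
    have := congrArg (Polynomial.eval 2) h
    norm_num [p, N, D] at this
  refine ⟨p.roots.toFinset, fun k hk => ?_⟩
  have hk' : p.eval k ≠ 0 := by
    intro h0
    apply hk
    rw [Multiset.mem_toFinset, Polynomial.mem_roots hp]
    exact h0
  simp only [p, N, D, Polynomial.eval_mul, Polynomial.eval_sub, Polynomial.eval_pow,
    Polynomial.eval_X, Polynomial.eval_ofNat] at hk'
  have f1 : k ≠ 0 := fun h => hk' (by rw [h]; ring)
  have f2 : 4 - k ^ 3 ≠ 0 := fun h => hk' (by rw [h]; ring)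
  have f3 : 4 - 4 * k ^ 3 ≠ 0 := fun h => hk' (by rw [h]; ring)
  have f4 : 4 * (3 * k ^ 2) ^ 3 - (4 - k ^ 3) ^ 3 - 3 * k * (4 - k ^ 3) ^ 2 * (3 * k ^ 2) ≠ 0 :=
    fun h => hk' (by rw [h]; ring)
  have f5 : (4 - k ^ 3) ^ 3 - (3 * k ^ 2) ^ 3 ≠ 0 := fun h => hk' (by rw [h]; ring)
  have hD : (3 : ℂ) * k ^ 2 ≠ 0 := mul_ne_zero (by norm_num) (pow_ne_zero 2 f1)
  have hgen : Groth.Agent.Lib.helper27.PlaneCubicH.Generic k := by
    obtain ⟨κ', hκ'⟩ : ∃ κ' : ℂ, κ' = Groth.Agent.Lib.helper27.PlaneCubicF.hk k := ⟨_, rfl⟩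
    have hN : κ' * (3 * k ^ 2) = 4 - k ^ 3 := by
      rw [hκ', Groth.Agent.Lib.helper27.PlaneCubicF.hk]; field_simp
    have hκ'0 : κ' ≠ 0 := by
      intro h; rw [h, zero_mul] at hN; exact f2 hN.symm
    have hD' : (3 : ℂ) * κ' ^ 2 ≠ 0 := mul_ne_zero (by norm_num) (pow_ne_zero 2 hκ'0)
    unfold Groth.Agent.Lib.helper27.PlaneCubicH.Generic
    rw [← hκ']
    refine ⟨f1, hκ'0, ?_, ?_, ?_⟩
    · intro h
      apply f3
      rw [h] at hN
      linear_combination -hN
    · intro h
      rw [Groth.Agent.Lib.helper27.PlaneCubicF.hk, div_eq_iff hD'] at h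
      apply f4
      rw [← hN]
      linear_combination (3 * k ^ 2) ^ 3 * h
    · intro h
      rw [Groth.Agent.Lib.helper27.PlaneCubicF.hk, div_eq_iff hD'] at h
      apply f5
      rw [← hN]
      linear_combination (-(3 * k ^ 2) ^ 3 / 4) * h
  rw [← Groth.Agent.Lib.helper27.PlaneCubicH.card_isAut ω hω k hgen]
  apply Nat.card_congr
  apply Equiv.subtypeEquivRight
  intro A
  have hform : ∀ y : Fin 3 → ℂ, eval y (HesseCubic.form k) =
      Groth.Agent.Lib.helper27.PlaneCubicB.hesseFn k y := by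
    intro y; simp [HesseCubic.form, Groth.Agent.Lib.helper27.PlaneCubicB.hesseFn]
  unfold Groth.Agent.Lib.helper27.PlaneCubicH.IsAut
  constructor
  · rintro ⟨hdet, c, hc⟩
    refine ⟨hdet, c, fun y => ?_⟩
    have := congrArg (eval y) hc
    rw [Groth.Agent.Lib.helper27.CubicIface.eval_subst, map_mul, eval_C, hform, hform] at this
    exact this
  · rintro ⟨hdet, c, hc⟩
    refine ⟨hdet, c, ?_⟩
    apply MvPolynomial.funext
    intro y
    rw [Groth.Agent.Lib.helper27.CubicIface.eval_subst, map_mul, eval_C, hform, hform]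
    exact hc y

end Groth.Agent.S18412
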