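import Groth.Statements.S18416
import Mathlib
import Groth.Agent.Lib.helper3.SmoothLift6
-- import your own Groth.Agent.* helpers here

set_option autoImplicit false
universe u v w
open CAlg

namespace Groth.Agent.S18416

/-- Let R → C and C → B be smooth ring homomorphisms, J an ideal of B and K the preimage of J in C, and
suppose that C surjects onto A = B/J (so that C/K = B/J = A). Then for every prime x of A there
exist f ∈ B whose image in A does not lie in x and an ideal J₀ of B_f contained in J B_f such that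
the composite C → B_f → B_f/J₀ is étale. -/
theorem result (R : Type u) (C : Type v) (B : Type w)
    [CommRing R] [CommRing C] [CommRing B] [Algebra R C] [Algebra C B] [Algebra R B] [IsScalarTower R C B]
    [Algebra.Smooth R C] [Algebra.Smooth C B] (J : Ideal B)
    (hsurj : Function.Surjective ((Ideal.Quotient.mk J).comp (algebraMap C B)))
    (x : PrimeSpectrum (B ⧸ J)) :
    ∃ f : B, Ideal.Quotient.mk J f ∉ x.asIdeal ∧
      ∃ J₀ : Ideal (Localization.Away f), J₀ ≤ J.map (algebraMap B (Localization.Away f)) ∧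
        ((Ideal.Quotient.mk J₀).comp ((algebraMap B (Localization.Away f)).comp (algebraMap C B))).Etale := by
  classical
  have h𝔮 : ∀ s : B, ∃ a : C, s - algebraMap C B a ∈ J := by
    intro s
    obtain ⟨a, ha⟩ := hsurj (Ideal.Quotient.mk J s)
    refine ⟨a, ?_⟩
    rw [← Ideal.Quotient.eq]
    exact ha.symm
  obtain ⟨𝔍, h𝔍J, f, hf, hE⟩ :=
    Groth.Agent.Lib.helper3.SmoothLift.exists_etale_slice' (A := C) (S := B) J h𝔮
  refine ⟨f, ?_, 𝔍.map (algebraMap B (Localization.Away f)), Ideal.map_mono h𝔍J, ?_⟩
  · have h1 : Ideal.Quotient.mk J f = 1 := by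
      rw [← sub_eq_zero, ← map_one (Ideal.Quotient.mk J), ← map_sub,
        Ideal.Quotient.eq_zero_iff_mem]
      exact hf
    rw [h1]
    exact fun h => x.isPrime.ne_top ((Ideal.eq_top_iff_one _).mpr h)
  · let J₀ := 𝔍.map (algebraMap B (Localization.Away f))
    have hloc : IsLocalization (Algebra.algebraMapSubmonoid (B ⧸ 𝔍) (Submonoid.powers f))
        (Localization.Away f ⧸ J₀) := inferInstance
    have hsub : Algebra.algebraMapSubmonoid (B ⧸ 𝔍) (Submonoid.powers f) =
        Submonoid.powers (Ideal.Quotient.mk 𝔍 f) := by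
      change Submonoid.map (algebraMap B (B ⧸ 𝔍)) (Submonoid.powers f) = _
      rw [Submonoid.map_powers]
      rfl
    rw [hsub] at hloc
    haveI : IsLocalization.Away (Ideal.Quotient.mk 𝔍 f) (Localization.Away f ⧸ J₀) := hloc
    let e : Localization.Away (Ideal.Quotient.mk 𝔍 f) ≃ₐ[B ⧸ 𝔍] (Localization.Away f ⧸ J₀) :=
      IsLocalization.algEquiv (Submonoid.powers (Ideal.Quotient.mk 𝔍 f)) _ _
    have hφ : (Ideal.Quotient.mk J₀).comp ((algebraMap B (Localization.Away f)).comp (algebraMap C B)) =
        algebraMap C (Localization.Away f ⧸ J₀) := RingHom.ext fun c => rfl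
    rw [hφ, RingHom.etale_algebraMap]
    let e' : Localization.Away (Ideal.Quotient.mk 𝔍 f) ≃ₐ[C] (Localization.Away f ⧸ J₀) :=
      AlgEquiv.ofRingEquiv (f := e.toRingEquiv) (fun c => by
        rw [IsScalarTower.algebraMap_apply C (B ⧸ 𝔍) (Localization.Away (Ideal.Quotient.mk 𝔍 f))]
        change e (algebraMap (B ⧸ 𝔍) _ (algebraMap C (B ⧸ 𝔍) c)) = _
        rw [e.commutes]
        rfl)
    exact Algebra.Etale.of_equiv e'

end Groth.Agent.S18416
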