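import Groth.Statements.S18422
import Mathlib

set_option autoImplicit false
universe u v
open Pi1

namespace Groth.Agent.S18422

theorem result {p l : ℕ} (hp : p.Prime) (hl : l.Prime) (hpl : p ≠ l)
    (G : Type u) [Group G] [TopologicalSpace G] [IsTopologicalGroup G] [CompactSpace G]
    [TotallyDisconnectedSpace G]
    (H : Type v) [Group H] [TopologicalSpace H] [IsTopologicalGroup H] [CompactSpace H]
    [TotallyDisconnectedSpace H]
    (hG : ∀ U : OpenNormalSubgroup G, ∃ n : ℕ, U.toSubgroup.index = p ^ n)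
    (hH : ∀ V : OpenNormalSubgroup H, ∃ n : ℕ, V.toSubgroup.index = l ^ n)
    (f : G →* H) (hf : Continuous f) (g : G) : f g = 1 := by
  by_contra hne
  have hopen : IsOpen ({f g}ᶜ : Set H) := isOpen_compl_singleton
  have h1 : (1 : H) ∈ ({f g}ᶜ : Set H) := by
    simp only [Set.mem_compl_iff, Set.mem_singleton_iff]
    exact fun h => hne h.symm
  obtain ⟨V, hV⟩ := ProfiniteGrp.exist_openNormalSubgroup_sub_open_nhds_of_one hopen h1
  haveI : V.toSubgroup.Normal := V.isNormal'
  let U : OpenNormalSubgroup G :=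
    { toOpenSubgroup := V.toOpenSubgroup.comap f hf
      isNormal' := by
        change (V.toSubgroup.comap f).Normal
        infer_instance }
  obtain ⟨n, hn⟩ := hG U
  obtain ⟨m, hm⟩ := hH V
  have hUidx : U.toSubgroup.index = V.toSubgroup.relIndex f.range := by
    change (V.toSubgroup.comap f).index = _
    exact Subgroup.index_comap _ f
  have hdvd : p ^ n ∣ l ^ m := by
    rw [← hn, ← hm, hUidx]
    exact Subgroup.relIndex_dvd_index_of_normal _ _
  have hn0 : n = 0 := by
    by_contra hn0
    have : p ∣ l ^ m := dvd_trans (dvd_pow_self p hn0) hdvd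
    have : p ∣ l := hp.dvd_of_dvd_pow this
    exact hpl ((Nat.prime_dvd_prime_iff_eq hp hl).mp this)
  rw [hn0, pow_zero, Subgroup.index_eq_one] at hn
  have hgU : g ∈ U.toSubgroup := by rw [hn]; trivial
  have hfgV : f g ∈ (V : Set H) := hgU
  exact hV hfgV rfl

end Groth.Agent.S18422
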