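import Groth.Statements.S18423
import Mathlib
import Groth.Agent.Lib.helper29.Disc4

set_option autoImplicit false
universe u v
open Pi1

namespace Groth.Agent.S18423

section Aux
open Groth.Agent.H29

variable {A : Type u} {B : Type v} [CommRing A] [CommRing B] [Algebra A B]

/-- membership in `P B` in terms of coordinates -/
theorem mem_map_iff_repr {ι : Type*} [Fintype ι] (b : Module.Basis ι A B) (P : Ideal A) (x : B) :
    x ∈ P.map (algebraMap A B) ↔ ∀ i, b.repr x i ∈ P := by
  constructor
  · intro hx
    have hx' : x ∈ (P • ⊤ : Submodule A B) := by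
      rw [Ideal.smul_top_eq_map]; exact hx
    refine Submodule.smul_induction_on hx' (fun r hr m _ i => ?_) (fun x y hx hy i => ?_)
    · rw [map_smul, Finsupp.smul_apply, smul_eq_mul]
      exact Ideal.mul_mem_right _ _ hr
    · rw [map_add, Finsupp.add_apply]
      exact Ideal.add_mem _ (hx i) (hy i)
  · intro h
    rw [← b.sum_repr x]
    refine Ideal.sum_mem _ (fun i _ => ?_)
    rw [Algebra.smul_def]
    exact Ideal.mul_mem_right _ _ (Ideal.mem_map_of_mem _ (h i))

theorem exists_ramified [Module.Finite A B] [Module.Free A B] {ι : Type*} [Fintype ι]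
    [DecidableEq ι] (b : Module.Basis ι A B) (P : Ideal A) [P.IsPrime]
    (hδ : Algebra.discr A b ∈ P) :
    ∃ q : Ideal B, q.IsPrime ∧ q.comap (algebraMap A B) = P ∧ Disc.differentSet A B ⊆ q := by
  classical
  -- a kernel vector modulo `P`
  have hdet : ((Algebra.traceMatrix A b).map (Ideal.Quotient.mk P)).det = 0 := by
    rw [← RingHom.mapMatrix_apply, ← RingHom.map_det, ← Algebra.discr_def,
      Ideal.Quotient.eq_zero_iff_mem]
    exact hδ
  obtain ⟨vbar, hvbar0, hvbar⟩ := Matrix.exists_mulVec_eq_zero_iff.2 hdet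
  have hsurj : ∀ i, ∃ a : A, Ideal.Quotient.mk P a = vbar i :=
    fun i => Ideal.Quotient.mk_surjective (vbar i)
  choose v hv using hsurj
  have hvP : ∃ i, v i ∉ P := by
    by_contra hall
    push_neg at hall
    apply hvbar0
    funext i
    rw [← hv i, Pi.zero_apply, Ideal.Quotient.eq_zero_iff_mem]
    exact hall i
  set β : B := ∑ i, v i • b i with hβ
  have hrepr : ∀ i, b.repr β i = v i := by
    intro i
    rw [hβ, map_sum, Finsupp.finsetSum_apply]
    simp [Finsupp.single_apply]
  have htrb : ∀ j, Algebra.trace A B (β * b j) ∈ P := by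
    intro j
    have h0 := congrFun hvbar j
    simp only [Matrix.mulVec, dotProduct, Matrix.map_apply, Algebra.traceMatrix_apply,
      Algebra.traceForm_apply, Pi.zero_apply] at h0
    rw [hβ, Finset.sum_mul, map_sum, ← Ideal.Quotient.eq_zero_iff_mem, map_sum, ← h0]
    refine Finset.sum_congr rfl (fun i _ => ?_)
    rw [smul_mul_assoc, map_smul, smul_eq_mul, map_mul, hv i, mul_comm (b i) (b j), mul_comm]
  have htr : ∀ x : B, Algebra.trace A B (β * x) ∈ P := by
    intro x
    rw [← b.sum_repr x, Finset.mul_sum, map_sum]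
    refine Ideal.sum_mem _ (fun j _ => ?_)
    rw [mul_smul_comm, map_smul, smul_eq_mul]
    exact Ideal.mul_mem_left _ _ (htrb j)
  -- the colon ideal `(P B : β)`
  set J : Ideal B := (P.map (algebraMap A B) : Submodule B B).colon {β} with hJ
  have hmemJ : ∀ c : B, c ∈ J ↔ c * β ∈ P.map (algebraMap A B) := by
    intro c
    rw [hJ, Submodule.mem_colon_singleton, smul_eq_mul]
  have hPJ : P.map (algebraMap A B) ≤ J := by
    intro c hc
    rw [hmemJ]
    exact Ideal.mul_mem_right _ _ hc
  have hdisj : Disjoint (J : Set B) (Algebra.algebraMapSubmonoid B P.primeCompl) := by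
    rw [Set.disjoint_left]
    rintro _ hcJ ⟨s, hs, rfl⟩
    rw [SetLike.mem_coe, hmemJ, mem_map_iff_repr b] at hcJ
    obtain ⟨i, hi⟩ := hvP
    have h2 := hcJ i
    rw [← Algebra.smul_def, map_smul, Finsupp.smul_apply, hrepr, smul_eq_mul] at h2
    rcases Ideal.IsPrime.mem_or_mem inferInstance h2 with h3 | h3
    · exact hs h3
    · exact hi h3
  obtain ⟨q, hqp, hJq, hqdisj⟩ := Ideal.exists_le_prime_disjoint J _ hdisj
  refine ⟨q, hqp, ?_, ?_⟩
  · apply le_antisymm
    · intro a ha
      by_contra haP
      exact Set.disjoint_left.1 hqdisj ha ⟨a, haP, rfl⟩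
    · intro a ha
      exact hJq (hPJ (Ideal.mem_map_of_mem _ ha))
  · intro c hc
    apply hJq
    rw [hmemJ, mem_map_iff_repr b]
    intro i
    obtain ⟨ci, hci⟩ := hc (b.coord i)
    have h3 := hci β
    rw [Module.Basis.coord_apply] at h3
    rw [h3, mul_comm]
    exact htr ci

theorem main (A : Type u) (B : Type v) [CommRing A] [CommRing B] [Algebra A B]
    [IsNoetherianRing A] [IsLocalRing A] (hdim : (2 : WithBot ℕ∞) ≤ ringKrullDim A)
    [Module.Finite A B] [Module.Flat A B]
    (h : ∀ q : PrimeSpectrum B, q.asIdeal.comap (algebraMap A B) ≠ IsLocalRing.maximalIdeal A →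
      Algebra.IsEtaleAt A q.asIdeal) :
    Algebra.Etale A B := by
  classical
  haveI : Module.Free A B := Module.free_of_flat_of_isLocalRing
  set b := Module.Free.chooseBasis A B with hb
  suffices hδ : IsUnit (Algebra.discr A b) from
    Disc4.etale_iff_bijective_traceForm.2 ((Disc4.bijective_traceForm_iff_isUnit_discr b).2 hδ)
  by_contra hnu
  have hne : Ideal.span {Algebra.discr A b} ≠ ⊤ := by
    rwa [Ne, Ideal.span_singleton_eq_top]
  obtain ⟨P, hP⟩ := Ideal.nonempty_minimalPrimes hne
  haveI : P.IsPrime := hP.1.1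
  have hht : P.height ≤ 1 := Ideal.height_le_one_of_isPrincipal_of_mem_minimalPrimes _ P hP
  have hPm : P ≠ IsLocalRing.maximalIdeal A := by
    intro heq
    rw [heq] at hht
    have h1 : ((IsLocalRing.maximalIdeal A).height : WithBot ℕ∞) = ringKrullDim A :=
      IsLocalRing.maximalIdeal_height_eq_ringKrullDim
    have h2 : (2 : WithBot ℕ∞) ≤ ((1 : ℕ∞) : WithBot ℕ∞) := by
      refine hdim.trans ?_
      rw [← h1]
      exact WithBot.coe_le_coe.2 hht
    exact absurd h2 (by decide)
  obtain ⟨q, hqp, hqP, hqD⟩ := exists_ramified b P (hP.1.2 (Ideal.mem_span_singleton_self _))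
  have h1 : Algebra.IsEtaleAt A q := h ⟨q, hqp⟩ (by rw [hqP]; exact hPm)
  have h2 : ¬ Algebra.IsUnramifiedAt A q := (Disc3.differentSet_subset_iff_not_unramified q).1 hqD
  apply h2
  haveI := h1
  show Algebra.FormallyUnramified A (Localization.AtPrime q)
  infer_instance
end Aux

/-- Let A be a Noetherian local ring of Krull dimension at least 2 and B a finite flat commutative
A-algebra. If B is etale over A at every prime of B lying over a non-maximal prime of A (that is,
Spec B is etale over the punctured spectrum of A), then B is etale over A. -/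
theorem result (A : Type u) (B : Type v) [CommRing A] [CommRing B]
    [Algebra A B] [IsNoetherianRing A] [IsLocalRing A] (hdim : (2 : WithBot ℕ∞) ≤ ringKrullDim A)
    [Module.Finite A B] [Module.Flat A B]
    (h : ∀ q : PrimeSpectrum B, q.asIdeal.comap (algebraMap A B) ≠ IsLocalRing.maximalIdeal A →
      Algebra.IsEtaleAt A q.asIdeal) :
    Algebra.Etale A B := by
  exact main A B hdim h

end Groth.Agent.S18423
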