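import Groth.Statements.S18426
import Mathlib
import Groth.Agent.Lib.helper26.NormGen
import Groth.Agent.Lib.helper26.NormUniq

set_option autoImplicit false
universe u
open Pi1

namespace Groth.Agent.S18426

section Aux
open CategoryTheory CategoryTheory.Limits AlgebraicGeometry
open Groth.Agent.Lib.helper26.NormAff Groth.Agent.Lib.helper26.NormGen

variable (X : Scheme.{u}) [IsIntegral X] (K : Type u) [Field K] (φ : X.functionField →+* K)

theorem psi_secEquivTop (U : X.Opens) (h : genericPoint X ∈ U) (a : X.functionField) :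
    ψ X K φ U (secEquivTop (X.presheaf.stalk (genericPoint X)) (gen X ⁻¹ᵁ U)
      (Groth.Agent.Lib.helper26.NormAff.preimage_eq_top X U h) a) =
    secEquivTop (CommRingCat.of K) (gK X K φ ⁻¹ᵁ U) (Groth.Agent.Lib.helper26.NormGen.preimage_eq_top X K φ U h) (φ a) := by
  have hcat : (Scheme.ΓSpecIso (X.presheaf.stalk (genericPoint X))).inv ≫
      (Spec (X.presheaf.stalk (genericPoint X))).presheaf.map
        (homOfLE (le_top : gen X ⁻¹ᵁ U ≤ ⊤)).op ≫
      (Spec.map (CommRingCat.ofHom φ)).app (gen X ⁻¹ᵁ U) =
      CommRingCat.ofHom φ ≫ (Scheme.ΓSpecIso (CommRingCat.of K)).inv ≫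
        (Spec (CommRingCat.of K)).presheaf.map
          (homOfLE (le_top : gK X K φ ⁻¹ᵁ U ≤ ⊤)).op := by
    rw [Scheme.Hom.naturality, ← Category.assoc, ← Category.assoc]
    congr 1
    exact (Scheme.ΓSpecIso_inv_naturality (CommRingCat.ofHom φ)).symm
  have := congrArg (fun f => f.hom a) hcat
  exact this

theorem chart_finite [IsNoetherian X] (hX : Pi1.IsNormalScheme X) (hφ : φ.Finite)
    (hsep : letI := φ.toAlgebra; Algebra.IsSeparable X.functionField K)
    (U : X.affineOpens) (hne : (U.1 : Set X).Nonempty) :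
    letI := ((gK X K φ).app U.1).hom.toAlgebra
    Module.Finite Γ(X, U.1) (integralClosure Γ(X, U.1)
        Γ(Spec (CommRingCat.of K), gK X K φ ⁻¹ᵁ U.1)) := by
  have hgen : genericPoint X ∈ U.1 := genericPoint_mem X U.1 hne
  letI algAL := ((gK X K φ).app U.1).hom.toAlgebra
  letI fL := (isField_secK X K φ U.1 hgen).toField
  letI algAK := ((gen X).app U.1).hom.toAlgebra
  letI fK := (isField_sec X U.1 hgen).toField
  haveI := isFractionRing_sec X U.1 U.2 hgen
  haveI : Nonempty U.1 := ⟨⟨_, hgen⟩⟩
  haveI : IsDomain Γ(X, U.1) := IsIntegral.component_integral U.1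
  letI algKL : Algebra Γ(Spec (X.presheaf.stalk (genericPoint X)), gen X ⁻¹ᵁ U.1)
      Γ(Spec (CommRingCat.of K), gK X K φ ⁻¹ᵁ U.1) := (ψ X K φ U.1).toAlgebra
  haveI : IsScalarTower Γ(X, U.1) Γ(Spec (X.presheaf.stalk (genericPoint X)), gen X ⁻¹ᵁ U.1)
      Γ(Spec (CommRingCat.of K), gK X K φ ⁻¹ᵁ U.1) :=
    IsScalarTower.of_algebraMap_eq (fun a => rfl)
  haveI : FiniteDimensional Γ(Spec (X.presheaf.stalk (genericPoint X)), gen X ⁻¹ᵁ U.1)
      Γ(Spec (CommRingCat.of K), gK X K φ ⁻¹ᵁ U.1) := ψ_finite X K φ hφ U.1 hgen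
  haveI : IsNoetherianRing Γ(X, U.1) := IsLocallyNoetherian.component_noetherian U
  haveI : IsIntegrallyClosed Γ(X, U.1) :=
    Groth.Agent.Lib.helper26.NormUniq.isIntegrallyClosed_sec X hX U.1 U.2 hne
  haveI : Algebra.IsSeparable Γ(Spec (X.presheaf.stalk (genericPoint X)), gen X ⁻¹ᵁ U.1)
      Γ(Spec (CommRingCat.of K), gK X K φ ⁻¹ᵁ U.1) := by
    letI := φ.toAlgebra
    haveI := hsep
    refine Algebra.IsSeparable.of_equiv_equiv
      (secEquivTop (X.presheaf.stalk (genericPoint X)) (gen X ⁻¹ᵁ U.1)
        (Groth.Agent.Lib.helper26.NormAff.preimage_eq_top X U.1 hgen))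
      (secEquivTop (CommRingCat.of K) (gK X K φ ⁻¹ᵁ U.1)
        (Groth.Agent.Lib.helper26.NormGen.preimage_eq_top X K φ U.1 hgen)) ?_
    ext a
    exact psi_secEquivTop X K φ U.1 hgen a
  exact IsIntegralClosure.finite Γ(X, U.1)
    Γ(Spec (X.presheaf.stalk (genericPoint X)), gen X ⁻¹ᵁ U.1)
    Γ(Spec (CommRingCat.of K), gK X K φ ⁻¹ᵁ U.1)
    (integralClosure Γ(X, U.1) Γ(Spec (CommRingCat.of K), gK X K φ ⁻¹ᵁ U.1))

theorem main' [IsNoetherian X] (hX : Pi1.IsNormalScheme X) (hφ : φ.Finite)
    (hsep : letI := φ.toAlgebra; Algebra.IsSeparable X.functionField K)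
    [QuasiCompact (gK X K φ)] [QuasiSeparated (gK X K φ)] :
    IsFinite (gK X K φ).fromNormalization :=
  isFinite_of_chart (gK X K φ) (fun U hne => chart_finite X K φ hX hφ hsep U hne)

theorem main {X : Scheme.{u}} [IsIntegral X] [IsNoetherian X]
    (hX : Pi1.IsNormalScheme X) (L : Type u) [Field L] [Algebra X.functionField L]
    [FiniteDimensional X.functionField L] [Algebra.IsSeparable X.functionField L]
    [QuasiCompact (Spec.map (CommRingCat.ofHom (algebraMap X.functionField L)) ≫
      X.fromSpecStalk (genericPoint X))]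
    [QuasiSeparated (Spec.map (CommRingCat.ofHom (algebraMap X.functionField L)) ≫
      X.fromSpecStalk (genericPoint X))] :
    IsFinite (Spec.map (CommRingCat.ofHom (algebraMap X.functionField L)) ≫
      X.fromSpecStalk (genericPoint X)).fromNormalization := by
  have hfin : (algebraMap X.functionField L).Finite :=
    RingHom.finite_algebraMap.2 inferInstance
  have hsep : letI := (algebraMap X.functionField L).toAlgebra;
      Algebra.IsSeparable X.functionField L := by
    convert (inferInstance : Algebra.IsSeparable X.functionField L)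
    exact Algebra.algebra_ext _ _ (fun r => rfl)
  exact main' X L (algebraMap X.functionField L) hX hfin hsep

end Aux

open AlgebraicGeometry CategoryTheory CategoryTheory.Limits in
/-- Suppose X is an integral scheme that is Noetherian and normal, write K for its function field, and
take L to be a finite separable extension of K. Then the normalization of X in L, namely the
relative normalization of the morphism Spec L → Spec K → X, is finite over X. (That this
normalization is a normal integral scheme with function field L is not restated.) -/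
theorem result {X : Scheme.{u}} [IsIntegral X] [IsNoetherian X]
    (hX : Pi1.IsNormalScheme X) (L : Type u) [Field L] [Algebra X.functionField L] [FiniteDimensional X.functionField L]
    [Algebra.IsSeparable X.functionField L]
    [QuasiCompact (Spec.map (CommRingCat.ofHom (algebraMap X.functionField L)) ≫ X.fromSpecStalk (genericPoint X))]
    [QuasiSeparated (Spec.map (CommRingCat.ofHom (algebraMap X.functionField L)) ≫ X.fromSpecStalk (genericPoint X))] :
    IsFinite (Spec.map (CommRingCat.ofHom (algebraMap X.functionField L)) ≫ X.fromSpecStalk (genericPoint X)).fromNormalization := by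
  exact main hX L

end Groth.Agent.S18426
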