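import Mathlib
import Groth.Statements.S18429

set_option autoImplicit false
universe u
open SpinCurv

namespace Groth.Agent.S18429

theorem result (n r : ℕ) (hn : 1 ≤ n) (hr : 2 ≤ r)
    (e : ℕ → ℤ) (he0 : e 0 = 0) (henr : e (n * r) = 0)
    (hdiv : ∀ j : ℕ, 1 ≤ j → j < n * r → (r : ℤ) ∣ e (j - 1) - 2 * e j + e (j + 1)) :
    ∃ e' : ℕ → ℤ, e' 0 = 0 ∧ e' (n * r) = 0 ∧
      (∀ j : ℕ, 1 ≤ j → j < n * r → (r : ℤ) ∣ e' j - e j) ∧
      (∀ j : ℕ, j ≤ n * r → e' j ≤ 0) ∧
      (∀ j : ℕ, 1 ≤ j → j < n * r →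
        (e' (j - 1) - 2 * e' j + e' (j + 1) = 0 ∨ e' (j - 1) - 2 * e' j + e' (j + 1) = r)) ∧
      (∀ j j' : ℕ, 1 ≤ j → j < n * r → 1 ≤ j' → j' < n * r →
        e' (j - 1) - 2 * e' j + e' (j + 1) ≠ 0 → e' (j' - 1) - 2 * e' j' + e' (j' + 1) ≠ 0 → j = j') := by
  set N := n * r with hN
  -- e j ≡ j * e 1 mod r for j ≤ N
  have hlin : ∀ j : ℕ, j ≤ N → (r : ℤ) ∣ e j - (j : ℤ) * e 1 := by
    intro j
    induction j using Nat.strong_induction_on with
    | _ j ih =>
      intro hj
      rcases Nat.lt_or_ge j 2 with h2 | h2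
      · interval_cases j
        · simp [he0]
        · simp
      · have h1 := ih (j - 1) (by omega) (by omega)
        have h0 := ih (j - 2) (by omega) (by omega)
        have hd := hdiv (j - 1) (by omega) (by omega)
        have e1 : j - 1 - 1 = j - 2 := by omega
        have e2 : j - 1 + 1 = j := by omega
        rw [e1, e2] at hd
        have c1 : ((j - 1 : ℕ) : ℤ) = (j : ℤ) - 1 := by push_cast [Nat.cast_sub (show 1 ≤ j by omega)]; ring
        have c2 : ((j - 2 : ℕ) : ℤ) = (j : ℤ) - 2 := by push_cast [Nat.cast_sub (show 2 ≤ j by omega)]; ring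
        rw [c1] at h1
        rw [c2] at h0
        have : e j - (j : ℤ) * e 1 = (e (j - 2) - 2 * e (j - 1) + e j) + 2 * (e (j - 1) - ((j : ℤ) - 1) * e 1)
            - (e (j - 2) - ((j : ℤ) - 2) * e 1) := by ring
        rw [this]
        exact dvd_sub (dvd_add hd (Dvd.dvd.mul_left h1 2)) h0
  -- constants
  have hrpos : (0 : ℤ) < r := by exact_mod_cast (show 0 < r by omega)
  set c₀ : ℤ := e 1 % r with hc₀
  have hc₀_nonneg : 0 ≤ c₀ := Int.emod_nonneg _ hrpos.ne'
  have hc₀_lt : c₀ < r := Int.emod_lt_of_pos _ hrpos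
  have hc₀_dvd : (r : ℤ) ∣ e 1 - c₀ :=
    ⟨e 1 / r, by rw [hc₀]; have := Int.emod_add_mul_ediv (e 1) r; linarith⟩
  set a : ℤ := r - c₀ with ha
  set b : ℤ := c₀ with hb
  set t : ℕ := c₀.toNat * n with ht
  have hct : (c₀.toNat : ℤ) = c₀ := Int.toNat_of_nonneg hc₀_nonneg
  have hct' : c₀.toNat < r := by
    have : (c₀.toNat : ℤ) < r := by rw [hct]; exact hc₀_lt
    exact_mod_cast this
  have htN : t < N := by
    rw [ht, hN, mul_comm]
    exact Nat.mul_lt_mul_of_pos_left hct' (by omega)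
  have hNZ : (N : ℤ) = n * r := by rw [hN]; push_cast; ring
  have htZ : (t : ℤ) = c₀ * n := by rw [ht]; push_cast; rw [hct]
  have hat : a * t = b * (N - t) := by
    rw [ha, hb, htZ, hNZ]; ring
  have hapos : 0 < a := by rw [ha]; linarith
  let e' : ℕ → ℤ := fun j => if j ≤ t then -a * j else -b * ((N : ℤ) - j)
  have hlow : ∀ j : ℕ, j ≤ t → e' j = -a * j := fun j hj => if_pos hj
  have hhigh : ∀ j : ℕ, t ≤ j → e' j = -b * ((N : ℤ) - j) := by
    intro j hj
    rcases hj.eq_or_lt with h | h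
    · subst h
      rw [hlow _ le_rfl]
      linarith
    · exact if_neg (by omega)
  have hD : ∀ j : ℕ, 1 ≤ j → j < N →
      e' (j - 1) - 2 * e' j + e' (j + 1) = if j = t then (r : ℤ) else 0 := by
    intro j hj1 hjN
    have c1 : ((j - 1 : ℕ) : ℤ) = (j : ℤ) - 1 := by push_cast [Nat.cast_sub hj1]; ring
    rcases lt_trichotomy j t with h | h | h
    · rw [hlow (j - 1) (by omega), hlow j (by omega), hlow (j + 1) (by omega), if_neg (by omega), c1]
      push_cast
      ring
    · have hat' : a * (j : ℤ) = b * ((N : ℤ) - j) := by rw [h]; exact hat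
      rw [hlow (j - 1) (by omega), hlow j (by omega), hhigh (j + 1) (by omega), if_pos h, c1]
      push_cast
      have : a + b = r := by rw [ha, hb]; ring
      linear_combination hat' + this
    · rw [hhigh (j - 1) (by omega), hhigh j (by omega), hhigh (j + 1) (by omega), if_neg (by omega), c1]
      push_cast
      ring
  refine ⟨e', ?_, ?_, ?_, ?_, ?_, ?_⟩
  · rw [hlow 0 (Nat.zero_le _)]; simp
  · rw [hhigh N htN.le]; simp
  · intro j hj1 hjN
    have h1 := hlin j hjN.le
    have h2 : (r : ℤ) ∣ e' j - c₀ * j := by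
      rcases le_or_gt j t with h | h
      · rw [hlow j h, ha]
        exact ⟨-j, by ring⟩
      · rw [hhigh j h.le, hb, hNZ]
        exact ⟨-(c₀ * n), by ring⟩
    have : e' j - e j = (e' j - c₀ * j) - (e j - (j : ℤ) * e 1) - (j : ℤ) * (e 1 - c₀) := by ring
    rw [this]
    exact dvd_sub (dvd_sub h2 h1) (Dvd.dvd.mul_left hc₀_dvd _)
  · intro j hjN
    rcases le_or_gt j t with h | h
    · rw [hlow j h]
      have : (0 : ℤ) ≤ j := by positivity
      nlinarith
    · rw [hhigh j h.le]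
      have : (0 : ℤ) ≤ (N : ℤ) - j := by
        have : (j : ℤ) ≤ N := by exact_mod_cast hjN
        linarith
      rw [hb]
      nlinarith
  · intro j hj1 hjN
    rw [hD j hj1 hjN]
    split_ifs
    · right; rfl
    · left; rfl
  · intro j j' hj1 hjN hj'1 hj'N h1 h2
    rw [hD j hj1 hjN] at h1
    rw [hD j' hj'1 hj'N] at h2
    have e1 : j = t := by
      by_contra hne
      rw [if_neg hne] at h1
      exact h1 rfl
    have e2 : j' = t := by
      by_contra hne
      rw [if_neg hne] at h2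
      exact h2 rfl
    rw [e1, e2]

end Groth.Agent.S18429
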