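import Groth.Statements.S18430
import Mathlib

set_option autoImplicit false
universe u
open SpinCurv

namespace Groth.Agent.S18430

theorem result (n r : ℕ) (hn : 1 ≤ n) (hr : 2 ≤ r)
    (e : ℕ → ℤ)
    (hdiv : ∀ j : ℕ, 1 ≤ j → j < n * r → (r : ℤ) ∣ e (j - 1) - 2 * e j + e (j + 1)) :
    (r : ℤ) ∣ e (n * r) - e 0 := by
  -- first differences are all congruent to e 1 - e 0
  have h1 : ∀ j : ℕ, j < n * r → (r : ℤ) ∣ (e (j + 1) - e j) - (e 1 - e 0) := by
    intro j
    induction j with
    | zero => intro _; simp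
    | succ j ih =>
      intro hj
      have ih' := ih (by omega)
      have h2 := hdiv (j + 1) (by omega) hj
      simp only [Nat.add_sub_cancel] at h2
      have : e (j + 1 + 1) - e (j + 1) - (e 1 - e 0) =
          (e j - 2 * e (j + 1) + e (j + 1 + 1)) + ((e (j + 1) - e j) - (e 1 - e 0)) := by ring
      rw [this]
      exact dvd_add h2 ih'
  have h2 : ∀ m : ℕ, m ≤ n * r → (r : ℤ) ∣ e m - e 0 - m * (e 1 - e 0) := by
    intro m
    induction m with
    | zero => intro _; simp
    | succ m ih =>
      intro hm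
      have ih' := ih (by omega)
      have h3 := h1 m (by omega)
      have : e (m + 1) - e 0 - ((m + 1 : ℕ) : ℤ) * (e 1 - e 0) =
          (e m - e 0 - m * (e 1 - e 0)) + ((e (m + 1) - e m) - (e 1 - e 0)) := by push_cast; ring
      rw [this]
      exact dvd_add ih' h3
  have h3 := h2 (n * r) le_rfl
  have h4 : (r : ℤ) ∣ ((n * r : ℕ) : ℤ) * (e 1 - e 0) := by
    push_cast
    exact Dvd.dvd.mul_right (Dvd.intro_left _ rfl) _
  have := dvd_add h3 h4
  simpa using this

end Groth.Agent.S18430
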