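import Groth.Statements.S18431
import Mathlib

set_option autoImplicit false
universe u
open SpinCurv

namespace Groth.Agent.S18431

theorem result (R : Type u) [CommRing R] [IsNoetherianRing R] [IsLocalRing R]
    (r : ℕ) (hr : IsUnit (r : R)) (ξ ζ : R) (hξ : ξ ^ r = 1) (hζ : ζ ^ r = 1) :
    ξ = ζ ∨ IsUnit (ξ - ζ) := by
  by_cases hu : IsUnit (ξ - ζ)
  · exact Or.inr hu
  left
  have hmem : ξ - ζ ∈ IsLocalRing.maximalIdeal R := (IsLocalRing.mem_maximalIdeal _).mpr hu
  have hres : IsLocalRing.residue R ξ = IsLocalRing.residue R ζ := by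
    have := (IsLocalRing.residue_eq_zero_iff _).mpr hmem
    rw [map_sub] at this
    exact sub_eq_zero.mp this
  have hrpos : 0 < r := by
    rcases Nat.eq_zero_or_pos r with h | h
    · subst h; simp at hr
    · exact h
  set S := ∑ i ∈ Finset.range r, ξ ^ i * ζ ^ (r - 1 - i) with hS
  have hmul : S * (ξ - ζ) = 0 := by
    rw [hS, (Commute.all ξ ζ).geom_sum₂_mul, hξ, hζ, sub_self]
  have hSres : IsLocalRing.residue R S = (r : IsLocalRing.ResidueField R) * (IsLocalRing.residue R ζ) ^ (r - 1) := by
    rw [hS, map_sum]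
    have : ∀ i ∈ Finset.range r, IsLocalRing.residue R (ξ ^ i * ζ ^ (r - 1 - i)) = (IsLocalRing.residue R ζ) ^ (r - 1) := by
      intro i hi
      rw [Finset.mem_range] at hi
      rw [map_mul, map_pow, map_pow, hres, ← pow_add]
      congr 1; omega
    rw [Finset.sum_congr rfl this]
    simp
  have hSunit : IsUnit S := by
    have hne : IsLocalRing.residue R S ≠ 0 := by
      rw [hSres]
      apply mul_ne_zero
      · have := hr.map (IsLocalRing.residue R)
        rw [map_natCast] at this
        exact this.ne_zero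
      · apply pow_ne_zero
        intro h0
        have : (IsLocalRing.residue R ζ) ^ r = 1 := by rw [← map_pow, hζ, map_one]
        rw [h0, zero_pow hrpos.ne'] at this
        exact zero_ne_one this
    by_contra hn
    exact hne ((IsLocalRing.residue_eq_zero_iff _).mpr ((IsLocalRing.mem_maximalIdeal _).mpr hn))
  exact sub_eq_zero.mp (hSunit.mul_right_eq_zero.mp hmul)

end Groth.Agent.S18431
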