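import Groth.Statements.S18434
import Mathlib

set_option autoImplicit false
universe u
open SpinCurv

namespace Groth.Agent.S18434aux
open MvPowerSeries

variable (k : Type u) [Field k]

/-- exponent vector (a, b) -/
noncomputable def E (a b : ℕ) : Fin 2 →₀ ℕ := Finsupp.single 0 a + Finsupp.single 1 b

@[simp] lemma E_0 (a b : ℕ) : E a b 0 = a := by simp [E]
@[simp] lemma E_1 (a b : ℕ) : E a b 1 = b := by simp [E]

lemma E_le_iff (a b : ℕ) (m : Fin 2 →₀ ℕ) : E a b ≤ m ↔ a ≤ m 0 ∧ b ≤ m 1 := by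
  rw [Finsupp.le_def, Fin.forall_fin_two]
  simp

lemma eq_E (m : Fin 2 →₀ ℕ) : m = E (m 0) (m 1) := by
  ext i
  fin_cases i <;> simp

lemma E_inj {a b c d : ℕ} (h : E a b = E c d) : a = c ∧ b = d := by
  have h0 := DFunLike.congr_fun h 0
  have h1 := DFunLike.congr_fun h 1
  simp at h0 h1
  exact ⟨h0, h1⟩

lemma sub_E (a b : ℕ) (m : Fin 2 →₀ ℕ) : m - E a b = E (m 0 - a) (m 1 - b) := by
  ext i
  fin_cases i <;> simp

lemma add_E (a b : ℕ) (m : Fin 2 →₀ ℕ) : m + E a b = E (m 0 + a) (m 1 + b) := by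
  ext i
  fin_cases i <;> simp

lemma X0X1 : (X 0 * X 1 : MvPowerSeries (Fin 2) k) = monomial (E 1 1) 1 := by
  rw [X_def, X_def, monomial_mul_monomial, mul_one]
  rfl

lemma X0u (n : ℕ) : (X 0 ^ n : MvPowerSeries (Fin 2) k) = monomial (E n 0) 1 := by
  rw [X_pow_eq]
  congr 1
  simp [E]

lemma X1v (n : ℕ) : (X 1 ^ n : MvPowerSeries (Fin 2) k) = monomial (E 0 n) 1 := by
  rw [X_pow_eq]
  congr 1
  simp [E]

/-- the coefficient map -/
noncomputable def Φ (u v : ℕ) :
    MvPowerSeries (Fin 2) k →ₗ[k] ((Fin u → k) × (Fin (v - 1) → k)) :=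
  LinearMap.prod (LinearMap.pi fun i : Fin u => coeff (E i 0))
    (LinearMap.pi fun j : Fin (v - 1) => coeff (E 0 (j + 1)))

lemma Φ_apply (u v : ℕ) (f : MvPowerSeries (Fin 2) k) :
    Φ k u v f = (fun i : Fin u => coeff (E i 0) f, fun j : Fin (v - 1) => coeff (E 0 (j + 1)) f) :=
  rfl

lemma Φ_eq_zero_iff (u v : ℕ) (f : MvPowerSeries (Fin 2) k) :
    Φ k u v f = 0 ↔ (∀ i < u, coeff (E i 0) f = 0) ∧ (∀ j, 1 ≤ j → j < v → coeff (E 0 j) f = 0) := by
  rw [Φ_apply, Prod.mk_eq_zero]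
  constructor
  · rintro ⟨h1, h2⟩
    refine ⟨fun i hi => ?_, fun j hj1 hjv => ?_⟩
    · exact congrFun h1 ⟨i, hi⟩
    · have := congrFun h2 ⟨j - 1, by omega⟩
      simp only [Pi.zero_apply] at this
      rwa [Nat.sub_add_cancel hj1] at this
  · rintro ⟨h1, h2⟩
    refine ⟨funext fun i => h1 i i.2, funext fun j => h2 (j + 1) (by omega) (by omega)⟩

lemma Φ_surj (u v : ℕ) : Function.Surjective (Φ k u v) := by
  rintro ⟨c, d⟩
  refine ⟨fun m => if m 1 = 0 then (if h : m 0 < u then c ⟨m 0, h⟩ else 0)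
    else if m 0 = 0 then (if h : m 1 - 1 < v - 1 then d ⟨m 1 - 1, h⟩ else 0) else 0, ?_⟩
  rw [Φ_apply]
  refine Prod.ext (funext fun i => ?_) (funext fun j => ?_)
  · show (if (E i 0) 1 = 0 then _ else _) = c i
    simp
  · show (if (E 0 (j + 1)) 1 = 0 then _ else _) = d j
    simp


/-- shifted series -/
noncomputable def shift (n : Fin 2 →₀ ℕ) (p : (Fin 2 →₀ ℕ) → Prop) [DecidablePred p]
    (f : MvPowerSeries (Fin 2) k) : MvPowerSeries (Fin 2) k :=
  fun m => if p m then coeff (m + n) f else 0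

lemma coeff_mono_shift (n : Fin 2 →₀ ℕ) (p : (Fin 2 →₀ ℕ) → Prop) [DecidablePred p]
    (f : MvPowerSeries (Fin 2) k) (m : Fin 2 →₀ ℕ) :
    coeff m (monomial n 1 * shift k n p f) = if n ≤ m ∧ p (m - n) then coeff m f else 0 := by
  rw [coeff_monomial_mul, one_mul]
  by_cases h : n ≤ m
  · rw [if_pos h]
    show (if p (m - n) then coeff (m - n + n) f else 0) = _
    rw [tsub_add_cancel_of_le h]
    simp [h]
  · rw [if_neg h, if_neg (fun hh => h hh.1)]

lemma decomp (u v : ℕ) (hu : 1 ≤ u) (hv : 1 ≤ v) (f : MvPowerSeries (Fin 2) k)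
    (h1 : ∀ i < u, coeff (E i 0) f = 0) (h2 : ∀ j, 1 ≤ j → j < v → coeff (E 0 j) f = 0) :
    f = monomial (E 1 1) 1 * shift k (E 1 1) (fun _ => True) f +
      monomial (E u 0) 1 * shift k (E u 0) (fun m => m 1 = 0) f +
      monomial (E 0 v) 1 * shift k (E 0 v) (fun m => m 0 = 0) f := by
  ext m
  rw [map_add, map_add, coeff_mono_shift, coeff_mono_shift, coeff_mono_shift]
  simp only [E_le_iff, Finsupp.tsub_apply, E_0, E_1, and_true, Nat.sub_zero, zero_le, true_and]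
  by_cases hm1 : m 1 = 0
  · have hc1 : ¬ (1 ≤ m 0 ∧ 1 ≤ m 1) := by omega
    have hc3 : ¬ (v ≤ m 1 ∧ m 0 = 0) := by omega
    rw [if_neg hc1, if_neg hc3, zero_add, add_zero]
    by_cases hum : u ≤ m 0
    · rw [if_pos ⟨hum, hm1⟩]
    · rw [if_neg (fun hh => hum hh.1)]
      have hm : m = E (m 0) 0 := by
        conv_lhs => rw [eq_E m, hm1]
      rw [hm]
      exact h1 _ (by omega)
  · by_cases hm0 : m 0 = 0
    · have hc1 : ¬ (1 ≤ m 0 ∧ 1 ≤ m 1) := by omega
      have hc2 : ¬ (u ≤ m 0 ∧ m 1 = 0) := by omega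
      rw [if_neg hc1, if_neg hc2, zero_add, zero_add]
      by_cases hvm : v ≤ m 1
      · rw [if_pos ⟨hvm, hm0⟩]
      · rw [if_neg (fun hh => hvm hh.1)]
        have hm : m = E 0 (m 1) := by
          conv_lhs => rw [eq_E m, hm0]
        rw [hm]
        exact h2 _ (by omega) (by omega)
    · have hc1 : (1 ≤ m 0 ∧ 1 ≤ m 1) := by omega
      have hc2 : ¬ (u ≤ m 0 ∧ m 1 = 0) := by omega
      have hc3 : ¬ (v ≤ m 1 ∧ m 0 = 0) := by omega
      rw [if_pos hc1, if_neg hc2, if_neg hc3, add_zero, add_zero]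


lemma mem_iff (u v : ℕ) (hu : 1 ≤ u) (hv : 1 ≤ v) (w : k) (hw : w ≠ 0)
    (f : MvPowerSeries (Fin 2) k) :
    f ∈ Ideal.span {(X 0 * X 1 - C 0 : MvPowerSeries (Fin 2) k)} ⊔
      Ideal.span {(X 0 ^ u : MvPowerSeries (Fin 2) k), C w * X 1 ^ v} ↔ Φ k u v f = 0 := by
  rw [Φ_eq_zero_iff]
  constructor
  · intro hf
    rw [Submodule.mem_sup] at hf
    obtain ⟨a, ha, b, hb, rfl⟩ := hf
    rw [Ideal.mem_span_singleton'] at ha
    rw [Ideal.mem_span_pair] at hb
    obtain ⟨g1, rfl⟩ := ha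
    obtain ⟨g2, g3, rfl⟩ := hb
    rw [map_zero, sub_zero, X0X1, X0u, X1v, ← mul_assoc g3]
    refine ⟨fun i hi => ?_, fun j hj1 hjv => ?_⟩
    · rw [map_add, map_add, coeff_mul_monomial, coeff_mul_monomial, coeff_mul_monomial,
        if_neg, if_neg, if_neg]
      · simp
      · rw [E_le_iff]; simp; omega
      · rw [E_le_iff]; simp; omega
      · rw [E_le_iff]; simp
    · rw [map_add, map_add, coeff_mul_monomial, coeff_mul_monomial, coeff_mul_monomial,
        if_neg, if_neg, if_neg]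
      · simp
      · rw [E_le_iff]; simp; omega
      · rw [E_le_iff]; simp; omega
      · rw [E_le_iff]; simp
  · rintro ⟨h1, h2⟩
    have hd := decomp k u v hu hv f h1 h2
    rw [hd]
    refine Submodule.add_mem _ (Submodule.add_mem _ ?_ ?_) ?_
    · apply Ideal.mem_sup_left
      rw [← X0X1, Ideal.mem_span_singleton']
      exact ⟨shift k (E 1 1) (fun _ => True) f, by rw [map_zero, sub_zero, mul_comm]⟩
    · apply Ideal.mem_sup_right
      rw [← X0u]
      exact Ideal.mul_mem_right _ _ (Ideal.subset_span (by simp))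
    · apply Ideal.mem_sup_right
      have : (monomial (E 0 v) 1 : MvPowerSeries (Fin 2) k) = C w⁻¹ * (C w * X 1 ^ v) := by
        rw [← X1v, ← mul_assoc, ← map_mul, inv_mul_cancel₀ hw]
        simp
      rw [this, mul_assoc]
      exact Ideal.mul_mem_left _ _ (Ideal.mul_mem_right _ _ (Ideal.subset_span (by simp)))


theorem main (k : Type u) [Field k] (u v : ℕ) (hu : 1 ≤ u) (hv : 1 ≤ v) (w : k) (hw : w ≠ 0) :
    Module.finrank k (SpinCurv.NodeRing k 0 ⧸
      Ideal.span {SpinCurv.NodeRing.x k 0 ^ u,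
        algebraMap k (SpinCurv.NodeRing k 0) w * SpinCurv.NodeRing.y k 0 ^ v}) =
      u + v - 1 := by
  have hJ : Ideal.map (Ideal.Quotient.mkₐ k
      (Ideal.span {(X 0 * X 1 - C 0 : MvPowerSeries (Fin 2) k)}))
      (Ideal.span {(X 0 ^ u : MvPowerSeries (Fin 2) k), C w * X 1 ^ v}) =
      Ideal.span {SpinCurv.NodeRing.x k 0 ^ u,
        algebraMap k (SpinCurv.NodeRing k 0) w * SpinCurv.NodeRing.y k 0 ^ v} := by
    rw [Ideal.map_span, Set.image_pair, map_pow, map_mul, map_pow]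
    rfl
  have e3 := Ideal.quotientEquivAlgOfEq k hJ
  have e1 := DoubleQuot.quotQuotEquivQuotSupₐ k
    (Ideal.span {(X 0 * X 1 - C 0 : MvPowerSeries (Fin 2) k)})
    (Ideal.span {(X 0 ^ u : MvPowerSeries (Fin 2) k), C w * X 1 ^ v})
  have e4 := Submodule.Quotient.restrictScalarsEquiv k
    (Ideal.span {(X 0 * X 1 - C 0 : MvPowerSeries (Fin 2) k)} ⊔
      Ideal.span {(X 0 ^ u : MvPowerSeries (Fin 2) k), C w * X 1 ^ v})
  have hker : (Ideal.span {(X 0 * X 1 - C 0 : MvPowerSeries (Fin 2) k)} ⊔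
      Ideal.span {(X 0 ^ u : MvPowerSeries (Fin 2) k), C w * X 1 ^ v}).restrictScalars k =
      LinearMap.ker (Φ k u v) := by
    ext f
    rw [Submodule.restrictScalars_mem, LinearMap.mem_ker]
    exact mem_iff k u v hu hv w hw f
  have e5 := Submodule.quotEquivOfEq _ _ hker
  have e6 := (Φ k u v).quotKerEquivOfSurjective (Φ_surj k u v)
  rw [← e3.toLinearEquiv.finrank_eq, e1.toLinearEquiv.finrank_eq, ← e4.finrank_eq,
    e5.finrank_eq, e6.finrank_eq, Module.finrank_prod, Module.finrank_fin_fun,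
    Module.finrank_fin_fun]
  omega

end Groth.Agent.S18434aux

namespace Groth.Agent.S18434

/-- Let k be a field, u, v ≥ 1 integers and w ∈ k nonzero. In the ring A = k[[x, y]]/(xy), the quotient
A/(x^u, w y^v) has dimension u + v - 1 over k (a basis is 1, x, …, x^{u-1}, y, …, y^{v-1}); this is
the length of the cokernel at the node of a map whose image is generated by x^u and w y^v. -/
theorem result (k : Type u) [Field k] (u v : ℕ) (hu : 1 ≤ u) (hv : 1 ≤ v)
    (w : k) (hw : w ≠ 0) :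
    Module.finrank k (SpinCurv.NodeRing k 0 ⧸
      Ideal.span {SpinCurv.NodeRing.x k 0 ^ u, algebraMap k (SpinCurv.NodeRing k 0) w * SpinCurv.NodeRing.y k 0 ^ v}) =
      u + v - 1 := by
  exact Groth.Agent.S18434aux.main k u v hu hv w hw

end Groth.Agent.S18434
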