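import Groth.Statements.S18435
import Mathlib

set_option autoImplicit false
universe u
open SpinCurv

namespace Groth.Agent.S18435aux
open MvPolynomial


variable {k : Type*} [Field k]

local notation "P2" => MvPolynomial (Fin 2) k

/-- `f - aeval g f` lies in the ideal generated by the `X i - g i` -/
theorem sub_aeval_mem {σ : Type*} (g : σ → MvPolynomial σ k) (I : Ideal (MvPolynomial σ k))
    (hI : ∀ i, X i - g i ∈ I) (f : MvPolynomial σ k) : f - aeval g f ∈ I := by
  induction f using MvPolynomial.induction_on with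
  | C a => simp
  | add p q hp hq =>
    rw [map_add]
    have : p + q - (aeval g p + aeval g q) = (p - aeval g p) + (q - aeval g q) := by ring
    rw [this]; exact I.add_mem hp hq
  | mul_X p i hp =>
    rw [map_mul, aeval_X]
    have : p * X i - aeval g p * g i = (p - aeval g p) * X i + aeval g p * (X i - g i) := by ring
    rw [this]
    exact I.add_mem (I.mul_mem_right _ hp) (I.mul_mem_left _ (hI i))

/-- evaluation `X 0 ↦ X, X 1 ↦ 0` -/
noncomputable def e : P2 →ₐ[k] Polynomial k := aeval ![Polynomial.X, 0]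

theorem e_X0 : e (X 0 : P2) = Polynomial.X := by simp [e]
theorem e_X1 : e (X 1 : P2) = 0 := by simp [e]

theorem exists_mul_X1_of_e_eq_zero (H : P2) (h : e H = 0) : ∃ H', H = X 1 * H' := by
  have h1 := sub_aeval_mem (![X 0, 0] : Fin 2 → P2) (Ideal.span {X 1}) (by
    intro i; fin_cases i
    · simp
    · simp) H
  have h2 : aeval (![X 0, 0] : Fin 2 → P2) = (Polynomial.aeval (X 0 : P2)).comp (e (k := k)) := by
    apply MvPolynomial.algHom_ext
    intro i; fin_cases i
    · simp [e]
    · simp [e]
  rw [h2, AlgHom.comp_apply, h, map_zero, sub_zero, Ideal.mem_span_singleton] at h1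
  exact h1

theorem exists_mul_X0_of_X1_mul_mem (H : P2)
    (h : (X 1 : P2) * H ∈ Ideal.span {(X 0 * X 1 - C 0 : P2)}) : ∃ H', H = X 0 * H' := by
  rw [Ideal.mem_span_singleton] at h
  obtain ⟨c, hc⟩ := h
  refine ⟨c, ?_⟩
  have hX1 : (X 1 : P2) ≠ 0 := X_ne_zero _
  apply mul_left_cancel₀ hX1
  rw [hc, C_0]; ring


end Groth.Agent.S18435aux

namespace Groth.Agent.S18435aux2
open Polynomial LaurentPolynomial


variable {k : Type*} [Field k]

theorem tl_coeff_nat (f : Polynomial k) (n : ℕ) : (toLaurent f).coeff (n : ℤ) = f.coeff n := by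
  rw [coeff_toLaurent]
  exact Finsupp.mapDomain_apply Nat.castEmbedding.injective _ n

theorem tl_coeff_neg (f : Polynomial k) (z : ℤ) (hz : z < 0) : (toLaurent f).coeff z = 0 := by
  rw [coeff_toLaurent]
  apply Finsupp.mapDomain_of_notMem_range
  rintro ⟨n, hn⟩
  have : (n : ℤ) = z := hn
  omega

theorem laurent_key (p q : Polynomial k)
    (h : toLaurent (X * p) = T 1 * invert (toLaurent (X * q))) : p = 0 ∧ q = 0 := by
  have h1 : toLaurent p = invert (toLaurent (X * q)) := by
    rw [map_mul, toLaurent_X] at h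
    exact (isUnit_T (R := k) 1).mul_left_cancel h
  have hp : p = 0 := by
    ext m
    rw [← tl_coeff_nat, h1, invert_apply, Polynomial.coeff_zero]
    rcases Nat.eq_zero_or_pos m with rfl | hm
    · have : (-((0 : ℕ) : ℤ)) = ((0 : ℕ) : ℤ) := by simp
      rw [this, tl_coeff_nat]
      simp
    · exact tl_coeff_neg _ _ (by omega)
  refine ⟨hp, ?_⟩
  rw [hp, map_zero] at h1
  have h2 : toLaurent (X * q) = 0 := by
    have := congrArg invert h1
    rw [map_zero] at this
    rw [← involutive_invert (toLaurent (X * q)), ← this]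
  rw [toLaurent_eq_zero] at h2
  rcases mul_eq_zero.1 h2 with h3 | h3
  · exact absurd h3 Polynomial.X_ne_zero
  · exact h3


end Groth.Agent.S18435aux2

open Groth.Agent.S18435aux Groth.Agent.S18435aux2

namespace Groth.Agent.S18435

/-- Let k be a field and A = k[x, y]/(xy) the node, with the two affine charts U = Spec k[s, y]/(sy) and
V = Spec k[t, x]/(tx) of the curve obtained by the (p, q)-construction with p = q = 0, glued along
k[s, s⁻¹] by t = s⁻¹ (y ↦ 0 from U, x ↦ 0 from V), and with A → O(U) given by x ↦ 0, y ↦ y and A →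
O(V) by x ↦ x, y ↦ 0. A global section of O(1) is a pair (g, f) with g = s f on U ∩ V. If such a
pair is annihilated by both x and y (acting through the two restriction maps), then g = 0 and f = 0;
so the module of global sections of O(1) has no nonzero element killed by the maximal ideal (x, y),
i.e. its direct image on the node is torsion-free there. All three coordinate rings are written as
the quotient of the polynomial ring in two variables by the product of the variables, and the four
restriction homomorphisms are k-algebra maps pinned by their values on generators. (The published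
proof reduces the torsion-freeness of the direct image of O(1), for general R, p, q, to exactly this
case of a field with p = q = 0.) -/
theorem result (k : Type u) [Field k]
    (rU : SpinCurv.PolyNodeRing k 0 →ₐ[k] SpinCurv.PolyNodeRing k 0)
    (hrUx : rU (SpinCurv.PolyNodeRing.x k 0) = 0)
    (hrUy : rU (SpinCurv.PolyNodeRing.y k 0) = SpinCurv.PolyNodeRing.y k 0)
    (rV : SpinCurv.PolyNodeRing k 0 →ₐ[k] SpinCurv.PolyNodeRing k 0)
    (hrVx : rV (SpinCurv.PolyNodeRing.x k 0) = SpinCurv.PolyNodeRing.y k 0)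
    (hrVy : rV (SpinCurv.PolyNodeRing.y k 0) = 0)
    (gU : SpinCurv.PolyNodeRing k 0 →ₐ[k] LaurentPolynomial k)
    (hgUs : gU (SpinCurv.PolyNodeRing.x k 0) = LaurentPolynomial.T 1)
    (hgUy : gU (SpinCurv.PolyNodeRing.y k 0) = 0)
    (gV : SpinCurv.PolyNodeRing k 0 →ₐ[k] LaurentPolynomial k)
    (hgVt : gV (SpinCurv.PolyNodeRing.x k 0) = LaurentPolynomial.T (-1))
    (hgVx : gV (SpinCurv.PolyNodeRing.y k 0) = 0)
    (g f : SpinCurv.PolyNodeRing k 0) (hsec : gU g = LaurentPolynomial.T 1 * gV f)
    (hx : rU (SpinCurv.PolyNodeRing.x k 0) * g = 0 ∧ rV (SpinCurv.PolyNodeRing.x k 0) * f = 0)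
    (hy : rU (SpinCurv.PolyNodeRing.y k 0) * g = 0 ∧ rV (SpinCurv.PolyNodeRing.y k 0) * f = 0) :
    g = 0 ∧ f = 0 := by
  obtain ⟨G, rfl⟩ := Ideal.Quotient.mk_surjective g
  obtain ⟨F, rfl⟩ := Ideal.Quotient.mk_surjective f
  have hyg : (MvPolynomial.X 1 : MvPolynomial (Fin 2) k) * G ∈
      Ideal.span {(MvPolynomial.X 0 * MvPolynomial.X 1 - MvPolynomial.C 0 : MvPolynomial (Fin 2) k)} := by
    have := hy.1
    rw [hrUy, ← map_mul, Ideal.Quotient.eq_zero_iff_mem] at this
    exact this
  have hyf : (MvPolynomial.X 1 : MvPolynomial (Fin 2) k) * F ∈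
      Ideal.span {(MvPolynomial.X 0 * MvPolynomial.X 1 - MvPolynomial.C 0 : MvPolynomial (Fin 2) k)} := by
    have := hx.2
    rw [hrVx, ← map_mul, Ideal.Quotient.eq_zero_iff_mem] at this
    exact this
  obtain ⟨G', rfl⟩ := exists_mul_X0_of_X1_mul_mem G hyg
  obtain ⟨F', rfl⟩ := exists_mul_X0_of_X1_mul_mem F hyf
  have hU : gU.comp (Ideal.Quotient.mkₐ k _) = (Polynomial.toLaurentAlg).comp (e (k := k)) := by
    apply MvPolynomial.algHom_ext
    intro i
    fin_cases i
    · simpa [e] using hgUs
    · simpa [e] using hgUy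
  have hV : gV.comp (Ideal.Quotient.mkₐ k _) =
      (LaurentPolynomial.invert : _ ≃ₐ[k] _).toAlgHom.comp ((Polynomial.toLaurentAlg).comp (e (k := k))) := by
    apply MvPolynomial.algHom_ext
    intro i
    fin_cases i
    · simpa [e] using hgVt
    · simpa [e] using hgVx
  have hUg : gU (Ideal.Quotient.mk _ (MvPolynomial.X 0 * G')) =
      Polynomial.toLaurent (Polynomial.X * e G') := by
    have := AlgHom.congr_fun hU (MvPolynomial.X 0 * G')
    simpa [e_X0] using this
  have hVf : gV (Ideal.Quotient.mk _ (MvPolynomial.X 0 * F')) =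
      LaurentPolynomial.invert (Polynomial.toLaurent (Polynomial.X * e F')) := by
    have := AlgHom.congr_fun hV (MvPolynomial.X 0 * F')
    simpa [e_X0] using this
  rw [hUg, hVf] at hsec
  obtain ⟨hp, hq⟩ := laurent_key _ _ hsec
  obtain ⟨G'', rfl⟩ := exists_mul_X1_of_e_eq_zero G' hp
  obtain ⟨F'', rfl⟩ := exists_mul_X1_of_e_eq_zero F' hq
  constructor
  · rw [Ideal.Quotient.eq_zero_iff_mem, Ideal.mem_span_singleton]
    exact ⟨G'', by rw [MvPolynomial.C_0]; ring⟩
  · rw [Ideal.Quotient.eq_zero_iff_mem, Ideal.mem_span_singleton]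
    exact ⟨F'', by rw [MvPolynomial.C_0]; ring⟩

end Groth.Agent.S18435
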