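import Groth.Statements.S18436
import Groth.Agent.Lib.helper29.NodeBasis
import Mathlib

set_option autoImplicit false
universe u
open SpinCurv

namespace Groth.Agent.S18436

open Groth.Agent.Lib.helper29.NodeBasis LaurentPolynomial

section
variable (R : Type u) [CommRing R] (p q : R)
    (gU : SpinCurv.PolyNodeRing R q →ₐ[R] LaurentPolynomial R)
    (hgUs : gU (SpinCurv.PolyNodeRing.x R q) = LaurentPolynomial.T 1)
    (hgUy : gU (SpinCurv.PolyNodeRing.y R q) = LaurentPolynomial.C q * LaurentPolynomial.T (-1))
    (gV : SpinCurv.PolyNodeRing R p →ₐ[R] LaurentPolynomial R)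
    (hgVt : gV (SpinCurv.PolyNodeRing.x R p) = LaurentPolynomial.T (-1))
    (hgVx : gV (SpinCurv.PolyNodeRing.y R p) = LaurentPolynomial.C p * LaurentPolynomial.T 1)
    (n : ℤ)

include hgUs hgUy in
lemma gU_bmon (e : ℤ) : gU (bmon R q e) = C (q ^ (-e).toNat) * T e := by
  rw [bmon, map_mul, map_pow, map_pow, hgUs, hgUy, mul_pow, ← map_pow, T_pow, T_pow]
  have hT : (T e : LaurentPolynomial R) = T ((e.toNat : ℤ) * 1) * T (((-e).toNat : ℤ) * (-1)) := by
    rw [← T_add]; congr 1; omega
  rw [hT]
  ring

include hgVt hgVx in
lemma gV_bmon (e : ℤ) : gV (bmon R p e) = C (p ^ (-e).toNat) * T (-e) := by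
  rw [bmon, map_mul, map_pow, map_pow, hgVt, hgVx, mul_pow, ← map_pow, T_pow, T_pow]
  have hT : (T (-e) : LaurentPolynomial R) =
      T ((e.toNat : ℤ) * (-1)) * T (((-e).toNat : ℤ) * 1) := by
    rw [← T_add]; congr 1; omega
  rw [hT]
  ring

/-- coefficient functional -/
noncomputable def cf (e : ℤ) : LaurentPolynomial R →ₗ[R] R where
  toFun f := f.coeff e
  map_add' _ _ := rfl
  map_smul' _ _ := rfl

lemma cf_CT (e i : ℤ) (a : R) : cf R e (C a * T i) = if i = e then a else 0 := by
  rw [← single_eq_C_mul_T]
  show (AddMonoidAlgebra.single i a).coeff e = _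
  rw [AddMonoidAlgebra.coeff_single, Finsupp.single_apply]

include hgUs hgUy in
lemma coeff_gU (e : ℤ) (g : PolyNodeRing R q) :
    (gU g).coeff e = q ^ (-e).toNat * (basis R q).repr g e := by
  have : (cf R e) ∘ₗ gU.toLinearMap = (q ^ (-e).toNat) • (basis R q).coord e := by
    apply (basis R q).ext
    intro i
    rw [LinearMap.comp_apply, AlgHom.toLinearMap_apply, LinearMap.smul_apply,
      Module.Basis.coord_apply, Module.Basis.repr_self, basis_apply,
      gU_bmon R q gU hgUs hgUy, cf_CT, Finsupp.single_apply]
    split_ifs with h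
    · rw [h]; simp
    · simp
  exact LinearMap.congr_fun this g

include hgVt hgVx in
lemma coeff_TgV (e : ℤ) (f : PolyNodeRing R p) :
    (T n * gV f).coeff e = p ^ (e - n).toNat * (basis R p).repr f (n - e) := by
  have : (cf R e) ∘ₗ (LinearMap.mulLeft R (T n)) ∘ₗ gV.toLinearMap =
      (p ^ (e - n).toNat) • (basis R p).coord (n - e) := by
    apply (basis R p).ext
    intro i
    rw [LinearMap.comp_apply, LinearMap.comp_apply, AlgHom.toLinearMap_apply,
      LinearMap.mulLeft_apply, LinearMap.smul_apply,
      Module.Basis.coord_apply, Module.Basis.repr_self, basis_apply,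
      gV_bmon R p gV hgVt hgVx]
    have h1 : T n * (C (p ^ (-i).toNat) * T (-i)) = C (p ^ (-i).toNat) * T (n - i) := by
      rw [sub_eq_add_neg, T_add]; ring
    rw [h1, cf_CT, Finsupp.single_apply]
    by_cases h : n - i = e
    · have h' : i = n - e := by omega
      rw [if_pos h, if_pos h']
      have : -i = e - n := by omega
      rw [this]; simp
    · have h' : ¬ i = n - e := by omega
      rw [if_neg h, if_neg h']; simp
  exact LinearMap.congr_fun this f

/-- the generating family of the kernel -/
noncomputable def v (e : ℤ) : PolyNodeRing R q × PolyNodeRing R p :=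
  (p ^ (e - n).toNat • basis R q e, q ^ (-e).toNat • basis R p (n - e))

/-- parametrisation of the kernel -/
noncomputable def Ψ : (ℤ →₀ R) →ₗ[R] PolyNodeRing R q × PolyNodeRing R p :=
  Finsupp.linearCombination R (v R p q n)

lemma Ψ_fst (c : ℤ →₀ R) (e' : ℤ) :
    (basis R q).repr (Ψ R p q n c).1 e' = p ^ (e' - n).toNat * c e' := by
  have : (Finsupp.lapply e') ∘ₗ (basis R q).repr.toLinearMap ∘ₗ (LinearMap.fst R _ _) ∘ₗ (Ψ R p q n)
      = (p ^ (e' - n).toNat) • Finsupp.lapply e' := by
    apply Finsupp.lhom_ext
    intro e r
    simp only [LinearMap.comp_apply, Ψ, Finsupp.linearCombination_single, LinearMap.fst_apply,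
      Prod.smul_fst, v, LinearEquiv.coe_coe, map_smul, Module.Basis.repr_self,
      Finsupp.lapply_apply, Finsupp.smul_apply, Finsupp.single_apply, LinearMap.smul_apply,
      smul_eq_mul]
    split_ifs with h
    · rw [h]; ring
    · simp
  exact LinearMap.congr_fun this c

lemma Ψ_snd (c : ℤ →₀ R) (e'' : ℤ) :
    (basis R p).repr (Ψ R p q n c).2 e'' = q ^ (-(n - e'')).toNat * c (n - e'') := by
  have : (Finsupp.lapply e'') ∘ₗ (basis R p).repr.toLinearMap ∘ₗ (LinearMap.snd R _ _) ∘ₗ (Ψ R p q n)
      = (q ^ (-(n - e'')).toNat) • Finsupp.lapply (n - e'') := by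
    apply Finsupp.lhom_ext
    intro e r
    simp only [LinearMap.comp_apply, Ψ, Finsupp.linearCombination_single, LinearMap.snd_apply,
      Prod.smul_snd, v, LinearEquiv.coe_coe, map_smul, Module.Basis.repr_self,
      Finsupp.lapply_apply, Finsupp.smul_apply, Finsupp.single_apply, LinearMap.smul_apply,
      smul_eq_mul]
    by_cases h : n - e = e''
    · have h' : e = n - e'' := by omega
      rw [if_pos h, if_pos h', h']; ring
    · have h' : ¬ e = n - e'' := by omega
      rw [if_neg h, if_neg h']; simp
  exact LinearMap.congr_fun this c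

/-- the map whose kernel we study -/
noncomputable def Φ : PolyNodeRing R q × PolyNodeRing R p →ₗ[R] LaurentPolynomial R :=
  gU.toLinearMap.comp (LinearMap.fst R (SpinCurv.PolyNodeRing R q) (SpinCurv.PolyNodeRing R p)) -
        (LinearMap.mulLeft R (LaurentPolynomial.T n)).comp
          (gV.toLinearMap.comp (LinearMap.snd R (SpinCurv.PolyNodeRing R q) (SpinCurv.PolyNodeRing R p)))

include hgUs hgUy hgVt hgVx in
lemma mem_ker_iff (x : PolyNodeRing R q × PolyNodeRing R p) :
    x ∈ LinearMap.ker (Φ R p q gU gV n) ↔
      ∀ e, q ^ (-e).toNat * (basis R q).repr x.1 e =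
        p ^ (e - n).toNat * (basis R p).repr x.2 (n - e) := by
  have hΦ : Φ R p q gU gV n x = gU x.1 - T n * gV x.2 := rfl
  rw [LinearMap.mem_ker, hΦ, sub_eq_zero]
  constructor
  · intro h e
    rw [← coeff_gU R q gU hgUs hgUy, ← coeff_TgV R p gV hgVt hgVx, h]
  · intro h
    apply LaurentPolynomial.ext
    intro e
    rw [coeff_gU R q gU hgUs hgUy, coeff_TgV R p gV hgVt hgVx]
    exact h e

include hgUs hgUy hgVt hgVx in
theorem result' (hn : -1 ≤ n) : Module.Free R (LinearMap.ker (Φ R p q gU gV n)) := by
  have hinj : Function.Injective (Ψ R p q n) := by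
    rw [← LinearMap.ker_eq_bot, LinearMap.ker_eq_bot']
    intro c hc
    ext e
    rw [Finsupp.zero_apply]
    by_cases he : e < 0
    · have h1 := Ψ_fst R p q n c e
      rw [hc] at h1
      have h2 : (e - n).toNat = 0 := by omega
      rw [h2, pow_zero, one_mul] at h1
      rw [← h1]; simp
    · have h1 := Ψ_snd R p q n c (n - e)
      rw [hc] at h1
      have h3 : n - (n - e) = e := by ring
      rw [h3] at h1
      have h2 : (-e).toNat = 0 := by omega
      rw [h2, pow_zero, one_mul] at h1
      rw [← h1]; simp
  have hrange : LinearMap.range (Ψ R p q n) = LinearMap.ker (Φ R p q gU gV n) := by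
    apply le_antisymm
    · rintro _ ⟨c, rfl⟩
      rw [mem_ker_iff R p q gU hgUs hgUy gV hgVt hgVx]
      intro e
      rw [Ψ_fst, Ψ_snd]
      have h3 : n - (n - e) = e := by ring
      rw [h3]; ring
    · intro x hx
      rw [mem_ker_iff R p q gU hgUs hgUy gV hgVt hgVx] at hx
      set u := (basis R q).repr x.1 with hu
      set w := (basis R p).repr x.2 with hw
      let c : ℤ →₀ R := Finsupp.onFinset (u.support ∪ w.support.image (fun e => n - e))
        (fun e => if e < 0 then u e else w (n - e)) (by
          intro e he
          rw [Finset.mem_union, Finset.mem_image]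
          by_cases h : e < 0
          · rw [if_pos h] at he
            left; exact Finsupp.mem_support_iff.2 he
          · rw [if_neg h] at he
            right
            exact ⟨n - e, Finsupp.mem_support_iff.2 he, by ring⟩)
      have hc : ∀ e, c e = if e < 0 then u e else w (n - e) := fun e => rfl
      refine ⟨c, ?_⟩
      apply Prod.ext
      · apply (basis R q).ext_elem
        intro e
        rw [Ψ_fst, hc]
        by_cases h : e < 0
        · rw [if_pos h]
          have h2 : (e - n).toNat = 0 := by omega
          rw [h2, pow_zero, one_mul]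
        · rw [if_neg h]
          have := hx e
          have h2 : (-e).toNat = 0 := by omega
          rw [h2, pow_zero, one_mul] at this
          rw [this]
      · apply (basis R p).ext_elem
        intro e''
        rw [Ψ_snd, hc]
        by_cases h : n - e'' < 0
        · rw [if_pos h]
          have := hx (n - e'')
          have h2 : (n - e'' - n).toNat = 0 := by omega
          have h3 : n - (n - e'') = e'' := by ring
          rw [h2, pow_zero, one_mul, h3] at this
          rw [this]
        · rw [if_neg h]
          have h2 : (-(n - e'')).toNat = 0 := by omega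
          have h3 : n - (n - e'') = e'' := by ring
          rw [h2, pow_zero, one_mul, h3]
  rw [← hrange]
  exact Module.Free.of_equiv (LinearEquiv.ofInjective (Ψ R p q n) hinj)

end

/-- Let R be a commutative ring and p, q ∈ R, and consider the two affine charts U = Spec R[s, y]/(sy -
q) and V = Spec R[t, x]/(xt - p) of the curve obtained from the node xy = pq by the (p,
q)-construction, glued along R[s, s⁻¹] by t = s⁻¹ (so y = q s⁻¹ on U and x = p s on V). For an
integer n ≥ -1 the global sections of the twisting sheaf O(n) (equal to vⁿ O on U and to ξⁿ O on V,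
ξ = s v) are the pairs (g, f) of functions on U and V with g = sⁿ f on U ∩ V. This R-module, written
as the kernel of the R-linear map (g, f) ↦ g|_{U ∩ V} - sⁿ · f|_{U ∩ V} into R[s, s⁻¹], is free over
R (hence the direct image of O(n) on the node is flat over R). Both chart rings are written as the
quotient of the polynomial ring in two variables by (first variable)·(second variable) - constant,
and the two restriction homomorphisms to R[s, s⁻¹] are R-algebra maps pinned by their values on
generators. (The published setting has R complete local and p, q in the maximal ideal; the printed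
computation uses neither.) -/
theorem result (R : Type u) [CommRing R] (p q : R)
    (gU : SpinCurv.PolyNodeRing R q →ₐ[R] LaurentPolynomial R)
    (hgUs : gU (SpinCurv.PolyNodeRing.x R q) = LaurentPolynomial.T 1)
    (hgUy : gU (SpinCurv.PolyNodeRing.y R q) = LaurentPolynomial.C q * LaurentPolynomial.T (-1))
    (gV : SpinCurv.PolyNodeRing R p →ₐ[R] LaurentPolynomial R)
    (hgVt : gV (SpinCurv.PolyNodeRing.x R p) = LaurentPolynomial.T (-1))
    (hgVx : gV (SpinCurv.PolyNodeRing.y R p) = LaurentPolynomial.C p * LaurentPolynomial.T 1)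
    (n : ℤ) (hn : -1 ≤ n) :
    Module.Free R (LinearMap.ker
      (gU.toLinearMap.comp (LinearMap.fst R (SpinCurv.PolyNodeRing R q) (SpinCurv.PolyNodeRing R p)) -
        (LinearMap.mulLeft R (LaurentPolynomial.T n)).comp
          (gV.toLinearMap.comp (LinearMap.snd R (SpinCurv.PolyNodeRing R q) (SpinCurv.PolyNodeRing R p))))) := by
  exact result' R p q gU hgUs hgUy gV hgVt hgVx n hn

end Groth.Agent.S18436
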