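import Groth.Statements.S18437
import Groth.Agent.S18436
import Mathlib

set_option autoImplicit false
universe u
open SpinCurv

namespace Groth.Agent.S18437

open Groth.Agent.Lib.helper29.NodeBasis LaurentPolynomial Groth.Agent.S18436

section
variable (R : Type u) [CommRing R] (π : R)

lemma xy_eq : PolyNodeRing.x R π * PolyNodeRing.y R π = algebraMap R _ π := by
  rw [← sub_eq_zero]
  have : (PolyNodeRing.x R π * PolyNodeRing.y R π - algebraMap R _ π : PolyNodeRing R π) =
      Ideal.Quotient.mk _ (MvPolynomial.X 0 * MvPolynomial.X 1 - MvPolynomial.C π) := by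
    rw [map_sub, map_mul]; rfl
  rw [this, Ideal.Quotient.eq_zero_iff_mem]
  exact Ideal.subset_span rfl

lemma algHom_ext' {B : Type*} [CommRing B] [Algebra R B] (f g : PolyNodeRing R π →ₐ[R] B)
    (hx : f (PolyNodeRing.x R π) = g (PolyNodeRing.x R π))
    (hy : f (PolyNodeRing.y R π) = g (PolyNodeRing.y R π)) : f = g := by
  apply Ideal.Quotient.algHom_ext
  apply MvPolynomial.algHom_ext
  intro i
  fin_cases i
  · exact hx
  · exact hy
end

section
variable (R : Type u) [CommRing R] (p q : R)
    (gU : SpinCurv.PolyNodeRing R q →ₐ[R] LaurentPolynomial R)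
    (hgUs : gU (SpinCurv.PolyNodeRing.x R q) = LaurentPolynomial.T 1)
    (hgUy : gU (SpinCurv.PolyNodeRing.y R q) = LaurentPolynomial.C q * LaurentPolynomial.T (-1))
    (gV : SpinCurv.PolyNodeRing R p →ₐ[R] LaurentPolynomial R)
    (hgVt : gV (SpinCurv.PolyNodeRing.x R p) = LaurentPolynomial.T (-1))
    (hgVx : gV (SpinCurv.PolyNodeRing.y R p) = LaurentPolynomial.C p * LaurentPolynomial.T 1)
    (n : ℤ)

omit gU hgUs hgUy gV hgVt hgVx in
theorem Ψ_inj (hn : -1 ≤ n) : Function.Injective (Ψ R p q n) := by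
    rw [← LinearMap.ker_eq_bot, LinearMap.ker_eq_bot']
    intro c hc
    ext e
    rw [Finsupp.zero_apply]
    by_cases he : e < 0
    · have h1 := Ψ_fst R p q n c e
      rw [hc] at h1
      have h2 : (e - n).toNat = 0 := by omega
      rw [h2, pow_zero, one_mul] at h1
      rw [← h1]; simp
    · have h1 := Ψ_snd R p q n c (n - e)
      rw [hc] at h1
      have h3 : n - (n - e) = e := by ring
      rw [h3] at h1
      have h2 : (-e).toNat = 0 := by omega
      rw [h2, pow_zero, one_mul] at h1
      rw [← h1]; simp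

include hgUs hgUy hgVt hgVx in
theorem Ψ_range (hn : -1 ≤ n) :
    LinearMap.range (Ψ R p q n) = LinearMap.ker (Φ R p q gU gV n) := by
    apply le_antisymm
    · rintro _ ⟨c, rfl⟩
      rw [mem_ker_iff R p q gU hgUs hgUy gV hgVt hgVx]
      intro e
      rw [Ψ_fst, Ψ_snd]
      have h3 : n - (n - e) = e := by ring
      rw [h3]; ring
    · intro x hx
      rw [mem_ker_iff R p q gU hgUs hgUy gV hgVt hgVx] at hx
      set u := (basis R q).repr x.1 with hu
      set w := (basis R p).repr x.2 with hw
      let c : ℤ →₀ R := Finsupp.onFinset (u.support ∪ w.support.image (fun e => n - e))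
        (fun e => if e < 0 then u e else w (n - e)) (by
          intro e he
          rw [Finset.mem_union, Finset.mem_image]
          by_cases h : e < 0
          · rw [if_pos h] at he
            left; exact Finsupp.mem_support_iff.2 he
          · rw [if_neg h] at he
            right
            exact ⟨n - e, Finsupp.mem_support_iff.2 he, by ring⟩)
      have hc : ∀ e, c e = if e < 0 then u e else w (n - e) := fun e => rfl
      refine ⟨c, ?_⟩
      apply Prod.ext
      · apply (basis R q).ext_elem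
        intro e
        rw [Ψ_fst, hc]
        by_cases h : e < 0
        · rw [if_pos h]
          have h2 : (e - n).toNat = 0 := by omega
          rw [h2, pow_zero, one_mul]
        · rw [if_neg h]
          have := hx e
          have h2 : (-e).toNat = 0 := by omega
          rw [h2, pow_zero, one_mul] at this
          rw [this]
      · apply (basis R p).ext_elem
        intro e''
        rw [Ψ_snd, hc]
        by_cases h : n - e'' < 0
        · rw [if_pos h]
          have := hx (n - e'')
          have h2 : (n - e'' - n).toNat = 0 := by omega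
          have h3 : n - (n - e'') = e'' := by ring
          rw [h2, pow_zero, one_mul, h3] at this
          rw [this]
        · rw [if_neg h]
          have h2 : (-(n - e'')).toNat = 0 := by omega
          have h3 : n - (n - e'') = e'' := by ring
          rw [h2, pow_zero, one_mul, h3]
end

section
variable (R : Type u) [CommRing R] (p q : R)
    (rU : SpinCurv.PolyNodeRing R (p * q) →ₐ[R] SpinCurv.PolyNodeRing R q)
    (hrUx : rU (SpinCurv.PolyNodeRing.x R (p * q)) = algebraMap R _ p * SpinCurv.PolyNodeRing.x R q)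
    (hrUy : rU (SpinCurv.PolyNodeRing.y R (p * q)) = SpinCurv.PolyNodeRing.y R q)
    (rV : SpinCurv.PolyNodeRing R (p * q) →ₐ[R] SpinCurv.PolyNodeRing R p)
    (hrVx : rV (SpinCurv.PolyNodeRing.x R (p * q)) = SpinCurv.PolyNodeRing.y R p)
    (hrVy : rV (SpinCurv.PolyNodeRing.y R (p * q)) = algebraMap R _ q * SpinCurv.PolyNodeRing.x R p)
    (gU : SpinCurv.PolyNodeRing R q →ₐ[R] LaurentPolynomial R)
    (hgUs : gU (SpinCurv.PolyNodeRing.x R q) = LaurentPolynomial.T 1)
    (hgUy : gU (SpinCurv.PolyNodeRing.y R q) = LaurentPolynomial.C q * LaurentPolynomial.T (-1))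
    (gV : SpinCurv.PolyNodeRing R p →ₐ[R] LaurentPolynomial R)
    (hgVt : gV (SpinCurv.PolyNodeRing.x R p) = LaurentPolynomial.T (-1))
    (hgVx : gV (SpinCurv.PolyNodeRing.y R p) = LaurentPolynomial.C p * LaurentPolynomial.T 1) (n : ℕ)

/-- the section map -/
noncomputable def Θ : (Fin (n + 1) → PolyNodeRing R (p * q)) →ₗ[R]
    PolyNodeRing R q × PolyNodeRing R p where
  toFun F := (∑ i : Fin (n + 1), rU (F i) * SpinCurv.PolyNodeRing.x R q ^ (n - (i : ℕ)),
         ∑ i : Fin (n + 1), rV (F i) * SpinCurv.PolyNodeRing.x R p ^ (i : ℕ))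
  map_add' F G := by
    simp only [Pi.add_apply, map_add, add_mul, Finset.sum_add_distrib, Prod.mk_add_mk]
  map_smul' c F := by
    simp only [Pi.smul_apply, map_smul, smul_mul_assoc, ← Finset.smul_sum, Prod.smul_mk,
      RingHom.id_apply]

lemma Θ_single (i : Fin (n + 1)) (a : PolyNodeRing R (p * q)) :
    Θ R p q rU rV n (Pi.single i a) =
      (rU a * PolyNodeRing.x R q ^ (n - (i : ℕ)), rV a * PolyNodeRing.x R p ^ (i : ℕ)) := by
  show (∑ j : Fin (n + 1), rU ((Pi.single i a : Fin (n + 1) → PolyNodeRing R (p * q)) j) * _,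
    ∑ j : Fin (n + 1), rV ((Pi.single i a : Fin (n + 1) → PolyNodeRing R (p * q)) j) * _) = _
  rw [Finset.sum_eq_single i, Finset.sum_eq_single i]
  · rw [Pi.single_eq_same]
  · intro j _ hj
    rw [Pi.single_eq_of_ne hj, map_zero, zero_mul]
  · intro h; exact absurd (Finset.mem_univ i) h
  · intro j _ hj
    rw [Pi.single_eq_of_ne hj, map_zero, zero_mul]
  · intro h; exact absurd (Finset.mem_univ i) h

lemma Θ_smul (a : PolyNodeRing R (p * q)) (F : Fin (n + 1) → PolyNodeRing R (p * q)) :
    Θ R p q rU rV n (a • F) = (rU a, rV a) * Θ R p q rU rV n F := by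
  apply Prod.ext
  · show ∑ i : Fin (n + 1), rU ((a • F) i) * _ = rU a * ∑ i : Fin (n + 1), _
    rw [Finset.mul_sum]
    apply Finset.sum_congr rfl
    intro i _
    rw [Pi.smul_apply, smul_eq_mul, map_mul, mul_assoc]
  · show ∑ i : Fin (n + 1), rV ((a • F) i) * _ = rV a * ∑ i : Fin (n + 1), _
    rw [Finset.mul_sum]
    apply Finset.sum_congr rfl
    intro i _
    rw [Pi.smul_apply, smul_eq_mul, map_mul, mul_assoc]

/-- the lifts of the basis of the kernel -/
noncomputable def S (m : ℤ) : Fin (n + 1) → PolyNodeRing R (p * q) :=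
  Pi.single ⟨min ((n : ℤ) - m).toNat n, Nat.lt_succ_of_le (min_le_right _ _)⟩
    (PolyNodeRing.x R (p * q) ^ (m - n).toNat * PolyNodeRing.y R (p * q) ^ (-m).toNat)

lemma S_eq (m : ℤ) (i : Fin (n + 1)) (a b : ℕ) (hi : (i : ℕ) = min ((n : ℤ) - m).toNat n)
    (ha : a = (m - n).toNat) (hb : b = (-m).toNat) :
    S R p q n m = Pi.single i (PolyNodeRing.x R (p * q) ^ a * PolyNodeRing.y R (p * q) ^ b) := by
  subst ha hb
  rw [S]
  congr 1
  exact Fin.ext hi.symm

include hrUx hrUy hrVx hrVy in
lemma Θ_S (m : ℤ) : Θ R p q rU rV n (S R p q n m) = v R p q (n : ℤ) m := by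
  rw [S, Θ_single, v]
  obtain ⟨k, hk⟩ : ∃ k, k = min ((n : ℤ) - m).toNat n := ⟨_, rfl⟩
  apply Prod.ext
  · show rU _ * PolyNodeRing.x R q ^ (n - min ((n : ℤ) - m).toNat n) =
      p ^ (m - n).toNat • basis R q m
    have hsm : ∀ (r : R) (z : PolyNodeRing R q), r • z = algebraMap R _ r * z :=
      fun r z => Algebra.smul_def r z
    rw [← hk, basis_apply, bmon, map_mul rU, map_pow rU, map_pow rU, hrUx, hrUy, mul_pow,
      ← map_pow (algebraMap R (PolyNodeRing R q)), hsm]
    have h : m.toNat = (m - n).toNat + (n - k) := by omega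
    rw [h, pow_add]; ring
  · show rV _ * PolyNodeRing.x R p ^ (min ((n : ℤ) - m).toNat n) =
      q ^ (-m).toNat • basis R p (n - m)
    have hsm : ∀ (r : R) (z : PolyNodeRing R p), r • z = algebraMap R _ r * z :=
      fun r z => Algebra.smul_def r z
    rw [← hk, basis_apply, bmon, map_mul rV, map_pow rV, map_pow rV, hrVx, hrVy, mul_pow,
      ← map_pow (algebraMap R (PolyNodeRing R p)), hsm]
    have h1 : ((n : ℤ) - m).toNat = (-m).toNat + k := by omega
    have h2 : (-((n : ℤ) - m)).toNat = (m - n).toNat := by congr 1; ring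
    rw [h1, h2, pow_add]; ring

include hrUx hrUy hrVx hrVy hgUs hgUy hgVt hgVx in
lemma hcomp : gU.comp rU = gV.comp rV := by
  apply algHom_ext'
  · show gU (rU _) = gV (rV _)
    rw [hrUx, hrVx, map_mul gU, hgUs, hgVx, AlgHom.commutes]; rfl
  · show gU (rU _) = gV (rV _)
    rw [hrUy, hrVy, map_mul gV, hgUy, hgVt, AlgHom.commutes]; rfl

include hrUx hrUy hrVx hrVy hgUs hgUy hgVt hgVx in
lemma Θ_mem (F : Fin (n + 1) → PolyNodeRing R (p * q)) :
    gU (Θ R p q rU rV n F).1 = T (n : ℤ) * gV (Θ R p q rU rV n F).2 := by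
  have hc : ∀ a, gU (rU a) = gV (rV a) := fun a =>
    AlgHom.congr_fun (hcomp R p q rU hrUx hrUy rV hrVx hrVy gU hgUs hgUy gV hgVt hgVx) a
  show gU (∑ i : Fin (n + 1), rU (F i) * PolyNodeRing.x R q ^ (n - (i : ℕ))) =
    T (n : ℤ) * gV (∑ i : Fin (n + 1), rV (F i) * PolyNodeRing.x R p ^ (i : ℕ))
  rw [map_sum, map_sum, Finset.mul_sum]
  apply Finset.sum_congr rfl
  intro i _
  rw [map_mul gU, map_mul gV, map_pow gU, map_pow gV, hgUs, hgVt, hc, T_pow, T_pow,
    mul_left_comm, ← T_add]
  congr 2
  have : (i : ℕ) ≤ n := Nat.le_of_lt_succ i.2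
  push_cast [Nat.cast_sub this]; ring


/-- the relation submodule -/
noncomputable def W : Submodule (PolyNodeRing R (p * q)) (Fin (n + 1) → PolyNodeRing R (p * q)) :=
  Submodule.span (SpinCurv.PolyNodeRing R (p * q))
        (Set.range (fun i : Fin n =>
            (Pi.single (Fin.castSucc i) (algebraMap R (SpinCurv.PolyNodeRing R (p * q)) p) -
              Pi.single (Fin.succ i) (SpinCurv.PolyNodeRing.x R (p * q)) : Fin (n + 1) → SpinCurv.PolyNodeRing R (p * q))) ∪
         Set.range (fun i : Fin n =>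
            (Pi.single (Fin.castSucc i) (SpinCurv.PolyNodeRing.y R (p * q)) -
              Pi.single (Fin.succ i) (algebraMap R (SpinCurv.PolyNodeRing R (p * q)) q) : Fin (n + 1) → SpinCurv.PolyNodeRing R (p * q))))

/-- relations plus lifts -/
noncomputable def M : Submodule R (Fin (n + 1) → PolyNodeRing R (p * q)) :=
  (W R p q n).restrictScalars R ⊔ Submodule.span R (Set.range (S R p q n))

lemma r1_mem (i : ℕ) (hi : i < n) :
    (Pi.single (⟨i, Nat.lt_succ_of_lt hi⟩ : Fin (n + 1)) (algebraMap R (PolyNodeRing R (p * q)) p) -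
      Pi.single (⟨i + 1, Nat.succ_lt_succ hi⟩ : Fin (n + 1)) (PolyNodeRing.x R (p * q)) :
        Fin (n + 1) → PolyNodeRing R (p * q)) ∈ W R p q n :=
  Submodule.subset_span (Or.inl ⟨⟨i, hi⟩, rfl⟩)

lemma r2_mem (i : ℕ) (hi : i < n) :
    (Pi.single (⟨i, Nat.lt_succ_of_lt hi⟩ : Fin (n + 1)) (PolyNodeRing.y R (p * q)) -
      Pi.single (⟨i + 1, Nat.succ_lt_succ hi⟩ : Fin (n + 1)) (algebraMap R (PolyNodeRing R (p * q)) q) :
        Fin (n + 1) → PolyNodeRing R (p * q)) ∈ W R p q n :=
  Submodule.subset_span (Or.inr ⟨⟨i, hi⟩, rfl⟩)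

lemma S_mem (m : ℤ) : S R p q n m ∈ M R p q n :=
  Submodule.mem_sup_right (Submodule.subset_span ⟨m, rfl⟩)

lemma PX (i : ℕ) (hi : i ≤ n) (k : ℕ) :
    (Pi.single (⟨i, Nat.lt_succ_of_le hi⟩ : Fin (n + 1)) (PolyNodeRing.x R (p * q) ^ k) :
      Fin (n + 1) → PolyNodeRing R (p * q)) ∈ M R p q n := by
  induction i generalizing k with
  | zero =>
    have := S_mem R p q n ((n : ℤ) + k)
    rw [S_eq R p q n ((n : ℤ) + k) ⟨0, Nat.succ_pos n⟩ k 0 (by simp only; omega) (by omega)
      (by omega), pow_zero, mul_one] at this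
    exact this
  | succ i ih =>
    cases k with
    | zero =>
      have := S_mem R p q n ((n : ℤ) - (i + 1))
      rw [S_eq R p q n ((n : ℤ) - (i + 1)) ⟨i + 1, Nat.lt_succ_of_le hi⟩ 0 0
        (by simp only; omega) (by omega) (by omega), pow_zero, pow_zero, mul_one] at this
      rw [pow_zero]
      exact this
    | succ k =>
      have hi' : i < n := hi
      have key : (Pi.single (⟨i + 1, Nat.lt_succ_of_le hi⟩ : Fin (n + 1))
          (PolyNodeRing.x R (p * q) ^ (k + 1)) : Fin (n + 1) → PolyNodeRing R (p * q)) =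
          p • (Pi.single (⟨i, Nat.lt_succ_of_lt hi'⟩ : Fin (n + 1)) (PolyNodeRing.x R (p * q) ^ k) :
            Fin (n + 1) → PolyNodeRing R (p * q)) -
          PolyNodeRing.x R (p * q) ^ k •
            ((Pi.single (⟨i, Nat.lt_succ_of_lt hi'⟩ : Fin (n + 1))
              (algebraMap R (PolyNodeRing R (p * q)) p) : Fin (n + 1) → PolyNodeRing R (p * q)) -
            (Pi.single (⟨i + 1, Nat.succ_lt_succ hi'⟩ : Fin (n + 1)) (PolyNodeRing.x R (p * q)) :
              Fin (n + 1) → PolyNodeRing R (p * q))) := by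
        have hsm : ∀ (r : R) (z : PolyNodeRing R (p * q)), r • z = algebraMap R _ r * z :=
          fun r z => Algebra.smul_def r z
        rw [smul_sub, ← Pi.single_smul, ← Pi.single_smul, ← Pi.single_smul, smul_eq_mul,
          smul_eq_mul, hsm, mul_comm (algebraMap R (PolyNodeRing R (p * q)) p),
          sub_sub_cancel, pow_succ]
      rw [key]
      apply Submodule.sub_mem
      · exact Submodule.smul_mem _ _ (ih (Nat.le_of_lt hi') k)
      · apply Submodule.mem_sup_left
        exact (W R p q n).smul_mem _ (r1_mem R p q n i hi')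

lemma PY (d : ℕ) : ∀ (i : ℕ) (hi : i + d = n) (k : ℕ),
    (Pi.single (⟨i, by omega⟩ : Fin (n + 1)) (PolyNodeRing.y R (p * q) ^ k) :
      Fin (n + 1) → PolyNodeRing R (p * q)) ∈ M R p q n := by
  induction d with
  | zero =>
    intro i hi k
    have := S_mem R p q n (-(k : ℤ))
    rw [S_eq R p q n (-(k : ℤ)) ⟨i, by omega⟩ 0 k (by simp only; omega) (by omega)
      (by omega), pow_zero, one_mul] at this
    exact this
  | succ d ih =>
    intro i hi k
    cases k with
    | zero =>
      have := S_mem R p q n ((n : ℤ) - i)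
      rw [S_eq R p q n ((n : ℤ) - i) ⟨i, by omega⟩ 0 0
        (by simp only; omega) (by omega) (by omega), pow_zero, pow_zero, mul_one] at this
      rw [pow_zero]
      exact this
    | succ k =>
      have hi' : i < n := by omega
      have key : (Pi.single (⟨i, Nat.lt_succ_of_lt hi'⟩ : Fin (n + 1))
          (PolyNodeRing.y R (p * q) ^ (k + 1)) : Fin (n + 1) → PolyNodeRing R (p * q)) =
          PolyNodeRing.y R (p * q) ^ k •
            ((Pi.single (⟨i, Nat.lt_succ_of_lt hi'⟩ : Fin (n + 1)) (PolyNodeRing.y R (p * q)) :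
              Fin (n + 1) → PolyNodeRing R (p * q)) -
            (Pi.single (⟨i + 1, Nat.succ_lt_succ hi'⟩ : Fin (n + 1))
              (algebraMap R (PolyNodeRing R (p * q)) q) : Fin (n + 1) → PolyNodeRing R (p * q))) +
          q • (Pi.single (⟨i + 1, Nat.succ_lt_succ hi'⟩ : Fin (n + 1))
            (PolyNodeRing.y R (p * q) ^ k) : Fin (n + 1) → PolyNodeRing R (p * q)) := by
        have hsm : ∀ (r : R) (z : PolyNodeRing R (p * q)), r • z = algebraMap R _ r * z :=
          fun r z => Algebra.smul_def r z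
        rw [smul_sub, ← Pi.single_smul, ← Pi.single_smul, ← Pi.single_smul, smul_eq_mul,
          smul_eq_mul, hsm, mul_comm (algebraMap R (PolyNodeRing R (p * q)) q),
          sub_add_cancel, pow_succ]
      rw [key]
      apply Submodule.add_mem
      · apply Submodule.mem_sup_left
        exact (W R p q n).smul_mem _ (r2_mem R p q n i hi')
      · exact Submodule.smul_mem _ _ (ih (i + 1) (by omega) k)

lemma single_mem (i : Fin (n + 1)) (a : PolyNodeRing R (p * q)) :
    (Pi.single i a : Fin (n + 1) → PolyNodeRing R (p * q)) ∈ M R p q n := by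
  have h : (⊤ : Submodule R (PolyNodeRing R (p * q))) ≤
      (M R p q n).comap (LinearMap.single R (fun _ : Fin (n + 1) => PolyNodeRing R (p * q)) i) := by
    rw [← bmon_span R (p * q), Submodule.span_le]
    rintro _ ⟨e, rfl⟩
    show (Pi.single i (bmon R (p * q) e) : Fin (n + 1) → PolyNodeRing R (p * q)) ∈ M R p q n
    rw [bmon]
    by_cases he : 0 ≤ e
    · have : (-e).toNat = 0 := by omega
      rw [this, pow_zero, mul_one]
      exact PX R p q n i.1 (Nat.le_of_lt_succ i.2) _
    · have : e.toNat = 0 := by omega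
      rw [this, pow_zero, one_mul]
      exact PY R p q n (n - i.1) i.1 (by omega) _
  exact h (Submodule.mem_top : a ∈ ⊤)

lemma all_mem (F : Fin (n + 1) → PolyNodeRing R (p * q)) : F ∈ M R p q n := by
  rw [← Finset.univ_sum_single F]
  exact Submodule.sum_mem _ (fun i _ => single_mem R p q n i (F i))

include hrUx hrUy hrVx hrVy in
lemma W_le (F : Fin (n + 1) → PolyNodeRing R (p * q)) (hF : F ∈ W R p q n) :
    Θ R p q rU rV n F = 0 := by
  induction hF using Submodule.span_induction with
  | mem F hF =>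
    rcases hF with ⟨i, rfl⟩ | ⟨i, rfl⟩
    · have hi : (i : ℕ) < n := i.2
      have h1 : n - (i : ℕ) = (n - ((i : ℕ) + 1)) + 1 := by omega
      rw [map_sub, Θ_single, Θ_single, Prod.mk_sub_mk]
      apply Prod.ext
      · show rU _ * PolyNodeRing.x R q ^ (n - (i : ℕ)) -
          rU _ * PolyNodeRing.x R q ^ (n - ((i : ℕ) + 1)) = 0
        rw [hrUx, AlgHom.commutes, h1, pow_succ]; ring
      · show rV _ * PolyNodeRing.x R p ^ (i : ℕ) -
          rV _ * PolyNodeRing.x R p ^ ((i : ℕ) + 1) = 0
        rw [hrVx, AlgHom.commutes, ← xy_eq R p, pow_succ]; ring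
    · have hi : (i : ℕ) < n := i.2
      have h1 : n - (i : ℕ) = (n - ((i : ℕ) + 1)) + 1 := by omega
      rw [map_sub, Θ_single, Θ_single, Prod.mk_sub_mk]
      apply Prod.ext
      · show rU _ * PolyNodeRing.x R q ^ (n - (i : ℕ)) -
          rU _ * PolyNodeRing.x R q ^ (n - ((i : ℕ) + 1)) = 0
        rw [hrUy, AlgHom.commutes, ← xy_eq R q, h1, pow_succ]; ring
      · show rV _ * PolyNodeRing.x R p ^ (i : ℕ) -
          rV _ * PolyNodeRing.x R p ^ ((i : ℕ) + 1) = 0
        rw [hrVy, AlgHom.commutes, pow_succ]; ring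
  | zero => exact map_zero _
  | add F G _ _ hF hG => rw [map_add, hF, hG, add_zero]
  | smul a F _ hF => rw [Θ_smul, hF, mul_zero]

include hrUx hrUy hrVx hrVy hgUs hgUy hgVt hgVx in
theorem result' :
    Set.range (fun F : Fin (n + 1) → SpinCurv.PolyNodeRing R (p * q) =>
        (∑ i : Fin (n + 1), rU (F i) * SpinCurv.PolyNodeRing.x R q ^ (n - (i : ℕ)),
         ∑ i : Fin (n + 1), rV (F i) * SpinCurv.PolyNodeRing.x R p ^ (i : ℕ))) =
      {gf : SpinCurv.PolyNodeRing R q × SpinCurv.PolyNodeRing R p |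
        gU gf.1 = LaurentPolynomial.T (n : ℤ) * gV gf.2} ∧
    {F : Fin (n + 1) → SpinCurv.PolyNodeRing R (p * q) |
        (∑ i : Fin (n + 1), rU (F i) * SpinCurv.PolyNodeRing.x R q ^ (n - (i : ℕ)),
         ∑ i : Fin (n + 1), rV (F i) * SpinCurv.PolyNodeRing.x R p ^ (i : ℕ)) = 0} =
      (W R p q n : Set (Fin (n + 1) → SpinCurv.PolyNodeRing R (p * q))) := by
  have hn : (-1 : ℤ) ≤ (n : ℤ) := by omega
  have hΘS : (fun m => Θ R p q rU rV n (S R p q n m)) = v R p q (n : ℤ) :=
    funext (Θ_S R p q rU hrUx hrUy rV hrVx hrVy n)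
  have hΘlc : ∀ c : ℤ →₀ R, Θ R p q rU rV n (Finsupp.linearCombination R (S R p q n) c) =
      Ψ R p q (n : ℤ) c := by
    intro c
    rw [Finsupp.apply_linearCombination, Ψ]
    exact congrArg (fun f => Finsupp.linearCombination R f c) hΘS
  constructor
  · ext gf
    constructor
    · rintro ⟨F, rfl⟩
      exact Θ_mem R p q rU hrUx hrUy rV hrVx hrVy gU hgUs hgUy gV hgVt hgVx n F
    · intro h
      have hk : gf ∈ LinearMap.ker (Φ R p q gU gV (n : ℤ)) := by
        rw [LinearMap.mem_ker]
        show gU gf.1 - T (n : ℤ) * gV gf.2 = 0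
        rw [sub_eq_zero]; exact h
      rw [← Ψ_range R p q gU hgUs hgUy gV hgVt hgVx (n : ℤ) hn] at hk
      obtain ⟨c, rfl⟩ := hk
      exact ⟨Finsupp.linearCombination R (S R p q n) c, hΘlc c⟩
  · ext F
    constructor
    · intro hF
      have hF' : Θ R p q rU rV n F = 0 := hF
      obtain ⟨w, hw, g, hg, rfl⟩ := Submodule.mem_sup.1 (all_mem R p q n F)
      rw [← Finsupp.range_linearCombination] at hg
      obtain ⟨c, rfl⟩ := hg
      rw [map_add, W_le R p q rU hrUx hrUy rV hrVx hrVy n w hw, zero_add, hΘlc] at hF'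
      have hc : c = 0 := Ψ_inj R p q (n : ℤ) hn (hF'.trans (map_zero _).symm)
      rw [hc, map_zero, add_zero]
      exact hw
    · intro hF
      exact W_le R p q rU hrUx hrUy rV hrVx hrVy n F hF

end

/-- Let R be a commutative ring and p, q ∈ R; put A = R[x, y]/(xy - pq) and consider the two affine
charts U = Spec R[s, y]/(sy - q) and V = Spec R[t, x]/(xt - p) of the curve obtained from Spec A by
blowing up as in the (p, q)-construction, glued along R[s, s⁻¹] by t = s⁻¹ (so y = q s⁻¹ on U and x
= p s on V), with the projection to Spec A given by x ↦ p s, y ↦ y on U and x ↦ x, y ↦ q t on V. For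
n ≥ 0 the twisting sheaf O(n) is vⁿ O on U and ξⁿ O on V with ξ = s v, so its global sections are
the pairs (g, f) of functions on U and V with g = sⁿ f on U ∩ V. Then the map A^{n+1} → O(U) × O(V)
sending (F_0, …, F_n), i.e. the section Σ F_i ξ^{n-i} v^i, to (Σ F_i|_U s^{n-i}, Σ F_i|_V t^i) has
image exactly the set of such pairs, and F is sent to zero exactly when it lies in the A-submodule
of A^{n+1} generated by the vectors p e_i - x e_{i+1} and y e_i - q e_{i+1} for 0 ≤ i < n (e_0, …,
e_n the standard basis). So the global sections of O(n) form the degree-n piece of A[ξ, v]/(p ξ - x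
v, q v - y ξ). For n = 0 this says that a ↦ (a|_U, a|_V) is injective on A with image the pairs of
functions that agree on U ∩ V, so that the functions on the blown-up curve are exactly the functions
on Spec A (the direct image of its structure sheaf is the structure sheaf of Spec A); for n = 1 it
presents the global sections of O(1) as A ξ ⊕ A v modulo the relations p ξ = x v and y ξ = q v. Here
R[s, y]/(sy - q) and R[t, x]/(xt - p) are both written as the quotient of the polynomial ring in two
variables by (first variable)·(second variable) - constant, the homomorphisms rU, rV are the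
restriction maps from A to the two charts and gU, gV the restriction maps from the charts to their
intersection R[s, s⁻¹] (Laurent polynomials), each pinned by its values on the two generators. (The
published setting has R complete local and p, q in the maximal ideal, and reduces to this polynomial
computation, which uses neither.) -/
theorem result (R : Type u) [CommRing R] (p q : R)
    (rU : SpinCurv.PolyNodeRing R (p * q) →ₐ[R] SpinCurv.PolyNodeRing R q)
    (hrUx : rU (SpinCurv.PolyNodeRing.x R (p * q)) = algebraMap R _ p * SpinCurv.PolyNodeRing.x R q)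
    (hrUy : rU (SpinCurv.PolyNodeRing.y R (p * q)) = SpinCurv.PolyNodeRing.y R q)
    (rV : SpinCurv.PolyNodeRing R (p * q) →ₐ[R] SpinCurv.PolyNodeRing R p)
    (hrVx : rV (SpinCurv.PolyNodeRing.x R (p * q)) = SpinCurv.PolyNodeRing.y R p)
    (hrVy : rV (SpinCurv.PolyNodeRing.y R (p * q)) = algebraMap R _ q * SpinCurv.PolyNodeRing.x R p)
    (gU : SpinCurv.PolyNodeRing R q →ₐ[R] LaurentPolynomial R)
    (hgUs : gU (SpinCurv.PolyNodeRing.x R q) = LaurentPolynomial.T 1)
    (hgUy : gU (SpinCurv.PolyNodeRing.y R q) = LaurentPolynomial.C q * LaurentPolynomial.T (-1))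
    (gV : SpinCurv.PolyNodeRing R p →ₐ[R] LaurentPolynomial R)
    (hgVt : gV (SpinCurv.PolyNodeRing.x R p) = LaurentPolynomial.T (-1))
    (hgVx : gV (SpinCurv.PolyNodeRing.y R p) = LaurentPolynomial.C p * LaurentPolynomial.T 1) (n : ℕ) :
    Set.range (fun F : Fin (n + 1) → SpinCurv.PolyNodeRing R (p * q) =>
        (∑ i : Fin (n + 1), rU (F i) * SpinCurv.PolyNodeRing.x R q ^ (n - (i : ℕ)),
         ∑ i : Fin (n + 1), rV (F i) * SpinCurv.PolyNodeRing.x R p ^ (i : ℕ))) =
      {gf : SpinCurv.PolyNodeRing R q × SpinCurv.PolyNodeRing R p |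
        gU gf.1 = LaurentPolynomial.T (n : ℤ) * gV gf.2} ∧
    {F : Fin (n + 1) → SpinCurv.PolyNodeRing R (p * q) |
        (∑ i : Fin (n + 1), rU (F i) * SpinCurv.PolyNodeRing.x R q ^ (n - (i : ℕ)),
         ∑ i : Fin (n + 1), rV (F i) * SpinCurv.PolyNodeRing.x R p ^ (i : ℕ)) = 0} =
      (Submodule.span (SpinCurv.PolyNodeRing R (p * q))
        (Set.range (fun i : Fin n =>
            (Pi.single (Fin.castSucc i) (algebraMap R (SpinCurv.PolyNodeRing R (p * q)) p) -
              Pi.single (Fin.succ i) (SpinCurv.PolyNodeRing.x R (p * q)) : Fin (n + 1) → SpinCurv.PolyNodeRing R (p * q))) ∪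
         Set.range (fun i : Fin n =>
            (Pi.single (Fin.castSucc i) (SpinCurv.PolyNodeRing.y R (p * q)) -
              Pi.single (Fin.succ i) (algebraMap R (SpinCurv.PolyNodeRing R (p * q)) q) : Fin (n + 1) → SpinCurv.PolyNodeRing R (p * q)))) :
        Set (Fin (n + 1) → SpinCurv.PolyNodeRing R (p * q))) := by
  exact result' R p q rU hrUx hrUy rV hrVx hrVy gU hgUs hgUy gV hgVt hgVx n

end Groth.Agent.S18437
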