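import Mathlib
import Groth.Statements.S18457

set_option autoImplicit false
open Surf

namespace Groth.Agent.S18457

lemma mul_pred_nonneg (x : ℤ) (hx : 0 ≤ x) : 0 ≤ x * (x - 1) := by
  rcases hx.eq_or_lt with h | h
  · rw [← h]; norm_num
  · exact mul_nonneg hx (by omega)

lemma eq_zero_or_one_of_mul_pred (x : ℤ) (h : x * (x - 1) = 0) : x = 0 ∨ x = 1 := by
  rcases mul_eq_zero.mp h with h | h
  · left; exact h
  · right; omega

theorem result (n : ℕ) (hn : n ≤ 8)
    (d : ℤ) (a : Fin n → ℤ) (ha : ∀ i, 0 ≤ a i)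
    (hsq : d ^ 2 - ∑ i, (a i) ^ 2 = -2) (hK : 3 * d = ∑ i, a i) :
    (d = 1 ∧ (∀ i, a i = 0 ∨ a i = 1) ∧ (Finset.univ.filter (fun i => a i = 1)).card = 3) ∨
      (d = 2 ∧ (∀ i, a i = 0 ∨ a i = 1) ∧ (Finset.univ.filter (fun i => a i = 1)).card = 6) ∨
      (d = 3 ∧ n = 8 ∧ ∃ j, a j = 2 ∧ ∀ i, i ≠ j → a i = 1) := by
  classical
  have hQ : ∑ i, (a i) ^ 2 = d ^ 2 + 2 := by linarith
  have hA : ∑ i, a i = 3 * d := hK.symm
  -- Cauchy–Schwarz
  have hCS : (∑ i, a i) ^ 2 ≤ (n : ℤ) * ∑ i, (a i) ^ 2 := by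
    have := sq_sum_le_card_mul_sum_sq (s := (Finset.univ : Finset (Fin n))) (f := a)
    simpa using this
  have hd0 : 0 ≤ d := by
    have : 0 ≤ ∑ i, a i := Finset.sum_nonneg fun i _ => ha i
    linarith
  have hd4 : d ≤ 4 := by
    rw [hA, hQ] at hCS
    have hn' : (n : ℤ) ≤ 8 := by exact_mod_cast hn
    nlinarith
  -- sum of a_i (a_i - 1)
  have hS : ∑ i, a i * (a i - 1) = d ^ 2 + 2 - 3 * d := by
    have : ∀ i, a i * (a i - 1) = (a i) ^ 2 - a i := fun i => by ring
    simp only [this, Finset.sum_sub_distrib, hQ, hA]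
  have hterm : ∀ i, 0 ≤ a i * (a i - 1) := fun i => mul_pred_nonneg _ (ha i)
  -- count lemma
  have hcount : (∀ i, a i = 0 ∨ a i = 1) →
      ((Finset.univ.filter (fun i => a i = 1)).card : ℤ) = ∑ i, a i := by
    intro h01
    rw [Finset.card_filter]
    push_cast
    refine Finset.sum_congr rfl fun i _ => ?_
    rcases h01 i with h | h <;> simp [h]
  have h01_of : d ^ 2 + 2 - 3 * d = 0 → ∀ i, a i = 0 ∨ a i = 1 := by
    intro h0 i
    rw [h0] at hS
    have := (Finset.sum_eq_zero_iff_of_nonneg (fun i _ => hterm i)).mp hS i (Finset.mem_univ i)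
    exact eq_zero_or_one_of_mul_pred _ this
  interval_cases d
  · -- d = 0
    exfalso
    have h0 : ∀ i, a i = 0 := by
      intro i
      have := (Finset.sum_eq_zero_iff_of_nonneg (fun i _ => ha i)).mp (by simpa using hA) i
        (Finset.mem_univ i)
      exact this
    simp [h0] at hQ
  · -- d = 1
    left
    have h01 := h01_of (by norm_num)
    refine ⟨rfl, h01, ?_⟩
    have := hcount h01
    rw [hA] at this
    exact_mod_cast this
  · right; left
    have h01 := h01_of (by norm_num)
    refine ⟨rfl, h01, ?_⟩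
    have := hcount h01
    rw [hA] at this
    exact_mod_cast this
  · -- d = 3
    right; right
    norm_num at hS hA hQ
    -- some a j ≥ 2
    have hex : ∃ j, 2 ≤ a j := by
      by_contra hcon
      push Not at hcon
      have : ∀ i, a i * (a i - 1) = 0 := by
        intro i
        have h1 := ha i
        have h2 := hcon i
        have : a i = 0 ∨ a i = 1 := by omega
        rcases this with h | h <;> simp [h]
      simp [this] at hS
    obtain ⟨j, hj⟩ := hex
    have hsplit := Finset.add_sum_erase Finset.univ (fun i => a i * (a i - 1)) (Finset.mem_univ j)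
    rw [hS] at hsplit
    have hrest_nonneg : 0 ≤ ∑ i ∈ Finset.univ.erase j, a i * (a i - 1) :=
      Finset.sum_nonneg fun i _ => hterm i
    have hj2 : 2 ≤ a j * (a j - 1) := by nlinarith
    have hrest0 : ∑ i ∈ Finset.univ.erase j, a i * (a i - 1) = 0 := by linarith
    have haj : a j = 2 := by
      have h1 : a j * (a j - 1) = 2 := by linarith
      nlinarith
    have h01 : ∀ i ∈ Finset.univ.erase j, a i = 0 ∨ a i = 1 := by
      intro i hi
      have := (Finset.sum_eq_zero_iff_of_nonneg (fun i _ => hterm i)).mp hrest0 i hi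
      exact eq_zero_or_one_of_mul_pred _ this
    have hsplitA := Finset.add_sum_erase Finset.univ a (Finset.mem_univ j)
    rw [hA, haj] at hsplitA
    have hcard : (Finset.univ.erase j : Finset (Fin n)).card = n - 1 := by
      rw [Finset.card_erase_of_mem (Finset.mem_univ j), Finset.card_univ, Fintype.card_fin]
    have hsum1 : ∑ i ∈ Finset.univ.erase j, (1 - a i) = ((n - 1 : ℕ) : ℤ) - 7 := by
      rw [Finset.sum_sub_distrib, Finset.sum_const, hcard]
      simp only [nsmul_eq_mul, mul_one]
      linarith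
    have hnn : ∀ i ∈ Finset.univ.erase j, 0 ≤ 1 - a i := by
      intro i hi
      rcases h01 i hi with h | h <;> simp [h]
    have hsum_nonneg : 0 ≤ ∑ i ∈ Finset.univ.erase j, (1 - a i) := Finset.sum_nonneg hnn
    have hn1 : 1 ≤ n := by
      rcases Nat.eq_zero_or_pos n with h | h
      · subst h; exact j.elim0
      · exact h
    have hn8 : n = 8 := by
      rw [hsum1] at hsum_nonneg
      have : ((n - 1 : ℕ) : ℤ) = (n : ℤ) - 1 := by push_cast [Nat.cast_sub hn1]; ring
      rw [this] at hsum_nonneg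
      omega
    refine ⟨rfl, hn8, j, haj, ?_⟩
    intro i hi
    have hi' : i ∈ Finset.univ.erase j := Finset.mem_erase.mpr ⟨hi, Finset.mem_univ i⟩
    have hz : ∑ i ∈ Finset.univ.erase j, (1 - a i) = 0 := by
      rw [hsum1, hn8]; norm_num
    have := (Finset.sum_eq_zero_iff_of_nonneg hnn).mp hz i hi'
    linarith
  · -- d = 4
    exfalso
    norm_num at hA hQ
    have h1 : ∑ i, (2 * a i - 3) ^ 2 = 9 * (n : ℤ) - 72 := by
      have : ∀ i, (2 * a i - 3) ^ 2 = 4 * (a i) ^ 2 - 12 * a i + 9 := fun i => by ring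
      simp only [this, Finset.sum_add_distrib, Finset.sum_sub_distrib, ← Finset.mul_sum, hQ, hA,
        Finset.sum_const, Finset.card_univ, Fintype.card_fin, nsmul_eq_mul]
      ring
    have h2 : (n : ℤ) ≤ ∑ i, (2 * a i - 3) ^ 2 := by
      have : ∀ i ∈ (Finset.univ : Finset (Fin n)), (1 : ℤ) ≤ (2 * a i - 3) ^ 2 := by
        intro i _
        have : 2 * a i - 3 ≠ 0 := by omega
        have := sq_pos_of_ne_zero (a := 2 * a i - 3) this  
        omega
      have := Finset.sum_le_sum this
      simpa using this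
    have hn' : (n : ℤ) ≤ 8 := by exact_mod_cast hn
    linarith

end Groth.Agent.S18457
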