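import Groth.Statements.S18465
import Mathlib

set_option autoImplicit false
universe u v w x
open WildLef

namespace Groth.Agent.S18465

theorem result
    {G₁ : Type u} {G₂ : Type v} {Γ : Type w} [Group G₁] [Group G₂] [Group Γ]
    (f : G₁ →* G₂) (ρ : G₂ →* Γ) [Finite ρ.range] (A : Type x) [CommRing A] [Nontrivial A]
    (h : {x : MonoidAlgebra A ρ.range | ∀ g : G₁, MonoidAlgebra.of A ρ.range (ρ.rangeRestrict (f g)) * x = x} =
      {x : MonoidAlgebra A ρ.range | ∀ g : G₂, MonoidAlgebra.of A ρ.range (ρ.rangeRestrict g) * x = x}) :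
    (ρ.comp f).range = ρ.range := by
  classical
  -- K = image of G₁ in H = ρ.range
  set K : Subgroup ρ.range := (ρ.rangeRestrict.comp f).range with hK
  have hKfin : (K : Set ρ.range).Finite := Set.toFinite _
  set Kf : Finset ρ.range := hKfin.toFinset with hKf
  have hmemK : ∀ y : ρ.range, y ∈ Kf ↔ y ∈ K := fun y => by simp [hKf]
  set xx : MonoidAlgebra A ρ.range := ∑ k ∈ Kf, MonoidAlgebra.single k (1 : A) with hxx
  have hxx1 : xx ∈ {x : MonoidAlgebra A ρ.range | ∀ g : G₁, MonoidAlgebra.of A ρ.range (ρ.rangeRestrict (f g)) * x = x} := by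
    intro g
    set h₀ : ρ.range := ρ.rangeRestrict (f g) with hh₀
    have hh₀K : h₀ ∈ K := ⟨g, rfl⟩
    rw [hxx, Finset.mul_sum]
    simp only [MonoidAlgebra.of_apply, MonoidAlgebra.single_mul_single, mul_one]
    refine Finset.sum_nbij' (fun k => h₀ * k) (fun k => h₀⁻¹ * k) ?_ ?_ ?_ ?_ ?_
    · intro k hk; rw [hmemK] at hk ⊢; exact K.mul_mem hh₀K hk
    · intro k hk; rw [hmemK] at hk ⊢; exact K.mul_mem (K.inv_mem hh₀K) hk
    · intro k _; simp
    · intro k _; simp
    · intro k _; rfl
  rw [h] at hxx1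
  -- every element of H lies in K
  have hall : ∀ y : ρ.range, y ∈ K := by
    intro y
    obtain ⟨g₂, hg₂⟩ : ∃ g₂ : G₂, ρ.rangeRestrict g₂ = y := by
      obtain ⟨g₂, hg₂⟩ := y.2
      exact ⟨g₂, Subtype.ext hg₂⟩
    have h1 := hxx1 g₂
    rw [hg₂, hxx, Finset.mul_sum] at h1
    simp only [MonoidAlgebra.of_apply, MonoidAlgebra.single_mul_single, mul_one] at h1
    have h2 := congrArg (fun z : MonoidAlgebra A ρ.range => z.coeff y) h1
    simp only [MonoidAlgebra.coeff_sum, Finsupp.coe_finset_sum, Finset.sum_apply] at h2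
    by_contra hyK
    have hR : (∑ k ∈ Kf, (MonoidAlgebra.single k (1 : A)).coeff y) = 0 := by
      apply Finset.sum_eq_zero
      intro k hk
      rw [MonoidAlgebra.coeff_single, Finsupp.single_apply]
      have : k ≠ y := by
        rintro rfl; exact hyK ((hmemK k).mp hk)
      simp [this]
    have hL : (∑ k ∈ Kf, (MonoidAlgebra.single (y * k) (1 : A)).coeff y) = 1 := by
      rw [Finset.sum_eq_single (1 : ρ.range)]
      · simp [MonoidAlgebra.coeff_single, Finsupp.single_apply]
      · intro k _ hk1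
        rw [MonoidAlgebra.coeff_single, Finsupp.single_apply]
        have : y * k ≠ y := by
          intro hyk; apply hk1
          exact mul_eq_left.mp hyk
        simp [this]
      · intro h1K
        exfalso; apply h1K; rw [hmemK]; exact K.one_mem
    rw [hL, hR] at h2
    exact one_ne_zero h2
  apply le_antisymm
  · rintro γ ⟨g, rfl⟩
    exact ⟨f g, rfl⟩
  · rintro γ hγ
    obtain ⟨g, hg⟩ := hall ⟨γ, hγ⟩
    refine ⟨g, ?_⟩
    have := congrArg Subtype.val hg
    simpa using this

end Groth.Agent.S18465
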