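import Groth.Statements.S18466
import Mathlib

set_option autoImplicit false
universe u
open Hopf ConstGrp TensorProduct


namespace Groth.Agent.S18466aux


namespace CG

variable {k : Type u} [Field k] {G : Type} [CommGroup G] [Fintype G] [DecidableEq G]

/-- group-like elements of `F k G` are multiplicative functions -/
theorem grouplike_mul {f : F k G} (hf : Coalgebra.comul (R := k) f = f ⊗ₜ[k] f) (a b : G) :
    f (a * b) = f a * f b := by
  have h := pair_comul k G f a b
  rw [hf, pair_tmul] at h
  exact h.symm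

theorem grouplike_pow {f : F k G} (hf : Coalgebra.comul (R := k) f = f ⊗ₜ[k] f)
    (h1 : f 1 = 1) (a : G) (m : ℕ) : f (a ^ m) = f a ^ m := by
  induction m with
  | zero => simpa using h1
  | succ m ih => rw [pow_succ, grouplike_mul hf, ih, pow_succ]

omit [CommGroup G] [Fintype G] [DecidableEq G] in
theorem pow_apply' (f : F k G) (m : ℕ) (a : G) : (f ^ m) a = f a ^ m := rfl

end CG

theorem CG.forward (k : Type u) [Field k] (n : ℕ) [NeZero n]
    (φ : ConstGrp.F k (Multiplicative (ZMod n)) ≃ₐc[k] MonoidAlgebra k (Multiplicative (ZMod n))) :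
    ∃ ζ : k, IsPrimitiveRoot ζ n := by
  classical
  set G := Multiplicative (ZMod n) with hG
  let ψ : MonoidAlgebra k G ≃ₐc[k] F k G := φ.symm
  let X : G →* F k G := ((ψ : MonoidAlgebra k G →ₐ[k] F k G) : MonoidAlgebra k G →* F k G).comp (MonoidAlgebra.of k G)
  have hX : ∀ g, X g = ψ (MonoidAlgebra.single g 1) := fun g => rfl
  have hgl : ∀ g, IsGroupLikeElem k (X g) := by
    intro g
    rw [hX]
    exact (MonoidAlgebra.isGroupLikeElem_single_one (R := k) g).map ψ
  have hXinj : Function.Injective X := by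
    intro g g' h
    rw [hX, hX] at h
    have := ψ.injective h
    exact MonoidAlgebra.of_injective this
  have hcomul : ∀ g, Coalgebra.comul (R := k) (X g) = X g ⊗ₜ[k] X g := fun g => (hgl g).comul_eq_tmul_self
  have hone : ∀ g, X g 1 = 1 := fun g => by
    have := (hgl g).counit_eq_one
    rwa [counit_apply] at this
  let g₀ : G := Multiplicative.ofAdd (1 : ZMod n)
  have hgen : ∀ a : G, ∃ j : ℕ, a = g₀ ^ j := by
    intro a
    refine ⟨(Multiplicative.toAdd a).val, ?_⟩
    apply Multiplicative.toAdd.injective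
    rw [toAdd_pow, toAdd_ofAdd]
    simp
  have hpow0 : ∀ l : ℕ, g₀ ^ l = 1 ↔ n ∣ l := by
    intro l
    rw [← ZMod.natCast_eq_zero_iff l n]
    constructor
    · intro h
      have := congrArg Multiplicative.toAdd h
      rw [toAdd_pow, toAdd_ofAdd, toAdd_one] at this
      simpa using this
    · intro h
      apply Multiplicative.toAdd.injective
      rw [toAdd_pow, toAdd_ofAdd, toAdd_one]
      simpa using h
  refine ⟨X g₀ g₀, ?_⟩
  rw [IsPrimitiveRoot.iff_def]
  constructor
  · rw [← CG.grouplike_pow (hcomul g₀) (hone g₀), (hpow0 n).2 dvd_rfl, hone]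
  · intro l hl
    rw [← hpow0]
    apply hXinj
    rw [map_one]
    ext a
    obtain ⟨j, rfl⟩ := hgen a
    rw [CG.grouplike_pow (hcomul _) (hone _), map_pow, CG.pow_apply', hl, one_pow, one_apply]


namespace CG2

variable {k : Type u} [Field k] {n : ℕ} [NeZero n]

/-- the additive-to-multiplicative character `x ↦ ζ ^ x.val` -/
noncomputable def fz (ζ : k) (x : ZMod n) : k := ζ ^ x.val

omit [NeZero n] in
theorem fz_zero (ζ : k) : fz ζ (0 : ZMod n) = 1 := by
  simp [fz]

theorem fz_add {ζ : k} (hζ : ζ ^ n = 1) (x y : ZMod n) : fz ζ (x + y) = fz ζ x * fz ζ y := by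
  unfold fz
  rw [ZMod.val_add, ← pow_add]
  conv_rhs => rw [← Nat.mod_add_div (x.val + y.val) n]
  rw [pow_add, pow_mul, hζ, one_pow, mul_one]

theorem fz_inj {ζ : k} (hζ : IsPrimitiveRoot ζ n) : Function.Injective (fz (n := n) ζ) := by
  intro x y h
  unfold fz at h
  have := hζ.pow_inj (ZMod.val_lt x) (ZMod.val_lt y) h
  exact ZMod.val_injective n this

abbrev G (n : ℕ) := Multiplicative (ZMod n)

/-- character `χ_g : G →* k`, `h ↦ ζ^(g h)` -/
noncomputable def chr {ζ : k} (hζ : ζ ^ n = 1) (g : G n) : G n →* k where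
  toFun h := fz ζ (Multiplicative.toAdd g * Multiplicative.toAdd h)
  map_one' := by simp [fz_zero]
  map_mul' a b := by
    rw [toAdd_mul, mul_add, fz_add hζ]

theorem chr_inj {ζ : k} (hζ : IsPrimitiveRoot ζ n) : Function.Injective (chr (n := n) hζ.pow_eq_one) := by
  intro g g' h
  have := DFunLike.congr_fun h (Multiplicative.ofAdd (1 : ZMod n))
  simp only [chr, MonoidHom.coe_mk, OneHom.coe_mk, toAdd_ofAdd, mul_one] at this
  exact Multiplicative.toAdd.injective (fz_inj hζ this)

/-- `g ↦ χ_g` as a monoid hom into `F k G` -/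
noncomputable def X {ζ : k} (hζ : ζ ^ n = 1) : G n →* F k (G n) where
  toFun g := fun h => chr hζ g h
  map_one' := by
    ext h
    simp [chr, fz_zero]
  map_mul' a b := by
    ext h
    simp only [chr, MonoidHom.coe_mk, OneHom.coe_mk, toAdd_mul, add_mul, fz_add hζ, ConstGrp.mul_apply]

theorem X_apply {ζ : k} (hζ : ζ ^ n = 1) (g h : G n) : X hζ g h = chr hζ g h := rfl

theorem X_mul {ζ : k} (hζ : ζ ^ n = 1) (g a b : G n) : X hζ g (a * b) = X hζ g a * X hζ g b := by
  rw [X_apply, X_apply, X_apply, map_mul]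

theorem X_one {ζ : k} (hζ : ζ ^ n = 1) (g : G n) : X hζ g 1 = 1 := by
  rw [X_apply, map_one]

theorem comul_X {ζ : k} (hζ : ζ ^ n = 1) (g : G n) :
    Coalgebra.comul (R := k) (X hζ g) = X hζ g ⊗ₜ[k] X hζ g := by
  classical
  rw [comul_eq_sum]
  conv_rhs => rw [eq_sum_smul_e (X hζ g)]
  rw [TensorProduct.sum_tmul]
  refine Finset.sum_congr rfl fun a _ => ?_
  rw [TensorProduct.tmul_sum]
  refine Finset.sum_congr rfl fun b _ => ?_
  rw [X_mul, TensorProduct.smul_tmul_smul]

noncomputable def Φ {ζ : k} (hζ : ζ ^ n = 1) : MonoidAlgebra k (G n) →ₐ[k] F k (G n) :=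
  MonoidAlgebra.lift k (F k (G n)) (G n) (X hζ)

theorem Φ_single {ζ : k} (hζ : ζ ^ n = 1) (g : G n) : Φ hζ (MonoidAlgebra.single g 1) = X hζ g := by
  simp [Φ]

theorem Φ_apply {ζ : k} (hζ : ζ ^ n = 1) (x : MonoidAlgebra k (G n)) :
    Φ hζ x = ∑ g : G n, x.coeff g • X hζ g := by
  rw [Φ, MonoidAlgebra.lift_apply, Finsupp.sum_fintype]
  simp

theorem Φ_injective {ζ : k} (hζ : IsPrimitiveRoot ζ n) : Function.Injective (Φ (n := n) hζ.pow_eq_one) := by
  rw [injective_iff_map_eq_zero]
  intro x hx
  have hli : LinearIndependent k (fun g : G n => ((chr hζ.pow_eq_one g : G n →* k) : G n → k)) :=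
    (linearIndependent_monoidHom (G n) k).comp _ (chr_inj hζ)
  rw [Fintype.linearIndependent_iff] at hli
  rw [Φ_apply] at hx
  have h0 : ∑ g : G n, x.coeff g • ((chr hζ.pow_eq_one g : G n →* k) : G n → k) = 0 := hx
  have := hli (fun g => x.coeff g) h0
  ext g
  exact this g

theorem Φ_bijective {ζ : k} (hζ : IsPrimitiveRoot ζ n) : Function.Bijective (Φ (n := n) hζ.pow_eq_one) := by
  classical
  have hinj := Φ_injective hζ
  refine ⟨hinj, ?_⟩
  have hfr : Module.finrank k (MonoidAlgebra k (G n)) = Module.finrank k (F k (G n)) := by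
    rw [Module.finrank_eq_card_basis (ConstGrp.basis k (G n)),
      Module.finrank_eq_card_basis (MonoidAlgebra.basis (G n) k)]
  exact (LinearMap.injective_iff_surjective_of_finrank_eq_finrank (f := (Φ hζ.pow_eq_one).toLinearMap) hfr).1 hinj

noncomputable def Φequiv {ζ : k} (hζ : IsPrimitiveRoot ζ n) : MonoidAlgebra k (G n) ≃ₐc[k] F k (G n) :=
  BialgEquiv.ofAlgEquiv (AlgEquiv.ofBijective (Φ hζ.pow_eq_one) (Φ_bijective hζ))
    (by
      refine MonoidAlgebra.algHom_ext (fun g => ?_) (Subsingleton.elim _ _)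
      simp only [AlgHom.comp_apply, AlgEquiv.coe_toAlgHom, AlgEquiv.coe_ofBijective, Bialgebra.counitAlgHom_apply, Φ_single,
        counit_apply, X_one, MonoidAlgebra.counit_single]
      simp)
    (by
      refine MonoidAlgebra.algHom_ext (fun g => ?_) (Subsingleton.elim _ _)
      simp only [AlgHom.comp_apply, AlgEquiv.coe_toAlgHom, AlgEquiv.coe_ofBijective, Bialgebra.comulAlgHom_apply, Φ_single,
        comul_X, MonoidAlgebra.comul_single]
      simp [Φ_single])

end CG2

end Groth.Agent.S18466aux

open Groth.Agent.S18466aux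

namespace Groth.Agent.S18466

/-- Let k be a field and n ≥ 1. The constant group scheme ℤ/n over k is self-dual, that is, isomorphic
to its Cartier dual μ_n — equivalently the Hopf algebra of k-valued functions on the cyclic group of
order n and the group algebra of that group over k (group elements group-like) are isomorphic as
bialgebras — precisely when the field k has a primitive n-th root of unity, i.e. k contains n
distinct n-th roots of unity in k. (The published statement assumes that the characteristic of k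
does not divide n; both directions hold without that assumption by the same argument, since a
primitive n-th root of unity forces n to be nonzero in k, so it is omitted here.) -/
theorem result
    (k : Type u) [Field k] (n : ℕ) [NeZero n] :
    Nonempty (ConstGrp.F k (Multiplicative (ZMod n)) ≃ₐc[k] MonoidAlgebra k (Multiplicative (ZMod n))) ↔
      ∃ ζ : k, IsPrimitiveRoot ζ n := by
  constructor
  · rintro ⟨φ⟩
    exact CG.forward k n φ
  · rintro ⟨ζ, hζ⟩
    exact ⟨(CG2.Φequiv hζ).symm⟩

end Groth.Agent.S18466
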