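import Mathlib
import Groth.Statements.S18470
-- import your own Groth.Agent.* helpers here

set_option autoImplicit false
universe u v
open OortTate

namespace Groth.Agent.S18470

theorem result
    (R : Type u) [CommRing R] (A : Type v) [CommRing A] [HopfAlgebra R A]
    [Module.Finite R A] [Module.Projective R A] :
    Function.Bijective (fun f : LinearMap.ker (Bialgebra.counitAlgHom R (CartDual.D R A)).toLinearMap =>
      ((CartDual.toDual R A) (f : CartDual.D R A)).comp
        (LinearMap.ker (Bialgebra.counitAlgHom R A).toLinearMap).subtype) := by
  have hmem : ∀ a : A, a - algebraMap R A (Bialgebra.counitAlgHom R A a) ∈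
      LinearMap.ker (Bialgebra.counitAlgHom R A).toLinearMap := by
    intro a
    rw [LinearMap.mem_ker]
    simp
  constructor
  · intro f g hfg
    apply Subtype.ext
    apply (CartDual.toDual R A).injective
    apply LinearMap.ext
    intro a
    have h1 := LinearMap.congr_fun hfg ⟨_, hmem a⟩
    have hf1 : (CartDual.toDual R A (f : CartDual.D R A)) 1 = 0 := by
      have := f.2
      rw [LinearMap.mem_ker] at this
      exact this
    have hg1 : (CartDual.toDual R A (g : CartDual.D R A)) 1 = 0 := by
      have := g.2
      rw [LinearMap.mem_ker] at this
      exact this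
    simp only [LinearMap.comp_apply, Submodule.subtype_apply, map_sub, Algebra.algebraMap_eq_smul_one,
      map_smul, hf1, hg1, smul_zero, sub_zero] at h1
    exact h1
  · intro φ
    let L : A →ₗ[R] LinearMap.ker (Bialgebra.counitAlgHom R A).toLinearMap :=
      LinearMap.codRestrict (LinearMap.ker (Bialgebra.counitAlgHom R A).toLinearMap)
        (LinearMap.id - (Algebra.linearMap R A).comp (Bialgebra.counitAlgHom R A).toLinearMap)
        (fun a => by simp)
    have hL : ∀ a : A, ((L a : LinearMap.ker (Bialgebra.counitAlgHom R A).toLinearMap) : A)
        = a - algebraMap R A (Bialgebra.counitAlgHom R A a) := fun a => rfl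
    have hL1 : L 1 = 0 := by
      apply Subtype.ext
      rw [hL]
      simp
    have hLa : ∀ a : LinearMap.ker (Bialgebra.counitAlgHom R A).toLinearMap, L (a : A) = a := by
      intro a
      apply Subtype.ext
      rw [hL]
      have := a.2
      rw [LinearMap.mem_ker] at this
      simp only [AlgHom.toLinearMap_apply] at this
      rw [this, map_zero, sub_zero]
    refine ⟨⟨(CartDual.toDual R A).symm (φ.comp L), ?_⟩, ?_⟩
    · rw [LinearMap.mem_ker]
      change (φ.comp L) 1 = 0
      rw [LinearMap.comp_apply, hL1, map_zero]
    · apply LinearMap.ext
      intro a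
      simp only [LinearMap.comp_apply, Submodule.subtype_apply, LinearEquiv.apply_symm_apply]
      rw [hLa]

end Groth.Agent.S18470
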