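import Groth.Statements.S18472
import Mathlib

set_option autoImplicit false
universe u v
open Hopf


section HopfEtLib
open TensorProduct Coalgebra Bialgebra HopfAlgebra
universe u' v'
variable (R : Type u') [CommRing R] (A : Type v') [CommRing A] [HopfAlgebra R A]

namespace HopfEt

/-- Ψ(a ⊗ b) = (a ⊗ 1) * (S ⊗ id)(Δ b) -/
noncomputable def Psi : A ⊗[R] A →ₐ[R] A ⊗[R] A :=
  Algebra.TensorProduct.productMap Algebra.TensorProduct.includeLeft
    ((Algebra.TensorProduct.map (antipodeAlgHom R A) (AlgHom.id R A)).comp (comulAlgHom R A))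

/-- idε (a ⊗ b) = ε(b) a -/
noncomputable def idEps : A ⊗[R] A →ₐ[R] A :=
  Algebra.TensorProduct.productMap (AlgHom.id R A) ((Algebra.ofId R A).comp (counitAlgHom R A))

lemma lmul_map_antipode (t : A ⊗[R] A) :
    Algebra.TensorProduct.lmul' R (S := A)
      (Algebra.TensorProduct.map (antipodeAlgHom R A) (AlgHom.id R A) t) =
    LinearMap.mul' R A ((antipode R).rTensor A t) := by
  induction t with
  | zero => simp
  | tmul x y => simp
  | add x y hx hy => simp only [map_add, hx, hy]

lemma lmul_Psi : (Algebra.TensorProduct.lmul' R (S := A)).comp (Psi R A) = idEps R A := by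
  apply Algebra.TensorProduct.ext'
  intro a b
  simp only [Psi, idEps, AlgHom.comp_apply, Algebra.TensorProduct.productMap_apply_tmul, map_mul]
  congr 1
  · simp
  · have := mul_antipode_rTensor_comul_apply (R := R) b
    rw [← lmul_map_antipode] at this
    simpa using this

/-- F(x ⊗ (y ⊗ z)) = x S(y) ⊗ z -/
noncomputable def F : A ⊗[R] (A ⊗[R] A) →ₗ[R] A ⊗[R] A :=
  (TensorProduct.map (LinearMap.mul' R A ∘ₗ (antipode R).lTensor A) LinearMap.id) ∘ₗ
    (TensorProduct.assoc R A A A).symm.toLinearMap

lemma Psi_tmul (a : A) (t : A ⊗[R] A) :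
    (a ⊗ₜ[R] (1 : A)) * (Algebra.TensorProduct.map (antipodeAlgHom R A) (AlgHom.id R A) t) =
      F R A (a ⊗ₜ t) := by
  induction t with
  | zero => simp
  | tmul x y => simp [F]
  | add x y hx hy => simp only [map_add, mul_add, hx, hy, tmul_add]

lemma Psi_eq (a b : A) : Psi R A (a ⊗ₜ b) = F R A (a ⊗ₜ comul b) := by
  rw [← Psi_tmul]
  simp [Psi]

lemma Psi_comul (b : A) : Psi R A (comul b) = (1 : A) ⊗ₜ[R] b := by
  have h1 : ∀ t : A ⊗[R] A, Psi R A t = F R A (comul.lTensor A t) := by
    intro t
    induction t with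
    | zero => simp
    | tmul x y => simp [Psi_eq]
    | add x y hx hy => simp only [map_add, hx, hy]
  rw [h1, ← coassoc_apply]
  have h2 : ∀ t : A ⊗[R] A, F R A (TensorProduct.assoc R A A A (comul.rTensor A t)) =
      (Algebra.linearMap R A ∘ₗ counit).rTensor A t := by
    intro t
    induction t with
    | zero => simp
    | tmul x y =>
      simp only [F, LinearMap.rTensor_tmul, LinearMap.comp_apply, LinearEquiv.coe_coe,
        LinearEquiv.symm_apply_apply, TensorProduct.map_tmul, LinearMap.id_apply]
      rw [mul_antipode_lTensor_comul_apply]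
      simp
    | add x y hx hy => simp only [map_add, hx, hy]
  rw [h2]
  have := rTensor_counit_comul (R := R) b
  rw [LinearMap.rTensor_comp, LinearMap.comp_apply, this]
  simp



lemma idEps_comul (b : A) : idEps R A (comul b) = b := by
  have h1 : ∀ t : A ⊗[R] A, idEps R A t = TensorProduct.rid R A (counit.lTensor A t) := by
    intro t
    induction t with
    | zero => simp
    | tmul x y => simp [idEps, Algebra.smul_def, mul_comm]
    | add x y hx hy => simp only [map_add, hx, hy]
  rw [h1, lTensor_counit_comul]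
  simp

lemma sub_mem_map (t : A ⊗[R] A) :
    t - (idEps R A t) ⊗ₜ[R] (1 : A) ∈
      Ideal.map (Algebra.TensorProduct.includeRight : A →ₐ[R] A ⊗[R] A)
        (RingHom.ker (counitAlgHom R A)) := by
  induction t with
  | zero => simp
  | tmul x y =>
    have h1 : x ⊗ₜ[R] y - (idEps R A (x ⊗ₜ y)) ⊗ₜ[R] (1 : A) =
        (x ⊗ₜ[R] (1 : A)) * ((1 : A) ⊗ₜ[R] (y - algebraMap R A (counit y))) := by
      have e1 : (Algebra.ofId R A) ((counitAlgHom R A) y) = (counit (R := R) y) • (1 : A) := by
        simp [Algebra.ofId_apply, Algebra.algebraMap_eq_smul_one]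
      have e2 : algebraMap R A (counit y) = (counit (R := R) y) • (1 : A) := by
        simp [Algebra.algebraMap_eq_smul_one]
      simp only [idEps, Algebra.TensorProduct.productMap_apply_tmul, AlgHom.id_apply,
        AlgHom.comp_apply]
      rw [e1, e2]
      rw [Algebra.TensorProduct.tmul_mul_tmul, mul_one, one_mul, tmul_sub]
      simp [TensorProduct.tmul_smul, TensorProduct.smul_tmul']
    rw [h1]
    apply Ideal.mul_mem_left
    apply Ideal.mem_map_of_mem
    simp [RingHom.mem_ker]
  | add x y hx hy =>
    have : x + y - (idEps R A (x + y)) ⊗ₜ[R] (1 : A) =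
        (x - (idEps R A x) ⊗ₜ[R] (1 : A)) + (y - (idEps R A y) ⊗ₜ[R] (1 : A)) := by
      rw [map_add, add_tmul]; abel
    rw [this]
    exact Ideal.add_mem _ hx hy

theorem ideal_idem (h : RingHom.ker (counitAlgHom R A) ^ 2 = RingHom.ker (counitAlgHom R A)) :
    IsIdempotentElem (KaehlerDifferential.ideal R A) := by
  set I := RingHom.ker (counitAlgHom R A) with hIdef
  set K' := Ideal.map (Algebra.TensorProduct.includeRight : A →ₐ[R] A ⊗[R] A) I with hK'
  set J := KaehlerDifferential.ideal R A with hJ
  have hK'2 : K' = K' ^ 2 := by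
    rw [hK', ← Ideal.map_pow, h]
  -- Ψ K' ≤ J
  have hPsiK : Ideal.map (Psi R A) K' ≤ J := by
    rw [hK', Ideal.map_le_iff_le_comap, Ideal.map_le_iff_le_comap]
    intro i hi
    rw [Ideal.mem_comap, Ideal.mem_comap, hJ, KaehlerDifferential.ideal, RingHom.mem_ker]
    have := congrArg (fun f : A ⊗[R] A →ₐ[R] A => f ((1 : A) ⊗ₜ[R] i)) (lmul_Psi R A)
    simp only [AlgHom.comp_apply] at this
    have hi' : counit (R := R) i = 0 := by
      rw [hIdef, RingHom.mem_ker] at hi
      simpa using hi
    simp only [Algebra.TensorProduct.includeRight_apply]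
    rw [this]
    simp [idEps, hi']
  have hJle : J ≤ J * J := by
    rw [hJ, ← KaehlerDifferential.span_range_eq_ideal, Ideal.span_le]
    rintro _ ⟨b, rfl⟩
    simp only
    have hk : comul b - b ⊗ₜ[R] (1 : A) ∈ K' := by
      have := sub_mem_map R A (comul b - b ⊗ₜ[R] (1 : A))
      rw [map_sub, idEps_comul] at this
      simpa [idEps] using this
    have hg : (1 : A) ⊗ₜ[R] b - b ⊗ₜ[R] (1 : A) = Psi R A (comul b - b ⊗ₜ[R] (1 : A)) := by
      rw [map_sub, Psi_comul]
      simp [Psi]
    rw [hg, KaehlerDifferential.span_range_eq_ideal, ← pow_two]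
    rw [hK'2] at hk
    have := Ideal.mem_map_of_mem (Psi R A) hk
    rw [Ideal.map_pow] at this
    exact Ideal.pow_right_mono hPsiK 2 this
  exact le_antisymm Ideal.mul_le_right hJle

end HopfEt

end HopfEtLib

namespace Groth.Agent.S18472

/-- Let R be a commutative ring and A a commutative Hopf algebra over R which is finitely generated and
projective as an R-module (a finite locally free group scheme G = Spec A over Spec R), and let I =
ker ε be its augmentation ideal. Then A is étale over R if and only if I² = I. (The published text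
calls G finite flat, meaning that A is finitely generated and projective.) -/
theorem result
    (R : Type u) [CommRing R] (A : Type v) [CommRing A] [HopfAlgebra R A]
    [Module.Finite R A] [Module.Projective R A] :
    Algebra.Etale R A ↔
      RingHom.ker (Bialgebra.counitAlgHom R A) ^ 2 = RingHom.ker (Bialgebra.counitAlgHom R A) := by
  constructor
  · intro hEt
    have hunr : Algebra.FormallyUnramified R A := inferInstance
    set I := RingHom.ker (Bialgebra.counitAlgHom R A) with hI
    apply le_antisymm (Ideal.pow_le_self two_ne_zero)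
    -- two algebra maps A → A ⧸ I^2
    let g₁ : A →ₐ[R] A ⧸ I ^ 2 := Ideal.Quotient.mkₐ R (I ^ 2)
    let g₂ : A →ₐ[R] A ⧸ I ^ 2 :=
      (Ideal.Quotient.mkₐ R (I ^ 2)).comp ((Algebra.ofId R A).comp (Bialgebra.counitAlgHom R A))
    have hsub : ∀ x : A, x - algebraMap R A (Bialgebra.counitAlgHom R A x) ∈ I := by
      intro x
      rw [hI, RingHom.mem_ker, map_sub]
      simp
    have hnil : IsNilpotent (Ideal.map (Ideal.Quotient.mk (I ^ 2)) I) := by
      refine ⟨2, ?_⟩
      rw [← Ideal.map_pow, Ideal.zero_eq_bot, Ideal.map_quotient_self]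
    have hg : g₁ = g₂ := by
      apply Algebra.FormallyUnramified.ext (Ideal.map (Ideal.Quotient.mk (I ^ 2)) I) hnil
      intro x
      rw [Ideal.Quotient.eq]
      have : g₁ x - g₂ x = Ideal.Quotient.mk (I ^ 2)
          (x - algebraMap R A (Bialgebra.counitAlgHom R A x)) := by
        simp [g₁, g₂, Algebra.ofId_apply]
      rw [this]
      exact Ideal.mem_map_of_mem _ (hsub x)
    intro x hx
    have h1 := congrArg (fun g : A →ₐ[R] A ⧸ I ^ 2 => g x) hg
    simp only [g₁, g₂, AlgHom.comp_apply, Ideal.Quotient.mkₐ_eq_mk] at h1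
    have hx0 : Bialgebra.counitAlgHom R A x = 0 := by
      rw [hI, RingHom.mem_ker] at hx; exact hx
    rw [hx0, map_zero, map_zero, Ideal.Quotient.eq_zero_iff_mem] at h1
    exact h1
  · intro h
    have hid := HopfEt.ideal_idem R A h
    have hunr : Algebra.FormallyUnramified R A :=
      ⟨(Ideal.cotangent_subsingleton_iff _).mpr hid⟩
    have hfp : Module.FinitePresentation R A := Module.finitePresentation_of_projective R A
    have hfpa : Algebra.FinitePresentation R A := inferInstance
    exact Algebra.Etale.of_formallyUnramified_of_flat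

end Groth.Agent.S18472
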