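import Mathlib
import Groth.Statements.S18479
import Groth.Agent.Lib.helper27.OrderTwo
-- import your own Groth.Agent.* helpers here

set_option autoImplicit false
universe u v
open scoped TensorProduct
open OortTate

namespace Groth.Agent.S18479

open Groth.Agent.Lib.helper27.OrderTwo

theorem result
    (R : Type u) [CommRing R] (A : Type v) [CommRing A] [HopfAlgebra R A]
    (x : A) (hx : Bialgebra.counitAlgHom R A x = 0)
    (hgen : ∀ f : A, Bialgebra.counitAlgHom R A f = 0 → ∃ r : R, f = r • x)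
    (hfree : ∀ r : R, r • x = 0 → r = 0) :
    ∃ a b : R, x * x = a • x ∧
      Bialgebra.comulAlgHom R A x = x ⊗ₜ[R] 1 + 1 ⊗ₜ[R] x + b • (x ⊗ₜ[R] x) ∧ a * b = -2 := by
  have h : Gen R x := ⟨hx, hgen, hfree⟩
  have hx' : Coalgebra.counit (R := R) x = 0 := by simpa using hx
  -- a
  obtain ⟨a, ha⟩ : ∃ a : R, x * x = a • x := by
    apply hgen
    rw [map_mul, hx, mul_zero]
  -- decomposition of Δ x
  obtain ⟨α, β, γ, δ, hΔ⟩ := h.tdecomp (Coalgebra.comul (R := R) x)
  -- counit axioms
  have h1 := Coalgebra.rTensor_counit_comul (R := R) x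
  have h2 := Coalgebra.lTensor_counit_comul (R := R) x
  rw [hΔ] at h1 h2
  have h1' := congrArg (TensorProduct.lid R A) h1
  have h2' := congrArg (TensorProduct.rid R A) h2
  simp only [map_add, map_smul, LinearMap.rTensor_tmul, LinearMap.lTensor_tmul, TensorProduct.lid_tmul,
    TensorProduct.rid_tmul, hx', Bialgebra.counit_one, zero_smul, smul_zero, add_zero, one_smul] at h1' h2'
  have hli := h.li
  rw [LinearIndependent.pair_iff] at hli
  have e1 := hli α (γ - 1) (by
    calc α • (1 : A) + (γ - 1) • x = (α • (1 : A) + γ • x) - x := by module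
      _ = 0 := by rw [h1', sub_self])
  have e2 := hli α (β - 1) (by
    calc α • (1 : A) + (β - 1) • x = (α • (1 : A) + β • x) - x := by module
      _ = 0 := by rw [h2', sub_self])
  obtain ⟨hα, hγ⟩ := e1
  obtain ⟨-, hβ⟩ := e2
  have hγ' : γ = 1 := by linear_combination hγ
  have hβ' : β = 1 := by linear_combination hβ
  subst hα hγ' hβ'
  have hΔ' : Coalgebra.comul (R := R) x = x ⊗ₜ[R] 1 + 1 ⊗ₜ[R] x + δ • (x ⊗ₜ[R] x) := by
    rw [hΔ]; simp
  refine ⟨a, δ, ha, by simpa using hΔ', ?_⟩
  -- antipode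
  obtain ⟨c, hc⟩ : ∃ c : R, HopfAlgebra.antipode R x = c • x := by
    apply hgen
    simp [hx']
  have h3 := HopfAlgebra.mul_antipode_rTensor_comul_apply (R := R) x
  rw [hΔ'] at h3
  simp only [map_add, map_smul, LinearMap.rTensor_tmul, LinearMap.mul'_apply, HopfAlgebra.antipode_one,
    hx', map_zero, hc, one_mul, mul_one, smul_mul_assoc, ha, smul_smul] at h3
  have e3 : c + 1 + δ * (c * a) = 0 := by
    apply hfree
    rw [add_smul, add_smul, one_smul]
    exact h3
  -- multiplicativity of comul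
  have h4 : Coalgebra.comul (R := R) (x * x) = Coalgebra.comul (R := R) x * Coalgebra.comul (R := R) x :=
    Bialgebra.comul_mul x x
  rw [ha, map_smul, hΔ'] at h4
  simp only [add_mul, mul_add, smul_mul_assoc, mul_smul_comm, Algebra.TensorProduct.tmul_mul_tmul,
    mul_one, one_mul, ha, ← TensorProduct.smul_tmul', TensorProduct.tmul_smul, smul_smul, smul_add] at h4
  have key : (0 : R) • ((1 : A) ⊗ₜ[R] (1 : A)) + (0 : R) • (x ⊗ₜ[R] (1 : A)) + (0 : R) • ((1 : A) ⊗ₜ[R] x)
      + (a * δ - (a * a * δ * δ + 2 + 4 * a * δ)) • (x ⊗ₜ[R] x) = 0 := by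
    have := sub_eq_zero.mpr h4
    rw [← this]
    module
  obtain ⟨-, -, -, e4⟩ := h.tcoeff_eq_zero key
  -- conclude
  have e5 : (a * δ + 1) * (-c) = 1 := by linear_combination -e3
  have e6 : (a * δ + 1) * (a * δ + 2) = 0 := by linear_combination -e4
  have : a * δ + 2 = 0 := by
    calc a * δ + 2 = ((a * δ + 1) * (-c)) * (a * δ + 2) := by rw [e5, one_mul]
      _ = (-c) * ((a * δ + 1) * (a * δ + 2)) := by ring
      _ = 0 := by rw [e6, mul_zero]
  linear_combination this

end Groth.Agent.S18479
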