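import Mathlib
import Groth.Statements.S18480
import Groth.Agent.Lib.helper27.OrderTwo
-- import your own Groth.Agent.* helpers here

set_option autoImplicit false
universe u v
open scoped TensorProduct
open OortTate

namespace Groth.Agent.S18480

open Groth.Agent.Lib.helper27.OrderTwo

theorem result
    (R : Type u) [CommRing R] (A : Type v) [CommRing A] [HopfAlgebra R A]
    (x : A) (hx : Bialgebra.counitAlgHom R A x = 0)
    (hgen : ∀ f : A, Bialgebra.counitAlgHom R A f = 0 → ∃ r : R, f = r • x)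
    (hfree : ∀ r : R, r • x = 0 → r = 0)
    (a b : R) (hxa : x * x = a • x)
    (hxb : Bialgebra.comulAlgHom R A x = x ⊗ₜ[R] 1 + 1 ⊗ₜ[R] x + b • (x ⊗ₜ[R] x))
    (A' : Type v) [CommRing A'] [HopfAlgebra R A']
    (x' : A') (hx' : Bialgebra.counitAlgHom R A' x' = 0)
    (hgen' : ∀ f : A', Bialgebra.counitAlgHom R A' f = 0 → ∃ r : R, f = r • x')
    (hfree' : ∀ r : R, r • x' = 0 → r = 0)
    (a' b' : R) (hxa' : x' * x' = a' • x')
    (hxb' : Bialgebra.comulAlgHom R A' x' = x' ⊗ₜ[R] 1 + 1 ⊗ₜ[R] x' + b' • (x' ⊗ₜ[R] x')) :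
    Nonempty (A ≃ₐc[R] A') ↔ ∃ s : Rˣ, a = a' * (s : R) ∧ b' = b * (s : R) := by
  have h : Gen R x := ⟨hx, hgen, hfree⟩
  have h' : Gen R x' := ⟨hx', hgen', hfree'⟩
  have hx0 : Coalgebra.counit (R := R) x = 0 := by simpa using hx
  have hx0' : Coalgebra.counit (R := R) x' = 0 := by simpa using hx'
  have hΔ : Coalgebra.comul (R := R) x = x ⊗ₜ[R] 1 + 1 ⊗ₜ[R] x + b • (x ⊗ₜ[R] x) := by simpa using hxb
  have hΔ' : Coalgebra.comul (R := R) x' = x' ⊗ₜ[R] 1 + 1 ⊗ₜ[R] x' + b' • (x' ⊗ₜ[R] x') := by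
    simpa using hxb'
  constructor
  · rintro ⟨φ⟩
    obtain ⟨s, hs⟩ : ∃ s : R, φ x = s • x' := by
      apply hgen'
      simp [hx0]
    obtain ⟨t, ht⟩ : ∃ t : R, φ.symm x' = t • x := by
      apply hgen
      simp [hx0']
    have hst : s * t = 1 := by
      have e : φ.symm (φ x) = x := φ.symm_apply_apply x
      rw [hs, map_smul, ht, smul_smul] at e
      have := hfree (s * t - 1) (by rw [sub_smul, one_smul, e, sub_self])
      linear_combination this
    let su : Rˣ := ⟨s, t, hst, by rw [mul_comm]; exact hst⟩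
    refine ⟨su, ?_, ?_⟩
    · have e := map_mul φ x x
      rw [hxa, map_smul, hs, smul_mul_smul_comm, hxa', smul_smul, smul_smul] at e
      have := hfree' (a * s - s * s * a') (by rw [sub_smul, e, sub_self])
      change a = a' * s
      linear_combination t * this - (a - s * a') * hst
    · have e := CoalgHomClass.map_comp_comul_apply (R := R) φ x
      rw [hΔ, hs, map_smul, hΔ'] at e
      simp only [map_add, map_smul, TensorProduct.map_tmul] at e
      change φ x ⊗ₜ[R] φ 1 + φ 1 ⊗ₜ[R] φ x + b • φ x ⊗ₜ[R] φ x = _ at e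
      rw [hs, map_one] at e
      simp only [← TensorProduct.smul_tmul', TensorProduct.tmul_smul, smul_smul, smul_add] at e
      have key : (0 : R) • ((1 : A') ⊗ₜ[R] (1 : A')) + (0 : R) • (x' ⊗ₜ[R] (1 : A'))
          + (0 : R) • ((1 : A') ⊗ₜ[R] x') + (b * s * s - s * b') • (x' ⊗ₜ[R] x') = 0 := by
        have := sub_eq_zero.mpr e
        rw [← this]
        module
      obtain ⟨-, -, -, e4⟩ := h'.tcoeff_eq_zero key
      change b' = b * s
      linear_combination (-t) * e4 - (b' - b * s) * hst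
  · rintro ⟨s, hsa, hsb⟩
    have hy : (s : R) • x' * (s : R) • x' = a • ((s : R) • x') := by
      rw [smul_mul_smul_comm, hxa', smul_smul, smul_smul, hsa]
      congr 1; ring
    have hεy : Coalgebra.counit (R := R) ((s : R) • x') = 0 := by
      rw [map_smul, hx0', smul_zero]
    have hΔy : Coalgebra.comul (R := R) ((s : R) • x') = ((s : R) • x') ⊗ₜ[R] 1 + 1 ⊗ₜ[R] ((s : R) • x')
        + b • (((s : R) • x') ⊗ₜ[R] ((s : R) • x')) := by
      rw [map_smul, hΔ', hsb]
      simp only [← TensorProduct.smul_tmul', TensorProduct.tmul_smul, smul_smul, smul_add]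
      module
    have hy' : ((s⁻¹ : Rˣ) : R) • x * ((s⁻¹ : Rˣ) : R) • x = a' • (((s⁻¹ : Rˣ) : R) • x) := by
      rw [smul_mul_smul_comm, hxa, smul_smul, smul_smul, hsa]
      congr 1
      have := s.inv_mul
      have e : ((s⁻¹ : Rˣ) : R) * (s : R) = 1 := by simp
      linear_combination (a' * ((s⁻¹ : Rˣ) : R)) * e
    have hεy' : Coalgebra.counit (R := R) (((s⁻¹ : Rˣ) : R) • x) = 0 := by
      rw [map_smul, hx0, smul_zero]
    have hΔy' : Coalgebra.comul (R := R) (((s⁻¹ : Rˣ) : R) • x) = (((s⁻¹ : Rˣ) : R) • x) ⊗ₜ[R] 1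
        + 1 ⊗ₜ[R] (((s⁻¹ : Rˣ) : R) • x)
        + b' • ((((s⁻¹ : Rˣ) : R) • x) ⊗ₜ[R] (((s⁻¹ : Rˣ) : R) • x)) := by
      rw [map_smul, hΔ, hsb]
      simp only [← TensorProduct.smul_tmul', TensorProduct.tmul_smul, smul_smul, smul_add]
      have e : ((s⁻¹ : Rˣ) : R) * (s : R) = 1 := by simp
      have e' : b * ↑s * (↑s⁻¹ * ↑s⁻¹) = ((s⁻¹ : Rˣ) : R) * b := by
        linear_combination (b * ((s⁻¹ : Rˣ) : R)) * e
      rw [e']
    let f : A →ₐc[R] A' := h.bialgHom hxa hΔ _ hy hεy hΔy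
    let g : A' →ₐc[R] A := h'.bialgHom hxa' hΔ' _ hy' hεy' hΔy'
    refine ⟨BialgEquiv.ofBialgHom f g ?_ ?_⟩
    · apply DFunLike.coe_injective
      have : ((f : A →ₐ[R] A').comp (g : A' →ₐ[R] A)) = AlgHom.id R A' := by
        apply h'.algHom_ext
        simp [f, g, smul_smul]
      funext z
      exact congr($this z)
    · apply DFunLike.coe_injective
      have : ((g : A' →ₐ[R] A).comp (f : A →ₐ[R] A')) = AlgHom.id R A := by
        apply h.algHom_ext
        simp [f, g, smul_smul]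
      funext z
      exact congr($this z)

end Groth.Agent.S18480
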