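import Groth.Statements.S18484
import Mathlib
import Groth.Agent.S18498
-- import your own Groth.Agent.* helpers here

set_option autoImplicit false
universe u
open CategoryTheory CategoryTheory.Limits AlgebraicGeometry MonObj
open Neron

namespace Groth.Agent.S18484

namespace H5S18484

open CategoryTheory CategoryTheory.Limits AlgebraicGeometry


/-- A morphism `v : Y ⟶ X` from a flat `R`-scheme whose restriction to the generic fibre factors
through the closed immersion `i` factors through `i`. -/
theorem ker_le (R : Type u) [CommRing R] [IsDedekindDomain R]
    (Y : Over (Spec (CommRingCat.of R))) [Flat Y.hom] {X G : Scheme.{u}} (i : G ⟶ X)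
    (v : Y.left ⟶ X) (w : pullback Y.hom (Neron.genPt R) ⟶ G)
    (hw : w ≫ i = pullback.fst Y.hom (Neron.genPt R) ≫ v) : i.ker ≤ v.ker := by
  haveI := Groth.Agent.S18498.H5S18498.genPt_dom R
  haveI : QuasiCompact (Neron.genPt R) := inferInstance
  have hdom : IsSchemeTheoreticallyDominant (pullback.fst Y.hom (Neron.genPt R)) := inferInstance
  have h1 : i.ker ≤ (w ≫ i).ker := Scheme.Hom.le_ker_comp w i
  rw [hw, Scheme.Hom.ker_comp, hdom.ker_eq_bot, Scheme.IdealSheafData.map_bot] at h1
  exact h1

end H5S18484

namespace H5S18484

open CategoryTheory CategoryTheory.Limits AlgebraicGeometry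


theorem main (R : Type u) [CommRing R] [IsDedekindDomain R]
    (X G : Over (Spec (CommRingCat.of R)))
    (hX : Neron.IsNeronModelOf R X ((Neron.genericFibre R).obj X) (Iso.refl _))
    (i : G ⟶ X) [IsClosedImmersion i.left] [Smooth G.hom] :
    Neron.IsNeronModelOf R G ((Neron.genericFibre R).obj G) (Iso.refl _) := by
  obtain ⟨hXsm, hXsep, hXft, hXqc, hXmap⟩ := hX
  have hGhom : G.hom = i.left ≫ X.hom := (Over.w i).symm
  haveI : IsSeparated G.hom := by rw [hGhom]; infer_instance
  haveI : LocallyOfFiniteType G.hom := by rw [hGhom]; infer_instance
  haveI : QuasiCompact G.hom := by rw [hGhom]; infer_instance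
  refine ⟨inferInstance, inferInstance, inferInstance, inferInstance, ?_⟩
  intro Y hY
  haveI : Smooth Y.hom := hY
  haveI : Flat Y.hom := inferInstance
  haveI : Mono i := by
    haveI : Mono ((Over.forget _).map i) := by
      change Mono i.left
      infer_instance
    exact (Over.forget _).mono_of_mono_map inferInstance
  haveI : Mono ((Neron.genericFibre R).map i) := inferInstance
  constructor
  · intro a b hab
    simp only [Iso.refl_hom, Category.comp_id] at hab
    exact Groth.Agent.S18498.H5S18498.main R Y G a b hab
  · intro u
    obtain ⟨v, hv⟩ := (hXmap Y hY).2 (u ≫ (Neron.genericFibre R).map i)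
    simp only [Iso.refl_hom, Category.comp_id] at hv
    -- v factors through i
    have hfac : (u.left ≫ pullback.fst G.hom (Neron.genPt R)) ≫ i.left =
        pullback.fst Y.hom (Neron.genPt R) ≫ v.left := by
      have e1 : ((Over.pullback (Neron.genPt R)).map v).left ≫ pullback.fst X.hom (Neron.genPt R) =
          pullback.fst Y.hom (Neron.genPt R) ≫ v.left := by
        simp only [Over.pullback_map_left]
        exact pullback.lift_fst _ _ _
      have e2 : ((Over.pullback (Neron.genPt R)).map i).left ≫ pullback.fst X.hom (Neron.genPt R) =
          pullback.fst G.hom (Neron.genPt R) ≫ i.left := by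
        simp only [Over.pullback_map_left]
        exact pullback.lift_fst _ _ _
      have hv' : ((Over.pullback (Neron.genPt R)).map v).left =
          u.left ≫ ((Over.pullback (Neron.genPt R)).map i).left := by
        have := congrArg (fun t => t.left) hv
        simpa using this
      rw [← e1, hv', Category.assoc, Category.assoc, e2]
    have hker : i.left.ker ≤ v.left.ker := ker_le R Y i.left v.left _ hfac
    let w₀ : Y.left ⟶ G.left := IsClosedImmersion.lift i.left v.left hker
    have hw₀ : w₀ ≫ i.left = v.left := IsClosedImmersion.lift_fac _ _ _
    let w : Y ⟶ G := Over.homMk w₀ (by rw [hGhom, ← Category.assoc, hw₀]; exact Over.w v)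
    have hwi : w ≫ i = v := by
      ext
      exact hw₀
    refine ⟨w, ?_⟩
    simp only [Iso.refl_hom, Category.comp_id]
    rw [← cancel_mono ((Neron.genericFibre R).map i), ← Functor.map_comp, hwi, hv]

end H5S18484

/-- Let R be a Dedekind domain with fraction field K, X a Spec R-scheme which is a Néron model of its
generic fibre X_K, and i : G → X a closed immersion with G smooth over Spec R. Then G is a Néron
model of its generic fibre G_K: smooth, separated, of finite type, and for every smooth Spec
R-scheme Y restriction to generic fibres is a bijection from R-morphisms Y → G onto K-morphisms Y_K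
→ G_K. (The source states this for a closed subgroup scheme of a Néron model; the group laws play no
part and are not assumed. The converse direction of the source, that a Néron model is a closed
subgroup of a Néron model, is immediate and not stated.) -/
theorem result (R : Type u) [CommRing R] [IsDedekindDomain R]
    (X G : Over (Spec (CommRingCat.of R))) (hX : Neron.IsNeronModelOf R X ((Neron.genericFibre R).obj X) (Iso.refl _))
    (i : G ⟶ X) [IsClosedImmersion i.left] [Smooth G.hom] :
    Neron.IsNeronModelOf R G ((Neron.genericFibre R).obj G) (Iso.refl _) := by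
  exact H5S18484.main R X G hX i

end Groth.Agent.S18484
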