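import Mathlib
import Groth.Statements.S18490

set_option autoImplicit false
universe u
open CategoryTheory CategoryTheory.Limits AlgebraicGeometry
open FlatMor

namespace Groth.Agent.S18490

/-- ring-level retract lemma -/
lemma flat_of_retract {A C B C' : Type*} [CommRing A] [CommRing C] [CommRing B] [CommRing C']
    (φ : A →+* C) (ρ : C →+* B) (σ : B →+* C') (hι : Function.Bijective (σ.comp ρ))
    (hflat : (ρ.comp φ).Flat) : φ.Flat := by
  let e : C ≃+* C' := RingEquiv.ofBijective (σ.comp ρ) hι
  have he : ∀ c, e c = σ (ρ c) := fun c => rfl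
  algebraize [φ, ρ.comp φ]
  let i : C →ₗ[A] B :=
    { toFun := ρ
      map_add' := map_add ρ
      map_smul' := by
        intro a c
        simp only [Algebra.smul_def, RingHom.algebraMap_toAlgebra, map_mul, RingHom.id_apply,
          RingHom.comp_apply] }
  let r : B →ₗ[A] C :=
    { toFun := fun b => e.symm (σ b)
      map_add' := by intro x y; simp only [map_add]
      map_smul' := by
        intro a b
        simp only [Algebra.smul_def, RingHom.algebraMap_toAlgebra, map_mul, RingHom.id_apply,
          RingHom.comp_apply]
        congr 1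
        rw [← he, RingEquiv.symm_apply_apply] }
  have hri : r.comp i = LinearMap.id := by
    ext c
    show e.symm (σ (ρ c)) = c
    rw [← he, RingEquiv.symm_apply_apply]
  exact Module.Flat.of_retract i r hri

theorem result {X Y S : Scheme.{u}} (f : X ⟶ S) (g : Y ⟶ S)
    (y : S ⟶ Y) (hy : y ≫ g = 𝟙 S) :
    (QuasiCompact (pullback.fst f g ≫ f) → QuasiCompact f) ∧
    (LocallyOfFiniteType (pullback.fst f g ≫ f) → LocallyOfFiniteType f) ∧
    (IsSeparated (pullback.fst f g ≫ f) → IsSeparated f) ∧
    (Flat (pullback.fst f g ≫ f) → Flat f) := by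
  let s : X ⟶ pullback f g := pullback.lift (𝟙 X) (f ≫ y) (by simp [hy])
  have hs1 : s ≫ pullback.fst f g = 𝟙 X := pullback.lift_fst _ _ _
  have hs2 : s ≫ pullback.snd f g = f ≫ y := pullback.lift_snd _ _ _
  have hsf : s ≫ (pullback.fst f g ≫ f) = f := by rw [← Category.assoc, hs1, Category.id_comp]
  -- `s` is a base change of `y`
  have hpb : IsPullback s f (pullback.snd f g) y := by
    apply IsPullback.of_right (h₁₂ := pullback.fst f g) (h₂₂ := g) (v₁₃ := f) _ hs2
      (IsPullback.of_hasPullback f g)
    rw [hs1, hy]
    exact IsPullback.id_horiz f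
  refine ⟨?_, ?_, ?_, ?_⟩
  · intro h
    constructor
    intro U hU hUc
    have h1 := h.isCompact_preimage U hU hUc
    have h2 : f ⁻¹' U = (pullback.fst f g) '' ((pullback.fst f g ≫ f) ⁻¹' U) := by
      ext x
      constructor
      · intro hx
        refine ⟨s x, ?_, ?_⟩
        · show (pullback.fst f g ≫ f) (s x) ∈ U
          rw [← Scheme.Hom.comp_apply, hsf]; exact hx
        · rw [← Scheme.Hom.comp_apply, hs1]; rfl
      · rintro ⟨q, hq, rfl⟩
        exact hq
    rw [h2]
    exact h1.image (pullback.fst f g).continuous
  · intro h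
    have : LocallyOfFiniteType (y ≫ g) := by rw [hy]; infer_instance
    have hy' : LocallyOfFiniteType y := locallyOfFiniteType_of_comp y g
    have hs' : LocallyOfFiniteType s :=
      MorphismProperty.of_isPullback (P := @LocallyOfFiniteType) hpb.flip hy'
    rw [← hsf]
    infer_instance
  · intro h
    have : IsSeparated (y ≫ g) := by rw [hy]; infer_instance
    have hy' : IsSeparated y := IsSeparated.of_comp y g
    have hs' : IsSeparated s :=
      MorphismProperty.of_isPullback (P := @IsSeparated) hpb.flip hy'
    rw [← hsf]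
    infer_instance
  · intro h
    have transport : ∀ x' x : X, x' = x → (f.stalkMap x').hom.Flat → (f.stalkMap x).hom.Flat := by
      rintro _ _ rfl h
      exact h
    apply Flat.of_stalkMap
    intro x
    apply transport ((pullback.fst f g) (s x)) x
      (by rw [← Scheme.Hom.comp_apply, hs1]; rfl)
    have h1 : (((pullback.fst f g).stalkMap (s x)).hom.comp
        (f.stalkMap ((pullback.fst f g) (s x))).hom).Flat := by
      have h0 := Flat.stalkMap (pullback.fst f g ≫ f) (s x)
      rw [Scheme.Hom.stalkMap_comp] at h0
      exact h0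
    have : IsIso (s ≫ pullback.fst f g) := by rw [hs1]; infer_instance
    have h2 : IsIso ((s ≫ pullback.fst f g).stalkMap x) := inferInstance
    rw [Scheme.Hom.stalkMap_comp] at h2
    have h3 := @ConcreteCategory.bijective_of_isIso _ _ _ _ _ _ _ _
      ((pullback.fst f g).stalkMap (s x) ≫ s.stalkMap x) h2
    exact flat_of_retract _ _ (s.stalkMap x).hom h3 h1

end Groth.Agent.S18490
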