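import Groth.Statements.S18502
import Mathlib
import Groth.Agent.S18975
import Groth.Agent.S8014
-- import your own Groth.Agent.* helpers here

set_option autoImplicit false
universe u
open CategoryTheory MonoidalCategory CartesianMonoidalCategory MonObj GrpObj AlgebraicGeometry Topology
open EqInt

namespace Groth.Agent.S18502

open CategoryTheory CategoryTheory.Limits AlgebraicGeometry MonoidalCategory CartesianMonoidalCategory MonObj

namespace H5S18502

theorem main (k : Type u) [Field k]
    (G X Y : Over (Spec (CommRingCat.of k))) [GrpObj G] [IsAffine G.left]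
    [QuasiCompact X.hom] [IsSeparated Y.hom]
    (a : AlgGrp.Action G X) (φ : X ⟶ Y) (hinv : GIT.IsInvariant a φ) [Flat φ.left] [Surjective φ.left]
    (hcart : IsIso (GIT.PsiY a φ hinv)) :
    GIT.IsGeomQuot a φ ∧ IsClosedImmersion (GIT.psi a (𝟙 X)).left := by
  have hcartL : IsPullback a.act.left (snd G X).left φ.left φ.left :=
    IsPullback.of_iso_pullback ⟨hinv.left⟩ (asIso (GIT.PsiY a φ hinv))
      (pullback.lift_fst _ _ _) (pullback.lift_snd _ _ _)
  have hcartO : IsPullback a.act (snd G X) φ φ :=
    IsPullback.of_map (Over.forget _) hinv hcartL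
  haveI : QuasiCompact φ.left := by
    haveI : QuasiCompact (φ.left ≫ Y.hom) := by
      rw [Over.w]
      infer_instance
    exact QuasiCompact.of_comp φ.left Y.hom
  have hloc := Groth.Agent.S8014.H5S8014.loc_of_fpqc φ
  refine ⟨(Groth.Agent.S18975.H5S18975.main k G X Y a φ hcartO hloc).2, ?_⟩
  have e : (GIT.psi a (𝟙 X)).left = GIT.PsiY a φ hinv ≫ pullback.mapDesc φ.left φ.left Y.hom ≫
      (pullback.congrHom (Over.w φ) (Over.w φ)).hom := by
    apply pullback.hom_ext
    · have h1 : (GIT.psi a (𝟙 X)).left ≫ pullback.fst X.hom X.hom = a.act.left := by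
        have : GIT.psi a (𝟙 X) ≫ fst X X = a.act := by
          unfold GIT.psi
          rw [lift_fst, whiskerLeft_id, Category.id_comp]
        exact congrArg CommaMorphism.left this
      rw [h1]
      simp only [GIT.PsiY, Category.assoc, pullback.congrHom_hom, pullback.lift_fst,
        pullback.lift_fst_assoc, Category.comp_id]
    · have h1 : (GIT.psi a (𝟙 X)).left ≫ pullback.snd X.hom X.hom = (snd G X).left := by
        have : GIT.psi a (𝟙 X) ≫ snd X X = snd G X := by
          unfold GIT.psi
          rw [lift_snd]
        exact congrArg CommaMorphism.left this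
      rw [h1]
      simp only [GIT.PsiY, Category.assoc, pullback.congrHom_hom, pullback.lift_snd,
        pullback.lift_snd_assoc, Category.comp_id]
  rw [e]
  infer_instance

end H5S18502

/-- Over a field k, let an affine group scheme G of finite type act on X, let X and Y be separated and
of finite type over k, and let φ : X → Y be G-invariant, flat and surjective with (σ, p₂) : G × X →
X ×_Y X an isomorphism (X is a principal G-bundle over Y). Conclusion: the pair (Y, φ) realizes Y as
a geometric quotient of X under G, and G acts freely, meaning (σ, p₂) : G × X → X × X is a closed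
immersion. (The source takes X and Y integral; integrality plays no role. A geometric quotient is
taken here with φ universally submersive.) -/
theorem result (k : Type u) [Field k]
    (G X Y : Over (Spec (CommRingCat.of k))) [GrpObj G] [IsAffine G.left] [LocallyOfFiniteType G.hom]
    [LocallyOfFiniteType X.hom] [QuasiCompact X.hom] [IsSeparated X.hom]
    [LocallyOfFiniteType Y.hom] [QuasiCompact Y.hom] [IsSeparated Y.hom]
    (a : AlgGrp.Action G X) (φ : X ⟶ Y) (hinv : GIT.IsInvariant a φ) [Flat φ.left] [Surjective φ.left]
    (hcart : IsIso (GIT.PsiY a φ hinv)) :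
    GIT.IsGeomQuot a φ ∧ IsClosedImmersion (GIT.psi a (𝟙 X)).left := by
  exact H5S18502.main k G X Y a φ hinv hcart

end Groth.Agent.S18502
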