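import Groth.Statements.S18504
import Mathlib

set_option autoImplicit false
universe u
open CategoryTheory MonoidalCategory CartesianMonoidalCategory MonObj GrpObj AlgebraicGeometry Topology
open EqInt

namespace Groth.Agent.S18504
open CategoryTheory CategoryTheory.Limits MonoidalCategory CartesianMonoidalCategory MonObj AlgebraicGeometry MorphismProperty Topology

section helpers



theorem univ_open_of_quot {X Y Γ : Scheme.{u}} (φ : X ⟶ Y) (σ p : Γ ⟶ X) (h : σ ≫ φ = p ≫ φ)
    (hsurj : Function.Surjective (pullback.lift σ p h).base) [UniversallyOpen p]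
    (hsub : universally (topologically @IsQuotientMap) φ) : UniversallyOpen φ := by
  constructor
  intro X' Y' g' g φ' hsq
  have hq : IsQuotientMap φ'.base := hsub g' g φ' hsq
  show IsOpenMap φ'.base
  intro U' hU'
  rw [← hq.isOpen_preimage]
  let κ : pullback φ' φ' ⟶ pullback φ φ := pullback.map φ' φ' φ φ g' g' g hsq.w hsq.w
  let Ψ : Γ ⟶ pullback φ φ := pullback.lift σ p h
  haveI : Surjective Ψ := ⟨hsurj⟩
  let ρ : pullback Ψ κ ⟶ pullback φ' φ' := pullback.snd Ψ κ
  haveI : Surjective ρ := inferInstance
  -- bottom square
  have s0 : IsPullback (pullback.fst φ' φ' ≫ g') (pullback.snd φ' φ') φ (g' ≫ φ) := by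
    have := (IsPullback.of_hasPullback φ' φ').paste_horiz hsq.flip
    rwa [hsq.w] at this
  have B : IsPullback κ (pullback.snd φ' φ') (pullback.snd φ φ) g' := by
    refine IsPullback.of_right ?_ (pullback.lift_snd _ _ _) (IsPullback.of_hasPullback φ φ)
    have e : κ ≫ pullback.fst φ φ = pullback.fst φ' φ' ≫ g' := pullback.lift_fst _ _ _
    rw [e]
    exact s0
  have P := (IsPullback.of_hasPullback Ψ κ).paste_vert B
  have e2 : Ψ ≫ pullback.snd φ φ = p := pullback.lift_snd _ _ _
  rw [e2] at P
  have hopen : UniversallyOpen (ρ ≫ pullback.snd φ' φ') :=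
    MorphismProperty.of_isPullback (P := @UniversallyOpen) P inferInstance
  have key : φ'.base ⁻¹' (φ'.base '' U') =
      (ρ ≫ pullback.snd φ' φ').base '' ((ρ ≫ pullback.fst φ' φ').base ⁻¹' U') := by
    ext x
    constructor
    · rintro ⟨u, hu, hux⟩
      obtain ⟨r, hr1, hr2⟩ := Scheme.Pullback.exists_preimage_pullback (f := φ') (g := φ') u x hux
      obtain ⟨w, rfl⟩ := ρ.surjective r
      refine ⟨w, ?_, ?_⟩
      · show (ρ ≫ pullback.fst φ' φ').base w ∈ U'
        rw [Scheme.Hom.comp_apply, hr1]
        exact hu
      · rw [Scheme.Hom.comp_apply, hr2]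
    · rintro ⟨w, hw, rfl⟩
      refine ⟨(ρ ≫ pullback.fst φ' φ').base w, hw, ?_⟩
      have := congrArg (fun t => (ρ ≫ t).base w) (pullback.condition (f := φ') (g := φ'))
      simpa using this
  rw [key]
  exact (ρ ≫ pullback.snd φ' φ').isOpenMap _ (hU'.preimage (ρ ≫ pullback.fst φ' φ').continuous)



end helpers

/-- Over a field k, let an affine group scheme G of finite type act on X, with X and Y separated of
finite type over k, and let (Y, φ) be a geometric quotient of X by G. Then φ is universally open.
(The source takes X and Y integral; integrality plays no role. A geometric quotient is taken here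
with φ universally submersive, and with this reading the universal openness is what the argument
gives.) -/
theorem result (k : Type u) [Field k]
    (G X Y : Over (Spec (CommRingCat.of k))) [GrpObj G] [IsAffine G.left] [LocallyOfFiniteType G.hom]
    [LocallyOfFiniteType X.hom] [QuasiCompact X.hom] [IsSeparated X.hom]
    [LocallyOfFiniteType Y.hom] [QuasiCompact Y.hom] [IsSeparated Y.hom]
    (a : AlgGrp.Action G X) (φ : X ⟶ Y) (h : GIT.IsGeomQuot a φ) :
    UniversallyOpen φ.left := by
  haveI : LocallyOfFinitePresentation G.hom := inferInstance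
  haveI : Flat G.hom := inferInstance
  haveI : UniversallyOpen G.hom := inferInstance
  haveI : UniversallyOpen (snd G X).left :=
    (inferInstance : UniversallyOpen (pullback.snd G.hom X.hom))
  exact univ_open_of_quot φ.left a.act.left (snd G X).left h.inv.left h.orbit h.subm

end Groth.Agent.S18504
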