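import Groth.Statements.S1852
import Mathlib

set_option autoImplicit false
universe u
open CycAlg

namespace Groth.Agent.S1852

section Aux

variable {R : Type u} [CommRing R] (q : Ideal R) [q.IsPrime]

/-- length of the localization at `q`. -/
noncomputable def lam (X : Type u) [AddCommGroup X] [Module R X] : ℕ∞ :=
  Module.length (Localization.AtPrime q) (LocalizedModule q.primeCompl X)

theorem lam_exact {X' X X'' : Type u} [AddCommGroup X'] [Module R X'] [AddCommGroup X] [Module R X]
    [AddCommGroup X''] [Module R X''] (f : X' →ₗ[R] X) (g : X →ₗ[R] X'')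
    (hf : Function.Injective f) (hg : Function.Surjective g) (hfg : Function.Exact f g) :
    lam q X = lam q X' + lam q X'' := by
  unfold lam
  refine Module.length_eq_add_of_exact (LocalizedModule.map q.primeCompl f)
    (LocalizedModule.map q.primeCompl g) ?_ ?_ ?_
  · exact IsLocalizedModule.map_injective q.primeCompl _ _ f hf
  · exact IsLocalizedModule.map_surjective q.primeCompl _ _ g hg
  · exact LocalizedModule.map_exact q.primeCompl f g hfg

theorem lam_equiv {X Y : Type u} [AddCommGroup X] [Module R X] [AddCommGroup Y] [Module R Y]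
    (e : X ≃ₗ[R] Y) : lam q X = lam q Y := by
  unfold lam
  exact LinearEquiv.length_eq (IsLocalizedModule.mapEquiv q.primeCompl
    (LocalizedModule.mkLinearMap q.primeCompl X) (LocalizedModule.mkLinearMap q.primeCompl Y)
    (Localization.AtPrime q) e)

theorem lam_zero_of_subsingleton {X : Type u} [AddCommGroup X] [Module R X] [Subsingleton X] :
    lam q X = 0 := by
  unfold lam
  rw [Module.length_eq_zero_iff]
  constructor
  intro a b
  induction a using LocalizedModule.induction_on with
  | h m s =>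
    induction b using LocalizedModule.induction_on with
    | h m' s' =>
      rw [Subsingleton.elim m 0, Subsingleton.elim m' 0, LocalizedModule.zero_mk,
        LocalizedModule.zero_mk]

theorem algebraMapSubmonoid_quot :
    Algebra.algebraMapSubmonoid (R ⧸ q) q.primeCompl = nonZeroDivisors (R ⧸ q) := by
  ext x
  obtain ⟨x, rfl⟩ := Ideal.Quotient.mk_surjective x
  rw [mem_nonZeroDivisors_iff_ne_zero, Ne, Ideal.Quotient.eq_zero_iff_mem]
  constructor
  · rintro ⟨s, hs, hsx⟩ hx
    have h1 : s - x ∈ q := by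
      rw [← Ideal.Quotient.eq_zero_iff_mem, map_sub, sub_eq_zero]
      exact hsx
    exact hs (by simpa using q.add_mem h1 hx)
  · intro hx
    exact ⟨x, hx, rfl⟩

theorem lam_quot : lam q (R ⧸ q) = 1 := by
  unfold lam
  rw [Module.length_eq_one_iff]
  let g : (R ⧸ q) →ₗ[R] q.ResidueField :=
    (IsScalarTower.toAlgHom R (R ⧸ q) q.ResidueField).toLinearMap
  haveI : IsLocalization (Algebra.algebraMapSubmonoid (R ⧸ q) q.primeCompl) q.ResidueField := by
    rw [algebraMapSubmonoid_quot]
    infer_instance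
  haveI : IsLocalizedModule q.primeCompl g := isLocalizedModule_iff_isLocalization.2 inferInstance
  let e0 : LocalizedModule q.primeCompl (R ⧸ q) ≃ₗ[R] q.ResidueField :=
    IsLocalizedModule.iso q.primeCompl g
  let e : LocalizedModule q.primeCompl (R ⧸ q) ≃ₗ[Localization.AtPrime q] q.ResidueField :=
    e0.extendScalarsOfIsLocalization q.primeCompl (Localization.AtPrime q)
  haveI : IsSimpleModule (Localization.AtPrime q) q.ResidueField :=
    isSimpleModule_iff_quot_maximal.2
      ⟨IsLocalRing.maximalIdeal (Localization.AtPrime q), inferInstance, ⟨LinearEquiv.refl _ _⟩⟩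
  exact IsSimpleModule.congr e

variable {M : Type u} [AddCommGroup M] [Module R M]

variable (R) in
/-- the submodule spanned by the entries before position `i` (same as `CycDet.spanBefore`). -/
def sb {l : ℕ} (x : Fin l → M) (i : ℕ) : Submodule R M :=
  Submodule.span R (x '' {j : Fin l | (j : ℕ) < i})

/-- `B / A ≅ R / q`. -/
def Q (A B : Submodule R M) : Prop := Nonempty ((↥B ⧸ A.submoduleOf B) ≃ₗ[R] R ⧸ q)

theorem sb_mono {l : ℕ} (x : Fin l → M) {i j : ℕ} (h : i ≤ j) : sb R x i ≤ sb R x j :=
  Submodule.span_mono (Set.image_mono fun k hk => lt_of_lt_of_le hk h)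

theorem sb_zero {l : ℕ} (x : Fin l → M) : sb R x 0 = (⊥ : Submodule R M) := by
  simp [sb]

theorem sb_top {l : ℕ} (x : Fin l → M) : sb R x l = Submodule.span R (Set.range x) := by
  unfold sb
  congr 1
  ext m
  simp

theorem lam_step (A B : Submodule R M) (hAB : A ≤ B) (h : Q q A B) : lam q B = lam q A + 1 := by
  obtain ⟨e⟩ := h
  rw [lam_exact q (Submodule.inclusion hAB) (A.submoduleOf B).mkQ
    (Submodule.inclusion_injective hAB) (Submodule.mkQ_surjective _) ?_, lam_equiv q e, lam_quot]
  rw [LinearMap.exact_iff, Submodule.ker_mkQ, Submodule.range_inclusion]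
  rfl

theorem lam_sb {l : ℕ} (x : Fin l → M) (hch : ∀ i : Fin l, Q q (sb R x i) (sb R x (i + 1))) :
    ∀ i : ℕ, i ≤ l → lam q (sb R x i) = i := by
  intro i
  induction i with
  | zero =>
    intro _
    haveI : Subsingleton (sb R x 0) := by
      rw [sb_zero]
      infer_instance
    rw [lam_zero_of_subsingleton]
    rfl
  | succ i ih =>
    intro h
    rw [lam_step q _ _ (sb_mono x (Nat.le_succ i)) (hch ⟨i, h⟩), ih (by omega)]
    push_cast
    rfl

theorem lam_eq_of_chain {l : ℕ} (x : Fin l → M)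
    (hsupp : (⟨q, inferInstance⟩ : PrimeSpectrum R) ∉
      Module.support R (M ⧸ Submodule.span R (Set.range x)))
    (hch : ∀ i : Fin l, Q q (sb R x i) (sb R x (i + 1))) : lam q M = l := by
  rw [lam_exact q (Submodule.span R (Set.range x)).subtype (Submodule.span R (Set.range x)).mkQ
    (Submodule.subtype_injective _) (Submodule.mkQ_surjective _)
    (LinearMap.exact_subtype_mkQ _)]
  rw [Module.notMem_support_iff] at hsupp
  have h0 : lam q (M ⧸ Submodule.span R (Set.range x)) = 0 := by
    unfold lam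
    exact Module.length_eq_zero
  rw [h0, add_zero, ← sb_top, lam_sb q x hch l le_rfl]

/-- chain predicate -/
def HasChain (N : Submodule R M) : Prop :=
  ∃ (l : ℕ) (x : Fin l → M), Submodule.span R (Set.range x) = N ∧
    ∀ i : Fin l, Q q (sb R x i) (sb R x (i + 1))

theorem hasChain_bot : HasChain q (⊥ : Submodule R M) :=
  ⟨0, Fin.elim0, by simp, fun i => i.elim0⟩

theorem sb_snoc {l : ℕ} (x : Fin l → M) (y : M) {i : ℕ} (hi : i ≤ l) :
    sb R (Fin.snoc x y : Fin (l + 1) → M) i = sb R x i := by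
  unfold sb
  congr 1
  ext m
  constructor
  · rintro ⟨j, hj, rfl⟩
    have hjl : (j : ℕ) < l := lt_of_lt_of_le hj hi
    refine ⟨j.castLT hjl, hj, ?_⟩
    conv_rhs => rw [← Fin.castSucc_castLT j hjl]
    rw [Fin.snoc_castSucc]
  · rintro ⟨j, hj, rfl⟩
    exact ⟨Fin.castSucc j, hj, Fin.snoc_castSucc (α := fun _ => M) y x j⟩

theorem span_range_snoc {l : ℕ} (x : Fin l → M) (y : M) :
    Submodule.span R (Set.range (Fin.snoc x y : Fin (l + 1) → M)) =
      Submodule.span R (Set.range x) ⊔ Submodule.span R {y} := by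
  rw [Fin.range_snoc, Submodule.span_insert, sup_comm]

theorem hasChain_sup {N : Submodule R M} (hN : HasChain q N) (y : M)
    (hy : Q q N (N ⊔ Submodule.span R {y})) : HasChain q (N ⊔ Submodule.span R {y}) := by
  obtain ⟨l, x, hx, hch⟩ := hN
  refine ⟨l + 1, Fin.snoc x y, by rw [span_range_snoc, hx], fun i => ?_⟩
  rcases Nat.lt_or_ge (i : ℕ) l with hi | hi
  · rw [sb_snoc x y hi.le, sb_snoc x y (Nat.succ_le_of_lt hi)]
    exact hch ⟨i, hi⟩
  · have hil : (i : ℕ) = l := le_antisymm (Nat.lt_succ_iff.1 i.2) hi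
    rw [hil, sb_snoc x y le_rfl, sb_top (Fin.snoc x y : Fin (l + 1) → M), span_range_snoc, sb_top, hx]
    exact hy

theorem Q_of_injective {N : Submodule R M} (f : R ⧸ q →ₗ[R] M ⧸ N) (hf : Function.Injective f)
    (y : M) (hy : N.mkQ y = f 1) : Q q N (N ⊔ Submodule.span R {y}) := by
  have hyB : y ∈ N ⊔ Submodule.span R {y} :=
    Submodule.mem_sup_right (Submodule.mem_span_singleton_self y)
  let φ : R →ₗ[R] (↥(N ⊔ Submodule.span R {y}) ⧸ N.submoduleOf (N ⊔ Submodule.span R {y})) :=
    (N.submoduleOf (N ⊔ Submodule.span R {y})).mkQ ∘ₗ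
      (LinearMap.toSpanSingleton R (↥(N ⊔ Submodule.span R {y})) ⟨y, hyB⟩)
  have hsurj : Function.Surjective φ := by
    intro z
    obtain ⟨⟨b, hb⟩, rfl⟩ := Submodule.mkQ_surjective _ z
    obtain ⟨n, hn, z', hz', rfl⟩ := Submodule.mem_sup.1 hb
    obtain ⟨r, rfl⟩ := Submodule.mem_span_singleton.1 hz'
    refine ⟨r, ?_⟩
    simp only [φ, LinearMap.comp_apply, LinearMap.toSpanSingleton_apply, Submodule.mkQ_apply]
    rw [Submodule.Quotient.eq]
    show ((r • (⟨y, hyB⟩ : ↥(N ⊔ Submodule.span R {y})) - ⟨n + r • y, hb⟩ :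
      ↥(N ⊔ Submodule.span R {y})) : M) ∈ N
    simp only [Submodule.coe_sub, Submodule.coe_smul]
    have : r • y - (n + r • y) = -n := by abel
    rw [this]
    exact N.neg_mem hn
  have hker : LinearMap.ker φ = q := by
    ext r
    rw [LinearMap.mem_ker]
    simp only [φ, LinearMap.comp_apply, LinearMap.toSpanSingleton_apply, Submodule.mkQ_apply]
    rw [Submodule.Quotient.mk_eq_zero]
    show ((r • (⟨y, hyB⟩ : ↥(N ⊔ Submodule.span R {y})) : ↥(N ⊔ Submodule.span R {y})) : M) ∈ N ↔ _
    simp only [Submodule.coe_smul]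
    rw [← Submodule.Quotient.mk_eq_zero, ← Submodule.mkQ_apply, map_smul, hy, ← map_smul,
      ← map_zero f, hf.eq_iff, ← Ideal.Quotient.eq_zero_iff_mem]
    have h1 : (r • (1 : R ⧸ q)) = Ideal.Quotient.mk q r := by
      rw [Algebra.smul_def, mul_one]
      rfl
    rw [h1]
  exact ⟨(LinearMap.quotKerEquivOfSurjective φ hsurj).symm ≪≫ₗ
    Submodule.quotEquivOfEq _ _ hker⟩

theorem exists_chain [IsNoetherianRing R] [Module.Finite R M]
    (hq : Minimal (fun p : PrimeSpectrum R => p ∈ Module.support R M) ⟨q, inferInstance⟩) :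
    ∃ N : Submodule R M, HasChain q N ∧
      (⟨q, inferInstance⟩ : PrimeSpectrum R) ∉ Module.support R (M ⧸ N) := by
  haveI : IsNoetherian R M := isNoetherian_of_isNoetherianRing_of_finite R M
  obtain ⟨N, hN, hmax⟩ := WellFounded.has_min (wellFounded_gt (α := Submodule R M))
    {N | HasChain q N} ⟨⊥, hasChain_bot q⟩
  refine ⟨N, hN, fun hmem => ?_⟩
  -- q is a minimal prime over the annihilator of M ⧸ N
  have hann : Module.annihilator R (M ⧸ N) ≤ q := by
    rw [Module.support_eq_zeroLocus] at hmem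
    exact hmem
  have hmin : q ∈ (Module.annihilator R (M ⧸ N)).minimalPrimes := by
    refine ⟨⟨inferInstance, hann⟩, ?_⟩
    rintro p' ⟨hp'prime, hp'ann⟩ hp'q
    have h1 : (⟨p', hp'prime⟩ : PrimeSpectrum R) ∈ Module.support R (M ⧸ N) := by
      rw [Module.support_eq_zeroLocus]
      exact hp'ann
    have h2 : (⟨p', hp'prime⟩ : PrimeSpectrum R) ∈ Module.support R M :=
      Module.support_subset_of_surjective N.mkQ (Submodule.mkQ_surjective N) h1
    exact hq.2 h2 hp'q
  have hass : IsAssociatedPrime q (M ⧸ N) :=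
    Module.associatedPrimes.minimalPrimes_annihilator_subset_associatedPrimes R (M ⧸ N) hmin
  obtain ⟨_, f, hf⟩ := (isAssociatedPrime_iff_exists_injective_linearMap q (M ⧸ N)).1 hass
  obtain ⟨y, hy⟩ := Submodule.mkQ_surjective N (f 1)
  have hQ := Q_of_injective q f hf y hy
  have hch := hasChain_sup q hN y hQ
  have hlt : N < N ⊔ Submodule.span R {y} := by
    refine lt_of_le_of_ne le_sup_left fun heq => ?_
    have hyN : y ∈ N := by
      rw [heq]
      exact Submodule.mem_sup_right (Submodule.mem_span_singleton_self y)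
    have h0 : f 1 = 0 := by
      rw [← hy, Submodule.mkQ_apply, Submodule.Quotient.mk_eq_zero]
      exact hyN
    have h1 : (1 : R ⧸ q) = 0 := hf (by rw [h0, map_zero])
    have h2 : (1 : R) ∈ q := by
      rw [← Ideal.Quotient.eq_zero_iff_mem]
      exact h1
    exact (inferInstance : q.IsPrime).ne_top ((Ideal.eq_top_iff_one q).2 h2)
  exact hmax _ hch hlt

theorem main (R : Type u) [CommRing R] [IsNoetherianRing R] [IsLocalRing R] (M : Type u)
    [AddCommGroup M] [Module R M] [Module.Finite R M] (q : PrimeSpectrum R)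
    (hq : Minimal (fun p : PrimeSpectrum R => p ∈ Module.support R M) q) :
    (∃ (l : ℕ) (x : Fin l → M), q ∉ Module.support R (M ⧸ Submodule.span R (Set.range x)) ∧
      ∀ i : Fin l, Nonempty ((↥(CycDet.spanBefore R M x (i + 1)) ⧸
        (CycDet.spanBefore R M x i).submoduleOf (CycDet.spanBefore R M x (i + 1))) ≃ₗ[R]
          (R ⧸ q.asIdeal))) ∧
    ∀ (l : ℕ) (x : Fin l → M), q ∉ Module.support R (M ⧸ Submodule.span R (Set.range x)) →
      (∀ i : Fin l, Nonempty ((↥(CycDet.spanBefore R M x (i + 1)) ⧸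
        (CycDet.spanBefore R M x i).submoduleOf (CycDet.spanBefore R M x (i + 1))) ≃ₗ[R]
          (R ⧸ q.asIdeal))) →
      (l : ℕ∞) = Module.length (Localization.AtPrime q.asIdeal)
        (LocalizedModule q.asIdeal.primeCompl M) := by
  haveI := q.isPrime
  constructor
  · obtain ⟨N, ⟨l, x, hx, hch⟩, hsupp⟩ := exists_chain q.asIdeal hq
    refine ⟨l, x, ?_, fun i => hch i⟩
    rw [hx]
    exact hsupp
  · intro l x hsupp hch
    exact (lam_eq_of_chain q.asIdeal x hsupp (fun i => hch i)).symm

end Aux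

/-- Let R be a Noetherian local ring, M a finite R-module and 𝔮 a minimal prime of the support of M.
There are x₁, …, x_l in M such that 𝔮 is not in the support of M/⟨x₁, …, x_l⟩ and each ⟨x₁, …,
x_i⟩/⟨x₁, …, x_{i−1}⟩ is isomorphic to R/𝔮; and for any such sequence l equals the length of M_𝔮
over R_𝔮. -/
theorem result (R : Type u) [CommRing R] [IsNoetherianRing R] [IsLocalRing R] (M : Type u) [AddCommGroup M] [Module R M] [Module.Finite R M] (q : PrimeSpectrum R) (hq : Minimal (fun p : PrimeSpectrum R => p ∈ Module.support R M) q) : (∃ (l : ℕ) (x : Fin l → M), q ∉ Module.support R (M ⧸ Submodule.span R (Set.range x)) ∧ ∀ i : Fin l, Nonempty ((↥(CycDet.spanBefore R M x (i + 1)) ⧸ (CycDet.spanBefore R M x i).submoduleOf (CycDet.spanBefore R M x (i + 1))) ≃ₗ[R] (R ⧸ q.asIdeal))) ∧ ∀ (l : ℕ) (x : Fin l → M), q ∉ Module.support R (M ⧸ Submodule.span R (Set.range x)) → (∀ i : Fin l, Nonempty ((↥(CycDet.spanBefore R M x (i + 1)) ⧸ (CycDet.spanBefore R M x i).submoduleOf (CycDet.spanBefore R M x (i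 + 1))) ≃ₗ[R] (R ⧸ q.asIdeal))) → (l : ℕ∞) = Module.length (Localization.AtPrime q.asIdeal) (LocalizedModule q.asIdeal.primeCompl M) := by
  exact main R M q hq

end Groth.Agent.S1852
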