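import Groth.Statements.S18538
import Mathlib

set_option autoImplicit false
universe u
open EtAlg

namespace Groth.Agent.S18538

/-- Let A ⊆ B be an injective finite extension of integrally closed domains, with fraction fields K ⊆ L
and L separable over K. Then A → B → B ⊗_A B is exact, the second map being b ↦ b ⊗ 1 - 1 ⊗ b: every
element of B whose two images in B ⊗_A B agree comes from A. -/
theorem result
    (A B K L : Type u) [CommRing A] [CommRing B] [IsDomain A] [IsDomain B]
    [IsIntegrallyClosed A] [IsIntegrallyClosed B] [Algebra A B] [FaithfulSMul A B] [Module.Finite A B]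
    [Field K] [Field L] [Algebra A K] [IsFractionRing A K] [Algebra B L] [IsFractionRing B L]
    [Algebra K L] [Algebra A L] [IsScalarTower A K L] [IsScalarTower A B L]
    [Algebra.IsSeparable K L] :
    Algebra.IsEffective A B := by
  intro b
  constructor
  · intro hb
    let f : B →ₐ[A] L := IsScalarTower.toAlgHom A B L
    let g : TensorProduct A B B →ₐ[A] TensorProduct K L L :=
      (Algebra.TensorProduct.mapOfCompatibleSMul K A A L L).comp (Algebra.TensorProduct.map f f)
    have hg : Algebra.TensorProduct.includeLeftSubRight K L (f b) = 0 := by
      have := congrArg g hb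
      rw [Algebra.TensorProduct.includeLeftSubRight_apply, map_sub, map_zero] at this
      rw [Algebra.TensorProduct.includeLeftSubRight_apply]
      simpa [g] using this
    have heff : Algebra.IsEffective K L := Algebra.IsEffective.of_faithfullyFlat K L
    obtain ⟨c, hc⟩ := (heff (f b)).mp hg
    have hc' : algebraMap K L c = algebraMap B L b := hc
    have hbint : IsIntegral A b := Algebra.IsIntegral.isIntegral b
    have hcint : IsIntegral A c := by
      rw [← isIntegral_algebraMap_iff (FaithfulSMul.algebraMap_injective K L), hc']
      exact hbint.algebraMap
    obtain ⟨a, ha⟩ := IsIntegrallyClosed.isIntegral_iff.mp hcint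
    refine ⟨a, ?_⟩
    apply IsFractionRing.injective B L
    rw [Algebra.linearMap_apply, ← hc', ← ha, ← IsScalarTower.algebraMap_apply,
      ← IsScalarTower.algebraMap_apply]
  · exact Algebra.TensorProduct.includeLeftSubRight_zero_of_mem_range

end Groth.Agent.S18538
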