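import Groth.Statements.S18539
import Mathlib

set_option autoImplicit false
universe u v w
open CAlg

namespace Groth.Agent.S18539

open RingTheory.Sequence in
theorem result
    (R : Type u) [CommRing R] (M : Type v) (N : Type w)
    [AddCommGroup M] [Module R M] [AddCommGroup N] [Module R N]
    (r₁ r₂ : R) (h : RingTheory.Sequence.IsWeaklyRegular N [r₁, r₂]) :
    RingTheory.Sequence.IsWeaklyRegular (M →ₗ[R] N) [r₁, r₂] := by
  rw [isWeaklyRegular_cons_iff, isWeaklyRegular_singleton_iff] at h ⊢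
  obtain ⟨h1, h2⟩ := h
  have h1' : ∀ x y : N, r₁ • x = r₁ • y → x = y := fun x y hxy => h1 hxy
  have hH1 : IsSMulRegular (M →ₗ[R] N) r₁ := by
    intro f g hfg
    ext m
    apply h1'
    have := congrArg (fun φ : M →ₗ[R] N => φ m) hfg
    simpa using this
  refine ⟨hH1, ?_⟩
  rw [isSMulRegular_iff_right_eq_zero_of_smul]
  intro x hx
  obtain ⟨f, rfl⟩ := Submodule.Quotient.mk_surjective _ x
  rw [← Submodule.Quotient.mk_smul, Submodule.Quotient.mk_eq_zero,
    Submodule.mem_smul_pointwise_iff_exists] at hx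
  obtain ⟨g, -, hg⟩ := hx
  rw [Submodule.Quotient.mk_eq_zero, Submodule.mem_smul_pointwise_iff_exists]
  -- pointwise: f m ∈ r₁ N
  have hpt : ∀ m : M, ∃ n : N, r₁ • n = f m := by
    intro m
    have h3 : r₂ • (Submodule.Quotient.mk (f m) : QuotSMulTop r₁ N) = 0 := by
      rw [← Submodule.Quotient.mk_smul, Submodule.Quotient.mk_eq_zero,
        Submodule.mem_smul_pointwise_iff_exists]
      refine ⟨g m, trivial, ?_⟩
      have := congrArg (fun φ : M →ₗ[R] N => φ m) hg
      simpa using this
    have h4 := isSMulRegular_iff_right_eq_zero_of_smul.mp h2 _ h3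
    rw [Submodule.Quotient.mk_eq_zero, Submodule.mem_smul_pointwise_iff_exists] at h4
    obtain ⟨n, -, hn⟩ := h4
    exact ⟨n, hn⟩
  choose hfun hhfun using hpt
  refine ⟨{ toFun := hfun, map_add' := ?_, map_smul' := ?_ }, trivial, ?_⟩
  · intro a b
    apply h1'
    rw [smul_add, hhfun, hhfun, hhfun, map_add]
  · intro c a
    apply h1'
    rw [hhfun, RingHom.id_apply, smul_comm, hhfun, map_smul]
  · ext m
    simp [hhfun]

end Groth.Agent.S18539
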