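import Groth.Statements.S1854
import Mathlib
import Groth.Agent.S1839
import Groth.Agent.S1838

set_option autoImplicit false
universe u
open TensorProduct
open CycDet

namespace Groth.Agent.S1854aux

open CycDet IsLocalRing Groth.Agent.S1838aux Groth.Agent.S1839aux TensorProduct
set_option linter.unusedSectionVars false
set_option linter.unusedVariables false

variable {R : Type u} [CommRing R] [IsLocalRing R]

section general
variable {N : Type u} [AddCommGroup N] [Module R N]

lemma spanBefore_eq_span_range {l : ℕ} (v : Fin l → N) :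
    spanBefore R N v l = Submodule.span R (Set.range v) := by
  unfold spanBefore
  congr 1
  ext x
  constructor
  · rintro ⟨j, _, rfl⟩; exact ⟨j, rfl⟩
  · rintro ⟨j, rfl⟩; exact ⟨j, j.2, rfl⟩

open Classical in
/-- symbol of a tuple, zero if not admissible. -/
noncomputable def syF {l : ℕ} (u : Fin l → N) : DetOfLen R N l :=
  if h : IsAdmissible R N u then sy ⟨u, h⟩ else 0

lemma syF_eq {l : ℕ} (u : Fin l → N) (h : IsAdmissible R N u) : syF u = sy (⟨u, h⟩ : Adm R N l) := by
  unfold syF; rw [dif_pos h]

lemma syF_zero {l : ℕ} (u : Fin l → N) (h : IsAdmissible R N u) (t : Fin l)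
    (ht : u t ∈ spanBefore R N u t) : syF (R := R) u = 0 := by
  rw [syF_eq u h]
  exact sy_eq_zero ⟨u, h⟩ t ht

lemma syF_relb {l : ℕ} (u u' : Fin l → N) (h : IsAdmissible R N u) (h' : IsAdmissible R N u')
    (t : Fin l) (c : Rˣ) (h1 : ∀ j, j ≠ t → u j = u' j)
    (h2 : u t - (c : R) • u' t ∈ spanBefore R N u t) :
    syF (R := R) u = residue R (c : R) • syF u' := by
  rw [syF_eq u h, syF_eq u' h']
  exact sy_relb ⟨u, h⟩ ⟨u', h'⟩ t c h1 h2

lemma syF_relc {l : ℕ} (u u' : Fin l → N) (h : IsAdmissible R N u) (h' : IsAdmissible R N u')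
    (x y : Fin l) (hxy : (y : ℕ) + 1 = x)
    (h1 : ∀ r ∈ maximalIdeal R, r • u x ∈ spanBefore R N u y)
    (h2 : u' = u ∘ Equiv.swap x y) :
    syF (R := R) u = - syF u' := by
  rw [syF_eq u h, syF_eq u' h']
  exact sy_relc ⟨u, h⟩ ⟨u', h'⟩ x y hxy h1 h2

lemma spanBefore_append_left {a b : ℕ} (v : Fin a → N) (w : Fin b → N) (i : ℕ) (hi : i ≤ a) :
    spanBefore R N (Fin.append v w) i = spanBefore R N v i := by
  apply le_antisymm
  · apply spanBefore_le_of'
    intro j hj
    have hja : (j : ℕ) < a := lt_of_lt_of_le hj hi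
    have : j = Fin.castAdd b ⟨j, hja⟩ := Fin.ext rfl
    rw [this, Fin.append_left]
    exact mem_spanBefore v ⟨j, hja⟩ hj
  · apply spanBefore_le_of'
    intro j hj
    have : v j = Fin.append v w (Fin.castAdd b j) := (Fin.append_left v w j).symm
    rw [this]
    exact mem_spanBefore (Fin.append v w) (Fin.castAdd b j) (by simpa using hj)

lemma spanBefore_append_right {a b : ℕ} (v : Fin a → N) (w : Fin b → N) (j : ℕ) :
    spanBefore R N (Fin.append v w) (a + j) =
      Submodule.span R (Set.range v) ⊔ spanBefore R N w j := by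
  apply le_antisymm
  · unfold spanBefore
    rw [Submodule.span_le]
    rintro _ ⟨t, ht, rfl⟩
    induction t using Fin.addCases with
    | left i =>
      rw [Fin.append_left]
      exact Submodule.mem_sup_left (Submodule.subset_span ⟨i, rfl⟩)
    | right t' =>
      rw [Fin.append_right]
      have ht' : (t' : ℕ) < j := by
        have : ((Fin.natAdd a t' : Fin (a + b)) : ℕ) < a + j := ht
        rw [Fin.val_natAdd] at this
        omega
      exact Submodule.mem_sup_right (Submodule.subset_span ⟨t', ht', rfl⟩)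
  · apply sup_le
    · rw [Submodule.span_le]
      rintro _ ⟨i, rfl⟩
      have : v i = Fin.append v w (Fin.castAdd b i) := (Fin.append_left v w i).symm
      rw [this]
      apply mem_spanBefore (Fin.append v w) (Fin.castAdd b i)
      rw [Fin.val_castAdd]
      have := i.2
      omega
    · apply spanBefore_le_of'
      intro t ht
      have : w t = Fin.append v w (Fin.natAdd a t) := (Fin.append_right v w t).symm
      rw [this]
      apply mem_spanBefore (Fin.append v w) (Fin.natAdd a t)
      rw [Fin.val_natAdd]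
      omega

lemma append_comp_swap_right {a b : ℕ} (v : Fin a → N) (w : Fin b → N) (x y : Fin b) :
    Fin.append v (w ∘ Equiv.swap x y) =
      Fin.append v w ∘ Equiv.swap (Fin.natAdd a x) (Fin.natAdd a y) := by
  funext t
  induction t using Fin.addCases with
  | left i =>
    rw [Fin.append_left, Function.comp_apply, Equiv.swap_apply_of_ne_of_ne, Fin.append_left]
    · intro h
      have := congrArg Fin.val h
      rw [Fin.val_castAdd, Fin.val_natAdd] at this
      have := i.2
      omega
    · intro h
      have := congrArg Fin.val h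
      rw [Fin.val_castAdd, Fin.val_natAdd] at this
      have := i.2
      omega
  | right j =>
    rw [Fin.append_right, Function.comp_apply, Function.comp_apply,
      (Fin.natAdd_injective b a).swap_apply, Fin.append_right]

lemma append_comp_swap_left {a b : ℕ} (v : Fin a → N) (w : Fin b → N) (x y : Fin a) :
    Fin.append (v ∘ Equiv.swap x y) w =
      Fin.append v w ∘ Equiv.swap (Fin.castAdd b x) (Fin.castAdd b y) := by
  funext t
  induction t using Fin.addCases with
  | left i =>
    rw [Fin.append_left, Function.comp_apply, Function.comp_apply,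
      (Fin.castAdd_injective a b).swap_apply, Fin.append_left]
  | right j =>
    rw [Fin.append_right, Function.comp_apply, Equiv.swap_apply_of_ne_of_ne, Fin.append_right]
    · intro h
      have := congrArg Fin.val h
      rw [Fin.val_castAdd, Fin.val_natAdd] at this
      have := x.2
      omega
    · intro h
      have := congrArg Fin.val h
      rw [Fin.val_castAdd, Fin.val_natAdd] at this
      have := y.2
      omega

end general

section ses
variable {K L M : Type u} [AddCommGroup K] [Module R K] [AddCommGroup L] [Module R L]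
  [AddCommGroup M] [Module R M] (f : K →ₗ[R] L) (g : L →ₗ[R] M)
  (hfg : LinearMap.range f = LinearMap.ker g)

include hfg in
lemma mem_append_of_g_mem {a b : ℕ} (v : Fin a → L)
    (hv : LinearMap.range f ≤ Submodule.span R (Set.range v))
    (w : Fin b → L) (j : ℕ) (z : L) (hz : g z ∈ spanBefore R M (g ∘ w) j) :
    z ∈ spanBefore R L (Fin.append v w) (a + j) := by
  rw [spanBefore_append_right]
  rw [← map_spanBefore] at hz
  obtain ⟨y, hy, hyz⟩ := hz
  have : z - y ∈ LinearMap.ker g := by rw [LinearMap.mem_ker, map_sub, hyz, sub_self]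
  rw [← hfg] at this
  have hzy : z = (z - y) + y := by abel
  rw [hzy]
  exact Submodule.add_mem _ (Submodule.mem_sup_left (hv this)) (Submodule.mem_sup_right hy)

lemma range_le_span {a : ℕ} (eK : Fin a → K) (hgen : Submodule.span R (Set.range eK) = ⊤) :
    LinearMap.range f ≤ Submodule.span R (Set.range (f ∘ eK)) := by
  rw [Set.range_comp, ← Submodule.map_span, hgen, Submodule.map_top]

include hfg in
lemma adm_append {a b : ℕ} (eK : Fin a → K) (hK : IsAdmissible R K eK)
    (hgen : Submodule.span R (Set.range eK) = ⊤)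
    (w : Fin b → L) (hw : IsAdmissible R M (g ∘ w)) :
    IsAdmissible R L (Fin.append (f ∘ eK) w) := by
  intro t r hr
  induction t using Fin.addCases with
  | left i =>
    rw [Fin.append_left, Fin.val_castAdd, spanBefore_append_left _ _ _ i.2.le]
    show r • f (eK i) ∈ _
    rw [← map_smul, ← map_spanBefore]
    exact Submodule.mem_map_of_mem (hK i r hr)
  | right j =>
    rw [Fin.append_right, Fin.val_natAdd]
    apply mem_append_of_g_mem f g hfg (f ∘ eK) (range_le_span f eK hgen) w j
    rw [map_smul]
    exact hw j r hr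

variable (hg : Function.Surjective g)

/-- set-theoretic section. -/
noncomputable def σ : M → L := Function.surjInv hg

lemma g_σ (m : M) : g (σ g hg m) = m := Function.surjInv_eq hg m

lemma g_comp_σ {b : ℕ} (eM : Fin b → M) : g ∘ (σ g hg ∘ eM) = eM := by
  funext j
  exact g_σ g hg (eM j)

/-- the function on basis elements defining `ψ`. -/
noncomputable def ψfun {a b : ℕ} (eK : Fin a → K) (eM : Adm R M b) : DetOfLen R L (a + b) :=
  syF (Fin.append (f ∘ eK) (σ g hg ∘ eM.1))

/-- `ψ` on the free module. -/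
noncomputable def Ψ1 {a b : ℕ} (eK : Fin a → K) :
    Free R M b →ₗ[ResidueField R] DetOfLen R L (a + b) :=
  Finsupp.linearCombination (ResidueField R) (ψfun f g hg eK)

lemma Ψ1_sym {a b : ℕ} (eK : Fin a → K) (eM : Adm R M b) :
    Ψ1 f g hg eK (sym R M eM) = ψfun f g hg eK eM := by
  unfold Ψ1 sym
  rw [Finsupp.linearCombination_single, one_smul]

include hfg in
lemma Ψ1_rel {a b : ℕ} (eK : Fin a → K) (hK : IsAdmissible R K eK)
    (hgen : Submodule.span R (Set.range eK) = ⊤) :
    Submodule.span (ResidueField R) (relSet R M b) ≤ LinearMap.ker (Ψ1 f g hg eK) := by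
  have hadm : ∀ eM : Adm R M b, IsAdmissible R L (Fin.append (f ∘ eK) (σ g hg ∘ eM.1)) := by
    intro eM
    apply adm_append f g hfg eK hK hgen
    rw [g_comp_σ]
    exact eM.2
  have hmem : ∀ (eM : Adm R M b) (j : ℕ) (z : L), g z ∈ spanBefore R M eM.1 j →
      z ∈ spanBefore R L (Fin.append (f ∘ eK) (σ g hg ∘ eM.1)) (a + j) := by
    intro eM j z hz
    apply mem_append_of_g_mem f g hfg (f ∘ eK) (range_le_span f eK hgen)
    rw [g_comp_σ]
    exact hz
  rw [Submodule.span_le]
  rintro x ((⟨e, t, ht, rfl⟩ | ⟨e, e', t, c, h1, h2, rfl⟩) | ⟨e, e', x', y', hxy, h1, h2, rfl⟩)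
  · rw [SetLike.mem_coe, LinearMap.mem_ker, Ψ1_sym]
    unfold ψfun
    apply syF_zero _ (hadm e) (Fin.natAdd a t)
    rw [Fin.append_right, Fin.val_natAdd]
    apply hmem
    rw [Function.comp_apply, g_σ]
    exact ht
  · rw [SetLike.mem_coe, LinearMap.mem_ker, map_sub, map_smul, Ψ1_sym, Ψ1_sym, sub_eq_zero]
    unfold ψfun
    apply syF_relb _ _ (hadm e) (hadm e') (Fin.natAdd a t) c
    · intro j hj
      induction j using Fin.addCases with
      | left i => rw [Fin.append_left, Fin.append_left]
      | right j =>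
        rw [Fin.append_right, Fin.append_right, Function.comp_apply, Function.comp_apply, h1]
        intro h; apply hj; rw [h]
    · rw [Fin.append_right, Fin.append_right, Fin.val_natAdd]
      apply hmem
      rw [map_sub, map_smul, Function.comp_apply, Function.comp_apply, g_σ, g_σ]
      exact h2
  · rw [SetLike.mem_coe, LinearMap.mem_ker, map_add, Ψ1_sym, Ψ1_sym]
    unfold ψfun
    rw [add_eq_zero_iff_eq_neg]
    apply syF_relc _ _ (hadm e) (hadm e') (Fin.natAdd a x') (Fin.natAdd a y')
    · rw [Fin.val_natAdd, Fin.val_natAdd]; omega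
    · intro r hr
      rw [Fin.append_right, Fin.val_natAdd]
      apply hmem
      rw [map_smul, Function.comp_apply, g_σ]
      exact h1 r hr
    · rw [h2, ← Function.comp_assoc, append_comp_swap_right]

/-- `ψ_{eK}`. -/
noncomputable def ψ {a b : ℕ} (eK : Fin a → K) (hK : IsAdmissible R K eK)
    (hgen : Submodule.span R (Set.range eK) = ⊤) :
    DetOfLen R M b →ₗ[ResidueField R] DetOfLen R L (a + b) :=
  Submodule.liftQ _ (Ψ1 f g hg eK) (Ψ1_rel f g hfg hg eK hK hgen)

lemma ψ_sy {a b : ℕ} (eK : Fin a → K) (hK : IsAdmissible R K eK)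
    (hgen : Submodule.span R (Set.range eK) = ⊤) (eM : Adm R M b) :
    ψ f g hfg hg eK hK hgen (sy eM) = syF (Fin.append (f ∘ eK) (σ g hg ∘ eM.1)) := by
  unfold ψ sy
  rw [Submodule.liftQ_apply, Ψ1_sym]
  rfl

include hfg in
/-- independence of the choice of lifts. -/
lemma syF_append_indep {a b : ℕ} (eK : Fin a → K) (hK : IsAdmissible R K eK)
    (hgen : Submodule.span R (Set.range eK) = ⊤) (eM : Fin b → M) (hM : IsAdmissible R M eM)
    (w w' : Fin b → L) (hw : g ∘ w = eM) (hw' : g ∘ w' = eM) :
    syF (R := R) (Fin.append (f ∘ eK) w) = syF (Fin.append (f ∘ eK) w') := by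
  classical
  -- hybrid tuples
  let hyb : ℕ → Fin b → L := fun t j => if (j : ℕ) < t then w' j else w j
  have hg_hyb : ∀ t, g ∘ hyb t = eM := by
    intro t
    funext j
    show g (if (j : ℕ) < t then w' j else w j) = eM j
    split_ifs
    · exact congrFun hw' j
    · exact congrFun hw j
  have hadm : ∀ t, IsAdmissible R L (Fin.append (f ∘ eK) (hyb t)) := by
    intro t
    apply adm_append f g hfg eK hK hgen
    rw [hg_hyb]
    exact hM
  have hstep : ∀ t, t < b → syF (R := R) (Fin.append (f ∘ eK) (hyb t)) =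
      syF (Fin.append (f ∘ eK) (hyb (t + 1))) := by
    intro t ht
    have h := syF_relb (R := R) (Fin.append (f ∘ eK) (hyb t)) (Fin.append (f ∘ eK) (hyb (t + 1)))
      (hadm t) (hadm (t + 1)) (Fin.natAdd a ⟨t, ht⟩) 1 ?_ ?_
    · rw [h, Units.val_one, map_one, one_smul]
    · intro j hj
      induction j using Fin.addCases with
      | left i => rw [Fin.append_left, Fin.append_left]
      | right j =>
        rw [Fin.append_right, Fin.append_right]
        have hjt : (j : ℕ) ≠ t := by
          intro h'
          apply hj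
          have : j = ⟨t, ht⟩ := Fin.ext h'
          rw [this]
        show (if (j : ℕ) < t then w' j else w j) = (if (j : ℕ) < t + 1 then w' j else w j)
        by_cases h1 : (j : ℕ) < t
        · rw [if_pos h1, if_pos (by omega)]
        · rw [if_neg h1, if_neg (by omega)]
    · rw [Fin.append_right, Fin.append_right, Fin.val_natAdd]
      apply mem_append_of_g_mem f g hfg (f ∘ eK) (range_le_span f eK hgen)
      rw [Units.val_one, one_smul, map_sub]
      have e1 : g (hyb t ⟨t, ht⟩) = eM ⟨t, ht⟩ := congrFun (hg_hyb t) ⟨t, ht⟩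
      have e2 : g (hyb (t + 1) ⟨t, ht⟩) = eM ⟨t, ht⟩ := congrFun (hg_hyb (t + 1)) ⟨t, ht⟩
      rw [e1, e2, sub_self]
      exact Submodule.zero_mem _
  have hall : ∀ t, t ≤ b → syF (R := R) (Fin.append (f ∘ eK) (hyb 0)) =
      syF (Fin.append (f ∘ eK) (hyb t)) := by
    intro t
    induction t with
    | zero => intro _; rfl
    | succ t ih => intro ht; rw [ih (by omega), hstep t (by omega)]
  have h0 : hyb 0 = w := by
    funext j
    show (if (j : ℕ) < 0 then w' j else w j) = w j
    rw [if_neg (Nat.not_lt_zero _)]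
  have hb : hyb b = w' := by
    funext j
    show (if (j : ℕ) < b then w' j else w j) = w' j
    rw [if_pos j.2]
  have := hall b le_rfl
  rw [h0, hb] at this
  exact this

open Classical in
/-- the function on basis elements defining `φ`. -/
noncomputable def φfun {a b : ℕ} (w : Fin b → L) (eK : Adm R K a) : DetOfLen R L (a + b) :=
  if Submodule.span R (Set.range eK.1) = ⊤ then syF (Fin.append (f ∘ eK.1) w) else 0

/-- `φ` on the free module. -/
noncomputable def Φ2 {a b : ℕ} (w : Fin b → L) :
    Free R K a →ₗ[ResidueField R] DetOfLen R L (a + b) :=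
  Finsupp.linearCombination (ResidueField R) (φfun f w)

lemma Φ2_sym {a b : ℕ} (w : Fin b → L) (eK : Adm R K a) :
    Φ2 f w (sym R K eK) = φfun f w eK := by
  unfold Φ2 sym
  rw [Finsupp.linearCombination_single, one_smul]

lemma span_range_relb {a : ℕ} {e e' : Fin a → K} (t : Fin a) (c : Rˣ)
    (h1 : ∀ j, j ≠ t → e j = e' j) (h2 : e t - (c : R) • e' t ∈ spanBefore R K e t) :
    Submodule.span R (Set.range e) = Submodule.span R (Set.range e') := by
  rw [← spanBefore_eq_span_range, ← spanBefore_eq_span_range]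
  exact spanBefore_relb t c h1 h2 a

include hfg in
lemma Φ2_rel {a b : ℕ} (w : Fin b → L) (hw : IsAdmissible R M (g ∘ w)) :
    Submodule.span (ResidueField R) (relSet R K a) ≤ LinearMap.ker (Φ2 (b := b) f w) := by
  have hadm : ∀ eK : Adm R K a, Submodule.span R (Set.range eK.1) = ⊤ →
      IsAdmissible R L (Fin.append (f ∘ eK.1) w) := by
    intro eK hgen
    exact adm_append f g hfg eK.1 eK.2 hgen w hw
  have hmem : ∀ (eK : Adm R K a) (i : ℕ) (hi : i ≤ a) (z : K), z ∈ spanBefore R K eK.1 i →
      f z ∈ spanBefore R L (Fin.append (f ∘ eK.1) w) i := by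
    intro eK i hi z hz
    rw [spanBefore_append_left _ _ _ hi, ← map_spanBefore]
    exact Submodule.mem_map_of_mem hz
  rw [Submodule.span_le]
  rintro x ((⟨e, t, ht, rfl⟩ | ⟨e, e', t, c, h1, h2, rfl⟩) | ⟨e, e', x', y', hxy, h1, h2, rfl⟩)
  · rw [SetLike.mem_coe, LinearMap.mem_ker, Φ2_sym]
    unfold φfun
    split_ifs with hgen
    · apply syF_zero _ (hadm e hgen) (Fin.castAdd b t)
      rw [Fin.append_left, Fin.val_castAdd]
      exact hmem e t t.2.le _ ht
    · rfl
  · rw [SetLike.mem_coe, LinearMap.mem_ker, map_sub, map_smul, Φ2_sym, Φ2_sym, sub_eq_zero]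
    unfold φfun
    have hspan := span_range_relb t c h1 h2
    by_cases hgen : Submodule.span R (Set.range e.1) = ⊤
    · have hgen' : Submodule.span R (Set.range e'.1) = ⊤ := by rw [← hspan]; exact hgen
      rw [if_pos hgen, if_pos hgen']
      apply syF_relb _ _ (hadm e hgen) (hadm e' hgen') (Fin.castAdd b t) c
      · intro j hj
        induction j using Fin.addCases with
        | left i =>
          rw [Fin.append_left, Fin.append_left, Function.comp_apply, Function.comp_apply, h1]
          intro h; apply hj; rw [h]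
        | right j => rw [Fin.append_right, Fin.append_right]
      · rw [Fin.append_left, Fin.append_left, Fin.val_castAdd, Function.comp_apply,
          Function.comp_apply, ← map_smul, ← map_sub]
        exact hmem e t t.2.le _ h2
    · have hgen' : ¬ Submodule.span R (Set.range e'.1) = ⊤ := by rw [← hspan]; exact hgen
      rw [if_neg hgen, if_neg hgen', smul_zero]
  · rw [SetLike.mem_coe, LinearMap.mem_ker, map_add, Φ2_sym, Φ2_sym]
    unfold φfun
    have hspan : Submodule.span R (Set.range e'.1) = Submodule.span R (Set.range e.1) := by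
      rw [h2, Set.range_comp, Equiv.range_eq_univ, Set.image_univ]
    by_cases hgen : Submodule.span R (Set.range e.1) = ⊤
    · have hgen' : Submodule.span R (Set.range e'.1) = ⊤ := by rw [hspan]; exact hgen
      rw [if_pos hgen, if_pos hgen', add_eq_zero_iff_eq_neg]
      apply syF_relc _ _ (hadm e hgen) (hadm e' hgen') (Fin.castAdd b x') (Fin.castAdd b y')
      · rw [Fin.val_castAdd, Fin.val_castAdd]; exact hxy
      · intro r hr
        rw [Fin.append_left, Fin.val_castAdd, Function.comp_apply, ← map_smul]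
        exact hmem e y' y'.2.le _ (h1 r hr)
      · rw [h2, ← Function.comp_assoc, append_comp_swap_left]
    · have hgen' : ¬ Submodule.span R (Set.range e'.1) = ⊤ := by rw [hspan]; exact hgen
      rw [if_neg hgen, if_neg hgen', add_zero]

/-- `φ_w`. -/
noncomputable def φ {a b : ℕ} (w : Fin b → L) (hw : IsAdmissible R M (g ∘ w)) :
    DetOfLen R K a →ₗ[ResidueField R] DetOfLen R L (a + b) :=
  Submodule.liftQ _ (Φ2 f w) (Φ2_rel f g hfg w hw)

lemma φ_sy {a b : ℕ} (w : Fin b → L) (hw : IsAdmissible R M (g ∘ w)) (eK : Adm R K a)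
    (hgen : Submodule.span R (Set.range eK.1) = ⊤) :
    φ f g hfg w hw (sy eK) = syF (Fin.append (f ∘ eK.1) w) := by
  unfold φ sy
  rw [Submodule.liftQ_apply, Φ2_sym]
  unfold φfun
  rw [if_pos hgen]

end ses

section exist

lemma exists_socle {M : Type u} [AddCommGroup M] [Module R M] [IsArtinian R M] [Nontrivial M] :
    ∃ x : M, x ≠ 0 ∧ ∀ r ∈ maximalIdeal R, r • x = 0 := by
  obtain ⟨N, hN, -⟩ := (IsAtomic.eq_bot_or_exists_atom_le (⊤ : Submodule R M)).resolve_left
    top_ne_bot
  obtain ⟨x, hxN, hx0⟩ := Submodule.exists_mem_ne_zero_of_ne_bot hN.1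
  refine ⟨x, hx0, fun r hr => ?_⟩
  by_contra hrx
  have hle : Submodule.span R {r • x} ≤ N := by
    rw [Submodule.span_singleton_le_iff_mem]; exact N.smul_mem r hxN
  have hne : Submodule.span R {r • x} ≠ ⊥ := by
    rw [Ne, Submodule.span_singleton_eq_bot]; exact hrx
  have heq : Submodule.span R {r • x} = N := by
    rcases eq_or_lt_of_le hle with h | h
    · exact h
    · exact absurd (hN.2 _ h) hne
  have hx : x ∈ Submodule.span R {r • x} := by rw [heq]; exact hxN
  obtain ⟨s, hs⟩ := Submodule.mem_span_singleton.mp hx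
  have hunit : IsUnit (1 - s * r) := by
    have hsr : s * r ∈ maximalIdeal R := Ideal.mul_mem_left _ s hr
    by_contra hnu
    have h1 : 1 - s * r ∈ maximalIdeal R := (mem_maximalIdeal _).mpr hnu
    have : (1 : R) ∈ maximalIdeal R := by
      have := Ideal.add_mem _ h1 hsr
      simpa using this
    exact (maximalIdeal.isMaximal R).ne_top ((Ideal.eq_top_iff_one _).mpr this)
  have h0 : (1 - s * r) • x = 0 := by rw [sub_smul, one_smul, mul_smul, hs, sub_self]
  exact hx0 ((hunit.smul_eq_zero).mp h0)

lemma spanBefore_cast {N : Type u} [AddCommGroup N] [Module R N] {l l' : ℕ} (h : l' = l)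
    (v : Fin l → N) (i : ℕ) : spanBefore R N (v ∘ Fin.cast h) i = spanBefore R N v i := by
  subst h
  rfl

lemma exists_adm_gen : ∀ (n : ℕ) (M : Type u) [AddCommGroup M] [Module R M],
    Module.length R M = n → ∃ e : Adm R M n, Submodule.span R (Set.range e.1) = ⊤ := by
  intro n
  induction n with
  | zero =>
    intro M _ _ hlen
    have hsub : Subsingleton M := Module.length_eq_zero_iff.mp (by simpa using hlen)
    exact ⟨⟨fun i => i.elim0, fun i => i.elim0⟩, Subsingleton.elim _ _⟩
  | succ n ih =>
    intro M _ _ hlen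
    have hfl : IsFiniteLength R M := by
      rw [← Module.length_ne_top_iff, hlen]; exact ENat.coe_ne_top _
    obtain ⟨hN, hA⟩ := isFiniteLength_iff_isNoetherian_isArtinian.mp hfl
    haveI : Nontrivial M := by
      rw [← Module.length_pos_iff (R := R), hlen]
      exact_mod_cast Nat.succ_pos n
    obtain ⟨x, hx0, hmx⟩ := exists_socle (R := R) (M := M)
    have h1 := length_span_le_one x hmx
    have h3 := length_eq_add (R := R) x
    rw [hlen] at h3
    have hK0 : Module.length R (Submodule.span R ({x} : Set M)) ≠ 0 := by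
      rw [Ne, Module.length_eq_zero_iff, Submodule.subsingleton_iff_eq_bot,
        Submodule.span_singleton_eq_bot]
      exact hx0
    obtain ⟨b0, hb0⟩ : ∃ b0 : ℕ, Module.length R (Qt R x) = b0 := by
      have : Module.length R (Qt R x) ≠ ⊤ := by
        intro h; rw [h, add_top] at h3; exact ENat.coe_ne_top _ h3
      exact ⟨_, (ENat.coe_toNat this).symm⟩
    obtain ⟨a0, ha0⟩ : ∃ a0 : ℕ, Module.length R (Submodule.span R ({x} : Set M)) = a0 := by
      have : Module.length R (Submodule.span R ({x} : Set M)) ≠ ⊤ :=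
        ne_top_of_le_ne_top (ENat.coe_ne_top 1) (by simpa using h1)
      exact ⟨_, (ENat.coe_toNat this).symm⟩
    rw [ha0] at h1 hK0
    rw [ha0, hb0] at h3
    have h1' : a0 ≤ 1 := by exact_mod_cast h1
    have hK0' : a0 ≠ 0 := by exact_mod_cast hK0
    have h3' : n + 1 = a0 + b0 := by exact_mod_cast h3
    have hlen' : Module.length R (Qt R x) = n := by rw [hb0]; congr 1; omega
    obtain ⟨e', he'⟩ := ih (Qt R x) hlen'
    -- the exact sequence
    set K0 := Submodule.span R ({x} : Set M) with hK0def
    have hfg : LinearMap.range K0.subtype = LinearMap.ker (q R x) := by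
      rw [Submodule.range_subtype]
      unfold q
      rw [Submodule.ker_mkQ]
    have hg : Function.Surjective (q R x) := q_surjective x
    let eK0 : Fin 1 → K0 := fun _ => ⟨x, Submodule.mem_span_singleton_self x⟩
    have hK0adm : IsAdmissible R K0 eK0 := by
      intro i r hr
      have : r • eK0 i = 0 := by
        apply Subtype.ext
        show r • x = 0
        exact hmx r hr
      rw [this]
      exact Submodule.zero_mem _
    have hK0gen : Submodule.span R (Set.range eK0) = ⊤ := by
      rw [eq_top_iff]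
      rintro ⟨y, hy⟩ -
      obtain ⟨s, rfl⟩ := Submodule.mem_span_singleton.mp hy
      have : (⟨s • x, hy⟩ : K0) = s • eK0 0 := Subtype.ext rfl
      rw [this]
      exact Submodule.smul_mem _ _ (Submodule.subset_span ⟨0, rfl⟩)
    have hw : IsAdmissible R (Qt R x) (q R x ∘ (σ (q R x) hg ∘ e'.1)) := by
      rw [g_comp_σ]; exact e'.2
    have hadm := adm_append K0.subtype (q R x) hfg eK0 hK0adm hK0gen (σ (q R x) hg ∘ e'.1) hw
    set u := Fin.append (K0.subtype ∘ eK0) (σ (q R x) hg ∘ e'.1) with hu
    have hugen : spanBefore R M u (1 + n) = ⊤ := by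
      rw [eq_top_iff]
      intro z _
      apply mem_append_of_g_mem K0.subtype (q R x) hfg (K0.subtype ∘ eK0)
        (range_le_span K0.subtype eK0 hK0gen)
      rw [g_comp_σ, spanBefore_eq_span_range, he']
      trivial
    have hcomm : n + 1 = 1 + n := Nat.add_comm n 1
    refine ⟨⟨u ∘ Fin.cast hcomm, ?_⟩, ?_⟩
    · intro t r hr
      rw [spanBefore_cast]
      have := hadm (Fin.cast hcomm t) r hr
      rw [Fin.val_cast] at this
      exact this
    · show Submodule.span R (Set.range (u ∘ Fin.cast hcomm)) = ⊤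
      rw [← spanBefore_eq_span_range, spanBefore_cast, hcomm]
      exact hugen

lemma exists_coord {X : Type u} [AddCommGroup X] [Module R X] {n : ℕ} (hfl : IsFiniteLength R X)
    (hl : Module.length R X = n) (e0 : Adm R X n)
    (hgen : Submodule.span R (Set.range e0.1) = ⊤) :
    ∃ c : DetOfLen R X n →ₗ[ResidueField R] ResidueField R,
      c (sy e0) = 1 ∧ ∀ y, y = c y • sy e0 := by
  obtain ⟨D, hD, hne⟩ := exists_functional n X hl e0 hgen
  have hle : Submodule.span (ResidueField R) (relSet R X n) ≤ LinearMap.ker D := by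
    rw [Submodule.span_le]
    intro y hy
    exact hD y hy
  let Dbar : DetOfLen R X n →ₗ[ResidueField R] ResidueField R := Submodule.liftQ _ D hle
  have hDbar : Dbar (sy e0) = D (sym R X e0) := by
    unfold sy; exact Submodule.liftQ_apply _ _ _
  have hnd : ∀ i : Fin n, e0.1 i ∉ spanBefore R X e0.1 i := by
    intro i hi
    apply hne
    rw [← hDbar, sy_eq_zero e0 i hi, map_zero]
  have hspan : ∀ y : DetOfLen R X n, y ∈ Submodule.span (ResidueField R) {sy e0} := by
    intro y
    obtain ⟨p, rfl⟩ := Submodule.Quotient.mk_surjective _ y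
    induction p using Finsupp.induction_linear with
    | zero => simp
    | add p q hp hq => rw [Submodule.Quotient.mk_add]; exact Submodule.add_mem _ hp hq
    | single e c =>
      have : Finsupp.single e c = c • sym R X e := by simp [sym]
      rw [this, Submodule.Quotient.mk_smul]
      exact Submodule.smul_mem _ _ (claim_all e0 hfl hl hnd n 0 (by omega) e
        (fun j hj => absurd hj (Nat.not_lt_zero _)))
  refine ⟨(D (sym R X e0))⁻¹ • Dbar, ?_, ?_⟩
  · rw [LinearMap.smul_apply, hDbar, smul_eq_mul, inv_mul_cancel₀ hne]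
  · intro y
    obtain ⟨t, ht⟩ := Submodule.mem_span_singleton.mp (hspan y)
    rw [← ht, map_smul, LinearMap.smul_apply, hDbar, smul_eq_mul, smul_eq_mul,
      inv_mul_cancel₀ hne, mul_one]

end exist

section core
variable {K L M : Type u} [AddCommGroup K] [Module R K] [AddCommGroup L] [Module R L]
  [AddCommGroup M] [Module R M]

theorem core (hK : IsFiniteLength R K) (hM : IsFiniteLength R M) (f : K →ₗ[R] L)
    (g : L →ₗ[R] M) (hf : Function.Injective f) (hg : Function.Surjective g)
    (hfg : LinearMap.range f = LinearMap.ker g)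
    (a b c : ℕ) (hc : a + b = c) (hKl : Module.length R K = a) (hMl : Module.length R M = b) :
    ∃ γ : (DetOfLen R K a ⊗[ResidueField R] DetOfLen R M b) ≃ₗ[ResidueField R] DetOfLen R L c,
      ∀ (eK : Adm R K a) (eM : Adm R M b) (eL : Adm R L c), sy eK ≠ 0 →
        (∀ i : Fin a, eL.1 (Fin.cast hc (Fin.castAdd b i)) = f (eK.1 i)) →
        (∀ j : Fin b, g (eL.1 (Fin.cast hc (Fin.natAdd a j))) = eM.1 j) →
        γ (sy eK ⊗ₜ sy eM) = sy eL := by
  subst hc
  have hLl : Module.length R L = ((a + b : ℕ) : ℕ∞) := by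
    rw [Module.length_eq_add_of_exact f g hf hg (LinearMap.exact_iff.mpr hfg.symm), hKl, hMl]
    push_cast
    rfl
  have hL : IsFiniteLength R L := by
    rw [← Module.length_ne_top_iff, hLl]; exact ENat.coe_ne_top _
  obtain ⟨eK0, hK0gen⟩ := exists_adm_gen a K hKl
  obtain ⟨eM0, hM0gen⟩ := exists_adm_gen b M hMl
  obtain ⟨cK, hcK1, hcK⟩ := exists_coord hK hKl eK0 hK0gen
  obtain ⟨cM, hcM1, hcM⟩ := exists_coord hM hMl eM0 hM0gen
  have hw0 : IsAdmissible R M (g ∘ (σ g hg ∘ eM0.1)) := by rw [g_comp_σ]; exact eM0.2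
  have hadm0 := adm_append f g hfg eK0.1 eK0.2 hK0gen (σ g hg ∘ eM0.1) hw0
  let eL0 : Adm R L (a + b) := ⟨Fin.append (f ∘ eK0.1) (σ g hg ∘ eM0.1), hadm0⟩
  have hL0gen : Submodule.span R (Set.range eL0.1) = ⊤ := by
    rw [← spanBefore_eq_span_range, eq_top_iff]
    intro z _
    apply mem_append_of_g_mem f g hfg (f ∘ eK0.1) (range_le_span f eK0.1 hK0gen)
    rw [g_comp_σ, spanBefore_eq_span_range, hM0gen]
    trivial
  obtain ⟨cL, hcL1, hcL⟩ := exists_coord hL hLl eL0 hL0gen
  have hL0ne : sy eL0 ≠ 0 := by
    intro h; rw [h, map_zero] at hcL1; exact zero_ne_one hcL1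
  let B : DetOfLen R K a →ₗ[ResidueField R] DetOfLen R M b →ₗ[ResidueField R]
      DetOfLen R L (a + b) :=
    LinearMap.mk₂ (ResidueField R) (fun x y => (cK x * cM y) • sy eL0)
      (by intro x x' y; simp only [map_add, add_mul, add_smul])
      (by intro r x y; simp only [map_smul, smul_eq_mul, mul_assoc, mul_smul])
      (by intro x y y'; simp only [map_add, mul_add, add_smul])
      (by intro r x y; simp only [map_smul, smul_eq_mul, mul_smul, mul_left_comm])
  have hB : ∀ x y, B x y = (cK x * cM y) • sy eL0 := fun x y => rfl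
  let γ0 := TensorProduct.lift B
  have hγ0 : ∀ x y, γ0 (x ⊗ₜ y) = (cK x * cM y) • sy eL0 := fun x y => by
    show TensorProduct.lift B (x ⊗ₜ y) = _
    rw [TensorProduct.lift.tmul, hB]
  have hT : ∀ t : DetOfLen R K a ⊗[ResidueField R] DetOfLen R M b,
      ∃ c : ResidueField R, t = c • (sy eK0 ⊗ₜ[ResidueField R] sy eM0) := by
    intro t
    induction t using TensorProduct.induction_on with
    | zero => exact ⟨0, by rw [zero_smul]⟩
    | tmul x y =>
      refine ⟨cK x * cM y, ?_⟩
      conv_lhs => rw [hcK x, hcM y]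
      rw [TensorProduct.smul_tmul_smul]
    | add t1 t2 h1 h2 =>
      obtain ⟨c1, h1⟩ := h1
      obtain ⟨c2, h2⟩ := h2
      exact ⟨c1 + c2, by rw [add_smul, ← h1, ← h2]⟩
  have hγT0 : γ0 (sy eK0 ⊗ₜ[ResidueField R] sy eM0) = sy eL0 := by
    rw [hγ0, hcK1, hcM1, one_mul, one_smul]
  have hinj : Function.Injective γ0 := by
    rw [← LinearMap.ker_eq_bot, LinearMap.ker_eq_bot']
    intro t ht
    obtain ⟨c, rfl⟩ := hT t
    rw [map_smul, hγT0, smul_eq_zero] at ht
    rcases ht with h | h
    · rw [h, zero_smul]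
    · exact absurd h hL0ne
  have hsurj : Function.Surjective γ0 := by
    intro y
    refine ⟨cL y • (sy eK0 ⊗ₜ[ResidueField R] sy eM0), ?_⟩
    rw [map_smul, hγT0]
    exact (hcL y).symm
  refine ⟨LinearEquiv.ofBijective γ0 ⟨hinj, hsurj⟩, ?_⟩
  intro eK eM eL hne h1 h2
  rw [LinearEquiv.ofBijective_apply, hγ0]
  have h1' : ∀ i : Fin a, eL.1 (Fin.castAdd b i) = f (eK.1 i) := fun i => by
    have := h1 i
    rwa [Fin.cast_eq_self] at this
  have h2' : ∀ j : Fin b, g (eL.1 (Fin.natAdd a j)) = eM.1 j := fun j => by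
    have := h2 j
    rwa [Fin.cast_eq_self] at this
  have hndK : ∀ i : Fin a, eK.1 i ∉ spanBefore R K eK.1 i := by
    intro i hi
    exact hne (sy_eq_zero eK i hi)
  have hKgen : Submodule.span R (Set.range eK.1) = ⊤ := by
    rw [← spanBefore_eq_span_range]
    exact spanBefore_eq_top hK hKl eK.1 hndK
  set wL : Fin b → L := fun j => eL.1 (Fin.natAdd a j) with hwL
  have heL : eL.1 = Fin.append (f ∘ eK.1) wL := by
    funext t
    induction t using Fin.addCases with
    | left i => rw [Fin.append_left, h1' i]; rfl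
    | right j => rw [Fin.append_right]
  have hgw : g ∘ wL = eM.1 := funext h2'
  have e0 : sy eL = syF eL.1 := (syF_eq eL.1 eL.2).symm
  have e1 : syF (R := R) (Fin.append (f ∘ eK.1) wL) =
      syF (Fin.append (f ∘ eK.1) (σ g hg ∘ eM.1)) :=
    syF_append_indep f g hfg eK.1 eK.2 hKgen eM.1 eM.2 wL (σ g hg ∘ eM.1) hgw (g_comp_σ g hg eM.1)
  have e2 := ψ_sy f g hfg hg eK.1 eK.2 hKgen eM
  have e3 : ψ f g hfg hg eK.1 eK.2 hKgen (sy eM) =
      cM (sy eM) • ψ f g hfg hg eK.1 eK.2 hKgen (sy eM0) := by
    conv_lhs => rw [hcM (sy eM)]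
    rw [map_smul]
  have e4 := ψ_sy f g hfg hg eK.1 eK.2 hKgen eM0
  have e5 := φ_sy f g hfg (σ g hg ∘ eM0.1) hw0 eK hKgen
  have e6 : φ f g hfg (σ g hg ∘ eM0.1) hw0 (sy eK) =
      cK (sy eK) • φ f g hfg (σ g hg ∘ eM0.1) hw0 (sy eK0) := by
    conv_lhs => rw [hcK (sy eK)]
    rw [map_smul]
  have e7 := φ_sy f g hfg (σ g hg ∘ eM0.1) hw0 eK0 hK0gen
  have e8 : syF (R := R) (Fin.append (f ∘ eK0.1) (σ g hg ∘ eM0.1)) = sy eL0 := syF_eq _ hadm0
  rw [e0, heL, e1, ← e2, e3, e4, ← e5, e6, e7, e8, smul_smul, mul_comm]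

end core

theorem main (R : Type u) [CommRing R] [IsLocalRing R] (K L M : Type u) [AddCommGroup K]
    [Module R K] [AddCommGroup L] [Module R L] [AddCommGroup M] [Module R M]
    (hK : IsFiniteLength R K) (hM : IsFiniteLength R M) (f : K →ₗ[R] L) (g : L →ₗ[R] M)
    (hf : Function.Injective f) (hg : Function.Surjective g)
    (hfg : LinearMap.range f = LinearMap.ker g)
    (hlen : (Module.length R K).toNat + (Module.length R M).toNat = (Module.length R L).toNat) :
    ∃ γ : (CycDet.Det R K ⊗[IsLocalRing.ResidueField R] CycDet.Det R M) ≃ₗ[IsLocalRing.ResidueField R]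
        CycDet.Det R L,
      ∀ (eK : CycDet.Adm R K (Module.length R K).toNat)
        (eM : CycDet.Adm R M (Module.length R M).toNat)
        (eL : CycDet.Adm R L (Module.length R L).toNat), CycDet.symbol R K eK ≠ 0 →
        (∀ i : Fin (Module.length R K).toNat,
          eL.1 (Fin.cast hlen (Fin.castAdd (Module.length R M).toNat i)) = f (eK.1 i)) →
        (∀ j : Fin (Module.length R M).toNat,
          g (eL.1 (Fin.cast hlen (Fin.natAdd (Module.length R K).toNat j))) = eM.1 j) →
        γ (CycDet.symbol R K eK ⊗ₜ CycDet.symbol R M eM) = CycDet.symbol R L eL := by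
  have hKl : Module.length R K = ((Module.length R K).toNat : ℕ∞) :=
    (ENat.coe_toNat (Module.length_ne_top_iff.mpr hK)).symm
  have hMl : Module.length R M = ((Module.length R M).toNat : ℕ∞) :=
    (ENat.coe_toNat (Module.length_ne_top_iff.mpr hM)).symm
  exact core hK hM f g hf hg hfg _ _ _ hlen hKl hMl

end Groth.Agent.S1854aux

namespace Groth.Agent.S1854

/-- Existence and the defining rule; the compatibilities (1)–(3) of the source are not restated: let 0 →
K → L → M → 0 be a short exact sequence of finite length modules over a local ring with residue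
field κ. There is a κ-linear isomorphism γ : det_κ(K) ⊗ det_κ(M) → det_κ(L) such that whenever (e_i)
is an admissible tuple of K with nonzero symbol, (f̄_j) an admissible tuple of M, and (g) the
admissible tuple of L consisting of the images of the e_i followed by lifts of the f̄_j, one has
γ([e] ⊗ [f̄]) = [g]. -/
theorem result (R : Type u) [CommRing R] [IsLocalRing R] (K L M : Type u) [AddCommGroup K] [Module R K] [AddCommGroup L] [Module R L] [AddCommGroup M] [Module R M] (hK : IsFiniteLength R K) (hM : IsFiniteLength R M) (f : K →ₗ[R] L) (g : L →ₗ[R] M) (hf : Function.Injective f) (hg : Function.Surjective g) (hfg : LinearMap.range f = LinearMap.ker g) (hlen : (Module.length R K).toNat + (Module.length R M).toNat = (Module.length R L).toNat) : ∃ γ : (CycDet.Det R K ⊗[IsLocalRing.ResidueField R] CycDet.Det R M) ≃ₗ[IsLocalRing.ResidueField R] CycDet.Det R L, ∀ (eK : CycDet.Adm R K (Module.length R K).toNat) (eM : CycDet.Adm R M (Module.length R M).toNat) (eL : CycDet.Adm R L (Module.length R L).toNat), CycDet.symbol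 R K eK ≠ 0 → (∀ i : Fin (Module.length R K).toNat, eL.1 (Fin.cast hlen (Fin.castAdd (Module.length R M).toNat i)) = f (eK.1 i)) → (∀ j : Fin (Module.length R M).toNat, g (eL.1 (Fin.cast hlen (Fin.natAdd (Module.length R K).toNat j))) = eM.1 j) → γ (CycDet.symbol R K eK ⊗ₜ CycDet.symbol R M eM) = CycDet.symbol R L eL := by
  exact Groth.Agent.S1854aux.main R K L M hK hM f g hf hg hfg hlen

end Groth.Agent.S1854
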