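import Groth.Statements.S18543
import Mathlib
import Groth.Agent.Lib.helper12.DeligneBC

set_option autoImplicit false
set_option linter.style.haveILetI false
universe u
open Hopf

namespace Groth.Agent.S18543

/-- Let p be a prime number, k a field of characteristic p and A a finite-dimensional commutative,
cocommutative Hopf algebra over k — the coordinate ring of a finite commutative group scheme G over
k — such that A is étale over k and dim_k A = p^n for some n (G is an étale group scheme of p-power
order). Then the Cartier dual A^∨ = Hom_k(A, k), with its convolution ring structure, is a local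
ring; that is, the Cartier dual group scheme G^∨ = Spec A^∨ is infinitesimal (its underlying space
is a single point). -/
theorem result (p : ℕ) [Fact p.Prime]
    (k : Type u) [Field k] [CharP k p] (A : Type u) [CommRing A] [HopfAlgebra k A] [Coalgebra.IsCocomm k A]
    [Module.Finite k A] [Algebra.Etale k A] (n : ℕ) (hA : Module.finrank k A = p ^ n) :
    IsLocalRing (CartDual.D k A) := by
  classical
  let K := AlgebraicClosure k
  haveI : Module.Finite K (TensorProduct k K A) := Module.Finite.base_change k K A
  haveI : IsReduced (TensorProduct k K A) := Algebra.FormallyUnramified.isReduced_of_field K (TensorProduct k K A)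
  haveI : CharP K p := charP_of_injective_algebraMap (algebraMap k K).injective p
  have hH : Module.finrank K (TensorProduct k K A) = p ^ n := by
    rw [Module.finrank_baseChange, hA]
  have h11 : (1 : CartDual.D k A).ofConv 1 = 1 := by
    show algebraMap k k (Coalgebra.counit (R := k) (1 : A)) = 1
    simp
  haveI : Nontrivial (CartDual.D k A) :=
    ⟨⟨1, 0, fun h => by
      have := congrArg (fun f : CartDual.D k A => f.ofConv 1) h
      simp only [h11] at this
      exact one_ne_zero this⟩⟩
  have hN : ∀ φ : CartDual.D k A, φ.ofConv 1 = 0 → IsNilpotent φ := by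
    intro φ h0
    have h1 : (Groth.Agent.H12Del.rho K φ).ofConv 1 = 0 := by
      rw [Algebra.TensorProduct.one_def, Groth.Agent.H12Del.rho_tmul, h0]; simp
    obtain ⟨m, hm⟩ := Groth.Agent.H12Del.isNilpotent_of_apply_one_eq_zero p n hH _ h1
    refine ⟨m, ?_⟩
    apply Groth.Agent.H12Del.rho_injective K
    have h2 : Groth.Agent.H12Del.rho K (φ ^ m) = (Groth.Agent.H12Del.rho K φ) ^ m :=
      map_pow (Groth.Agent.H12Del.rhoHom K) φ m
    rw [h2, hm]
    apply WithConv.ofConv_injective
    simp [Groth.Agent.H12Del.rho]
  have hU : ∀ φ : CartDual.D k A, φ.ofConv 1 ≠ 0 → IsUnit φ := by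
    intro φ hne
    have hν : IsNilpotent (φ - (φ.ofConv 1) • (1 : CartDual.D k A)) := by
      apply hN
      rw [WithConv.ofConv_sub, WithConv.ofConv_smul, LinearMap.sub_apply, LinearMap.smul_apply, h11]
      simp
    have hu : IsUnit ((φ.ofConv 1) • (1 : CartDual.D k A)) := by
      rw [← Algebra.algebraMap_eq_smul_one]
      exact (IsUnit.mk0 _ hne).map _
    have := hν.isUnit_add_left_of_commute hu (Commute.all _ _)
    simpa using this
  apply IsLocalRing.of_isUnit_or_isUnit_one_sub_self
  intro φ
  by_cases h0 : φ.ofConv 1 = 0
  · right
    apply hU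
    rw [WithConv.ofConv_sub, LinearMap.sub_apply, h11, h0]
    simp
  · left
    exact hU φ h0

end Groth.Agent.S18543
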