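import Groth.Statements.S18544
import Mathlib

set_option autoImplicit false
universe u
open CAlg

namespace Groth.Agent.S18544

/-- a polynomial over an algebraically closed field with no nonzero roots and value `1` at `1`
is a power of `X` -/
lemma eq_X_pow {F : Type u} [Field F] [IsAlgClosed F] (p : Polynomial F)
    (h : ∀ t : F, t ≠ 0 → p.eval t ≠ 0) (h1 : p.eval 1 = 1) :
    ∃ m : ℕ, p = Polynomial.X ^ m := by
  have hsplit := IsAlgClosed.splits p
  have hroots : ∀ a ∈ p.roots, a = 0 := by
    intro a ha
    by_contra h0
    exact h a h0 (Polynomial.mem_roots'.mp ha).2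
  have hp := hsplit.eq_prod_roots
  have hrep : p.roots = Multiset.replicate (Multiset.card p.roots) 0 :=
    Multiset.eq_replicate_card.mpr hroots
  rw [hrep, Multiset.map_replicate, Multiset.prod_replicate, Polynomial.C_0, sub_zero] at hp
  have hlc : p.leadingCoeff = 1 := by
    have h2 := congrArg (Polynomial.eval 1) hp
    rw [h1] at h2
    simpa using h2.symm
  exact ⟨_, by rw [hp, hlc, Polynomial.C_1, one_mul]⟩

lemma eval_aeval_poly {F : Type u} [Field F] {σ : Type*} (N : MvPolynomial σ F)
    (G : σ → Polynomial F) (c : F) :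
    (MvPolynomial.aeval G N).eval c = MvPolynomial.eval (fun ij => (G ij).eval c) N := by
  have := MvPolynomial.comp_aeval_apply (f := G) (Polynomial.aeval c : Polynomial F →ₐ[F] F) N
  simpa [Polynomial.coe_aeval_eq_eval, MvPolynomial.aeval_eq_eval] using this


/-- Let F be an algebraically closed field of characteristic zero, n a natural number, and N a nonzero
polynomial over F in the n² matrix entries whose evaluation on n × n matrices is multiplicative,
N(xy) = N(x)·N(y) for all x, y (a norm form on the matrix algebra M_n(F) over F). Then N is a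
natural power of the determinant: for some m, N(x) = det(x)^m for every matrix x. The published
statement concerns norm forms of any central simple algebra over a subfield; this row is the case of
the full matrix algebra over an algebraically closed field, which is the case its proof treats. -/
theorem result (F : Type u) [Field F] [IsAlgClosed F]
    [CharZero F] (n : ℕ) (N : MvPolynomial (Fin n × Fin n) F) (hN : N ≠ 0)
    (hmul : ∀ x y : Matrix (Fin n) (Fin n) F,
      MvPolynomial.eval (fun ij : Fin n × Fin n => (x * y) ij.1 ij.2) N =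
        MvPolynomial.eval (fun ij : Fin n × Fin n => x ij.1 ij.2) N * MvPolynomial.eval (fun ij : Fin n × Fin n => y ij.1 ij.2) N) :
    ∃ m : ℕ, ∀ x : Matrix (Fin n) (Fin n) F,
      MvPolynomial.eval (fun ij : Fin n × Fin n => x ij.1 ij.2) N = x.det ^ m := by
  classical
  set Nf : Matrix (Fin n) (Fin n) F → F :=
    fun x => MvPolynomial.eval (fun ij : Fin n × Fin n => x ij.1 ij.2) N with hNf
  have hmul' : ∀ x y, Nf (x * y) = Nf x * Nf y := hmul
  have hNf1 : Nf 1 = 1 := by
    have h : Nf 1 * Nf 1 = Nf 1 := by rw [← hmul', mul_one]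
    by_contra h1
    have h0 : Nf 1 = 0 := by
      have h2 : Nf 1 * (Nf 1 - 1) = 0 := by linear_combination h
      rcases mul_eq_zero.mp h2 with h3 | h3
      · exact h3
      · exact absurd (sub_eq_zero.mp h3) h1
    apply hN
    apply MvPolynomial.funext
    intro v
    have h2 := hmul' (Matrix.of fun i j => v (i, j)) 1
    rw [mul_one, h0, mul_zero] at h2
    rw [map_zero, ← h2]
    rfl
  let NfHom : Matrix (Fin n) (Fin n) F →* F := ⟨⟨Nf, hNf1⟩, hmul'⟩
  -- transvections
  have htrans : ∀ (i j : Fin n), i ≠ j → ∀ c : F, Nf (Matrix.transvection i j c) = 1 := by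
    intro i j hij c
    set G : Fin n × Fin n → Polynomial F := fun ab =>
      Polynomial.C ((1 : Matrix (Fin n) (Fin n) F) ab.1 ab.2) +
        (if ab.1 = i ∧ ab.2 = j then Polynomial.X else 0) with hG
    set p := MvPolynomial.aeval G N with hpdef
    have hp : ∀ c, p.eval c = Nf (Matrix.transvection i j c) := by
      intro c
      rw [hpdef, eval_aeval_poly]
      simp only [hNf]
      refine congrArg (fun f => MvPolynomial.eval f N) ?_
      funext ab
      simp only [hG, Matrix.transvection, Matrix.add_apply, Matrix.single_apply,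
        Polynomial.eval_add, Polynomial.eval_C]
      congr 1
      by_cases h : ab.1 = i ∧ ab.2 = j
      · rw [if_pos h, if_pos ⟨h.1.symm, h.2.symm⟩, Polynomial.eval_X]
      · rw [if_neg h, if_neg (fun h' => h ⟨h'.1.symm, h'.2.symm⟩), Polynomial.eval_zero]
    have hpm : ∀ c d, p.eval c * p.eval d = p.eval (c + d) := by
      intro c d
      rw [hp, hp, hp, ← hmul', Matrix.transvection_mul_transvection_same _ _ hij]
    have hp0 : p.eval 0 = 1 := by rw [hp, Matrix.transvection_zero, hNf1]
    have hnoroot : ∀ c, p.eval c ≠ 0 := by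
      intro c h
      have := hpm c (-c)
      rw [h, zero_mul, add_neg_cancel, hp0] at this
      exact zero_ne_one this
    have hdeg : p.degree = 0 := by
      by_contra hd
      obtain ⟨x, hx⟩ := IsAlgClosed.exists_root p hd
      exact hnoroot x hx
    have hconst := Polynomial.eq_C_of_degree_eq_zero hdeg
    rw [← hp, hconst, Polynomial.eval_C]
    have := hp0
    rw [hconst, Polynomial.eval_C] at this
    exact this
  -- diagonal one-parameter subgroups
  set E : Fin n → F → Matrix (Fin n) (Fin n) F := fun i t => Matrix.diagonal (Pi.mulSingle i t) with hE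
  have hEmul : ∀ i s t, E i s * E i t = E i (s * t) := by
    intro i s t
    simp only [hE, Matrix.diagonal_mul_diagonal]
    congr 1
    funext a
    by_cases ha : a = i
    · subst ha; simp
    · simp [Pi.mulSingle_eq_of_ne ha]
  have hE1 : ∀ i, E i 1 = 1 := by
    intro i
    simp only [hE, Pi.mulSingle_one]
    exact Matrix.diagonal_one
  have hEpoly : ∀ i, ∃ m : ℕ, ∀ t, Nf (E i t) = t ^ m := by
    intro i
    set G : Fin n × Fin n → Polynomial F := fun ab =>
      if ab.1 = ab.2 then (if ab.1 = i then Polynomial.X else 1) else 0 with hG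
    set p := MvPolynomial.aeval G N with hpdef
    have hp : ∀ t, p.eval t = Nf (E i t) := by
      intro t
      rw [hpdef, eval_aeval_poly]
      simp only [hNf]
      refine congrArg (fun f => MvPolynomial.eval f N) ?_
      funext ab
      simp only [hG, hE, Matrix.diagonal_apply]
      by_cases h1 : ab.1 = ab.2
      · rw [if_pos h1, if_pos h1]
        by_cases h2 : ab.1 = i
        · rw [if_pos h2, Polynomial.eval_X, h2, Pi.mulSingle_eq_same]
        · rw [if_neg h2, Polynomial.eval_one, Pi.mulSingle_eq_of_ne h2]
      · rw [if_neg h1, if_neg h1, Polynomial.eval_zero]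
    obtain ⟨m, hm⟩ := eq_X_pow p (fun t ht h0 => by
      have h2 : p.eval t * p.eval t⁻¹ = 1 := by
        rw [hp, hp, ← hmul', hEmul, mul_inv_cancel₀ ht, hE1, hNf1]
      rw [h0, zero_mul] at h2
      exact zero_ne_one h2) (by rw [hp, hE1, hNf1])
    exact ⟨m, fun t => by rw [← hp, hm]; simp⟩
  choose m hm using hEpoly
  -- all exponents agree
  have hmeq : ∀ i j, m i = m j := by
    intro i j
    set σ : Equiv.Perm (Fin n) := Equiv.swap i j with hσ
    set Pσ : Matrix (Fin n) (Fin n) F := σ.toPEquiv.toMatrix with hPσ
    set Pσ' : Matrix (Fin n) (Fin n) F := σ.symm.toPEquiv.toMatrix with hPσ'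
    have hconj : ∀ d : Fin n → F, Pσ * Matrix.diagonal d * Pσ' = Matrix.diagonal (d ∘ σ) := by
      intro d
      rw [hPσ, hPσ', PEquiv.toMatrix_toPEquiv_mul, PEquiv.mul_toMatrix_toPEquiv,
        Matrix.submatrix_submatrix]
      exact Matrix.submatrix_diagonal_equiv d σ
    have hPP : Nf Pσ * Nf Pσ' = 1 := by
      rw [← hmul']
      have h3 := hconj (fun _ => 1)
      have h4 : Matrix.diagonal (fun _ : Fin n => (1 : F)) = 1 := Matrix.diagonal_one
      have h1 : ((fun _ : Fin n => (1 : F)) ∘ σ) = fun _ => 1 := rfl
      rw [h1, h4, mul_one] at h3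
      rw [h3, hNf1]
    have hEq : ∀ t, Nf (E j t) = Nf (E i t) := by
      intro t
      have h1 : E j t = Pσ * E i t * Pσ' := by
        rw [hE]
        simp only
        rw [hconj]
        congr 1
        funext a
        simp only [Function.comp_apply, hσ]
        by_cases ha : a = j
        · subst ha; simp
        · rw [Pi.mulSingle_eq_of_ne ha]
          by_cases ha' : a = i
          · subst ha'
            rw [Equiv.swap_apply_left, Pi.mulSingle_eq_of_ne (Ne.symm ha)]
          · rw [Equiv.swap_apply_of_ne_of_ne ha' ha, Pi.mulSingle_eq_of_ne ha']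
      rw [h1, hmul', hmul']
      calc Nf Pσ * Nf (E i t) * Nf Pσ' = (Nf Pσ * Nf Pσ') * Nf (E i t) := by ring
        _ = Nf (E i t) := by rw [hPP, one_mul]
    have hpoly : (Polynomial.X : Polynomial F) ^ m j = Polynomial.X ^ m i := by
      apply Polynomial.funext
      intro t
      rw [Polynomial.eval_pow, Polynomial.eval_pow, Polynomial.eval_X, ← hm, ← hm, hEq]
    have := congrArg Polynomial.natDegree hpoly
    rw [Polynomial.natDegree_X_pow, Polynomial.natDegree_X_pow] at this
    exact this.symm
  -- assembly
  rcases Nat.eq_zero_or_pos n with hn | hn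
  · subst hn
    refine ⟨0, fun x => ?_⟩
    have : x = 1 := Subsingleton.elim _ _
    rw [this, pow_zero]
    exact hNf1
  · set M := m ⟨0, hn⟩ with hM
    refine ⟨M, fun x => ?_⟩
    obtain ⟨L, L', D, hx⟩ := Matrix.Pivot.exists_list_transvec_mul_diagonal_mul_list_transvec x
    have hL : ∀ L : List (Matrix.TransvectionStruct (Fin n) F),
        Nf (L.map Matrix.TransvectionStruct.toMatrix).prod = 1 := by
      intro L
      induction L with
      | nil => simpa using hNf1
      | cons t L ih =>
        simp only [List.map_cons, List.prod_cons]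
        rw [hmul', ih, mul_one]
        exact htrans t.i t.j t.hij t.c
    have hD : Nf (Matrix.diagonal D) = (∏ i, D i) ^ M := by
      let Φ : (Fin n → F) →* F := NfHom.comp (Matrix.diagonalRingHom (Fin n) F).toMonoidHom
      have h1 : Nf (Matrix.diagonal D) = Φ D := rfl
      rw [h1, ← Finset.univ_prod_mulSingle D, map_prod]
      have h2 : ∀ i, Φ (Pi.mulSingle i (D i)) = D i ^ M := by
        intro i
        have : Φ (Pi.mulSingle i (D i)) = Nf (E i (D i)) := rfl
        rw [this, hm, hmeq i ⟨0, hn⟩]
      simp only [h2]
      rw [Finset.prod_pow, Finset.univ_prod_mulSingle]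
    show Nf x = x.det ^ M
    rw [hx, hmul', hmul', hL, hL, one_mul, mul_one, hD, Matrix.det_mul, Matrix.det_mul,
      Matrix.TransvectionStruct.det_toMatrix_prod, Matrix.TransvectionStruct.det_toMatrix_prod,
      Matrix.det_diagonal, one_mul, mul_one]

end Groth.Agent.S18544
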