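import Mathlib
import Groth.Statements.S18545
-- import your own Groth.Agent.* helpers here

set_option autoImplicit false
universe u
open AbVar

namespace Groth.Agent.S18545

theorem result (K : Type u) [Field K]
    (V : Type u) [AddCommGroup V] [Module K V] [FiniteDimensional K V] (g : ℕ) (hV : Module.finrank K V = 2 * g)
    (e : LinearMap.BilinForm K V) (he : e.IsAlt) (hnd : e.Nondegenerate)
    (F : Subalgebra K (Module.End K V)) (r : ℕ) (hF : Nonempty (F ≃ₐ[K] (Fin r → K)))
    (S : Set (Module.End K V)) (hS : Submodule.span K S = Subalgebra.toSubmodule F)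
    (hsim : ∀ s ∈ S, ∃ c : K, c ≠ 0 ∧ ∀ x y : V, e (s x) (s y) = c * e x y)
    (D : Set (Module.End K V))
    (hmax : ∀ W : Submodule K V, (∀ f ∈ F, ∀ w ∈ W, f w ∈ W) → (∀ x ∈ W, ∀ y ∈ W, e x y = 0) →
      Module.finrank K W = g → ∀ d ∈ D, ∀ w ∈ W, d w ∈ W)
    (W : Submodule K V) (hWF : ∀ f ∈ F, ∀ w ∈ W, f w ∈ W) (hWiso : ∀ x ∈ W, ∀ y ∈ W, e x y = 0) :
    ∀ d ∈ D, ∀ w ∈ W, d w ∈ W := by
  classical
  obtain ⟨φ⟩ := hF
  have hrefl : e.IsRefl := he.isRefl
  -- idempotents
  set ε : Fin r → Module.End K V := fun i => ((φ.symm (Pi.single i 1) : F) : Module.End K V) with hε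
  have hεF : ∀ i, ε i ∈ F := fun i => (φ.symm (Pi.single i 1)).2
  have hsum : ∑ i, ε i = 1 := by
    have h1 : (∑ i, φ.symm (Pi.single i (1:K)) : F) = 1 := by
      rw [← map_sum]
      have : (∑ i, Pi.single i (1:K) : Fin r → K) = 1 := by
        ext j; simp [Finset.sum_apply, Pi.single_apply]
      rw [this, map_one]
    have := congrArg (fun t : F => (t : Module.End K V)) h1
    simpa [hε] using this
  have hmulε : ∀ (f : Module.End K V) (hf : f ∈ F) (i : Fin r), f * ε i = (φ ⟨f, hf⟩ i) • ε i := by
    intro f hf i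
    have h1 : (⟨f, hf⟩ : F) * φ.symm (Pi.single i 1) = (φ ⟨f,hf⟩ i) • φ.symm (Pi.single i 1) := by
      apply φ.injective
      rw [map_mul, map_smul, φ.apply_symm_apply]
      ext j
      by_cases hj : j = i
      · subst hj; simp
      · simp [hj]
    have := congrArg (fun t : F => (t : Module.End K V)) h1
    simpa [hε] using this
  -- eigenvectors
  have eigen : ∀ (M' M : Submodule K V), (∀ f ∈ F, ∀ w ∈ M', f w ∈ M') → ∀ v ∈ M', v ∉ M →
      ∃ u ∈ M', u ∉ M ∧ ∀ f ∈ F, ∃ c : K, f u = c • u := by
    intro M' M hM' v hv hvM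
    by_contra hcon
    push Not at hcon
    apply hvM
    have hv' : v = ∑ i, ε i v := by
      have := congrArg (fun t : Module.End K V => t v) hsum
      simpa using this.symm
    rw [hv']
    apply Submodule.sum_mem
    intro i _
    by_contra hi
    obtain ⟨f, hf, hne⟩ := hcon (ε i v) (hM' _ (hεF i) v hv) hi
    apply hne (φ ⟨f, hf⟩ i)
    have := congrArg (fun t : Module.End K V => t v) (hmulε f hf i)
    simpa using this
  -- isotropic subspaces have dimension ≤ g
  have iso_le : ∀ W : Submodule K V, (∀ x ∈ W, ∀ y ∈ W, e x y = 0) → Module.finrank K W ≤ g := by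
    intro W hW
    have h1 : W ≤ e.orthogonal W := fun m hm n hn => hW n hn m hm
    have h2 := LinearMap.BilinForm.finrank_orthogonal hnd W
    have h3 := Submodule.finrank_mono h1
    have h4 := Submodule.finrank_le W
    omega
  -- orthogonal is F-stable
  have orth_stable : ∀ W : Submodule K V, (∀ f ∈ F, ∀ w ∈ W, f w ∈ W) →
      ∀ f ∈ F, ∀ w ∈ e.orthogonal W, f w ∈ e.orthogonal W := by
    intro W hW f hf
    have hf' : f ∈ Submodule.span K S := by rw [hS]; exact hf
    clear hf
    induction hf' using Submodule.span_induction with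
    | mem s hs =>
      obtain ⟨c, hc, hsc⟩ := hsim s hs
      have hsF : s ∈ F := by
        have : s ∈ Submodule.span K S := Submodule.subset_span hs
        rw [hS] at this; exact this
      have hinj : Function.Injective s := by
        rw [← LinearMap.ker_eq_bot, LinearMap.ker_eq_bot']
        intro x hx
        apply hnd.1 x
        intro y
        have := hsc x y
        rw [hx] at this
        simp only [map_zero, LinearMap.zero_apply] at this
        rcases mul_eq_zero.mp this.symm with h | h
        · exact absurd h hc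
        · exact h
      let sW : W →ₗ[K] W := s.restrict (fun x hx => hW s hsF x hx)
      have hsWinj : Function.Injective sW := by
        intro a b hab
        apply Subtype.ext
        apply hinj
        have := congrArg Subtype.val hab
        simpa [sW] using this
      have hsWsurj : Function.Surjective sW := LinearMap.injective_iff_surjective.mp hsWinj
      intro x hx n hn
      obtain ⟨n', hn'⟩ := hsWsurj ⟨n, hn⟩
      have hn'' : s n' = n := by
        have := congrArg Subtype.val hn'
        simpa [sW] using this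
      rw [← hn'', hsc, hx n' n'.2, mul_zero]
    | zero =>
      intro x _ n _
      simp
    | add a b _ _ ha hb =>
      intro x hx n hn
      have h1 := ha x hx n hn
      have h2 := hb x hx n hn
      simp [h1, h2]
    | smul c a _ ha =>
      intro x hx n hn
      have h1 := ha x hx n hn
      simp [h1]
  -- extension by an eigenvector
  have ext_ok : ∀ (W : Submodule K V) (u : V), (∀ f ∈ F, ∀ w ∈ W, f w ∈ W) →
      (∀ x ∈ W, ∀ y ∈ W, e x y = 0) → u ∈ e.orthogonal W → (∀ f ∈ F, ∃ c : K, f u = c • u) →
      (∀ f ∈ F, ∀ w ∈ W ⊔ Submodule.span K {u}, f w ∈ W ⊔ Submodule.span K {u}) ∧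
      (∀ x ∈ W ⊔ Submodule.span K {u}, ∀ y ∈ W ⊔ Submodule.span K {u}, e x y = 0) := by
    intro W u hWF hWiso hu hue
    constructor
    · intro f hf w hw
      rw [Submodule.mem_sup] at hw ⊢
      obtain ⟨w1, hw1, w2, hw2, rfl⟩ := hw
      obtain ⟨a, rfl⟩ := Submodule.mem_span_singleton.mp hw2
      obtain ⟨c, hc⟩ := hue f hf
      refine ⟨f w1, hWF f hf w1 hw1, (a * c) • u, Submodule.smul_mem _ _ (Submodule.mem_span_singleton_self u), ?_⟩
      rw [map_add, map_smul, hc, smul_smul]
    · intro x hx y hy
      rw [Submodule.mem_sup] at hx hy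
      obtain ⟨x1, hx1, x2, hx2, rfl⟩ := hx
      obtain ⟨a, rfl⟩ := Submodule.mem_span_singleton.mp hx2
      obtain ⟨y1, hy1, y2, hy2, rfl⟩ := hy
      obtain ⟨b, rfl⟩ := Submodule.mem_span_singleton.mp hy2
      have h1 : e x1 y1 = 0 := hWiso x1 hx1 y1 hy1
      have h2 : e x1 u = 0 := hu x1 hx1
      have h3 : e u y1 = 0 := hrefl _ _ (hu y1 hy1)
      have h4 : e u u = 0 := he u
      simp [h1, h2, h3, h4]
  have main : ∀ n : ℕ, ∀ W : Submodule K V, (∀ f ∈ F, ∀ w ∈ W, f w ∈ W) →
      (∀ x ∈ W, ∀ y ∈ W, e x y = 0) →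
      g - Module.finrank K W = n → ∀ d ∈ D, ∀ w ∈ W, d w ∈ W := by
    intro n
    induction n using Nat.strong_induction_on with
    | _ n ih =>
      intro W hWF hWiso hn d hd w hw
      have hle := iso_le W hWiso
      by_cases hg : Module.finrank K W = g
      · exact hmax W hWF hWiso hg d hd w hw
      have hlt : Module.finrank K W < g := lt_of_le_of_ne hle hg
      have hWo : W ≤ e.orthogonal W := fun m hm n hn => hWiso n hn m hm
      have hdimo := LinearMap.BilinForm.finrank_orthogonal hnd W
      have hoF := orth_stable W hWF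
      -- any isotropic W' between W and W^⊥ is not all of W^⊥
      have exists_out : ∀ W' : Submodule K V, (∀ x ∈ W', ∀ y ∈ W', e x y = 0) →
          W' ≤ e.orthogonal W → ∃ v ∈ e.orthogonal W, v ∉ W' := by
        intro W' hW' hle'
        by_contra hcon
        push Not at hcon
        have : e.orthogonal W ≤ W' := hcon
        have h1 := Submodule.finrank_mono this
        have h2 := iso_le W' hW'
        omega
      obtain ⟨v1, hv1, hv1W⟩ := exists_out W hWiso hWo
      obtain ⟨u1, hu1, hu1W, hu1e⟩ := eigen _ W hoF v1 hv1 hv1W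
      obtain ⟨hW1F, hW1iso⟩ := ext_ok W u1 hWF hWiso hu1 hu1e
      have hW1o : W ⊔ Submodule.span K {u1} ≤ e.orthogonal W :=
        sup_le hWo ((Submodule.span_singleton_le_iff_mem _ _).mpr hu1)
      obtain ⟨v2, hv2, hv2W⟩ := exists_out _ hW1iso hW1o
      obtain ⟨u2, hu2, hu2W, hu2e⟩ := eigen _ (W ⊔ Submodule.span K {u1}) hoF v2 hv2 hv2W
      obtain ⟨hW2F, hW2iso⟩ := ext_ok W u2 hWF hWiso hu2 hu2e
      have hu2W' : u2 ∉ W := fun h => hu2W (Submodule.mem_sup_left h)
      -- strict increase
      have lt1 : W < W ⊔ Submodule.span K {u1} := by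
        apply lt_of_le_of_ne le_sup_left
        intro h
        apply hu1W
        rw [h]
        exact Submodule.mem_sup_right (Submodule.mem_span_singleton_self u1)
      have lt2 : W < W ⊔ Submodule.span K {u2} := by
        apply lt_of_le_of_ne le_sup_left
        intro h
        apply hu2W'
        rw [h]
        exact Submodule.mem_sup_right (Submodule.mem_span_singleton_self u2)
      have d1 := Submodule.finrank_lt_finrank_of_lt lt1
      have d2 := Submodule.finrank_lt_finrank_of_lt lt2
      have l1 := iso_le _ hW1iso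
      have l2 := iso_le _ hW2iso
      have r1 := ih (g - Module.finrank K ↥(W ⊔ Submodule.span K {u1})) (by omega) _ hW1F hW1iso rfl d hd
        w (Submodule.mem_sup_left hw)
      have r2 := ih (g - Module.finrank K ↥(W ⊔ Submodule.span K {u2})) (by omega) _ hW2F hW2iso rfl d hd
        w (Submodule.mem_sup_left hw)
      rw [Submodule.mem_sup] at r2
      obtain ⟨y1, hy1, y2, hy2, hy⟩ := r2
      obtain ⟨b, rfl⟩ := Submodule.mem_span_singleton.mp hy2
      by_cases hb : b = 0
      · subst hb
        rw [zero_smul, add_zero] at hy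
        rw [← hy]; exact hy1
      · exfalso
        apply hu2W
        have : u2 = b⁻¹ • (d w - y1) := by
          rw [← hy, add_sub_cancel_left, smul_smul, inv_mul_cancel₀ hb, one_smul]
        rw [this]
        apply Submodule.smul_mem
        apply Submodule.sub_mem _ r1
        exact Submodule.mem_sup_left hy1
  exact main _ W hWF hWiso rfl

end Groth.Agent.S18545
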