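import Mathlib
import Groth.Statements.S18546
-- import your own Groth.Agent.* helpers here

set_option autoImplicit false
open scoped TensorProduct
universe u v
open GalCoh

namespace Groth.Agent.S18546

lemma add_self_zmod2 {M : Type*} [AddCommGroup M] [Module (ZMod 2) M] (x : M) : x + x = 0 := by
  have h : x + x = (2 : ZMod 2) • x := by rw [two_smul]
  rw [h]
  have : (2 : ZMod 2) = 0 := by decide
  rw [this, zero_smul]

/-- brute force over the six invertible 2×2 matrices over `𝔽₂` -/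
lemma key {V : Type*} [AddCommGroup V] [Module (ZMod 2) V] (e1 e2 : V) (p q r s : ZMod 2)
    (h1 : ¬ (p = 0 ∧ q = 0)) (h2 : ¬ (r = 0 ∧ s = 0)) (h3 : ¬ (p + r = 0 ∧ q + s = 0)) :
    (p • e1 + q • e2) ⊗ₜ[ZMod 2] (r • e1 + s • e2) + (p • e1 + q • e2) ⊗ₜ[ZMod 2] (p • e1 + q • e2)
      + (r • e1 + s • e2) ⊗ₜ[ZMod 2] (r • e1 + s • e2)
      = (e1 ⊗ₜ[ZMod 2] e2 + e1 ⊗ₜ[ZMod 2] e1 + e2 ⊗ₜ[ZMod 2] e2) ∨
    (p • e1 + q • e2) ⊗ₜ[ZMod 2] (r • e1 + s • e2) + (p • e1 + q • e2) ⊗ₜ[ZMod 2] (p • e1 + q • e2)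
      + (r • e1 + s • e2) ⊗ₜ[ZMod 2] (r • e1 + s • e2)
      = (e1 ⊗ₜ[ZMod 2] e2 + e1 ⊗ₜ[ZMod 2] e1 + e2 ⊗ₜ[ZMod 2] e2)
        + (e1 ⊗ₜ[ZMod 2] e2 + e2 ⊗ₜ[ZMod 2] e1) := by
  have h11 := add_self_zmod2 (e1 ⊗ₜ[ZMod 2] e1)
  have h12 := add_self_zmod2 (e1 ⊗ₜ[ZMod 2] e2)
  have h21 := add_self_zmod2 (e2 ⊗ₜ[ZMod 2] e1)
  have h22 := add_self_zmod2 (e2 ⊗ₜ[ZMod 2] e2)
  have h01 : ∀ x : ZMod 2, x = 0 ∨ x = 1 := by decide
  have h110 : (1 : ZMod 2) + 1 = 0 := by decide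
  rcases h01 p with rfl | rfl <;> rcases h01 q with rfl | rfl <;> rcases h01 r with rfl | rfl <;>
    rcases h01 s with rfl | rfl <;>
    simp only [zero_smul, one_smul, zero_add, add_zero, h110, and_self, not_true_eq_false,
      one_ne_zero, and_false, false_and, not_false_eq_true] at h1 h2 h3 ⊢ <;>
    first
    | (left; refine (one_smul (ZMod 2) _).symm.trans ?_
       try simp only [TensorProduct.add_tmul, TensorProduct.tmul_add]
       match_scalars <;> decide)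
    | (right; refine (one_smul (ZMod 2) _).symm.trans ?_
       try simp only [TensorProduct.add_tmul, TensorProduct.tmul_add]
       match_scalars <;> decide)
    | (left; trivial)

lemma sym_eq {V : Type*} [AddCommGroup V] [Module (ZMod 2) V] (e1 e2 : V) (x1 x2 y1 y2 : ZMod 2) :
    (x1 • e1 + x2 • e2) ⊗ₜ[ZMod 2] (y1 • e1 + y2 • e2)
      + (y1 • e1 + y2 • e2) ⊗ₜ[ZMod 2] (x1 • e1 + x2 • e2)
      = (x1 * y2 + x2 * y1) • (e1 ⊗ₜ[ZMod 2] e2 + e2 ⊗ₜ[ZMod 2] e1) := by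
  simp only [TensorProduct.add_tmul, TensorProduct.tmul_add, TensorProduct.smul_tmul_smul]
  match_scalars <;> (revert x1 x2 y1 y2; decide)

theorem result (G : Type u) [Group G] (V : Type v)
    [AddCommGroup V] [Module (ZMod 2) V] (hV : Module.finrank (ZMod 2) V = 2)
    (ρ : Representation (ZMod 2) G V) :
    ∃ W : Submodule (ZMod 2) (V ⊗[ZMod 2] V),
      (∀ g : G, ∀ w ∈ W, ρ.tprod ρ g w ∈ W) ∧
      W ⊓ Submodule.span (ZMod 2) (Set.range fun v : V => v ⊗ₜ[ZMod 2] v) =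
        Submodule.span (ZMod 2) (Set.range fun p : V × V => p.1 ⊗ₜ[ZMod 2] p.2 + p.2 ⊗ₜ[ZMod 2] p.1) ∧
      W ⊔ Submodule.span (ZMod 2) (Set.range fun v : V => v ⊗ₜ[ZMod 2] v) = ⊤ := by
  classical
  have : Module.Finite (ZMod 2) V := Module.finite_of_finrank_pos (by rw [hV]; norm_num)
  let b : Module.Basis (Fin 2) (ZMod 2) V := Module.finBasisOfFinrankEq (ZMod 2) V hV
  set T := b.tensorProduct b with hT
  have hTap : ∀ i j, T (i, j) = b i ⊗ₜ[ZMod 2] b j := fun i j => by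
    simp [hT, Module.Basis.tensorProduct_apply]
  set e1 := b 0 with he1
  set e2 := b 1 with he2
  set ω : V ⊗[ZMod 2] V := e1 ⊗ₜ[ZMod 2] e2 + e2 ⊗ₜ[ZMod 2] e1 with hω
  set τ : V ⊗[ZMod 2] V := e1 ⊗ₜ[ZMod 2] e2 + e1 ⊗ₜ[ZMod 2] e1 + e2 ⊗ₜ[ZMod 2] e2 with hτ
  set Na := Submodule.span (ZMod 2) (Set.range fun v : V => v ⊗ₜ[ZMod 2] v) with hNa
  set Ns := Submodule.span (ZMod 2)
    (Set.range fun p : V × V => p.1 ⊗ₜ[ZMod 2] p.2 + p.2 ⊗ₜ[ZMod 2] p.1) with hNs
  set W := Submodule.span (ZMod 2) ({ω, τ} : Set (V ⊗[ZMod 2] V)) with hW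
  set D := Submodule.span (ZMod 2)
    ({e1 ⊗ₜ[ZMod 2] e1, e2 ⊗ₜ[ZMod 2] e2} : Set (V ⊗[ZMod 2] V)) with hD
  have hωW : ω ∈ W := Submodule.subset_span (by simp)
  have hτW : τ ∈ W := Submodule.subset_span (by simp)
  have hrepr : ∀ v : V, v = b.repr v 0 • e1 + b.repr v 1 • e2 := by
    intro v
    conv_lhs => rw [← b.sum_repr v, Fin.sum_univ_two]
  have hvNa : ∀ v : V, v ⊗ₜ[ZMod 2] v ∈ Na := fun v => Submodule.subset_span ⟨v, rfl⟩
  have hneg : ∀ x : V, -x = x := fun x => by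
    rw [neg_eq_iff_add_eq_zero]; exact add_self_zmod2 x
  -- (2) Ns ≤ W
  have hNsW : Ns ≤ W := by
    rw [hNs, Submodule.span_le]
    rintro _ ⟨p, rfl⟩
    show p.1 ⊗ₜ[ZMod 2] p.2 + p.2 ⊗ₜ[ZMod 2] p.1 ∈ W
    rw [hrepr p.1, hrepr p.2, sym_eq]
    exact Submodule.smul_mem _ _ hωW
  have hNsNa : Ns ≤ Na := by
    rw [hNs, Submodule.span_le]
    rintro _ ⟨p, rfl⟩
    have e : p.1 ⊗ₜ[ZMod 2] p.2 + p.2 ⊗ₜ[ZMod 2] p.1
        = (p.1 + p.2) ⊗ₜ[ZMod 2] (p.1 + p.2) - p.1 ⊗ₜ[ZMod 2] p.1 - p.2 ⊗ₜ[ZMod 2] p.2 := by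
      rw [TensorProduct.add_tmul, TensorProduct.tmul_add, TensorProduct.tmul_add]; abel
    show p.1 ⊗ₜ[ZMod 2] p.2 + p.2 ⊗ₜ[ZMod 2] p.1 ∈ Na
    rw [e]
    exact Submodule.sub_mem _ (Submodule.sub_mem _ (hvNa _) (hvNa _)) (hvNa _)
  -- (1) stability
  have hinj : ∀ g : G, Function.Injective (ρ g) := by
    intro g x y hxy
    have := congrArg (ρ g⁻¹) hxy
    simpa [← Module.End.mul_apply, ← map_mul] using this
  have hstab : ∀ g : G, ∀ w ∈ W, ρ.tprod ρ g w ∈ W := by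
    intro g w hw
    induction hw using Submodule.span_induction with
    | mem x hx =>
      rcases hx with rfl | rfl
      · rw [hω, map_add, Representation.tprod_apply, TensorProduct.map_tmul, TensorProduct.map_tmul]
        apply hNsW
        exact Submodule.subset_span ⟨(ρ g e1, ρ g e2), rfl⟩
      · rw [hτ, map_add, map_add, Representation.tprod_apply, TensorProduct.map_tmul,
          TensorProduct.map_tmul, TensorProduct.map_tmul]
        have h1 : ¬ (b.repr (ρ g e1) 0 = 0 ∧ b.repr (ρ g e1) 1 = 0) := by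
          rintro ⟨h0, h1⟩
          have := hrepr (ρ g e1)
          rw [h0, h1, zero_smul, zero_smul, add_zero] at this
          have : e1 = 0 := hinj g (by rw [this, map_zero])
          exact b.ne_zero 0 this
        have h2 : ¬ (b.repr (ρ g e2) 0 = 0 ∧ b.repr (ρ g e2) 1 = 0) := by
          rintro ⟨h0, h1⟩
          have := hrepr (ρ g e2)
          rw [h0, h1, zero_smul, zero_smul, add_zero] at this
          have : e2 = 0 := hinj g (by rw [this, map_zero])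
          exact b.ne_zero 1 this
        have h3 : ¬ (b.repr (ρ g e1) 0 + b.repr (ρ g e2) 0 = 0 ∧
            b.repr (ρ g e1) 1 + b.repr (ρ g e2) 1 = 0) := by
          rintro ⟨h0, h1⟩
          have := hrepr (ρ g (e1 + e2))
          rw [map_add, map_add, Finsupp.add_apply, Finsupp.add_apply, h0, h1, zero_smul, zero_smul,
            add_zero, ← map_add] at this
          have h12 : e1 + e2 = 0 := hinj g (by rw [this, map_zero])
          have : e1 = e2 := by rw [← hneg e2]; exact eq_neg_of_add_eq_zero_left h12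
          exact absurd (b.injective this) (by decide)
        have hk := key e1 e2 _ _ _ _ h1 h2 h3
        rw [← hrepr, ← hrepr] at hk
        rcases hk with hk | hk
        · rw [hk]; exact hτW
        · rw [hk]; exact Submodule.add_mem _ hτW hωW
    | zero => simp
    | add x y _ _ hx hy => rw [map_add]; exact Submodule.add_mem _ hx hy
    | smul c x _ hx => rw [map_smul]; exact Submodule.smul_mem _ _ hx
  -- (3) Na ≤ Ns ⊔ D
  have hTD : ∀ i, b i ⊗ₜ[ZMod 2] b i ∈ D := by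
    intro i
    fin_cases i
    · exact Submodule.subset_span (by simp [he1])
    · exact Submodule.subset_span (by simp [he2])
  have hNaSD : Na ≤ Ns ⊔ D := by
    rw [hNa, Submodule.span_le]
    rintro _ ⟨v, rfl⟩
    have hv : v ∈ Submodule.span (ZMod 2) (Set.range b) := by rw [b.span_eq]; trivial
    show v ⊗ₜ[ZMod 2] v ∈ Ns ⊔ D
    induction hv using Submodule.span_induction with
    | mem x hx =>
      obtain ⟨i, rfl⟩ := hx
      exact Submodule.mem_sup_right (hTD i)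
    | zero => simp
    | add x y _ _ hx hy =>
      have e : (x + y) ⊗ₜ[ZMod 2] (x + y)
          = x ⊗ₜ[ZMod 2] x + y ⊗ₜ[ZMod 2] y + (x ⊗ₜ[ZMod 2] y + y ⊗ₜ[ZMod 2] x) := by
        rw [TensorProduct.add_tmul, TensorProduct.tmul_add, TensorProduct.tmul_add]; abel
      rw [e]
      refine Submodule.add_mem _ (Submodule.add_mem _ hx hy) (Submodule.mem_sup_left ?_)
      exact Submodule.subset_span ⟨(x, y), rfl⟩
    | smul c x _ hx =>
      rw [TensorProduct.smul_tmul_smul]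
      exact Submodule.smul_mem _ _ hx
  -- (4) disjointness
  have hdisj : Disjoint W D := by
    rw [Submodule.disjoint_def]
    intro t htW htD
    rw [hW, Submodule.mem_span_pair] at htW
    rw [hD, Submodule.mem_span_pair] at htD
    obtain ⟨x, y, rfl⟩ := htW
    obtain ⟨α, β, h⟩ := htD
    have h01 := congrArg (fun t => T.repr t (0, 1)) h
    have h10 := congrArg (fun t => T.repr t (1, 0)) h
    simp [hT, hω, hτ, he1, he2, Module.Basis.tensorProduct_repr_tmul_apply] at h01 h10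
    have hx : x = 0 := h10.symm
    have hy : y = 0 := by rw [hx, zero_add] at h01; exact h01.symm
    rw [hx, hy, zero_smul, zero_smul, add_zero]
  refine ⟨W, hstab, ?_, ?_⟩
  · apply le_antisymm
    · rintro t ⟨htW, htNa⟩
      have h1 := hNaSD htNa
      rw [Submodule.mem_sup] at h1
      obtain ⟨s, hs, d, hd, rfl⟩ := h1
      have hdW : d ∈ W := by
        have : d = (s + d) - s := by abel
        rw [this]; exact Submodule.sub_mem _ htW (hNsW hs)
      have hd0 : d = 0 := Submodule.disjoint_def.mp hdisj d hdW hd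
      rw [hd0, add_zero]; exact hs
    · exact le_inf hNsW hNsNa
  · have h11 : e1 ⊗ₜ[ZMod 2] e1 ∈ W ⊔ Na := Submodule.mem_sup_right (hvNa _)
    have h22 : e2 ⊗ₜ[ZMod 2] e2 ∈ W ⊔ Na := Submodule.mem_sup_right (hvNa _)
    have h12 : e1 ⊗ₜ[ZMod 2] e2 ∈ W ⊔ Na := by
      have : e1 ⊗ₜ[ZMod 2] e2 = τ - e1 ⊗ₜ[ZMod 2] e1 - e2 ⊗ₜ[ZMod 2] e2 := by rw [hτ]; abel
      rw [this]
      exact Submodule.sub_mem _ (Submodule.sub_mem _ (Submodule.mem_sup_left hτW) h11) h22
    have h21 : e2 ⊗ₜ[ZMod 2] e1 ∈ W ⊔ Na := by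
      have : e2 ⊗ₜ[ZMod 2] e1 = ω - e1 ⊗ₜ[ZMod 2] e2 := by rw [hω]; abel
      rw [this]
      exact Submodule.sub_mem _ (Submodule.mem_sup_left hωW) h12
    rw [eq_top_iff, ← T.span_eq, Submodule.span_le]
    rintro _ ⟨⟨i, j⟩, rfl⟩
    rw [hTap]
    fin_cases i <;> fin_cases j
    · exact h11
    · exact h12
    · exact h21
    · exact h22

end Groth.Agent.S18546
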