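import Mathlib
import Groth.Statements.S18547
import Groth.Agent.S18546
-- import your own Groth.Agent.* helpers here

set_option autoImplicit false
open scoped TensorProduct
universe u v
open GalCoh

namespace Groth.Agent.S18547

open Groth.Agent.S18546 (add_self_zmod2 key)

/-- contraction with a functional: `a ⊗ b ↦ l a • b + l b • a` -/
noncomputable def contr {V : Type*} [AddCommGroup V] [Module (ZMod 2) V] (l : V →ₗ[ZMod 2] ZMod 2) :
    V ⊗[ZMod 2] V →ₗ[ZMod 2] V :=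
  (TensorProduct.lid (ZMod 2) V).toLinearMap ∘ₗ (TensorProduct.map l LinearMap.id)
    + (TensorProduct.rid (ZMod 2) V).toLinearMap ∘ₗ (TensorProduct.map LinearMap.id l)

lemma contr_tmul {V : Type*} [AddCommGroup V] [Module (ZMod 2) V] (l : V →ₗ[ZMod 2] ZMod 2)
    (a b : V) : contr l (a ⊗ₜ[ZMod 2] b) = l a • b + l b • a := by
  simp [contr]

lemma contr_Na {V : Type*} [AddCommGroup V] [Module (ZMod 2) V] (l : V →ₗ[ZMod 2] ZMod 2)
    (t : V ⊗[ZMod 2] V)
    (ht : t ∈ Submodule.span (ZMod 2) (Set.range fun v : V => v ⊗ₜ[ZMod 2] v)) :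
    contr l t = 0 := by
  induction ht using Submodule.span_induction with
  | mem x hx =>
    obtain ⟨v, rfl⟩ := hx
    show contr l (v ⊗ₜ[ZMod 2] v) = 0
    rw [contr_tmul]; exact add_self_zmod2 _
  | zero => simp
  | add x y _ _ hx hy => rw [map_add, hx, hy, add_zero]
  | smul c x _ hx => rw [map_smul, hx, smul_zero]

lemma sym_mem_Na {V : Type*} [AddCommGroup V] [Module (ZMod 2) V] (a b : V) :
    a ⊗ₜ[ZMod 2] b + b ⊗ₜ[ZMod 2] a ∈
      Submodule.span (ZMod 2) (Set.range fun v : V => v ⊗ₜ[ZMod 2] v) := by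
  have hvNa : ∀ v : V, v ⊗ₜ[ZMod 2] v ∈
      Submodule.span (ZMod 2) (Set.range fun v : V => v ⊗ₜ[ZMod 2] v) :=
    fun v => Submodule.subset_span ⟨v, rfl⟩
  have e : a ⊗ₜ[ZMod 2] b + b ⊗ₜ[ZMod 2] a
      = (a + b) ⊗ₜ[ZMod 2] (a + b) - a ⊗ₜ[ZMod 2] a - b ⊗ₜ[ZMod 2] b := by
    rw [TensorProduct.add_tmul, TensorProduct.tmul_add, TensorProduct.tmul_add]; abel
  rw [e]
  exact Submodule.sub_mem _ (Submodule.sub_mem _ (hvNa _) (hvNa _)) (hvNa _)

lemma decomp {V : Type*} [AddCommGroup V] [Module (ZMod 2) V]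
    (hV : Module.finrank (ZMod 2) V = 3) (t : V ⊗[ZMod 2] V)
    (ht : t ∉ Submodule.span (ZMod 2) (Set.range fun v : V => v ⊗ₜ[ZMod 2] v)) :
    ∃ x y : V, ∃ μ ν : V →ₗ[ZMod 2] ZMod 2,
      t - x ⊗ₜ[ZMod 2] y ∈ Submodule.span (ZMod 2) (Set.range fun v : V => v ⊗ₜ[ZMod 2] v) ∧
      μ x = 1 ∧ μ y = 0 ∧ ν x = 0 ∧ ν y = 1 := by
  classical
  have : Module.Finite (ZMod 2) V := Module.finite_of_finrank_pos (by rw [hV]; norm_num)
  let c : Module.Basis (Fin 3) (ZMod 2) V := Module.finBasisOfFinrankEq (ZMod 2) V hV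
  set T := c.tensorProduct c with hT
  have hTap : ∀ i j, T (i, j) = c i ⊗ₜ[ZMod 2] c j := fun i j => by
    simp [hT, Module.Basis.tensorProduct_apply]
  set Na := Submodule.span (ZMod 2) (Set.range fun v : V => v ⊗ₜ[ZMod 2] v) with hNa
  set e1 := c 0 with he1
  set e2 := c 1 with he2
  set e3 := c 2 with he3
  set S := Submodule.span (ZMod 2)
    ({e1 ⊗ₜ[ZMod 2] e2, e1 ⊗ₜ[ZMod 2] e3, e2 ⊗ₜ[ZMod 2] e3} : Set (V ⊗[ZMod 2] V)) with hS
  have hvNa : ∀ v : V, v ⊗ₜ[ZMod 2] v ∈ Na := fun v => Submodule.subset_span ⟨v, rfl⟩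
  have hup : ∀ a b : V, a ⊗ₜ[ZMod 2] b ∈ S → a ⊗ₜ[ZMod 2] b ∈ Na ⊔ S ∧ b ⊗ₜ[ZMod 2] a ∈ Na ⊔ S := by
    intro a b hab
    refine ⟨Submodule.mem_sup_right hab, ?_⟩
    have : b ⊗ₜ[ZMod 2] a = (a ⊗ₜ[ZMod 2] b + b ⊗ₜ[ZMod 2] a) - a ⊗ₜ[ZMod 2] b := by abel
    rw [this]
    exact Submodule.sub_mem _ (Submodule.mem_sup_left (sym_mem_Na a b)) (Submodule.mem_sup_right hab)
  have h12 := hup e1 e2 (Submodule.subset_span (by simp))
  have h13 := hup e1 e3 (Submodule.subset_span (by simp))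
  have h23 := hup e2 e3 (Submodule.subset_span (by simp))
  have htop : t ∈ Na ⊔ S := by
    have h : t ∈ Submodule.span (ZMod 2) (Set.range T) := by rw [T.span_eq]; trivial
    refine (Submodule.span_le.mpr ?_) h
    rintro _ ⟨⟨i, j⟩, rfl⟩
    rw [hTap]
    fin_cases i <;> fin_cases j
    · exact Submodule.mem_sup_left (hvNa _)
    · exact h12.1
    · exact h13.1
    · exact h12.2
    · exact Submodule.mem_sup_left (hvNa _)
    · exact h23.1
    · exact h13.2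
    · exact h23.2
    · exact Submodule.mem_sup_left (hvNa _)
  rw [Submodule.mem_sup] at htop
  obtain ⟨n, hn, s, hs, rfl⟩ := htop
  rw [hS, Submodule.mem_span_triple] at hs
  obtain ⟨α, β, γ, rfl⟩ := hs
  have h01 : ∀ x : ZMod 2, x = 0 ∨ x = 1 := by decide
  rcases h01 α with rfl | rfl
  · rcases h01 β with rfl | rfl
    · rcases h01 γ with rfl | rfl
      · exfalso; apply ht
        simpa using hn
      · refine ⟨e2, e3, c.coord 1, c.coord 2, ?_, ?_, ?_, ?_, ?_⟩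
        · simpa using hn
        · simp [he2]
        · simp [he3]
        · simp [he2]
        · simp [he3]
    · refine ⟨e1 + γ • e2, e3, c.coord 0, c.coord 2, ?_, ?_, ?_, ?_, ?_⟩
      · have : n + ((0 : ZMod 2) • e1 ⊗ₜ[ZMod 2] e2 + (1 : ZMod 2) • e1 ⊗ₜ[ZMod 2] e3
            + γ • e2 ⊗ₜ[ZMod 2] e3) - (e1 + γ • e2) ⊗ₜ[ZMod 2] e3 = n := by
          rw [TensorProduct.add_tmul, ← TensorProduct.smul_tmul']; module
        rw [this]; exact hn
      · simp [he1, he2]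
      · simp [he3]
      · simp [he1, he2]
      · simp [he3]
  · refine ⟨e1 + γ • e3, e2 + β • e3, c.coord 0, c.coord 1, ?_, ?_, ?_, ?_, ?_⟩
    · have : n + ((1 : ZMod 2) • e1 ⊗ₜ[ZMod 2] e2 + β • e1 ⊗ₜ[ZMod 2] e3
            + γ • e2 ⊗ₜ[ZMod 2] e3) - (e1 + γ • e3) ⊗ₜ[ZMod 2] (e2 + β • e3)
          = n + γ • (e2 ⊗ₜ[ZMod 2] e3 + e3 ⊗ₜ[ZMod 2] e2) - (γ * β) • e3 ⊗ₜ[ZMod 2] e3
            - (γ + γ) • e3 ⊗ₜ[ZMod 2] e2 := by
        simp only [TensorProduct.add_tmul, TensorProduct.tmul_add, ← TensorProduct.smul_tmul',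
          TensorProduct.tmul_smul]
        module
      rw [this]
      have hγ : ∀ z : ZMod 2, z + z = 0 := by decide
      rw [hγ, zero_smul, sub_zero]
      exact Submodule.sub_mem _ (Submodule.add_mem _ hn (Submodule.smul_mem _ _ (sym_mem_Na _ _)))
        (Submodule.smul_mem _ _ (hvNa _))
    · simp [he1, he3]
    · simp [he2, he3]
    · simp [he1, he3]
    · simp [he2, he3]

theorem result (G : Type u) [Group G] (V : Type v)
    [AddCommGroup V] [Module (ZMod 2) V] (hV : Module.finrank (ZMod 2) V = 3)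
    (ρ : Representation (ZMod 2) G V) (t : V ⊗[ZMod 2] V)
    (ht : ∀ g : G, ρ.tprod ρ g t - t ∈ Submodule.span (ZMod 2) (Set.range fun v : V => v ⊗ₜ[ZMod 2] v)) :
    ∃ t' : V ⊗[ZMod 2] V, t' - t ∈ Submodule.span (ZMod 2) (Set.range fun v : V => v ⊗ₜ[ZMod 2] v) ∧
      ∀ g : G, ρ.tprod ρ g t' - t' ∈
        Submodule.span (ZMod 2) (Set.range fun p : V × V => p.1 ⊗ₜ[ZMod 2] p.2 + p.2 ⊗ₜ[ZMod 2] p.1) := by
  classical
  set Na := Submodule.span (ZMod 2) (Set.range fun v : V => v ⊗ₜ[ZMod 2] v) with hNa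
  set Ns := Submodule.span (ZMod 2)
    (Set.range fun p : V × V => p.1 ⊗ₜ[ZMod 2] p.2 + p.2 ⊗ₜ[ZMod 2] p.1) with hNs
  by_cases ht0 : t ∈ Na
  · refine ⟨0, ?_, ?_⟩
    · rw [zero_sub]; exact Na.neg_mem ht0
    · intro g; simp
  obtain ⟨x, y, μ, ν, hxy, hμx, hμy, hνx, hνy⟩ := decomp hV t ht0
  have hvNa : ∀ v : V, v ⊗ₜ[ZMod 2] v ∈ Na := fun v => Submodule.subset_span ⟨v, rfl⟩
  have hNastab : ∀ g : G, ∀ w ∈ Na, ρ.tprod ρ g w ∈ Na := by
    intro g w hw
    induction hw using Submodule.span_induction with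
    | mem z hz =>
      obtain ⟨v, rfl⟩ := hz
      show ρ.tprod ρ g (v ⊗ₜ[ZMod 2] v) ∈ Na
      rw [Representation.tprod_apply, TensorProduct.map_tmul]
      exact hvNa _
    | zero => simp
    | add a b _ _ ha hb => rw [map_add]; exact Submodule.add_mem _ ha hb
    | smul c a _ ha => rw [map_smul]; exact Submodule.smul_mem _ _ ha
  have hginv : ∀ (g : G) (v : V), ρ g⁻¹ (ρ g v) = v := by
    intro g v; simp [← Module.End.mul_apply, ← map_mul]
  have hinj : ∀ g : G, Function.Injective (ρ g) := by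
    intro g a b hab
    have := congrArg (ρ g⁻¹) hab
    rwa [hginv, hginv] at this
  have hgxy : ∀ g : G, (ρ g x) ⊗ₜ[ZMod 2] (ρ g y) - x ⊗ₜ[ZMod 2] y ∈ Na := by
    intro g
    have h1 := hNastab g _ hxy
    rw [map_sub, Representation.tprod_apply, TensorProduct.map_tmul] at h1
    have : (ρ g x) ⊗ₜ[ZMod 2] (ρ g y) - x ⊗ₜ[ZMod 2] y
        = ((TensorProduct.map (ρ g) (ρ g)) t - t)
          - ((TensorProduct.map (ρ g) (ρ g)) t - (ρ g x) ⊗ₜ[ZMod 2] (ρ g y))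
          + (t - x ⊗ₜ[ZMod 2] y) := by abel
    rw [this]
    exact Submodule.add_mem _ (Submodule.sub_mem _ (ht g) h1) hxy
  have hU : ∀ g : G, ∃ p q r s : ZMod 2, ρ g x = p • x + q • y ∧ ρ g y = r • x + s • y := by
    intro g
    have h1 := contr_Na (μ ∘ₗ ρ g⁻¹) _ (hgxy g)
    rw [map_sub, contr_tmul, contr_tmul, sub_eq_zero] at h1
    simp only [LinearMap.comp_apply, hginv, hμx, hμy, one_smul, zero_smul, add_zero] at h1
    have h2 := contr_Na (ν ∘ₗ ρ g⁻¹) _ (hgxy g)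
    rw [map_sub, contr_tmul, contr_tmul, sub_eq_zero] at h2
    simp only [LinearMap.comp_apply, hginv, hνx, hνy, one_smul, zero_smul, zero_add] at h2
    exact ⟨_, _, _, _, by rw [h2, add_comm], by rw [h1, add_comm]⟩
  have hneg : ∀ a : V, -a = a := fun a => by
    rw [neg_eq_iff_add_eq_zero]; exact add_self_zmod2 a
  have hx0 : x ≠ 0 := by rintro rfl; simp at hμx
  have hy0 : y ≠ 0 := by rintro rfl; simp at hνy
  have hxy0 : x + y ≠ 0 := by
    intro h
    have := congrArg μ h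
    rw [map_add, hμx, hμy, map_zero] at this
    simp at this
  refine ⟨x ⊗ₜ[ZMod 2] y + x ⊗ₜ[ZMod 2] x + y ⊗ₜ[ZMod 2] y, ?_, ?_⟩
  · have : x ⊗ₜ[ZMod 2] y + x ⊗ₜ[ZMod 2] x + y ⊗ₜ[ZMod 2] y - t
        = x ⊗ₜ[ZMod 2] x + y ⊗ₜ[ZMod 2] y - (t - x ⊗ₜ[ZMod 2] y) := by abel
    rw [this]
    exact Submodule.sub_mem _ (Submodule.add_mem _ (hvNa _) (hvNa _)) hxy
  · intro g
    obtain ⟨p, q, r, s, hgx, hgy⟩ := hU g
    have h1 : ¬ (p = 0 ∧ q = 0) := by
      rintro ⟨rfl, rfl⟩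
      rw [zero_smul, zero_smul, add_zero] at hgx
      exact hx0 (hinj g (by rw [hgx, map_zero]))
    have h2 : ¬ (r = 0 ∧ s = 0) := by
      rintro ⟨rfl, rfl⟩
      rw [zero_smul, zero_smul, add_zero] at hgy
      exact hy0 (hinj g (by rw [hgy, map_zero]))
    have h3 : ¬ (p + r = 0 ∧ q + s = 0) := by
      rintro ⟨h, h'⟩
      have : ρ g (x + y) = 0 := by
        rw [map_add, hgx, hgy]
        have : p • x + q • y + (r • x + s • y) = (p + r) • x + (q + s) • y := by module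
        rw [this, h, h', zero_smul, zero_smul, add_zero]
      exact hxy0 (hinj g (by rw [this, map_zero]))
    have hk := key x y p q r s h1 h2 h3
    rw [← hgx, ← hgy] at hk
    rw [map_add, map_add, Representation.tprod_apply, TensorProduct.map_tmul,
      TensorProduct.map_tmul, TensorProduct.map_tmul]
    rcases hk with hk | hk
    · rw [hk, sub_self]; exact Submodule.zero_mem _
    · rw [hk, add_sub_cancel_left]
      exact Submodule.subset_span ⟨(x, y), rfl⟩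

end Groth.Agent.S18547
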