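import Mathlib
import Groth.Statements.S18548
-- import your own Groth.Agent.* helpers here

set_option autoImplicit false
open scoped TensorProduct
universe u v w
open GalCoh

namespace Groth.Agent.S18548

lemma add_self_zmod2 {M : Type*} [AddCommGroup M] [Module (ZMod 2) M] (x : M) : x + x = 0 := by
  have h : x + x = (2 : ZMod 2) • x := by rw [two_smul]
  rw [h]
  have : (2 : ZMod 2) = 0 := by decide
  rw [this, zero_smul]

theorem result (G : Type u) [Group G] (V : Type v)
    [AddCommGroup V] [Module (ZMod 2) V] (ρ : Representation (ZMod 2) G V)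
    (ι : Type w) (b : Module.Basis ι (ZMod 2) V) (hb : ∀ g : G, ∀ i : ι, ∃ j : ι, ρ g (b i) = b j) :
    ∃ W : Submodule (ZMod 2) (V ⊗[ZMod 2] V),
      (∀ g : G, ∀ w ∈ W, ρ.tprod ρ g w ∈ W) ∧
      W ⊓ Submodule.span (ZMod 2) (Set.range fun v : V => v ⊗ₜ[ZMod 2] v) =
        Submodule.span (ZMod 2) (Set.range fun p : V × V => p.1 ⊗ₜ[ZMod 2] p.2 + p.2 ⊗ₜ[ZMod 2] p.1) ∧
      W ⊔ Submodule.span (ZMod 2) (Set.range fun v : V => v ⊗ₜ[ZMod 2] v) = ⊤ := by
  classical
  set T := b.tensorProduct b with hT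
  have hTap : ∀ i j, T (i, j) = b i ⊗ₜ[ZMod 2] b j := fun i j => by
    simp [hT, Module.Basis.tensorProduct_apply]
  set Na := Submodule.span (ZMod 2) (Set.range fun v : V => v ⊗ₜ[ZMod 2] v) with hNa
  set Ns := Submodule.span (ZMod 2)
    (Set.range fun p : V × V => p.1 ⊗ₜ[ZMod 2] p.2 + p.2 ⊗ₜ[ZMod 2] p.1) with hNs
  set W := Submodule.span (ZMod 2) (T '' {p : ι × ι | p.1 ≠ p.2}) with hW
  set D := Submodule.span (ZMod 2) (T '' {p : ι × ι | p.1 = p.2}) with hD
  have hTW : ∀ i j, i ≠ j → b i ⊗ₜ[ZMod 2] b j ∈ W := fun i j hij => by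
    rw [← hTap]; exact Submodule.subset_span ⟨(i, j), hij, rfl⟩
  have hTD : ∀ i, b i ⊗ₜ[ZMod 2] b i ∈ D := fun i => by
    rw [← hTap]; exact Submodule.subset_span ⟨(i, i), rfl, rfl⟩
  have hvNa : ∀ v : V, v ⊗ₜ[ZMod 2] v ∈ Na := fun v => Submodule.subset_span ⟨v, rfl⟩
  -- (1) stability
  have hstab : ∀ g : G, ∀ w ∈ W, ρ.tprod ρ g w ∈ W := by
    intro g w hw
    induction hw using Submodule.span_induction with
    | mem x hx =>
      obtain ⟨⟨i, j⟩, hij, rfl⟩ := hx
      obtain ⟨i', hi'⟩ := hb g i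
      obtain ⟨j', hj'⟩ := hb g j
      rw [hTap, Representation.tprod_apply, TensorProduct.map_tmul, hi', hj']
      apply hTW
      intro h
      apply hij
      have hinj : Function.Injective (ρ g) := by
        intro x y hxy
        have := congrArg (ρ g⁻¹) hxy
        simpa [← Module.End.mul_apply, ← map_mul] using this
      have : b i = b j := hinj (by rw [hi', hj', h])
      exact b.injective this
    | zero => simp
    | add x y _ _ hx hy => rw [map_add]; exact Submodule.add_mem _ hx hy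
    | smul c x _ hx => rw [map_smul]; exact Submodule.smul_mem _ _ hx
  -- (2) symmetrisation lands in W
  have hS : ∀ t : V ⊗[ZMod 2] V, t + (TensorProduct.comm (ZMod 2) V V) t ∈ W := by
    intro t
    have ht : t ∈ Submodule.span (ZMod 2) (Set.range T) := by rw [T.span_eq]; trivial
    induction ht using Submodule.span_induction with
    | mem x hx =>
      obtain ⟨⟨i, j⟩, rfl⟩ := hx
      rw [hTap, TensorProduct.comm_tmul]
      by_cases hij : i = j
      · subst hij
        rw [add_self_zmod2]; exact Submodule.zero_mem _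
      · exact Submodule.add_mem _ (hTW i j hij) (hTW j i (Ne.symm hij))
    | zero => simp
    | add x y _ _ hx hy =>
      rw [map_add]
      have : x + y + ((TensorProduct.comm (ZMod 2) V V) x + (TensorProduct.comm (ZMod 2) V V) y)
          = (x + (TensorProduct.comm (ZMod 2) V V) x) + (y + (TensorProduct.comm (ZMod 2) V V) y) := by
        abel
      rw [this]; exact Submodule.add_mem _ hx hy
    | smul c x _ hx =>
      rw [map_smul, ← smul_add]; exact Submodule.smul_mem _ _ hx
  have hNsW : Ns ≤ W := by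
    rw [hNs, Submodule.span_le]
    rintro _ ⟨p, rfl⟩
    have := hS (p.1 ⊗ₜ[ZMod 2] p.2)
    rw [TensorProduct.comm_tmul] at this
    exact this
  have hNsNa : Ns ≤ Na := by
    rw [hNs, Submodule.span_le]
    rintro _ ⟨p, rfl⟩
    have e : p.1 ⊗ₜ[ZMod 2] p.2 + p.2 ⊗ₜ[ZMod 2] p.1
        = (p.1 + p.2) ⊗ₜ[ZMod 2] (p.1 + p.2) - p.1 ⊗ₜ[ZMod 2] p.1 - p.2 ⊗ₜ[ZMod 2] p.2 := by
      rw [TensorProduct.add_tmul, TensorProduct.tmul_add, TensorProduct.tmul_add]; abel
    show p.1 ⊗ₜ[ZMod 2] p.2 + p.2 ⊗ₜ[ZMod 2] p.1 ∈ Na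
    rw [e]
    exact Submodule.sub_mem _ (Submodule.sub_mem _ (hvNa _) (hvNa _)) (hvNa _)
  -- (3) Na ≤ Ns ⊔ D
  have hNaSD : Na ≤ Ns ⊔ D := by
    rw [hNa, Submodule.span_le]
    rintro _ ⟨v, rfl⟩
    have hv : v ∈ Submodule.span (ZMod 2) (Set.range b) := by rw [b.span_eq]; trivial
    show v ⊗ₜ[ZMod 2] v ∈ Ns ⊔ D
    induction hv using Submodule.span_induction with
    | mem x hx =>
      obtain ⟨i, rfl⟩ := hx
      exact Submodule.mem_sup_right (hTD i)
    | zero => simp
    | add x y _ _ hx hy =>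
      have e : (x + y) ⊗ₜ[ZMod 2] (x + y)
          = x ⊗ₜ[ZMod 2] x + y ⊗ₜ[ZMod 2] y + (x ⊗ₜ[ZMod 2] y + y ⊗ₜ[ZMod 2] x) := by
        rw [TensorProduct.add_tmul, TensorProduct.tmul_add, TensorProduct.tmul_add]; abel
      rw [e]
      refine Submodule.add_mem _ (Submodule.add_mem _ hx hy) (Submodule.mem_sup_left ?_)
      exact Submodule.subset_span ⟨(x, y), rfl⟩
    | smul c x _ hx =>
      rw [TensorProduct.smul_tmul_smul]
      exact Submodule.smul_mem _ _ hx
  -- (4) disjointness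
  have hdisj : Disjoint W D := by
    apply T.linearIndependent.disjoint_span_image
    rw [Set.disjoint_left]
    intro p hp hp'
    exact hp hp'
  refine ⟨W, hstab, ?_, ?_⟩
  · apply le_antisymm
    · rintro t ⟨htW, htNa⟩
      have h1 := hNaSD htNa
      rw [Submodule.mem_sup] at h1
      obtain ⟨s, hs, d, hd, rfl⟩ := h1
      have hdW : d ∈ W := by
        have : d = (s + d) - s := by abel
        rw [this]; exact Submodule.sub_mem _ htW (hNsW hs)
      have hd0 : d = 0 := Submodule.disjoint_def.mp hdisj d hdW hd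
      rw [hd0, add_zero]; exact hs
    · exact le_inf hNsW hNsNa
  · rw [eq_top_iff, ← T.span_eq, Submodule.span_le]
    rintro _ ⟨⟨i, j⟩, rfl⟩
    by_cases hij : i = j
    · subst hij
      rw [hTap]
      exact Submodule.mem_sup_right (hvNa _)
    · rw [hTap]
      exact Submodule.mem_sup_left (hTW i j hij)

end Groth.Agent.S18548
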