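import Mathlib
import Groth.Statements.S18549
import Groth.Agent.S18548
-- import your own Groth.Agent.* helpers here

set_option autoImplicit false
open scoped TensorProduct
universe u v
open GalCoh

namespace Groth.Agent.S18549

open Groth.Agent.S18548 (add_self_zmod2)

/-- An involution of a finite-dimensional `𝔽₂`-vector space permutes some basis. -/
theorem exists_basis_perm (V : Type v) [AddCommGroup V] [Module (ZMod 2) V] [Module.Finite (ZMod 2) V]
    (s : V →ₗ[ZMod 2] V) (hs : ∀ x, s (s x) = x) :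
    ∃ (ι : Type v) (b : Module.Basis ι (ZMod 2) V), ∀ i, ∃ j, s (b i) = b j := by
  classical
  -- N = s + 1
  let N : V →ₗ[ZMod 2] V := s + LinearMap.id
  have hN : ∀ x, N x = s x + x := fun x => rfl
  have hNN : ∀ x, N (N x) = 0 := by
    intro x
    rw [hN, hN, map_add, hs]
    have : x + s x + (s x + x) = (x + x) + (s x + s x) := by abel
    rw [this, add_self_zmod2, add_self_zmod2, add_zero]
  have hneg : ∀ x : V, -x = x := by
    intro x
    rw [neg_eq_iff_add_eq_zero, add_self_zmod2]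
  set K := LinearMap.ker N with hK
  set I := LinearMap.range N with hI
  have hIK : I ≤ K := by
    rintro _ ⟨x, rfl⟩
    rw [hK, LinearMap.mem_ker]; exact hNN x
  obtain ⟨U, hU⟩ := Submodule.exists_isCompl K
  obtain ⟨C, hC⟩ := Submodule.exists_isCompl I
  set K' := C ⊓ K with hK'
  have hIK'disj : I ⊓ K' = ⊥ := by
    rw [hK', ← inf_assoc, hC.inf_eq_bot, bot_inf_eq]
  have hIK'sup : I ⊔ K' = K := by
    rw [hK', ← sup_inf_assoc_of_le C hIK, hC.sup_eq_top, top_inf_eq]
  have hsK : ∀ k ∈ K, s k = k := by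
    intro k hk
    rw [hK, LinearMap.mem_ker, hN] at hk
    calc s k = (s k + k) + k := by rw [add_assoc, add_self_zmod2, add_zero]
      _ = k := by rw [hk, zero_add]
  let bU := Module.Basis.ofVectorSpace (ZMod 2) U
  let bK := Module.Basis.ofVectorSpace (ZMod 2) K'
  let φ : (U × U) × K' →ₗ[ZMod 2] V :=
    (U.subtype.coprod (s.comp U.subtype)).coprod K'.subtype
  have hφ : ∀ (a b : U) (k : K'), φ ((a, b), k) = (a : V) + s (b : V) + (k : V) := by
    intro a b k
    simp [φ]
  have hUK : ∀ x : V, x ∈ U → x ∈ K → x = 0 := by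
    intro x hxU hxK
    exact Submodule.disjoint_def.mp hU.disjoint x hxK hxU
  have hinj : Function.Injective φ := by
    rw [← LinearMap.ker_eq_bot, LinearMap.ker_eq_bot']
    rintro ⟨⟨a, b⟩, k⟩ h
    rw [hφ] at h
    -- apply N
    have h1 := congrArg N h
    have hNk : N (k : V) = 0 := by
      have : (k : V) ∈ K := k.2.2
      rw [hK, LinearMap.mem_ker] at this; exact this
    have hNs : ∀ x, N (s x) = N x := by
      intro x
      rw [hN, hN, hs, add_comm]
    rw [map_add, map_add, hNk, hNs, map_zero, add_zero, ← map_add] at h1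
    have hab : (a : V) + (b : V) = 0 :=
      hUK _ (U.add_mem a.2 b.2) (by rw [hK, LinearMap.mem_ker]; exact h1)
    have hab' : (a : V) = (b : V) := by
      rw [← hneg (b : V)]; exact eq_neg_of_add_eq_zero_left hab
    -- now N b + k = 0
    have h2 : N (b : V) + (k : V) = 0 := by
      rw [hN, ← h, hab']; abel
    have hNb : N (b : V) ∈ I ⊓ K' := by
      refine ⟨⟨_, rfl⟩, ?_⟩
      have : N (b : V) = -(k : V) := eq_neg_of_add_eq_zero_left h2
      rw [this]; exact K'.neg_mem k.2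
    rw [hIK'disj, Submodule.mem_bot] at hNb
    have hb0 : (b : V) = 0 := hUK _ b.2 (by rw [hK, LinearMap.mem_ker]; exact hNb)
    have hk0 : (k : V) = 0 := by rw [hNb, zero_add] at h2; exact h2
    have ha0 : (a : V) = 0 := by rw [hab', hb0]
    ext <;> simp [ha0, hb0, hk0]
  have hsurj : Function.Surjective φ := by
    intro x
    have hx : x ∈ K ⊔ U := by rw [hU.sup_eq_top]; trivial
    rw [Submodule.mem_sup] at hx
    obtain ⟨κ, hκ, u, hu, rfl⟩ := hx
    have hκ' : κ ∈ I ⊔ K' := by rw [hIK'sup]; exact hκ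
    rw [Submodule.mem_sup] at hκ'
    obtain ⟨i, ⟨y, rfl⟩, k, hk, rfl⟩ := hκ'
    -- y = κ' + u' with κ' ∈ K, u' ∈ U; N y = N u'
    have hy : y ∈ K ⊔ U := by rw [hU.sup_eq_top]; trivial
    rw [Submodule.mem_sup] at hy
    obtain ⟨κ', hκ', u', hu', rfl⟩ := hy
    have hNκ' : N κ' = 0 := by rw [hK, LinearMap.mem_ker] at hκ'; exact hκ'
    refine ⟨((⟨u + u', U.add_mem hu hu'⟩, ⟨u', hu'⟩), ⟨k, hk⟩), ?_⟩
    rw [hφ]
    have hNy : N (κ' + u') = s u' + u' := by rw [map_add, hNκ', zero_add, hN]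
    rw [hNy]
    show u + u' + s u' + k = s u' + u' + k + u
    abel
  let e : ((U × U) × K') ≃ₗ[ZMod 2] V := LinearEquiv.ofBijective φ ⟨hinj, hsurj⟩
  let B := ((bU.prod bU).prod bK).map e
  refine ⟨_, B, ?_⟩
  have he : ∀ z, e z = φ z := fun z => rfl
  rintro ((i | i) | j)
  · refine ⟨Sum.inl (Sum.inr i), ?_⟩
    simp only [B, Module.Basis.map_apply, he]
    have h1 : ((bU.prod bU).prod bK) (Sum.inl (Sum.inl i)) = ((bU i, 0), 0) := by
      ext <;> simp
    have h2 : ((bU.prod bU).prod bK) (Sum.inl (Sum.inr i)) = ((0, bU i), 0) := by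
      ext <;> simp
    rw [h1, h2, hφ, hφ]
    simp
  · refine ⟨Sum.inl (Sum.inl i), ?_⟩
    simp only [B, Module.Basis.map_apply, he]
    have h1 : ((bU.prod bU).prod bK) (Sum.inl (Sum.inl i)) = ((bU i, 0), 0) := by
      ext <;> simp
    have h2 : ((bU.prod bU).prod bK) (Sum.inl (Sum.inr i)) = ((0, bU i), 0) := by
      ext <;> simp
    rw [h1, h2, hφ, hφ]
    simp [hs]
  · refine ⟨Sum.inr j, ?_⟩
    simp only [B, Module.Basis.map_apply, he]
    have h3 : ((bU.prod bU).prod bK) (Sum.inr j) = ((0, 0), bK j) := by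
      ext <;> simp
    rw [h3, hφ]
    simp only [Submodule.coe_zero, map_zero, add_zero, zero_add]
    exact hsK _ (bK j).2.2

theorem result (G : Type u) [Group G] (hG : Nat.card G = 2)
    (V : Type v) [AddCommGroup V] [Module (ZMod 2) V] [Module.Finite (ZMod 2) V]
    (ρ : Representation (ZMod 2) G V) :
    ∃ W : Submodule (ZMod 2) (V ⊗[ZMod 2] V),
      (∀ g : G, ∀ w ∈ W, ρ.tprod ρ g w ∈ W) ∧
      W ⊓ Submodule.span (ZMod 2) (Set.range fun v : V => v ⊗ₜ[ZMod 2] v) =
        Submodule.span (ZMod 2) (Set.range fun p : V × V => p.1 ⊗ₜ[ZMod 2] p.2 + p.2 ⊗ₜ[ZMod 2] p.1) ∧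
      W ⊔ Submodule.span (ZMod 2) (Set.range fun v : V => v ⊗ₜ[ZMod 2] v) = ⊤ := by
  obtain ⟨σ, hσ1, hσu⟩ := (Nat.card_eq_two_iff' (1 : G)).mp hG
  have hall : ∀ g : G, g = 1 ∨ g = σ := by
    intro g
    by_cases h : g = 1
    · exact Or.inl h
    · exact Or.inr (hσu g h)
  have hσσ : σ * σ = 1 := by
    rcases hall (σ * σ) with h | h
    · exact h
    · exfalso; apply hσ1
      have := congrArg (fun x => σ⁻¹ * x) h
      simpa using this
  have hs : ∀ x, ρ σ (ρ σ x) = x := by
    intro x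
    rw [← Module.End.mul_apply, ← map_mul, hσσ, map_one, Module.End.one_apply]
  obtain ⟨ι, b, hb⟩ := exists_basis_perm V (ρ σ) hs
  apply Groth.Agent.S18548.result G V ρ ι b
  intro g i
  rcases hall g with rfl | rfl
  · exact ⟨i, by simp⟩
  · exact hb i

end Groth.Agent.S18549
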