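import Mathlib
import Groth.Statements.S18550
-- import your own Groth.Agent.* helpers here

set_option autoImplicit false
open CategoryTheory Limits
universe w v u
open CohDer

namespace Groth.Agent.S18550

open DerivedCategory Pretriangulated

variable {A : Type u} [Category.{v} A] [Abelian A] [HasDerivedCategory.{w} A]

lemma eq_zero_of_homology_zero (X : DerivedCategory A) (n : ℤ) [X.IsGE n] [X.IsLE n] (g : X ⟶ X)
    (hg : (homologyFunctor A n).map g = 0) : g = 0 := by
  obtain ⟨Y, ⟨e⟩⟩ := exists_iso_singleFunctor_obj_of_isGE_of_isLE X n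
  obtain ⟨φ, hφ⟩ := (singleFunctor A n).map_surjective (e.inv ≫ g ≫ e.hom)
  have h1 : (homologyFunctor A n).map ((singleFunctor A n).map φ) = 0 := by
    rw [hφ, Functor.map_comp, Functor.map_comp, hg]; simp
  have h2 : φ = 0 := by
    have := NatIso.naturality_1 (singleFunctorCompHomologyFunctorIso A n) φ
    dsimp at this
    rw [← this, h1]; simp
  have h3 : e.inv ≫ g ≫ e.hom = 0 := by rw [← hφ, h2, Functor.map_zero]
  calc g = e.hom ≫ (e.inv ≫ g ≫ e.hom) ≫ e.inv := by simp
    _ = 0 := by rw [h3]; simp

/-- iterated composition -/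
def pw {C : Type*} [Category C] {X : C} (f : X ⟶ X) : ℕ → (X ⟶ X)
  | 0 => 𝟙 X
  | k + 1 => f ≫ pw f k

lemma pw_eq {C : Type*} [Category C] {X : C} (f : CategoryTheory.End X) (k : ℕ) :
    f ^ k = pw (C := C) (X := X) f k := by
  induction k with
  | zero => rfl
  | succ k ih =>
    rw [pow_succ, ih]
    rfl

lemma pw_succ' {C : Type*} [Category C] {X : C} (f : X ⟶ X) (k : ℕ) :
    pw f (k + 1) = pw f k ≫ f := by
  induction k with
  | zero => simp [pw]
  | succ k ih =>
    change f ≫ pw f (k + 1) = (f ≫ pw f k) ≫ f
    rw [ih, Category.assoc]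

lemma main (n : ℕ) : ∀ (a : ℤ) (X : DerivedCategory A) [X.IsGE a] [X.IsLE (a + n)] (f : X ⟶ X),
    (∀ i, (homologyFunctor A i).map f = 0) → pw f (n + 1) = 0 := by
  induction n with
  | zero =>
    intro a X _ hLE f hf
    have : X.IsLE a := by simpa using hLE
    change f ≫ 𝟙 X = 0
    rw [Category.comp_id]
    exact eq_zero_of_homology_zero X a f (hf a)
  | succ n ih =>
    intro a X hGE hLE f hf
    let t : Triangulated.TStructure (DerivedCategory A) := TStructure.t
    let T := (t.triangleLEGE a (a + 1) rfl).obj X
    have hT : T ∈ distTriang _ := t.triangleLEGE_distinguished a (a + 1) rfl X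
    let X' := (t.truncLE a).obj X
    let X'' := (t.truncGE (a + 1)).obj X
    let ι : X' ⟶ X := (t.truncLEι a).app X
    let π : X ⟶ X'' := (t.truncGEπ (a + 1)).app X
    let f' : X' ⟶ X' := (t.truncLE a).map f
    let f'' : X'' ⟶ X'' := (t.truncGE (a + 1)).map f
    have nat1 : f' ≫ ι = ι ≫ f := (t.truncLEι a).naturality f
    have nat2 : f ≫ π = π ≫ f'' := (t.truncGEπ (a + 1)).naturality f
    have hX'GE : X'.IsGE a := by
      have : t.IsGE X a := hGE
      change t.IsGE ((t.truncLE a).obj X) a
      infer_instance
    have hX'LE : X'.IsLE a := by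
      change t.IsLE ((t.truncLE a).obj X) a
      infer_instance
    have hX''GE : X''.IsGE (a + 1) := by
      change t.IsGE ((t.truncGE (a + 1)).obj X) (a + 1)
      infer_instance
    have hX''LE : X''.IsLE (a + 1 + n) := by
      have : t.IsLE X (a + 1 + n) := by
        have : a + 1 + (n : ℤ) = a + ((n + 1 : ℕ) : ℤ) := by push_cast; ring
        rw [this]; exact hLE
      change t.IsLE ((t.truncGE (a + 1)).obj X) (a + 1 + n)
      infer_instance
    -- f' = 0
    have hf' : f' = 0 := by
      apply eq_zero_of_homology_zero X' a f'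
      have hmono : Mono ((homologyFunctor A a).map ι) := by
        have := (HomologySequence.mono_homologyMap_mor₁_iff T hT (a - 1) a (by ring)).mpr (by
          apply IsZero.eq_of_src
          exact X''.isZero_of_isGE (a + 1) (a - 1) (by lia))
        exact this
      have h0 : (homologyFunctor A a).map f' ≫ (homologyFunctor A a).map ι = 0 := by
        rw [← Functor.map_comp, nat1, Functor.map_comp, hf a, comp_zero]
      exact (cancel_mono ((homologyFunctor A a).map ι)).mp (by rw [h0, zero_comp])
    -- f'' has zero homology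
    have hf'' : ∀ i, (homologyFunctor A i).map f'' = 0 := by
      intro i
      by_cases hi : i < a + 1
      · apply IsZero.eq_of_src
        exact X''.isZero_of_isGE (a + 1) i hi
      · have hepi : Epi ((homologyFunctor A i).map π) := by
          have := (HomologySequence.epi_homologyMap_mor₂_iff T hT i (i + 1) rfl).mpr (by
            apply IsZero.eq_of_tgt
            exact X'.isZero_of_isLE a (i + 1) (by lia))
          exact this
        have h0 : (homologyFunctor A i).map π ≫ (homologyFunctor A i).map f'' = 0 := by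
          rw [← Functor.map_comp, ← nat2, Functor.map_comp, hf i, zero_comp]
        exact (cancel_epi ((homologyFunctor A i).map π)).mp (by rw [h0, comp_zero])
    have ih' : pw f'' (n + 1) = 0 := ih (a + 1) X'' f'' hf''
    have hpow : ∀ k : ℕ, pw f k ≫ π = π ≫ pw f'' k := by
      intro k
      induction k with
      | zero =>
        change 𝟙 X ≫ π = π ≫ 𝟙 X''
        simp
      | succ k ihk =>
        change (f ≫ pw f k) ≫ π = π ≫ (f'' ≫ pw f'' k)
        rw [Category.assoc, ihk, ← Category.assoc, nat2, Category.assoc]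
    have h0 : pw f (n + 1) ≫ T.mor₂ = 0 := by
      change pw f (n + 1) ≫ π = 0
      rw [hpow, ih', comp_zero]
    obtain ⟨g, hg⟩ := Triangle.coyoneda_exact₂ T hT _ h0
    let g' : X ⟶ X' := g
    have hg' : pw f (n + 1) = g' ≫ ι := hg
    rw [pw_succ', hg', Category.assoc, ← nat1, hf', zero_comp, comp_zero]

theorem result (A : Type u) [Category.{v} A] [Abelian A]
    [HasDerivedCategory.{w} A] (X : DerivedCategory A) (a : ℤ) (n : ℕ)
    (hX : ∀ i : ℤ, i < a ∨ a + n < i → IsZero ((DerivedCategory.homologyFunctor A i).obj X))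
    (f : CategoryTheory.End X) (hf : ∀ i : ℤ, (DerivedCategory.homologyFunctor A i).map f = 0) :
    f ^ (n + 1) = 0 := by
  have h1 : X.IsGE a := by
    rw [isGE_iff]
    exact fun i hi => hX i (Or.inl hi)
  have h2 : X.IsLE (a + n) := by
    rw [isLE_iff]
    exact fun i hi => hX i (Or.inr hi)
  rw [pw_eq]
  exact main n a X f hf

end Groth.Agent.S18550
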