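import Mathlib
import Groth.Statements.S18560

set_option autoImplicit false
universe u v
open PtQuiv

namespace Groth.Agent.S18560

theorem result (K : Type u) [Field K] (ι : Type v) [Fintype ι]
    (s : ι → (Fin 2 → K)) (hs : ∀ i, s i ≠ 0) (θ : ι → ℚ) (h0 : ∀ i, 0 ≤ θ i)
    (h1 : ∀ i, θ i ≤ 1) (h2 : ∑ i, θ i = 2) :
    PtQuiv.QSemistable (-1) θ s ↔
      ∀ (J : Finset ι) (v : Fin 2 → K), (∀ i ∈ J, s i ∈ K ∙ v) → ∑ i ∈ J, θ i ≤ 1 := by
  classical
  constructor
  · rintro ⟨_, h⟩ J v hJ
    have := h (K ∙ v) J hJ
    unfold QWt at this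
    have hle : (Module.finrank K (K ∙ v) : ℚ) ≤ 1 := by
      have : Module.finrank K (K ∙ v) ≤ 1 := by
        by_cases hv : v = 0
        · subst hv
          rw [Submodule.span_zero_singleton, finrank_bot]
          exact Nat.zero_le _
        · rw [finrank_span_singleton hv]
      exact_mod_cast this
    linarith
  · intro h
    refine ⟨by rw [h2]; norm_num, ?_⟩
    intro L I hLI
    unfold QWt
    have hfin : Module.finrank K L ≤ 2 := by
      have := Submodule.finrank_le L
      simpa using this
    have hsub : ∑ i ∈ I, θ i ≤ ∑ i, θ i :=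
      Finset.sum_le_sum_of_subset_of_nonneg (Finset.subset_univ I) (fun i _ _ => h0 i)
    interval_cases hL : Module.finrank K L
    · -- L = ⊥
      have hbot : L = ⊥ := Submodule.finrank_eq_zero.mp hL
      have hI : I = ∅ := by
        rw [Finset.eq_empty_iff_forall_notMem]
        intro i hi
        have := hLI i hi
        rw [hbot, Submodule.mem_bot] at this
        exact hs i this
      rw [hI]
      simp
    · obtain ⟨v, hv, hspan⟩ := finrank_eq_one_iff'.mp hL
      have hJ : ∀ i ∈ I, s i ∈ K ∙ (v : Fin 2 → K) := by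
        intro i hi
        obtain ⟨c, hc⟩ := hspan ⟨s i, hLI i hi⟩
        rw [Submodule.mem_span_singleton]
        exact ⟨c, congrArg Subtype.val hc⟩
      have := h I v hJ
      push_cast
      linarith
    · push_cast
      linarith

end Groth.Agent.S18560
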