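import Mathlib
import Groth.Statements.S18561

set_option autoImplicit false
universe u v
open PtQuiv

namespace Groth.Agent.S18561

variable {K : Type u} [Field K]

lemma mem_span_symm {x y : Fin 2 → K} (hx : x ≠ 0) (h : x ∈ K ∙ y) : y ∈ K ∙ x := by
  rw [Submodule.mem_span_singleton] at h ⊢
  obtain ⟨c, hc⟩ := h
  have hc0 : c ≠ 0 := by
    rintro rfl
    rw [zero_smul] at hc
    exact hx hc.symm
  exact ⟨c⁻¹, by rw [← hc, smul_smul, inv_mul_cancel₀ hc0, one_smul]⟩

lemma mem_span_trans {x y z : Fin 2 → K} (h1 : x ∈ K ∙ y) (h2 : y ∈ K ∙ z) : x ∈ K ∙ z := by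
  rw [Submodule.mem_span_singleton] at h1 h2 ⊢
  obtain ⟨c, rfl⟩ := h1
  obtain ⟨d, rfl⟩ := h2
  exact ⟨c * d, by rw [smul_smul]⟩

lemma finrank_span_singleton_le_one (v : Fin 2 → K) : Module.finrank K (K ∙ v) ≤ 1 := by
  by_cases hv : v = 0
  · subst hv
    rw [Submodule.span_zero_singleton, finrank_bot]
    exact Nat.zero_le _
  · rw [finrank_span_singleton hv]

theorem result (K : Type u) [Field K] (ι : Type v)
    [Fintype ι] (s : ι → (Fin 2 → K)) (hs : ∀ i, s i ≠ 0) :
    (∃ θ : ι → ℚ, (∀ i, 0 ≤ θ i) ∧ (∀ i, θ i ≤ 1) ∧ ∑ i, θ i = 2 ∧ PtQuiv.QStable (-1) θ s) ↔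
      ∃ i j k : ι, s i ∉ K ∙ s j ∧ s j ∉ K ∙ s k ∧ s i ∉ K ∙ s k := by
  classical
  constructor
  · rintro ⟨θ, h0, h1, h2, ⟨⟨_, hss⟩, hst⟩⟩
    by_contra hcon
    push Not at hcon
    -- ι nonempty
    have hne : Nonempty ι := by
      by_contra hemp
      rw [not_nonempty_iff] at hemp
      simp at h2
    obtain ⟨i₀⟩ := hne
    set A : Finset ι := Finset.univ.filter (fun i => s i ∈ K ∙ s i₀) with hA
    have hAsub : QSubrep s (K ∙ s i₀) A := by
      intro i hi
      exact (Finset.mem_filter.mp hi).2
    have hfr : (Module.finrank K (K ∙ s i₀) : ℚ) = 1 := by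
      rw [finrank_span_singleton (hs i₀)]; norm_num
    have hwA := hss _ _ hAsub
    unfold QWt at hwA
    rw [hfr] at hwA
    by_cases hAu : A = Finset.univ
    · rw [hAu, h2] at hwA
      norm_num at hwA
    · obtain ⟨j₀, hj₀⟩ : ∃ j₀, j₀ ∉ A := by
        by_contra h
        push Not at h
        exact hAu (Finset.eq_univ_iff_forall.mpr h)
      have hj₀' : s j₀ ∉ K ∙ s i₀ := by
        intro h
        exact hj₀ (Finset.mem_filter.mpr ⟨Finset.mem_univ _, h⟩)
      have hi₀j₀ : s i₀ ∉ K ∙ s j₀ := fun h => hj₀' (mem_span_symm (hs i₀) h)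
      set B : Finset ι := Finset.univ.filter (fun i => s i ∈ K ∙ s j₀) with hB
      have hBsub : QSubrep s (K ∙ s j₀) B := by
        intro i hi
        exact (Finset.mem_filter.mp hi).2
      have hfrB : (Module.finrank K (K ∙ s j₀) : ℚ) = 1 := by
        rw [finrank_span_singleton (hs j₀)]; norm_num
      have hwB := hss _ _ hBsub
      unfold QWt at hwB
      rw [hfrB] at hwB
      have hunion : A ∪ B = Finset.univ := by
        rw [Finset.eq_univ_iff_forall]
        intro l
        by_contra hl
        rw [Finset.mem_union, not_or] at hl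
        have hlA : s l ∉ K ∙ s i₀ := fun h => hl.1 (Finset.mem_filter.mpr ⟨Finset.mem_univ _, h⟩)
        have hlB : s l ∉ K ∙ s j₀ := fun h => hl.2 (Finset.mem_filter.mpr ⟨Finset.mem_univ _, h⟩)
        exact hlB (hcon l i₀ j₀ hlA hi₀j₀)
      have hdisj : Disjoint A B := by
        rw [Finset.disjoint_left]
        intro l hlA hlB
        have h1 := (Finset.mem_filter.mp hlA).2
        have h2 := (Finset.mem_filter.mp hlB).2
        exact hi₀j₀ (mem_span_trans (mem_span_symm (hs l) h1) h2)
      have hsum : ∑ i ∈ A, θ i + ∑ i ∈ B, θ i = 2 := by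
        rw [← Finset.sum_union hdisj, hunion, h2]
      have hA1 : ∑ i ∈ A, θ i = 1 := by linarith
      have hw0 : QWt K (-1) θ (K ∙ s i₀) A = 0 := by
        unfold QWt
        rw [hfr, hA1]; norm_num
      rcases hst _ _ hAsub hw0 with ⟨hbot, _⟩ | ⟨htop, _⟩
      · have : s i₀ ∈ K ∙ s i₀ := Submodule.mem_span_singleton_self _
        rw [hbot, Submodule.mem_bot] at this
        exact hs i₀ this
      · have h2' : Module.finrank K (K ∙ s i₀) = 2 := by
          rw [htop, finrank_top]; simp
        rw [finrank_span_singleton (hs i₀)] at h2'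
        omega
  · rintro ⟨i, j, k, hij, hjk, hik⟩
    have hself : ∀ l, s l ∈ K ∙ s l := fun l => Submodule.mem_span_singleton_self _
    have hi_j : i ≠ j := fun h => hij (h ▸ hself i)
    have hj_k : j ≠ k := fun h => hjk (h ▸ hself j)
    have hi_k : i ≠ k := fun h => hik (h ▸ hself i)
    have hji : s j ∉ K ∙ s i := fun h => hij (mem_span_symm (hs j) h)
    have hkj : s k ∉ K ∙ s j := fun h => hjk (mem_span_symm (hs k) h)
    have hki : s k ∉ K ∙ s i := fun h => hik (mem_span_symm (hs k) h)
    set T : Finset ι := {i, j, k} with hT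
    have hTcard : T.card = 3 := by
      rw [hT, Finset.card_insert_of_notMem, Finset.card_insert_of_notMem, Finset.card_singleton]
      · simpa using hj_k
      · simp [hi_j, hi_k]
    have hnonprop : ∀ p ∈ T, ∀ q ∈ T, p ≠ q → s p ∉ K ∙ s q := by
      intro p hp q hq hpq
      simp only [hT, Finset.mem_insert, Finset.mem_singleton] at hp hq
      rcases hp with rfl | rfl | rfl <;> rcases hq with rfl | rfl | rfl <;>
        first | exact absurd rfl hpq | assumption
    set m : ℕ := (Finset.univ \ T).card with hm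
    set ε : ℚ := 1 / (4 * ((m : ℚ) + 1)) with hε
    have hm0 : (0 : ℚ) ≤ m := by positivity
    have hεpos : 0 < ε := by rw [hε]; positivity
    have hmε : (m : ℚ) * ε < 1 / 4 := by
      rw [hε, mul_one_div, div_lt_iff₀ (by positivity)]
      linarith
    have hmε0 : 0 ≤ (m : ℚ) * ε := by positivity
    set a : ℚ := (2 - (m : ℚ) * ε) / 3 with ha
    have ha_lo : 7 / 12 < a := by rw [ha]; linarith
    have ha_hi : a ≤ 2 / 3 := by rw [ha]; linarith
    have hε_hi : ε ≤ 1 / 4 := by
      rw [hε, div_le_div_iff₀ (by positivity) (by norm_num)]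
      linarith
    let θ : ι → ℚ := fun l => if l ∈ T then a else ε
    have hθpos : ∀ l, 0 < θ l := by
      intro l
      simp only [θ]
      split_ifs <;> linarith
    have hsumT : ∀ I : Finset ι, ∑ l ∈ I, θ l = ((I ∩ T).card : ℚ) * a + ((I \ T).card : ℚ) * ε := by
      intro I
      rw [← Finset.sum_inter_add_sum_sdiff I T θ]
      congr 1
      · rw [Finset.sum_congr rfl (fun l hl => if_pos (Finset.mem_inter.mp hl).2), Finset.sum_const,
          nsmul_eq_mul]
      · rw [Finset.sum_congr rfl (fun l hl => if_neg (Finset.mem_sdiff.mp hl).2), Finset.sum_const,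
          nsmul_eq_mul]
    have hsum : ∑ l, θ l = 2 := by
      rw [hsumT, Finset.univ_inter, hTcard, ← hm, ha]
      push_cast
      ring
    have hsub_le : ∀ I : Finset ι, ∑ l ∈ I, θ l ≤ 2 := by
      intro I
      rw [← hsum]
      exact Finset.sum_le_sum_of_subset_of_nonneg (Finset.subset_univ I) (fun l _ _ => (hθpos l).le)
    have hline : ∀ (v : Fin 2 → K) (I : Finset ι), (∀ l ∈ I, s l ∈ K ∙ v) → ∑ l ∈ I, θ l < 1 := by
      intro v I hI
      rw [hsumT]
      have h1 : (I ∩ T).card ≤ 1 := by
        rw [Finset.card_le_one]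
        intro p hp q hq
        by_contra hpq
        have hp' := Finset.mem_inter.mp hp
        have hq' := Finset.mem_inter.mp hq
        have hv : v ∈ K ∙ s q := mem_span_symm (hs q) (hI q hq'.1)
        exact hnonprop p hp'.2 q hq'.2 hpq (mem_span_trans (hI p hp'.1) hv)
      have h2 : (I \ T).card ≤ m := by
        rw [hm]
        exact Finset.card_le_card (Finset.sdiff_subset_sdiff (Finset.subset_univ I) (le_refl T))
      have h1' : ((I ∩ T).card : ℚ) ≤ 1 := by exact_mod_cast h1
      have h2' : ((I \ T).card : ℚ) ≤ m := by exact_mod_cast h2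
      have h3 : ((I ∩ T).card : ℚ) * a ≤ 1 * a := mul_le_mul_of_nonneg_right h1' (by linarith)
      have h4 : ((I \ T).card : ℚ) * ε ≤ m * ε := mul_le_mul_of_nonneg_right h2' hεpos.le
      linarith
    refine ⟨θ, fun l => (hθpos l).le, ?_, hsum, ?_⟩
    · intro l
      simp only [θ]
      split_ifs <;> linarith
    · have hcases : ∀ (L : Submodule K (Fin 2 → K)) (I : Finset ι), QSubrep s L I →
          (Module.finrank K L = 0 ∧ L = ⊥ ∧ I = ∅) ∨
          (Module.finrank K L = 1 ∧ ∑ l ∈ I, θ l < 1) ∨
          (Module.finrank K L = 2 ∧ L = ⊤) := by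
        intro L I hLI
        have hfin : Module.finrank K L ≤ 2 := by
          have := Submodule.finrank_le L
          simpa using this
        interval_cases hL : Module.finrank K L
        · left
          have hbot : L = ⊥ := Submodule.finrank_eq_zero.mp hL
          refine ⟨rfl, hbot, ?_⟩
          rw [Finset.eq_empty_iff_forall_notMem]
          intro l hl
          have := hLI l hl
          rw [hbot, Submodule.mem_bot] at this
          exact hs l this
        · right; left
          obtain ⟨v, hv, hspan⟩ := finrank_eq_one_iff'.mp hL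
          refine ⟨rfl, hline (v : Fin 2 → K) I ?_⟩
          intro l hl
          obtain ⟨c, hc⟩ := hspan ⟨s l, hLI l hl⟩
          rw [Submodule.mem_span_singleton]
          exact ⟨c, congrArg Subtype.val hc⟩
        · right; right
          refine ⟨rfl, ?_⟩
          apply Submodule.eq_top_of_finrank_eq
          rw [hL]; simp
      refine ⟨⟨by rw [hsum]; norm_num, ?_⟩, ?_⟩
      · intro L I hLI
        unfold QWt
        rcases hcases L I hLI with ⟨h, _, hI⟩ | ⟨h, hlt⟩ | ⟨h, _⟩
        · rw [h, hI]; simp
        · rw [h]; push_cast; linarith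
        · rw [h]; push_cast; linarith [hsub_le I]
      · intro L I hLI hw
        unfold QWt at hw
        rcases hcases L I hLI with ⟨h, hbot, hI⟩ | ⟨h, hlt⟩ | ⟨h, htop⟩
        · left; exact ⟨hbot, hI⟩
        · exfalso
          rw [h] at hw; push_cast at hw; linarith
        · right
          refine ⟨htop, ?_⟩
          rw [h] at hw
          push_cast at hw
          have hI2 : ∑ l ∈ I, θ l = 2 := by linarith
          rw [Finset.eq_univ_iff_forall]
          intro l
          by_contra hl
          have : ∑ l ∈ insert l I, θ l ≤ 2 := hsub_le _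
          rw [Finset.sum_insert hl, hI2] at this
          linarith [hθpos l]

end Groth.Agent.S18561
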