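import Groth.Statements.S18562
import Mathlib
import Groth.Agent.Lib.helper27.PtQuiv

set_option autoImplicit false
universe u v
open PtQuiv

namespace Groth.Agent.S18562

/-- Let K be a field, κ a finite index type with a ≠ b, and s i ∈ K² a representation of the quiver with
a central vertex carrying the plane and one vertex per i : κ carrying a line mapping to the plane by
1 ↦ s i. Let θ be a weight of the hypersimplex (0 ≤ θ i ≤ 1, Σ θ i = 2, central weight -1) with 1 <
θ a + θ b < 2, and put c = 1 / (2 - θ a - θ b). Then s is θ-semistable if and only if s a, s b are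
linearly independent and, writing every other s i = t i 0 • s a + t i 1 • s b, the representation t
of the quiver with two one-dimensional sinks p₀, p₁ and one one-dimensional source per i ≠ a, b
(arrow to p_j given by t i j) is semistable for the weight c (θ a - 1) at p₀, c (θ b - 1) at p₁ and
c θ i at the sources. (The published statement is about representations over a base scheme, with
(semi)stability tested on geometric fibres, that is over algebraically closed fields; this row
states the fibrewise content over an arbitrary field.) -/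
theorem result (K : Type u) [Field K]
    (κ : Type v) [Fintype κ] [DecidableEq κ] (a b : κ) (hab : a ≠ b) (s : κ → (Fin 2 → K))
    (θ : κ → ℚ) (h0 : ∀ i, 0 ≤ θ i) (h1 : ∀ i, θ i ≤ 1) (h2 : ∑ i, θ i = 2)
    (hθ : 1 < θ a + θ b) (hθ' : θ a + θ b < 2) :
    PtQuiv.QSemistable (-1) θ s ↔
      (LinearIndependent K ![s a, s b] ∧
        ∀ t : {i : κ // i ≠ a ∧ i ≠ b} → (Fin 2 → K),
          (∀ i, s i.1 = t i 0 • s a + t i 1 • s b) →
            PtQuiv.PSemistable ![(2 - θ a - θ b)⁻¹ * (θ a - 1), (2 - θ a - θ b)⁻¹ * (θ b - 1)]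
              (fun i : {i : κ // i ≠ a ∧ i ≠ b} => (2 - θ a - θ b)⁻¹ * θ i.1) t) := by
  have hc : (0 : ℚ) < (2 - θ a - θ b)⁻¹ := inv_pos.2 (by linarith)
  have hsum : (θ a - 1) + (θ b - 1) + ∑ i : {i : κ // i ≠ a ∧ i ≠ b}, θ i.1 = 0 := by
    rw [H27PtQuiv.sum_subtype_compl a b θ hab h2 (p := fun i => i ≠ a ∧ i ≠ b) (fun i => Iff.rfl)]
    ring
  rw [H27PtQuiv.qSemistable_iff s θ h0 h2, H27PtQuiv.core_ss a b s θ hab h0 h1 h2 hθ]
  refine and_congr Iff.rfl (forall_congr' fun t => imp_congr Iff.rfl ?_)
  exact (H27PtQuiv.pSemistable_scaled t _ hc (θ a - 1) (θ b - 1) (fun i => θ i.1) (fun i => h0 i.1) hsum).symm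

end Groth.Agent.S18562
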