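import Mathlib
import Groth.Statements.S18580

set_option autoImplicit false
universe u
open EtBase

namespace Groth.Agent.S18580

open AlgebraicGeometry CategoryTheory

/-- A section of an unramified morphism is an open immersion. -/
lemma isOpenImmersion_section {X Y : Scheme.{u}} (f : X ⟶ Y)
    [FormallyUnramified f] [LocallyOfFiniteType f] (s : Y ⟶ X) (hs : s ≫ f = 𝟙 Y) :
    IsOpenImmersion s := by
  have hpc : MorphismProperty.HasOfPostcompProperty @IsOpenImmersion
      (@FormallyUnramified ⊓ @LocallyOfFiniteType : MorphismProperty Scheme.{u}) :=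
    MorphismProperty.hasOfPostcompProperty_iff_le_diagonal.mpr
      (fun _ _ g hg => by
        have := hg.1
        have := hg.2
        exact inferInstanceAs (IsOpenImmersion (Limits.pullback.diagonal g)))
  have h1 : IsOpenImmersion (s ≫ f) := by rw [hs]; infer_instance
  exact MorphismProperty.of_postcomp (W := @IsOpenImmersion)
    (W' := (@FormallyUnramified ⊓ @LocallyOfFiniteType : MorphismProperty Scheme.{u})) s f
    ⟨inferInstance, inferInstance⟩ h1

lemma isIso_ι_comp {X Y : Scheme.{u}} (f : X ⟶ Y) (s : Y ⟶ X) (hs : s ≫ f = 𝟙 Y)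
    [IsOpenImmersion s] : IsIso (s.opensRange.ι ≫ f) := by
  have h : s.isoOpensRange.hom ≫ (s.opensRange.ι ≫ f) = 𝟙 Y := by
    rw [← Category.assoc, Scheme.Hom.isoOpensRange_hom_ι, hs]
  have : s.opensRange.ι ≫ f = s.isoOpensRange.inv := by
    rw [← cancel_epi s.isoOpensRange.hom, h, Iso.hom_inv_id]
  rw [this]
  infer_instance

open AlgebraicGeometry CategoryTheory in
theorem result {X Y : Scheme.{u}} (f : X ⟶ Y)
    [FormallyUnramified f] [LocallyOfFiniteType f] [IsSeparated f] [ConnectedSpace Y] :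
    ∃ e : {s : Y ⟶ X // s ≫ f = 𝟙 Y} ≃
        {U : X.Opens // (∃ x : X, (U : Set X) = connectedComponent x) ∧ IsIso (U.ι ≫ f)},
      ∀ s : {s : Y ⟶ X // s ≫ f = 𝟙 Y}, ((e s).1 : Set X) = Set.range s.1 := by
  have hopen : ∀ s : {s : Y ⟶ X // s ≫ f = 𝟙 Y}, IsOpenImmersion s.1 :=
    fun s => isOpenImmersion_section f s.1 s.2
  have hclosed : ∀ s : {s : Y ⟶ X // s ≫ f = 𝟙 Y}, IsClosedImmersion s.1 := by
    intro s
    have : IsClosedImmersion (s.1 ≫ f) := by rw [s.2]; infer_instance
    exact IsClosedImmersion.of_comp s.1 f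
  have hcomp : ∀ s : {s : Y ⟶ X // s ≫ f = 𝟙 Y},
      ∃ x : X, Set.range s.1 = connectedComponent x := by
    intro s
    have := hopen s
    have := hclosed s
    obtain ⟨y₀⟩ := (inferInstance : Nonempty Y)
    refine ⟨s.1 y₀, ?_⟩
    apply subset_antisymm
    · apply IsPreconnected.subset_connectedComponent
      · exact (isConnected_range s.1.continuous).isPreconnected
      · exact ⟨y₀, rfl⟩
    · apply IsClopen.connectedComponent_subset
      · exact ⟨s.1.isClosedEmbedding.isClosed_range, s.1.isOpenEmbedding.isOpen_range⟩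
      · exact ⟨y₀, rfl⟩
  let toFun : {s : Y ⟶ X // s ≫ f = 𝟙 Y} →
      {U : X.Opens // (∃ x : X, (U : Set X) = connectedComponent x) ∧ IsIso (U.ι ≫ f)} :=
    fun s =>
      haveI := hopen s
      ⟨s.1.opensRange, by
        obtain ⟨x, hx⟩ := hcomp s
        exact ⟨x, hx⟩, isIso_ι_comp f s.1 s.2⟩
  let invFun : {U : X.Opens // (∃ x : X, (U : Set X) = connectedComponent x) ∧ IsIso (U.ι ≫ f)} →
      {s : Y ⟶ X // s ≫ f = 𝟙 Y} :=
    fun U =>
      haveI := U.2.2
      ⟨inv (U.1.ι ≫ f) ≫ U.1.ι, by rw [Category.assoc, IsIso.inv_hom_id]⟩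
  refine ⟨⟨toFun, invFun, ?_, ?_⟩, ?_⟩
  · intro s
    have := hopen s
    apply Subtype.ext
    have := isIso_ι_comp f s.1 s.2
    show inv (s.1.opensRange.ι ≫ f) ≫ s.1.opensRange.ι = s.1
    have h : s.1.isoOpensRange.hom ≫ (s.1.opensRange.ι ≫ f) = 𝟙 Y := by
      rw [← Category.assoc, Scheme.Hom.isoOpensRange_hom_ι, s.2]
    have h2 : inv (s.1.opensRange.ι ≫ f) = s.1.isoOpensRange.hom :=
      IsIso.inv_eq_of_inv_hom_id h
    rw [h2, Scheme.Hom.isoOpensRange_hom_ι]
  · intro U
    have := U.2.2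
    apply Subtype.ext
    show (inv (U.1.ι ≫ f) ≫ U.1.ι).opensRange = U.1
    rw [Scheme.Hom.opensRange_comp_of_isIso, Scheme.Opens.opensRange_ι]
  · intro s
    rfl

end Groth.Agent.S18580
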