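import Mathlib
import Groth.Statements.S18589
-- import your own Groth.Agent.* helpers here

set_option autoImplicit false
open CAlg

namespace Groth.Agent.S18589

open MvPolynomial Finset in
/-- General weighted homogeneity of Witt structure polynomials over `ℚ`. -/
theorem wittStructureRat_isWeightedHomogeneous (p : ℕ) [hp : Fact p.Prime] {idx : Type*}
    (w : idx × ℕ → ℕ) (Φ : MvPolynomial idx ℚ)
    (h : ∀ n, IsWeightedHomogeneous w
      (bind₁ (fun b => rename (fun i => (b, i)) (wittPolynomial p ℚ n)) Φ) (p ^ n)) (n : ℕ) :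
    IsWeightedHomogeneous w (wittStructureRat p Φ n) (p ^ n) := by
  induction n using Nat.strong_induction_on with
  | _ n ih =>
    rw [wittStructureRat_rec]
    have h1 : IsWeightedHomogeneous w
        (bind₁ (fun b => rename (fun i => (b, i)) (wittPolynomial p ℚ n)) Φ -
          ∑ i ∈ range n, C ((p : ℚ) ^ i) * wittStructureRat p Φ i ^ p ^ (n - i)) (p ^ n) := by
      apply IsWeightedHomogeneous.sub (h n)
      apply IsWeightedHomogeneous.sum
      intro i hi
      have hi' : i < n := Finset.mem_range.mp hi
      have := ((ih i hi').pow (p ^ (n - i))).C_mul ((p : ℚ) ^ i)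
      have e : p ^ (n - i) • p ^ i = p ^ n := by
        rw [smul_eq_mul, ← pow_add]
        congr 1
        omega
      rwa [e] at this
    exact h1.C_mul _

open MvPolynomial in
theorem isWeightedHomogeneous_of_map {σ : Type*} {R S : Type*} [CommSemiring R] [CommSemiring S]
    (f : R →+* S) (hf : Function.Injective f) (w : σ → ℕ) (φ : MvPolynomial σ R) (m : ℕ)
    (h : IsWeightedHomogeneous w (map f φ) m) : IsWeightedHomogeneous w φ m := by
  intro d hd
  apply h
  rw [coeff_map]
  intro h0
  apply hd
  apply hf
  rw [h0, map_zero]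

open MvPolynomial in
/-- General weighted homogeneity of Witt structure polynomials over `ℤ`. -/
theorem wittStructureInt_isWeightedHomogeneous (p : ℕ) [hp : Fact p.Prime] {idx : Type*}
    (w : idx × ℕ → ℕ) (Φ : MvPolynomial idx ℤ)
    (h : ∀ n, IsWeightedHomogeneous w
      (bind₁ (fun b => rename (fun i => (b, i)) (wittPolynomial p ℚ n))
        (map (Int.castRingHom ℚ) Φ)) (p ^ n)) (n : ℕ) :
    IsWeightedHomogeneous w (wittStructureInt p Φ n) (p ^ n) := by
  apply isWeightedHomogeneous_of_map (Int.castRingHom ℚ) Int.cast_injective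
  rw [map_wittStructureInt]
  exact wittStructureRat_isWeightedHomogeneous p w _ h n

open MvPolynomial Finset in
theorem rename_wittPolynomial_isWeightedHomogeneous (p : ℕ) [hp : Fact p.Prime] {idx : Type*}
    (w : idx × ℕ → ℕ) (b : idx) (c : ℕ) (hw : ∀ i, w (b, i) = c * p ^ i) (n : ℕ) :
    IsWeightedHomogeneous w (rename (fun i => (b, i)) (wittPolynomial p ℚ n)) (c * p ^ n) := by
  rw [wittPolynomial_eq_sum_C_mul_X_pow]
  simp only [map_sum, map_mul, rename_C, map_pow, rename_X]
  apply IsWeightedHomogeneous.sum
  intro i hi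
  have hi' : i ≤ n := Nat.lt_succ_iff.mp (Finset.mem_range.mp hi)
  have := ((isWeightedHomogeneous_X (R := ℚ) w (b, i)).pow (p ^ (n - i))).C_mul ((p : ℚ) ^ i)
  have e : p ^ (n - i) • w (b, i) = c * p ^ n := by
    rw [hw, smul_eq_mul, mul_left_comm, ← pow_add]
    congr 2
    omega
  rw [e] at this
  simpa using this

/-- For a prime p and every natural number n, the n-th Witt addition polynomial over the integers (the
polynomial S_n with (x + y)_n = S_n(x_0, y_0, …, x_n, y_n) for p-typical Witt vectors x, y) is
weighted homogeneous of weighted degree p ^ n for the grading in which the variables x_i and y_i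
have weight p ^ i. -/
theorem result (p : ℕ) [Fact p.Prime] (n : ℕ) :
    MvPolynomial.IsWeightedHomogeneous (fun i : Fin 2 × ℕ => p ^ i.2) (WittVector.wittAdd p n) (p ^ n) := by
  unfold WittVector.wittAdd
  apply wittStructureInt_isWeightedHomogeneous
  intro m
  simp only [map_add, MvPolynomial.map_X, MvPolynomial.bind₁_X_right]
  apply MvPolynomial.IsWeightedHomogeneous.add
  · have := rename_wittPolynomial_isWeightedHomogeneous p (fun i : Fin 2 × ℕ => p ^ i.2) 0 1
      (fun i => by simp) m
    simpa using this
  · have := rename_wittPolynomial_isWeightedHomogeneous p (fun i : Fin 2 × ℕ => p ^ i.2) 1 1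
      (fun i => by simp) m
    simpa using this

end Groth.Agent.S18589
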