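import Mathlib
import Groth.Statements.S18590
import Groth.Agent.S18589
-- import your own Groth.Agent.* helpers here

set_option autoImplicit false
universe u
open CAlg

namespace Groth.Agent.S18590

section general

variable {A K : Type u} [CommRing A] [CommRing K] [Algebra A K]

/-- A multiplicative family containing `1` in degree zero. -/
structure MulFam (N : ℕ → Submodule A K) : Prop where
  one_mem : (1 : K) ∈ N 0
  mul_mem : ∀ (i j : ℕ) (a b : K), a ∈ N i → b ∈ N j → a * b ∈ N (i + j)

theorem MulFam.pow_mem {N : ℕ → Submodule A K} (hN : MulFam N) {i : ℕ} {a : K} (ha : a ∈ N i) (k : ℕ) :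
    a ^ k ∈ N (k * i) := by
  induction k with
  | zero => simpa using hN.one_mem
  | succ k ih =>
    rw [pow_succ, Nat.succ_mul]
    exact hN.mul_mem _ _ _ _ ih ha

theorem MulFam.prod_mem {N : ℕ → Submodule A K} (hN : MulFam N) {σ : Type*} (w : σ → ℕ) (x : σ → K)
    (hx : ∀ v, x v ∈ N (w v)) (d : σ → ℕ) (s : Finset σ) :
    ∏ i ∈ s, x i ^ d i ∈ N (∑ i ∈ s, d i * w i) := by
  classical
  induction s using Finset.induction_on with
  | empty => simpa using hN.one_mem
  | insert a s ha ih =>
    rw [Finset.prod_insert ha, Finset.sum_insert ha]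
    exact hN.mul_mem _ _ _ _ (hN.pow_mem (hx a) _) ih

open MvPolynomial in
theorem MulFam.aeval_mem {N : ℕ → Submodule A K} (hN : MulFam N) {σ : Type*} (w : σ → ℕ) (x : σ → K)
    (hx : ∀ v, x v ∈ N (w v)) (φ : MvPolynomial σ ℤ) (m : ℕ) (hφ : IsWeightedHomogeneous w φ m) :
    aeval x φ ∈ N m := by
  rw [aeval_def, eval₂_eq]
  apply Submodule.sum_mem
  intro d hd
  have hc : coeff d φ ≠ 0 := by simpa [mem_support_iff] using hd
  have hw := hφ hc
  have hp := hN.prod_mem w x hx d d.support
  have e : ∑ i ∈ d.support, d i * w i = m := by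
    rw [← hw, Finsupp.weight_apply, Finsupp.sum]
    simp
  rw [e] at hp
  have : (algebraMap ℤ K) (coeff d φ) * ∏ i ∈ d.support, x i ^ d i
      = (coeff d φ) • ∏ i ∈ d.support, x i ^ d i := by
    rw [Algebra.smul_def]
  rw [this]
  exact (N m).toAddSubgroup.zsmul_mem hp _

/-- Enlarge `M 0` by the scalars. -/
noncomputable def enl (M : ℕ → Submodule A K) : ℕ → Submodule A K := fun i =>
  if i = 0 then M 0 ⊔ Submodule.span A {(1 : K)} else M i

theorem enl_pos (M : ℕ → Submodule A K) {i : ℕ} (hi : i ≠ 0) : enl M i = M i := by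
  simp [enl, hi]

theorem enl_zero (M : ℕ → Submodule A K) : enl M 0 = M 0 ⊔ Submodule.span A {(1 : K)} := by
  simp [enl]

theorem le_enl (M : ℕ → Submodule A K) (i : ℕ) : M i ≤ enl M i := by
  by_cases hi : i = 0
  · subst hi; rw [enl_zero]; exact le_sup_left
  · rw [enl_pos M hi]

theorem enl_mulFam (M : ℕ → Submodule A K)
    (hmul : ∀ (i j : ℕ) (a b : K), a ∈ M i → b ∈ M j → a * b ∈ M (i + j)) : MulFam (enl M) where
  one_mem := by
    rw [enl_zero]
    exact Submodule.mem_sup_right (Submodule.mem_span_singleton_self _)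
  mul_mem := by
    intro i j a b ha hb
    by_cases hi : i = 0
    · subst hi
      rw [enl_zero, Submodule.mem_sup] at ha
      obtain ⟨a1, ha1, a2, ha2, rfl⟩ := ha
      obtain ⟨r, rfl⟩ := Submodule.mem_span_singleton.mp ha2
      by_cases hj : j = 0
      · subst hj
        rw [enl_zero, Submodule.mem_sup] at hb
        obtain ⟨b1, hb1, b2, hb2, rfl⟩ := hb
        obtain ⟨s, rfl⟩ := Submodule.mem_span_singleton.mp hb2
        rw [zero_add, enl_zero]
        have e : (a1 + r • (1 : K)) * (b1 + s • (1 : K))
            = (a1 * b1 + s • a1 + r • b1) + (r * s) • (1 : K) := by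
          simp only [Algebra.smul_def, mul_one, map_mul]
          ring
        rw [e]
        apply Submodule.add_mem
        · apply Submodule.mem_sup_left
          apply Submodule.add_mem
          · apply Submodule.add_mem
            · simpa using hmul 0 0 a1 b1 ha1 hb1
            · exact Submodule.smul_mem _ _ ha1
          · exact Submodule.smul_mem _ _ hb1
        · exact Submodule.mem_sup_right (Submodule.smul_mem _ _ (Submodule.mem_span_singleton_self _))
      · rw [zero_add, enl_pos M hj] at *
        have e : (a1 + r • (1 : K)) * b = a1 * b + r • b := by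
          simp only [Algebra.smul_def, mul_one]
          ring
        rw [e]
        apply Submodule.add_mem
        · simpa using hmul 0 j a1 b ha1 hb
        · exact Submodule.smul_mem _ _ hb
    · by_cases hj : j = 0
      · subst hj
        rw [enl_zero, Submodule.mem_sup] at hb
        obtain ⟨b1, hb1, b2, hb2, rfl⟩ := hb
        obtain ⟨s, rfl⟩ := Submodule.mem_span_singleton.mp hb2
        rw [add_zero, enl_pos M hi] at *
        have e : a * (b1 + s • (1 : K)) = a * b1 + s • a := by
          simp only [Algebra.smul_def, mul_one]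
          ring
        rw [e]
        apply Submodule.add_mem
        · simpa using hmul i 0 a b1 ha hb1
        · exact Submodule.smul_mem _ _ ha
      · have hij : i + j ≠ 0 := by omega
        rw [enl_pos M hi] at ha
        rw [enl_pos M hj] at hb
        rw [enl_pos M hij]
        exact hmul i j a b ha hb

end general

open MvPolynomial in
theorem wittMul_isWeightedHomogeneous (p : ℕ) [Fact p.Prime] (n : ℕ) :
    IsWeightedHomogeneous (fun i : Fin 2 × ℕ => if i.1 = 0 then 0 else p ^ i.2)
      (WittVector.wittMul p n) (p ^ n) := by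
  unfold WittVector.wittMul
  apply Groth.Agent.S18589.wittStructureInt_isWeightedHomogeneous
  intro m
  simp only [map_mul, MvPolynomial.map_X, MvPolynomial.bind₁_X_right]
  have h0 := Groth.Agent.S18589.rename_wittPolynomial_isWeightedHomogeneous p
      (fun i : Fin 2 × ℕ => if i.1 = 0 then 0 else p ^ i.2) 0 0 (fun i => by simp) m
  have h1 := Groth.Agent.S18589.rename_wittPolynomial_isWeightedHomogeneous p
      (fun i : Fin 2 × ℕ => if i.1 = 0 then 0 else p ^ i.2) 1 1 (fun i => by simp) m
  have := h0.mul h1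
  simpa using this

theorem result
    (p : ℕ) [Fact p.Prime] (A K : Type u) [CommRing A] [CommRing K] [Algebra A K] [CharP K p]
    (M : ℕ → Submodule A K)
    (hmul : ∀ (i j : ℕ) (a b : K), a ∈ M i → b ∈ M j → a * b ∈ M (i + j)) :
    (∀ φ ψ : WittVector p K, (∀ n : ℕ, φ.coeff n ∈ M (p ^ n)) → (∀ n : ℕ, ψ.coeff n ∈ M (p ^ n)) →
        ∀ n : ℕ, (φ + ψ).coeff n ∈ M (p ^ n)) ∧
      (∀ (x : WittVector p A) (φ : WittVector p K), (∀ n : ℕ, φ.coeff n ∈ M (p ^ n)) →
        ∀ n : ℕ, (WittVector.map (algebraMap A K) x * φ).coeff n ∈ M (p ^ n)) := by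
  have hp : ∀ n : ℕ, p ^ n ≠ 0 := fun n => pow_ne_zero _ (Fact.out : p.Prime).ne_zero
  have hN := enl_mulFam M hmul
  constructor
  · intro φ ψ hφ hψ n
    rw [WittVector.add_coeff, WittVector.peval, ← enl_pos M (hp n)]
    apply hN.aeval_mem (fun i : Fin 2 × ℕ => p ^ i.2) _ _ _ _ (Groth.Agent.S18589.result p n)
    rintro ⟨b, i⟩
    fin_cases b
    · exact le_enl M _ (by simpa [Function.uncurry] using hφ i)
    · exact le_enl M _ (by simpa [Function.uncurry] using hψ i)
  · intro x φ hφ n
    rw [WittVector.mul_coeff, WittVector.peval, ← enl_pos M (hp n)]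
    apply hN.aeval_mem (fun i : Fin 2 × ℕ => if i.1 = 0 then 0 else p ^ i.2) _ _ _ _
      (wittMul_isWeightedHomogeneous p n)
    rintro ⟨b, i⟩
    fin_cases b
    · simp only [Function.uncurry, Fin.zero_eta, Matrix.cons_val_zero, WittVector.map_coeff,
        if_true]
      rw [enl_zero]
      apply Submodule.mem_sup_right
      rw [Submodule.mem_span_singleton]
      exact ⟨x.coeff i, by rw [Algebra.smul_def, mul_one]⟩
    · exact le_enl M _ (by simpa [Function.uncurry] using hφ i)

end Groth.Agent.S18590
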