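import Groth.Statements.S18598
import Mathlib

set_option autoImplicit false
universe u
open SSRed

namespace Groth.Agent.S18598aux
open Polynomial


variable {O : Type*} [CommRing O] [IsDomain O] [CharZero O]

/-- divisibility in `O` between naturals, no prime factor of `n` a unit: divisibility in `ℕ` -/
theorem nat_dvd_of_dvd {n N : ℕ} (hn : 0 < n)
    (hO : ∀ p : ℕ, p.Prime → p ∣ n → ¬ IsUnit (p : O)) (h : (n : O) ∣ (N : O)) : n ∣ N := by
  obtain ⟨d, hd⟩ : ∃ d, d = Nat.gcd n N := ⟨_, rfl⟩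
  have hdpos : 0 < d := hd ▸ Nat.gcd_pos_of_pos_left _ hn
  obtain ⟨n', hn'⟩ : d ∣ n := hd ▸ Nat.gcd_dvd_left _ _
  obtain ⟨N', hN'⟩ : d ∣ N := hd ▸ Nat.gcd_dvd_right _ _
  have hcop : Nat.Coprime n' N' := by
    have := Nat.coprime_div_gcd_div_gcd (m := n) (n := N) (hd ▸ hdpos)
    rw [← hd] at this
    rwa [hn', hN', Nat.mul_div_cancel_left _ hdpos, Nat.mul_div_cancel_left _ hdpos] at this
  have h1 : (n' : O) ∣ (N' : O) := by
    rw [hn', hN'] at h
    push_cast at h
    exact (mul_dvd_mul_iff_left (by exact_mod_cast hdpos.ne')).1 h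
  have h2 : IsUnit (n' : O) := by
    obtain ⟨a, b, hab⟩ := Nat.isCoprime_iff_coprime.2 hcop
    have hab' : (a : O) * n' + (b : O) * N' = 1 := by exact_mod_cast congrArg (Int.cast : ℤ → O) hab
    obtain ⟨c, hc⟩ := h1
    rw [hc] at hab'
    exact IsUnit.of_mul_eq_one ((a : O) + b * c) (by linear_combination hab')
  by_cases h3 : n' = 1
  · rw [hn', h3, mul_one, hd]; exact Nat.gcd_dvd_right _ _
  · exfalso
    obtain ⟨q, hq, hqn⟩ := Nat.exists_prime_and_dvd h3
    apply hO q hq (hqn.trans ⟨d, by rw [hn', mul_comm]⟩)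
    obtain ⟨t, ht⟩ := hqn
    rw [ht] at h2
    push_cast at h2
    exact isUnit_of_mul_isUnit_left h2

omit [CharZero O] in
theorem pow_totient_dvd (α : O) (hα : IsOfFinOrder α) :
    (1 - α) ^ (Nat.totient (orderOf α)) ∣ eval 1 (cyclotomic (orderOf α) O) := by
  have hm : 0 < orderOf α := hα.orderOf_pos
  have : NeZero (orderOf α) := ⟨hm.ne'⟩
  have hprim : IsPrimitiveRoot α (orderOf α) := IsPrimitiveRoot.orderOf α
  rw [cyclotomic_eq_prod_X_sub_primitiveRoots hprim, eval_prod, ← hprim.card_primitiveRoots,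
    ← Finset.prod_const]
  apply Finset.prod_dvd_prod_of_dvd
  intro μ hμ
  rw [mem_primitiveRoots hm] at hμ
  obtain ⟨i, -, rfl⟩ := hprim.eq_pow_of_pow_eq_one hμ.pow_eq_one
  simp only [eval_sub, eval_X, eval_C]
  exact one_sub_dvd_one_sub_pow α i


theorem order_cases (n : ℕ) (hn : 2 ≤ n) (hO : ∀ p : ℕ, p.Prime → p ∣ n → ¬ IsUnit (p : O))
    (α : O) (hα : IsOfFinOrder α) (h : (n : O) ∣ (α - 1) ^ 2) :
    orderOf α = 1 ∨ (orderOf α = 2 ∧ n ∣ 4) ∨ (orderOf α = 3 ∧ n = 3) ∨ (orderOf α = 4 ∧ n = 2) := by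
  have hm : 0 < orderOf α := hα.orderOf_pos
  have key := pow_totient_dvd α hα
  by_cases hm1 : orderOf α = 1
  · exact Or.inl hm1
  right
  have hne : α ≠ 1 := fun h1 => hm1 (orderOf_eq_one_iff.2 h1)
  have hne' : (1 - α) ≠ 0 := sub_ne_zero.2 (Ne.symm hne)
  have hsq : (α - 1) ^ 2 = (1 - α) ^ 2 := by ring
  rw [hsq] at h
  have hunit : ¬ IsUnit (1 - α) := by
    intro hu
    have h1 : (n : O) ∣ ((1 : ℕ) : O) := by
      rw [Nat.cast_one]
      exact h.trans (hu.pow 2).dvd
    have := nat_dvd_of_dvd (by omega) hO h1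
    have := Nat.le_of_dvd one_pos this
    omega
  have hφpos : 0 < Nat.totient (orderOf α) := Nat.totient_pos.2 hm
  by_cases hpp : IsPrimePow (orderOf α)
  · obtain ⟨p, k, hp, hk, hpk⟩ := (isPrimePow_nat_iff _).1 hpp
    obtain ⟨k', rfl⟩ : ∃ k', k = k' + 1 := ⟨k - 1, by omega⟩
    have : Fact p.Prime := ⟨hp⟩
    rw [← hpk, eval_one_cyclotomic_prime_pow] at key
    rw [hpk] at key
    by_cases hφ : Nat.totient (orderOf α) = 1
    · left
      have hm2 : orderOf α = 2 := by
        rcases Nat.totient_eq_one_iff.1 hφ with h1 | h2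
        · exact absurd h1 hm1
        · exact h2
      refine ⟨hm2, ?_⟩
      have hα2 : α ^ 2 = 1 := by rw [← hm2]; exact pow_orderOf_eq_one α
      have hα' : α = -1 := by
        have : (α - 1) * (α + 1) = 0 := by linear_combination hα2
        rcases mul_eq_zero.1 this with h1 | h1
        · exact absurd (sub_eq_zero.1 h1) hne
        · exact eq_neg_of_add_eq_zero_left h1
      have h4 : (n : O) ∣ ((4 : ℕ) : O) := by
        have : (1 - α) ^ 2 = ((4 : ℕ) : O) := by rw [hα']; push_cast; ring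
        rw [← this]; exact h
      exact nat_dvd_of_dvd (by omega) hO h4
    · right
      have hφ2 : 2 ≤ Nat.totient (orderOf α) := by omega
      have hnp : (n : O) ∣ (p : O) := h.trans ((pow_dvd_pow _ hφ2).trans key)
      have hnp' : n ∣ p := nat_dvd_of_dvd (by omega) hO hnp
      have hnp'' : n = p := by
        rcases (Nat.dvd_prime hp).1 hnp' with h1 | h1
        · omega
        · exact h1
      have hφle : Nat.totient (orderOf α) ≤ 2 := by
        by_contra hcon
        have h3 : 3 ≤ Nat.totient (orderOf α) := by omega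
        have h32 : (1 - α) ^ 3 ∣ (1 - α) ^ 2 := by
          refine (pow_dvd_pow _ h3).trans (key.trans ?_)
          rw [← hnp'']; exact h
        have : (1 - α) ^ 2 * (1 - α) ∣ (1 - α) ^ 2 * 1 := by
          rw [mul_one, ← pow_succ]; exact h32
        have := (mul_dvd_mul_iff_left (pow_ne_zero 2 hne')).1 this
        exact hunit (isUnit_of_dvd_one this)
      have hφeq : Nat.totient (orderOf α) = 2 := by omega
      rw [← hpk, Nat.totient_prime_pow_succ hp] at hφeq
      have hp2 : 2 ≤ p := hp.two_le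
      have hp3 : p ≤ 3 := by
        have : p - 1 ∣ 2 := ⟨p ^ k', by rw [← hφeq]; ring⟩
        have := Nat.le_of_dvd (by norm_num) this
        omega
      interval_cases p
      · -- p = 2
        right
        have hk1 : k' = 1 := by
          have : 2 ^ k' = 2 ^ 1 := by omega
          exact Nat.pow_right_injective (le_refl 2) this
        subst hk1
        exact ⟨by rw [← hpk]; norm_num, hnp''⟩
      · -- p = 3
        left
        have hk0 : k' = 0 := by
          have : 3 ^ k' = 3 ^ 0 := by omega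
          exact Nat.pow_right_injective (by norm_num) this
        subst hk0
        exact ⟨by rw [← hpk]; norm_num, hnp''⟩
  · exfalso
    have hnpp : ∀ {p : ℕ}, p.Prime → ∀ k : ℕ, p ^ k ≠ orderOf α := by
      intro p hp k hpk
      rcases Nat.eq_zero_or_pos k with hk | hk
      · rw [hk, pow_zero] at hpk; exact hm1 hpk.symm
      · exact hpp ((isPrimePow_nat_iff _).2 ⟨p, k, hp, hk, hpk⟩)
    rw [eval_one_cyclotomic_not_prime_pow hnpp] at key
    have : (1 - α) ∣ 1 := (dvd_pow_self _ hφpos.ne').trans key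
    exact hunit (isUnit_of_dvd_one this)


end Groth.Agent.S18598aux

open Groth.Agent.S18598aux

namespace Groth.Agent.S18598

/-- Let O be a commutative integral domain of characteristic zero, n a positive integer such that no
prime number dividing n is a unit in O, and α an element of O of finite multiplicative order such
that (α − 1)² is divisible by n in O. Then α = 1 if n ≥ 5, α² = 1 if n = 4, α³ = 1 if n = 3, and α⁴
= 1 if n = 2. -/
theorem result (O : Type u) [CommRing O] [IsDomain O] [CharZero O]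
    (n : ℕ) (hn : 0 < n) (hO : ∀ p : ℕ, p.Prime → p ∣ n → ¬ IsUnit (p : O))
    (α : O) (hα : IsOfFinOrder α) (h : (n : O) ∣ (α - 1) ^ 2) :
    (5 ≤ n → α = 1) ∧ (n = 4 → α ^ 2 = 1) ∧ (n = 3 → α ^ 3 = 1) ∧ (n = 2 → α ^ 4 = 1) := by
  have hcases : 2 ≤ n → (orderOf α = 1 ∨ (orderOf α = 2 ∧ n ∣ 4) ∨ (orderOf α = 3 ∧ n = 3) ∨
      (orderOf α = 4 ∧ n = 2)) := fun h2 => order_cases n h2 hO α hα h
  refine ⟨fun h5 => ?_, fun h4 => ?_, fun h3 => ?_, fun h2 => ?_⟩
  · rcases hcases (by omega) with h1 | ⟨-, h1⟩ | ⟨-, h1⟩ | ⟨-, h1⟩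
    · exact orderOf_eq_one_iff.1 h1
    · have := Nat.le_of_dvd (by norm_num) h1; omega
    · omega
    · omega
  · rcases hcases (by omega) with h1 | ⟨h1, -⟩ | ⟨-, h1⟩ | ⟨-, h1⟩
    · rw [orderOf_eq_one_iff.1 h1, one_pow]
    · rw [← h1]; exact pow_orderOf_eq_one α
    · omega
    · omega
  · rcases hcases (by omega) with h1 | ⟨-, h1⟩ | ⟨h1, -⟩ | ⟨-, h1⟩
    · rw [orderOf_eq_one_iff.1 h1, one_pow]
    · subst h3; omega
    · rw [← h1]; exact pow_orderOf_eq_one α
    · omega
  · rcases hcases (by omega) with h1 | ⟨h1, -⟩ | ⟨-, h1⟩ | ⟨h1, -⟩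
    · rw [orderOf_eq_one_iff.1 h1, one_pow]
    · have : α ^ 2 = 1 := by rw [← h1]; exact pow_orderOf_eq_one α
      calc α ^ 4 = (α ^ 2) ^ 2 := by ring
        _ = 1 := by rw [this, one_pow]
    · omega
    · rw [← h1]; exact pow_orderOf_eq_one α

end Groth.Agent.S18598
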