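import Groth.Statements.S1861
import Groth.Agent.Lib.helper7.DimSch13
import Groth.Agent.Lib.helper7.DimSch11

set_option autoImplicit false
universe u
open CategoryTheory AlgebraicGeometry
open Cyc

namespace Groth.Agent.S1861



/-- Let f : X → Y be flat, locally of finite type, of relative dimension r, y a point of Y and x a point
of X that is generic in an irreducible component of f⁻¹ of the closure of y (that is, x lies in that
closed set and has no proper generalization in it). Then f(x) = y and δX(x) = δY(y) + r. Here a pair
(X, δ) with Cyc.IsSetup plays the role of a scheme locally of finite type over a fixed base with a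
dimension function (X locally Noetherian with universally catenary local rings, δ a dimension
function), and Cyc.DeltaCompat records that the dimension function upstairs is the induced one. -/
theorem result (X Y : Scheme.{u}) (δX : X → ℤ) (δY : Y → ℤ) (hX : Cyc.IsSetup X δX) (hY : Cyc.IsSetup Y δY) (f : X ⟶ Y) [Flat f] [LocallyOfFiniteType f] (r : ℕ) (hr : Cyc.HasRelDim f r) (hδ : Cyc.DeltaCompat f δX δY) (y : Y) (x : X) (hx : f x ∈ closure ({y} : Set Y)) (hmax : ∀ x' : X, f x' ∈ closure ({y} : Set Y) → x' ⤳ x → x' = x) : f x = y ∧ δX x = δY y + r := by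
  have hfx : f x = y := by
    have hsp : y ⤳ f x := specializes_iff_mem_closure.mpr hx
    obtain ⟨x', hx', hfx'⟩ := (Flat.generalizingMap f) hsp
    have := hmax x' (by rw [hfx']; exact subset_closure rfl) hx'
    rw [← this, hfx']
  refine ⟨hfx, ?_⟩
  set z := f.asFiber x with hz
  have hιz : f.fiberι (f x) z = x := f.fiberι_asFiber x
  have hzmax : ∀ w : f.fiber (f x), w ⤳ z → w = z := by
    intro w hw
    have h1 : f.fiberι (f x) w ⤳ f.fiberι (f x) z := hw.map (f.fiberι (f x)).continuous
    rw [hιz] at h1
    have h2 : f (f.fiberι (f x) w) = f x := by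
      have : f.fiberι (f x) w ∈ Set.range (f.fiberι (f x)) := ⟨w, rfl⟩
      rw [f.range_fiberι] at this
      exact this
    have h3 := hmax _ (by rw [h2]; exact hx) h1
    apply (f.fiberι (f x)).isEmbedding.injective
    rw [h3, hιz]
  have hcomp : closure ({z} : Set (f.fiber (f x))) ∈ irreducibleComponents (f.fiber (f x)) :=
    (Groth.Agent.Lib.helper7.DimSch.closure_mem_irreducibleComponents_iff z).mpr hzmax
  have hdim := hr (f x) _ hcomp
  rw [Groth.Agent.Lib.helper7.DimSch.topologicalKrullDim_fiber_closure_singleton f (f x) z] at hdim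
  have hr' : Groth.Agent.Lib.helper7.DimSch.fiberTrdegNat f (f x) z = r := by exact_mod_cast hdim
  obtain ⟨n, hn, hδn⟩ := hδ (f.fiberι (f x) z)
  have h4 := Groth.Agent.Lib.helper7.DimSch.trdeg_residueFieldMap_eq_fiberTrdegNat f (f x) z
  have hnr : n = r := by
    have : (n : Cardinal) = (r : Cardinal) := by rw [← hn, ← hr']; exact h4
    exact_mod_cast this
  have h5 : δX (f.fiberι (f x) z) = δX x := congrArg δX hιz
  have h6 : δY (f (f.fiberι (f x) z)) = δY (f x) := congrArg (fun t => δY (f t)) hιz
  rw [h5, h6, hnr, hfx] at hδn
  exact hδn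

end Groth.Agent.S1861
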