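import Groth.Statements.S18614
import Mathlib

set_option autoImplicit false
universe u v
open LinTop

namespace Groth.Agent.S18614

open Topology in
/-- a linear functional whose kernel contains an open submodule is continuous -/
theorem continuous_of_open_le_ker (k : Type u) (M : Type v) [Field k]
    [TopologicalSpace k] [DiscreteTopology k] [AddCommGroup M] [Module k M] [TopologicalSpace M]
    [IsTopologicalAddGroup M] (W : Submodule k M) (hW : IsOpen (W : Set M))
    (f : M →ₗ[k] k) (hf : W ≤ LinearMap.ker f) : Continuous f := by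
  apply continuous_of_continuousAt_zero f
  rw [ContinuousAt, map_zero]
  intro s hs
  have h0 : (0 : k) ∈ s := mem_of_mem_nhds hs
  rw [Filter.mem_map]
  refine Filter.mem_of_superset (hW.mem_nhds W.zero_mem) ?_
  intro m hm
  have : f m = 0 := hf hm
  simp [this, h0]

theorem exists_open_submodule_not_mem (k : Type u) (M : Type v) [Field k]
    [TopologicalSpace k] [DiscreteTopology k] [AddCommGroup M] [Module k M] [TopologicalSpace M]
    [IsTopologicalAddGroup M] [IsLinearTopology k M]
    (M₁ : Submodule k M) (hM₁ : IsClosed (M₁ : Set M)) (x : M) (hx : x ∉ M₁) :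
    ∃ W : Submodule k M, IsOpen (W : Set M) ∧ M₁ ≤ W ∧ x ∉ W := by
  have hopen : IsOpen ((M₁ : Set M)ᶜ) := hM₁.isOpen_compl
  have hxmem : (M₁ : Set M)ᶜ ∈ nhds x := hopen.mem_nhds hx
  -- translate to zero
  have h0 : (fun y => x + y) ⁻¹' ((M₁ : Set M)ᶜ) ∈ nhds (0 : M) := by
    have hc : ContinuousAt (fun y : M => x + y) 0 := by fun_prop
    have := hc.preimage_mem_nhds (by simpa using hxmem)
    exact this
  obtain ⟨U, hUopen, hUsub⟩ :=
    (IsLinearTopology.hasBasis_open_submodule (M := M) k).mem_iff.mp h0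
  refine ⟨M₁ ⊔ U, ?_, le_sup_left, ?_⟩
  · -- open since contains the open submodule U
    have : (U.toAddSubgroup) ≤ (M₁ ⊔ U).toAddSubgroup := by
      intro y hy; exact (le_sup_right : U ≤ M₁ ⊔ U) hy
    exact AddSubgroup.isOpen_mono (H₁ := U.toAddSubgroup) (H₂ := (M₁ ⊔ U).toAddSubgroup) this hUopen
  · intro hmem
    obtain ⟨m, hm, u, hu, hmu⟩ := Submodule.mem_sup.mp hmem
    have : x + (-u) ∈ (M₁ : Set M)ᶜ := hUsub (U.neg_mem hu)
    apply this
    have : x + -u = m := by rw [← hmu]; abel
    rw [this]; exact hm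

theorem result (k : Type u) (M : Type v) [Field k]
    [TopologicalSpace k] [DiscreteTopology k] [AddCommGroup M] [Module k M] [TopologicalSpace M]
    [IsTopologicalAddGroup M] [IsLinearTopology k M] [T2Space M]
    (M₁ : Submodule k M) (hM₁ : IsClosed (M₁ : Set M)) (x : M)
    (hx : ∀ φ : M →L[k] k, (∀ m ∈ M₁, φ m = 0) → φ x = 0) : x ∈ M₁ := by
  by_contra hxM
  obtain ⟨W, hWopen, hle, hxW⟩ := exists_open_submodule_not_mem k M M₁ hM₁ x hxM
  obtain ⟨f, hfx, hfW⟩ := Submodule.exists_dual_map_eq_bot_of_notMem hxW inferInstance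
  have hker : W ≤ LinearMap.ker f := by
    intro w hw
    have : f w ∈ W.map f := Submodule.mem_map_of_mem hw
    rw [hfW] at this
    exact this
  have hcont : Continuous f := continuous_of_open_le_ker k M W hWopen f hker
  apply hfx
  exact hx ⟨f, hcont⟩ (fun m hm => hker (hle hm))

end Groth.Agent.S18614
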