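import Groth.Statements.S18615
import Mathlib

set_option autoImplicit false
universe u v
open LinTop

namespace Groth.Agent.S18615

open Topology in
/-- a linear functional whose kernel contains an open submodule is continuous -/
theorem continuous_of_open_le_ker (k : Type u) (M : Type v) [Field k]
    [TopologicalSpace k] [DiscreteTopology k] [AddCommGroup M] [Module k M] [TopologicalSpace M]
    [IsTopologicalAddGroup M] (W : Submodule k M) (hW : IsOpen (W : Set M))
    (f : M →ₗ[k] k) (hf : W ≤ LinearMap.ker f) : Continuous f := by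
  apply continuous_of_continuousAt_zero f
  rw [ContinuousAt, map_zero]
  intro s hs
  have h0 : (0 : k) ∈ s := mem_of_mem_nhds hs
  rw [Filter.mem_map]
  refine Filter.mem_of_superset (hW.mem_nhds W.zero_mem) ?_
  intro m hm
  have : f m = 0 := hf hm
  simp [this, h0]

theorem result (k : Type u) (M : Type v) [Field k]
    [TopologicalSpace k] [DiscreteTopology k] [AddCommGroup M] [Module k M] [TopologicalSpace M]
    [IsTopologicalAddGroup M] [IsLinearTopology k M] [T2Space M]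
    (M₁ M₂ : Submodule k M) (h₁₂ : M₁ ≤ M₂) (hM₁ : IsClosed (M₁ : Set M))
    (hM₂ : IsClosed (M₂ : Set M)) (ψ : M₂ →L[k] k)
    (hψ : ∀ m : M₂, (m : M) ∈ M₁ → ψ m = 0) :
    ∃ φ : M →L[k] k, (∀ m ∈ M₁, φ m = 0) ∧ ∀ m : M₂, φ (m : M) = ψ m := by
  by_cases hz : ∀ m : M₂, ψ m = 0
  · exact ⟨0, fun _ _ => rfl, fun m => by simp [hz m]⟩
  push Not at hz
  obtain ⟨m₁, hm₁⟩ := hz
  -- normalise
  set m₀ : M₂ := (ψ m₁)⁻¹ • m₁ with hm₀
  have hψm₀ : ψ m₀ = 1 := by
    rw [hm₀, map_smul, smul_eq_mul, inv_mul_cancel₀ hm₁]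
  -- the kernel of ψ is open in M₂
  have hkopen : IsOpen (ψ ⁻¹' {0}) := (isOpen_discrete ({0} : Set k)).preimage ψ.continuous
  have hknhds : ψ ⁻¹' {0} ∈ nhds (0 : M₂) := hkopen.mem_nhds (by simp)
  rw [mem_nhds_subtype] at hknhds
  obtain ⟨V, hV, hVsub⟩ := hknhds
  obtain ⟨U, hUopen, hUV⟩ :=
    (IsLinearTopology.hasBasis_open_submodule (M := M) k).mem_iff.mp hV
  have hUker : ∀ m : M₂, (m : M) ∈ U → ψ m = 0 := by
    intro m hm
    have : m ∈ ψ ⁻¹' {0} := hVsub (hUV hm)
    simpa using this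
  set K' : Submodule k M := (LinearMap.ker (ψ : M₂ →ₗ[k] k)).map M₂.subtype with hK'
  set W : Submodule k M := K' ⊔ U with hW
  have hWopen : IsOpen (W : Set M) := by
    have : (U.toAddSubgroup) ≤ W.toAddSubgroup := by
      intro y hy; exact (le_sup_right : U ≤ K' ⊔ U) hy
    exact AddSubgroup.isOpen_mono (H₁ := U.toAddSubgroup) (H₂ := W.toAddSubgroup) this hUopen
  have hWM₂ : ∀ m : M₂, (m : M) ∈ W → ψ m = 0 := by
    intro m hm
    obtain ⟨a, ha, b, hb, hab⟩ := Submodule.mem_sup.mp hm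
    obtain ⟨a', ha', rfl⟩ := ha
    have hbM₂ : b ∈ M₂ := by
      have : b = (m : M) - (a' : M) := by rw [← hab]; simp
      rw [this]; exact M₂.sub_mem m.2 a'.2
    have hb0 : ψ ⟨b, hbM₂⟩ = 0 := hUker ⟨b, hbM₂⟩ hb
    have hm' : m = a' + ⟨b, hbM₂⟩ := by
      apply Subtype.ext; simp [← hab]
    rw [hm', map_add, hb0, add_zero]
    exact ha'
  have hm₀W : (m₀ : M) ∉ W := by
    intro h
    have := hWM₂ m₀ h
    rw [hψm₀] at this
    exact one_ne_zero this
  obtain ⟨f, hfx, hfW⟩ := Submodule.exists_dual_map_eq_bot_of_notMem hm₀W inferInstance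
  have hker : W ≤ LinearMap.ker f := by
    intro w hw
    have : f w ∈ W.map f := Submodule.mem_map_of_mem hw
    rw [hfW] at this
    exact this
  set g : M →ₗ[k] k := (f (m₀ : M))⁻¹ • f with hg
  have hgker : W ≤ LinearMap.ker g := by
    intro w hw
    have : f w = 0 := hker hw
    simp [hg, this]
  have hgm₀ : g (m₀ : M) = 1 := by
    simp [hg, inv_mul_cancel₀ hfx]
  have hcont : Continuous g := continuous_of_open_le_ker k M W hWopen g hgker
  have hext : ∀ m : M₂, g (m : M) = ψ m := by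
    intro m
    have hmem : ((m - ψ m • m₀ : M₂) : M) ∈ W := by
      apply (le_sup_left : K' ≤ K' ⊔ U)
      refine ⟨m - ψ m • m₀, ?_, rfl⟩
      simp [hψm₀]
    have h0 : g ((m - ψ m • m₀ : M₂) : M) = 0 := hgker hmem
    have : g ((m - ψ m • m₀ : M₂) : M) = g (m : M) - ψ m * g (m₀ : M) := by
      simp
    rw [this, hgm₀, mul_one] at h0
    exact sub_eq_zero.mp h0
  refine ⟨⟨g, hcont⟩, ?_, hext⟩
  intro m hm
  have := hext ⟨m, h₁₂ hm⟩
  simp only [ContinuousLinearMap.coe_mk'] at this ⊢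
  rw [this]
  exact hψ ⟨m, h₁₂ hm⟩ hm

end Groth.Agent.S18615
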