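import Groth.Statements.S1862
-- import your own Groth.Agent.* helpers here

set_option autoImplicit false
universe u
open CategoryTheory AlgebraicGeometry
open Cyc

namespace Groth.Agent.S1862



/-- Let f : X → Y be a morphism locally of finite type of integral schemes with δX(η_X) = δY(η_Y). Then
either the image of f is not dense, or f maps the generic point to the generic point and the induced
extension of residue fields there (the function fields) is finite. Here a pair (X, δ) with
Cyc.IsSetup plays the role of a scheme locally of finite type over a fixed base with a dimension
function (X locally Noetherian with universally catenary local rings, δ a dimension function), and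
Cyc.DeltaCompat records that the dimension function upstairs is the induced one. -/
theorem result (X Y : Scheme.{u}) [IsIntegral X] [IsIntegral Y] (δX : X → ℤ) (δY : Y → ℤ) (hX : Cyc.IsSetup X δX) (hY : Cyc.IsSetup Y δY) (f : X ⟶ Y) [LocallyOfFiniteType f] (hδ : Cyc.DeltaCompat f δX δY) (heq : δX (genericPoint X) = δY (genericPoint Y)) : ¬ Dense (Set.range f) ∨ (f (genericPoint X) = genericPoint Y ∧ (f.residueFieldMap (genericPoint X)).hom.Finite) := by
  by_cases hd : Dense (Set.range f)
  · right
    have hgen : f (genericPoint X) = genericPoint Y := by
      have h1 : IsGenericPoint (f (genericPoint X)) (Set.univ : Set Y) := by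
        rw [IsGenericPoint, ← hd.closure_eq]
        apply subset_antisymm
        · exact closure_mono (Set.singleton_subset_iff.mpr ⟨_, rfl⟩)
        · apply closure_minimal _ isClosed_closure
          rintro _ ⟨x, rfl⟩
          have : genericPoint X ⤳ x := genericPoint_specializes x
          exact (this.map f.continuous).mem_closure
      exact (h1.eq (genericPoint_spec Y))
    refine ⟨hgen, ?_⟩
    obtain ⟨n, hn, hδn⟩ := hδ (genericPoint X)
    have hn0 : n = 0 := by rw [hgen] at hδn; omega
    letI := (f.residueFieldMap (genericPoint X)).hom.toAlgebra
    haveI : Algebra.EssFiniteType (Y.residueField (f (genericPoint X)))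
        (X.residueField (genericPoint X)) :=
      (LocallyOfFiniteType.stalkMap f (genericPoint X)).residueFieldMap
    haveI : Algebra.IsAlgebraic (Y.residueField (f (genericPoint X)))
        (X.residueField (genericPoint X)) :=
      _root_.trdeg_eq_zero_iff.mp (by rw [hn, hn0]; rfl)
    exact Algebra.finite_of_essFiniteType_of_isAlgebraic
  · left; exact hd

end Groth.Agent.S1862
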