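import Groth.Statements.S18646
import Mathlib
import Groth.Agent.Lib.helper27.Segre

set_option autoImplicit false
universe u
open scoped TensorProduct
open GrSegre

namespace Groth.Agent.S18646

/-- Let R and S be graded rings defined over a field k. Then their Segre product T = R # S is a
Noetherian ring (hence again a graded ring defined over k). Here a graded ring defined over k is a
commutative k-algebra of finite type, graded in nonnegative degrees by k-subspaces with degree-zero
part k·1; the Segre product T = R # S = ⊕_n R_n ⊗_k S_n (graded by T_n = R_n ⊗_k S_n) is presented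
abstractly as a graded k-algebra T with an injective k-algebra homomorphism ψ : T → R ⊗_k S carrying
T_n onto the k-span of the elementary tensors a ⊗ b with a ∈ R_n, b ∈ S_n, for every n. -/
theorem result (k : Type u) [Field k] (R : Type u) [CommRing R] [Algebra k R] (𝒜 : ℤ → Submodule k R) [GradedAlgebra 𝒜] (hposR : ∀ n : ℤ, n < 0 → 𝒜 n = ⊥) (h0R : 𝒜 0 = Submodule.span k {(1 : R)}) [Algebra.FiniteType k R] (S : Type u) [CommRing S] [Algebra k S] (ℬ : ℤ → Submodule k S) [GradedAlgebra ℬ] (hposS : ∀ n : ℤ, n < 0 → ℬ n = ⊥) (h0S : ℬ 0 = Submodule.span k {(1 : S)}) [Algebra.FiniteType k S] (T : Type u) [CommRing T] [Algebra k T] (𝒯 : ℤ → Submodule k T) [GradedAlgebra 𝒯] (ψ : T →ₐ[k] TensorProduct k R S) (hψ : Function.Injective ψ) (hdegT : ∀ n : ℤ, (𝒯 n).map ψ.toLinearMap = Submodule.span k {x : TensorProduct k R S | ∃ a ∈ 𝒜 n, ∃ b ∈ ℬ n, x = a ⊗ₜ[k] b}) : IsNoetherianRing T := by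
  classical
  have hN : IsNoetherianRing (TensorProduct k R S) := by
    have h1 : Algebra.FiniteType R (TensorProduct k R S) := inferInstance
    have h2 : Algebra.FiniteType k (TensorProduct k R S) := Algebra.FiniteType.trans ‹_› h1
    exact Algebra.FiniteType.isNoetherianRing k _
  -- the diagonal span is contained in the range of ψ
  have hdiag : ∀ x ∈ Groth.Agent.Lib.helper27.SegreLib.diagSpan 𝒜 ℬ, x ∈ ψ.toRingHom.range := by
    intro x hx
    induction hx using Submodule.span_induction with
    | mem y hy =>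
      obtain ⟨n, a, ha, b, hb, rfl⟩ := hy
      have : a ⊗ₜ[k] b ∈ (𝒯 n).map ψ.toLinearMap := by
        rw [hdegT n]
        exact Submodule.subset_span ⟨a, ha, b, hb, rfl⟩
      obtain ⟨t, _, ht⟩ := this
      exact ⟨t, ht⟩
    | zero => exact Subring.zero_mem _
    | add y z _ _ hy hz => exact Subring.add_mem _ hy hz
    | smul c y _ hy =>
      rw [Algebra.smul_def]
      refine Subring.mul_mem _ ⟨algebraMap k T c, ?_⟩ hy
      simp
  -- conversely, ψ t lies in the diagonal span
  have hψdiag : ∀ t : T, ψ t ∈ Groth.Agent.Lib.helper27.SegreLib.diagSpan 𝒜 ℬ := by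
    intro t
    induction t using DirectSum.Decomposition.inductionOn 𝒯 with
    | zero => simp
    | add a b ha hb => rw [map_add]; exact add_mem ha hb
    | homogeneous a =>
      rename_i n
      have : ψ a ∈ (𝒯 n).map ψ.toLinearMap := ⟨a, a.2, rfl⟩
      rw [hdegT n] at this
      refine Submodule.span_mono ?_ this
      rintro x ⟨a, ha, b, hb, rfl⟩
      exact ⟨n, a, ha, b, hb, rfl⟩
  exact Groth.Agent.Lib.helper27.SegreLib.isNoetherianRing_of_reynolds ψ.toRingHom hψ
    (Groth.Agent.Lib.helper27.SegreLib.rey 𝒜 ℬ).toAddMonoidHom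
    (fun x => hdiag _ (Groth.Agent.Lib.helper27.SegreLib.rey_mem_diagSpan 𝒜 ℬ x))
    (fun t x => Groth.Agent.Lib.helper27.SegreLib.rey_diag_mul 𝒜 ℬ (hψdiag t) x)
    (Groth.Agent.Lib.helper27.SegreLib.rey_one 𝒜 ℬ)

end Groth.Agent.S18646
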