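import Groth.Statements.S1865
import Mathlib

set_option autoImplicit false
universe u v
open CategoryTheory MonoidalCategory CartesianMonoidalCategory MonObj GrpObj AlgebraicGeometry
open GrpSch

namespace Groth.Agent.S1865

section Aux
open CategoryTheory CategoryTheory.Limits MonoidalCategory CartesianMonoidalCategory MonObj GrpObj AlgebraicGeometry

variable (K : Type u) [Field K] (G : Over (Spec (CommRingCat.of K))) [GrpObj G]

/-- `q(c, b) = b c⁻¹`. -/
noncomputable def qG : G ⊗ G ⟶ G := (snd G G) * (fst G G)⁻¹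

/-- image of `A × A` under `q` -/
def qimg (A : Set G.left) : Set G.left :=
  (qG K G).left '' ((fst G G).left ⁻¹' A ∩ (snd G G).left ⁻¹' A)

theorem isOpenMap_q : IsOpenMap (qG K G).left := by
  let τ : G ⊗ G ⟶ G ⊗ G := lift (qG K G) (fst G G)
  let τ' : G ⊗ G ⟶ G ⊗ G := lift (snd G G) ((fst G G) * (snd G G))
  have h1 : τ ≫ τ' = 𝟙 _ := by
    apply CartesianMonoidalCategory.hom_ext
    · simp [τ, τ']
    · simp [τ, τ', qG, MonObj.comp_mul, GrpObj.comp_inv]
  have h2 : τ' ≫ τ = 𝟙 _ := by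
    apply CartesianMonoidalCategory.hom_ext
    · simp [τ, τ', qG, MonObj.comp_mul, GrpObj.comp_inv]
    · simp [τ, τ']
  haveI : IsIso τ := ⟨τ', h1, h2⟩
  haveI : IsIso τ.left := (Over.forget _).map_isIso τ
  have hq : qG K G = τ ≫ fst G G := by simp [τ]
  haveI : UniversallyOpen G.hom := inferInstance
  have hfst : IsOpenMap (fst G G).left := by
    rw [Over.fst_left]
    exact (pullback.fst G.hom G.hom).isOpenMap
  rw [hq, Over.comp_left]
  exact hfst.comp τ.left.isOpenMap

theorem isOpen_qimg (A : Set G.left) (hA : IsOpen A) : IsOpen (qimg K G A) :=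
  isOpenMap_q K G _ ((hA.preimage (fst G G).left.continuous).inter
    (hA.preimage (snd G G).left.continuous))

theorem isCompact_qimg (A : Set G.left) (hA : IsOpen A) (hc : IsCompact A) :
    IsCompact (qimg K G A) := by
  let A' : G.left.Opens := ⟨A, hA⟩
  haveI : CompactSpace A'.toScheme := isCompact_iff_compactSpace.mp hc
  haveI : QuasiCompact (A'.ι ≫ G.hom) :=
    (HasAffineProperty.iff_of_isAffine (P := @QuasiCompact)).mpr inferInstance
  have : (fst G G).left ⁻¹' A ∩ (snd G G).left ⁻¹' A =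
      Set.range (pullback.map (A'.ι ≫ G.hom) (A'.ι ≫ G.hom) G.hom G.hom A'.ι A'.ι (𝟙 _)
        (by simp) (by simp)) := by
    rw [Scheme.Pullback.range_map, Scheme.Opens.range_ι]; rfl
  unfold qimg
  rw [this]
  exact (isCompact_range (Scheme.Hom.continuous _)).image (qG K G).left.continuous

/-- the increasing sequence -/
def Useq (U : Set G.left) : ℕ → Set G.left
  | 0 => U
  | n + 1 => Useq U n ∪ qimg K G (Useq U n)

theorem Useq_open (U : Set G.left) (hU : IsOpen U) : ∀ n, IsOpen (Useq K G U n)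
  | 0 => hU
  | n + 1 => (Useq_open U hU n).union (isOpen_qimg K G _ (Useq_open U hU n))

theorem Useq_compact (U : Set G.left) (hU : IsOpen U) (hc : IsCompact U) :
    ∀ n, IsCompact (Useq K G U n)
  | 0 => hc
  | n + 1 => (Useq_compact U hU hc n).union
      (isCompact_qimg K G _ (Useq_open K G U hU n) (Useq_compact U hU hc n))

theorem Useq_mono (U : Set G.left) : Monotone (Useq K G U) :=
  monotone_nat_of_le_succ fun _ => Set.subset_union_left


theorem q_stable (U : Set G.left) (z : (G ⊗ G).left)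
    (h1 : (fst G G).left z ∈ ⋃ n, Useq K G U n) (h2 : (snd G G).left z ∈ ⋃ n, Useq K G U n) :
    (qG K G).left z ∈ ⋃ n, Useq K G U n := by
  obtain ⟨a, ha⟩ := Set.mem_iUnion.mp h1
  obtain ⟨b, hb⟩ := Set.mem_iUnion.mp h2
  have ha' := Useq_mono K G U (le_max_left a b) ha
  have hb' := Useq_mono K G U (le_max_right a b) hb
  refine Set.mem_iUnion.mpr ⟨max a b + 1, Or.inr ⟨z, ⟨ha', hb'⟩, rfl⟩⟩

theorem closed_H (U : Set G.left) (hU : IsOpen U)
    (he : η[G].left (IsLocalRing.closedPoint K) ∈ U) : IsClosed (⋃ n, Useq K G U n) := by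
  have hHopen : IsOpen (⋃ n, Useq K G U n) := isOpen_iUnion (Useq_open K G U hU)
  rw [← closure_subset_iff_isClosed]
  intro x hx
  let T : Over (Spec (CommRingCat.of K)) := Over.mk (G.left.fromSpecResidueField x ≫ G.hom)
  let xt : T ⟶ G := Over.homMk (G.left.fromSpecResidueField x) rfl
  let ψ' : T ⊗ G ⟶ G := (fst T G ≫ xt)⁻¹ * (snd T G)
  let δ : T ⟶ T ⊗ G := lift (𝟙 T) xt
  let Γ : T ⊗ G ⟶ G ⊗ G := lift ψ' (snd T G)
  have hδψ' : δ ≫ ψ' = 1 := by
    simp [δ, ψ', MonObj.comp_mul, GrpObj.comp_inv]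
  have hΓq : Γ ≫ qG K G = fst T G ≫ xt := by
    simp [Γ, qG, ψ', MonObj.comp_mul, GrpObj.comp_inv]
  haveI : UniversallyOpen T.hom := inferInstance
  have hopen_snd : IsOpenMap (snd T G).left.base := by
    rw [Over.snd_left]
    exact (pullback.snd T.hom G.hom).isOpenMap
  let pt : T.left := IsLocalRing.closedPoint (G.left.residueField x)
  have hxt : ∀ t, xt.left t = x := fun t => Scheme.fromSpecResidueField_apply _ _
  let w₀ : (T ⊗ G).left := δ.left pt
  have hw₀snd : (snd T G).left w₀ = x := by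
    show (snd T G).left (δ.left pt) = x
    rw [← Scheme.Hom.comp_apply, ← Over.comp_left]
    have : δ ≫ snd T G = xt := by simp [δ]
    rw [this]; exact hxt _
  have hw₀ψ' : ψ'.left w₀ ∈ ⋃ n, Useq K G U n := by
    refine Set.mem_iUnion.mpr ⟨0, ?_⟩
    show ψ'.left (δ.left pt) ∈ U
    rw [← Scheme.Hom.comp_apply, ← Over.comp_left, hδψ', Hom.one_def, Over.comp_left,
      Scheme.Hom.comp_apply]
    convert he using 2
    exact Subsingleton.elim (α := PrimeSpectrum K) _ _
  have hNopen : IsOpen (ψ'.left ⁻¹' ⋃ n, Useq K G U n) := hHopen.preimage ψ'.left.continuous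
  have hx' : x ∈ (snd T G).left '' (ψ'.left ⁻¹' ⋃ n, Useq K G U n) := ⟨w₀, hw₀ψ', hw₀snd⟩
  obtain ⟨y, ⟨w, hwN, rfl⟩, hyU⟩ := mem_closure_iff.mp hx _ (hopen_snd _ hNopen) hx'
  have hΓfst : Γ ≫ fst G G = ψ' := by simp [Γ]
  have hΓsnd : Γ ≫ snd G G = snd T G := by simp [Γ]
  have hxw : (fst T G ≫ xt).left w = x := by
    rw [Over.comp_left, Scheme.Hom.comp_apply]
    exact hxt _
  have := q_stable K G U (Γ.left w)
    (by rw [← Scheme.Hom.comp_apply, ← Over.comp_left, hΓfst]; exact hwN)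
    (by rw [← Scheme.Hom.comp_apply, ← Over.comp_left, hΓsnd]; exact hyU)
  rwa [← Scheme.Hom.comp_apply, ← Over.comp_left, hΓq, hxw] at this

theorem main : ∃ U : G.left.Opens, IsClosed (U : Set G.left) ∧
    η[G].left (IsLocalRing.closedPoint K) ∈ U ∧ ∃ V : ℕ → G.left.Opens,
      (∀ n, IsAffineOpen (V n)) ∧ (U : Set G.left) = ⋃ n, (V n : Set G.left) := by
  obtain ⟨U₀, hU₀, he, -⟩ := exists_isAffineOpen_mem_and_subset
    (x := η[G].left (IsLocalRing.closedPoint K)) (U := ⊤) trivial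
  have hopen := Useq_open K G (U₀ : Set G.left) U₀.isOpen
  have hcomp := Useq_compact K G (U₀ : Set G.left) U₀.isOpen hU₀.isCompact
  have hcl := closed_H K G (U₀ : Set G.left) U₀.isOpen he
  have hcov : ∀ n, ∃ s : Set G.left.affineOpens, s.Finite ∧
      Useq K G (U₀ : Set G.left) n = ⋃ i ∈ s, (i : Set G.left) := fun n =>
    isCompact_and_isOpen_iff_finite_and_eq_biUnion_affineOpens.mp ⟨hcomp n, hopen n⟩
  choose s hsfin hs using hcov
  have hScount : (⋃ n, s n).Countable := Set.countable_iUnion fun n => (hsfin n).countable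
  have heH : η[G].left (IsLocalRing.closedPoint K) ∈ ⋃ n, Useq K G (U₀ : Set G.left) n :=
    Set.mem_iUnion.mpr ⟨0, he⟩
  have hSne : (⋃ n, s n).Nonempty := by
    have h0 : η[G].left (IsLocalRing.closedPoint K) ∈ Useq K G (U₀ : Set G.left) 0 := he
    rw [hs 0] at h0
    obtain ⟨i, hi, -⟩ := Set.mem_iUnion₂.mp h0
    exact ⟨i, Set.mem_iUnion.mpr ⟨0, hi⟩⟩
  obtain ⟨f, hf⟩ := hScount.exists_eq_range hSne
  refine ⟨⟨⋃ n, Useq K G (U₀ : Set G.left) n, isOpen_iUnion hopen⟩, hcl, heH,
    fun n => (f n).1, fun n => (f n).2, ?_⟩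
  show (⋃ n, Useq K G (U₀ : Set G.left) n) = ⋃ n, ((f n).1 : Set G.left)
  ext x
  simp only [Set.mem_iUnion]
  constructor
  · rintro ⟨n, hn⟩
    rw [hs n] at hn
    obtain ⟨i, hi, hxi⟩ := Set.mem_iUnion₂.mp hn
    have : i ∈ Set.range f := by rw [← hf]; exact Set.mem_iUnion.mpr ⟨n, hi⟩
    obtain ⟨m, rfl⟩ := this
    exact ⟨m, hxi⟩
  · rintro ⟨m, hm⟩
    have : f m ∈ ⋃ n, s n := by rw [hf]; exact ⟨m, rfl⟩
    obtain ⟨n, hn⟩ := Set.mem_iUnion.mp this
    refine ⟨n, ?_⟩
    rw [hs n]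
    exact Set.mem_iUnion₂.mpr ⟨f m, hn, hm⟩

end Aux

/-- A group scheme over a field contains an open and closed subset containing the identity point which
is a countable union of affine opens. (The source does not mention the identity point; its
construction contains it, and without it the empty set would do.) -/
theorem result (K : Type u) [Field K] (G : Over (Spec (CommRingCat.of K))) [GrpObj G] : ∃ U : G.left.Opens, IsClosed (U : Set G.left) ∧ η[G].left (IsLocalRing.closedPoint K) ∈ U ∧ ∃ V : ℕ → G.left.Opens, (∀ n, IsAffineOpen (V n)) ∧ (U : Set G.left) = ⋃ n, (V n : Set G.left) := by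
  exact main K G

end Groth.Agent.S1865
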