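import Groth.Statements.S18672
import Mathlib

set_option autoImplicit false
universe u
open GrLC

namespace Groth.Agent.S18672

theorem step1 {R : Type u} [CommRing R] (𝒜 : ℤ → AddSubgroup R) [GradedRing 𝒜]
    (hstd : Ideal.span (⋃ n ∈ Set.Ioi (0 : ℤ), (𝒜 n : Set R)) =
      Ideal.span ((𝒜 1 : AddSubgroup R) : Set R))
    (n : ℤ) (hn : 0 ≤ n) (x : R) (hx : x ∈ 𝒜 (n + 1)) :
    x ∈ AddSubgroup.closure {z : R | ∃ a ∈ 𝒜 n, ∃ b ∈ 𝒜 1, z = a * b} := by
  classical
  have hx1 : x ∈ Ideal.span ((𝒜 1 : AddSubgroup R) : Set R) := by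
    rw [← hstd]
    apply Ideal.subset_span
    simp only [Set.mem_iUnion, Set.mem_Ioi, SetLike.mem_coe]
    exact ⟨n + 1, by omega, hx⟩
  have key : ∀ y ∈ Ideal.span ((𝒜 1 : AddSubgroup R) : Set R), ∀ c : R,
      ((DirectSum.decompose 𝒜 (c * y) (n + 1) : 𝒜 (n + 1)) : R) ∈
        AddSubgroup.closure {z : R | ∃ a ∈ 𝒜 n, ∃ b ∈ 𝒜 1, z = a * b} := by
    intro y hy
    induction hy using Submodule.span_induction with
    | mem s hs =>
      intro c
      rw [DirectSum.coe_decompose_mul_add_of_right_mem 𝒜 (i := n) (j := 1) hs]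
      exact AddSubgroup.subset_closure ⟨_, Subtype.prop _, s, hs, rfl⟩
    | zero => intro c; simp
    | add u v _ _ hu hv =>
      intro c
      rw [mul_add, DirectSum.decompose_add, DirectSum.add_apply, AddSubgroup.coe_add]
      exact add_mem (hu c) (hv c)
    | smul d u _ hu =>
      intro c
      rw [smul_eq_mul, ← mul_assoc]
      exact hu (c * d)
  have := key x hx1 1
  rw [one_mul] at this
  rwa [DirectSum.decompose_of_mem_same 𝒜 hx] at this

theorem step2 {R : Type u} [CommRing R] (𝒜 : ℤ → AddSubgroup R) [GradedRing 𝒜]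
    (hstd : Ideal.span (⋃ n ∈ Set.Ioi (0 : ℤ), (𝒜 n : Set R)) =
      Ideal.span ((𝒜 1 : AddSubgroup R) : Set R))
    (s : ℤ) (hs : 0 ≤ s) (t : ℕ) (x : R) (hx : x ∈ 𝒜 (s + t)) :
    x ∈ AddSubgroup.closure {z : R | ∃ a ∈ 𝒜 s, ∃ b ∈ 𝒜 (t : ℤ), z = a * b} := by
  induction t generalizing x with
  | zero =>
    refine AddSubgroup.subset_closure ⟨x, ?_, 1, ?_, (mul_one x).symm⟩
    · simpa using hx
    · exact SetLike.one_mem_graded 𝒜
  | succ t ih =>
    have hx' : x ∈ 𝒜 ((s + t) + 1) := by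
      have : s + ((t + 1 : ℕ) : ℤ) = (s + t) + 1 := by push_cast; ring
      rwa [this] at hx
    have h1 := step1 𝒜 hstd (s + t) (by positivity) x hx'
    have key : ∀ z ∈ AddSubgroup.closure {z : R | ∃ a ∈ 𝒜 (s + t), ∃ b ∈ 𝒜 1, z = a * b},
        z ∈ AddSubgroup.closure {z : R | ∃ a ∈ 𝒜 s, ∃ b ∈ 𝒜 ((t + 1 : ℕ) : ℤ), z = a * b} := by
      intro z hz
      induction hz using AddSubgroup.closure_induction with
      | mem z hz =>
        obtain ⟨c, hc, d, hd, rfl⟩ := hz
        have key2 : ∀ w ∈ AddSubgroup.closure {z : R | ∃ a ∈ 𝒜 s, ∃ b ∈ 𝒜 (t : ℤ), z = a * b},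
            w * d ∈ AddSubgroup.closure
              {z : R | ∃ a ∈ 𝒜 s, ∃ b ∈ 𝒜 ((t + 1 : ℕ) : ℤ), z = a * b} := by
          intro w hw
          induction hw using AddSubgroup.closure_induction with
          | mem w hw =>
            obtain ⟨a, ha, b, hb, rfl⟩ := hw
            refine AddSubgroup.subset_closure ⟨a, ha, b * d, ?_, mul_assoc a b d⟩
            have : ((t + 1 : ℕ) : ℤ) = (t : ℤ) + 1 := by push_cast; ring
            rw [this]
            exact SetLike.GradedMul.mul_mem hb hd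
          | zero => rw [zero_mul]; exact zero_mem _
          | add u v _ _ hu hv => rw [add_mul]; exact add_mem hu hv
          | neg u _ hu => rw [neg_mul]; exact neg_mem hu
        exact key2 c (ih c hc)
      | zero => exact zero_mem _
      | add u v _ _ hu hv => exact add_mem hu hv
      | neg u _ hu => exact neg_mem hu
    exact key x h1

/-- Let R be a graded ring defined over a field k = R_0 which is Cohen–Macaulay and generated over k by
R_1 (the standing hypotheses of this section; only generation in degree one is used), q ≥ 1, R' =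
R^(q), and a an integer. Then the Veronese submodule [R(a)]^(q) = ⊕_j R_{a+jq} is generated over R'
by its piece R(a)_n = R_{a+n}, where n is the smallest multiple of q with n + a ≥ 0. Here 'graded
ring defined over a field' means R = ⊕_{n ≥ 0} R_n is Noetherian with R_0 a field, and m = R_+ is
its unique graded maximal ideal. The Veronese subring R^(q) = ⊕_j R_{jq}, regraded by (R^(q))_j =
R_{jq}, is presented abstractly as a ℤ-graded ring R' with an injective ring homomorphism φ : R' → R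
carrying R'_j onto R_{jq} for every j. The module [R(a)]^(q) is presented as a graded R'-module M'
with an injective additive map g : M' → R, semilinear over φ, carrying M'_j onto R_{a+jq} for every
j; with n = j₀q, the conclusion is that the R'-span of M'_{j₀} is all of M'. -/
theorem result (R : Type u) [CommRing R] [LocCoh.IsCohenMacaulayRing R] (𝒜 : ℤ → AddSubgroup R) [GradedRing 𝒜] (hpos : ∀ n : ℤ, n < 0 → 𝒜 n = ⊥) (h0 : IsField (GrLC.deg0 𝒜)) (hstd : Ideal.span (⋃ n ∈ Set.Ioi (0 : ℤ), (𝒜 n : Set R)) = Ideal.span ((𝒜 1 : AddSubgroup R) : Set R)) (q : ℕ) (hq : 0 < q) (R' : Type u) [CommRing R'] (𝒜' : ℤ → AddSubgroup R') [GradedRing 𝒜'] (φ : R' →+* R) (hφ : Function.Injective φ) (hdeg : ∀ j : ℤ, (𝒜' j).map (φ : R' →+ R) = 𝒜 (j * q)) (a : ℤ) (M' : Type u) [AddCommGroup M'] [Module R' M'] (ℳ' : ℤ → AddSubgroup M') [DirectSum.Decomposition ℳ'] [SetLike.GradedSMul 𝒜' ℳ'] (g : M' →ₛₗ[φ] R) (hg : Function.Injective g) (hgdeg : ∀ j : ℤ, (ℳ' j).map (g : M' →+ R) = 𝒜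 (a + j * q)) (j₀ : ℤ) (hj₀ : 0 ≤ a + j₀ * q) (hj₀' : a + (j₀ - 1) * q < 0) : Submodule.span R' ((ℳ' j₀ : AddSubgroup M') : Set M') = ⊤ := by
  classical
  rw [eq_top_iff]
  intro y _
  rw [← DirectSum.sum_support_decompose ℳ' y]
  refine Submodule.sum_mem _ ?_
  intro j _
  set yj : M' := ((DirectSum.decompose ℳ' y j : ℳ' j) : M') with hyj
  have hyjmem : yj ∈ ℳ' j := Subtype.prop _
  have hgy : g yj ∈ 𝒜 (a + j * q) := by
    rw [← hgdeg j]
    exact ⟨yj, hyjmem, rfl⟩
  by_cases hj : j < j₀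
  · have hneg : a + j * q < 0 := by
      have h1 : j * (q : ℤ) ≤ (j₀ - 1) * q := by
        apply mul_le_mul_of_nonneg_right _ (by positivity)
        omega
      linarith
    rw [hpos _ hneg, AddSubgroup.mem_bot] at hgy
    have : yj = 0 := hg (by rw [hgy, map_zero])
    rw [this]
    exact zero_mem _
  · push Not at hj
    obtain ⟨t, ht⟩ : ∃ t : ℕ, ((j - j₀) * q : ℤ) = t := by
      refine ⟨((j - j₀) * q).toNat, (Int.toNat_of_nonneg ?_).symm⟩
      apply mul_nonneg (by omega) (by positivity)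
    have hidx : a + j * q = (a + j₀ * q) + (t : ℤ) := by rw [← ht]; ring
    rw [hidx] at hgy
    have h1 := step2 𝒜 hstd (a + j₀ * q) hj₀ t (g yj) hgy
    have key : ∀ z ∈ AddSubgroup.closure {z : R | ∃ u ∈ 𝒜 (a + j₀ * q), ∃ v ∈ 𝒜 (t : ℤ), z = u * v},
        ∃ w ∈ Submodule.span R' ((ℳ' j₀ : AddSubgroup M') : Set M'), g w = z := by
      intro z hz
      induction hz using AddSubgroup.closure_induction with
      | mem z hz =>
        obtain ⟨u, hu, v, hv, rfl⟩ := hz
        rw [← hgdeg j₀] at hu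
        rw [← ht, ← hdeg (j - j₀)] at hv
        obtain ⟨m, hm, rfl⟩ := hu
        obtain ⟨r, hr, rfl⟩ := hv
        refine ⟨r • m, Submodule.smul_mem _ _ (Submodule.subset_span hm), ?_⟩
        rw [map_smulₛₗ, smul_eq_mul, mul_comm]
        rfl
      | zero => exact ⟨0, zero_mem _, map_zero _⟩
      | add u v _ _ hu hv =>
        obtain ⟨w1, hw1, rfl⟩ := hu
        obtain ⟨w2, hw2, rfl⟩ := hv
        exact ⟨w1 + w2, add_mem hw1 hw2, map_add _ _ _⟩
      | neg u _ hu =>
        obtain ⟨w1, hw1, rfl⟩ := hu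
        exact ⟨-w1, neg_mem hw1, map_neg _ _⟩
    obtain ⟨w, hw, hgw⟩ := key _ h1
    have : yj = w := hg hgw.symm
    rw [this]
    exact hw

end Groth.Agent.S18672
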