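import Groth.Statements.S18700
import Mathlib
import Groth.Agent.Lib.helper9.Depth2

set_option autoImplicit false
universe u
open QGor

namespace Groth.Agent.S18700

/-- Affine form. Let A be a Noetherian ring, I an ideal, and G the kernel of a linear map u : E⁰ → E¹ of
finite A-modules. If depth_I E⁰ ≥ 1 then depth_I G ≥ 1; if depth_I E⁰ ≥ 2 and depth_I E¹ ≥ 1 then
depth_I G ≥ 2. -/
theorem result (A : Type u) [CommRing A] [IsNoetherianRing A] (I : Ideal A)
    (E0 E1 : Type u) [AddCommGroup E0] [Module A E0] [Module.Finite A E0] [AddCommGroup E1] [Module A E1]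
    [Module.Finite A E1] (u : E0 →ₗ[A] E1) :
    (1 ≤ LocCoh.idealDepth I E0 → 1 ≤ LocCoh.idealDepth I (LinearMap.ker u)) ∧
    (2 ≤ LocCoh.idealDepth I E0 → 1 ≤ LocCoh.idealDepth I E1 → 2 ≤ LocCoh.idealDepth I (LinearMap.ker u)) := by
  open Groth.Agent.Lib.helper9.Depth in
  -- SES 0 → ker u → E0 → range u → 0
  have h1 := idealDepth_shortExact I (LinearMap.ker u).subtype u.rangeRestrict
    (Submodule.injective_subtype _) u.surjective_rangeRestrict (by
      intro x
      constructor
      · intro hx
        refine ⟨⟨x, ?_⟩, rfl⟩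
        have := congrArg Subtype.val hx
        simpa using this
      · rintro ⟨y, rfl⟩
        apply Subtype.ext
        simpa using y.2)
  -- SES 0 → range u → E1 → E1/range u → 0
  have h2 := idealDepth_shortExact I (LinearMap.range u).subtype (LinearMap.range u).mkQ
    (Submodule.injective_subtype _) (Submodule.mkQ_surjective _) (by
      intro x
      constructor
      · intro hx
        rw [Submodule.mkQ_apply, Submodule.Quotient.mk_eq_zero] at hx
        exact ⟨⟨x, hx⟩, rfl⟩
      · rintro ⟨y, rfl⟩
        rw [Submodule.mkQ_apply, Submodule.Quotient.mk_eq_zero]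
        exact y.2)
  obtain ⟨-, -, h1c⟩ := h1
  obtain ⟨-, -, h2c⟩ := h2
  refine ⟨fun h => ?_, fun h h' => ?_⟩
  · refine le_trans ?_ h1c
    refine le_min h ?_
    exact le_add_self
  · have h3 : 1 ≤ LocCoh.idealDepth I (LinearMap.range u) := by
      refine le_trans ?_ h2c
      exact le_min h' le_add_self
    refine le_trans ?_ h1c
    refine le_min h ?_
    have : (2 : ℕ∞) = 1 + 1 := by norm_num
    rw [this]
    exact add_le_add_left h3 1

end Groth.Agent.S18700
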