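import Groth.Statements.S18701
import Mathlib
import Groth.Agent.Lib.helper9.Depth8
import Groth.Agent.S18700

set_option autoImplicit false
universe u
open QGor

namespace Groth.Agent.S18701

open LocCoh Groth.Agent.Lib.helper9

section
variable {A : Type u} [CommRing A] [IsNoetherianRing A] (p : Ideal A) [p.IsPrime]

noncomputable def kerLocEquiv {E0 E1 : Type u} [AddCommGroup E0] [Module A E0] [AddCommGroup E1]
    [Module A E1] (u : E0 →ₗ[A] E1) :
    LocalizedModule p.primeCompl (LinearMap.ker u) ≃ₗ[Localization.AtPrime p]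
      LinearMap.ker (LocalizedModule.map p.primeCompl u) :=
  ((IsLocalizedModule.iso p.primeCompl (Submodule.toLocalized' (Localization.AtPrime p) p.primeCompl
    (LocalizedModule.mkLinearMap p.primeCompl E0) (LinearMap.ker u))).extendScalarsOfIsLocalization
      p.primeCompl (Localization.AtPrime p)).trans
    (LinearEquiv.ofEq _ _ (LinearMap.localized'_ker_eq_ker_localizedMap (Localization.AtPrime p)
      p.primeCompl (LocalizedModule.mkLinearMap p.primeCompl E0)
      (LocalizedModule.mkLinearMap p.primeCompl E1) u))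

theorem supportDim_loc_le_of_support_subset {M N : Type u} [AddCommGroup M] [Module A M]
    [Module.Finite A M] [AddCommGroup N] [Module A N] [Module.Finite A N]
    (h : Module.support A M ⊆ Module.support A N) :
    Module.supportDim (Localization.AtPrime p) (LocalizedModule p.primeCompl M) ≤
      Module.supportDim (Localization.AtPrime p) (LocalizedModule p.primeCompl N) := by
  refine Order.krullDim_le_of_strictMono (fun a => ⟨a.1, ?_⟩) (fun {_ _} lt => lt)
  apply Depth.mem_support_of_comap_mem_support
  exact h (Depth.comap_mem_support_of_mem_support p M a.1 a.2)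

theorem coe_nonneg' (a : ℕ∞) : (0 : WithBot ℕ∞) ≤ (a : WithBot ℕ∞) := by
  have : (0 : WithBot ℕ∞) = ((0 : ℕ∞) : WithBot ℕ∞) := rfl
  rw [this, WithBot.coe_le_coe]
  exact bot_le

theorem one_le_coe_iff (a : ℕ∞) : ((1 : ℕ) : WithBot ℕ∞) ≤ (a : WithBot ℕ∞) ↔ (1 : ℕ∞) ≤ a := by
  have : ((1 : ℕ) : WithBot ℕ∞) = ((1 : ℕ∞) : WithBot ℕ∞) := rfl
  rw [this, WithBot.coe_le_coe]

theorem two_le_coe_iff (a : ℕ∞) : ((2 : ℕ) : WithBot ℕ∞) ≤ (a : WithBot ℕ∞) ↔ (2 : ℕ∞) ≤ a := by
  have : ((2 : ℕ) : WithBot ℕ∞) = ((2 : ℕ∞) : WithBot ℕ∞) := rfl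
  rw [this, WithBot.coe_le_coe]

theorem coe_le_zero_of (a : ℕ∞) (h : ¬ (1 : ℕ∞) ≤ a) : (a : WithBot ℕ∞) ≤ 0 := by
  rw [not_le, Order.lt_one_iff] at h
  rw [h]
  rfl

end

/-- Affine form. Let A be a Noetherian ring and G the kernel of a linear map u : E⁰ → E¹ of finite
A-modules. If E⁰ has (S_1) then G has (S_1). If Supp G ⊆ Supp E¹, E¹ has (S_1) and E⁰ has (S_2),
then G has (S_2). -/
theorem result (A : Type u) [CommRing A] [IsNoetherianRing A]
    (E0 E1 : Type u) [AddCommGroup E0] [Module A E0] [Module.Finite A E0] [AddCommGroup E1] [Module A E1]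
    [Module.Finite A E1] (u : E0 →ₗ[A] E1) :
    (LocCoh.HasSk 1 A E0 → LocCoh.HasSk 1 A (LinearMap.ker u)) ∧
    (Module.support A (LinearMap.ker u) ⊆ Module.support A E1 → LocCoh.HasSk 1 A E1 → LocCoh.HasSk 2 A E0 →
      LocCoh.HasSk 2 A (LinearMap.ker u)) := by
  classical
  -- local data at a prime
  have key : ∀ (p : Ideal A) [p.IsPrime],
      (1 ≤ depth (Localization.AtPrime p) (LocalizedModule p.primeCompl E0) →
        1 ≤ depth (Localization.AtPrime p) (LocalizedModule p.primeCompl (LinearMap.ker u))) ∧
      (2 ≤ depth (Localization.AtPrime p) (LocalizedModule p.primeCompl E0) →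
        1 ≤ depth (Localization.AtPrime p) (LocalizedModule p.primeCompl E1) →
        2 ≤ depth (Localization.AtPrime p) (LocalizedModule p.primeCompl (LinearMap.ker u))) ∧
      Module.supportDim (Localization.AtPrime p) (LocalizedModule p.primeCompl (LinearMap.ker u)) ≤
        Module.supportDim (Localization.AtPrime p) (LocalizedModule p.primeCompl E0) := by
    intro p _
    have h := Groth.Agent.S18700.result (Localization.AtPrime p)
      (IsLocalRing.maximalIdeal (Localization.AtPrime p))
      (LocalizedModule p.primeCompl E0) (LocalizedModule p.primeCompl E1)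
      (LocalizedModule.map p.primeCompl u)
    have hd : depth (Localization.AtPrime p) (LocalizedModule p.primeCompl (LinearMap.ker u)) =
        idealDepth (IsLocalRing.maximalIdeal (Localization.AtPrime p))
          (LinearMap.ker (LocalizedModule.map p.primeCompl u)) :=
      Depth.idealDepth_congr _ (kerLocEquiv p u)
    rw [hd]
    refine ⟨h.1, h.2, ?_⟩
    rw [Module.supportDim_eq_of_equiv (kerLocEquiv p u)]
    exact Module.supportDim_le_of_injective (Submodule.subtype _) (Submodule.injective_subtype _)
  refine ⟨fun hS p _ => ?_, fun hsupp hS1 hS0 p _ => ?_⟩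
  · obtain ⟨k1, -, ks⟩ := key p
    have h0 := hS p
    by_cases hd : 1 ≤ depth (Localization.AtPrime p) (LocalizedModule p.primeCompl E0)
    · exact (min_le_left _ _).trans ((one_le_coe_iff _).2 (k1 hd))
    · rw [min_le_iff] at h0
      rcases h0 with h0 | h0
      · exact absurd ((one_le_coe_iff _).1 h0) hd
      · exact (min_le_right _ _).trans (ks.trans (h0.trans ((coe_le_zero_of _ hd).trans
          (coe_nonneg' _))))
  · obtain ⟨k1, k2, ks⟩ := key p
    have h0 := hS0 p
    have h1 := hS1 p
    have ks1 := supportDim_loc_le_of_support_subset p hsupp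
    by_cases hd0 : 2 ≤ depth (Localization.AtPrime p) (LocalizedModule p.primeCompl E0)
    · by_cases hd1 : 1 ≤ depth (Localization.AtPrime p) (LocalizedModule p.primeCompl E1)
      · exact (min_le_left _ _).trans ((two_le_coe_iff _).2 (k2 hd0 hd1))
      · rw [min_le_iff] at h1
        rcases h1 with h1 | h1
        · exact absurd ((one_le_coe_iff _).1 h1) hd1
        · exact (min_le_right _ _).trans (ks1.trans (h1.trans ((coe_le_zero_of _ hd1).trans
            (coe_nonneg' _))))
    · rw [min_le_iff] at h0
      rcases h0 with h0 | h0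
      · exact absurd ((two_le_coe_iff _).1 h0) hd0
      · by_cases hd0' : 1 ≤ depth (Localization.AtPrime p) (LocalizedModule p.primeCompl E0)
        · -- depth E0_p = 1
          have hle1 : depth (Localization.AtPrime p) (LocalizedModule p.primeCompl E0) ≤ 1 := by
            rw [not_le] at hd0
            have : (2 : ℕ∞) = 1 + 1 := by norm_num
            rw [this] at hd0
            exact (ENat.lt_add_one_iff (by simp)).1 hd0
          have hG1 := k1 hd0'
          refine (min_le_right _ _).trans (ks.trans (h0.trans ?_))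
          exact WithBot.coe_le_coe.2 (hle1.trans hG1)
        · exact (min_le_right _ _).trans (ks.trans (h0.trans ((coe_le_zero_of _ hd0').trans
            (coe_nonneg' _))))

end Groth.Agent.S18701
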