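import Groth.Statements.S18704
import Mathlib
import Groth.Agent.Lib.helper28.ReflDepth2
import Groth.Agent.Lib.helper9.Depth8
import Groth.Agent.S18699
import Groth.Agent.S18724

set_option autoImplicit false
universe u
open QGor

namespace Groth.Agent.S18704

theorem c2 (a : ℕ∞) : (2 : WithBot ℕ∞) ≤ (a : WithBot ℕ∞) ↔ (2 : ℕ∞) ≤ a := by
  have : (2 : WithBot ℕ∞) = ((2 : ℕ∞) : WithBot ℕ∞) := rfl
  rw [this, WithBot.coe_le_coe]

theorem c1 (a : ℕ∞) : ((2 : ℕ) : WithBot ℕ∞) ≤ (a : WithBot ℕ∞) ↔ (2 : ℕ∞) ≤ a := by
  have : ((2 : ℕ) : WithBot ℕ∞) = ((2 : ℕ∞) : WithBot ℕ∞) := rfl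
  rw [this, WithBot.coe_le_coe]

/-- Affine form. Let A be a Noetherian ring with Serre's condition (S_2), I an ideal with ht I ≥ 2
(every prime containing I has height ≥ 2), and G a finite A-module with G_p reflexive for every
prime p not containing I. Then the following are equivalent: (i) G has (S_2) and dim Supp(G_p) ≥ 2
for every prime p ⊇ I in Supp G; (ii) depth_I G ≥ 2; (iii) G is reflexive. -/
theorem result (A : Type u) [CommRing A] [IsNoetherianRing A]
    (hA : LocCoh.HasSk 2 A A) (I : Ideal A) (hI : 2 ≤ I.height)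
    (G : Type u) [AddCommGroup G] [Module A G] [Module.Finite A G]
    (hU : ∀ p : PrimeSpectrum A, ¬ I ≤ p.asIdeal →
      Module.IsReflexive (Localization.AtPrime p.asIdeal) (LocalizedModule p.asIdeal.primeCompl G)) :
    ((LocCoh.HasSk 2 A G ∧ ∀ p : PrimeSpectrum A, I ≤ p.asIdeal → p ∈ Module.support A G →
        (2 : WithBot ℕ∞) ≤ Module.supportDim (Localization.AtPrime p.asIdeal) (LocalizedModule p.asIdeal.primeCompl G)) ↔
      2 ≤ LocCoh.idealDepth I G) ∧
    (2 ≤ LocCoh.idealDepth I G ↔ Module.IsReflexive A G) := by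
  open Groth.Agent.Lib.helper28.ReflDepth Groth.Agent.Lib.helper9 in
  -- depth_I A ≥ 2
  have hAI : 2 ≤ LocCoh.idealDepth I A := by
    have := Groth.Agent.S18699.result 2 A A I hA (by
      intro p hp _
      have h1 : Module.supportDim (Localization.AtPrime p.asIdeal)
          (LocalizedModule p.asIdeal.primeCompl A) = ((p.asIdeal.height : ℕ∞) : WithBot ℕ∞) := by
        rw [Module.supportDim_eq_of_equiv (Depth.localizedModuleSelfEquiv p.asIdeal),
          Depth.supportDim_self_localization]
      rw [h1]
      have h2 : (2 : ℕ∞) ≤ p.asIdeal.height := hI.trans (Ideal.height_mono hp)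
      exact (c1 _).2 h2)
    exact_mod_cast this
  have hAI1 : 1 ≤ LocCoh.idealDepth I A := le_trans (by norm_num) hAI
  refine ⟨⟨?_, ?_⟩, ⟨?_, ?_⟩⟩
  · rintro ⟨hS, hcodim⟩
    have := Groth.Agent.S18699.result 2 A G I hS hcodim
    exact_mod_cast this
  · intro hG
    refine ⟨?_, ?_⟩
    · intro p _
      by_cases hIp : I ≤ p
      · have h1 := Depth.idealDepth_le_depth_localization I G p hIp
        have h2 : (2 : ℕ∞) ≤ LocCoh.depth (Localization.AtPrime p)
            (LocalizedModule p.primeCompl G) := hG.trans h1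
        refine (min_le_left _ _).trans ?_
        exact (c1 _).2 h2
      · haveI := hU ⟨p, inferInstance⟩ hIp
        set B := Localization.AtPrime p
        set X := LocalizedModule p.primeCompl G
        have hS := hA p
        rw [Module.supportDim_eq_of_equiv (Depth.localizedModuleSelfEquiv p),
          Depth.depth_localizedModule_self, Module.supportDim_self_eq_ringKrullDim] at hS
        have hd : LocCoh.depth B X = LocCoh.depth B (Module.Dual B X →ₗ[B] B) :=
          Depth.idealDepth_congr _ (Module.evalEquiv B X)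
        have hs : Module.supportDim B X ≤ ringKrullDim B := Module.supportDim_le_ringKrullDim _ _
        rw [hd]
        have h1 : min ((2 : ℕ) : WithBot ℕ∞) (Module.supportDim B X) ≤
            min ((2 : ℕ) : WithBot ℕ∞) ((LocCoh.depth B B : ℕ∞) : WithBot ℕ∞) :=
          le_min (min_le_left _ _) ((min_le_min_left _ hs).trans hS)
        refine h1.trans ?_
        have h2 := min_le_idealDepth_hom (IsLocalRing.maximalIdeal B) (Module.Dual B X) B 2
          (Or.inr rfl)
        have h3 : min ((2 : ℕ) : WithBot ℕ∞) ((LocCoh.depth B B : ℕ∞) : WithBot ℕ∞) =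
            ((min ((2 : ℕ) : ℕ∞) (LocCoh.depth B B) : ℕ∞) : WithBot ℕ∞) := by
          rw [WithBot.coe_min]
          rfl
        rw [h3]
        exact WithBot.coe_le_coe.2 h2
    · intro p hp hsupp
      have h1 := Groth.Agent.S18724.result A G I p hp hsupp
      refine le_trans ?_ h1
      exact (c2 _).2 hG
  · intro hG
    exact isReflexive_of_idealDepth_two I hAI1 G hU hG
  · intro hrefl
    exact two_le_idealDepth_of_isReflexive I G hAI

end Groth.Agent.S18704
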