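import Groth.Statements.S18731
import Groth.Agent.Lib.helper6.IdealComap

set_option autoImplicit false
universe u
open CategoryTheory CategoryTheory.Limits AlgebraicGeometry TopologicalSpace
open ModPair

namespace Groth.Agent.S18731



/-- Let I on X and J on Y be quasi-coherent ideal sheaves of effective Cartier divisors and f : X ⟶ Y a
morphism satisfying the modulus condition I ≤ J.comap f (the closed subscheme J ×_Y X of X lies
inside the closed subscheme cut out by I). Then the pull-back of the divisor of J along f is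
defined: J.comap f is the ideal sheaf of an effective Cartier divisor on X. -/
theorem result {X Y : Scheme.{u}} (I : X.IdealSheafData)
    (J : Y.IdealSheafData) (hI : BlowUp.IsEffCartierIdeal I) (hJ : BlowUp.IsEffCartierIdeal J)
    (f : X ⟶ Y) (hf : ModPair.IsAmbient I J f) : BlowUp.IsEffCartierIdeal (J.comap f) := by
  intro x
  obtain ⟨V, hV, g, hg, hgV⟩ := hJ (f x)
  obtain ⟨U₁, hxU₁, a, ha, haU₁⟩ := hI x
  -- shrink to a basic open inside the preimage of V
  obtain ⟨r, hrle, hxr⟩ := U₁.2.exists_basicOpen_le (V := f ⁻¹ᵁ V.1) ⟨x, hV⟩ hxU₁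
  let U : X.affineOpens := X.affineBasicOpen r
  have hUV : U.1 ≤ f ⁻¹ᵁ V.1 := hrle
  haveI := U₁.2.isLocalization_basicOpen r
  let a' : Γ(X, U.1) := algebraMap Γ(X, U₁.1) Γ(X, X.basicOpen r) a
  have hIU : I.ideal U = Ideal.span {a'} := by
    rw [← I.map_ideal_basicOpen U₁ r, haU₁, Ideal.map_span, Set.image_singleton]
    rfl
  have hanzd : a' ∈ nonZeroDivisors Γ(X, U.1) :=
    IsLocalization.map_nonZeroDivisors_le (Submonoid.powers r) Γ(X, X.basicOpen r)
      (Submonoid.mem_map_of_mem _ ha)
  have hcomap := Groth.Agent.Lib.helper6.comap_ideal_of_le f J U V hUV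
  rw [hgV, Ideal.map_span, Set.image_singleton] at hcomap
  refine ⟨U, hxr, (f.appLE V.1 U.1 hUV).hom g, ?_, hcomap⟩
  have hle : I.ideal U ≤ (J.comap f).ideal U := hf U
  have hmem : a' ∈ (J.comap f).ideal U :=
    hle (by rw [hIU]; exact Ideal.subset_span rfl)
  rw [hcomap] at hmem
  obtain ⟨c, hc⟩ := Ideal.mem_span_singleton'.mp hmem
  rw [mem_nonZeroDivisors_iff_right]
  intro b hb
  apply (mem_nonZeroDivisors_iff_right.mp hanzd)
  rw [← hc]
  calc b * (c * (f.appLE V.1 U.1 hUV).hom g) = c * (b * (f.appLE V.1 U.1 hUV).hom g) := by ring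
    _ = 0 := by rw [hb, mul_zero]

end Groth.Agent.S18731
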