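import Groth.Statements.S18736
import Mathlib
import Groth.Agent.S18749

set_option autoImplicit false
universe u
open CategoryTheory CategoryTheory.Limits AlgebraicGeometry TopologicalSpace
open ModPair

namespace Groth.Agent.S18736


open Groth.Agent.Lib.helper26.CartCompl

/-- With the minimal-case product: let (S, I_S), (T, I_T), (X, I_X) be schemes equipped with
quasi-coherent ideal sheaves of effective Cartier divisors, p : X ⟶ S a morphism satisfying the
modulus condition I_X ≤ I_S.comap p, and f : T ⟶ S a minimal morphism, I_T = I_S.comap f. Let Y be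
the scheme-theoretic image in X ×_S T of the open pr₁⁻¹(X°) ∩ pr₂⁻¹(T°) (X°, T° the open complements
of the supports of I_X, I_T), with projections r : Y ⟶ X and q : Y ⟶ T, and put I_Y := I_X.comap r.
Then I_Y is the ideal sheaf of an effective Cartier divisor, q satisfies the modulus condition I_Y ≤
I_T.comap q, and (Y, I_Y) with q and r is the fibre product of (T, I_T) and (X, I_X) over (S, I_S)
among modulus pairs and morphisms satisfying the modulus condition: for every scheme W with the
ideal sheaf I_W of an effective Cartier divisor and morphisms a : W ⟶ T, b : W ⟶ X with I_W ≤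
I_T.comap a, I_W ≤ I_X.comap b and a ≫ f = b ≫ p, there is a unique c : W ⟶ Y with c ≫ q = a, c ≫ r
= b and I_W ≤ I_Y.comap c. -/
theorem result {S T X : Scheme.{u}} (IS : S.IdealSheafData)
    (IT : T.IdealSheafData) (IX : X.IdealSheafData) (hS : BlowUp.IsEffCartierIdeal IS)
    (hT : BlowUp.IsEffCartierIdeal IT) (hX : BlowUp.IsEffCartierIdeal IX)
    (p : X ⟶ S) (hp : ModPair.IsAmbient IX IS p) (f : T ⟶ S) (hf : ModPair.IsMinimal IT IS f) :
    BlowUp.IsEffCartierIdeal (IX.comap (ModPair.mprodι p f IX IT ≫ pullback.fst p f)) ∧
      ModPair.IsAmbient (IX.comap (ModPair.mprodι p f IX IT ≫ pullback.fst p f)) IT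
        (ModPair.mprodι p f IX IT ≫ pullback.snd p f) ∧
      ∀ (W : Scheme.{u}) (IW : W.IdealSheafData), BlowUp.IsEffCartierIdeal IW →
        ∀ (a : W ⟶ T) (b : W ⟶ X), ModPair.IsAmbient IW IT a → ModPair.IsAmbient IW IX b →
          a ≫ f = b ≫ p →
          ∃! c : W ⟶ ModPair.mprod p f IX IT,
            c ≫ ModPair.mprodι p f IX IT ≫ pullback.snd p f = a ∧
              c ≫ ModPair.mprodι p f IX IT ≫ pullback.fst p f = b ∧
              ModPair.IsAmbient IW (IX.comap (ModPair.mprodι p f IX IT ≫ pullback.fst p f)) c := by
  haveI hqc := Groth.Agent.S18749.quasiCompact_prodInterior p f IX IT hX hT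
  have hIT : IT = IS.comap f := hf
  refine ⟨?_, ?_, ?_⟩
  · exact Groth.Agent.S18749.effCartier_comap_image (ModPair.prodInterior p f IX IT)
      (pullback.fst p f) IX hX (fun z hz => hz.1)
  · show IX.comap (ModPair.mprodι p f IX IT ≫ pullback.fst p f) ≤
      IT.comap (ModPair.mprodι p f IX IT ≫ pullback.snd p f)
    generalize ModPair.mprodι p f IX IT = ιY
    have h0 : IX.comap (ιY ≫ pullback.fst p f) ≤ (IS.comap p).comap (ιY ≫ pullback.fst p f) :=
      Scheme.IdealSheafData.comap_mono (ιY ≫ pullback.fst p f) (show IX ≤ IS.comap p from hp)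
    have h1 : IT.comap (ιY ≫ pullback.snd p f) = (IS.comap p).comap (ιY ≫ pullback.fst p f) := by
      calc IT.comap (ιY ≫ pullback.snd p f)
          = (IS.comap f).comap (ιY ≫ pullback.snd p f) :=
            congrArg (fun L => Scheme.IdealSheafData.comap L (ιY ≫ pullback.snd p f)) hIT
        _ = IS.comap ((ιY ≫ pullback.snd p f) ≫ f) := (Scheme.IdealSheafData.comap_comp _ _ _).symm
        _ = IS.comap ((ιY ≫ pullback.fst p f) ≫ p) := by
            rw [Category.assoc, Category.assoc, pullback.condition]
        _ = (IS.comap p).comap (ιY ≫ pullback.fst p f) := Scheme.IdealSheafData.comap_comp _ _ _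
    rw [h1]
    exact h0
  · intro W IW hW a b ha hb hab
    have ha' : IW ≤ IT.comap a := ha
    have hb' : IW ≤ IX.comap b := hb
    -- the induced map to the fibre product
    have hlfst : pullback.lift b a hab.symm ≫ pullback.fst p f = b := pullback.lift_fst _ _ _
    have hlsnd : pullback.lift b a hab.symm ≫ pullback.snd p f = a := pullback.lift_snd _ _ _
    -- the complement of supp IW maps into the product of the interiors
    haveI hdom := dominant_compl_of_effCartier IW hW
    have hrange : Set.range (Scheme.Opens.ι IW.support.compl ≫ pullback.lift b a hab.symm) ⊆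
        Set.range (ModPair.prodInterior p f IX IT).ι := by
      rintro _ ⟨w, rfl⟩
      rw [Scheme.Opens.range_ι]
      have hw : w.1 ∉ IW.support := w.2
      constructor
      · show pullback.fst p f ((Scheme.Opens.ι IW.support.compl ≫ pullback.lift b a hab.symm) w) ∉
          IX.support
        rw [← Scheme.Hom.comp_apply, Category.assoc, hlfst]
        intro hmem
        apply hw
        have h1 : w.1 ∈ (IX.comap b).support := by
          rw [Scheme.IdealSheafData.support_comap]; exact hmem
        exact Scheme.IdealSheafData.support_antitone hb' h1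
      · show pullback.snd p f ((Scheme.Opens.ι IW.support.compl ≫ pullback.lift b a hab.symm) w) ∉
          IT.support
        rw [← Scheme.Hom.comp_apply, Category.assoc, hlsnd]
        intro hmem
        apply hw
        have h1 : w.1 ∈ (IT.comap a).support := by
          rw [Scheme.IdealSheafData.support_comap]; exact hmem
        exact Scheme.IdealSheafData.support_antitone ha' h1
    have hfac := IsOpenImmersion.lift_fac (ModPair.prodInterior p f IX IT).ι
      (Scheme.Opens.ι IW.support.compl ≫ pullback.lift b a hab.symm) hrange
    have hker : (ModPair.prodInterior p f IX IT).ι.ker ≤ (pullback.lift b a hab.symm).ker := by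
      calc (ModPair.prodInterior p f IX IT).ι.ker
          ≤ (IsOpenImmersion.lift (ModPair.prodInterior p f IX IT).ι
              (Scheme.Opens.ι IW.support.compl ≫ pullback.lift b a hab.symm) hrange ≫
                (ModPair.prodInterior p f IX IT).ι).ker := Scheme.Hom.le_ker_comp _ _
        _ = (Scheme.Opens.ι IW.support.compl ≫ pullback.lift b a hab.symm).ker := by rw [hfac]
        _ = (pullback.lift b a hab.symm).ker := by
            rw [Scheme.Hom.ker_comp, Scheme.Hom.ker_eq_bot, Scheme.IdealSheafData.map_bot]
    have hker' : (ModPair.mprodι p f IX IT).ker ≤ (pullback.lift b a hab.symm).ker := by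
      rw [Scheme.IdealSheafData.ker_subschemeι]; exact hker
    have hc := IsClosedImmersion.lift_fac (ModPair.mprodι p f IX IT)
      (pullback.lift b a hab.symm) hker'
    refine ⟨IsClosedImmersion.lift (ModPair.mprodι p f IX IT) (pullback.lift b a hab.symm) hker',
      ⟨?_, ?_, ?_⟩, ?_⟩
    · rw [← Category.assoc, hc, hlsnd]
    · rw [← Category.assoc, hc, hlfst]
    · show IW ≤ (IX.comap (ModPair.mprodι p f IX IT ≫ pullback.fst p f)).comap _
      rw [← Scheme.IdealSheafData.comap_comp, ← Category.assoc, hc, hlfst]
      exact hb'
    · rintro c' ⟨hc'1, hc'2, -⟩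
      rw [← cancel_mono (ModPair.mprodι p f IX IT), hc]
      apply pullback.hom_ext
      · rw [hlfst, Category.assoc]; exact hc'2
      · rw [hlsnd, Category.assoc]; exact hc'1

end Groth.Agent.S18736
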