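import Groth.Statements.S18755
import Mathlib
import Groth.Agent.S18749

set_option autoImplicit false
universe u
open CategoryTheory CategoryTheory.Limits AlgebraicGeometry TopologicalSpace
open ModPair

namespace Groth.Agent.S18755


open Groth.Agent.Lib.helper26.CartCompl
open Groth.Agent.H22.BlowUpU Groth.Agent.H22.BlowUpMul Groth.Agent.H22.CartierFlat

/-- A morphism mapping the complement of an effective Cartier divisor into an open `O` factors
through the scheme-theoretic closure of `O`. -/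
theorem ker_le_of_compl_maps_into {P W : Scheme.{u}} (O : P.Opens) (l : W ⟶ P)
    (IW : W.IdealSheafData) (hW : BlowUp.IsEffCartierIdeal IW)
    (hl : ∀ w : W, w ∉ IW.support → l w ∈ O) : O.ι.ker ≤ l.ker := by
  haveI hdom := dominant_compl_of_effCartier IW hW
  have hrange : Set.range (Scheme.Opens.ι IW.support.compl ≫ l) ⊆ Set.range O.ι := by
    rintro _ ⟨w, rfl⟩
    rw [Scheme.Opens.range_ι]
    exact hl w.1 w.2
  have hfac := IsOpenImmersion.lift_fac O.ι (Scheme.Opens.ι IW.support.compl ≫ l) hrange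
  calc O.ι.ker
      ≤ (IsOpenImmersion.lift O.ι (Scheme.Opens.ι IW.support.compl ≫ l) hrange ≫ O.ι).ker :=
        Scheme.Hom.le_ker_comp _ _
    _ = (Scheme.Opens.ι IW.support.compl ≫ l).ker := by rw [hfac]
    _ = l.ker := by
        rw [Scheme.Hom.ker_comp, Scheme.Hom.ker_eq_bot, Scheme.IdealSheafData.map_bot]

/-- Effective Cartier ideals are cancellable. -/
theorem mul_right_cancel_effCartier {Y : Scheme.{u}} (A B C : Y.IdealSheafData)
    (hC : BlowUp.IsEffCartierIdeal C) (h : A * C = B * C) : A = B := by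
  choose N hyN c hc hCc using hC
  have hcover : ⨆ y, (N y).1 = ⊤ := top_le_iff.mp (fun y _ => by simpa using ⟨y, hyN y⟩)
  have key : ∀ (A B : Y.IdealSheafData), A * C = B * C → ∀ y, A.ideal (N y) ≤ B.ideal (N y) := by
    intro A B h y x hx
    have h1 : x * c y ∈ (A * C).ideal (N y) := by
      show x * c y ∈ A.ideal (N y) * C.ideal (N y)
      exact Ideal.mul_mem_mul hx (by rw [hCc y]; exact Ideal.mem_span_singleton_self _)
    rw [h] at h1
    have h2 : x * c y ∈ B.ideal (N y) * Ideal.span {c y} := by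
      rw [← hCc y]; exact h1
    obtain ⟨z, hz, hzc⟩ := Ideal.mem_mul_span_singleton.mp h2
    have h3 : (z - x) * c y = 0 := by rw [sub_mul, hzc, sub_self]
    have h4 := sub_eq_zero.mp ((mem_nonZeroDivisors_iff_right.mp (hc y)) _ h3)
    rw [← h4]; exact hz
  exact Scheme.IdealSheafData.ext_of_iSup_eq_top N hcover
    (fun y => le_antisymm (key A B h y) (key B A h.symm y))

/-- Let (S₀, I₀), (S₁, I₁), (T, J), (X, I) be schemes with quasi-coherent ideal sheaves of effective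
Cartier divisors, f : X ⟶ S₁, g : T ⟶ S₁ and σ : S₁ ⟶ S₀ morphisms satisfying the modulus condition,
and let (Y₁, K₁) with π₁ and (Y₀, K₀) with π₀ be ambient products of (X, I) and (T, J) over S₁ and
over S₀ (the latter for f ≫ σ and g ≫ σ): blow-ups of the scheme-theoretic image of the product of
the interiors inside X ×_{S₁} T, resp. X ×_{S₀} T, in the intersection of the pulled-back moduli,
with K·E = D_X·D_T. Then the ambient product is functorial in the base: there is a unique morphism φ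
: Y₁ ⟶ Y₀ compatible with the maps to X ×_{S₀} T (through the canonical X ×_{S₁} T ⟶ X ×_{S₀} T),
and every such φ is minimal, K₁ = K₀.comap φ. -/
theorem result {S₀ S₁ T X Y₁ Y₀ : Scheme.{u}} (I₀ : S₀.IdealSheafData)
    (I₁ : S₁.IdealSheafData) (J : T.IdealSheafData) (I : X.IdealSheafData)
    (h₀ : BlowUp.IsEffCartierIdeal I₀) (h₁ : BlowUp.IsEffCartierIdeal I₁)
    (hT : BlowUp.IsEffCartierIdeal J) (hX : BlowUp.IsEffCartierIdeal I)
    (f : X ⟶ S₁) (hf : ModPair.IsAmbient I I₁ f) (g : T ⟶ S₁) (hg : ModPair.IsAmbient J I₁ g)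
    (σ : S₁ ⟶ S₀) (hσ : ModPair.IsAmbient I₁ I₀ σ)
    (π₁ : Y₁ ⟶ ModPair.mprod f g I J) (K₁ : Y₁.IdealSheafData) (hY₁ : ModPair.IsAmbProd f g I J π₁ K₁)
    (π₀ : Y₀ ⟶ ModPair.mprod (f ≫ σ) (g ≫ σ) I J) (K₀ : Y₀.IdealSheafData)
    (hY₀ : ModPair.IsAmbProd (f ≫ σ) (g ≫ σ) I J π₀ K₀) :
    (∃! φ : Y₁ ⟶ Y₀, φ ≫ π₀ ≫ ModPair.mprodι (f ≫ σ) (g ≫ σ) I J =
        π₁ ≫ ModPair.mprodι f g I J ≫ pullback.mapDesc f g σ) ∧
      ∀ φ : Y₁ ⟶ Y₀, φ ≫ π₀ ≫ ModPair.mprodι (f ≫ σ) (g ≫ σ) I J =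
          π₁ ≫ ModPair.mprodι f g I J ≫ pullback.mapDesc f g σ →
        ModPair.IsMinimal K₁ K₀ φ := by
  obtain ⟨hπ₁, hK₁⟩ := hY₁
  obtain ⟨hπ₀, hK₀⟩ := hY₀
  have hfσ : ModPair.IsAmbient I I₀ (f ≫ σ) := by
    show I ≤ I₀.comap (f ≫ σ)
    rw [Scheme.IdealSheafData.comap_comp]
    exact le_trans hf (Scheme.IdealSheafData.comap_mono f (show I₁ ≤ I₀.comap σ from hσ))
  haveI hqc₁ := Groth.Agent.S18749.quasiCompact_prodInterior f g I J hX hT
  haveI hqc₀ := Groth.Agent.S18749.quasiCompact_prodInterior (f ≫ σ) (g ≫ σ) I J hX hT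
  have hmfst : pullback.mapDesc f g σ ≫ pullback.fst (f ≫ σ) (g ≫ σ) = pullback.fst f g := by
    show pullback.lift _ _ _ ≫ _ = _
    rw [pullback.lift_fst, Category.comp_id]
  have hmsnd : pullback.mapDesc f g σ ≫ pullback.snd (f ≫ σ) (g ≫ σ) = pullback.snd f g := by
    show pullback.lift _ _ _ ≫ _ = _
    rw [pullback.lift_snd, Category.comp_id]
  -- pulled back moduli on the closure Ȳ₁
  have hI₁₀ : BlowUp.IsEffCartierIdeal (I.comap (ModPair.mprodι f g I J ≫ pullback.fst f g)) :=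
    Groth.Agent.S18749.effCartier_comap_image (ModPair.prodInterior f g I J) (pullback.fst f g) I hX
      (fun z hz => hz.1)
  have hJ₁₀ : BlowUp.IsEffCartierIdeal (J.comap (ModPair.mprodι f g I J ≫ pullback.snd f g)) :=
    Groth.Agent.S18749.effCartier_comap_image (ModPair.prodInterior f g I J) (pullback.snd f g) J hT
      (fun z hz => hz.2)
  have hIJ := effCartier_mul _ _ hI₁₀ hJ₁₀
  -- ψ : Ȳ₁ → Ȳ₀
  have hker : (ModPair.prodInterior (f ≫ σ) (g ≫ σ) I J).ι.ker ≤
      (ModPair.mprodι f g I J ≫ pullback.mapDesc f g σ).ker := by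
    apply ker_le_of_compl_maps_into _ _ _ hIJ
    intro w hw
    have hw' : ¬ (w ∈ (I.comap (ModPair.mprodι f g I J ≫ pullback.fst f g)).support ∨
        w ∈ (J.comap (ModPair.mprodι f g I J ≫ pullback.snd f g)).support) := hw
    rw [Scheme.IdealSheafData.support_comap, Scheme.IdealSheafData.support_comap] at hw'
    constructor
    · show pullback.fst (f ≫ σ) (g ≫ σ)
        ((ModPair.mprodι f g I J ≫ pullback.mapDesc f g σ) w) ∉ I.support
      rw [← Scheme.Hom.comp_apply, Category.assoc, hmfst]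
      exact fun h => hw' (Or.inl h)
    · show pullback.snd (f ≫ σ) (g ≫ σ)
        ((ModPair.mprodι f g I J ≫ pullback.mapDesc f g σ) w) ∉ J.support
      rw [← Scheme.Hom.comp_apply, Category.assoc, hmsnd]
      exact fun h => hw' (Or.inr h)
  have hker' : (ModPair.mprodι (f ≫ σ) (g ≫ σ) I J).ker ≤
      (ModPair.mprodι f g I J ≫ pullback.mapDesc f g σ).ker := by
    rw [Scheme.IdealSheafData.ker_subschemeι]; exact hker
  have hψ := IsClosedImmersion.lift_fac (ModPair.mprodι (f ≫ σ) (g ≫ σ) I J)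
    (ModPair.mprodι f g I J ≫ pullback.mapDesc f g σ) hker'
  -- pull-backs of the two moduli along any φ compatible with the maps to P₀
  have hpullI : ∀ φ : Y₁ ⟶ Y₀, φ ≫ π₀ ≫ ModPair.mprodι (f ≫ σ) (g ≫ σ) I J =
      π₁ ≫ ModPair.mprodι f g I J ≫ pullback.mapDesc f g σ →
      ((I.comap (ModPair.mprodι (f ≫ σ) (g ≫ σ) I J ≫
        pullback.fst (f ≫ σ) (g ≫ σ))).comap π₀).comap φ =
      (I.comap (ModPair.mprodι f g I J ≫ pullback.fst f g)).comap π₁ := by
    intro φ hφ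
    rw [← Scheme.IdealSheafData.comap_comp, ← Scheme.IdealSheafData.comap_comp,
      ← Scheme.IdealSheafData.comap_comp]
    congr 1
    calc φ ≫ π₀ ≫ ModPair.mprodι (f ≫ σ) (g ≫ σ) I J ≫ pullback.fst (f ≫ σ) (g ≫ σ)
        = (φ ≫ π₀ ≫ ModPair.mprodι (f ≫ σ) (g ≫ σ) I J) ≫ pullback.fst (f ≫ σ) (g ≫ σ) := by
          simp only [Category.assoc]
      _ = π₁ ≫ ModPair.mprodι f g I J ≫ pullback.fst f g := by
          rw [hφ]; simp only [Category.assoc]; rw [hmfst]
  have hpullJ : ∀ φ : Y₁ ⟶ Y₀, φ ≫ π₀ ≫ ModPair.mprodι (f ≫ σ) (g ≫ σ) I J =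
      π₁ ≫ ModPair.mprodι f g I J ≫ pullback.mapDesc f g σ →
      ((J.comap (ModPair.mprodι (f ≫ σ) (g ≫ σ) I J ≫
        pullback.snd (f ≫ σ) (g ≫ σ))).comap π₀).comap φ =
      (J.comap (ModPair.mprodι f g I J ≫ pullback.snd f g)).comap π₁ := by
    intro φ hφ
    rw [← Scheme.IdealSheafData.comap_comp, ← Scheme.IdealSheafData.comap_comp,
      ← Scheme.IdealSheafData.comap_comp]
    congr 1
    calc φ ≫ π₀ ≫ ModPair.mprodι (f ≫ σ) (g ≫ σ) I J ≫ pullback.snd (f ≫ σ) (g ≫ σ)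
        = (φ ≫ π₀ ≫ ModPair.mprodι (f ≫ σ) (g ≫ σ) I J) ≫ pullback.snd (f ≫ σ) (g ≫ σ) := by
          simp only [Category.assoc]
      _ = π₁ ≫ ModPair.mprodι f g I J ≫ pullback.snd f g := by
          rw [hφ]; simp only [Category.assoc]; rw [hmsnd]
  have hpullC : ∀ φ : Y₁ ⟶ Y₀, φ ≫ π₀ ≫ ModPair.mprodι (f ≫ σ) (g ≫ σ) I J =
      π₁ ≫ ModPair.mprodι f g I J ≫ pullback.mapDesc f g σ →
      ((ModPair.prodCentre (f ≫ σ) (g ≫ σ) I J).comap π₀).comap φ =
      (ModPair.prodCentre f g I J).comap π₁ := by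
    intro φ hφ
    unfold ModPair.prodCentre
    rw [Scheme.IdealSheafData.comap_sup, Scheme.IdealSheafData.comap_sup,
      Scheme.IdealSheafData.comap_sup, hpullI φ hφ, hpullJ φ hφ]
  constructor
  · -- existence and uniqueness
    have hcart : BlowUp.IsEffCartierIdeal ((ModPair.prodCentre (f ≫ σ) (g ≫ σ) I J).comap
        (π₁ ≫ IsClosedImmersion.lift (ModPair.mprodι (f ≫ σ) (g ≫ σ) I J)
          (ModPair.mprodι f g I J ≫ pullback.mapDesc f g σ) hker')) := by
      unfold ModPair.prodCentre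
      rw [Scheme.IdealSheafData.comap_sup, ← Scheme.IdealSheafData.comap_comp,
        ← Scheme.IdealSheafData.comap_comp]
      have e1 : (π₁ ≫ IsClosedImmersion.lift (ModPair.mprodι (f ≫ σ) (g ≫ σ) I J)
          (ModPair.mprodι f g I J ≫ pullback.mapDesc f g σ) hker') ≫
          ModPair.mprodι (f ≫ σ) (g ≫ σ) I J ≫ pullback.fst (f ≫ σ) (g ≫ σ) =
          π₁ ≫ ModPair.mprodι f g I J ≫ pullback.fst f g := by
        rw [Category.assoc, ← Category.assoc (IsClosedImmersion.lift _ _ _), hψ]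
        simp only [Category.assoc]; rw [hmfst]
      have e2 : (π₁ ≫ IsClosedImmersion.lift (ModPair.mprodι (f ≫ σ) (g ≫ σ) I J)
          (ModPair.mprodι f g I J ≫ pullback.mapDesc f g σ) hker') ≫
          ModPair.mprodι (f ≫ σ) (g ≫ σ) I J ≫ pullback.snd (f ≫ σ) (g ≫ σ) =
          π₁ ≫ ModPair.mprodι f g I J ≫ pullback.snd f g := by
        rw [Category.assoc, ← Category.assoc (IsClosedImmersion.lift _ _ _), hψ]
        simp only [Category.assoc]; rw [hmsnd]
      rw [e1, e2, Scheme.IdealSheafData.comap_comp I π₁, Scheme.IdealSheafData.comap_comp J π₁,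
        ← Scheme.IdealSheafData.comap_sup]
      exact hπ₁.1
    obtain ⟨φ, hφ, hφuniq⟩ := hπ₀.2 Y₁ _ hcart
    refine ⟨φ, ?_, ?_⟩
    · show φ ≫ π₀ ≫ _ = _
      rw [← Category.assoc, hφ, Category.assoc, hψ]
    · intro φ' hφ'
      apply hφuniq
      show φ' ≫ π₀ = _
      rw [← cancel_mono (ModPair.mprodι (f ≫ σ) (g ≫ σ) I J), Category.assoc, hφ',
        Category.assoc, hψ]
  · intro φ hφ
    show K₁ = K₀.comap φ
    apply mul_right_cancel_effCartier _ _ _ hπ₁.1
    have h1 : K₀.comap φ * (ModPair.prodCentre f g I J).comap π₁ =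
        (K₀ * (ModPair.prodCentre (f ≫ σ) (g ≫ σ) I J).comap π₀).comap φ := by
      rw [comap_mul, hpullC φ hφ]
    rw [hK₁, h1, hK₀, comap_mul, hpullI φ hφ, hpullJ φ hφ]

end Groth.Agent.S18755
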