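import Groth.Statements.S1876
import Mathlib
import Groth.Agent.Lib.helper2.Lefschetz
-- import your own Groth.Agent.* helpers here

set_option autoImplicit false
universe u
open CategoryTheory
attribute [local instance] HasDerivedCategory.standard
open Trace

namespace Groth.Agent.S1876

/-- Commutative coefficient ring, finite free terms: let P and Q be bounded complexes of finite free
Λ-modules with chain endomorphisms f and g, and α : P ≅ Q an isomorphism in the derived category
D(Λ) with α ∘ f = g ∘ α there. Then Σ_i (−1)^i Tr(f^i | P^i) = Σ_i (−1)^i Tr(g^i | Q^i); that is,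
the trace of an endomorphism of a perfect object of D(Λ) is well defined. -/
theorem result (Λ : Type u) [CommRing Λ] (P Q : DRing.Cx Λ) (a b : ℤ) (hP : DRing.VanishesOutside P a b) (hQ : DRing.VanishesOutside Q a b) (hPf : DRing.TermwiseFiniteFree P) (hQf : DRing.TermwiseFiniteFree Q) (f : P ⟶ P) (g : Q ⟶ Q) (α : DRing.toD P ≅ DRing.toD Q) (h : α.hom ≫ DerivedCategory.Q.map g = DerivedCategory.Q.map f ≫ α.hom) : ∑ i ∈ Finset.Icc a b, ((i.negOnePow : ℤˣ) : ℤ) • LinearMap.trace Λ (P.X i) (f.f i).hom = ∑ i ∈ Finset.Icc a b, ((i.negOnePow : ℤˣ) : ℤ) • LinearMap.trace Λ (Q.X i) (g.f i).hom := by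
  have hproj : ∀ (E : DRing.Cx Λ), DRing.TermwiseFiniteFree E → ∀ n : ℤ, Projective (E.X n) := by
    intro E hE n
    have := (hE n).2
    exact (IsProjective.iff_projective (R := Λ) (E.X n)).1 Module.Projective.of_free
  have hKP : ∀ (E : DRing.Cx Λ), DRing.VanishesOutside E a b → DRing.TermwiseFiniteFree E →
      E.IsKProjective := by
    intro E hE hEf
    have : E.IsStrictlyLE b := by
      rw [CochainComplex.isStrictlyLE_iff]
      intro i hi
      exact hE i (Or.inr hi)
    have := hproj E hEf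
    exact CochainComplex.isKProjective_of_projective E b
  have := hKP P hP hPf
  have := hKP Q hQ hQf
  have hhom : ∀ {E S : DRing.Cx Λ} [E.IsKProjective] (x y : E ⟶ S),
      DerivedCategory.Q.map x = DerivedCategory.Q.map y → Nonempty (Homotopy x y) := by
    intro E S _ x y hxy
    obtain ⟨H⟩ := Groth.Agent.Lib.helper2.ProjAmp.nonempty_homotopy_zero_of_Q_map_eq_zero (x - y)
      (by rw [Functor.map_sub, hxy, sub_self])
    exact ⟨Homotopy.equivSubZero.symm H⟩
  obtain ⟨u, hu⟩ := Groth.Agent.Lib.helper2.ConeRep.exists_chain_map P Q α.hom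
  obtain ⟨v, hv⟩ := Groth.Agent.Lib.helper2.ConeRep.exists_chain_map Q P α.inv
  obtain ⟨H1⟩ := hhom (u ≫ v) (𝟙 P) (by rw [Functor.map_comp, hu, hv, α.hom_inv_id, CategoryTheory.Functor.map_id])
  obtain ⟨H2⟩ := hhom (v ≫ u) (𝟙 Q) (by rw [Functor.map_comp, hu, hv, α.inv_hom_id, CategoryTheory.Functor.map_id])
  obtain ⟨H3⟩ := hhom (f ≫ u) (u ≫ g) (by rw [Functor.map_comp, Functor.map_comp, hu, h])
  have e1 : Groth.Agent.Lib.helper2.Lefschetz.lef a b P f =
      Groth.Agent.Lib.helper2.Lefschetz.lef a b P (f ≫ u ≫ v) := by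
    apply Groth.Agent.Lib.helper2.Lefschetz.lef_eq_of_homotopy a b P hP hPf
    have := (H1.compLeft f).symm
    rwa [Category.comp_id] at this
  have e2 : Groth.Agent.Lib.helper2.Lefschetz.lef a b P (f ≫ u ≫ v) =
      Groth.Agent.Lib.helper2.Lefschetz.lef a b Q (v ≫ f ≫ u) := by
    rw [← Category.assoc]
    exact Groth.Agent.Lib.helper2.Lefschetz.lef_comm a b P Q hPf hQf (f ≫ u) v
  have e3 : Groth.Agent.Lib.helper2.Lefschetz.lef a b Q (v ≫ f ≫ u) =
      Groth.Agent.Lib.helper2.Lefschetz.lef a b Q (v ≫ u ≫ g) :=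
    Groth.Agent.Lib.helper2.Lefschetz.lef_eq_of_homotopy a b Q hQ hQf (H3.compLeft v)
  have e4 : Groth.Agent.Lib.helper2.Lefschetz.lef a b Q (v ≫ u ≫ g) =
      Groth.Agent.Lib.helper2.Lefschetz.lef a b Q g := by
    apply Groth.Agent.Lib.helper2.Lefschetz.lef_eq_of_homotopy a b Q hQ hQf
    have := H2.compRight g
    rwa [Category.id_comp, Category.assoc] at this
  exact e1.trans (e2.trans (e3.trans e4))

end Groth.Agent.S1876
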