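import Groth.Statements.S18790
import Mathlib

set_option autoImplicit false
universe u v w
open TorusGr

namespace Groth.Agent.S18790

/-- Let `A` be a commutative algebra over a field `k`, graded by an additive commutative group `M` (for
`M` the character group of a split torus `T`, a `T`-action on `Spec A`), let `J` be the ideal
generated by the homogeneous elements of non-zero degree (its zero locus is the fixed-point
subscheme) and let `m ⊇ J` be a maximal ideal with residue field `k` (a fixed rational point) at
which the fixed-point subscheme is the reduced point: `J` and `m` agree after localizing at `m`.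
Then the cotangent space `m/m²` has no part of weight zero: every degree-zero element of `m` lies in
`m²`. (The published statement has `M ≅ ℤ^r`, a split torus, and phrases the conclusion as the
non-vanishing of the weights of a semi-invariant basis of `m/m²`; here `M` is any additive
commutative group, i.e. any diagonalizable group.) -/
theorem result
    {k : Type u} [Field k] {M : Type v} [AddCommGroup M] [DecidableEq M]
    {A : Type w} [CommRing A] [Algebra k A] (𝒜 : M → Submodule k A) [GradedAlgebra 𝒜]
    (m : Ideal A) [m.IsMaximal] (hrat : Function.Surjective (algebraMap k (A ⧸ m)))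
    (hfix : ∀ i : M, i ≠ 0 → ∀ a ∈ 𝒜 i, a ∈ m)
    (hred : ∀ a ∈ m, ∃ s ∉ m, s * a ∈ Ideal.span {b : A | ∃ i : M, i ≠ 0 ∧ b ∈ 𝒜 i})
    {f : A} (hf0 : f ∈ 𝒜 0) (hfm : f ∈ m) : f ∈ m ^ 2 := by
  classical
  -- the degree zero component
  have hadd : ∀ (x y : A) (j : M), ((DirectSum.decompose 𝒜 (x + y) j : 𝒜 j) : A) =
      (DirectSum.decompose 𝒜 x j : A) + (DirectSum.decompose 𝒜 y j : A) := by
    intro x y j
    rw [DirectSum.decompose_add, DirectSum.add_apply, Submodule.coe_add]
  -- a - a₀ ∈ m
  have hsub : ∀ a : A, a - (DirectSum.decompose 𝒜 a 0 : A) ∈ m := by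
    intro a
    induction a using DirectSum.Decomposition.inductionOn 𝒜 with
    | zero => simp
    | @homogeneous i a =>
      by_cases hi : i = 0
      · subst hi
        rw [DirectSum.decompose_of_mem_same 𝒜 a.2, sub_self]
        exact m.zero_mem
      · rw [DirectSum.decompose_of_mem_ne 𝒜 a.2 hi, sub_zero]
        exact hfix i hi a a.2
    | add x y hx hy =>
      rw [hadd]
      have : x + y - ((DirectSum.decompose 𝒜 x 0 : A) + (DirectSum.decompose 𝒜 y 0 : A)) =
          (x - (DirectSum.decompose 𝒜 x 0 : A)) + (y - (DirectSum.decompose 𝒜 y 0 : A)) := by ring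
      rw [this]
      exact m.add_mem hx hy
  -- key claim
  have hJ : ∀ x ∈ Ideal.span {b : A | ∃ i : M, i ≠ 0 ∧ b ∈ 𝒜 i}, ∀ a : A,
      ((DirectSum.decompose 𝒜 (a * x) 0 : 𝒜 0) : A) ∈ m ^ 2 := by
    intro x hx
    induction hx using Submodule.span_induction with
    | mem b hb =>
      obtain ⟨i, hi, hbi⟩ := hb
      intro a
      have h1 : ((DirectSum.decompose 𝒜 (a * b) (-i + i) : 𝒜 (-i + i)) : A) =
          (DirectSum.decompose 𝒜 a (-i) : A) * b :=
        DirectSum.coe_decompose_mul_add_of_right_mem 𝒜 hbi
      have h2 : ((DirectSum.decompose 𝒜 (a * b) 0 : 𝒜 0) : A) =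
          (DirectSum.decompose 𝒜 a (-i) : A) * b := by
        rw [← h1]
        have : -i + i = 0 := neg_add_cancel i
        rw [this]
      rw [h2, pow_two]
      apply Ideal.mul_mem_mul
      · exact hfix (-i) (neg_ne_zero.mpr hi) _ (DirectSum.decompose 𝒜 a (-i)).2
      · exact hfix i hi b hbi
    | zero =>
      intro a
      simp
    | add x y _ _ hx hy =>
      intro a
      rw [mul_add, hadd]
      exact Ideal.add_mem _ (hx a) (hy a)
    | smul c x _ hx =>
      intro a
      rw [smul_eq_mul, ← mul_assoc]
      exact hx (a * c)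
  obtain ⟨s, hs, hsf⟩ := hred f hfm
  have h1 := hJ _ hsf 1
  rw [one_mul, DirectSum.coe_decompose_mul_of_right_mem_zero 𝒜 hf0] at h1
  set s₀ : A := (DirectSum.decompose 𝒜 s 0 : A) with hs₀
  have hs₀m : s₀ ∉ m := by
    intro h
    apply hs
    have := m.add_mem (hsub s) h
    rwa [sub_add_cancel] at this
  obtain ⟨t, i, hi, hti⟩ := Ideal.IsMaximal.exists_inv (inferInstance : m.IsMaximal) hs₀m
  have hf : f = t * (s₀ * f) + i * f := by
    calc f = (t * s₀ + i) * f := by rw [hti, one_mul]
      _ = _ := by ring
  rw [hf]
  apply Ideal.add_mem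
  · exact Ideal.mul_mem_left _ _ h1
  · rw [pow_two]
    exact Ideal.mul_mem_mul hi hfm

end Groth.Agent.S18790
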