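import Groth.Statements.S18791
import Mathlib

set_option autoImplicit false
universe u v w x
open TorusGr

namespace Groth.Agent.S18791

/-- Let `φ : B → A` be a degree-preserving homomorphism of commutative algebras over a field `k` graded
by an additive commutative group `M` (for `M` the character group of a split torus, an equivariant
morphism `Spec A → Spec B`), and let `m` be a maximal ideal of `A` containing all homogeneous
elements of non-zero degree (a fixed point). Then the ideal of those `b` whose image is zero in the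
local ring `A_m` is homogeneous: the homogeneous (weight) components of such a `b` again die in
`A_m`. Since `A_m` embeds in its completion when `A` is Noetherian, these are the elements of `B`
that die in the completed local ring. (The published lemma asserts moreover that, for `B = k[Y_1, …,
Y_d]` mapping the `Y_i` to semi-invariant lifts of a basis of `m/m²`, the kernel of the induced
surjection of completions `k[[Y]] → Â_m` is generated by semi-invariant polynomials; generation of
that kernel by polynomials can fail, so only the statement about polynomial elements of the kernel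
is recorded here. The published statement has `M ≅ ℤ^r` (a split torus) and `B` the polynomial ring
on the lifts; here `M` is any additive commutative group and `B` any `M`-graded `k`-algebra.) -/
theorem result
    {k : Type u} [Field k] {M : Type v} [AddCommGroup M] [DecidableEq M]
    {A : Type w} [CommRing A] [Algebra k A] (𝒜 : M → Submodule k A) [GradedAlgebra 𝒜]
    {B : Type x} [CommRing B] [Algebra k B] (ℬ : M → Submodule k B) [GradedAlgebra ℬ]
    (φ : B →ₐ[k] A) (hφ : ∀ i : M, ∀ b ∈ ℬ i, φ b ∈ 𝒜 i)
    (m : Ideal A) [m.IsMaximal] (hfix : ∀ i : M, i ≠ 0 → ∀ a ∈ 𝒜 i, a ∈ m) :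
    (RingHom.ker ((algebraMap A (Localization.AtPrime m)).comp (φ : B →+* A))).IsHomogeneous ℬ := by
  classical
  have hadd : ∀ (x y : A) (j : M), ((DirectSum.decompose 𝒜 (x + y) j : 𝒜 j) : A) =
      (DirectSum.decompose 𝒜 x j : A) + (DirectSum.decompose 𝒜 y j : A) := by
    intro x y j
    rw [DirectSum.decompose_add, DirectSum.add_apply, Submodule.coe_add]
  have haddB : ∀ (x y : B) (j : M), ((DirectSum.decompose ℬ (x + y) j : ℬ j) : B) =
      (DirectSum.decompose ℬ x j : B) + (DirectSum.decompose ℬ y j : B) := by
    intro x y j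
    rw [DirectSum.decompose_add, DirectSum.add_apply, Submodule.coe_add]
  -- a - a₀ ∈ m
  have hsub : ∀ a : A, a - (DirectSum.decompose 𝒜 a 0 : A) ∈ m := by
    intro a
    induction a using DirectSum.Decomposition.inductionOn 𝒜 with
    | zero => simp
    | @homogeneous i a =>
      by_cases hi : i = 0
      · subst hi
        rw [DirectSum.decompose_of_mem_same 𝒜 a.2, sub_self]
        exact m.zero_mem
      · rw [DirectSum.decompose_of_mem_ne 𝒜 a.2 hi, sub_zero]
        exact hfix i hi a a.2
    | add x y hx hy =>
      rw [hadd]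
      have : x + y - ((DirectSum.decompose 𝒜 x 0 : A) + (DirectSum.decompose 𝒜 y 0 : A)) =
          (x - (DirectSum.decompose 𝒜 x 0 : A)) + (y - (DirectSum.decompose 𝒜 y 0 : A)) := by ring
      rw [this]
      exact m.add_mem hx hy
  -- φ commutes with taking components
  have hdec : ∀ (b : B) (i : M), φ (DirectSum.decompose ℬ b i : B) =
      (DirectSum.decompose 𝒜 (φ b) i : A) := by
    intro b i
    induction b using DirectSum.Decomposition.inductionOn ℬ with
    | zero => simp
    | @homogeneous j b =>
      by_cases h : j = i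
      · subst h
        rw [DirectSum.decompose_of_mem_same ℬ b.2,
          DirectSum.decompose_of_mem_same 𝒜 (hφ _ _ b.2)]
      · rw [DirectSum.decompose_of_mem_ne ℬ b.2 h,
          DirectSum.decompose_of_mem_ne 𝒜 (hφ _ _ b.2) h, map_zero]
    | add x y hx hy =>
      rw [haddB, map_add, map_add, hadd, hx, hy]
  -- main claim
  have key : ∀ a : A, (∃ s : A, s ∉ m ∧ s * a = 0) →
      ∀ i : M, ∃ r : A, r ∉ m ∧ r * (DirectSum.decompose 𝒜 a i : A) = 0 := by
    rintro a ⟨s, hs, hsa⟩
    have hs₀m : ((DirectSum.decompose 𝒜 s 0 : 𝒜 0) : A) ∉ m := fun h => hs (by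
      have := m.add_mem (hsub s) h
      simpa using this)
    obtain ⟨t, ht⟩ := Ideal.IsMaximal.exists_inv (I := m) inferInstance hs₀m
    set D := (DirectSum.decompose 𝒜 a).support with hD
    set P : Ideal A :=
      Ideal.span (↑(D.image (fun i => ((DirectSum.decompose 𝒜 a i : 𝒜 i) : A))) : Set A) with hPdef
    have hP : ∀ i, ((DirectSum.decompose 𝒜 a i : 𝒜 i) : A) ∈ P := by
      intro i
      by_cases hi : i ∈ D
      · exact Ideal.subset_span (Finset.mem_coe.mpr (Finset.mem_image_of_mem _ hi))
      · rw [hD, DFinsupp.notMem_support_iff] at hi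
        rw [hi]
        simp
    have ha : ∑ i ∈ D, ((DirectSum.decompose 𝒜 a i : 𝒜 i) : A) = a :=
      DirectSum.sum_support_decompose 𝒜 a
    have h1 : ∀ j, ((DirectSum.decompose 𝒜 s 0 : 𝒜 0) : A) *
        ((DirectSum.decompose 𝒜 a j : 𝒜 j) : A) ∈ m • P := by
      intro j
      have h0 : ((DirectSum.decompose 𝒜 (s * a) j : 𝒜 j) : A) = 0 := by
        rw [hsa]; simp
      have h2 : ((DirectSum.decompose 𝒜 (s * a) j : 𝒜 j) : A) =
          ∑ i ∈ D, (DirectSum.decompose 𝒜 s (j - i) : A) * (DirectSum.decompose 𝒜 a i : A) := by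
        have e1 : s * a = ∑ i ∈ D, s * ((DirectSum.decompose 𝒜 a i : 𝒜 i) : A) := by
          rw [← Finset.mul_sum, ha]
        rw [e1, DirectSum.decompose_sum, DFinsupp.finsetSum_apply,
          AddSubmonoidClass.coe_finsetSum]
        refine Finset.sum_congr rfl fun i _ => ?_
        have := DirectSum.coe_decompose_mul_add_of_right_mem 𝒜 (a := s) (i := j - i)
          (DirectSum.decompose 𝒜 a i).2
        rwa [sub_add_cancel] at this
      rw [h0] at h2
      -- split the sum
      have h3 : ∀ i ∈ D, (DirectSum.decompose 𝒜 s (j - i) : A) * (DirectSum.decompose 𝒜 a i : A) =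
          (if i = j then 0 else (DirectSum.decompose 𝒜 s (j - i) : A)) *
              (DirectSum.decompose 𝒜 a i : A) +
            (if i = j then ((DirectSum.decompose 𝒜 s 0 : 𝒜 0) : A) *
              ((DirectSum.decompose 𝒜 a j : 𝒜 j) : A) else 0) := by
        intro i _
        by_cases hij : i = j
        · subst hij
          rw [if_pos rfl, if_pos rfl, zero_mul, zero_add, sub_self]
        · simp [hij]
      rw [Finset.sum_congr rfl h3, Finset.sum_add_distrib, Finset.sum_ite_eq' D j] at h2
      have h4 : (if j ∈ D then ((DirectSum.decompose 𝒜 s 0 : 𝒜 0) : A) *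
          ((DirectSum.decompose 𝒜 a j : 𝒜 j) : A) else 0) =
          ((DirectSum.decompose 𝒜 s 0 : 𝒜 0) : A) * ((DirectSum.decompose 𝒜 a j : 𝒜 j) : A) := by
        by_cases hj : j ∈ D
        · simp [hj]
        · rw [if_neg hj]
          rw [hD, DFinsupp.notMem_support_iff] at hj
          rw [hj]; simp
      rw [h4] at h2
      have h5 : ((DirectSum.decompose 𝒜 s 0 : 𝒜 0) : A) * ((DirectSum.decompose 𝒜 a j : 𝒜 j) : A) =
          - ∑ i ∈ D, (if i = j then 0 else (DirectSum.decompose 𝒜 s (j - i) : A)) *
              (DirectSum.decompose 𝒜 a i : A) := by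
        rw [eq_neg_iff_add_eq_zero, add_comm]; exact h2.symm
      rw [h5]
      refine Submodule.neg_mem _ (Submodule.sum_mem _ fun i _ => ?_)
      rw [← smul_eq_mul]
      refine Submodule.smul_mem_smul ?_ (hP i)
      by_cases hij : i = j
      · simp [hij]
      · rw [if_neg hij]
        exact hfix _ (sub_ne_zero.mpr (Ne.symm hij)) _ (DirectSum.decompose 𝒜 s (j - i)).2
    have hle : P ≤ m • P := by
      rw [hPdef, Ideal.span_le]
      intro x hx
      rw [Finset.mem_coe, Finset.mem_image] at hx
      obtain ⟨j, _, rfl⟩ := hx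
      obtain ⟨i', hi', hti⟩ := ht
      -- a_j = t * s₀ * a_j + i' * a_j
      have : ((DirectSum.decompose 𝒜 a j : 𝒜 j) : A) =
          t * (((DirectSum.decompose 𝒜 s 0 : 𝒜 0) : A) * ((DirectSum.decompose 𝒜 a j : 𝒜 j) : A)) +
            i' • ((DirectSum.decompose 𝒜 a j : 𝒜 j) : A) := by
        rw [smul_eq_mul]
        linear_combination (-(DirectSum.decompose 𝒜 a j : A)) * hti
      rw [SetLike.mem_coe, this]
      exact (m • P).add_mem ((m • P).mul_mem_left _ (h1 j)) (Submodule.smul_mem_smul hi' (hP j))
    obtain ⟨r, hr1, hr2⟩ := Submodule.exists_sub_one_mem_and_smul_eq_zero_of_fg_of_le_smul m P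
      ⟨_, rfl⟩ hle
    intro i
    refine ⟨r, fun hr => ?_, ?_⟩
    · have h1m : (1 : A) ∈ m := by
        have := m.sub_mem hr hr1
        simpa using this
      exact (Ideal.IsPrime.ne_top (Ideal.IsMaximal.isPrime inferInstance))
        ((Ideal.eq_top_iff_one m).mpr h1m)
    · have := hr2 _ (hP i)
      rwa [smul_eq_mul] at this
  intro i b hb
  rw [RingHom.mem_ker, RingHom.comp_apply] at hb ⊢
  rw [IsLocalization.map_eq_zero_iff m.primeCompl] at hb ⊢
  obtain ⟨s, hs⟩ := hb
  obtain ⟨r, hr, hr0⟩ := key (φ b) ⟨s, s.2, hs⟩ i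
  refine ⟨⟨r, hr⟩, ?_⟩
  change r * (φ : B →+* A) (DirectSum.decompose ℬ b i : B) = 0
  rw [AlgHom.coe_toRingHom, hdec]
  exact hr0

end Groth.Agent.S18791
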