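import Groth.Statements.S18792
import Mathlib

set_option autoImplicit false
universe u
open DefMod

namespace Groth.Agent.S18792

/-- Let A be an associative unital algebra over ℚ, let a ∈ A be nilpotent and let b ∈ A. Then the
commutator map x ↦ a x − x a is a nilpotent ℚ-linear endomorphism of A, and exp(a) b exp(−a) =
exp(ad a)(b), where exp is the finite exponential series of a nilpotent element and ad a is the
commutator map. (The published statement takes A an algebra over an arbitrary commutative ring; the
factorials in the exponential series require the rationals to act, so A is taken to be a ℚ-algebra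
here. The intermediate double-sum expansion printed between the two sides is not restated.) -/
theorem result {A : Type u} [Ring A] [Algebra ℚ A] (a b : A)
    (ha : IsNilpotent a) :
    IsNilpotent (LinearMap.mulLeft ℚ a - LinearMap.mulRight ℚ a) ∧
      IsNilpotent.exp a * b * IsNilpotent.exp (-a) =
        IsNilpotent.exp (LinearMap.mulLeft ℚ a - LinearMap.mulRight ℚ a) b := by
  obtain ⟨n, hn⟩ := ha
  have hn' : (-a) ^ n = 0 := by rw [neg_pow, hn, mul_zero]
  have hLn : LinearMap.mulLeft ℚ a ^ n = 0 := by
    rw [LinearMap.pow_mulLeft, hn]; ext x; simp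
  have hRn : LinearMap.mulRight ℚ a ^ n = 0 := by
    rw [LinearMap.pow_mulRight, hn]; ext x; simp
  have hRn' : LinearMap.mulRight ℚ (-a) ^ n = 0 := by
    rw [LinearMap.pow_mulRight, hn']; ext x; simp
  have hL : IsNilpotent (LinearMap.mulLeft ℚ a) := ⟨n, hLn⟩
  have hR : IsNilpotent (LinearMap.mulRight ℚ a) := ⟨n, hRn⟩
  have hcomm : Commute (LinearMap.mulLeft ℚ a) (LinearMap.mulRight ℚ a) :=
    LinearMap.commute_mulLeft_right a a
  have hnil : IsNilpotent (LinearMap.mulLeft ℚ a - LinearMap.mulRight ℚ a) :=
    hcomm.isNilpotent_sub hL hR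
  refine ⟨hnil, ?_⟩
  have hneg : -LinearMap.mulRight ℚ a = LinearMap.mulRight ℚ (-a) := by
    ext x; simp
  have h1 : IsNilpotent.exp (LinearMap.mulLeft ℚ a - LinearMap.mulRight ℚ a) =
      IsNilpotent.exp (LinearMap.mulLeft ℚ a) * IsNilpotent.exp (-LinearMap.mulRight ℚ a) := by
    rw [sub_eq_add_neg]
    exact IsNilpotent.exp_add_of_commute hcomm.neg_right hL hR.neg
  have h2 : ∀ x, IsNilpotent.exp (LinearMap.mulLeft ℚ a) x = IsNilpotent.exp a * x := by
    intro x
    rw [IsNilpotent.exp_eq_sum hLn, IsNilpotent.exp_eq_sum hn, Finset.sum_mul]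
    simp only [LinearMap.sum_apply, LinearMap.smul_apply, LinearMap.pow_mulLeft,
      LinearMap.mulLeft_apply, smul_mul_assoc]
  have h3 : ∀ x, IsNilpotent.exp (LinearMap.mulRight ℚ (-a)) x = x * IsNilpotent.exp (-a) := by
    intro x
    rw [IsNilpotent.exp_eq_sum hRn', IsNilpotent.exp_eq_sum hn', Finset.mul_sum]
    simp only [LinearMap.sum_apply, LinearMap.smul_apply, LinearMap.pow_mulRight,
      LinearMap.mulRight_apply, mul_smul_comm]
  rw [h1, hneg, Module.End.mul_apply, h2, h3, mul_assoc]

end Groth.Agent.S18792
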