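import Groth.Statements.S18794
import Mathlib

set_option autoImplicit false
universe u v w
open scoped TensorProduct
open DefMod

namespace Groth.Agent.S18794

section tower
variable {K : Type*} [Field K] {D : Type*} [Ring D] [Algebra K D]
variable {E : Type*} [AddCommGroup E] [Module K E] [Module D E] [IsScalarTower K D E]

/-- irreducibility of the base change `L ⊗ E` -/
def Irr (K : Type*) [Field K] (D : Type*) [Ring D] [Algebra K D]
    (E : Type*) [AddCommGroup E] [Module K E] [Module D E] [IsScalarTower K D E]
    (L : Type*) [Field L] [Algebra K L] : Prop :=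
  Nontrivial (L ⊗[K] E) ∧ ∀ N : Submodule L (L ⊗[K] E),
    (∀ (d : D) (x : L ⊗[K] E), x ∈ N → (DistribSMul.toLinearMap K E d).baseChange L x ∈ N) →
      N = ⊥ ∨ N = ⊤

lemma subsingleton_tensor (L : Type*) [Field L] [Algebra K L] [Subsingleton E] :
    Subsingleton (L ⊗[K] E) := by
  refine ⟨fun a b => ?_⟩
  have h0 : ∀ z : L ⊗[K] E, z = 0 := by
    intro z
    induction z using TensorProduct.induction_on with
    | zero => rfl
    | add x y hx hy => rw [hx, hy, add_zero]
    | tmul p x => rw [Subsingleton.elim x 0, TensorProduct.tmul_zero]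
  rw [h0 a, h0 b]

lemma one_tmul_injective (L : Type*) [Field L] [Algebra K L] :
    Function.Injective (fun e : E => (1 : L) ⊗ₜ[K] e) := by
  have h1 : Function.Injective ((Algebra.linearMap K L).rTensor E) :=
    Module.Flat.rTensor_preserves_injective_linearMap _ (algebraMap K L).injective
  have h2 : (fun e : E => (1 : L) ⊗ₜ[K] e) =
      ((Algebra.linearMap K L).rTensor E) ∘ (TensorProduct.lid K E).symm := by
    funext e
    simp
  rw [h2]
  exact h1.comp (TensorProduct.lid K E).symm.injective

lemma nontrivial_tensor_iff (L : Type*) [Field L] [Algebra K L] :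
    Nontrivial (L ⊗[K] E) ↔ Nontrivial E := by
  constructor
  · intro h
    by_contra hE
    rw [not_nontrivial_iff_subsingleton] at hE
    have := subsingleton_tensor (K := K) (E := E) L
    exact not_nontrivial _ h
  · intro h
    obtain ⟨x, hx⟩ := exists_ne (0 : E)
    refine ⟨⟨(1 : L) ⊗ₜ[K] x, 0, fun h0 => hx ?_⟩⟩
    apply one_tmul_injective (K := K) (E := E) L
    simpa using h0

variable (E) in
/-- the comparison map `L ⊗ E → L' ⊗ E` for a tower `K → L → L'`. -/
noncomputable def iota (L L' : Type*) [Field L] [Algebra K L] [Field L'] [Algebra K L']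
    [Algebra L L'] [IsScalarTower K L L'] : L ⊗[K] E →ₗ[K] L' ⊗[K] E :=
  ((IsScalarTower.toAlgHom K L L').toLinearMap).rTensor E

section
variable (L L' : Type*) [Field L] [Algebra K L] [Field L'] [Algebra K L']
    [Algebra L L'] [IsScalarTower K L L']

lemma iota_tmul (l : L) (e : E) : iota (K := K) E L L' (l ⊗ₜ[K] e) = algebraMap L L' l ⊗ₜ[K] e := by
  simp [iota]

lemma iota_smul (l : L) (y : L ⊗[K] E) :
    iota (K := K) E L L' (l • y) = algebraMap L L' l • iota (K := K) E L L' y := by
  induction y using TensorProduct.induction_on with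
  | zero => simp
  | add x y hx hy => simp only [smul_add, map_add, hx, hy]
  | tmul p x => simp [TensorProduct.smul_tmul', iota_tmul, Algebra.smul_def]

lemma iota_T (d : D) (y : L ⊗[K] E) :
    (DistribSMul.toLinearMap K E d).baseChange L' (iota (K := K) E L L' y) =
      iota (K := K) E L L' ((DistribSMul.toLinearMap K E d).baseChange L y) := by
  induction y using TensorProduct.induction_on with
  | zero => simp
  | add x y hx hy => simp only [map_add, hx, hy]
  | tmul p x => simp [iota_tmul]

lemma iota_injective : Function.Injective (iota (K := K) E L L') :=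
  Module.Flat.rTensor_preserves_injective_linearMap _ (algebraMap L L').injective

/-- descent of irreducibility -/
lemma Irr.descend (h : Irr K D E L') : Irr K D E L := by
  classical
  obtain ⟨hnt, hirr⟩ := h
  refine ⟨(nontrivial_tensor_iff L).mpr ((nontrivial_tensor_iff L').mp hnt), ?_⟩
  intro N hN
  -- retraction
  obtain ⟨r, hr⟩ := LinearMap.exists_leftInverse_of_injective (Algebra.linearMap L L')
    (LinearMap.ker_eq_bot.mpr (algebraMap L L').injective)
  have hr1 : r 1 = 1 := by
    have := congrArg (fun f => f (1 : L)) hr
    simpa using this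
  set ρ : L' ⊗[K] E →ₗ[K] L ⊗[K] E := (r.restrictScalars K).rTensor E with hρ
  have hρι : ∀ (a : L') (y : L ⊗[K] E), ρ (a • iota (K := K) E L L' y) = r a • y := by
    intro a y
    induction y using TensorProduct.induction_on with
    | zero => simp
    | add x y hx hy => simp only [smul_add, map_add, hx, hy]
    | tmul p x =>
      rw [iota_tmul, TensorProduct.smul_tmul', TensorProduct.smul_tmul', hρ,
        LinearMap.rTensor_tmul]
      congr 1
      rw [LinearMap.restrictScalars_apply, smul_eq_mul, mul_comm, ← Algebra.smul_def, map_smul,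
        smul_eq_mul, smul_eq_mul, mul_comm]
  set Nb : Submodule L' (L' ⊗[K] E) := Submodule.span L' (iota (K := K) E L L' '' N) with hNb
  have hstab : ∀ (d : D) (x : L' ⊗[K] E), x ∈ Nb →
      (DistribSMul.toLinearMap K E d).baseChange L' x ∈ Nb := by
    intro d x hx
    induction hx using Submodule.span_induction with
    | mem x hx =>
      obtain ⟨n, hn, rfl⟩ := hx
      rw [iota_T]
      exact Submodule.subset_span ⟨_, hN d n hn, rfl⟩
    | zero => simp
    | add x y _ _ hx hy => rw [map_add]; exact Nb.add_mem hx hy
    | smul a x _ hx => rw [map_smul]; exact Nb.smul_mem a hx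
  rcases hirr Nb hstab with h0 | h1
  · left
    rw [eq_bot_iff]
    intro n hn
    have : iota (K := K) E L L' n ∈ Nb := Submodule.subset_span ⟨n, hn, rfl⟩
    rw [h0, Submodule.mem_bot] at this
    rw [Submodule.mem_bot]
    apply iota_injective (K := K) (E := E) L L'
    rw [this, map_zero]
  · right
    rw [eq_top_iff]
    intro y _
    have key : ∀ x ∈ Nb, ∀ a : L', ρ (a • x) ∈ N := by
      intro x hx
      induction hx using Submodule.span_induction with
      | mem x hx =>
        obtain ⟨n, hn, rfl⟩ := hx
        intro a
        rw [hρι]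
        exact N.smul_mem _ hn
      | zero => intro a; simp
      | add x y _ _ hx hy =>
        intro a
        rw [smul_add, map_add]
        exact N.add_mem (hx a) (hy a)
      | smul b x _ hx =>
        intro a
        rw [smul_smul]
        exact hx (a * b)
    have hy : iota (K := K) E L L' y ∈ Nb := by rw [h1]; trivial
    have := key _ hy 1
    rwa [hρι, hr1, one_smul] at this

/-- ascent step: a stable subspace of `L' ⊗ E` containing a nonzero element coming from `L ⊗ E`,
with `L ⊗ E` irreducible, is everything. -/
lemma Irr.ascend (h : Irr K D E L) (N : Submodule L' (L' ⊗[K] E))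
    (hN : ∀ (d : D) (x : L' ⊗[K] E), x ∈ N → (DistribSMul.toLinearMap K E d).baseChange L' x ∈ N)
    (y : L ⊗[K] E) (hy0 : y ≠ 0) (hy : iota (K := K) E L L' y ∈ N) : N = ⊤ := by
  obtain ⟨_, hirr⟩ := h
  let NL : Submodule L (L ⊗[K] E) :=
    { carrier := {y | iota (K := K) E L L' y ∈ N}
      add_mem' := fun {a b} ha hb => by
        simp only [Set.mem_ofPred_eq, map_add] at *
        exact N.add_mem ha hb
      zero_mem' := by simp
      smul_mem' := fun l a ha => by
        simp only [Set.mem_ofPred_eq] at *
        rw [iota_smul]
        exact N.smul_mem _ ha }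
  have hNL : ∀ (d : D) (x : L ⊗[K] E), x ∈ NL →
      (DistribSMul.toLinearMap K E d).baseChange L x ∈ NL := by
    intro d x hx
    show iota (K := K) E L L' _ ∈ N
    rw [← iota_T]
    exact hN d _ hx
  rcases hirr NL hNL with h0 | h1
  · exfalso
    apply hy0
    have : y ∈ NL := hy
    rw [h0, Submodule.mem_bot] at this
    exact this
  · rw [eq_top_iff]
    intro x _
    induction x using TensorProduct.induction_on with
    | zero => exact N.zero_mem
    | add x y hx hy => exact N.add_mem (hx trivial) (hy trivial)
    | tmul a e =>
      have h2 : ((1 : L) ⊗ₜ[K] e : L ⊗[K] E) ∈ NL := by rw [h1]; trivial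
      have h3 : iota (K := K) E L L' ((1 : L) ⊗ₜ[K] e) ∈ N := h2
      rw [iota_tmul, map_one] at h3
      have := N.smul_mem a h3
      rwa [TensorProduct.smul_tmul', smul_eq_mul, mul_one] at this

end

end tower

/-- Let E be a left module over an associative algebra D over a field K of characteristic zero. For a
field extension L of K, the base change L ⊗_K E is a module over L ⊗_K D, i.e. an L-vector space
with a commuting action of D; call it irreducible when it is nonzero and its only L-subspaces stable
under every element of D are 0 and the whole space. Then E is absolutely irreducible (its base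
change to an algebraic closure of K is irreducible) if and only if L ⊗_K E is irreducible for every
finite extension L of K. (Finite extensions are taken in the universe of K.) -/
theorem result
    {K : Type u} [Field K] [CharZero K]
    {D : Type v} [Ring D] [Algebra K D]
    {E : Type w} [AddCommGroup E] [Module K E] [Module D E] [IsScalarTower K D E] :
    (Nontrivial (AlgebraicClosure K ⊗[K] E) ∧ ∀ N : Submodule (AlgebraicClosure K) (AlgebraicClosure K ⊗[K] E), (∀ (d : D) (x : AlgebraicClosure K ⊗[K] E), x ∈ N → (DistribSMul.toLinearMap K E d).baseChange (AlgebraicClosure K) x ∈ N) → N = ⊥ ∨ N = ⊤) ↔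
      ∀ (L : Type u) [Field L] [Algebra K L] [FiniteDimensional K L],
        (Nontrivial (L ⊗[K] E) ∧ ∀ N : Submodule (L) (L ⊗[K] E), (∀ (d : D) (x : L ⊗[K] E), x ∈ N → (DistribSMul.toLinearMap K E d).baseChange (L) x ∈ N) → N = ⊥ ∨ N = ⊤) := by
  classical
  constructor
  · intro h L _ _ _
    let σ : L →ₐ[K] AlgebraicClosure K := IsAlgClosed.lift
    letI : Algebra L (AlgebraicClosure K) := σ.toRingHom.toAlgebra
    haveI : IsScalarTower K L (AlgebraicClosure K) :=
      IsScalarTower.of_algebraMap_eq (fun x => (σ.commutes x).symm)
    exact Irr.descend (K := K) (D := D) (E := E) L (AlgebraicClosure K) h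
  · intro h
    have hK : Irr K D E K := h K
    have hE : Nontrivial E := (nontrivial_tensor_iff K).mp hK.1
    refine ⟨(nontrivial_tensor_iff _).mpr hE, ?_⟩
    intro N hN
    by_cases hbot : N = ⊥
    · exact Or.inl hbot
    right
    obtain ⟨x, hxN, hx0⟩ := (Submodule.ne_bot_iff N).mp hbot
    obtain ⟨S, hS⟩ := TensorProduct.exists_finset x
    let L : IntermediateField K (AlgebraicClosure K) :=
      IntermediateField.adjoin K ((S.image Prod.fst : Finset (AlgebraicClosure K)) : Set _)
    haveI : FiniteDimensional K L := by
      apply IntermediateField.finiteDimensional_adjoin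
      intro a _
      exact Algebra.IsIntegral.isIntegral a
    have hmem : ∀ i ∈ S, i.1 ∈ L := by
      intro i hi
      apply IntermediateField.subset_adjoin
      simp only [Finset.coe_image, Set.mem_image, Finset.mem_coe]
      exact ⟨i, hi, rfl⟩
    let y : L ⊗[K] E := ∑ i ∈ S.attach, (⟨i.1.1, hmem i.1 i.2⟩ : L) ⊗ₜ[K] i.1.2
    have hy : iota (K := K) E L (AlgebraicClosure K) y = x := by
      rw [hS, map_sum, ← Finset.sum_attach S]
      apply Finset.sum_congr rfl
      intro i _
      rw [iota_tmul]
      rfl
    have hy0 : y ≠ 0 := by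
      intro h0
      apply hx0
      rw [← hy, h0, map_zero]
    exact Irr.ascend (K := K) (D := D) (E := E) L (AlgebraicClosure K) (h L) N hN y hy0
      (by rw [hy]; exact hxN)

end Groth.Agent.S18794
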