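import Groth.Statements.S18796
import Mathlib

set_option autoImplicit false
universe u v w w' u'
open scoped TensorProduct
open DefMod

namespace Groth.Agent.S18796

section coords
variable {K : Type*} [Field K] {P : Type*} [CommRing P] [Algebra K P]
variable {ι : Type*} (b : Module.Basis ι K P)

/-- `i`-th coordinate of an element of `P ⊗ X` w.r.t. a basis of `P`. -/
noncomputable def co (X : Type*) [AddCommGroup X] [Module K X] (i : ι) : P ⊗[K] X →ₗ[K] X :=
  (TensorProduct.lid K X).toLinearMap ∘ₗ (b.coord i).rTensor X

lemma co_tmul (X : Type*) [AddCommGroup X] [Module K X] (i : ι) (p : P) (x : X) :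
    co b X i (p ⊗ₜ[K] x) = b.repr p i • x := by
  simp [co]

lemma co_eq (X : Type*) [AddCommGroup X] [Module K X] [DecidableEq ι] (i : ι) (z : P ⊗[K] X) :
    co b X i z = TensorProduct.equivFinsuppOfBasisLeft b z i := by
  rw [TensorProduct.equivFinsuppOfBasisLeft_apply]; rfl

lemma eq_zero_of_co (X : Type*) [AddCommGroup X] [Module K X] (z : P ⊗[K] X)
    (h : ∀ i, co b X i z = 0) : z = 0 := by
  classical
  apply (TensorProduct.equivFinsuppOfBasisLeft b).injective
  rw [map_zero]
  ext i
  rw [← co_eq, h]; rfl

lemma eq_of_co (X : Type*) [AddCommGroup X] [Module K X] (z w : P ⊗[K] X)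
    (h : ∀ i, co b X i z = co b X i w) : z = w := by
  rw [← sub_eq_zero]
  apply eq_zero_of_co b
  intro i
  rw [map_sub, h, sub_self]

lemma co_finite (X : Type*) [AddCommGroup X] [Module K X] (z : P ⊗[K] X) :
    ∃ T : Finset ι, ∀ i, i ∉ T → co b X i z = 0 := by
  classical
  refine ⟨(TensorProduct.equivFinsuppOfBasisLeft b z).support, fun i hi => ?_⟩
  rw [co_eq]
  simpa using hi

lemma co_baseChange (X Y : Type*) [AddCommGroup X] [Module K X] [AddCommGroup Y] [Module K Y]
    (h : X →ₗ[K] Y) (i : ι) (z : P ⊗[K] X) :
    co b Y i (h.baseChange P z) = h (co b X i z) := by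
  induction z with
  | zero => simp
  | add x y hx hy => simp only [map_add, hx, hy]
  | tmul p x => simp [co_tmul]

end coords

/-- Let K be a field of characteristic zero, D an associative K-algebra, E a left D-module that is
finitely presented over D, F a left D-module and P a commutative K-algebra. The canonical P-linear
map Φ : P ⊗_K Hom_D(E, F) → Hom_P(P ⊗_K E, P ⊗_K F), determined by p ⊗ f ↦ p · (1_P ⊗ f), is
injective, and its image consists exactly of the P-linear maps that commute with the action of every
element of D; in other words Φ identifies P ⊗_K Hom_D(E, F) with the module of homomorphisms P ⊗_K E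
→ P ⊗_K F over P ⊗_K D. The map Φ is pinned here by its values on pure tensors. -/
theorem result
    {K : Type u} [Field K] [CharZero K]
    {D : Type v} [Ring D] [Algebra K D]
    {E : Type w} [AddCommGroup E] [Module K E] [Module D E] [IsScalarTower K D E]
    [Module.FinitePresentation D E]
    {F : Type w'} [AddCommGroup F] [Module K F] [Module D F] [IsScalarTower K D F]
    (P : Type u') [CommRing P] [Algebra K P]
    (Φ : P ⊗[K] (E →ₗ[D] F) →ₗ[P] (P ⊗[K] E →ₗ[P] P ⊗[K] F))
    (hΦ : ∀ (p : P) (f : E →ₗ[D] F), Φ (p ⊗ₜ[K] f) = p • (f.restrictScalars K).baseChange P) :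
    Function.Injective Φ ∧
      ∀ g : P ⊗[K] E →ₗ[P] P ⊗[K] F,
        g ∈ LinearMap.range Φ ↔
          ∀ d : D, g ∘ₗ (DistribSMul.toLinearMap K E d).baseChange P =
            (DistribSMul.toLinearMap K F d).baseChange P ∘ₗ g := by
  classical
  set b := Module.Basis.ofVectorSpace K P with hb
  -- key identity
  have K1 : ∀ (i : _) (z : P ⊗[K] (E →ₗ[D] F)) (e : E),
      co b F i (Φ z ((1 : P) ⊗ₜ[K] e)) = (co b (E →ₗ[D] F) i z) e := by
    intro i z e
    induction z with
    | zero => simp
    | add x y hx hy => simp only [map_add, LinearMap.add_apply, hx, hy]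
    | tmul p f =>
      rw [hΦ, co_tmul]
      simp [TensorProduct.smul_tmul', co_tmul]
  refine ⟨?_, ?_⟩
  · -- injectivity
    rw [injective_iff_map_eq_zero]
    intro z hz
    apply eq_zero_of_co b
    intro i
    ext e
    rw [← K1, hz]
    simp
  · intro g
    constructor
    · rintro ⟨z, rfl⟩ d
      induction z with
      | zero => simp
      | add x y hx hy => simp only [map_add, LinearMap.add_comp, LinearMap.comp_add, hx, hy]
      | tmul p f =>
        rw [hΦ]
        apply TensorProduct.AlgebraTensorModule.ext
        intro q e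
        simp
    · intro hg
      -- coordinates of g
      have hcomm : ∀ (d : D) (e : E), g ((1 : P) ⊗ₜ[K] (d • e)) =
          (DistribSMul.toLinearMap K F d).baseChange P (g ((1 : P) ⊗ₜ[K] e)) := by
        intro d e
        have := congrArg (fun φ => φ ((1 : P) ⊗ₜ[K] e)) (hg d)
        simpa using this
      let gi : _ → E →ₗ[D] F := fun i =>
        { toFun := fun e => co b F i (g ((1 : P) ⊗ₜ[K] e))
          map_add' := fun e e' => by simp [TensorProduct.tmul_add]
          map_smul' := fun d e => by
            simp only [RingHom.id_apply]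
            rw [hcomm, co_baseChange]
            rfl }
      obtain ⟨S, hS⟩ := (Module.Finite.fg_top : (⊤ : Submodule D E).FG)
      have hfin : ∀ s : E, ∃ T : Finset _, ∀ i, i ∉ T → co b F i (g ((1 : P) ⊗ₜ[K] s)) = 0 :=
        fun s => co_finite b F _
      choose Ts hTs using hfin
      set T := S.biUnion Ts with hT
      have hgi0 : ∀ i, i ∉ T → gi i = 0 := by
        intro i hi
        apply LinearMap.ext_on_range (v := fun s : (S : Set E) => (s : E))
        · simpa using hS
        · rintro ⟨s, hs⟩
          simp only [LinearMap.zero_apply]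
          apply hTs s i
          intro h
          exact hi (Finset.mem_biUnion.mpr ⟨s, hs, h⟩)
      refine ⟨∑ i ∈ T, b i ⊗ₜ[K] gi i, ?_⟩
      apply TensorProduct.AlgebraTensorModule.ext
      intro p e
      have h1 : (p ⊗ₜ[K] e : P ⊗[K] E) = p • ((1 : P) ⊗ₜ[K] e) := by
        simp [TensorProduct.smul_tmul']
      rw [h1, map_smul, map_smul]
      congr 1
      apply eq_of_co b
      intro j
      rw [K1, map_sum, LinearMap.sum_apply]
      simp only [co_tmul, Module.Basis.repr_self, LinearMap.smul_apply]
      by_cases hj : j ∈ T
      · rw [Finset.sum_eq_single j]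
        · simp; rfl
        · intro i _ hij
          simp [Finsupp.single_apply, hij]
        · intro h; exact absurd hj h
      · rw [Finset.sum_eq_zero]
        · have := hgi0 j hj
          have h2 := congrArg (fun φ => φ e) this
          exact h2.symm
        · intro i hi
          have : i ≠ j := fun h => hj (h ▸ hi)
          simp [Finsupp.single_apply, this]

end Groth.Agent.S18796
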