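import Groth.Statements.S18795
import Mathlib
import Groth.Agent.S18796

set_option autoImplicit false
universe u v w
open scoped TensorProduct
open DefMod

namespace Groth.Agent.S18795

/-- Schur-type lemma: in a nontrivial finite-dimensional algebra of commuting endomorphisms of a
module with only trivial stable subspaces, over an algebraically closed field, everything is a
scalar. -/
lemma scalar_of_commuting {L : Type*} [Field L] [IsAlgClosed L] {M : Type*} [AddCommGroup M]
    [Module L M] [Nontrivial M] {ι : Type*} (T : ι → Module.End L M)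
    (hirr : ∀ N : Submodule L M, (∀ d x, x ∈ N → T d x ∈ N) → N = ⊥ ∨ N = ⊤)
    (hfin : Module.Finite L (Subalgebra.centralizer L (Set.range T)))
    (g : Module.End L M) (hg : ∀ d, g ∘ₗ T d = T d ∘ₗ g) : ∃ c : L, g = c • LinearMap.id := by
  classical
  set A := Subalgebra.centralizer L (Set.range T) with hA
  have hgA : g ∈ A := by
    rw [hA, Subalgebra.mem_centralizer_iff]
    rintro _ ⟨d, rfl⟩
    exact (hg d).symm
  obtain ⟨c, hc⟩ := spectrum.nonempty_of_isAlgClosed_of_finiteDimensional L (⟨g, hgA⟩ : A)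
  refine ⟨c, ?_⟩
  by_contra hne
  apply (spectrum.mem_iff.mp hc)
  set h : Module.End L M := c • LinearMap.id - g with hh
  have hh0 : h ≠ 0 := by
    intro h0
    apply hne
    rw [hh, sub_eq_zero] at h0
    exact h0.symm
  have hcomm : ∀ d, h ∘ₗ T d = T d ∘ₗ h := by
    intro d
    rw [hh, LinearMap.sub_comp, LinearMap.comp_sub, hg d]
    congr 1
    ext x
    simp
  have hker : LinearMap.ker h = ⊥ := by
    rcases hirr (LinearMap.ker h) (fun d x hx => by
      rw [LinearMap.mem_ker] at hx ⊢
      have := congrArg (fun φ => φ x) (hcomm d)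
      simp only [LinearMap.comp_apply] at this
      rw [this, hx, map_zero]) with h1 | h1
    · exact h1
    · exact absurd (LinearMap.ker_eq_top.mp h1) hh0
  have hrange : LinearMap.range h = ⊤ := by
    rcases hirr (LinearMap.range h) (fun d x hx => by
      obtain ⟨y, rfl⟩ := hx
      have := congrArg (fun φ => φ y) (hcomm d)
      simp only [LinearMap.comp_apply] at this
      rw [← this]
      exact ⟨_, rfl⟩) with h1 | h1
    · exact absurd (LinearMap.range_eq_bot.mp h1) hh0
    · exact h1
  let e : M ≃ₗ[L] M := LinearEquiv.ofBijective h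
    ⟨LinearMap.ker_eq_bot.mp hker, LinearMap.range_eq_top.mp hrange⟩
  have he : ∀ x, e x = h x := fun x => rfl
  have hinvA : (e.symm : Module.End L M) ∈ A := by
    rw [hA, Subalgebra.mem_centralizer_iff]
    rintro _ ⟨d, rfl⟩
    ext x
    simp only [Module.End.mul_apply, LinearEquiv.coe_coe]
    apply e.injective
    rw [LinearEquiv.apply_symm_apply, he]
    have := congrArg (fun φ => φ (e.symm x)) (hcomm d)
    simp only [LinearMap.comp_apply] at this
    rw [this, ← he, LinearEquiv.apply_symm_apply]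
  have hhA : h ∈ A := by
    rw [hA, Subalgebra.mem_centralizer_iff]
    rintro _ ⟨d, rfl⟩
    exact (hcomm d).symm
  have hunit : IsUnit (⟨h, hhA⟩ : A) := by
    refine ⟨⟨⟨h, hhA⟩, ⟨(e.symm : Module.End L M), hinvA⟩, ?_, ?_⟩, rfl⟩
    · apply Subtype.ext
      ext x
      simp only [Subalgebra.coe_mul, Module.End.mul_apply, LinearEquiv.coe_coe]
      rw [← he, LinearEquiv.apply_symm_apply]
      rfl
    · apply Subtype.ext
      ext x
      simp only [Subalgebra.coe_mul, Module.End.mul_apply, LinearEquiv.coe_coe]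
      rw [← he, LinearEquiv.symm_apply_apply]
      rfl
  convert hunit using 1
  apply Subtype.ext
  simp only [hh]
  rw [Subalgebra.coe_sub]
  congr 1

/-- Let E be a left module over an associative algebra D over a field K of characteristic zero. Assume
that the D-linear endomorphisms of E form a finite-dimensional K-vector space, that E has a finite
presentation over D, and that E is absolutely irreducible: its base change K̄ ⊗_K E to an algebraic
closure K̄ of K is nonzero and its only K̄-subspaces stable under every element of D are 0 and the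
whole space. Then End_D(E) = K: every D-linear endomorphism of E is multiplication by a scalar from
K. -/
theorem result
    {K : Type u} [Field K] [CharZero K]
    {D : Type v} [Ring D] [Algebra K D]
    {E : Type w} [AddCommGroup E] [Module K E] [Module D E] [IsScalarTower K D E]
    [Module.Finite K (E →ₗ[D] E)] [Module.FinitePresentation D E]
    (habs : (Nontrivial (AlgebraicClosure K ⊗[K] E) ∧ ∀ N : Submodule (AlgebraicClosure K) (AlgebraicClosure K ⊗[K] E), (∀ (d : D) (x : AlgebraicClosure K ⊗[K] E), x ∈ N → (DistribSMul.toLinearMap K E d).baseChange (AlgebraicClosure K) x ∈ N) → N = ⊥ ∨ N = ⊤))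
    (φ : E →ₗ[D] E) : ∃ c : K, ∀ x : E, φ x = c • x := by
  classical
  obtain ⟨hnt, hirr⟩ := habs
  let L := AlgebraicClosure K
  let M := L ⊗[K] E
  let T : D → Module.End L M := fun d => (DistribSMul.toLinearMap K E d).baseChange L
  let ψ : (E →ₗ[D] E) →ₗ[K] (M →ₗ[L] M) :=
    (LinearMap.baseChangeHom K L E E) ∘ₗ (LinearMap.restrictScalarsₗ K D E E K)
  let Φ : L ⊗[K] (E →ₗ[D] E) →ₗ[L] (M →ₗ[L] M) :=
    TensorProduct.AlgebraTensorModule.lift
      (LinearMap.toSpanSingleton L ((E →ₗ[D] E) →ₗ[K] (M →ₗ[L] M)) ψ)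
  have hΦ : ∀ (p : L) (f : E →ₗ[D] E),
      Φ (p ⊗ₜ[K] f) = p • (f.restrictScalars K).baseChange L := by
    intro p f
    rfl
  obtain ⟨hinj, hrange⟩ := Groth.Agent.S18796.result (K := K) (D := D) (E := E) (F := E) L Φ hΦ
  set A := Subalgebra.centralizer L (Set.range T) with hA
  have hmemA : ∀ g : Module.End L M, g ∈ A ↔ ∀ d, g ∘ₗ T d = T d ∘ₗ g := by
    intro g
    rw [hA, Subalgebra.mem_centralizer_iff]
    constructor
    · intro h d
      exact (h _ ⟨d, rfl⟩).symm
    · rintro h _ ⟨d, rfl⟩
      exact (h d).symm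
  have hΦA : ∀ z, Φ z ∈ A.toSubmodule := by
    intro z
    rw [Subalgebra.mem_toSubmodule, hmemA]
    exact (hrange (Φ z)).mp ⟨z, rfl⟩
  have hfin : Module.Finite L A := by
    apply Module.Finite.of_surjective (Φ.codRestrict A.toSubmodule hΦA)
    rintro ⟨g, hg⟩
    obtain ⟨z, hz⟩ := (hrange g).mpr ((hmemA g).mp hg)
    exact ⟨z, Subtype.ext hz⟩
  have hscal : ∀ g : Module.End L M, (∀ d, g ∘ₗ T d = T d ∘ₗ g) → ∃ c : L, g = c • LinearMap.id :=
    fun g hg => scalar_of_commuting T hirr hfin g hg
  have hΦ1 : Φ ((1 : L) ⊗ₜ[K] (LinearMap.id : E →ₗ[D] E)) = LinearMap.id := by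
    rw [hΦ, one_smul]
    ext x
    simp
  have hrk : Module.finrank L (L ⊗[K] (E →ₗ[D] E)) ≤ 1 := by
    apply finrank_le_one ((1 : L) ⊗ₜ[K] (LinearMap.id : E →ₗ[D] E))
    intro w
    obtain ⟨c, hc⟩ := hscal (Φ w) ((hrange (Φ w)).mp ⟨w, rfl⟩)
    refine ⟨c, hinj ?_⟩
    rw [map_smul, hΦ1, hc]
  rw [Module.finrank_baseChange] at hrk
  obtain ⟨v, hv⟩ := finrank_le_one_iff.mp hrk
  obtain ⟨c₀, hc₀⟩ := hv (LinearMap.id : E →ₗ[D] E)
  obtain ⟨c₁, hc₁⟩ := hv φ
  have hE : Nontrivial E := by
    by_contra hE
    rw [not_nontrivial_iff_subsingleton] at hE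
    have : Subsingleton M := by
      refine ⟨fun a b => ?_⟩
      have h0 : ∀ z : M, z = 0 := by
        intro z
        induction z using TensorProduct.induction_on with
        | zero => rfl
        | add x y hx hy => rw [hx, hy, add_zero]
        | tmul p x => rw [Subsingleton.elim x 0, TensorProduct.tmul_zero]
      rw [h0 a, h0 b]
    exact not_nontrivial M hnt
  have hc₀0 : c₀ ≠ 0 := by
    rintro rfl
    rw [zero_smul] at hc₀
    obtain ⟨x, hx⟩ := exists_ne (0 : E)
    apply hx
    have := congrArg (fun f => f x) hc₀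
    simpa using this.symm
  refine ⟨c₁ / c₀, fun x => ?_⟩
  have h1 : v = c₀⁻¹ • (LinearMap.id : E →ₗ[D] E) := by
    rw [← hc₀, smul_smul, inv_mul_cancel₀ hc₀0, one_smul]
  rw [← hc₁, h1, smul_smul]
  simp [div_eq_mul_inv]

end Groth.Agent.S18795
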