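import Groth.Statements.S18797
import Mathlib

set_option autoImplicit false
universe u v w
open DefMod

namespace Groth.Agent.S18797

/-- Let K be a field of characteristic zero, O a commutative K-algebra with a K-linear derivation ∂, and
E a finite free O-module equipped with a K-linear map ∂_E satisfying the Leibniz rule ∂_E(a e) =
∂(a) e + a ∂_E(e) (a differential module). The induced derivation on End_O(E) sends φ to ∂_E ∘ φ − φ
∘ ∂_E, which is again O-linear; the trace End_O(E) → O is compatible with the two derivations:
tr(∂_E ∘ φ − φ ∘ ∂_E) = ∂(tr φ). Here the O-linear map ψ = ∂_E ∘ φ − φ ∘ ∂_E is given by its values.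
(The published lemma also asserts that the trace is split surjective and that it respects commutator
brackets; the split surjectivity fails for E = 0 over a nonzero ring and holds only in positive
rank, and neither clause is restated.) -/
theorem result
    {K : Type u} [Field K] [CharZero K]
    {O : Type v} [CommRing O] [Algebra K O] (δ : Derivation K O O)
    {E : Type w} [AddCommGroup E] [Module O E] [Module K E] [IsScalarTower K O E]
    [Module.Free O E] [Module.Finite O E]
    (δE : E →ₗ[K] E) (hδE : ∀ (a : O) (e : E), δE (a • e) = δ a • e + a • δE e)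
    (φ ψ : E →ₗ[O] E) (hψ : ∀ e : E, ψ e = δE (φ e) - φ (δE e)) :
    LinearMap.trace O E ψ = δ (LinearMap.trace O E φ) := by
  classical
  let ι := Module.Free.ChooseBasisIndex O E
  let b : Module.Basis ι O E := Module.Free.chooseBasis O E
  haveI : Fintype ι := inferInstance
  set M : Matrix ι ι O := LinearMap.toMatrix b b φ with hM
  set N : ι → ι → O := fun i j => b.repr (δE (b j)) i with hN
  have hφb : ∀ j, φ (b j) = ∑ i, M i j • b i := by
    intro j
    rw [← b.sum_repr (φ (b j))]
    refine Finset.sum_congr rfl fun i _ => ?_
    rw [hM, LinearMap.toMatrix_apply]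
  have hδb : ∀ j, δE (b j) = ∑ i, N i j • b i := by
    intro j
    rw [← b.sum_repr (δE (b j))]
  have hrepr_sum : ∀ (c : ι → O) (j : ι), b.repr (∑ i, c i • b i) j = c j := by
    intro c j
    rw [Module.Basis.repr_sum_self]
  -- compute the diagonal coefficient of ψ
  have hdiag : ∀ j, b.repr (ψ (b j)) j =
      δ (M j j) + ∑ i, M i j * N j i - ∑ i, N i j * M j i := by
    intro j
    rw [hψ, map_sub, Finsupp.sub_apply]
    congr 1
    · rw [hφb j, map_sum]
      simp_rw [hδE]
      rw [Finset.sum_add_distrib, map_add, Finsupp.add_apply, hrepr_sum]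
      congr 1
      simp_rw [hδb, Finset.smul_sum, smul_smul]
      rw [Finset.sum_comm]
      simp_rw [← Finset.sum_smul]
      rw [hrepr_sum]
    · rw [hδb j, map_sum]
      simp_rw [map_smul, hφb, Finset.smul_sum, smul_smul]
      rw [Finset.sum_comm]
      simp_rw [← Finset.sum_smul]
      rw [hrepr_sum]
  rw [LinearMap.trace_eq_matrix_trace O b ψ, LinearMap.trace_eq_matrix_trace O b φ,
    Matrix.trace, Matrix.trace, map_sum]
  simp only [Matrix.diag_apply, LinearMap.toMatrix_apply]
  simp_rw [hdiag]
  rw [Finset.sum_sub_distrib, Finset.sum_add_distrib]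
  have hswap : ∑ j, ∑ i, M i j * N j i = ∑ j, ∑ i, N i j * M j i := by
    rw [Finset.sum_comm]
    refine Finset.sum_congr rfl fun i _ => Finset.sum_congr rfl fun j _ => ?_
    ring
  rw [hswap, add_sub_cancel_right]
  refine Finset.sum_congr rfl fun j _ => ?_
  rw [hM, LinearMap.toMatrix_apply]

end Groth.Agent.S18797
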