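import Groth.Statements.S18802
import Mathlib

set_option autoImplicit false
universe u v w w' w''
open DefMod

namespace Groth.Agent.S18802

/-- Let K be a field of characteristic zero, D an associative K-algebra and E, F left D-modules. A
K-linear map s : D → Hom_K(E, F) with s(ab)(e) = a s(b)(e) + s(a)(b e) (a derivation into the
bimodule Hom_K(E, F), i.e. a Hochschild 1-cocycle) defines the twisted sum F ⊕_s E = F × E with a ·
(f, e) = (a f + s(a) e, a e), an extension of E by F. Every extension of left D-modules 0 → F → Q →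
E → 0 arises this way: there are such an s and a D-linear isomorphism Q ≅ F ⊕_s E carrying the given
map F → Q to the inclusion f ↦ (f, 0) and compatible with the two projections onto E. (Together with
the splitting criterion this identifies derivations modulo principal derivations with Ext¹_D(E, F);
the compatibility of that identification with addition and scalars is not restated.) -/
theorem result
    {K : Type u} [Field K] [CharZero K]
    {D : Type v} [Ring D] [Algebra K D]
    {E : Type w} [AddCommGroup E] [Module K E] [Module D E] [IsScalarTower K D E]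
    {F : Type w'} [AddCommGroup F] [Module K F] [Module D F] [IsScalarTower K D F]
    {Q : Type w''} [AddCommGroup Q] [Module D Q]
    (i : F →ₗ[D] Q) (p : Q →ₗ[D] E) (hi : Function.Injective i) (hp : Function.Surjective p)
    (hex : Function.Exact i p) :
    ∃ (s : D →ₗ[K] E →ₗ[K] F) (hs : W4c6defoisocp1.IsHomDerivation s) (Φ : Q ≃ₗ[D] W4c6defoisocp1.TwistExt s hs),
      (∀ f : F, Φ (i f) = W4c6defoisocp1.TwistExt.inl f) ∧ ∀ q : Q, W4c6defoisocp1.TwistExt.snd (Φ q) = p q := by
  classical
  letI : Module K Q := Module.compHom Q (algebraMap K D)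
  have hKQ : ∀ (c : K) (q : Q), c • q = algebraMap K D c • q := fun c q => rfl
  haveI : IsScalarTower K D Q := ⟨fun c d q => by
    rw [hKQ, Algebra.smul_def, mul_smul]⟩
  haveI : SMulCommClass K D Q := ⟨fun c d q => by
    rw [hKQ, hKQ, ← mul_smul, ← mul_smul, Algebra.commutes]⟩
  let iK : F →ₗ[K] Q := i.restrictScalars K
  let pK : Q →ₗ[K] E := p.restrictScalars K
  obtain ⟨ρ, hρ⟩ := LinearMap.exists_leftInverse_of_injective iK (LinearMap.ker_eq_bot.mpr hi)
  obtain ⟨σ₀, hσ₀⟩ := LinearMap.exists_rightInverse_of_surjective pK (LinearMap.range_eq_top.mpr hp)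
  have hρi : ∀ f, ρ (i f) = f := fun f => congrArg (fun φ => φ f) hρ
  have hpσ₀ : ∀ e, p (σ₀ e) = e := fun e => congrArg (fun φ => φ e) hσ₀
  have hpi : ∀ f, p (i f) = 0 := fun f => (hex (i f)).mpr ⟨f, rfl⟩
  let σ : E →ₗ[K] Q := σ₀ - iK ∘ₗ ρ ∘ₗ σ₀
  have hσdef : ∀ e, σ e = σ₀ e - i (ρ (σ₀ e)) := fun e => rfl
  have hpσ : ∀ e, p (σ e) = e := by
    intro e
    rw [hσdef, map_sub, hpσ₀, hpi, sub_zero]
  have hρσ : ∀ e, ρ (σ e) = 0 := by
    intro e
    rw [hσdef, map_sub, hρi, sub_self]
  have hdecomp : ∀ q : Q, q = i (ρ q) + σ (p q) := by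
    intro q
    have h1 : p (q - i (ρ q) - σ (p q)) = 0 := by
      rw [map_sub, map_sub, hpi, hpσ, sub_zero, sub_self]
    obtain ⟨f, hf⟩ := (hex _).mp h1
    have h2 : ρ (q - i (ρ q) - σ (p q)) = 0 := by
      rw [map_sub, map_sub, hρi, hρσ, sub_self, sub_zero]
    rw [← hf, hρi] at h2
    rw [h2, map_zero] at hf
    have h3 := sub_eq_zero.mp hf.symm
    rw [← h3]
    abel
  have hρsmul : ∀ (a : D) (q : Q), ρ (a • q) = a • ρ q + ρ (a • σ (p q)) := by
    intro a q
    conv_lhs => rw [hdecomp q, smul_add, map_add, ← map_smul, hρi]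
  let s : D →ₗ[K] E →ₗ[K] F :=
    { toFun := fun a =>
        { toFun := fun e => ρ (a • σ e)
          map_add' := fun e e' => by rw [map_add, smul_add, map_add]
          map_smul' := fun c e => by
            rw [map_smul σ c e, smul_comm a c, map_smul ρ c, RingHom.id_apply] }
      map_add' := fun a b => by
        ext e
        simp only [LinearMap.coe_mk, AddHom.coe_mk, LinearMap.add_apply]
        rw [add_smul, map_add]
      map_smul' := fun c a => by
        ext e
        simp only [LinearMap.coe_mk, AddHom.coe_mk, LinearMap.smul_apply, RingHom.id_apply]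
        rw [smul_assoc, map_smul ρ c] }
  have hsapp : ∀ a e, s a e = ρ (a • σ e) := fun a e => rfl
  have hs : W4c6defoisocp1.IsHomDerivation s := by
    intro a b e
    rw [hsapp, hsapp, hsapp, mul_smul, hρsmul a (b • σ e), map_smul p b, hpσ]
  let Φ₀ : Q →ₗ[D] W4c6defoisocp1.TwistExt s hs :=
    { toFun := fun q => W4c6defoisocp1.TwistExt.mk (ρ q, p q)
      map_add' := fun q q' => by
        apply W4c6defoisocp1.TwistExt.ext <;> simp
      map_smul' := fun a q => by
        apply W4c6defoisocp1.TwistExt.ext
        · simp only [W4c6defoisocp1.TwistExt.val_mk, RingHom.id_apply,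
            W4c6defoisocp1.TwistExt.val_smul]
          rw [hρsmul, hsapp]
        · simp }
  have hbij : Function.Bijective Φ₀ := by
    constructor
    · rw [injective_iff_map_eq_zero]
      intro q hq
      have h1 : ρ q = 0 := congrArg (fun x => (W4c6defoisocp1.TwistExt.val x).1) hq
      have h2 : p q = 0 := congrArg (fun x => (W4c6defoisocp1.TwistExt.val x).2) hq
      rw [hdecomp q, h1, h2, map_zero, map_zero, add_zero]
    · intro x
      refine ⟨i (W4c6defoisocp1.TwistExt.val x).1 + σ (W4c6defoisocp1.TwistExt.val x).2, ?_⟩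
      apply W4c6defoisocp1.TwistExt.ext
      · simp [Φ₀, hρi, hρσ]
      · simp [Φ₀, hpi, hpσ]
  refine ⟨s, hs, LinearEquiv.ofBijective Φ₀ hbij, ?_, ?_⟩
  · intro f
    apply W4c6defoisocp1.TwistExt.ext
    · simp [Φ₀, hρi]
    · simp [Φ₀, hpi]
  · intro q
    simp [Φ₀]

end Groth.Agent.S18802
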