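import Groth.Statements.S18803
import Mathlib

set_option autoImplicit false
universe u v w w'
open DefMod

namespace Groth.Agent.S18803

/-- Let K be a field of characteristic zero, D an associative K-algebra, E and F left D-modules, and s :
D → Hom_K(E, F) a K-linear map with s(ab)(e) = a s(b)(e) + s(a)(b e). The twisted sum F ⊕_s E (that
is F × E with a · (f, e) = (a f + s(a) e, a e)) is a trivial extension of E by F — there is a
D-linear isomorphism F ⊕_s E ≅ F × E with the direct-sum module structure, carrying the inclusion f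
↦ (f, 0) to itself and compatible with the second projections — if and only if s is principal:
s(a)(e) = a σ(e) − σ(a e) for some K-linear σ : E → F (a Hochschild 1-coboundary). -/
theorem result
    {K : Type u} [Field K] [CharZero K]
    {D : Type v} [Ring D] [Algebra K D]
    {E : Type w} [AddCommGroup E] [Module K E] [Module D E] [IsScalarTower K D E]
    {F : Type w'} [AddCommGroup F] [Module K F] [Module D F] [IsScalarTower K D F]
    (s : D →ₗ[K] E →ₗ[K] F) (hs : W4c6defoisocp1.IsHomDerivation s) :
    (∃ Ψ : W4c6defoisocp1.TwistExt s hs ≃ₗ[D] F × E,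
        (∀ f : F, Ψ (W4c6defoisocp1.TwistExt.inl f) = (f, 0)) ∧ ∀ x : W4c6defoisocp1.TwistExt s hs, (Ψ x).2 = W4c6defoisocp1.TwistExt.snd x) ↔
      W4c6defoisocp1.IsPrincipal s := by
  constructor
  · rintro ⟨Ψ, hΨinl, hΨsnd⟩
    have hs1 : s 1 = 0 := W4c6defoisocp1.TwistExt.map_one_eq_zero hs
    -- τ e := first component of Ψ (0, e)
    have h2 : ∀ e : E, (Ψ (W4c6defoisocp1.TwistExt.mk (0, e))).2 = e := fun e => by
      rw [hΨsnd]; rfl
    have hadd : ∀ e e' : E, (W4c6defoisocp1.TwistExt.mk ((0 : F), e + e') : W4c6defoisocp1.TwistExt s hs) =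
        W4c6defoisocp1.TwistExt.mk (0, e) + W4c6defoisocp1.TwistExt.mk (0, e') := by
      intro e e'
      apply W4c6defoisocp1.TwistExt.ext <;> simp
    have hsm : ∀ (a : D) (e : E), a • (W4c6defoisocp1.TwistExt.mk ((0 : F), e) : W4c6defoisocp1.TwistExt s hs) =
        W4c6defoisocp1.TwistExt.inl (s a e) + W4c6defoisocp1.TwistExt.mk (0, a • e) := by
      intro a e
      apply W4c6defoisocp1.TwistExt.ext <;> simp
    let σ : E →ₗ[K] F :=
      { toFun := fun e => (Ψ (W4c6defoisocp1.TwistExt.mk (0, e))).1
        map_add' := fun e e' => by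
          rw [hadd, map_add]; rfl
        map_smul' := fun c e => by
          have h3 := hsm (algebraMap K D c) e
          have h4 : s (algebraMap K D c) = 0 := by
            rw [Algebra.algebraMap_eq_smul_one, map_smul, hs1, smul_zero]
          rw [h4, LinearMap.zero_apply, map_zero, zero_add, algebraMap_smul D c e] at h3
          rw [← h3, map_smul, RingHom.id_apply]
          simp only [Prod.smul_fst]
          rw [algebraMap_smul D c] }
    refine ⟨σ, fun a e => ?_⟩
    have h5 := congrArg (fun x => (Ψ x).1) (hsm a e)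
    simp only [map_smul, map_add, hΨinl, Prod.smul_fst, Prod.fst_add] at h5
    show s a e = a • (Ψ (W4c6defoisocp1.TwistExt.mk (0, e))).1 - (Ψ (W4c6defoisocp1.TwistExt.mk (0, a • e))).1
    rw [h5]
    abel
  · rintro ⟨σ, hσ⟩
    let Ψ₀ : W4c6defoisocp1.TwistExt s hs →ₗ[D] F × E :=
      { toFun := fun x => ((W4c6defoisocp1.TwistExt.val x).1 + σ (W4c6defoisocp1.TwistExt.val x).2,
          (W4c6defoisocp1.TwistExt.val x).2)
        map_add' := fun x y => by
          simp only [W4c6defoisocp1.TwistExt.val_add, Prod.fst_add, Prod.snd_add, map_add, Prod.mk_add_mk]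
          congr 1
          abel
        map_smul' := fun a x => by
          simp only [W4c6defoisocp1.TwistExt.val_smul, RingHom.id_apply, Prod.smul_mk, hσ, smul_add]
          congr 1
          abel }
    have hbij : Function.Bijective Ψ₀ := by
      constructor
      · intro x y hxy
        simp only [Ψ₀, LinearMap.coe_mk, AddHom.coe_mk, Prod.mk.injEq] at hxy
        obtain ⟨h1, h2⟩ := hxy
        apply W4c6defoisocp1.TwistExt.ext
        · rw [h2] at h1
          exact add_right_cancel h1
        · exact h2
      · rintro ⟨f, e⟩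
        refine ⟨W4c6defoisocp1.TwistExt.mk (f - σ e, e), ?_⟩
        simp [Ψ₀]
    refine ⟨LinearEquiv.ofBijective Ψ₀ hbij, ?_, ?_⟩
    · intro f
      simp [Ψ₀]
    · intro x
      simp [Ψ₀]

end Groth.Agent.S18803
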