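import Groth.Statements.S18808
import Mathlib
import Groth.Agent.Lib.helper28.ComodMod

set_option autoImplicit false
universe u v v' w w' x
open TensorProduct
open HopfRep

namespace Groth.Agent.S18808

open Groth.Agent.Lib.helper28.ComodMod

section
variable {k : Type u} [Field k] {C : Type v} [AddCommGroup C] [Module k C]
  {D : Type v'} [AddCommGroup D] [Module k D] {Q : Type w} [AddCommGroup Q] [Module k Q]

lemma T_lTensor (i : C →ₗ[k] D) (ψ : D →ₗ[k] k) (y : Q ⊗[k] C) :
    T Q ψ (i.lTensor Q y) = T Q (ψ ∘ₗ i) y := by
  induction y using TensorProduct.induction_on with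
  | zero => simp
  | tmul x c => simp
  | add a b ha hb => simp only [map_add, ha, hb]

/-- membership in the image of `Q ⊗ C → Q ⊗ D` is tested by the functionals killing `C`. -/
lemma mem_range_lTensor_iff (i : C →ₗ[k] D) (z : Q ⊗[k] D) :
    z ∈ LinearMap.range (i.lTensor Q) ↔ ∀ ψ : D →ₗ[k] k, ψ ∘ₗ i = 0 → T Q ψ z = 0 := by
  constructor
  · rintro ⟨y, rfl⟩ ψ hψ
    rw [T_lTensor, hψ]
    simp [T]
  · intro h
    have hex : Function.Exact i (LinearMap.range i).mkQ := LinearMap.exact_map_mkQ_range i
    have hex2 := lTensor_exact Q hex (Submodule.mkQ_surjective _)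
    rw [LinearMap.exact_iff] at hex2
    rw [← hex2, LinearMap.mem_ker]
    apply eq_zero_of_forall_T
    intro φ
    rw [T_lTensor]
    apply h
    ext c
    have hc : (Submodule.Quotient.mk (i c) : D ⧸ LinearMap.range i) = 0 :=
      (Submodule.Quotient.mk_eq_zero _).2 ⟨c, rfl⟩
    simp [hc]

end

/-- Let k be a field, i : C → D an injective morphism of k-coalgebras and V a right D-comodule with
coaction ρ. Call a D-subcomodule K of V admissible when the induced coaction of V/K, namely ρ
followed by the projection V ⊗ D → (V/K) ⊗ D, takes all its values in the image of (V/K) ⊗ C → (V/K)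
⊗ D (so that V/K comes from a C-comodule). Then there is a least admissible D-subcomodule of V: V
has a largest quotient D-comodule coming from C, through which every D-comodule map from V to a
comodule coming from C factors. (The source states this for left comodules over the coordinate
bialgebras of an affine monoid scheme and its open schematically dense group of units, as the
existence of a universal map from a representation of the unit group to a representation of the
monoid; it uses that assumption only through the injectivity of the restriction map.) -/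
theorem result (k : Type u) [Field k]
    (C : Type v) [AddCommGroup C] [Module k C] [Coalgebra k C]
    (D : Type v') [AddCommGroup D] [Module k D] [Coalgebra k D]
    (i : C →ₗc[k] D) (hi : Function.Injective i)
    (V : Type w) [AddCommGroup V] [Module k V] [HopfRep.Comod k D V] :
    ∃ K : Submodule k V, HopfRep.IsSubcomod (k := k) (A := D) K ∧
      (∀ v : V, K.mkQ.rTensor D (HopfRep.Comod.coact (k := k) (A := D) v) ∈
        LinearMap.range ((i : C →ₗ[k] D).lTensor (V ⧸ K))) ∧
      ∀ K' : Submodule k V, HopfRep.IsSubcomod (k := k) (A := D) K' →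
        (∀ v : V, K'.mkQ.rTensor D (HopfRep.Comod.coact (k := k) (A := D) v) ∈
          LinearMap.range ((i : C →ₗ[k] D).lTensor (V ⧸ K'))) → K ≤ K' := by
  classical
  set ρ := HopfRep.Comod.coact (k := k) (A := D) (V := V) with hρ
  set S : Set (Submodule k V) := {K' | HopfRep.IsSubcomod (k := k) (A := D) K' ∧
    ∀ v : V, K'.mkQ.rTensor D (ρ v) ∈ LinearMap.range ((i : C →ₗ[k] D).lTensor (V ⧸ K'))} with hS
  refine ⟨sInf S, isSubcomod_sInf S (fun X hX => hX.1), ?_, fun K' hK' hadm => sInf_le ⟨hK', hadm⟩⟩
  intro v
  rw [mem_range_lTensor_iff]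
  intro ψ hψ
  rw [T_rTensor, Submodule.mkQ_apply, Submodule.Quotient.mk_eq_zero, Submodule.mem_sInf]
  intro K' hK'
  have h1 := (mem_range_lTensor_iff (i : C →ₗ[k] D) _).1 (hK'.2 v) ψ hψ
  rw [T_rTensor, Submodule.mkQ_apply, Submodule.Quotient.mk_eq_zero] at h1
  exact h1

end Groth.Agent.S18808
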