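import Groth.Statements.S18810
import Mathlib
import Groth.Agent.Lib.helper28.ComodMod

set_option autoImplicit false
universe u v v' w w' x
open TensorProduct
open HopfRep

namespace Groth.Agent.S18810

open Groth.Agent.Lib.helper28.ComodMod

/-- Let k be a field, C a k-coalgebra, V a right C-comodule and (S_j) a family of simple C-comodules
which are pairwise non-isomorphic (for j ≠ j' no k-linear isomorphism S_j ≃ S_j' commutes with the
coactions). For each j let V[j] be the isotypic component of type S_j: the sum of the images of all
comodule maps S_j → V (equivalently of all simple subcomodules of V isomorphic to S_j, a nonzero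
such map being injective). Then the family j ↦ V[j] is independent, so that the socle of V is the
direct sum of its isotypic components. (The source states this for representations of an affine
monoid scheme over k, i.e. left comodules over its coordinate bialgebra; the row is the
right-comodule form over any coalgebra.) -/
theorem result (k : Type u) [Field k]
    (C : Type v) [AddCommGroup C] [Module k C] [Coalgebra k C]
    (V : Type w) [AddCommGroup V] [Module k V] [HopfRep.Comod k C V]
    {ι : Type x} (S : ι → Type w') [∀ j, AddCommGroup (S j)] [∀ j, Module k (S j)]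
    [∀ j, HopfRep.Comod k C (S j)] (hS : ∀ j, HopfRep.IsSimpleComod k C (S j))
    (hne : ∀ j j', j ≠ j' → ∀ e : S j ≃ₗ[k] S j', ¬ Hoch.IsComodHom C (e : S j →ₗ[k] S j')) :
    iSupIndep (fun j => ⨆ f : {f : S j →ₗ[k] V // Hoch.IsComodHom C f}, LinearMap.range f.1) := by
  classical
  haveI hSm : ∀ j, IsSimpleModule (R k C) (AsMod k C (S j)) := fun j =>
    (isSimpleModule_asMod_iff k C (S j)).2 (hS j)
  set N : ι → Submodule (R k C) (AsMod k C V) := fun j =>
    isotypicComponent (R k C) (AsMod k C V) (AsMod k C (S j)) with hN
  -- Claim A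
  have hA : ∀ j, (⨆ f : {f : S j →ₗ[k] V // Hoch.IsComodHom C f}, LinearMap.range f.1) ≤
      ofSub (N j) := by
    intro j
    refine iSup_le ?_
    rintro ⟨f, hf⟩
    set F : AsMod k C (S j) →ₗ[R k C] AsMod k C V := toLin f hf with hF
    have hr : LinearMap.range f = ofSub (LinearMap.range F) := by
      rw [ofSub_range, hF, ofLin_toLin]
    show LinearMap.range f ≤ ofSub (N j)
    rw [hr, ofSub_le_iff]
    rcases F.injective_or_eq_zero with hinj | h0
    · apply le_sSup
      exact ⟨(LinearEquiv.ofInjective F hinj).symm⟩
    · rw [h0, LinearMap.range_zero]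
      exact bot_le
  -- isotypic facts
  have hiso : ∀ j (m : Submodule (R k C) (AsMod k C V)), m ≤ N j → IsSimpleModule (R k C) m →
      Nonempty (m ≃ₗ[R k C] AsMod k C (S j)) := by
    intro j m hm hsimple
    exact isIsotypicOfType_submodule_iff.1
      (IsIsotypicOfType.isotypicComponent (R k C) (AsMod k C V) (AsMod k C (S j))) m hm
  -- Claim B
  have hB : iSupIndep N := by
    rw [iSupIndep_def]
    intro j
    rw [disjoint_iff]
    by_contra hne0
    set X := N j ⊓ ⨆ (j') (_ : j' ≠ j), N j' with hX
    haveI : IsSemisimpleModule (R k C) (N j) := by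
      show IsSemisimpleModule (R k C)
        (isotypicComponent (R k C) (AsMod k C V) (AsMod k C (S j)))
      infer_instance
    haveI : IsSemisimpleModule (R k C) X :=
      IsSemisimpleModule.of_injective _
        (Submodule.inclusion_injective (inf_le_left : X ≤ N j))
    obtain ⟨S', hS'le, hS'simple⟩ :=
      (IsSemisimpleModule.eq_bot_or_exists_simple_le X).resolve_left hne0
    haveI := hS'simple
    obtain ⟨e1⟩ := hiso j S' (hS'le.trans inf_le_left) hS'simple
    set s : Set (Submodule (R k C) (AsMod k C V)) := {m | ∃ j', j' ≠ j ∧ m = N j'} with hs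
    have hle : S' ≤ sSup s := by
      refine (hS'le.trans inf_le_right).trans ?_
      refine iSup_le fun j' => iSup_le fun hj' => ?_
      exact le_sSup ⟨j', hj', rfl⟩
    haveI : ∀ m : s, IsSemisimpleModule (R k C) m := by
      rintro ⟨m, j', hj', rfl⟩
      show IsSemisimpleModule (R k C)
        (isotypicComponent (R k C) (AsMod k C V) (AsMod k C (S j')))
      infer_instance
    obtain ⟨m, ⟨j', hj', rfl⟩, S'', hS''le, ⟨e2⟩⟩ := Submodule.le_linearEquiv_of_le_sSup S' s hle
    haveI : IsSimpleModule (R k C) S'' := IsSimpleModule.congr e2.symm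
    obtain ⟨e3⟩ := hiso j' S'' hS''le inferInstance
    exact hne j j' (Ne.symm hj') (ofEquiv ((e1.symm.trans e2).trans e3)) (isComodHom_ofEquiv _)
  have hC : iSupIndep (fun j => ofSub (N j)) := by
    rw [iSupIndep_def] at hB ⊢
    intro j
    have := hB j
    rw [disjoint_iff] at this ⊢
    have h2 : (⨆ (j') (_ : j' ≠ j), ofSub (N j')) = ofSub (⨆ (j') (_ : j' ≠ j), N j') := by
      rw [ofSub_iSup]
      congr 1
      ext j'
      rw [ofSub_iSup]
    rw [h2, ← ofSub_inf, this, ofSub_bot]
  exact hC.mono hA

end Groth.Agent.S18810
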