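import Groth.Statements.S18811
import Mathlib

set_option autoImplicit false
universe u
open CategoryTheory CategoryTheory.Limits AlgebraicGeometry
open Variety

namespace Groth.Agent.S18811

section Helpers
open CategoryTheory CategoryTheory.Limits AlgebraicGeometry

lemma qsSpace {X S : Scheme.{u}} (f : X ⟶ S) [IsAffine S] [IsAffineHom (pullback.diagonal f)] :
    QuasiSeparatedSpace X := by
  haveI : QuasiSeparated f := ⟨inferInstance⟩
  exact quasiSeparatedSpace_of_quasiSeparated f

lemma main (k : Type u) [Field k]
    (X : Scheme.{u}) (fX : X ⟶ Spec (CommRingCat.of k)) [CompactSpace ↥X]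
    [IsAffineHom (pullback.diagonal fX)]
    (Y : Scheme.{u}) (fY : Y ⟶ Spec (CommRingCat.of k)) [CompactSpace ↥Y]
    [IsAffineHom (pullback.diagonal fY)] :
    IsPushout fX.appTop fY.appTop (pullback.fst fX fY).appTop (pullback.snd fX fY).appTop := by
  haveI := qsSpace fX
  haveI := qsSpace fY
  have H : IsPullback (pullback.fst fX fY) (pullback.snd fX fY) fX fY := IsPullback.of_hasPullback _ _
  have hflat : (fX.appLE ⊤ ⊤ le_top).hom.Flat := by
    letI : Field Γ(Spec (CommRingCat.of k), ⊤) :=
      ((Scheme.ΓSpecIso (CommRingCat.of k)).commRingCatIsoToRingEquiv).toMulEquiv.isField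
        (Field.toIsField k) |>.toField
    algebraize [(fX.appLE ⊤ ⊤ le_top).hom]
    show Module.Flat _ _
    infer_instance
  have := isIso_pushoutSection_of_isCompact_of_flat_right_of_ringHomFlat H
    (US := ⊤) (UT := ⊤) (UX := ⊤) (UY := ⊤) le_top le_top (by simp)
    (isAffineOpen_top _) isCompact_univ isQuasiSeparated_univ isCompact_univ isQuasiSeparated_univ
    hflat
  have h2 := (isIso_pushoutSection_iff ..).mp this
  have e (Z W : Scheme.{u}) (f : Z ⟶ W) : f.appLE ⊤ ⊤ le_top = f.appTop := by
    simp only [Scheme.Hom.appLE, Scheme.Hom.appTop]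
    exact (congrArg (fun t => Scheme.Hom.app f ⊤ ≫ t) (Z.presheaf.map_id _)).trans
      (Category.comp_id _)
  simpa only [e] using h2

end Helpers


/-- Let k be a field and X, Y quasi-compact k-schemes whose diagonal morphisms over k are affine
(semi-separated; for instance X and Y separated over k). Then the canonical map Γ(X, O_X) ⊗_k Γ(Y,
O_Y) → Γ(X ×_k Y, O) is an isomorphism: the commutative square of rings of global sections formed by
Spec k, X, Y and X ×_k Y with the pullback maps along the structure morphisms and the two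
projections is a pushout square of commutative rings. -/
theorem result (k : Type u) [Field k]
    (X : Scheme.{u}) [X.Over (Spec (CommRingCat.of k))] [CompactSpace ↥X]
    [IsAffineHom (pullback.diagonal (X ↘ (Spec (CommRingCat.of k))))]
    (Y : Scheme.{u}) [Y.Over (Spec (CommRingCat.of k))] [CompactSpace ↥Y]
    [IsAffineHom (pullback.diagonal (Y ↘ (Spec (CommRingCat.of k))))] :
    IsPushout (X ↘ (Spec (CommRingCat.of k))).appTop (Y ↘ (Spec (CommRingCat.of k))).appTop
      (pullback.fst (X ↘ (Spec (CommRingCat.of k))) (Y ↘ (Spec (CommRingCat.of k)))).appTop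
      (pullback.snd (X ↘ (Spec (CommRingCat.of k))) (Y ↘ (Spec (CommRingCat.of k)))).appTop := by
  exact main k X _ Y _

end Groth.Agent.S18811
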