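import Groth.Statements.S18814
import Mathlib
import Groth.Agent.Lib.helper28.ComodMod

set_option autoImplicit false
universe u v v' w w'
open TensorProduct
open HopfRep

namespace Groth.Agent.S18814

open Groth.Agent.Lib.helper28.ComodMod

section
variable {k : Type u} [Field k] {C : Type v} [AddCommGroup C] [Module k C]
  {D : Type v'} [AddCommGroup D] [Module k D] {V : Type w} [AddCommGroup V] [Module k V]

lemma contr1 (ψ : C →ₗ[k] k) (φ : D →ₗ[k] k) :
    T V ψ ∘ₗ T (V ⊗[k] C) φ =
      T V (LinearMap.mul' k k ∘ₗ TensorProduct.map ψ φ) ∘ₗ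
        (TensorProduct.assoc k V C D).toLinearMap := by
  apply TensorProduct.ext_threefold
  intro x c d
  simp only [LinearMap.comp_apply, LinearEquiv.coe_coe, T_tmul, TensorProduct.assoc_tmul,
    TensorProduct.map_tmul, LinearMap.mul'_apply, map_smul, mul_smul]
  exact smul_comm _ _ _

lemma contr2 (ψ : C →ₗ[k] k) (φ : D →ₗ[k] k) :
    T V φ ∘ₗ T (V ⊗[k] D) ψ =
      T V (LinearMap.mul' k k ∘ₗ TensorProduct.map ψ φ) ∘ₗ
        (TensorProduct.comm k D C).toLinearMap.lTensor V ∘ₗ
        (TensorProduct.assoc k V D C).toLinearMap := by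
  apply TensorProduct.ext_threefold
  intro x d c
  simp only [LinearMap.comp_apply, LinearEquiv.coe_coe, T_tmul, TensorProduct.assoc_tmul,
    TensorProduct.map_tmul, LinearMap.mul'_apply, map_smul, mul_smul, LinearMap.lTensor_tmul,
    TensorProduct.comm_tmul]

end

/-- Let k be a field, C and D commutative bialgebras over k (coordinate rings of affine monoid schemes M
and N) and V a k-vector space carrying a right C-comodule structure with coaction ρ_C : V → V ⊗ C
and a right D-comodule structure with coaction ρ_D : V → V ⊗ D which commute: (ρ_C ⊗ id_D) ∘ ρ_D and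
(ρ_D ⊗ id_C) ∘ ρ_C agree in V ⊗ C ⊗ D after reassociating and swapping the last two factors (the
actions of M and N on V commute). Assume V is semisimple as a D-comodule. Then for every simple
D-comodule S the isotypic component of V of type S, the sum of the images of all D-comodule maps S →
V, is a C-subcomodule of V. (The source works with left comodules; this is the right-comodule form.) -/
theorem result (k : Type u) [Field k]
    (C : Type v) [CommRing C] [Bialgebra k C] (D : Type v') [CommRing D] [Bialgebra k D]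
    (V : Type w) [AddCommGroup V] [Module k V] [HopfRep.Comod k C V] [HopfRep.Comod k D V]
    (hcomm : (TensorProduct.assoc k V C D).toLinearMap ∘ₗ
        (HopfRep.Comod.coact (k := k) (A := C) (V := V)).rTensor D ∘ₗ HopfRep.Comod.coact (k := k) (A := D) =
      (TensorProduct.comm k D C).toLinearMap.lTensor V ∘ₗ (TensorProduct.assoc k V D C).toLinearMap ∘ₗ
        (HopfRep.Comod.coact (k := k) (A := D) (V := V)).rTensor C ∘ₗ HopfRep.Comod.coact (k := k) (A := C))
    (hV : HopfRep.IsSemisimpleComod k D V)
    (S : Type w') [AddCommGroup S] [Module k S] [HopfRep.Comod k D S] (hS : HopfRep.IsSimpleComod k D S) :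
    HopfRep.IsSubcomod (k := k) (A := C)
      (⨆ f : {f : S →ₗ[k] V // Hoch.IsComodHom D f}, LinearMap.range f.1) := by
  classical
  rw [isSubcomod_iff]
  intro ψ x hx
  have hop : Hoch.IsComodHom D (op (C := C) ψ : V →ₗ[k] V) := by
    rw [isComodHom_iff]
    intro φ v
    have e1 : op (C := C) ψ (op (C := D) φ v) =
        T V ψ (T (V ⊗[k] C) φ ((HopfRep.Comod.coact (k := k) (A := C) (V := V)).rTensor D
          (HopfRep.Comod.coact (k := k) (A := D) v))) := by
      rw [T_rTensor]
      rfl
    have e2 : op (C := D) φ (op (C := C) ψ v) =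
        T V φ (T (V ⊗[k] D) ψ ((HopfRep.Comod.coact (k := k) (A := D) (V := V)).rTensor C
          (HopfRep.Comod.coact (k := k) (A := C) v))) := by
      rw [T_rTensor]
      rfl
    have h1 := LinearMap.congr_fun (contr1 (V := V) ψ φ)
      ((HopfRep.Comod.coact (k := k) (A := C) (V := V)).rTensor D
          (HopfRep.Comod.coact (k := k) (A := D) v))
    have h2 := LinearMap.congr_fun (contr2 (V := V) ψ φ)
      ((HopfRep.Comod.coact (k := k) (A := D) (V := V)).rTensor C
          (HopfRep.Comod.coact (k := k) (A := C) v))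
    have h3 := LinearMap.congr_fun hcomm v
    simp only [LinearMap.comp_apply, LinearEquiv.coe_coe] at h1 h2 h3
    rw [e1, e2, h1, h2, h3]
  have hle : (⨆ f : {f : S →ₗ[k] V // Hoch.IsComodHom D f}, LinearMap.range f.1) ≤
      (⨆ f : {f : S →ₗ[k] V // Hoch.IsComodHom D f}, LinearMap.range f.1).comap
        (op (C := C) ψ) := by
    refine iSup_le ?_
    rintro ⟨f, hf⟩
    rintro _ ⟨s, rfl⟩
    have hcomp : Hoch.IsComodHom D ((op (C := C) ψ : V →ₗ[k] V) ∘ₗ f) := by
      rw [isComodHom_iff]
      intro φ v
      simp only [LinearMap.comp_apply]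
      rw [(isComodHom_iff f).1 hf φ v, (isComodHom_iff _).1 hop φ (f v)]
    exact le_iSup (fun f : {f : S →ₗ[k] V // Hoch.IsComodHom D f} => LinearMap.range f.1)
      ⟨(op (C := C) ψ : V →ₗ[k] V) ∘ₗ f, hcomp⟩ ⟨s, rfl⟩
  exact hle hx

end Groth.Agent.S18814
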