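import Groth.Statements.S18815
import Mathlib

set_option autoImplicit false
universe u v w w'
open TensorProduct
open HopfRep

namespace Groth.Agent.S18815

/-- Let k be a field, C a k-coalgebra and V, W simple right C-comodules (nonzero, with no subcomodules
other than 0 and the whole space). Then every k-linear map V → W commuting with the coactions is
either zero or bijective. (The source states this for irreducible representations of an affine
monoid scheme over k, i.e. left comodules over its coordinate bialgebra.) -/
theorem result (k : Type u) [Field k]
    (C : Type v) [AddCommGroup C] [Module k C] [Coalgebra k C]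
    (V : Type w) [AddCommGroup V] [Module k V] [HopfRep.Comod k C V] (hV : HopfRep.IsSimpleComod k C V)
    (W : Type w') [AddCommGroup W] [Module k W] [HopfRep.Comod k C W] (hW : HopfRep.IsSimpleComod k C W)
    (f : V →ₗ[k] W) (hf : Hoch.IsComodHom C f) :
    f = 0 ∨ Function.Bijective f := by
  have hker : HopfRep.IsSubcomod (k := k) (A := C) (LinearMap.ker f) := by
    intro w hw
    rw [LinearMap.mem_ker] at hw
    have hex : Function.Exact ((LinearMap.ker f).subtype.rTensor C) (f.rTensor C) :=
      Module.Flat.rTensor_exact C (LinearMap.exact_subtype_ker_map f)
    apply (hex _).mp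
    have h1 := congrArg (fun g => g w) hf
    simp only [LinearMap.comp_apply] at h1
    rw [← h1, hw, map_zero]
  have hrange : HopfRep.IsSubcomod (k := k) (A := C) (LinearMap.range f) := by
    rintro _ ⟨v, rfl⟩
    have h1 := congrArg (fun g => g v) hf
    simp only [LinearMap.comp_apply] at h1
    rw [h1]
    have h2 : f.rTensor C =
        ((LinearMap.range f).subtype.rTensor C) ∘ₗ (f.rangeRestrict.rTensor C) := by
      rw [← LinearMap.rTensor_comp, LinearMap.subtype_comp_codRestrict]
    rw [h2]
    exact ⟨_, rfl⟩
  rcases hV.2 _ hker with h | h
  · rcases hW.2 _ hrange with h' | h'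
    · left
      exact LinearMap.range_eq_bot.mp h'
    · right
      exact ⟨LinearMap.ker_eq_bot.mp h, LinearMap.range_eq_top.mp h'⟩
  · left
    exact LinearMap.ker_eq_top.mp h

end Groth.Agent.S18815
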