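import Groth.Statements.S18818
import Mathlib
import Groth.Agent.Lib.helper28.ComodMod

set_option autoImplicit false
universe u v w
open TensorProduct
open HopfRep

namespace Groth.Agent.S18818

open Groth.Agent.Lib.helper28.ComodMod

/-- Let k be a field, C a k-coalgebra and V a right C-comodule which is semisimple in the sense that
every subcomodule has a complementary subcomodule (equivalently every injective comodule map into V
splits). Then V is completely reducible: V is the sum of its simple subcomodules, the nonzero
subcomodules W whose only subcomodules are 0 and W. (The source states this for representations of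
an affine monoid scheme over k, i.e. left comodules over its coordinate bialgebra; the converse
implication and the stability of the class under subobjects and quotients are not part of this row.) -/
theorem result (k : Type u) [Field k]
    (C : Type v) [AddCommGroup C] [Module k C] [Coalgebra k C]
    (V : Type w) [AddCommGroup V] [Module k V] [HopfRep.Comod k C V] (hV : HopfRep.IsSemisimpleComod k C V) :
    (⨆ W : {W : Submodule k V // HopfRep.IsSubcomod (k := k) (A := C) W ∧ W ≠ ⊥ ∧
        ∀ W' : Submodule k V, HopfRep.IsSubcomod (k := k) (A := C) W' → W' ≤ W → W' = ⊥ ∨ W' = W},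
      (W.1 : Submodule k V)) = ⊤ := by
  classical
  rw [← isSemisimpleModule_asMod_iff k C V] at hV
  have htop := IsSemisimpleModule.sSup_simples_eq_top (R k C) (AsMod k C V)
  have h2 := congrArg ofSub htop
  rw [ofSub_sSup, ofSub_top] at h2
  rw [eq_top_iff, ← h2]
  refine sSup_le ?_
  rintro _ ⟨m, hm, rfl⟩
  have hm' : IsSimpleModule (R k C) m := hm
  have hatom : IsAtom m := isSimpleModule_iff_isAtom.1 hm'
  refine le_iSup_of_le ⟨ofSub m, isSubcomod_ofSub m, ?_, ?_⟩ le_rfl
  · intro h
    exact hatom.1 ((ofSub_eq_bot_iff m).1 h)
  · intro W' hW' hle
    have hle' : toSub W' hW' ≤ m := by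
      intro x hx
      exact hle hx
    rcases hatom.le_iff.1 hle' with h | h
    · left
      rw [← ofSub_toSub W' hW', h, ofSub_bot]
    · right
      rw [← ofSub_toSub W' hW', h]

end Groth.Agent.S18818
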