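import Groth.Statements.S18819
import Mathlib
import Groth.Agent.Lib.helper28.ComodMod

set_option autoImplicit false
universe u v w w'
open TensorProduct
open HopfRep

namespace Groth.Agent.S18819

open Groth.Agent.Lib.helper28.ComodMod

/-- Let k be a field, C a k-coalgebra and V a right C-comodule which is the sum of finitely many simple
subcomodules, given as the images of comodule maps g_i : K_i → V (i < n) from simple comodules K_i.
If S is a simple comodule and f : S → V a nonzero comodule map (so that its image is a simple
subcomodule of V), then S is isomorphic as a comodule to some K_i: there is a k-linear isomorphism S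
≃ K_i commuting with the coactions. (The source states this for representations of an affine monoid
scheme over k with the subrepresentations given as subspaces; here the simple subcomodules are
presented as images of maps from simple comodules.) -/
theorem result (k : Type u) [Field k]
    (C : Type v) [AddCommGroup C] [Module k C] [Coalgebra k C]
    (V : Type w) [AddCommGroup V] [Module k V] [HopfRep.Comod k C V]
    {n : ℕ} (K : Fin n → Type w') [∀ i, AddCommGroup (K i)] [∀ i, Module k (K i)] [∀ i, HopfRep.Comod k C (K i)]
    (hK : ∀ i, HopfRep.IsSimpleComod k C (K i)) (g : ∀ i, K i →ₗ[k] V) (hg : ∀ i, Hoch.IsComodHom C (g i))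
    (hsum : (⨆ i, LinearMap.range (g i)) = ⊤)
    (S : Type w') [AddCommGroup S] [Module k S] [HopfRep.Comod k C S] (hS : HopfRep.IsSimpleComod k C S)
    (f : S →ₗ[k] V) (hf : Hoch.IsComodHom C f) (hf0 : f ≠ 0) :
    ∃ (i : Fin n) (e : S ≃ₗ[k] K i), Hoch.IsComodHom C (e : S →ₗ[k] K i) := by
  classical
  haveI hSm : IsSimpleModule (R k C) (AsMod k C S) := (isSimpleModule_asMod_iff k C S).2 hS
  haveI hKm : ∀ i, IsSimpleModule (R k C) (AsMod k C (K i)) := fun i =>
    (isSimpleModule_asMod_iff k C (K i)).2 (hK i)
  set F : AsMod k C S →ₗ[R k C] AsMod k C V := toLin f hf with hF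
  set G : ∀ i, AsMod k C (K i) →ₗ[R k C] AsMod k C V := fun i => toLin (g i) (hg i) with hG
  have hF0 : F ≠ 0 := by
    intro h
    apply hf0
    have := congrArg ofLin h
    rw [hF, ofLin_toLin] at this
    rw [this]
    ext x
    rfl
  have hFinj : Function.Injective F := LinearMap.injective_of_ne_zero hF0
  haveI hN : IsSimpleModule (R k C) (LinearMap.range F) :=
    IsSimpleModule.congr (LinearEquiv.ofInjective F hFinj).symm
  set s : Set (Submodule (R k C) (AsMod k C V)) := {m | ∃ i, G i ≠ 0 ∧ m = LinearMap.range (G i)}
    with hs
  haveI hsimple : ∀ m : s, IsSimpleModule (R k C) m := by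
    rintro ⟨m, i, hi, rfl⟩
    exact IsSimpleModule.congr (LinearEquiv.ofInjective (G i) (LinearMap.injective_of_ne_zero hi)).symm
  have htop : sSup s = ⊤ := by
    apply ofSub_injective
    rw [ofSub_top, eq_top_iff, ← hsum]
    refine iSup_le fun i => ?_
    by_cases hi : G i = 0
    · have : g i = 0 := by
        have := congrArg ofLin hi
        rw [hG] at this
        simp only [ofLin_toLin] at this
        rw [this]
        ext x
        rfl
      rw [this, LinearMap.range_zero]
      exact bot_le
    · have hmem : LinearMap.range (G i) ∈ s := ⟨i, hi, rfl⟩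
      have h1 : ofSub (LinearMap.range (G i)) ≤ ofSub (sSup s) :=
        (ofSub_le_iff _ _).2 (le_sSup hmem)
      rw [ofSub_range, hG] at h1
      simp only [ofLin_toLin] at h1
      exact h1
  obtain ⟨m, ⟨i, hi, rfl⟩, ⟨e⟩⟩ := Submodule.linearEquiv_of_sSup_eq_top (LinearMap.range F) s htop
  refine ⟨i, ofEquiv (((LinearEquiv.ofInjective F hFinj).trans e).trans
    (LinearEquiv.ofInjective (G i) (LinearMap.injective_of_ne_zero hi)).symm), ?_⟩
  exact isComodHom_ofEquiv _

end Groth.Agent.S18819
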