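import Groth.Statements.S18820
import Mathlib

set_option autoImplicit false
universe u
open CategoryTheory MonoidalCategory CartesianMonoidalCategory AlgebraicGeometry
open AlgGrp

namespace Groth.Agent.S18820

open CategoryTheory.Limits

lemma isPullback_map_snd {C : Type*} [Category C] [HasPullbacks C] {X Y Y' Z : C} (f : X ⟶ Z) (g : Y ⟶ Z)
    (g' : Y' ⟶ Z) (i : Y' ⟶ Y) (h : i ≫ g = g') :
    IsPullback (pullback.map f g' f g (𝟙 X) i (𝟙 Z) (by rw [Category.comp_id, Category.id_comp]) (by rw [Category.comp_id, h])) (pullback.snd f g')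
      (pullback.snd f g) i := by
  refine IsPullback.of_right ?_ (by unfold pullback.map; exact pullback.lift_snd _ _ _) (IsPullback.of_hasPullback f g)
  have h1 : pullback.map f g' f g (𝟙 X) i (𝟙 Z) (by rw [Category.comp_id, Category.id_comp]) (by rw [Category.comp_id, h]) ≫ pullback.fst f g =
      pullback.fst f g' := by
    unfold pullback.map
    exact (pullback.lift_fst _ _ _).trans (Category.comp_id _)
  rw [h1, h]
  exact IsPullback.of_hasPullback f g'

theorem result' (k : Type u) [Field k]
    (M X Z : Over (Spec (CommRingCat.of k))) (a : M ⊗ X ⟶ X) (aZ : M ⊗ Z ⟶ Z) (z : Z ⟶ X)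
    [Surjective z.left] (hz : (M ◁ z) ≫ a = aZ ≫ z) (U : X.left.Opens) :
    (CartesianMonoidalCategory.snd M X).left ⁻¹ᵁ U ≤ a.left ⁻¹ᵁ U ↔
      (CartesianMonoidalCategory.snd M Z).left ⁻¹ᵁ (z.left ⁻¹ᵁ U) ≤ aZ.left ⁻¹ᵁ (z.left ⁻¹ᵁ U) := by
  have hsurj : Surjective (M ◁ z).left := by
    have hp := isPullback_map_snd M.hom X.hom Z.hom z.left (Over.w z)
    exact MorphismProperty.of_isPullback (P := @Surjective) hp.flip inferInstance
  have h1 : ∀ w, (CartesianMonoidalCategory.snd M X).left ((M ◁ z).left w) =
      z.left ((CartesianMonoidalCategory.snd M Z).left w) := by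
    intro w
    have := congrArg (fun f => f.left) (whiskerLeft_snd M z)
    simp only [Over.comp_left] at this
    rw [← Scheme.Hom.comp_apply, this, Scheme.Hom.comp_apply]
  have h2 : ∀ w, a.left ((M ◁ z).left w) = z.left (aZ.left w) := by
    intro w
    have := congrArg (fun f => f.left) hz
    simp only [Over.comp_left] at this
    rw [← Scheme.Hom.comp_apply, this, Scheme.Hom.comp_apply]
  constructor
  · intro h w hw
    have hw' : (M ◁ z).left w ∈ (CartesianMonoidalCategory.snd M X).left ⁻¹ᵁ U := by
      show (CartesianMonoidalCategory.snd M X).left ((M ◁ z).left w) ∈ U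
      rw [h1]; exact hw
    have := h hw'
    show z.left (aZ.left w) ∈ U
    rw [← h2]; exact this
  · intro h w' hw'
    obtain ⟨w, rfl⟩ := hsurj.surj w'
    have hw : w ∈ (CartesianMonoidalCategory.snd M Z).left ⁻¹ᵁ (z.left ⁻¹ᵁ U) := by
      show z.left ((CartesianMonoidalCategory.snd M Z).left w) ∈ U
      rw [← h1]; exact hw'
    have := h hw
    show a.left ((M ◁ z).left w) ∈ U
    rw [h2]; exact this

/-- Let k be a field, M a k-scheme (in the source a monoid k-scheme) acting on a k-scheme X through a :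
M ×_k X → X, and z : Z → X a closed immersion which is surjective (a closed subscheme defined by an
ideal all of whose sections are nilpotent, e.g. the reduction of X), stable under the action: a_Z :
M ×_k Z → Z satisfies (id_M × z) followed by a = a_Z followed by z. For an open subset U of X the
following are equivalent: (i) U is stable, i.e. a maps M ×_k U into U; (ii) U ∩ Z is stable, i.e.
a_Z maps M ×_k (U ∩ Z) into U ∩ Z. (The monoid axioms of the source play no role and are not
assumed.) -/
theorem result (k : Type u) [Field k]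
    (M X Z : Over (Spec (CommRingCat.of k))) (a : M ⊗ X ⟶ X) (aZ : M ⊗ Z ⟶ Z) (z : Z ⟶ X)
    [IsClosedImmersion z.left] [Surjective z.left] (hz : (M ◁ z) ≫ a = aZ ≫ z) (U : X.left.Opens) :
    (CartesianMonoidalCategory.snd M X).left ⁻¹ᵁ U ≤ a.left ⁻¹ᵁ U ↔
      (CartesianMonoidalCategory.snd M Z).left ⁻¹ᵁ (z.left ⁻¹ᵁ U) ≤ aZ.left ⁻¹ᵁ (z.left ⁻¹ᵁ U) := by
  exact result' k M X Z a aZ z hz U

end Groth.Agent.S18820
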