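import Groth.Statements.S18821
import Mathlib

set_option autoImplicit false
universe u
open CategoryTheory MonoidalCategory CartesianMonoidalCategory MonObj AlgebraicGeometry
open AlgGrp

namespace Groth.Agent.S18821

open Limits

section gen
variable {C : Type*} [Category C] [CartesianMonoidalCategory C] [HasPullbacks C]
  (M : C) [MonObj M]

/-- (x,y) ↦ (xy, yx) -/
noncomputable def phi : M ⊗ M ⟶ M ⊗ M := lift μ[M] (lift (snd M M) (fst M M) ≫ μ[M])

noncomputable def ee : 𝟙_ C ⟶ M ⊗ M := lift η[M] η[M]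

omit [HasPullbacks C] in
lemma mul_eq {T : C} (x y : T ⟶ M) : x * y = lift x y ≫ μ[M] := rfl
omit [HasPullbacks C] in
lemma one_eq {T : C} : (1 : T ⟶ M) = toUnit T ≫ η[M] := rfl

lemma key {T : C} (g : T ⟶ pullback (phi M) (ee M)) :
    (g ≫ pullback.fst _ _ ≫ fst M M) * (g ≫ pullback.fst _ _ ≫ snd M M) = 1 ∧
    (g ≫ pullback.fst _ _ ≫ snd M M) * (g ≫ pullback.fst _ _ ≫ fst M M) = 1 := by
  have h := pullback.condition (f := phi M) (g := ee M)
  have h1 : pullback.fst (phi M) (ee M) ≫ μ[M] = pullback.snd _ _ ≫ η[M] := by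
    have := congrArg (· ≫ fst M M) h
    simpa [phi, ee] using this
  have h2 : pullback.fst (phi M) (ee M) ≫ lift (snd M M) (fst M M) ≫ μ[M]
      = pullback.snd _ _ ≫ η[M] := by
    have := congrArg (· ≫ snd M M) h
    simpa [phi, ee] using this
  constructor
  · rw [mul_eq, one_eq]
    have : lift (g ≫ pullback.fst (phi M) (ee M) ≫ fst M M) (g ≫ pullback.fst _ _ ≫ snd M M)
        = g ≫ pullback.fst _ _ := by
      ext <;> simp
    rw [this, Category.assoc, h1, ← Category.assoc]
    congr 1
    exact toUnit_unique _ _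
  · rw [mul_eq, one_eq]
    have : lift (g ≫ pullback.fst (phi M) (ee M) ≫ snd M M) (g ≫ pullback.fst _ _ ≫ fst M M)
        = g ≫ pullback.fst _ _ ≫ lift (snd M M) (fst M M) := by
      ext <;> simp
    rw [this, Category.assoc, Category.assoc, h2, ← Category.assoc]
    congr 1
    exact toUnit_unique _ _

lemma mono_i : Mono (pullback.fst (phi M) (ee M) ≫ fst M M) := by
  constructor
  intro T g g' hgg
  obtain ⟨a1, a2⟩ := key M g
  obtain ⟨b1, b2⟩ := key M g'
  have hy : g ≫ pullback.fst _ _ ≫ snd M M = g' ≫ pullback.fst _ _ ≫ snd M M := by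
    calc g ≫ pullback.fst _ _ ≫ snd M M
        = (g ≫ pullback.fst _ _ ≫ snd M M) * 1 := (_root_.mul_one _).symm
      _ = (g ≫ pullback.fst _ _ ≫ snd M M) * ((g' ≫ pullback.fst _ _ ≫ fst M M) *
            (g' ≫ pullback.fst _ _ ≫ snd M M)) := by rw [b1]
      _ = ((g ≫ pullback.fst _ _ ≫ snd M M) * (g ≫ pullback.fst _ _ ≫ fst M M)) *
            (g' ≫ pullback.fst _ _ ≫ snd M M) := by rw [← hgg, _root_.mul_assoc]
      _ = g' ≫ pullback.fst _ _ ≫ snd M M := by rw [a2, _root_.one_mul]
  apply pullback.hom_ext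
  · apply CartesianMonoidalCategory.hom_ext
    · simpa using hgg
    · simpa using hy
  · exact toUnit_unique _ _

lemma fac_iff {T : C} (m : T ⟶ M) :
    (∃ g : T ⟶ pullback (phi M) (ee M), g ≫ (pullback.fst (phi M) (ee M) ≫ fst M M) = m) ↔
      IsUnit m := by
  constructor
  · rintro ⟨g, rfl⟩
    obtain ⟨a1, a2⟩ := key M g
    exact ⟨⟨_, _, a1, a2⟩, rfl⟩
  · rintro ⟨u, rfl⟩
    have e1 : (u : T ⟶ M) * (↑u⁻¹ : T ⟶ M) = 1 := u.mul_inv
    have e2 : (↑u⁻¹ : T ⟶ M) * (u : T ⟶ M) = 1 := u.inv_mul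
    rw [mul_eq, one_eq] at e1 e2
    refine ⟨pullback.lift (lift (u : T ⟶ M) (↑u⁻¹ : T ⟶ M)) (toUnit T) ?_, ?_⟩
    · apply CartesianMonoidalCategory.hom_ext
      · simp [phi, ee, e1]
      · have h3 : lift (u : T ⟶ M) (↑u⁻¹ : T ⟶ M) ≫ lift (snd M M) (fst M M) =
            lift (↑u⁻¹ : T ⟶ M) (u : T ⟶ M) := by ext <;> simp
        simp only [phi, ee, Category.assoc, lift_snd]
        rw [← Category.assoc, h3, e2]
    · rw [pullback.lift_fst_assoc, lift_fst]

end gen

theorem result' (k : Type u) [CommRing k]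
    (M : Over (Spec (CommRingCat.of k))) [MonObj M] :
    ∃ (G : Over (Spec (CommRingCat.of k))) (i : G ⟶ M), Mono i ∧
      (∀ (T : Over (Spec (CommRingCat.of k))) (m : T ⟶ M), (∃ g : T ⟶ G, g ≫ i = m) ↔ IsUnit m) ∧
      (IsAffine M.left → IsAffine G.left) := by
  refine ⟨pullback (phi M) (ee M), pullback.fst (phi M) (ee M) ≫ fst M M, mono_i M,
    fun T m => fac_iff M m, ?_⟩
  intro hM
  have e := PreservesPullback.iso (Over.forget (Spec (CommRingCat.of k))) (phi M) (ee M)
  have h1 : IsAffine (M ⊗ M).left := by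
    change IsAffine (pullback M.hom M.hom)
    infer_instance
  have h2 : IsAffine (𝟙_ (Over (Spec (CommRingCat.of k)))).left := by
    change IsAffine (Spec (CommRingCat.of k))
    infer_instance
  have h3 : IsAffine (pullback ((Over.forget _).map (phi M)) ((Over.forget _).map (ee M))) := by
    dsimp only [Over.forget_obj, Over.forget_map]
    infer_instance
  exact @IsAffine.of_isIso _ _ e.hom (Iso.isIso_hom e) h3

/-- Let k be a commutative ring and M a monoid k-scheme (a monoid object in k-schemes). Then the group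
k-functor of units T ↦ M(T)^× is representable by a k-scheme: there are a k-scheme G and a
monomorphism i : G → M such that, for every k-scheme T, a T-valued point of M factors through i if
and only if it is invertible in the monoid M(T). If moreover M is affine then G is affine. -/
theorem result (k : Type u) [CommRing k]
    (M : Over (Spec (CommRingCat.of k))) [MonObj M] :
    ∃ (G : Over (Spec (CommRingCat.of k))) (i : G ⟶ M), Mono i ∧
      (∀ (T : Over (Spec (CommRingCat.of k))) (m : T ⟶ M), (∃ g : T ⟶ G, g ≫ i = m) ↔ IsUnit m) ∧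
      (IsAffine M.left → IsAffine G.left) := by
  exact result' k M

end Groth.Agent.S18821
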