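import Groth.Statements.S18822
import Mathlib

set_option autoImplicit false
universe u
open CategoryTheory MonoidalCategory CartesianMonoidalCategory MonObj AlgebraicGeometry Opposite
open Magnet

namespace Groth.Agent.S18822
open CategoryTheory MonoidalCategory CartesianMonoidalCategory MonObj AlgebraicGeometry Opposite
open Magnet

section helpers



universe v₁ u₁

lemma fixedPsh_isSheaf {C : Type u₁} [Category.{v₁} C] [CartesianMonoidalCategory C]
    (J : GrothendieckTopology C) [J.Subcanonical] {A X : C} [MonObj A] (a : Magnet.MonAct A X) :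
    Presheaf.IsSheaf J (Magnet.MonAct.fixedPsh a) := by
  rw [isSheaf_iff_isSheaf_of_type]
  have hX : Presieve.IsSheaf J (yoneda.obj X) :=
    GrothendieckTopology.Subcanonical.isSheaf_of_isRepresentable _
  intro T R hR
  -- separatedness of yoneda X w.r.t. covering sieves
  have hsep : ∀ {T' : C} (R' : Sieve T') (_ : R' ∈ J T') (p q : T' ⟶ X),
      (∀ ⦃V : C⦄ (u : V ⟶ T'), R' u → u ≫ p = u ≫ q) → p = q := by
    intro T' R' hR' p q h
    exact (hX R' hR').isSeparatedFor.ext (fun V u hu => h u hu)
  intro x hx
  -- the underlying family in yoneda X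
  let y : Presieve.FamilyOfElements (yoneda.obj X) R.arrows := fun V f hf => (x f hf).1
  have hy : y.Compatible := by
    intro V₁ V₂ W g₁ g₂ f₁ f₂ h₁ h₂ e
    have := hx g₁ g₂ h₁ h₂ e
    exact congrArg Subtype.val this
  obtain ⟨z, hz, hzu⟩ := hX R hR y hy
  have hz' : ∀ ⦃V : C⦄ (f : V ⟶ T) (hf : R f), f ≫ z = (x f hf).1 := fun V f hf => hz f hf
  have hfix : ∀ (T' : C) (t : T' ⟶ T) (g : T' ⟶ A), lift g (t ≫ z) ≫ a.act = t ≫ z := by
    intro T' t g
    refine hsep (R.pullback t) (J.pullback_stable t hR) _ _ (fun V u hu => ?_)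
    have h1 : (u ≫ t) ≫ z = (x (u ≫ t) hu).1 := hz' _ hu
    have h2 := (x (u ≫ t) hu).2 V (𝟙 V) (u ≫ g)
    rw [Category.id_comp, ← h1] at h2
    rw [← Category.assoc, comp_lift, ← Category.assoc u t z, h2]
  refine ⟨⟨z, hfix⟩, ?_, ?_⟩
  · intro V f hf
    exact Subtype.ext (hz' f hf)
  · intro w hw
    apply Subtype.ext
    apply hzu
    intro V f hf
    exact congrArg Subtype.val (hw f hf)



end helpers

/-- Let k be a commutative ring, M a monoid k-scheme and X a k-scheme with an action a of M. Then the
fixed-point subpresheaf X^M of X, whose T-valued points are the k-morphisms x : T → X such that g ·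
(x ∘ t) = x ∘ t for every k-scheme T', every t : T' → T and every T'-valued point g of M, is a sheaf
for the Zariski topology on k-schemes (the topology induced on schemes over Spec k). -/
theorem result (k : Type u) [CommRing k]
    (M X : Over (Spec (CommRingCat.of k))) [MonObj M] (a : Magnet.MonAct M X) :
    Presheaf.IsSheaf (Scheme.zariskiTopology.over (Spec (CommRingCat.of k))) (Magnet.MonAct.fixedPsh a) := by
  exact fixedPsh_isSheaf _ a

end Groth.Agent.S18822
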