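import Groth.Statements.S18824
import Groth.Agent.S18861
import Mathlib

set_option autoImplicit false
universe u
open CategoryTheory MonoidalCategory CartesianMonoidalCategory MonObj AlgebraicGeometry
open AlgGrp

namespace Groth.Agent.S18824

open Limits

lemma isPullback_whiskerLeft_snd {C : Type*} [Category C] [CartesianMonoidalCategory C]
    (G : C) {Y Y' : C} (f : Y ⟶ Y') :
    IsPullback (G ◁ f) (snd G Y) (snd G Y') f := by
  refine ⟨⟨by simp⟩, ⟨PullbackCone.IsLimit.mk _ (fun s => lift (s.fst ≫ fst G Y') s.snd) ?_ ?_ ?_⟩⟩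
  · intro s
    apply CartesianMonoidalCategory.hom_ext
    · simp
    · simp [s.condition]
  · intro s
    simp
  · intro s m h1 h2
    apply CartesianMonoidalCategory.hom_ext
    · rw [lift_fst, ← h1]; simp
    · rw [lift_snd, ← h2]

lemma exists_pt_of_isPullback {P X Y Z : Scheme.{u}} {p : P ⟶ X} {q : P ⟶ Y} {f : X ⟶ Z} {g : Y ⟶ Z}
    (sq : IsPullback p q f g) (x : X) (y : Y) (h : f x = g y) : ∃ t : P, p t = x ∧ q t = y := by
  obtain ⟨z, hz1, hz2⟩ := Scheme.Pullback.exists_preimage_pullback x y h
  refine ⟨sq.isoPullback.inv z, ?_, ?_⟩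
  · rw [← Scheme.Hom.comp_apply, sq.isoPullback_inv_fst, hz1]
  · rw [← Scheme.Hom.comp_apply, sq.isoPullback_inv_snd, hz2]

theorem result' (k : Type u) [Field k]
    (G X : Over (Spec (CommRingCat.of k))) [GrpObj G] [LocallyOfFiniteType G.hom] (a : AlgGrp.Action G X)
    (U : Set ↥X.left) (hU : IsOpen U) :
    IsOpen (a.act.left.base '' ((CartesianMonoidalCategory.snd G X).left.base ⁻¹' U)) ∧
      U ⊆ a.act.left.base '' ((CartesianMonoidalCategory.snd G X).left.base ⁻¹' U) ∧
      a.act.left.base '' ((CartesianMonoidalCategory.snd G X).left.base ⁻¹'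
          (a.act.left.base '' ((CartesianMonoidalCategory.snd G X).left.base ⁻¹' U))) ⊆
        a.act.left.base '' ((CartesianMonoidalCategory.snd G X).left.base ⁻¹' U) ∧
      ∀ W : Set ↥X.left, IsOpen W → U ⊆ W →
        a.act.left.base '' ((CartesianMonoidalCategory.snd G X).left.base ⁻¹' W) ⊆ W →
          a.act.left.base '' ((CartesianMonoidalCategory.snd G X).left.base ⁻¹' U) ⊆ W := by
  refine ⟨?_, ?_, ?_, ?_⟩
  · have hG : UniversallyOpen G.hom := inferInstance
    have ha : UniversallyOpen a.act.left := Groth.Agent.S18861.main @UniversallyOpen a hG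
    exact a.act.left.isOpenMap _ (hU.preimage (snd G X).left.continuous)
  · intro x hx
    let s : X ⟶ G ⊗ X := (λ_ X).inv ≫ η[G] ▷ X
    have hs1 : s ≫ a.act = 𝟙 X := by
      simp only [s, Category.assoc, a.one_act, Iso.inv_hom_id]
    have hs2 : s ≫ snd G X = 𝟙 X := by
      simp [s]
    refine ⟨s.left x, ?_, ?_⟩
    · change (snd G X).left (s.left x) ∈ U
      rw [← Scheme.Hom.comp_apply, ← Over.comp_left, hs2]
      exact hx
    · change a.act.left (s.left x) = x
      rw [← Scheme.Hom.comp_apply, ← Over.comp_left, hs1]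
      rfl
  · rintro _ ⟨z, ⟨w, hw, hwz⟩, rfl⟩
    have sq := (isPullback_whiskerLeft_snd G a.act).map (Over.forget (Spec (CommRingCat.of k)))
    obtain ⟨t, ht1, ht2⟩ : ∃ t : (G ⊗ (G ⊗ X)).left, (G ◁ a.act).left t = z ∧
        (snd G (G ⊗ X)).left t = w := exists_pt_of_isPullback sq z w hwz.symm
    let m : G ⊗ (G ⊗ X) ⟶ G ⊗ X := (α_ G G X).inv ≫ μ[G] ▷ X
    have hm1 : m ≫ a.act = G ◁ a.act ≫ a.act := by
      simp only [m, Category.assoc, a.mul_act, Iso.inv_hom_id_assoc]
    have hm2 : m ≫ snd G X = snd G (G ⊗ X) ≫ snd G X := by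
      simp [m]
    refine ⟨m.left t, ?_, ?_⟩
    · change (snd G X).left (m.left t) ∈ U
      rw [← Scheme.Hom.comp_apply, ← Over.comp_left, hm2, Over.comp_left, Scheme.Hom.comp_apply]
      change (snd G X).left ((snd G (G ⊗ X)).left t) ∈ U
      have : (snd G (G ⊗ X)).left t = w := ht2
      rw [this]
      exact hw
    · change a.act.left (m.left t) = a.act.left z
      rw [← Scheme.Hom.comp_apply, ← Over.comp_left, hm1, Over.comp_left, Scheme.Hom.comp_apply]
      have : (G ◁ a.act).left t = z := ht1
      rw [this]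
  · intro W hW hUW hst
    refine subset_trans (Set.image_mono (Set.preimage_mono hUW)) hst

/-- Let k be a field, G a locally algebraic group over k (a group k-scheme locally of finite type)
acting on a k-scheme X through a : G ×_k X → X, and U an open subset of X. Let G·U ⊆ X be the image
under a of G ×_k U (the preimage of U under the projection). Then G·U is open in X, contains U, is
G-stable in the sense that a maps G ×_k (G·U) into G·U, and is the smallest such set: every G-stable
open subset of X containing U contains G·U. -/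
theorem result (k : Type u) [Field k]
    (G X : Over (Spec (CommRingCat.of k))) [GrpObj G] [LocallyOfFiniteType G.hom] (a : AlgGrp.Action G X)
    (U : Set ↥X.left) (hU : IsOpen U) :
    IsOpen (a.act.left.base '' ((CartesianMonoidalCategory.snd G X).left.base ⁻¹' U)) ∧
      U ⊆ a.act.left.base '' ((CartesianMonoidalCategory.snd G X).left.base ⁻¹' U) ∧
      a.act.left.base '' ((CartesianMonoidalCategory.snd G X).left.base ⁻¹'
          (a.act.left.base '' ((CartesianMonoidalCategory.snd G X).left.base ⁻¹' U))) ⊆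
        a.act.left.base '' ((CartesianMonoidalCategory.snd G X).left.base ⁻¹' U) ∧
      ∀ W : Set ↥X.left, IsOpen W → U ⊆ W →
        a.act.left.base '' ((CartesianMonoidalCategory.snd G X).left.base ⁻¹' W) ⊆ W →
          a.act.left.base '' ((CartesianMonoidalCategory.snd G X).left.base ⁻¹' U) ⊆ W := by
  exact result' k G X a U hU

end Groth.Agent.S18824
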