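import Groth.Statements.S18826
import Groth.Agent.S18861
import Groth.Agent.S18824
import Mathlib

set_option autoImplicit false
universe u
open CategoryTheory MonoidalCategory CartesianMonoidalCategory MonObj AlgebraicGeometry
open AlgGrp

namespace Groth.Agent.S18826

open Limits

lemma bc_comp {C : Type*} [Category C] (P : MorphismProperty C) [P.IsStableUnderBaseChange]
    {X Y T T' P0 P1 : C} {f : X ⟶ Y} {h : T ⟶ Y} {h' : T' ⟶ T}
    {a : P1 ⟶ X} {b : P1 ⟶ T'} {a0 : P0 ⟶ X} {b0 : P0 ⟶ T}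
    (sq : IsPullback a b f (h' ≫ h)) (sq0 : IsPullback a0 b0 f h) (hP : P b0) : P b := by
  have hw : a ≫ f = (b ≫ h') ≫ h := by rw [sq.w, Category.assoc]
  have sq' : IsPullback (sq0.lift a (b ≫ h') hw) b b0 h' := by
    refine IsPullback.of_right ?_ (sq0.lift_snd _ _ _) sq0
    rw [sq0.lift_fst]
    exact sq
  exact MorphismProperty.of_isPullback sq' hP

section act
variable {S : Scheme.{u}} {G X Y : Over S} [GrpObj G]

lemma isPullback_act (aX : AlgGrp.Action G X) (aY : AlgGrp.Action G Y) (f : X ⟶ Y)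
    (hf : (G ◁ f) ≫ aY.act = aX.act ≫ f) :
    IsPullback aX.act (G ◁ f) f aY.act := by
  have sq2 : IsPullback (snd G X) (G ◁ f) f (snd G Y) :=
    (Groth.Agent.S18824.isPullback_whiskerLeft_snd G f).flip
  have hsh : (Groth.Agent.S18861.shear aX).hom ≫ (G ◁ f) =
      (G ◁ f) ≫ (Groth.Agent.S18861.shear aY).hom := by
    apply CartesianMonoidalCategory.hom_ext
    · simp [Groth.Agent.S18861.shear]
    · simp [Groth.Agent.S18861.shear, hf]
  refine IsPullback.of_iso sq2 (Groth.Agent.S18861.shear aX).symm (Iso.refl _)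
    (Groth.Agent.S18861.shear aY).symm (Iso.refl _) ?_ ?_ ?_ ?_
  · simp only [Iso.refl_hom, Category.comp_id, Iso.symm_hom]
    rw [Groth.Agent.S18861.act_eq aX, Iso.inv_hom_id_assoc]
  · simp only [Iso.symm_hom]
    rw [Iso.eq_inv_comp, ← Category.assoc, hsh, Category.assoc, Iso.hom_inv_id, Category.comp_id]
  · simp
  · simp only [Iso.refl_hom, Category.comp_id, Iso.symm_hom]
    rw [Groth.Agent.S18861.act_eq aY, Iso.inv_hom_id_assoc]

end act


lemma exists_largest {X Y : Scheme.{u}} (f : X ⟶ Y) (P : MorphismProperty Scheme.{u})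
    [IsZariskiLocalAtTarget P] :
    ∃ V : Y.Opens, P (f ∣_ V) ∧ ∀ V' : Y.Opens, P (f ∣_ V') → V' ≤ V := by
  refine ⟨⨆ i : {V' : Y.Opens // P (f ∣_ V')}, i.1, ?_, fun V' h => le_iSup_of_le ⟨V', h⟩ le_rfl⟩
  set V : Y.Opens := ⨆ i : {V' : Y.Opens // P (f ∣_ V')}, i.1 with hV
  refine IsZariskiLocalAtTarget.of_iSup_eq_top
    (fun i : {V' : Y.Opens // P (f ∣_ V')} => V.ι ⁻¹ᵁ i.1) ?_ ?_
  · rw [eq_top_iff]
    rintro x -
    have hx : V.ι x ∈ (⨆ i : {V' : Y.Opens // P (f ∣_ V')}, i.1 : Y.Opens) := x.2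
    rw [TopologicalSpace.Opens.mem_iSup] at hx
    obtain ⟨i, hi⟩ := hx
    exact TopologicalSpace.Opens.mem_iSup.2 ⟨i, hi⟩
  · intro i
    have hle : i.1 ≤ V := le_iSup (fun i : {V' : Y.Opens // P (f ∣_ V')} => i.1) i
    have e : V.ι ''ᵁ (V.ι ⁻¹ᵁ i.1) = i.1 := by
      rw [Scheme.Hom.image_preimage_eq_opensRange_inf, Scheme.Opens.opensRange_ι]
      exact inf_eq_right.2 hle
    exact (P.arrow_mk_iso_iff (morphismRestrictRestrict f V _ ≪≫ morphismRestrictEq f e)).2 i.2

theorem result' (k : Type u) [Field k]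
    (G X Y : Over (Spec (CommRingCat.of k))) [GrpObj G] [LocallyOfFiniteType G.hom]
    (aX : AlgGrp.Action G X) (aY : AlgGrp.Action G Y) (f : X ⟶ Y) (hf : (G ◁ f) ≫ aY.act = aX.act ≫ f)
    (P : MorphismProperty Scheme.{u}) [IsZariskiLocalAtTarget P] [P.IsStableUnderBaseChange]
    [P.DescendsAlong (@Flat ⊓ @Surjective ⊓ @UniversallyOpen)] :
    ∃ V : Y.left.Opens, P (f.left ∣_ V) ∧ (∀ V' : Y.left.Opens, P (f.left ∣_ V') → V' ≤ V) ∧
      (CartesianMonoidalCategory.snd G Y).left ⁻¹ᵁ V ≤ aY.act.left ⁻¹ᵁ V := by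
  obtain ⟨V, hPV, hmax⟩ := exists_largest f.left P
  refine ⟨V, hPV, hmax, ?_⟩
  set A : (G ⊗ Y).left ⟶ Y.left := aY.act.left with hA
  set sY : (G ⊗ Y).left ⟶ Y.left := (snd G Y).left with hsY
  set GF : (G ⊗ X).left ⟶ (G ⊗ Y).left := (G ◁ f).left with hGF
  have sq1 : IsPullback aX.act.left GF f.left A :=
    (isPullback_act aX aY f hf).map (Over.forget _)
  have sq2 : IsPullback (snd G X).left GF f.left sY :=
    ((Groth.Agent.S18824.isPullback_whiskerLeft_snd G f).flip).map (Over.forget _)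
  have hAflat : Flat A := Groth.Agent.S18861.main @Flat aY inferInstance
  have hAuo : UniversallyOpen A := Groth.Agent.S18861.main @UniversallyOpen aY inferInstance
  set O : (G ⊗ Y).left.Opens := sY ⁻¹ᵁ V with hO
  have sqO := IsPullback.of_hasPullback GF O.ι
  have sqV : IsPullback (f.left ⁻¹ᵁ V).ι (f.left ∣_ V) f.left V.ι :=
    (isPullback_morphismRestrict f.left V).flip
  have hr : O.ι ≫ sY = (sY ∣_ V) ≫ V.ι := (morphismRestrict_ι sY V).symm
  have hp2 : P (pullback.snd GF O.ι) := by
    have := sqO.paste_horiz sq2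
    rw [hr] at this
    exact bc_comp P this sqV hPV
  have sq3 : IsPullback (pullback.fst GF O.ι ≫ aX.act.left) (pullback.snd GF O.ι) f.left
      (O.ι ≫ A) := sqO.paste_horiz sq1
  set q := O.ι ≫ A with hq
  have hqflat : Flat q := inferInstance
  have hquo : UniversallyOpen q := inferInstance
  have hqopen : IsOpen (Set.range q) := q.isOpenMap.isOpen_range
  let W : Y.left.Opens := ⟨Set.range q, hqopen⟩
  have hsurj : Surjective (pullback.snd q W.ι) := by
    refine ⟨fun w => ?_⟩
    obtain ⟨o, ho⟩ : W.ι w ∈ Set.range q := w.2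
    obtain ⟨z, -, hz⟩ := Scheme.Pullback.exists_preimage_pullback (f := q) (g := W.ι) o w ho
    exact ⟨z, hz⟩
  have sqW : IsPullback (f.left ⁻¹ᵁ W).ι (f.left ∣_ W) f.left W.ι :=
    (isPullback_morphismRestrict f.left W).flip
  have sqD := IsPullback.of_hasPullback (f.left ∣_ W) (pullback.snd q W.ι)
  have hd2 : P (pullback.snd (f.left ∣_ W) (pullback.snd q W.ι)) := by
    have := sqD.paste_horiz sqW
    rw [← pullback.condition] at this
    exact bc_comp P this sq3 hp2
  have hPW : P (f.left ∣_ W) :=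
    MorphismProperty.of_isPullback_of_descendsAlong
      (Q := @Flat ⊓ @Surjective ⊓ @UniversallyOpen) sqD.flip
      ⟨⟨inferInstance, hsurj⟩, inferInstance⟩ hd2
  have hWV : W ≤ V := hmax W hPW
  intro z hz
  apply hWV
  exact ⟨⟨z, hz⟩, rfl⟩

/-- Let k be a field, G a locally algebraic group over k (a group k-scheme locally of finite type)
acting on k-schemes X and Y, and f : X → Y a G-equivariant k-morphism. Let P be a property of
morphisms of schemes which is local on the target for the Zariski topology, stable under base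
change, and descends along flat surjective universally open morphisms (the published hypothesis is
descent along fpqc morphisms; the printed argument descends only along the restriction G ×_k U → G·U
of the action, which is flat, surjective and universally open). Then there is a largest open subset
V of Y such that the restriction f⁻¹(V) → V of f has P, and this V is G-stable: the action G ×_k Y →
Y maps G ×_k V into V. -/
theorem result (k : Type u) [Field k]
    (G X Y : Over (Spec (CommRingCat.of k))) [GrpObj G] [LocallyOfFiniteType G.hom]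
    (aX : AlgGrp.Action G X) (aY : AlgGrp.Action G Y) (f : X ⟶ Y) (hf : (G ◁ f) ≫ aY.act = aX.act ≫ f)
    (P : MorphismProperty Scheme.{u}) [IsZariskiLocalAtTarget P] [P.IsStableUnderBaseChange]
    [P.DescendsAlong (@Flat ⊓ @Surjective ⊓ @UniversallyOpen)] :
    ∃ V : Y.left.Opens, P (f.left ∣_ V) ∧ (∀ V' : Y.left.Opens, P (f.left ∣_ V') → V' ≤ V) ∧
      (CartesianMonoidalCategory.snd G Y).left ⁻¹ᵁ V ≤ aY.act.left ⁻¹ᵁ V := by
  exact result' k G X Y aX aY f hf P

end Groth.Agent.S18826
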