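import Groth.Statements.S18830
import Groth.Agent.S18821
import Mathlib

set_option autoImplicit false
universe u
open CategoryTheory MonoidalCategory CartesianMonoidalCategory MonObj AlgebraicGeometry
open AlgGrp

namespace Groth.Agent.S18830

set_option linter.style.haveILetI false
open Limits Groth.Agent.S18821

theorem result' (k : Type u) [Field k]
    (M G : Over (Spec (CommRingCat.of k))) [MonObj M] [LocallyOfFiniteType M.hom] [QuasiCompact M.hom]
    (i : G ⟶ M) [Mono i]
    (hi : ∀ (T : Over (Spec (CommRingCat.of k))) (m : T ⟶ M), (∃ g : T ⟶ G, g ≫ i = m) ↔ IsUnit m) :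
    LocallyOfFiniteType G.hom ∧ QuasiCompact G.hom := by
  -- the model
  set P := pullback (phi M) (ee M) with hP
  set jj : P ⟶ M := pullback.fst (phi M) (ee M) ≫ fst M M with hjj
  haveI : Mono jj := mono_i M
  have hui : IsUnit i := (hi G i).1 ⟨𝟙 _, Category.id_comp _⟩
  have hujj : IsUnit jj := (fac_iff M jj).1 ⟨𝟙 _, Category.id_comp _⟩
  obtain ⟨g, hg⟩ := (hi P jj).2 hujj
  obtain ⟨g', hg'⟩ := (fac_iff M i).2 hui
  have h1 : g ≫ g' = 𝟙 P := by
    rw [← cancel_mono jj, Category.assoc, hg', hg, Category.id_comp]
  have h2 : g' ≫ g = 𝟙 G := by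
    rw [← cancel_mono i, Category.assoc, hg, hg', Category.id_comp]
  -- properties of P
  have hMM : (M ⊗ M).hom = pullback.fst M.hom M.hom ≫ M.hom := rfl
  haveI : LocallyOfFiniteType (M ⊗ M).hom := by rw [hMM]; infer_instance
  haveI : QuasiCompact (M ⊗ M).hom := by rw [hMM]; infer_instance
  have hee : (ee M).left ≫ (M ⊗ M).hom = 𝟙 _ := Over.w (ee M)
  haveI : LocallyOfFiniteType (ee M).left := by
    haveI : LocallyOfFiniteType ((ee M).left ≫ (M ⊗ M).hom) := by rw [hee]; infer_instance
    exact locallyOfFiniteType_of_comp (ee M).left (M ⊗ M).hom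
  haveI : IsNoetherian (𝟙_ (Over (Spec (CommRingCat.of k)))).left := by
    change IsNoetherian (Spec (CommRingCat.of k))
    infer_instance
  haveI : QuasiCompact (ee M).left := inferInstance
  obtain ⟨e, he⟩ : ∃ e : (pullback (phi M) (ee M)).left ≅ pullback (phi M).left (ee M).left,
      e.hom ≫ pullback.fst (phi M).left (ee M).left = (pullback.fst (phi M) (ee M)).left :=
    ⟨PreservesPullback.iso (Over.forget (Spec (CommRingCat.of k))) (phi M) (ee M),
      PreservesPullback.iso_hom_fst _ _ _⟩
  haveI a1 : LocallyOfFiniteType (pullback.fst (phi M).left (ee M).left) := inferInstance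
  haveI a2 : QuasiCompact (pullback.fst (phi M).left (ee M).left) := inferInstance
  haveI a3 : IsIso e.hom := inferInstance
  haveI a4 : IsOpenImmersion e.hom := inferInstance
  haveI a5 : LocallyOfFiniteType e.hom := inferInstance
  haveI a6 : QuasiCompact e.hom := inferInstance
  haveI : LocallyOfFiniteType (pullback.fst (phi M) (ee M)).left := by
    rw [← he]; exact locallyOfFiniteType_comp _ _
  haveI : QuasiCompact (pullback.fst (phi M) (ee M)).left := by
    rw [← he]; exact quasiCompact_comp _ _
  have hPhom : P.hom = (pullback.fst (phi M) (ee M)).left ≫ (M ⊗ M).hom :=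
    (Over.w (pullback.fst (phi M) (ee M))).symm
  have hG : G.hom = g'.left ≫ P.hom := (Over.w g').symm
  haveI : IsIso g' := ⟨g, h2, h1⟩
  haveI : IsIso g'.left := (Over.forget _).map_isIso g'
  rw [hG, hPhom]
  exact ⟨inferInstance, inferInstance⟩

/-- Let k be a field and M an algebraic monoid over k (a monoid k-scheme of finite type). Let i : G → M
be its group of units: a monomorphism of k-schemes through which a T-valued point of M factors if
and only if it is invertible in the monoid M(T). Then G is of finite type over k, i.e. the unit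
group is an algebraic group. -/
theorem result (k : Type u) [Field k]
    (M G : Over (Spec (CommRingCat.of k))) [MonObj M] [LocallyOfFiniteType M.hom] [QuasiCompact M.hom]
    (i : G ⟶ M) [Mono i]
    (hi : ∀ (T : Over (Spec (CommRingCat.of k))) (m : T ⟶ M), (∃ g : T ⟶ G, g ≫ i = m) ↔ IsUnit m) :
    LocallyOfFiniteType G.hom ∧ QuasiCompact G.hom := by
  exact result' k M G i hi

end Groth.Agent.S18830
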