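import Groth.Statements.S18834
import Groth.Agent.Lib.helper29.Reynolds

set_option autoImplicit false
universe u
open TensorProduct
open GIT

namespace Groth.Agent.S18834

/-- Let k be an algebraically closed field of characteristic zero, G = Spec A a linearly reductive
affine group over k (A a commutative Hopf algebra whose finite-dimensional comodules are semisimple)
acting on an affine k-scheme Spec R of finite type (a multiplicative coaction of A on R), and R^G
the ring of invariants. Then for every ideal I of R^G the ideal I·R of R generated by I satisfies
(I·R) ∩ R^G = I. (The section also assumes Spec R irreducible; that hypothesis plays no role here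
and is not carried.) -/
theorem result (k : Type u) [Field k] [IsAlgClosed k] [CharZero k]
    (A : Type u) [CommRing A] [HopfAlgebra k A] (hG : HopfRep.IsLinearlyReductive k A)
    (R : Type u) [CommRing R] [Algebra k R] [Algebra.FiniteType k R]
    [HopfRep.Comod k A R] [GLin.IsCoactAlg k A R]
    (I : Ideal (GLin.invariants k A R)) :
    Ideal.comap (GLin.invariants k A R).val.toRingHom
        (Ideal.map (GLin.invariants k A R).val.toRingHom I) = I := by
  open Groth.Agent.Lib.helper29.Reynolds in
  apply le_antisymm
  · obtain ⟨E, hE⟩ := exists_reynolds (k := k) (A := A) hG R
    have hEmem : ∀ r : R, E r ∈ GLin.invariants k A R := fun r => reynolds_mem_fixedPts hE r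
    -- the ideal of r with E (a * r) ∈ I for all a
    let J : Ideal R :=
      { carrier := {r | ∀ a : R, (⟨E (a * r), hEmem _⟩ : GLin.invariants k A R) ∈ I}
        add_mem' := by
          intro r s hr hs a
          have : (⟨E (a * (r + s)), hEmem _⟩ : GLin.invariants k A R) =
              ⟨E (a * r), hEmem _⟩ + ⟨E (a * s), hEmem _⟩ := by
            apply Subtype.ext
            show E (a * (r + s)) = E (a * r) + E (a * s)
            rw [mul_add, map_add]
          rw [this]
          exact I.add_mem (hr a) (hs a)
        zero_mem' := by
          intro a
          have : (⟨E (a * 0), hEmem _⟩ : GLin.invariants k A R) = 0 := by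
            apply Subtype.ext
            show E (a * 0) = 0
            rw [mul_zero, map_zero]
          rw [this]
          exact I.zero_mem
        smul_mem' := by
          intro b r hr a
          have : (⟨E (a * (b • r)), hEmem _⟩ : GLin.invariants k A R) =
              ⟨E ((a * b) * r), hEmem _⟩ := by
            apply Subtype.ext
            show E (a * (b * r)) = E ((a * b) * r)
            rw [mul_assoc]
          rw [this]
          exact hr (a * b) }
    have hJ : Ideal.map (GLin.invariants k A R).val.toRingHom I ≤ J := by
      rw [Ideal.map_le_iff_le_comap]
      intro y hy a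
      have : (⟨E (a * (y : R)), hEmem _⟩ : GLin.invariants k A R) = ⟨E a, hEmem _⟩ * y := by
        apply Subtype.ext
        show E (a * (y : R)) = E a * (y : R)
        exact reynolds_mul R hG hE a y y.2
      show (⟨E (a * (y : R)), hEmem _⟩ : GLin.invariants k A R) ∈ I
      rw [this]
      exact I.mul_mem_left _ hy
    intro z hz
    have h1 : (z : R) ∈ J := hJ hz
    have h2 := h1 1
    have : (⟨E (1 * (z : R)), hEmem _⟩ : GLin.invariants k A R) = z := by
      apply Subtype.ext
      show E (1 * (z : R)) = z
      rw [one_mul]
      exact (hE.2.2 _).mpr z.2
    rw [this] at h2
    exact h2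
  · exact Ideal.le_comap_map

end Groth.Agent.S18834
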