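import Groth.Statements.S1886
import Mathlib

set_option autoImplicit false
universe u
open CategoryTheory CategoryTheory.Limits AlgebraicGeometry
open Grpd

namespace Groth.Agent.S1886

variable {S : Scheme.{u}} (G : Grpd.GroupoidScheme S)

theorem cmp_congr {T : Scheme.{u}} {α α' β β' : T ⟶ G.R} (h : α ≫ G.s = β ≫ G.t) (hα : α = α')
    (hβ : β = β') :
    pullback.lift α β h ≫ G.c = pullback.lift α' β' (by rw [← hα, ← hβ]; exact h) ≫ G.c := by
  subst hα hβ; rfl

theorem precomp_cmp {T T' : Scheme.{u}} (k : T' ⟶ T) (α β : T ⟶ G.R) (h : α ≫ G.s = β ≫ G.t) :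
    k ≫ pullback.lift α β h ≫ G.c =
      pullback.lift (k ≫ α) (k ≫ β) (by rw [Category.assoc, Category.assoc, h]) ≫ G.c := by
  rw [← Category.assoc]
  congr 1
  apply pullback.hom_ext
  · rw [Category.assoc, pullback.lift_fst, pullback.lift_fst]
  · rw [Category.assoc, pullback.lift_snd, pullback.lift_snd]

/-- Cancellation: `α⁻¹ ∘ β = e` implies `α = β`. -/
theorem eq_of_inv_comp {T : Scheme.{u}} (α β : T ⟶ G.R) (ht : α ≫ G.t = β ≫ G.t)
    (hs : α ≫ G.s = β ≫ G.s)
    (h : pullback.lift (α ≫ G.i) β (by rw [Category.assoc, G.i_s, ht]) ≫ G.c = β ≫ G.s ≫ G.e) :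
    α = β := by
  have h₁ : α ≫ G.s = (α ≫ G.i) ≫ G.t := by rw [Category.assoc, G.i_t]
  have h₂ : (α ≫ G.i) ≫ G.s = β ≫ G.t := by rw [Category.assoc, G.i_s, ht]
  have e1 : α ≫ G.s ≫ G.e = pullback.lift (α ≫ G.i) β h₂ ≫ G.c := by
    rw [← Category.assoc, hs, Category.assoc]; exact h.symm
  have e2 : α ≫ G.t ≫ G.e = β ≫ G.t ≫ G.e := by rw [← Category.assoc, ht, Category.assoc]
  refine (G.comp_e α).symm.trans ?_
  refine (cmp_congr G _ rfl e1).trans ?_
  refine (G.assoc α (α ≫ G.i) β h₁ h₂).symm.trans ?_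
  refine (cmp_congr G _ (G.comp_i α) rfl).trans ?_
  refine (cmp_congr G _ e2 rfl).trans ?_
  exact G.e_comp β

theorem j_fst : G.j ≫ pullback.fst G.pU G.pU = G.t := pullback.lift_fst _ _ _
theorem j_snd : G.j ≫ pullback.snd G.pU G.pU = G.s := pullback.lift_snd _ _ _
theorem diag_fst : G.diag ≫ pullback.fst G.pU G.pU = 𝟙 G.U := pullback.lift_fst _ _ _
theorem diag_snd : G.diag ≫ pullback.snd G.pU G.pU = 𝟙 G.U := pullback.lift_snd _ _ _

/-- The projection of the stabilizer to `R`. -/
noncomputable def stabFst : G.stabilizer ⟶ G.R := pullback.fst G.j G.diag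

theorem stab_hom_ext {T : Scheme.{u}} (a b : T ⟶ G.stabilizer) (h1 : a ≫ stabFst G = b ≫ stabFst G)
    (h2 : a ≫ G.stabilizerToU = b ≫ G.stabilizerToU) : a = b :=
  pullback.hom_ext h1 h2

theorem fst_t : pullback.fst G.j G.j ≫ G.t = pullback.snd G.j G.j ≫ G.t := by
  have := congrArg (fun k => k ≫ pullback.fst G.pU G.pU) (pullback.condition (f := G.j) (g := G.j))
  simpa only [Category.assoc, j_fst] using this

theorem fst_s : pullback.fst G.j G.j ≫ G.s = pullback.snd G.j G.j ≫ G.s := by
  have := congrArg (fun k => k ≫ pullback.snd G.pU G.pU) (pullback.condition (f := G.j) (g := G.j))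
  simpa only [Category.assoc, j_snd] using this

theorem hγ : (pullback.fst G.j G.j ≫ G.i) ≫ G.s = pullback.snd G.j G.j ≫ G.t := by
  rw [Category.assoc, G.i_s, fst_t]

/-- `(α, β) ↦ α⁻¹ ∘ β`. -/
noncomputable def γ : pullback G.j G.j ⟶ G.R :=
  pullback.lift (pullback.fst G.j G.j ≫ G.i) (pullback.snd G.j G.j) (hγ G) ≫ G.c

theorem γ_t : γ G ≫ G.t = pullback.snd G.j G.j ≫ G.s := by
  unfold γ
  rw [G.comp_t, Category.assoc, G.i_t, fst_s]

theorem γ_s : γ G ≫ G.s = pullback.snd G.j G.j ≫ G.s := by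
  unfold γ
  rw [G.comp_s]

theorem hφ : γ G ≫ G.j = (pullback.snd G.j G.j ≫ G.s) ≫ G.diag := by
  apply pullback.hom_ext
  · rw [Category.assoc, Category.assoc, j_fst, diag_fst, Category.comp_id, γ_t]
  · rw [Category.assoc, Category.assoc, j_snd, diag_snd, Category.comp_id, γ_s]

noncomputable def φ : pullback G.j G.j ⟶ G.stabilizer :=
  (pullback.lift (γ G) (pullback.snd G.j G.j ≫ G.s) (hφ G) : _ ⟶ pullback G.j G.diag)

theorem φ_fst : φ G ≫ stabFst G = γ G :=
  pullback.lift_fst _ _ _

theorem φ_snd : φ G ≫ G.stabilizerToU = pullback.snd G.j G.j ≫ G.s :=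
  pullback.lift_snd _ _ _

theorem eStab_fst : G.eStab ≫ stabFst G = G.e :=
  pullback.lift_fst _ _ _

theorem eStab_snd : G.eStab ≫ G.stabilizerToU = 𝟙 G.U :=
  pullback.lift_snd _ _ _

theorem diag_γ : pullback.diagonal G.j ≫ γ G = G.s ≫ G.e := by
  unfold γ
  rw [precomp_cmp]
  refine (cmp_congr G _ (by rw [← Category.assoc, pullback.diagonal_fst]) (pullback.diagonal_snd _)).trans ?_
  exact (G.i_comp (𝟙 G.R)).trans (Category.id_comp _)

theorem sq : IsPullback (pullback.diagonal G.j) G.s (φ G) G.eStab := by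
  have w : pullback.diagonal G.j ≫ φ G = G.s ≫ G.eStab := by
    apply stab_hom_ext
    · rw [Category.assoc, Category.assoc, φ_fst, eStab_fst]
      exact diag_γ G
    · rw [Category.assoc, Category.assoc, φ_snd, eStab_snd, ← Category.assoc,
        pullback.diagonal_snd, Category.id_comp, Category.comp_id]
  have key : ∀ c : PullbackCone (φ G) G.eStab,
      c.fst ≫ pullback.fst G.j G.j = c.fst ≫ pullback.snd G.j G.j ∧
        c.snd = c.fst ≫ pullback.snd G.j G.j ≫ G.s := by
    intro c
    have hc1 : c.fst ≫ φ G ≫ G.stabilizerToU = c.snd ≫ G.eStab ≫ G.stabilizerToU := by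
      rw [← Category.assoc, c.condition, Category.assoc]
    rw [φ_snd, eStab_snd, Category.comp_id] at hc1
    have hc2 : c.fst ≫ φ G ≫ stabFst G = c.snd ≫ G.eStab ≫ stabFst G := by
      rw [← Category.assoc, c.condition, Category.assoc]
    rw [φ_fst, eStab_fst] at hc2
    refine ⟨?_, hc1.symm⟩
    have h3 : c.fst ≫ γ G = c.snd ≫ G.e := hc2
    unfold γ at h3
    rw [precomp_cmp] at h3
    have h4 : c.snd ≫ G.e = (c.fst ≫ pullback.snd G.j G.j) ≫ G.s ≫ G.e := by
      rw [← hc1]; simp only [Category.assoc]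
    refine eq_of_inv_comp G _ _ ?_ ?_ ?_
    · rw [Category.assoc, Category.assoc, fst_t]
    · rw [Category.assoc, Category.assoc, fst_s]
    · exact (cmp_congr G _ (Category.assoc _ _ _).symm rfl).symm.trans (h3.trans h4)
  refine ⟨⟨w⟩, ⟨PullbackCone.IsLimit.mk w (fun c => c.fst ≫ pullback.fst G.j G.j) ?_ ?_ ?_⟩⟩
  · intro c
    apply pullback.hom_ext
    · rw [Category.assoc, pullback.diagonal_fst, Category.comp_id]
    · rw [Category.assoc, pullback.diagonal_snd, Category.comp_id]
      exact (key c).1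
  · intro c
    rw [(key c).2, Category.assoc, fst_s]
  · intro c m hm1 hm2
    rw [← hm1, Category.assoc, pullback.diagonal_fst, Category.comp_id]


/-- Let (U, R, s, t, c) be a groupoid scheme over S with stabilizer group scheme G → U and identity
section e : U → G. Then j = (t, s) : R → U ×_S U is separated iff G → U is separated iff e is a
closed immersion; and j is quasi-separated iff G → U is quasi-separated iff e is quasi-compact. (A
groupoid scheme carries U, R, s, t, c, e, i over S with the groupoid axioms on T-points; 'finite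
locally free' is finite, flat and locally of finite presentation; C ⊂ Γ(U) is the ring of functions
a with s♯(a) = t♯(a) and M = Spec C.) -/
theorem result (S : Scheme.{u}) (G : Grpd.GroupoidScheme S) : ((IsSeparated G.j ↔ IsSeparated G.stabilizerToU) ∧ (IsSeparated G.stabilizerToU ↔ IsClosedImmersion G.eStab)) ∧ ((QuasiSeparated G.j ↔ QuasiSeparated G.stabilizerToU) ∧ (QuasiSeparated G.stabilizerToU ↔ QuasiCompact G.eStab)) := by
  have A1 : IsSeparated G.j → IsSeparated G.stabilizerToU := fun h =>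
    MorphismProperty.of_isPullback (P := @IsSeparated) (IsPullback.of_hasPullback G.j G.diag) h
  have A2 : QuasiSeparated G.j → QuasiSeparated G.stabilizerToU := fun h =>
    MorphismProperty.of_isPullback (P := @QuasiSeparated) (IsPullback.of_hasPullback G.j G.diag) h
  have B1 : IsSeparated G.stabilizerToU → IsClosedImmersion G.eStab := by
    intro h
    haveI : IsClosedImmersion (G.eStab ≫ G.stabilizerToU) := by rw [eStab_snd]; infer_instance
    exact IsClosedImmersion.of_comp G.eStab G.stabilizerToU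
  have B2 : QuasiSeparated G.stabilizerToU → QuasiCompact G.eStab := by
    intro h
    haveI : QuasiCompact (G.eStab ≫ G.stabilizerToU) := by rw [eStab_snd]; infer_instance
    exact QuasiCompact.of_comp G.eStab G.stabilizerToU
  have C1 : IsClosedImmersion G.eStab → IsSeparated G.j := fun h =>
    ⟨MorphismProperty.of_isPullback (P := @IsClosedImmersion) (sq G).flip h⟩
  have C2 : QuasiCompact G.eStab → QuasiSeparated G.j := fun h =>
    ⟨MorphismProperty.of_isPullback (P := @QuasiCompact) (sq G).flip h⟩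
  exact ⟨⟨⟨A1, fun h => C1 (B1 h)⟩, ⟨B1, fun h => A1 (C1 h)⟩⟩,
    ⟨⟨A2, fun h => C2 (B2 h)⟩, ⟨B2, fun h => A2 (C2 h)⟩⟩⟩

end Groth.Agent.S1886
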