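import Groth.Statements.S18864
import Mathlib

set_option autoImplicit false
universe u v w
open HopfRep

namespace Groth.Agent.S18864

/-- Let k be a field and G = lim G_i a pro-algebraic group scheme over k, so that G = Spec A with A the
direct limit of the Hopf algebras A_i of the affine group schemes G_i of finite type; assume
moreover that the maps A_i → A are injective, so that A is the directed union of the A_i, here given
as injective bialgebra maps A_i → A with directed, jointly covering images. Then every homomorphism
from G to an affine group scheme H = Spec B of finite type over k factors through some projection G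
→ G_i: every bialgebra map f : B → A with B finitely generated as a k-algebra is the composite of
A_i → A with a bialgebra map B → A_i for some i. (The published statement allows arbitrary
transition maps in the system; this row assumes each A_i → A injective, the case the printed
argument treats. The source also states the pro-finite variant with H finite, which is the case of
finite-dimensional A_i and B; finite generation of the A_i is not used.) -/
theorem result (k : Type u) [Field k]
    (A : Type v) [CommRing A] [HopfAlgebra k A] {ι : Type v} (Aι : ι → Type v)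
    [∀ i, CommRing (Aι i)] [∀ i, HopfAlgebra k (Aι i)] (emb : ∀ i, Aι i →ₐc[k] A)
    (hinj : ∀ i, Function.Injective (emb i))
    (hdir : ∀ i j, ∃ l, Set.range (emb i) ⊆ Set.range (emb l) ∧ Set.range (emb j) ⊆ Set.range (emb l))
    (hcov : ∀ a : A, ∃ i, a ∈ Set.range (emb i))
    (B : Type w) [CommRing B] [HopfAlgebra k B] [Algebra.FiniteType k B] (f : B →ₐc[k] A) :
    ∃ (i : ι) (g : B →ₐc[k] Aι i), (emb i).comp g = f := by
  classical
  obtain ⟨T, hT⟩ := (Algebra.FiniteType.out : (⊤ : Subalgebra k B).FG)
  have h1 : ∀ (T' : Finset B), ∃ l, ∀ t ∈ T', f t ∈ Set.range (emb l) := by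
    intro T'
    induction T' using Finset.induction_on with
    | empty => obtain ⟨i, _⟩ := hcov 0; exact ⟨i, by simp⟩
    | insert a s ha ih =>
      obtain ⟨l₁, hl₁⟩ := ih
      obtain ⟨l₂, hl₂⟩ := hcov (f a)
      obtain ⟨l, h₁, h₂⟩ := hdir l₁ l₂
      refine ⟨l, ?_⟩
      intro t ht
      rw [Finset.mem_insert] at ht
      rcases ht with rfl | ht
      · exact h₂ hl₂
      · exact h₁ (hl₁ t ht)
  obtain ⟨l, hl⟩ := h1 T
  let embA : Aι l →ₐ[k] A := (emb l : Aι l →ₐ[k] A)
  let fA : B →ₐ[k] A := (f : B →ₐ[k] A)
  have hembA : ∀ x, embA x = emb l x := fun x => rfl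
  have hfA : ∀ x, fA x = f x := fun x => rfl
  have hrange : ∀ b, fA b ∈ embA.range := by
    have hle : Algebra.adjoin k (T : Set B) ≤ embA.range.comap fA := by
      apply Algebra.adjoin_le
      intro t ht
      obtain ⟨y, hy⟩ := hl t ht
      exact ⟨y, hy⟩
    intro b
    have hb : b ∈ Algebra.adjoin k (T : Set B) := by rw [hT]; trivial
    exact hle hb
  let e := AlgEquiv.ofInjective embA (hinj l)
  let g₀ : B →ₐ[k] Aι l := (e.symm : embA.range →ₐ[k] Aι l).comp (fA.codRestrict embA.range hrange)
  have hg₀ : ∀ b, emb l (g₀ b) = f b := by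
    intro b
    have h2 : e (g₀ b) = fA.codRestrict embA.range hrange b := by
      simp only [g₀, AlgHom.comp_apply]
      exact e.apply_symm_apply _
    have h3 := congrArg Subtype.val h2
    exact h3
  -- injectivity of emb ⊗ emb
  have hinj2 : Function.Injective (TensorProduct.map (emb l : Aι l →ₗ[k] A) (emb l : Aι l →ₗ[k] A)) :=
    TensorProduct.map_injective_of_flat_flat _ _ (hinj l) (hinj l)
  have hcounit : ∀ b, Coalgebra.counit (R := k) (g₀ b) = Coalgebra.counit (R := k) b := by
    intro b
    rw [← CoalgHomClass.counit_comp_apply (emb l) (g₀ b), hg₀, CoalgHomClass.counit_comp_apply]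
  have hcomul : ∀ b, TensorProduct.map (g₀ : B →ₗ[k] Aι l) (g₀ : B →ₗ[k] Aι l)
      (Coalgebra.comul (R := k) b) = Coalgebra.comul (R := k) (g₀ b) := by
    intro b
    apply hinj2
    rw [← LinearMap.comp_apply, ← TensorProduct.map_comp]
    have h4 : (emb l : Aι l →ₗ[k] A) ∘ₗ (g₀ : B →ₗ[k] Aι l) = (f : B →ₗ[k] A) := by
      ext b
      exact hg₀ b
    rw [h4]
    have h5 := CoalgHomClass.map_comp_comul_apply f b
    have h6 := CoalgHomClass.map_comp_comul_apply (emb l) (g₀ b)
    rw [hg₀] at h6
    exact h5.trans h6.symm
  let g : B →ₐc[k] Aι l := BialgHom.ofAlgHom g₀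
    (by ext b; exact hcounit b)
    (by ext b; exact hcomul b)
  refine ⟨l, g, ?_⟩
  ext b
  exact hg₀ b

end Groth.Agent.S18864
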