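import Groth.Statements.S18865
import Groth.Agent.Lib.helper8.LiaisonE
import Groth.Agent.S0341
import Groth.Agent.S0342

set_option autoImplicit false
universe u
open Liaison

namespace Groth.Agent.S18865

/-- Let K be a field, R = K[x_0, …, x_n] graded by degree, c ≥ 2 an integer, 𝔠 ⊂ R a homogeneous ideal
of height c such that R/𝔠 is a Gorenstein ring, and I ⊂ R a homogeneous ideal with I ⊄ 𝔠. Then the
ideal quotient 𝔠 : I is unmixed of codimension c: it has height c and every associated prime of R/(𝔠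
: I) has height c. (A Gorenstein ideal of the notes, one whose quotient is Cohen–Macaulay with last
graded Betti number 1, is rendered as: the quotient ring is Gorenstein.) -/
theorem result (K : Type u) [Field K] (n c : ℕ) (hc : 2 ≤ c)
    (𝔠 I : Ideal (MvPolynomial (Fin (n + 1)) K))
    (h𝔠 : 𝔠.IsHomogeneous (GrSyz.stdGr K (Fin (n + 1)))) (hI : I.IsHomogeneous (GrSyz.stdGr K (Fin (n + 1))))
    [LocCoh.IsGorensteinRing (MvPolynomial (Fin (n + 1)) K ⧸ 𝔠)] (h𝔠c : 𝔠.height = c) (hI𝔠 : ¬ I ≤ 𝔠) :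
    (𝔠.colon (I : Set (MvPolynomial (Fin (n + 1)) K))).height = c ∧
      ∀ p ∈ associatedPrimes (MvPolynomial (Fin (n + 1)) K) (MvPolynomial (Fin (n + 1)) K ⧸ 𝔠.colon (I : Set (MvPolynomial (Fin (n + 1)) K))), p.height = c := by
  classical
  haveI hCM := Groth.Agent.H8.Liaison.isCohenMacaulayRing_of_isGorensteinRing
    (MvPolynomial (Fin (n + 1)) K ⧸ 𝔠)
  haveI : IsRegularRing (MvPolynomial (Fin (n + 1)) K) := inferInstance
  let m₀ : Ideal (MvPolynomial (Fin (n + 1)) K) :=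
    RingHom.ker (MvPolynomial.constantCoeff : MvPolynomial (Fin (n + 1)) K →+* K)
  haveI : m₀.IsMaximal :=
    RingHom.ker_isMaximal_of_surjective _
      (fun c => ⟨MvPolynomial.C c, MvPolynomial.constantCoeff_C _ c⟩)
  have h𝔠top : 𝔠 ≠ ⊤ := by
    intro h
    rw [h, Ideal.height_top] at h𝔠c
    exact absurd h𝔠c (by simp)
  have h𝔠m : 𝔠 ≤ m₀ :=
    Groth.Agent.H8.Liaison.le_ker_constantCoeff_of_isHomogeneous K _ 𝔠 h𝔠top h𝔠
  let mb : Ideal (MvPolynomial (Fin (n + 1)) K ⧸ 𝔠) := m₀.map (Ideal.Quotient.mk 𝔠)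
  haveI : mb.IsPrime := Groth.Agent.H8.Liaison.map_mk_isPrime 𝔠 m₀ h𝔠m
  have hcomap : mb.comap (algebraMap (MvPolynomial (Fin (n + 1)) K)
      (MvPolynomial (Fin (n + 1)) K ⧸ 𝔠)) = m₀ :=
    Groth.Agent.H8.Liaison.comap_map_mk_eq 𝔠 m₀ h𝔠m
  haveI : LocCoh.IsCohenMacaulayLocalRing (Localization.AtPrime
      (mb.comap (algebraMap (MvPolynomial (Fin (n + 1)) K)
        (MvPolynomial (Fin (n + 1)) K ⧸ 𝔠)))) := by
    haveI := Groth.Agent.S0342.result (Localization.AtPrime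
      (mb.comap (algebraMap (MvPolynomial (Fin (n + 1)) K)
        (MvPolynomial (Fin (n + 1)) K ⧸ 𝔠))))
    exact Groth.Agent.S0341.result _
  have hle : ∀ P ∈ associatedPrimes (MvPolynomial (Fin (n + 1)) K)
      (MvPolynomial (Fin (n + 1)) K ⧸ 𝔠),
      P ≤ mb.comap (algebraMap (MvPolynomial (Fin (n + 1)) K)
        (MvPolynomial (Fin (n + 1)) K ⧸ 𝔠)) := by
    intro P hP
    rw [hcomap]
    exact Groth.Agent.H8.Liaison.le_ker_constantCoeff_of_mem_minimalPrimes K _ 𝔠 P h𝔠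
      (Groth.Agent.H8.Liaison.mem_minimalPrimes_of_mem_associatedPrimes_quotient 𝔠 hP)
  have hminass : ∀ (J : Ideal (MvPolynomial (Fin (n + 1)) K)), ∀ P ∈ J.minimalPrimes,
      P ∈ associatedPrimes (MvPolynomial (Fin (n + 1)) K) (MvPolynomial (Fin (n + 1)) K ⧸ J) := by
    intro J P hP
    have := Module.associatedPrimes.minimalPrimes_annihilator_subset_associatedPrimes
      (MvPolynomial (Fin (n + 1)) K) (MvPolynomial (Fin (n + 1)) K ⧸ J)
    rw [Ideal.annihilator_quotient] at this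
    exact this hP
  have hc' : ∀ P ∈ associatedPrimes (MvPolynomial (Fin (n + 1)) K)
      (MvPolynomial (Fin (n + 1)) K ⧸ 𝔠), P.height = c := by
    intro P hP
    obtain ⟨P₀, hP₀⟩ := Ideal.nonempty_minimalPrimes h𝔠top
    have hP₀ass := hminass 𝔠 P₀ hP₀
    have heq : ∀ Q ∈ associatedPrimes (MvPolynomial (Fin (n + 1)) K)
        (MvPolynomial (Fin (n + 1)) K ⧸ 𝔠), Q.height = P₀.height := fun Q hQ =>
      Groth.Agent.H8.Liaison.height_eq_of_mem_associatedPrimes 𝔠 mb hQ hP₀ass (hle Q hQ)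
        (hle P₀ hP₀ass)
    have h𝔠h : 𝔠.height = P₀.height := by
      apply le_antisymm (Ideal.height_mono hP₀.1.2)
      rw [Ideal.height_eq_inf_minimalPrimes 𝔠]
      exact le_iInf₂ fun Q hQ => (heq Q (hminass 𝔠 Q hQ)).ge
    rw [heq P hP, ← h𝔠h, h𝔠c]
  have hJass : ∀ P ∈ associatedPrimes (MvPolynomial (Fin (n + 1)) K)
      (MvPolynomial (Fin (n + 1)) K ⧸ 𝔠.colon (I : Set (MvPolynomial (Fin (n + 1)) K))),
      P.height = c := fun P hP =>
    hc' P (Groth.Agent.H8.Liaison.associatedPrimes_colon_subset 𝔠 I hP)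
  refine ⟨?_, hJass⟩
  have hJtop : 𝔠.colon (I : Set (MvPolynomial (Fin (n + 1)) K)) ≠ ⊤ := by
    intro h
    apply hI𝔠
    intro i hi
    have h1 : (1 : MvPolynomial (Fin (n + 1)) K) ∈
        𝔠.colon (I : Set (MvPolynomial (Fin (n + 1)) K)) := h ▸ Submodule.mem_top
    rw [Submodule.mem_colon] at h1
    simpa using h1 i hi
  rw [Ideal.height_eq_inf_minimalPrimes]
  apply le_antisymm
  · obtain ⟨P₁, hP₁⟩ := Ideal.nonempty_minimalPrimes hJtop
    exact iInf₂_le_of_le P₁ hP₁ (le_of_eq (hJass P₁ (hminass _ P₁ hP₁)))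
  · exact le_iInf₂ fun P hP => (hJass P (hminass _ P hP)).ge

end Groth.Agent.S18865
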