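import Groth.Statements.S18867
import Groth.Agent.Lib.helper8.LiaisonC

set_option autoImplicit false
universe u
open Liaison

namespace Groth.Agent.S18867

/-- Let K be a field, R = K[x_0, …, x_n] graded by degree, c ≥ 2, 𝔠 ⊂ R a homogeneous ideal of height c
such that R/𝔠 is a Gorenstein ring, and I ⊂ R a homogeneous ideal of height c which is unmixed
(every associated prime of R/I has height c) and properly contains 𝔠. Then 𝔠 : (𝔠 : I) = I, so that
I and 𝔠 : I are directly linked by 𝔠. -/
theorem result (K : Type u) [Field K] (n c : ℕ) (hc : 2 ≤ c)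
    (𝔠 I : Ideal (MvPolynomial (Fin (n + 1)) K))
    (h𝔠 : 𝔠.IsHomogeneous (GrSyz.stdGr K (Fin (n + 1)))) (hI : I.IsHomogeneous (GrSyz.stdGr K (Fin (n + 1))))
    [LocCoh.IsGorensteinRing (MvPolynomial (Fin (n + 1)) K ⧸ 𝔠)] (h𝔠c : 𝔠.height = c) (hIc : I.height = c)
    (hIu : ∀ p ∈ associatedPrimes (MvPolynomial (Fin (n + 1)) K) (MvPolynomial (Fin (n + 1)) K ⧸ I), p.height = c) (hlt : 𝔠 < I) :
    𝔠.colon ((𝔠.colon (I : Set (MvPolynomial (Fin (n + 1)) K)) : Ideal (MvPolynomial (Fin (n + 1)) K)) : Set (MvPolynomial (Fin (n + 1)) K)) = I := by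
  apply le_antisymm
  · apply Groth.Agent.H8.Liaison.colon_colon_le 𝔠 I hlt.le
    intro P hP
    haveI := hP.isPrime
    have hIP : I ≤ P := by
      have := hP.annihilator_le
      rwa [Submodule.annihilator_top, Ideal.annihilator_quotient] at this
    have hh := hIu P hP
    refine ⟨⟨inferInstance, hlt.le.trans hIP⟩, fun Q hQ hQP => ?_⟩
    by_contra hnot
    have hlt' : Q < P := lt_of_le_not_ge hQP hnot
    haveI := hQ.1
    have h1 : Q.height < P.height := Ideal.height_strict_mono_of_isPrime_of_isPrime hlt'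
    have h2 : 𝔠.height ≤ Q.height := Ideal.height_mono hQ.2
    rw [h𝔠c] at h2
    rw [hh] at h1
    exact absurd (lt_of_le_of_lt h2 h1) (lt_irrefl _)
  · intro a ha
    rw [Submodule.mem_colon]
    intro b hb
    have hb' : b ∈ Submodule.colon 𝔠 (I : Set (MvPolynomial (Fin (n + 1)) K)) := hb
    rw [Submodule.mem_colon] at hb'
    have := hb' a ha
    rwa [smul_eq_mul, mul_comm] at this

end Groth.Agent.S18867
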