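import Groth.Statements.S18868
import Groth.Agent.Lib.helper8.LiaisonK
import Groth.Agent.Lib.helper8.LiaisonG
import Groth.Agent.Lib.helper8.LiaisonC
import Groth.Agent.S18865
import Groth.Agent.S0342

set_option autoImplicit false
universe u
open Liaison

namespace Groth.Agent.S18868

/-- Let K be a field, R = K[x_0, …, x_n] graded by degree, c ≥ 2, 𝔠 ⊂ R a homogeneous complete
intersection of codimension c, that is a homogeneous ideal of height c generated by c elements g_1,
…, g_c, and I ⊂ R a homogeneous ideal of height c with R/I Cohen–Macaulay which properly contains 𝔠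
and has the form I = 𝔠 + fR for some f (so I is an almost complete intersection). Then the linked
ideal J = 𝔠 : I has height c and R/J is a Gorenstein ring. (A Gorenstein ideal of the notes, one
whose quotient is Cohen–Macaulay with last graded Betti number 1, is rendered as: the quotient ring
is Gorenstein.) -/
theorem result (K : Type u) [Field K] (n c : ℕ) (hc : 2 ≤ c)
    (g : Fin c → MvPolynomial (Fin (n + 1)) K) (f : MvPolynomial (Fin (n + 1)) K) (𝔠 I : Ideal (MvPolynomial (Fin (n + 1)) K)) (h𝔠g : Ideal.span (Set.range g) = 𝔠)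
    (h𝔠 : 𝔠.IsHomogeneous (GrSyz.stdGr K (Fin (n + 1)))) (hI : I.IsHomogeneous (GrSyz.stdGr K (Fin (n + 1))))
    (h𝔠c : 𝔠.height = c) (hIc : I.height = c) [LocCoh.IsCohenMacaulayRing (MvPolynomial (Fin (n + 1)) K ⧸ I)]
    (hlt : 𝔠 < I) (hIf : I = 𝔠 ⊔ Ideal.span {f}) :
    (𝔠.colon (I : Set (MvPolynomial (Fin (n + 1)) K))).height = c ∧
      LocCoh.IsGorensteinRing (MvPolynomial (Fin (n + 1)) K ⧸ 𝔠.colon (I : Set (MvPolynomial (Fin (n + 1)) K))) := by
  classical
  haveI hReg : IsRegularRing (MvPolynomial (Fin (n + 1)) K) := inferInstance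
  haveI hG : LocCoh.IsGorensteinRing (MvPolynomial (Fin (n + 1)) K ⧸ 𝔠) := by
    subst h𝔠g
    exact Groth.Agent.H8.Liaison.isGorensteinRing_quotient_of_height_eq
      (MvPolynomial (Fin (n + 1)) K)
      (fun P _ => Groth.Agent.S0342.result (Localization.AtPrime P)) c g h𝔠c
  have hItop : I ≠ ⊤ := by
    intro h
    rw [h, Ideal.height_top] at hIc
    exact ENat.top_ne_natCast c hIc
  have hAss : ∀ P ∈ associatedPrimes (MvPolynomial (Fin (n + 1)) K)
      (MvPolynomial (Fin (n + 1)) K ⧸ I), P ∈ 𝔠.minimalPrimes := by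
    intro P hP
    haveI hPp : P.IsPrime := hP.isPrime
    have hPh : P.height = c :=
      (Groth.Agent.H8.Liaison.height_eq_of_mem_associatedPrimes_of_isHomogeneous K n I hI hItop
        P hP).trans hIc
    have hIP : I ≤ P := Groth.Agent.H8.Liaison.le_of_mem_associatedPrimes_quotient I hP
    have h𝔠P : 𝔠 ≤ P := hlt.le.trans hIP
    obtain ⟨Q, hQ, hQP⟩ := Ideal.exists_minimalPrimes_le h𝔠P
    haveI hQp : Q.IsPrime := hQ.1.1
    have hQh : (c : ℕ∞) ≤ Q.height := by
      rw [← h𝔠c]
      exact Ideal.height_mono hQ.1.2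
    rcases eq_or_lt_of_le hQP with heq | hltQ
    · rw [← heq]; exact hQ
    · exfalso
      have h1 := Ideal.height_add_one_le_of_lt_of_isPrime hltQ
      rw [hPh] at h1
      have h2 : ((c : ℕ∞) + 1) ≤ c := (add_le_add_left hQh 1).trans h1
      have h3 : ((c + 1 : ℕ) : ℕ∞) ≤ (c : ℕ∞) := by exact_mod_cast h2
      have h4 : c + 1 ≤ c := by exact_mod_cast h3
      omega
  have hcc : 𝔠.colon ((𝔠.colon (I : Set (MvPolynomial (Fin (n + 1)) K)) :
      Ideal (MvPolynomial (Fin (n + 1)) K)) : Set (MvPolynomial (Fin (n + 1)) K)) = I := by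
    apply le_antisymm (Groth.Agent.H8.Liaison.colon_colon_le 𝔠 I hlt.le hAss)
    intro i hi
    rw [Submodule.mem_colon]
    intro j hj
    have hj' := (Submodule.mem_colon.mp hj) i hi
    rw [smul_eq_mul] at hj' ⊢
    rw [mul_comm]
    exact hj'
  refine ⟨(Groth.Agent.S18865.result K n c hc 𝔠 I h𝔠 hI h𝔠c (not_le_of_gt hlt)).1, ?_⟩
  exact Groth.Agent.H8.Liaison.isGorensteinRing_quotient_colon_of_sup_span_singleton
    (MvPolynomial (Fin (n + 1)) K) 𝔠 I f hIf hcc

end Groth.Agent.S18868
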