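import Groth.Statements.S18870
import Mathlib

set_option autoImplicit false
universe u
open Liaison

namespace Groth.Agent.S18870

/-- Let K be a field, R = K[x_0, …, x_n] graded by degree, and J ⊆ I ⊂ R homogeneous ideals with J ≠ 0,
height I = height J + 1 = h + 1 and R/J Cohen–Macaulay; let f ∈ R be homogeneous of degree d with J
: f = J, and put Ĩ = J + fI (the basic double link). Then Ĩ has the same height h + 1 as I. -/
theorem result (K : Type u) [Field K] (n h : ℕ)
    (J I : Ideal (MvPolynomial (Fin (n + 1)) K))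
    (hJ : J.IsHomogeneous (GrSyz.stdGr K (Fin (n + 1)))) (hI : I.IsHomogeneous (GrSyz.stdGr K (Fin (n + 1))))
    (hJ0 : J ≠ ⊥) (hJI : J ≤ I) (hJh : J.height = h) (hIh : I.height = h + 1)
    [LocCoh.IsCohenMacaulayRing (MvPolynomial (Fin (n + 1)) K ⧸ J)]
    (f : MvPolynomial (Fin (n + 1)) K) (d : ℕ) (hf : f ∈ GrSyz.stdGr K (Fin (n + 1)) (d : ℤ)) (hJf : J.colon {f} = J) :
    (J ⊔ Ideal.span {f} * I).height = h + 1 := by
  classical
  have key : ∀ Q ∈ J.minimalPrimes, f ∉ Q := by
    intro Q hQ hfQ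
    have hann : Module.annihilator (MvPolynomial (Fin (n + 1)) K) (MvPolynomial (Fin (n + 1)) K ⧸ J) = J :=
      Ideal.annihilator_quotient
    have hQass : Q ∈ associatedPrimes (MvPolynomial (Fin (n + 1)) K) (MvPolynomial (Fin (n + 1)) K ⧸ J) := by
      apply Module.associatedPrimes.minimalPrimes_annihilator_subset_associatedPrimes
      rw [hann]; exact hQ
    obtain ⟨hQp, x, hx⟩ := (isAssociatedPrime_iff).mp hQass
    obtain ⟨y, rfl⟩ := Ideal.Quotient.mk_surjective x
    have h1 : f ∈ (⊥ : Submodule (MvPolynomial (Fin (n + 1)) K) (MvPolynomial (Fin (n + 1)) K ⧸ J)).colon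
        {Ideal.Quotient.mk J y} := hx ▸ hfQ
    rw [Submodule.mem_colon_singleton] at h1
    have h2 : f * y ∈ J := by
      rw [← Ideal.Quotient.eq_zero_iff_mem, map_mul]
      have e : f • (Ideal.Quotient.mk J) y = (Ideal.Quotient.mk J) f * (Ideal.Quotient.mk J) y := by
        rw [← map_mul]; rfl
      rw [← e]; exact h1
    have h3 : y ∈ J.colon {f} := by
      rw [Submodule.mem_colon_singleton]
      simpa [mul_comm] using h2
    rw [hJf] at h3
    have h4 : (1 : MvPolynomial (Fin (n + 1)) K) ∈ Q := by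
      rw [hx, Submodule.mem_colon_singleton]
      simpa [Ideal.Quotient.eq_zero_iff_mem] using h3
    exact hQp.ne_top ((Ideal.eq_top_iff_one Q).mpr h4)
  apply le_antisymm
  · rw [← hIh]
    apply Ideal.height_mono
    refine sup_le hJI ?_
    exact Ideal.mul_le.mpr (fun a _ b hb => I.mul_mem_left a hb)
  · rw [Ideal.height_eq_inf_minimalPrimes]
    refine le_iInf₂ (fun P hP => ?_)
    have hPp : P.IsPrime := hP.1.1
    have hle : J ⊔ Ideal.span {f} * I ≤ P := hP.1.2
    have hJP : J ≤ P := le_trans le_sup_left hle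
    have hfI : Ideal.span {f} * I ≤ P := le_trans le_sup_right hle
    rcases (Ideal.IsPrime.mul_le hPp).mp hfI with hf' | hI'
    · obtain ⟨Q, hQ, hQP⟩ := Ideal.exists_minimalPrimes_le hJP
      have hQp : Q.IsPrime := hQ.1.1
      have hfP : f ∈ P := hf' (Ideal.subset_span rfl)
      have hlt : Q < P := lt_of_le_of_ne hQP (fun e => key Q hQ (e ▸ hfP))
      have h5 : Q.height + 1 ≤ P.height := Ideal.height_add_one_le_of_lt_of_isPrime hlt
      have h6 : (h : ℕ∞) ≤ Q.height := by
        rw [← hJh]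
        exact Ideal.height_mono hQ.1.2
      calc ((h : ℕ∞) + 1) ≤ Q.height + 1 := by gcongr
        _ ≤ P.height := h5
    · rw [← hIh]
      exact Ideal.height_mono hI'

end Groth.Agent.S18870
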