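import Groth.Statements.S18871
import Groth.Agent.Lib.helper8.LiaisonG
import Groth.Agent.S18870

set_option autoImplicit false
universe u
open Liaison

namespace Groth.Agent.S18871

/-- Let K be a field, R = K[x_0, …, x_n] graded by degree, and J ⊆ I ⊂ R homogeneous ideals with J ≠ 0,
height I = height J + 1 = h + 1 and R/J Cohen–Macaulay; let f ∈ R be homogeneous of degree d with J
: f = J, and put Ĩ = J + fI (the basic double link). Then I is unmixed, meaning that every
associated prime of R/I has height h + 1, if and only if Ĩ is unmixed in the same sense. -/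
theorem result (K : Type u) [Field K] (n h : ℕ)
    (J I : Ideal (MvPolynomial (Fin (n + 1)) K))
    (hJ : J.IsHomogeneous (GrSyz.stdGr K (Fin (n + 1)))) (hI : I.IsHomogeneous (GrSyz.stdGr K (Fin (n + 1))))
    (hJ0 : J ≠ ⊥) (hJI : J ≤ I) (hJh : J.height = h) (hIh : I.height = h + 1)
    [LocCoh.IsCohenMacaulayRing (MvPolynomial (Fin (n + 1)) K ⧸ J)]
    (f : MvPolynomial (Fin (n + 1)) K) (d : ℕ) (hf : f ∈ GrSyz.stdGr K (Fin (n + 1)) (d : ℤ)) (hJf : J.colon {f} = J) :
    (∀ p ∈ associatedPrimes (MvPolynomial (Fin (n + 1)) K) (MvPolynomial (Fin (n + 1)) K ⧸ I), p.height = h + 1) ↔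
      ∀ p ∈ associatedPrimes (MvPolynomial (Fin (n + 1)) K) (MvPolynomial (Fin (n + 1)) K ⧸ (J ⊔ Ideal.span {f} * I)), p.height = h + 1 := by
  classical
  have hJtop : J ≠ ⊤ := by
    intro h'
    rw [h', Ideal.height_top] at hJh
    exact absurd hJh (by simp)
  have hJass := Groth.Agent.H8.Liaison.height_eq_of_mem_associatedPrimes_of_isHomogeneous K n J hJ hJtop
  have hT := Groth.Agent.S18870.result K n h J I hJ hI hJ0 hJI hJh hIh f d hf hJf
  constructor
  · intro hunm P hP
    have hsub := associatedPrimes.subset_union_of_exact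
      (Groth.Agent.H8.Liaison.mfI_injective J I hJI f hJf)
      (Groth.Agent.H8.Liaison.mfI_qTJf_exact J I f) hP
    rcases hsub with h1 | h2
    · exact hunm P h1
    · apply le_antisymm
      · exact Groth.Agent.H8.Liaison.height_le_of_mem_associatedPrimes_quotient_sup_span
          (fun q _ => Groth.Agent.H8.Liaison.isCohenMacaulayLocalRing_localization_mvPolynomial K n q)
          J h (fun P₀ hP₀ => (hJass P₀ hP₀).trans hJh) f hJf h2
      · rw [← hT]
        exact Ideal.height_mono (Groth.Agent.H8.Liaison.le_of_mem_associatedPrimes_quotient _ hP)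
  · intro hunm P hP
    exact hunm P (associatedPrimes.subset_of_injective
      (Groth.Agent.H8.Liaison.mfI_injective J I hJI f hJf) hP)

end Groth.Agent.S18871
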