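import Groth.Statements.S18872
import Groth.Agent.Lib.helper8.LiaisonF
import Groth.Agent.Lib.helper24.GrTorPoly
import Groth.Agent.Lib.helper7.DimFT
import Groth.Agent.S0341
import Groth.Agent.S0342

set_option autoImplicit false
universe u
open Liaison

namespace Groth.Agent.S18872

/-- Let K be a field, R = K[x_0, …, x_n] graded by degree, and J ⊆ I ⊂ R homogeneous ideals with J ≠ 0,
height I = height J + 1 = h + 1 and R/J Cohen–Macaulay; let f ∈ R be homogeneous of degree d with J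
: f = J, and put Ĩ = J + fI (the basic double link). Then for every i < n − h = dim R/I the local
cohomology modules of R/Ĩ and of R/I with support in the irrelevant ideal 𝔪 = (x_0, …, x_n) are
isomorphic in degree i. (The graded statement is H^i_𝔪(R/Ĩ) ≅ H^i_𝔪(R/I)(−d); here only the
existence of an R-linear isomorphism of the underlying modules is asserted, the grading and the
shift by d being dropped.) -/
theorem result (K : Type u) [Field K] (n h : ℕ)
    (J I : Ideal (MvPolynomial (Fin (n + 1)) K))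
    (hJ : J.IsHomogeneous (GrSyz.stdGr K (Fin (n + 1)))) (hI : I.IsHomogeneous (GrSyz.stdGr K (Fin (n + 1))))
    (hJ0 : J ≠ ⊥) (hJI : J ≤ I) (hJh : J.height = h) (hIh : I.height = h + 1)
    [LocCoh.IsCohenMacaulayRing (MvPolynomial (Fin (n + 1)) K ⧸ J)]
    (f : MvPolynomial (Fin (n + 1)) K) (d : ℕ) (hf : f ∈ GrSyz.stdGr K (Fin (n + 1)) (d : ℤ)) (hJf : J.colon {f} = J) (i : ℕ) (hi : i + h < n) :
    Nonempty (LocCoh.H (GrSyz.irrel (GrSyz.stdGr K (Fin (n + 1)))).toIdeal i (MvPolynomial (Fin (n + 1)) K ⧸ (J ⊔ Ideal.span {f} * I)) ≃ₗ[MvPolynomial (Fin (n + 1)) K]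
      LocCoh.H (GrSyz.irrel (GrSyz.stdGr K (Fin (n + 1)))).toIdeal i (MvPolynomial (Fin (n + 1)) K ⧸ I)) := by
  classical
  haveI : IsRegularRing (MvPolynomial (Fin (n + 1)) K) := inferInstance
  obtain ⟨m, hmdef⟩ : ∃ m : Ideal (MvPolynomial (Fin (n + 1)) K),
      m = (GrSyz.irrel (GrSyz.stdGr K (Fin (n + 1)))).toIdeal := ⟨_, rfl⟩
  rw [← hmdef]
  haveI hmmax : m.IsMaximal := hmdef ▸ Groth.Agent.Lib.helper24.GrTor.irrel_isMaximal K n
  haveI hmp : m.IsPrime := hmmax.isPrime
  have hm₀ : m = RingHom.ker (MvPolynomial.constantCoeff : MvPolynomial (Fin (n + 1)) K →+* K) := by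
    haveI : (RingHom.ker (MvPolynomial.constantCoeff :
        MvPolynomial (Fin (n + 1)) K →+* K)).IsMaximal :=
      RingHom.ker_isMaximal_of_surjective _
        (fun c => ⟨MvPolynomial.C c, MvPolynomial.constantCoeff_C _ c⟩)
    apply hmmax.eq_of_le (Ideal.IsMaximal.ne_top inferInstance)
    intro s hs
    rw [hmdef] at hs
    exact Groth.Agent.Lib.helper24.GrMinRes.constantCoeff_of_mem_irrel hs
  have hJtop : J ≠ ⊤ := by
    intro h'
    rw [h', Ideal.height_top] at hJh
    exact absurd hJh (by simp)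
  have hJm : J ≤ m := hm₀ ▸
    Groth.Agent.H8.Liaison.le_ker_constantCoeff_of_isHomogeneous K _ J hJtop hJ
  haveI : LocCoh.IsCohenMacaulayLocalRing (Localization.AtPrime m) := by
    haveI := Groth.Agent.S0342.result (Localization.AtPrime m)
    exact Groth.Agent.S0341.result _
  have hN : ringKrullDim (Localization.AtPrime m) = ((n + 1 : ℕ) : WithBot ℕ∞) := by
    rw [IsLocalization.AtPrime.ringKrullDim_eq_height m (Localization.AtPrime m),
      Groth.Agent.Lib.helper7.DimFT.height_of_isMaximal_mvPolynomial (n + 1) m]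
    rfl
  -- a minimal prime of height h
  obtain ⟨P, hPmin, hPh⟩ : ∃ P ∈ J.minimalPrimes, P.height = h := by
    rw [Ideal.height_eq_inf_minimalPrimes, iInf_subtype'] at hJh
    haveI : Nonempty (J.minimalPrimes) := Ideal.nonempty_minimalPrimes hJtop
    obtain ⟨a, ha⟩ := ENat.exists_eq_iInf
      (fun p : J.minimalPrimes => (p.1 : Ideal (MvPolynomial (Fin (n + 1)) K)).height)
    exact ⟨a.1, a.2, by rw [ha, hJh]⟩
  have hPass : P ∈ associatedPrimes (MvPolynomial (Fin (n + 1)) K)
      (MvPolynomial (Fin (n + 1)) K ⧸ J) := by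
    have := Module.associatedPrimes.minimalPrimes_annihilator_subset_associatedPrimes
      (MvPolynomial (Fin (n + 1)) K) (MvPolynomial (Fin (n + 1)) K ⧸ J)
    rw [Ideal.annihilator_quotient] at this
    exact this hPmin
  have hPm : P ≤ m := hm₀ ▸
    Groth.Agent.H8.Liaison.le_ker_constantCoeff_of_mem_minimalPrimes K _ J P hJ hPmin
  have hdep := Groth.Agent.H8.Liaison.depth_add_height_eq' J m hJm (n + 1) hN hPass hPm
  rw [hPh, ← Groth.Agent.H8.Liaison.idealDepth_eq_depth_of_isMaximal m] at hdep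
  have hdep' : LocCoh.idealDepth m (MvPolynomial (Fin (n + 1)) K ⧸ J) + (h : ℕ∞) =
      ((n + 1 : ℕ) : ℕ∞) := by exact_mod_cast hdep
  have hDtop : LocCoh.idealDepth m (MvPolynomial (Fin (n + 1)) K ⧸ J) ≠ ⊤ := by
    intro h'; rw [h', top_add] at hdep'; exact absurd hdep' (ENat.top_ne_natCast _)
  obtain ⟨D, hD⟩ := ENat.ne_top_iff_exists.mp hDtop
  rw [← hD] at hdep'
  have hDn : D + h = n + 1 := by exact_mod_cast hdep'
  have hIM : m • (⊤ : Submodule (MvPolynomial (Fin (n + 1)) K)
      (MvPolynomial (Fin (n + 1)) K ⧸ J)) ≠ ⊤ := by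
    intro h'
    rw [Ideal.smul_top_eq_map] at h'
    have h1 : (1 : MvPolynomial (Fin (n + 1)) K ⧸ J) ∈
        (m.map (algebraMap (MvPolynomial (Fin (n + 1)) K)
          (MvPolynomial (Fin (n + 1)) K ⧸ J))).restrictScalars (MvPolynomial (Fin (n + 1)) K) := by
      rw [h']; exact Submodule.mem_top
    have h2 : Ideal.Quotient.mk J (1 : MvPolynomial (Fin (n + 1)) K) ∈
        m.map (Ideal.Quotient.mk J) := h1
    rw [Groth.Agent.H8.Liaison.mk_mem_map_iff J m hJm] at h2
    exact hmp.ne_top ((Ideal.eq_top_iff_one m).mpr h2)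
  have h0 := Groth.Agent.H21.LC.subsingleton_of_lt_depth m
    (MvPolynomial (Fin (n + 1)) K ⧸ J) hIM i (by rw [← hD]; exact_mod_cast (by omega : i + 1 ≤ D))
  have h1 := Groth.Agent.H21.LC.subsingleton_of_lt_depth m
    (MvPolynomial (Fin (n + 1)) K ⧸ J) hIM (i + 1)
    (by rw [← hD]; exact_mod_cast (by omega : i + 1 + 1 ≤ D))
  exact Groth.Agent.H8.Liaison.nonempty_H_equiv_bdl J I hJI f hJf m i h0 h1

end Groth.Agent.S18872
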