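import Groth.Statements.S1888
import Mathlib

set_option autoImplicit false
universe u
open CategoryTheory CategoryTheory.Limits AlgebraicGeometry
open Grpd

namespace Groth.Agent.S1888

set_option linter.style.haveILetI false
open Limits

section Cmp
variable {S : Scheme.{u}} (G : Grpd.GroupoidScheme S)

/-- composition of `T`-points -/
noncomputable def cmp {T : Scheme.{u}} (α β : T ⟶ G.R) (h : α ≫ G.s = β ≫ G.t) : T ⟶ G.R :=
  pullback.lift α β h ≫ G.c

lemma cmp_congr {T : Scheme.{u}} {α α' β β' : T ⟶ G.R} (h : α ≫ G.s = β ≫ G.t) (hα : α = α')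
    (hβ : β = β') (h' : α' ≫ G.s = β' ≫ G.t) : cmp G α β h = cmp G α' β' h' := by
  subst hα hβ; rfl

lemma pre_cmp {T T' : Scheme.{u}} (g : T' ⟶ T) (α β : T ⟶ G.R) (h : α ≫ G.s = β ≫ G.t)
    (h' : (g ≫ α) ≫ G.s = (g ≫ β) ≫ G.t) :
    g ≫ cmp G α β h = cmp G (g ≫ α) (g ≫ β) h' := by
  unfold cmp
  rw [← Category.assoc]
  congr 1
  apply pullback.hom_ext
  · rw [Category.assoc, pullback.lift_fst, pullback.lift_fst]
  · rw [Category.assoc, pullback.lift_snd, pullback.lift_snd]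

lemma cancelA {T : Scheme.{u}} (α β : T ⟶ G.R) (h : α ≫ G.s = β ≫ G.t)
    (h1 : (α ≫ G.i) ≫ G.s = cmp G α β h ≫ G.t) : cmp G (α ≫ G.i) (cmp G α β h) h1 = β := by
  have e1 : (α ≫ G.i) ≫ G.s = α ≫ G.t := by rw [Category.assoc, G.i_s]
  refine (G.assoc (α ≫ G.i) α β e1 h).symm.trans ?_
  have e2 : pullback.lift (α ≫ G.i) α e1 ≫ G.c = β ≫ G.t ≫ G.e := by
    rw [G.i_comp α, ← Category.assoc, h, Category.assoc]
  have e3 : (β ≫ G.t ≫ G.e) ≫ G.s = β ≫ G.t := by
    rw [Category.assoc, Category.assoc, G.e_s, Category.comp_id]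
  exact (cmp_congr G _ e2 rfl e3).trans (G.e_comp β)

lemma cancelB {T : Scheme.{u}} (α β : T ⟶ G.R) (h : α ≫ G.t = β ≫ G.t)
    (h0 : (α ≫ G.i) ≫ G.s = β ≫ G.t)
    (h1 : α ≫ G.s = cmp G (α ≫ G.i) β h0 ≫ G.t) : cmp G α (cmp G (α ≫ G.i) β h0) h1 = β := by
  have e1 : α ≫ G.s = (α ≫ G.i) ≫ G.t := by rw [Category.assoc, G.i_t]
  refine (G.assoc α (α ≫ G.i) β e1 h0).symm.trans ?_
  have e2 : pullback.lift α (α ≫ G.i) e1 ≫ G.c = β ≫ G.t ≫ G.e := by
    rw [G.comp_i α, ← Category.assoc, h, Category.assoc]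
  have e3 : (β ≫ G.t ≫ G.e) ≫ G.s = β ≫ G.t := by
    rw [Category.assoc, Category.assoc, G.e_s, Category.comp_id]
  exact (cmp_congr G _ e2 rfl e3).trans (G.e_comp β)

end Cmp

section Main
variable {S : Scheme.{u}} (G : Grpd.GroupoidScheme S)

lemma isIso_fromSpecResidueField (k : Type u) [Field k] {U : Scheme.{u}}
    (eU : U ≅ Spec (CommRingCat.of k)) (x : U) : IsIso (U.fromSpecResidueField x) := by
  haveI : Subsingleton U := by
    have : Subsingleton (Spec (CommRingCat.of k)) :=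
      inferInstanceAs (Subsingleton (PrimeSpectrum k))
    exact eU.hom.homeomorph.injective.subsingleton
  obtain rfl : eU.inv (IsLocalRing.closedPoint k) = x := Subsingleton.elim _ _
  have h := Scheme.descResidueField_stalkClosedPointTo_fromSpecResidueField k U eU.inv
  haveI : IsSplitEpi (U.fromSpecResidueField (eU.inv (IsLocalRing.closedPoint k))) :=
    ⟨⟨eU.hom ≫ Spec.map (Scheme.descResidueField (Scheme.stalkClosedPointTo eU.inv)), by
      rw [Category.assoc, h, Iso.hom_inv_id]⟩⟩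
  exact isIso_of_mono_of_isSplitEpi _

theorem result' (k : Type u) [Field k] (eU : G.U ≅ Spec (CommRingCat.of k)) (r : G.R)
    (hs : IsIso (G.s.residueFieldMap r)) (ht : IsIso (G.t.residueFieldMap r)) :
    ∃ φ : G.R ≅ G.R, φ.hom (G.e (eU.inv (IsLocalRing.closedPoint k))) = r := by
  set ρ₀ := G.R.fromSpecResidueField r with hρ₀
  have hσ : IsIso (ρ₀ ≫ G.s) := by
    rw [hρ₀, ← Scheme.Hom.SpecMap_residueFieldMap_fromSpecResidueField]
    haveI := isIso_fromSpecResidueField k eU (G.s r)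
    infer_instance
  have hτ : IsIso (ρ₀ ≫ G.t) := by
    rw [hρ₀, ← Scheme.Hom.SpecMap_residueFieldMap_fromSpecResidueField]
    haveI := isIso_fromSpecResidueField k eU (G.t r)
    infer_instance
  set σ := ρ₀ ≫ G.s with hσd
  set τ := ρ₀ ≫ G.t with hτd
  set α : G.R ⟶ G.R := G.t ≫ inv σ ≫ ρ₀ with hα
  set α' : G.R ⟶ G.R := G.t ≫ inv τ ≫ ρ₀ with hα'
  have hαs : α ≫ G.s = G.t := by
    rw [hα, Category.assoc, Category.assoc, ← hσd, IsIso.inv_hom_id, Category.comp_id]
  have hαt : α ≫ G.t = G.t ≫ inv σ ≫ τ := by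
    rw [hα, Category.assoc, Category.assoc, ← hτd]
  have hα't : α' ≫ G.t = G.t := by
    rw [hα', Category.assoc, Category.assoc, ← hτd, IsIso.inv_hom_id, Category.comp_id]
  have hα's : α' ≫ G.s = G.t ≫ inv τ ≫ σ := by
    rw [hα', Category.assoc, Category.assoc, ← hσd]
  have h : α ≫ G.s = 𝟙 G.R ≫ G.t := by rw [hαs, Category.id_comp]
  have h' : (α' ≫ G.i) ≫ G.s = 𝟙 G.R ≫ G.t := by
    rw [Category.assoc, G.i_s, hα't, Category.id_comp]
  set L : G.R ⟶ G.R := cmp G α (𝟙 G.R) h with hL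
  set L' : G.R ⟶ G.R := cmp G (α' ≫ G.i) (𝟙 G.R) h' with hL'
  have hLt : L ≫ G.t = G.t ≫ inv σ ≫ τ := by
    rw [hL, cmp, G.comp_t, hαt]
  have hL't : L' ≫ G.t = G.t ≫ inv τ ≫ σ := by
    rw [hL', cmp, G.comp_t, Category.assoc, G.i_t, hα's]
  have hLα' : L ≫ α' = α := by
    rw [hα', ← Category.assoc, hLt, hα]
    simp only [Category.assoc, IsIso.hom_inv_id_assoc]
  have hL'α : L' ≫ α = α' := by
    rw [hα, ← Category.assoc, hL't, hα']
    simp only [Category.assoc, IsIso.hom_inv_id_assoc]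
  have h1 : L ≫ L' = 𝟙 G.R := by
    rw [hL', pre_cmp G L _ _ h' (by
      rw [← Category.assoc, hLα', Category.assoc, G.i_s, Category.comp_id, hLt, hαt])]
    have e1 : L ≫ α' ≫ G.i = α ≫ G.i := by rw [← Category.assoc, hLα']
    have e2 : L ≫ 𝟙 G.R = cmp G α (𝟙 G.R) h := by rw [Category.comp_id]
    refine (cmp_congr G _ e1 e2 ?_).trans (cancelA G α (𝟙 G.R) h ?_)
    all_goals
      rw [Category.assoc, G.i_s, cmp, G.comp_t]
  have h2 : L' ≫ L = 𝟙 G.R := by
    rw [hL, pre_cmp G L' _ _ h (by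
      rw [hL'α, Category.comp_id, hL't, hα's])]
    have e2 : L' ≫ 𝟙 G.R = cmp G (α' ≫ G.i) (𝟙 G.R) h' := by rw [Category.comp_id]
    refine (cmp_congr G _ hL'α e2 ?_).trans
      (cancelB G α' (𝟙 G.R) (by rw [hα't, Category.id_comp]) h' ?_)
    all_goals
      rw [cmp, G.comp_t]
      simp only [hα', Category.assoc, G.i_t]
  refine ⟨⟨L, L', h1, h2⟩, ?_⟩
  show L (G.e (eU.inv (IsLocalRing.closedPoint k))) = r
  -- e ≫ L = inv σ ≫ ρ₀
  have hρs : (inv σ ≫ ρ₀) ≫ G.s = 𝟙 G.U := by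
    rw [Category.assoc, ← hσd, IsIso.inv_hom_id]
  have heα : G.e ≫ α = inv σ ≫ ρ₀ := by
    rw [hα, ← Category.assoc, G.e_t, Category.id_comp]
  have heL : G.e ≫ L = inv σ ≫ ρ₀ := by
    rw [hL, pre_cmp G G.e _ _ h (by rw [heα, hρs, Category.comp_id, G.e_t])]
    have e2 : G.e ≫ 𝟙 G.R = (inv σ ≫ ρ₀) ≫ G.s ≫ G.e := by
      rw [Category.comp_id, ← Category.assoc, hρs, Category.id_comp]
    refine (cmp_congr G _ heα e2 ?_).trans (G.comp_e (inv σ ≫ ρ₀))
    simp only [Category.assoc, G.e_t, Category.comp_id]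
  have : L (G.e (eU.inv (IsLocalRing.closedPoint k))) =
      (G.e ≫ L) (eU.inv (IsLocalRing.closedPoint k)) := by
    rw [Scheme.Hom.comp_apply]
  rw [this, heL, Scheme.Hom.comp_apply, hρ₀, Scheme.fromSpecResidueField_apply]

end Main

/-- Let (U, R, s, t, c) be a groupoid scheme over S with U the spectrum of a field k, and r a point of R
such that both s and t induce isomorphisms from k to κ(r). Then there is an automorphism of the
scheme R carrying the identity point e to r. (The source's automorphism is x ↦ c(r, x); only the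
existence of an automorphism moving e to r is stated here.) (A groupoid scheme carries U, R, s, t,
c, e, i over S with the groupoid axioms on T-points; 'finite locally free' is finite, flat and
locally of finite presentation; C ⊂ Γ(U) is the ring of functions a with s♯(a) = t♯(a) and M = Spec
C.) -/
theorem result (S : Scheme.{u}) (G : Grpd.GroupoidScheme S) (k : Type u) [Field k] (eU : G.U ≅ Spec (CommRingCat.of k)) (r : G.R) (hs : IsIso (G.s.residueFieldMap r)) (ht : IsIso (G.t.residueFieldMap r)) : ∃ φ : G.R ≅ G.R, φ.hom (G.e (eU.inv (IsLocalRing.closedPoint k))) = r := by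
  exact result' G k eU r hs ht

end Groth.Agent.S1888
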