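import Groth.Statements.S18884
import Mathlib

set_option autoImplicit false
universe v u w
open CategoryTheory CategoryTheory.Limits
open Desc

namespace Groth.Agent.S18884
open CategoryTheory CategoryTheory.Limits

section helpers



section
variable {C : Type u} [Category.{v} C] [HasPullbacks C] (W : MorphismProperty C)
  [W.IsStableUnderBaseChange] [W.IsStableUnderComposition] (D : ObjectProperty C)

/-- the cosheaf property -/
def IsCosh : ObjectProperty (C ⥤ AddCommGrpCat.{w}) := fun F =>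
  ∀ ⦃Y X : C⦄ (π : Y ⟶ X), W π → Function.Surjective (F.map π).hom ∧
    (F.map π).hom.ker = ((F.map (pullback.fst π π)).hom - (F.map (pullback.snd π π)).hom).range

variable {W D}
variable {F G : C ⥤ AddCommGrpCat.{w}}

omit [HasPullbacks C] in
theorem map_comp_apply (F : C ⥤ AddCommGrpCat.{w}) {X Y Z : C} (f : X ⟶ Y) (g : Y ⟶ Z)
    (x : F.obj X) : (F.map (f ≫ g)).hom x = (F.map g).hom ((F.map f).hom x) := by
  rw [F.map_comp]
  rfl

omit [HasPullbacks C] in
theorem γnat (γ : D.ι ⋙ F ⟶ D.ι ⋙ G) {Z Y : C} (g : Z ⟶ Y) (hZ : D Z) (hY : D Y)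
    (z : F.obj Z) :
    (γ.app ⟨Y, hY⟩).hom ((F.map g).hom z) = (G.map g).hom ((γ.app ⟨Z, hZ⟩).hom z) := by
  have := γ.naturality (ObjectProperty.homMk g : (⟨Z, hZ⟩ : D.FullSubcategory) ⟶ ⟨Y, hY⟩)
  exact congrArg (fun φ => φ.hom z) this

variable (hD : ∀ X : C, ∃ (Y : C) (π : Y ⟶ X), W π ∧ D Y)
include hD

theorem key1 (hF : IsCosh W F) (γ : D.ι ⋙ F ⟶ D.ι ⋙ G) {Y X : C} (π : Y ⟶ X) (hπ : W π)
    (hY : D Y) (y : F.obj Y) (hy : (F.map π).hom y = 0) :
    (G.map π).hom ((γ.app ⟨Y, hY⟩).hom y) = 0 := by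
  have hker : y ∈ (F.map π).hom.ker := hy
  rw [(hF π hπ).2] at hker
  obtain ⟨z, hz⟩ := hker
  obtain ⟨Z, ρ, hρ, hZ⟩ := hD (pullback π π)
  obtain ⟨z', rfl⟩ := (hF ρ hρ).1 z
  have hy' : y = (F.map (ρ ≫ pullback.fst π π)).hom z' - (F.map (ρ ≫ pullback.snd π π)).hom z' := by
    rw [map_comp_apply, map_comp_apply, ← hz]
    rfl
  rw [hy', map_sub, map_sub, γnat γ _ hZ hY, γnat γ _ hZ hY, ← map_comp_apply, ← map_comp_apply,
    Category.assoc, Category.assoc, pullback.condition, sub_self]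

theorem key2 (hF : IsCosh W F) (γ : D.ι ⋙ F ⟶ D.ι ⋙ G) {X X' Y Y' : C} (f : X ⟶ X')
    (π : Y ⟶ X) (π' : Y' ⟶ X') (hπ' : W π') (hY : D Y) (hY' : D Y')
    (y : F.obj Y) (y' : F.obj Y') (h : (F.map f).hom ((F.map π).hom y) = (F.map π').hom y') :
    (G.map f).hom ((G.map π).hom ((γ.app ⟨Y, hY⟩).hom y)) =
      (G.map π').hom ((γ.app ⟨Y', hY'⟩).hom y') := by
  -- pullback of π ≫ f and π'
  have hq₁ : W (pullback.fst (π ≫ f) π') := W.pullback_fst _ _ hπ'
  obtain ⟨Z, ρ, hρ, hZ⟩ := hD (pullback (π ≫ f) π')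
  have hcov : W (ρ ≫ pullback.fst (π ≫ f) π') := W.comp_mem _ _ hρ hq₁
  obtain ⟨z, rfl⟩ := (hF _ hcov).1 y
  have e : ρ ≫ pullback.snd (π ≫ f) π' ≫ π' = ρ ≫ pullback.fst (π ≫ f) π' ≫ π ≫ f := by
    rw [← pullback.condition]
  have h1 : (F.map π').hom ((F.map (ρ ≫ pullback.snd (π ≫ f) π')).hom z - y') = 0 := by
    rw [map_sub, ← h, ← map_comp_apply, ← map_comp_apply, ← map_comp_apply]
    simp only [Category.assoc]
    rw [e, sub_self]
  have h2 := key1 hD hF γ π' hπ' hY' _ h1
  rw [map_sub, map_sub, sub_eq_zero] at h2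
  rw [← h2, γnat γ _ hZ hY, γnat γ _ hZ hY', ← map_comp_apply, ← map_comp_apply,
    ← map_comp_apply]
  simp only [Category.assoc]
  rw [e]

end



end helpers

/-- Let C be a category with pullbacks equipped with a class W of morphisms, the covers, stable under
base change and under composition. An abelian cosheaf is a functor F : C ⥤ Ab such that for every
cover π : Y ⟶ X the map F(π) is surjective and its kernel is the image of F(p₁) − F(p₂), where p₁,
p₂ : Y ×_X Y ⟶ Y are the two projections. If D is a full subcategory of C such that every object of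
C is the target of a cover whose source lies in D, then the restriction functor from the full
subcategory of abelian cosheaves in C ⥤ Ab to D ⥤ Ab is full and faithful. -/
theorem result {C : Type u} [Category.{v} C]
    [HasPullbacks C] (W : MorphismProperty C) [W.IsStableUnderBaseChange] [W.IsStableUnderComposition]
    (D : ObjectProperty C) (hD : ∀ X : C, ∃ (Y : C) (π : Y ⟶ X), W π ∧ D Y) :
    (ObjectProperty.ι (fun F : C ⥤ AddCommGrpCat.{w} =>
        ∀ ⦃Y X : C⦄ (π : Y ⟶ X), W π → Function.Surjective (F.map π).hom ∧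
          (F.map π).hom.ker = ((F.map (pullback.fst π π)).hom - (F.map (pullback.snd π π)).hom).range) ⋙
      (Functor.whiskeringLeft D.FullSubcategory C AddCommGrpCat.{w}).obj D.ι).Full ∧
    (ObjectProperty.ι (fun F : C ⥤ AddCommGrpCat.{w} =>
        ∀ ⦃Y X : C⦄ (π : Y ⟶ X), W π → Function.Surjective (F.map π).hom ∧
          (F.map π).hom.ker = ((F.map (pullback.fst π π)).hom - (F.map (pullback.snd π π)).hom).range) ⋙
      (Functor.whiskeringLeft D.FullSubcategory C AddCommGrpCat.{w}).obj D.ι).Faithful := by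
  change (ObjectProperty.ι (IsCosh.{v, u, w} W) ⋙
      (Functor.whiskeringLeft D.FullSubcategory C AddCommGrpCat.{w}).obj D.ι).Full ∧
    (ObjectProperty.ι (IsCosh.{v, u, w} W) ⋙
      (Functor.whiskeringLeft D.FullSubcategory C AddCommGrpCat.{w}).obj D.ι).Faithful
  choose Yc πc hπc hYc using hD
  have hD : ∀ X : C, ∃ (Y : C) (π : Y ⟶ X), W π ∧ D Y := fun X => ⟨Yc X, πc X, hπc X, hYc X⟩
  constructor
  · refine ⟨?_⟩
    intro F G γ
    change D.ι ⋙ F.obj ⟶ D.ι ⋙ G.obj at γ
    have hF : IsCosh.{v, u, w} W F.obj := F.property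
    -- the component at X
    have hker : ∀ X : C, (F.obj.map (πc X)).hom.ker ≤
        ((G.obj.map (πc X)).hom.comp (γ.app ⟨Yc X, hYc X⟩).hom).ker := by
      intro X y hy
      exact key1 hD hF γ (πc X) (hπc X) (hYc X) y hy
    let αhom : ∀ X : C, F.obj.obj X →+ G.obj.obj X := fun X =>
      (F.obj.map (πc X)).hom.liftOfSurjective (hF (πc X) (hπc X)).1
        ⟨(G.obj.map (πc X)).hom.comp (γ.app ⟨Yc X, hYc X⟩).hom, hker X⟩
    have hα : ∀ (X : C) (y : F.obj.obj (Yc X)), αhom X ((F.obj.map (πc X)).hom y) =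
        (G.obj.map (πc X)).hom ((γ.app ⟨Yc X, hYc X⟩).hom y) := by
      intro X y
      exact AddMonoidHom.liftOfRightInverse_comp_apply _ _ _ _ y
    let α : F.obj ⟶ G.obj :=
      { app := fun X => AddCommGrpCat.ofHom (αhom X)
        naturality := by
          intro X X' f
          apply AddCommGrpCat.hom_ext
          apply AddMonoidHom.ext
          intro x
          obtain ⟨y, rfl⟩ := (hF (πc X) (hπc X)).1 x
          obtain ⟨y', hy'⟩ := (hF (πc X') (hπc X')).1 ((F.obj.map f).hom ((F.obj.map (πc X)).hom y))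
          change αhom X' ((F.obj.map f).hom ((F.obj.map (πc X)).hom y)) =
            (G.obj.map f).hom (αhom X ((F.obj.map (πc X)).hom y))
          rw [hα, ← hy', hα]
          exact (key2 hD hF γ f (πc X) (πc X') (hπc X') (hYc X) (hYc X') y y' hy'.symm).symm }
    refine ⟨ObjectProperty.homMk α, ?_⟩
    apply NatTrans.ext
    funext X
    obtain ⟨X, hX⟩ := X
    apply AddCommGrpCat.hom_ext
    apply AddMonoidHom.ext
    intro x
    obtain ⟨y, rfl⟩ := (hF (πc X) (hπc X)).1 x
    change αhom X ((F.obj.map (πc X)).hom y) = (γ.app ⟨X, hX⟩).hom ((F.obj.map (πc X)).hom y)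
    rw [hα, γnat γ (πc X) (hYc X) hX]
  · refine ⟨?_⟩
    intro F G f g hfg
    apply ObjectProperty.hom_ext
    apply NatTrans.ext
    funext X
    have hF : IsCosh.{v, u, w} W F.obj := F.property
    have hepi : Epi (F.obj.map (πc X)) :=
      (AddCommGrpCat.epi_iff_surjective _).2 (hF (πc X) (hπc X)).1
    rw [← cancel_epi (F.obj.map (πc X)), f.hom.naturality, g.hom.naturality]
    congr 1
    have := congrArg (fun φ : D.ι ⋙ F.obj ⟶ D.ι ⋙ G.obj => φ.app ⟨Yc X, hYc X⟩) hfg
    exact this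

end Groth.Agent.S18884
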