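import Groth.Statements.S18887
import Mathlib

set_option autoImplicit false
universe u v
open DblCov

namespace Groth.Agent.S18887

/-- Let A be a commutative ring in which 2 is invertible and B a commutative A-algebra which is free of
rank 2 as an A-module and whose trace form tr : B → A has kernel free of rank 1 over A. Then σ(b) =
tr(b) − b defines an A-algebra endomorphism σ of B with σ ≠ id and σ ∘ σ = id, and the elements
fixed by σ are exactly the image of A in B. -/
theorem result {A : Type u} {B : Type v} [CommRing A] [CommRing B]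
    [Algebra A B] (h2 : IsUnit (2 : A)) [Module.Free A B] [Module.Finite A B]
    (hrk : Module.finrank A B = 2)
    [Module.Free A (LinearMap.ker (Algebra.trace A B))]
    (hker : Module.finrank A (LinearMap.ker (Algebra.trace A B)) = 1) :
    ∃ σ : B →ₐ[A] B, (∀ b : B, σ b = algebraMap A B (Algebra.trace A B b) - b) ∧
      σ ≠ AlgHom.id A B ∧ σ.comp σ = AlgHom.id A B ∧
      ∀ b : B, σ b = b ↔ b ∈ Set.range (algebraMap A B) := by
  classical
  haveI : Nontrivial A := by
    by_contra h
    rw [not_nontrivial_iff_subsingleton] at h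
    have h0 : Module.finrank A B = 1 := Module.finrank_subsingleton
    omega
  set t := Algebra.trace A B with ht
  obtain ⟨u, hu⟩ := h2
  have hu2 : (↑u⁻¹ : A) * 2 = 1 := by rw [← hu]; exact u.inv_mul
  have ht1 : ∀ a : A, t (algebraMap A B a) = 2 * a := by
    intro a
    rw [ht, Algebra.trace_algebraMap, hrk, nsmul_eq_mul]
    norm_num
  -- basis vector of the kernel
  haveI : Module.Finite A (LinearMap.ker t) := Module.finite_of_finrank_pos (by omega)
  let bk : Module.Basis (Fin 1) A (LinearMap.ker t) := Module.finBasisOfFinrankEq A _ hker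
  set ε : LinearMap.ker t := bk 0 with hε
  set e : B := (ε : B) with he
  have hte : t e = 0 := ε.2
  have hε0 : ε ≠ 0 := bk.ne_zero 0
  have he0 : e ≠ 0 := fun h => hε0 (Subtype.ext h)
  have hkspan : ∀ k : LinearMap.ker t, ∃ c : A, (k : B) = c • e := by
    intro k
    refine ⟨bk.repr k 0, ?_⟩
    have := bk.sum_repr k
    rw [Fin.sum_univ_one] at this
    conv_lhs => rw [← this]
    rfl
  have hdec : ∀ b : B, ∃ x y : A, b = algebraMap A B x + y • e := by
    intro b
    have hk : b - algebraMap A B (↑u⁻¹ * t b) ∈ LinearMap.ker t := by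
      rw [LinearMap.mem_ker, map_sub, ht1, ← mul_assoc, mul_comm 2, hu2, one_mul, sub_self]
    obtain ⟨c, hc⟩ := hkspan ⟨_, hk⟩
    refine ⟨↑u⁻¹ * t b, c, ?_⟩
    simp only at hc
    rw [← hc]
    abel
  have htdec : ∀ x y : A, t (algebraMap A B x + y • e) = 2 * x := by
    intro x y
    rw [map_add, ht1, map_smul, hte, smul_zero, add_zero]
  have huniq : ∀ x y : A, algebraMap A B x + y • e = 0 → x = 0 ∧ y = 0 := by
    intro x y h
    have h1 := htdec x y
    rw [h, map_zero] at h1
    have hx : x = 0 := by
      have := congrArg (fun z => (↑u⁻¹ : A) * z) h1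
      simp only [mul_zero] at this
      rw [← mul_assoc, hu2, one_mul] at this
      exact this.symm
    refine ⟨hx, ?_⟩
    rw [hx, map_zero, zero_add] at h
    have h2 : y • ε = 0 := Subtype.ext h
    have h3 := congrArg (fun z => bk.repr z 0) h2
    simpa [hε] using h3
  -- basis {1, e}
  have hli : LinearIndependent A ![(1 : B), e] := by
    rw [LinearIndependent.pair_iff]
    intro s r hsr
    apply huniq
    rw [Algebra.algebraMap_eq_smul_one]
    exact hsr
  have hsp : ⊤ ≤ Submodule.span A (Set.range ![(1 : B), e]) := by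
    intro b _
    obtain ⟨x, y, rfl⟩ := hdec b
    apply Submodule.add_mem
    · rw [Algebra.algebraMap_eq_smul_one]
      exact Submodule.smul_mem _ _ (Submodule.subset_span ⟨0, rfl⟩)
    · exact Submodule.smul_mem _ _ (Submodule.subset_span ⟨1, rfl⟩)
  let bb : Module.Basis (Fin 2) A B := Module.Basis.mk hli hsp
  have hbb0 : bb 0 = 1 := by simp [bb]
  have hbb1 : bb 1 = e := by simp [bb]
  -- e * e is a scalar
  obtain ⟨α, y, hee⟩ := hdec (e * e)
  have hy : y = 0 := by
    have h1 : t e = Matrix.trace (Algebra.leftMulMatrix bb e) := Algebra.trace_eq_matrix_trace bb e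
    rw [Matrix.trace_fin_two, Algebra.leftMulMatrix_eq_repr_mul, Algebra.leftMulMatrix_eq_repr_mul,
      hbb0, hbb1, mul_one, hee, hte] at h1
    have h2 : bb.repr e 0 = 0 := by
      rw [← hbb1, bb.repr_self]
      simp
    have h3 : bb.repr (algebraMap A B α + y • e) 1 = y := by
      rw [Algebra.algebraMap_eq_smul_one, ← hbb0, ← hbb1, map_add, map_smul, map_smul,
        bb.repr_self, bb.repr_self]
      simp
    rw [h2, h3, zero_add] at h1
    exact h1.symm
  rw [hy, zero_smul, add_zero] at hee
  -- σ
  let σL : B →ₗ[A] B := (Algebra.linearMap A B) ∘ₗ t - LinearMap.id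
  have hσL : ∀ b, σL b = algebraMap A B (t b) - b := fun b => rfl
  have hσdec : ∀ x y : A, σL (algebraMap A B x + y • e) = algebraMap A B x - y • e := by
    intro x y
    rw [hσL, htdec, two_mul, map_add]
    abel
  have hmul : ∀ b c : B, σL (b * c) = σL b * σL c := by
    intro b c
    obtain ⟨x, y, rfl⟩ := hdec b
    obtain ⟨x', y', rfl⟩ := hdec c
    have h1 : (algebraMap A B x + y • e) * (algebraMap A B x' + y' • e) =
        algebraMap A B (x * x' + y * y' * α) + (x * y' + x' * y) • e := by
      simp only [Algebra.smul_def, map_add, map_mul]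
      linear_combination (algebraMap A B y * algebraMap A B y') * hee
    rw [h1, hσdec, hσdec, hσdec]
    simp only [Algebra.smul_def, map_add, map_mul]
    linear_combination (-(algebraMap A B y * algebraMap A B y')) * hee
  have hone : σL 1 = 1 := by
    rw [hσL, ← map_one (algebraMap A B), ht1, mul_one, map_ofNat, map_one]
    norm_num
  let σ : B →ₐ[A] B := AlgHom.ofLinearMap σL hone hmul
  have hσ : ∀ b, σ b = algebraMap A B (t b) - b := fun b => rfl
  refine ⟨σ, hσ, ?_, ?_, ?_⟩
  · intro hid
    have h1 : σ e = e := by rw [hid]; rfl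
    rw [hσ, hte, map_zero, zero_sub] at h1
    have h2 : (2 : A) • e = 0 := by
      rw [two_smul]
      nth_rw 1 [← h1]
      exact neg_add_cancel e
    apply he0
    have h3 := congrArg (fun z => (↑u⁻¹ : A) • z) h2
    simp only [smul_zero, smul_smul, hu2, one_smul] at h3
    exact h3
  · ext b
    simp only [AlgHom.comp_apply, AlgHom.id_apply]
    rw [hσ, hσ, map_sub, ht1, two_mul, add_sub_cancel_right, sub_sub_cancel]
  · intro b
    rw [hσ]
    constructor
    · intro h
      refine ⟨↑u⁻¹ * t b, ?_⟩
      have h1 : algebraMap A B (t b) = (2 : A) • b := by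
        rw [two_smul]
        rw [sub_eq_iff_eq_add] at h
        exact h
      rw [map_mul, h1, ← Algebra.smul_def, smul_smul, hu2, one_smul]
    · rintro ⟨a, rfl⟩
      rw [ht1, two_mul, map_add]
      abel

end Groth.Agent.S18887
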