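import Groth.Statements.S18888
import Mathlib

set_option autoImplicit false
universe u v w
open CAlg

namespace Groth.Agent.S18888

/-- Squarefree descent: if `c ^ 2 * d ∈ A` with `d` squarefree then `c ∈ A`. -/
theorem mem_of_sq_mul_mem {A : Type*} {K : Type*} [CommRing A] [IsDomain A]
    [UniqueFactorizationMonoid A] [Field K] [Algebra A K] [IsFractionRing A K]
    (d : A) (hd : Squarefree d) (c : K) (m : A)
    (h : c ^ 2 * algebraMap A K d = algebraMap A K m) : ∃ c₀ : A, algebraMap A K c₀ = c := by
  obtain ⟨r, s, hrs, rfl⟩ := IsFractionRing.exists_reduced_fraction (A := A) (K := K) c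
  have hs0 : algebraMap A K (s : A) ≠ 0 :=
    IsFractionRing.to_map_ne_zero_of_mem_nonZeroDivisors s.2
  have h1 : algebraMap A K (r * r * d) = algebraMap A K (m * (s * s)) := by
    rw [IsFractionRing.mk'_eq_div] at h
    simp only [map_mul]
    field_simp at h
    linear_combination h
  have h2 : r * r * d = m * (s * s) := IsFractionRing.injective A K h1
  have hrel : IsRelPrime ((s : A) * s) (r * r) := by
    have := hrs.symm
    exact (this.mul_left this).mul_right (this.mul_left this)
  have hdvd : (s : A) * s ∣ d := by
    apply hrel.dvd_of_dvd_mul_right (y := d)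
    rw [mul_comm d, h2]
    exact Dvd.intro_left _ rfl
  have hunit : IsUnit (s : A) := hd _ hdvd
  obtain ⟨u, hu⟩ := hunit
  refine ⟨r * ((u⁻¹ : Aˣ) : A), ?_⟩
  rw [IsFractionRing.mk'_eq_div, eq_div_iff hs0, ← map_mul, ← hu, mul_assoc, Units.inv_mul,
    mul_one]


/-- Let A be a unique factorisation domain in which 2 is invertible, with fraction field K, and let L ⊇
K be a quadratic extension field (of degree 2 over K) containing an element y ∉ K whose square is a
squarefree element d of A. Then the integral closure of A in L equals the A-subalgebra A[y]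
generated by y. -/
theorem result {A : Type u} {K : Type v} {L : Type w}
    [CommRing A] [IsDomain A] [UniqueFactorizationMonoid A] [Field K] [Algebra A K] [IsFractionRing A K]
    [Field L] [Algebra K L] [Algebra A L] [IsScalarTower A K L]
    (h2 : IsUnit (2 : A)) (hL : Module.finrank K L = 2)
    (d : A) (hd : Squarefree d) (y : L) (hy : y * y = algebraMap A L d)
    (hyK : y ∉ Set.range (algebraMap K L)) :
    integralClosure A L = Algebra.adjoin A {y} := by
  have hinjK : Function.Injective (algebraMap K L) := (algebraMap K L).injective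
  haveI : IsIntegrallyClosed A := inferInstance
  -- the basis `1, y`
  have hli : LinearIndependent K ![(1 : L), y] := by
    rw [LinearIndependent.pair_iff]
    intro s t hst
    have ht : t = 0 := by
      by_contra ht
      apply hyK
      refine ⟨-s / t, ?_⟩
      have h1 : t • y = -(s • (1 : L)) := by linear_combination (exp := 1) hst
      have h2 : y = t⁻¹ • (-(s • (1 : L))) := by
        rw [← h1, smul_smul, inv_mul_cancel₀ ht, one_smul]
      rw [h2, Algebra.algebraMap_eq_smul_one, smul_neg, smul_smul, ← neg_smul]
      congr 1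
      field_simp
    subst ht
    rw [zero_smul, add_zero, Algebra.smul_def, mul_one] at hst
    exact ⟨hinjK (by rw [hst, map_zero]), rfl⟩
  haveI : FiniteDimensional K L := Module.finite_of_finrank_pos (by omega)
  let b : Module.Basis (Fin 2) K L :=
    basisOfLinearIndependentOfCardEqFinrank hli (by simp [hL])
  have hb : ⇑b = ![(1 : L), y] := coe_basisOfLinearIndependentOfCardEqFinrank hli _
  have hb0 : b 0 = 1 := by rw [hb]; rfl
  have hb1 : b 1 = y := by rw [hb]; rfl
  have hdK : y * y = algebraMap K L (algebraMap A K d) := by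
    rw [hy, IsScalarTower.algebraMap_apply A K L]
  apply le_antisymm
  · intro z hz
    have hz' : IsIntegral A z := hz
    set a := b.repr z 0 with ha
    set c := b.repr z 1 with hc
    have hzac : z = a • (1 : L) + c • y := by
      conv_lhs => rw [← b.sum_repr z]
      rw [Fin.sum_univ_two, hb0, hb1]
    have hz1 : z * b 0 = a • b 0 + c • b 1 := by
      rw [hb0, hb1, mul_one]
      exact hzac
    have hz2 : z * b 1 = (c * algebraMap A K d) • b 0 + a • b 1 := by
      rw [hb0, hb1, hzac, add_mul, smul_mul_assoc, smul_mul_assoc, one_mul, hdK,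
        Algebra.smul_def c, Algebra.smul_def (c * _), map_mul, mul_one]
      ring
    have hM : Algebra.leftMulMatrix b z = !![a, c * algebraMap A K d; c, a] := by
      ext i j
      rw [Algebra.leftMulMatrix_eq_repr_mul]
      fin_cases i <;> fin_cases j <;>
        simp [hz1, hz2, Module.Basis.repr_self]
    have htr : Algebra.trace K L z = 2 * a := by
      rw [Algebra.trace_eq_matrix_trace b, hM, Matrix.trace_fin_two]
      simp
      ring
    have hnorm : Algebra.norm K z = a * a - c ^ 2 * algebraMap A K d := by
      rw [Algebra.norm_eq_matrix_det b, hM, Matrix.det_fin_two]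
      simp
      ring
    have h1 : IsIntegral A (Algebra.trace K L z) := Algebra.isIntegral_trace hz'
    have h2' : IsIntegral A (Algebra.norm K z) := Algebra.isIntegral_norm K hz'
    obtain ⟨t₀, ht₀⟩ := IsIntegrallyClosed.isIntegral_iff.1 h1
    obtain ⟨n₀, hn₀⟩ := IsIntegrallyClosed.isIntegral_iff.1 h2'
    obtain ⟨u, hu⟩ := h2
    have ha₀ : algebraMap A K (((u⁻¹ : Aˣ) : A) * t₀) = a := by
      have h2K : (algebraMap A K (u : A)) = 2 := by rw [hu]; exact map_ofNat _ 2
      have : algebraMap A K (u : A) * algebraMap A K (((u⁻¹ : Aˣ) : A) * t₀) =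
          algebraMap A K (u : A) * a := by
        rw [← map_mul, ← mul_assoc, Units.mul_inv, one_mul, ht₀, htr, h2K]
      have hne : algebraMap A K (u : A) ≠ 0 := by
        rw [Ne, ← map_zero (algebraMap A K), (IsFractionRing.injective A K).eq_iff]
        exact u.ne_zero
      exact mul_left_cancel₀ hne this
    obtain ⟨c₀, hc₀⟩ := mem_of_sq_mul_mem d hd c
      ((((u⁻¹ : Aˣ) : A) * t₀) * (((u⁻¹ : Aˣ) : A) * t₀) - n₀) (by
        rw [map_sub, map_mul, ha₀, hn₀, hnorm]
        ring)
    rw [hzac, ← ha₀, ← hc₀, Algebra.smul_def, Algebra.smul_def, mul_one,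
      ← IsScalarTower.algebraMap_apply A K L, ← IsScalarTower.algebraMap_apply A K L]
    refine Subalgebra.add_mem _ (Subalgebra.algebraMap_mem _ _)
      (Subalgebra.mul_mem _ (Subalgebra.algebraMap_mem _ _)
        (Algebra.subset_adjoin (Set.mem_singleton _)))
  · rw [Algebra.adjoin_le_iff]
    intro w hw
    rw [Set.mem_singleton_iff] at hw
    subst hw
    show IsIntegral A w
    refine ⟨Polynomial.X ^ 2 - Polynomial.C d, Polynomial.monic_X_pow_sub_C d (by norm_num), ?_⟩
    simp [pow_two, hy]

end Groth.Agent.S18888
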