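import Groth.Statements.S18889
import Mathlib

set_option autoImplicit false
universe u v w
open CAlg

namespace Groth.Agent.S18889

namespace S18889aux

variable {R : Type u} {A : Type v} [CommRing R] [CommRing A] [Algebra R A]
  {G : Type w} [Group G] [Fintype G] [MulSemiringAction G A] [SMulCommClass G R A]

/-- the (unnormalised) trace `a ↦ ∑ g, g • a`, scaled by `u`. -/
noncomputable def rey (u : R) : A →ₗ[R] A where
  toFun a := u • ∑ g : G, g • a
  map_add' a b := by simp [smul_add, Finset.sum_add_distrib]
  map_smul' r a := by
    simp only [RingHom.id_apply]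
    have : ∀ g : G, g • (r • a) = r • (g • a) := fun g => smul_comm g r a
    simp only [this, ← Finset.smul_sum]
    rw [smul_comm]

theorem rey_apply (u : R) (a : A) : rey (G := G) u a = u • ∑ g : G, g • a := rfl

theorem smul_rey (u : R) (a : A) (h : G) : h • rey (G := G) u a = rey (G := G) u a := by
  rw [rey_apply, smul_comm h u, Finset.smul_sum]
  congr 1
  simp only [smul_smul]
  exact Fintype.sum_equiv (Equiv.mulLeft h) _ _ (fun g => rfl)

theorem rey_mem (u : R) (a : A) : rey (G := G) u a ∈ FixedPoints.subalgebra R A G :=
  fun h => smul_rey u a h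

theorem rey_mul_of_mem (u : R) (b a : A) (hb : ∀ g : G, g • b = b) :
    rey (G := G) u (b * a) = b * rey (G := G) u a := by
  simp only [rey_apply, smul_mul', hb, ← Finset.mul_sum, mul_smul_comm]

theorem rey_of_mem (u : R) (hu : u * (Fintype.card G : R) = 1) (b : A) (hb : ∀ g : G, g • b = b) :
    rey (G := G) u b = b := by
  simp only [rey_apply, hb, Finset.sum_const, Finset.card_univ]
  rw [← Nat.cast_smul_eq_nsmul R, smul_smul, hu, one_smul]


open MulSemiringAction Polynomial in
theorem fg_fixed [Algebra.FiniteType R A] (u : R) (hu : u * (Fintype.card G : R) = 1) :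
    (FixedPoints.subalgebra R A G).FG := by
  classical
  obtain ⟨s, hs⟩ := (inferInstance : Algebra.FiniteType R A).out
  -- coefficients of the characteristic polynomials of the generators
  let T : Finset A := s.biUnion fun a => (charpoly G a).coeffs
  have hTinv : ∀ t ∈ T, ∀ g : G, g • t = t := by
    intro t ht g
    obtain ⟨a, -, hta⟩ := Finset.mem_biUnion.1 ht
    obtain ⟨n, -, rfl⟩ := Polynomial.mem_coeffs_iff.1 hta
    exact smul_coeff_charpoly a n g
  let C : Subalgebra R A := Algebra.adjoin R (T : Set A)
  have hCB : C ≤ FixedPoints.subalgebra R A G := Algebra.adjoin_le fun t ht => hTinv t ht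
  -- each generator is integral over C
  have hint : ∀ a ∈ (s : Set A), IsIntegral C a := by
    intro a ha
    have hl : charpoly G a ∈ Polynomial.lifts (algebraMap C A) := by
      rw [Polynomial.lifts_iff_coeff_lifts]
      intro n
      by_cases h0 : (charpoly G a).coeff n = 0
      · exact ⟨0, by rw [h0, map_zero]⟩
      · refine ⟨⟨_, Algebra.subset_adjoin (Finset.mem_coe.2 (Finset.mem_biUnion.2
          ⟨a, ha, Polynomial.coeff_mem_coeffs h0⟩))⟩, rfl⟩
    obtain ⟨p, hp1, -, hp2⟩ := Polynomial.lifts_and_natDegree_eq_and_monic hl (monic_charpoly G a)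
    exact ⟨p, hp2, by rw [← eval_map, hp1, eval_charpoly]⟩
  have htop : Algebra.adjoin C (s : Set A) = ⊤ := by
    rw [eq_top_iff]
    intro x _
    have hx : x ∈ Algebra.adjoin R (s : Set A) := by rw [hs]; trivial
    have hle : Algebra.adjoin R (s : Set A) ≤ (Algebra.adjoin C (s : Set A)).restrictScalars R :=
      Algebra.adjoin_le fun y hy => Algebra.subset_adjoin hy
    exact hle hx
  have hfin : (⊤ : Submodule C A).FG := by
    have := fg_adjoin_of_finite (R := C) s.finite_toSet hint
    rwa [htop, Algebra.top_toSubmodule] at this
  -- the image of `rey` as a `C`-submodule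
  let ρ : A →ₗ[C] A :=
    { toFun := fun a => rey (G := G) u a
      map_add' := fun a b => map_add _ a b
      map_smul' := fun c a => by
        change rey (G := G) u (c.1 * a) = c.1 * rey (G := G) u a
        exact rey_mul_of_mem u c.1 a (hCB c.2) }
  obtain ⟨W, hW⟩ := hfin.map ρ
  rw [Submodule.map_top] at hW
  refine ⟨T ∪ W, le_antisymm ?_ ?_⟩
  · apply Algebra.adjoin_le
    intro x hx
    rcases Finset.mem_union.1 (Finset.mem_coe.1 hx) with hx | hx
    · exact hTinv x hx
    · have : x ∈ LinearMap.range ρ := hW ▸ Submodule.subset_span (Finset.mem_coe.2 hx)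
      obtain ⟨a, rfl⟩ := this
      exact rey_mem u a
  · intro b hb
    have hb' : b ∈ LinearMap.range ρ := ⟨b, rey_of_mem u hu b hb⟩
    rw [← hW] at hb'
    refine Submodule.span_induction (p := fun x _ => x ∈ Algebra.adjoin R ((↑(T ∪ W) : Set A)))
      ?_ ?_ ?_ ?_ hb'
    · intro x hx
      exact Algebra.subset_adjoin (Finset.mem_coe.2 (Finset.mem_union_right _ (Finset.mem_coe.1 hx)))
    · exact Subalgebra.zero_mem _
    · intro x y _ _ hx hy
      exact Subalgebra.add_mem _ hx hy
    · intro c x _ hx
      change c.1 * x ∈ _
      refine Subalgebra.mul_mem _ ?_ hx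
      have hmono : C ≤ Algebra.adjoin R ((↑(T ∪ W) : Set A)) :=
        Algebra.adjoin_mono (by
          intro t ht
          exact Finset.mem_coe.2 (Finset.mem_union_left _ (Finset.mem_coe.1 ht)))
      exact hmono c.2

end S18889aux

/-- Let R be a commutative ring, A a commutative R-algebra of finite presentation, and G a finite group
acting on A by R-algebra automorphisms such that the order of G is invertible in R. Then the ring of
invariants A^G is an R-algebra of finite presentation. (The source takes G to be a group of
automorphisms of A; here G acts through a possibly non-faithful action, which changes nothing since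
the invariants and the invertibility of the order only depend on the image of G.) -/
theorem result {R : Type u} {A : Type v} [CommRing R] [CommRing A]
    [Algebra R A] [Algebra.FinitePresentation R A]
    {G : Type w} [Group G] [Finite G] [MulSemiringAction G A] [SMulCommClass G R A]
    (hG : IsUnit ((Nat.card G : ℕ) : R)) :
    Algebra.FinitePresentation R (FixedPoints.subalgebra R A G) := by
  classical
  cases nonempty_fintype G
  rw [Nat.card_eq_fintype_card] at hG
  obtain ⟨u, hu⟩ := hG.exists_left_inv
  have hfg := S18889aux.fg_fixed (R := R) (A := A) (G := G) u hu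
  haveI hft : Algebra.FiniteType R (FixedPoints.subalgebra R A G) :=
    (Subalgebra.fg_iff_finiteType _).1 hfg
  obtain ⟨m, π, hπ⟩ := Algebra.FiniteType.iff_quotient_mvPolynomial''.1 hft
  -- algebra structures over the polynomial ring
  letI algPB : Algebra (MvPolynomial (Fin m) R) (FixedPoints.subalgebra R A G) :=
    π.toRingHom.toAlgebra
  letI algPA : Algebra (MvPolynomial (Fin m) R) A :=
    ((algebraMap (FixedPoints.subalgebra R A G) A).comp π.toRingHom).toAlgebra
  haveI : IsScalarTower R (MvPolynomial (Fin m) R) (FixedPoints.subalgebra R A G) :=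
    IsScalarTower.of_algebraMap_eq fun r => (π.commutes r).symm
  haveI : IsScalarTower (MvPolynomial (Fin m) R) (FixedPoints.subalgebra R A G) A :=
    IsScalarTower.of_algebraMap_eq fun _ => rfl
  haveI : IsScalarTower R (MvPolynomial (Fin m) R) A :=
    IsScalarTower.of_algebraMap_eq fun r => by
      change algebraMap R A r = algebraMap (FixedPoints.subalgebra R A G) A (π (algebraMap R _ r))
      rw [π.commutes]
      rfl
  haveI : Module.Finite (MvPolynomial (Fin m) R) (FixedPoints.subalgebra R A G) :=
    Module.Finite.of_surjective (Algebra.linearMap (MvPolynomial (Fin m) R) _) hπ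
  -- A is finite over the invariants
  haveI : Algebra.IsInvariant (FixedPoints.subalgebra R A G) A G :=
    ⟨fun b hb => ⟨⟨b, hb⟩, rfl⟩⟩
  haveI : Algebra.IsIntegral (FixedPoints.subalgebra R A G) A :=
    Algebra.IsInvariant.isIntegral _ A G
  haveI : Algebra.FiniteType (FixedPoints.subalgebra R A G) A :=
    Algebra.FiniteType.of_restrictScalars_finiteType R _ A
  haveI : Module.Finite (FixedPoints.subalgebra R A G) A := Algebra.IsIntegral.finite
  haveI : Module.Finite (MvPolynomial (Fin m) R) A :=
    Module.Finite.trans (FixedPoints.subalgebra R A G) A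
  haveI : Algebra.FinitePresentation (MvPolynomial (Fin m) R) A :=
    Algebra.FinitePresentation.of_restrict_scalars_finitePresentation R _ A
  haveI : Module.FinitePresentation (MvPolynomial (Fin m) R) A :=
    Module.FinitePresentation.of_finite_of_finitePresentation _ A
  -- Reynolds operator, linear over the polynomial ring
  let ρ : A →ₗ[MvPolynomial (Fin m) R] (FixedPoints.subalgebra R A G) :=
    { toFun := fun a => ⟨S18889aux.rey (G := G) u a, S18889aux.rey_mem u a⟩
      map_add' := fun a b => Subtype.ext (map_add _ a b)
      map_smul' := fun p a => by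
        apply Subtype.ext
        change S18889aux.rey (G := G) u ((π p).1 * a) = (π p).1 * S18889aux.rey (G := G) u a
        exact S18889aux.rey_mul_of_mem u _ a (π p).2 }
  have hρ : ∀ b : FixedPoints.subalgebra R A G, ρ b.1 = b := fun b =>
    Subtype.ext (S18889aux.rey_of_mem u hu b.1 b.2)
  have hsurj : Function.Surjective ρ := fun b => ⟨b.1, hρ b⟩
  let ι : (FixedPoints.subalgebra R A G) →ₗ[MvPolynomial (Fin m) R] A :=
    (IsScalarTower.toAlgHom (MvPolynomial (Fin m) R) (FixedPoints.subalgebra R A G) A).toLinearMap
  have hι : ∀ b : FixedPoints.subalgebra R A G, ι b = b.1 := fun _ => rfl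
  have hker : (LinearMap.ker ρ).FG := by
    have hrange : LinearMap.ker ρ = LinearMap.range (LinearMap.id - ι ∘ₗ ρ) := by
      ext x
      constructor
      · intro hx
        rw [LinearMap.mem_ker] at hx
        refine ⟨x, ?_⟩
        rw [LinearMap.sub_apply, LinearMap.comp_apply, hx, map_zero, LinearMap.id_apply, sub_zero]
      · rintro ⟨y, rfl⟩
        rw [LinearMap.mem_ker, LinearMap.sub_apply, LinearMap.comp_apply, LinearMap.id_apply,
          map_sub, hι, hρ, sub_self]
    rw [hrange, LinearMap.range_eq_map]
    exact (Module.Finite.fg_top).map _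
  haveI : Module.FinitePresentation (MvPolynomial (Fin m) R) (FixedPoints.subalgebra R A G) :=
    Module.finitePresentation_of_surjective ρ hsurj hker
  haveI : Algebra.FinitePresentation (MvPolynomial (Fin m) R) (FixedPoints.subalgebra R A G) :=
    inferInstance
  exact Algebra.FinitePresentation.trans R (MvPolynomial (Fin m) R) _

end Groth.Agent.S18889
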