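import Groth.Statements.S1889
import Mathlib

set_option autoImplicit false
universe u
open CategoryTheory CategoryTheory.Limits AlgebraicGeometry
open Grpd

namespace Groth.Agent.S1889

set_option linter.style.haveILetI false
open Limits

section Cmp
variable {S : Scheme.{u}} (G : Grpd.GroupoidScheme S)

/-- composition of `T`-points -/
noncomputable def cmp {T : Scheme.{u}} (α β : T ⟶ G.R) (h : α ≫ G.s = β ≫ G.t) : T ⟶ G.R :=
  pullback.lift α β h ≫ G.c

lemma cmp_congr {T : Scheme.{u}} {α α' β β' : T ⟶ G.R} (h : α ≫ G.s = β ≫ G.t) (hα : α = α')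
    (hβ : β = β') (h' : α' ≫ G.s = β' ≫ G.t) : cmp G α β h = cmp G α' β' h' := by
  subst hα hβ; rfl

lemma pre_cmp {T T' : Scheme.{u}} (g : T' ⟶ T) (α β : T ⟶ G.R) (h : α ≫ G.s = β ≫ G.t)
    (h' : (g ≫ α) ≫ G.s = (g ≫ β) ≫ G.t) :
    g ≫ cmp G α β h = cmp G (g ≫ α) (g ≫ β) h' := by
  unfold cmp
  rw [← Category.assoc]
  congr 1
  apply pullback.hom_ext
  · rw [Category.assoc, pullback.lift_fst, pullback.lift_fst]
  · rw [Category.assoc, pullback.lift_snd, pullback.lift_snd]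

lemma cancelA {T : Scheme.{u}} (α β : T ⟶ G.R) (h : α ≫ G.s = β ≫ G.t)
    (h1 : (α ≫ G.i) ≫ G.s = cmp G α β h ≫ G.t) : cmp G (α ≫ G.i) (cmp G α β h) h1 = β := by
  have e1 : (α ≫ G.i) ≫ G.s = α ≫ G.t := by rw [Category.assoc, G.i_s]
  refine (G.assoc (α ≫ G.i) α β e1 h).symm.trans ?_
  have e2 : pullback.lift (α ≫ G.i) α e1 ≫ G.c = β ≫ G.t ≫ G.e := by
    rw [G.i_comp α, ← Category.assoc, h, Category.assoc]
  have e3 : (β ≫ G.t ≫ G.e) ≫ G.s = β ≫ G.t := by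
    rw [Category.assoc, Category.assoc, G.e_s, Category.comp_id]
  exact (cmp_congr G _ e2 rfl e3).trans (G.e_comp β)

lemma cancelB {T : Scheme.{u}} (α β : T ⟶ G.R) (h : α ≫ G.t = β ≫ G.t)
    (h0 : (α ≫ G.i) ≫ G.s = β ≫ G.t)
    (h1 : α ≫ G.s = cmp G (α ≫ G.i) β h0 ≫ G.t) : cmp G α (cmp G (α ≫ G.i) β h0) h1 = β := by
  have e1 : α ≫ G.s = (α ≫ G.i) ≫ G.t := by rw [Category.assoc, G.i_t]
  refine (G.assoc α (α ≫ G.i) β e1 h0).symm.trans ?_
  have e2 : pullback.lift α (α ≫ G.i) e1 ≫ G.c = β ≫ G.t ≫ G.e := by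
    rw [G.comp_i α, ← Category.assoc, h, Category.assoc]
  have e3 : (β ≫ G.t ≫ G.e) ≫ G.s = β ≫ G.t := by
    rw [Category.assoc, Category.assoc, G.e_s, Category.comp_id]
  exact (cmp_congr G _ e2 rfl e3).trans (G.e_comp β)

end Cmp

section Main
variable {S : Scheme.{u}} (G : Grpd.GroupoidScheme S)

theorem result' (k : Type u) [Field k] (eU : G.U ≅ Spec (CommRingCat.of k)) (W : G.R.Opens)
    (Z : Scheme.{u}) (a : Z ⟶ G.R) :
    IsOpen (Set.range ⇑(pullback.lift (pullback.fst (a ≫ G.s) (W.ι ≫ G.t) ≫ a)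
      (pullback.snd (a ≫ G.s) (W.ι ≫ G.t) ≫ W.ι)
      ((Category.assoc _ _ _).trans (pullback.condition.trans (Category.assoc _ _ _).symm)) ≫ G.c)) := by
  -- universally open
  haveI hUO : UniversallyOpen (a ≫ G.t) := by
    have h1 : UniversallyOpen ((a ≫ G.t) ≫ eU.hom) := inferInstance
    have h2 : a ≫ G.t = ((a ≫ G.t) ≫ eU.hom) ≫ eU.inv := by
      rw [Category.assoc, Iso.hom_inv_id, Category.comp_id]
    rw [h2]
    infer_instance
  -- the three fibre products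
  set fQ := pullback.fst (a ≫ G.s) G.t with hfQ
  set sQ := pullback.snd (a ≫ G.s) G.t with hsQ
  set fQ' := pullback.fst (a ≫ G.t) G.t with hfQ'
  set sQ' := pullback.snd (a ≫ G.t) G.t with hsQ'
  have cQ : (fQ ≫ a) ≫ G.s = sQ ≫ G.t := by
    rw [Category.assoc]; exact pullback.condition
  have cQ' : (fQ' ≫ a) ≫ G.t = sQ' ≫ G.t := by
    rw [Category.assoc]; exact pullback.condition
  -- m' : Q ⟶ R
  set m' : pullback (a ≫ G.s) G.t ⟶ G.R := cmp G (fQ ≫ a) sQ cQ with hm'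
  -- ι₁ : P ⟶ Q
  set ι₁ : pullback (a ≫ G.s) (W.ι ≫ G.t) ⟶ pullback (a ≫ G.s) G.t :=
    pullback.map (a ≫ G.s) (W.ι ≫ G.t) (a ≫ G.s) G.t (𝟙 Z) W.ι (𝟙 G.U)
      (by rw [Category.id_comp, Category.comp_id]) (by rw [Category.comp_id]) with hι₁
  have hfac : pullback.lift (pullback.fst (a ≫ G.s) (W.ι ≫ G.t) ≫ a)
      (pullback.snd (a ≫ G.s) (W.ι ≫ G.t) ≫ W.ι)
      ((Category.assoc _ _ _).trans (pullback.condition.trans (Category.assoc _ _ _).symm)) ≫ G.c
      = ι₁ ≫ m' := by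
    rw [hm', pre_cmp G ι₁ (fQ ≫ a) sQ cQ
      (by have := cQ; simp only [Category.assoc] at this ⊢; rw [this])]
    refine cmp_congr G _ ?_ ?_ _
    · rw [← Category.assoc, hι₁, hfQ, pullback.lift_fst, Category.comp_id]
    · rw [hι₁, hsQ, pullback.lift_snd]
  -- ψ : Q' ⟶ Q
  have h₁ : ((fQ' ≫ a) ≫ G.i) ≫ G.s = sQ' ≫ G.t := by
    rw [Category.assoc, G.i_s, cQ']
  have h₂ : fQ' ≫ (a ≫ G.s) = cmp G ((fQ' ≫ a) ≫ G.i) sQ' h₁ ≫ G.t := by
    rw [cmp, G.comp_t, Category.assoc, Category.assoc, G.i_t]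
  set ψ : pullback (a ≫ G.t) G.t ⟶ pullback (a ≫ G.s) G.t :=
    pullback.lift fQ' (cmp G ((fQ' ≫ a) ≫ G.i) sQ' h₁) h₂ with hψ
  have hψf : ψ ≫ fQ = fQ' := pullback.lift_fst _ _ _
  have hψs : ψ ≫ sQ = cmp G ((fQ' ≫ a) ≫ G.i) sQ' h₁ := pullback.lift_snd _ _ _
  -- φ : Q ⟶ Q'
  have h₄ : fQ ≫ (a ≫ G.t) = m' ≫ G.t := by
    rw [hm', cmp, G.comp_t, Category.assoc]
  set φ : pullback (a ≫ G.s) G.t ⟶ pullback (a ≫ G.t) G.t := pullback.lift fQ m' h₄ with hφ
  have hφf : φ ≫ fQ' = fQ := pullback.lift_fst _ _ _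
  have hφs : φ ≫ sQ' = m' := pullback.lift_snd _ _ _
  -- φ ≫ ψ = 𝟙
  have hφψ : φ ≫ ψ = 𝟙 _ := by
    apply pullback.hom_ext
    · rw [Category.assoc, Category.id_comp]
      show φ ≫ ψ ≫ fQ = fQ
      rw [hψf, hφf]
    · rw [Category.assoc, Category.id_comp]
      show φ ≫ ψ ≫ sQ = sQ
      rw [hψs, pre_cmp G φ _ _ h₁ (by
        rw [← Category.assoc, ← Category.assoc, hφf, hφs, Category.assoc, Category.assoc, G.i_s,
          hm', cmp, G.comp_t, Category.assoc])]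
      have e1 : φ ≫ (fQ' ≫ a) ≫ G.i = (fQ ≫ a) ≫ G.i := by
        rw [← Category.assoc, ← Category.assoc, hφf]
      have e2 : φ ≫ sQ' = cmp G (fQ ≫ a) sQ cQ := hφs
      refine (cmp_congr G _ e1 e2 ?_).trans (cancelA G (fQ ≫ a) sQ cQ ?_)
      all_goals
        rw [Category.assoc, G.i_s, cmp, G.comp_t]
  have hψsurj : Function.Surjective ψ := by
    intro x
    refine ⟨φ x, ?_⟩
    have := congrArg (fun g => g.base x) hφψ
    simpa using this
  -- ψ ≫ m' = sQ'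
  have hψm : ψ ≫ m' = sQ' := by
    rw [hm', pre_cmp G ψ _ _ cQ (by
      rw [← Category.assoc, hψf, hψs, cmp, G.comp_t, Category.assoc, Category.assoc, G.i_t,
        Category.assoc])]
    have e1 : ψ ≫ fQ ≫ a = fQ' ≫ a := by rw [← Category.assoc, hψf]
    refine (cmp_congr G _ e1 hψs ?_).trans (cancelB G (fQ' ≫ a) sQ' cQ' h₁ ?_)
    all_goals
      rw [cmp, G.comp_t, Category.assoc, Category.assoc, G.i_t, Category.assoc]
  -- conclude
  rw [hfac]
  have hO : IsOpen (Set.range ι₁) := by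
    rw [hι₁, Scheme.Pullback.range_map]
    refine IsOpen.inter ?_ ?_
    · exact ((𝟙 Z : Z ⟶ Z).isOpenEmbedding.isOpen_range).preimage
        (pullback.fst (a ≫ G.s) G.t).continuous
    · exact (W.ι.isOpenEmbedding.isOpen_range).preimage (pullback.snd (a ≫ G.s) G.t).continuous
  have hrange : Set.range (ι₁ ≫ m') = sQ' '' (ψ ⁻¹' Set.range ι₁) := by
    have : Set.range (ι₁ ≫ m') = m' '' Set.range ι₁ := by
      rw [Scheme.Hom.comp_base, TopCat.coe_comp, Set.range_comp]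
    rw [this, ← hψm, Scheme.Hom.comp_base, TopCat.coe_comp, Set.image_comp,
      Set.image_preimage_eq _ hψsurj]
  rw [hrange]
  exact sQ'.isOpenMap _ (hO.preimage ψ.continuous)

end Main

/-- Let (U, R, s, t, c) be a groupoid scheme over S with U the spectrum of a field, W ⊆ R open and a : Z
→ R a morphism. Then the image of Z ×_{s∘a, U, t} W → R ×_{s,U,t} R → R (composition) is open. (A
groupoid scheme carries U, R, s, t, c, e, i over S with the groupoid axioms on T-points; 'finite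
locally free' is finite, flat and locally of finite presentation; C ⊂ Γ(U) is the ring of functions
a with s♯(a) = t♯(a) and M = Spec C.) -/
theorem result (S : Scheme.{u}) (G : Grpd.GroupoidScheme S) (k : Type u) [Field k] (eU : G.U ≅ Spec (CommRingCat.of k)) (W : G.R.Opens) (Z : Scheme.{u}) (a : Z ⟶ G.R) : IsOpen (Set.range ⇑(pullback.lift (pullback.fst (a ≫ G.s) (W.ι ≫ G.t) ≫ a) (pullback.snd (a ≫ G.s) (W.ι ≫ G.t) ≫ W.ι) ((Category.assoc _ _ _).trans (pullback.condition.trans (Category.assoc _ _ _).symm)) ≫ G.c)) := by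
  exact result' G k eU W Z a

end Groth.Agent.S1889
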