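import Groth.Statements.S18890
import Mathlib

set_option autoImplicit false
universe u v w w'
open CAlg

namespace Groth.Agent.S18890

/-- Let R be a commutative ring, G a finite group whose order is invertible in R, M an R-module with an
R-linear action ρ of G and N an arbitrary R-module. Then the natural map M^G ⊗_R N → M ⊗_R N induced
by the inclusion of the invariants is injective, and its image is the submodule of invariants of M
⊗_R N under the action ρ ⊗ 1 (G acting on the first factor). (The source lets G be a group of
R-automorphisms of M; a possibly non-faithful linear action changes nothing.) -/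
theorem result {R : Type u} [CommRing R]
    {G : Type v} [Group G] [Finite G] (hG : IsUnit ((Nat.card G : ℕ) : R))
    {M : Type w} {N : Type w'} [AddCommGroup M] [Module R M] [AddCommGroup N] [Module R N]
    (ρ : Representation R G M) :
    Function.Injective (LinearMap.rTensor N ρ.invariants.subtype) ∧
      LinearMap.range (LinearMap.rTensor N ρ.invariants.subtype) =
        (ρ.tprod (Representation.trivial R G N)).invariants := by
  classical
  letI : Fintype G := Fintype.ofFinite G
  obtain ⟨c, hc⟩ := hG.exists_left_inv
  -- hc : c * (Nat.card G : R) = 1
  have hcard : (Nat.card G : R) = (Fintype.card G : R) := by rw [Nat.card_eq_fintype_card]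
  let e : M →ₗ[R] M := c • ∑ g : G, ρ g
  have he_apply : ∀ m, e m = c • ∑ g : G, ρ g m := fun m => by
    simp [e, LinearMap.sum_apply]
  have he_inv : ∀ m, e m ∈ ρ.invariants := by
    intro m h
    rw [he_apply, map_smul, map_sum]
    congr 1
    have : ∀ g : G, ρ h (ρ g m) = ρ (h * g) m := fun g => by rw [map_mul]; rfl
    simp_rw [this]
    exact Fintype.sum_equiv (Equiv.mulLeft h) _ _ (fun g => rfl)
  have he_id : ∀ m ∈ ρ.invariants, e m = m := by
    intro m hm
    rw [he_apply]
    have : ∀ g : G, ρ g m = m := hm
    simp_rw [this]
    rw [Finset.sum_const, Finset.card_univ, ← Nat.cast_smul_eq_nsmul R, smul_smul, ← hcard, hc,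
      one_smul]
  let π : M →ₗ[R] ρ.invariants := e.codRestrict ρ.invariants he_inv
  have hπ : π ∘ₗ ρ.invariants.subtype = LinearMap.id := by
    ext ⟨m, hm⟩
    simp [π, he_id m hm]
  have hsub : ρ.invariants.subtype ∘ₗ π = e := by
    ext m; rfl
  refine ⟨?_, ?_⟩
  · intro x y hxy
    have := congrArg (LinearMap.rTensor N π) hxy
    rw [← LinearMap.comp_apply, ← LinearMap.comp_apply, ← LinearMap.rTensor_comp, hπ,
      LinearMap.rTensor_id] at this
    exact this
  · apply le_antisymm
    · rintro _ ⟨x, rfl⟩
      intro g
      rw [Representation.tprod_apply]
      induction x using TensorProduct.induction_on with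
      | zero => simp
      | tmul m n =>
        simp only [LinearMap.rTensor_tmul, TensorProduct.map_tmul, Submodule.subtype_apply,
          Representation.trivial_apply, LinearMap.id_coe, id_eq]
        rw [m.2 g]
      | add x y hx hy => simp only [map_add, hx, hy]
    · intro y hy
      -- y = (e ⊗ 1) y
      have hy' : ∀ g : G, TensorProduct.map (ρ g) (LinearMap.id : N →ₗ[R] N) y = y := by
        intro g
        have := hy g
        rw [Representation.tprod_apply] at this
        simpa [Representation.trivial_apply] using this
      have hey : LinearMap.rTensor N e y = y := by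
        have h1 : LinearMap.rTensor N e = c • ∑ g : G, LinearMap.rTensor N (ρ g) := by
          ext m n
          simp [e, LinearMap.sum_apply, TensorProduct.sum_tmul, TensorProduct.smul_tmul']
        rw [h1, LinearMap.smul_apply, LinearMap.sum_apply]
        have : ∀ g : G, LinearMap.rTensor N (ρ g) y = y := fun g => hy' g
        simp_rw [this]
        rw [Finset.sum_const, Finset.card_univ, ← Nat.cast_smul_eq_nsmul R, smul_smul, ← hcard, hc,
          one_smul]
      rw [← hey, ← hsub, LinearMap.rTensor_comp]
      exact ⟨_, rfl⟩

end Groth.Agent.S18890
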