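import Groth.Statements.S18891
import Mathlib

set_option autoImplicit false
universe u
open CategoryTheory CategoryTheory.Limits AlgebraicGeometry
open Mor

namespace Groth.Agent.S18891

section Helpers
open AlgebraicGeometry CategoryTheory Limits

theorem main {X Y : Scheme.{u}} (f : X ⟶ Y)
    [IsProper f] [FormallyUnramified f]
    (hinj : ∀ (Ω : Type u) [Field Ω] [IsAlgClosed Ω],
      Function.Injective (fun g : Spec (CommRingCat.of Ω) ⟶ X => g ≫ f)) :
    IsClosedImmersion f := by
  rw [IsClosedImmersion.iff_isProper_and_mono]
  refine ⟨inferInstance, ?_⟩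
  rw [← pullback.isIso_diagonal_iff]
  have hopen : IsOpenImmersion (pullback.diagonal f) := inferInstance
  have hsurj : Function.Surjective (pullback.diagonal f) := by
    intro z
    let Ω := AlgebraicClosure ((pullback f f).residueField z)
    let t : Spec (CommRingCat.of Ω) ⟶ pullback f f :=
      Spec.map (CommRingCat.ofHom (algebraMap ((pullback f f).residueField z) Ω)) ≫
        (pullback f f).fromSpecResidueField z
    have h12 : t ≫ pullback.fst f f = t ≫ pullback.snd f f := by
      apply hinj Ω
      show (t ≫ pullback.fst f f) ≫ f = (t ≫ pullback.snd f f) ≫ f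
      simp only [Category.assoc, pullback.condition]
    have ht : t = (t ≫ pullback.fst f f) ≫ pullback.diagonal f := by
      apply pullback.hom_ext
      · simp
      · simp [h12]
    obtain ⟨pt⟩ : Nonempty (Spec (CommRingCat.of Ω)) := inferInstance
    refine ⟨(t ≫ pullback.fst f f) pt, ?_⟩
    rw [← Scheme.Hom.comp_apply, ← ht]
    show ((pullback f f).fromSpecResidueField z) _ = z
    exact Scheme.fromSpecResidueField_apply _ _
  have : Epi (pullback.diagonal f).base := (TopCat.epi_iff_surjective _).mpr hsurj
  exact IsOpenImmersion.isIso _

end Helpers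


/-- Let f : X → Y be a morphism of schemes which is proper and formally unramified, and such that for
every algebraically closed field Ω the map X(Ω) → Y(Ω), g ↦ g ≫ f, is injective. Then f is a closed
immersion. -/
theorem result {X Y : Scheme.{u}} (f : X ⟶ Y)
    [IsProper f] [FormallyUnramified f]
    (hinj : ∀ (Ω : Type u) [Field Ω] [IsAlgClosed Ω],
      Function.Injective (fun g : Spec (CommRingCat.of Ω) ⟶ X => g ≫ f)) :
    IsClosedImmersion f := by
  exact main f hinj

end Groth.Agent.S18891
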