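import Groth.Statements.S18899
import Mathlib

set_option autoImplicit false
universe u v w
open CAlg

namespace Groth.Agent.S18899

/-- Let A be a commutative ring on which a finite group G acts by ring automorphisms, with ring of
invariants A^G, and let K be a field. If two ring homomorphisms f₁, f₂ : A → K have the same
restriction to A^G, then f₂ = f₁ ∘ γ for some γ ∈ G. -/
theorem result {A : Type u} [CommRing A] {G : Type v} [Group G] [Finite G]
    [MulSemiringAction G A] {K : Type w} [Field K] (f₁ f₂ : A →+* K)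
    (h : ∀ a : A, (∀ g : G, g • a = a) → f₁ a = f₂ a) :
    ∃ γ : G, ∀ a : A, f₂ a = f₁ (γ • a) := by
  classical
  cases nonempty_fintype G
  haveI : Algebra.IsInvariant (FixedPoints.subring A G) A G := ⟨fun b hb => ⟨⟨b, hb⟩, rfl⟩⟩
  haveI : (RingHom.ker f₁).IsPrime := RingHom.ker_isPrime f₁
  haveI : (RingHom.ker f₂).IsPrime := RingHom.ker_isPrime f₂
  have hunder : (RingHom.ker f₁).under (FixedPoints.subring A G) =
      (RingHom.ker f₂).under (FixedPoints.subring A G) := by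
    ext a
    simp only [Ideal.under_def, Ideal.mem_comap, RingHom.mem_ker]
    have : f₁ (algebraMap (FixedPoints.subring A G) A a) =
        f₂ (algebraMap (FixedPoints.subring A G) A a) := h _ a.2
    rw [this]
  obtain ⟨g, hg⟩ := Algebra.IsInvariant.exists_smul_of_under_eq (FixedPoints.subring A G) A G
    (RingHom.ker f₁) (RingHom.ker f₂) hunder
  have hker : ∀ a, f₁ (g⁻¹ • a) = 0 ↔ f₂ a = 0 := by
    intro a
    rw [← RingHom.mem_ker, ← RingHom.mem_ker, hg, Ideal.mem_pointwise_smul_iff_inv_smul_mem]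
  have key : ∀ (φ ψ : A →+* K), (∀ a : A, (∀ g : G, g • a = a) → φ a = ψ a) →
      ∀ x : A, ∃ h : G, ψ x = φ (h • x) := by
    intro φ ψ hφψ x
    obtain ⟨P, hP⟩ := Algebra.IsInvariant.charpoly_mem_lifts (FixedPoints.subring A G) A G x
    have e1 : (MulSemiringAction.charpoly G x).map ψ = (MulSemiringAction.charpoly G x).map φ := by
      rw [← hP, Polynomial.coe_mapRingHom, Polynomial.map_map, Polynomial.map_map]
      congr 1
      ext a
      exact (hφψ a.1 a.2).symm
    have e2 : ((MulSemiringAction.charpoly G x).map ψ).eval (ψ x) = 0 := by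
      rw [Polynomial.eval_map, Polynomial.eval₂_at_apply, MulSemiringAction.eval_charpoly,
        map_zero]
    rw [e1, MulSemiringAction.charpoly_eq, Polynomial.map_prod, Polynomial.eval_prod] at e2
    obtain ⟨h, -, hh⟩ := Finset.prod_eq_zero_iff.1 e2
    refine ⟨h, ?_⟩
    simpa [sub_eq_zero] using hh
  -- the twisted first map
  let f₁' : A →+* K := f₁.comp (MulSemiringAction.toRingHom G A g⁻¹)
  have hf₁' : ∀ a, f₁' a = f₁ (g⁻¹ • a) := fun a => rfl
  have hagree : ∀ a : A, (∀ g : G, g • a = a) → f₁' a = f₂ a := by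
    intro a ha
    rw [hf₁', ha]
    exact h a ha
  let ι₂ : A ⧸ RingHom.ker f₂ →+* K :=
    Ideal.Quotient.lift (RingHom.ker f₂) f₂ (fun a ha => RingHom.mem_ker.1 ha)
  let ι₁ : A ⧸ RingHom.ker f₂ →+* K :=
    Ideal.Quotient.lift (RingHom.ker f₂) f₁' (fun a ha => (hker a).2 (RingHom.mem_ker.1 ha))
  have hinj₂ : Function.Injective ι₂ :=
    RingHom.lift_injective_of_ker_le_ideal _ _ le_rfl
  have hinj₁ : Function.Injective ι₁ :=
    RingHom.lift_injective_of_ker_le_ideal _ _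
      (fun a ha => RingHom.mem_ker.2 ((hker a).1 (RingHom.mem_ker.1 ha)))
  have hsurj₁₂ : ∀ y : A ⧸ RingHom.ker f₂, ∃ y' : A ⧸ RingHom.ker f₂, ι₁ y' = ι₂ y := by
    intro y
    obtain ⟨x, rfl⟩ := Ideal.Quotient.mk_surjective y
    obtain ⟨h', hh'⟩ := key f₁' f₂ hagree x
    exact ⟨Ideal.Quotient.mk _ (h' • x), by simp [ι₁, ι₂, hh']⟩
  have hsurj₂₁ : ∀ y : A ⧸ RingHom.ker f₂, ∃ y' : A ⧸ RingHom.ker f₂, ι₂ y' = ι₁ y := by
    intro y
    obtain ⟨x, rfl⟩ := Ideal.Quotient.mk_surjective y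
    obtain ⟨h', hh'⟩ := key f₂ f₁' (fun a ha => (hagree a ha).symm) x
    exact ⟨Ideal.Quotient.mk _ (h' • x), by simp [ι₁, ι₂, hh']⟩
  have hrange : ι₂.range = ι₁.range := by
    ext z
    constructor
    · rintro ⟨y, rfl⟩
      obtain ⟨y', hy'⟩ := hsurj₁₂ y
      exact ⟨y', hy'⟩
    · rintro ⟨y, rfl⟩
      obtain ⟨y', hy'⟩ := hsurj₂₁ y
      exact ⟨y', hy'⟩
  let e₁ : (A ⧸ RingHom.ker f₂) ≃+* ι₁.range :=
    RingEquiv.ofBijective ι₁.rangeRestrict
      ⟨fun a b hab => hinj₁ (congrArg Subtype.val hab), ι₁.rangeRestrict_surjective⟩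
  let e₂ : (A ⧸ RingHom.ker f₂) ≃+* ι₂.range :=
    RingEquiv.ofBijective ι₂.rangeRestrict
      ⟨fun a b hab => hinj₂ (congrArg Subtype.val hab), ι₂.rangeRestrict_surjective⟩
  let τ : (A ⧸ RingHom.ker f₂) ≃+* (A ⧸ RingHom.ker f₂) :=
    e₂.trans ((RingEquiv.subringCongr hrange).trans e₁.symm)
  have hτ : ∀ y, ι₁ (τ y) = ι₂ y := by
    intro y
    have h1 : e₁ (τ y) = (RingEquiv.subringCongr hrange) (e₂ y) := by
      simp [τ]
    have h2 := congrArg Subtype.val h1
    exact h2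
  have hτalg : ∀ x : (FixedPoints.subring A G) ⧸ (RingHom.ker f₂).under (FixedPoints.subring A G),
      τ (algebraMap _ (A ⧸ RingHom.ker f₂) x) = algebraMap _ (A ⧸ RingHom.ker f₂) x := by
    intro x
    obtain ⟨a, rfl⟩ := Ideal.Quotient.mk_surjective x
    apply hinj₁
    rw [hτ]
    show f₂ a.1 = f₁' a.1
    exact (hagree a.1 a.2).symm
  obtain ⟨σ, hσ⟩ := Ideal.Quotient.stabilizerHom_surjective G
    ((RingHom.ker f₂).under (FixedPoints.subring A G)) (RingHom.ker f₂)
    (AlgEquiv.ofRingEquiv (f := τ) hτalg)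
  refine ⟨g⁻¹ * σ.1, fun a => ?_⟩
  have h3 : τ (Ideal.Quotient.mk _ a) = Ideal.Quotient.mk _ (σ.1 • a) := by
    have := congrArg (fun e => e (Ideal.Quotient.mk _ a)) hσ
    exact this.symm
  have h4 := hτ (Ideal.Quotient.mk _ a)
  rw [h3] at h4
  rw [mul_smul]
  exact h4.symm

end Groth.Agent.S18899
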