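import Groth.Statements.S1890
import Mathlib

set_option autoImplicit false
universe u
open CategoryTheory CategoryTheory.Limits AlgebraicGeometry
open Grpd

namespace Groth.Agent.S1890

/-- Take a quasi-compact immersion j : V → Spec A and an element f ∈ A such that j⁻¹(D(f)) is affine and
j(V) ∩ V(f) is closed in Spec A. Then V is affine. -/
theorem result (A : Type u) [CommRing A] (V : Scheme.{u}) (j : V ⟶ Spec (CommRingCat.of A)) [IsImmersion j] [QuasiCompact j] (f : A) (haff : IsAffineOpen (j ⁻¹ᵁ PrimeSpectrum.basicOpen f)) (hcl : IsClosed (Set.range ⇑j ∩ PrimeSpectrum.zeroLocus {f})) : IsAffine V := by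
  classical
  set R : Set (PrimeSpectrum A) := Set.range ⇑j with hR
  have hT : IsClosed (closure R \ R) := by
    have h1 : IsOpen (coborder R) := j.isLocallyClosed_range.isOpen_coborder
    have h2 : closure R \ R = (coborder R)ᶜ := by
      rw [coborder, compl_compl]
    rw [h2]
    exact h1.isClosed_compl
  set T : Set (PrimeSpectrum A) := closure R \ R with hTdef
  set Z : Set (PrimeSpectrum A) := R ∩ PrimeSpectrum.zeroLocus {f} with hZdef
  have hclZ : IsClosed Z := hcl
  have hTZ : T ∩ Z = ∅ := by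
    ext p
    simp only [hTdef, hZdef, Set.mem_inter_iff, Set.mem_sdiff, Set.mem_empty_iff_false, iff_false]
    tauto
  have hsup : PrimeSpectrum.vanishingIdeal T ⊔ PrimeSpectrum.vanishingIdeal Z = ⊤ := by
    rw [← PrimeSpectrum.zeroLocus_empty_iff_eq_top, PrimeSpectrum.zeroLocus_sup,
      PrimeSpectrum.zeroLocus_vanishingIdeal_eq_closure,
      PrimeSpectrum.zeroLocus_vanishingIdeal_eq_closure, hT.closure_eq, hclZ.closure_eq, hTZ]
  obtain ⟨a, ha, b, hb, hab⟩ := Submodule.mem_sup.mp
    (hsup ▸ Submodule.mem_top : (1 : A) ∈ PrimeSpectrum.vanishingIdeal T ⊔ PrimeSpectrum.vanishingIdeal Z)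
  have haT : ∀ p ∈ T, a ∈ p.asIdeal := fun p hp => (PrimeSpectrum.mem_vanishingIdeal _ _).mp ha p hp
  have hbZ : ∀ p ∈ Z, b ∈ p.asIdeal := fun p hp => (PrimeSpectrum.mem_vanishingIdeal _ _).mp hb p hp
  let φ : A →+* Γ(V, ⊤) := (j.appTop).hom.comp (Scheme.ΓSpecIso (CommRingCat.of A)).inv.hom
  have hbo : ∀ r : A, V.basicOpen (φ r) = j ⁻¹ᵁ PrimeSpectrum.basicOpen r := by
    intro r
    have h1 := Scheme.preimage_basicOpen_top j ((Scheme.ΓSpecIso (CommRingCat.of A)).inv r)
    rw [basicOpen_eq_of_affine] at h1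
    exact h1.symm
  have hcs : CompactSpace V := HasAffineProperty.iff_of_isAffine.mp ‹QuasiCompact j›
  have hqs : QuasiSeparatedSpace V := by
    have : QuasiSeparated j := inferInstance
    exact HasAffineProperty.iff_of_isAffine.mp this
  -- affine pieces
  have haf : IsAffineOpen (V.basicOpen (φ f)) := by rw [hbo]; exact haff
  have haa : IsAffineOpen (V.basicOpen (φ a)) := by
    rw [hbo]
    let U : (Spec (CommRingCat.of A)).Opens := PrimeSpectrum.basicOpen a
    have hUaff : IsAffineOpen U := IsAffineOpen.Spec_basicOpen (R := CommRingCat.of A) a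
    have : IsAffine U.toScheme := hUaff
    have hclr : IsClosed (Set.range ⇑(j ∣_ U)) := by
      have : Set.range ⇑(j ∣_ U) = (Subtype.val ⁻¹' closure R : Set U) := by
        ext p
        constructor
        · rintro ⟨x, rfl⟩
          show ((j ∣_ U) x).1 ∈ closure R
          rw [morphismRestrict_base_coe]
          exact subset_closure ⟨x.1, rfl⟩
        · intro h
          have hpR : p.1 ∈ R := by
            by_contra hn
            exact p.2 (haT p.1 ⟨h, hn⟩)
          obtain ⟨x, hx⟩ := hpR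
          refine ⟨⟨x, ?_⟩, ?_⟩
          · show j x ∈ U
            rw [hx]; exact p.2
          · apply Subtype.ext
            rw [morphismRestrict_base_coe]; exact hx
      rw [this]
      exact isClosed_closure.preimage continuous_subtype_val
    have : IsClosedImmersion (j ∣_ U) := IsClosedImmersion.of_isPreimmersion _ hclr
    exact isAffine_of_isAffineHom (j ∣_ U)
  have hle : V.basicOpen (φ b) ≤ V.basicOpen (φ f) := by
    rw [hbo, hbo]
    intro x hx
    by_contra hn
    refine hx (hbZ (j x) ⟨⟨x, rfl⟩, ?_⟩)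
    rw [PrimeSpectrum.mem_zeroLocus, Set.singleton_subset_iff]
    by_contra h2
    exact hn h2
  have hpow : ∃ N : ℕ, (φ b) ^ N ∈ Ideal.span ({φ a, φ f} : Set Γ(V, ⊤)) := by
    have hu : IsUnit (V.presheaf.map (homOfLE (le_top : V.basicOpen (φ b) ≤ ⊤)).op (φ f)) := by
      have h1 : IsUnit (V.presheaf.map (homOfLE (V.basicOpen_le (φ f))).op (φ f)) :=
        RingedSpace.isUnit_res_basicOpen V.toRingedSpace (φ f)
      have h2 := h1.map (V.presheaf.map (homOfLE hle).op).hom
      rw [← CommRingCat.comp_apply, ← Functor.map_comp] at h2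
      exact h2
    obtain ⟨x, hx⟩ := hu.exists_right_inv
    obtain ⟨n, y, hy⟩ := exists_eq_pow_mul_of_isCompact_of_isQuasiSeparated V ⊤
      isCompact_univ isQuasiSeparated_univ (φ b) x
    have H : (φ f * y - (φ b) ^ n) |_ V.basicOpen (φ b) = 0 := by
      simp only [TopCat.Presheaf.restrictOpenCommRingCat_apply] at hy ⊢
      rw [map_sub, map_mul, hy, map_pow]
      linear_combination ((V.presheaf.map (homOfLE (le_top : V.basicOpen (φ b) ≤ ⊤)).op (φ b)) ^ n) * hx
    obtain ⟨m, hm⟩ := exists_pow_mul_eq_zero_of_res_basicOpen_eq_zero_of_isCompact V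
      (U := ⊤) isCompact_univ _ (φ b) H
    refine ⟨m + n, ?_⟩
    have h3 : (φ b) ^ (m + n) = ((φ b) ^ m * y) * φ f := by
      rw [pow_add]
      linear_combination (-1 : Γ(V, ⊤)) * hm
    rw [h3]
    exact Ideal.mul_mem_left _ _ (Ideal.subset_span (by simp))
  obtain ⟨N, hN⟩ := hpow
  have hspan : Ideal.span ({φ a, φ f} : Set Γ(V, ⊤)) = ⊤ := by
    rw [Ideal.eq_top_iff_one]
    have h1 : (φ a) ^ 1 ∈ Ideal.span ({φ a, φ f} : Set Γ(V, ⊤)) := by
      rw [pow_one]; exact Ideal.subset_span (by simp)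
    have h2 := Ideal.add_pow_mem_of_pow_mem_of_le _ h1 hN (le_of_eq (add_comm 1 N))
    rwa [← map_add, hab, map_one, one_pow] at h2
  refine isAffine_of_isAffineOpen_basicOpen _ hspan ?_
  rintro i (rfl | rfl)
  · exact haa
  · exact haf

end Groth.Agent.S1890
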