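import Groth.Statements.S1891
import Groth.Agent.S1889
import Mathlib

set_option autoImplicit false
universe u
open CategoryTheory CategoryTheory.Limits AlgebraicGeometry
open Grpd

namespace Groth.Agent.S1891

set_option linter.style.haveILetI false
open Limits

section Cmp
variable {S : Scheme.{u}} (G : Grpd.GroupoidScheme S)

/-- composition of `T`-points -/
noncomputable def cmp {T : Scheme.{u}} (α β : T ⟶ G.R) (h : α ≫ G.s = β ≫ G.t) : T ⟶ G.R :=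
  pullback.lift α β h ≫ G.c

lemma cmp_congr {T : Scheme.{u}} {α α' β β' : T ⟶ G.R} (h : α ≫ G.s = β ≫ G.t) (hα : α = α')
    (hβ : β = β') (h' : α' ≫ G.s = β' ≫ G.t) : cmp G α β h = cmp G α' β' h' := by
  subst hα hβ; rfl

lemma pre_cmp {T T' : Scheme.{u}} (g : T' ⟶ T) (α β : T ⟶ G.R) (h : α ≫ G.s = β ≫ G.t)
    (h' : (g ≫ α) ≫ G.s = (g ≫ β) ≫ G.t) :
    g ≫ cmp G α β h = cmp G (g ≫ α) (g ≫ β) h' := by
  unfold cmp
  rw [← Category.assoc]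
  congr 1
  apply pullback.hom_ext
  · rw [Category.assoc, pullback.lift_fst, pullback.lift_fst]
  · rw [Category.assoc, pullback.lift_snd, pullback.lift_snd]

lemma cancelA {T : Scheme.{u}} (α β : T ⟶ G.R) (h : α ≫ G.s = β ≫ G.t)
    (h1 : (α ≫ G.i) ≫ G.s = cmp G α β h ≫ G.t) : cmp G (α ≫ G.i) (cmp G α β h) h1 = β := by
  have e1 : (α ≫ G.i) ≫ G.s = α ≫ G.t := by rw [Category.assoc, G.i_s]
  refine (G.assoc (α ≫ G.i) α β e1 h).symm.trans ?_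
  have e2 : pullback.lift (α ≫ G.i) α e1 ≫ G.c = β ≫ G.t ≫ G.e := by
    rw [G.i_comp α, ← Category.assoc, h, Category.assoc]
  have e3 : (β ≫ G.t ≫ G.e) ≫ G.s = β ≫ G.t := by
    rw [Category.assoc, Category.assoc, G.e_s, Category.comp_id]
  exact (cmp_congr G _ e2 rfl e3).trans (G.e_comp β)

lemma cancelB {T : Scheme.{u}} (α β : T ⟶ G.R) (h : α ≫ G.t = β ≫ G.t)
    (h0 : (α ≫ G.i) ≫ G.s = β ≫ G.t)
    (h1 : α ≫ G.s = cmp G (α ≫ G.i) β h0 ≫ G.t) : cmp G α (cmp G (α ≫ G.i) β h0) h1 = β := by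
  have e1 : α ≫ G.s = (α ≫ G.i) ≫ G.t := by rw [Category.assoc, G.i_t]
  refine (G.assoc α (α ≫ G.i) β e1 h0).symm.trans ?_
  have e2 : pullback.lift α (α ≫ G.i) e1 ≫ G.c = β ≫ G.t ≫ G.e := by
    rw [G.comp_i α, ← Category.assoc, h, Category.assoc]
  have e3 : (β ≫ G.t ≫ G.e) ≫ G.s = β ≫ G.t := by
    rw [Category.assoc, Category.assoc, G.e_s, Category.comp_id]
  exact (cmp_congr G _ e2 rfl e3).trans (G.e_comp β)


lemma cancelR {T : Scheme.{u}} (α β : T ⟶ G.R) (h : α ≫ G.s = β ≫ G.t)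
    (h1 : cmp G α β h ≫ G.s = (β ≫ G.i) ≫ G.t) : cmp G (cmp G α β h) (β ≫ G.i) h1 = α := by
  have e1 : β ≫ G.s = (β ≫ G.i) ≫ G.t := by rw [Category.assoc, G.i_t]
  refine (G.assoc α β (β ≫ G.i) h e1).trans ?_
  have e2 : pullback.lift β (β ≫ G.i) e1 ≫ G.c = α ≫ G.s ≫ G.e := by
    rw [G.comp_i β, ← Category.assoc, ← h, Category.assoc]
  have e3 : α ≫ G.s = (α ≫ G.s ≫ G.e) ≫ G.t := by
    simp only [Category.assoc, G.e_t, Category.comp_id]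
  exact (cmp_congr G _ rfl e2 e3).trans (G.comp_e α)

lemma cancelR' {T : Scheme.{u}} (α β : T ⟶ G.R) (h : α ≫ G.s = β ≫ G.s)
    (h0 : α ≫ G.s = (β ≫ G.i) ≫ G.t)
    (h1 : cmp G α (β ≫ G.i) h0 ≫ G.s = β ≫ G.t) : cmp G (cmp G α (β ≫ G.i) h0) β h1 = α := by
  have e1 : (β ≫ G.i) ≫ G.s = β ≫ G.t := by rw [Category.assoc, G.i_s]
  refine (G.assoc α (β ≫ G.i) β h0 e1).trans ?_
  have e2 : pullback.lift (β ≫ G.i) β e1 ≫ G.c = α ≫ G.s ≫ G.e := by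
    rw [G.i_comp β, ← Category.assoc, ← h, Category.assoc]
  have e3 : α ≫ G.s = (α ≫ G.s ≫ G.e) ≫ G.t := by
    simp only [Category.assoc, G.e_t, Category.comp_id]
  exact (cmp_congr G _ rfl e2 e3).trans (G.comp_e α)

lemma cmp_inj_right {T : Scheme.{u}} (x y w : T ⟶ G.R) (hx : x ≫ G.s = w ≫ G.t)
    (hy : y ≫ G.s = w ≫ G.t) (heq : cmp G x w hx = cmp G y w hy) : x = y := by
  have h1 : cmp G x w hx ≫ G.s = (w ≫ G.i) ≫ G.t := by
    rw [cmp, G.comp_s, Category.assoc, G.i_t]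
  have h2 : cmp G y w hy ≫ G.s = (w ≫ G.i) ≫ G.t := by
    rw [cmp, G.comp_s, Category.assoc, G.i_t]
  calc x = cmp G (cmp G x w hx) (w ≫ G.i) h1 := (cancelR G x w hx h1).symm
    _ = cmp G (cmp G y w hy) (w ≫ G.i) h2 := cmp_congr G _ heq rfl _
    _ = y := cancelR G y w hy h2

lemma idem {T : Scheme.{u}} (x : T ⟶ G.R) (h : x ≫ G.s = x ≫ G.t) (hx : cmp G x x h = x) :
    x = x ≫ G.s ≫ G.e := by
  have h1 : (x ≫ G.i) ≫ G.s = cmp G x x h ≫ G.t := by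
    rw [cmp, G.comp_t, Category.assoc, G.i_s]
  have e1 : (x ≫ G.i) ≫ G.s = x ≫ G.t := by rw [Category.assoc, G.i_s]
  calc x = cmp G (x ≫ G.i) (cmp G x x h) h1 := (cancelA G x x h h1).symm
    _ = cmp G (x ≫ G.i) x e1 := cmp_congr G _ rfl hx _
    _ = x ≫ G.s ≫ G.e := G.i_comp x

end Cmp

section Hom
variable {S : Scheme.{u}} {G₁ G₂ : Grpd.GroupoidScheme S}

lemma hom_e (a : GroupoidScheme.Hom G₁ G₂) : G₁.e ≫ a.fR = a.fU ≫ G₂.e := by
  set x := G₁.e ≫ a.fR with hx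
  have hxs : x ≫ G₂.s = a.fU := by
    rw [hx, Category.assoc, a.comm_s, ← Category.assoc, G₁.e_s, Category.id_comp]
  have hxt : x ≫ G₂.t = a.fU := by
    rw [hx, Category.assoc, a.comm_t, ← Category.assoc, G₁.e_t, Category.id_comp]
  have h : x ≫ G₂.s = x ≫ G₂.t := hxs.trans hxt.symm
  have h1 : G₁.e ≫ G₁.s = G₁.e ≫ G₁.t := by rw [G₁.e_s, G₁.e_t]
  have hee : cmp G₁ G₁.e G₁.e h1 = G₁.e := by
    have e2 : G₁.e = G₁.e ≫ G₁.s ≫ G₁.e := by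
      rw [← Category.assoc, G₁.e_s, Category.id_comp]
    exact (cmp_congr G₁ _ rfl e2
      (by simp only [Category.assoc, G₁.e_t, Category.comp_id])).trans (G₁.comp_e G₁.e)
  have hxx : cmp G₂ x x h = x := by
    have h3 := a.comm_c G₁.e G₁.e h1
    refine h3.symm.trans ?_
    show cmp G₁ G₁.e G₁.e h1 ≫ a.fR = x
    rw [hee]
  exact (idem G₂ x h hxx).trans (by rw [← Category.assoc, hxs])

end Hom

section Main
variable {S : Scheme.{u}} {G₁ G₂ : Grpd.GroupoidScheme S}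

theorem result' (k : Type u) [Field k] (eU : G₂.U ≅ Spec (CommRingCat.of k))
    (a : Grpd.GroupoidScheme.Hom G₁ G₂) [IsIso a.fU] (hopen : IsOpen (Set.range ⇑a.fR)) :
    IsClosed (Set.range ⇑a.fR) := by
  rw [← closure_subset_iff_isClosed]
  intro r₂ hr₂
  set W : G₂.R.Opens := ⟨Set.range ⇑a.fR, hopen⟩ with hW
  set z := G₂.R.fromSpecResidueField r₂ with hz
  have hcond : (pullback.fst (z ≫ G₂.s) (W.ι ≫ G₂.t) ≫ z) ≫ G₂.s =
      (pullback.snd (z ≫ G₂.s) (W.ι ≫ G₂.t) ≫ W.ι) ≫ G₂.t :=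
    (Category.assoc _ _ _).trans (pullback.condition.trans (Category.assoc _ _ _).symm)
  set m : pullback (z ≫ G₂.s) (W.ι ≫ G₂.t) ⟶ G₂.R :=
    cmp G₂ (pullback.fst _ _ ≫ z) (pullback.snd _ _ ≫ W.ι) hcond with hm
  have hO : IsOpen (Set.range ⇑m) := Groth.Agent.S1889.result S G₂ k eU W _ z
  have hεrange : Set.range ⇑(z ≫ G₂.s ≫ G₂.e) ⊆ Set.range ⇑W.ι := by
    have h7 : z ≫ G₂.s ≫ G₂.e = (z ≫ G₂.s ≫ inv a.fU ≫ G₁.e) ≫ a.fR := by
      simp only [Category.assoc]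
      rw [hom_e a, IsIso.inv_hom_id_assoc]
    rw [h7, Scheme.Opens.range_ι]
    rintro _ ⟨t, rfl⟩
    exact ⟨(z ≫ G₂.s ≫ inv a.fU ≫ G₁.e) t, (Scheme.Hom.comp_apply _ _ _).symm⟩
  set ε : Spec (G₂.R.residueField r₂) ⟶ W :=
    IsOpenImmersion.lift W.ι (z ≫ G₂.s ≫ G₂.e) hεrange with hε
  have hει : ε ≫ W.ι = z ≫ G₂.s ≫ G₂.e := IsOpenImmersion.lift_fac _ _ _
  have hp₀c : 𝟙 _ ≫ (z ≫ G₂.s) = ε ≫ (W.ι ≫ G₂.t) := by
    rw [Category.id_comp, ← Category.assoc ε, hει]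
    simp only [Category.assoc, G₂.e_t, Category.comp_id]
  set p₀ : Spec (G₂.R.residueField r₂) ⟶ pullback (z ≫ G₂.s) (W.ι ≫ G₂.t) :=
    pullback.lift (𝟙 _) ε hp₀c with hp₀
  have hp₀m : p₀ ≫ m = z := by
    rw [hm, pre_cmp G₂ p₀ _ _ hcond
      (by have := hcond; simp only [Category.assoc] at this ⊢; rw [this])]
    have e1 : p₀ ≫ pullback.fst (z ≫ G₂.s) (W.ι ≫ G₂.t) ≫ z = z := by
      rw [← Category.assoc, hp₀, pullback.lift_fst, Category.id_comp]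
    have e2 : p₀ ≫ pullback.snd (z ≫ G₂.s) (W.ι ≫ G₂.t) ≫ W.ι = z ≫ G₂.s ≫ G₂.e := by
      rw [← Category.assoc, hp₀, pullback.lift_snd, hει]
    refine (cmp_congr G₂ _ e1 e2 ?_).trans (G₂.comp_e z)
    simp only [Category.assoc, G₂.e_t, Category.comp_id]
  let t₀ : Spec (G₂.R.residueField r₂) := IsLocalRing.closedPoint _
  have hr₂O : r₂ ∈ Set.range ⇑m :=
    ⟨p₀ t₀, by rw [← Scheme.Hom.comp_apply, hp₀m, hz, Scheme.fromSpecResidueField_apply]⟩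
  obtain ⟨y₀, hyO, hyI⟩ := mem_closure_iff.1 hr₂ _ hO hr₂O
  obtain ⟨p, rfl⟩ := hyO
  obtain ⟨q, hq⟩ := hyI
  obtain ⟨v, hv1, hv2⟩ := Scheme.Pullback.exists_preimage_pullback (f := m) (g := a.fR) p q hq.symm
  set tv := (pullback m a.fR).fromSpecResidueField v with htv
  set P := tv ≫ pullback.fst m a.fR with hP
  set Q := tv ≫ pullback.snd m a.fR with hQ
  have hPQ : P ≫ m = Q ≫ a.fR := by
    rw [hP, hQ, Category.assoc, Category.assoc, pullback.condition]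
  set zt := P ≫ pullback.fst (z ≫ G₂.s) (W.ι ≫ G₂.t) ≫ z with hzt
  set wt := P ≫ pullback.snd (z ≫ G₂.s) (W.ι ≫ G₂.t) ≫ W.ι with hwt
  have hzw : zt ≫ G₂.s = wt ≫ G₂.t := by
    have := hcond; simp only [hzt, hwt, Category.assoc] at this ⊢; rw [this]
  have hPm : P ≫ m = cmp G₂ zt wt hzw := pre_cmp G₂ P _ _ hcond hzw
  let t₁ : Spec ((pullback m a.fR).residueField v) := IsLocalRing.closedPoint _
  have hwtI : wt t₁ ∈ Set.range ⇑a.fR := by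
    have h6 : wt = (P ≫ pullback.snd (z ≫ G₂.s) (W.ι ≫ G₂.t)) ≫ W.ι :=
      (Category.assoc P _ _).symm
    rw [h6, Scheme.Hom.comp_apply]
    exact ((P ≫ pullback.snd (z ≫ G₂.s) (W.ι ≫ G₂.t)) t₁).2
  obtain ⟨q₂, hq₂⟩ := hwtI
  obtain ⟨v', hv'1, hv'2⟩ :=
    Scheme.Pullback.exists_preimage_pullback (f := wt) (g := a.fR) t₁ q₂ hq₂.symm
  set tv' := (pullback wt a.fR).fromSpecResidueField v' with htv'
  set π := tv' ≫ pullback.fst wt a.fR with hπ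
  set Q₂ := tv' ≫ pullback.snd wt a.fR with hQ₂
  have hπw : π ≫ wt = Q₂ ≫ a.fR := by
    rw [hπ, hQ₂, Category.assoc, Category.assoc, pullback.condition]
  set z' := π ≫ zt with hz'
  set w' := π ≫ wt with hw'
  set Q' := π ≫ Q with hQ'
  have hz'w' : z' ≫ G₂.s = w' ≫ G₂.t :=
    (Category.assoc π zt G₂.s).trans
      ((congrArg (π ≫ ·) hzw).trans (Category.assoc π wt G₂.t).symm)
  have hQ'eq : cmp G₂ z' w' hz'w' = Q' ≫ a.fR := by
    refine (pre_cmp G₂ π zt wt hzw hz'w').symm.trans ?_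
    rw [← hPm, hPQ]
    exact (Category.assoc π Q a.fR).symm
  have hs1 : Q' ≫ G₁.s = Q₂ ≫ G₁.s := by
    have h8 : (Q' ≫ a.fR) ≫ G₂.s = (Q₂ ≫ a.fR) ≫ G₂.s := by
      rw [← hQ'eq, cmp, G₂.comp_s, ← hπw]
    have h9 : ∀ {T : Scheme.{u}} (x : T ⟶ G₁.R), (x ≫ a.fR) ≫ G₂.s = (x ≫ G₁.s) ≫ a.fU :=
      fun x => by rw [Category.assoc, a.comm_s, Category.assoc]
    rw [h9, h9] at h8
    exact (cancel_mono a.fU).1 h8
  have h0 : Q' ≫ G₁.s = (Q₂ ≫ G₁.i) ≫ G₁.t :=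
    hs1.trans ((Category.assoc Q₂ G₁.i G₁.t).trans (by rw [G₁.i_t])).symm
  set y := cmp G₁ Q' (Q₂ ≫ G₁.i) h0 with hy
  have hy1 : y ≫ G₁.s = Q₂ ≫ G₁.t := by rw [hy, cmp, G₁.comp_s, Category.assoc, G₁.i_s]
  have hyQ : cmp G₁ y Q₂ hy1 = Q' := cancelR' G₁ Q' Q₂ hs1 h0 hy1
  have hyw : (y ≫ a.fR) ≫ G₂.s = w' ≫ G₂.t := by
    rw [Category.assoc, a.comm_s, ← Category.assoc, hy1, Category.assoc, ← a.comm_t,
      ← Category.assoc, ← hπw]
  have hclaim : y ≫ a.fR = z' := by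
    apply cmp_inj_right G₂ (y ≫ a.fR) z' w' hyw hz'w'
    have h5 : cmp G₂ (y ≫ a.fR) w' hyw = cmp G₁ y Q₂ hy1 ≫ a.fR :=
      (cmp_congr G₂ _ rfl hπw _).trans (a.comm_c y Q₂ hy1).symm
    exact h5.trans ((congrArg (· ≫ a.fR) hyQ).trans hQ'eq.symm)
  let t₂ : Spec ((pullback wt a.fR).residueField v') := IsLocalRing.closedPoint _
  refine ⟨y t₂, ?_⟩
  rw [← Scheme.Hom.comp_apply, hclaim, hz', hzt]
  simp only [Scheme.Hom.comp_apply, hz, Scheme.fromSpecResidueField_apply]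

end Main

/-- Let (U, R₁, s₁, t₁, c₁) and (U, R₂, s₂, t₂, c₂) be groupoid schemes over S on the same U = Spec k, k
a field, and a : R₁ → R₂ a morphism of groupoid schemes over the identity of U (here: over an
isomorphism on objects). If a(R₁) is open in R₂ then it is closed. (A groupoid scheme carries U, R,
s, t, c, e, i over S with the groupoid axioms on T-points; 'finite locally free' is finite, flat and
locally of finite presentation; C ⊂ Γ(U) is the ring of functions a with s♯(a) = t♯(a) and M = Spec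
C.) -/
theorem result (S : Scheme.{u}) (G₁ G₂ : Grpd.GroupoidScheme S) (k : Type u) [Field k] (eU : G₂.U ≅ Spec (CommRingCat.of k)) (a : Grpd.GroupoidScheme.Hom G₁ G₂) [IsIso a.fU] (hopen : IsOpen (Set.range ⇑a.fR)) : IsClosed (Set.range ⇑a.fR) := by
  exact result' k eU a hopen

end Groth.Agent.S1891
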