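import Groth.Statements.S18912
import Groth.Agent.Lib.helper8.RootUnityA

set_option autoImplicit false
universe u
open CategoryTheory CategoryTheory.Limits AlgebraicGeometry
open TFNodal

namespace Groth.Agent.S18912

/-- Let k be an algebraically closed field of characteristic zero, X a reduced scheme locally of finite
type over k, F an O_X-module, d ≥ 1 an integer and τ, τ' : F → O_X two O_X-linear maps whose d-th
symmetric powers agree, in the sense that for every open U and all sections a_1, …, a_d of F over U
the products τ(a_1)⋯τ(a_d) and τ'(a_1)⋯τ'(a_d) coincide in Γ(U, O_X). Then for every point η of X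
whose local ring is a field (a generic point of an irreducible component) there is a d-th root of
unity ξ in k such that, for every section a of F over an open containing η, the germ of τ'(a) at η
is ξ times the germ of τ(a). The published statement is for a coherent module on a projective nodal
curve and concludes that τ' = ξ τ with one root of unity ξ on each connected component; that form
fails for the union of two lines meeting at a node, F the ideal of the node, τ the inclusion and τ'
equal to τ on one line and to −τ on the other (d = 2), so the conclusion is stated here at each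
generic point, i.e. per irreducible component, which is what the stalkwise argument yields. -/
theorem result
    (k : Type u) [Field k] [IsAlgClosed k] [CharZero k]
    (X : Scheme.{u}) [X.Over (Spec (CommRingCat.of k))]
    [LocallyOfFiniteType (X ↘ Spec (CommRingCat.of k))] [AlgebraicGeometry.IsReduced X]
    (F : X.Modules) (τ τ' : F ⟶ Coh.structureModule X) (d : ℕ) (hd : 1 ≤ d)
    (hS : ∀ (U : X.Opens) (a : Fin d → Γ(F, U)),
      (∏ i, (τ.app U (a i) : Γ(X, U)) : Γ(X, U)) = (∏ i, (τ'.app U (a i) : Γ(X, U)) : Γ(X, U)))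
    (η : X) (hη : IsField (X.presheaf.stalk η)) :
    ∃ ξ : k, ξ ^ d = 1 ∧ ∀ (U : X.Opens) (hU : η ∈ U) (a : Γ(F, U)),
      (X.presheaf.germ U η hU (τ'.app U a : Γ(X, U)) : X.presheaf.stalk η) =
        Curv2.stalkMap k X η ξ * X.presheaf.germ U η hU (τ.app U a : Γ(X, U)) := by
  classical
  haveI hdom : IsDomain (X.presheaf.stalk η) := hη.isDomain
  obtain ⟨e, rfl⟩ : ∃ e, d = e + 1 := ⟨d - 1, by omega⟩
  by_cases hall : ∀ (U : X.Opens) (hU : η ∈ U) (a : Γ(F, U)),
      (X.presheaf.germ U η hU (τ.app U a : Γ(X, U)) : X.presheaf.stalk η) = 0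
  · refine ⟨1, one_pow _, fun U hU a => ?_⟩
    rw [hall U hU a, mul_zero]
    have h1 := hS U (fun _ => a)
    simp only [Finset.prod_const, Finset.card_univ, Fintype.card_fin] at h1
    have h2 := congrArg (fun z => (X.presheaf.germ U η hU z : X.presheaf.stalk η)) h1
    simp only [map_pow] at h2
    rw [hall U hU a, zero_pow (by omega)] at h2
    exact (pow_eq_zero_iff (by omega)).mp h2.symm
  · push_neg at hall
    obtain ⟨U0, hU0, a0, ha0⟩ := hall
    have hrel : ∀ (U : X.Opens) (hU : η ∈ U) (a : Γ(F, U)),
        (X.presheaf.germ U η hU (τ.app U a : Γ(X, U)) : X.presheaf.stalk η) *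
          (X.presheaf.germ U0 η hU0 (τ.app U0 a0 : Γ(X, U0)) : X.presheaf.stalk η) ^ e =
        (X.presheaf.germ U η hU (τ'.app U a : Γ(X, U)) : X.presheaf.stalk η) *
          (X.presheaf.germ U0 η hU0 (τ'.app U0 a0 : Γ(X, U0)) : X.presheaf.stalk η) ^ e := by
      intro U hU a
      have hW : η ∈ U ⊓ U0 := ⟨hU, hU0⟩
      have h1 := hS (U ⊓ U0) (Fin.cons (F.presheaf.map (homOfLE inf_le_left).op a)
        (fun _ => F.presheaf.map (homOfLE inf_le_right).op a0))
      rw [Fin.prod_univ_succ, Fin.prod_univ_succ] at h1
      simp only [Fin.cons_zero, Fin.cons_succ, Finset.prod_const, Finset.card_univ,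
        Fintype.card_fin] at h1
      have h2 := congrArg (fun z => (X.presheaf.germ (U ⊓ U0) η hW z : X.presheaf.stalk η)) h1
      simp only [map_mul, map_pow] at h2
      rw [Groth.Agent.Lib.helper8.RootUnity.germ_app_res τ inf_le_left η hW a,
        Groth.Agent.Lib.helper8.RootUnity.germ_app_res τ inf_le_right η hW a0,
        Groth.Agent.Lib.helper8.RootUnity.germ_app_res τ' inf_le_left η hW a,
        Groth.Agent.Lib.helper8.RootUnity.germ_app_res τ' inf_le_right η hW a0] at h2
      exact h2
    obtain ⟨b, hb⟩ := hη.mul_inv_cancel ha0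
    have hζ : ((X.presheaf.germ U0 η hU0 (τ'.app U0 a0 : Γ(X, U0)) : X.presheaf.stalk η) * b) ^ (e + 1)
        = 1 := by
      have h0 := hrel U0 hU0 a0
      rw [← pow_succ', ← pow_succ'] at h0
      rw [mul_pow, ← h0, ← mul_pow, hb, one_pow]
    obtain ⟨ξ, hξ1, hξ2⟩ := Groth.Agent.Lib.helper8.RootUnity.exists_root (Curv2.stalkMap k X η)
      (e + 1) (by omega) _ hζ
    refine ⟨ξ, hξ1, fun U hU a => ?_⟩
    rw [hξ2]
    have h3 := hrel U hU a
    have h4 : (X.presheaf.germ U η hU (τ.app U a : Γ(X, U)) : X.presheaf.stalk η) =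
        (X.presheaf.germ U η hU (τ'.app U a : Γ(X, U)) : X.presheaf.stalk η) *
          ((X.presheaf.germ U0 η hU0 (τ'.app U0 a0 : Γ(X, U0)) : X.presheaf.stalk η) * b) ^ e := by
      have := congrArg (fun z => z * b ^ e) h3
      simp only [mul_assoc, ← mul_pow, hb, one_pow, mul_one] at this
      exact this
    calc (X.presheaf.germ U η hU (τ'.app U a : Γ(X, U)) : X.presheaf.stalk η)
        = (X.presheaf.germ U η hU (τ'.app U a : Γ(X, U)) : X.presheaf.stalk η) *
          ((X.presheaf.germ U0 η hU0 (τ'.app U0 a0 : Γ(X, U0)) : X.presheaf.stalk η) * b) ^ (e + 1) := by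
          rw [hζ, mul_one]
      _ = _ := by
          rw [pow_succ, ← mul_assoc, ← h4, mul_comm]

end Groth.Agent.S18912
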