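import Groth.Statements.S1892
import Groth.Agent.S1889
import Mathlib

set_option autoImplicit false
universe u
open CategoryTheory CategoryTheory.Limits AlgebraicGeometry
open Grpd

namespace Groth.Agent.S1892

set_option linter.style.haveILetI false
open Limits

section Cmp
variable {S : Scheme.{u}} (G : Grpd.GroupoidScheme S)

/-- composition of `T`-points -/
noncomputable def cmp {T : Scheme.{u}} (α β : T ⟶ G.R) (h : α ≫ G.s = β ≫ G.t) : T ⟶ G.R :=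
  pullback.lift α β h ≫ G.c

lemma cmp_congr {T : Scheme.{u}} {α α' β β' : T ⟶ G.R} (h : α ≫ G.s = β ≫ G.t) (hα : α = α')
    (hβ : β = β') (h' : α' ≫ G.s = β' ≫ G.t) : cmp G α β h = cmp G α' β' h' := by
  subst hα hβ; rfl

lemma pre_cmp {T T' : Scheme.{u}} (g : T' ⟶ T) (α β : T ⟶ G.R) (h : α ≫ G.s = β ≫ G.t)
    (h' : (g ≫ α) ≫ G.s = (g ≫ β) ≫ G.t) :
    g ≫ cmp G α β h = cmp G (g ≫ α) (g ≫ β) h' := by
  unfold cmp
  rw [← Category.assoc]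
  congr 1
  apply pullback.hom_ext
  · rw [Category.assoc, pullback.lift_fst, pullback.lift_fst]
  · rw [Category.assoc, pullback.lift_snd, pullback.lift_snd]

lemma cancelA {T : Scheme.{u}} (α β : T ⟶ G.R) (h : α ≫ G.s = β ≫ G.t)
    (h1 : (α ≫ G.i) ≫ G.s = cmp G α β h ≫ G.t) : cmp G (α ≫ G.i) (cmp G α β h) h1 = β := by
  have e1 : (α ≫ G.i) ≫ G.s = α ≫ G.t := by rw [Category.assoc, G.i_s]
  refine (G.assoc (α ≫ G.i) α β e1 h).symm.trans ?_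
  have e2 : pullback.lift (α ≫ G.i) α e1 ≫ G.c = β ≫ G.t ≫ G.e := by
    rw [G.i_comp α, ← Category.assoc, h, Category.assoc]
  have e3 : (β ≫ G.t ≫ G.e) ≫ G.s = β ≫ G.t := by
    rw [Category.assoc, Category.assoc, G.e_s, Category.comp_id]
  exact (cmp_congr G _ e2 rfl e3).trans (G.e_comp β)

lemma cancelB {T : Scheme.{u}} (α β : T ⟶ G.R) (h : α ≫ G.t = β ≫ G.t)
    (h0 : (α ≫ G.i) ≫ G.s = β ≫ G.t)
    (h1 : α ≫ G.s = cmp G (α ≫ G.i) β h0 ≫ G.t) : cmp G α (cmp G (α ≫ G.i) β h0) h1 = β := by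
  have e1 : α ≫ G.s = (α ≫ G.i) ≫ G.t := by rw [Category.assoc, G.i_t]
  refine (G.assoc α (α ≫ G.i) β e1 h0).symm.trans ?_
  have e2 : pullback.lift α (α ≫ G.i) e1 ≫ G.c = β ≫ G.t ≫ G.e := by
    rw [G.comp_i α, ← Category.assoc, h, Category.assoc]
  have e3 : (β ≫ G.t ≫ G.e) ≫ G.s = β ≫ G.t := by
    rw [Category.assoc, Category.assoc, G.e_s, Category.comp_id]
  exact (cmp_congr G _ e2 rfl e3).trans (G.e_comp β)


lemma cancelR {T : Scheme.{u}} (α β : T ⟶ G.R) (h : α ≫ G.s = β ≫ G.t)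
    (h1 : cmp G α β h ≫ G.s = (β ≫ G.i) ≫ G.t) : cmp G (cmp G α β h) (β ≫ G.i) h1 = α := by
  have e1 : β ≫ G.s = (β ≫ G.i) ≫ G.t := by rw [Category.assoc, G.i_t]
  refine (G.assoc α β (β ≫ G.i) h e1).trans ?_
  have e2 : pullback.lift β (β ≫ G.i) e1 ≫ G.c = α ≫ G.s ≫ G.e := by
    rw [G.comp_i β, ← Category.assoc, ← h, Category.assoc]
  have e3 : α ≫ G.s = (α ≫ G.s ≫ G.e) ≫ G.t := by
    simp only [Category.assoc, G.e_t, Category.comp_id]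
  exact (cmp_congr G _ rfl e2 e3).trans (G.comp_e α)

lemma cancelR' {T : Scheme.{u}} (α β : T ⟶ G.R) (h : α ≫ G.s = β ≫ G.s)
    (h0 : α ≫ G.s = (β ≫ G.i) ≫ G.t)
    (h1 : cmp G α (β ≫ G.i) h0 ≫ G.s = β ≫ G.t) : cmp G (cmp G α (β ≫ G.i) h0) β h1 = α := by
  have e1 : (β ≫ G.i) ≫ G.s = β ≫ G.t := by rw [Category.assoc, G.i_s]
  refine (G.assoc α (β ≫ G.i) β h0 e1).trans ?_
  have e2 : pullback.lift (β ≫ G.i) β e1 ≫ G.c = α ≫ G.s ≫ G.e := by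
    rw [G.i_comp β, ← Category.assoc, ← h, Category.assoc]
  have e3 : α ≫ G.s = (α ≫ G.s ≫ G.e) ≫ G.t := by
    simp only [Category.assoc, G.e_t, Category.comp_id]
  exact (cmp_congr G _ rfl e2 e3).trans (G.comp_e α)

lemma cmp_inj_right {T : Scheme.{u}} (x y w : T ⟶ G.R) (hx : x ≫ G.s = w ≫ G.t)
    (hy : y ≫ G.s = w ≫ G.t) (heq : cmp G x w hx = cmp G y w hy) : x = y := by
  have h1 : cmp G x w hx ≫ G.s = (w ≫ G.i) ≫ G.t := by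
    rw [cmp, G.comp_s, Category.assoc, G.i_t]
  have h2 : cmp G y w hy ≫ G.s = (w ≫ G.i) ≫ G.t := by
    rw [cmp, G.comp_s, Category.assoc, G.i_t]
  calc x = cmp G (cmp G x w hx) (w ≫ G.i) h1 := (cancelR G x w hx h1).symm
    _ = cmp G (cmp G y w hy) (w ≫ G.i) h2 := cmp_congr G _ heq rfl _
    _ = y := cancelR G y w hy h2

lemma idem {T : Scheme.{u}} (x : T ⟶ G.R) (h : x ≫ G.s = x ≫ G.t) (hx : cmp G x x h = x) :
    x = x ≫ G.s ≫ G.e := by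
  have h1 : (x ≫ G.i) ≫ G.s = cmp G x x h ≫ G.t := by
    rw [cmp, G.comp_t, Category.assoc, G.i_s]
  have e1 : (x ≫ G.i) ≫ G.s = x ≫ G.t := by rw [Category.assoc, G.i_s]
  calc x = cmp G (x ≫ G.i) (cmp G x x h) h1 := (cancelA G x x h h1).symm
    _ = cmp G (x ≫ G.i) x e1 := cmp_congr G _ rfl hx _
    _ = x ≫ G.s ≫ G.e := G.i_comp x

end Cmp

section Hom
variable {S : Scheme.{u}} {G₁ G₂ : Grpd.GroupoidScheme S}

lemma hom_e (a : GroupoidScheme.Hom G₁ G₂) : G₁.e ≫ a.fR = a.fU ≫ G₂.e := by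
  set x := G₁.e ≫ a.fR with hx
  have hxs : x ≫ G₂.s = a.fU := by
    rw [hx, Category.assoc, a.comm_s, ← Category.assoc, G₁.e_s, Category.id_comp]
  have hxt : x ≫ G₂.t = a.fU := by
    rw [hx, Category.assoc, a.comm_t, ← Category.assoc, G₁.e_t, Category.id_comp]
  have h : x ≫ G₂.s = x ≫ G₂.t := hxs.trans hxt.symm
  have h1 : G₁.e ≫ G₁.s = G₁.e ≫ G₁.t := by rw [G₁.e_s, G₁.e_t]
  have hee : cmp G₁ G₁.e G₁.e h1 = G₁.e := by
    have e2 : G₁.e = G₁.e ≫ G₁.s ≫ G₁.e := by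
      rw [← Category.assoc, G₁.e_s, Category.id_comp]
    exact (cmp_congr G₁ _ rfl e2
      (by simp only [Category.assoc, G₁.e_t, Category.comp_id])).trans (G₁.comp_e G₁.e)
  have hxx : cmp G₂ x x h = x := by
    have h3 := a.comm_c G₁.e G₁.e h1
    refine h3.symm.trans ?_
    show cmp G₁ G₁.e G₁.e h1 ≫ a.fR = x
    rw [hee]
  exact (idem G₂ x h hxx).trans (by rw [← Category.assoc, hxs])

end Hom


section Hom2
variable {S : Scheme.{u}} {G₁ G₂ : Grpd.GroupoidScheme S}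

lemma hom_i (a : GroupoidScheme.Hom G₁ G₂) : a.fR ≫ G₂.i = G₁.i ≫ a.fR := by
  set x := a.fR with hx
  set y := G₁.i ≫ a.fR with hy
  have hyx : y ≫ G₂.s = x ≫ G₂.t := by
    rw [hy, Category.assoc, a.comm_s, ← Category.assoc, G₁.i_s, a.comm_t]
  have h1 : G₁.i ≫ G₁.s = 𝟙 G₁.R ≫ G₁.t := by rw [G₁.i_s, Category.id_comp]
  have hc1 : cmp G₁ G₁.i (𝟙 G₁.R) h1 = G₁.s ≫ G₁.e := by
    have h2 := G₁.i_comp (𝟙 G₁.R)
    have e1 : G₁.i = 𝟙 G₁.R ≫ G₁.i := (Category.id_comp _).symm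
    refine (cmp_congr G₁ _ e1 rfl ?_).trans (h2.trans (Category.id_comp _))
    rw [Category.id_comp, G₁.i_s, Category.id_comp]
  have hyxc : cmp G₂ y x hyx = (x ≫ G₂.s) ≫ G₂.e := by
    have h3 := a.comm_c G₁.i (𝟙 G₁.R) h1
    have e2 : 𝟙 G₁.R ≫ a.fR = x := Category.id_comp _
    refine (cmp_congr G₂ _ rfl e2.symm ?_).trans (h3.symm.trans ?_)
    · rw [Category.id_comp]; exact hyx
    · show cmp G₁ G₁.i (𝟙 G₁.R) h1 ≫ a.fR = _
      rw [hc1, Category.assoc, hom_e a, hx, a.comm_s, Category.assoc]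
  have h4 : cmp G₂ y x hyx ≫ G₂.s = (x ≫ G₂.i) ≫ G₂.t := by
    rw [cmp, G₂.comp_s, Category.assoc, G₂.i_t]
  have h5 := cancelR G₂ y x hyx h4
  have e3 : ((x ≫ G₂.i) ≫ G₂.t ≫ G₂.e) ≫ G₂.s = (x ≫ G₂.i) ≫ G₂.t := by
    simp only [Category.assoc, G₂.e_s, Category.comp_id]
  have h6 : cmp G₂ (cmp G₂ y x hyx) (x ≫ G₂.i) h4 = x ≫ G₂.i := by
    refine (cmp_congr G₂ _ ?_ rfl e3).trans (G₂.e_comp (x ≫ G₂.i))
    rw [hyxc]
    simp only [Category.assoc]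
    rw [← Category.assoc G₂.i G₂.t G₂.e, G₂.i_t]
  exact h6.symm.trans h5

end Hom2

section Main
variable {S : Scheme.{u}} {G₁ G₂ : Grpd.GroupoidScheme S}

lemma mul_mem_range (a : GroupoidScheme.Hom G₁ G₂) [IsIso a.fU]
    (hc : (pullback.fst G₂.s (a.fR ≫ G₂.t)) ≫ G₂.s =
      (pullback.snd G₂.s (a.fR ≫ G₂.t) ≫ a.fR) ≫ G₂.t)
    (ξ : ↑(pullback G₂.s (a.fR ≫ G₂.t)))
    (hξ : (pullback.fst G₂.s (a.fR ≫ G₂.t)) ξ ∈ Set.range ⇑a.fR) :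
    (cmp G₂ (pullback.fst G₂.s (a.fR ≫ G₂.t)) (pullback.snd G₂.s (a.fR ≫ G₂.t) ≫ a.fR) hc) ξ ∈
      Set.range ⇑a.fR := by
  obtain ⟨q', hq'⟩ := hξ
  obtain ⟨v, hv1, hv2⟩ := Scheme.Pullback.exists_preimage_pullback
    (f := pullback.fst G₂.s (a.fR ≫ G₂.t)) (g := a.fR) ξ q' hq'.symm
  set tv := (pullback (pullback.fst G₂.s (a.fR ≫ G₂.t)) a.fR).fromSpecResidueField v with htv
  set A := tv ≫ pullback.fst (pullback.fst G₂.s (a.fR ≫ G₂.t)) a.fR with hA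
  set B := tv ≫ pullback.snd (pullback.fst G₂.s (a.fR ≫ G₂.t)) a.fR with hB
  have hAB : A ≫ pullback.fst G₂.s (a.fR ≫ G₂.t) = B ≫ a.fR := by
    rw [hA, hB, Category.assoc, Category.assoc, pullback.condition]
  set A2 := A ≫ pullback.snd G₂.s (a.fR ≫ G₂.t) with hA2
  have h9s : ∀ {T : Scheme.{u}} (x : T ⟶ G₁.R), (x ≫ a.fR) ≫ G₂.s = (x ≫ G₁.s) ≫ a.fU :=
    fun x => by rw [Category.assoc, a.comm_s, Category.assoc]
  have h9t : ∀ {T : Scheme.{u}} (x : T ⟶ G₁.R), (x ≫ a.fR) ≫ G₂.t = (x ≫ G₁.t) ≫ a.fU :=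
    fun x => by rw [Category.assoc, a.comm_t, Category.assoc]
  have hBA : B ≫ G₁.s = A2 ≫ G₁.t := by
    have h8 : (B ≫ a.fR) ≫ G₂.s = (A2 ≫ a.fR) ≫ G₂.t := by
      rw [← hAB]
      have h10 := congrArg (A ≫ ·) (pullback.condition (f := G₂.s) (g := a.fR ≫ G₂.t))
      calc (A ≫ pullback.fst G₂.s (a.fR ≫ G₂.t)) ≫ G₂.s
          = A ≫ pullback.fst G₂.s (a.fR ≫ G₂.t) ≫ G₂.s := Category.assoc _ _ _
        _ = A ≫ pullback.snd G₂.s (a.fR ≫ G₂.t) ≫ a.fR ≫ G₂.t := h10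
        _ = (A2 ≫ a.fR) ≫ G₂.t := by rw [hA2]; simp only [Category.assoc]
    rw [h9s, h9t] at h8
    exact (cancel_mono a.fU).1 h8
  have hside : (A ≫ pullback.fst G₂.s (a.fR ≫ G₂.t)) ≫ G₂.s =
      (A ≫ pullback.snd G₂.s (a.fR ≫ G₂.t) ≫ a.fR) ≫ G₂.t := by
    have := congrArg (A ≫ ·) hc
    simpa only [Category.assoc] using this
  have hAμ : A ≫ cmp G₂ (pullback.fst G₂.s (a.fR ≫ G₂.t))
      (pullback.snd G₂.s (a.fR ≫ G₂.t) ≫ a.fR) hc = cmp G₁ B A2 hBA ≫ a.fR := by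
    refine (pre_cmp G₂ A _ _ hc hside).trans ?_
    have e2 : A ≫ pullback.snd G₂.s (a.fR ≫ G₂.t) ≫ a.fR = A2 ≫ a.fR :=
      (Category.assoc _ _ _).symm
    exact (cmp_congr G₂ _ hAB e2 _).trans (a.comm_c B A2 hBA).symm
  let t₁ : Spec ((pullback (pullback.fst G₂.s (a.fR ≫ G₂.t)) a.fR).residueField v) :=
    IsLocalRing.closedPoint _
  refine ⟨(cmp G₁ B A2 hBA) t₁, ?_⟩
  rw [← Scheme.Hom.comp_apply, ← hAμ, Scheme.Hom.comp_apply]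
  congr 1
  rw [hA, Scheme.Hom.comp_apply, htv, Scheme.fromSpecResidueField_apply, hv1]

lemma mul_mem_closure (k : Type u) [Field k] (eU : G₂.U ≅ Spec (CommRingCat.of k))
    (a : GroupoidScheme.Hom G₁ G₂) [IsIso a.fU]
    (hc : (pullback.fst G₂.s (a.fR ≫ G₂.t)) ≫ G₂.s =
      (pullback.snd G₂.s (a.fR ≫ G₂.t) ≫ a.fR) ≫ G₂.t)
    (ξ : ↑(pullback G₂.s (a.fR ≫ G₂.t)))
    (hξ : (pullback.fst G₂.s (a.fR ≫ G₂.t)) ξ ∈ closure (Set.range ⇑a.fR)) :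
    (cmp G₂ (pullback.fst G₂.s (a.fR ≫ G₂.t)) (pullback.snd G₂.s (a.fR ≫ G₂.t) ≫ a.fR) hc) ξ ∈
      closure (Set.range ⇑a.fR) := by
  haveI hUO : UniversallyOpen (a.fR ≫ G₂.t) := by
    have h1 : UniversallyOpen ((a.fR ≫ G₂.t) ≫ eU.hom) := inferInstance
    have h2 : a.fR ≫ G₂.t = ((a.fR ≫ G₂.t) ≫ eU.hom) ≫ eU.inv := by
      rw [Category.assoc, Iso.hom_inv_id, Category.comp_id]
    rw [h2]
    infer_instance
  have hop : IsOpenMap (pullback.fst G₂.s (a.fR ≫ G₂.t)) :=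
    (pullback.fst G₂.s (a.fR ≫ G₂.t)).isOpenMap
  have h1 := hop.preimage_closure_eq_closure_preimage
    (pullback.fst G₂.s (a.fR ≫ G₂.t)).continuous (Set.range ⇑a.fR)
  have h2 : ⇑(pullback.fst G₂.s (a.fR ≫ G₂.t)) ⁻¹' (Set.range ⇑a.fR) ⊆
      ⇑(cmp G₂ (pullback.fst G₂.s (a.fR ≫ G₂.t))
        (pullback.snd G₂.s (a.fR ≫ G₂.t) ≫ a.fR) hc) ⁻¹' (Set.range ⇑a.fR) :=
    fun ξ hξ => mul_mem_range a hc ξ hξ
  have h3 := (cmp G₂ (pullback.fst G₂.s (a.fR ≫ G₂.t))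
    (pullback.snd G₂.s (a.fR ≫ G₂.t) ≫ a.fR) hc).continuous.closure_preimage_subset
      (Set.range ⇑a.fR)
  have h4 : ξ ∈ ⇑(pullback.fst G₂.s (a.fR ≫ G₂.t)) ⁻¹' closure (Set.range ⇑a.fR) := hξ
  rw [h1] at h4
  exact h3 (closure_mono h2 h4)

lemma inv_mem_closure (a : GroupoidScheme.Hom G₁ G₂) (r : G₂.R)
    (hr : r ∈ closure (Set.range ⇑a.fR)) : G₂.i r ∈ closure (Set.range ⇑a.fR) := by
  have h1 : ⇑G₂.i '' (Set.range ⇑a.fR) ⊆ Set.range ⇑a.fR := by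
    rintro _ ⟨_, ⟨q, rfl⟩, rfl⟩
    refine ⟨G₁.i q, ?_⟩
    rw [← Scheme.Hom.comp_apply, ← hom_i a, Scheme.Hom.comp_apply]
  have h2 := image_closure_subset_closure_image (s := Set.range ⇑a.fR) G₂.i.continuous
  exact closure_mono h1 (h2 ⟨r, hr, rfl⟩)


theorem result' (k : Type u) [Field k] (eU : G₂.U ≅ Spec (CommRingCat.of k))
    (a : Grpd.GroupoidScheme.Hom G₁ G₂) [IsIso a.fU] (hlc : IsLocallyClosed (Set.range ⇑a.fR)) :
    IsClosed (Set.range ⇑a.fR) := by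
  obtain ⟨V₀, F, hV₀, hF, hI⟩ := hlc
  have hIV : Set.range ⇑a.fR ⊆ V₀ := fun x hx => (hI ▸ hx : x ∈ V₀ ∩ F).1
  have hIF : Set.range ⇑a.fR ⊆ F := fun x hx => (hI ▸ hx : x ∈ V₀ ∩ F).2
  have hVZ : ∀ x, x ∈ V₀ → x ∈ closure (Set.range ⇑a.fR) → x ∈ Set.range ⇑a.fR := by
    intro x hx1 hx2
    have : x ∈ V₀ ∩ F := ⟨hx1, closure_minimal hIF hF hx2⟩
    rw [← hI] at this
    exact this
  rw [← closure_subset_iff_isClosed]
  intro r₂ hr₂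
  set W : G₂.R.Opens := ⟨V₀, hV₀⟩ with hW
  set z := G₂.R.fromSpecResidueField r₂ with hz
  have hcond : (pullback.fst (z ≫ G₂.s) (W.ι ≫ G₂.t) ≫ z) ≫ G₂.s =
      (pullback.snd (z ≫ G₂.s) (W.ι ≫ G₂.t) ≫ W.ι) ≫ G₂.t :=
    (Category.assoc _ _ _).trans (pullback.condition.trans (Category.assoc _ _ _).symm)
  set m : pullback (z ≫ G₂.s) (W.ι ≫ G₂.t) ⟶ G₂.R :=
    cmp G₂ (pullback.fst _ _ ≫ z) (pullback.snd _ _ ≫ W.ι) hcond with hm
  have hO : IsOpen (Set.range ⇑m) := Groth.Agent.S1889.result S G₂ k eU W _ z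
  have hεrange : Set.range ⇑(z ≫ G₂.s ≫ G₂.e) ⊆ Set.range ⇑W.ι := by
    have h7 : z ≫ G₂.s ≫ G₂.e = (z ≫ G₂.s ≫ inv a.fU ≫ G₁.e) ≫ a.fR := by
      simp only [Category.assoc]
      rw [hom_e a, IsIso.inv_hom_id_assoc]
    rw [h7, Scheme.Opens.range_ι]
    rintro _ ⟨t, rfl⟩
    exact hIV ⟨(z ≫ G₂.s ≫ inv a.fU ≫ G₁.e) t, (Scheme.Hom.comp_apply _ _ _).symm⟩
  set ε : Spec (G₂.R.residueField r₂) ⟶ W :=
    IsOpenImmersion.lift W.ι (z ≫ G₂.s ≫ G₂.e) hεrange with hε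
  have hει : ε ≫ W.ι = z ≫ G₂.s ≫ G₂.e := IsOpenImmersion.lift_fac _ _ _
  have hp₀c : 𝟙 _ ≫ (z ≫ G₂.s) = ε ≫ (W.ι ≫ G₂.t) := by
    rw [Category.id_comp, ← Category.assoc ε, hει]
    simp only [Category.assoc, G₂.e_t, Category.comp_id]
  set p₀ : Spec (G₂.R.residueField r₂) ⟶ pullback (z ≫ G₂.s) (W.ι ≫ G₂.t) :=
    pullback.lift (𝟙 _) ε hp₀c with hp₀
  have hp₀m : p₀ ≫ m = z := by
    rw [hm, pre_cmp G₂ p₀ _ _ hcond
      (by have := hcond; simp only [Category.assoc] at this ⊢; rw [this])]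
    have e1 : p₀ ≫ pullback.fst (z ≫ G₂.s) (W.ι ≫ G₂.t) ≫ z = z := by
      rw [← Category.assoc, hp₀, pullback.lift_fst, Category.id_comp]
    have e2 : p₀ ≫ pullback.snd (z ≫ G₂.s) (W.ι ≫ G₂.t) ≫ W.ι = z ≫ G₂.s ≫ G₂.e := by
      rw [← Category.assoc, hp₀, pullback.lift_snd, hει]
    refine (cmp_congr G₂ _ e1 e2 ?_).trans (G₂.comp_e z)
    simp only [Category.assoc, G₂.e_t, Category.comp_id]
  let t₀ : Spec (G₂.R.residueField r₂) := IsLocalRing.closedPoint _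
  have hr₂O : r₂ ∈ Set.range ⇑m :=
    ⟨p₀ t₀, by rw [← Scheme.Hom.comp_apply, hp₀m, hz, Scheme.fromSpecResidueField_apply]⟩
  obtain ⟨y₀, hyO, hyI⟩ := mem_closure_iff.1 hr₂ _ hO hr₂O
  obtain ⟨p, rfl⟩ := hyO
  obtain ⟨q, hq⟩ := hyI
  obtain ⟨v, hv1, hv2⟩ := Scheme.Pullback.exists_preimage_pullback (f := m) (g := a.fR) p q hq.symm
  set tv := (pullback m a.fR).fromSpecResidueField v with htv
  set P := tv ≫ pullback.fst m a.fR with hP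
  set Q := tv ≫ pullback.snd m a.fR with hQ
  have hPQ : P ≫ m = Q ≫ a.fR := by
    rw [hP, hQ, Category.assoc, Category.assoc, pullback.condition]
  set zt := P ≫ pullback.fst (z ≫ G₂.s) (W.ι ≫ G₂.t) ≫ z with hzt
  set wt := P ≫ pullback.snd (z ≫ G₂.s) (W.ι ≫ G₂.t) ≫ W.ι with hwt
  have hzw : zt ≫ G₂.s = wt ≫ G₂.t := by
    have := hcond; simp only [hzt, hwt, Category.assoc] at this ⊢; rw [this]
  have hPm : P ≫ m = cmp G₂ zt wt hzw := pre_cmp G₂ P _ _ hcond hzw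
  let t₁ : Spec ((pullback m a.fR).residueField v) := IsLocalRing.closedPoint _
  have hwtI : wt t₁ ∈ Set.range ⇑a.fR := by
    have h6 : wt = (P ≫ pullback.snd (z ≫ G₂.s) (W.ι ≫ G₂.t)) ≫ W.ι :=
      (Category.assoc P _ _).symm
    have hwtV : wt t₁ ∈ V₀ := by
      rw [h6, Scheme.Hom.comp_apply]
      exact ((P ≫ pullback.snd (z ≫ G₂.s) (W.ι ≫ G₂.t)) t₁).2
    refine hVZ _ hwtV ?_
    -- wt = (zt⁻¹) · (Q ≫ fR)
    have hcQ : (pullback.fst G₂.s (a.fR ≫ G₂.t)) ≫ G₂.s =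
        (pullback.snd G₂.s (a.fR ≫ G₂.t) ≫ a.fR) ≫ G₂.t := by
      rw [Category.assoc]; exact pullback.condition
    have hξc : (zt ≫ G₂.i) ≫ G₂.s = Q ≫ (a.fR ≫ G₂.t) := by
      rw [Category.assoc, G₂.i_s, ← Category.assoc, ← hPQ, hPm, cmp, G₂.comp_t]
    set ξ : Spec ((pullback m a.fR).residueField v) ⟶ pullback G₂.s (a.fR ≫ G₂.t) :=
      pullback.lift (zt ≫ G₂.i) Q hξc with hξ
    have hξ1 : ξ ≫ pullback.fst G₂.s (a.fR ≫ G₂.t) = zt ≫ G₂.i := pullback.lift_fst _ _ _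
    have hξ2 : ξ ≫ pullback.snd G₂.s (a.fR ≫ G₂.t) = Q := pullback.lift_snd _ _ _
    have hzi : (zt ≫ G₂.i) ≫ G₂.s = cmp G₂ zt wt hzw ≫ G₂.t := by
      rw [Category.assoc, G₂.i_s, cmp, G₂.comp_t]
    have hξμ : ξ ≫ cmp G₂ (pullback.fst G₂.s (a.fR ≫ G₂.t))
        (pullback.snd G₂.s (a.fR ≫ G₂.t) ≫ a.fR) hcQ = wt := by
      have e1 : ξ ≫ pullback.snd G₂.s (a.fR ≫ G₂.t) ≫ a.fR = cmp G₂ zt wt hzw := by
        rw [← Category.assoc, hξ2, ← hPQ, hPm]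
      refine (pre_cmp G₂ ξ _ _ hcQ ?_).trans
        ((cmp_congr G₂ _ hξ1 e1 hzi).trans (cancelA G₂ zt wt hzw hzi))
      rw [hξ1, e1]; exact hzi
    have hfstξ : (pullback.fst G₂.s (a.fR ≫ G₂.t)) (ξ t₁) ∈ closure (Set.range ⇑a.fR) := by
      rw [← Scheme.Hom.comp_apply, hξ1, Scheme.Hom.comp_apply]
      apply inv_mem_closure a
      have : zt t₁ = r₂ := by
        rw [hzt]
        simp only [Scheme.Hom.comp_apply, hz, Scheme.fromSpecResidueField_apply]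
      rw [this]; exact hr₂
    have := mul_mem_closure k eU a hcQ (ξ t₁) hfstξ
    rwa [← Scheme.Hom.comp_apply, hξμ] at this
  obtain ⟨q₂, hq₂⟩ := hwtI
  obtain ⟨v', hv'1, hv'2⟩ :=
    Scheme.Pullback.exists_preimage_pullback (f := wt) (g := a.fR) t₁ q₂ hq₂.symm
  set tv' := (pullback wt a.fR).fromSpecResidueField v' with htv'
  set π := tv' ≫ pullback.fst wt a.fR with hπ
  set Q₂ := tv' ≫ pullback.snd wt a.fR with hQ₂
  have hπw : π ≫ wt = Q₂ ≫ a.fR := by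
    rw [hπ, hQ₂, Category.assoc, Category.assoc, pullback.condition]
  set z' := π ≫ zt with hz'
  set w' := π ≫ wt with hw'
  set Q' := π ≫ Q with hQ'
  have hz'w' : z' ≫ G₂.s = w' ≫ G₂.t :=
    (Category.assoc π zt G₂.s).trans
      ((congrArg (π ≫ ·) hzw).trans (Category.assoc π wt G₂.t).symm)
  have hQ'eq : cmp G₂ z' w' hz'w' = Q' ≫ a.fR := by
    refine (pre_cmp G₂ π zt wt hzw hz'w').symm.trans ?_
    rw [← hPm, hPQ]
    exact (Category.assoc π Q a.fR).symm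
  have hs1 : Q' ≫ G₁.s = Q₂ ≫ G₁.s := by
    have h8 : (Q' ≫ a.fR) ≫ G₂.s = (Q₂ ≫ a.fR) ≫ G₂.s := by
      rw [← hQ'eq, cmp, G₂.comp_s, ← hπw]
    have h9 : ∀ {T : Scheme.{u}} (x : T ⟶ G₁.R), (x ≫ a.fR) ≫ G₂.s = (x ≫ G₁.s) ≫ a.fU :=
      fun x => by rw [Category.assoc, a.comm_s, Category.assoc]
    rw [h9, h9] at h8
    exact (cancel_mono a.fU).1 h8
  have h0 : Q' ≫ G₁.s = (Q₂ ≫ G₁.i) ≫ G₁.t :=
    hs1.trans ((Category.assoc Q₂ G₁.i G₁.t).trans (by rw [G₁.i_t])).symm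
  set y := cmp G₁ Q' (Q₂ ≫ G₁.i) h0 with hy
  have hy1 : y ≫ G₁.s = Q₂ ≫ G₁.t := by rw [hy, cmp, G₁.comp_s, Category.assoc, G₁.i_s]
  have hyQ : cmp G₁ y Q₂ hy1 = Q' := cancelR' G₁ Q' Q₂ hs1 h0 hy1
  have hyw : (y ≫ a.fR) ≫ G₂.s = w' ≫ G₂.t := by
    rw [Category.assoc, a.comm_s, ← Category.assoc, hy1, Category.assoc, ← a.comm_t,
      ← Category.assoc, ← hπw]
  have hclaim : y ≫ a.fR = z' := by
    apply cmp_inj_right G₂ (y ≫ a.fR) z' w' hyw hz'w'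
    have h5 : cmp G₂ (y ≫ a.fR) w' hyw = cmp G₁ y Q₂ hy1 ≫ a.fR :=
      (cmp_congr G₂ _ rfl hπw _).trans (a.comm_c y Q₂ hy1).symm
    exact h5.trans ((congrArg (· ≫ a.fR) hyQ).trans hQ'eq.symm)
  let t₂ : Spec ((pullback wt a.fR).residueField v') := IsLocalRing.closedPoint _
  refine ⟨y t₂, ?_⟩
  rw [← Scheme.Hom.comp_apply, hclaim, hz', hzt]
  simp only [Scheme.Hom.comp_apply, hz, Scheme.fromSpecResidueField_apply]

end Main

/-- Let (U₁, R₁, s, t, c) and (U₂, R₂, s, t, c) be groupoid schemes over S with U₂ isomorphic to Spec k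
for a field k, and a : R₁ → R₂ a morphism of groupoid schemes which is an isomorphism on objects. If
a(R₁) is locally closed in R₂ then it is closed. (A groupoid scheme carries U, R, s, t, c, e, i over
S satisfying the groupoid axioms on T-points.) -/
theorem result (S : Scheme.{u}) (G₁ G₂ : Grpd.GroupoidScheme S) (k : Type u) [Field k] (eU : G₂.U ≅ Spec (CommRingCat.of k)) (a : Grpd.GroupoidScheme.Hom G₁ G₂) [IsIso a.fU] (hlc : IsLocallyClosed (Set.range ⇑a.fR)) : IsClosed (Set.range ⇑a.fR) := by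
  exact result' k eU a hlc

end Groth.Agent.S1892
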