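import Groth.Statements.S18929
import Mathlib

set_option autoImplicit false
universe u
open DPow

namespace Groth.Agent.S18929

/-- Let p be a prime, n a natural number, B a commutative ring in which p^n = 0, and I an ideal of B
equipped with divided powers. There is a ring homomorphism θ from the truncated Witt vectors
W_n(B/I) to B such that, for every Witt vector x over B, θ applied to the truncation of the image of
x in W_n(B/I) equals Σ_{i<n} p^i x_i^(p^(n−i)); in particular this sum depends only on the residues
of x_0, …, x_{n−1} modulo I. (The source works with a divided power thickening of an algebra over a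
perfect field and also checks linearity over the Witt vectors of that field; only the ring
homomorphism is asserted here. θ is unique, the truncation-of-reduction map being surjective.) -/
theorem result (p : ℕ) [Fact p.Prime] (n : ℕ)
    {B : Type u} [CommRing B] (hp : (p : B) ^ n = 0) {I : Ideal B} (hI : DividedPowers I) :
    ∃ θ : TruncatedWittVector p n (B ⧸ I) →+* B, ∀ x : WittVector p B, θ (WittVector.truncate n (WittVector.map (Ideal.Quotient.mk I) x)) =
        ∑ i : Fin n, (p : B) ^ (i : ℕ) * (x.coeff i) ^ (p ^ (n - i)) := by
  classical
  let π : WittVector p B →+* TruncatedWittVector p n (B ⧸ I) :=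
    (WittVector.truncate n).comp (WittVector.map (Ideal.Quotient.mk I))
  have hπ : Function.Surjective π :=
    (WittVector.truncate_surjective p n _).comp
      (WittVector.map_surjective _ Ideal.Quotient.mk_surjective)
  let w : WittVector p B →+* B := WittVector.ghostComponent n
  have hw : ∀ x : WittVector p B,
      w x = ∑ i : Fin n, (p : B) ^ (i : ℕ) * (x.coeff i) ^ (p ^ (n - i)) := by
    intro x
    show WittVector.ghostComponent n x = _
    rw [WittVector.ghostComponent_apply, aeval_wittPolynomial, Finset.sum_range_succ, hp, zero_mul,
      add_zero, Finset.sum_range]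
  have hker : RingHom.ker π ≤ RingHom.ker w := by
    intro x hx
    rw [RingHom.mem_ker] at hx ⊢
    rw [hw]
    apply Finset.sum_eq_zero
    intro i _
    have hxi : x.coeff i ∈ I := by
      have h1 := congrArg (fun z => TruncatedWittVector.coeff i z) hx
      simp only [π, RingHom.comp_apply, WittVector.coeff_truncate, WittVector.map_coeff,
        TruncatedWittVector.coeff_zero] at h1
      exact Ideal.Quotient.eq_zero_iff_mem.mp h1
    rw [← hI.factorial_mul_dpow_eq_pow hxi]
    have hdvd : p ^ (n - i) ∣ (p ^ (n - i)).factorial :=
      Nat.dvd_factorial (pow_pos (Fact.out : p.Prime).pos _) le_rfl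
    obtain ⟨c, hc⟩ := hdvd
    rw [hc]
    push_cast
    rw [← mul_assoc, ← mul_assoc, ← pow_add, show (i : ℕ) + (n - i) = n by omega, hp, zero_mul,
      zero_mul]
  refine ⟨π.liftOfRightInverse (Function.surjInv hπ) (Function.rightInverse_surjInv hπ) ⟨w, hker⟩,
    fun x => ?_⟩
  have := RingHom.liftOfRightInverse_comp_apply π (Function.surjInv hπ)
    (Function.rightInverse_surjInv hπ) ⟨w, hker⟩ x
  rw [← hw x]
  exact this

end Groth.Agent.S18929
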