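import Groth.Statements.S18930
import Mathlib

set_option autoImplicit false
universe u
open DPow

namespace Groth.Agent.S18930

/-- Let p be a prime, n ≥ 1, B a commutative ring with p^n = 0 and A = B/pB. Let θ : W_n(A) → B be the
ring homomorphism which sends the reduction of a Witt vector (x_0, …, x_{n−1}) over B to Σ_{i<n} p^i
x_i^(p^(n−i)), let J_n be its kernel and let I_n be the set of a in W_n(A) whose zeroth component
satisfies a_0^(p^n) = 0. Then J_n + (p) ⊆ I_n. (In the source B is the ring of global sections of a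
scheme over the Witt vectors of length n of a perfect field.) -/
theorem result (p : ℕ) [Fact p.Prime] (n : ℕ) (hn : 0 < n)
    {B : Type u} [CommRing B] (hp : (p : B) ^ n = 0)
    (θ : TruncatedWittVector p n (B ⧸ (Ideal.span {(p : B)})) →+* B)
    (hθ : ∀ x : WittVector p B, θ (WittVector.truncate n (WittVector.map (Ideal.Quotient.mk (Ideal.span {(p : B)})) x)) =
        ∑ i : Fin n, (p : B) ^ (i : ℕ) * (x.coeff i) ^ (p ^ (n - i)))
    (a : TruncatedWittVector p n (B ⧸ (Ideal.span {(p : B)})))
    (ha : a ∈ RingHom.ker θ ⊔ Ideal.span {(p : TruncatedWittVector p n (B ⧸ (Ideal.span {(p : B)})))}) :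
    (TruncatedWittVector.coeff ⟨0, hn⟩ a) ^ (p ^ n) = 0 := by
  classical
  by_cases hunit : IsUnit (p : B)
  · -- the quotient is trivial
    have h1 : (1 : B ⧸ (Ideal.span {(p : B)})) = 0 := by
      rw [← map_one (Ideal.Quotient.mk _), Ideal.Quotient.eq_zero_iff_mem,
        Ideal.span_singleton_eq_top.mpr hunit]
      trivial
    have hsub : Subsingleton (B ⧸ (Ideal.span {(p : B)})) := by
      refine ⟨fun x y => ?_⟩
      rw [← mul_one x, ← mul_one y, h1, mul_zero, mul_zero]
    exact Subsingleton.elim _ _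
  haveI : CharP (B ⧸ (Ideal.span {(p : B)})) p := CharP.quotient B p hunit
  obtain ⟨j, hj, q, hq, rfl⟩ := Submodule.mem_sup.mp ha
  obtain ⟨c, rfl⟩ := Ideal.mem_span_singleton.mp hq
  -- lift j, c
  obtain ⟨j', rfl⟩ := WittVector.truncate_surjective p n _ j
  obtain ⟨x, rfl⟩ := WittVector.map_surjective _ Ideal.Quotient.mk_surjective j'
  obtain ⟨c', rfl⟩ := WittVector.truncate_surjective p n _ c
  have h1 : WittVector.truncate n (WittVector.map (Ideal.Quotient.mk (Ideal.span {(p : B)})) x) +
      (p : TruncatedWittVector p n (B ⧸ (Ideal.span {(p : B)}))) * WittVector.truncate n c' =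
      WittVector.truncate n (WittVector.map (Ideal.Quotient.mk (Ideal.span {(p : B)})) x + c' * (p : WittVector p (B ⧸ (Ideal.span {(p : B)})))) := by
    rw [map_add, map_mul, map_natCast, mul_comm]
  rw [h1, WittVector.coeff_truncate]
  simp only
  rw [WittVector.add_coeff_zero, WittVector.mul_charP_coeff_zero, add_zero, WittVector.map_coeff,
    ← map_pow, Ideal.Quotient.eq_zero_iff_mem, Ideal.mem_span_singleton]
  -- θ j = 0
  rw [RingHom.mem_ker, hθ x] at hj
  obtain ⟨m, rfl⟩ := Nat.exists_eq_succ_of_ne_zero hn.ne'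
  rw [← Finset.sum_range (fun i => (p : B) ^ i * (x.coeff i) ^ (p ^ (m + 1 - i))),
    Finset.sum_range_succ'] at hj
  simp only [pow_zero, one_mul, Nat.sub_zero] at hj
  refine ⟨-∑ i ∈ Finset.range m, (p : B) ^ i * (x.coeff (i + 1)) ^ (p ^ (m + 1 - (i + 1))), ?_⟩
  rw [mul_neg, Finset.mul_sum]
  rw [eq_neg_iff_add_eq_zero, add_comm, ← hj]
  congr 1
  apply Finset.sum_congr rfl
  intro i _
  ring

end Groth.Agent.S18930
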