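import Groth.Statements.S18931
import Mathlib
import Groth.Agent.Lib.helper28.DPowTheta

set_option autoImplicit false
universe u
open DPow

namespace Groth.Agent.S18931

/-- Let p be a prime, n ≥ 1, B a commutative ring with p^n = 0 and A = B/pB, and assume that the p-th
power map of A is surjective. Let θ : W_n(A) → B be the ring homomorphism which sends the reduction
of a Witt vector (x_0, …, x_{n−1}) over B to Σ_{i<n} p^i x_i^(p^(n−i)). Then every a in W_n(A) with
a_0^(p^n) = 0 lies in ker θ + (p); together with the reverse inclusion, ker θ + (p) is exactly the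
set of such a. (In the source B is the ring of global sections of a scheme over the Witt vectors of
length n of a perfect field. The printed argument subtracts a single correction term, which suffices
for n ≤ 2; in general one corrects the components one at a time.) -/
theorem result (p : ℕ) [Fact p.Prime]
    (n : ℕ) (hn : 0 < n) {B : Type u} [CommRing B] (hp : (p : B) ^ n = 0)
    (hF : Function.Surjective (fun y : B ⧸ (Ideal.span {(p : B)}) => y ^ p))
    (θ : TruncatedWittVector p n (B ⧸ (Ideal.span {(p : B)})) →+* B)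
    (hθ : ∀ x : WittVector p B, θ (WittVector.truncate n (WittVector.map (Ideal.Quotient.mk (Ideal.span {(p : B)})) x)) =
        ∑ i : Fin n, (p : B) ^ (i : ℕ) * (x.coeff i) ^ (p ^ (n - i)))
    (a : TruncatedWittVector p n (B ⧸ (Ideal.span {(p : B)}))) (ha : (TruncatedWittVector.coeff ⟨0, hn⟩ a) ^ (p ^ n) = 0) :
    a ∈ RingHom.ker θ ⊔ Ideal.span {(p : TruncatedWittVector p n (B ⧸ (Ideal.span {(p : B)})))} := by
  classical
  -- lift a
  obtain ⟨a', rfl⟩ := WittVector.truncate_surjective p n _ a
  obtain ⟨x, rfl⟩ := WittVector.map_surjective _ Ideal.Quotient.mk_surjective a'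
  rw [WittVector.coeff_truncate, WittVector.map_coeff, ← map_pow, Ideal.Quotient.eq_zero_iff_mem,
    Ideal.mem_span_singleton] at ha
  obtain ⟨c, hc⟩ := ha
  -- θ a = p * b
  have hsum : ∑ i : Fin n, (p : B) ^ (i : ℕ) * (x.coeff i) ^ (p ^ (n - i)) =
      (p : B) * (c + ∑ i ∈ Finset.range (n - 1), (p : B) ^ i * (x.coeff (i + 1)) ^ (p ^ (n - (i + 1)))) := by
    obtain ⟨m, rfl⟩ := Nat.exists_eq_succ_of_ne_zero hn.ne'
    rw [← Finset.sum_range (fun i => (p : B) ^ i * (x.coeff i) ^ (p ^ (m + 1 - i))),
      Finset.sum_range_succ']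
    simp only [pow_zero, one_mul, Nat.sub_zero, Nat.succ_sub_succ_eq_sub, Nat.add_sub_cancel]
    simp only [Fin.val_zero] at hc
    rw [hc, mul_add, Finset.mul_sum, add_comm]
    congr 1
    apply Finset.sum_congr rfl
    intro i _
    ring
  obtain ⟨w, hw⟩ := Groth.Agent.Lib.helper28.DPowTheta.exists_wittVector p n hp hF
    (c + ∑ i ∈ Finset.range (n - 1), (p : B) ^ i * (x.coeff (i + 1)) ^ (p ^ (n - (i + 1))))
  set W := WittVector.truncate n (WittVector.map (Ideal.Quotient.mk (Ideal.span {(p : B)})) w) with hW
  set a := WittVector.truncate n (WittVector.map (Ideal.Quotient.mk (Ideal.span {(p : B)})) x) with haa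
  have hker : a - (p : TruncatedWittVector p n (B ⧸ (Ideal.span {(p : B)}))) * W ∈ RingHom.ker θ := by
    rw [RingHom.mem_ker, map_sub, map_mul, map_natCast, hθ x, hθ w, hw, hsum, sub_self]
  have : a = (a - (p : TruncatedWittVector p n (B ⧸ (Ideal.span {(p : B)}))) * W) +
      (p : TruncatedWittVector p n (B ⧸ (Ideal.span {(p : B)}))) * W := by ring
  rw [this]
  exact Submodule.add_mem_sup hker (Ideal.mem_span_singleton.mpr ⟨W, rfl⟩)

end Groth.Agent.S18931
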