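import Groth.Statements.S18933
import Mathlib
import Groth.Agent.Lib.helper3.ExpandFree

set_option autoImplicit false
universe u
open Synt

namespace Groth.Agent.S18933

open TensorProduct in
theorem globalCI_of_presentation {P B : Type u} [CommRing P] [CommRing B] [Algebra P B]
    [Module.Finite P B] [Module.FaithfullyFlat P B] {n : ℕ}
    (pres : Algebra.Presentation P B (Fin n) (Fin n))
    (K : Type u) [Field K] [Algebra P K] :
    Synt.IsGlobalCI K (Localization.Away (1 : K ⊗[P] B)) := by
  right
  refine ⟨n, n, le_rfl, ?_⟩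
  have hle : Submonoid.powers (1 : K ⊗[P] B) ≤ IsUnit.submonoid (K ⊗[P] B) := by
    rintro x ⟨n, rfl⟩
    simp
  let e₁ : (K ⊗[P] B) ≃ₐ[K ⊗[P] B] Localization.Away (1 : K ⊗[P] B) :=
    IsLocalization.atUnits (K ⊗[P] B) (Submonoid.powers 1) hle
  refine ⟨(e₁.restrictScalars K).toAlgHom.comp (MvPolynomial.aeval (pres.baseChange K).val),
    fun i => MvPolynomial.map (algebraMap P K) (pres.relation i), ?_, ?_, ?_⟩
  · exact (e₁.restrictScalars K).surjective.comp (pres.baseChange K).aeval_val_surjective
  · rw [pres.span_range_relation_eq_ker_baseChange K]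
    ext x
    rw [RingHom.mem_ker, RingHom.mem_ker]
    change (e₁.restrictScalars K) (MvPolynomial.aeval (pres.baseChange K).val x) = 0 ↔ _
    rw [map_eq_zero_iff _ (e₁.restrictScalars K).injective]
    rfl
  · have : IsArtinianRing (K ⊗[P] B) := IsArtinianRing.of_finite K _
    rw [← ringKrullDim_eq_of_ringEquiv e₁.toRingEquiv]
    have : Ring.KrullDimLE 0 (K ⊗[P] B) := inferInstance
    rw [ringKrullDimZero_iff_ringKrullDim_eq_zero] at this
    rw [this]
    simp

open Groth.Agent.Lib.helper3 in
theorem main (p : ℕ) (hp : 0 < p) (A P : Type u) [CommRing A] [CommRing P] [Algebra A P] (m : ℕ)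
    (eP : MvPolynomial (Fin m) A ≃ₐ[A] P) [Algebra P (MvPolynomial (Fin m) A)]
    [IsScalarTower A P (MvPolynomial (Fin m) A)]
    (h : ∀ i, algebraMap P (MvPolynomial (Fin m) A) (eP (MvPolynomial.X i)) = MvPolynomial.X i ^ p) :
    Synt.IsSyntomic P (MvPolynomial (Fin m) A) ∧
      Module.FaithfullyFlat P (MvPolynomial (Fin m) A) := by
  have hff := ExpandFree.faithfullyFlat p hp A P m eP h
  obtain ⟨hfree, hfin⟩ := ExpandFree.free_finite p hp A P m eP h
  refine ⟨⟨inferInstance, (ExpandFree.pres p A P m eP h).finitePresentation_of_isFinite, ?_⟩, hff⟩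
  intro q
  refine ⟨inferInstance, fun Q => ⟨1, ?_,
    globalCI_of_presentation (ExpandFree.pres p A P m eP h) q.asIdeal.ResidueField⟩⟩
  exact fun h => Q.2.ne_top ((Ideal.eq_top_iff_one _).mpr h)

/-- Let p be a prime, A a Noetherian commutative ring and m a natural number, and let φ be the A-algebra
endomorphism of the polynomial ring A[T_1, …, T_m] with φ(T_i) = T_i^p. Then φ is syntomic and
faithfully flat (so Spec φ is a covering for the syntomic topology). -/
theorem result (p : ℕ) [Fact p.Prime]
    (A : Type u) [CommRing A] [IsNoetherianRing A] (m : ℕ)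
    (φ : MvPolynomial (Fin m) A →ₐ[A] MvPolynomial (Fin m) A)
    (hφ : ∀ i : Fin m, φ (MvPolynomial.X i) = MvPolynomial.X i ^ p) :
    @Synt.IsSyntomic (MvPolynomial (Fin m) A) _ (MvPolynomial (Fin m) A) _ φ.toRingHom.toAlgebra ∧
      φ.toRingHom.FaithfullyFlat := by
  have hp : 0 < p := (Fact.out : p.Prime).pos
  have htower : @IsScalarTower A (MvPolynomial (Fin m) A) (MvPolynomial (Fin m) A) _
      φ.toRingHom.toAlgebra.toSMul _ := by
    letI : Algebra (MvPolynomial (Fin m) A) (MvPolynomial (Fin m) A) := φ.toRingHom.toAlgebra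
    refine IsScalarTower.of_algebraMap_eq (fun a => ?_)
    change _ = φ _
    rw [φ.commutes]
  exact @main p hp A (MvPolynomial (Fin m) A) _ _ _ m AlgEquiv.refl φ.toRingHom.toAlgebra htower
    (fun i => by
      change φ _ = _
      exact hφ i)

end Groth.Agent.S18933
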