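import Groth.Statements.S18936
import Mathlib

set_option autoImplicit false
universe u
open CAlg

namespace Groth.Agent.S18936

/-- Let A be a Noetherian commutative ring, q a prime ideal of A and f an element of A whose image in
the localization A_q is a non-zero-divisor. Then there is an element b of A not in q such that the
image of f in A[1/b] is a non-zero-divisor. -/
theorem result {A : Type u} [CommRing A] [IsNoetherianRing A]
    (q : Ideal A) [q.IsPrime] (f : A)
    (hf : algebraMap A (Localization.AtPrime q) f ∈ nonZeroDivisors (Localization.AtPrime q)) :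
    ∃ b : A, b ∉ q ∧ algebraMap A (Localization.Away b) f ∈ nonZeroDivisors (Localization.Away b) := by
  classical
  -- K = annihilator of f
  let K : Ideal A := Submodule.colon (⊥ : Submodule A A) {f}
  have hK : ∀ a : A, a ∈ K ↔ a * f = 0 := fun a => by
    simp [K, Submodule.mem_colon_singleton]
  have hKfg : K.FG := IsNoetherian.noetherian K
  obtain ⟨S, hS⟩ := hKfg
  -- every element of K is killed by something outside q
  have hkill : ∀ a ∈ K, ∃ s : A, s ∉ q ∧ s * a = 0 := by
    intro a ha
    have h1 : algebraMap A (Localization.AtPrime q) a * algebraMap A (Localization.AtPrime q) f = 0 := by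
      rw [← map_mul, (hK a).mp ha, map_zero]
    have h2 := (mul_right_mem_nonZeroDivisors_eq_zero_iff hf).mp h1
    obtain ⟨m, hm⟩ := (IsLocalization.map_eq_zero_iff q.primeCompl _ a).mp h2
    exact ⟨m, m.2, hm⟩
  choose! s hsq hsa using hkill
  let b : A := ∏ a ∈ S, s a
  have hSK : ∀ a ∈ S, a ∈ K := fun a ha => hS ▸ Submodule.subset_span ha
  have hbq : b ∉ q := by
    intro hb
    obtain ⟨a, haS, ha⟩ := Ideal.IsPrime.prod_mem_iff.mp hb
    exact hsq a (hSK a haS) ha
  have hbK : ∀ a ∈ K, b * a = 0 := by
    intro a ha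
    rw [← hS] at ha
    induction ha using Submodule.span_induction with
    | mem x hx =>
      have : b = (∏ a ∈ S.erase x, s a) * s x := by
        rw [Finset.prod_erase_mul _ _ hx]
      rw [this, mul_assoc, hsa x (hSK x hx), mul_zero]
    | zero => simp
    | add x y _ _ hx hy => rw [mul_add, hx, hy, add_zero]
    | smul r x _ hx => rw [smul_eq_mul, mul_left_comm, hx, mul_zero]
  refine ⟨b, hbq, ?_⟩
  rw [mem_nonZeroDivisors_iff_right]
  intro z hz
  obtain ⟨a, t, rfl⟩ := IsLocalization.exists_mk'_eq (Submonoid.powers b) z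
  rw [← IsLocalization.mk'_one (M := Submonoid.powers b) (Localization.Away b) f,
    ← IsLocalization.mk'_mul, IsLocalization.mk'_eq_zero_iff] at hz
  obtain ⟨m, hm⟩ := hz
  obtain ⟨n, hn⟩ := m.2
  have h3 : (m : A) * a ∈ K := by
    rw [hK]; rw [← hm]; ring
  have h4 := hbK _ h3
  rw [IsLocalization.mk'_eq_zero_iff]
  refine ⟨⟨b, Submonoid.mem_powers b⟩ * m, ?_⟩
  simp only [Submonoid.coe_mul]
  rw [mul_assoc]; exact h4

end Groth.Agent.S18936
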