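import Groth.Statements.S18939
import Mathlib

set_option autoImplicit false
universe u
open LCI

namespace Groth.Agent.S18939

section Aux
open CategoryTheory CategoryTheory.Limits CochainComplex HomComplex

variable {R : Type u} [CommRing R]

/-- all differentials land in `I • ⊤` -/
def DI (I : Ideal R) (K : CochainComplex (ModuleCat.{u} R) ℤ) : Prop :=
  ∀ (n : ℤ) (x : K.X n), (K.d n (n + 1)).hom x ∈ I • (⊤ : Submodule R (K.X (n + 1)))

lemma map_mem_smul_top {M N : Type*} [AddCommGroup M] [Module R M] [AddCommGroup N] [Module R N]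
    (I : Ideal R) (g : M →ₗ[R] N) {x : M} (hx : x ∈ I • (⊤ : Submodule R M)) :
    g x ∈ I • (⊤ : Submodule R N) := by
  have : (I • (⊤ : Submodule R M)).map g ≤ I • (⊤ : Submodule R N) := by
    rw [Submodule.map_smul'']
    exact Submodule.smul_mono le_rfl le_top
  exact this (Submodule.mem_map_of_mem hx)

section Cone
variable (K' : CochainComplex (ModuleCat.{u} R) ℤ) (f : R)

lemma cone_decomp (p q : ℤ) (hpq : p + 1 = q) (x : (mappingCone (f • 𝟙 K')).X p) :
    ((mappingCone.inl (f • 𝟙 K')).v q p (by lia)).hom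
        (((mappingCone.fst (f • 𝟙 K')).1.v p q hpq).hom x) +
      ((mappingCone.inr (f • 𝟙 K')).f p).hom
        (((mappingCone.snd (f • 𝟙 K')).v p p (add_zero p)).hom x) = x := by
  have := congrArg (fun g => g.hom x) (mappingCone.id_X (f • 𝟙 K') p q hpq)
  simpa using this

lemma cone_d_inl (i j k : ℤ) (hij : i + (-1) = j) (hik : k + (-1) = i) (x : K'.X i) :
    ((mappingCone (f • 𝟙 K')).d j i).hom (((mappingCone.inl (f • 𝟙 K')).v i j hij).hom x) =
      ((mappingCone.inr (f • 𝟙 K')).f i).hom (f • x) -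
        ((mappingCone.inl (f • 𝟙 K')).v k i hik).hom ((K'.d i k).hom x) := by
  have := congrArg (fun g => g.hom x) (mappingCone.inl_v_d (f • 𝟙 K') i j k hij hik)
  simpa using this

lemma cone_d_inr (n₁ n₂ : ℤ) (x : K'.X n₁) :
    ((mappingCone (f • 𝟙 K')).d n₁ n₂).hom (((mappingCone.inr (f • 𝟙 K')).f n₁).hom x) =
      ((mappingCone.inr (f • 𝟙 K')).f n₂).hom ((K'.d n₁ n₂).hom x) := by
  have := congrArg (fun g => g.hom x) (mappingCone.inr_f_d (f • 𝟙 K') n₁ n₂)
  simpa only [ModuleCat.hom_comp, LinearMap.comp_apply, ModuleCat.hom_id, LinearMap.id_apply,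
    ModuleCat.hom_zero, LinearMap.zero_apply] using this

lemma cone_fst_inl (p q : ℤ) (hpq : q + 1 = p) (x : K'.X p) :
    ((mappingCone.fst (f • 𝟙 K')).1.v q p hpq).hom
      (((mappingCone.inl (f • 𝟙 K')).v p q (by lia)).hom x) = x := by
  have := congrArg (fun g => g.hom x) (mappingCone.inl_v_fst_v (f • 𝟙 K') p q hpq)
  simpa only [ModuleCat.hom_comp, LinearMap.comp_apply, ModuleCat.hom_id, LinearMap.id_apply,
    ModuleCat.hom_zero, LinearMap.zero_apply] using this

lemma cone_snd_inl (p q : ℤ) (hpq : p + (-1) = q) (x : K'.X p) :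
    ((mappingCone.snd (f • 𝟙 K')).v q q (add_zero q)).hom
      (((mappingCone.inl (f • 𝟙 K')).v p q hpq).hom x) = 0 := by
  have := congrArg (fun g => g.hom x) (mappingCone.inl_v_snd_v (f • 𝟙 K') p q hpq)
  simpa only [ModuleCat.hom_comp, LinearMap.comp_apply, ModuleCat.hom_id, LinearMap.id_apply,
    ModuleCat.hom_zero, LinearMap.zero_apply] using this

lemma cone_fst_inr (p q : ℤ) (hpq : p + 1 = q) (x : K'.X p) :
    ((mappingCone.fst (f • 𝟙 K')).1.v p q hpq).hom
      (((mappingCone.inr (f • 𝟙 K')).f p).hom x) = 0 := by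
  have := congrArg (fun g => g.hom x) (mappingCone.inr_f_fst_v (f • 𝟙 K') p q hpq)
  simpa only [ModuleCat.hom_comp, LinearMap.comp_apply, ModuleCat.hom_id, LinearMap.id_apply,
    ModuleCat.hom_zero, LinearMap.zero_apply] using this

lemma cone_snd_inr (p : ℤ) (x : K'.X p) :
    ((mappingCone.snd (f • 𝟙 K')).v p p (add_zero p)).hom
      (((mappingCone.inr (f • 𝟙 K')).f p).hom x) = x := by
  have := congrArg (fun g => g.hom x) (mappingCone.inr_f_snd_v (f • 𝟙 K') p)
  simpa only [ModuleCat.hom_comp, LinearMap.comp_apply, ModuleCat.hom_id, LinearMap.id_apply,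
    ModuleCat.hom_zero, LinearMap.zero_apply] using this

end Cone
lemma cone_subsingleton (K' : CochainComplex (ModuleCat.{u} R) ℤ) (f : R) (p : ℤ)
    (h1 : Subsingleton (K'.X (p + 1))) (h2 : Subsingleton (K'.X p)) :
    Subsingleton ((mappingCone (f • 𝟙 K')).X p) := by
  refine subsingleton_of_forall_eq 0 (fun x => ?_)
  rw [← cone_decomp K' f p (p + 1) rfl x]
  rw [Subsingleton.elim (((mappingCone.fst (f • 𝟙 K')).1.v p (p + 1) rfl).hom x) 0,
    Subsingleton.elim (((mappingCone.snd (f • 𝟙 K')).v p p (add_zero p)).hom x) 0]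
  simp

lemma subsingleton_koszul_pos : ∀ (l : List R) (n : ℤ), 0 < n →
    Subsingleton ((Koszul.koszul R l).X n) := by
  intro l
  induction l with
  | nil =>
    intro n hn
    exact ModuleCat.subsingleton_of_isZero
      (HomologicalComplex.isZero_single_obj_X (ComplexShape.up ℤ) 0 (ModuleCat.of R R) n hn.ne')
  | cons f l ih =>
    intro n hn
    exact cone_subsingleton (Koszul.koszul R l) f n (ih (n + 1) (by lia)) (ih n hn)

lemma di_cone (K' : CochainComplex (ModuleCat.{u} R) ℤ) (f : R) (J I : Ideal R) (hJI : J ≤ I)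
    (hf : f ∈ I) (h : DI J K') : DI I (mappingCone (f • 𝟙 K')) := by
  intro n x
  rw [← cone_decomp K' f n (n + 1) rfl x, map_add]
  refine Submodule.add_mem _ ?_ ?_
  · rw [cone_d_inl K' f (n + 1) n (n + 1 + 1) (by lia) (by lia)]
    refine Submodule.sub_mem _ ?_ ?_
    · rw [map_smul]
      exact Submodule.smul_mem_smul hf Submodule.mem_top
    · exact map_mem_smul_top I _ (Submodule.smul_mono hJI le_rfl (h (n + 1) _))
  · rw [cone_d_inr]
    exact map_mem_smul_top I _ (Submodule.smul_mono hJI le_rfl (h n _))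

lemma di_koszul : ∀ (l : List R), DI (Ideal.ofList l) (Koszul.koszul R l) := by
  intro l
  induction l with
  | nil =>
    intro n x
    have : (Koszul.koszul R ([] : List R)).d n (n + 1) = 0 :=
      HomologicalComplex.single_obj_d (ComplexShape.up ℤ) 0 (ModuleCat.of R R) n (n + 1)
    rw [this]
    simp
  | cons f l ih =>
    refine di_cone (Koszul.koszul R l) f (Ideal.ofList l) _ ?_ ?_ ih
    · rw [Ideal.ofList_cons]; exact le_sup_right
    · rw [Ideal.ofList_cons]; exact Ideal.mem_sup_left (Ideal.mem_span_singleton_self f)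

/-- low degree data of a Koszul-like complex -/
def Low (K : CochainComplex (ModuleCat.{u} R) ℤ) (r : ℕ) (g : Fin r → R) : Prop :=
  ∃ (ι : K.X 0 →ₗ[R] R) (one : K.X 0) (s : (Fin r → R) → K.X (-1))
    (π : Fin r → (K.X (-1) →ₗ[R] R)),
    Function.Injective ι ∧ ι one = 1 ∧ (∀ a i, π i (s a) = a i) ∧
      (∀ a, ι ((K.d (-1) 0).hom (s a)) = ∑ i, a i * g i)

lemma low_cone (K' : CochainComplex (ModuleCat.{u} R) ℤ) (f : R) (r : ℕ) (g' : Fin r → R)
    (h : Low K' r g') (hz : Subsingleton (K'.X 1)) :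
    Low (mappingCone (f • 𝟙 K')) (r + 1) (Fin.cons f g') := by
  obtain ⟨ι', one', s', π', hinj, hone, hπ, hd⟩ := h
  have e01 : (0 : ℤ) + 1 = 1 := rfl
  have em10 : (-1 : ℤ) + 1 = 0 := rfl
  refine ⟨ι' ∘ₗ ((mappingCone.snd (f • 𝟙 K')).v 0 0 (add_zero 0)).hom,
    ((mappingCone.inr (f • 𝟙 K')).f 0).hom one',
    fun a => ((mappingCone.inl (f • 𝟙 K')).v 0 (-1) (by lia)).hom (a 0 • one') +
      ((mappingCone.inr (f • 𝟙 K')).f (-1)).hom (s' (fun i => a i.succ)),
    Fin.cons (ι' ∘ₗ ((mappingCone.fst (f • 𝟙 K')).1.v (-1) 0 em10).hom)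
      (fun i => π' i ∘ₗ ((mappingCone.snd (f • 𝟙 K')).v (-1) (-1) (add_zero _)).hom),
    ?_, ?_, ?_, ?_⟩
  · -- injective
    intro x y hxy
    have h1 := hinj hxy
    rw [← cone_decomp K' f 0 1 e01 x, ← cone_decomp K' f 0 1 e01 y, h1,
      Subsingleton.elim (((mappingCone.fst (f • 𝟙 K')).1.v 0 1 e01).hom x)
        (((mappingCone.fst (f • 𝟙 K')).1.v 0 1 e01).hom y)]
  · simp only [LinearMap.comp_apply]
    rw [cone_snd_inr, hone]
  · intro a i
    refine Fin.cases ?_ (fun j => ?_) i
    · simp only [Fin.cons_zero, LinearMap.comp_apply, map_add]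
      rw [cone_fst_inl K' f 0 (-1) em10, cone_fst_inr K' f (-1) 0 em10]
      simp [hone]
    · simp only [Fin.cons_succ, LinearMap.comp_apply, map_add]
      rw [cone_snd_inl K' f 0 (-1) (by lia), cone_snd_inr, hπ]
      simp
  · intro a
    simp only [LinearMap.comp_apply, map_add]
    rw [cone_d_inl K' f 0 (-1) 1 (by lia) (by lia), cone_d_inr,
      Subsingleton.elim ((K'.d 0 1).hom (a 0 • one')) 0]
    simp only [map_zero, sub_zero, map_sub]
    rw [cone_snd_inr, cone_snd_inr, hd, Fin.sum_univ_succ]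
    simp [hone, mul_comm]

lemma low_koszul : ∀ (r : ℕ) (g : Fin r → R), Low (Koszul.koszul R (List.ofFn g)) r g := by
  intro r
  induction r with
  | zero =>
    intro g
    rw [List.ofFn_zero]
    let E : ((HomologicalComplex.single (ModuleCat.{u} R) (ComplexShape.up ℤ) 0).obj
        (ModuleCat.of R R)).X 0 ≃ₗ[R] R :=
      (HomologicalComplex.singleObjXSelf (ComplexShape.up ℤ) 0 (ModuleCat.of R R)).toLinearEquiv
    refine ⟨E.toLinearMap, E.symm 1, fun _ => 0, fun i => i.elim0, ?_, ?_, ?_, ?_⟩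
    · exact E.injective
    · exact E.apply_symm_apply 1
    · intro a i; exact i.elim0
    · intro a; simp
  | succ r ih =>
    intro g
    rw [List.ofFn_succ]
    have := low_cone (Koszul.koszul R (List.ofFn fun i => g i.succ)) (g 0) r (fun i => g i.succ)
      (ih _) (subsingleton_koszul_pos _ 1 one_pos)
    have e : (Fin.cons (g 0) (fun i => g i.succ) : Fin (r + 1) → R) = g := Fin.cons_self_tail g
    rw [e] at this
    exact this

lemma DI.all {I : Ideal R} {K : CochainComplex (ModuleCat.{u} R) ℤ} (h : DI I K) (n m : ℤ)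
    (x : K.X n) : (K.d n m).hom x ∈ I • (⊤ : Submodule R (K.X m)) := by
  by_cases hnm : n + 1 = m
  · subst hnm; exact h n x
  · rw [K.shape n m hnm]; simp

lemma ofList_ofFn' {r : ℕ} (g : Fin r → R) :
    Ideal.ofList (List.ofFn g) = Ideal.span (Set.range g) := by
  unfold Ideal.ofList
  congr 1
  ext x
  simp [List.mem_ofFn]

/-- relations among a Koszul-regular sequence have coefficients in the ideal -/
lemma rel_mem {r : ℕ} (g : Fin r → R) (hg : LCI.IsKoszulRegularSeq R (List.ofFn g))
    (a : Fin r → R) (ha : ∑ i, a i * g i = 0) (i : Fin r) :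
    a i ∈ Ideal.span (Set.range g) := by
  obtain ⟨ι, one, s, π, hinj, hone, hπ, hd⟩ := low_koszul r g
  have hDI := di_koszul (List.ofFn g)
  rw [ofList_ofFn'] at hDI
  have hex : (Koszul.koszul R (List.ofFn g)).ExactAt (-1) := by
    rw [HomologicalComplex.exactAt_iff_isZero_homology]
    exact hg (-1) (by norm_num)
  rw [HomologicalComplex.exactAt_iff' (Koszul.koszul R (List.ofFn g)) (-2) (-1) 0 (by simp) (by simp),
    ShortComplex.moduleCat_exact_iff] at hex
  have h0 : ((Koszul.koszul R (List.ofFn g)).d (-1) 0).hom (s a) = 0 := by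
    apply hinj
    rw [hd a, ha, map_zero]
  obtain ⟨y, hy⟩ := hex (s a) h0
  have hmem : s a ∈ Ideal.span (Set.range g) •
      (⊤ : Submodule R ((Koszul.koszul R (List.ofFn g)).X (-1))) := by
    rw [← hy]
    exact hDI.all (-2) (-1) y
  have := map_mem_smul_top _ (π i) hmem
  rw [hπ] at this
  simpa using this

/-- coefficients of an element of `I²` written in a Koszul-regular generating family lie in `I` -/
lemma coeff_mem {r : ℕ} (g : Fin r → R) (hg : LCI.IsKoszulRegularSeq R (List.ofFn g))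
    (a : Fin r → R) (ha : ∑ i, a i * g i ∈ Ideal.span (Set.range g) ^ 2) (i : Fin r) :
    a i ∈ Ideal.span (Set.range g) := by
  rw [pow_two, ← smul_eq_mul (a := Ideal.span (Set.range g)),
    Submodule.mem_ideal_smul_span_iff_exists_sum] at ha
  obtain ⟨b, hb, hsum⟩ := ha
  rw [Finsupp.sum_fintype _ _ (by simp)] at hsum
  have hrel : ∑ j, (a j - b j) * g j = 0 := by
    simp only [sub_mul, Finset.sum_sub_distrib]
    rw [sub_eq_zero, ← hsum]
    simp [smul_eq_mul]
  have := rel_mem g hg (fun j => a j - b j) hrel i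
  have h2 : a i = (a i - b i) + b i := by ring
  rw [h2]
  exact Ideal.add_mem _ this (hb i)

theorem main {I : Ideal R} (r : ℕ) (f : Fin r → I)
    (hf : LCI.IsKoszulRegularSeq R (List.ofFn (fun i => (f i : R))))
    (hfI : Ideal.span (Set.range (fun i => (f i : R))) = I) :
    ∃ b : Module.Basis (Fin r) (R ⧸ I) I.Cotangent, ∀ i, b i = I.toCotangent (f i) := by
  have key : ∀ a : Fin r → R, I.toCotangent (∑ i, a i • f i) = 0 → ∀ i, a i ∈ I := by
    intro a ha i
    rw [Ideal.toCotangent_eq_zero] at ha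
    have h1 : ((∑ i, a i • f i : I) : R) = ∑ i, a i * (f i : R) := by
      simp [smul_eq_mul]
    rw [h1] at ha
    have := coeff_mem (fun i => (f i : R)) hf a (by rw [hfI]; exact ha) i
    rwa [hfI] at this
  have hsmul : ∀ (c : R) (x : I.Cotangent), (Ideal.Quotient.mk I c) • x = c • x := by
    intro c x
    rw [← Ideal.Quotient.algebraMap_eq, algebraMap_smul]
  have hli : LinearIndependent (R ⧸ I) (fun i => I.toCotangent (f i)) := by
    rw [Fintype.linearIndependent_iff]
    intro c hc i
    choose a ha using fun j => Ideal.Quotient.mk_surjective (c j)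
    have h2 : ∑ j, c j • I.toCotangent (f j) = I.toCotangent (∑ j, a j • f j) := by
      rw [map_sum]
      refine Finset.sum_congr rfl (fun j _ => ?_)
      rw [← ha j, hsmul, map_smul]
    rw [h2] at hc
    rw [← ha i]
    exact Ideal.Quotient.eq_zero_iff_mem.mpr (key a hc i)
  have hsp : ⊤ ≤ Submodule.span (R ⧸ I) (Set.range (fun i => I.toCotangent (f i))) := by
    intro z _
    obtain ⟨x, rfl⟩ := Ideal.toCotangent_surjective I z
    have hx : (x : R) ∈ Ideal.span (Set.range (fun i => (f i : R))) := by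
      rw [hfI]; exact x.2
    rw [Ideal.mem_span_range_iff_exists_fun] at hx
    obtain ⟨c, hc⟩ := hx
    have hx2 : x = ∑ j, c j • f j := by
      apply Subtype.ext
      rw [← hc]
      simp [smul_eq_mul]
    rw [hx2, map_sum]
    refine Submodule.sum_mem _ (fun j _ => ?_)
    rw [map_smul, ← hsmul]
    exact Submodule.smul_mem _ _ (Submodule.subset_span ⟨j, rfl⟩)
  exact ⟨Module.Basis.mk hli hsp, fun i => by simp⟩

end Aux

/-- Let R be a commutative ring, I a proper ideal of R and f_1, …, f_r a Koszul-regular sequence of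
elements of I generating I. Then I/I² is a free R/I-module of rank r, with basis the classes of f_1,
…, f_r. -/
theorem result {R : Type u} [CommRing R] {I : Ideal R} (hI : I ≠ ⊤)
    (r : ℕ) (f : Fin r → I) (hf : LCI.IsKoszulRegularSeq R (List.ofFn (fun i => (f i : R))))
    (hfI : Ideal.span (Set.range (fun i => (f i : R))) = I) :
    ∃ b : Module.Basis (Fin r) (R ⧸ I) I.Cotangent, ∀ i, b i = I.toCotangent (f i) := by
  exact main r f hf hfI

end Groth.Agent.S18939
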