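import Groth.Statements.S18942
import Mathlib

set_option autoImplicit false
universe u
open DPow

namespace Groth.Agent.S18942

lemma frobSymm_pow_apply (p : ℕ) [Fact p.Prime] (k : Type*) [CommRing k] [CharP k p]
    [PerfectRing k p] (i : ℕ) (b : k) :
    ((frobeniusEquiv k p).symm ^ i) (b ^ p ^ i) = b := by
  induction i generalizing b with
  | zero => simp
  | succ i ih =>
    rw [pow_succ, RingAut.mul_apply, pow_succ, pow_mul, frobeniusEquiv_symm_pow, ih]

/-- Let p be a prime, k a perfect field of characteristic p, n a natural number and x an element of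
W_n(k), written here as the truncation of a Witt vector x over k. For any Witt vectors y_0, …,
y_{n−1} over k lifting the components of x under the map y ↦ (y_0)^(p^n) (that is, (y_i)_0^(p^n) =
x_i), one has x = Σ_{i<n} p^i y_i^(p^(n−i)) in W_n(k). -/
theorem result (p : ℕ) [Fact p.Prime]
    (k : Type u) [Field k] [CharP k p] [PerfectRing k p] (n : ℕ) (x : WittVector p k)
    (y : Fin n → WittVector p k) (hy : ∀ i : Fin n, ((y i).coeff 0) ^ (p ^ n) = x.coeff i) :
    WittVector.truncate n x =
      WittVector.truncate n (∑ i : Fin n, (p : WittVector p k) ^ (i : ℕ) * (y i) ^ (p ^ (n - i))) := by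
  classical
  rw [← sub_eq_zero, ← map_sub, ← RingHom.mem_ker, WittVector.mem_ker_truncate]
  rw [← WittVector.mem_span_p_pow_iff_le_coeff_eq_zero, Ideal.mem_span_singleton]
  cases n with
  | zero => simp
  | succ n =>
    have h1 := WittVector.dvd_sub_sum_teichmuller_iterateFrobeniusEquiv_coeff x n
    -- termwise congruence
    have hterm : ∀ i : Fin (n + 1), (p : WittVector p k) ^ (n + 1) ∣
        WittVector.teichmuller p (((frobeniusEquiv k p).symm ^ (i : ℕ)) (x.coeff i)) * (p : WittVector p k) ^ (i : ℕ) -
          (p : WittVector p k) ^ (i : ℕ) * (y i) ^ (p ^ (n + 1 - i)) := by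
      intro i
      set a := (y i).coeff 0 with ha
      have hi : (i : ℕ) ≤ n := Nat.lt_succ_iff.mp i.2
      have hb : ((frobeniusEquiv k p).symm ^ (i : ℕ)) (x.coeff i) = a ^ p ^ (n + 1 - i) := by
        rw [← hy i, show p ^ (n + 1) = p ^ (n + 1 - (i : ℕ)) * p ^ (i : ℕ) by
          rw [← pow_add]; congr 1; omega, pow_mul]
        exact frobSymm_pow_apply p k _ _
      rw [hb, map_pow]
      -- y ≡ [a] mod p
      have h2 : (p : WittVector p k) ∣ WittVector.teichmuller p a - y i := by
        rw [← Ideal.mem_span_singleton, ← WittVector.ker_constantCoeff, RingHom.mem_ker, map_sub]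
        simp only [WittVector.constantCoeff_apply, WittVector.teichmuller_coeff_zero, ha, sub_self]
      have h3 := dvd_sub_pow_of_dvd_sub h2 (n + 1 - i)
      obtain ⟨c, hc⟩ := h3
      refine ⟨(p : WittVector p k) * c, ?_⟩
      have h4 : (WittVector.teichmuller p a) ^ p ^ (n + 1 - (i : ℕ)) * (p : WittVector p k) ^ (i : ℕ) -
          (p : WittVector p k) ^ (i : ℕ) * (y i) ^ (p ^ (n + 1 - (i : ℕ))) =
          (p : WittVector p k) ^ (i : ℕ) * ((WittVector.teichmuller p a) ^ p ^ (n + 1 - (i : ℕ)) -
            (y i) ^ (p ^ (n + 1 - (i : ℕ)))) := by ring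
      rw [h4, hc, ← mul_assoc, ← mul_assoc, ← pow_add, ← pow_succ]
      congr 2
      omega
    have hIic : Finset.Iic n = Finset.range (n + 1) := by
      ext j
      simp [Nat.lt_succ_iff]
    rw [hIic, Finset.sum_range] at h1
    have h5 := dvd_add h1 (Finset.dvd_sum (fun i _ => hterm i) (s := Finset.univ))
    convert h5 using 1
    rw [Finset.sum_sub_distrib]
    abel

end Groth.Agent.S18942
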