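import Groth.Statements.S18943
import Mathlib

set_option autoImplicit false
open scoped ContDiff
open CInfGerm

namespace Groth.Agent.S18943

open MeasureTheory in
theorem hasDerivAt_param (k : ℕ) (h : ℝ → ℝ) (hh : ContDiff ℝ ∞ h) (x₀ : ℝ) :
    HasDerivAt (fun x => ∫ t in (0:ℝ)..1, t ^ k * h (t * x))
      (∫ t in (0:ℝ)..1, t ^ (k + 1) * deriv h (t * x₀)) x₀ := by
  have hcont : Continuous h := hh.continuous
  have hdiff : Differentiable ℝ h := hh.differentiable (by simp)
  have hcont' : Continuous (deriv h) := hh.continuous_deriv (by simp)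
  obtain ⟨C, hC⟩ := (isCompact_Icc (a := -(|x₀| + 1)) (b := |x₀| + 1)).exists_bound_of_continuousOn
    hcont'.continuousOn
  refine (intervalIntegral.hasDerivAt_integral_of_dominated_loc_of_deriv_le
    (F := fun x t => t ^ k * h (t * x)) (F' := fun x t => t ^ (k + 1) * deriv h (t * x))
    (s := Metric.ball x₀ 1) (bound := fun _ => C) (Metric.ball_mem_nhds x₀ one_pos)
    (Filter.Eventually.of_forall fun x => ?_) ?_ ?_ ?_ ?_ ?_).2
  · exact (Continuous.aestronglyMeasurable (by fun_prop))
  · exact Continuous.intervalIntegrable (by fun_prop) _ _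
  · exact (Continuous.aestronglyMeasurable (by fun_prop))
  · refine Filter.Eventually.of_forall fun t ht x hx => ?_
    rw [Set.uIoc_of_le zero_le_one] at ht
    have hx' : |x - x₀| < 1 := by
      rwa [Metric.mem_ball, Real.dist_eq] at hx
    have hxb : |x| ≤ |x₀| + 1 := by
      have := abs_sub_abs_le_abs_sub x x₀
      linarith
    have htx : t * x ∈ Set.Icc (-(|x₀| + 1)) (|x₀| + 1) := by
      rw [Set.mem_Icc, ← abs_le, abs_mul, abs_of_pos ht.1]
      calc t * |x| ≤ 1 * |x| := by
            apply mul_le_mul_of_nonneg_right ht.2 (abs_nonneg x)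
        _ ≤ |x₀| + 1 := by linarith
    have h1 := hC _ htx
    rw [norm_mul, norm_pow, Real.norm_of_nonneg ht.1.le]
    calc t ^ (k + 1) * ‖deriv h (t * x)‖ ≤ 1 * C := by
          apply mul_le_mul (pow_le_one₀ ht.1.le ht.2) h1 (norm_nonneg _) zero_le_one
      _ = C := one_mul C
  · exact intervalIntegrable_const
  · refine Filter.Eventually.of_forall fun t _ x _ => ?_
    have h1 : HasDerivAt (fun x => h (t * x)) (deriv h (t * x) * t) x := by
      have e1 : HasDerivAt (fun y => t * y) t x := by
        simpa using (hasDerivAt_id x).const_mul t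
      exact (hdiff (t * x)).hasDerivAt.comp x e1
    have h2 := h1.const_mul (t ^ k)
    have e : t ^ (k + 1) * deriv h (t * x) = t ^ k * (deriv h (t * x) * t) := by ring
    rw [e]
    exact h2

theorem contDiff_param : ∀ (n : ℕ) (k : ℕ) (h : ℝ → ℝ), ContDiff ℝ ∞ h →
    ContDiff ℝ n (fun x => ∫ t in (0:ℝ)..1, t ^ k * h (t * x))
  | 0, k, h, hh => by
    have hcont : Continuous h := hh.continuous
    rw [Nat.cast_zero, contDiff_zero]
    exact intervalIntegral.continuous_parametric_intervalIntegral_of_continuous'
      (f := fun x t => t ^ k * h (t * x)) (by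
        have : Continuous (fun p : ℝ × ℝ => p.2 ^ k * h (p.2 * p.1)) := by fun_prop
        exact this) 0 1
  | n + 1, k, h, hh => by
    have hd : ∀ x, HasDerivAt (fun x => ∫ t in (0:ℝ)..1, t ^ k * h (t * x))
        (∫ t in (0:ℝ)..1, t ^ (k + 1) * deriv h (t * x)) x := hasDerivAt_param k h hh
    have hderiv : deriv (fun x => ∫ t in (0:ℝ)..1, t ^ k * h (t * x)) =
        fun x => ∫ t in (0:ℝ)..1, t ^ (k + 1) * deriv h (t * x) :=
      funext fun x => (hd x).deriv
    have hh' : ContDiff ℝ ∞ (deriv h) := (contDiff_infty_iff_deriv.1 hh).2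
    rw [Nat.cast_succ, contDiff_succ_iff_deriv]
    refine ⟨fun x => (hd x).differentiableAt, ?_, ?_⟩
    · intro hω
      exfalso
      exact (WithTop.natCast_ne_top n) hω
    · rw [hderiv]
      exact contDiff_param n (k + 1) (deriv h) hh'


/-- Let f be an infinitely differentiable real-valued function on the real line with f(0) = 0. Then f(x)
= x·g(x) for an infinitely differentiable function g. (The source phrases this for germs at 0: the
maximal ideal of the local ring of germs of smooth functions at the origin is generated by the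
coordinate t; the global form stated here is what its argument, smooth extension of f(x)/x across 0,
gives.) -/
theorem result (f : ℝ → ℝ) (hf : ContDiff ℝ ∞ f) (h0 : f 0 = 0) :
    ∃ g : ℝ → ℝ, ContDiff ℝ ∞ g ∧ ∀ x : ℝ, f x = x * g x := by
  have hdiff : Differentiable ℝ f := hf.differentiable (by simp)
  have hcont' : Continuous (deriv f) := hf.continuous_deriv (by simp)
  have hf' : ContDiff ℝ ∞ (deriv f) := (contDiff_infty_iff_deriv.1 hf).2
  refine ⟨fun x => ∫ t in (0:ℝ)..1, t ^ 0 * deriv f (t * x), ?_, ?_⟩
  · rw [contDiff_infty]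
    intro n
    exact contDiff_param n 0 (deriv f) hf'
  · intro x
    have h1 : ∫ t in (0:ℝ)..1, deriv f (t * x) * x = f (1 * x) - f (0 * x) := by
      refine intervalIntegral.integral_eq_sub_of_hasDerivAt (f := fun t => f (t * x))
        (f' := fun t => deriv f (t * x) * x) ?_ ?_
      · intro t _
        have e1 : HasDerivAt (fun y => y * x) x t := by
          simpa using (hasDerivAt_id t).mul_const x
        exact (hdiff (t * x)).hasDerivAt.comp t e1
      · exact Continuous.intervalIntegrable (by fun_prop) _ _
    rw [one_mul, zero_mul, h0, sub_zero] at h1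
    rw [← h1, ← intervalIntegral.integral_const_mul]
    congr 1
    funext t
    ring

end Groth.Agent.S18943
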