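import Groth.Statements.S18945
import Mathlib
import Groth.Agent.S18934
import Groth.Agent.Lib.helper3.SyntTransport

set_option autoImplicit false
universe u
open CategoryTheory AlgebraicGeometry
open Synt

namespace Groth.Agent.S18945

theorem appLE_key {X : Scheme.{u}} (U : X.Opens) (hU : IsAffineOpen U) (B : CommRingCat.{u})
    (ψ : Γ(X, U) ⟶ B)
    (e : (⊤ : (Spec B).Opens) ≤ (Spec.map ψ ≫ hU.fromSpec) ⁻¹ᵁ U) :
    (Spec.map ψ ≫ hU.fromSpec).appLE U ⊤ e = ψ ≫ (Scheme.ΓSpecIso B).inv := by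
  apply Spec.map_injective
  rw [← cancel_mono hU.fromSpec]
  rw [IsAffineOpen.SpecMap_appLE_fromSpec _ hU (isAffineOpen_top _)]
  rw [IsAffineOpen.fromSpec_top, Scheme.isoSpec_Spec_inv, Spec.map_comp, Category.assoc]

theorem le_preimage {X : Scheme.{u}} (U : X.Opens) (hU : IsAffineOpen U) (B : CommRingCat.{u})
    (ψ : Γ(X, U) ⟶ B) :
    (⊤ : (Spec B).Opens) ≤ (Spec.map ψ ≫ hU.fromSpec) ⁻¹ᵁ U := by
  intro x _
  change (Spec.map ψ ≫ hU.fromSpec) x ∈ U
  rw [Scheme.Hom.comp_apply]
  have : hU.fromSpec (Spec.map ψ x) ∈ Set.range hU.fromSpec := ⟨_, rfl⟩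
  rw [hU.range_fromSpec] at this
  exact this

open Groth.Agent.Lib.helper3 in
theorem isSyntomicMor_of {X : Scheme.{u}} (U : X.Opens) (hU : IsAffineOpen U) (B : Type u)
    [CommRing B] [Algebra Γ(X, U) B] (hB : Synt.IsSyntomic Γ(X, U) B) :
    Synt.IsSyntomicMor
      (Spec.map (CommRingCat.ofHom (algebraMap Γ(X, U) B)) ≫ hU.fromSpec) := by
  intro x
  have e := le_preimage U hU (CommRingCat.of B) (CommRingCat.ofHom (algebraMap Γ(X, U) B))
  refine ⟨⟨⊤, isAffineOpen_top _⟩, ⟨U, hU⟩, e, trivial, ?_⟩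
  have key := appLE_key U hU (CommRingCat.of B) (CommRingCat.ofHom (algebraMap Γ(X, U) B)) e
  letI : Algebra Γ(X, U) Γ(Spec (CommRingCat.of B), ⊤) :=
    ((Spec.map (CommRingCat.ofHom (algebraMap Γ(X, U) B)) ≫ hU.fromSpec).appLE U ⊤ e).hom.toAlgebra
  let eq : B ≃ₐ[Γ(X, U)] Γ(Spec (CommRingCat.of B), ⊤) :=
    AlgEquiv.ofRingEquiv (f := (Scheme.ΓSpecIso (CommRingCat.of B)).symm.commRingCatIsoToRingEquiv)
      (fun a => by
        rw [RingHom.algebraMap_toAlgebra, key]
        rfl)
  exact SyntTransport.isSyntomic_of_algEquiv eq hB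

/-- Let p be a prime, X a scheme and a a global section of the structure sheaf of X. There is a covering
of X for the syntomic topology, that is a jointly surjective family of syntomic morphisms X_i → X,
such that the restriction of a to each X_i is a p-th power. (The source states the surjectivity of
the p-th power map of the structure sheaf on the small syntomic site of a syntomic scheme over a
perfect field of characteristic p; the covering it uses elsewhere, adjoining a p-th root T^p = a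
over affine pieces, gives the statement for every scheme, which is the form given here.) -/
theorem result (p : ℕ) [Fact p.Prime] (X : Scheme.{u}) (a : Γ(X, ⊤)) :
    ∃ 𝒰 : Scheme.Cover.{u} (Scheme.precoverage @Synt.IsSyntomicMor) X,
      ∀ i : 𝒰.I₀, ∃ b : Γ(𝒰.X i, ⊤), b ^ p = (𝒰.f i).appTop a := by
  classical
  -- restriction of `a` to an affine open
  let aU : ∀ U : X.affineOpens, Γ(X, U.1) := fun U => X.presheaf.map (homOfLE le_top).op a
  let B : X.affineOpens → Type u := fun U =>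
    AdjoinRoot (Polynomial.X ^ p - Polynomial.C (aU U) : Polynomial Γ(X, U.1))
  refine ⟨Scheme.Cover.mkOfCovers X.affineOpens (fun U => Spec (CommRingCat.of (B U)))
    (fun U => Spec.map (CommRingCat.ofHom (algebraMap Γ(X, U.1) (B U))) ≫ U.2.fromSpec) ?_ ?_, ?_⟩
  · intro x
    obtain ⟨W, hW, hxW, -⟩ := exists_isAffineOpen_mem_and_subset (x := x) (U := ⊤) trivial
    have hx : x ∈ Set.range hW.fromSpec := by
      rw [hW.range_fromSpec]
      exact hxW
    obtain ⟨z, rfl⟩ := hx
    have hff : Module.FaithfullyFlat Γ(X, W) (B ⟨W, hW⟩) :=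
      (Groth.Agent.S18934.result p Γ(X, W) (aU ⟨W, hW⟩)).2
    obtain ⟨y, hy⟩ := PrimeSpectrum.comap_surjective_of_faithfullyFlat
      (A := Γ(X, W)) (B := B ⟨W, hW⟩) z
    refine ⟨⟨W, hW⟩, y, ?_⟩
    rw [Scheme.Hom.comp_apply]
    congr 1
  · intro U
    exact isSyntomicMor_of U.1 U.2 (B U) (Groth.Agent.S18934.result p Γ(X, U.1) (aU U)).1
  · intro U
    change ∃ b : Γ(Spec (CommRingCat.of (B U)), ⊤), b ^ p =
      (Spec.map (CommRingCat.ofHom (algebraMap Γ(X, U.1) (B U))) ≫ U.2.fromSpec).appTop a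
    refine ⟨(Scheme.ΓSpecIso (CommRingCat.of (B U))).inv
      (AdjoinRoot.root (Polynomial.X ^ p - Polynomial.C (aU U) : Polynomial Γ(X, U.1))), ?_⟩
    have e := le_preimage U.1 U.2 (CommRingCat.of (B U))
      (CommRingCat.ofHom (algebraMap Γ(X, U.1) (B U)))
    have key := appLE_key U.1 U.2 (CommRingCat.of (B U))
      (CommRingCat.ofHom (algebraMap Γ(X, U.1) (B U))) e
    have h1 : (Spec.map (CommRingCat.ofHom (algebraMap Γ(X, U.1) (B U))) ≫ U.2.fromSpec).appTop =
        X.presheaf.map (homOfLE le_top).op ≫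
          (Spec.map (CommRingCat.ofHom (algebraMap Γ(X, U.1) (B U))) ≫ U.2.fromSpec).appLE U.1 ⊤ e := by
      rw [Scheme.Hom.map_appLE]
      simp [Scheme.Hom.appLE]
    rw [h1, key]
    change _ = (Scheme.ΓSpecIso (CommRingCat.of (B U))).inv (algebraMap Γ(X, U.1) (B U) (aU U))
    rw [← map_pow]
    congr 1
    have hroot := AdjoinRoot.eval₂_root (Polynomial.X ^ p - Polynomial.C (aU U) : Polynomial Γ(X, U.1))
    simp only [Polynomial.eval₂_sub, Polynomial.eval₂_pow, Polynomial.eval₂_X, Polynomial.eval₂_C,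
      sub_eq_zero] at hroot
    exact hroot

end Groth.Agent.S18945
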