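import Groth.Statements.S18946
import Mathlib

set_option autoImplicit false
universe u
open scoped BigOperators
open InvQ

namespace Groth.Agent.S18946

open MvPolynomial in
theorem scale_monomial {k : Type u} [Field k] {m : ℕ} (σ : Fin m → k) (e : Fin m →₀ ℕ) (c : k) :
    aeval (fun i => C (σ i) * X i) (monomial e c) =
      monomial e (c * ∏ i, σ i ^ e i) := by
  rw [aeval_monomial, Finsupp.prod_fintype _ _ (fun i => pow_zero _)]
  simp only [mul_pow, Finset.prod_mul_distrib]
  rw [monomial_eq, Finsupp.prod_fintype _ _ (fun i => pow_zero _)]
  simp only [← map_pow, ← map_prod, map_mul]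
  rw [MvPolynomial.algebraMap_eq]
  ring

open MvPolynomial in
theorem coeff_scale {k : Type u} [Field k] {m : ℕ} (σ : Fin m → k) (f : MvPolynomial (Fin m) k)
    (d : Fin m →₀ ℕ) :
    coeff d (aeval (fun i => C (σ i) * X i) f) = (∏ i, σ i ^ d i) * coeff d f := by
  induction f using MvPolynomial.induction_on' with
  | monomial e c =>
    rw [scale_monomial, coeff_monomial, coeff_monomial]
    split_ifs with h
    · subst h
      ring
    · simp
  | add p q hp hq =>
    rw [map_add, coeff_add, coeff_add, hp, hq]
    ring


/-- Let k be an algebraically closed field of characteristic zero and n a natural number, and let the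
torus of (n+1)-tuples of units of k with product 1 act on the polynomial ring k[t_0, ..., t_n] by
rescaling each variable t_i by the i-th unit. A polynomial is fixed by every such rescaling if and
only if it lies in the k-subalgebra generated by the product t_0 t_1 ... t_n. (This is the
computation of the ring of functions on affine (n+1)-space invariant under the maximal diagonal
torus of the special linear group, identified with the polynomial ring in the single coordinate t =
t_0 ... t_n of the line it maps to by the product map; invariance is tested on k-valued points of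
the torus, which over an infinite field is the same as invariance under the group scheme.) -/
theorem result
    (k : Type u) [Field k] [IsAlgClosed k] [CharZero k] (n : ℕ)
    (f : MvPolynomial (Fin (n + 1)) k) :
    (∀ σ : Fin (n + 1) → kˣ, ∏ i, (σ i : k) = 1 →
        MvPolynomial.aeval (fun i => MvPolynomial.C (σ i : k) * MvPolynomial.X i) f = f) ↔
      f ∈ Algebra.adjoin k ({∏ i : Fin (n + 1), MvPolynomial.X i} : Set (MvPolynomial (Fin (n + 1)) k)) := by
  classical
  constructor
  · intro h
    -- every monomial in the support has constant exponent
    have hconst : ∀ d ∈ f.support, ∀ i j, d i = d j := by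
      intro d hd i j
      by_contra hij
      have hne : i ≠ j := fun h => hij (h ▸ rfl)
      have h2 : (2 : k) ≠ 0 := two_ne_zero
      let σ : Fin (n + 1) → kˣ := fun l =>
        if l = i then Units.mk0 2 h2 else if l = j then (Units.mk0 2 h2)⁻¹ else 1
      have hσi : σ i = Units.mk0 2 h2 := by simp [σ]
      have hσj : σ j = (Units.mk0 2 h2)⁻¹ := by simp [σ, hne.symm]
      have hσo : ∀ l, l ≠ i ∧ l ≠ j → σ l = 1 := by
        intro l hl
        simp [σ, hl.1, hl.2]
      have hprod : ∏ l, (σ l : k) = 1 := by
        rw [Finset.prod_eq_mul i j hne (fun l _ hl => by rw [hσo l hl]; rfl)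
          (fun h => absurd (Finset.mem_univ _) h) (fun h => absurd (Finset.mem_univ _) h),
          hσi, hσj]
        simp
      have h1 := congrArg (MvPolynomial.coeff d) (h σ hprod)
      rw [coeff_scale] at h1
      have hc : MvPolynomial.coeff d f ≠ 0 := MvPolynomial.mem_support_iff.1 hd
      have h3 : (∏ l, (σ l : k) ^ d l) = 1 := by
        have : ((∏ l, (σ l : k) ^ d l) - 1) * MvPolynomial.coeff d f = 0 := by
          rw [sub_mul, h1, one_mul, sub_self]
        rcases mul_eq_zero.1 this with h | h
        · exact sub_eq_zero.1 h
        · exact absurd h hc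
      rw [Finset.prod_eq_mul i j hne (fun l _ hl => by rw [hσo l hl]; simp)
        (fun h => absurd (Finset.mem_univ _) h) (fun h => absurd (Finset.mem_univ _) h),
        hσi, hσj] at h3
      simp only [Units.val_mk0, Units.val_inv_eq_inv_val, inv_pow] at h3
      have h4 : (2 : k) ^ d i = 2 ^ d j := by
        have h5 : (2 : k) ^ d j ≠ 0 := pow_ne_zero _ h2
        field_simp at h3
        exact h3
      have h6 : ((2 ^ d i : ℕ) : k) = ((2 ^ d j : ℕ) : k) := by
        push_cast
        exact h4
      exact hij (Nat.pow_right_injective le_rfl (Nat.cast_injective h6))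
    rw [f.as_sum]
    refine Subalgebra.sum_mem _ fun d hd => ?_
    have hd' : ∀ i, d i = d 0 := fun i => hconst d hd i 0
    have hmon : MvPolynomial.monomial d (MvPolynomial.coeff d f) =
        MvPolynomial.coeff d f • (∏ i : Fin (n + 1), MvPolynomial.X i) ^ d 0 := by
      rw [MvPolynomial.monomial_eq, Finsupp.prod_fintype _ _ (fun i => pow_zero _),
        MvPolynomial.smul_eq_C_mul, ← Finset.prod_pow]
      congr 1
      exact Finset.prod_congr rfl fun i _ => by rw [hd' i]
    rw [hmon]
    exact Subalgebra.smul_mem _ (Subalgebra.pow_mem _ (Algebra.subset_adjoin (Set.mem_singleton _)) _) _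
  · intro hf σ hσ
    have hle : Algebra.adjoin k
        ({∏ i : Fin (n + 1), MvPolynomial.X i} : Set (MvPolynomial (Fin (n + 1)) k)) ≤
        AlgHom.equalizer
          (MvPolynomial.aeval (fun i => MvPolynomial.C (σ i : k) * MvPolynomial.X i))
          (AlgHom.id k _) := by
      rw [Algebra.adjoin_le_iff]
      intro g hg
      rw [Set.mem_singleton_iff] at hg
      subst hg
      show MvPolynomial.aeval _ _ = AlgHom.id k _ _
      rw [map_prod]
      simp only [MvPolynomial.aeval_X, Finset.prod_mul_distrib, AlgHom.id_apply]
      rw [← map_prod, hσ, map_one, one_mul]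
    exact hle hf

end Groth.Agent.S18946
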