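import Groth.Statements.S18949
import Mathlib

set_option autoImplicit false
universe u v
open CExt

namespace Groth.Agent.S18949

/-- Automorphisms over the base: let f : E → G be a surjective homomorphism of groups with central
kernel A. For every homomorphism χ : G → A the map e ↦ χ(f(e)) · e is an endomorphism of E over G
which is the identity on A; and every endomorphism α of E with f ∘ α = f and α equal to the identity
on A is of this form for exactly one χ. (In the source this identifies the automorphisms of a
central extension fixing its kernel with Hom(G, A), for extensions of profinite étale group schemes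
over a field; stated here for abstract groups.) -/
theorem result {E : Type u} {G : Type v} [Group E] [Group G]
    (f : E →* G) (hf : Function.Surjective f) (hker : f.ker ≤ Subgroup.center E) :
    (∀ χ : G →* f.ker, ∃ α : E →* E, f.comp α = f ∧ (∀ a ∈ f.ker, α a = a) ∧
        ∀ e : E, α e = (χ (f e) : E) * e) ∧
      ∀ α : E →* E, f.comp α = f → (∀ a ∈ f.ker, α a = a) →
        ∃! χ : G →* f.ker, ∀ e : E, α e = (χ (f e) : E) * e := by
  refine ⟨?_, ?_⟩
  · intro χ
    have hcent : ∀ (a : f.ker) (e : E), (a : E) * e = e * (a : E) := fun a e =>
      ((Subgroup.mem_center_iff.mp (hker a.2)) e).symm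
    have hfk : ∀ a : f.ker, f (a : E) = 1 := fun a => MonoidHom.mem_ker.mp a.2
    refine ⟨{ toFun := fun e => (χ (f e) : E) * e
              map_one' := by simp
              map_mul' := fun x y => by
                simp only [map_mul, Subgroup.coe_mul]
                rw [mul_assoc, mul_assoc]
                congr 1
                rw [← mul_assoc, hcent, mul_assoc] }, ?_, ?_, ?_⟩
    · ext e
      simp [hfk]
    · intro a ha
      simp [MonoidHom.mem_ker.mp ha]
    · intro e
      rfl
  · intro α hα hαA
    have hfix : ∀ e : E, f (α e) = f e := fun e => by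
      have := congrArg (fun φ => φ e) hα
      simpa using this
    have hmem : ∀ e : E, α e * e⁻¹ ∈ f.ker := fun e => by
      rw [MonoidHom.mem_ker, map_mul, hfix, map_inv, mul_inv_cancel]
    have hcent : ∀ (a : E), a ∈ f.ker → ∀ (e : E), a * e = e * a := fun a ha e =>
      ((Subgroup.mem_center_iff.mp (hker ha)) e).symm
    -- c e := α e * e⁻¹ depends only on f e
    have hdep : ∀ e e' : E, f e = f e' → α e * e⁻¹ = α e' * e'⁻¹ := by
      intro e e' h
      have hk : e'⁻¹ * e ∈ f.ker := by
        rw [MonoidHom.mem_ker, map_mul, map_inv, h, inv_mul_cancel]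
      have h1 := hαA _ hk
      -- e = e' * k
      have he : e = e' * (e'⁻¹ * e) := by group
      rw [he, map_mul, h1]
      group
    -- define χ using surjectivity
    choose s hs using hf
    have hχmul : ∀ g h : G, α (s (g * h)) * (s (g * h))⁻¹ =
        (α (s g) * (s g)⁻¹) * (α (s h) * (s h)⁻¹) := by
      intro g h
      have : f (s (g * h)) = f (s g * s h) := by rw [hs, map_mul, hs, hs]
      rw [hdep _ _ this, map_mul]
      have hc := hcent _ (hmem (s h))
      -- α(sg) α(sh) (sh)⁻¹ (sg)⁻¹ = α(sg) (sg)⁻¹ * (α(sh)(sh)⁻¹)
      rw [mul_inv_rev]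
      calc α (s g) * α (s h) * ((s h)⁻¹ * (s g)⁻¹)
          = α (s g) * ((α (s h) * (s h)⁻¹) * (s g)⁻¹) := by group
        _ = α (s g) * ((s g)⁻¹ * (α (s h) * (s h)⁻¹)) := by rw [hc]
        _ = _ := by group
    let χ : G →* f.ker :=
      { toFun := fun g => ⟨α (s g) * (s g)⁻¹, hmem _⟩
        map_one' := by
          apply Subtype.ext
          have : f (s 1) = f 1 := by rw [hs, map_one]
          simp only [hdep _ _ this]
          simp
        map_mul' := fun g h => by
          apply Subtype.ext
          simpa using hχmul g h }
    refine ⟨χ, ?_, ?_⟩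
    · intro e
      show α e = (α (s (f e)) * (s (f e))⁻¹) * e
      rw [hdep (s (f e)) e (hs _)]
      group
    · intro χ' hχ'
      ext g
      show (χ' g : E) = α (s g) * (s g)⁻¹
      have := hχ' (s g)
      rw [hs] at this
      rw [this]
      group

end Groth.Agent.S18949
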