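import Groth.Statements.S18953
import Mathlib

set_option autoImplicit false
universe u v
open OrbPic

namespace Groth.Agent.S18953

/-- Let G₁ and G₂ be groups with subsets C₁ ⊆ G₁ and C₂ ⊆ G₂, and let C ⊆ G₁ × G₂ be the union of C₁ ×
{1} and {1} × C₂. Restricting the character and the weight along the two inclusions G₁ → G₁ × G₂ and
G₂ → G₁ × G₂ is a bijection from the geometric partial orbifold line bundles of G₁ × G₂ with respect
to C onto pairs of geometric partial orbifold line bundles of G₁ with respect to C₁ and of G₂ with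
respect to C₂. (As in the source after a choice of roots of unity, each group stands for the
geometric points of a tame finite étale group scheme, characters are homomorphisms to ℚ/ℤ and
weights are class functions; the source states the Galois-equivariant version, which follows by
taking invariants.) -/
theorem result (G₁ : Type u) (G₂ : Type v) [Group G₁] [Group G₂] (C₁ : Set G₁) (C₂ : Set G₂) :
    Set.BijOn
      (fun p : (Additive (G₁ × G₂) →+ W4c6brauerbgmalle.QmodZ) × (G₁ × G₂ → ℚ) =>
        ((p.1.comp (MonoidHom.toAdditive (MonoidHom.inl G₁ G₂)), fun g => p.2 (g, 1)),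
          (p.1.comp (MonoidHom.toAdditive (MonoidHom.inr G₁ G₂)), fun g => p.2 (1, g))))
      (W4c6brauerbgmalle.picOrb (G₁ × G₂) ((fun g => (g, (1 : G₂))) '' C₁ ∪ (fun g => ((1 : G₁), g)) '' C₂))
      ((W4c6brauerbgmalle.picOrb G₁ C₁ : Set _) ×ˢ (W4c6brauerbgmalle.picOrb G₂ C₂ : Set _)) := by
  classical
  set C : Set (G₁ × G₂) := (fun g => (g, (1 : G₂))) '' C₁ ∪ (fun g => ((1 : G₁), g)) '' C₂ with hCdef
  have hC1 : ∀ g : G₁, (g, (1 : G₂)) ∈ C ↔ (g ∈ C₁ ∨ (g = 1 ∧ (1 : G₂) ∈ C₂)) := by
    intro g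
    constructor
    · rintro (⟨a, ha, hag⟩ | ⟨a, ha, hag⟩)
      · left
        have : a = g := congrArg Prod.fst hag
        rwa [← this]
      · right
        have h1 : (1 : G₁) = g := congrArg Prod.fst hag
        have h2 : a = 1 := congrArg Prod.snd hag
        exact ⟨h1.symm, h2 ▸ ha⟩
    · rintro (hg | ⟨rfl, h1⟩)
      · exact Or.inl ⟨g, hg, rfl⟩
      · exact Or.inr ⟨1, h1, rfl⟩
  have hC2 : ∀ g : G₂, ((1 : G₁), g) ∈ C ↔ (g ∈ C₂ ∨ (g = 1 ∧ (1 : G₁) ∈ C₁)) := by
    intro g
    constructor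
    · rintro (⟨a, ha, hag⟩ | ⟨a, ha, hag⟩)
      · right
        have h1 : (1 : G₂) = g := congrArg Prod.snd hag
        have h2 : a = 1 := congrArg Prod.fst hag
        exact ⟨h1.symm, h2 ▸ ha⟩
      · left
        have : a = g := congrArg Prod.snd hag
        rwa [← this]
    · rintro (hg | ⟨rfl, h1⟩)
      · exact Or.inr ⟨g, hg, rfl⟩
      · exact Or.inl ⟨1, h1, rfl⟩
  have hCmem : ∀ g : G₁ × G₂, g ∈ C → (g.2 = 1 ∧ g.1 ∈ C₁) ∨ (g.1 = 1 ∧ g.2 ∈ C₂) := by
    rintro g (⟨a, ha, rfl⟩ | ⟨a, ha, rfl⟩)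
    · exact Or.inl ⟨rfl, ha⟩
    · exact Or.inr ⟨rfl, ha⟩
  refine ⟨?_, ?_, ?_⟩
  · -- MapsTo
    rintro ⟨χ, w⟩ ⟨h1, h2, h3, h4⟩
    simp only at h1 h2 h3 h4
    refine Set.mem_prod.mpr ⟨⟨?_, ?_, ?_, ?_⟩, ⟨?_, ?_, ?_, ?_⟩⟩
    · exact h1
    · intro g hg
      by_cases hg1 : g = 1
      · subst hg1; exact h1
      · apply h2
        rw [hC1]
        rintro (h | ⟨h, _⟩)
        · exact hg h
        · exact hg1 h
    · intro g h
      have := h3 (g, 1) (h, 1)
      simpa using this
    · intro g hg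
      exact h4 (g, 1) ((hC1 g).mpr (Or.inl hg))
    · exact h1
    · intro g hg
      by_cases hg1 : g = 1
      · subst hg1; exact h1
      · apply h2
        rw [hC2]
        rintro (h | ⟨h, _⟩)
        · exact hg h
        · exact hg1 h
    · intro g h
      have := h3 (1, g) (1, h)
      simpa using this
    · intro g hg
      exact h4 (1, g) ((hC2 g).mpr (Or.inl hg))
  · -- InjOn
    rintro ⟨χ, w⟩ ⟨h1, h2, h3, h4⟩ ⟨χ', w'⟩ ⟨h1', h2', h3', h4'⟩ heq
    simp only [Prod.mk.injEq] at heq
    obtain ⟨⟨hχ1, hw1⟩, ⟨hχ2, hw2⟩⟩ := heq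
    simp only at h1 h2 h3 h4 h1' h2' h3' h4'
    have hχ : χ = χ' := by
      refine AddMonoidHom.ext fun g => ?_
      obtain ⟨⟨g₁, g₂⟩, rfl⟩ := Additive.ofMul.surjective g
      have hdec : (Additive.ofMul ((g₁, g₂) : G₁ × G₂)) =
          Additive.ofMul ((g₁, 1) : G₁ × G₂) + Additive.ofMul ((1, g₂) : G₁ × G₂) := by
        rw [← ofMul_mul]
        simp
      have e1 := DFunLike.congr_fun hχ1 (Additive.ofMul g₁)
      have e2 := DFunLike.congr_fun hχ2 (Additive.ofMul g₂)
      simp only [AddMonoidHom.comp_apply, MonoidHom.toAdditive_apply_apply, toMul_ofMul,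
        MonoidHom.inl_apply, MonoidHom.inr_apply] at e1 e2
      rw [hdec, map_add, map_add, e1, e2]
    subst hχ
    have hw : w = w' := by
      funext g
      by_cases hg : g ∈ C
      · rcases hCmem g hg with ⟨hg2, _⟩ | ⟨hg1, _⟩
        · have := congrFun hw1 g.1
          have hg' : g = (g.1, 1) := Prod.ext rfl hg2
          rw [hg']
          exact this
        · have := congrFun hw2 g.2
          have hg' : g = (1, g.2) := Prod.ext hg1 rfl
          rw [hg']
          exact this
      · rw [h2 g hg, h2' g hg]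
    rw [hw]
  · -- SurjOn
    rintro ⟨⟨χ₁, w₁⟩, ⟨χ₂, w₂⟩⟩ hq
    obtain ⟨⟨a1, a2, a3, a4⟩, ⟨b1, b2, b3, b4⟩⟩ := Set.mem_prod.mp hq
    simp only at a1 a2 a3 a4 b1 b2 b3 b4
    let χ : Additive (G₁ × G₂) →+ W4c6brauerbgmalle.QmodZ :=
      χ₁.comp (MonoidHom.toAdditive (MonoidHom.fst G₁ G₂)) +
        χ₂.comp (MonoidHom.toAdditive (MonoidHom.snd G₁ G₂))
    have hχ : ∀ g : G₁ × G₂, χ (Additive.ofMul g) = χ₁ (Additive.ofMul g.1) + χ₂ (Additive.ofMul g.2) :=
      fun g => rfl
    let w : G₁ × G₂ → ℚ := fun g => if g.2 = 1 then w₁ g.1 else if g.1 = 1 then w₂ g.2 else 0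
    have hw : ∀ g : G₁ × G₂, w g = if g.2 = 1 then w₁ g.1 else if g.1 = 1 then w₂ g.2 else 0 :=
      fun g => rfl
    have conj1 : ∀ (g h : G₁), h * g * h⁻¹ = 1 ↔ g = 1 := by
      intro g h
      constructor
      · intro h1
        have := congrArg (fun x => h⁻¹ * x * h) h1
        simpa [mul_assoc] using this
      · rintro rfl
        simp
    have conj2 : ∀ (g h : G₂), h * g * h⁻¹ = 1 ↔ g = 1 := by
      intro g h
      constructor
      · intro h1
        have := congrArg (fun x => h⁻¹ * x * h) h1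
        simpa [mul_assoc] using this
      · rintro rfl
        simp
    refine ⟨(χ, w), ⟨?_, ?_, ?_, ?_⟩, ?_⟩
    · show w 1 = 0
      rw [hw]
      simp [a1]
    · intro g hg
      show w g = 0
      rw [hw]
      by_cases hg2 : g.2 = 1
      · rw [if_pos hg2]
        apply a2
        intro h
        apply hg
        have hg' : g = (g.1, 1) := Prod.ext rfl hg2
        rw [hg']
        exact (hC1 g.1).mpr (Or.inl h)
      · rw [if_neg hg2]
        by_cases hg1 : g.1 = 1
        · rw [if_pos hg1]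
          apply b2
          intro h
          apply hg
          have hg' : g = (1, g.2) := Prod.ext hg1 rfl
          rw [hg']
          exact (hC2 g.2).mpr (Or.inl h)
        · rw [if_neg hg1]
    · intro g h
      show w (h * g * h⁻¹) = w g
      rw [hw, hw]
      simp only [Prod.fst_mul, Prod.snd_mul, Prod.fst_inv, Prod.snd_inv, conj1, conj2, a3, b3]
    · intro g hg
      show W4c6brauerbgmalle.toQmodZ (w g) = χ (Additive.ofMul g)
      rw [hχ, hw]
      rcases hCmem g hg with ⟨hg2, hg1⟩ | ⟨hg1, hg2⟩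
      · rw [if_pos hg2, a4 g.1 hg1, hg2]
        simp
      · by_cases h2 : g.2 = 1
        · rw [if_pos h2, hg1, a1, h2]
          simp
        · rw [if_neg h2, if_pos hg1, b4 g.2 hg2, hg1]
          simp
    · simp only [Prod.mk.injEq]
      refine ⟨⟨?_, ?_⟩, ⟨?_, ?_⟩⟩
      · refine AddMonoidHom.ext fun g => ?_
        obtain ⟨g, rfl⟩ := Additive.ofMul.surjective g
        simp only [AddMonoidHom.comp_apply, MonoidHom.toAdditive_apply_apply, toMul_ofMul,
          MonoidHom.inl_apply]
        rw [hχ]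
        simp
      · funext g
        show w (g, 1) = w₁ g
        rw [hw]
        simp
      · refine AddMonoidHom.ext fun g => ?_
        obtain ⟨g, rfl⟩ := Additive.ofMul.surjective g
        simp only [AddMonoidHom.comp_apply, MonoidHom.toAdditive_apply_apply, toMul_ofMul,
          MonoidHom.inr_apply]
        rw [hχ]
        simp
      · funext g
        show w (1, g) = w₂ g
        rw [hw]
        by_cases hg : g = 1
        · subst hg
          simp [a1, b1]
        · simp [hg]

end Groth.Agent.S18953
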