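import Groth.Statements.S18974
import Mathlib

set_option autoImplicit false
universe u
open CAlg

namespace Groth.Agent.S18974
open Polynomial Finset

section helpers



section
variable {A : Type u} [CommRing A] [Algebra ℚ A] (D : Derivation ℚ A A)

/-- iterated derivation as a function -/
noncomputable def Dn (n : ℕ) (x : A) : A := ((D : A →ₗ[ℚ] A) ^ n) x

lemma Dn_zero (x : A) : Dn D 0 x = x := by simp [Dn]

lemma Dn_succ (n : ℕ) (x : A) : Dn D (n + 1) x = D (Dn D n x) := by
  simp only [Dn, pow_succ', Module.End.mul_apply]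
  rfl

lemma Dn_succ' (n : ℕ) (x : A) : Dn D (n + 1) x = Dn D n (D x) := by
  simp only [Dn, pow_succ, Module.End.mul_apply]
  rfl

lemma Dn_add (m n : ℕ) (x : A) : Dn D (m + n) x = Dn D m (Dn D n x) := by
  simp only [Dn, pow_add, Module.End.mul_apply]

lemma Dn_zero_of_le {x : A} {N n : ℕ} (h : Dn D N x = 0) (hn : N ≤ n) : Dn D n x = 0 := by
  obtain ⟨k, rfl⟩ := Nat.exists_eq_add_of_le hn
  rw [add_comm, Dn_add, h]
  simp [Dn]

lemma Dn_add' (n : ℕ) (x y : A) : Dn D n (x + y) = Dn D n x + Dn D n y := by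
  simp [Dn]

lemma Dn_smul (n : ℕ) (q : ℚ) (x : A) : Dn D n (q • x) = q • Dn D n x := by
  simp [Dn]

lemma Dn_mul (n : ℕ) (x y : A) :
    Dn D n (x * y) = ∑ ij ∈ antidiagonal n, (n.choose ij.1 : A) * (Dn D ij.1 x * Dn D ij.2 y) := by
  induction n with
  | zero => simp [Dn_zero]
  | succ n ih =>
    rw [sum_antidiagonal_choose_succ_mul (fun i j => Dn D i x * Dn D j y) n, Dn_succ, ih, map_sum]
    rw [← Finset.sum_add_distrib]
    refine Finset.sum_congr rfl fun ⟨i, j⟩ hij => ?_
    rw [n.choose_symm_of_eq_add (mem_antidiagonal.1 hij).symm]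
    simp only [Derivation.leibniz, Dn_succ, smul_eq_mul, Derivation.map_natCast, mul_zero]
    ring

/-- divided-power coefficient -/
noncomputable def dp (n : ℕ) (x : A) : A := ((n.factorial : ℚ)⁻¹) • Dn D n x

lemma dp_mul (n : ℕ) (x y : A) :
    dp D n (x * y) = ∑ ij ∈ antidiagonal n, dp D ij.1 x * dp D ij.2 y := by
  unfold dp
  rw [Dn_mul, Finset.smul_sum]
  refine Finset.sum_congr rfl fun ⟨i, j⟩ hij => ?_
  have hn : n = i + j := (mem_antidiagonal.1 hij).symm
  subst hn
  simp only
  have hc : (((i + j).choose i : ℕ) : A) * (Dn D i x * Dn D j y) =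
      (((i + j).choose i : ℕ) : ℚ) • (Dn D i x * Dn D j y) := by
    rw [Algebra.smul_def, map_natCast]
  rw [smul_mul_smul_comm, hc, smul_smul]
  congr 1
  have h : (i + j).choose i * i.factorial * j.factorial = (i + j).factorial := by
    have := Nat.add_choose_mul_factorial_mul_factorial j i
    rw [add_comm j i] at this
    rw [← this]; ring
  have h' : (((i + j).choose i : ℕ) : ℚ) * (i.factorial : ℚ) * (j.factorial : ℚ) = ((i + j).factorial : ℚ) := by
    exact_mod_cast h
  have hi : (i.factorial : ℚ) ≠ 0 := by exact_mod_cast i.factorial_ne_zero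
  have hj : (j.factorial : ℚ) ≠ 0 := by exact_mod_cast j.factorial_ne_zero
  have hij' : ((i + j).factorial : ℚ) ≠ 0 := by exact_mod_cast (i + j).factorial_ne_zero
  field_simp
  linarith [h']

lemma dp_zero_of_le {x : A} {N n : ℕ} (h : Dn D N x = 0) (hn : N ≤ n) : dp D n x = 0 := by
  simp [dp, Dn_zero_of_le D h hn]

variable (hnil : ∀ x : A, ∃ n : ℕ, Dn D n x = 0)

noncomputable def Efun (x : A) : A[X] := by
  classical
  exact ∑ n ∈ range (Nat.find (hnil x)), monomial n (dp D n x)

lemma coeff_Efun (x : A) (n : ℕ) : (Efun D hnil x).coeff n = dp D n x := by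
  classical
  unfold Efun
  rw [finsetSum_coeff]
  simp only [coeff_monomial]
  rw [Finset.sum_ite_eq']
  split_ifs with h
  · rfl
  · rw [mem_range, not_lt] at h
    exact (dp_zero_of_le D (Nat.find_spec (hnil x)) h).symm

lemma Efun_eq (x : A) (N : ℕ) (h : Dn D N x = 0) :
    Efun D hnil x = ∑ n ∈ range N, monomial n (dp D n x) := by
  classical
  ext n
  rw [coeff_Efun, finsetSum_coeff]
  simp only [coeff_monomial]
  rw [Finset.sum_ite_eq']
  split_ifs with hn
  · rfl
  · rw [mem_range, not_lt] at hn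
    exact dp_zero_of_le D h hn

lemma Dn_one_succ (n : ℕ) : Dn D (n + 1) (1 : A) = 0 := by
  rw [Dn_succ', Derivation.map_one_eq_zero]
  simp [Dn]

noncomputable def E : A →+* A[X] where
  toFun := Efun D hnil
  map_one' := by
    ext n
    rw [coeff_Efun, coeff_one]
    cases n with
    | zero => simp [dp, Dn_zero]
    | succ n => simp [dp, Dn_one_succ]
  map_mul' x y := by
    ext n
    rw [coeff_Efun, coeff_mul, dp_mul]
    simp only [coeff_Efun]
  map_zero' := by
    ext n
    simp [coeff_Efun, dp, Dn]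
  map_add' x y := by
    ext n
    simp [coeff_Efun, dp, Dn_add', smul_add]

lemma coeff_E (x : A) (n : ℕ) : (E D hnil x).coeff n = dp D n x := coeff_Efun D hnil x n

lemma E_eq (x : A) (N : ℕ) (h : Dn D N x = 0) :
    E D hnil x = ∑ n ∈ range N, monomial n (dp D n x) := Efun_eq D hnil x N h

variable (a : A)

/-- the projection onto the kernel of `D` -/
noncomputable def pr : A →+* A := (eval₂RingHom (RingHom.id A) (-a)).comp (E D hnil)

/-- coefficient -/
noncomputable def cc (n : ℕ) : ℚ := (-1 : ℚ) ^ n * (n.factorial : ℚ)⁻¹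

lemma term_eq (n : ℕ) (d : A) :
    ((n.factorial : ℚ)⁻¹ • d) * (-a) ^ n = cc n • (d * a ^ n) := by
  unfold cc
  rw [neg_pow, mul_smul, Algebra.smul_def (((-1 : ℚ)) ^ n), map_pow, map_neg, map_one]
  rw [smul_mul_assoc]
  rw [mul_smul_comm]
  congr 1
  ring

lemma pr_eq (x : A) (N : ℕ) (h : Dn D N x = 0) :
    pr D hnil a x = ∑ n ∈ range N, cc n • (Dn D n x * a ^ n) := by
  unfold pr
  rw [RingHom.comp_apply, E_eq D hnil x N h, coe_eval₂RingHom, eval₂_finsetSum]
  refine Finset.sum_congr rfl fun n _ => ?_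
  rw [eval₂_monomial, RingHom.id_apply]
  exact term_eq a n _

variable (ha : D a = 1)
include ha

lemma Dn_two_a : Dn D 2 a = 0 := by
  rw [Dn_succ, Dn_succ, Dn_zero, ha, Derivation.map_one_eq_zero]

lemma pr_a : pr D hnil a a = 0 := by
  rw [pr_eq D hnil a a 2 (Dn_two_a D a ha)]
  simp only [Finset.sum_range_succ, Finset.sum_range_zero, zero_add, Dn_zero, pow_zero, mul_one,
    pow_one]
  have h1 : Dn D 1 a = 1 := by rw [Dn_succ, Dn_zero, ha]
  rw [h1]
  simp [cc]

omit ha in
lemma cc_succ (N : ℕ) : cc (N + 1) * ((N + 1 : ℕ) : ℚ) = - cc N := by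
  unfold cc
  rw [Nat.factorial_succ, pow_succ]
  have h1 : ((N + 1 : ℕ) : ℚ) ≠ 0 := by exact_mod_cast Nat.succ_ne_zero N
  have h2 : (N.factorial : ℚ) ≠ 0 := by exact_mod_cast N.factorial_ne_zero
  push_cast
  field_simp

lemma D_term (n : ℕ) (x : A) :
    D (cc (n + 1) • (Dn D (n + 1) x * a ^ (n + 1))) =
      cc (n + 1) • (Dn D (n + 2) x * a ^ (n + 1)) - cc n • (Dn D (n + 1) x * a ^ n) := by
  rw [Derivation.map_smul, Derivation.leibniz, Derivation.leibniz_pow, ha, ← Dn_succ]
  simp only [smul_eq_mul, Nat.add_sub_cancel, mul_one]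
  have hc : cc n • (Dn D (n + 1) x * a ^ n) =
      -(cc (n + 1) • ((n + 1 : ℕ) • (Dn D (n + 1) x * a ^ n))) := by
    rw [← Nat.cast_smul_eq_nsmul ℚ, smul_smul, cc_succ, neg_smul, neg_neg]
  rw [hc, sub_neg_eq_add, ← smul_add]
  congr 1
  simp only [nsmul_eq_mul]
  push_cast
  ring

lemma D_partial (N : ℕ) (x : A) :
    D (∑ n ∈ range (N + 1), cc n • (Dn D n x * a ^ n)) = cc N • (Dn D (N + 1) x * a ^ N) := by
  induction N with
  | zero =>
    simp [cc, Dn_zero, Dn_succ]
  | succ N ih =>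
    rw [Finset.sum_range_succ, map_add, ih, D_term D a ha]
    abel

lemma D_pr (x : A) : D (pr D hnil a x) = 0 := by
  obtain ⟨N, hN⟩ := hnil x
  have hN1 : Dn D (N + 1) x = 0 := Dn_zero_of_le D hN (Nat.le_succ N)
  rw [pr_eq D hnil a x (N + 1) hN1, D_partial D a ha, hN1, zero_mul, smul_zero]

omit ha in
lemma pr_of_D_zero (w : A) (hw : D w = 0) : pr D hnil a w = w := by
  have h1 : Dn D 1 w = 0 := by rw [Dn_succ, Dn_zero, hw]
  rw [pr_eq D hnil a w 1 h1]
  simp [cc, Dn_zero]

omit ha in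
lemma pr_sub (x : A) : ∃ z : A, pr D hnil a x = x + a * z := by
  obtain ⟨N, hN⟩ := hnil x
  have hN1 : Dn D (N + 1) x = 0 := Dn_zero_of_le D hN (Nat.le_succ N)
  refine ⟨∑ n ∈ range N, cc (n + 1) • (Dn D (n + 1) x * a ^ n), ?_⟩
  rw [pr_eq D hnil a x (N + 1) hN1, Finset.sum_range_succ', Finset.mul_sum, add_comm]
  congr 1
  · simp [cc, Dn_zero]
  · refine Finset.sum_congr rfl fun n _ => ?_
    rw [mul_smul_comm, pow_succ]
    congr 1
    ring

omit ha in
lemma dp_D (n : ℕ) (x : A) : dp D n (D x) = ((n + 1 : ℕ) : A) * dp D (n + 1) x := by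
  unfold dp
  rw [← Dn_succ', Nat.factorial_succ]
  have h1 : ((n + 1 : ℕ) : ℚ) ≠ 0 := by exact_mod_cast Nat.succ_ne_zero n
  have h2 : (n.factorial : ℚ) ≠ 0 := by exact_mod_cast n.factorial_ne_zero
  have h3 : ((n + 1 : ℕ) : A) * ((((n + 1) * n.factorial : ℕ) : ℚ)⁻¹ • Dn D (n + 1) x) =
      ((n + 1 : ℕ) : ℚ) • ((((n + 1) * n.factorial : ℕ) : ℚ)⁻¹ • Dn D (n + 1) x) := by
    rw [Algebra.smul_def ((n + 1 : ℕ) : ℚ), map_natCast]
  rw [h3, smul_smul]
  congr 1
  push_cast
  field_simp

/-- `θ x = x` (Taylor formula) -/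
lemma taylor (x : A) : eval₂ (pr D hnil a) a (E D hnil x) = x := by
  obtain ⟨N, hN⟩ := hnil x
  induction N generalizing x with
  | zero =>
    rw [Dn_zero] at hN
    subst hN
    simp
  | succ N ih =>
    set y := eval₂ (pr D hnil a) a (E D hnil x) with hy
    -- D y = D x
    have hDy : D y = D x := by
      have hN' : Dn D N (D x) = 0 := by rw [← Dn_succ']; exact hN
      rw [← ih (D x) hN', hy, E_eq D hnil x (N + 1) hN, E_eq D hnil (D x) N hN',
        eval₂_finsetSum, eval₂_finsetSum, map_sum, Finset.sum_range_succ']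
      simp only [eval₂_monomial, Derivation.leibniz, D_pr D hnil a ha, Derivation.leibniz_pow, ha,
        add_zero, pow_zero, smul_eq_mul, mul_one, Nat.add_sub_cancel]
      simp only [mul_zero, add_zero, nsmul_eq_mul]
      refine Finset.sum_congr rfl fun n _ => ?_
      rw [dp_D, map_mul, map_natCast]
      ring
    have h1 : pr D hnil a (y - x) = y - x := pr_of_D_zero D hnil a _ (by rw [map_sub, hDy, sub_self])
    have h2 : pr D hnil a y = pr D hnil a x := by
      rw [hy, hom_eval₂, pr_a D hnil a ha, eval₂_at_zero, RingHom.comp_apply, coeff_E]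
      have : dp D 0 x = x := by simp [dp, Dn_zero]
      rw [this]
      exact pr_of_D_zero D hnil a _ (D_pr D hnil a ha x)
    rw [map_sub, h2, sub_self] at h1
    exact (sub_eq_zero.1 h1.symm)

end



end helpers

/-- Let A be a commutative algebra over the rationals, D a locally nilpotent derivation of A and a an
element with D a = 1; write A' for the quotient of A by the ideal generated by a. Then there is a
ring isomorphism from A onto the polynomial ring A'[Y] which sends every x to the (finite) sum over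
n of (1/n!) (class of D^n x) Y^n; its inverse sends Y to a and the constant polynomial on the class
of x to the sum over n of ((-1)^n/n!) (D^n x) a^n, and under it D corresponds to the derivative
d/dY. (The source says only that A is a ring, in a setting over a field of characteristic zero; the
rational coefficients 1/n! require an algebra over the rationals, which is the hypothesis taken
here. Both sums are written over any range beyond which the iterates of D vanish at x.) -/
theorem result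
    (A : Type u) [CommRing A] [Algebra ℚ A] (D : Derivation ℚ A A)
    (hnil : ∀ x : A, ∃ n : ℕ, ((D : A →ₗ[ℚ] A) ^ n) x = 0) (a : A) (ha : D a = 1) :
    ∃ χ : A ≃+* Polynomial (A ⧸ Ideal.span ({a} : Set A)),
      (∀ (x : A) (N : ℕ), ((D : A →ₗ[ℚ] A) ^ N) x = 0 →
        χ x = ∑ n ∈ Finset.range N,
          ((n.factorial : ℚ)⁻¹ • Polynomial.C (Ideal.Quotient.mk (Ideal.span ({a} : Set A)) (((D : A →ₗ[ℚ] A) ^ n) x))) *
            Polynomial.X ^ n) ∧
      χ.symm Polynomial.X = a ∧
      (∀ (x : A) (N : ℕ), ((D : A →ₗ[ℚ] A) ^ N) x = 0 →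
        χ.symm (Polynomial.C (Ideal.Quotient.mk (Ideal.span ({a} : Set A)) x)) =
          ∑ n ∈ Finset.range N, (((-1 : ℚ) ^ n * (n.factorial : ℚ)⁻¹) • ((((D : A →ₗ[ℚ] A) ^ n) x) * a ^ n))) ∧
      ∀ p : Polynomial (A ⧸ Ideal.span ({a} : Set A)), χ (D (χ.symm p)) = Polynomial.derivative p := by
  have hnil' : ∀ x : A, ∃ n : ℕ, Dn D n x = 0 := hnil
  set I : Ideal A := Ideal.span ({a} : Set A) with hI
  let χ₀ : A →+* (A ⧸ I)[X] := (mapRingHom (Ideal.Quotient.mk I)).comp (E D hnil')
  have hprI : ∀ y ∈ I, pr D hnil' a y = 0 := by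
    intro y hy
    obtain ⟨z, rfl⟩ := Ideal.mem_span_singleton'.1 hy
    rw [map_mul, pr_a D hnil' a ha, mul_zero]
  let prq : A ⧸ I →+* A := Ideal.Quotient.lift I (pr D hnil' a) hprI
  let ψ₀ : (A ⧸ I)[X] →+* A := eval₂RingHom prq a
  have haI : Ideal.Quotient.mk I a = 0 :=
    Ideal.Quotient.eq_zero_iff_mem.2 (Ideal.subset_span rfl)
  have hmkpr : ∀ x, Ideal.Quotient.mk I (pr D hnil' a x) = Ideal.Quotient.mk I x := by
    intro x
    obtain ⟨z, hz⟩ := pr_sub D hnil' a x
    rw [hz, map_add, map_mul, haI, zero_mul, add_zero]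
  have hχa : χ₀ a = X := by
    show Polynomial.map (Ideal.Quotient.mk I) (E D hnil' a) = X
    rw [E_eq D hnil' a 2 (Dn_two_a D a ha)]
    simp only [Finset.sum_range_succ, Finset.sum_range_zero, zero_add, Polynomial.map_add,
      Polynomial.map_monomial]
    have h0 : dp D 0 a = a := by simp [dp, Dn_zero]
    have h1 : dp D 1 a = 1 := by simp [dp, Dn_succ, Dn_zero, ha]
    rw [h0, h1, haI, map_one, monomial_zero_right, zero_add, monomial_one_one_eq_X]
  have hχpr : ∀ x, χ₀ (pr D hnil' a x) = C (Ideal.Quotient.mk I x) := by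
    intro x
    show Polynomial.map (Ideal.Quotient.mk I) (E D hnil' (pr D hnil' a x)) = _
    have h1 : Dn D 1 (pr D hnil' a x) = 0 := by rw [Dn_succ, Dn_zero, D_pr D hnil' a ha]
    rw [E_eq D hnil' _ 1 h1]
    simp only [Finset.sum_range_succ, Finset.sum_range_zero, zero_add, Polynomial.map_monomial]
    have h0 : dp D 0 (pr D hnil' a x) = pr D hnil' a x := by simp [dp, Dn_zero]
    rw [h0, hmkpr, monomial_zero_left]
  have C2 : χ₀.comp ψ₀ = RingHom.id _ := by
    apply Polynomial.ringHom_ext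
    · intro c
      obtain ⟨x, rfl⟩ := Ideal.Quotient.mk_surjective c
      show χ₀ (eval₂ prq a (C (Ideal.Quotient.mk I x))) = _
      rw [eval₂_C]
      exact hχpr x
    · show χ₀ (eval₂ prq a X) = X
      rw [eval₂_X]
      exact hχa
  have C1 : ψ₀.comp χ₀ = RingHom.id _ := by
    ext x
    show eval₂ prq a (Polynomial.map (Ideal.Quotient.mk I) (E D hnil' x)) = x
    rw [eval₂_map]
    have : prq.comp (Ideal.Quotient.mk I) = pr D hnil' a := Ideal.Quotient.lift_comp_mk _ _ _
    rw [this]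
    exact taylor D hnil' a ha x
  let χ : A ≃+* (A ⧸ I)[X] := RingEquiv.ofRingHom χ₀ ψ₀ C2 C1
  have hχD : ∀ x, χ₀ (D x) = derivative (χ₀ x) := by
    intro x
    ext n
    show (Polynomial.map (Ideal.Quotient.mk I) (E D hnil' (D x))).coeff n =
      (derivative (Polynomial.map (Ideal.Quotient.mk I) (E D hnil' x))).coeff n
    rw [coeff_derivative, coeff_map, coeff_map, coeff_E, coeff_E, dp_D, map_mul, map_natCast]
    push_cast
    ring
  refine ⟨χ, ?_, ?_, ?_, ?_⟩
  · intro x N hN
    show Polynomial.map (Ideal.Quotient.mk I) (E D hnil' x) = _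
    rw [E_eq D hnil' x N hN, Polynomial.map_sum]
    refine Finset.sum_congr rfl fun n _ => ?_
    rw [Polynomial.map_monomial, ← C_mul_X_pow_eq_monomial, smul_mul_assoc]
    show C (Ideal.Quotient.mk I ((n.factorial : ℚ)⁻¹ • Dn D n x)) * X ^ n = _
    rw [← smul_mul_assoc, smul_C]
    rfl
  · show eval₂ prq a X = a
    rw [eval₂_X]
  · intro x N hN
    show eval₂ prq a (C (Ideal.Quotient.mk I x)) = _
    rw [eval₂_C]
    show pr D hnil' a x = _
    rw [pr_eq D hnil' a x N hN]
    rfl
  · intro p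
    show χ₀ (D (χ.symm p)) = _
    rw [hχD]
    show derivative (χ (χ.symm p)) = _
    rw [RingEquiv.apply_symm_apply]

end Groth.Agent.S18974
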