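import Groth.Statements.S18994
import Mathlib

set_option autoImplicit false
universe u
open TernForm

namespace Groth.Agent.S18994aux
open MvPolynomial

variable {R : Type u} [CommRing R]

lemma eq_single_of_degree_two {j : Fin 3} {d : Fin 3 →₀ ℕ} (hd : d.degree = 2)
    (hj : 2 ≤ d j) : d = Finsupp.single j 2 := by
  rw [Finsupp.degree_eq_sum, Fin.sum_univ_three] at hd
  ext i
  fin_cases j <;> fin_cases i <;> simp at * <;> omega

lemma LI_key (j : Fin 3) (q : MvPolynomial (Fin 3) R) (hq : q.IsHomogeneous 2)
    (hqj : IsUnit (q.coeff (Finsupp.single j 2)))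
    (a p : MvPolynomial (Fin 3) R) (ha : ∀ m ∈ a.support, m j < 2) (h : a + q * p = 0) :
    p = 0 := by
  classical
  by_contra hp
  have hne : p.support.Nonempty := by
    rwa [Finset.nonempty_iff_ne_empty, Ne, support_eq_empty]
  obtain ⟨m, hm, hmax⟩ := Finset.exists_max_image p.support (fun m => m j) hne
  have hcoef := congrArg (coeff (m + Finsupp.single j 2)) h
  rw [coeff_add, coeff_zero] at hcoef
  have ha0 : coeff (m + Finsupp.single j 2) a = 0 := by
    by_contra hne
    have := ha _ (mem_support_iff.mpr hne)
    simp at this
  rw [ha0, zero_add, mul_comm, coeff_mul] at hcoef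
  rw [Finset.sum_eq_single (m, Finsupp.single j 2)] at hcoef
  · have : coeff m p = 0 := (IsUnit.mul_left_eq_zero hqj).mp hcoef
    exact (mem_support_iff.mp hm) this
  · rintro ⟨x, y⟩ hxy hne
    rw [Finset.HasAntidiagonal.mem_antidiagonal] at hxy
    by_contra hprod
    have hx : x ∈ p.support := mem_support_iff.mpr (left_ne_zero_of_mul hprod)
    have hy : coeff y q ≠ 0 := right_ne_zero_of_mul hprod
    have hyd : y.degree = 2 := by
      rw [Finsupp.degree_eq_weight_one]; exact hq hy
    have hxj : x j ≤ m j := hmax x hx
    have hj := DFunLike.congr_fun hxy j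
    simp at hj
    have hy2 : y = Finsupp.single j 2 := eq_single_of_degree_two hyd (by omega)
    subst hy2
    have : x = m := add_right_cancel hxy
    exact hne (by rw [this])
  · intro hnot
    exfalso
    apply hnot
    simp


lemma mono_mem (j : Fin 3) (q : MvPolynomial (Fin 3) R) (hq : q.IsHomogeneous 2)
    (hqj : IsUnit (q.coeff (Finsupp.single j 2))) (n : ℕ)
    (S : Submodule R (MvPolynomial (Fin 3) R))
    (hA : ∀ m : Fin 3 →₀ ℕ, m.degree = n → m j < 2 → monomial m (1 : R) ∈ S)
    (hB : ∀ m : Fin 3 →₀ ℕ, m.degree + 2 = n → q * monomial m (1 : R) ∈ S) :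
    ∀ k, ∀ m : Fin 3 →₀ ℕ, m j = k → m.degree = n → monomial m (1 : R) ∈ S := by
  classical
  intro k
  induction k using Nat.strong_induction_on with
  | _ k ih =>
    intro m hmk hmn
    rcases subsingleton_or_nontrivial R with hsub | hnt
    · rw [Subsingleton.elim (monomial m (1 : R)) 0]; exact S.zero_mem
    by_cases hlt : m j < 2
    · exact hA m hmn hlt
    · push Not at hlt
      set e := Finsupp.single j 2 with he
      set m' := m - e with hm'
      have hle : e ≤ m := by
        rw [he, Finsupp.le_def]
        intro i
        by_cases hi : i = j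
        · subst hi; simpa using hlt
        · simp [Ne.symm hi]
      have hmm : m' + e = m := tsub_add_cancel_of_le hle
      have hdege : e.degree = 2 := by rw [he, Finsupp.degree_single]
      have hdeg : m'.degree + 2 = n := by
        rw [← hmn, ← hmm, map_add, hdege]
      have hB' := hB m' hdeg
      have hexp : q * monomial m' (1 : R) = ∑ d ∈ q.support, monomial (d + m') (coeff d q) := by
        conv_lhs => rw [q.as_sum, Finset.sum_mul]
        refine Finset.sum_congr rfl (fun d _ => ?_)
        rw [monomial_mul, mul_one]
      have he_supp : e ∈ q.support := mem_support_iff.mpr hqj.ne_zero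
      rw [← Finset.add_sum_erase _ _ he_supp] at hexp
      have h1 : monomial (e + m') (coeff e q) = (coeff e q) • monomial m (1 : R) := by
        rw [add_comm, hmm, smul_monomial, smul_eq_mul, mul_one]
      have h2 : ∑ d ∈ q.support.erase e, monomial (d + m') (coeff d q) ∈ S := by
        refine S.sum_mem (fun d hd => ?_)
        rw [Finset.mem_erase] at hd
        have hdq : coeff d q ≠ 0 := mem_support_iff.mp hd.2
        have hdd : d.degree = 2 := by rw [Finsupp.degree_eq_weight_one]; exact hq hdq
        have hdj : d j < 2 := by
          by_contra hcon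
          push Not at hcon
          exact hd.1 (eq_single_of_degree_two hdd hcon)
        have : monomial (d + m') (coeff d q) = (coeff d q) • monomial (d + m') (1 : R) := by
          rw [smul_monomial, smul_eq_mul, mul_one]
        rw [this]
        refine S.smul_mem _ (ih ((d + m') j) ?_ (d + m') rfl ?_)
        · have : m' j = m j - 2 := by simp [hm', he]
          simp only [Finsupp.add_apply]
          omega
        · rw [map_add, hdd]; omega
      have h3 : (coeff e q) • monomial m (1 : R) ∈ S := by
        have : (coeff e q) • monomial m (1 : R) = q * monomial m' 1 -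
            ∑ d ∈ q.support.erase e, monomial (d + m') (coeff d q) := by
          rw [hexp, h1]; abel
        rw [this]; exact S.sub_mem hB' h2
      obtain ⟨u, hu⟩ := hqj
      have : monomial m (1 : R) = (↑u⁻¹ : R) • ((coeff e q) • monomial m (1 : R)) := by
        rw [smul_smul, ← hu, Units.inv_mul, one_smul]
      rw [this]; exact S.smul_mem _ h3

theorem main (R : Type u) [CommRing R] (j : Fin 3) (q : MvPolynomial (Fin 3) R)
    (hq : q.IsHomogeneous 2) (hqj : IsUnit (q.coeff (Finsupp.single j 2))) (n : ℕ) :
    LinearIndependent R (Sum.elim (fun m : {m : Fin 3 →₀ ℕ // m.degree = n ∧ m j < 2} => MvPolynomial.monomial m.1 (1 : R)) (fun m : {m : Fin 3 →₀ ℕ // m.degree + 2 = n} => q * MvPolynomial.monomial m.1 (1 : R))) ∧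
      Submodule.span R (Set.range (Sum.elim (fun m : {m : Fin 3 →₀ ℕ // m.degree = n ∧ m j < 2} => MvPolynomial.monomial m.1 (1 : R)) (fun m : {m : Fin 3 →₀ ℕ // m.degree + 2 = n} => q * MvPolynomial.monomial m.1 (1 : R)))) = MvPolynomial.homogeneousSubmodule (Fin 3) R n := by
  constructor
  · rw [linearIndependent_sum]
    refine ⟨?_, ?_, ?_⟩
    · have h1 := (MvPolynomial.basisMonomials (Fin 3) R).linearIndependent
      rw [coe_basisMonomials] at h1
      have h2 := h1.comp (fun m : {m : Fin 3 →₀ ℕ // m.degree = n ∧ m j < 2} => m.1)
        Subtype.val_injective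
      rw [Sum.elim_comp_inl]
      exact h2
    · have h1 := (MvPolynomial.basisMonomials (Fin 3) R).linearIndependent
      rw [coe_basisMonomials] at h1
      have h2 := h1.comp (fun m : {m : Fin 3 →₀ ℕ // m.degree + 2 = n} => m.1)
        Subtype.val_injective
      have h3 := h2.map' (LinearMap.mulLeft R q) (by
        rw [LinearMap.ker_eq_bot']
        intro p hp
        exact LI_key j q hq hqj 0 p (by simp) (by simpa using hp))
      rw [Sum.elim_comp_inr]
      exact h3
    · rw [Submodule.disjoint_def]
      intro x hxA hxB
      have hxA' : ∀ m ∈ x.support, m j < 2 := by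
        have hle : Submodule.span R (Set.range (Sum.elim (fun m : {m : Fin 3 →₀ ℕ // m.degree = n ∧ m j < 2} => MvPolynomial.monomial m.1 (1 : R)) (fun m : {m : Fin 3 →₀ ℕ // m.degree + 2 = n} => q * MvPolynomial.monomial m.1 (1 : R)) ∘ Sum.inl)) ≤ restrictSupport R {m | m j < 2} := by
          rw [Submodule.span_le]
          rintro _ ⟨m, rfl⟩
          simp only [Function.comp_apply, Sum.elim_inl, SetLike.mem_coe,
            monomial_mem_restrictSupport]
          exact Or.inl m.2.2
        exact fun m hm => hle hxA hm
      have hxB' : ∃ p, x = q * p := by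
        have hle : Submodule.span R (Set.range (Sum.elim (fun m : {m : Fin 3 →₀ ℕ // m.degree = n ∧ m j < 2} => MvPolynomial.monomial m.1 (1 : R)) (fun m : {m : Fin 3 →₀ ℕ // m.degree + 2 = n} => q * MvPolynomial.monomial m.1 (1 : R)) ∘ Sum.inr)) ≤ LinearMap.range (LinearMap.mulLeft R q) := by
          rw [Submodule.span_le]
          rintro _ ⟨m, rfl⟩
          exact ⟨monomial m.1 1, rfl⟩
        obtain ⟨p, hp⟩ := hle hxB
        exact ⟨p, hp.symm⟩
      obtain ⟨p, rfl⟩ := hxB'
      have h0 := LI_key j q hq hqj (q * p) (-p) hxA' (by ring)
      have hp0 : p = 0 := by simpa using h0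
      rw [hp0, mul_zero]
  · apply le_antisymm
    · rw [Submodule.span_le]
      rintro _ ⟨(m | m), rfl⟩
      · exact isHomogeneous_monomial _ m.2.1
      · have h1 := hq.mul (isHomogeneous_monomial (1 : R) (rfl : m.1.degree = m.1.degree))
        have h2 : 2 + m.1.degree = n := by have := m.2; omega
        rw [h2] at h1
        exact h1
    · rw [homogeneousSubmodule_eq_finsupp_supported]
      change restrictSupport R {d | d.degree = n} ≤ _
      rw [restrictSupport_eq_span, Submodule.span_le]
      rintro _ ⟨m, hm, rfl⟩
      refine mono_mem j q hq hqj n _ ?_ ?_ (m j) m rfl hm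
      · intro m h1 h2
        exact Submodule.subset_span
          ⟨Sum.inl (⟨m, h1, h2⟩ : {m : Fin 3 →₀ ℕ // m.degree = n ∧ m j < 2}), rfl⟩
      · intro m h
        exact Submodule.subset_span
          ⟨Sum.inr (⟨m, h⟩ : {m : Fin 3 →₀ ℕ // m.degree + 2 = n}), rfl⟩

end Groth.Agent.S18994aux

namespace Groth.Agent.S18994

/-- Let R be a commutative ring, j ∈ {0, 1, 2}, q a homogeneous polynomial of degree 2 in R[X_0, X_1,
X_2] whose coefficient of X_j^2 is a unit, and n a natural number. Then the family consisting of the
monomials of degree n not divisible by X_j^2 (exponent of X_j at most 1) together with the products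
q · m, m running over the monomials of degree n − 2 (indexed by exponents m with |m| + 2 = n), is
linearly independent over R and spans exactly the homogeneous polynomials of degree n; in particular
it is a basis of that module and the two parts are disjoint. (The published lemma is stated over a
field with the coefficient nonzero, the special case of a field R here; the version over a ring with
the coefficient invertible is what its change-of-basis argument gives — ordering monomials by
decreasing exponent of X_j makes the matrix triangular with diagonal entries 1 and that coefficient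
— and is the form used to trivialise the bundle of degree-n forms modulo multiples of q over the
locus where the coefficient is invertible. The published lemma also allows an arbitrary monomial of
degree 2 in place of X_j^2; for the mixed monomial X_1X_2, the form q = X_1^2 + X_1X_2 + X_2^2 and n
= 3 give the linear relation q·X_1 − q·X_2 = X_1^3 − X_2^3 among members of the family, so the claim
fails there and is stated here for the square of a variable.) -/
theorem result
    (R : Type u) [CommRing R] (j : Fin 3) (q : MvPolynomial (Fin 3) R)
    (hq : q.IsHomogeneous 2) (hqj : IsUnit (q.coeff (Finsupp.single j 2))) (n : ℕ) :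
    LinearIndependent R (Sum.elim (fun m : {m : Fin 3 →₀ ℕ // m.degree = n ∧ m j < 2} => MvPolynomial.monomial m.1 (1 : R)) (fun m : {m : Fin 3 →₀ ℕ // m.degree + 2 = n} => q * MvPolynomial.monomial m.1 (1 : R))) ∧
      Submodule.span R (Set.range (Sum.elim (fun m : {m : Fin 3 →₀ ℕ // m.degree = n ∧ m j < 2} => MvPolynomial.monomial m.1 (1 : R)) (fun m : {m : Fin 3 →₀ ℕ // m.degree + 2 = n} => q * MvPolynomial.monomial m.1 (1 : R)))) = MvPolynomial.homogeneousSubmodule (Fin 3) R n := by
  exact Groth.Agent.S18994aux.main R j q hq hqj n

end Groth.Agent.S18994
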