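import Groth.Statements.S19004
import Mathlib

set_option autoImplicit false
open GIT

namespace Groth.Agent.S19004

open Finset in
/-- Splitting the product over ordered pairs `i ≠ j`. -/
theorem prod_split {M : Type*} [CommMonoid M] (n : ℕ) (f : Fin n → Fin n → M) :
    ∏ i : Fin n, ∏ j ∈ Finset.univ.erase i, f i j =
      (∏ i : Fin n, ∏ j ∈ Finset.Ioi i, f j i) *
        (∏ i : Fin n, ∏ j ∈ Finset.Ioi i, f (Fin.rev j) (Fin.rev i)) := by
  have h1 : ∏ i : Fin n, ∏ j ∈ Finset.Ioi i, f j i = ∏ i : Fin n, ∏ j ∈ Finset.Iio i, f i j := by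
    rw [Finset.prod_comm' (s := Finset.univ) (t := fun i => Finset.Ioi i) (t' := Finset.univ)
      (s' := fun j => Finset.Iio j)]
    intro x y
    simp
  have h2 : ∏ i : Fin n, ∏ j ∈ Finset.Ioi i, f (Fin.rev j) (Fin.rev i) =
      ∏ i : Fin n, ∏ j ∈ Finset.Ioi i, f i j := by
    have e1 : ∏ i : Fin n, ∏ j ∈ Finset.Ioi i, f (Fin.rev j) (Fin.rev i) =
        ∏ i : Fin n, ∏ j ∈ Finset.Iio i, f j i := by
      rw [← Equiv.prod_comp Fin.revPerm (fun i => ∏ j ∈ Finset.Iio i, f j i)]
      refine Finset.prod_congr rfl fun i _ => ?_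
      rw [Fin.revPerm_apply, ← Fin.map_revPerm_Ioi, Finset.prod_map]
      rfl
    rw [e1, Finset.prod_comm' (s := Finset.univ) (t := fun i => Finset.Iio i) (t' := Finset.univ)
      (s' := fun j => Finset.Ioi j)]
    intro x y
    simp
  rw [h1, h2, ← Finset.prod_mul_distrib]
  refine Finset.prod_congr rfl fun i _ => ?_
  rw [← Finset.prod_union]
  · refine Finset.prod_congr ?_ fun _ _ => rfl
    ext j
    simp only [Finset.mem_erase, Finset.mem_univ, and_true, Finset.mem_union, Finset.mem_Iio,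
      Finset.mem_Ioi]
    exact ⟨fun h => lt_or_gt_of_ne h, fun h => h.elim ne_of_lt ne_of_gt⟩
  · rw [Finset.disjoint_left]
    intro j hj hj'
    rw [Finset.mem_Iio] at hj
    rw [Finset.mem_Ioi] at hj'
    exact lt_asymm hj hj'


/-- exponent vector of the monomial `∏ i, X (ρ i) ^ i`. -/
noncomputable def ev {n : ℕ} (ρ : Equiv.Perm (Fin n)) : Fin n →₀ ℕ :=
  Finsupp.equivFunOnFinite.symm (fun k => ((ρ.symm k : Fin n) : ℕ))

theorem prod_eq_monomial {n : ℕ} (ρ : Equiv.Perm (Fin n)) :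
    ∏ i : Fin n, (MvPolynomial.X (ρ i) : MvPolynomial (Fin n) ℤ) ^ (i : ℕ) =
      MvPolynomial.monomial (ev ρ) 1 := by
  rw [MvPolynomial.monomial_eq, map_one, one_mul, Finsupp.prod_fintype _ _ (fun i => pow_zero _),
    ← Equiv.prod_comp ρ (fun k => (MvPolynomial.X k : MvPolynomial (Fin n) ℤ) ^ (ev ρ k))]
  refine Finset.prod_congr rfl fun i _ => ?_
  simp [ev]

theorem V_eq (n : ℕ) :
    Matrix.det (Matrix.vandermonde (fun i : Fin n => (MvPolynomial.X i : MvPolynomial (Fin n) ℤ))) =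
      ∑ σ : Equiv.Perm (Fin n), MvPolynomial.monomial (ev σ) ((Equiv.Perm.sign σ : ℤˣ) : ℤ) := by
  rw [Matrix.det_apply']
  refine Finset.sum_congr rfl fun σ _ => ?_
  simp only [Matrix.vandermonde_apply]
  rw [prod_eq_monomial, ← eq_intCast (MvPolynomial.C (σ := Fin n) (R := ℤ)),
    MvPolynomial.C_mul_monomial, mul_one]

theorem W_eq (n : ℕ) :
    Matrix.det (Matrix.vandermonde
      (fun i : Fin n => (MvPolynomial.X (Fin.rev i) : MvPolynomial (Fin n) ℤ))) =
      ∑ τ : Equiv.Perm (Fin n),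
        MvPolynomial.monomial (ev ((Fin.revPerm : Equiv.Perm (Fin n)) * τ)) ((Equiv.Perm.sign τ : ℤˣ) : ℤ) := by
  rw [Matrix.det_apply']
  refine Finset.sum_congr rfl fun τ _ => ?_
  simp only [Matrix.vandermonde_apply]
  have : ∏ i : Fin n, (MvPolynomial.X (Fin.rev (τ i)) : MvPolynomial (Fin n) ℤ) ^ (i : ℕ) =
      ∏ i : Fin n, (MvPolynomial.X (((Fin.revPerm : Equiv.Perm (Fin n)) * τ) i) : MvPolynomial (Fin n) ℤ) ^ (i : ℕ) := rfl
  rw [this, prod_eq_monomial, ← eq_intCast (MvPolynomial.C (σ := Fin n) (R := ℤ)),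
    MvPolynomial.C_mul_monomial, mul_one]

/-- the combinatorial heart: which pairs of permutations contribute. -/
theorem ev_add_iff {n : ℕ} (σ τ : Equiv.Perm (Fin n)) :
    ev σ + ev ((Fin.revPerm : Equiv.Perm (Fin n)) * τ) = Finsupp.equivFunOnFinite.symm (fun _ : Fin n => n - 1) ↔
      τ = (Fin.revPerm : Equiv.Perm (Fin n)) * σ * Fin.revPerm := by
  have hval : ∀ k : Fin n, (ev σ + ev ((Fin.revPerm : Equiv.Perm (Fin n)) * τ) : Fin n →₀ ℕ) k =
      ((σ.symm k : Fin n) : ℕ) + ((τ.symm (Fin.rev k) : Fin n) : ℕ) := by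
    intro k
    simp [ev, Equiv.Perm.mul_def, Fin.revPerm_symm]
  constructor
  · intro h
    have hk : ∀ k : Fin n, τ.symm (Fin.rev k) = Fin.rev (σ.symm k) := by
      intro k
      have h1 := DFunLike.congr_fun h k
      rw [hval] at h1
      simp only [Finsupp.equivFunOnFinite_symm_apply_apply] at h1
      apply Fin.ext
      rw [Fin.val_rev]
      have := (σ.symm k).isLt
      omega
    ext j
    have h2 := hk (σ (Fin.rev j))
    rw [Equiv.symm_apply_apply, Fin.rev_rev] at h2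
    have h3 : Fin.rev (σ (Fin.rev j)) = τ j := (Equiv.symm_apply_eq τ).1 h2
    rw [← h3]
    simp [Equiv.Perm.mul_def]
  · rintro rfl
    ext k
    rw [hval]
    simp only [Finsupp.equivFunOnFinite_symm_apply_apply]
    have h1 : ((Fin.revPerm : Equiv.Perm (Fin n)) * σ * Fin.revPerm).symm (Fin.rev k) = Fin.rev (σ.symm k) := by
      rw [Equiv.symm_apply_eq]
      simp [Equiv.Perm.mul_def]
    rw [h1, Fin.val_rev]
    have := (σ.symm k).isLt
    omega


/-- For the group PGL(n) acting on the space of n × n matrices the T-quotient is (P^{n−1})^n with Chow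
ring ℚ[t_1,…,t_n]/(t_1^n,…,t_n^n), the class c_top(g/t) is the product of all roots t_i − t_j (i ≠
j), and the computation in the proof shows that this product equals n!·t_1^{n−1}⋯t_n^{n−1} in that
ring. Stated here as the equivalent coefficient identity in ℤ[t_1,…,t_n]: the coefficient of
t_1^{n−1}⋯t_n^{n−1} in the product over ordered pairs i ≠ j of (t_i − t_j) is n!. -/
theorem result (n : ℕ) :
    MvPolynomial.coeff (Finsupp.equivFunOnFinite.symm (fun _ : Fin n => n - 1))
      (∏ i : Fin n, ∏ j ∈ Finset.univ.erase i, (MvPolynomial.X i - MvPolynomial.X j : MvPolynomial (Fin n) ℤ)) = (n.factorial : ℤ) := by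
  classical
  have hP : (∏ i : Fin n, ∏ j ∈ Finset.univ.erase i,
      (MvPolynomial.X i - MvPolynomial.X j : MvPolynomial (Fin n) ℤ)) =
      Matrix.det (Matrix.vandermonde
        (fun i : Fin n => (MvPolynomial.X i : MvPolynomial (Fin n) ℤ))) *
      Matrix.det (Matrix.vandermonde
        (fun i : Fin n => (MvPolynomial.X (Fin.rev i) : MvPolynomial (Fin n) ℤ))) := by
    rw [prod_split, Matrix.det_vandermonde, Matrix.det_vandermonde]
  rw [hP, V_eq, W_eq, Finset.sum_mul_sum, MvPolynomial.coeff_sum]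
  have hinner : ∀ σ : Equiv.Perm (Fin n),
      MvPolynomial.coeff (Finsupp.equivFunOnFinite.symm (fun _ : Fin n => n - 1))
        (∑ τ : Equiv.Perm (Fin n),
          MvPolynomial.monomial (ev σ) ((Equiv.Perm.sign σ : ℤˣ) : ℤ) *
            MvPolynomial.monomial (ev ((Fin.revPerm : Equiv.Perm (Fin n)) * τ)) ((Equiv.Perm.sign τ : ℤˣ) : ℤ)) = 1 := by
    intro σ
    rw [MvPolynomial.coeff_sum, Finset.sum_eq_single ((Fin.revPerm : Equiv.Perm (Fin n)) * σ * Fin.revPerm)]
    · rw [MvPolynomial.monomial_mul, MvPolynomial.coeff_monomial,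
        if_pos ((ev_add_iff σ _).2 rfl)]
      simp only [map_mul, Units.val_mul]
      have h1 : ((Equiv.Perm.sign (Fin.revPerm : Equiv.Perm (Fin n)) : ℤˣ) : ℤ) *
          ((Equiv.Perm.sign (Fin.revPerm : Equiv.Perm (Fin n)) : ℤˣ) : ℤ) = 1 := by
        rw [← Units.val_mul, Int.units_mul_self, Units.val_one]
      have h2 : ((Equiv.Perm.sign σ : ℤˣ) : ℤ) * ((Equiv.Perm.sign σ : ℤˣ) : ℤ) = 1 := by
        rw [← Units.val_mul, Int.units_mul_self, Units.val_one]
      linear_combination (((Equiv.Perm.sign σ : ℤˣ) : ℤ) * ((Equiv.Perm.sign σ : ℤˣ) : ℤ)) * h1 + h2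
    · intro τ _ hτ
      rw [MvPolynomial.monomial_mul, MvPolynomial.coeff_monomial, if_neg]
      intro h
      exact hτ ((ev_add_iff σ τ).1 h)
    · intro h
      exact absurd (Finset.mem_univ _) h
  rw [Finset.sum_congr rfl fun σ _ => hinner σ]
  simp [Fintype.card_perm]

end Groth.Agent.S19004
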