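import Groth.Statements.S19005
import Mathlib

set_option autoImplicit false
open scoped TensorProduct
open K2Cent

namespace Groth.Agent.S19005

/-- For abelian groups X and M and ε in M with 2ε = 0 (in the source X is the character group of a split
torus and ε is the class of −1 among the units), the map x ↦ (x ⊗ x, −(x ⊗ ε)) into (X ⊗ X) × (X ⊗
M) is quadratic over ℤ, i.e. it underlies an integer quadratic map with exactly these values. -/
theorem result (X M : Type*) [AddCommGroup X]
    [AddCommGroup M] (ε : M) (hε : 2 • ε = 0) :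
    ∃ R : QuadraticMap ℤ X (TensorProduct ℤ X X × TensorProduct ℤ X M),
      ∀ x : X, R x = (x ⊗ₜ[ℤ] x, -(x ⊗ₜ[ℤ] ε)) := by
  have hεa : ∀ a : ℤ, (a * a) • ε = a • ε := by
    intro a
    have hev : Even (a * a - a) := by
      have : a * a - a = a * (a - 1) := by ring
      rw [this]
      exact Int.even_mul_pred_self a
    obtain ⟨c, hc⟩ := hev
    have h2 : (2 : ℤ) • ε = 0 := by
      have := hε
      rw [← natCast_zsmul] at this
      simpa using this
    have : (a * a - a) • ε = 0 := by
      rw [hc, ← two_mul, mul_comm, mul_smul, h2, smul_zero]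
    rw [sub_smul, sub_eq_zero] at this
    exact this
  refine ⟨{ toFun := fun x => (x ⊗ₜ[ℤ] x, -(x ⊗ₜ[ℤ] ε))
            toFun_smul := ?_
            exists_companion' := ?_ }, fun x => rfl⟩
  · intro a x
    ext
    · simp only [Prod.smul_fst]
      rw [TensorProduct.smul_tmul_smul]
    · simp only [Prod.smul_snd, smul_neg]
      congr 1
      rw [TensorProduct.smul_tmul, ← TensorProduct.tmul_smul (a * a), hεa]
  · refine ⟨LinearMap.compr₂ (TensorProduct.mk ℤ X X + (TensorProduct.mk ℤ X X).flip)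
      (LinearMap.inl ℤ (TensorProduct ℤ X X) (TensorProduct ℤ X M)), ?_⟩
    intro x y
    ext
    · show (x + y) ⊗ₜ[ℤ] (x + y) = x ⊗ₜ[ℤ] x + y ⊗ₜ[ℤ] y + (x ⊗ₜ[ℤ] y + y ⊗ₜ[ℤ] x)
      simp only [TensorProduct.add_tmul, TensorProduct.tmul_add]
      abel
    · show -((x + y) ⊗ₜ[ℤ] ε) = -(x ⊗ₜ[ℤ] ε) + -(y ⊗ₜ[ℤ] ε) + 0
      simp only [TensorProduct.add_tmul, neg_add, add_zero]

end Groth.Agent.S19005
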