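import Groth.Statements.S19007
import Mathlib

set_option autoImplicit false
universe u v w x
open RootD

namespace Groth.Agent.S19007

/-- Let P be a finite reduced crystallographic root pairing over an integral domain of characteristic
zero, b a base of P (a system of simple roots) and Q a quadratic form on the coweight module with
polar form B. Then Q is invariant under all root reflections (equivalently under the Weyl group) on
the span of the coroots if and only if for all pairs of distinct simple roots α_i ≠ α_j one has
B(α_i^∨, α_j^∨) = ⟨α_j, α_i^∨⟩ Q(α_j^∨). (In the source the form is integer-valued on the lattice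
spanned by the coroots and the condition says that the bilinear form lies in the kernel of the last
map of a three-term complex built from the Bruhat cells of codimension at most two; here the form
takes values in the base ring.) -/
theorem result {ι : Type u} {R : Type v} {M : Type w} {N : Type x} [CommRing R] [IsDomain R] [CharZero R]
    [AddCommGroup M] [Module R M] [AddCommGroup N] [Module R N] (P : RootPairing ι R M N)
    [Finite ι] [P.IsCrystallographic] [P.IsReduced] (b : P.Base) (Q : QuadraticMap R N R) :
    (∀ i : ι, ∀ y ∈ Submodule.span R (Set.range P.coroot), Q (P.coreflection i y) = Q y) ↔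
      ∀ i ∈ b.support, ∀ j ∈ b.support, i ≠ j →
        QuadraticMap.polar Q (P.coroot i) (P.coroot j) = P.pairing j i * Q (P.coroot j) := by
  have h2 : (2 : R) ≠ 0 := two_ne_zero
  -- the basic computation
  have inv_iff : ∀ (i : ι) (y : N), Q (P.coreflection i y) = Q y ↔
      P.root' i y * (P.root' i y * Q (P.coroot i) - QuadraticMap.polar Q y (P.coroot i)) = 0 := by
    intro i y
    have h1 : P.coreflection i y = y + (-(P.root' i y)) • P.coroot i := by
      rw [P.coreflection_apply, neg_smul, sub_eq_add_neg]
    have h3 : Q (P.coreflection i y) = Q y + (P.root' i y * (P.root' i y * Q (P.coroot i) -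
        QuadraticMap.polar Q y (P.coroot i))) := by
      rw [h1, QuadraticMap.map_add Q, QuadraticMap.map_smul, QuadraticMap.polar_smul_right]
      simp only [smul_eq_mul]
      ring
    rw [h3]
    constructor
    · intro h; linear_combination h
    · intro h; rw [h, add_zero]
  have hstab : ∀ (i : ι) (y : N), y ∈ Submodule.span R (Set.range P.coroot) →
      P.coreflection i y ∈ Submodule.span R (Set.range P.coroot) := by
    intro i y hy
    exact P.corootSpan_mem_invtSubmodule_coreflection i hy
  constructor
  · intro H i _ j _ _
    have hci : P.coroot i ∈ Submodule.span R (Set.range P.coroot) :=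
      Submodule.subset_span (Set.mem_range_self i)
    have hcj : P.coroot j ∈ Submodule.span R (Set.range P.coroot) :=
      Submodule.subset_span (Set.mem_range_self j)
    by_cases hp : P.pairing j i = 0
    · have h1 := (inv_iff j (P.coroot i + P.coroot j)).mp (H j _ (Submodule.add_mem _ hci hcj))
      rw [map_add, QuadraticMap.polar_add_left, QuadraticMap.polar_self] at h1
      have h3 : P.root' j (P.coroot i) = P.pairing j i := rfl
      have h4 : P.root' j (P.coroot j) = 2 := P.pairing_same j
      rw [h3, h4, hp, zero_add] at h1
      rw [hp, zero_mul]
      simp only [nsmul_eq_mul, smul_eq_mul, Nat.cast_ofNat] at h1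
      have h5 : (2 : R) * QuadraticMap.polar (⇑Q) (P.coroot i) (P.coroot j) = 0 := by
        linear_combination -h1
      rcases mul_eq_zero.mp h5 with h | h
      · exact absurd h h2
      · exact h
    · have h1 := (inv_iff j (P.coroot i)).mp (H j _ hci)
      have h3 : P.root' j (P.coroot i) = P.pairing j i := rfl
      rw [h3] at h1
      rcases mul_eq_zero.mp h1 with h | h
      · exact absurd h hp
      · exact (sub_eq_zero.mp h).symm
  · intro H
    -- simple reflections
    have hsimple : ∀ j ∈ b.support, ∀ y ∈ Submodule.span R (Set.range P.coroot),
        Q (P.coreflection j y) = Q y := by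
      intro j hj y hy
      rw [inv_iff]
      have hy' : y ∈ Submodule.span R (P.coroot '' (b.support : Set ι)) := by
        rw [b.span_coroot_support]; exact hy
      have hlin : ∀ z ∈ Submodule.span R (P.coroot '' (b.support : Set ι)),
          QuadraticMap.polar Q z (P.coroot j) = P.root' j z * Q (P.coroot j) := by
        intro z hz
        induction hz using Submodule.span_induction with
        | mem z hz =>
          obtain ⟨k, hk, rfl⟩ := hz
          by_cases hkj : k = j
          · subst hkj
            rw [QuadraticMap.polar_self]
            have : P.root' k (P.coroot k) = 2 := P.pairing_same k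
            rw [this]
            simp only [nsmul_eq_mul, smul_eq_mul, Nat.cast_ofNat]
          · exact H k hk j hj hkj
        | zero => simp
        | add u v _ _ hu hv =>
          rw [QuadraticMap.polar_add_left, map_add, hu, hv]; ring
        | smul a u _ hu =>
          rw [QuadraticMap.polar_smul_left, map_smul, hu, smul_eq_mul, smul_eq_mul]; ring
      rw [hlin y hy', sub_self, mul_zero]
    intro i
    refine b.induction_reflect i
      (p := fun i => ∀ y ∈ Submodule.span R (Set.range P.coroot), Q (P.coreflection i y) = Q y)
      ?_ hsimple ?_
    · intro i hi y hy
      have : P.coreflection (P.reflectionPerm i i) y = P.coreflection i y := by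
        rw [P.coreflection_apply, P.coreflection_apply]
        have h1 : P.coroot (P.reflectionPerm i i) = - P.coroot i := by
          rw [P.coroot_reflectionPerm, P.coreflection_apply_self]
        have h3 : P.root' (P.reflectionPerm i i) y = - P.root' i y := by
          have : P.root (P.reflectionPerm i i) = - P.root i := by
            rw [P.root_reflectionPerm, P.reflection_apply_self]
          show P.toLinearMap (P.root (P.reflectionPerm i i)) y = - P.toLinearMap (P.root i) y
          rw [this, map_neg, LinearMap.neg_apply]
        rw [h1, h3, neg_smul_neg]
      rw [this]
      exact hi y hy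
    · intro i j hi hj y hy
      have hre : P.coreflection (P.reflectionPerm j i) =
          P.coreflection j * P.coreflection i * P.coreflection j :=
        P.flip.reflection_reflectionPerm
      rw [hre]
      show Q (P.coreflection j (P.coreflection i (P.coreflection j y))) = Q y
      rw [hsimple j hj _ (hstab i _ (hstab j _ hy)), hi _ (hstab j _ hy), hsimple j hj y hy]

end Groth.Agent.S19007
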