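import Groth.Statements.S19009
import Groth.Agent.Lib.helper8.RootQ

set_option autoImplicit false
universe u v w x
open RootD

namespace Groth.Agent.S19009

/-- Let P be a root pairing over an integral domain R of characteristic zero (roots α acting on the
coweight module N through reflections y ↦ y − ⟨α, y⟩ α^∨), D ⊆ N a submodule containing every coroot
and such that every element of D has a positive integer multiple in the span of the coroots (the
derived part), and Y₀ a complement of D in N. Let Q_d be a quadratic form on N whose restriction to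
D is invariant under all root reflections. Then there is a quadratic form on N, invariant under all
root reflections and agreeing with Q_d on D, if and only if there is an R-bilinear form Φ on N with
Φ(y₀, α^∨) = ⟨α, y₀⟩ Q_d(α^∨) for all y₀ in Y₀ and all roots α. (In the source R = ℤ, N = Y₀ ⊕ Y_der
is the cocharacter lattice of a split reductive group, and the condition is phrased as integrality
on Y₀ × Y_der of the pairing y₀, y ↦ B(q(y₀), y) deduced from the polar form B of Q_d; that pairing
is characterised by the displayed values on coroots, only the values of Φ on Y₀ × D matter, and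
forms take values in R here.) -/
theorem result {ι : Type u} {R : Type v} {M : Type w} {N : Type x} [CommRing R] [IsDomain R] [CharZero R]
    [AddCommGroup M] [Module R M] [AddCommGroup N] [Module R N] (P : RootPairing ι R M N)
    (D Y₀ : Submodule R N) (hD : ∀ i : ι, P.coroot i ∈ D)
    (hDsat : ∀ y ∈ D, ∃ n : ℕ, 0 < n ∧ n • y ∈ Submodule.span R (Set.range P.coroot))
    (hc : IsCompl Y₀ D)
    (Qd : QuadraticMap R N R) (hQd : ∀ i : ι, ∀ y ∈ D, Qd (P.coreflection i y) = Qd y) :
    (∃ Q : QuadraticMap R N R, (∀ (i : ι) (y : N), Q (P.coreflection i y) = Q y) ∧ ∀ y ∈ D, Q y = Qd y) ↔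
      ∃ Φ : N →ₗ[R] N →ₗ[R] R, ∀ y₀ ∈ Y₀, ∀ i : ι,
        Φ y₀ (P.coroot i) = P.root' i y₀ * Qd (P.coroot i) := by
  constructor
  · rintro ⟨Q, hQinv, hQD⟩
    refine ⟨Q.polarBilin, ?_⟩
    intro y₀ _ i
    show QuadraticMap.polar Q y₀ (P.coroot i) = _
    rw [Groth.Agent.H8.RootQ.polar_coroot_of_invariant P Q i ⊤ trivial
      (fun y _ => hQinv i y) y₀ trivial, hQD _ (hD i)]
  · rintro ⟨Φ, hΦ⟩
    set p₁ : N →ₗ[R] N := Y₀.projection D hc with hp₁
    set p₂ : N →ₗ[R] N := D.projection Y₀ hc.symm with hp₂
    have hp₁Y : ∀ y, p₁ y ∈ Y₀ := fun y => Submodule.projection_apply_mem hc y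
    have hp₂D : ∀ y, p₂ y ∈ D := fun y => Submodule.projection_apply_mem hc.symm y
    have hp₁D : ∀ d ∈ D, p₁ d = 0 := fun d hd => Submodule.projection_apply_of_mem_right hc hd
    have hp₂self : ∀ d ∈ D, p₂ d = d := fun d hd =>
      Submodule.projection_apply_of_mem_left hc.symm hd
    have hsum : ∀ y, p₁ y + p₂ y = y := Submodule.projection_add_projection_eq_self hc
    refine ⟨Qd.comp p₂ + LinearMap.BilinMap.toQuadraticMap (Φ.compl₁₂ p₁ p₂), ?_, ?_⟩
    · intro i y
      simp only [add_apply, QuadraticMap.comp_apply, LinearMap.BilinMap.toQuadraticMap_apply,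
        LinearMap.compl₁₂_apply]
      have h1 : p₁ (P.coreflection i y) = p₁ y := by
        rw [P.coreflection_apply, map_sub, map_smul, hp₁D _ (hD i), smul_zero, sub_zero]
      have h2 : p₂ (P.coreflection i y) = p₂ y + (-(P.root' i y)) • P.coroot i := by
        rw [P.coreflection_apply, map_sub, map_smul, hp₂self _ (hD i), neg_smul, sub_eq_add_neg]
      have hcrit := Groth.Agent.H8.RootQ.polar_coroot_of_invariant P Qd i D (hD i) (hQd i)
        (p₂ y) (hp₂D y)
      have hΦ' := hΦ (p₁ y) (hp₁Y y) i
      have ht : P.root' i y = P.root' i (p₁ y) + P.root' i (p₂ y) := by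
        rw [← map_add, hsum]
      rw [h1, h2, QuadraticMap.map_add Qd, QuadraticMap.map_smul, QuadraticMap.polar_smul_right,
        hcrit, map_add, map_smul, hΦ']
      simp only [smul_eq_mul]
      rw [ht]
      ring
    · intro y hy
      simp only [add_apply, QuadraticMap.comp_apply, LinearMap.BilinMap.toQuadraticMap_apply,
        LinearMap.compl₁₂_apply]
      rw [hp₁D y hy, hp₂self y hy, map_zero, LinearMap.zero_apply, add_zero]

end Groth.Agent.S19009
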