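import Groth.Statements.S19010
import Groth.Agent.Lib.helper8.RootQ

set_option autoImplicit false
universe u v w x
open RootD

namespace Groth.Agent.S19010

/-- Let P be a root pairing over an integral domain R of characteristic zero (roots α acting on the
coweight module N through reflections y ↦ y − ⟨α, y⟩ α^∨), D ⊆ N a submodule containing every coroot
and such that every element of D has a positive integer multiple in the span of the coroots (the
derived part), and Y₀ a complement of D in N. Let Q' be a quadratic form on N invariant under all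
root reflections. Then restriction to Y₀ is a bijection from the set of quadratic forms on N that
are invariant under all root reflections and agree with Q' on D onto the set of all quadratic forms
on Y₀. (In the source R = ℤ and N = Y₀ ⊕ Y_der is the cocharacter lattice of a split reductive
group; forms take values in R here.) -/
theorem result {ι : Type u} {R : Type v} {M : Type w} {N : Type x} [CommRing R] [IsDomain R] [CharZero R]
    [AddCommGroup M] [Module R M] [AddCommGroup N] [Module R N] (P : RootPairing ι R M N)
    (D Y₀ : Submodule R N) (hD : ∀ i : ι, P.coroot i ∈ D)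
    (hDsat : ∀ y ∈ D, ∃ n : ℕ, 0 < n ∧ n • y ∈ Submodule.span R (Set.range P.coroot))
    (hc : IsCompl Y₀ D)
    (Q' : QuadraticMap R N R) (hQ' : ∀ (i : ι) (y : N), Q' (P.coreflection i y) = Q' y) :
    Set.BijOn (fun Q : QuadraticMap R N R => Q.comp Y₀.subtype)
      {Q | (∀ (i : ι) (y : N), Q (P.coreflection i y) = Q y) ∧ ∀ y ∈ D, Q y = Q' y} Set.univ := by
  refine ⟨fun _ _ => Set.mem_univ _, ?_, ?_⟩
  · -- injectivity
    intro Q₁ h₁ Q₂ h₂ heq
    have hEinv : ∀ i y, (Q₁ - Q₂) (P.coreflection i y) = (Q₁ - Q₂) y := by
      intro i y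
      rw [sub_apply, sub_apply, h₁.1 i y, h₂.1 i y]
    have hED : ∀ y ∈ D, (Q₁ - Q₂) y = 0 := by
      intro y hy
      rw [sub_apply, h₁.2 y hy, h₂.2 y hy, sub_self]
    have hEY : ∀ y ∈ Y₀, (Q₁ - Q₂) y = 0 := by
      intro y hy
      have := DFunLike.congr_fun heq ⟨y, hy⟩
      simp only [QuadraticMap.comp_apply, Submodule.subtype_apply] at this
      rw [sub_apply, this, sub_self]
    have hpol : ∀ y i, QuadraticMap.polar (Q₁ - Q₂) y (P.coroot i) = 0 := by
      intro y i
      rw [Groth.Agent.H8.RootQ.polar_coroot_of_invariant P (Q₁ - Q₂) i ⊤ trivial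
        (fun y _ => hEinv i y) y trivial, hED _ (hD i), mul_zero]
    have hpolD : ∀ y, ∀ d ∈ D, QuadraticMap.polar (Q₁ - Q₂) y d = 0 := by
      intro y
      exact Groth.Agent.H8.RootQ.eq_zero_on_sat P D hDsat ((Q₁ - Q₂).polarBilin y) (hpol y)
    have hE0 : Q₁ - Q₂ = 0 := by
      ext y
      obtain ⟨y₀, d, hy₀, hd, rfl⟩ := Submodule.codisjoint_iff_exists_add_eq.mp hc.codisjoint y
      rw [QuadraticMap.map_add (Q₁ - Q₂), hEY y₀ hy₀, hED d hd, hpolD y₀ d hd]
      simp
    exact sub_eq_zero.mp hE0
  · -- surjectivity
    intro q₀ _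
    refine ⟨Q' + (q₀ - Q'.comp Y₀.subtype).comp (Y₀.projectionOnto D hc), ⟨?_, ?_⟩, ?_⟩
    · intro i y
      rw [add_apply, add_apply, QuadraticMap.comp_apply, QuadraticMap.comp_apply, hQ' i y]
      congr 2
      rw [P.coreflection_apply, map_sub, map_smul,
        Submodule.projectionOnto_apply_of_mem_right hc (hD i), smul_zero, sub_zero]
    · intro y hy
      rw [add_apply, QuadraticMap.comp_apply, Submodule.projectionOnto_apply_of_mem_right hc hy,
        QuadraticMap.map_zero, add_zero]
    · ext y
      simp only [QuadraticMap.comp_apply, Submodule.subtype_apply, add_apply, sub_apply,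
        Submodule.projectionOnto_apply_left, add_sub_cancel]

end Groth.Agent.S19010
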