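import Groth.Statements.S19012
import Mathlib

set_option autoImplicit false
universe u v w x
open RootD

namespace Groth.Agent.S19012

/-- Let P be a finite reduced crystallographic root pairing over a field of characteristic zero which is
irreducible, and b a base. A quadratic form on the coweight module that is invariant under all root
reflections and vanishes on some simple coroot is zero; in other words an invariant form is
determined by its value on a single simple coroot. (The source proves, component by component of the
Dynkin diagram, that an invariant integer-valued form on the coroot lattice with prescribed value on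
the first simple coroot of each component is unique; here the system is irreducible, the coroots
span the coweight module, and forms take values in the base field.) -/
theorem result {ι : Type u} {K : Type v} {M : Type w} {N : Type x} [Field K] [CharZero K]
    [AddCommGroup M] [Module K M] [AddCommGroup N] [Module K N] (P : RootPairing ι K M N)
    [Finite ι] [P.IsCrystallographic] [P.IsReduced] [P.IsIrreducible] (b : P.Base)
    (Q : QuadraticMap K N K) (hQ : ∀ (i : ι) (y : N), Q (P.coreflection i y) = Q y)
    (i₀ : ι) (hi₀ : i₀ ∈ b.support) (h0 : Q (P.coroot i₀) = 0) : Q = 0 := by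
  have h2 : (2 : K) ≠ 0 := two_ne_zero
  have inv_iff : ∀ (i : ι) (y : N), Q (P.coreflection i y) = Q y ↔
      P.root' i y * (P.root' i y * Q (P.coroot i) - QuadraticMap.polar Q y (P.coroot i)) = 0 := by
    intro i y
    have h1 : P.coreflection i y = y + (-(P.root' i y)) • P.coroot i := by
      rw [P.coreflection_apply, neg_smul, sub_eq_add_neg]
    have h3 : Q (P.coreflection i y) = Q y + (P.root' i y * (P.root' i y * Q (P.coroot i) -
        QuadraticMap.polar Q y (P.coroot i))) := by
      rw [h1, QuadraticMap.map_add Q, QuadraticMap.map_smul, QuadraticMap.polar_smul_right]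
      simp only [smul_eq_mul]
      ring
    rw [h3]
    constructor
    · intro h; linear_combination h
    · intro h; rw [h, add_zero]
  -- Lemma A
  have hA : ∀ i j : ι, QuadraticMap.polar Q (P.coroot i) (P.coroot j) =
      P.pairing j i * Q (P.coroot j) := by
    intro i j
    by_cases hp : P.pairing j i = 0
    · have h1 := (inv_iff j (P.coroot i + P.coroot j)).mp (hQ j _)
      rw [map_add, QuadraticMap.polar_add_left, QuadraticMap.polar_self] at h1
      have h3 : P.root' j (P.coroot i) = P.pairing j i := rfl
      have h4 : P.root' j (P.coroot j) = 2 := P.pairing_same j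
      rw [h3, h4, hp, zero_add] at h1
      rw [hp, zero_mul]
      simp only [nsmul_eq_mul, smul_eq_mul, Nat.cast_ofNat] at h1
      have h5 : (2 : K) * QuadraticMap.polar (⇑Q) (P.coroot i) (P.coroot j) = 0 := by
        linear_combination -h1
      rcases mul_eq_zero.mp h5 with h | h
      · exact absurd h h2
      · exact h
    · have h1 := (inv_iff j (P.coroot i)).mp (hQ j _)
      have h3 : P.root' j (P.coroot i) = P.pairing j i := rfl
      rw [h3] at h1
      rcases mul_eq_zero.mp h1 with h | h
      · exact absurd h hp
      · exact (sub_eq_zero.mp h).symm
  have hsym : ∀ i j : ι, P.pairing j i * Q (P.coroot j) = P.pairing i j * Q (P.coroot i) := by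
    intro i j
    rw [← hA i j, ← hA j i, QuadraticMap.polar_comm]
  set S : Set ι := {j | Q (P.coroot j) = 0} with hS
  have hspan : Submodule.span K (P.coroot '' S) = ⊤ := by
    refine P.flip.span_root_image_eq_top_of_forall_orthogonal S ⟨i₀, h0⟩ ?_
    intro j hj i hi
    have hjS : j ∉ S := fun h => hj (Submodule.subset_span ⟨j, h, rfl⟩)
    have hQj : Q (P.coroot j) ≠ 0 := hjS
    have hQi : Q (P.coroot i) = 0 := hi
    have h1 := hsym i j
    rw [hQi, mul_zero] at h1
    have h3 : P.pairing j i = 0 := by
      rcases mul_eq_zero.mp h1 with h | h
      · exact h
      · exact absurd h hQj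
    exact ⟨P.pairing_eq_zero_iff'.mp h3, h3⟩
  have hB : ∀ y ∈ Submodule.span K (P.coroot '' S), ∀ z ∈ Submodule.span K (P.coroot '' S),
      QuadraticMap.polar Q y z = 0 := by
    intro y hy z hz
    induction hy using Submodule.span_induction with
    | mem u hu =>
      obtain ⟨i, _, rfl⟩ := hu
      induction hz using Submodule.span_induction with
      | mem v hv =>
        obtain ⟨j, hj, rfl⟩ := hv
        have hj' : Q (P.coroot j) = 0 := hj
        rw [hA, hj', mul_zero]
      | zero => exact QuadraticMap.polar_zero_right Q _
      | add v w _ _ hv hw => rw [QuadraticMap.polar_add_right, hv, hw, add_zero]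
      | smul a v _ hv => rw [QuadraticMap.polar_smul_right, hv, smul_zero]
    | zero => exact QuadraticMap.polar_zero_left Q _
    | add u v _ _ hu hv => rw [QuadraticMap.polar_add_left, hu, hv, add_zero]
    | smul a u _ hu => rw [QuadraticMap.polar_smul_left, hu, smul_zero]
  ext y
  have hy : y ∈ Submodule.span K (P.coroot '' S) := by rw [hspan]; trivial
  have h1 := hB y hy y hy
  rw [QuadraticMap.polar_self] at h1
  simp only [nsmul_eq_mul, Nat.cast_ofNat] at h1
  rcases mul_eq_zero.mp h1 with h | h
  · exact absurd h h2
  · simpa using h

end Groth.Agent.S19012
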