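import Groth.Statements.S19018
import Mathlib

set_option autoImplicit false
set_option linter.style.haveILetI false
universe u
open TensorProduct
open SymTen

namespace Groth.Agent.S19018

/-- Suppose k is a field in which 2 ≠ 0 and R is a commutative k-algebra. Write I for the ideal of the
diagonal, i.e. the kernel of multiplication R ⊗_k R → R, and write S for the subalgebra of R ⊗_k R
consisting of elements invariant under interchanging the two tensor factors. Then, viewed as ideals
of S, the swap-invariant elements of I^4 form precisely the square of the ideal of swap-invariant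
elements of I^2. (The source is stated over the complex numbers; the proof needs only that 2 is
invertible.) -/
theorem result
    (k R : Type u) [Field k] [NeZero (2 : k)] [CommRing R] [Algebra k R] :
    Ideal.comap
        (AlgHom.equalizer ((Algebra.TensorProduct.comm k R R : R ⊗[k] R ≃ₐ[k] R ⊗[k] R) : R ⊗[k] R →ₐ[k] R ⊗[k] R)
          (AlgHom.id k (R ⊗[k] R))).val
        (KaehlerDifferential.ideal k R ^ 4) =
      (Ideal.comap
        (AlgHom.equalizer ((Algebra.TensorProduct.comm k R R : R ⊗[k] R ≃ₐ[k] R ⊗[k] R) : R ⊗[k] R →ₐ[k] R ⊗[k] R)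
          (AlgHom.id k (R ⊗[k] R))).val
        (KaehlerDifferential.ideal k R ^ 2)) ^ 2 := by
  classical
  set T := R ⊗[k] R with hT
  set σ : T →ₐ[k] T :=
    ((Algebra.TensorProduct.comm k R R : R ⊗[k] R ≃ₐ[k] R ⊗[k] R) : R ⊗[k] R →ₐ[k] R ⊗[k] R) with hσ
  set S := AlgHom.equalizer σ (AlgHom.id k T) with hS
  set I := KaehlerDifferential.ideal k R with hI
  set G : Set T := Set.range fun s : R => (1 : R) ⊗ₜ[k] s - s ⊗ₜ[k] (1 : R) with hG
  have hIG : I = Ideal.span G := (KaehlerDifferential.span_range_eq_ideal k R).symm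
  have hσσ : ∀ x : T, σ (σ x) = x := by
    intro x
    show (Algebra.TensorProduct.comm k R R) ((Algebra.TensorProduct.comm k R R) x) = x
    induction x using TensorProduct.induction_on with
    | zero => simp
    | tmul a b => simp
    | add x y hx hy => rw [map_add, map_add, hx, hy]
  have hσG : ∀ g ∈ G, σ g = -g := by
    rintro _ ⟨s, rfl⟩
    show (Algebra.TensorProduct.comm k R R) ((1 : R) ⊗ₜ[k] s - s ⊗ₜ[k] (1 : R)) = _
    rw [map_sub, Algebra.TensorProduct.comm_tmul, Algebra.TensorProduct.comm_tmul, neg_sub]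
  have hGI : ∀ g ∈ G, g ∈ I := by
    intro g hg
    rw [hIG]
    exact Ideal.subset_span hg
  have hmemS : ∀ x : T, x ∈ S ↔ σ x = x := by
    intro x
    rw [hS, AlgHom.mem_equalizer]
    rfl
  -- products of two generators are symmetric
  have hGG : ∀ g₁ ∈ G, ∀ g₂ ∈ G, g₁ * g₂ ∈ S := by
    intro g₁ h₁ g₂ h₂
    rw [hmemS, map_mul, hσG g₁ h₁, hσG g₂ h₂, neg_mul_neg]
  set G2 : Set T := Set.image2 (· * ·) G G with hG2
  have hI2 : I ^ 2 = Ideal.span G2 := by
    open Pointwise in rw [pow_two, hIG, Ideal.span_mul_span', hG2, Set.image2_mul]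
  have hI4 : I ^ 4 = Ideal.span (Set.image2 (· * ·) G2 G2) := by
    open Pointwise in rw [show 4 = 2 + 2 from rfl, pow_add, hI2, Ideal.span_mul_span', Set.image2_mul]
  set J := Ideal.comap S.val (I ^ 2) with hJ
  -- symmetrisation
  have hsymmem : ∀ t : T, t + σ t ∈ S := by
    intro t
    rw [hmemS, map_add, hσσ, add_comm]
  let sym : T → S := fun t => ⟨t + σ t, hsymmem t⟩
  have key : ∀ x ∈ I ^ 4, ∀ t : T, sym (t * x) ∈ J ^ 2 := by
    intro x hx
    rw [hI4] at hx
    induction hx using Submodule.span_induction with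
    | mem g hg =>
      intro t
      obtain ⟨u, hu, v, hv, rfl⟩ := Set.mem_image2.1 hg
      obtain ⟨g₁, h₁, g₂, h₂, rfl⟩ := Set.mem_image2.1 hu
      obtain ⟨g₃, h₃, g₄, h₄, rfl⟩ := Set.mem_image2.1 hv
      have e : sym (t * (g₁ * g₂ * (g₃ * g₄))) =
          sym t * ((⟨g₁ * g₂, hGG g₁ h₁ g₂ h₂⟩ : S) * (⟨g₃ * g₄, hGG g₃ h₃ g₄ h₄⟩ : S)) := by
        apply Subtype.ext
        show t * (g₁ * g₂ * (g₃ * g₄)) + σ (t * (g₁ * g₂ * (g₃ * g₄))) =
          (t + σ t) * ((g₁ * g₂) * (g₃ * g₄))
        rw [map_mul, map_mul, map_mul, map_mul, hσG g₁ h₁, hσG g₂ h₂, hσG g₃ h₃, hσG g₄ h₄]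
        ring
      rw [e, pow_two]
      apply Ideal.mul_mem_left
      apply Ideal.mul_mem_mul
      · show g₁ * g₂ ∈ I ^ 2
        rw [pow_two]
        exact Ideal.mul_mem_mul (hGI g₁ h₁) (hGI g₂ h₂)
      · show g₃ * g₄ ∈ I ^ 2
        rw [pow_two]
        exact Ideal.mul_mem_mul (hGI g₃ h₃) (hGI g₄ h₄)
    | zero =>
      intro t
      have : sym (t * 0) = 0 := by
        apply Subtype.ext
        show t * 0 + σ (t * 0) = 0
        simp
      rw [this]
      exact Ideal.zero_mem _
    | add x y _ _ hx hy =>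
      intro t
      have : sym (t * (x + y)) = sym (t * x) + sym (t * y) := by
        apply Subtype.ext
        show t * (x + y) + σ (t * (x + y)) = (t * x + σ (t * x)) + (t * y + σ (t * y))
        rw [mul_add, map_add]
        ring
      rw [this]
      exact Ideal.add_mem _ (hx t) (hy t)
    | smul c x _ hx =>
      intro t
      have : t * (c • x) = (t * c) * x := by
        rw [smul_eq_mul, mul_assoc]
      rw [this]
      exact hx (t * c)
  apply le_antisymm
  · intro s hs
    have hs' : (s : T) ∈ I ^ 4 := hs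
    have h1 := key _ hs' 1
    have h2 : (2 : k) ≠ 0 := NeZero.ne 2
    have hsσ : σ (s : T) = (s : T) := (hmemS _).1 s.2
    have e : s = algebraMap k S (2⁻¹ : k) * sym (1 * (s : T)) := by
      apply Subtype.ext
      show (s : T) = algebraMap k T (2⁻¹ : k) * (1 * (s : T) + σ (1 * (s : T)))
      rw [one_mul, hsσ, ← two_mul, ← mul_assoc]
      have : algebraMap k T (2⁻¹ : k) * 2 = 1 := by
        have : (2 : T) = algebraMap k T 2 := (map_ofNat (algebraMap k T) 2).symm
        rw [this, ← map_mul, inv_mul_cancel₀ h2, map_one]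
      rw [this, one_mul]
    rw [e]
    exact Ideal.mul_mem_left _ _ h1
  · rw [pow_two, Ideal.mul_le]
    intro a ha b hb
    show (a : T) * (b : T) ∈ I ^ 4
    rw [show 4 = 2 + 2 from rfl, pow_add]
    exact Ideal.mul_mem_mul ha hb

end Groth.Agent.S19018
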