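import Groth.Statements.S19019
import Mathlib

set_option autoImplicit false
open scoped ComplexOrder
open Toeplitz

namespace Groth.Agent.S19019

open MeasureTheory intervalIntegral

noncomputable def e (n : ℤ) (y : ℝ) : ℂ := Complex.exp (Complex.I * (n : ℂ) * (y : ℂ))

theorem e_add (n n' : ℤ) (y : ℝ) : e n y * e n' y = e (n + n') y := by
  unfold e
  rw [← Complex.exp_add]
  congr 1
  push_cast
  ring

theorem e_zero (y : ℝ) : e 0 y = 1 := by
  unfold e
  simp

theorem e_conj (n : ℤ) (y : ℝ) : (starRingEnd ℂ) (e n y) = e (-n) y := by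
  unfold e
  rw [← Complex.exp_conj]
  congr 1
  simp

theorem e_continuous (n : ℤ) : Continuous (e n) := by
  unfold e
  fun_prop

theorem integral_e (n : ℤ) : ∫ y in (0:ℝ)..(2 * Real.pi), e n y = if n = 0 then (2 * Real.pi : ℂ) else 0 := by
  split_ifs with h
  · subst h
    simp [e_zero]
  · unfold e
    have hc : Complex.I * (n : ℂ) ≠ 0 := mul_ne_zero Complex.I_ne_zero (by exact_mod_cast h)
    rw [integral_exp_mul_complex hc]
    have : Complex.exp (Complex.I * (n : ℂ) * ((2 * Real.pi : ℝ) : ℂ)) = 1 := by
      have := Complex.exp_int_mul_two_pi_mul_I n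
      rw [← this]
      congr 1
      push_cast
      ring
    rw [this]
    simp

theorem key_integral (m : ℕ) (t : ℤ → ℂ) (x : Fin m → ℂ) (S : Finset ℤ) :
    ∫ y in (0:ℝ)..(2 * Real.pi),
      (∑ k ∈ S, t k * e k y) *
        ((starRingEnd ℂ) (∑ i : Fin m, x i * e (-(i : ℤ)) y) * (∑ j : Fin m, x j * e (-(j : ℤ)) y)) =
    (2 * Real.pi : ℂ) * ∑ i : Fin m, ∑ j : Fin m,
      (if ((j : ℤ) - (i : ℤ)) ∈ S then (starRingEnd ℂ) (x i) * t ((j : ℤ) - (i : ℤ)) * x j else 0) := by
  have hexp : ∀ y : ℝ, (∑ k ∈ S, t k * e k y) *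
        ((starRingEnd ℂ) (∑ i : Fin m, x i * e (-(i : ℤ)) y) * (∑ j : Fin m, x j * e (-(j : ℤ)) y)) =
      ∑ i : Fin m, ∑ j : Fin m, ∑ k ∈ S,
        ((starRingEnd ℂ) (x i) * t k * x j) * e (k + (i : ℤ) - (j : ℤ)) y := by
    intro y
    rw [map_sum, Finset.sum_mul_sum, Finset.mul_sum]
    refine Finset.sum_congr rfl fun i _ => ?_
    rw [Finset.mul_sum]
    refine Finset.sum_congr rfl fun j _ => ?_
    rw [Finset.sum_mul]
    refine Finset.sum_congr rfl fun k _ => ?_
    rw [map_mul, e_conj, neg_neg]
    have : e (k + (i : ℤ) - (j : ℤ)) y = e k y * e (i : ℤ) y * e (-(j : ℤ)) y := by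
      rw [e_add, e_add]
      congr 1
    rw [this]
    ring
  simp_rw [hexp]
  rw [intervalIntegral.integral_finsetSum, Finset.mul_sum]
  · refine Finset.sum_congr rfl fun i _ => ?_
    rw [intervalIntegral.integral_finsetSum, Finset.mul_sum]
    · refine Finset.sum_congr rfl fun j _ => ?_
      rw [intervalIntegral.integral_finsetSum]
      · simp_rw [intervalIntegral.integral_const_mul, integral_e]
        split_ifs with h
        · rw [Finset.sum_eq_single ((j : ℤ) - (i : ℤ))]
          · rw [if_pos (by ring)]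
            ring
          · intro k _ hk
            rw [if_neg, mul_zero]
            intro h0
            apply hk
            linarith
          · intro h'
            exact absurd h h'
        · rw [mul_zero]
          refine Finset.sum_eq_zero fun k hk => ?_
          rw [if_neg, mul_zero]
          intro h0
          apply h
          have : k = (j : ℤ) - (i : ℤ) := by linarith
          rw [← this]
          exact hk
      · intro k _
        exact ((e_continuous _).const_mul _).intervalIntegrable _ _
    · intro j _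
      refine Continuous.intervalIntegrable ?_ _ _
      exact continuous_finsetSum _ fun k _ => (e_continuous _).const_mul _
  · intro i _
    refine Continuous.intervalIntegrable ?_ _ _
    exact continuous_finsetSum _ fun j _ => continuous_finsetSum _ fun k _ => (e_continuous _).const_mul _


/-- Let A be an m × m complex Hermitian Toeplitz matrix, with entries A i j = t (j - i) constant along
diagonals, and let f(y) = Σ_{-m < k < m} t k · exp(i k y) be the trigonometric polynomial attached
to it. If f has positive real part at every real y outside a countable set, then A is positive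
definite (hence nondegenerate). (The source also states the mirror case: f negative off a countable
set gives A negative definite, which is this statement for -A.) -/
theorem result
    (m : ℕ) (t : ℤ → ℂ) (A : Matrix (Fin m) (Fin m) ℂ)
    (hA : ∀ i j : Fin m, A i j = t ((j : ℤ) - (i : ℤ))) (hH : A.IsHermitian)
    (hpos : Set.Countable {y : ℝ | ¬ 0 < (∑ k ∈ Finset.Ioo (-(m : ℤ)) (m : ℤ),
        t k * Complex.exp (Complex.I * (k : ℂ) * (y : ℂ))).re}) :
    A.PosDef := by
  classical
  refine Matrix.PosDef.of_dotProduct_mulVec_pos hH fun x hx => ?_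
  set S := Finset.Ioo (-(m : ℤ)) (m : ℤ) with hS
  set f : ℝ → ℂ := fun y => ∑ k ∈ S, t k * e k y with hf
  set P : ℝ → ℂ := fun y => ∑ j : Fin m, x j * e (-(j : ℤ)) y with hP
  set Q : ℂ := star x ⬝ᵥ (A.mulVec x) with hQ
  have hfcont : Continuous f := continuous_finsetSum _ fun k _ => (e_continuous _).const_mul _
  have hPcont : Continuous P := continuous_finsetSum _ fun k _ => (e_continuous _).const_mul _
  have hQsum : Q = ∑ i : Fin m, ∑ j : Fin m,
      (starRingEnd ℂ) (x i) * t ((j : ℤ) - (i : ℤ)) * x j := by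
    simp only [hQ, dotProduct, Matrix.mulVec, Pi.star_apply, hA, Finset.mul_sum]
    refine Finset.sum_congr rfl fun i _ => Finset.sum_congr rfl fun j _ => ?_
    rw [Complex.star_def]
    ring
  have hmemS : ∀ i j : Fin m, ((j : ℤ) - (i : ℤ)) ∈ S := by
    intro i j
    rw [hS, Finset.mem_Ioo]
    have := i.2
    have := j.2
    omega
  have I1 : ∫ y in (0:ℝ)..(2 * Real.pi), f y * ((starRingEnd ℂ) (P y) * P y) =
      (2 * Real.pi : ℂ) * Q := by
    rw [key_integral m t x S, hQsum]
    congr 1
    refine Finset.sum_congr rfl fun i _ => Finset.sum_congr rfl fun j _ => ?_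
    rw [if_pos (hmemS i j)]
  have I2 : ∫ y in (0:ℝ)..(2 * Real.pi), ((starRingEnd ℂ) (P y) * P y) =
      (2 * Real.pi : ℂ) * ∑ i : Fin m, (starRingEnd ℂ) (x i) * x i := by
    have h := key_integral m (fun _ => 1) x {0}
    simp only [Finset.sum_singleton, one_mul, e_zero, Finset.mem_singleton, mul_one] at h
    rw [h]
    congr 1
    refine Finset.sum_congr rfl fun i _ => ?_
    rw [Finset.sum_eq_single i]
    · rw [if_pos (sub_self _)]
    · intro j _ hji
      rw [if_neg]
      intro h0
      apply hji
      ext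
      have : (j : ℤ) = (i : ℤ) := by linarith
      exact_mod_cast this
    · intro h'
      exact absurd (Finset.mem_univ i) h'
  -- real functions
  set g : ℝ → ℝ := fun y => ‖P y‖ ^ 2 with hg
  set h : ℝ → ℝ := fun y => (f y).re * ‖P y‖ ^ 2 with hh
  have hgcont : Continuous g := (continuous_norm.comp hPcont).pow 2
  have hhcont : Continuous h := (Complex.continuous_re.comp hfcont).mul hgcont
  have hcm : ∀ y, (starRingEnd ℂ) (P y) * P y = ((g y : ℝ) : ℂ) := by
    intro y
    rw [Complex.conj_mul', hg]
    push_cast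
    rfl
  have J1 : ∫ y in (0:ℝ)..(2 * Real.pi), h y = 2 * Real.pi * Q.re := by
    have h1 : ∀ y, h y = (f y * ((starRingEnd ℂ) (P y) * P y)).re := by
      intro y
      rw [hcm, Complex.re_mul_ofReal]
    simp_rw [h1]
    have hint : IntervalIntegrable (fun y => f y * ((starRingEnd ℂ) (P y) * P y)) volume 0
        (2 * Real.pi) :=
      (hfcont.mul ((Complex.continuous_conj.comp hPcont).mul hPcont)).intervalIntegrable _ _
    have := intervalIntegral.intervalIntegral_re hint
    simp only [RCLike.re_to_complex] at this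
    rw [this, I1]
    have h2 : ((2 * Real.pi : ℂ) * Q) = ((2 * Real.pi : ℝ) : ℂ) * Q := by push_cast; ring
    rw [h2, Complex.re_ofReal_mul]
  have J2 : ∫ y in (0:ℝ)..(2 * Real.pi), g y = 2 * Real.pi * ∑ i : Fin m, ‖x i‖ ^ 2 := by
    have h1 : ∫ y in (0:ℝ)..(2 * Real.pi), ((g y : ℝ) : ℂ) =
        (((2 * Real.pi * ∑ i : Fin m, ‖x i‖ ^ 2 : ℝ)) : ℂ) := by
      simp_rw [← hcm]
      rw [I2]
      push_cast
      congr 1
      refine Finset.sum_congr rfl fun i _ => ?_
      rw [Complex.conj_mul']
    rw [intervalIntegral.integral_ofReal] at h1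
    exact_mod_cast h1
  have hsumpos : 0 < ∑ i : Fin m, ‖x i‖ ^ 2 := by
    obtain ⟨i₀, hi₀⟩ : ∃ i₀, x i₀ ≠ 0 := by
      by_contra hcon
      push Not at hcon
      exact hx (funext hcon)
    refine Finset.sum_pos' (fun i _ => by positivity) ⟨i₀, Finset.mem_univ _, ?_⟩
    have := norm_pos_iff.mpr hi₀
    positivity
  have hpi : (0:ℝ) ≤ 2 * Real.pi := by positivity
  have hpi' : (0:ℝ) < 2 * Real.pi := by positivity
  -- a.e. positivity of Re f
  have hae : ∀ᵐ y ∂(volume.restrict (Set.Ioc (0:ℝ) (2 * Real.pi))), 0 < (f y).re := by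
    refine ae_restrict_of_ae ?_
    have := hpos.ae_notMem (volume : Measure ℝ)
    filter_upwards [this] with y hy
    simp only [Set.mem_setOf_eq, not_not] at hy
    exact hy
  have hnonneg : 0 ≤ᵐ[volume.restrict (Set.Ioc (0:ℝ) (2 * Real.pi))] h := by
    filter_upwards [hae] with y hy
    exact mul_nonneg hy.le (by positivity)
  have hreQ : 0 < Q.re := by
    by_contra hcon
    push Not at hcon
    have hint_nonneg : 0 ≤ ∫ y in (0:ℝ)..(2 * Real.pi), h y := by
      rw [intervalIntegral.integral_of_le hpi]
      exact integral_nonneg_of_ae hnonneg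
    have hzero : ∫ y in (0:ℝ)..(2 * Real.pi), h y = 0 := by
      apply le_antisymm _ hint_nonneg
      rw [J1]
      exact mul_nonpos_of_nonneg_of_nonpos hpi hcon
    have hh0 := (intervalIntegral.integral_eq_zero_iff_of_le_of_nonneg_ae hpi hnonneg
      (hhcont.intervalIntegrable _ _)).mp hzero
    have hg0 : g =ᵐ[volume.restrict (Set.Ioc (0:ℝ) (2 * Real.pi))] 0 := by
      filter_upwards [hh0, hae] with y hy1 hy2
      simp only [Pi.zero_apply, hh] at hy1 ⊢
      rcases mul_eq_zero.mp hy1 with h' | h'
      · exact absurd h' hy2.ne'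
      · exact h'
    have hgint : ∫ y in (0:ℝ)..(2 * Real.pi), g y = 0 := by
      rw [intervalIntegral.integral_of_le hpi]
      rw [integral_congr_ae hg0]
      simp
    rw [J2] at hgint
    have := mul_pos hpi' hsumpos
    linarith
  have himQ : Q.im = 0 := by
    rw [← Complex.conj_eq_iff_im]
    have h1 : (starRingEnd ℂ) Q = star Q := rfl
    rw [h1, hQ, ← Matrix.star_dotProduct, Matrix.star_mulVec, hH.eq, ← Matrix.dotProduct_mulVec]
  rw [Complex.pos_iff]
  exact ⟨hreQ, himQ.symm⟩

end Groth.Agent.S19019
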