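import Groth.Statements.S19020
import Mathlib

set_option autoImplicit false
open Toeplitz

namespace Groth.Agent.S19020

open Finset in
theorem vdm (n d : ℕ) : ∑ b ∈ Finset.range (n + 1), Nat.choose n (b + d) * Nat.choose n b = Nat.choose (2 * n) (n + d) := by
  rw [two_mul, Nat.add_choose_eq, Finset.Nat.sum_antidiagonal_eq_sum_range_succ_mk]
  -- Σ_{k ∈ range (n+d+1)} C(n,k) C(n, n+d-k)
  simp only [Nat.succ_eq_add_one]
  rw [Finset.range_eq_Ico (n + d + 1), ← Finset.sum_Ico_consecutive _ (Nat.zero_le d) (by omega : d ≤ n + d + 1)]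
  have h0 : ∑ i ∈ Ico 0 d, n.choose i * n.choose (n + d - i) = 0 := by
    refine Finset.sum_eq_zero fun k hk => ?_
    rw [Finset.mem_Ico] at hk
    rw [Nat.choose_eq_zero_of_lt (by omega : n < n + d - k), mul_zero]
  rw [h0, zero_add, Finset.sum_Ico_eq_sum_range]
  have : n + d + 1 - d = n + 1 := by omega
  rw [this]
  refine Finset.sum_congr rfl fun b hb => ?_
  rw [Finset.mem_range] at hb
  have h1 : n + d - (d + b) = n - b := by omega
  rw [h1]
  rw [Nat.choose_symm (by omega : b ≤ n), add_comm d b]

/-- coefficient -/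
def c (n r i : ℕ) : ℕ := if i ≤ r then Nat.choose n (r - i) else 0

open Finset in
theorem key (n m i j : ℕ) (hij : i ≤ j) (hj : j < m) :
    ∑ r ∈ Finset.range (m + n), c n r i * c n r j
      = Nat.choose (2 * n) (n + (j - i)) := by
  unfold c
  rw [← vdm]
  rw [Finset.range_eq_Ico (m + n), ← Finset.sum_Ico_consecutive _ (Nat.zero_le j) (by omega : j ≤ m + n)]
  have h0 : ∑ r ∈ Ico 0 j, (if i ≤ r then Nat.choose n (r - i) else 0) * (if j ≤ r then Nat.choose n (r - j) else 0) = 0 := by
    refine Finset.sum_eq_zero fun k hk => ?_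
    rw [Finset.mem_Ico] at hk
    rw [if_neg (by omega : ¬ j ≤ k), mul_zero]
  rw [h0, zero_add, Finset.sum_Ico_eq_sum_range]
  have hsub : Finset.range (n + 1) ⊆ Finset.range (m + n - j) := by
    intro b hb
    rw [Finset.mem_range] at hb ⊢
    omega
  symm
  refine Finset.sum_subset_zero_on_sdiff hsub ?_ ?_
  · intro b hb
    rw [Finset.mem_sdiff, Finset.mem_range, Finset.mem_range] at hb
    rw [if_pos (by omega), if_pos (by omega)]
    have : j + b - j = b := by omega
    rw [this, Nat.choose_eq_zero_of_lt (by omega : n < b), mul_zero]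
  · intro b hb
    rw [if_pos (by omega), if_pos (by omega)]
    have h1 : j + b - j = b := by omega
    have h2 : j + b - i = b + (j - i) := by omega
    rw [h1, h2]

theorem key' (n m i j : ℕ) (hi : i < m) (hj : j < m) :
    ∑ r ∈ Finset.range (m + n), c n r i * c n r j
      = Nat.choose (2 * n) (n + Nat.dist i j) := by
  rcases le_total i j with h | h
  · rw [key n m i j h hj, Nat.dist_eq_sub_of_le h]
  · rw [Nat.dist_comm, Nat.dist_eq_sub_of_le h, ← key n m j i h hi]
    exact Finset.sum_congr rfl fun r _ => mul_comm _ _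


/-- For natural numbers n and m, the m × m real Toeplitz matrix with (i, j) entry (-1)^(i+j) · C(2n, n +
|i - j|), i.e. with t_k = (-1)^k C(2n, n + k) on the k-th diagonal for |k| ≤ n and zero beyond, is
positive definite; in particular it is nondegenerate, which is the printed assertion (positive
definiteness is what the printed proof establishes; m = 0 is the empty matrix). -/
theorem result (n m : ℕ) :
    (Matrix.of fun i j : Fin m =>
        (-1 : ℝ) ^ ((i : ℕ) + (j : ℕ)) * (Nat.choose (2 * n) (n + Nat.dist i j) : ℝ)).PosDef := by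
  classical
  let B : Matrix (Fin (m + n)) (Fin m) ℝ :=
    Matrix.of fun r j => (-1 : ℝ) ^ ((r : ℕ) + (j : ℕ)) * (c n r j : ℝ)
  have hB : Function.Injective B.mulVec := by
    have hz : ∀ z : Fin m → ℝ, B.mulVec z = 0 → z = 0 := by
      intro z hz
      have : ∀ (k : ℕ) (hk : k < m), z ⟨k, hk⟩ = 0 := by
        intro k
        induction k using Nat.strong_induction_on with
        | _ k ih =>
          intro hk
          have h1 := congrFun hz ⟨k, by omega⟩
          simp only [Matrix.mulVec, dotProduct, Pi.zero_apply] at h1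
          rw [Finset.sum_eq_single ⟨k, hk⟩] at h1
          · simpa [B, c] using h1
          · intro j _ hjk
            rcases lt_or_gt_of_ne (Fin.val_ne_of_ne hjk) with h | h
            · have := ih j h j.2
              rw [Fin.eta] at this
              rw [this, mul_zero]
            · have h2 : c n k j = 0 := by
                unfold c
                rw [if_neg]
                simpa using h
              simp [B, h2]
          · simp
      funext j
      exact this j j.2
    intro x y hxy
    have := hz (x - y) (by rw [Matrix.mulVec_sub, hxy, sub_self])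
    exact sub_eq_zero.mp this
  have hT : B.conjTranspose * B = Matrix.of fun i j : Fin m =>
      (-1 : ℝ) ^ ((i : ℕ) + (j : ℕ)) * (Nat.choose (2 * n) (n + Nat.dist i j) : ℝ) := by
    ext i j
    simp only [Matrix.mul_apply, Matrix.conjTranspose_apply, Matrix.of_apply, star_trivial, B]
    rw [← key' n m i j i.2 j.2]
    push_cast
    rw [Finset.mul_sum, ← Fin.sum_univ_eq_sum_range (fun r => (-1 : ℝ) ^ ((i : ℕ) + (j : ℕ)) * ((c n r i : ℝ) * (c n r j : ℝ))) (m + n)]
    refine Finset.sum_congr rfl fun r _ => ?_
    have : (-1 : ℝ) ^ ((r : ℕ) + (i : ℕ)) * (-1 : ℝ) ^ ((r : ℕ) + (j : ℕ)) = (-1 : ℝ) ^ ((i : ℕ) + (j : ℕ)) := by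
      rw [← pow_add]
      have : (r : ℕ) + i + (r + j) = 2 * r + (i + j) := by ring
      rw [this, pow_add, pow_mul]
      simp
    rw [← this]
    ring
  rw [← hT]
  exact Matrix.PosDef.conjTranspose_mul_self B hB

end Groth.Agent.S19020
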