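import Groth.Statements.S19021
import Mathlib
import Groth.Agent.S19020

set_option autoImplicit false
open Toeplitz

namespace Groth.Agent.S19021

/-- For natural numbers n and m, the m × m integer Toeplitz matrix with (i, j) entry (-1)^(i+j) ·
C(2n+1, n+1+i-j) (the binomial coefficient being 0 outside the range 0 ≤ n+1+i-j ≤ 2n+1;
equivalently s_k = (-1)^k C(2n+1, n+k+1) on the diagonal i - j = k for -n-1 ≤ k ≤ n and zero beyond)
is nondegenerate: its determinant is nonzero (m = 0 is the empty matrix, of determinant 1). -/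
theorem result (n m : ℕ) :
    (Matrix.of fun i j : Fin m =>
        (-1 : ℤ) ^ ((i : ℕ) + (j : ℕ)) *
          (if (j : ℕ) ≤ (i : ℕ) then (Nat.choose (2 * n + 1) (n + 1 + ((i : ℕ) - (j : ℕ))) : ℤ)
            else (Nat.choose (2 * n + 1) (n + ((j : ℕ) - (i : ℕ))) : ℤ))).det ≠ 0 := by
  classical
  intro hdet
  set S : Matrix (Fin m) (Fin m) ℤ := Matrix.of fun i j : Fin m =>
        (-1 : ℤ) ^ ((i : ℕ) + (j : ℕ)) *
          (if (j : ℕ) ≤ (i : ℕ) then (Nat.choose (2 * n + 1) (n + 1 + ((i : ℕ) - (j : ℕ))) : ℤ)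
            else (Nat.choose (2 * n + 1) (n + ((j : ℕ) - (i : ℕ))) : ℤ)) with hS
  set SR : Matrix (Fin m) (Fin m) ℝ := (Int.castRingHom ℝ).mapMatrix S with hSR
  have hdetR : SR.det = 0 := by
    rw [hSR, ← RingHom.map_det, hdet, map_zero]
  obtain ⟨x, hx, hSx⟩ := Matrix.exists_mulVec_eq_zero_iff.mpr hdetR
  have hpd := Groth.Agent.S19020.result (n + 1) m
  have hsum : SR + SR.transpose = Matrix.of fun i j : Fin m =>
      (-1 : ℝ) ^ ((i : ℕ) + (j : ℕ)) * (Nat.choose (2 * (n + 1)) (n + 1 + Nat.dist i j) : ℝ) := by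
    ext i j
    simp only [hSR, hS, Matrix.add_apply, Matrix.transpose_apply, RingHom.mapMatrix_apply,
      Matrix.map_apply, Matrix.of_apply, Int.coe_castRingHom]
    have hpas : ∀ d : ℕ, (Nat.choose (2 * (n + 1)) (n + 1 + d)) =
        Nat.choose (2 * n + 1) (n + d) + Nat.choose (2 * n + 1) (n + 1 + d) := by
      intro d
      have h1 : 2 * (n + 1) = (2 * n + 1) + 1 := by ring
      have h2 : n + 1 + d = (n + d) + 1 := by ring
      rw [h1, h2, Nat.choose_succ_succ]
    have hsym : Nat.choose (2 * n + 1) n = Nat.choose (2 * n + 1) (n + 1) := by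
      rw [← Nat.choose_symm (by omega : n ≤ 2 * n + 1)]
      congr 1
      omega
    rcases lt_trichotomy (i : ℕ) (j : ℕ) with h | h | h
    · rw [if_neg (by omega), if_pos (by omega), Nat.dist_eq_sub_of_le h.le, hpas]
      push_cast
      rw [add_comm (j : ℕ) (i : ℕ)]
      ring
    · rw [if_pos (by omega), if_pos (by omega), h, Nat.dist_self, hpas]
      push_cast
      simp only [Nat.sub_self, add_zero]
      rw [hsym]
      ring
    · rw [if_pos (by omega), if_neg (by omega), Nat.dist_comm, Nat.dist_eq_sub_of_le h.le, hpas]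
      push_cast
      rw [add_comm (j : ℕ) (i : ℕ)]
      ring
  rw [← hsum] at hpd
  have hpos := hpd.dotProduct_mulVec_pos hx
  rw [Matrix.add_mulVec, dotProduct_add, hSx, dotProduct_zero, zero_add, star_trivial,
    Matrix.mulVec_transpose, dotProduct_comm, ← Matrix.dotProduct_mulVec, hSx,
    dotProduct_zero] at hpos
  exact lt_irrefl _ hpos

end Groth.Agent.S19021
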