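import Groth.Statements.S19025
import Mathlib

set_option autoImplicit false
universe u
open HigherRestr

namespace Groth.Agent.S19025

/-- In abstract form, the estimate its proof establishes. Let S be a commutative ring, I an ideal of S,
g₀ and g₁ elements with g₁ - g₀ ∈ I, N a natural number and y a sequence in S such that, for 1 ≤ i ≤
N, the (N-i)-fold unit-step forward difference of y taken at i lies in I^(N-i). Then g₀^N times the
N-fold forward difference of y at 0, minus the N-fold forward difference at 0 of the twisted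
sequence j ↦ g₀^(N-j) g₁^j y_j, lies in I^N. (In the source S is the ring of functions on an affine
chart of X^n, I the ideal of a pairwise diagonal, g₀ and g₁ the two pullbacks of a transition unit
of L, and y_j the components x_λ along the compositions a₀^(N-j) a₁^j μ; the estimate is what makes
the higher order restrictions D^l_L well defined on ker D^(l-1)_L independently of the
trivialisation.) -/
theorem result
    (S : Type u) [CommRing S] (I : Ideal S) (g₀ g₁ : S) (hg : g₁ - g₀ ∈ I)
    (N : ℕ) (y : ℕ → S)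
    (hy : ∀ i : ℕ, 1 ≤ i → i ≤ N → (fwdDiff (1 : ℕ))^[N - i] y i ∈ I ^ (N - i)) :
    g₀ ^ N * (fwdDiff (1 : ℕ))^[N] y 0 -
        (fwdDiff (1 : ℕ))^[N] (fun j : ℕ => g₀ ^ (N - j) * g₁ ^ j * y j) 0 ∈ I ^ N := by
  classical
  set h := g₁ - g₀ with hh
  let E : Module.End S (ℕ → S) := LinearMap.funLeft S S (fun j : ℕ => j + 1)
  let Dl : Module.End S (ℕ → S) := E - 1
  have hE1 : ∀ (f : ℕ → S) (j : ℕ), E f j = f (j + 1) := fun f j => rfl
  have hE : ∀ (k : ℕ) (f : ℕ → S) (j : ℕ), (E ^ k) f j = f (j + k) := by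
    intro k
    induction k with
    | zero => intro f j; simp
    | succ k ih =>
      intro f j
      rw [pow_succ, Module.End.mul_apply, ih, hE1]
      rfl
  have hD : ∀ (n : ℕ) (f : ℕ → S), (Dl ^ n) f = (fwdDiff (1 : ℕ))^[n] f := by
    intro n
    induction n with
    | zero => intro f; simp
    | succ n ih =>
      intro f
      rw [pow_succ', Module.End.mul_apply, ih, Function.iterate_succ_apply']
      funext j
      simp [Dl, hE1, fwdDiff]
  have hT : g₁ • E + (-g₀) • (1 : Module.End S (ℕ → S)) = g₀ • Dl + h • E := by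
    simp only [Dl, hh]
    module
  have hc1 : Commute (g₁ • E) ((-g₀) • (1 : Module.End S (ℕ → S))) :=
    (Commute.one_right _).smul_right _
  have hc2 : Commute (g₀ • Dl) (h • E) := by
    apply Commute.smul_left
    apply Commute.smul_right
    exact ((Commute.refl E).sub_left (Commute.one_left E))
  have e1 := congrArg (fun A : Module.End S (ℕ → S) => A y 0) (hc1.add_pow N)
  have e2 := congrArg (fun A : Module.End S (ℕ → S) => A y 0) (hc2.add_pow N)
  rw [hT] at e1
  rw [e2] at e1
  simp only [LinearMap.sum_apply, Finset.sum_apply, smul_pow, one_pow] at e1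
  have hL : ∀ c, (g₀ ^ c • Dl ^ c * h ^ (N - c) • E ^ (N - c) * ↑(N.choose c)) y 0 =
      (N.choose c : S) * (g₀ ^ c * h ^ (N - c)) * (fwdDiff (1 : ℕ))^[c] y (N - c) := by
    intro c
    have h1 : (E ^ (N - c)) y = fun r => y (r + (N - c)) := funext (hE _ y)
    simp only [Module.End.mul_apply, LinearMap.smul_apply, Module.End.natCast_apply, map_nsmul,
      map_smul, Pi.smul_apply, hD, h1, fwdDiff_iter_comp_add, zero_add, smul_eq_mul]
    rw [nsmul_eq_mul]
    ring
  have hR : ∀ c, (g₁ ^ c • E ^ c * (-g₀) ^ (N - c) • 1 * ↑(N.choose c)) y 0 =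
      (N.choose c : S) * (g₁ ^ c * (-g₀) ^ (N - c)) * y c := by
    intro c
    simp only [Module.End.mul_apply, LinearMap.smul_apply, Module.End.natCast_apply, map_nsmul,
      map_smul, Pi.smul_apply, hE, zero_add, smul_eq_mul, Module.End.one_apply]
    simp only [nsmul_eq_mul]
    ring
  simp only [hL, hR] at e1
  have hsum : (fwdDiff (1 : ℕ))^[N] (fun j : ℕ => g₀ ^ (N - j) * g₁ ^ j * y j) 0 =
      ∑ c ∈ Finset.range (N + 1), (N.choose c : S) * (g₁ ^ c * (-g₀) ^ (N - c)) * y c := by
    rw [fwdDiff_iter_eq_sum_shift]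
    apply Finset.sum_congr rfl
    intro c _
    rw [zsmul_eq_mul, neg_pow g₀]
    push_cast
    simp only [zero_add, smul_eq_mul, mul_one]
    ring
  rw [hsum, ← e1, Finset.sum_range_succ]
  have hlast : (N.choose N : S) * (g₀ ^ N * h ^ (N - N)) * (fwdDiff (1 : ℕ))^[N] y (N - N) =
      g₀ ^ N * (fwdDiff (1 : ℕ))^[N] y 0 := by
    simp
  rw [hlast, sub_add_cancel_right]
  rw [neg_mem_iff]
  apply Ideal.sum_mem
  intro c hc
  rw [Finset.mem_range] at hc
  have h1 : h ^ (N - c) ∈ I ^ (N - c) := Ideal.pow_mem_pow hg _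
  have h2 : (fwdDiff (1 : ℕ))^[c] y (N - c) ∈ I ^ c := by
    have := hy (N - c) (by omega) (by omega)
    rwa [show N - (N - c) = c by omega] at this
  have h3 : h ^ (N - c) * (fwdDiff (1 : ℕ))^[c] y (N - c) ∈ I ^ N := by
    have := Ideal.mul_mem_mul h1 h2
    rwa [← pow_add, show N - c + c = N by omega] at this
  have h4 : (N.choose c : S) * (g₀ ^ c * h ^ (N - c)) * (fwdDiff (1 : ℕ))^[c] y (N - c) =
      ((N.choose c : S) * g₀ ^ c) * (h ^ (N - c) * (fwdDiff (1 : ℕ))^[c] y (N - c)) := by ring
  rw [h4]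
  exact Ideal.mul_mem_left _ _ h3

end Groth.Agent.S19025
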