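import Groth.Statements.S19034
import Groth.Agent.Lib.helper13.BIPullback

set_option autoImplicit false
universe u
open LabGraph

namespace Groth.Agent.S19034

open LabGraph in
/-- Let σ : Z → X be the contraction of some exceptional components of a quasi-wp-stable curve Z of
genus g ≥ 2 onto a quasi-wp-stable curve X, and d a properly balanced multidegree on X; then the
pull-back d̃ of d to Z (d̃_W = d_{σ(W)} when σ(W) is a curve, d̃ = 0 on contracted components) is
balanced. Encode Z by its weighted multigraph (vertices = irreducible components, weight plus number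
of loops = arithmetic genus of the component, one edge per node and two per tacnode joining distinct
components; canDeg Y = deg_Y ω_Z, cut Y = k_Y, K = canDeg of all vertices = 2g − 2; exceptional
vertex = exceptional component), and let S be the set of contracted components, each an exceptional
vertex. The components of X are the vertices outside S; for a set W of them, the subcurve σ(W) of X
has deg ω_X equal to canDeg Ŵ and k equal to cut Ŵ, where Ŵ is W together with the vertices of S all
of whose edges end in W, and the exceptional components of X are the exceptional vertices outside S.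
So the hypotheses below say that d̃ vanishes on S and that d = d̃|_{V∖S} is properly balanced on X
(Basic Inequality 2·|K·d_W − D·canDeg Ŵ| ≤ cut Ŵ·K for every W disjoint from S, D the total degree,
and value 1 on exceptional vertices outside S); the conclusion is the Basic Inequality for d̃ on Z,
for every set of vertices. -/
theorem result {V E : Type u} [Fintype V] [Fintype E]
    [DecidableEq V] [DecidableEq E] (ends : E → V × V) (w : V → ℕ) (hZ : IsQuasistableGraph ends w)
    (hg : 2 ≤ genus ends w) (S : Finset V) (hS : ∀ v ∈ S, IsExceptional ends w v)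
    (dt : V → ℤ) (hzero : ∀ v ∈ S, dt v = 0)
    (hBI : ∀ W : Finset V, Disjoint W S →
      2 * |canDeg ends w Finset.univ * (∑ v ∈ W, dt v) - (∑ v, dt v) * canDeg ends w (Finset.univ.filter (fun v : V => v ∈ W ∨ (v ∈ S ∧ ∀ e : E, ((ends e).1 = v → (ends e).2 ∈ W) ∧ ((ends e).2 = v → (ends e).1 ∈ W))))|
        ≤ (cut ends (Finset.univ.filter (fun v : V => v ∈ W ∨ (v ∈ S ∧ ∀ e : E, ((ends e).1 = v → (ends e).2 ∈ W) ∧ ((ends e).2 = v → (ends e).1 ∈ W)))) : ℤ) * canDeg ends w Finset.univ)
    (hone : ∀ v : V, v ∉ S → IsExceptional ends w v → dt v = 1) :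
    SatisfiesBI ends w dt := by
  intro Y
  set W := Y.filter (fun v => v ∉ S) with hWdef
  have hdisj : Disjoint W S := by
    rw [Finset.disjoint_left]
    intro a ha
    exact (Finset.mem_filter.mp ha).2
  have h := hBI W hdisj
  set What := Finset.univ.filter (fun v : V => v ∈ W ∨ (v ∈ S ∧ ∀ e : E, ((ends e).1 = v → (ends e).2 ∈ W) ∧ ((ends e).2 = v → (ends e).1 ∈ W))) with hWhat
  have hS1 : ∀ e, ¬((ends e).1 ∈ S ∧ (ends e).2 ∈ S) := by
    rintro e ⟨h1, h2⟩
    have e1 := hS _ h1
    have e2 := hS _ h2
    by_cases heq : (ends e).1 = (ends e).2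
    · exact e1.2.1 e (Prod.ext rfl heq.symm)
    · exact hZ.2 e heq ⟨e1, e2⟩
  have hS2 : ∀ v ∈ S, cut ends {v} ≤ 2 := fun v hv => (hS v hv).2.2.le
  have hY : ∀ a, a ∉ S → (a ∈ Y ↔ a ∈ W) := by
    intro a ha
    simp [hWdef, ha]
  have hW1 : ∀ a, a ∉ S → (a ∈ What ↔ a ∈ W) := by
    intro a ha
    simp [hWhat, ha]
  have hW2 : ∀ v ∈ S, (v ∈ What ↔
      ∀ e, ((ends e).1 = v → (ends e).2 ∈ W) ∧ ((ends e).2 = v → (ends e).1 ∈ W)) := by
    intro v hv
    have hvW : v ∉ W := fun hw => (Finset.mem_filter.mp hw).2 hv
    simp [hWhat, hv, hvW]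
  have hcut := Groth.Agent.Lib.helper13.BIPullback.cut_le ends S W Y What hS1 hS2 hY hW1 hW2
  have hK : 0 ≤ canDeg ends w Finset.univ := by
    rw [Groth.Agent.Lib.helper13.BIPullback.canDeg_univ]
    linarith
  have hsum : ∑ v ∈ Y, dt v = ∑ v ∈ W, dt v := by
    symm
    refine Finset.sum_subset (Finset.filter_subset _ _) ?_
    intro a haY haW
    apply hzero
    by_contra hs
    exact haW (Finset.mem_filter.mpr ⟨haY, hs⟩)
  have hcY : canDeg ends w Y = canDeg ends w W :=
    Groth.Agent.Lib.helper13.BIPullback.canDeg_eq_of_agree ends w S W Y hS (Finset.filter_subset _ _)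
      (fun a haY haW => by
        by_contra hs
        exact haW (Finset.mem_filter.mpr ⟨haY, hs⟩))
  have hcW : canDeg ends w What = canDeg ends w W :=
    Groth.Agent.Lib.helper13.BIPullback.canDeg_eq_of_agree ends w S W What hS
      (fun a ha => Finset.mem_filter.mpr ⟨Finset.mem_univ _, Or.inl ha⟩)
      (fun a haW' haW => by
        rcases (Finset.mem_filter.mp haW').2 with h1 | h1
        · exact absurd h1 haW
        · exact h1.1)
  rw [hsum, hcY, ← hcW]
  calc _ ≤ (cut ends What : ℤ) * canDeg ends w Finset.univ := h
    _ ≤ (cut ends Y : ℤ) * canDeg ends w Finset.univ :=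
      mul_le_mul_of_nonneg_right (by exact_mod_cast hcut) hK

end Groth.Agent.S19034
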