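import Groth.Statements.S19035
import Mathlib

set_option autoImplicit false
universe u v w x
open CAlg

namespace Groth.Agent.S19035

/-- Let p be a prime and k a perfect field of characteristic p. Let (A_i) be a directed system of
finitely generated commutative k-algebras, indexed by a nonempty directed preorder, with compatible
k-algebra transition maps, and let B be a finitely generated k-algebra with compatible k-algebra
maps A_i → B which present B as the direct limit of the system (every element of B is the image of
an element of some A_i, and two elements of some A_i with the same image in B have the same image in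
some A_j). Then the p-typical Witt vectors commute with this direct limit: every Witt vector over B
is the image of a Witt vector over some A_i, and two Witt vectors over some A_i with the same image
over B already have the same image over some A_j. (Both finiteness hypotheses matter: for an
arbitrary filtered direct limit of commutative rings either assertion can fail.) -/
theorem result
    (p : ℕ) [Fact p.Prime] (k : Type u) [Field k] [CharP k p] [PerfectRing k p]
    {ι : Type v} [Preorder ι] [IsDirected ι (· ≤ ·)] [Nonempty ι]
    (A : ι → Type w) [∀ i, CommRing (A i)] [∀ i, Algebra k (A i)]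
    [∀ i, Algebra.FiniteType k (A i)]
    (f : ∀ i j, i ≤ j → (A i →ₐ[k] A j))
    (hf : ∀ i j l (hij : i ≤ j) (hjl : j ≤ l) (x : A i),
      f j l hjl (f i j hij x) = f i l (hij.trans hjl) x)
    (B : Type x) [CommRing B] [Algebra k B] [Algebra.FiniteType k B]
    (g : ∀ i, A i →ₐ[k] B)
    (hfg : ∀ i j (hij : i ≤ j) (x : A i), g j (f i j hij x) = g i x)
    (hsurj : ∀ b : B, ∃ i, ∃ x : A i, g i x = b)
    (hinj : ∀ i (x y : A i), g i x = g i y → ∃ j, ∃ hij : i ≤ j, f i j hij x = f i j hij y) :
    (∀ w : WittVector p B, ∃ i, ∃ v : WittVector p (A i),
        WittVector.map (g i).toRingHom v = w) ∧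
    (∀ i (v v' : WittVector p (A i)),
        WittVector.map (g i).toRingHom v = WittVector.map (g i).toRingHom v' →
        ∃ j, ∃ hij : i ≤ j,
          WittVector.map (f i j hij).toRingHom v = WittVector.map (f i j hij).toRingHom v') := by
  classical
  refine ⟨?_, ?_⟩
  · -- some g i₀ is surjective
    have hsurj' : ∃ i₀, Function.Surjective (g i₀) := by
      obtain ⟨T, hT⟩ := (Algebra.FiniteType.out : (⊤ : Subalgebra k B).FG)
      choose idx x hx using hsurj
      obtain ⟨i₀, hi₀⟩ := Finset.exists_le (T.image idx)
      refine ⟨i₀, ?_⟩
      have hrange : (⊤ : Subalgebra k B) ≤ (g i₀).range := by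
        rw [← hT]
        apply Algebra.adjoin_le
        intro t ht
        have hle : idx t ≤ i₀ := hi₀ _ (Finset.mem_image_of_mem idx ht)
        exact ⟨f (idx t) i₀ hle (x t), (hfg _ _ hle (x t)).trans (hx t)⟩
      intro b
      exact hrange (Algebra.mem_top : b ∈ (⊤ : Subalgebra k B))
    obtain ⟨i₀, hi₀⟩ := hsurj'
    intro w
    choose v hv using fun n => hi₀ (w.coeff n)
    refine ⟨i₀, WittVector.mk p v, ?_⟩
    ext n
    rw [WittVector.map_coeff]
    exact hv n
  · intro i v v' hvv'
    haveI : IsNoetherianRing (A i) := Algebra.FiniteType.isNoetherianRing k (A i)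
    have hcoeff : ∀ n, g i (v.coeff n) = g i (v'.coeff n) := by
      intro n
      have := congrArg (fun w => w.coeff n) hvv'
      simpa [WittVector.map_coeff] using this
    obtain ⟨S, hS⟩ := (IsNoetherian.noetherian (RingHom.ker (g i).toRingHom) :
      (RingHom.ker (g i).toRingHom).FG)
    have hSker : ∀ s ∈ S, g i s = g i 0 := by
      intro s hs
      have : s ∈ RingHom.ker (g i).toRingHom := hS ▸ Ideal.subset_span hs
      rw [map_zero]
      exact this
    choose! js hjs hfs using fun s (hs : s ∈ S) => hinj i s 0 (hSker s hs)
    obtain ⟨j, hj⟩ := Finset.exists_le (insert i (S.image js))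
    have hij : i ≤ j := hj i (Finset.mem_insert_self _ _)
    have hker : RingHom.ker (g i).toRingHom ≤ RingHom.ker (f i j hij).toRingHom := by
      rw [← hS, Ideal.span_le]
      intro s hs
      have hjs' : js s ≤ j := hj _ (Finset.mem_insert_of_mem (Finset.mem_image_of_mem js hs))
      show (f i j hij) s = 0
      have h1 := hf i (js s) j (hjs s hs) hjs' s
      rw [← h1, hfs s hs, map_zero, map_zero]
    refine ⟨j, hij, ?_⟩
    ext n
    rw [WittVector.map_coeff, WittVector.map_coeff]
    have hmem : v.coeff n - v'.coeff n ∈ RingHom.ker (g i).toRingHom := by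
      show (g i) (v.coeff n - v'.coeff n) = 0
      rw [map_sub, hcoeff n, sub_self]
    have := hker hmem
    have h2 : (f i j hij) (v.coeff n - v'.coeff n) = 0 := this
    rw [map_sub, sub_eq_zero] at h2
    exact h2

end Groth.Agent.S19035
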