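import Groth.Statements.S19037
import Mathlib

set_option autoImplicit false
universe u v
open scoped Polynomial LaurentPolynomial
open Instab

namespace Groth.Agent.S19037aux
open scoped Polynomial LaurentPolynomial

theorem main {R : Type*} {A : Type*} [CommRing R] [CommRing A] [Algebra R A]
    (𝒜 : ℤ → Submodule R A) [GradedAlgebra 𝒜] (t : A) (ht : t ∈ 𝒜 (-1))
    (ψ : Localization.Away t →ₐ[R] R[T;T⁻¹])
    (hψt : ψ (algebraMap A (Localization.Away t) t) = LaurentPolynomial.T 1)
    (hψ : ∀ (n : ℤ) (a : A), a ∈ 𝒜 n →
      ∃ r : R, ψ (algebraMap A (Localization.Away t) a) = LaurentPolynomial.C r * LaurentPolynomial.T (-n)) :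
    (∃! χ : A →ₐ[R] R[X], ∀ a : A,
        ψ (algebraMap A (Localization.Away t) a) = Polynomial.toLaurentAlg (χ a)) ↔
      ∀ a ∈ 𝒜 1, ψ (algebraMap A (Localization.Away t) (t * a)) = 0 := by
  classical
  constructor
  · rintro ⟨χ, hχ, -⟩ a ha
    obtain ⟨r, hr⟩ := hψ 1 a ha
    have h1 : Polynomial.toLaurent (Polynomial.X * χ a) = Polynomial.toLaurent (Polynomial.C r) := by
      rw [map_mul, Polynomial.toLaurent_X, Polynomial.toLaurent_C, ← Polynomial.toLaurentAlg_apply,
        ← hχ a, hr, mul_left_comm, ← LaurentPolynomial.T_add]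
      simp
    have h2 := Polynomial.toLaurent_injective h1
    have h3 := congrArg (fun p => Polynomial.coeff p 0) h2
    simp only [Polynomial.coeff_X_mul_zero, Polynomial.coeff_C_zero] at h3
    rw [map_mul, map_mul, hr, ← h3]
    simp
  · intro h
    let f : A →ₐ[R] R[T;T⁻¹] := ψ.comp (IsScalarTower.toAlgHom R A (Localization.Away t))
    have hf : ∀ a, f a = ψ (algebraMap A (Localization.Away t) a) := fun a => rfl
    have hrange : ∀ a : A, f a ∈ (Polynomial.toLaurentAlg : R[X] →ₐ[R] R[T;T⁻¹]).range := by
      intro a
      induction a using DirectSum.Decomposition.inductionOn 𝒜 with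
      | zero => rw [map_zero]; exact Subalgebra.zero_mem _
      | @homogeneous n a =>
        obtain ⟨r, hr⟩ := hψ n a a.2
        rw [hf, hr]
        by_cases hn : n ≤ 0
        · refine ⟨Polynomial.monomial (-n).toNat r, ?_⟩
          change Polynomial.toLaurentAlg (Polynomial.monomial (-n).toNat r) = _
          rw [Polynomial.toLaurentAlg_apply, Polynomial.toLaurent_C_mul_T, Int.toNat_of_nonneg (by omega)]
        · push Not at hn
          have hmem : t ^ (n - 1).toNat * (a : A) ∈ 𝒜 1 := by
            have h1 : t ^ (n - 1).toNat ∈ 𝒜 ((n - 1).toNat • (-1 : ℤ)) :=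
              SetLike.pow_mem_graded _ ht
            have h2 := SetLike.mul_mem_graded h1 a.2
            have h3 : (n - 1).toNat • (-1 : ℤ) + n = 1 := by
              rw [nsmul_eq_mul, Int.toNat_of_nonneg (by omega)]; ring
            rwa [h3] at h2
          have h4 := h _ hmem
          rw [← mul_assoc, ← pow_succ', map_mul, map_mul, map_pow, map_pow, hψt, hr] at h4
          have h5 : LaurentPolynomial.T 1 ^ ((n - 1).toNat + 1) = (LaurentPolynomial.T n : R[T;T⁻¹]) := by
            rw [LaurentPolynomial.T_pow]
            congr 1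
            push_cast
            rw [Int.toNat_of_nonneg (by omega)]; ring
          rw [h5, mul_left_comm, ← LaurentPolynomial.T_add] at h4
          have h6 : (LaurentPolynomial.C r : R[T;T⁻¹]) = 0 := by simpa using h4
          rw [h6, zero_mul]
          exact Subalgebra.zero_mem _
      | add a b ha hb => rw [map_add]; exact Subalgebra.add_mem _ ha hb
    let e := AlgEquiv.ofInjective (Polynomial.toLaurentAlg : R[X] →ₐ[R] R[T;T⁻¹])
      Polynomial.toLaurent_injective
    let χ : A →ₐ[R] R[X] := (e.symm : _ →ₐ[R] R[X]).comp (f.codRestrict _ hrange)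
    have hχ : ∀ a, Polynomial.toLaurentAlg (χ a) = f a := by
      intro a
      have h1 : e (χ a) = f.codRestrict _ hrange a := e.apply_symm_apply _
      exact congrArg Subtype.val h1
    refine ⟨χ, fun a => (hχ a).symm, ?_⟩
    intro χ' hχ'
    ext a : 1
    apply Polynomial.toLaurent_injective
    have := hχ' a
    rw [← Polynomial.toLaurentAlg_apply, ← Polynomial.toLaurentAlg_apply, ← this, hχ a]
    rfl

end Groth.Agent.S19037aux

namespace Groth.Agent.S19037

/-- Affine form over a ring R. Let A be a commutative ℤ-graded R-algebra and t an element of degree −1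
(so A is a graded algebra over R[t] with t in degree −1), and let ψ : A[1/t] → R[T, T⁻¹] be an
R-algebra map sending t to T which is graded, in the sense that each homogeneous element of degree n
of A goes to an element of R times T^(−n). Then ψ is obtained by inverting t from an R-algebra map χ
: A → R[T] (compared through the inclusion of R[T] in R[T, T⁻¹]) if and only if ψ kills t·a for
every homogeneous a of degree 1; such a χ is unique. (The source states this for quasi-coherent
graded algebras over an arbitrary base scheme; the statement is local on the base and is given here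
over an affine base.) -/
theorem result
    {R : Type u} {A : Type v} [CommRing R] [CommRing A] [Algebra R A]
    (𝒜 : ℤ → Submodule R A) [GradedAlgebra 𝒜] (t : A) (ht : t ∈ 𝒜 (-1))
    (ψ : Localization.Away t →ₐ[R] R[T;T⁻¹])
    (hψt : ψ (algebraMap A (Localization.Away t) t) = LaurentPolynomial.T 1)
    (hψ : ∀ (n : ℤ) (a : A), a ∈ 𝒜 n →
      ∃ r : R, ψ (algebraMap A (Localization.Away t) a) = LaurentPolynomial.C r * LaurentPolynomial.T (-n)) :
    (∃! χ : A →ₐ[R] R[X], ∀ a : A,
        ψ (algebraMap A (Localization.Away t) a) = Polynomial.toLaurentAlg (χ a)) ↔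
      ∀ a ∈ 𝒜 1, ψ (algebraMap A (Localization.Away t) (t * a)) = 0 := by
  exact Groth.Agent.S19037aux.main 𝒜 t ht ψ hψt hψ

end Groth.Agent.S19037
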