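import Groth.Statements.S19042
import Mathlib
import Groth.Agent.Lib.helper28.GcMod

set_option autoImplicit false
universe u
open Dieu

namespace Groth.Agent.S19042

/-- Let `k` be a perfect field of characteristic `2` and `c` a natural number, and consider the explicit
`2c`-dimensional `k`-space on `X_1, …, X_c, Y_1, …, Y_c` with its operators `F` and `V` (`F Y_j =
0`; `F X_j = X_{j/2}` for `j` even and `Y_{c-(j-1)/2}` for `j` odd; `V Y_j = Y_{2j}` when `2j ≤ c`,
else `0`; `V X_j = Y_{2c-2j+1}` when `2j > c`, else `0`). The vectors `X_j` with `c < 2j ≤ 2c`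
generate it as a module over `k[F, V]`: a `k`-subspace stable under `F` and `V` containing them is
everything. (Stated over any perfect field of characteristic `2`; the source works over an
algebraically closed one.) -/
theorem result (c : ℕ) (k : Type u) [Field k] [CharP k 2] [PerfectRing k 2]
    (N : Submodule k (W4c6eohyperellchar2.GcMod c k))
    (hF : ∀ v ∈ N, W4c6eohyperellchar2.F c k v ∈ N) (hV : ∀ v ∈ N, W4c6eohyperellchar2.V c k v ∈ N)
    (hX : ∀ j : ℕ, c < 2 * j → j ≤ c → W4c6eohyperellchar2.X c k j ∈ N) : N = ⊤ := by
  open Groth.Agent.Lib.helper28.Gc W4c6eohyperellchar2 in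
  -- all X_i in N
  have hXall : ∀ d i : ℕ, c - i ≤ d → 1 ≤ i → i ≤ c → X c k i ∈ N := by
    intro d
    induction d with
    | zero =>
      intro i hd h1 hc
      exact hX i (by omega) hc
    | succ d ih =>
      intro i hd h1 hc
      by_cases h2 : c < 2 * i
      · exact hX i h2 hc
      · have h3 := ih (2 * i) (by omega) (by omega) (by omega)
        have h4 := hF _ h3
        rw [F_X_even c k (2 * i) (by omega) ⟨i, by ring⟩] at h4
        have : 2 * i / 2 = i := by omega
        rwa [this] at h4
  have hYall : ∀ m : ℕ, 1 ≤ m → m ≤ c → Y c k m ∈ N := by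
    intro m
    induction m using Nat.strong_induction_on with
    | _ m ih =>
      intro h1 hc
      rcases Nat.even_or_odd m with ⟨r, hr⟩ | ⟨r, hr⟩
      · have h3 := ih r (by omega) (by omega) (by omega)
        have h4 := hV _ h3
        rw [V_Y] at h4
        have : 2 * r = m := by omega
        rwa [this] at h4
      · have h3 := hX (c - r) (by omega) (by omega)
        have h4 := hV _ h3
        rw [V_X c k (c - r) (by omega) (by omega)] at h4
        have : 2 * c - 2 * (c - r) + 1 = m := by omega
        rwa [this] at h4
  exact eq_top_of_basis_mem c k N (fun i h1 hc => hXall (c - i) i le_rfl h1 hc) hYall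

end Groth.Agent.S19042
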