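import Groth.Statements.S19043
import Mathlib
import Groth.Agent.Lib.helper28.GcMod

set_option autoImplicit false
universe u
open Dieu

namespace Groth.Agent.S19043

open Groth.Agent.Lib.helper28.Gc W4c6eohyperellchar2

section
variable (c : ℕ) (k : Type u) [Field k] [CharP k 2] [PerfectRing k 2]

/-- the subspace of vectors with no `X_j`-coordinate for `c < 2j` -/
def W' : Submodule k (GcMod c k) where
  carrier := {v | ∀ i : Fin c, c < 2 * (i.val + 1) → v.1 i = 0}
  zero_mem' := fun i _ => rfl
  add_mem' := by
    intro a b ha hb i hi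
    show a.1 i + b.1 i = 0
    rw [ha i hi, hb i hi, add_zero]
  smul_mem' := by
    intro r a ha i hi
    show r • a.1 i = 0
    rw [ha i hi, smul_zero]

theorem span_eq_W' :
    Submodule.span k (Set.range (F c k) ∪ Set.range (V c k)) = W' c k := by
  apply le_antisymm
  · rw [Submodule.span_le]
    rintro _ (⟨v, rfl⟩ | ⟨v, rfl⟩)
    · intro i hi
      show coefX v (2 * (i.val + 1)) ^ 2 = 0
      unfold coefX
      rw [dif_neg (by omega)]
      simp
    · intro i hi
      rfl
  · intro v hv
    have hYmem : ∀ m : ℕ, 1 ≤ m → m ≤ c → Y c k m ∈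
        Submodule.span k (Set.range (F c k) ∪ Set.range (V c k)) := by
      intro m h1 hc
      apply Submodule.subset_span
      right
      rcases Nat.even_or_odd m with ⟨r, hr⟩ | ⟨r, hr⟩
      · refine ⟨Y c k r, ?_⟩
        rw [V_Y]
        congr 1
        omega
      · refine ⟨X c k (c - r), ?_⟩
        rw [V_X c k (c - r) (by omega) (by omega)]
        congr 1
        omega
    rw [eq_sum_basis c k v]
    refine Submodule.add_mem _ (Submodule.sum_mem _ fun i _ => ?_)
      (Submodule.sum_mem _ fun i _ => Submodule.smul_mem _ _
        (hYmem _ (by omega) (by have := i.2; omega)))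
    by_cases hi : c < 2 * (i.val + 1)
    · rw [hv i hi, zero_smul]
      exact zero_mem _
    · apply Submodule.smul_mem
      apply Submodule.subset_span
      left
      refine ⟨X c k (2 * (i.val + 1)), ?_⟩
      rw [F_X_even c k _ (by omega) ⟨i.val + 1, by ring⟩]
      congr 1
      omega

end

/-- Let `k` be a perfect field of characteristic `2` and `c` a natural number, and let `M` be the
explicit `2c`-dimensional `k`-space on `X_1, …, X_c, Y_1, …, Y_c` with its operators `F` and `V` (`F
Y_j = 0`; `F X_j = X_{j/2}` for `j` even and `Y_{c-(j-1)/2}` for `j` odd; `V Y_j = Y_{2j}` when `2j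
≤ c`, else `0`; `V X_j = Y_{2c-2j+1}` when `2j > c`, else `0`). The classes of the `X_j` with `c <
2j ≤ 2c` in the quotient of `M` by the `k`-span of `F(M) ∪ V(M)` are linearly independent and span
that quotient. (Stated over any perfect field of characteristic `2`; the source works over an
algebraically closed one.) -/
theorem result (c : ℕ) (k : Type u) [Field k] [CharP k 2] [PerfectRing k 2] :
    LinearIndependent k (fun j : {j : ℕ // c < 2 * j ∧ j ≤ c} =>
        Submodule.mkQ (Submodule.span k (Set.range (W4c6eohyperellchar2.F c k) ∪ Set.range (W4c6eohyperellchar2.V c k))) (W4c6eohyperellchar2.X c k j.1)) ∧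
      Submodule.span k (Set.range (fun j : {j : ℕ // c < 2 * j ∧ j ≤ c} =>
        Submodule.mkQ (Submodule.span k (Set.range (W4c6eohyperellchar2.F c k) ∪ Set.range (W4c6eohyperellchar2.V c k))) (W4c6eohyperellchar2.X c k j.1))) = ⊤ := by
  classical
  rw [span_eq_W']
  constructor
  · rw [linearIndependent_iff']
    intro s g hg j₀ hj₀
    have h1 : (W' c k).mkQ (∑ j ∈ s, g j • X c k j.1) = 0 := by
      rw [map_sum]
      simpa using hg
    rw [Submodule.mkQ_apply, Submodule.Quotient.mk_eq_zero] at h1
    have hj := j₀.2
    have h2 := h1 ⟨j₀.1 - 1, by omega⟩ (by simp only; omega)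
    simp only [Prod.fst_sum, Prod.smul_fst, Finset.sum_apply, Pi.smul_apply, X, smul_eq_mul] at h2
    rw [Finset.sum_eq_single j₀] at h2
    · rw [if_pos (by omega), mul_one] at h2
      exact h2
    · intro b _ hb
      rw [if_neg, mul_zero]
      intro h
      apply hb
      exact Subtype.ext (by omega)
    · intro h; exact absurd hj₀ h
  · rw [eq_top_iff]
    rintro q -
    obtain ⟨v, rfl⟩ := Submodule.mkQ_surjective _ q
    -- decompose v
    have key : v - ∑ i : Fin c, (if c < 2 * (i.val + 1) then v.1 i • X c k (i.val + 1) else 0)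
        ∈ W' c k := by
      intro i hi
      show v.1 i - (∑ j : Fin c, (if c < 2 * (j.val + 1) then v.1 j • X c k (j.val + 1) else 0)).1 i = 0
      rw [Prod.fst_sum, Finset.sum_apply, Finset.sum_eq_single i]
      · rw [if_pos hi]
        simp [X]
      · intro b _ hb
        split_ifs
        · simp only [Prod.smul_fst, Pi.smul_apply, X, smul_eq_mul]
          rw [if_neg, mul_zero]
          intro h
          apply hb
          exact Fin.ext (by omega)
        · rfl
      · intro h; exact absurd (Finset.mem_univ i) h
    have h3 : (W' c k).mkQ v = (W' c k).mkQ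
        (∑ i : Fin c, (if c < 2 * (i.val + 1) then v.1 i • X c k (i.val + 1) else 0)) := by
      rw [← sub_eq_zero, ← map_sub, Submodule.mkQ_apply, Submodule.Quotient.mk_eq_zero]
      exact key
    rw [h3, map_sum]
    refine Submodule.sum_mem _ fun i _ => ?_
    split_ifs with hi
    · rw [map_smul]
      apply Submodule.smul_mem
      apply Submodule.subset_span
      exact ⟨⟨i.val + 1, hi, by have := i.2; omega⟩, rfl⟩
    · rw [map_zero]
      exact zero_mem _

end Groth.Agent.S19043
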