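import Groth.Statements.S19048
import Mathlib

set_option autoImplicit false
universe u
open Dieu

namespace Groth.Agent.S19048aux
open W4c6eohyperellchar2

section basic
variable (c : ℕ) (k : Type u) [Field k]

theorem decomp (v : GcMod c k) :
    v = ∑ j : Fin c, v.1 j • X c k (j.val + 1) + ∑ j : Fin c, v.2 j • Y c k (j.val + 1) := by
  refine Prod.ext ?_ ?_
  · funext l
    simp only [Prod.fst_add, Prod.fst_sum, Prod.smul_fst, Pi.add_apply, Finset.sum_apply,
      Pi.smul_apply, X, Y, smul_eq_mul, Pi.zero_apply, mul_zero, Finset.sum_const_zero, add_zero,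
      add_left_inj, mul_ite, mul_one]
    simp [Fin.val_inj]
  · funext l
    simp only [Prod.snd_add, Prod.snd_sum, Prod.smul_snd, Pi.add_apply, Finset.sum_apply,
      Pi.smul_apply, X, Y, smul_eq_mul, Pi.zero_apply, mul_zero, Finset.sum_const_zero, zero_add,
      add_left_inj, mul_ite, mul_one]
    simp [Fin.val_inj]

theorem mem_Nfil_iff (i : ℕ) (v : GcMod c k) :
    v ∈ Nfil c k i ↔ (∀ j : Fin c, min i c < j.val + 1 → v.2 j = 0) ∧
      (∀ j : Fin c, j.val + 1 ≤ 2 * c - i → v.1 j = 0) := by
  constructor
  · intro hv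
    refine Submodule.span_induction (p := fun v _ => (∀ j : Fin c, min i c < j.val + 1 → v.2 j = 0) ∧
      (∀ j : Fin c, j.val + 1 ≤ 2 * c - i → v.1 j = 0)) ?_ ?_ ?_ ?_ hv
    · rintro x (⟨n, hn, rfl⟩ | ⟨n, hn, rfl⟩)
      · refine ⟨fun j hj => ?_, fun j _ => rfl⟩
        have : j.val + 1 ≠ n := by
          have := hn.2; omega
        simp [Y, this]
      · refine ⟨fun j _ => rfl, fun j hj => ?_⟩
        have : j.val + 1 ≠ n := by
          have := hn.1; omega
        simp [X, this]
    · exact ⟨fun j _ => rfl, fun j _ => rfl⟩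
    · rintro x y _ _ ⟨hx1, hx2⟩ ⟨hy1, hy2⟩
      refine ⟨fun j hj => ?_, fun j hj => ?_⟩
      · simp [hx1 j hj, hy1 j hj]
      · simp [hx2 j hj, hy2 j hj]
    · rintro a x _ ⟨hx1, hx2⟩
      refine ⟨fun j hj => ?_, fun j hj => ?_⟩
      · simp [hx1 j hj]
      · simp [hx2 j hj]
  · rintro ⟨h1, h2⟩
    rw [decomp c k v]
    refine Submodule.add_mem _ (Submodule.sum_mem _ fun j _ => ?_) (Submodule.sum_mem _ fun j _ => ?_)
    · by_cases hj : j.val + 1 ≤ 2 * c - i
      · rw [h2 j hj, zero_smul]; exact Submodule.zero_mem _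
      · refine Submodule.smul_mem _ _ (Submodule.subset_span (Or.inr ⟨j.val + 1, ⟨by omega, by omega⟩, rfl⟩))
    · by_cases hj : min i c < j.val + 1
      · rw [h1 j hj, zero_smul]; exact Submodule.zero_mem _
      · refine Submodule.smul_mem _ _ (Submodule.subset_span (Or.inl ⟨j.val + 1, ⟨by omega, by omega⟩, rfl⟩))

theorem card_lt (m : ℕ) : Fintype.card {j : Fin c // j.val + 1 ≤ m} = min m c := by
  rw [← Fintype.card_fin (min m c)]
  refine Fintype.card_congr
    { toFun := fun j => ⟨j.1.val, by have := j.2; have := j.1.2; omega⟩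
      invFun := fun t => ⟨⟨t.val, by have := t.2; omega⟩, by have := t.2; simp only; omega⟩
      left_inv := fun j => rfl
      right_inv := fun t => rfl }

theorem card_gt (m : ℕ) : Fintype.card {j : Fin c // m < j.val + 1} = c - min m c := by
  have h := Fintype.card_subtype_compl (fun j : Fin c => j.val + 1 ≤ m)
  rw [card_lt, Fintype.card_fin] at h
  rw [← h]
  refine Fintype.card_congr (Equiv.subtypeEquivRight fun j => by simp)

theorem finrank_Nfil (i : ℕ) (hi : i ≤ 2 * c) : Module.finrank k (Nfil c k i) = i := by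
  classical
  let Φ : GcMod c k →ₗ[k] ({j : Fin c // j.val + 1 ≤ 2 * c - i} → k) × ({j : Fin c // min i c < j.val + 1} → k) :=
    LinearMap.prod ((LinearMap.funLeft k k Subtype.val) ∘ₗ LinearMap.fst k _ _)
      ((LinearMap.funLeft k k Subtype.val) ∘ₗ LinearMap.snd k _ _)
  have hker : LinearMap.ker Φ = Nfil c k i := by
    ext v
    rw [LinearMap.mem_ker, mem_Nfil_iff]
    constructor
    · intro h
      have h1 := congrArg Prod.fst h
      have h2 := congrArg Prod.snd h
      refine ⟨fun j hj => ?_, fun j hj => ?_⟩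
      · exact congrFun h2 ⟨j, hj⟩
      · exact congrFun h1 ⟨j, hj⟩
    · rintro ⟨h1, h2⟩
      refine Prod.ext ?_ ?_
      · funext j; exact h2 j.1 j.2
      · funext j; exact h1 j.1 j.2
  have hsurj : Function.Surjective Φ := by
    rintro ⟨f, g⟩
    refine ⟨(fun j => if h : j.val + 1 ≤ 2 * c - i then f ⟨j, h⟩ else 0,
      fun j => if h : min i c < j.val + 1 then g ⟨j, h⟩ else 0), ?_⟩
    refine Prod.ext ?_ ?_
    · funext j
      show (if h : j.1.val + 1 ≤ 2 * c - i then f ⟨j.1, h⟩ else 0) = f j
      rw [dif_pos j.2]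
    · funext j
      show (if h : min i c < j.1.val + 1 then g ⟨j.1, h⟩ else 0) = g j
      rw [dif_pos j.2]
  have hrn := LinearMap.finrank_range_add_finrank_ker Φ
  rw [LinearMap.range_eq_top.mpr hsurj, finrank_top, hker, Module.finrank_prod, Module.finrank_prod,
    Module.finrank_fintype_fun_eq_card, Module.finrank_fintype_fun_eq_card,
    Module.finrank_fintype_fun_eq_card, card_lt, card_gt, Fintype.card_fin] at hrn
  omega

theorem coefX_eq (v : GcMod c k) (j : Fin c) : coefX v (j.val + 1) = v.1 j := by
  unfold coefX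
  rw [dif_pos ⟨by omega, by omega⟩]
  rfl

theorem coefY_eq (v : GcMod c k) (j : Fin c) : coefY v (j.val + 1) = v.2 j := by
  unfold coefY
  rw [dif_pos ⟨by omega, by omega⟩]
  rfl

theorem NF_preimage (a : ℕ → k) (ha : a c ≠ 0) (i : ℕ) (hi : i ≤ 2 * c) :
    NF c k a ⁻¹' (Nfil c k i : Set (GcMod c k)) = (Nfil c k (c + (i + 1) / 2) : Set (GcMod c k)) := by
  ext v
  simp only [Set.mem_preimage, SetLike.mem_coe, mem_Nfil_iff]
  constructor
  · rintro ⟨h1, h2⟩
    refine ⟨fun j hj => ?_, ?_⟩
    · exfalso
      have := j.2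
      rw [min_eq_right (by omega)] at hj
      omega
    · have key : ∀ n : ℕ, ∀ j : Fin c, j.val = n → j.val + 1 ≤ 2 * c - (c + (i + 1) / 2) →
          v.1 j = 0 := by
        intro n
        induction n using Nat.strong_induction_on with
        | _ n IH =>
          intro j hjn hj
          have hjc := j.2
          by_cases h2t : 2 * (j.val + 1) ≤ c
          · have hlt : 2 * (j.val + 1) - 1 < c := by omega
            have e := h2 ⟨2 * (j.val + 1) - 1, hlt⟩ (by simp only; omega)
            simp only [NF] at e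
            rw [if_pos (by omega)] at e
            have e2 : (2 * (j.val + 1) - 1 + 1) / 2 = j.val + 1 := by omega
            rw [e2, coefX_eq] at e
            exact pow_eq_zero_iff (two_ne_zero) |>.mp e
          · have hlt : 2 * (c - (j.val + 1)) < c := by omega
            have e := h1 ⟨2 * (c - (j.val + 1)), hlt⟩ (by
              simp only
              have : min i c ≤ i := min_le_left _ _
              omega)
            simp only [NF] at e
            rw [if_pos (by omega)] at e
            rw [Finset.sum_eq_single j] at e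
            · rw [if_pos ⟨by omega, by omega⟩] at e
              have e3 : j.val + 1 + 2 * (c - (j.val + 1)) / 2 = c := by omega
              rw [e3] at e
              have := (mul_eq_zero.mp e).resolve_right ha
              exact pow_eq_zero_iff (two_ne_zero) |>.mp this
            · intro j' _ hj'
              split_ifs with hc
              · have hlt' : j'.val < j.val := by
                  have hne : j'.val ≠ j.val := fun h => hj' (Fin.ext h)
                  omega
                rw [IH j'.val (by omega) j' rfl (by omega)]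
                ring
              · rfl
            · intro h; exact absurd (Finset.mem_univ j) h
      exact fun j hj => key j.val j rfl hj
  · rintro ⟨_, hv⟩
    refine ⟨fun j hj => ?_, fun j hj => ?_⟩
    · simp only [NF]
      split_ifs with hodd
      · refine Finset.sum_eq_zero fun j' _ => ?_
        split_ifs with hc
        · have hjc := j.2
          have : min i c = i ∨ min i c = c := by
            rcases le_total i c with h | h
            · left; exact min_eq_left h
            · right; exact min_eq_right h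
          rw [hv j' (by omega)]
          ring
        · rfl
      · rfl
    · simp only [NF]
      split_ifs with heven
      · have hjc := j.2
        have hlt : (j.val + 1) / 2 - 1 < c := by omega
        have e := coefX_eq c k v ⟨(j.val + 1) / 2 - 1, hlt⟩
        simp only at e
        rw [show (j.val + 1) / 2 - 1 + 1 = (j.val + 1) / 2 by omega] at e
        rw [e, hv _ (by simp only; omega)]
        ring
      · rfl

end basic

section NVsec
variable (c : ℕ) (k : Type u) [Field k] [CharP k 2] [PerfectRing k 2] (a : ℕ → k)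

theorem coefY_add (v w : GcMod c k) (n : ℕ) : coefY (v + w) n = coefY v n + coefY w n := by
  unfold coefY; split_ifs <;> simp

theorem NV_add (v w : GcMod c k) : NV c k a (v + w) = NV c k a v + NV c k a w := by
  refine Prod.ext ?_ ?_
  · simp [NV]
  · funext l
    simp only [NV, Prod.snd_add, Pi.add_apply, coefY_add, map_add, Prod.fst_add, add_mul]
    rw [add_add_add_comm, ← Finset.sum_add_distrib]
    congr 1
    refine Finset.sum_congr rfl fun j _ => ?_
    split_ifs <;> simp

/-- `NV` as an additive hom. -/
noncomputable def NVhom : GcMod c k →+ GcMod c k := AddMonoidHom.mk' (NV c k a) (NV_add c k a)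

theorem NVhom_apply (v : GcMod c k) : NVhom c k a v = NV c k a v := rfl

theorem NV_smul_Y (b : k) (m : ℕ) (hm : 1 ≤ m) (hmc : 2 * m ≤ c) :
    NV c k a (b • Y c k (2 * m)) = (frobeniusEquiv k 2).symm b • Y c k m := by
  refine Prod.ext ?_ ?_
  · simp [NV, Y]
  · funext l
    simp only [NV, Prod.smul_snd, Pi.smul_apply, Prod.smul_fst, Y, smul_eq_mul, Pi.zero_apply,
      mul_zero, zero_mul, map_zero, ite_self, Finset.sum_const_zero, add_zero]
    by_cases hl : l.val + 1 = m
    · rw [if_pos hl, mul_one]
      congr 1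
      unfold coefY
      rw [dif_pos ⟨by omega, by omega⟩]
      simp only [Prod.smul_snd, Pi.smul_apply, smul_eq_mul]
      rw [if_pos (by omega), mul_one]
    · rw [if_neg hl, mul_zero]
      have : coefY (b • ((0 : Fin c → k), fun i : Fin c => if i.val + 1 = 2 * m then (1 : k) else 0))
          (2 * (l.val + 1)) = 0 := by
        unfold coefY
        split_ifs with h
        · simp only [Prod.smul_snd, Pi.smul_apply, smul_eq_mul]
          rw [if_neg (by omega), mul_zero]
        · rfl
      rw [this, map_zero]

theorem NV_smul_X (b : k) (j₀ : Fin c) (hodd : (j₀.val + 1) % 2 = 1) :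
    NV c k a (b • X c k (j₀.val + 1)) =
      (0, fun l : Fin c => if (l.val + 1) + j₀.val / 2 ≤ c then
        (frobeniusEquiv k 2).symm (b * a ((l.val + 1) + j₀.val / 2)) else 0) := by
  refine Prod.ext ?_ ?_
  · simp [NV]
  · funext l
    simp only [NV]
    have h0 : coefY (b • X c k (j₀.val + 1)) (2 * (l.val + 1)) = 0 := by
      unfold coefY
      split_ifs with h
      · simp [X]
      · rfl
    rw [h0, map_zero, zero_add]
    rw [Finset.sum_eq_single j₀]
    · by_cases hc : (l.val + 1) + j₀.val / 2 ≤ c
      · rw [if_pos ⟨hodd, hc⟩, if_pos hc]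
        simp [X]
      · rw [if_neg (fun h => hc h.2), if_neg hc]
    · intro j _ hj
      have hne : j.val ≠ j₀.val := fun h => hj (Fin.ext h)
      split_ifs
      · simp [X, hne]
      · rfl
    · intro h; exact absurd (Finset.mem_univ j₀) h

theorem mem_G_of (G : AddSubgroup (GcMod c k)) (w : GcMod c k) (hw1 : w.1 = 0)
    (hw2 : ∀ l : Fin c, w.2 l • Y c k (l.val + 1) ∈ G) : w ∈ G := by
  rw [decomp c k w]
  refine G.add_mem (G.sum_mem fun j _ => ?_) (G.sum_mem fun j _ => hw2 j)
  rw [hw1]
  simp only [Pi.zero_apply, zero_smul]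
  exact G.zero_mem

theorem claim (ha : a c ≠ 0) (i : ℕ) (hi : i ≤ 2 * c) :
    ∀ m : ℕ, 1 ≤ m → m ≤ i / 2 → ∀ b : k,
      b • Y c k m ∈ AddSubgroup.map (NVhom c k a) (Nfil c k i).toAddSubgroup := by
  intro m
  induction m using Nat.strong_induction_on with
  | _ m IH =>
    intro hm1 hmi b
    by_cases hmc : 2 * m ≤ c
    · refine ⟨(b ^ 2) • Y c k (2 * m), ?_, ?_⟩
      · refine Submodule.smul_mem _ _ (Submodule.subset_span (Or.inl ⟨2 * m, ⟨by omega, ?_⟩, rfl⟩))
        exact le_min (by omega) hmc
      · rw [NVhom_apply, NV_smul_Y c k a _ m hm1 hmc, frobeniusEquiv_symm_pow]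
    · have hmc' : m ≤ c := by omega
      have hlt : 2 * (c - m) < c := by omega
      set j₀ : Fin c := ⟨2 * (c - m), hlt⟩ with hj₀
      set b' : k := b ^ 2 / a c with hb'
      have hz : NV c k a (b' • X c k (j₀.val + 1)) ∈
          AddSubgroup.map (NVhom c k a) (Nfil c k i).toAddSubgroup := by
        refine ⟨b' • X c k (j₀.val + 1), ?_, rfl⟩
        refine Submodule.smul_mem _ _ (Submodule.subset_span (Or.inr ⟨j₀.val + 1, ⟨?_, ?_⟩, rfl⟩))
        · simp only [hj₀]; omega
        · simp only [hj₀]; omega
      rw [NV_smul_X c k a b' j₀ (by simp only [hj₀]; omega)] at hz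
      have hj2 : j₀.val / 2 = c - m := by simp only [hj₀]; omega
      rw [hj2] at hz
      set r : GcMod c k := (0, fun l : Fin c => if l.val + 1 < m then
        (frobeniusEquiv k 2).symm (b' * a ((l.val + 1) + (c - m))) else 0) with hr
      have hrG : r ∈ AddSubgroup.map (NVhom c k a) (Nfil c k i).toAddSubgroup := by
        refine mem_G_of c k _ r rfl fun l => ?_
        by_cases hl : l.val + 1 < m
        · exact IH (l.val + 1) hl (by omega) (by omega) _
        · simp only [hr, if_neg hl, zero_smul]
          exact AddSubgroup.zero_mem _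
      have heq : b • Y c k m = (0, fun l : Fin c => if (l.val + 1) + (c - m) ≤ c then
          (frobeniusEquiv k 2).symm (b' * a ((l.val + 1) + (c - m))) else 0) - r := by
        refine Prod.ext ?_ ?_
        · simp [Y, hr]
        · funext l
          simp only [Y, hr, Prod.smul_snd, Pi.smul_apply, smul_eq_mul, Prod.snd_sub, Pi.sub_apply]
          rcases lt_trichotomy (l.val + 1) m with h | h | h
          · rw [if_neg (by omega), if_pos (by omega), if_pos h, sub_self, mul_zero]
          · rw [if_pos h, if_pos (by omega), if_neg (by omega), sub_zero, mul_one]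
            rw [show l.val + 1 + (c - m) = c by omega, hb', div_mul_cancel₀ _ ha,
              frobeniusEquiv_symm_pow]
          · rw [if_neg (by omega), if_neg (by omega), if_neg (by omega), sub_zero, mul_zero]
      rw [heq]
      exact AddSubgroup.sub_mem _ hz hrG

theorem NV_image (ha : a c ≠ 0) (i : ℕ) (hi : i ≤ 2 * c) :
    NV c k a '' (Nfil c k i : Set (GcMod c k)) = (Nfil c k (i / 2) : Set (GcMod c k)) := by
  apply Set.Subset.antisymm
  · rintro _ ⟨v, hv, rfl⟩
    rw [SetLike.mem_coe, mem_Nfil_iff] at hv ⊢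
    obtain ⟨h1, h2⟩ := hv
    refine ⟨fun l hl => ?_, fun j _ => rfl⟩
    have hlc := l.2
    have hmin : min (i / 2) c = i / 2 := min_eq_left (by omega)
    rw [hmin] at hl
    simp only [NV]
    have h0 : coefY v (2 * (l.val + 1)) = 0 := by
      unfold coefY
      split_ifs with h
      · refine h1 _ ?_
        simp only
        have : min i c ≤ i := min_le_left _ _
        omega
      · rfl
    rw [h0, map_zero, zero_add]
    refine Finset.sum_eq_zero fun j _ => ?_
    split_ifs with hc
    · rw [h2 j (by omega), zero_mul, map_zero]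
    · rfl
  · intro w hw
    rw [SetLike.mem_coe, mem_Nfil_iff] at hw
    obtain ⟨h1, h2⟩ := hw
    have hG : w ∈ AddSubgroup.map (NVhom c k a) (Nfil c k i).toAddSubgroup := by
      refine mem_G_of c k _ w ?_ fun l => ?_
      · funext j
        have := j.2
        exact h2 j (by omega)
      · by_cases hl : l.val + 1 ≤ i / 2
        · exact claim c k a ha i hi _ (by omega) hl _
        · rw [h1 l (by
            have : min (i / 2) c ≤ i / 2 := min_le_left _ _
            omega), zero_smul]
          exact AddSubgroup.zero_mem _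
    obtain ⟨v, hv, rfl⟩ := hG
    exact ⟨v, hv, rfl⟩

end NVsec

end Groth.Agent.S19048aux

namespace Groth.Agent.S19048

/-- Let `k` be a perfect field of characteristic `2`, `c` a natural number and `a_1, …, a_c ∈ k` with
`a_c ≠ 0`. On the `2c`-dimensional `k`-space with basis `λ_1, …, λ_c, σ_1, …, σ_c` let `F` be
Frobenius-semilinear with `F λ_j = 0`, `F σ_j = σ_{2j}` for `2j ≤ c`, `F σ_j = Σ_{i=j}^{c} a_i
λ_{2i-2j+1}` for `2j > c`, and `V` inverse-Frobenius-semilinear with `V λ_j = λ_{j/2}` (`j` even),
`0` (`j` odd), `V σ_j = 0` (`j` even), `V σ_j = Σ_{i=(j+1)/2}^{c} a_i^{1/2} λ_{i-(j-1)/2}` (`j` odd)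
— the shape of `F` and `V` on the block of the first de Rham cohomology of `y² − y = f(x)` belonging
to a branch point with invariant `d = 2c + 1`, `a_i` the coefficients of the odd polynomial `f_α`.
Put `N_i = ⟨λ_1, …, λ_i⟩` for `i ≤ c` and `N_i = ⟨λ_1, …, λ_c, σ_{2c-i+1}, …, σ_c⟩` for `c ≤ i ≤
2c`. Then for `0 ≤ i ≤ 2c`: `dim N_i = i`, `V(N_i) = N_{⌊i/2⌋}` and `F⁻¹(N_i) = N_{c+⌈i/2⌉}`; so
`(N_i)` is a final filtration with `dim V(N_i) = ⌊i/2⌋`. (The published statement adjoins the `σ_j`
starting from `σ_1`; then `V(N_{c+1})` contains `V σ_1`, whose `λ_c`-coefficient is a square root of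
`a_c ≠ 0`, so it is not `N_{⌊(c+1)/2⌋}` once `c ≥ 2`; adjoining them from `σ_c` downward, as here,
makes both identities hold.) -/
theorem result (c : ℕ) (k : Type u) [Field k] [CharP k 2] [PerfectRing k 2]
    (a : ℕ → k) (ha : a c ≠ 0) (i : ℕ) (hi : i ≤ 2 * c) :
    Module.finrank k (W4c6eohyperellchar2.Nfil c k i) = i ∧
      W4c6eohyperellchar2.NV c k a '' (W4c6eohyperellchar2.Nfil c k i : Set (W4c6eohyperellchar2.GcMod c k)) = (W4c6eohyperellchar2.Nfil c k (i / 2) : Set (W4c6eohyperellchar2.GcMod c k)) ∧
      W4c6eohyperellchar2.NF c k a ⁻¹' (W4c6eohyperellchar2.Nfil c k i : Set (W4c6eohyperellchar2.GcMod c k)) = (W4c6eohyperellchar2.Nfil c k (c + (i + 1) / 2) : Set (W4c6eohyperellchar2.GcMod c k)) := by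
  exact ⟨Groth.Agent.S19048aux.finrank_Nfil c k i hi, Groth.Agent.S19048aux.NV_image c k a ha i hi,
    Groth.Agent.S19048aux.NF_preimage c k a ha i hi⟩

end Groth.Agent.S19048
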