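import Groth.Statements.S19093
import Mathlib

set_option autoImplicit false
universe u
open FrobAlg

namespace Groth.Agent.S19093

section
variable (p : ℕ)

/-- `b` is a combination `Σ c_i^p g_i`. -/
def Rep {B : Type*} [CommRing B] {ι : Type} [Fintype ι] (g : ι → B) (b : B) : Prop :=
  ∃ c : ι → B, b = ∑ i, c i ^ p * g i

/-- indexed Frobenius-finiteness -/
def FFin (B : Type*) [CommRing B] : Prop :=
  ∃ (ι : Type) (_ : Fintype ι) (g : ι → B), ∀ b : B, Rep p g b

variable {p}

theorem rep_zero (hp : p ≠ 0) {B : Type*} [CommRing B] {ι : Type} [Fintype ι] (g : ι → B) :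
    Rep p g 0 :=
  ⟨fun _ => 0, by simp [zero_pow hp]⟩

theorem rep_add [Fact p.Prime] {B : Type*} [CommRing B] [CharP B p] {ι : Type} [Fintype ι]
    (g : ι → B) {b b' : B} (h : Rep p g b) (h' : Rep p g b') : Rep p g (b + b') := by
  obtain ⟨c, rfl⟩ := h
  obtain ⟨c', rfl⟩ := h'
  refine ⟨fun i => c i + c' i, ?_⟩
  rw [← Finset.sum_add_distrib]
  apply Finset.sum_congr rfl
  intro i _
  rw [add_pow_char, add_mul]

theorem rep_sum [Fact p.Prime] {B : Type*} [CommRing B] [CharP B p] {ι : Type} [Fintype ι]
    (g : ι → B) {κ : Type*} (s : Finset κ) (f : κ → B) (h : ∀ k ∈ s, Rep p g (f k)) :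
    Rep p g (∑ k ∈ s, f k) := by
  classical
  induction s using Finset.induction_on with
  | empty => simpa using rep_zero (Fact.out : p.Prime).ne_zero g
  | insert a s ha ih =>
    rw [Finset.sum_insert ha]
    exact rep_add g (h a (Finset.mem_insert_self a s))
      (ih fun k hk => h k (Finset.mem_insert_of_mem hk))

theorem rep_basic (hp : p ≠ 0) {B : Type*} [CommRing B] {ι : Type} [Fintype ι] (g : ι → B)
    (a : B) (i : ι) : Rep p g (a ^ p * g i) := by
  classical
  refine ⟨Pi.single i a, ?_⟩
  rw [Finset.sum_eq_single i]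
  · rw [Pi.single_eq_same]
  · intro j _ hj
    rw [Pi.single_eq_of_ne hj, zero_pow hp, zero_mul]
  · intro h
    exact absurd (Finset.mem_univ i) h

theorem FFin.of_surjective {B C : Type*} [CommRing B] [CommRing C] (f : B →+* C)
    (hf : Function.Surjective f) (h : FFin p B) : FFin p C := by
  obtain ⟨ι, _, g, hg⟩ := h
  refine ⟨ι, inferInstance, fun i => f (g i), fun y => ?_⟩
  obtain ⟨b, rfl⟩ := hf y
  obtain ⟨c, hc⟩ := hg b
  exact ⟨fun i => f (c i), by rw [hc, map_sum]; simp only [map_mul, map_pow]⟩

theorem FFin.localization (hp : 0 < p) {A : Type*} [CommRing A] (M : Submonoid A)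
    (S : Type*) [CommRing S] [Algebra A S] [IsLocalization M S] (h : FFin p A) : FFin p S := by
  obtain ⟨ι, _, g, hg⟩ := h
  refine ⟨ι, inferInstance, fun i => algebraMap A S (g i), fun b => ?_⟩
  obtain ⟨a, s, rfl⟩ := IsLocalization.exists_mk'_eq M b
  obtain ⟨c, hc⟩ := hg (a * (s : A) ^ (p - 1))
  refine ⟨fun i => IsLocalization.mk' S (c i) s, ?_⟩
  have hu : IsUnit (algebraMap A S s) := IsLocalization.map_units S s
  apply (hu.pow p).mul_left_injective
  simp only
  rw [Finset.sum_mul]
  have e1 : IsLocalization.mk' S a s * algebraMap A S s ^ p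
      = algebraMap A S (a * (s : A) ^ (p - 1)) := by
    rw [map_mul, map_pow]
    conv_lhs => rw [← Nat.sub_add_cancel hp, pow_succ, ← mul_assoc, mul_right_comm,
      IsLocalization.mk'_spec]
  rw [e1, hc, map_sum]
  apply Finset.sum_congr rfl
  intro i _
  rw [map_mul, map_pow, mul_right_comm, ← mul_pow, IsLocalization.mk'_spec]

/-- `B` as a module over itself through Frobenius. -/
def FB (p : ℕ) (B : Type*) : Type _ := B

instance (B : Type*) [CommRing B] : AddCommGroup (FB p B) := inferInstanceAs (AddCommGroup B)

instance instModFB [Fact p.Prime] (B : Type*) [CommRing B] [CharP B p] : Module B (FB p B) :=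
  (frobenius B p).toAlgebra.toModule

theorem finite_of_FFin [Fact p.Prime] (B : Type*) [CommRing B] [CharP B p] (h : FFin p B) :
    (frobenius B p).Finite := by
  classical
  obtain ⟨ι, _, g, hg⟩ := h
  let L : (ι → B) →ₗ[B] FB p B :=
    { toFun := fun c => (∑ i, c i ^ p * g i : B)
      map_add' := fun c c' => by
        change (∑ i, (c i + c' i) ^ p * g i : B) = (∑ i, c i ^ p * g i : B) + (∑ i, c' i ^ p * g i : B)
        rw [← Finset.sum_add_distrib]
        apply Finset.sum_congr rfl
        intro i _
        rw [add_pow_char, add_mul]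
      map_smul' := fun r c => by
        change (∑ i, (r * c i) ^ p * g i : B) = r ^ p * (∑ i, c i ^ p * g i : B)
        rw [Finset.mul_sum]
        apply Finset.sum_congr rfl
        intro i _
        rw [mul_pow, mul_assoc] }
  have hL : Function.Surjective L := by
    intro b
    obtain ⟨c, hc⟩ := hg b
    exact ⟨c, hc.symm⟩
  have key : Module.Finite B (FB p B) := Module.Finite.of_surjective L hL
  exact key


theorem FFin.mvPolynomial [Fact p.Prime] {S : Type*} [CommRing S] [CharP S p] (m : ℕ)
    (h : FFin p S) : FFin p (MvPolynomial (Fin m) S) := by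
  classical
  have hp : p ≠ 0 := (Fact.out : p.Prime).ne_zero
  have hp' : 0 < p := (Fact.out : p.Prime).pos
  obtain ⟨ι, _, g, hg⟩ := h
  let E : (Fin m → Fin p) → (Fin m →₀ ℕ) := fun e => Finsupp.equivFunOnFinite.symm (fun j => (e j : ℕ))
  refine ⟨ι × (Fin m → Fin p), inferInstance,
    fun ie => MvPolynomial.monomial (E ie.2) (g ie.1), fun f => ?_⟩
  rw [f.as_sum]
  refine rep_sum _ _ _ fun μ _ => ?_
  obtain ⟨c, hc⟩ := hg (MvPolynomial.coeff μ f)
  let q : Fin m →₀ ℕ := Finsupp.equivFunOnFinite.symm (fun j => μ j / p)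
  let e : Fin m → Fin p := fun j => ⟨μ j % p, Nat.mod_lt _ hp'⟩
  have hμ : μ = p • q + E e := by
    ext j
    simp only [Finsupp.add_apply, Finsupp.smul_apply, smul_eq_mul]
    change μ j = p * (μ j / p) + μ j % p
    exact (Nat.div_add_mod (μ j) p).symm
  have e1 : MvPolynomial.monomial μ (MvPolynomial.coeff μ f) =
      ∑ i, (MvPolynomial.monomial q (c i)) ^ p * MvPolynomial.monomial (E e) (g i) := by
    rw [hc, map_sum]
    apply Finset.sum_congr rfl
    intro i _
    rw [MvPolynomial.monomial_pow, MvPolynomial.monomial_mul, ← hμ]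
  rw [e1]
  refine rep_sum _ _ _ fun i _ => ?_
  exact rep_basic hp (fun ie : ι × (Fin m → Fin p) => MvPolynomial.monomial (E ie.2) (g ie.1))
    (MvPolynomial.monomial q (c i)) (i, e)

theorem coeff_pow_p [Fact p.Prime] {k : Type*} [CommRing k] [CharP k p] (f : PowerSeries k) (n : ℕ) :
    PowerSeries.coeff n (f ^ p) = if p ∣ n then (PowerSeries.coeff (n / p) f) ^ p else 0 := by
  have hp : p ≠ 0 := (Fact.out : p.Prime).ne_zero
  have h := MvPowerSeries.map_frobenius_expand (σ := Unit) (R := k) p hp (f := f)
  have h2 : f ^ p = PowerSeries.map (frobenius k p) (PowerSeries.expand p hp f) := h.symm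
  rw [h2, PowerSeries.coeff_map, PowerSeries.coeff_expand]
  split_ifs
  · rfl
  · exact map_zero _

theorem FFin.powerSeries [Fact p.Prime] (k : Type*) [Field k] [Finite k] [CharP k p] :
    FFin p (PowerSeries k) := by
  classical
  have hp : p ≠ 0 := (Fact.out : p.Prime).ne_zero
  have hp' : 0 < p := (Fact.out : p.Prime).pos
  refine ⟨Fin p, inferInstance, fun r => (PowerSeries.X : PowerSeries k) ^ (r : ℕ), fun f => ?_⟩
  refine ⟨fun r => PowerSeries.mk (fun m =>
    (frobeniusEquiv k p).symm (PowerSeries.coeff (p * m + (r : ℕ)) f)), ?_⟩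
  ext n
  rw [map_sum]
  rw [Finset.sum_eq_single (⟨n % p, Nat.mod_lt _ hp'⟩ : Fin p)]
  · rw [PowerSeries.coeff_mul_X_pow', if_pos (Nat.mod_le n p), coeff_pow_p,
      if_pos (Nat.dvd_sub_mod n), PowerSeries.coeff_mk, frobeniusEquiv_symm_pow_p]
    have h0 := Nat.div_add_mod n p
    have h3 : n - n % p = p * (n / p) := by omega
    have h2 : (n - n % p) / p = n / p := by
      rw [h3, Nat.mul_div_cancel_left _ hp']
    change _ = PowerSeries.coeff (p * ((n - n % p) / p) + n % p) f
    rw [h2, h0]
  · intro r _ hr
    rw [PowerSeries.coeff_mul_X_pow']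
    split_ifs with h1
    · rw [coeff_pow_p, if_neg]
      intro hdvd
      apply hr
      apply Fin.ext
      change (r : ℕ) = n % p
      obtain ⟨t, ht⟩ := hdvd
      have : n = p * t + r := by omega
      rw [this, Nat.mul_add_mod, Nat.mod_eq_of_lt r.isLt]
    · rfl
  · intro h
    exact absurd (Finset.mem_univ _) h

end

theorem result' (p : ℕ) [Fact p.Prime]
    (k : Type u) [Field k] [Finite k] [CharP k p]
    (A : Type u) [CommRing A] [Algebra (PowerSeries k) A] [Algebra.FiniteType (PowerSeries k) A]
    (P : Ideal A) [P.IsPrime] [CharP (Localization.AtPrime P) p] :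
    (frobenius (Localization.AtPrime P) p).Finite := by
  obtain ⟨m, f, hf⟩ := (Algebra.FiniteType.iff_quotient_mvPolynomial''
    (R := PowerSeries k) (S := A)).1 inferInstance
  haveI : CharP (PowerSeries k) p :=
    charP_of_injective_ringHom (f := (PowerSeries.C : k →+* PowerSeries k)) PowerSeries.C_injective p
  have h1 : FFin p (PowerSeries k) := FFin.powerSeries k
  have h2 : FFin p (MvPolynomial (Fin m) (PowerSeries k)) := FFin.mvPolynomial m h1
  have h3 : FFin p A := FFin.of_surjective (f : MvPolynomial (Fin m) (PowerSeries k) →+* A) hf h2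
  have h4 : FFin p (Localization.AtPrime P) :=
    FFin.localization (Fact.out : p.Prime).pos P.primeCompl _ h3
  exact finite_of_FFin _ h4

/-- Let p be a prime, k a finite field of characteristic p, A a commutative k[[t]]-algebra of finite
type over the power series ring k[[t]], and P a prime ideal of A. Then the absolute Frobenius a ↦
a^p of the local ring A_P is a finite ring homomorphism. In particular every local ring of a scheme
of finite type over k[[t]] has finite absolute Frobenius. (The instance hypothesis that A_P has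
characteristic p always holds, A_P being a nonzero algebra over k.) The published statement is for
the local rings of a projective strictly semistable scheme over k[[t]] and adds that such a scheme
is regular with F-finite local rings; its proof uses only that the scheme is of finite type over
k[[t]], which is the form stated here. -/
theorem result (p : ℕ) [Fact p.Prime]
    (k : Type u) [Field k] [Finite k] [CharP k p]
    (A : Type u) [CommRing A] [Algebra (PowerSeries k) A] [Algebra.FiniteType (PowerSeries k) A]
    (P : Ideal A) [P.IsPrime] [CharP (Localization.AtPrime P) p] :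
    (frobenius (Localization.AtPrime P) p).Finite := by
  exact result' p k A P

end Groth.Agent.S19093
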