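import Groth.Statements.S19106
import Mathlib

set_option autoImplicit false
open HilbD

namespace Groth.Agent.S19106

/-- Let μ be a non-empty Young diagram, V the number of its cells, E the number of unordered pairs of
cells sharing a side (a cell together with the cell immediately below it, or immediately to its
right, both in μ) and Q the number of 2 × 2 blocks of cells of μ (cells c such that the cell
diagonally below-right of c is in μ, the other two corners being in μ automatically). Then V − E + Q
− 1 = 0, stated as V + Q = E + 1 in the naturals. (The empty diagram, for which the count reads 0 −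
0 + 0 − 1, is excluded.) -/
theorem result (μ : YoungDiagram) (hμ : μ ≠ ⊥) :
    μ.cells.card + (μ.cells.filter (fun c => (c.1 + 1, c.2 + 1) ∈ μ)).card =
      (μ.cells.filter (fun c => (c.1 + 1, c.2) ∈ μ)).card + (μ.cells.filter (fun c => (c.1, c.2 + 1) ∈ μ)).card + 1 := by
  classical
  -- (0,0) ∈ μ
  have h00 : ((0, 0) : ℕ × ℕ) ∈ μ := by
    have hne : μ.cells.Nonempty := by
      rw [Finset.nonempty_iff_ne_empty]
      intro h
      apply hμ
      apply YoungDiagram.ext
      rw [h, YoungDiagram.cells_bot]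
    obtain ⟨c, hc⟩ := hne
    exact μ.up_left_mem (Nat.zero_le c.1) (Nat.zero_le c.2) ((YoungDiagram.mem_cells c).mp hc)
  -- three shift bijections
  have hD : (μ.cells.filter (fun c => (c.1 + 1, c.2) ∈ μ)).card =
      (μ.cells.filter (fun c => c.1 ≠ 0)).card := by
    apply Finset.card_bij (fun c _ => (c.1 + 1, c.2))
    · intro c hc
      rw [Finset.mem_filter] at hc ⊢
      exact ⟨(YoungDiagram.mem_cells _).mpr hc.2, Nat.succ_ne_zero _⟩
    · intro c _ d _ h
      simp only [Prod.mk.injEq, add_left_inj] at h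
      exact Prod.ext h.1 h.2
    · intro d hd
      rw [Finset.mem_filter] at hd
      obtain ⟨hd1, hd2⟩ := hd
      have hd' : d ∈ μ := (YoungDiagram.mem_cells d).mp hd1
      obtain ⟨k, hk⟩ := Nat.exists_eq_succ_of_ne_zero hd2
      refine ⟨(k, d.2), ?_, ?_⟩
      · rw [Finset.mem_filter]
        refine ⟨(YoungDiagram.mem_cells _).mpr (μ.up_left_mem (i2 := d.1) (j2 := d.2)
          (by omega) le_rfl hd'), ?_⟩
        have : ((k + 1, d.2) : ℕ × ℕ) = d := Prod.ext hk.symm rfl
        simp only [this]
        exact hd'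
      · exact Prod.ext hk.symm rfl
  have hR : (μ.cells.filter (fun c => (c.1, c.2 + 1) ∈ μ)).card =
      (μ.cells.filter (fun c => c.2 ≠ 0)).card := by
    apply Finset.card_bij (fun c _ => (c.1, c.2 + 1))
    · intro c hc
      rw [Finset.mem_filter] at hc ⊢
      exact ⟨(YoungDiagram.mem_cells _).mpr hc.2, Nat.succ_ne_zero _⟩
    · intro c _ d _ h
      simp only [Prod.mk.injEq, add_left_inj] at h
      exact Prod.ext h.1 h.2
    · intro d hd
      rw [Finset.mem_filter] at hd
      obtain ⟨hd1, hd2⟩ := hd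
      have hd' : d ∈ μ := (YoungDiagram.mem_cells d).mp hd1
      obtain ⟨k, hk⟩ := Nat.exists_eq_succ_of_ne_zero hd2
      refine ⟨(d.1, k), ?_, ?_⟩
      · rw [Finset.mem_filter]
        refine ⟨(YoungDiagram.mem_cells _).mpr (μ.up_left_mem (i2 := d.1) (j2 := d.2)
          le_rfl (by omega) hd'), ?_⟩
        have : ((d.1, k + 1) : ℕ × ℕ) = d := Prod.ext rfl hk.symm
        simp only [this]
        exact hd'
      · exact Prod.ext rfl hk.symm
  have hQ : (μ.cells.filter (fun c => (c.1 + 1, c.2 + 1) ∈ μ)).card =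
      (μ.cells.filter (fun c => c.1 ≠ 0 ∧ c.2 ≠ 0)).card := by
    apply Finset.card_bij (fun c _ => (c.1 + 1, c.2 + 1))
    · intro c hc
      rw [Finset.mem_filter] at hc ⊢
      exact ⟨(YoungDiagram.mem_cells _).mpr hc.2, Nat.succ_ne_zero _, Nat.succ_ne_zero _⟩
    · intro c _ d _ h
      simp only [Prod.mk.injEq, add_left_inj] at h
      exact Prod.ext h.1 h.2
    · intro d hd
      rw [Finset.mem_filter] at hd
      obtain ⟨hd1, hd2, hd3⟩ := hd
      have hd' : d ∈ μ := (YoungDiagram.mem_cells d).mp hd1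
      obtain ⟨k, hk⟩ := Nat.exists_eq_succ_of_ne_zero hd2
      obtain ⟨l, hl⟩ := Nat.exists_eq_succ_of_ne_zero hd3
      refine ⟨(k, l), ?_, ?_⟩
      · rw [Finset.mem_filter]
        refine ⟨(YoungDiagram.mem_cells _).mpr (μ.up_left_mem (i2 := d.1) (j2 := d.2)
          (by omega) (by omega) hd'), ?_⟩
        have : ((k + 1, l + 1) : ℕ × ℕ) = d := Prod.ext hk.symm hl.symm
        simp only [this]
        exact hd'
      · exact Prod.ext hk.symm hl.symm
  rw [hD, hR, hQ]
  -- inclusion-exclusion
  have h1 := Finset.card_union_add_card_inter (μ.cells.filter (fun c => c.1 ≠ 0))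
    (μ.cells.filter (fun c => c.2 ≠ 0))
  rw [← Finset.filter_or, ← Finset.filter_and] at h1
  have h2 := Finset.card_filter_add_card_filter_not (s := μ.cells) (fun c => c.1 ≠ 0 ∨ c.2 ≠ 0)
  have h3 : μ.cells.filter (fun c => ¬ (c.1 ≠ 0 ∨ c.2 ≠ 0)) = {(0, 0)} := by
    ext c
    simp only [Finset.mem_filter, Finset.mem_singleton, not_or, not_not]
    constructor
    · rintro ⟨_, h1, h2⟩
      exact Prod.ext h1 h2
    · rintro rfl
      exact ⟨(YoungDiagram.mem_cells _).mpr h00, rfl, rfl⟩
  rw [h3, Finset.card_singleton] at h2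
  omega

end Groth.Agent.S19106
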