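import Groth.Statements.S19136
import Mathlib

set_option autoImplicit false
universe u
open Instab

namespace Groth.Agent.S19136

/-- Let p be a seminorm and ℓ a linear form on a real vector space, let y₀ and y₁ be vectors at which p
is positive and ℓ is non-negative, and let y = t y₀ + (1 - t) y₁ with 0 < t < 1 be a point of the
open segment at which p is positive. Then ℓ(y)/p(y) is at least the smaller of ℓ(y₀)/p(y₀) and
ℓ(y₁)/p(y₁), and if it equals that smaller value then ℓ(y₀)/p(y₀) = ℓ(y₁)/p(y₁). (The published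
lemma concerns the numerical invariant attached to a degree-two cohomology class and a semi-norm on
graded points of a stack; restricted to one rational simplex that invariant is the quotient of a
linear form by a semi-norm on the non-negative orthant of a real coordinate space, and local
quasi-concavity there amounts to this inequality with its equality clause, the set where the linear
form is non-negative being automatically convex; the lemma's further assertion, that the invariant
is positive at no pair of antipodal points, is not stated here. The vector space is arbitrary here.) -/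
theorem result {E : Type u} [AddCommGroup E] [Module ℝ E]
    (p : Seminorm ℝ E) (ℓ : E →ₗ[ℝ] ℝ) (y₀ y₁ : E) (h₀ : 0 < p y₀) (h₁ : 0 < p y₁)
    (hℓ₀ : 0 ≤ ℓ y₀) (hℓ₁ : 0 ≤ ℓ y₁) (t : ℝ) (ht₀ : 0 < t) (ht₁ : t < 1)
    (hy : 0 < p (t • y₀ + (1 - t) • y₁)) :
    min (ℓ y₀ / p y₀) (ℓ y₁ / p y₁) ≤ ℓ (t • y₀ + (1 - t) • y₁) / p (t • y₀ + (1 - t) • y₁) ∧
      (ℓ (t • y₀ + (1 - t) • y₁) / p (t • y₀ + (1 - t) • y₁) = min (ℓ y₀ / p y₀) (ℓ y₁ / p y₁) →
        ℓ y₀ / p y₀ = ℓ y₁ / p y₁) := by
  set y := t • y₀ + (1 - t) • y₁ with hydef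
  have ht1' : 0 < 1 - t := by linarith
  have hℓy : ℓ y = t * ℓ y₀ + (1 - t) * ℓ y₁ := by
    simp [hydef]
  have hpy : p y ≤ t * p y₀ + (1 - t) * p y₁ := by
    calc p y ≤ p (t • y₀) + p ((1 - t) • y₁) := map_add_le_add p _ _
      _ = t * p y₀ + (1 - t) * p y₁ := by
        rw [map_smul_eq_mul, map_smul_eq_mul, Real.norm_of_nonneg ht₀.le,
          Real.norm_of_nonneg ht1'.le]
  set m := min (ℓ y₀ / p y₀) (ℓ y₁ / p y₁) with hm
  have hm0 : 0 ≤ m := le_min (div_nonneg hℓ₀ h₀.le) (div_nonneg hℓ₁ h₁.le)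
  have hm₀ : m * p y₀ ≤ ℓ y₀ := by
    have : m ≤ ℓ y₀ / p y₀ := min_le_left _ _
    exact (le_div_iff₀ h₀).mp this
  have hm₁ : m * p y₁ ≤ ℓ y₁ := by
    have : m ≤ ℓ y₁ / p y₁ := min_le_right _ _
    exact (le_div_iff₀ h₁).mp this
  have hkey : m * p y ≤ ℓ y := by
    calc m * p y ≤ m * (t * p y₀ + (1 - t) * p y₁) := mul_le_mul_of_nonneg_left hpy hm0
      _ = t * (m * p y₀) + (1 - t) * (m * p y₁) := by ring
      _ ≤ t * ℓ y₀ + (1 - t) * ℓ y₁ := by
        have h1 := mul_le_mul_of_nonneg_left hm₀ ht₀.le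
        have h2 := mul_le_mul_of_nonneg_left hm₁ ht1'.le
        linarith
      _ = ℓ y := hℓy.symm
  refine ⟨(le_div_iff₀ hy).mpr hkey, ?_⟩
  intro heq
  have heq' : ℓ y = m * p y := by
    field_simp at heq
    linarith
  -- then equalities everywhere
  have h1 := mul_le_mul_of_nonneg_left hm₀ ht₀.le
  have h2 := mul_le_mul_of_nonneg_left hm₁ ht1'.le
  have h3 : m * p y ≤ m * (t * p y₀ + (1 - t) * p y₁) := mul_le_mul_of_nonneg_left hpy hm0
  have e1 : t * (m * p y₀) = t * ℓ y₀ := by nlinarith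
  have e2 : (1 - t) * (m * p y₁) = (1 - t) * ℓ y₁ := by nlinarith
  have e1' : m * p y₀ = ℓ y₀ := mul_left_cancel₀ ht₀.ne' e1
  have e2' : m * p y₁ = ℓ y₁ := mul_left_cancel₀ ht1'.ne' e2
  rw [← e1', ← e2', mul_div_assoc, mul_div_assoc, div_self h₀.ne', div_self h₁.ne']

end Groth.Agent.S19136
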