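import Groth.Statements.S19148
import Mathlib

set_option autoImplicit false
open scoped TensorProduct
universe u v
open FiltMod

namespace Groth.Agent.S19148

/-- Functionals separate the points of a projective module. -/
theorem eq_zero_of_forall_functional {R : Type u} [CommRing R] {M : Type v} [AddCommGroup M]
    [Module R M] [Module.Projective R M] (m : M) (h : ∀ φ : M →ₗ[R] R, φ m = 0) : m = 0 := by
  obtain ⟨s, hs⟩ := (Module.projective_def' (R := R) (P := M)).1 inferInstance
  have h1 : m = Finsupp.linearCombination R id (s m) := by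
    have := LinearMap.congr_fun hs m
    simpa using this.symm
  have h2 : s m = 0 := by
    ext y
    exact h ((Finsupp.lapply y).comp s)
  rw [h1, h2, map_zero]

/-- Step A: a product of functionals, one of which kills `F₂`, vanishes on `F₁`-tuples. -/
theorem stepA {R : Type u} [CommRing R] {M : Type v} [AddCommGroup M] [Module R M]
    (F₁ F₂ : Submodule R M) (k : ℕ)
    (hle : LinearMap.range (PiTensorProduct.map (R := R) (fun _ : Fin k => F₁.subtype)) ≤
      LinearMap.range (PiTensorProduct.map (R := R) (fun _ : Fin k => F₂.subtype)))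
    (Ψ : Fin k → (M →ₗ[R] R)) (l₀ : Fin k) (hl₀ : ∀ y ∈ F₂, Ψ l₀ y = 0) (x : Fin k → F₁) :
    ∏ l, Ψ l (x l) = 0 := by
  let Λ : (PiTensorProduct R (fun _ : Fin k => M)) →ₗ[R] R :=
    PiTensorProduct.lift ((MultilinearMap.mkPiAlgebra R (Fin k) R).compLinearMap Ψ)
  have hΛ : ∀ m : Fin k → M, Λ (PiTensorProduct.tprod R m) = ∏ l, Ψ l (m l) := by
    intro m
    simp [Λ]
  have hzero : Λ.comp (PiTensorProduct.map (R := R) (fun _ : Fin k => F₂.subtype)) = 0 := by
    apply PiTensorProduct.ext
    ext y
    simp only [LinearMap.compMultilinearMap_apply, LinearMap.comp_apply,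
      PiTensorProduct.map_tprod, hΛ, LinearMap.zero_apply]
    exact Finset.prod_eq_zero (Finset.mem_univ l₀) (hl₀ _ (y l₀).2)
  have hmem : PiTensorProduct.tprod R (fun l => ((x l : F₁) : M)) ∈
      LinearMap.range (PiTensorProduct.map (R := R) (fun _ : Fin k => F₂.subtype)) := by
    apply hle
    exact ⟨PiTensorProduct.tprod R x, by simp [PiTensorProduct.map_tprod]⟩
  obtain ⟨z, hz⟩ := hmem
  rw [← hΛ, ← hz]
  exact LinearMap.congr_fun hzero z

theorem core {R : Type u} [CommRing R] {M : Type v} [AddCommGroup M] [Module R M]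
    [Module.Projective R M] (F₁ F₂ : Submodule R M)
    (h₁ : ∃ C : Submodule R M, IsCompl F₁ C) (h₂ : ∃ C : Submodule R M, IsCompl F₂ C) (k' : ℕ)
    (hle : LinearMap.range (PiTensorProduct.map (R := R) (fun _ : Fin (k' + 1) => F₁.subtype)) ≤
      LinearMap.range (PiTensorProduct.map (R := R) (fun _ : Fin (k' + 1) => F₂.subtype))) :
    F₁ ≤ F₂ := by
  obtain ⟨C₁, hC₁⟩ := h₁
  obtain ⟨C₂, hC₂⟩ := h₂
  -- projection onto `C₂` along `F₂`
  let π : M →ₗ[R] M := C₂.subtype.comp (Submodule.projectionOnto C₂ F₂ hC₂.symm)
  have hπ0 : ∀ y ∈ F₂, π y = 0 := by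
    intro y hy
    show C₂.subtype (Submodule.projectionOnto C₂ F₂ hC₂.symm y) = 0
    rw [(Submodule.projectionOnto_apply_eq_zero_iff hC₂.symm).2 hy, map_zero]
  have hπker : ∀ z, π z = 0 → z ∈ F₂ := by
    intro z hz
    have hz' : ((Submodule.projectionOnto C₂ F₂ hC₂.symm z : C₂) : M) = 0 := hz
    have : Submodule.projectionOnto C₂ F₂ hC₂.symm z = 0 := Subtype.ext hz'
    exact (Submodule.projectionOnto_apply_eq_zero_iff hC₂.symm).1 this
  -- `F₁` is projective
  have : Module.Projective R F₁ :=
    Module.Projective.of_split F₁.subtype (Submodule.projectionOnto F₁ C₁ hC₁)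
      (by ext x; simp [Submodule.projectionOnto_apply_left])
  obtain ⟨s, hs⟩ := (Module.projective_def' (R := R) (P := F₁)).1 inferInstance
  have hexp : ∀ z : F₁, z = Finsupp.linearCombination R id (s z) := by
    intro z
    have := LinearMap.congr_fun hs z
    simpa using this.symm
  -- the descending induction
  have P : ∀ j, j ≤ k' → ∀ (ψ : Fin j → (M →ₗ[R] R)) (x : Fin j → F₁) (φ : M →ₗ[R] R) (z : F₁),
      (∏ l, ψ l (x l)) * φ (π z) = 0 := by
    intro j hj
    obtain ⟨d, rfl⟩ : ∃ d, k' = j + d := ⟨k' - j, by omega⟩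
    clear hj
    induction d generalizing j with
    | zero =>
      intro ψ x φ z
      have := stepA F₁ F₂ (j + 0 + 1) hle (Fin.snoc ψ (φ.comp π)) (Fin.last _)
        (by intro y hy; simp [hπ0 y hy]) (Fin.snoc x z)
      rw [Fin.prod_univ_castSucc] at this
      simpa using this
    | succ d ih =>
      intro ψ x φ z
      have hle' : LinearMap.range (PiTensorProduct.map (R := R)
          (fun _ : Fin ((j + 1) + d + 1) => F₁.subtype)) ≤
          LinearMap.range (PiTensorProduct.map (R := R)
            (fun _ : Fin ((j + 1) + d + 1) => F₂.subtype)) := by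
        have e : j + (d + 1) + 1 = (j + 1) + d + 1 := by ring
        rw [← e]
        exact hle
      have ih' := ih (j + 1) hle'
      have hz := hexp z
      have hπz : φ (π (z : M)) =
          ∑ y ∈ (s z).support, (s z y) * φ (π (y : M)) := by
        conv_lhs => rw [hz]
        rw [Finsupp.linearCombination_apply, Finsupp.sum]
        simp only [id, Submodule.coe_sum, Submodule.coe_smul, map_sum, map_smul, smul_eq_mul]
      rw [hπz, Finset.mul_sum]
      refine Finset.sum_eq_zero fun y _ => ?_
      have := ih' (Fin.snoc ψ (((Finsupp.lapply y).comp s).comp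
          (Submodule.projectionOnto F₁ C₁ hC₁))) (Fin.snoc x z) φ y
      rw [Fin.prod_univ_castSucc] at this
      simp only [Fin.snoc_castSucc, Fin.snoc_last, LinearMap.comp_apply,
        Submodule.projectionOnto_apply_left, Finsupp.lapply_apply] at this
      rw [← this]
      ring
  intro z hz
  apply hπker
  apply eq_zero_of_forall_functional (R := R)
  intro φ
  have := P 0 (Nat.zero_le _) Fin.elim0 Fin.elim0 φ ⟨z, hz⟩
  simpa using this


/-- In affine form, let R be a commutative ring, M a finitely generated projective R-module (a finite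
locally free sheaf on Spec R), F₁ and F₂ direct summands of M and k ≥ 1. Then the images of F₁^{⊗k}
and F₂^{⊗k} in the k-th tensor power M^{⊗k} are equal if and only if F₁ = F₂. (The source states
this for local direct factors of a finite locally free sheaf on a scheme; equality of subsheaves
being local, this is the affine case with global direct summands, to which it reduces.) -/
theorem result {R : Type u} [CommRing R] {M : Type v} [AddCommGroup M] [Module R M]
    [Module.Finite R M] [Module.Projective R M] (F₁ F₂ : Submodule R M)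
    (h₁ : ∃ C : Submodule R M, IsCompl F₁ C) (h₂ : ∃ C : Submodule R M, IsCompl F₂ C) (k : ℕ) (hk : 1 ≤ k) :
    LinearMap.range (PiTensorProduct.map (R := R) (fun _ : Fin k => F₁.subtype)) =
      LinearMap.range (PiTensorProduct.map (R := R) (fun _ : Fin k => F₂.subtype)) ↔ F₁ = F₂ := by
  constructor
  · intro h
    obtain ⟨k', rfl⟩ : ∃ k', k = k' + 1 := ⟨k - 1, by omega⟩
    exact le_antisymm (core F₁ F₂ h₁ h₂ k' h.le) (core F₂ F₁ h₂ h₁ k' h.ge)
  · rintro rfl
    rfl

end Groth.Agent.S19148
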