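import Groth.Statements.S19156
import Groth.Agent.Lib.helper8.RootD35

set_option autoImplicit false
open RootPairing
open RootD

namespace Groth.Agent.S19156

/-- Let P be a root datum (root pairing over ℤ with finitely many roots indexed by ι), S a system of
positive roots, Γ a non-trivial totally ordered commutative group and f : M → Γ additive. Then f is
dominant (non-negative on the positive roots) if and only if, for every w in the Weyl group, f − f ∘
w is a combination m ↦ Σ_{α ∈ S} ⟨m, α∨⟩ c_α of the positive coroots with coefficients c_α ≥ 0 in Γ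
(f ∘ w is strongly dominated by f); and f is dominant if and only if f(w m) ≤ f(m) for every w ∈ W
and every dominant weight m (weak dominance). -/
theorem result {ι M N : Type*} [AddCommGroup M] [AddCommGroup N]
    (P : RootPairing ι ℤ M N) [Fintype ι] (S : Set ι) (hS : RootD.IsPosSys P S)
    {Γ : Type*} [AddCommGroup Γ] [LinearOrder Γ] [IsOrderedAddMonoid Γ] [Nontrivial Γ] (f : M →+ Γ) :
    ((∀ i ∈ S, 0 ≤ f (P.root i)) ↔
      ∀ g : P.Aut, g ∈ P.weylGroup → ∃ c : ι → Γ, (∀ i, 0 ≤ c i) ∧ (∀ i, i ∉ S → c i = 0) ∧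
        ∀ m : M, f m - f (RootPairing.Equiv.weightHom P g m) = ∑ i, (P.coroot' i m) • c i) ∧
    ((∀ i ∈ S, 0 ≤ f (P.root i)) ↔
      ∀ g : P.Aut, g ∈ P.weylGroup → ∀ m : M, (∀ i ∈ S, 0 ≤ P.coroot' i m) →
        f (RootPairing.Equiv.weightHom P g m) ≤ f m) := by
  have hkey : ∀ (j : ι) (m : M), f (RootPairing.Equiv.weightHom P (Equiv.reflection P j) m) =
      f m - (P.coroot' j m) • f (P.root j) := by
    intro j m
    show f (Equiv.reflection P j • m) = _
    rw [Equiv.reflection_smul, P.reflection_apply, map_sub, map_zsmul]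
  have hnonneg : ∀ (z : ℤ) (x : Γ), 0 < z → 0 ≤ z • x → 0 ≤ x := by
    intro z x hz hzx
    by_contra hcon
    push Not at hcon
    have h1 : 0 < -x := neg_pos.mpr hcon
    have h2 := zsmul_pos h1 hz
    rw [smul_neg] at h2
    have := neg_pos.mp h2
    exact absurd hzx (not_le.mpr this)
  obtain ⟨m₀, hm₀⟩ := Groth.Agent.H8.RootD.exists_strictly_dominant P hS
  constructor
  · constructor
    · intro hf g hg
      exact Groth.Agent.H8.RootD.dominant_sub_eq_sum P f hS hf hg
    · intro h j hj
      obtain ⟨c, hc0, hcS, hc⟩ := h _ (P.reflection_mem_weylGroup j)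
      have h1 := hc m₀
      rw [hkey, sub_sub_cancel] at h1
      apply hnonneg _ _ (hm₀ j hj)
      rw [h1]
      apply Finset.sum_nonneg
      intro i _
      by_cases hi : i ∈ S
      · exact zsmul_nonneg (hc0 i) (hm₀ i hi).le
      · rw [hcS i hi, smul_zero]
  · constructor
    · intro hf g hg m hm
      exact Groth.Agent.H8.RootD.dominant_le P f hS hf hg m hm
    · intro h j hj
      have h1 := h _ (P.reflection_mem_weylGroup j) m₀ (fun i hi => (hm₀ i hi).le)
      rw [hkey] at h1
      apply hnonneg _ _ (hm₀ j hj)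
      have := sub_le_self_iff (f m₀) |>.mp h1
      exact this

end Groth.Agent.S19156
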