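import Groth.Statements.S19169
import Mathlib
import Groth.Agent.Lib.helper28.VanDantzig

set_option autoImplicit false
universe u
open ProCompl

namespace Groth.Agent.S19169

/-- Let B be a Hausdorff, locally compact, totally disconnected topological abelian group which is
compactly generated, i.e. generated as a group by a compact subset. Then the open subgroups of
finite index of B have trivial intersection: every nonzero b lies outside some open subgroup of
finite index. Equivalently, the natural map from B to its completion with respect to open subgroups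
of finite index is injective. -/
theorem result
    {B : Type u} [AddCommGroup B] [TopologicalSpace B] [IsTopologicalAddGroup B]
    [T2Space B] [LocallyCompactSpace B] [TotallyDisconnectedSpace B]
    (hcg : ∃ K : Set B, IsCompact K ∧ AddSubgroup.closure K = ⊤) (b : B) (hb : b ≠ 0) :
    ∃ B' : AddSubgroup B, IsOpen (B' : Set B) ∧ B'.FiniteIndex ∧ b ∉ B' := by
  classical
  obtain ⟨K, hKc, hKgen⟩ := hcg
  have hU : ({b}ᶜ : Set B) ∈ nhds (0 : B) :=
    isOpen_compl_singleton.mem_nhds (by simpa using hb.symm)
  obtain ⟨H, hHo, -, hHU⟩ :=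
    Groth.Agent.Lib.helper28.VanDantzig.exists_compact_open_subgroup_subset hU
  have hbH : b ∉ H := fun h => (hHU h) rfl
  -- the image of K in B ⧸ H is finite
  obtain ⟨t, -, htcover⟩ := hKc.elim_nhds_subcover (fun x => {y : B | y - x ∈ H})
    (fun x _ => (hHo.preimage (continuous_id.sub continuous_const)).mem_nhds (by simp))
  have hfin : ((QuotientAddGroup.mk' H) '' K).Finite := by
    refine (t.finite_toSet.image (QuotientAddGroup.mk' H)).subset ?_
    rintro _ ⟨k, hk, rfl⟩
    have := htcover hk
    simp only [Set.mem_iUnion, Set.mem_setOf_eq] at this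
    obtain ⟨x, hxt, hkx⟩ := this
    refine ⟨x, hxt, ?_⟩
    rw [QuotientAddGroup.mk'_apply, QuotientAddGroup.mk'_apply, QuotientAddGroup.eq]
    have : -x + k = k - x := by abel
    rw [this]
    exact hkx
  haveI : AddGroup.FG (B ⧸ H) := by
    rw [AddGroup.fg_iff]
    refine ⟨(QuotientAddGroup.mk' H) '' K, ?_, hfin⟩
    rw [← AddMonoidHom.map_closure, hKgen,
      AddSubgroup.map_top_of_surjective _ (QuotientAddGroup.mk'_surjective H)]
  have hq : (QuotientAddGroup.mk' H b) ≠ 0 := by
    rw [QuotientAddGroup.mk'_apply, Ne, QuotientAddGroup.eq_zero_iff]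
    exact hbH
  obtain ⟨N, hNfi, hqN⟩ :=
    Groth.Agent.Lib.helper28.VanDantzig.exists_finiteIndex_not_mem_of_fg _ hq
  refine ⟨N.comap (QuotientAddGroup.mk' H), ?_, ?_, ?_⟩
  · refine AddSubgroup.isOpen_mono (H₁ := H) ?_ hHo
    intro h hh
    rw [AddSubgroup.mem_comap, QuotientAddGroup.mk'_apply, (QuotientAddGroup.eq_zero_iff h).mpr hh]
    exact N.zero_mem
  · refine ⟨?_⟩
    rw [AddSubgroup.index_comap_of_surjective _ (QuotientAddGroup.mk'_surjective H)]
    exact hNfi.index_ne_zero
  · rw [AddSubgroup.mem_comap]
    exact hqN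

end Groth.Agent.S19169
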