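import Groth.Statements.S19170
import Mathlib

set_option autoImplicit false
universe u
open ProCompl

namespace Groth.Agent.S19170

/-- Let B be a topological abelian group generated as a group by a compact subset. Then every character
χ : B → ℚ/ℤ with open kernel (a continuous character for discrete ℚ/ℤ) has kernel of finite index;
consequently each such character factors through B^∧, the completion of B taken along its
finite-index open subgroups, i.e. (B^∧)^D = B^D. (The published statement assumes moreover that B is
Hausdorff, locally compact and totally disconnected; only compact generation is needed for this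
assertion, so those assumptions are dropped here.) -/
theorem result
    {B : Type u} [AddCommGroup B] [TopologicalSpace B] [IsTopologicalAddGroup B]
    (hcg : ∃ K : Set B, IsCompact K ∧ AddSubgroup.closure K = ⊤)
    (χ : B →+ ℚ ⧸ AddSubgroup.zmultiples (1 : ℚ)) (hχ : IsOpen (χ.ker : Set B)) : χ.ker.FiniteIndex := by
  obtain ⟨K, hK, hgen⟩ := hcg
  -- ℚ/ℤ is torsion
  have htors : IsAddTorsion (ℚ ⧸ AddSubgroup.zmultiples (1 : ℚ)) := by
    intro x
    obtain ⟨q, rfl⟩ := QuotientAddGroup.mk_surjective x
    rw [isOfFinAddOrder_iff_nsmul_eq_zero]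
    refine ⟨q.den, q.den_pos, ?_⟩
    rw [← QuotientAddGroup.mk_nsmul, QuotientAddGroup.eq_zero_iff]
    refine ⟨q.num, ?_⟩
    simp [Rat.den_mul_eq_num]
  -- χ '' K is finite
  have hfin : (χ '' K).Finite := by
    have hopen : ∀ b ∈ K, IsOpen {x : B | x - b ∈ (χ.ker : Set B)} := fun b _ =>
      hχ.preimage (continuous_sub_right b)
    have hcover : K ⊆ ⋃ b ∈ K, {x : B | x - b ∈ (χ.ker : Set B)} := by
      intro x hx
      simp only [Set.mem_iUnion]
      exact ⟨x, hx, by simp⟩
    obtain ⟨t, htK, htfin, hts⟩ := hK.elim_finite_subcover_image hopen hcover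
    refine (htfin.image χ).subset ?_
    rintro _ ⟨x, hx, rfl⟩
    have := hts hx
    simp only [Set.mem_iUnion] at this
    obtain ⟨b, hb, hxb⟩ := this
    refine ⟨b, hb, ?_⟩
    have h0 : χ (x - b) = 0 := hxb
    rw [map_sub, sub_eq_zero] at h0
    exact h0.symm
  have hrange : χ.range = AddSubgroup.closure (χ '' K) := by
    rw [← AddMonoidHom.map_closure, hgen, AddMonoidHom.range_eq_map]
  haveI : Finite (χ '' K) := hfin
  haveI : AddGroup.FG χ.range := by
    rw [hrange]; infer_instance
  haveI : Finite χ.range := AddCommGroup.finite_of_fg_isAddTorsion _ (IsAddTorsion.addSubgroup htors _)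
  exact AddSubgroup.finiteIndex_ker χ

end Groth.Agent.S19170
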