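import Groth.Statements.S19171
import Mathlib
import Groth.Agent.Lib.helper28.VanDantzig

set_option autoImplicit false
universe u v
open ProCompl

namespace Groth.Agent.S19171

open Topology in
/-- Let B be a Hausdorff, locally compact, totally disconnected topological abelian group generated as a
group by a compact subset, and let i : A → B be an injective continuous homomorphism inducing the
topology of A from that of B (a strict injection) whose image is closed. Then every character χ : A
→ ℚ/ℤ with open kernel extends along i to a character ψ : B → ℚ/ℤ with open kernel; with ℚ/ℤ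
discrete this says that restriction B^D → A^D of continuous characters is surjective, i.e. the dual
of a topological exact sequence 0 → A → B → C → 0 with such B, strict closed i and open p is a short
exact sequence 0 → C^D → B^D → A^D → 0. -/
theorem result
    {A : Type u} {B : Type v} [AddCommGroup A] [TopologicalSpace A] [IsTopologicalAddGroup A]
    [AddCommGroup B] [TopologicalSpace B] [IsTopologicalAddGroup B]
    [T2Space B] [LocallyCompactSpace B] [TotallyDisconnectedSpace B]
    (hcg : ∃ K : Set B, IsCompact K ∧ AddSubgroup.closure K = ⊤)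
    (i : A →+ B) (hi : Continuous i) (hinj : Function.Injective i) (hind : IsInducing i)
    (hcl : IsClosed (Set.range i))
    (χ : A →+ ℚ ⧸ AddSubgroup.zmultiples (1 : ℚ)) (hχ : IsOpen (χ.ker : Set A)) :
    ∃ ψ : B →+ ℚ ⧸ AddSubgroup.zmultiples (1 : ℚ), IsOpen (ψ.ker : Set B) ∧ ψ.comp i = χ := by
  classical
  haveI : DivisibleBy (ℚ ⧸ AddSubgroup.zmultiples (1 : ℚ)) ℤ :=
    (inferInstance : DivisibleBy (AddCircle (1 : ℚ)) ℤ)
  -- an open set of B inducing ker χ
  obtain ⟨U, hUo, hUker⟩ := hind.isOpen_iff.mp hχ
  have h0U : (0 : B) ∈ U := by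
    have : (0 : A) ∈ i ⁻¹' U := by rw [hUker]; exact χ.ker.zero_mem
    simpa using this
  obtain ⟨H, hHo, -, hHU⟩ :=
    Groth.Agent.Lib.helper28.VanDantzig.exists_compact_open_subgroup_subset (hUo.mem_nhds h0U)
  set π : B →+ B ⧸ H := QuotientAddGroup.mk' H with hπ
  set j : A →+ B ⧸ H := π.comp i with hj
  have hker : j.ker ≤ χ.ker := by
    intro a ha
    rw [AddMonoidHom.mem_ker, hj, AddMonoidHom.comp_apply, hπ, QuotientAddGroup.mk'_apply,
      QuotientAddGroup.eq_zero_iff] at ha
    have : a ∈ i ⁻¹' U := hHU ha
    rw [hUker] at this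
    exact this
  obtain ⟨ψbar, hψbar⟩ := (Module.Baer.of_divisible
    (ℚ ⧸ AddSubgroup.zmultiples (1 : ℚ))).extension_property_addMonoidHom
      (QuotientAddGroup.kerLift j) (QuotientAddGroup.kerLift_injective j)
      (QuotientAddGroup.lift j.ker χ hker)
  refine ⟨ψbar.comp π, ?_, ?_⟩
  · refine AddSubgroup.isOpen_mono (H₁ := H) ?_ hHo
    intro h hh
    rw [AddMonoidHom.mem_ker, AddMonoidHom.comp_apply, hπ, QuotientAddGroup.mk'_apply,
      (QuotientAddGroup.eq_zero_iff h).mpr hh, map_zero]
  · ext a
    have h1 := congrArg (fun f => f (QuotientAddGroup.mk a)) hψbar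
    simp only [AddMonoidHom.comp_apply, QuotientAddGroup.kerLift_mk, QuotientAddGroup.lift_mk] at h1
    rw [AddMonoidHom.comp_apply, AddMonoidHom.comp_apply]
    exact h1

end Groth.Agent.S19171
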