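import Groth.Statements.S19172
import Mathlib

set_option autoImplicit false
universe u v w
open ProCompl

namespace Groth.Agent.S19172

open W4c61motalbduality Topology

theorem exists_le_finset {B : Type*} [AddCommGroup B] [TopologicalSpace B]
    (s : Finset (OpenFI B)) :
    ∃ W₀ : OpenFI B, ∀ W ∈ s, W₀.toAddSubgroup ≤ W.toAddSubgroup := by
  classical
  induction s using Finset.induction_on with
  | empty =>
    refine ⟨⟨⊤, by simp, ⟨by simp⟩⟩, ?_⟩
    intro W hW
    simp at hW
  | insert W s hW ih =>
    obtain ⟨W₀, hW₀⟩ := ih
    haveI := W.finiteIndex'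
    haveI := W₀.finiteIndex'
    refine ⟨⟨W.toAddSubgroup ⊓ W₀.toAddSubgroup, ?_, inferInstance⟩, ?_⟩
    · rw [AddSubgroup.coe_inf]
      exact W.isOpen'.inter W₀.isOpen'
    · intro W' hW'
      rw [Finset.mem_insert] at hW'
      rcases hW' with rfl | hW'
      · exact inf_le_left
      · exact inf_le_right.trans (hW₀ W' hW')

theorem exists_preimage {A : Type*} {B : Type*} [AddCommGroup A] [TopologicalSpace A]
    [IsTopologicalAddGroup A] [AddCommGroup B] [TopologicalSpace B]
    (f : A →+ B) (hf : Continuous f) (y : FICompl B)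
    (h : ∀ U : OpenFI B, ∃ a : A, (QuotientAddGroup.mk (f a) : B ⧸ U.toAddSubgroup) = y.1 U) :
    ∃ x : FICompl A, FICompl.map f hf x = y := by
  classical
  haveI hdisc : ∀ V : OpenFI A, DiscreteTopology (A ⧸ V.toAddSubgroup) :=
    fun V => QuotientAddGroup.discreteTopology V.isOpen'
  haveI hfin : ∀ V : OpenFI A, Finite (A ⧸ V.toAddSubgroup) := fun V => by
    haveI := V.finiteIndex'
    exact AddSubgroup.finite_quotient_of_finiteIndex
  let C1 : OpenFI A × OpenFI A → Set ((V : OpenFI A) → A ⧸ V.toAddSubgroup) := fun p =>
    {x | ∀ hle : p.1.toAddSubgroup ≤ p.2.toAddSubgroup,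
      QuotientAddGroup.map p.1.toAddSubgroup p.2.toAddSubgroup (AddMonoidHom.id A) hle (x p.1)
        = x p.2}
  let C2 : OpenFI B → Set ((V : OpenFI A) → A ⧸ V.toAddSubgroup) := fun W =>
    {x | QuotientAddGroup.map (W.comap f hf).toAddSubgroup W.toAddSubgroup f (W.comap_le f)
      (x (W.comap f hf)) = y.1 W}
  have hC1 : ∀ p, IsClosed (C1 p) := by
    intro p
    by_cases hle : p.1.toAddSubgroup ≤ p.2.toAddSubgroup
    · have : C1 p = {x | QuotientAddGroup.map p.1.toAddSubgroup p.2.toAddSubgroup
          (AddMonoidHom.id A) hle (x p.1) = x p.2} := by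
        ext x
        exact ⟨fun hx => hx hle, fun hx _ => hx⟩
      rw [this]
      exact isClosed_eq (continuous_of_discreteTopology.comp (continuous_apply p.1))
        (continuous_apply p.2)
    · have : C1 p = Set.univ := by
        ext x
        simp only [Set.mem_univ, iff_true]
        intro h'
        exact absurd h' hle
      rw [this]
      exact isClosed_univ
  have hC2 : ∀ W, IsClosed (C2 W) := by
    intro W
    have : C2 W = (fun x : (V : OpenFI A) → A ⧸ V.toAddSubgroup => x (W.comap f hf)) ⁻¹'
        ((QuotientAddGroup.map (W.comap f hf).toAddSubgroup W.toAddSubgroup f (W.comap_le f)) ⁻¹'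
          {y.1 W}) := rfl
    rw [this]
    exact (isClosed_discrete _).preimage (continuous_apply _)
  have key := isCompact_univ.inter_iInter_nonempty (Sum.elim C1 C2)
    (fun i => by cases i <;> simp [hC1, hC2]) ?_
  · obtain ⟨x, -, hx⟩ := key
    rw [Set.mem_iInter] at hx
    refine ⟨⟨x, fun U V hle => hx (Sum.inl (U, V)) hle⟩, ?_⟩
    apply Subtype.ext
    funext W
    exact hx (Sum.inr W)
  · intro u
    obtain ⟨W₀, hW₀⟩ := exists_le_finset u.toRight
    obtain ⟨a₀, ha₀⟩ := h W₀
    refine ⟨fun V => QuotientAddGroup.mk a₀, Set.mem_univ _, ?_⟩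
    rw [Set.mem_iInter₂]
    intro i hi
    cases i with
    | inl p =>
      intro hle
      rfl
    | inr W =>
      have hle : W₀.toAddSubgroup ≤ W.toAddSubgroup := hW₀ W (Finset.mem_toRight.2 hi)
      have := y.2 W₀ W hle
      show QuotientAddGroup.map _ _ f _ (QuotientAddGroup.mk a₀) = y.1 W
      rw [QuotientAddGroup.map_mk, ← this, ← ha₀, QuotientAddGroup.map_mk]
      rfl

open W4c61motalbduality in
/-- Let i : A → B and p : B → C be continuous homomorphisms of topological abelian groups with p
surjective and open and with the kernel of p equal to the image of i. Then the induced sequence of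
completions with respect to open subgroups of finite index, A^∧ → B^∧ → C^∧ → 0, is exact: the map
B^∧ → C^∧ is surjective and its kernel is the image of A^∧. The completion is the group of
compatible families of residues modulo all open subgroups of finite index. (The published statement
takes i injective, as the first map of an exact sequence 0 → A → B → C → 0 of topological abelian
groups; here it is only assumed that the image of i is the kernel of p, which is all the proof
uses.) -/
theorem result
    {A : Type u} {B : Type v} {C : Type w}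
    [AddCommGroup A] [TopologicalSpace A] [IsTopologicalAddGroup A]
    [AddCommGroup B] [TopologicalSpace B] [IsTopologicalAddGroup B]
    [AddCommGroup C] [TopologicalSpace C] [IsTopologicalAddGroup C]
    (i : A →+ B) (hi : Continuous i) (p : B →+ C) (hp : Continuous p)
    (hpo : IsOpenMap p) (hps : Function.Surjective p) (hex : p.ker = i.range) :
    Function.Surjective (FICompl.map p hp) ∧ (FICompl.map p hp).ker = (FICompl.map i hi).range := by
  classical
  have hcomp : ∀ a : A, p (i a) = 0 := by
    intro a
    have : i a ∈ p.ker := by rw [hex]; exact ⟨a, rfl⟩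
    exact this
  refine ⟨?_, ?_⟩
  · intro c
    apply exists_preimage p hp c
    intro U
    obtain ⟨c', hc'⟩ := QuotientAddGroup.mk_surjective (c.1 U)
    obtain ⟨b, rfl⟩ := hps c'
    exact ⟨b, hc'⟩
  · apply le_antisymm
    · intro b hb
      rw [AddMonoidHom.mem_ker] at hb
      rw [AddMonoidHom.mem_range]
      apply exists_preimage i hi b
      intro U
      -- the image subgroup W = p(U)
      haveI := U.finiteIndex'
      let W : OpenFI C := ⟨U.toAddSubgroup.map p, by
        rw [AddSubgroup.coe_map]; exact hpo _ U.isOpen', ⟨by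
        intro h0
        have hdvd := AddSubgroup.index_map_dvd U.toAddSubgroup hps
        rw [h0, zero_dvd_iff] at hdvd
        exact AddSubgroup.FiniteIndex.index_ne_zero hdvd⟩⟩
      have hUW : U.toAddSubgroup ≤ (W.comap p hp).toAddSubgroup := by
        intro u hu
        exact ⟨u, hu, rfl⟩
      have h1 := congrArg (fun z : FICompl C => z.1 W) hb
      have h2 := b.2 U (W.comap p hp) hUW
      obtain ⟨β, hβ⟩ := QuotientAddGroup.mk_surjective (b.1 U)
      have h3 : QuotientAddGroup.map (W.comap p hp).toAddSubgroup W.toAddSubgroup p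
          (W.comap_le p) (b.1 (W.comap p hp)) = 0 := h1
      rw [← h2, ← hβ, QuotientAddGroup.map_mk, QuotientAddGroup.map_mk,
        QuotientAddGroup.eq_zero_iff] at h3
      obtain ⟨u, hu, hpu⟩ := h3
      have h4 : β - u ∈ p.ker := by
        rw [AddMonoidHom.mem_ker, map_sub]
        simp only [AddMonoidHom.id_apply] at hpu
        rw [hpu, sub_self]
      rw [hex] at h4
      obtain ⟨a, ha⟩ := h4
      refine ⟨a, ?_⟩
      rw [← hβ, ha, QuotientAddGroup.eq]
      have : -(β - u) + β = u := by abel
      rw [this]
      exact hu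
    · rintro _ ⟨a, rfl⟩
      rw [AddMonoidHom.mem_ker]
      apply Subtype.ext
      funext W
      show QuotientAddGroup.map _ _ p _ (QuotientAddGroup.map _ _ i _ (a.1 _)) = 0
      obtain ⟨a', ha'⟩ := QuotientAddGroup.mk_surjective
        (a.1 ((W.comap p hp).comap i hi))
      rw [← ha', QuotientAddGroup.map_mk, QuotientAddGroup.map_mk, hcomp]
      rfl

end Groth.Agent.S19172
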