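import Groth.Statements.S19173
import Mathlib
import Groth.Agent.S19170
import Groth.Agent.S19171

set_option autoImplicit false
universe u v
open ProCompl

namespace Groth.Agent.S19173

open W4c61motalbduality Topology in
/-- Let B be a Hausdorff, locally compact, totally disconnected topological abelian group generated as a
group by a compact subset, and let i : A → B be an injective continuous homomorphism inducing the
topology of A from that of B (a strict injection) with closed image. Then the map induced by i on
completions with respect to open subgroups of finite index is injective; together with right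
exactness for open surjections this makes 0 → A^∧ → B^∧ → C^∧ → 0 exact for a topological exact
sequence 0 → A → B → C → 0 with such B, strict closed i and open p. -/
theorem result
    {A : Type u} {B : Type v} [AddCommGroup A] [TopologicalSpace A] [IsTopologicalAddGroup A]
    [AddCommGroup B] [TopologicalSpace B] [IsTopologicalAddGroup B]
    [T2Space B] [LocallyCompactSpace B] [TotallyDisconnectedSpace B]
    (hcg : ∃ K : Set B, IsCompact K ∧ AddSubgroup.closure K = ⊤)
    (i : A →+ B) (hi : Continuous i) (hinj : Function.Injective i) (hind : IsInducing i)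
    (hcl : IsClosed (Set.range i)) :
    Function.Injective (FICompl.map i hi) := by
  classical
  -- key claim: open finite-index subgroups of A are refined by preimages
  have key : ∀ U : OpenFI A, ∃ V : OpenFI B,
      (V.comap i hi).toAddSubgroup ≤ U.toAddSubgroup := by
    intro U
    haveI : U.toAddSubgroup.FiniteIndex := U.finiteIndex'
    have hchar : ∀ q : A ⧸ U.toAddSubgroup, q ≠ 0 →
        ∃ ψ : B →+ ℚ ⧸ AddSubgroup.zmultiples (1 : ℚ), IsOpen (ψ.ker : Set B) ∧
          ψ.ker.FiniteIndex ∧
          ∀ a : A, (QuotientAddGroup.mk a : A ⧸ U.toAddSubgroup) = q → ψ (i a) ≠ 0 := by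
      intro q hq
      obtain ⟨c, hc⟩ := CharacterModule.exists_character_apply_ne_zero_of_ne_zero hq
      let c' : (A ⧸ U.toAddSubgroup) →+ ℚ ⧸ AddSubgroup.zmultiples (1 : ℚ) := c
      let χ : A →+ ℚ ⧸ AddSubgroup.zmultiples (1 : ℚ) :=
        c'.comp (QuotientAddGroup.mk' U.toAddSubgroup)
      have hχ : IsOpen (χ.ker : Set A) := by
        refine AddSubgroup.isOpen_mono (H₁ := U.toAddSubgroup) ?_ U.isOpen'
        intro u hu
        rw [AddMonoidHom.mem_ker]
        show c' (QuotientAddGroup.mk u) = 0
        rw [(QuotientAddGroup.eq_zero_iff u).mpr hu, map_zero]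
      obtain ⟨ψ, hψo, hψχ⟩ := Groth.Agent.S19171.result hcg i hi hinj hind hcl χ hχ
      refine ⟨ψ, hψo, Groth.Agent.S19170.result hcg ψ hψo, ?_⟩
      intro a ha
      have h1 : ψ (i a) = χ a := by rw [← hψχ]; rfl
      rw [h1]
      show c' (QuotientAddGroup.mk a) ≠ 0
      rw [ha]
      exact hc
    choose! ψ hψo hψfi hψne using hchar
    let V : AddSubgroup B := ⨅ q : {q : A ⧸ U.toAddSubgroup // q ≠ 0}, (ψ q.1).ker
    have hVo : IsOpen (V : Set B) := by
      rw [AddSubgroup.coe_iInf]
      exact isOpen_iInter_of_finite fun q => hψo q.1 q.2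
    have hVfi : V.FiniteIndex := AddSubgroup.finiteIndex_iInf fun q => hψfi q.1 q.2
    refine ⟨⟨V, hVo, hVfi⟩, ?_⟩
    intro a ha
    by_contra haU
    have hq : (QuotientAddGroup.mk a : A ⧸ U.toAddSubgroup) ≠ 0 := by
      rw [Ne, QuotientAddGroup.eq_zero_iff]; exact haU
    have h1 : i a ∈ V := ha
    have h2 : i a ∈ (ψ (QuotientAddGroup.mk a)).ker :=
      (AddSubgroup.mem_iInf.mp h1) ⟨_, hq⟩
    exact hψne _ hq a rfl h2
  rw [injective_iff_map_eq_zero]
  intro x hx
  apply Subtype.ext
  funext U
  show x.1 U = 0
  obtain ⟨V, hVU⟩ := key U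
  have h1 : QuotientAddGroup.map (V.comap i hi).toAddSubgroup V.toAddSubgroup i (V.comap_le i)
      (x.1 (V.comap i hi)) = 0 := by
    have := congrArg (fun y : FICompl B => y.1 V) hx
    exact this
  have h2 : x.1 (V.comap i hi) = 0 := by
    obtain ⟨a, ha⟩ := QuotientAddGroup.mk_surjective (x.1 (V.comap i hi))
    rw [← ha, QuotientAddGroup.map_mk, QuotientAddGroup.eq_zero_iff] at h1
    rw [← ha, QuotientAddGroup.eq_zero_iff]
    exact h1
  have h3 := x.2 (V.comap i hi) U hVU
  rw [h2, map_zero] at h3
  exact h3.symm

end Groth.Agent.S19173
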