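import Groth.Statements.S19176
import Mathlib

set_option autoImplicit false
universe u
open PlaneCurve

namespace Groth.Agent.S19176

/-- the standard monomial `x^a y^b`. -/
noncomputable def em (a b : ℕ) : Fin 2 →₀ ℕ := Finsupp.single 0 a + Finsupp.single 1 b

theorem em_zero (a b : ℕ) : em a b 0 = a := by simp [em]

theorem em_one (a b : ℕ) : em a b 1 = b := by simp [em]

theorem eq_em (m : Fin 2 →₀ ℕ) : m = em (m 0) (m 1) := by
  ext i
  fin_cases i
  · exact (em_zero _ _).symm
  · exact (em_one _ _).symm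

theorem single_zero_le (A : ℕ) (m : Fin 2 →₀ ℕ) : Finsupp.single 0 A ≤ m ↔ A ≤ m 0 := by
  rw [Finsupp.le_def]
  constructor
  · intro h
    simpa using h 0
  · intro h i
    fin_cases i
    · simpa using h
    · simp

theorem single_one_le (B : ℕ) (m : Fin 2 →₀ ℕ) : Finsupp.single 1 B ≤ m ↔ B ≤ m 1 := by
  rw [Finsupp.le_def]
  constructor
  · intro h
    simpa using h 1
  · intro h i
    fin_cases i
    · simp
    · simpa using h

/-- `dim k[x,y]/(x^A, y^B) = A·B`. -/
theorem finrank_quot (k : Type u) [Field k] (A B : ℕ) :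
    Module.finrank k (MvPolynomial (Fin 2) k ⧸ Ideal.span
      ({MvPolynomial.X 0 ^ A, MvPolynomial.X 1 ^ B} : Set (MvPolynomial (Fin 2) k))) = A * B := by
  classical
  have hset : ({MvPolynomial.X 0 ^ A, MvPolynomial.X 1 ^ B} : Set (MvPolynomial (Fin 2) k)) =
      (fun s => MvPolynomial.monomial s (1 : k)) ''
        ({Finsupp.single 0 A, Finsupp.single 1 B} : Set (Fin 2 →₀ ℕ)) := by
    rw [Set.image_pair, MvPolynomial.X_pow_eq_monomial, MvPolynomial.X_pow_eq_monomial]
  let φ : MvPolynomial (Fin 2) k →ₗ[k] (Fin A × Fin B → k) :=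
    LinearMap.pi fun ab => MvPolynomial.lcoeff k (em ab.1 ab.2)
  have hφ : ∀ f ab, φ f ab = MvPolynomial.coeff (em ab.1 ab.2) f := fun f ab => rfl
  have hsurj : Function.Surjective φ := by
    intro c
    refine ⟨∑ ab : Fin A × Fin B, MvPolynomial.monomial (em ab.1 ab.2) (c ab), ?_⟩
    funext ab
    rw [hφ, MvPolynomial.coeff_sum, Finset.sum_eq_single ab]
    · simp
    · intro ab' _ hne
      rw [MvPolynomial.coeff_monomial, if_neg]
      intro h
      apply hne
      have h0 := DFunLike.congr_fun h 0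
      have h1 := DFunLike.congr_fun h 1
      rw [em_zero, em_zero] at h0
      rw [em_one, em_one] at h1
      exact Prod.ext (Fin.ext h0) (Fin.ext h1)
    · intro h
      exact absurd (Finset.mem_univ _) h
  have hker : LinearMap.ker φ = (Ideal.span
      ({MvPolynomial.X 0 ^ A, MvPolynomial.X 1 ^ B} : Set (MvPolynomial (Fin 2) k))).restrictScalars
        k := by
    ext f
    rw [LinearMap.mem_ker, Submodule.restrictScalars_mem, hset,
      MvPolynomial.mem_ideal_span_monomial_image]
    constructor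
    · intro h m hm
      by_contra hcon
      push Not at hcon
      have h0 : ¬ A ≤ m 0 := fun hA =>
        hcon _ (Set.mem_insert _ _) ((single_zero_le A m).2 hA)
      have h1 : ¬ B ≤ m 1 := fun hB =>
        hcon _ (Set.mem_insert_of_mem _ (Set.mem_singleton _)) ((single_one_le B m).2 hB)
      have h2 := congrFun h (⟨m 0, by omega⟩, ⟨m 1, by omega⟩)
      rw [hφ] at h2
      simp only [Pi.zero_apply] at h2
      rw [← eq_em m] at h2
      exact (MvPolynomial.mem_support_iff.1 hm) h2
    · intro h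
      funext ab
      rw [hφ]
      simp only [Pi.zero_apply]
      by_contra hne
      obtain ⟨s, hs, hle⟩ := h _ (MvPolynomial.mem_support_iff.2 hne)
      rcases hs with rfl | hs
      · have := (single_zero_le A _).1 hle
        rw [em_zero] at this
        have := ab.1.isLt
        omega
      · rw [Set.mem_singleton_iff] at hs
        subst hs
        have := (single_one_le B _).1 hle
        rw [em_one] at this
        have := ab.2.isLt
        omega
  have e : (MvPolynomial (Fin 2) k ⧸ Ideal.span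
      ({MvPolynomial.X 0 ^ A, MvPolynomial.X 1 ^ B} : Set (MvPolynomial (Fin 2) k))) ≃ₗ[k]
      (Fin A × Fin B → k) :=
    ((Submodule.Quotient.restrictScalarsEquiv k _).symm.trans
      (Submodule.quotEquivOfEq _ _ hker.symm)).trans (φ.quotKerEquivOfSurjective hsurj)
  rw [e.finrank_eq, Module.finrank_fintype_fun_eq_card]
  simp


theorem mem3 {P : Type*} [CommRing P] (g1 g2 g3 x c1 c2 c3 : P)
    (h : x = c1 * g1 + c2 * g2 + c3 * g3) : x ∈ Ideal.span ({g1, g2, g3} : Set P) := by
  rw [h]
  refine Ideal.add_mem _ (Ideal.add_mem _ ?_ ?_) ?_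
  · exact Ideal.mul_mem_left _ _ (Ideal.subset_span (by simp))
  · exact Ideal.mul_mem_left _ _ (Ideal.subset_span (by simp))
  · exact Ideal.mul_mem_left _ _ (Ideal.subset_span (by simp))

theorem span3_le {P : Type*} [CommRing P] (g1 g2 g3 a b : P)
    (h1 : ∃ c d, c * a + d * b = g1) (h2 : ∃ c d, c * a + d * b = g2)
    (h3 : ∃ c d, c * a + d * b = g3) :
    Ideal.span ({g1, g2, g3} : Set P) ≤ Ideal.span ({a, b} : Set P) := by
  rw [Ideal.span_le]
  intro x hx
  rcases hx with rfl | rfl | hx
  · exact Ideal.mem_span_pair.2 h1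
  · exact Ideal.mem_span_pair.2 h2
  · rw [Set.mem_singleton_iff] at hx
    subst hx
    exact Ideal.mem_span_pair.2 h3

theorem span2_le {P : Type*} [CommRing P] (g1 g2 g3 a b : P)
    (ha : a ∈ Ideal.span ({g1, g2, g3} : Set P)) (hb : b ∈ Ideal.span ({g1, g2, g3} : Set P)) :
    Ideal.span ({a, b} : Set P) ≤ Ideal.span ({g1, g2, g3} : Set P) := by
  rw [Ideal.span_le]
  intro x hx
  rcases hx with rfl | hx
  · exact ha
  · rw [Set.mem_singleton_iff] at hx
    subst hx
    exact hb


open MvPolynomial in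
/-- Let k be a field of characteristic p (p = 0 allowed) and F = y² − x³ in k[x, y] (x the variable of
index 0, y of index 1). The singular subscheme of the plane curve F = 0, cut out by F and its two
partial derivatives, is finite over k of degree 4 when p = 2, of degree 3 when p = 3, and of degree
2 otherwise: the k-dimension of k[x, y]/(F, ∂F/∂x, ∂F/∂y) is that number. (The source phrases this
through the complete local ring of a cusp; the row is the computation for the standard cusp y² =
x³.) -/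
theorem result (k : Type u) [Field k] (p : ℕ) [CharP k p] :
    Module.finrank k (MvPolynomial (Fin 2) k ⧸ Ideal.span
      ({X 1 ^ 2 - X 0 ^ 3, pderiv 0 (X 1 ^ 2 - X 0 ^ 3), pderiv 1 (X 1 ^ 2 - X 0 ^ 3)} :
        Set (MvPolynomial (Fin 2) k))) = (if p = 2 then 4 else if p = 3 then 3 else 2) := by
  classical
  have hd0 : pderiv 0 (X 1 ^ 2 - X 0 ^ 3 : MvPolynomial (Fin 2) k) = -(3 * X 0 ^ 2) := by
    simp [pderiv_X]
  have hd1 : pderiv 1 (X 1 ^ 2 - X 0 ^ 3 : MvPolynomial (Fin 2) k) = 2 * X 1 := by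
    simp [pderiv_X]
  rw [hd0, hd1]
  have hC2 : (2 : MvPolynomial (Fin 2) k) = C (2 : k) := (map_ofNat C 2).symm
  have hC3 : (3 : MvPolynomial (Fin 2) k) = C (3 : k) := (map_ofNat C 3).symm
  have hp1 : p ≠ 1 := CharP.char_ne_one k p
  have h2iff : (2 : k) = 0 ↔ p = 2 := by
    have := CharP.cast_eq_zero_iff k p 2
    rw [Nat.cast_ofNat] at this
    rw [this, Nat.dvd_prime Nat.prime_two]
    tauto
  have h3iff : (3 : k) = 0 ↔ p = 3 := by
    have := CharP.cast_eq_zero_iff k p 3
    rw [Nat.cast_ofNat] at this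
    rw [this, Nat.dvd_prime Nat.prime_three]
    tauto
  by_cases h2 : p = 2
  · rw [if_pos h2]
    have e2 : (2 : MvPolynomial (Fin 2) k) = 0 := by rw [hC2, h2iff.2 h2, map_zero]
    have e3 : (3 : MvPolynomial (Fin 2) k) = 1 := by
      have : (3 : MvPolynomial (Fin 2) k) = 2 + 1 := by norm_num
      rw [this, e2, zero_add]
    have hI : Ideal.span ({X 1 ^ 2 - X 0 ^ 3, -(3 * X 0 ^ 2), 2 * X 1} :
        Set (MvPolynomial (Fin 2) k)) = Ideal.span {X 0 ^ 2, X 1 ^ 2} := by
      apply le_antisymm
      · apply span3_le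
        · exact ⟨-X 0, 1, by ring⟩
        · exact ⟨-3, 0, by ring⟩
        · exact ⟨0, 0, by rw [e2]; ring⟩
      · apply span2_le
        · exact mem3 _ _ _ _ 0 (-1) 0 (by rw [e3]; ring)
        · exact mem3 _ _ _ _ 1 (-X 0) 0 (by rw [e3]; ring)
    rw [hI, finrank_quot]
  · rw [if_neg h2]
    have h2ne : (2 : k) ≠ 0 := fun h => h2 (h2iff.1 h)
    have hi2 : C ((2 : k)⁻¹) * (2 : MvPolynomial (Fin 2) k) = 1 := by
      rw [hC2, ← map_mul, inv_mul_cancel₀ h2ne, map_one]
    by_cases h3 : p = 3
    · rw [if_pos h3]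
      have e3 : (3 : MvPolynomial (Fin 2) k) = 0 := by rw [hC3, h3iff.2 h3, map_zero]
      have hI : Ideal.span ({X 1 ^ 2 - X 0 ^ 3, -(3 * X 0 ^ 2), 2 * X 1} :
          Set (MvPolynomial (Fin 2) k)) = Ideal.span {X 0 ^ 3, X 1 ^ 1} := by
        apply le_antisymm
        · apply span3_le
          · exact ⟨-1, X 1, by ring⟩
          · exact ⟨0, 0, by rw [e3]; ring⟩
          · exact ⟨0, 2, by ring⟩
        · apply span2_le
          · exact mem3 _ _ _ _ (-1) 0 (X 1 * C ((2 : k)⁻¹)) (by
              linear_combination (-(X 1 ^ 2 : MvPolynomial (Fin 2) k)) * hi2)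
          · exact mem3 _ _ _ _ 0 0 (C ((2 : k)⁻¹)) (by
              linear_combination (-(X 1 : MvPolynomial (Fin 2) k)) * hi2)
      rw [hI, finrank_quot]
    · rw [if_neg h3]
      have h3ne : (3 : k) ≠ 0 := fun h => h3 (h3iff.1 h)
      have hi3 : C ((3 : k)⁻¹) * (3 : MvPolynomial (Fin 2) k) = 1 := by
        rw [hC3, ← map_mul, inv_mul_cancel₀ h3ne, map_one]
      have hI : Ideal.span ({X 1 ^ 2 - X 0 ^ 3, -(3 * X 0 ^ 2), 2 * X 1} :
          Set (MvPolynomial (Fin 2) k)) = Ideal.span {X 0 ^ 2, X 1 ^ 1} := by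
        apply le_antisymm
        · apply span3_le
          · exact ⟨-X 0, X 1, by ring⟩
          · exact ⟨-3, 0, by ring⟩
          · exact ⟨0, 2, by ring⟩
        · apply span2_le
          · exact mem3 _ _ _ _ 0 (-C ((3 : k)⁻¹)) 0 (by
              linear_combination (-(X 0 ^ 2 : MvPolynomial (Fin 2) k)) * hi3)
          · exact mem3 _ _ _ _ 0 0 (C ((2 : k)⁻¹)) (by
              linear_combination (-(X 1 : MvPolynomial (Fin 2) k)) * hi2)
      rw [hI, finrank_quot]

end Groth.Agent.S19176
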