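import Groth.Statements.S19177
import Mathlib

set_option autoImplicit false
universe u
open CAlg

namespace Groth.Agent.S19177aux

variable (S R : Type u) [CommRing S] [CommRing R] [Algebra S R] [Module.Finite S R]
  [Module.Projective S R]

/-- `1` is unimodular -/
lemma exists_retraction (h2 : ∀ p : PrimeSpectrum S, Module.rankAtStalk (R := S) R p = 2) :
    ∃ φ : R →ₗ[S] S, φ 1 = 1 := by
  classical
  obtain ⟨s, hs⟩ := Module.projective_def'.mp (inferInstance : Module.Projective S R)
  let ev : (R →ₗ[S] S) →ₗ[S] S := LinearMap.applyₗ (1 : R)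
  let I : Ideal S := LinearMap.range ev
  by_cases hI : I = ⊤
  · have : (1 : S) ∈ I := by rw [hI]; trivial
    obtain ⟨φ, hφ⟩ := this
    exact ⟨φ, hφ⟩
  · exfalso
    obtain ⟨𝔪, h𝔪, hle⟩ := Ideal.exists_le_maximal I hI
    have hcoord : ∀ r : R, (s 1) r ∈ 𝔪 := by
      intro r
      apply hle
      exact ⟨(Finsupp.lapply r) ∘ₗ s, rfl⟩
    have h1 : (1 : R) = ∑ r ∈ (s 1).support, (s 1) r • r := by
      have := LinearMap.congr_fun hs 1
      simp only [LinearMap.comp_apply, LinearMap.id_apply, Finsupp.linearCombination_apply] at this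
      rw [Finsupp.sum] at this
      exact this.symm
    have htop : (⊤ : Submodule S R) ≤ 𝔪 • (⊤ : Submodule S R) := by
      intro r _
      have : r = ∑ r' ∈ (s 1).support, (s 1) r' • (r * r') := by
        conv_lhs => rw [← mul_one r, h1, Finset.mul_sum]
        apply Finset.sum_congr rfl
        intro r' _
        rw [mul_smul_comm]
      rw [this]
      refine Submodule.sum_mem _ (fun r' _ => ?_)
      exact Submodule.smul_mem_smul (hcoord r') trivial
    obtain ⟨t, ht1, ht⟩ := Submodule.exists_sub_one_mem_and_smul_eq_zero_of_fg_of_le_smul 𝔪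
      (⊤ : Submodule S R) Module.Finite.fg_top htop
    have ht𝔪 : t ∉ 𝔪 := by
      intro h
      have : (1 : S) ∈ 𝔪 := by
        have := 𝔪.sub_mem h ht1
        simpa using this
      exact h𝔪.ne_top ((Ideal.eq_top_iff_one _).mpr this)
    have hnot : (⟨𝔪, h𝔪.isPrime⟩ : PrimeSpectrum S) ∉ Module.support S R := by
      rw [Module.notMem_support_iff']
      intro m
      exact ⟨t, ht𝔪, ht m trivial⟩
    have hpos := (Module.rankAtStalk_pos_iff_mem_support (R := S) (M := R) ⟨𝔪, h𝔪.isPrime⟩).not.mpr hnot
    rw [h2] at hpos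
    exact hpos (by norm_num)


theorem main (h2 : ∀ p : PrimeSpectrum S, Module.rankAtStalk (R := S) R p = 2) :
    Module.Projective S (R ⧸ LinearMap.range (Algebra.linearMap S R)) ∧
      ∀ p : PrimeSpectrum S,
        Module.rankAtStalk (R := S) (R ⧸ LinearMap.range (Algebra.linearMap S R)) p = 1 := by
  obtain ⟨φ, hφ⟩ := exists_retraction S R h2
  set ι : S →ₗ[S] R := Algebra.linearMap S R with hι
  have hφι : ∀ c : S, φ (ι c) = c := by
    intro c
    rw [hι, Algebra.linearMap_apply, Algebra.algebraMap_eq_smul_one, map_smul, hφ, smul_eq_mul,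
      mul_one]
  -- the section Q → R
  let i₀ : R →ₗ[S] R := LinearMap.id - ι ∘ₗ φ
  have hi₀ : LinearMap.range ι ≤ LinearMap.ker i₀ := by
    rintro _ ⟨c, rfl⟩
    rw [LinearMap.mem_ker]
    simp only [i₀, LinearMap.sub_apply, LinearMap.id_apply, LinearMap.comp_apply, hφι, sub_self]
  let i : (R ⧸ LinearMap.range ι) →ₗ[S] R := Submodule.liftQ _ i₀ hi₀
  have hi_mk : ∀ x : R, i (Submodule.Quotient.mk x) = x - ι (φ x) := by
    intro x
    rfl
  have hsplit : (LinearMap.range ι).mkQ ∘ₗ i = LinearMap.id := by
    apply LinearMap.ext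
    intro q
    obtain ⟨x, rfl⟩ := Submodule.Quotient.mk_surjective _ q
    have hz : (LinearMap.range ι).mkQ (ι (φ x)) = 0 := by
      rw [Submodule.mkQ_apply]
      exact (Submodule.Quotient.mk_eq_zero _).mpr ⟨φ x, rfl⟩
    rw [LinearMap.comp_apply, hi_mk, LinearMap.id_apply, map_sub, hz, sub_zero,
      Submodule.mkQ_apply]
  have hproj : Module.Projective S (R ⧸ LinearMap.range ι) :=
    Module.Projective.of_split i (LinearMap.range ι).mkQ hsplit
  refine ⟨hproj, ?_⟩
  -- the equivalence R ≃ S × Q
  have hφi : ∀ q, φ (i q) = 0 := by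
    intro q
    obtain ⟨x, rfl⟩ := Submodule.Quotient.mk_surjective _ q
    rw [hi_mk, map_sub, hφι, sub_self]
  let e : R ≃ₗ[S] S × (R ⧸ LinearMap.range ι) :=
    LinearEquiv.ofLinearMap (φ.prod (LinearMap.range ι).mkQ) (ι.coprod i)
      (by
        apply LinearMap.ext
        rintro ⟨c, q⟩
        have hq : (LinearMap.range ι).mkQ (i q) = q := LinearMap.congr_fun hsplit q
        have hc : (LinearMap.range ι).mkQ (ι c) = 0 := by
          rw [Submodule.mkQ_apply]
          exact (Submodule.Quotient.mk_eq_zero _).mpr ⟨c, rfl⟩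
        change (φ (ι c + i q), (LinearMap.range ι).mkQ (ι c + i q)) = (c, q)
        rw [map_add, map_add, hφι, hφi, add_zero, hq, hc, zero_add])
      (by
        apply LinearMap.ext
        intro x
        change ι (φ x) + i (Submodule.Quotient.mk x) = x
        rw [hi_mk]
        abel)
  intro p
  have : Nontrivial S := ⟨⟨0, 1, fun h => p.isPrime.ne_top ((Ideal.eq_top_iff_one _).mpr (by
    rw [← h]; exact zero_mem _))⟩⟩
  have h3 := Module.rankAtStalk_eq_of_equiv (R := S) e
  rw [Module.rankAtStalk_prod, Module.rankAtStalk_self] at h3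
  have h4 := congrFun h3 p
  rw [h2 p] at h4
  simp only [Pi.add_apply, Pi.one_apply] at h4
  omega

end Groth.Agent.S19177aux

namespace Groth.Agent.S19177

/-- Let S → R be a homomorphism of commutative rings making R a finitely generated projective S-module
of rank 2 at every prime of S (the affine form of a finite locally free morphism of degree 2). Then
the cokernel of the (injective) structure map S → R, the S-module R/S, is a projective S-module of
rank 1 at every prime of S (locally free of rank 1). -/
theorem result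
    (S R : Type u) [CommRing S] [CommRing R] [Algebra S R] [Module.Finite S R] [Module.Projective S R]
    (h2 : ∀ p : PrimeSpectrum S, Module.rankAtStalk (R := S) R p = 2) :
    Module.Projective S (R ⧸ LinearMap.range (Algebra.linearMap S R)) ∧
      ∀ p : PrimeSpectrum S,
        Module.rankAtStalk (R := S) (R ⧸ LinearMap.range (Algebra.linearMap S R)) p = 1 := by
  exact Groth.Agent.S19177aux.main S R h2

end Groth.Agent.S19177
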