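import Groth.Statements.S19178
import Mathlib

set_option autoImplicit false
universe u
open Curves

namespace Groth.Agent.S19178

open MvPolynomial in
theorem fse_C (k : Type u) [Field k] (a : k) :
    MvPolynomial.finSuccEquiv k 2 (C a) = Polynomial.C (C a) := by
  rw [MvPolynomial.finSuccEquiv_apply, MvPolynomial.eval₂Hom_C]
  rfl

open MvPolynomial in
theorem fse_poly (k : Type u) [Field k] (W : WeierstrassCurve k) :
    MvPolynomial.finSuccEquiv k 2 (WeierstrassCurve.Projective.polynomial W) =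
      Polynomial.C (-1) * Polynomial.X ^ 3 + Polynomial.C (-(C W.a₂ * X 1)) * Polynomial.X ^ 2 +
        Polynomial.C (C W.a₁ * X 0 * X 1 - C W.a₄ * X 1 ^ 2) * Polynomial.X +
        Polynomial.C (X 0 ^ 2 * X 1 + C W.a₃ * X 0 * X 1 ^ 2 - C W.a₆ * X 1 ^ 3) := by
  have h1 : (1 : Fin 3) = Fin.succ 0 := rfl
  have h2 : (2 : Fin 3) = Fin.succ 1 := rfl
  rw [WeierstrassCurve.Projective.polynomial]
  simp only [map_sub, map_add, map_mul, map_pow, h1, h2, MvPolynomial.finSuccEquiv_X_zero,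
    MvPolynomial.finSuccEquiv_X_succ, fse_C]
  simp only [map_neg, map_one, map_sub, map_add, map_mul, map_pow]
  ring

open MvPolynomial in
theorem eisenstein (k : Type u) [Field k] (a₁ a₂ a₃ a₄ a₆ : k) :
    Irreducible (Polynomial.C (-1 : MvPolynomial (Fin 2) k) * Polynomial.X ^ 3 +
      Polynomial.C (-(C a₂ * X 1)) * Polynomial.X ^ 2 +
      Polynomial.C (C a₁ * X 0 * X 1 - C a₄ * X 1 ^ 2) * Polynomial.X +
      Polynomial.C (X 0 ^ 2 * X 1 + C a₃ * X 0 * X 1 ^ 2 - C a₆ * X 1 ^ 3)) := by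
  have hm1 : (-1 : MvPolynomial (Fin 2) k) ≠ 0 := neg_ne_zero.2 one_ne_zero
  have hzprime : Prime (X 1 : MvPolynomial (Fin 2) k) := MvPolynomial.X_prime
  have hP : (Ideal.span ({X 1} : Set (MvPolynomial (Fin 2) k))).IsPrime :=
    (Ideal.span_singleton_prime hzprime.ne_zero).2 hzprime
  have hcoeff0 : (Polynomial.C (-1 : MvPolynomial (Fin 2) k) * Polynomial.X ^ 3 +
      Polynomial.C (-(C a₂ * X 1)) * Polynomial.X ^ 2 +
      Polynomial.C (C a₁ * X 0 * X 1 - C a₄ * X 1 ^ 2) * Polynomial.X +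
      Polynomial.C (X 0 ^ 2 * X 1 + C a₃ * X 0 * X 1 ^ 2 - C a₆ * X 1 ^ 3)).coeff 0 =
      X 0 ^ 2 * X 1 + C a₃ * X 0 * X 1 ^ 2 - C a₆ * X 1 ^ 3 := by
    exact Cubic.coeff_eq_d (P := ⟨_, _, _, _⟩)
  have hcoeff1 : (Polynomial.C (-1 : MvPolynomial (Fin 2) k) * Polynomial.X ^ 3 +
      Polynomial.C (-(C a₂ * X 1)) * Polynomial.X ^ 2 +
      Polynomial.C (C a₁ * X 0 * X 1 - C a₄ * X 1 ^ 2) * Polynomial.X +
      Polynomial.C (X 0 ^ 2 * X 1 + C a₃ * X 0 * X 1 ^ 2 - C a₆ * X 1 ^ 3)).coeff 1 =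
      C a₁ * X 0 * X 1 - C a₄ * X 1 ^ 2 := by
    exact Cubic.coeff_eq_c (P := ⟨_, _, _, _⟩)
  have hcoeff2 : (Polynomial.C (-1 : MvPolynomial (Fin 2) k) * Polynomial.X ^ 3 +
      Polynomial.C (-(C a₂ * X 1)) * Polynomial.X ^ 2 +
      Polynomial.C (C a₁ * X 0 * X 1 - C a₄ * X 1 ^ 2) * Polynomial.X +
      Polynomial.C (X 0 ^ 2 * X 1 + C a₃ * X 0 * X 1 ^ 2 - C a₆ * X 1 ^ 3)).coeff 2 =
      -(C a₂ * X 1) := by
    exact Cubic.coeff_eq_b (P := ⟨_, _, _, _⟩)
  have hcoeff3 : (Polynomial.C (-1 : MvPolynomial (Fin 2) k) * Polynomial.X ^ 3 +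
      Polynomial.C (-(C a₂ * X 1)) * Polynomial.X ^ 2 +
      Polynomial.C (C a₁ * X 0 * X 1 - C a₄ * X 1 ^ 2) * Polynomial.X +
      Polynomial.C (X 0 ^ 2 * X 1 + C a₃ * X 0 * X 1 ^ 2 - C a₆ * X 1 ^ 3)).coeff 3 = -1 := by
    exact Cubic.coeff_eq_a (P := ⟨_, _, _, _⟩)
  have hunit : IsUnit (-1 : MvPolynomial (Fin 2) k) := isUnit_one.neg
  apply Polynomial.irreducible_of_eisenstein_criterion hP
  · rw [Polynomial.leadingCoeff_cubic hm1]
    intro h
    exact hP.ne_top (Ideal.eq_top_of_isUnit_mem _ h hunit)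
  · intro n hn
    rw [Polynomial.degree_cubic hm1] at hn
    have hn' : n < 3 := by exact_mod_cast hn
    rw [Ideal.mem_span_singleton]
    interval_cases n
    · rw [hcoeff0]
      exact ⟨X 0 ^ 2 + C a₃ * X 0 * X 1 - C a₆ * X 1 ^ 2, by ring⟩
    · rw [hcoeff1]
      exact ⟨C a₁ * X 0 - C a₄ * X 1, by ring⟩
    · rw [hcoeff2]
      exact ⟨-C a₂, by ring⟩
  · rw [Polynomial.degree_cubic hm1]
    norm_num
  · rw [hcoeff0, Ideal.span_singleton_pow, Ideal.mem_span_singleton]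
    intro h
    have h1 : (X 1 : MvPolynomial (Fin 2) k) ^ 2 ∣ X 0 ^ 2 * X 1 := by
      have h2 : (X 1 : MvPolynomial (Fin 2) k) ^ 2 ∣ C a₃ * X 0 * X 1 ^ 2 - C a₆ * X 1 ^ 3 :=
        ⟨C a₃ * X 0 - C a₆ * X 1, by ring⟩
      have := dvd_sub h h2
      convert this using 1
      ring
    have h3 : (X 1 : MvPolynomial (Fin 2) k) ∣ X 0 ^ 2 := by
      obtain ⟨c, hc⟩ := h1
      refine ⟨c, ?_⟩
      have : (X 1 : MvPolynomial (Fin 2) k) * X 0 ^ 2 = X 1 * (X 1 * c) := by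
        rw [mul_comm, hc]; ring
      exact mul_left_cancel₀ hzprime.ne_zero this
    have h4 := hzprime.dvd_of_dvd_pow h3
    rw [MvPolynomial.X_dvd_X] at h4
    exact absurd h4 (by decide)
  · rw [Polynomial.isPrimitive_iff_isUnit_of_C_dvd]
    intro r hr
    have := (Polynomial.C_dvd_iff_dvd_coeff _ _).1 hr 3
    rw [hcoeff3] at this
    exact isUnit_of_dvd_unit this hunit


/-- For every field k and every choice of coefficients a₁, a₂, a₃, a₄, a₆ in k, the homogeneous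
Weierstrass cubic Y²Z + a₁XYZ + a₃YZ² − (X³ + a₂X²Z + a₄XZ² + a₆Z³) is an irreducible polynomial in
k[X, Y, Z]. Applied to all fields, this says every fibre of the Weierstrass family over the affine
space of coefficients is geometrically integral. -/
theorem result (k : Type u) [Field k]
    (W : WeierstrassCurve k) :
    Irreducible (WeierstrassCurve.Projective.polynomial W) := by
  rw [← MulEquiv.irreducible_iff (MvPolynomial.finSuccEquiv k 2), fse_poly]
  exact eisenstein k W.a₁ W.a₂ W.a₃ W.a₄ W.a₆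

end Groth.Agent.S19178
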