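import Groth.Statements.S19181
import Mathlib

set_option autoImplicit false
universe u
open CAlg

namespace Groth.Agent.S19181

/-- In `S[T]`: if the constant coefficient of `G` is left regular, `T` is a nonzerodivisor
modulo `G`. -/
theorem key_poly {S : Type*} [CommRing S] (G s : Polynomial S)
    (hreg : IsLeftRegular (G.coeff 0)) (h : G ∣ Polynomial.X * s) : G ∣ s := by
  obtain ⟨t, ht⟩ := h
  have h0 : G.coeff 0 * t.coeff 0 = 0 := by
    have := congrArg (fun q => Polynomial.coeff q 0) ht
    simp only [Polynomial.mul_coeff_zero, Polynomial.coeff_X_zero, zero_mul] at this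
    exact this.symm
  have ht0 : t.coeff 0 = 0 := hreg (by simp only; rw [h0, mul_zero])
  obtain ⟨t', rfl⟩ := Polynomial.X_dvd_iff.2 ht0
  refine ⟨t', ?_⟩
  have h1 : Polynomial.X * s = Polynomial.X * (G * t') := by rw [ht]; ring
  exact Polynomial.isRegular_X.left h1

/-- A polynomial with constant coefficient `1` is left regular. -/
theorem isLeftRegular_of_coeff_zero_eq_one {R : Type*} [CommRing R] (c : Polynomial R)
    (hc : c.coeff 0 = 1) : IsLeftRegular c := by
  intro a b hab
  have hunit : IsUnit (c : PowerSeries R) := by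
    rw [PowerSeries.isUnit_iff_constantCoeff]
    have : PowerSeries.constantCoeff (c : PowerSeries R) = c.coeff 0 := by
      simp [← PowerSeries.coeff_zero_eq_constantCoeff_apply, Polynomial.coeff_coe]
    rw [this, hc]
    exact isUnit_one
  have h1 : (c : PowerSeries R) * (a : PowerSeries R) = (c : PowerSeries R) * (b : PowerSeries R) := by
    rw [← Polynomial.coe_mul, ← Polynomial.coe_mul]
    exact congrArg _ hab
  exact Polynomial.coe_injective R (hunit.mul_left_cancel h1)

/-- the comparison map `R[X₀, X₁] → (R[X])[T]`, `X₀ ↦ T`, `X₁ ↦ X`. -/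
noncomputable def E' (R : Type*) [CommRing R] :
    MvPolynomial (Fin 2) R →ₐ[R] Polynomial (Polynomial R) :=
  MvPolynomial.aeval ![Polynomial.X, Polynomial.C Polynomial.X]

/-- its inverse. -/
noncomputable def E'' (R : Type*) [CommRing R] :
    Polynomial (Polynomial R) →+* MvPolynomial (Fin 2) R :=
  Polynomial.eval₂RingHom (Polynomial.eval₂RingHom MvPolynomial.C (MvPolynomial.X 1))
    (MvPolynomial.X 0)

theorem E''_E' (R : Type*) [CommRing R] (q : MvPolynomial (Fin 2) R) : E'' R (E' R q) = q := by
  have : (E'' R).comp (E' R : MvPolynomial (Fin 2) R →+* Polynomial (Polynomial R)) =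
      RingHom.id _ := by
    apply MvPolynomial.ringHom_ext
    · intro r
      simp [E', E'']
    · intro i
      fin_cases i <;> simp [E', E'']
  exact RingHom.congr_fun this q

/-- `X 0` is a nonzerodivisor modulo `g` when the constant coefficient (in `T`) of the image of
`g` is left regular. -/
theorem key_mv {R : Type*} [CommRing R] (g s : MvPolynomial (Fin 2) R)
    (hreg : IsLeftRegular ((E' R g).coeff 0)) (h : g ∣ MvPolynomial.X 0 * s) : g ∣ s := by
  have h1 : E' R g ∣ Polynomial.X * E' R s := by
    have := map_dvd (E' R) h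
    rwa [map_mul, show E' R (MvPolynomial.X 0) = Polynomial.X by simp [E']] at this
  have h2 := key_poly _ _ hreg h1
  have h3 := map_dvd (E'' R) h2
  rwa [E''_E', E''_E'] at h3

theorem sat {R : Type*} [CommRing R] (g s : MvPolynomial (Fin 2) R)
    (hreg : IsLeftRegular ((E' R g).coeff 0)) :
    (∃ n : ℕ, MvPolynomial.X 0 ^ n * s ∈
      Ideal.span ({MvPolynomial.X 0 ^ 2 * g} : Set (MvPolynomial (Fin 2) R))) ↔
      s ∈ Ideal.span ({g} : Set (MvPolynomial (Fin 2) R)) := by
  simp only [Ideal.mem_span_singleton]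
  constructor
  · rintro ⟨n, hn⟩
    have h1 : g ∣ MvPolynomial.X 0 ^ n * s := dvd_trans (Dvd.intro_left _ rfl) hn
    clear hn
    induction n with
    | zero => simpa using h1
    | succ n ih =>
      apply ih
      apply key_mv g _ hreg
      rw [← mul_assoc, ← pow_succ']
      exact h1
  · rintro ⟨t, rfl⟩
    exact ⟨2, ⟨t, by ring⟩⟩


open MvPolynomial in
/-- Let R be a commutative ring, a₁, a₂ ∈ R, and C ⊂ A²_R the curve y² + a₁xy = x³ + a₂x², blown up at
the section x = y = 0. In the chart where x = yα (variables y = X 0, α = X 1) the equation of C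
becomes y²·g₁ with g₁ = 1 + a₁α − yα³ − a₂α², and the y-saturation of the ideal (y²g₁) is (g₁): for
s ∈ R[y, α], some yⁿs lies in (y²g₁) if and only if s ∈ (g₁). In the chart where y = xβ (variables x
= X 0, β = X 1) the equation becomes x²·g₂ with g₂ = β² + a₁β − x − a₂, and some xⁿs lies in (x²g₂)
if and only if s ∈ (g₂). In other words the strict transform of C is cut out by g₁, resp. g₂, in the
two charts. -/
theorem result (R : Type u) [CommRing R] (a₁ a₂ : R) :
    (∀ s : MvPolynomial (Fin 2) R,
      (∃ n : ℕ, X 0 ^ n * s ∈ Ideal.span ({X 0 ^ 2 * (1 + C a₁ * X 1 - X 0 * X 1 ^ 3 - C a₂ * X 1 ^ 2)} :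
        Set (MvPolynomial (Fin 2) R))) ↔
      s ∈ Ideal.span ({1 + C a₁ * X 1 - X 0 * X 1 ^ 3 - C a₂ * X 1 ^ 2} : Set (MvPolynomial (Fin 2) R))) ∧
    (∀ s : MvPolynomial (Fin 2) R,
      (∃ n : ℕ, X 0 ^ n * s ∈ Ideal.span ({X 0 ^ 2 * (X 1 ^ 2 + C a₁ * X 1 - X 0 - C a₂)} :
        Set (MvPolynomial (Fin 2) R))) ↔
      s ∈ Ideal.span ({X 1 ^ 2 + C a₁ * X 1 - X 0 - C a₂} : Set (MvPolynomial (Fin 2) R))) := by
  constructor
  · intro s
    apply sat
    apply isLeftRegular_of_coeff_zero_eq_one
    simp only [E', map_sub, map_add, map_mul, map_one, map_pow, MvPolynomial.aeval_X,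
      MvPolynomial.aeval_C, Matrix.cons_val_zero, Matrix.cons_val_one]
    simp [Polynomial.coeff_zero_eq_eval_zero]
  · intro s
    apply sat
    have hm : (Polynomial.X ^ 2 + Polynomial.C a₁ * Polynomial.X - Polynomial.C a₂ :
        Polynomial R).Monic := by
      have h1 : (Polynomial.X ^ 2 + Polynomial.C a₁ * Polynomial.X - Polynomial.C a₂ :
          Polynomial R) = Polynomial.X ^ 2 + (Polynomial.C a₁ * Polynomial.X + Polynomial.C (-a₂)) := by
        rw [Polynomial.C_neg]; ring
      rw [h1]
      exact Polynomial.monic_X_pow_add (lt_of_le_of_lt Polynomial.degree_linear_le (by norm_num))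
    have hc : ((E' R) (X 1 ^ 2 + C a₁ * X 1 - X 0 - C a₂)).coeff 0 =
        Polynomial.X ^ 2 + Polynomial.C a₁ * Polynomial.X - Polynomial.C a₂ := by
      simp only [E', map_sub, map_add, map_mul, map_one, map_pow, MvPolynomial.aeval_X,
        MvPolynomial.aeval_C, Matrix.cons_val_zero, Matrix.cons_val_one]
      simp [Polynomial.coeff_zero_eq_eval_zero]
    rw [hc]
    exact hm.isRegular.left

end Groth.Agent.S19181
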