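import Groth.Statements.S19182
import Mathlib

set_option autoImplicit false
universe u
open CAlg

namespace Groth.Agent.S19182

section chart2

variable (R : Type u) [CommRing R] (a₁ a₂ : R)

/-- the second chart's equation. -/
noncomputable def g₂ : MvPolynomial (Fin 2) R :=
  MvPolynomial.X 1 ^ 2 + MvPolynomial.C a₁ * MvPolynomial.X 1 - MvPolynomial.X 0 - MvPolynomial.C a₂

noncomputable def φ₂ : MvPolynomial (Fin 2) R →ₐ[R] Polynomial R :=
  MvPolynomial.aeval ![Polynomial.X ^ 2 + Polynomial.C a₁ * Polynomial.X - Polynomial.C a₂,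
    Polynomial.X]

theorem φ₂_g₂ : φ₂ R a₁ a₂ (g₂ R a₁ a₂) = 0 := by
  simp [φ₂, g₂, Polynomial.algebraMap_eq]

noncomputable def φ₂bar :
    (MvPolynomial (Fin 2) R ⧸ Ideal.span ({g₂ R a₁ a₂} : Set (MvPolynomial (Fin 2) R))) →ₐ[R]
      Polynomial R :=
  Ideal.Quotient.liftₐ _ (φ₂ R a₁ a₂) (by
    intro a ha
    obtain ⟨t, rfl⟩ := Ideal.mem_span_singleton.1 ha
    rw [map_mul, φ₂_g₂, zero_mul])

noncomputable def ψ₂ : Polynomial R →ₐ[R]
    (MvPolynomial (Fin 2) R ⧸ Ideal.span ({g₂ R a₁ a₂} : Set (MvPolynomial (Fin 2) R))) :=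
  Polynomial.aeval (Ideal.Quotient.mk _ (MvPolynomial.X 1))

theorem mk_g₂ :
    (Ideal.Quotient.mk (Ideal.span ({g₂ R a₁ a₂} : Set (MvPolynomial (Fin 2) R)))
        (MvPolynomial.X 1)) ^ 2 +
      algebraMap R (MvPolynomial (Fin 2) R ⧸ Ideal.span ({g₂ R a₁ a₂} : Set _)) a₁ *
        Ideal.Quotient.mk _ (MvPolynomial.X 1) -
      algebraMap R (MvPolynomial (Fin 2) R ⧸ Ideal.span ({g₂ R a₁ a₂} : Set _)) a₂ =
    Ideal.Quotient.mk _ (MvPolynomial.X 0) := by
  have h : (Ideal.Quotient.mk (Ideal.span ({g₂ R a₁ a₂} : Set (MvPolynomial (Fin 2) R))))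
      (MvPolynomial.X 1 ^ 2 + MvPolynomial.C a₁ * MvPolynomial.X 1 - MvPolynomial.X 0 -
        MvPolynomial.C a₂) = 0 :=
    Ideal.Quotient.eq_zero_iff_mem.2 (Ideal.subset_span rfl)
  rw [map_sub, map_sub, map_add, map_mul, map_pow] at h
  have hC : ∀ a : R, Ideal.Quotient.mk (Ideal.span ({g₂ R a₁ a₂} : Set (MvPolynomial (Fin 2) R)))
      (MvPolynomial.C a) = algebraMap R _ a := fun a => rfl
  rw [hC, hC] at h
  linear_combination h

noncomputable def equiv₂ :
    (MvPolynomial (Fin 2) R ⧸ Ideal.span ({g₂ R a₁ a₂} : Set (MvPolynomial (Fin 2) R))) ≃ₐ[R]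
      Polynomial R :=
  AlgEquiv.ofAlgHom (φ₂bar R a₁ a₂) (ψ₂ R a₁ a₂)
    (by
      apply Polynomial.algHom_ext
      simp [φ₂bar, ψ₂, φ₂])
    (by
      apply Ideal.Quotient.algHom_ext
      apply MvPolynomial.algHom_ext
      intro i
      fin_cases i
      · simp only [φ₂bar, ψ₂, φ₂, AlgHom.comp_apply, Ideal.Quotient.mkₐ_eq_mk,
          Ideal.Quotient.liftₐ_apply, Ideal.Quotient.lift_mk, AlgHom.coe_toRingHom,
          MvPolynomial.aeval_X, AlgHom.id_apply, Fin.zero_eta, Matrix.cons_val_zero]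
        simp only [map_sub, map_add, map_mul, map_pow, Polynomial.aeval_X, Polynomial.aeval_C]
        exact mk_g₂ R a₁ a₂
      · simp [φ₂bar, ψ₂, φ₂])

end chart2

section chart1

variable (R : Type u) [CommRing R] (a₁ a₂ : R)

/-- the first chart's equation. -/
noncomputable def g₁ : MvPolynomial (Fin 2) R :=
  1 + MvPolynomial.C a₁ * MvPolynomial.X 1 - MvPolynomial.X 0 * MvPolynomial.X 1 ^ 3 -
    MvPolynomial.C a₂ * MvPolynomial.X 1 ^ 2

/-- Laurent polynomials. -/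
abbrev L := Localization.Away (Polynomial.X : Polynomial R)

noncomputable def xL : L R := algebraMap (Polynomial R) (L R) Polynomial.X

noncomputable def uL : L R := IsLocalization.Away.invSelf (Polynomial.X : Polynomial R)

theorem xL_mul_uL : xL R * uL R = 1 := IsLocalization.Away.mul_invSelf _

noncomputable def φ₁ : MvPolynomial (Fin 2) R →ₐ[R] L R :=
  MvPolynomial.aeval ![(1 + algebraMap R (L R) a₁ * xL R - algebraMap R (L R) a₂ * xL R ^ 2) *
    uL R ^ 3, xL R]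

theorem φ₁_g₁ : φ₁ R a₁ a₂ (g₁ R a₁ a₂) = 0 := by
  simp only [φ₁, g₁, map_sub, map_add, map_mul, map_one, map_pow, MvPolynomial.aeval_X,
    MvPolynomial.aeval_C, Matrix.cons_val_zero, Matrix.cons_val_one]
  have h := xL_mul_uL R
  linear_combination (-(1 + algebraMap R (L R) a₁ * xL R - algebraMap R (L R) a₂ * xL R ^ 2) *
    (1 + xL R * uL R + (xL R * uL R) ^ 2)) * h

noncomputable def φ₁bar :
    (MvPolynomial (Fin 2) R ⧸ Ideal.span ({g₁ R a₁ a₂} : Set (MvPolynomial (Fin 2) R))) →ₐ[R]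
      L R :=
  Ideal.Quotient.liftₐ _ (φ₁ R a₁ a₂) (by
    intro a ha
    obtain ⟨t, rfl⟩ := Ideal.mem_span_singleton.1 ha
    rw [map_mul, φ₁_g₁, zero_mul])

noncomputable def αbar :
    MvPolynomial (Fin 2) R ⧸ Ideal.span ({g₁ R a₁ a₂} : Set (MvPolynomial (Fin 2) R)) :=
  Ideal.Quotient.mk _ (MvPolynomial.X 1)

noncomputable def ybar :
    MvPolynomial (Fin 2) R ⧸ Ideal.span ({g₁ R a₁ a₂} : Set (MvPolynomial (Fin 2) R)) :=
  Ideal.Quotient.mk _ (MvPolynomial.X 0)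

noncomputable def ubar :
    MvPolynomial (Fin 2) R ⧸ Ideal.span ({g₁ R a₁ a₂} : Set (MvPolynomial (Fin 2) R)) :=
  ybar R a₁ a₂ * αbar R a₁ a₂ ^ 2 + algebraMap R _ a₂ * αbar R a₁ a₂ - algebraMap R _ a₁

/-- the relation `g₁ = 0` in the quotient. -/
theorem rel₁ : 1 + algebraMap R _ a₁ * αbar R a₁ a₂ - ybar R a₁ a₂ * αbar R a₁ a₂ ^ 3 -
    algebraMap R _ a₂ * αbar R a₁ a₂ ^ 2 = 0 := by
  have h : (Ideal.Quotient.mk (Ideal.span ({g₁ R a₁ a₂} : Set (MvPolynomial (Fin 2) R))))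
      (1 + MvPolynomial.C a₁ * MvPolynomial.X 1 - MvPolynomial.X 0 * MvPolynomial.X 1 ^ 3 -
        MvPolynomial.C a₂ * MvPolynomial.X 1 ^ 2) = 0 :=
    Ideal.Quotient.eq_zero_iff_mem.2 (Ideal.subset_span rfl)
  rw [map_sub, map_sub, map_add, map_mul, map_mul, map_mul, map_pow, map_pow, map_one] at h
  exact h

theorem αbar_mul_ubar : αbar R a₁ a₂ * ubar R a₁ a₂ = 1 := by
  have h := rel₁ R a₁ a₂
  unfold ubar
  linear_combination (-1 : MvPolynomial (Fin 2) R ⧸ Ideal.span ({g₁ R a₁ a₂} : Set (MvPolynomial (Fin 2) R))) * h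

noncomputable def ψ₁ : L R →ₐ[R]
    (MvPolynomial (Fin 2) R ⧸ Ideal.span ({g₁ R a₁ a₂} : Set (MvPolynomial (Fin 2) R))) :=
  IsLocalization.liftAlgHom (M := Submonoid.powers (Polynomial.X : Polynomial R))
    (f := (Polynomial.aeval (αbar R a₁ a₂) : Polynomial R →ₐ[R] _)) (by
      rintro ⟨_, n, rfl⟩
      simp only [map_pow, Polynomial.aeval_X]
      exact (IsUnit.of_mul_eq_one _ (αbar_mul_ubar R a₁ a₂)).pow n)

theorem ψ₁_alg (q : Polynomial R) :
    ψ₁ R a₁ a₂ (algebraMap (Polynomial R) (L R) q) = Polynomial.aeval (αbar R a₁ a₂) q := by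
  simp [ψ₁]

theorem ψ₁_xL : ψ₁ R a₁ a₂ (xL R) = αbar R a₁ a₂ := by
  rw [xL, ψ₁_alg, Polynomial.aeval_X]

theorem ψ₁_uL : ψ₁ R a₁ a₂ (uL R) = ubar R a₁ a₂ := by
  have h1 : αbar R a₁ a₂ * ψ₁ R a₁ a₂ (uL R) = 1 := by
    rw [← ψ₁_xL, ← map_mul, xL_mul_uL, map_one]
  have h2 := αbar_mul_ubar R a₁ a₂
  calc ψ₁ R a₁ a₂ (uL R) = ψ₁ R a₁ a₂ (uL R) * (αbar R a₁ a₂ * ubar R a₁ a₂) := by
        rw [h2, mul_one]
    _ = (αbar R a₁ a₂ * ψ₁ R a₁ a₂ (uL R)) * ubar R a₁ a₂ := by ring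
    _ = ubar R a₁ a₂ := by rw [h1, one_mul]

noncomputable def equiv₁ :
    (MvPolynomial (Fin 2) R ⧸ Ideal.span ({g₁ R a₁ a₂} : Set (MvPolynomial (Fin 2) R))) ≃ₐ[R]
      L R :=
  AlgEquiv.ofAlgHom (φ₁bar R a₁ a₂) (ψ₁ R a₁ a₂)
    (by
      apply IsLocalization.algHom_ext (Submonoid.powers (Polynomial.X : Polynomial R))
      apply Polynomial.algHom_ext
      simp only [AlgHom.comp_apply, AlgHom.id_apply]
      show (φ₁bar R a₁ a₂) ((ψ₁ R a₁ a₂) (algebraMap (Polynomial R) (L R) Polynomial.X)) =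
        algebraMap (Polynomial R) (L R) Polynomial.X
      rw [ψ₁_alg, Polynomial.aeval_X]
      simp [φ₁bar, αbar, φ₁, xL])
    (by
      apply Ideal.Quotient.algHom_ext
      apply MvPolynomial.algHom_ext
      intro i
      fin_cases i
      · simp only [φ₁bar, φ₁, AlgHom.comp_apply, Ideal.Quotient.mkₐ_eq_mk,
          Ideal.Quotient.liftₐ_apply, Ideal.Quotient.lift_mk, AlgHom.coe_toRingHom,
          MvPolynomial.aeval_X, AlgHom.id_apply, Fin.zero_eta, Matrix.cons_val_zero]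
        simp only [map_sub, map_add, map_mul, map_pow, map_one, ψ₁_xL, ψ₁_uL, AlgHom.commutes]
        have h := rel₁ R a₁ a₂
        have h2 := αbar_mul_ubar R a₁ a₂
        show _ = ybar R a₁ a₂
        have h3 : (αbar R a₁ a₂ * ubar R a₁ a₂) ^ 3 = 1 := by rw [h2, one_pow]
        linear_combination (ubar R a₁ a₂ ^ 3) * h + (ybar R a₁ a₂) * h3
      · simp only [φ₁bar, φ₁, AlgHom.comp_apply, Ideal.Quotient.mkₐ_eq_mk,
          Ideal.Quotient.liftₐ_apply, Ideal.Quotient.lift_mk, AlgHom.coe_toRingHom,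
          MvPolynomial.aeval_X, AlgHom.id_apply, Fin.mk_one, Matrix.cons_val_one,
          Matrix.cons_val_zero]
        exact ψ₁_xL R a₁ a₂)

end chart1


open MvPolynomial in
/-- Let R be a commutative ring and a₁, a₂ ∈ R. The two affine charts of the blow-up of the plane curve
y² + a₁xy = x³ + a₂x² at the section x = y = 0, with coordinate rings R[y, α]/(1 + a₁α − yα³ − a₂α²)
and R[x, β]/(β² + a₁β − x − a₂) (variables indexed 0 and 1 in this order), are smooth R-algebras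
(formally smooth of finite presentation). This is the local computation behind the statement that
the blow-up of a Weierstrass curve along a section through its singular locus is a smooth proper
curve of genus 0. -/
theorem result (R : Type u) [CommRing R] (a₁ a₂ : R) :
    Algebra.Smooth R (MvPolynomial (Fin 2) R ⧸
      Ideal.span ({1 + C a₁ * X 1 - X 0 * X 1 ^ 3 - C a₂ * X 1 ^ 2} : Set (MvPolynomial (Fin 2) R))) ∧
    Algebra.Smooth R (MvPolynomial (Fin 2) R ⧸
      Ideal.span ({X 1 ^ 2 + C a₁ * X 1 - X 0 - C a₂} : Set (MvPolynomial (Fin 2) R))) := by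
  constructor
  · have : Algebra.FormallySmooth R (L R) := Algebra.FormallySmooth.comp R (Polynomial R) (L R)
    have : Algebra.FinitePresentation R (L R) :=
      Algebra.FinitePresentation.trans R (Polynomial R) (L R)
    have : Algebra.Smooth R (L R) := {}
    exact Algebra.Smooth.of_equiv (equiv₁ R a₁ a₂).symm
  · have : Algebra.Smooth R (Polynomial R) := {}
    exact Algebra.Smooth.of_equiv (equiv₂ R a₁ a₂).symm

end Groth.Agent.S19182
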