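import Groth.Statements.S19183
import Mathlib

set_option autoImplicit false
universe u
open CAlg

namespace Groth.Agent.S19183

/-- Let A be a non-zero commutative ring and f ∈ A a non-zero-divisor. The fibre product A ×_{A/(f)} A
of two copies of A over A/(f) — the A-submodule of A × A of pairs (x, y) with x − y ∈ (f), which is
the coordinate ring of two copies of Spec A glued along the Cartier divisor f = 0 — is a free
A-module of rank 2. (This is what makes the gluing of two copies of a curve along an effective
Cartier divisor finite locally free of degree 2 over the curve.) -/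
theorem result (A : Type u) [CommRing A] [Nontrivial A]
    (f : A) (hf : f ∈ nonZeroDivisors A) :
    Module.Free A (Submodule.comap (LinearMap.fst A A A - LinearMap.snd A A A) (Ideal.span ({f} : Set A))) ∧
      Module.finrank A (Submodule.comap (LinearMap.fst A A A - LinearMap.snd A A A) (Ideal.span ({f} : Set A))) = 2 := by
  set P := Submodule.comap (LinearMap.fst A A A - LinearMap.snd A A A) (Ideal.span ({f} : Set A))
    with hP
  have hmem : ∀ z : A × A, z ∈ P ↔ ∃ c : A, c * f = z.1 - z.2 := by
    intro z
    rw [hP, Submodule.mem_comap]
    simp only [LinearMap.sub_apply, LinearMap.fst_apply, LinearMap.snd_apply]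
    exact Ideal.mem_span_singleton'
  -- the linear map A × A → P
  let φ0 : A × A →ₗ[A] A × A :=
    { toFun := fun ac => (ac.1 + ac.2 * f, ac.1)
      map_add' := fun x y => by
        ext <;> simp <;> ring
      map_smul' := fun r x => by
        ext <;> simp <;> ring }
  have hφ0 : ∀ ac, φ0 ac ∈ P := fun ac => by
    rw [hmem]
    exact ⟨ac.2, by simp [φ0]⟩
  let φ : A × A →ₗ[A] P := φ0.codRestrict P hφ0
  have hbij : Function.Bijective φ := by
    constructor
    · intro x y hxy
      have h1 := congrArg (fun z : P => (z : A × A)) hxy
      simp only [φ, LinearMap.codRestrict_apply, φ0, LinearMap.coe_mk, AddHom.coe_mk,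
        Prod.mk.injEq] at h1
      obtain ⟨h1, h2⟩ := h1
      have h3 : x.2 * f = y.2 * f := by
        rw [h2] at h1
        exact add_left_cancel h1
      have h4 : x.2 = y.2 := by
        have : (x.2 - y.2) * f = 0 := by rw [sub_mul, h3, sub_self]
        have := (mul_right_mem_nonZeroDivisors_eq_zero_iff hf).mp this
        exact sub_eq_zero.mp this
      exact Prod.ext h2 h4
    · rintro ⟨z, hz⟩
      obtain ⟨c, hc⟩ := (hmem z).mp hz
      refine ⟨(z.2, c), ?_⟩
      apply Subtype.ext
      simp only [φ, LinearMap.codRestrict_apply, φ0, LinearMap.coe_mk, AddHom.coe_mk]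
      ext
      · simp [hc]
      · rfl
  let e : (A × A) ≃ₗ[A] P := LinearEquiv.ofBijective φ hbij
  refine ⟨Module.Free.of_equiv e, ?_⟩
  rw [← e.finrank_eq, Module.finrank_prod, Module.finrank_self]

end Groth.Agent.S19183
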