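import Groth.Statements.S19184
import Mathlib

set_option autoImplicit false
universe u
open CAlg

namespace Groth.Agent.S19184

open Polynomial in
/-- Let S be a commutative ring, a, b ∈ S, f = x² + ax + b ∈ S[x] and R = S[x]/(f), a free S-algebra of
rank 2. Let A ⊂ S[x] be the S-subalgebra of polynomials whose class in R lies in the image of S → R;
it is the fibre product S[x] ×_R S, the coordinate ring of the affine line over S with the degree-2
subscheme Spec R collapsed onto Spec S. Then A is a free S-module and S[x] is a finitely generated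
A-module. -/
theorem result (S : Type u) [CommRing S] (a b : S) :
    Module.Free S ((⊥ : Subalgebra S (S[X] ⧸ Ideal.span ({X ^ 2 + C a * X + C b} : Set S[X]))).comap
        (Ideal.Quotient.mkₐ S (Ideal.span ({X ^ 2 + C a * X + C b} : Set S[X])))) ∧
      Module.Finite ((⊥ : Subalgebra S (S[X] ⧸ Ideal.span ({X ^ 2 + C a * X + C b} : Set S[X]))).comap
        (Ideal.Quotient.mkₐ S (Ideal.span ({X ^ 2 + C a * X + C b} : Set S[X])))) S[X] := by
  classical
  have hmonic : (X ^ 2 + C a * X + C b : S[X]).Monic := by
    rw [add_assoc]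
    exact monic_X_pow_add (lt_of_le_of_lt degree_linear_le (by norm_num))
  generalize hf : (X ^ 2 + C a * X + C b : S[X]) = f at hmonic ⊢
  have hmem : ∀ g : S[X], g ∈ (⊥ : Subalgebra S (S[X] ⧸ Ideal.span ({f} : Set S[X]))).comap
        (Ideal.Quotient.mkₐ S (Ideal.span ({f} : Set S[X]))) ↔
      ∃ s : S, ∃ h : S[X], g = C s + f * h := by
    intro g
    rw [Subalgebra.mem_comap, Algebra.mem_bot]
    constructor
    · rintro ⟨s, hs⟩
      have h1 : Ideal.Quotient.mk (Ideal.span ({f} : Set S[X])) (C s) =
          Ideal.Quotient.mk (Ideal.span ({f} : Set S[X])) g := hs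
      rw [Ideal.Quotient.eq, Ideal.mem_span_singleton] at h1
      obtain ⟨h, hh⟩ := h1
      exact ⟨s, -h, by linear_combination (-1 : S[X]) * hh⟩
    · rintro ⟨s, h, rfl⟩
      refine ⟨s, ?_⟩
      show Ideal.Quotient.mk (Ideal.span ({f} : Set S[X])) (C s) =
          Ideal.Quotient.mk (Ideal.span ({f} : Set S[X])) (C s + f * h)
      rw [Ideal.Quotient.eq, Ideal.mem_span_singleton]
      exact ⟨-h, by ring⟩
  constructor
  · rcases subsingleton_or_nontrivial S with hS | hS
    · exact Module.Free.of_subsingleton' S _
    · let φ : S × S[X] →ₗ[S] S[X] := (Algebra.linearMap S S[X]).coprod (LinearMap.mulLeft S f)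
      have hφ : ∀ s h, φ (s, h) = C s + f * h := by
        intro s h
        simp [φ]
      have hinj : Function.Injective φ := by
        rw [← LinearMap.ker_eq_bot, LinearMap.ker_eq_bot']
        rintro ⟨s, h⟩ h0
        rw [hφ] at h0
        have hdeg : degree (C s) < degree f := by
          have : degree f = 2 := by
            rw [← hf, add_assoc, degree_add_eq_left_of_degree_lt, degree_X_pow]
            · rfl
            · rw [degree_X_pow]
              exact lt_of_le_of_lt degree_linear_le (by norm_num)
          rw [this]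
          exact lt_of_le_of_lt degree_C_le (by norm_num)
        have := div_modByMonic_unique h (C s) hmonic ⟨h0, hdeg⟩
        rw [zero_divByMonic, zero_modByMonic] at this
        have hs : s = 0 := C_injective (by rw [← this.2, C_0])
        rw [← this.1, hs]
        rfl
      have hrange : LinearMap.range φ = Subalgebra.toSubmodule
          ((⊥ : Subalgebra S (S[X] ⧸ Ideal.span ({f} : Set S[X]))).comap
            (Ideal.Quotient.mkₐ S (Ideal.span ({f} : Set S[X])))) := by
        ext g
        rw [Subalgebra.mem_toSubmodule, hmem]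
        constructor
        · rintro ⟨⟨s, h⟩, rfl⟩
          exact ⟨s, h, hφ s h⟩
        · rintro ⟨s, h, rfl⟩
          exact ⟨(s, h), hφ s h⟩
      exact Module.Free.of_equiv (((LinearEquiv.ofInjective φ hinj).trans
        (LinearEquiv.ofEq _ _ hrange)).trans (Subalgebra.toSubmoduleEquiv _))
  · refine ⟨⟨{1, X}, eq_top_iff.2 fun g _ => ?_⟩⟩
    rw [Finset.coe_insert, Finset.coe_singleton, Submodule.mem_span_pair]
    have hdeg : degree (g %ₘ f) ≤ 1 := by
      rcases subsingleton_or_nontrivial S with hS | hS
      · rw [Subsingleton.elim (g %ₘ f) 0, degree_zero]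
        exact bot_le
      · have h2 : degree f = 2 := by
          rw [← hf, add_assoc, degree_add_eq_left_of_degree_lt, degree_X_pow]
          · rfl
          · rw [degree_X_pow]
            exact lt_of_le_of_lt degree_linear_le (by norm_num)
        have := degree_modByMonic_lt g hmonic
        rw [h2] at this
        rw [degree_le_iff_coeff_zero]
        intro m hm
        refine coeff_eq_zero_of_degree_lt (lt_of_lt_of_le this ?_)
        have hm' : 1 < m := by exact_mod_cast hm
        exact_mod_cast hm'
    have hr := eq_X_add_C_of_degree_le_one hdeg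
    have hg := modByMonic_add_div g f
    refine ⟨⟨f * (g /ₘ f) + C ((g %ₘ f).coeff 0), (hmem _).2 ⟨(g %ₘ f).coeff 0, g /ₘ f, by ring⟩⟩,
      ⟨C ((g %ₘ f).coeff 1), (hmem _).2 ⟨(g %ₘ f).coeff 1, 0, by ring⟩⟩, ?_⟩
    rw [Subalgebra.smul_def, Subalgebra.smul_def]
    simp only [smul_eq_mul, mul_one]
    conv_rhs => rw [← hg, hr]
    ring

end Groth.Agent.S19184
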