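import Groth.Statements.S19186
import Mathlib

set_option autoImplicit false
universe u
open OneMot

namespace Groth.Agent.S19186

/-- Let p and ℓ be distinct prime numbers, r and n natural numbers, and f : A → B a homomorphism of
abelian groups whose kernel and cokernel are annihilated by p^r (f a = 0 implies p^r • a = 0, and
every p^r • b lies in the image of f). Then f induces a bijection between the ℓ^n-torsion subgroups
of A and B and a bijection A/ℓ^n A → B/ℓ^n B. Spelled out without quotients: every ℓ^n-torsion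
element of B has exactly one ℓ^n-torsion preimage; an element of A whose image is an ℓ^n-multiple is
itself an ℓ^n-multiple; and every element of B is the sum of an image and an ℓ^n-multiple. -/
theorem result {A B : Type u} [AddCommGroup A] [AddCommGroup B] (f : A →+ B) (p ℓ r n : ℕ) (hp : p.Prime) (hl : ℓ.Prime) (hne : ℓ ≠ p) (hker : ∀ a : A, f a = 0 → p ^ r • a = 0) (hcoker : ∀ b : B, ∃ a : A, f a = p ^ r • b) : (∀ b : B, ℓ ^ n • b = 0 → ∃! a : A, ℓ ^ n • a = 0 ∧ f a = b) ∧ (∀ a : A, (∃ b' : B, f a = ℓ ^ n • b') → ∃ a' : A, a = ℓ ^ n • a') ∧ (∀ b : B, ∃ (a : A) (b' : B), b = f a + ℓ ^ n • b') := by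
  have hcop : Nat.Coprime p ℓ := (Nat.coprime_primes hp hl).mpr (Ne.symm hne)
  have hcop1 : IsCoprime ((p ^ r : ℕ) : ℤ) ((ℓ ^ n : ℕ) : ℤ) :=
    Nat.isCoprime_iff_coprime.mpr (Nat.Coprime.pow r n hcop)
  have hcop2 : IsCoprime (((p ^ r) * (p ^ r) : ℕ) : ℤ) ((ℓ ^ n : ℕ) : ℤ) := by
    push_cast
    exact IsCoprime.mul_left (by exact_mod_cast hcop1) (by exact_mod_cast hcop1)
  obtain ⟨u, v, huv⟩ := hcop1
  obtain ⟨u', v', huv'⟩ := hcop2
  -- convert nat smul to int smul
  have hker' : ∀ a : A, f a = 0 → ((p ^ r : ℕ) : ℤ) • a = 0 := fun a ha => by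
    rw [natCast_zsmul]; exact hker a ha
  have hcoker' : ∀ b : B, ∃ a : A, f a = ((p ^ r : ℕ) : ℤ) • b := fun b => by
    obtain ⟨a, ha⟩ := hcoker b
    exact ⟨a, by rw [natCast_zsmul]; exact ha⟩
  set P : ℤ := ((p ^ r : ℕ) : ℤ) with hP
  set L : ℤ := ((ℓ ^ n : ℕ) : ℤ) with hL
  have hLsmulA : ∀ a : A, ℓ ^ n • a = L • a := fun a => by rw [hL, natCast_zsmul]
  have hLsmulB : ∀ b : B, ℓ ^ n • b = L • b := fun b => by rw [hL, natCast_zsmul]
  have oneA : ∀ a : A, a = (u * P) • a + (v * L) • a := fun a => by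
    rw [← add_smul, huv, one_smul]
  have oneB : ∀ b : B, b = (u * P) • b + (v * L) • b := fun b => by
    rw [← add_smul, huv, one_smul]
  refine ⟨?_, ?_, ?_⟩
  · intro b hb
    rw [hLsmulB] at hb
    obtain ⟨a0, ha0⟩ := hcoker' b
    have hb1 : b = (u * P) • b := by
      have := oneB b
      rw [mul_smul v L b, hb, smul_zero, add_zero] at this
      exact this
    -- a1 = u • a0, f a1 = b
    have hfa1 : f (u • a0) = b := by
      rw [map_zsmul, ha0, ← mul_smul]; exact hb1.symm
    refine ⟨(u * P) • (u • a0), ⟨?_, ?_⟩, ?_⟩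
    · rw [hLsmulA]
      have h0 : f (L • (u • a0)) = 0 := by rw [map_zsmul, hfa1, hb]
      have h1 := hker' _ h0
      rw [smul_comm, mul_smul, h1, smul_zero]
    · rw [map_zsmul, hfa1]; exact hb1.symm
    · rintro a' ⟨ha'L, ha'f⟩
      rw [hLsmulA] at ha'L
      set a := (u * P) • (u • a0) with ha
      have haL : L • a = 0 := by
        have h0 : f (L • (u • a0)) = 0 := by rw [map_zsmul, hfa1, hb]
        have h1 := hker' _ h0
        rw [ha, smul_comm, mul_smul, h1, smul_zero]
      have haf : f a = b := by rw [ha, map_zsmul, hfa1]; exact hb1.symm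
      have hd : f (a' - a) = 0 := by rw [map_sub, ha'f, haf, sub_self]
      have hPd := hker' _ hd
      have hLd : L • (a' - a) = 0 := by rw [smul_sub, ha'L, haL, sub_self]
      have := oneA (a' - a)
      rw [mul_smul, mul_smul, hPd, hLd, smul_zero, smul_zero, add_zero] at this
      exact sub_eq_zero.mp this
  · rintro a ⟨b', hb'⟩
    rw [hLsmulB] at hb'
    obtain ⟨a0, ha0⟩ := hcoker' b'
    have h0 : f (P • a - L • a0) = 0 := by
      rw [map_sub, map_zsmul, map_zsmul, hb', ha0, smul_comm, sub_self]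
    have h1 := hker' _ h0
    rw [smul_sub, sub_eq_zero] at h1
    refine ⟨u' • (P • a0) + v' • a, ?_⟩
    rw [hLsmulA]
    have hone : a = (u' * (P * P)) • a + (v' * L) • a := by
      have : u' * (P * P) + v' * L = 1 := by
        rw [← huv', hP]; push_cast; ring
      rw [← add_smul, this, one_smul]
    calc a = (u' * (P * P)) • a + (v' * L) • a := hone
      _ = u' • (P • (P • a)) + (v' * L) • a := by rw [mul_smul, mul_smul]
      _ = u' • (P • (L • a0)) + (v' * L) • a := by rw [h1]
      _ = L • (u' • (P • a0) + v' • a) := by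
        rw [smul_add, smul_comm P L a0, smul_comm u' L, mul_comm v' L, mul_smul]
  · intro b
    obtain ⟨a0, ha0⟩ := hcoker' b
    refine ⟨u • a0, v • b, ?_⟩
    rw [hLsmulB, map_zsmul, ha0, ← mul_smul, ← mul_smul, mul_comm L v]
    exact oneB b

end Groth.Agent.S19186
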