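import Groth.Statements.S19187
import Mathlib

set_option autoImplicit false
universe u
open Cpct

namespace Groth.Agent.S19187

open CategoryTheory AlgebraicGeometry in
/-- Let k be a field, X̄ and Ȳ schemes proper over Spec k, j : X → X̄ an open immersion with dense image
and v : Y → Ȳ an open immersion (compactifications of X and Y), f : X → Y a proper morphism and f̄ :
X̄ → Ȳ a morphism over Spec k with f̄ ∘ j = v ∘ f. Then the preimage under f̄ of the open v(Y) is
the open j(X); equivalently, the complement of X in X̄ is the preimage of the complement of Y in Ȳ.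
(The base field k is arbitrary: no perfectness assumption is needed.) -/
theorem result {k : Type u} [Field k] {X Y Xb Yb : Scheme.{u}} (a : Xb ⟶ Spec (CommRingCat.of k)) (b : Yb ⟶ Spec (CommRingCat.of k)) [IsProper a] [IsProper b] (j : X ⟶ Xb) [IsOpenImmersion j] (hj : Dense (Set.range j.base)) (v : Y ⟶ Yb) [IsOpenImmersion v] (f : X ⟶ Y) [IsProper f] (fb : Xb ⟶ Yb) (hfb : fb ≫ b = a) (hsq : j ≫ fb = f ≫ v) : fb ⁻¹ᵁ v.opensRange = j.opensRange := by
  -- `fb` is separated
  haveI : IsSeparated (fb ≫ b) := by rw [hfb]; infer_instance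
  haveI : IsSeparated fb := IsSeparated.of_comp fb b
  -- lift `j` through the open `U = fb ⁻¹ᵁ v.opensRange`
  have hrange : Set.range j.base ⊆ Set.range (fb ⁻¹ᵁ v.opensRange).ι.base := by
    rintro _ ⟨x, rfl⟩
    rw [Scheme.Opens.range_ι]
    show fb.base (j.base x) ∈ v.opensRange
    have : fb.base (j.base x) = v.base (f.base x) := by
      have := congrArg (fun g => g.base x) hsq
      simpa using this
    rw [this]
    exact ⟨_, rfl⟩
  let j' : X ⟶ (fb ⁻¹ᵁ v.opensRange).toScheme :=
    IsOpenImmersion.lift (fb ⁻¹ᵁ v.opensRange).ι j hrange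
  have hj' : j' ≫ (fb ⁻¹ᵁ v.opensRange).ι = j := IsOpenImmersion.lift_fac _ _ _
  have hcomp : j' ≫ (fb ∣_ v.opensRange) = f ≫ v.isoOpensRange.hom := by
    rw [← cancel_mono v.opensRange.ι, Category.assoc, morphismRestrict_ι, ← Category.assoc, hj',
      Category.assoc, Scheme.Hom.isoOpensRange_hom_ι, hsq]
  haveI : IsProper (j' ≫ (fb ∣_ v.opensRange)) := by rw [hcomp]; infer_instance
  haveI : IsProper j' := IsProper.of_comp j' (fb ∣_ v.opensRange)
  have hclosed : IsClosed (Set.range j'.base) := j'.isClosedMap.isClosed_range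
  have hdense : Dense (Set.range j'.base) := by
    have h1 : Dense ((fb ⁻¹ᵁ v.opensRange).ι.base ⁻¹' Set.range j.base) :=
      hj.preimage (fb ⁻¹ᵁ v.opensRange).ι.isOpenEmbedding.isOpenMap
    have h2 : (fb ⁻¹ᵁ v.opensRange).ι.base ⁻¹' Set.range j.base = Set.range j'.base := by
      ext y
      constructor
      · rintro ⟨x, hx⟩
        refine ⟨x, ?_⟩
        apply (fb ⁻¹ᵁ v.opensRange).ι.isOpenEmbedding.injective
        rw [← hx, ← hj']
        rfl
      · rintro ⟨x, rfl⟩
        refine ⟨x, ?_⟩
        rw [← hj']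
        rfl
    rwa [h2] at h1
  have huniv : Set.range j'.base = Set.univ := hclosed.closure_eq ▸ hdense.closure_eq
  apply le_antisymm
  · intro y hy
    have : (⟨y, hy⟩ : (fb ⁻¹ᵁ v.opensRange)) ∈ Set.range j'.base := by
      rw [huniv]; trivial
    obtain ⟨x, hx⟩ := this
    refine ⟨x, ?_⟩
    have := congrArg (fun z => (fb ⁻¹ᵁ v.opensRange).ι.base z) hx
    simp only at this
    rw [← hj']
    exact this
  · rintro _ ⟨x, rfl⟩
    have := hrange ⟨x, rfl⟩
    rw [Scheme.Opens.range_ι] at this
    exact this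

end Groth.Agent.S19187
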