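import Groth.Statements.S19190
import Mathlib
-- import your own Groth.Agent.* helpers here

set_option autoImplicit false
universe w v u v' u'
open CategoryTheory CategoryTheory.Limits CategoryTheory.Pretriangulated CategoryTheory.Triangulated
open CohDer

namespace Groth.Agent.S19190


section helpers
set_option linter.unusedSectionVars false
open ZeroObject

variable {A : Type w} [CommRing A] (S : Submonoid A)
    {T : Type u} [Category.{v} T] [Preadditive T] [Linear A T]

lemma smul_id_comp {X Y : T} (s : A) (f : X ⟶ Y) : (s • 𝟙 X) ≫ f = s • f := by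
  rw [Linear.smul_comp, Category.id_comp]

lemma comp_smul_id {X Y : T} (s : A) (f : X ⟶ Y) : f ≫ (s • 𝟙 Y) = s • f := by
  rw [Linear.comp_smul, Category.comp_id]

/-- objects killed by an element of `S` -/
def torsP : ObjectProperty T := fun Z => ∃ s ∈ S, s • 𝟙 Z = 0

instance : (torsP S : ObjectProperty T).IsClosedUnderIsomorphisms where
  of_iso := by
    rintro Z Z' e ⟨s, hs, h⟩
    refine ⟨s, hs, ?_⟩
    have : s • 𝟙 Z' = e.inv ≫ (s • 𝟙 Z) ≫ e.hom := by
      rw [smul_id_comp, Linear.comp_smul, e.inv_hom_id]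
    rw [this, h, zero_comp, comp_zero]

instance : (torsP S : ObjectProperty T).IsStableUnderRetracts where
  of_retract := by
    rintro X Y r ⟨s, hs, h⟩
    refine ⟨s, hs, ?_⟩
    have : s • 𝟙 X = r.i ≫ (s • 𝟙 Y) ≫ r.r := by
      rw [smul_id_comp, Linear.comp_smul, r.retract]
    rw [this, h, zero_comp, comp_zero]

variable [HasZeroObject T] [HasShift T ℤ]
    [∀ n : ℤ, (shiftFunctor T n).Additive] [∀ n : ℤ, (shiftFunctor T n).Linear A]
    [Pretriangulated T]

instance : (torsP S : ObjectProperty T).IsTriangulated where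
  exists_zero := ⟨0, isZero_zero T, 1, S.one_mem, (isZero_zero T).eq_of_src _ _⟩
  isStableUnderShiftBy n :=
    { le_shift := by
        rintro Z ⟨s, hs, h⟩
        refine ⟨s, hs, ?_⟩
        have : s • 𝟙 (Z⟦n⟧) = (s • 𝟙 Z)⟦n⟧' := by
          rw [Functor.map_smul, CategoryTheory.Functor.map_id]
        rw [this, h, Functor.map_zero] }
  ext₂' := by
    intro Tr hTr ⟨s₁, hs₁, h₁⟩ ⟨s₃, hs₃, h₃⟩
    refine ObjectProperty.le_isoClosure _ _ ⟨s₁ * s₃, S.mul_mem hs₁ hs₃, ?_⟩
    have e1 : (s₃ • 𝟙 Tr.obj₂) ≫ Tr.mor₂ = 0 := by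
      rw [smul_id_comp, ← comp_smul_id, h₃, comp_zero]
    obtain ⟨u, hu⟩ := Triangle.coyoneda_exact₂ _ hTr _ e1
    have e2 : s₁ • u = u ≫ (s₁ • 𝟙 Tr.obj₁) := (comp_smul_id s₁ u).symm
    rw [mul_smul, hu, ← Linear.smul_comp, e2, h₁, comp_zero, zero_comp]

end helpers

/-- Let `A` be a commutative ring, `S` a multiplicative subset of `A` and `T` an `A`-linear triangulated
category (octahedron axiom included; the shift functors are `A`-linear). Call an object of `T`
`S`-torsion when it lies in the smallest thick subcategory `U` of `T` (a property of objects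
containing zero, stable under shifts, extensions, isomorphisms and direct factors) containing every
cone of an endomorphism `f • 𝟙 X` with `f ∈ S`. Let `Q : T ⥤ E` exhibit `E` as the localization of
`T` at the morphisms whose cone lies in `U` (the Verdier quotient `T/U`), where `E` is preadditive
and `A`-linear and `Q` is `A`-linear. Then for all objects `X`, `Y` of `T` the `A`-linear map
`Hom_T(X, Y) → Hom_E(Q X, Q Y)` given by `Q` exhibits its target as the localization of `Hom_T(X,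
Y)` at `S`. Since `Q` is essentially surjective, this says that the comparison functor from `T/U` to
the category having the objects of `T` and morphism modules `Hom_T(X, Y) ⊗_A S⁻¹A` is an
equivalence. -/
theorem result
    {A : Type w} [CommRing A] (S : Submonoid A)
    {T : Type u} [Category.{v} T] [Preadditive T] [Linear A T] [HasZeroObject T] [HasShift T ℤ]
    [∀ n : ℤ, (shiftFunctor T n).Additive] [∀ n : ℤ, (shiftFunctor T n).Linear A]
    [Pretriangulated T] [IsTriangulated T]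
    (U : ObjectProperty T) [U.IsTriangulated] [U.IsClosedUnderIsomorphisms] [U.IsStableUnderRetracts]
    (hU : ∀ (X : T) (f : A), f ∈ S → ∀ (Z : T) (g : X ⟶ Z) (h : Z ⟶ X⟦(1 : ℤ)⟧),
      Triangle.mk (f • 𝟙 X) g h ∈ distTriang T → U Z)
    (hmin : ∀ (U' : ObjectProperty T) [U'.IsTriangulated] [U'.IsClosedUnderIsomorphisms]
      [U'.IsStableUnderRetracts],
      (∀ (X : T) (f : A), f ∈ S → ∀ (Z : T) (g : X ⟶ Z) (h : Z ⟶ X⟦(1 : ℤ)⟧),
        Triangle.mk (f • 𝟙 X) g h ∈ distTriang T → U' Z) → U ≤ U')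
    {E : Type u'} [Category.{v'} E] [Preadditive E] [Linear A E]
    (Q : T ⥤ E) [Q.Additive] [Q.Linear A] [Q.IsLocalization U.trW] (X Y : T) :
    IsLocalizedModule S (Q.mapLinearMap A : (X ⟶ Y) →ₗ[A] (Q.obj X ⟶ Q.obj Y)) := by
  -- objects of `U` are killed by an element of `S`
  have hkill : ∀ Z : T, U Z → ∃ s ∈ S, s • 𝟙 Z = 0 := by
    have := hmin (torsP S) (by
      intro X f hf Z g h hT
      refine ⟨f * f, S.mul_mem hf hf, ?_⟩
      have e0 : (f • 𝟙 X) ≫ g = 0 := comp_distTriang_mor_zero₁₂ _ hT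
      have e1 : g ≫ (f • 𝟙 Z) = 0 := by
        rw [comp_smul_id, ← smul_id_comp, e0]
      obtain ⟨w', hw⟩ : ∃ w' : X⟦(1 : ℤ)⟧ ⟶ Z, f • 𝟙 Z = h ≫ w' :=
        Triangle.yoneda_exact₃ _ hT (f • 𝟙 Z) e1
      have e2 : h ≫ (f • 𝟙 (X⟦(1 : ℤ)⟧)) = 0 := by
        have : f • 𝟙 (X⟦(1 : ℤ)⟧) = (f • 𝟙 X)⟦(1 : ℤ)⟧' := by
          rw [Functor.map_smul, CategoryTheory.Functor.map_id]
        rw [this]
        exact comp_distTriang_mor_zero₃₁ _ hT
      have e3 : f • h = h ≫ (f • 𝟙 (X⟦(1 : ℤ)⟧)) := (comp_smul_id f h).symm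
      rw [mul_smul, hw, ← Linear.smul_comp, e3, e2, zero_comp])
    exact fun Z hZ => this Z hZ
  have hQinv : ∀ (s : A) (_ : s ∈ S) (W : T), IsIso (Q.map (s • 𝟙 W)) := by
    intro s hs W
    obtain ⟨Z, g, h, hT⟩ := distinguished_cocone_triangle (s • 𝟙 W)
    exact Localization.inverts Q U.trW _ ⟨Z, g, h, hT, hU W s hs Z g h hT⟩
  have hQs : ∀ (s : A) (W : T), Q.map (s • 𝟙 W) = s • 𝟙 (Q.obj W) := by
    intro s W
    rw [Functor.map_smul, CategoryTheory.Functor.map_id]
  constructor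
  · -- multiplication by `s` is bijective on the target
    intro s
    rw [Module.End.isUnit_iff]
    have := hQinv s s.2 X
    constructor
    · intro y₁ y₂ h
      have h' : (s : A) • y₁ = (s : A) • y₂ := h
      have : Q.map ((s : A) • 𝟙 X) ≫ y₁ = Q.map ((s : A) • 𝟙 X) ≫ y₂ := by
        rw [hQs, smul_id_comp, smul_id_comp, h']
      exact (cancel_epi _).1 this
    · intro y
      refine ⟨inv (Q.map ((s : A) • 𝟙 X)) ≫ y, ?_⟩
      change (s : A) • (inv (Q.map ((s : A) • 𝟙 X)) ≫ y) = y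
      rw [← smul_id_comp, ← hQs, IsIso.hom_inv_id_assoc]
  · -- every morphism of the quotient is a fraction with denominator in `S`
    intro y
    obtain ⟨φ, hφ⟩ := Localization.exists_rightFraction Q U.trW y
    obtain ⟨Z, g, h, hT, hZ⟩ := φ.hs
    obtain ⟨s, hs, hsZ⟩ := hkill Z hZ
    have e1 : (s • 𝟙 X) ≫ g = 0 := by
      rw [smul_id_comp, ← comp_smul_id, hsZ, comp_zero]
    obtain ⟨r, hr⟩ : ∃ r : X ⟶ φ.X', s • 𝟙 X = r ≫ φ.s := Triangle.coyoneda_exact₂ _ hT _ e1
    refine ⟨(r ≫ φ.f, ⟨s, hs⟩), ?_⟩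
    change s • y = Q.map (r ≫ φ.f)
    rw [← smul_id_comp, ← hQs, hr, Functor.map_comp, Category.assoc, hφ,
      MorphismProperty.RightFraction.map_s_comp_map, ← Functor.map_comp]
  · -- two morphisms identified in the quotient agree after multiplication by an element of `S`
    intro x₁ x₂ h
    have h' : Q.map x₁ = Q.map x₂ := h
    obtain ⟨Y', t, ht, eq⟩ := (MorphismProperty.map_eq_iff_postcomp Q U.trW x₁ x₂).1 h'
    obtain ⟨W, i, h'', hT, hW⟩ := (U.trW_iff' t).1 ht
    obtain ⟨s, hs, hsW⟩ := hkill W hW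
    have e1 : (x₁ - x₂) ≫ t = 0 := by rw [Preadditive.sub_comp, eq, sub_self]
    obtain ⟨u, hu⟩ : ∃ u : X ⟶ W, x₁ - x₂ = u ≫ i := Triangle.coyoneda_exact₂ _ hT _ e1
    refine ⟨⟨s, hs⟩, ?_⟩
    change s • x₁ = s • x₂
    have e2 : s • u = u ≫ (s • 𝟙 W) := (comp_smul_id s u).symm
    rw [← sub_eq_zero, ← smul_sub, hu, ← Linear.smul_comp, e2, hsW, comp_zero, zero_comp]

end Groth.Agent.S19190
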