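import Groth.Statements.S19191
import Mathlib
-- import your own Groth.Agent.* helpers here

set_option autoImplicit false
universe w v u v' u'
open CategoryTheory CategoryTheory.Limits CategoryTheory.Pretriangulated CategoryTheory.Triangulated
open CohDer

open ZeroObject

namespace Groth.Agent.S19191

/-- Let `A` be a commutative ring, `T` an `A`-linear triangulated category (octahedron axiom included;
shift functors `A`-linear), `U` a thick subcategory of `T` (a property of objects containing zero,
stable under shifts, extensions, isomorphisms and direct factors), and `Q : T ⥤ E` a localization of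
`T` at the morphisms whose cone lies in `U` (the Verdier quotient `T/U`), where `E` is preadditive
and `A`-linear and `Q` is `A`-linear. For an object `X` of `T` the following two conditions are
equivalent: (i) `X` lies in `U`; (ii) for every maximal ideal `m` of `A` the image of `X` in the
category obtained from `T/U` by tensoring the morphism modules with `A_m` is zero, i.e. some element
of `A` outside `m` annihilates the identity of `Q X`. (The published statement also lists a third
equivalent condition, phrased with idempotent completions of the localized categories; it is not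
asserted here.) -/
theorem result
    {A : Type w} [CommRing A]
    {T : Type u} [Category.{v} T] [Preadditive T] [Linear A T] [HasZeroObject T] [HasShift T ℤ]
    [∀ n : ℤ, (shiftFunctor T n).Additive] [∀ n : ℤ, (shiftFunctor T n).Linear A]
    [Pretriangulated T] [IsTriangulated T]
    (U : ObjectProperty T) [U.IsTriangulated] [U.IsClosedUnderIsomorphisms] [U.IsStableUnderRetracts]
    {E : Type u'} [Category.{v'} E] [Preadditive E] [Linear A E]
    (Q : T ⥤ E) [Q.Additive] [Q.Linear A] [Q.IsLocalization U.trW] (X : T) :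
    U X ↔ ∀ m : Ideal A, m.IsMaximal → ∃ s : A, s ∉ m ∧ s • 𝟙 (Q.obj X) = 0 := by
  constructor
  · intro hX m hm
    refine ⟨1, (Ideal.ne_top_iff_one m).1 hm.ne_top, ?_⟩
    rw [one_smul]
    have h1 : U.trW (0 : (0 : T) ⟶ X) :=
      ObjectProperty.trW.mk U (contractible_distinguished₁ X) hX
    have h2 : IsIso (Q.map (0 : (0 : T) ⟶ X)) := Localization.inverts Q U.trW _ h1
    have h3 : Q.map (0 : (0 : T) ⟶ X) = 0 := Q.map_zero _ _
    have h4 : 𝟙 (Q.obj X) = inv (Q.map (0 : (0 : T) ⟶ X)) ≫ Q.map (0 : (0 : T) ⟶ X) :=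
      (IsIso.inv_hom_id _).symm
    rw [h4]
    have h5 : inv (Q.map (0 : (0 : T) ⟶ X)) ≫ Q.map (0 : (0 : T) ⟶ X) =
        inv (Q.map (0 : (0 : T) ⟶ X)) ≫ 0 := congrArg _ h3
    rw [h5, comp_zero]
  · intro h
    let I : Ideal A :=
      { carrier := {s | s • 𝟙 (Q.obj X) = 0}
        add_mem' := by
          intro a b ha hb
          show (a + b) • 𝟙 (Q.obj X) = 0
          rw [add_smul, ha, hb, add_zero]
        zero_mem' := by
          show (0 : A) • 𝟙 (Q.obj X) = 0
          rw [zero_smul]
        smul_mem' := by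
          intro c a ha
          show (c • a) • 𝟙 (Q.obj X) = 0
          rw [smul_eq_mul, mul_smul, ha, smul_zero] }
    have hI : I = ⊤ := by
      by_contra hne
      obtain ⟨m, hm, hIm⟩ := Ideal.exists_le_maximal I hne
      obtain ⟨s, hs, hs0⟩ := h m hm
      exact hs (hIm hs0)
    have h1 : (1 : A) ∈ I := by rw [hI]; trivial
    have h2 : 𝟙 (Q.obj X) = 0 := by
      have : (1 : A) • 𝟙 (Q.obj X) = 0 := h1
      rwa [one_smul] at this
    have h3 : Q.map (𝟙 X) = Q.map (0 : X ⟶ X) := by rw [Q.map_id, h2, Q.map_zero]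
    obtain ⟨Z, s, hs, eq⟩ := (MorphismProperty.map_eq_iff_postcomp Q U.trW (𝟙 X) 0).1 h3
    have hs0 : s = 0 := by simpa using eq
    rw [ObjectProperty.trW_iff] at hs
    obtain ⟨C, g, δ, hT, hC⟩ := hs
    have hT' := rot_of_distTriang _ hT
    have hm3 : (Triangle.mk s g δ).rotate.mor₃ = 0 := by
      show -(shiftFunctor T (1 : ℤ)).map s = 0
      rw [hs0, Functor.map_zero, neg_zero]
    obtain ⟨σ, hσ⟩ := Triangle.coyoneda_exact₃ _ hT' (𝟙 (X⟦(1 : ℤ)⟧)) (by rw [hm3, comp_zero])
    have hσ' : σ ≫ δ = 𝟙 (X⟦(1 : ℤ)⟧) := hσ.symm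
    have hr : Retract (X⟦(1 : ℤ)⟧) C := ⟨σ, δ, hσ'⟩
    have h4 : U (X⟦(1 : ℤ)⟧) := U.prop_of_retract hr hC
    have h5 := U.le_shift (-1 : ℤ) _ h4
    exact U.prop_of_iso ((shiftFunctorCompIsoId T (1 : ℤ) (-1) (by norm_num)).app X) h5

end Groth.Agent.S19191
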