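import Groth.Statements.S19193
import Mathlib

set_option autoImplicit false
universe u
open CategoryTheory Opposite TopologicalSpace
open CohTop

namespace Groth.Agent.S19193

section helpers
open W4c6blochformula0cyc
variable {X : Type u} [TopologicalSpace X] (F : (Opens X)ᵒᵖ ⥤ AddCommGrpCat.{u})

lemma res_res {V W Z : Opens X} (h₁ : Z ≤ W) (h₂ : W ≤ V) (x : F.obj (op V)) :
    res F h₁ (res F h₂ x) = res F (h₁.trans h₂) x := by
  have : (homOfLE h₂).op ≫ (homOfLE h₁).op = (homOfLE (h₁.trans h₂)).op := rfl
  simp only [res]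
  rw [← this, F.map_comp]
  rfl

lemma res_id {V : Opens X} (h : V ≤ V) (x : F.obj (op V)) : res F h x = x := by
  have : (homOfLE h).op = 𝟙 (op V) := rfl
  simp only [res]
  rw [this, F.map_id]
  rfl

lemma cochain_congr {ι : Type u} (U : ι → Opens X) {n : ℕ} (f : Cochain F U n)
    {s s' : Fin n → ι} (h : s = s') {W : Opens X} (h₁ : W ≤ cechOpen U s) (h₂ : W ≤ cechOpen U s') :
    res F h₁ (f s) = res F h₂ (f s') := by
  subst h
  rfl

lemma E_congr {ι : Type u} (U : ι → Opens X)
    (E : ∀ (V : Opens X) (α : ι), F.obj (op (V ⊓ U α)) →+ F.obj (op V)) (α : ι)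
    {V W : Opens X} (h : V = W) (hle : V ≤ W) (hle' : V ⊓ U α ≤ W ⊓ U α) (g : F.obj (op (W ⊓ U α))) :
    res F hle (E W α g) = E V α (res F hle' g) := by
  subst h
  rw [res_id, res_id]

end helpers

open W4c6blochformula0cyc in
/-- Let `F` be a presheaf of abelian groups on a topological space `X`, `U` a family of opens of `X`
indexed by a finite type, and suppose given, for every open `V` and every index `α`, an additive map
`E V α : F(V ∩ U_α) → F(V)` such that for every nonempty tuple of indices `t`, with `V = U_{t_0} ∩ ⋯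
∩ U_{t_m}`: (i) `∑_α E V α (f|_{V ∩ U_α}) = f` for all `f ∈ F(V)`, and (ii) `(E V α g)|_{V ∩ U_β} =
E (V ∩ U_β) α (g|_{V ∩ U_β ∩ U_α})` for all indices `α, β` and all `g ∈ F(V ∩ U_α)`. Then the
operator `H` on ordered Čech cochains, `(H f)_t = ∑_α E (U_t) α (f_{(α, t)})`, satisfies `H (δ f) +
δ (H f) = f` for every Čech cochain `f` on tuples of length at least `2`, i.e. in every Čech degree
`≥ 1`. (The published statement takes a flasque sheaf on an open cover and extension maps attached
to pairs of finite intersections; this row takes any presheaf, any finite family of opens, and maps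
that may depend on the index, none of which the printed argument needs. The published statement also
asserts the identity in every degree of the Čech complex without augmentation term, and allows an
infinite index set with finitely supported sums; in Čech degree `0`, where that complex has no term
below and the identity reads `H (δ f) = f`, it fails in general — for the one-member cover of a
point and the constant presheaf `ℤ` with `E` the identity, `δ f` vanishes on the pair while `f` need
not — so it is stated here from degree `1` on, i.e. for cochains on tuples of length at least `2`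
(the whole-space term on the empty tuple carried by the cochain groups used here plays no role), and
for a finite index type.) -/
theorem result {X : Type u} [TopologicalSpace X]
    {ι : Type u} [Fintype ι] (F : (Opens X)ᵒᵖ ⥤ AddCommGrpCat.{u}) (U : ι → Opens X)
    (E : ∀ (V : Opens X) (α : ι), F.obj (op (V ⊓ U α)) →+ F.obj (op V))
    (h2 : ∀ (m : ℕ) (t : Fin (m + 1) → ι) (f : F.obj (op (cechOpen U t))),
      ∑ α, E (cechOpen U t) α (res F inf_le_left f) = f)
    (h3 : ∀ (m : ℕ) (t : Fin (m + 1) → ι) (α β : ι) (g : F.obj (op (cechOpen U t ⊓ U α))),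
      res F inf_le_left (E (cechOpen U t) α g) =
        E (cechOpen U t ⊓ U β) α (res F (inf_le_inf_right (U α) inf_le_left) g))
    (n : ℕ) (f : Cochain F U (n + 2)) :
    homotopy F U E (n + 2) (delta F U (n + 2) f) + delta F U (n + 1) (homotopy F U E (n + 1) f) = f := by
  classical
  funext t
  set V := cechOpen U t with hV
  -- the common sum
  -- first: H δ f
  have hcons0 : ∀ α : ι, (Fin.cons α t : Fin (n + 3) → ι) ∘ (0 : Fin (n + 3)).succAbove = t := by
    intro α
    funext j
    simp [Fin.succAbove_zero]
  have hconsS : ∀ (α : ι) (i : Fin (n + 2)),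
      (Fin.cons α t : Fin (n + 3) → ι) ∘ (i.succ).succAbove = Fin.cons α (t ∘ i.succAbove) := by
    intro α i
    funext j
    refine Fin.cases ?_ (fun k => ?_) j
    · simp
    · simp
  -- inclusions
  have hVi : ∀ i : Fin (n + 2), V ≤ cechOpen U (t ∘ i.succAbove) := fun i => cechOpen_le_comp U t i
  have hVti : ∀ i : Fin (n + 2), V ≤ U (t i) := fun i => iInf_le (fun j => U (t j)) i
  have hVeq : ∀ i : Fin (n + 2), V = cechOpen U (t ∘ i.succAbove) ⊓ U (t i) := by
    intro i
    apply le_antisymm (le_inf (hVi i) (hVti i))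
    refine le_iInf fun j => ?_
    by_cases hj : j = i
    · subst hj
      exact inf_le_right
    · obtain ⟨k, rfl⟩ := Fin.exists_succAbove_eq hj
      exact inf_le_left.trans (iInf_le (fun k => U ((t ∘ i.succAbove) k)) k)
  have hle : ∀ (α : ι) (i : Fin (n + 2)),
      V ⊓ U α ≤ cechOpen U (Fin.cons α (t ∘ i.succAbove) : Fin (n + 2) → ι) := fun α i =>
    (inf_le_inf_right (U α) (hVi i)).trans (inf_le_cechOpen_cons U (t ∘ i.succAbove) α)
  -- the common terms
  let T : ι → Fin (n + 2) → F.obj (op V) := fun α i =>
    E V α (res F (hle α i) (f (Fin.cons α (t ∘ i.succAbove))))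
  -- Claim B
  have hB : (delta F U (n + 1) (homotopy F U E (n + 1) f)) t =
      ∑ i : Fin (n + 2), ((-1 : ℤ) ^ (i : ℕ)) • ∑ α, T α i := by
    show (∑ j : Fin (n + 2), ((-1 : ℤ) ^ (j : ℕ)) •
      res F (cechOpen_le_comp U t j) ((homotopy F U E (n + 1) f) (t ∘ j.succAbove))) = _
    apply Finset.sum_congr rfl
    intro i _
    congr 1
    show res F (cechOpen_le_comp U t i) (∑ α : ι, E (cechOpen U (t ∘ i.succAbove)) α
      (res F (inf_le_cechOpen_cons U (t ∘ i.succAbove) α) (f (Fin.cons α (t ∘ i.succAbove))))) = _
    rw [map_sum]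
    apply Finset.sum_congr rfl
    intro α _
    have h1 : res F (cechOpen_le_comp U t i) (E (cechOpen U (t ∘ i.succAbove)) α
        (res F (inf_le_cechOpen_cons U (t ∘ i.succAbove) α) (f (Fin.cons α (t ∘ i.succAbove))))) =
        res F (le_inf (hVi i) (hVti i)) (res F inf_le_left (E (cechOpen U (t ∘ i.succAbove)) α
        (res F (inf_le_cechOpen_cons U (t ∘ i.succAbove) α) (f (Fin.cons α (t ∘ i.succAbove)))))) := by
      rw [res_res]
    rw [h1, h3 n (t ∘ i.succAbove) α (t i), E_congr F U E α (hVeq i) (le_inf (hVi i) (hVti i))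
      (inf_le_inf_right (U α) (le_inf (hVi i) (hVti i))), res_res, res_res]
  -- Claim A
  have hA : (homotopy F U E (n + 2) (delta F U (n + 2) f)) t =
      f t - ∑ i : Fin (n + 2), ((-1 : ℤ) ^ (i : ℕ)) • ∑ α, T α i := by
    show (∑ α : ι, E V α (res F (inf_le_cechOpen_cons U t α)
      (∑ j : Fin (n + 3), ((-1 : ℤ) ^ (j : ℕ)) • res F (cechOpen_le_comp U (Fin.cons α t) j)
        (f ((Fin.cons α t : Fin (n + 3) → ι) ∘ j.succAbove))))) = _
    have hterm : ∀ α : ι, E V α (res F (inf_le_cechOpen_cons U t α)
      (∑ j : Fin (n + 3), ((-1 : ℤ) ^ (j : ℕ)) • res F (cechOpen_le_comp U (Fin.cons α t) j)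
        (f ((Fin.cons α t : Fin (n + 3) → ι) ∘ j.succAbove)))) =
        E V α (res F inf_le_left (f t)) - ∑ i : Fin (n + 2), ((-1 : ℤ) ^ (i : ℕ)) • T α i := by
      intro α
      rw [map_sum, map_sum, Fin.sum_univ_succ]
      simp only [map_zsmul, map_neg, res_res, Fin.val_zero, pow_zero, one_smul, Fin.val_succ, pow_succ,
        mul_neg, mul_one, neg_smul, Finset.sum_neg_distrib]
      rw [sub_eq_add_neg]
      have e0 : (E V α) ((res F ((inf_le_cechOpen_cons U t α).trans (cechOpen_le_comp U (Fin.cons α t) 0)))
          (f ((Fin.cons α t : Fin (n + 3) → ι) ∘ Fin.succAbove 0))) = (E V α) ((res F inf_le_left) (f t)) := by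
        congr 1 <;> exact cochain_congr F U f (hcons0 α) _ _
      have e1 : ∀ i : Fin (n + 2),
          (E V α) ((res F ((inf_le_cechOpen_cons U t α).trans (cechOpen_le_comp U (Fin.cons α t) i.succ)))
          (f ((Fin.cons α t : Fin (n + 3) → ι) ∘ i.succ.succAbove))) = T α i := by
        intro i
        show _ = E V α (res F (hle α i) (f (Fin.cons α (t ∘ i.succAbove))))
        congr 1 <;> exact cochain_congr F U f (hconsS α i) _ _
      rw [e0]
      congr 2
      apply Finset.sum_congr rfl
      intro i _
      rw [e1 i]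
    rw [Finset.sum_congr rfl (fun α _ => hterm α), Finset.sum_sub_distrib, h2 (n + 1) t (f t)]
    congr 1
    rw [Finset.sum_comm]
    apply Finset.sum_congr rfl
    intro i _
    rw [Finset.smul_sum]
  show (homotopy F U E (n + 2) (delta F U (n + 2) f)) t +
    (delta F U (n + 1) (homotopy F U E (n + 1) f)) t = f t
  rw [hA, hB]
  abel

end Groth.Agent.S19193
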