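import Groth.Statements.S19196
import Mathlib

set_option autoImplicit false
universe u
open RelS1

namespace Groth.Agent.S19196

/-- Let R be a Noetherian commutative ring and N a finitely generated R-module which fails Serre's
condition (S_1), in the sense that some associated prime of N is not a minimal prime of the
annihilator of N. Then there exist an element a of R lying in no minimal prime of the annihilator of
N and a nonzero element b of N with a • b = 0; thus the basic open set D(a) meets the support of N
densely while restriction to it is not injective on N. -/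
theorem result (R N : Type u) [CommRing R] [IsNoetherianRing R]
    [AddCommGroup N] [Module R N] [Module.Finite R N]
    (h : ¬ associatedPrimes R N ⊆ (Module.annihilator R N).minimalPrimes) :
    ∃ (a : R) (b : N), (∀ P ∈ (Module.annihilator R N).minimalPrimes, a ∉ P) ∧ b ≠ 0 ∧ a • b = 0 := by
  rw [Set.not_subset] at h
  obtain ⟨P, hP, hPmin⟩ := h
  obtain ⟨hPprime, x, hPx⟩ := (isAssociatedPrime_iff (R := R)).mp hP
  have hann : Module.annihilator R N ≤ P := by
    intro r hr
    rw [hPx, Submodule.mem_colon_singleton]
    rw [Module.mem_annihilator] at hr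
    rw [hr x]; exact Submodule.zero_mem _
  have hfin := Ideal.finite_minimalPrimes_of_isNoetherianRing R (Module.annihilator R N)
  -- P is not contained in any minimal prime
  have hnot : ¬ ∃ Q ∈ hfin.toFinset, P ≤ (id Q : Ideal R) := by
    rintro ⟨Q, hQ, hPQ⟩
    rw [Set.Finite.mem_toFinset] at hQ
    have hQP : Q ≤ P := hQ.2 ⟨hPprime, hann⟩ hPQ
    exact hPmin ((le_antisymm hPQ hQP) ▸ hQ)
  have hav := (Ideal.subset_union_prime (R := R) (s := hfin.toFinset) (f := fun Q => Q)
    (Module.annihilator R N) (Module.annihilator R N) (I := P) (fun Q hQ _ _ => by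
      rw [Set.Finite.mem_toFinset] at hQ
      exact hQ.1.1)).not.mpr hnot
  rw [Set.not_subset] at hav
  obtain ⟨a, haP, haU⟩ := hav
  refine ⟨a, x, ?_, ?_, ?_⟩
  · intro Q hQ haQ
    apply haU
    simp only [Set.mem_iUnion]
    exact ⟨Q, by simpa using hQ, haQ⟩
  · rintro rfl
    apply hPprime.ne_top
    rw [hPx, Ideal.eq_top_iff_one, Submodule.mem_colon_singleton]
    simp
  · have : a ∈ Submodule.colon (⊥ : Submodule R N) {x} := hPx ▸ haP
    rw [Submodule.mem_colon_singleton] at this
    simpa using this

end Groth.Agent.S19196
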