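import Groth.Statements.S19210
import Mathlib

set_option autoImplicit false
universe u
open LocAlg

namespace Groth.Agent.S19210

/-- `(t+1)^(b+1) - t^(b+1)` lies between `(b+1) t^b` and `(b+1) (t+1)^b` for `t ≥ 0`. -/
theorem pow_diff_bounds (b : ℕ) (t : ℝ) (ht : 0 ≤ t) :
    ((b : ℝ) + 1) * t ^ b ≤ (t + 1) ^ (b + 1) - t ^ (b + 1) ∧
      (t + 1) ^ (b + 1) - t ^ (b + 1) ≤ ((b : ℝ) + 1) * (t + 1) ^ b := by
  have h := geom_sum₂_mul (t + 1) t (b + 1)
  rw [add_sub_cancel_left, mul_one] at h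
  rw [← h]
  have hterm : ∀ i ∈ Finset.range (b + 1),
      t ^ b ≤ (t + 1) ^ i * t ^ (b + 1 - 1 - i) ∧
        (t + 1) ^ i * t ^ (b + 1 - 1 - i) ≤ (t + 1) ^ b := by
    intro i hi
    have hi' : i ≤ b := Nat.lt_succ_iff.mp (Finset.mem_range.mp hi)
    have hb : b + 1 - 1 - i = b - i := by omega
    rw [hb]
    constructor
    · calc t ^ b = t ^ i * t ^ (b - i) := by rw [← pow_add, Nat.add_sub_cancel' hi']
        _ ≤ (t + 1) ^ i * t ^ (b - i) := by
          apply mul_le_mul_of_nonneg_right _ (pow_nonneg ht _)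
          exact pow_le_pow_left₀ ht (by linarith) i
    · calc (t + 1) ^ i * t ^ (b - i) ≤ (t + 1) ^ i * (t + 1) ^ (b - i) := by
            apply mul_le_mul_of_nonneg_left _ (pow_nonneg (by linarith) _)
            exact pow_le_pow_left₀ ht (by linarith) _
        _ = (t + 1) ^ b := by rw [← pow_add, Nat.add_sub_cancel' hi']
  constructor
  · calc ((b : ℝ) + 1) * t ^ b = ∑ _i ∈ Finset.range (b + 1), t ^ b := by
          rw [Finset.sum_const, Finset.card_range, nsmul_eq_mul]; push_cast; ring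
      _ ≤ _ := Finset.sum_le_sum fun i hi => (hterm i hi).1
  · calc _ ≤ ∑ _i ∈ Finset.range (b + 1), (t + 1) ^ b :=
          Finset.sum_le_sum fun i hi => (hterm i hi).2
      _ = ((b : ℝ) + 1) * (t + 1) ^ b := by
          rw [Finset.sum_const, Finset.card_range, nsmul_eq_mul]; push_cast; ring

/-- Power sums: `(b+1) Σ_{i<n} i^b ≤ n^(b+1) ≤ (b+1) (Σ_{i<n} i^b + n^b)`. -/
theorem power_sum_bounds (b n : ℕ) :
    ((b : ℝ) + 1) * ∑ i ∈ Finset.range n, (i : ℝ) ^ b ≤ (n : ℝ) ^ (b + 1) ∧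
      (n : ℝ) ^ (b + 1) ≤ ((b : ℝ) + 1) * (∑ i ∈ Finset.range n, (i : ℝ) ^ b + (n : ℝ) ^ b) := by
  induction n with
  | zero =>
    constructor
    · simp
    · simp only [Finset.range_zero, Finset.sum_empty, Nat.cast_zero, zero_add]
      rw [pow_succ]
      have : (0 : ℝ) ^ b * 0 = 0 := mul_zero _
      rw [this]
      positivity
  | succ n ih =>
    obtain ⟨h1, h2⟩ := pow_diff_bounds b (n : ℝ) (Nat.cast_nonneg n)
    rw [Finset.sum_range_succ]
    push_cast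
    constructor
    · nlinarith [ih.1]
    · have hb : (0 : ℝ) ≤ (b : ℝ) + 1 := by positivity
      have hs : (0 : ℝ) ≤ ∑ i ∈ Finset.range n, (i : ℝ) ^ b :=
        Finset.sum_nonneg fun i _ => by positivity
      nlinarith [ih.1, ih.2]

theorem power_sum_est (b : ℕ) : ∀ n : ℕ, 1 ≤ n →
    |(∑ i ∈ Finset.range n, (i : ℝ) ^ b) - 1 / ((b : ℝ) + 1) * (n : ℝ) ^ (b + 1)| ≤
      1 * (n : ℝ) ^ b := by
  intro n _
  obtain ⟨h1, h2⟩ := power_sum_bounds b n
  have hb : (0 : ℝ) < (b : ℝ) + 1 := by positivity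
  have hnb : (0 : ℝ) ≤ (n : ℝ) ^ b := by positivity
  have e : 1 / ((b : ℝ) + 1) * (n : ℝ) ^ (b + 1) = (n : ℝ) ^ (b + 1) / ((b : ℝ) + 1) := by ring
  rw [e]
  have hA : ∑ i ∈ Finset.range n, (i : ℝ) ^ b ≤ (n : ℝ) ^ (b + 1) / ((b : ℝ) + 1) := by
    rw [le_div_iff₀ hb]
    linarith
  have hB : (n : ℝ) ^ (b + 1) / ((b : ℝ) + 1) ≤
      ∑ i ∈ Finset.range n, (i : ℝ) ^ b + (n : ℝ) ^ b := by
    rw [div_le_iff₀ hb]
    linarith
  rw [abs_le]
  constructor <;> linarith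

/-- The general asymptotic, by induction on `a`. -/
theorem main (a : ℕ) : ∀ b : ℕ, ∃ C : ℝ, ∀ n : ℕ, 1 ≤ n →
    |(∑ i ∈ Finset.range n, ((n : ℝ) - (i : ℝ)) ^ a * (i : ℝ) ^ b) -
        (a.factorial : ℝ) * (b.factorial : ℝ) / ((a + b + 1).factorial : ℝ) * (n : ℝ) ^ (a + b + 1)| ≤
      C * (n : ℝ) ^ (a + b) := by
  induction a with
  | zero =>
    intro b
    refine ⟨1, fun n hn => ?_⟩
    have := power_sum_est b n hn
    simp only [pow_zero, one_mul, Nat.factorial_zero, Nat.cast_one, zero_add]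
    have e : (b.factorial : ℝ) / ((b + 1).factorial : ℝ) = 1 / ((b : ℝ) + 1) := by
      rw [Nat.factorial_succ]
      push_cast
      have : (b.factorial : ℝ) ≠ 0 := by positivity
      field_simp
    rw [e]
    simpa using this
  | succ a ih =>
    intro b
    obtain ⟨C₁, h₁⟩ := ih b
    obtain ⟨C₂, h₂⟩ := ih (b + 1)
    refine ⟨C₁ + C₂, fun n hn => ?_⟩
    have e1 := h₁ n hn
    have e2 := h₂ n hn
    have hrec : ∑ i ∈ Finset.range n, ((n : ℝ) - (i : ℝ)) ^ (a + 1) * (i : ℝ) ^ b =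
        (n : ℝ) * ∑ i ∈ Finset.range n, ((n : ℝ) - (i : ℝ)) ^ a * (i : ℝ) ^ b -
          ∑ i ∈ Finset.range n, ((n : ℝ) - (i : ℝ)) ^ a * (i : ℝ) ^ (b + 1) := by
      rw [Finset.mul_sum, ← Finset.sum_sub_distrib]
      refine Finset.sum_congr rfl fun i _ => ?_
      ring
    have hbeta : ((a + 1).factorial : ℝ) * (b.factorial : ℝ) / ((a + 1 + b + 1).factorial : ℝ) =
        (a.factorial : ℝ) * (b.factorial : ℝ) / ((a + b + 1).factorial : ℝ) -
          (a.factorial : ℝ) * ((b + 1).factorial : ℝ) / ((a + (b + 1) + 1).factorial : ℝ) := by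
      have h1 : a + 1 + b + 1 = (a + b + 1) + 1 := by ring
      have h2 : a + (b + 1) + 1 = (a + b + 1) + 1 := by ring
      rw [h1, h2, Nat.factorial_succ (a + b + 1), Nat.factorial_succ a, Nat.factorial_succ b]
      push_cast
      have : ((a + b + 1).factorial : ℝ) ≠ 0 := by positivity
      field_simp
      ring
    have hn0 : (0 : ℝ) ≤ (n : ℝ) := Nat.cast_nonneg n
    have key : (∑ i ∈ Finset.range n, ((n : ℝ) - (i : ℝ)) ^ (a + 1) * (i : ℝ) ^ b) -
        ((a + 1).factorial : ℝ) * (b.factorial : ℝ) / ((a + 1 + b + 1).factorial : ℝ) *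
          (n : ℝ) ^ (a + 1 + b + 1) =
        (n : ℝ) * ((∑ i ∈ Finset.range n, ((n : ℝ) - (i : ℝ)) ^ a * (i : ℝ) ^ b) -
          (a.factorial : ℝ) * (b.factorial : ℝ) / ((a + b + 1).factorial : ℝ) *
            (n : ℝ) ^ (a + b + 1)) -
        ((∑ i ∈ Finset.range n, ((n : ℝ) - (i : ℝ)) ^ a * (i : ℝ) ^ (b + 1)) -
          (a.factorial : ℝ) * ((b + 1).factorial : ℝ) / ((a + (b + 1) + 1).factorial : ℝ) *
            (n : ℝ) ^ (a + (b + 1) + 1)) := by
      rw [hrec, hbeta]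
      have p1 : a + 1 + b + 1 = (a + b + 1) + 1 := by ring
      have p2 : a + (b + 1) + 1 = (a + b + 1) + 1 := by ring
      rw [p1, p2, pow_succ (n : ℝ) (a + b + 1)]
      ring
    rw [key]
    have p3 : a + 1 + b = (a + b) + 1 := by ring
    have p4 : a + (b + 1) = (a + b) + 1 := by ring
    rw [p4] at e2
    rw [p3]
    calc |(n : ℝ) * _ - _| ≤ |(n : ℝ) * _| + |_| := abs_sub _ _
      _ ≤ (n : ℝ) * (C₁ * (n : ℝ) ^ (a + b)) + C₂ * (n : ℝ) ^ (a + b + 1) := by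
        rw [abs_mul, abs_of_nonneg hn0]
        exact add_le_add (mul_le_mul_of_nonneg_left e1 hn0) e2
      _ = (C₁ + C₂) * (n : ℝ) ^ (a + b + 1) := by ring


/-- For natural numbers j ≤ r, the sums Σ_{i=0}^{n−1} (n − i)^{r−j} i^j equal n^{r+1}·(r − j)!·j!/(r +
1)! up to O(n^r): there is a real constant C with |Σ_{i<n} (n − i)^{r−j} i^j − ((r − j)!·j!/(r +
1)!)·n^{r+1}| ≤ C·n^r for all n ≥ 1. -/
theorem result (r j : ℕ) (hj : j ≤ r) :
    ∃ C : ℝ, ∀ n : ℕ, 1 ≤ n →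
      |(∑ i ∈ Finset.range n, ((n : ℝ) - (i : ℝ)) ^ (r - j) * (i : ℝ) ^ j) -
          ((r - j).factorial : ℝ) * (j.factorial : ℝ) / ((r + 1).factorial : ℝ) * (n : ℝ) ^ (r + 1)| ≤
        C * (n : ℝ) ^ r := by
  obtain ⟨C, hC⟩ := main (r - j) j
  refine ⟨C, fun n hn => ?_⟩
  have := hC n hn
  have e : r - j + j = r := Nat.sub_add_cancel hj
  rw [e] at this
  exact this

end Groth.Agent.S19210
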