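import Groth.Statements.S19216
import Mathlib

set_option autoImplicit false
universe u
open SymRep

namespace Groth.Agent.S19216

/-- Let k be a field of characteristic zero and r, s ≥ 1. Realise the standard representation of the
symmetric group on a finite set T as the hyperplane of functions T → k with sum zero, the group
acting by precomposition with the inverse. Then the standard representation of the symmetric group
of Fin r ⊕ Fin s, restricted to the subgroup S_r × S_s, is isomorphic to the direct sum of the
standard representations of S_r and of S_s and of a one-dimensional trivial representation: there is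
a k-linear map E from functions on Fin r ⊕ Fin s to triples (function on Fin r, function on Fin s,
scalar), compatible with the actions of S_r × S_s (trivial on the scalar), which maps the sum-zero
hyperplane bijectively onto the product of the two sum-zero hyperplanes and k. (The published
statement is over the complex numbers; a field of characteristic zero is used here. The published
statement also gives the analogous decomposition for any number of blocks, which follows by
induction; only the two-block case is stated here.) -/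
theorem result (k : Type u) [Field k] [CharZero k]
    (r s : ℕ) (hr : 1 ≤ r) (hs : 1 ≤ s) :
    ∃ E : (Fin r ⊕ Fin s → k) →ₗ[k] (Fin r → k) × (Fin s → k) × k,
      (∀ (σ : Equiv.Perm (Fin r)) (τ : Equiv.Perm (Fin s)) (f : Fin r ⊕ Fin s → k),
        E (f ∘ ⇑(Equiv.sumCongr σ τ).symm) = ((E f).1 ∘ ⇑σ.symm, (E f).2.1 ∘ ⇑τ.symm, (E f).2.2)) ∧
      Set.BijOn E {f | ∑ i, f i = 0}
        ({g : Fin r → k | ∑ i, g i = 0} ×ˢ ({h : Fin s → k | ∑ i, h i = 0} ×ˢ Set.univ)) := by
  have hr0 : (r : k) ≠ 0 := by exact_mod_cast (by omega : r ≠ 0)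
  have hs0 : (s : k) ≠ 0 := by exact_mod_cast (by omega : s ≠ 0)
  let mr : (Fin r ⊕ Fin s → k) →ₗ[k] k :=
    (r : k)⁻¹ • ∑ i : Fin r, LinearMap.proj (Sum.inl i)
  let ms : (Fin r ⊕ Fin s → k) →ₗ[k] k :=
    (s : k)⁻¹ • ∑ j : Fin s, LinearMap.proj (Sum.inr j)
  have hmr : ∀ f, mr f = (r : k)⁻¹ * ∑ i : Fin r, f (Sum.inl i) := fun f => by
    simp [mr, LinearMap.sum_apply]
  have hms : ∀ f, ms f = (s : k)⁻¹ * ∑ j : Fin s, f (Sum.inr j) := fun f => by
    simp [ms, LinearMap.sum_apply]
  let E : (Fin r ⊕ Fin s → k) →ₗ[k] (Fin r → k) × (Fin s → k) × k :=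
    LinearMap.prod (LinearMap.pi fun i => LinearMap.proj (Sum.inl i) - mr)
      (LinearMap.prod (LinearMap.pi fun j => LinearMap.proj (Sum.inr j) - ms) mr)
  have hE1 : ∀ f i, (E f).1 i = f (Sum.inl i) - mr f := fun f i => rfl
  have hE2 : ∀ f j, (E f).2.1 j = f (Sum.inr j) - ms f := fun f j => rfl
  have hE3 : ∀ f, (E f).2.2 = mr f := fun f => rfl
  have hsum : ∀ f : Fin r ⊕ Fin s → k, ∑ x, f x = (r : k) * mr f + (s : k) * ms f := by
    intro f
    rw [Fintype.sum_sum_type, hmr, hms, ← mul_assoc, ← mul_assoc, mul_inv_cancel₀ hr0,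
      mul_inv_cancel₀ hs0, one_mul, one_mul]
  refine ⟨E, ?_, ?_, ?_, ?_⟩
  · intro σ τ f
    have h1 : mr (f ∘ ⇑(Equiv.sumCongr σ τ).symm) = mr f := by
      rw [hmr, hmr]
      congr 1
      exact Equiv.sum_comp σ.symm (fun i => f (Sum.inl i))
    have h2 : ms (f ∘ ⇑(Equiv.sumCongr σ τ).symm) = ms f := by
      rw [hms, hms]
      congr 1
      exact Equiv.sum_comp τ.symm (fun j => f (Sum.inr j))
    refine Prod.ext ?_ (Prod.ext ?_ ?_)
    · funext i
      simp only [hE1, h1, Function.comp_apply]
      rfl
    · funext j
      simp only [hE2, h2, Function.comp_apply]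
      rfl
    · simp only [hE3, h1]
  · -- MapsTo
    intro f _
    refine ⟨?_, ?_, trivial⟩
    · show ∑ i, (E f).1 i = 0
      simp only [hE1, Finset.sum_sub_distrib, Finset.sum_const, Finset.card_univ, Fintype.card_fin,
        nsmul_eq_mul]
      rw [hmr, ← mul_assoc, mul_inv_cancel₀ hr0, one_mul, sub_self]
    · show ∑ j, (E f).2.1 j = 0
      simp only [hE2, Finset.sum_sub_distrib, Finset.sum_const, Finset.card_univ, Fintype.card_fin,
        nsmul_eq_mul]
      rw [hms, ← mul_assoc, mul_inv_cancel₀ hs0, one_mul, sub_self]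
  · -- InjOn
    intro f hf f' hf' hEE
    have hf0 : (r : k) * mr f + (s : k) * ms f = 0 := by rw [← hsum]; exact hf
    have hf'0 : (r : k) * mr f' + (s : k) * ms f' = 0 := by rw [← hsum]; exact hf'
    have e3 : mr f = mr f' := by rw [← hE3, ← hE3, hEE]
    have es : ms f = ms f' := by
      have : (s : k) * ms f = (s : k) * ms f' := by
        rw [e3] at hf0
        linear_combination hf0 - hf'0
      exact mul_left_cancel₀ hs0 this
    funext x
    rcases x with i | j
    · have := congrFun (congrArg Prod.fst hEE) i
      rw [hE1, hE1, e3] at this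
      exact sub_left_injective this
    · have := congrFun (congrArg (fun p => p.2.1) hEE) j
      simp only [hE2, es] at this
      exact sub_left_injective this
  · -- SurjOn
    rintro ⟨g, h, c⟩ ⟨hg, hh, -⟩
    simp only [Set.mem_setOf_eq] at hg hh
    let f : Fin r ⊕ Fin s → k := Sum.elim (fun i => g i + c) (fun j => h j - (r : k) / (s : k) * c)
    have hmrf : mr f = c := by
      rw [hmr]
      simp only [f, Sum.elim_inl, Finset.sum_add_distrib, hg, Finset.sum_const, Finset.card_univ,
        Fintype.card_fin, nsmul_eq_mul, zero_add]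
      rw [← mul_assoc, inv_mul_cancel₀ hr0, one_mul]
    have hmsf : ms f = - ((r : k) / (s : k) * c) := by
      rw [hms]
      simp only [f, Sum.elim_inr, Finset.sum_sub_distrib, hh, Finset.sum_const, Finset.card_univ,
        Fintype.card_fin, nsmul_eq_mul, zero_sub]
      field_simp
    refine ⟨f, ?_, ?_⟩
    · show ∑ x, f x = 0
      rw [hsum, hmrf, hmsf]
      field_simp
      ring
    · refine Prod.ext ?_ (Prod.ext ?_ ?_)
      · funext i
        rw [hE1, hmrf]
        simp [f]
      · funext j
        show (E f).2.1 j = h j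
        rw [hE2, hmsf]
        simp [f]
      · show (E f).2.2 = c
        rw [hE3, hmrf]

end Groth.Agent.S19216
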