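import Groth.Statements.S19221
import Mathlib

set_option autoImplicit false
universe u
open SymRep

namespace Groth.Agent.S19221

/-- Let k be a field of characteristic zero and F the k-space of functions Fin 2 → Fin 4 → Fin 4 → k,
with the symmetric group of Fin 4 acting through P σ f c a b = f c (σ⁻¹ a) (σ⁻¹ b). The signed edge
vectors of the complete graph on four vertices live in F as the functions antisymmetric in the two
vertex arguments, and for a colour c and an oriented 3-cycle i → j → l → i the cycle vector z c i j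
l is the function equal, in colour c, to +1 at (i,j), (j,l), (l,i), to −1 at (j,i), (l,j), (i,l) and
to 0 elsewhere (and 0 in the other colour); these cycle vectors span k² ⊗ (cycle space), the
representation written C² ⊗ q in the published text. Let Γ be the graph with edges 01, 02, 03, 12,
23 (a 4-cycle with one chord), whose cycle space is spanned by the cycles (0,1,2) and (0,2,3), and
let ω be the product in the exterior algebra of F of the four vectors z 0 0 1 2, z 1 0 1 2, z 0 0 2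
3, z 1 0 2 3 (a generator of the top exterior power of k² ⊗ q_Γ). Then ω is fixed by the stabiliser
of Γ in the symmetric group (generated by the transpositions (0 2) and (1 3)), and the sum over all
24 permutations σ of the images of ω under the maps induced by P σ is nonzero: the projection of ω
to the invariants of the fourth exterior power of k² ⊗ q_{K₄} does not vanish. (The published
statement is over the complex numbers; a field of characteristic zero is used here. The published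
statement also asserts that this map is an isomorphism onto the one-dimensional space of
S₄-invariants of the fourth exterior power of k² ⊗ q_{K₄}; only its non-vanishing is stated here.) -/
theorem result (k : Type u) [Field k] [CharZero k]
    (P : Equiv.Perm (Fin 4) → ((Fin 2 → Fin 4 → Fin 4 → k) →ₗ[k] (Fin 2 → Fin 4 → Fin 4 → k)))
    (hP : ∀ (σ : Equiv.Perm (Fin 4)) (f : Fin 2 → Fin 4 → Fin 4 → k) (c : Fin 2) (a b : Fin 4),
      P σ f c a b = f c (σ.symm a) (σ.symm b))
    (z : Fin 2 → Fin 4 → Fin 4 → Fin 4 → (Fin 2 → Fin 4 → Fin 4 → k))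
    (hz : ∀ (c : Fin 2) (i j l : Fin 4) (c' : Fin 2) (a b : Fin 4), z c i j l c' a b =
      if c' = c then
        ((if a = i ∧ b = j then 1 else 0) + (if a = j ∧ b = l then 1 else 0) + (if a = l ∧ b = i then 1 else 0)
          - (if a = j ∧ b = i then 1 else 0) - (if a = l ∧ b = j then 1 else 0) - (if a = i ∧ b = l then 1 else 0))
      else 0)
    (ω : ExteriorAlgebra k (Fin 2 → Fin 4 → Fin 4 → k))
    (hω : ω = ExteriorAlgebra.ι k (z 0 0 1 2) * ExteriorAlgebra.ι k (z 1 0 1 2) *
      ExteriorAlgebra.ι k (z 0 0 2 3) * ExteriorAlgebra.ι k (z 1 0 2 3)) :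
    ExteriorAlgebra.map (P (Equiv.swap 0 2)) ω = ω ∧
    ExteriorAlgebra.map (P (Equiv.swap 1 3)) ω = ω ∧
    (∑ σ : Equiv.Perm (Fin 4), ExteriorAlgebra.map (P σ) ω) ≠ 0 := by
  classical
  -- integer version of the cycle vector
  let cyc : Fin 4 → Fin 4 → Fin 4 → Fin 4 → Fin 4 → ℤ := fun i j l a b =>
    (if a = i ∧ b = j then 1 else 0) + (if a = j ∧ b = l then 1 else 0) +
      (if a = l ∧ b = i then 1 else 0) - (if a = j ∧ b = i then 1 else 0) -
      (if a = l ∧ b = j then 1 else 0) - (if a = i ∧ b = l then 1 else 0)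
  have hzI : ∀ (c : Fin 2) (i j l : Fin 4) (c' : Fin 2) (a b : Fin 4),
      z c i j l c' a b = if c' = c then ((cyc i j l a b : ℤ) : k) else 0 := by
    intro c i j l c' a b
    rw [hz]
    simp only [cyc, Int.cast_sub, Int.cast_add, Int.cast_ite, Int.cast_one, Int.cast_zero]
  have hPz : ∀ (σ : Equiv.Perm (Fin 4)) (c : Fin 2) (i j l : Fin 4),
      P σ (z c i j l) = z c (σ i) (σ j) (σ l) := by
    intro σ c i j l
    funext c' a b
    rw [hP, hz, hz]
    simp only [Equiv.symm_apply_eq]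
  have hrot : ∀ (c : Fin 2) (i j l : Fin 4), z c j l i = z c i j l := by
    intro c i j l
    funext c' a b
    rw [hz, hz]
    by_cases hc : c' = c
    · rw [if_pos hc, if_pos hc]
      ring
    · rw [if_neg hc, if_neg hc]
  have hneg : ∀ (c : Fin 2) (i j l : Fin 4), z c l j i = - z c i j l := by
    intro c i j l
    funext c' a b
    rw [Pi.neg_apply, Pi.neg_apply, Pi.neg_apply, hz, hz]
    by_cases hc : c' = c
    · rw [if_pos hc, if_pos hc]
      ring
    · rw [if_neg hc, if_neg hc, neg_zero]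
  have hanti : ∀ x y : Fin 2 → Fin 4 → Fin 4 → k,
      ExteriorAlgebra.ι k y * ExteriorAlgebra.ι k x =
        - (ExteriorAlgebra.ι k x * ExteriorAlgebra.ι k y) := by
    intro x y
    exact eq_neg_of_add_eq_zero_right (ExteriorAlgebra.ι_add_mul_swap x y)
  have hmapω : ∀ σ : Equiv.Perm (Fin 4), ExteriorAlgebra.map (P σ) ω =
      ExteriorAlgebra.ι k (z 0 (σ 0) (σ 1) (σ 2)) * ExteriorAlgebra.ι k (z 1 (σ 0) (σ 1) (σ 2)) *
      ExteriorAlgebra.ι k (z 0 (σ 0) (σ 2) (σ 3)) * ExteriorAlgebra.ι k (z 1 (σ 0) (σ 2) (σ 3)) := by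
    intro σ
    rw [hω, map_mul, map_mul, map_mul, ExteriorAlgebra.map_apply_ι, ExteriorAlgebra.map_apply_ι,
      ExteriorAlgebra.map_apply_ι, ExteriorAlgebra.map_apply_ι, hPz, hPz, hPz, hPz]
  have h10 : (1 : Fin 4) ≠ 0 := by decide
  have h12 : (1 : Fin 4) ≠ 2 := by decide
  have h01 : (0 : Fin 4) ≠ 1 := by decide
  have h03 : (0 : Fin 4) ≠ 3 := by decide
  have h21 : (2 : Fin 4) ≠ 1 := by decide
  have h23 : (2 : Fin 4) ≠ 3 := by decide
  have h30 : (3 : Fin 4) ≠ 0 := by decide
  have h32 : (3 : Fin 4) ≠ 2 := by decide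
  refine ⟨?_, ?_, ?_⟩
  · rw [hmapω, Equiv.swap_apply_left, Equiv.swap_apply_right,
      Equiv.swap_apply_of_ne_of_ne h10 h12, Equiv.swap_apply_of_ne_of_ne h30 h32]
    -- z c 2 1 0 = - z c 0 1 2 ; z c 2 0 3 = - z c 0 2 3
    have e1 : ∀ c, z c 2 1 0 = - z c 0 1 2 := fun c => hneg c 0 1 2
    have e2 : ∀ c, z c 2 0 3 = - z c 0 2 3 := fun c => by
      rw [hrot c 3 2 0, hneg c 0 2 3]
    rw [e1, e1, e2, e2, hω]
    simp only [map_neg, neg_mul, mul_neg, neg_neg]
  · rw [hmapω, Equiv.swap_apply_left, Equiv.swap_apply_right,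
      Equiv.swap_apply_of_ne_of_ne h01 h03, Equiv.swap_apply_of_ne_of_ne h21 h23]
    have e1 : ∀ c, z c 0 3 2 = - z c 0 2 3 := fun c => by
      rw [hneg c 2 3 0, hrot c 0 2 3]
    have e2 : ∀ c, z c 0 2 1 = - z c 0 1 2 := fun c => by
      rw [hneg c 1 2 0, hrot c 0 1 2]
    rw [e1, e1, e2, e2, hω]
    simp only [map_neg, neg_mul, mul_neg, neg_neg]
    -- c * d * a * b = a * b * c * d
    have gen : ∀ (a b c d : ExteriorAlgebra k (Fin 2 → Fin 4 → Fin 4 → k)),
        d * a = -(a * d) → c * a = -(a * c) → d * b = -(b * d) → c * b = -(b * c) →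
        c * d * a * b = a * b * c * d := by
      intro a b c d h1 h2 h3 h4
      calc c * d * a * b = c * (d * a) * b := by noncomm_ring
        _ = c * (-(a * d)) * b := by rw [h1]
        _ = -((c * a) * (d * b)) := by noncomm_ring
        _ = -((-(a * c)) * (-(b * d))) := by rw [h2, h3]
        _ = -(a * (c * b) * d) := by noncomm_ring
        _ = -(a * (-(b * c)) * d) := by rw [h4]
        _ = a * b * c * d := by noncomm_ring
    exact gen _ _ _ _ (hanti _ _) (hanti _ _) (hanti _ _) (hanti _ _)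
  · -- the detecting functional
    have hdet : ∀ (A B C D : k),
        Matrix.det !![A, 0, C, 0; 0, A, 0, C; B, 0, D, 0; 0, B, 0, D] = (A * D - B * C) ^ 2 := by
      intro A B C D
      rw [Matrix.det_succ_row_zero]
      simp [Fin.sum_univ_succ, Matrix.det_fin_three, Fin.succAbove, Matrix.submatrix]
      ring
    let L : (Fin 2 → Fin 4 → Fin 4 → k) →ₗ[k] (Fin 4 → k) :=
      { toFun := fun x => ![x 0 0 1, x 1 0 1, x 0 2 3, x 1 2 3]
        map_add' := by
          intro x y
          ext i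
          fin_cases i <;> rfl
        map_smul' := by
          intro c x
          ext i
          fin_cases i <;> rfl }
    let f4 : (Fin 2 → Fin 4 → Fin 4 → k) [⋀^Fin 4]→ₗ[k] k :=
      (Matrix.detRowAlternating (R := k) (n := Fin 4)).compLinearMap L
    let Φ : ExteriorAlgebra k (Fin 2 → Fin 4 → Fin 4 → k) →ₗ[k] k :=
      ExteriorAlgebra.liftAlternating (R := k) (M := Fin 2 → Fin 4 → Fin 4 → k) (N := k)
        (Function.update (0 : ∀ i, (Fin 2 → Fin 4 → Fin 4 → k) [⋀^Fin i]→ₗ[k] k) 4 f4)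
    have hΦ : ∀ v : Fin 4 → (Fin 2 → Fin 4 → Fin 4 → k),
        Φ (ExteriorAlgebra.ιMulti k 4 v) = Matrix.det (Matrix.of fun i j => L (v i) j) := by
      intro v
      show ExteriorAlgebra.liftAlternating _ _ = _
      rw [ExteriorAlgebra.liftAlternating_apply_ιMulti, Function.update_self]
      rfl
    have hprod : ∀ v1 v2 v3 v4 : Fin 2 → Fin 4 → Fin 4 → k,
        ExteriorAlgebra.ι k v1 * ExteriorAlgebra.ι k v2 * ExteriorAlgebra.ι k v3 *
          ExteriorAlgebra.ι k v4 = ExteriorAlgebra.ιMulti k 4 ![v1, v2, v3, v4] := by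
      intro v1 v2 v3 v4
      rw [ExteriorAlgebra.ιMulti_apply]
      simp [List.ofFn_succ, mul_assoc]
    let g : Equiv.Perm (Fin 4) → ℤ := fun σ =>
      (cyc (σ 0) (σ 1) (σ 2) 0 1 * cyc (σ 0) (σ 2) (σ 3) 2 3 -
        cyc (σ 0) (σ 2) (σ 3) 0 1 * cyc (σ 0) (σ 1) (σ 2) 2 3) ^ 2
    have hval : ∀ σ : Equiv.Perm (Fin 4), Φ (ExteriorAlgebra.map (P σ) ω) = ((g σ : ℤ) : k) := by
      intro σ
      rw [hmapω, hprod, hΦ]
      have hM : (Matrix.of fun i j => L (![z 0 (σ 0) (σ 1) (σ 2), z 1 (σ 0) (σ 1) (σ 2),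
          z 0 (σ 0) (σ 2) (σ 3), z 1 (σ 0) (σ 2) (σ 3)] i) j) =
          !![((cyc (σ 0) (σ 1) (σ 2) 0 1 : ℤ) : k), 0, ((cyc (σ 0) (σ 1) (σ 2) 2 3 : ℤ) : k), 0;
             0, ((cyc (σ 0) (σ 1) (σ 2) 0 1 : ℤ) : k), 0, ((cyc (σ 0) (σ 1) (σ 2) 2 3 : ℤ) : k);
             ((cyc (σ 0) (σ 2) (σ 3) 0 1 : ℤ) : k), 0, ((cyc (σ 0) (σ 2) (σ 3) 2 3 : ℤ) : k), 0;
             0, ((cyc (σ 0) (σ 2) (σ 3) 0 1 : ℤ) : k), 0,
               ((cyc (σ 0) (σ 2) (σ 3) 2 3 : ℤ) : k)] := by
        ext i j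
        fin_cases i <;> fin_cases j <;> simp [L, hzI]
      rw [hM, hdet]
      show _ = (((cyc (σ 0) (σ 1) (σ 2) 0 1 * cyc (σ 0) (σ 2) (σ 3) 2 3 -
        cyc (σ 0) (σ 2) (σ 3) 0 1 * cyc (σ 0) (σ 1) (σ 2) 2 3) ^ 2 : ℤ) : k)
      push_cast
      ring
    intro hsum
    have h0 := congrArg Φ hsum
    rw [map_sum, map_zero, Finset.sum_congr rfl (fun σ _ => hval σ), ← Int.cast_sum] at h0
    have hpos : (0 : ℤ) < ∑ σ : Equiv.Perm (Fin 4), g σ := by
      have h1 : g 1 ≤ ∑ σ : Equiv.Perm (Fin 4), g σ :=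
        Finset.single_le_sum (f := g) (fun σ _ => sq_nonneg _) (Finset.mem_univ 1)
      have h2 : g 1 = 1 := by
        simp [g, cyc]
      omega
    exact absurd (Int.cast_eq_zero.1 h0) hpos.ne'

end Groth.Agent.S19221
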