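import Groth.Statements.S19224
import Mathlib

set_option autoImplicit false
open GalCoh

namespace Groth.Agent.S19224

open CategoryTheory groupCohomology

theorem h3_lemma (Q : Type) [Group Q]
    (hQ : Subsingleton (groupCohomology (Rep.trivial ℤ Q ℤ) 3))
    (b : Q × Q × Q → ℤ)
    (hb : ∀ g h j l : Q, b (h, j, l) - b (g * h, j, l) + b (g, h * j, l) - b (g, h, j * l)
      + b (g, h, j) = 0) :
    ∃ c : Q × Q → ℤ, ∀ g h j : Q,
      b (g, h, j) = c (h, j) - c (g * h, j) + c (g, h * j) - c (g, h) := by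
  set A := Rep.trivial ℤ Q ℤ with hA
  have hz : Limits.IsZero ((inhomogeneousCochains A).homology 3) := by
    haveI : Subsingleton ((inhomogeneousCochains A).homology 3) := hQ
    exact ModuleCat.isZero_of_subsingleton _
  rw [← HomologicalComplex.exactAt_iff_isZero_homology,
    HomologicalComplex.exactAt_iff' _ 2 3 4 (by simp) (by simp),
    ShortComplex.moduleCat_exact_iff] at hz
  let b' : (Fin 3 → Q) → ℤ := fun x => b (x 0, x 1, x 2)
  have hb' : ((inhomogeneousCochains A).sc' 2 3 4).g b' = 0 := by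
    show ((inhomogeneousCochains A).d 3 4) b' = 0
    rw [inhomogeneousCochains.d_def]
    funext y
    rw [inhomogeneousCochains.d_hom_apply]
    rw [Fin.sum_univ_four]
    have e0 : b' (Fin.contractNth 0 (· * ·) y) = b (y 0 * y 1, y 2, y 3) := rfl
    have e1 : b' (Fin.contractNth 1 (· * ·) y) = b (y 0, y 1 * y 2, y 3) := rfl
    have e2 : b' (Fin.contractNth 2 (· * ·) y) = b (y 0, y 1, y 2 * y 3) := rfl
    have e3 : b' (Fin.contractNth 3 (· * ·) y) = b (y 0, y 1, y 2) := rfl
    have e4 : b' (fun i => y i.succ) = b (y 1, y 2, y 3) := rfl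
    rw [e0, e1, e2, e3, e4]
    have := hb (y 0) (y 1) (y 2) (y 3)
    simp [A]
    change _ = (0 : ℤ)
    linarith
  obtain ⟨c', hc'⟩ := hz b' hb'
  change ((inhomogeneousCochains A).d 2 3) c' = b' at hc'
  have key : (d₂₃ A) ((cochainsIso₂ A).hom c') =
      (cochainsIso₃ A).hom (((inhomogeneousCochains A).d 2 3) c') :=
    ConcreteCategory.congr_hom (comp_d₂₃_eq A) (c' : (inhomogeneousCochains A).X 2)
  rw [hc'] at key
  refine ⟨(cochainsIso₂ A).hom c', fun g h j => ?_⟩
  have h2 := congrFun key (g, h, j)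
  rw [d₂₃_hom_apply] at h2
  have h3 : (cochainsIso₃ A).hom b' (g, h, j) = b (g, h, j) := rfl
  rw [h3] at h2
  rw [← h2]
  simp [A]


theorem sum_coc (Q : Type) [Group Q] [Fintype Q] (N : Type) [AddCommGroup N]
    (G : Q → Q → N) (hG : ∀ g h j, G (g * h) j + G g h = G h j + G g (h * j)) (g h : Q) :
    Fintype.card Q • G g h + ∑ t, G (g * h) t = ∑ t, G h t + ∑ t, G g t := by
  have h1 : ∑ t, (G (g * h) t + G g h) = ∑ t, (G h t + G g (h * t)) :=
    Finset.sum_congr rfl fun t _ => hG g h t
  rw [Finset.sum_add_distrib, Finset.sum_add_distrib, Finset.sum_const, Finset.card_univ] at h1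
  have h2 : ∑ t, G g (h * t) = ∑ t, G g t :=
    Fintype.sum_equiv (Equiv.mulLeft h) _ _ (fun t => rfl)
  rw [h2] at h1
  rw [add_comm, h1]

theorem add_main (Q : Type) [Group Q] [Fintype Q] (M : Type) [AddCommGroup M]
    (hdiv : ∀ u : M, ∃ w : M, Fintype.card Q • w = u)
    (ζ : M) (hζn : Fintype.card Q • ζ = 0)
    (hζ : ∀ u : M, Fintype.card Q • u = 0 → ∃ a : ℤ, u = a • ζ)
    (H3 : ∀ b : Q × Q × Q → ℤ, (∀ g h j l : Q, b (h, j, l) - b (g * h, j, l) + b (g, h * j, l)
        - b (g, h, j * l) + b (g, h, j) = 0) →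
      ∃ c : Q × Q → ℤ, ∀ g h j : Q,
        b (g, h, j) = c (h, j) - c (g * h, j) + c (g, h * j) - c (g, h))
    (F : Q → Q → M) (hF : ∀ g h j, F (g * h) j + F g h = F h j + F g (h * j)) :
    ∃ E : Q → M, ∀ g h, F g h = E h + E g - E (g * h) := by
  classical
  set n := Fintype.card Q with hn_def
  have hnpos : 0 < n := Fintype.card_pos
  -- Step 1, 2
  choose e he using fun g => hdiv (∑ t, F g t)
  set F' : Q → Q → M := fun g h => F g h + e (g * h) - e g - e h with hF'
  have hF'coc : ∀ g h j, F' (g * h) j + F' g h = F' h j + F' g (h * j) := by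
    intro g h j
    simp only [hF', mul_assoc]
    linear_combination (norm := abel) hF g h j
  have hF'n : ∀ g h, n • F' g h = 0 := by
    intro g h
    simp only [hF', smul_add, smul_sub, he]
    linear_combination (norm := abel) sum_coc Q M F hF g h
  -- Step 3
  choose a ha using fun g h => hζ (F' g h) (hF'n g h)
  -- Step 4
  set m := addOrderOf ζ with hm
  have hmpos : 0 < m := by
    have hdvd : m ∣ n := addOrderOf_dvd_of_nsmul_eq_zero hζn
    exact Nat.pos_of_dvd_of_pos hdvd hnpos
  have hmζ : (m : ℤ) • ζ = 0 := by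
    rw [natCast_zsmul]; exact addOrderOf_nsmul_eq_zero ζ
  have hda : ∀ g h j, (m : ℤ) ∣ a h j - a (g * h) j + a g (h * j) - a g h := by
    intro g h j
    rw [addOrderOf_dvd_iff_zsmul_eq_zero]
    simp only [sub_smul, add_smul, ← ha]
    linear_combination (norm := abel) -(hF'coc g h j)
  choose b hb using hda
  have hm0 : (m : ℤ) ≠ 0 := by exact_mod_cast hmpos.ne'
  have hbcoc : ∀ g h j l : Q, b h j l - b (g * h) j l + b g (h * j) l - b g h (j * l)
      + b g h j = 0 := by
    intro g h j l
    apply mul_left_cancel₀ hm0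
    rw [mul_zero]
    simp only [mul_add, mul_sub, ← hb, mul_assoc]
    ring
  obtain ⟨c₂, hc₂⟩ := H3 (fun x => b x.1 x.2.1 x.2.2) hbcoc
  simp only at hc₂
  set a' : Q → Q → ℤ := fun g h => a g h - m * c₂ (g, h) with ha'
  have ha'coc : ∀ g h j, a' (g * h) j + a' g h = a' h j + a' g (h * j) := by
    intro g h j
    simp only [ha']
    have h1 := hb g h j
    have h2 := hc₂ g h j
    rw [h2] at h1
    linear_combination -h1
  have ha'ζ : ∀ g h, F' g h = a' g h • ζ := by
    intro g h
    simp only [ha', sub_smul, mul_smul]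
    rw [smul_comm, hmζ, smul_zero, sub_zero]
    exact ha g h
  -- Step 7
  have hs := sum_coc Q ℤ a' ha'coc
  obtain ⟨ξ, hξ⟩ := hdiv ζ
  refine ⟨fun g => (∑ t, a' g t) • ξ + e g, fun g h => ?_⟩
  have h1 : F' g h = (∑ t, a' h t + ∑ t, a' g t - ∑ t, a' (g * h) t) • ξ := by
    rw [ha'ζ, ← hξ, ← natCast_zsmul, ← mul_smul]
    congr 1
    have := hs g h
    rw [nsmul_eq_mul] at this
    linear_combination this
  have h2 : F g h = F' g h - e (g * h) + e g + e h := by
    simp only [hF']; abel
  rw [h2, h1]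
  module


/-- Let Q be a finite group such that H^3(Q, ℤ) = 0 for the trivial action, and let k be a separably
closed field of characteristic p ≥ 0 with p not dividing the order of Q. Then H^2(Q, k^×) = 0, where
Q acts trivially on the units of k. (Groups and fields are taken in the lowest universe, as integral
coefficients in the group-cohomology library require.) -/
theorem result (Q : Type) [Group Q] [Finite Q]
    (hQ : Subsingleton (groupCohomology (Rep.trivial ℤ Q ℤ) 3)) (k : Type) [Field k] [IsSepClosed k]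
    (p : ℕ) [CharP k p] (hp : ¬ p ∣ Nat.card Q) :
    Subsingleton (groupCohomology (Rep.trivial ℤ Q (Additive kˣ)) 2) := by
  classical
  haveI : Fintype Q := Fintype.ofFinite Q
  set A := Rep.trivial ℤ Q (Additive kˣ) with hA
  have hcard : Nat.card Q = Fintype.card Q := Nat.card_eq_fintype_card
  have hn : (Fintype.card Q : k) ≠ 0 := by
    rw [Ne, CharP.cast_eq_zero_iff k p, ← hcard]
    exact hp
  have hnpos : 0 < Fintype.card Q := Fintype.card_pos
  haveI : NeZero (Fintype.card Q : k) := ⟨hn⟩
  haveI : NeZero (Fintype.card Q) := ⟨hnpos.ne'⟩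
  have hroot : ∀ u : Additive kˣ, ∃ w : Additive kˣ, Fintype.card Q • w = u := by
    intro u
    obtain ⟨z, hz⟩ := IsSepClosed.exists_pow_nat_eq ((Additive.toMul u : kˣ) : k) (Fintype.card Q)
    have hz0 : z ≠ 0 := by
      rintro rfl
      rw [zero_pow hnpos.ne'] at hz
      exact (Additive.toMul u).ne_zero hz.symm
    refine ⟨Additive.ofMul (Units.mk0 z hz0), ?_⟩
    rw [← ofMul_pow]
    apply Additive.toMul.injective
    rw [toMul_ofMul]
    exact Units.ext (by simpa using hz)
  obtain ⟨gen, hgen⟩ := IsCyclic.exists_generator (α := rootsOfUnity (Fintype.card Q) k)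
  have hgenn : Fintype.card Q • Additive.ofMul (gen : kˣ) = 0 := by
    rw [← ofMul_pow]
    have := gen.2
    rw [mem_rootsOfUnity] at this
    rw [this]
    rfl
  have hζ : ∀ u : Additive kˣ, Fintype.card Q • u = 0 → ∃ a : ℤ, u = a • Additive.ofMul (gen : kˣ) := by
    intro u hu
    have hmem : Additive.toMul u ∈ rootsOfUnity (Fintype.card Q) k := by
      rw [mem_rootsOfUnity]
      have := congrArg Additive.toMul hu
      rwa [toMul_nsmul, toMul_zero] at this
    obtain ⟨a, ha⟩ := Subgroup.mem_zpowers_iff.1 (hgen ⟨Additive.toMul u, hmem⟩)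
    refine ⟨a, ?_⟩
    rw [← ofMul_zpow]
    apply Additive.toMul.injective
    rw [toMul_ofMul]
    have := congrArg (fun z : rootsOfUnity (Fintype.card Q) k => (z : kˣ)) ha
    simp only [Subgroup.coe_zpow] at this
    exact this.symm
  have main : ∀ x : cocycles₂ A, (x : Q × Q → Additive kˣ) ∈ coboundaries₂ A := by
    intro x
    have hx := (mem_cocycles₂_iff (x : Q × Q → Additive kˣ)).1 x.2
    obtain ⟨E, hE⟩ := add_main Q (Additive kˣ) hroot _ hgenn hζ (h3_lemma Q hQ)
      (fun g h => x (g, h)) (by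
        intro g h j
        have := hx g h j
        simpa [A] using this)
    refine ⟨E, ?_⟩
    funext ⟨g, h⟩
    rw [d₁₂_hom_apply]
    have := hE g h
    rw [this]
    simp only [A, Rep.trivial_ρ, Representation.trivial_apply]
    abel
  refine ⟨fun a b => ?_⟩
  induction a using H2_induction_on with
  | h x =>
    induction b using H2_induction_on with
    | h y =>
      rw [(H2π_eq_zero_iff x).2 (main x), (H2π_eq_zero_iff y).2 (main y)]

end Groth.Agent.S19224
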