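import Groth.Statements.S19235
import Mathlib
import Groth.Agent.S19234

set_option autoImplicit false
universe u v
open SigmaLin

namespace Groth.Agent.S19235

/-- Let p be a prime number and R a local ring whose maximal ideal is generated by p and in which p^n =
0 for some n. Let σ be a ring endomorphism of R and σ̄ the induced endomorphism of the residue field
k = R/(p); assume σ̄ is surjective, that for every m and every tuple (b_0, …, b_m) in k, not all
zero, the equation x = Σ_{i=0}^{m} σ̄^{i+1}(x) σ̄^{i}(b_{m-i}) has a nonzero solution x in k, and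
that for every c in k there is y with σ̄(y) − y + c = 0. Let M be a finitely generated R-module and
T : M → M additive with T (r • m) = σ r • T m. Then the map m ↦ m − T m is surjective on M. -/
theorem result
    (p : ℕ) [Fact p.Prime] (R : Type u) [CommRing R] [IsLocalRing R]
    (hmax : IsLocalRing.maximalIdeal R = Ideal.span {(p : R)}) (n : ℕ) (hn : (p : R) ^ n = 0)
    (σ : R →+* R) (σbar : IsLocalRing.ResidueField R →+* IsLocalRing.ResidueField R)
    (hσbar : ∀ r : R, σbar (IsLocalRing.residue R r) = IsLocalRing.residue R (σ r))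
    (hsurj : Function.Surjective σbar)
    (h2 : ∀ (n : ℕ) (b : Fin (n + 1) → IsLocalRing.ResidueField R), b ≠ 0 →
      ∃ x : IsLocalRing.ResidueField R, x ≠ 0 ∧ x = ∑ i : Fin (n + 1), (⇑σbar)^[i.val + 1] x * (⇑σbar)^[i.val] (b (Fin.rev i)))
    (h3 : ∀ c : IsLocalRing.ResidueField R, ∃ y : IsLocalRing.ResidueField R, σbar y - y + c = 0)
    (M : Type v) [AddCommGroup M] [Module R M] [Module.Finite R M] (T : M →ₛₗ[σ] M) :
    Function.Surjective (fun m : M => m - T m) := by
  classical
  set 𝔪 : Ideal R := IsLocalRing.maximalIdeal R with h𝔪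
  set Q : Submodule R M := 𝔪 • (⊤ : Submodule R M) with hQ
  have hσp : ∀ j : ℕ, σ ((p : R) ^ j) = (p : R) ^ j := fun j => by rw [map_pow, map_natCast]
  have hσ𝔪 : ∀ r ∈ 𝔪, σ r ∈ 𝔪 := by
    intro r hr
    rw [hmax, Ideal.mem_span_singleton'] at hr ⊢
    obtain ⟨a, rfl⟩ := hr
    exact ⟨σ a, by rw [map_mul, map_natCast]⟩
  have hTQ : Q ≤ Q.comap T := by
    intro x hx
    rw [Submodule.mem_comap]
    refine Submodule.smul_induction_on (p := fun x => T x ∈ Q) hx ?_ ?_
    · intro r hr m _
      rw [LinearMap.map_smulₛₗ]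
      exact Submodule.smul_mem_smul (hσ𝔪 r hr) trivial
    · intro x y hx hy
      rw [map_add]; exact Submodule.add_mem _ hx hy
  letI inst1 : Module (IsLocalRing.ResidueField R) (M ⧸ Q) :=
    (Module.isTorsionBySet_quotient_ideal_smul M 𝔪).module
  haveI inst2 : Module.Finite (IsLocalRing.ResidueField R) (M ⧸ Q) :=
    show Module.Finite (R ⧸ 𝔪) (M ⧸ 𝔪 • (⊤ : Submodule R M)) from inferInstance
  have hsmul : ∀ (r : R) (m : M), (IsLocalRing.residue R r) • (Submodule.Quotient.mk m : M ⧸ Q) =
      Submodule.Quotient.mk (r • m) := fun r m => rfl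
  let Tbar : (M ⧸ Q) →ₛₗ[σbar] (M ⧸ Q) :=
    { toFun := Q.mapQ Q T hTQ
      map_add' := fun x y => map_add _ x y
      map_smul' := by
        intro c x
        obtain ⟨r, rfl⟩ := IsLocalRing.residue_surjective c
        obtain ⟨m, rfl⟩ := Submodule.Quotient.mk_surjective _ x
        rw [hsmul, Submodule.mapQ_apply, Submodule.mapQ_apply, LinearMap.map_smulₛₗ, hσbar, hsmul] }
  have hTbar : ∀ m : M, Tbar (Submodule.Quotient.mk m) = Submodule.Quotient.mk (T m) := fun m => rfl
  have hsurjbar := (Groth.Agent.S19234.result (IsLocalRing.ResidueField R) σbar hsurj (M ⧸ Q) Tbar h2 h3).1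
  -- main induction
  have hP : ∀ d j : ℕ, d + j = n → ∀ x : M, ∃ u : M, u - T u = ((p : R) ^ j) • x := by
    intro d
    induction d with
    | zero =>
      intro j hj x
      have : j = n := by omega
      subst this
      exact ⟨0, by rw [hn, zero_smul, map_zero, sub_zero]⟩
    | succ d ih =>
      intro j hj x
      obtain ⟨ubar, hubar⟩ := hsurjbar (Submodule.Quotient.mk x)
      obtain ⟨u, rfl⟩ := Submodule.Quotient.mk_surjective _ ubar
      simp only [] at hubar
      rw [hTbar, ← Submodule.Quotient.mk_sub, Submodule.Quotient.eq] at hubar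
      rw [hQ, hmax, Submodule.ideal_span_singleton_smul,
        Submodule.mem_smul_pointwise_iff_exists] at hubar
      obtain ⟨y, -, hy⟩ := hubar
      obtain ⟨u', hu'⟩ := ih (j + 1) (by omega) y
      refine ⟨(p : R) ^ j • u - u', ?_⟩
      rw [map_sub, LinearMap.map_smulₛₗ, hσp]
      have e1 : (p : R) ^ j • u - u' - ((p : R) ^ j • T u - T u') =
          (p : R) ^ j • (u - T u - x) - (u' - T u') + (p : R) ^ j • x := by
        rw [smul_sub, smul_sub]; abel
      rw [e1, hu', ← hy, pow_succ, mul_smul]
      simp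
  intro m
  obtain ⟨u, hu⟩ := hP n 0 (by omega) m
  exact ⟨u, by simpa using hu⟩

end Groth.Agent.S19235
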