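import Groth.Statements.S19236
import Mathlib
import Groth.Agent.S19234
import Groth.Agent.S19235

set_option autoImplicit false
universe u v
open SigmaLin

namespace Groth.Agent.S19236

/-- Let p be a prime number and R a local ring whose maximal ideal is generated by p and in which p^n =
0 for some n. Let σ be a ring endomorphism of R and σ̄ the induced endomorphism of the residue field
k = R/(p); assume σ̄ is surjective, that for every m and every tuple (b_0, …, b_m) in k, not all
zero, the equation x = Σ_{i=0}^{m} σ̄^{i+1}(x) σ̄^{i}(b_{m-i}) has a nonzero solution x in k, that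
for every c in k there is y with σ̄(y) − y + c = 0, and that every element of k fixed by σ̄ is the
residue of an element of R fixed by σ. Let M be a finitely generated R-module and T : M → M additive
with T (r • m) = σ r • T m. Then the T-fixed elements of M form a finitely generated module over the
ring of σ-fixed elements of R: there are finitely many T-fixed elements such that every T-fixed
element is a linear combination of them with σ-fixed coefficients. -/
theorem result
    (p : ℕ) [Fact p.Prime] (R : Type u) [CommRing R] [IsLocalRing R]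
    (hmax : IsLocalRing.maximalIdeal R = Ideal.span {(p : R)}) (n : ℕ) (hn : (p : R) ^ n = 0)
    (σ : R →+* R) (σbar : IsLocalRing.ResidueField R →+* IsLocalRing.ResidueField R)
    (hσbar : ∀ r : R, σbar (IsLocalRing.residue R r) = IsLocalRing.residue R (σ r))
    (hsurj : Function.Surjective σbar)
    (h2 : ∀ (n : ℕ) (b : Fin (n + 1) → IsLocalRing.ResidueField R), b ≠ 0 →
      ∃ x : IsLocalRing.ResidueField R, x ≠ 0 ∧ x = ∑ i : Fin (n + 1), (⇑σbar)^[i.val + 1] x * (⇑σbar)^[i.val] (b (Fin.rev i)))
    (h3 : ∀ c : IsLocalRing.ResidueField R, ∃ y : IsLocalRing.ResidueField R, σbar y - y + c = 0)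
    (M : Type v) [AddCommGroup M] [Module R M] [Module.Finite R M] (T : M →ₛₗ[σ] M)
    (hlift : ∀ x : IsLocalRing.ResidueField R, σbar x = x → ∃ r : R, σ r = r ∧ IsLocalRing.residue R r = x) :
    ∃ s : Finset M, (∀ m ∈ s, T m = m) ∧
      ∀ m : M, T m = m → ∃ c : M → R, (∀ x ∈ s, σ (c x) = c x) ∧ m = ∑ x ∈ s, c x • x := by
  classical
  let R₀ : Subring R := RingHom.eqLocus σ (RingHom.id R)
  have hR₀ : ∀ c : R, c ∈ R₀ ↔ σ c = c := fun c => Iff.rfl
  have hσp : ∀ j : ℕ, σ ((p : R) ^ j) = (p : R) ^ j := fun j => by rw [map_pow, map_natCast]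
  have hσ𝔪 : ∀ r ∈ IsLocalRing.maximalIdeal R, σ r ∈ IsLocalRing.maximalIdeal R := by
    intro r hr
    rw [hmax, Ideal.mem_span_singleton'] at hr ⊢
    obtain ⟨a, rfl⟩ := hr
    exact ⟨σ a, by rw [map_mul, map_natCast]⟩
  -- general claim
  have key : ∀ j : ℕ, ∀ (M : Type v) [AddCommGroup M] [Module R M] [Module.Finite R M]
      (T : M →ₛₗ[σ] M), (∀ m : M, (p : R) ^ j • m = 0) →
      ∃ s : Finset M, (∀ m ∈ s, T m = m) ∧
        ∀ m : M, T m = m → m ∈ Submodule.span R₀ (s : Set M) := by
    intro j
    induction j with
    | zero =>
      intro M _ _ _ T h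
      refine ⟨∅, by simp, fun m _ => ?_⟩
      have := h m
      rw [pow_zero, one_smul] at this
      rw [this]
      exact zero_mem _
    | succ j ih =>
      intro M _ _ _ T hkill
      set 𝔪 : Ideal R := IsLocalRing.maximalIdeal R with h𝔪
      set Q : Submodule R M := 𝔪 • (⊤ : Submodule R M) with hQ
      have hQp : ∀ x : M, x ∈ Q ↔ ∃ y : M, (p : R) • y = x := by
        intro x
        rw [hQ, hmax, Submodule.ideal_span_singleton_smul,
          Submodule.mem_smul_pointwise_iff_exists]
        simp
      have hTQ : Q ≤ Q.comap T := by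
        intro x hx
        rw [Submodule.mem_comap]
        refine Submodule.smul_induction_on (p := fun x => T x ∈ Q) hx ?_ ?_
        · intro r hr m _
          rw [LinearMap.map_smulₛₗ]
          exact Submodule.smul_mem_smul (hσ𝔪 r hr) trivial
        · intro x y hx hy
          rw [map_add]; exact Submodule.add_mem _ hx hy
      let T' : Q →ₛₗ[σ] Q := (T.domRestrict Q).codRestrict Q (fun x => hTQ x.2)
      have hT' : ∀ x : Q, (T' x : M) = T x := fun x => rfl
      haveI hfinQ : Module.Finite R Q := by
        rw [Module.Finite.iff_fg]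
        refine Submodule.FG.smul ?_ Module.Finite.fg_top
        rw [hmax]
        exact ⟨{(p : R)}, by simp⟩
      have hkill' : ∀ x : Q, (p : R) ^ j • x = 0 := by
        intro x
        obtain ⟨y, hy⟩ := (hQp x).mp x.2
        apply Subtype.ext
        rw [Submodule.coe_smul, ← hy, smul_smul, ← pow_succ, hkill]
        rfl
      obtain ⟨s', hs'fix, hs'span⟩ := ih Q T' hkill'
      -- residue module
      letI inst1 : Module (IsLocalRing.ResidueField R) (M ⧸ Q) :=
        (Module.isTorsionBySet_quotient_ideal_smul M 𝔪).module
      haveI inst2 : Module.Finite (IsLocalRing.ResidueField R) (M ⧸ Q) :=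
        show Module.Finite (R ⧸ 𝔪) (M ⧸ 𝔪 • (⊤ : Submodule R M)) from inferInstance
      have hsmul : ∀ (r : R) (m : M),
          (IsLocalRing.residue R r) • (Submodule.Quotient.mk m : M ⧸ Q) =
          Submodule.Quotient.mk (r • m) := fun r m => rfl
      let Tbar : (M ⧸ Q) →ₛₗ[σbar] (M ⧸ Q) :=
        { toFun := Q.mapQ Q T hTQ
          map_add' := fun x y => map_add _ x y
          map_smul' := by
            intro c x
            obtain ⟨r, rfl⟩ := IsLocalRing.residue_surjective c
            obtain ⟨m, rfl⟩ := Submodule.Quotient.mk_surjective _ x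
            rw [hsmul, Submodule.mapQ_apply, Submodule.mapQ_apply, LinearMap.map_smulₛₗ,
              hσbar, hsmul] }
      have hTbar : ∀ m : M, Tbar (Submodule.Quotient.mk m) = Submodule.Quotient.mk (T m) :=
        fun m => rfl
      set I : Submodule (IsLocalRing.ResidueField R) (M ⧸ Q) :=
        ⨅ n : ℕ, Submodule.span (IsLocalRing.ResidueField R) (Set.range ((⇑Tbar)^[n])) with hI
      obtain ⟨-, b, hb⟩ : Function.Surjective (fun v : M ⧸ Q => v - Tbar v) ∧
          ∃ b : Module.Basis (Fin (Module.finrank (IsLocalRing.ResidueField R) I))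
            (IsLocalRing.ResidueField R) I, ∀ i, Tbar (b i : M ⧸ Q) = (b i : M ⧸ Q) :=
        Groth.Agent.S19234.result (IsLocalRing.ResidueField R) σbar hsurj (M ⧸ Q) Tbar h2 h3
      -- lifting fixed vectors
      have hlift_fix : ∀ x : M, Tbar (Submodule.Quotient.mk x) = Submodule.Quotient.mk x →
          ∃ g : M, T g = g ∧ (Submodule.Quotient.mk g : M ⧸ Q) = Submodule.Quotient.mk x := by
        intro x hx
        rw [hTbar, Submodule.Quotient.eq] at hx
        obtain ⟨u, hu⟩ := Groth.Agent.S19235.result p R hmax n hn σ σbar hσbar hsurj h2 h3 Q T'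
          ⟨T x - x, hx⟩
        have hu' : (u : M) - T u = T x - x := by
          have := congrArg Subtype.val hu
          simpa [hT'] using this
        refine ⟨x + u, ?_, ?_⟩
        · rw [map_add]
          have : T (u : M) = (u : M) - (T x - x) := by rw [← hu']; abel
          rw [this]; abel
        · rw [Submodule.Quotient.mk_add, (Submodule.Quotient.mk_eq_zero Q).mpr u.2, add_zero]
      have hg : ∀ i, ∃ g : M, T g = g ∧ (Submodule.Quotient.mk g : M ⧸ Q) = (b i : M ⧸ Q) := by
        intro i
        obtain ⟨x, hx⟩ := Submodule.Quotient.mk_surjective Q (b i : M ⧸ Q)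
        have := hlift_fix x (by rw [hx]; exact hb i)
        rw [hx] at this
        exact this
      choose g hgfix hgmk using hg
      refine ⟨Finset.univ.image g ∪ s'.image Subtype.val, ?_, ?_⟩
      · intro m hm
        rw [Finset.mem_union, Finset.mem_image, Finset.mem_image] at hm
        rcases hm with ⟨i, -, rfl⟩ | ⟨x, hx, rfl⟩
        · exact hgfix i
        · have := hs'fix x hx
          rw [← hT', this]
      · intro m hm
        -- the residue class
        have hmbar : Tbar (Submodule.Quotient.mk m) = Submodule.Quotient.mk m := by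
          rw [hTbar, hm]
        have hmI : (Submodule.Quotient.mk m : M ⧸ Q) ∈ I := by
          rw [hI, Submodule.mem_iInf]
          intro n'
          exact Submodule.subset_span ⟨Submodule.Quotient.mk m, Function.iterate_fixed hmbar n'⟩
        set cbar : Fin _ → IsLocalRing.ResidueField R := fun i => b.repr ⟨_, hmI⟩ i with hcbar
        have hsum : (Submodule.Quotient.mk m : M ⧸ Q) = ∑ i, cbar i • (b i : M ⧸ Q) := by
          have := b.sum_repr ⟨_, hmI⟩
          have h2 := congrArg (Subtype.val) this
          simp only [Submodule.coe_sum, Submodule.coe_smul] at h2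
          exact h2.symm
        have hcfix : ∀ i, σbar (cbar i) = cbar i := by
          have h3 : (⟨_, hmI⟩ : I) = ∑ i, σbar (cbar i) • b i := by
            apply Subtype.ext
            simp only [Submodule.coe_sum, Submodule.coe_smul]
            conv_lhs => rw [← hmbar, hsum, map_sum]
            refine Finset.sum_congr rfl fun i _ => ?_
            rw [LinearMap.map_smulₛₗ, hb i]
          intro i
          have h4 := congrFun (b.repr_sum_self (fun i => σbar (cbar i))) i
          rw [← h3] at h4
          exact h4.symm
        have hc : ∀ i, ∃ r : R, σ r = r ∧ IsLocalRing.residue R r = cbar i :=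
          fun i => hlift (cbar i) (hcfix i)
        choose c hcσ hcres using hc
        set m₁ : M := m - ∑ i, c i • g i with hm₁
        have hm₁fix : T m₁ = m₁ := by
          rw [hm₁, map_sub, hm, map_sum]
          congr 1
          refine Finset.sum_congr rfl fun i _ => ?_
          rw [LinearMap.map_smulₛₗ, hcσ, hgfix]
        have hm₁Q : m₁ ∈ Q := by
          rw [← Submodule.Quotient.mk_eq_zero Q, hm₁, Submodule.Quotient.mk_sub, hsum, sub_eq_zero]
          have : (Submodule.Quotient.mk (∑ i, c i • g i) : M ⧸ Q) =
              ∑ i, (Submodule.Quotient.mk (c i • g i) : M ⧸ Q) := map_sum Q.mkQ _ _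
          rw [this]
          refine Finset.sum_congr rfl fun i _ => ?_
          rw [← hsmul, hcres, hgmk]
        have hspan1 := hs'span ⟨m₁, hm₁Q⟩ (Subtype.ext (by rw [hT']; exact hm₁fix))
        have htransfer : ∀ x : Q, x ∈ Submodule.span R₀ (s' : Set Q) →
            (x : M) ∈ Submodule.span R₀
              ((Finset.univ.image g ∪ s'.image Subtype.val : Finset M) : Set M) := by
          intro x hx
          induction hx using Submodule.span_induction with
          | mem y hy =>
            apply Submodule.subset_span
            rw [Finset.mem_coe, Finset.mem_union]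
            right
            exact Finset.mem_image_of_mem _ hy
          | zero => simp
          | add x y _ _ hx hy =>
            rw [Submodule.coe_add]; exact Submodule.add_mem _ hx hy
          | smul a x _ hx =>
            have : ((a • x : Q) : M) = a • (x : M) := rfl
            rw [this]
            exact Submodule.smul_mem _ _ hx
        have hm_eq : m = m₁ + ∑ i, c i • g i := by rw [hm₁]; abel
        rw [hm_eq]
        refine Submodule.add_mem _ (htransfer _ hspan1) (Submodule.sum_mem _ fun i _ => ?_)
        have : c i • g i = (⟨c i, (hR₀ _).mpr (hcσ i)⟩ : R₀) • g i := rfl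
        rw [this]
        refine Submodule.smul_mem _ _ (Submodule.subset_span ?_)
        rw [Finset.mem_coe, Finset.mem_union]
        left
        exact Finset.mem_image_of_mem _ (Finset.mem_univ i)
  obtain ⟨s, hsfix, hsspan⟩ := key n M T (fun m => by rw [hn, zero_smul])
  refine ⟨s, hsfix, fun m hm => ?_⟩
  obtain ⟨f, -, hf⟩ := Submodule.mem_span_finset.mp (hsspan m hm)
  refine ⟨fun x => (f x : R), fun x _ => (f x).2, ?_⟩
  rw [← hf]
  rfl

end Groth.Agent.S19236
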