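import Groth.Statements.S19237
import Mathlib
import Groth.Agent.S19235
import Groth.Agent.Lib.helper28.TruncWitt

set_option autoImplicit false
universe u v
open SigmaLin

namespace Groth.Agent.S19237

/-- Let k be an algebraically closed field of characteristic p > 0 and n a natural number; let M be a
finitely generated module over the ring W_n(k) of truncated Witt vectors and T : M → M an additive
map with T (c • m) = σ(c) • T m, where σ is either the Frobenius endomorphism of W_n(k) (induced by
the p-th power map of k) or its inverse (induced by the inverse of the p-th power map). Then m ↦ T m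
− m is surjective on M. (The printed statement takes k perfect and separably closed, which is the
same as algebraically closed.) -/
theorem result
    (p : ℕ) [Fact p.Prime] (k : Type u) [Field k] [CharP k p] [IsAlgClosed k] (n : ℕ)
    (σ : TruncatedWittVector p n k →+* TruncatedWittVector p n k)
    (hσ : σ = WittGrp.truncMap p n (frobenius k p) ∨
      σ = WittGrp.truncMap p n (frobeniusEquiv k p).symm.toRingHom)
    (M : Type v) [AddCommGroup M] [Module (TruncatedWittVector p n k) M] [Module.Finite (TruncatedWittVector p n k) M]
    (T : M →ₛₗ[σ] M) :
    Function.Surjective (fun m : M => T m - m) := by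
  rcases n with _ | n
  · haveI : Subsingleton (TruncatedWittVector p 0 k) :=
      ⟨fun a b => TruncatedWittVector.ext (fun i => i.elim0)⟩
    haveI : Subsingleton M := Module.subsingleton (TruncatedWittVector p 0 k) M
    intro m
    exact ⟨0, Subsingleton.elim _ _⟩
  · obtain ⟨σbar, hσbar, hsurj, h2, h3, -⟩ :=
      Groth.Agent.Lib.helper28.TruncWitt.exists_sigmaBar p k n σ hσ
    have key := Groth.Agent.S19235.result p (TruncatedWittVector p (n + 1) k)
      (Groth.Agent.Lib.helper28.TruncWitt.maximalIdeal_eq p k n) (n + 1)
      (Groth.Agent.Lib.helper28.TruncWitt.p_pow_eq_zero p k (n + 1)) σ σbar hσbar hsurj h2 h3 M T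
    intro m
    obtain ⟨u, hu⟩ := key (-m)
    refine ⟨u, ?_⟩
    have hu' : u - T u = -m := hu
    show T u - u = m
    rw [← neg_sub, hu', neg_neg]

end Groth.Agent.S19237
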