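import Groth.Statements.S19238
import Mathlib
import Groth.Agent.S19236
import Groth.Agent.Lib.helper28.TruncWitt

set_option autoImplicit false
universe u v
open SigmaLin

namespace Groth.Agent.S19238

/-- Let k be an algebraically closed field of characteristic p > 0 and n a natural number; let M be a
finitely generated module over the ring W_n(k) of truncated Witt vectors and T : M → M an additive
map with T (c • m) = σ(c) • T m, where σ is either the Frobenius endomorphism of W_n(k) or its
inverse. Then the set of T-fixed elements of M is finite. (The printed statement says that the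
T-fixed elements form a finitely generated module over the σ-fixed subring of W_n(k), which is the
finite ring of integers modulo p^n.) -/
theorem result
    (p : ℕ) [Fact p.Prime] (k : Type u) [Field k] [CharP k p] [IsAlgClosed k] (n : ℕ)
    (σ : TruncatedWittVector p n k →+* TruncatedWittVector p n k)
    (hσ : σ = WittGrp.truncMap p n (frobenius k p) ∨
      σ = WittGrp.truncMap p n (frobeniusEquiv k p).symm.toRingHom)
    (M : Type v) [AddCommGroup M] [Module (TruncatedWittVector p n k) M] [Module.Finite (TruncatedWittVector p n k) M]
    (T : M →ₛₗ[σ] M) :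
    {m : M | T m = m}.Finite := by
  classical
  rcases n with _ | n
  · haveI : Subsingleton (TruncatedWittVector p 0 k) :=
      ⟨fun a b => TruncatedWittVector.ext (fun i => i.elim0)⟩
    haveI : Subsingleton M := Module.subsingleton (TruncatedWittVector p 0 k) M
    exact Set.toFinite _
  · obtain ⟨σbar, hσbar, hsurj, h2, h3, hlift⟩ :=
      Groth.Agent.Lib.helper28.TruncWitt.exists_sigmaBar p k n σ hσ
    obtain ⟨s, hsfix, hsgen⟩ := Groth.Agent.S19236.result p (TruncatedWittVector p (n + 1) k)
      (Groth.Agent.Lib.helper28.TruncWitt.maximalIdeal_eq p k n) (n + 1)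
      (Groth.Agent.Lib.helper28.TruncWitt.p_pow_eq_zero p k (n + 1)) σ σbar hσbar hsurj h2 h3 M T
      hlift
    have hfin := Groth.Agent.Lib.helper28.TruncWitt.finite_fixed p k (n + 1) σ hσ
    haveI : Finite ↥{r : TruncatedWittVector p (n + 1) k | σ r = r} := hfin.to_subtype
    let Φ : (↥s → ↥{r : TruncatedWittVector p (n + 1) k | σ r = r}) → M :=
      fun c => ∑ x : ↥s, ((c x : ↥{r : TruncatedWittVector p (n + 1) k | σ r = r}) :
        TruncatedWittVector p (n + 1) k) • (x : M)
    refine (Set.finite_range Φ).subset ?_
    intro m hm
    obtain ⟨c, hc, hmc⟩ := hsgen m hm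
    refine ⟨fun x => ⟨c x, hc x x.2⟩, ?_⟩
    simp only [Φ]
    rw [hmc, ← Finset.sum_coe_sort s (fun x => c x • x)]

end Groth.Agent.S19238
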