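import Groth.Statements.S19244
import Mathlib

set_option autoImplicit false
universe v v' u u'
open HomAlg3

namespace Groth.Agent.S19244

open CategoryTheory CategoryTheory.Limits

section
variable {A : Type u} [Category.{v} A] [Abelian A]

lemma zsmul_id_kernel (Y : A) (n : ℤ) : n • 𝟙 (kernel (n • 𝟙 Y)) = 0 := by
  rw [← cancel_mono (kernel.ι (n • 𝟙 Y))]
  rw [Preadditive.zsmul_comp, Category.id_comp, zero_comp]
  have := kernel.condition (n • 𝟙 Y)
  rw [Preadditive.comp_zsmul, Category.comp_id] at this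
  exact this

lemma zsmul_id_cokernel (Y : A) (n : ℤ) : n • 𝟙 (cokernel (n • 𝟙 Y)) = 0 := by
  rw [← cancel_epi (cokernel.π (n • 𝟙 Y))]
  rw [Preadditive.comp_zsmul, Category.comp_id, comp_zero]
  have := cokernel.condition (n • 𝟙 Y)
  rw [Preadditive.zsmul_comp, Category.id_comp] at this
  exact this

lemma exists_quasi_inverse {Y Y' : A} (s : Y ⟶ Y') (n₁ n₂ : ℤ)
    (h₁ : n₁ • 𝟙 (kernel s) = 0) (h₂ : n₂ • 𝟙 (cokernel s) = 0) :
    ∃ t : Y' ⟶ Y, s ≫ t = (n₂ * n₁) • 𝟙 Y := by
  have hu : (n₂ • 𝟙 Y') ≫ cokernel.π s = 0 := by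
    rw [Preadditive.zsmul_comp, Category.id_comp]
    have : cokernel.π s ≫ (n₂ • 𝟙 (cokernel s)) = 0 := by rw [h₂, comp_zero]
    rw [Preadditive.comp_zsmul, Category.comp_id] at this
    exact this
  have hv : kernel.ι s ≫ (n₁ • 𝟙 Y) = 0 := by
    rw [Preadditive.comp_zsmul, Category.comp_id]
    have : (n₁ • 𝟙 (kernel s)) ≫ kernel.ι s = 0 := by rw [h₁, zero_comp]
    rw [Preadditive.zsmul_comp, Category.id_comp] at this
    exact this
  let u : Y' ⟶ Abelian.image s := kernel.lift (cokernel.π s) (n₂ • 𝟙 Y') hu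
  let v : Abelian.coimage s ⟶ Y := cokernel.desc (kernel.ι s) (n₁ • 𝟙 Y) hv
  have hu' : u ≫ Abelian.image.ι s = n₂ • 𝟙 Y' := kernel.lift_ι _ _ _
  have hv' : Abelian.coimage.π s ≫ v = n₁ • 𝟙 Y := cokernel.π_desc _ _ _
  have hfac : Abelian.coimage.π s ≫ (Abelian.coimageIsoImage s).hom ≫ Abelian.image.ι s = s := by
    exact Abelian.coimage_image_factorisation s
  have hsu : s ≫ u = n₂ • (Abelian.coimage.π s ≫ (Abelian.coimageIsoImage s).hom) := by
    rw [← cancel_mono (Abelian.image.ι s)]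
    rw [Category.assoc, hu', Preadditive.comp_zsmul, Category.comp_id, Preadditive.zsmul_comp,
      Category.assoc, hfac]
  refine ⟨u ≫ (Abelian.coimageIsoImage s).inv ≫ v, ?_⟩
  rw [← Category.assoc, hsu, Preadditive.zsmul_comp, Category.assoc, Iso.hom_inv_id_assoc, hv',
    mul_smul]

end

theorem result'
    {A : Type u} [Category.{v} A] [Abelian A] {D : Type u'} [Category.{v'} D] [Preadditive D]
    (P : ObjectProperty A) (hP : ∀ X : A, P X ↔ ∃ n : ℤ, n ≠ 0 ∧ n • (𝟙 X) = 0) [P.IsSerreClass]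
    (L : A ⥤ D) [L.Additive] [L.IsLocalization P.isoModSerre] (X Y : A) :
    (∀ n : ℤ, n ≠ 0 → Function.Bijective (fun g : L.obj X ⟶ L.obj Y => n • g)) ∧
    (∀ f : X ⟶ Y, L.map f = 0 ↔ ∃ n : ℤ, n ≠ 0 ∧ n • f = 0) ∧
    (∀ g : L.obj X ⟶ L.obj Y, ∃ (n : ℤ) (f : X ⟶ Y), n ≠ 0 ∧ n • g = L.map f) := by
  refine ⟨?_, ?_, ?_⟩
  · intro n hn
    have hW : P.isoModSerre (n • 𝟙 Y) :=
      ⟨(hP _).2 ⟨n, hn, zsmul_id_kernel Y n⟩, (hP _).2 ⟨n, hn, zsmul_id_cokernel Y n⟩⟩
    have hiso : IsIso (L.map (n • 𝟙 Y)) :=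
      (ObjectProperty.SerreClassLocalization.isIso_map_iff L P _).2 hW
    have hform : ∀ g : L.obj X ⟶ L.obj Y, n • g = g ≫ L.map (n • 𝟙 Y) := by
      intro g
      rw [Functor.map_zsmul, L.map_id, Preadditive.comp_zsmul, Category.comp_id]
    constructor
    · intro g g' h
      simp only [hform] at h
      exact (cancel_mono _).1 h
    · intro h
      refine ⟨h ≫ inv (L.map (n • 𝟙 Y)), ?_⟩
      simp only [hform, Category.assoc, IsIso.inv_hom_id, Category.comp_id]
  · intro f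
    rw [ObjectProperty.SerreClassLocalization.map_eq_zero_iff L P, hP]
    have hf : Abelian.factorThruImage f ≫ Abelian.image.ι f = f := Abelian.image.fac f
    constructor
    · rintro ⟨n, hn, h⟩
      refine ⟨n, hn, ?_⟩
      have : n • f = Abelian.factorThruImage f ≫ (n • 𝟙 _) ≫ Abelian.image.ι f := by
        rw [Preadditive.zsmul_comp, Category.id_comp, Preadditive.comp_zsmul, hf]
      rw [this, h, zero_comp, comp_zero]
    · rintro ⟨n, hn, h⟩
      refine ⟨n, hn, ?_⟩
      rw [← cancel_mono (Abelian.image.ι f), ← cancel_epi (Abelian.factorThruImage f)]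
      rw [Preadditive.zsmul_comp, Category.id_comp, Preadditive.comp_zsmul, hf, h, zero_comp,
        comp_zero]
  · intro g
    obtain ⟨φ, hφ⟩ := Localization.exists_leftFraction L P.isoModSerre g
    obtain ⟨n₁, hn₁, h₁⟩ := (hP _).1 φ.hs.1
    obtain ⟨n₂, hn₂, h₂⟩ := (hP _).1 φ.hs.2
    obtain ⟨t, ht⟩ := exists_quasi_inverse φ.s n₁ n₂ h₁ h₂
    refine ⟨n₂ * n₁, φ.f ≫ t, mul_ne_zero hn₂ hn₁, ?_⟩
    have h3 : (n₂ * n₁) • g = g ≫ L.map ((n₂ * n₁) • 𝟙 Y) := by
      rw [Functor.map_zsmul, L.map_id, Preadditive.comp_zsmul, Category.comp_id]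
    rw [h3, ← ht, L.map_comp, L.map_comp, hφ, ← Category.assoc,
      MorphismProperty.LeftFraction.map_comp_map_s]

open CategoryTheory in
/-- Let A be an abelian category and let P be the class of bounded-torsion objects of A, those X with n
• 𝟙_X = 0 for some nonzero integer n; assume P is a Serre class. Let L : A ⥤ D be an additive
functor to a preadditive category exhibiting D as the localization of A at the morphisms whose
kernel and cokernel are in P (so D is the quotient category A_ℚ = A ⧸ A_{b-tor}; the source assumes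
A well-powered, which guarantees that this quotient exists). Then for all objects X, Y of A: (1) for
every nonzero integer n, multiplication by n is bijective on Hom_D(L X, L Y), so that this group is
naturally a ℚ-vector space; (2) a morphism f : X ⟶ Y satisfies L f = 0 if and only if n • f = 0 for
some nonzero integer n; (3) for every g : L X ⟶ L Y there are a nonzero integer n and f : X ⟶ Y with
n • g = L f. Equivalently, the natural map Hom_A(X, Y) ⊗_ℤ ℚ → Hom_D(L X, L Y) is an isomorphism. -/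
theorem result
    {A : Type u} [Category.{v} A] [Abelian A] {D : Type u'} [Category.{v'} D] [Preadditive D]
    (P : ObjectProperty A) (hP : ∀ X : A, P X ↔ ∃ n : ℤ, n ≠ 0 ∧ n • (𝟙 X) = 0) [P.IsSerreClass]
    (L : A ⥤ D) [L.Additive] [L.IsLocalization P.isoModSerre] (X Y : A) :
    (∀ n : ℤ, n ≠ 0 → Function.Bijective (fun g : L.obj X ⟶ L.obj Y => n • g)) ∧
    (∀ f : X ⟶ Y, L.map f = 0 ↔ ∃ n : ℤ, n ≠ 0 ∧ n • f = 0) ∧
    (∀ g : L.obj X ⟶ L.obj Y, ∃ (n : ℤ) (f : X ⟶ Y), n ≠ 0 ∧ n • g = L.map f) := by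
  exact result' P hP L X Y

end Groth.Agent.S19244
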