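import Groth.Statements.S19258
import Mathlib

set_option autoImplicit false
universe u
open PontDual

namespace Groth.Agent.S19258

open Filter Topology in
theorem step1 (G : Type u) (G' : Type u) [AddCommGroup G] [AddCommGroup G']
    (β : G' →+ (G →+ AddCircle (1 : ℚ)))
    (χ : G →+ AddCircle (1 : ℚ))
    (hχ : @Continuous G (AddCircle (1 : ℚ)) (⨅ f' : G', TopologicalSpace.induced (fun x : G => β f' x) ⊥) ⊥ χ) :
    ∃ I : Set G', I.Finite ∧ ∀ x : G, (∀ f' ∈ I, β f' x = 0) → χ x = 0 := by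
  have hopen : @IsOpen G (⨅ f' : G', TopologicalSpace.induced (fun x : G => β f' x) ⊥) (χ ⁻¹' {0}) :=
    @IsOpen.preimage _ _ (⨅ f' : G', TopologicalSpace.induced (fun x : G => β f' x) ⊥) ⊥ _ hχ _ trivial
  have hmem : (χ ⁻¹' {0}) ∈ @nhds G (⨅ f' : G', TopologicalSpace.induced (fun x : G => β f' x) ⊥) 0 :=
    @IsOpen.mem_nhds _ (⨅ f' : G', TopologicalSpace.induced (fun x : G => β f' x) ⊥) _ _ hopen (by simp)
  rw [nhds_iInf] at hmem
  simp_rw [nhds_induced] at hmem
  obtain ⟨I, hI, V, hV, hU⟩ := Filter.mem_iInf.mp hmem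
  refine ⟨I, hI, fun x hx => ?_⟩
  have : x ∈ χ ⁻¹' {0} := by
    rw [hU, Set.mem_iInter]
    intro f'
    have h1 := hV f'
    rw [Filter.mem_comap] at h1
    obtain ⟨t, ht, htV⟩ := h1
    apply htV
    rw [Set.mem_preimage, hx f'.1 f'.2]
    have : (β f'.1) 0 = 0 := map_zero _
    rw [← this]
    exact @mem_of_mem_nhds _ ⊥ _ _ ht
  exact this

theorem endo_torsion (e : AddCircle (1:ℚ) →+ AddCircle (1:ℚ)) (n : ℕ) (hn : 0 < n) :
    ∃ a : ℤ, ∀ u : AddCircle (1:ℚ), n • u = 0 → e u = a • u := by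
  have hnq : (n : ℚ) ≠ 0 := by exact_mod_cast hn.ne'
  have hcyc : ∀ u : AddCircle (1:ℚ), n • u = 0 →
      ∃ k : ℤ, u = k • (((1:ℚ) / n : ℚ) : AddCircle (1:ℚ)) := by
    intro u hu
    obtain ⟨q, rfl⟩ := QuotientAddGroup.mk_surjective u
    have h1 : ((n • q : ℚ) : AddCircle (1:ℚ)) = 0 := hu
    rw [QuotientAddGroup.eq_zero_iff, AddSubgroup.mem_zmultiples_iff] at h1
    obtain ⟨k, hk⟩ := h1
    refine ⟨k, ?_⟩
    have h2 : q = k • ((1:ℚ) / n) := by
      simp only [zsmul_eq_mul, nsmul_eq_mul, mul_one] at hk ⊢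
      field_simp
      linarith
    conv_lhs => rw [h2]
    rfl
  have hg : n • (((1:ℚ) / n : ℚ) : AddCircle (1:ℚ)) = 0 := by
    have : ((n • ((1:ℚ) / n) : ℚ) : AddCircle (1:ℚ)) = 0 := by
      rw [QuotientAddGroup.eq_zero_iff, AddSubgroup.mem_zmultiples_iff]
      refine ⟨1, ?_⟩
      simp only [one_smul, nsmul_eq_mul]
      field_simp
    exact this
  have heg : n • e (((1:ℚ) / n : ℚ) : AddCircle (1:ℚ)) = 0 := by
    rw [← map_nsmul, hg, map_zero]
  obtain ⟨a, ha⟩ := hcyc _ heg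
  refine ⟨a, fun u hu => ?_⟩
  obtain ⟨k, rfl⟩ := hcyc u hu
  rw [map_zsmul, ha, smul_comm]


/-- Let G and G' be abelian groups such that every element of G' has finite order, and let β : G' →
Hom(G, ℚ/ℤ) be an injective homomorphism (equivalently a pairing G' × G → ℚ/ℤ with no left kernel).
Endow G with the weak topology defined by G': the coarsest topology for which every character β(f),
f ∈ G', is continuous when ℚ/ℤ carries the discrete topology. Then every homomorphism χ : G → ℚ/ℤ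
that is continuous for this topology on G and the discrete topology on ℚ/ℤ equals β(f) for some f ∈
G', so that β is a bijection from G' onto the group of continuous characters of G. -/
theorem result
    (G : Type u) (G' : Type u) [AddCommGroup G] [AddCommGroup G'] (hG' : IsAddTorsion G')
    (β : G' →+ (G →+ AddCircle (1 : ℚ))) (hβ : Function.Injective β)
    (χ : G →+ AddCircle (1 : ℚ))
    (hχ : @Continuous G (AddCircle (1 : ℚ)) (⨅ f' : G', TopologicalSpace.induced (fun x : G => β f' x) ⊥) ⊥ χ) :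
    ∃ f' : G', β f' = χ := by
  classical
  obtain ⟨I, hI, hker⟩ := step1 G G' β χ hχ
  haveI : Fintype I := hI.fintype
  let Φ : G →+ (I → AddCircle (1:ℚ)) := AddMonoidHom.pi (fun f' : I => β f'.1)
  have hΦker : Φ.ker ≤ χ.ker := by
    intro x hx
    rw [AddMonoidHom.mem_ker] at hx ⊢
    exact hker x (fun f' hf' => congrFun hx ⟨f', hf'⟩)
  haveI : DivisibleBy (AddCircle (1 : ℚ)) ℤ := inferInstance
  obtain ⟨χ'', hχ''⟩ := (Module.Baer.of_divisible
    (AddCircle (1:ℚ))).extension_property_addMonoidHom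
      (QuotientAddGroup.kerLift Φ) (QuotientAddGroup.kerLift_injective Φ)
      (QuotientAddGroup.lift Φ.ker χ hΦker)
  have hχΦ : ∀ x, χ x = χ'' (Φ x) := by
    intro x
    have h1 := congrArg (fun f => f (QuotientAddGroup.mk x)) hχ''
    simp only [AddMonoidHom.comp_apply, QuotientAddGroup.kerLift_mk,
      QuotientAddGroup.lift_mk] at h1
    exact h1.symm
  have hdecomp : ∀ y : I → AddCircle (1:ℚ), χ'' y = ∑ f' : I, χ'' (Pi.single f' (y f')) := by
    intro y
    conv_lhs => rw [← Finset.univ_sum_single y]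
    rw [map_sum]
  have hint : ∀ f' : I, ∃ a : ℤ, ∀ u : AddCircle (1:ℚ), addOrderOf f'.1 • u = 0 →
      χ'' (Pi.single f' u) = a • u := by
    intro f'
    exact endo_torsion (χ''.comp (AddMonoidHom.single (fun _ : I => AddCircle (1:ℚ)) f'))
      (addOrderOf f'.1) ((hG' f'.1).addOrderOf_pos)
  choose a ha using hint
  refine ⟨∑ f' : I, a f' • f'.1, ?_⟩
  ext x
  rw [hχΦ, hdecomp, map_sum, AddMonoidHom.finset_sum_apply]
  refine Finset.sum_congr rfl fun f' _ => ?_
  rw [map_zsmul, AddMonoidHom.zsmul_apply]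
  show _ = χ'' (Pi.single f' (β f'.1 x))
  rw [ha f' (β f'.1 x) ?_]
  rw [← AddMonoidHom.nsmul_apply, ← map_nsmul, addOrderOf_nsmul_eq_zero, map_zero]
  rfl

end Groth.Agent.S19258
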