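import Groth.Statements.S19264
import Mathlib
import Groth.Agent.Lib.helper28.WittFilUFD

set_option autoImplicit false
universe u
open WittFil

namespace Groth.Agent.S19264
open Groth.Agent.Lib.helper28.WittFilUFD in

/-- Let A be a unique factorisation domain of characteristic p, x_1, …, x_r pairwise non-associate prime
elements of A, B = A[1/(x_1⋯x_r)] with u_i the unit of B defined by x_i, n ∈ ℤ^r and m ≥ 0. The
restriction map from truncated p-typical Witt vectors of length m+1 to those of length m over B
(forgetting the last coordinate) maps the filtered piece cut out by ∏ u_i ^ n_i onto the filtered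
piece cut out by ∏ u_i ^ ⌊n_i / p⌋; that is, the image is exactly that piece. (The other parts of
the exact sequence, injectivity of the (m-fold) Verschiebung from the fractional ideal generated by
(∏ u_i ^ n_i)⁻¹ and exactness in the middle, are immediate from the definition and are not restated.
The published setting is a regular local ring; only unique factorisation is used.) -/
theorem result (p : ℕ) [Fact p.Prime] {A B : Type u} [CommRing A] [IsDomain A]
    [UniqueFactorizationMonoid A] [CharP A p] [CommRing B] [Algebra A B] {r : ℕ} (x : Fin r → A)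
    (hx : ∀ i, Prime (x i)) (hxa : ∀ i j, Associated (x i) (x j) → i = j)
    [IsLocalization.Away (∏ i, x i) B] (u : Fin r → Bˣ)
    (hu : ∀ i, (u i : B) = algebraMap A B (x i)) (n : Fin r → ℤ) (m : ℕ) :
    (TruncatedWittVector.truncate (Nat.le_succ m)) '' WittFil.fil p (m + 1) (A := A) (WittFil.zmon u n) =
      WittFil.fil p m (A := A) (WittFil.zmon u (fun i => n i / (p : ℤ))) := by
  have hp0 : (0 : ℤ) < (p : ℤ) := by exact_mod_cast (Fact.out : p.Prime).pos
  ext y
  constructor
  · rintro ⟨w, hw, rfl⟩
    intro j
    have hj := j.isLt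
    have h := hw (Fin.castLE (Nat.le_succ m) j)
    rw [TruncatedWittVector.coeff_truncate]
    have hexp : (m + 1 - 1 - ((Fin.castLE (Nat.le_succ m) j : Fin (m + 1)) : ℕ)) =
        (m - 1 - (j : ℕ)) + 1 := by
      simp only [Fin.val_castLE]
      omega
    rw [hexp, pow_succ, pow_mul] at h
    have := mem_transfer x hx hxa u hu _ p 1 one_ne_zero n (fun i => n i / (p : ℤ)) ?_ h
    · rwa [pow_one] at this
    · intro i e he
      have h1 : -e ≤ n i / (p : ℤ) := by
        rw [Int.le_ediv_iff_mul_le hp0]
        linarith
      simp only [Nat.cast_one, one_mul]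
      linarith
  · intro hy
    refine ⟨TruncatedWittVector.mk p (fun j : Fin (m + 1) =>
      if h : (j : ℕ) < m then TruncatedWittVector.coeff ⟨j, h⟩ y else 0), ?_, ?_⟩
    · intro j
      rw [TruncatedWittVector.coeff_mk]
      by_cases hj : (j : ℕ) < m
      · rw [dif_pos hj]
        have h := hy ⟨j, hj⟩
        have hexp : (m + 1 - 1 - (j : ℕ)) = (m - 1 - (j : ℕ)) + 1 := by omega
        rw [hexp, pow_succ, pow_mul]
        rw [← pow_one (TruncatedWittVector.coeff ⟨j, hj⟩ y ^ p ^ (m - 1 - (j : ℕ)))] at h
        refine mem_transfer x hx hxa u hu _ 1 p (Fact.out : p.Prime).ne_zero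
          (fun i => n i / (p : ℤ)) n ?_ h
        intro i e he
        simp only [Nat.cast_one, one_mul] at he
        have h1 : n i / (p : ℤ) * (p : ℤ) ≤ n i := Int.ediv_mul_le _ hp0.ne'
        nlinarith
      · rw [dif_neg hj, zero_pow (pow_ne_zero _ (Fact.out : p.Prime).ne_zero), zero_mul]
        exact ⟨0, map_zero _⟩
    · ext j
      rw [TruncatedWittVector.coeff_truncate, TruncatedWittVector.coeff_mk]
      simp only [Fin.val_castLE]
      rw [dif_pos j.isLt]

end Groth.Agent.S19264
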