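import Groth.Statements.S19269
import Mathlib

set_option autoImplicit false
universe u
open CAlg

namespace Groth.Agent.S19269



open IsLocalRing in
/-- Let R be a Noetherian local ring with maximal ideal 𝔪, M a finitely generated R-module and M^ its
𝔪-adic completion, a module over the 𝔪-adic completion R^ of R. Let N' be an R^-submodule of M^ and
N an R-submodule of M whose image in M^ is contained in N' and is dense in N' for the 𝔪-adic
topology, in the sense that for every y in N' and every k there is x in N with y ≡ x modulo the
kernel of M^ → M/𝔪^k M. Then N' equals the image of the completion of N under the map induced by the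
inclusion N → M (so N' is the completion of N), and N is the set of elements of M whose image in M^
lies in N'. -/
theorem result {R : Type u} [CommRing R]
    [IsNoetherianRing R] [IsLocalRing R] {M : Type u} [AddCommGroup M] [Module R M]
    [Module.Finite R M] (N : Submodule R M)
    (N' : Submodule (AdicCompletion (maximalIdeal R) R) (AdicCompletion (maximalIdeal R) M))
    (hle : ∀ x ∈ N, AdicCompletion.of (maximalIdeal R) M x ∈ N')
    (hdense : ∀ y ∈ N', ∀ k : ℕ, ∃ x ∈ N,
      AdicCompletion.eval (maximalIdeal R) M k y = Submodule.Quotient.mk x) :
    (N'.restrictScalars R =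
        (LinearMap.range (AdicCompletion.map (maximalIdeal R) N.subtype)).restrictScalars R) ∧
      (∀ x : M, x ∈ N ↔ AdicCompletion.of (maximalIdeal R) M x ∈ N') := by
  have hex : Function.Exact (AdicCompletion.map (maximalIdeal R) N.subtype) (AdicCompletion.map (maximalIdeal R) N.mkQ) :=
    AdicCompletion.map_exact (Submodule.injective_subtype N)
      (LinearMap.exact_subtype_mkQ N) (Submodule.mkQ_surjective N)
  -- the range of the completed inclusion lies in N'
  have hrange : ∀ z : AdicCompletion (maximalIdeal R) N, AdicCompletion.map (maximalIdeal R) N.subtype z ∈ N' := by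
    intro z
    obtain ⟨w, rfl⟩ := AdicCompletion.ofTensorProduct_surjective_of_finite (maximalIdeal R) N z
    induction w using TensorProduct.induction_on with
    | zero => simp
    | tmul r n =>
      rw [AdicCompletion.ofTensorProduct_tmul, map_smul, AdicCompletion.map_of]
      exact N'.smul_mem r (hle _ n.2)
    | add a b ha hb =>
      rw [map_add, map_add]
      exact N'.add_mem ha hb
  -- N' lies in the kernel of the completed quotient map
  have hker : ∀ y ∈ N', AdicCompletion.map (maximalIdeal R) N.mkQ y = 0 := by
    intro y hy
    apply AdicCompletion.ext
    intro k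
    obtain ⟨x, hxN, hx⟩ := hdense y hy k
    rw [AdicCompletion.map_val_apply, ← AdicCompletion.eval_apply, hx,
      LinearMap.reduceModIdeal_apply, Submodule.mkQ_apply, (Submodule.Quotient.mk_eq_zero N).2 hxN]
    rfl
  have hmem : ∀ y, y ∈ N' ↔ y ∈ LinearMap.range (AdicCompletion.map (maximalIdeal R) N.subtype) := by
    intro y
    constructor
    · intro hy
      exact (hex y).1 (hker y hy)
    · rintro ⟨z, rfl⟩
      exact hrange z
  refine ⟨?_, ?_⟩
  · ext y
    exact hmem y
  · intro x
    constructor
    · exact hle x
    · intro hx
      have h1 := hker _ hx
      rw [AdicCompletion.map_of] at h1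
      have h2 : N.mkQ x = 0 := by
        apply AdicCompletion.of_injective (I := (maximalIdeal R)) (M := M ⧸ N)
        rw [h1, map_zero]
      rwa [Submodule.mkQ_apply, Submodule.Quotient.mk_eq_zero] at h2

end Groth.Agent.S19269
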