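import Groth.Statements.S19270
import Mathlib
import Groth.Agent.Lib.helper14.CohenSmooth

set_option autoImplicit false
universe u
open CAlg

namespace Groth.Agent.S19270

namespace S19270aux

open IsLocalRing KaehlerDifferential TensorProduct

variable (A : Type u) [CommRing A] [IsLocalRing A]

/-- the projection `A/𝔪² → k`. -/
noncomputable def proj : (A ⧸ maximalIdeal A ^ 2) →+* ResidueField A :=
  Ideal.Quotient.lift (maximalIdeal A ^ 2) (residue A) (fun a ha => by
    rw [residue_eq_zero_iff]
    exact Ideal.pow_le_self two_ne_zero ha)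

@[simp]
theorem proj_mk (a : A) : proj A (Ideal.Quotient.mk _ a) = residue A a := by
  rw [proj, Ideal.Quotient.lift_mk]

theorem proj_surjective : Function.Surjective (proj A) := by
  intro c
  obtain ⟨a, rfl⟩ := residue_surjective c
  exact ⟨Ideal.Quotient.mk _ a, proj_mk A a⟩

theorem proj_mul_eq_zero (y z : A ⧸ maximalIdeal A ^ 2) (hy : proj A y = 0) (hz : proj A z = 0) :
    y * z = 0 := by
  obtain ⟨a, rfl⟩ := Ideal.Quotient.mk_surjective y
  obtain ⟨b, rfl⟩ := Ideal.Quotient.mk_surjective z
  rw [proj_mk, residue_eq_zero_iff] at hy hz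
  rw [← map_mul, Ideal.Quotient.eq_zero_iff_mem, pow_two]
  exact Ideal.mul_mem_mul hy hz

/-- in characteristic `p`, the projection `A/𝔪² → k` has a ring-theoretic section. -/
theorem exists_section (p : ℕ) [Fact p.Prime] [CharP A p] :
    ∃ σ : ResidueField A →+* (A ⧸ maximalIdeal A ^ 2), ∀ c, proj A (σ c) = c := by
  let F := ULift.{u} (ZMod p)
  letI : Algebra (ZMod p) A := ZMod.algebra A p
  letI : Algebra F A := ((algebraMap (ZMod p) A).comp (ULift.ringEquiv (R := ZMod p)).toRingHom).toAlgebra
  haveI : Algebra.FormallySmooth F (ResidueField A) :=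
    H14.CohenSmooth.formallySmooth_of_perfectField p
  let π : (A ⧸ maximalIdeal A ^ 2) →ₐ[F] ResidueField A :=
    { proj A with
      commutes' := fun r => by
        rw [IsScalarTower.algebraMap_apply F A (A ⧸ maximalIdeal A ^ 2),
          IsScalarTower.algebraMap_apply F A (ResidueField A)]
        exact proj_mk A _ }
  have hπ : Function.Surjective π := proj_surjective A
  have hnil : IsNilpotent (RingHom.ker (π : (A ⧸ maximalIdeal A ^ 2) →+* ResidueField A)) := by
    refine ⟨2, ?_⟩
    have : RingHom.ker (π : (A ⧸ maximalIdeal A ^ 2) →+* ResidueField A) *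
        RingHom.ker (π : (A ⧸ maximalIdeal A ^ 2) →+* ResidueField A) ≤ ⊥ := by
      rw [Ideal.mul_le]
      intro y hy z hz
      exact proj_mul_eq_zero A y z hy hz
    rw [Ideal.zero_eq_bot, eq_bot_iff]
    refine le_trans (le_of_eq (pow_two _)) this
  let σ := Algebra.FormallySmooth.liftOfSurjective (AlgHom.id F (ResidueField A)) π hπ hnil
  refine ⟨σ.toRingHom, fun c => ?_⟩
  exact Algebra.FormallySmooth.liftOfSurjective_apply (AlgHom.id F (ResidueField A)) π hπ hnil c

/-- the derivation `a ↦ (a mod 𝔪²) − σ(a mod 𝔪)` attached to a section. -/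
noncomputable def δ (σ : ResidueField A →+* (A ⧸ maximalIdeal A ^ 2))
    (hσ : ∀ c, proj A (σ c) = c) : Derivation ℤ A (A ⧸ maximalIdeal A ^ 2) :=
  Derivation.mk'
    (((Ideal.Quotient.mk (maximalIdeal A ^ 2) : A →+* _).toAddMonoidHom -
      (σ.comp (residue A)).toAddMonoidHom).toIntLinearMap)
    (fun a b => by
      have key : (Ideal.Quotient.mk (maximalIdeal A ^ 2) a - σ (residue A a)) *
          (Ideal.Quotient.mk (maximalIdeal A ^ 2) b - σ (residue A b)) = 0 := by
        apply proj_mul_eq_zero
        · rw [map_sub, proj_mk, hσ, sub_self]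
        · rw [map_sub, proj_mk, hσ, sub_self]
      simp only [AddMonoidHom.coe_toIntLinearMap, AddMonoidHom.sub_apply,
        RingHom.toAddMonoidHom_eq_coe, AddMonoidHom.coe_coe, RingHom.coe_comp,
        Function.comp_apply, map_mul, Algebra.smul_def, Ideal.Quotient.algebraMap_eq]
      linear_combination (-1 : A ⧸ maximalIdeal A ^ 2) * key)

theorem δ_apply (σ : ResidueField A →+* (A ⧸ maximalIdeal A ^ 2))
    (hσ : ∀ c, proj A (σ c) = c) (a : A) :
    δ A σ hσ a = Ideal.Quotient.mk (maximalIdeal A ^ 2) a - σ (residue A a) := rfl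

variable {A}

/-- minimal generators of the maximal ideal of a regular local ring: if `∑ aᵢ xᵢ ∈ 𝔪²`
then all `aᵢ ∈ 𝔪`. -/
theorem mem_of_sum_mem_sq [IsNoetherianRing A] {N : ℕ} (x : Fin N → A)
    (hx : Ideal.span (Set.range x) = maximalIdeal A)
    (hfr : Module.finrank (ResidueField A) (CotangentSpace A) = N)
    (a : Fin N → A) (ha : ∑ i, a i * x i ∈ maximalIdeal A ^ 2) (i : Fin N) :
    residue A (a i) = 0 := by
  have hxm : ∀ i, x i ∈ maximalIdeal A := fun i => by
    rw [← hx]; exact Ideal.subset_span ⟨i, rfl⟩
  let X : Fin N → maximalIdeal A := fun i => ⟨x i, hxm i⟩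
  let t : Fin N → CotangentSpace A := fun i => (maximalIdeal A).toCotangent (X i)
  have hspan : Submodule.span (ResidueField A) (Set.range t) = ⊤ := by
    have : Set.range t = (maximalIdeal A).toCotangent '' (Set.range X) := by
      rw [← Set.range_comp]; rfl
    rw [this, CotangentSpace.span_image_eq_top_iff]
    rw [eq_top_iff]
    rintro ⟨y, hy⟩ -
    have hy' : y ∈ Ideal.span (Set.range x) := by rw [hx]; exact hy
    have : ∀ z (hz : z ∈ Ideal.span (Set.range x)),
        (⟨z, by rw [← hx]; exact hz⟩ : maximalIdeal A) ∈ Submodule.span A (Set.range X) := by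
      intro z hz
      induction hz using Submodule.span_induction with
      | mem z hz =>
        obtain ⟨j, rfl⟩ := hz
        exact Submodule.subset_span ⟨j, rfl⟩
      | zero => exact Submodule.zero_mem _
      | add z w _ _ hz hw => exact Submodule.add_mem _ hz hw
      | smul c z _ hz => exact Submodule.smul_mem _ c hz
    exact this y hy'
  have hli : LinearIndependent (ResidueField A) t :=
    linearIndependent_of_top_le_span_of_card_eq_finrank (le_of_eq hspan.symm)
      (by rw [Fintype.card_fin, hfr])
  have hsum : ∑ i, residue A (a i) • t i = 0 := by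
    have h1 : ∀ i, residue A (a i) • t i = (maximalIdeal A).toCotangent (a i • X i) := by
      intro i
      rw [map_smul]
      exact IsScalarTower.algebraMap_smul (ResidueField A) (a i) (t i)
    simp only [h1]
    rw [← map_sum, Ideal.toCotangent_eq_zero]
    convert ha using 1
    simp [X]
  exact Fintype.linearIndependent_iff.1 hli _ hsum i

/-- linear independence of the `1 ⊗ dxᵢ`. -/
theorem linInd (p : ℕ) [Fact p.Prime] [CharP A p] [IsNoetherianRing A] {N : ℕ} (x : Fin N → A)
    (hx : Ideal.span (Set.range x) = maximalIdeal A)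
    (hfr : Module.finrank (ResidueField A) (CotangentSpace A) = N) :
    LinearIndependent (ResidueField A)
      (fun i => (1 : ResidueField A) ⊗ₜ[A] KaehlerDifferential.D ℤ A (x i)) := by
  obtain ⟨σ, hσ⟩ := exists_section A p
  let L : Ω[A⁄ℤ] →ₗ[A] (A ⧸ maximalIdeal A ^ 2) := (δ A σ hσ).liftKaehlerDifferential
  have hL : ∀ a, L (D ℤ A a) = δ A σ hσ a := fun a =>
    Derivation.liftKaehlerDifferential_comp_D _ a
  have hxm : ∀ i, x i ∈ maximalIdeal A := fun i => by
    rw [← hx]; exact Ideal.subset_span ⟨i, rfl⟩
  have h3 : ∀ m : Ω[A⁄ℤ], proj A (L m) = 0 := by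
    intro m
    have hm : m ∈ Submodule.span A (Set.range (D ℤ A)) := by
      rw [span_range_derivation]; trivial
    induction hm using Submodule.span_induction with
    | mem y hy =>
      obtain ⟨a, rfl⟩ := hy
      rw [hL, δ_apply, map_sub, proj_mk, hσ, sub_self]
    | zero => simp
    | add y z _ _ hy hz => rw [map_add, map_add, hy, hz, add_zero]
    | smul a y _ hy => rw [map_smul, Algebra.smul_def, map_mul, hy, mul_zero]
  have h4 : ∀ m ∈ (maximalIdeal A) • (⊤ : Submodule A (Ω[A⁄ℤ])), L m = 0 := by
    intro m hm
    refine Submodule.smul_induction_on hm (fun r hr n _ => ?_) (fun y z hy hz => ?_)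
    · rw [map_smul, Algebra.smul_def, Ideal.Quotient.algebraMap_eq]
      apply proj_mul_eq_zero
      · rw [proj_mk, residue_eq_zero_iff]; exact hr
      · exact h3 n
    · rw [map_add, hy, hz, add_zero]
  rw [Fintype.linearIndependent_iff]
  intro c hc
  choose a ha using fun i => residue_surjective (c i)
  have h1 : (1 : ResidueField A) ⊗ₜ[A] (∑ i, a i • D ℤ A (x i)) = 0 := by
    rw [← hc, TensorProduct.tmul_sum]
    refine Finset.sum_congr rfl fun i _ => ?_
    rw [TensorProduct.tmul_smul, TensorProduct.smul_tmul', TensorProduct.smul_tmul',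
      ← ha i, smul_eq_mul, mul_one, Algebra.smul_def, mul_one]
    rfl
  have h2 : (∑ i, a i • D ℤ A (x i)) ∈ (maximalIdeal A) • (⊤ : Submodule A (Ω[A⁄ℤ])) := by
    have := congrArg (TensorProduct.quotTensorEquivQuotSMul (Ω[A⁄ℤ]) (maximalIdeal A)) h1
    rw [← Submodule.Quotient.mk_eq_zero]
    exact ((TensorProduct.quotTensorEquivQuotSMul_mk_one_tmul _ _).symm.trans this).trans
      (map_zero _)
  have h5 := h4 _ h2
  have h6 : ∑ i, a i * x i ∈ maximalIdeal A ^ 2 := by
    rw [← Ideal.Quotient.eq_zero_iff_mem, ← h5, map_sum, map_sum]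
    refine Finset.sum_congr rfl fun i _ => ?_
    rw [map_smul, hL, δ_apply, (residue_eq_zero_iff _).2 (hxm i), map_zero, sub_zero,
      Algebra.smul_def, Ideal.Quotient.algebraMap_eq, map_mul]
  intro i
  rw [← ha i]
  exact mem_of_sum_mem_sq x hx hfr a h6 i

end S19270aux

open IsLocalRing in
/-- Let A be a regular local ring of prime characteristic p, of Krull dimension N, with maximal ideal
generated by x_1, …, x_N, and assume that the module Ω_A of absolute Kähler differentials of A
(differentials relative to ℤ, equivalently relative to the prime field) is a free A-module of finite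
rank. Then dx_1, …, dx_N are part of a basis of Ω_A: there exist a basis b of Ω_A and an injection e
of the indices 1, …, N into the index type of b with b (e i) = d(x_i) for all i. (In the published
statement A is a regular local F-finite algebra over the prime field and the freeness and finiteness
of Ω_A form the first assertion, taken there from the literature; here they are hypotheses.) -/
theorem result (p : ℕ) [Fact p.Prime]
    {A : Type u} [CommRing A] [IsRegularLocalRing A] [CharP A p]
    [Module.Free A (KaehlerDifferential ℤ A)] [Module.Finite A (KaehlerDifferential ℤ A)]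
    {N : ℕ} (x : Fin N → A) (hx : Ideal.span (Set.range x) = maximalIdeal A)
    (hN : ringKrullDim A = (N : WithBot ℕ∞)) :
    ∃ (ι : Type u) (b : Module.Basis ι A (KaehlerDifferential ℤ A)) (e : Fin N ↪ ι),
      ∀ i : Fin N, b (e i) = KaehlerDifferential.D ℤ A (x i) := by
  classical
  have hfr : Module.finrank (IsLocalRing.ResidueField A) (IsLocalRing.CotangentSpace A) = N := by
    have h := (IsRegularLocalRing.iff_finrank_cotangentSpace A).1 inferInstance
    rw [hN] at h
    exact_mod_cast h
  have hli := S19270aux.linInd p x hx hfr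
  let w : Fin N → TensorProduct A (IsLocalRing.ResidueField A) (KaehlerDifferential ℤ A) :=
    fun i => (1 : IsLocalRing.ResidueField A) ⊗ₜ[A] KaehlerDifferential.D ℤ A (x i)
  have hli' : LinearIndependent (IsLocalRing.ResidueField A) w := hli
  let S : Set (TensorProduct A (IsLocalRing.ResidueField A) (KaehlerDifferential ℤ A)) :=
    hli'.linearIndepOn_id.extend (Set.subset_univ _)
  let bS : Module.Basis S (IsLocalRing.ResidueField A)
      (TensorProduct A (IsLocalRing.ResidueField A) (KaehlerDifferential ℤ A)) :=
    Module.Basis.extend hli'.linearIndepOn_id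
  have hbS : ∀ s : S, bS s = (s : TensorProduct A (IsLocalRing.ResidueField A) _) :=
    fun s => Module.Basis.extend_apply_self _ s
  have hwS : ∀ i, w i ∈ S := fun i => hli'.linearIndepOn_id.subset_extend _ ⟨i, rfl⟩
  have hsurj := TensorProduct.mk_surjective A (KaehlerDifferential ℤ A)
    (IsLocalRing.ResidueField A) IsLocalRing.residue_surjective
  -- lifts
  let v : S → KaehlerDifferential ℤ A := fun s =>
    if h : ∃ i, w i = (s : TensorProduct A (IsLocalRing.ResidueField A) _) then
      KaehlerDifferential.D ℤ A (x h.choose)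
    else (hsurj s).choose
  have hv : ∀ s : S, TensorProduct.mk A (IsLocalRing.ResidueField A) (KaehlerDifferential ℤ A) 1 (v s)
      = bS s := by
    intro s
    rw [hbS]
    by_cases h : ∃ i, w i = (s : TensorProduct A (IsLocalRing.ResidueField A) _)
    · simp only [v, dif_pos h]
      exact h.choose_spec
    · simp only [v, dif_neg h]
      exact (hsurj s).choose_spec
  have hcomp : (TensorProduct.mk A (IsLocalRing.ResidueField A) (KaehlerDifferential ℤ A) 1 ∘ v)
      = ⇑bS := funext hv
  haveI : Module.FinitePresentation A (KaehlerDifferential ℤ A) :=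
    Module.finitePresentation_of_projective A _
  obtain ⟨b, hb⟩ := Module.exists_basis_of_basis_baseChange (R := A) v
    (by rw [hcomp]; exact bS.linearIndependent) (by rw [hcomp]; exact bS.span_eq)
    (Module.Flat.rTensor_preserves_injective_linearMap _ Subtype.val_injective)
  refine ⟨S, b, ⟨fun i => ⟨w i, hwS i⟩, fun i j hij => hli'.injective (Subtype.ext_iff.1 hij)⟩,
    fun i => ?_⟩
  rw [hb]
  have h : ∃ j, w j = w i := ⟨i, rfl⟩
  simp only [Function.Embedding.coeFn_mk, v, dif_pos h]
  rw [hli'.injective h.choose_spec]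

end Groth.Agent.S19270
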