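import Groth.Statements.S19272
import Mathlib
import Groth.Agent.Lib.helper28.WittFilUFD

set_option autoImplicit false
universe u
open WittFil

namespace Groth.Agent.S19272
open Groth.Agent.Lib.helper28.WittFilUFD in

/-- Let A be a unique factorisation domain of characteristic p, x_1, …, x_r pairwise non-associate prime
elements of A, B = A[1/(x_1⋯x_r)] with u_i the unit of B defined by x_i, m ≥ 0, and n ∈ ℤ^r with n_i
< 0 for every i. Then every truncated p-typical Witt vector of length m over B lying in the filtered
piece cut out by ∏ u_i ^ n_i (every coordinate y_j has y_j ^ (p ^ (m−1−j)) · ∏ u_i ^ n_i in the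
image of A) has all its coordinates in the image of the ideal (x_1⋯x_r)·A. (The published item,
stated for the filtered de Rham–Witt pieces in all degrees over a regular local ring, says only that
such vectors have all coordinates in A; this row states the divisibility of every coordinate by
x_1⋯x_r that its proof establishes, in degree zero, for a unique factorisation domain in place of a
regular local ring.) -/
theorem result (p : ℕ) [Fact p.Prime] {A B : Type u} [CommRing A] [IsDomain A]
    [UniqueFactorizationMonoid A] [CharP A p] [CommRing B] [Algebra A B] {r : ℕ} (x : Fin r → A)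
    (hx : ∀ i, Prime (x i)) (hxa : ∀ i j, Associated (x i) (x j) → i = j)
    [IsLocalization.Away (∏ i, x i) B] (u : Fin r → Bˣ)
    (hu : ∀ i, (u i : B) = algebraMap A B (x i)) (m : ℕ) (n : Fin r → ℤ) (hn : ∀ i, n i < 0)
    (a : TruncatedWittVector p m B) (ha : a ∈ WittFil.fil p m (A := A) (WittFil.zmon u n))
    (j : Fin m) :
    ∃ b : A, TruncatedWittVector.coeff j a = algebraMap A B ((∏ i, x i) * b) := by
  have h := ha j
  by_cases hz : TruncatedWittVector.coeff j a = 0
  · exact ⟨0, by rw [hz, mul_zero, map_zero]⟩
  · obtain ⟨α, e, hα, hred⟩ := exists_red x hx u hu _ hz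
    rw [hred, pow_mul_zmon_mem_iff x hx hxa u hu α hα] at h
    have he : ∀ i, 0 ≤ e i - 1 := by
      intro i
      have h1 := h i
      have h2 := hn i
      have hN : (0 : ℤ) < ((p ^ (m - 1 - (j : ℕ)) : ℕ) : ℤ) := by
        exact_mod_cast Nat.pos_of_ne_zero (pow_ne_zero _ (Fact.out : p.Prime).ne_zero)
      by_contra hneg
      push Not at hneg
      have h3 : e i ≤ 0 := by omega
      nlinarith
    have hsplit : WittFil.zmon u e =
        WittFil.zmon u (fun _ => ((1 : ℕ) : ℤ)) * WittFil.zmon u (fun i => e i - 1) := by
      rw [← zmon_add]
      congr 1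
      funext i
      simp
    refine ⟨α * ∏ i, x i ^ (e i - 1).toNat, ?_⟩
    rw [hred, hsplit, zmon_natCast x u hu, zmon_of_nonneg x u hu _ he, ← map_mul, ← map_mul]
    congr 1
    simp only [pow_one]
    ring

end Groth.Agent.S19272
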