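import Groth.Statements.S19273
import Mathlib

set_option autoImplicit false
universe u
open CAlg

namespace Groth.Agent.S19273

open KaehlerDifferential in
/-- Let A be an integral domain of prime characteristic p, x_1, …, x_N elements of A, r ≤ N, B =
A[1/(x_1⋯x_r)] with u_i the unit of B defined by x_i for i ≤ r, and suppose that the module Ω_A of
absolute Kähler differentials of A is free with a basis b indexed by {1, …, N} ⊔ ι whose i-th vector
is d(x_i) for i ≤ N. Then the module of logarithmic 1-forms — the A-submodule of Ω_B spanned by the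
image of Ω_A and the forms u_i⁻¹ · d(x_i), i ≤ r — is a free A-module: it has a basis indexed by {1,
…, N} ⊔ ι whose vector at i ≤ r is u_i⁻¹ · d(x_i), at r < i ≤ N is d(x_i), and at k ∈ ι is the image
of b_k. (In the published statement A is a regular local F-finite algebra over the prime field with
maximal ideal (x_1, …, x_N), the basis of Ω_A comes from the preceding lemma, and the assertion
covers the logarithmic q-forms for all q together with their identification with the log de Rham
complex of the log ring; only the degree-one freeness is stated here, from the properties of A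
actually used.) -/
theorem result (p : ℕ) [Fact p.Prime]
    {A B : Type u} [CommRing A] [IsDomain A] [CharP A p] [CommRing B] [Algebra A B] {r N : ℕ}
    (hr : r ≤ N) (x : Fin N → A) [IsLocalization.Away (∏ i : Fin r, x (Fin.castLE hr i)) B]
    (u : Fin r → Bˣ) (hu : ∀ i, (u i : B) = algebraMap A B (x (Fin.castLE hr i)))
    {ι : Type u} (b : Module.Basis (Fin N ⊕ ι) A (Ω[A⁄ℤ])) (hb : ∀ i, b (Sum.inl i) = D ℤ A (x i)) :
    ∃ e : Module.Basis (Fin N ⊕ ι) A
        (W4c6katofilta.logForms1 (fun i : Fin r => x (Fin.castLE hr i)) u),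
      (∀ i : Fin r, (e (Sum.inl (Fin.castLE hr i)) : Ω[B⁄ℤ]) =
          ((u i)⁻¹ : Bˣ) • KaehlerDifferential.map ℤ ℤ A B (D ℤ A (x (Fin.castLE hr i)))) ∧
      (∀ i : Fin N, r ≤ (i : ℕ) →
          (e (Sum.inl i) : Ω[B⁄ℤ]) = KaehlerDifferential.map ℤ ℤ A B (D ℤ A (x i))) ∧
      (∀ k : ι, (e (Sum.inr k) : Ω[B⁄ℤ]) = KaehlerDifferential.map ℤ ℤ A B (b (Sum.inr k))) := by
  classical
  have hx0 : ∀ i, x i ≠ 0 := by
    intro i h
    have := b.ne_zero (Sum.inl i)
    rw [hb, h, map_zero] at this
    exact this rfl
  have hπ0 : (∏ i : Fin r, x (Fin.castLE hr i)) ≠ 0 :=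
    Finset.prod_ne_zero_iff.2 fun i _ => hx0 _
  have hinj : Function.Injective (algebraMap A B) :=
    IsLocalization.injective B (M := Submonoid.powers (∏ i : Fin r, x (Fin.castLE hr i)))
      (powers_le_nonZeroDivisors_of_noZeroDivisors hπ0)
  have : IsLocalizedModule (Submonoid.powers (∏ i : Fin r, x (Fin.castLE hr i)))
      (KaehlerDifferential.map ℤ ℤ A B) :=
    KaehlerDifferential.isLocalizedModule_map ℤ A B _
  let β : Module.Basis (Fin N ⊕ ι) B (Ω[B⁄ℤ]) :=
    b.ofIsLocalizedModule B (Submonoid.powers (∏ i : Fin r, x (Fin.castLE hr i)))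
      (KaehlerDifferential.map ℤ ℤ A B)
  let w : Fin N ⊕ ι → Bˣ := fun j =>
    Sum.elim (fun j : Fin N => if h : (j : ℕ) < r then (u ⟨j, h⟩)⁻¹ else 1) (fun _ => 1) j
  have hβ' : ∀ j, β.unitsSMul w j = w j • KaehlerDifferential.map ℤ ℤ A B (b j) := fun j => by
    rw [Module.Basis.unitsSMul_apply, Module.Basis.ofIsLocalizedModule_apply]
  have hwl : ∀ (j : Fin N) (h : (j : ℕ) < r), w (Sum.inl j) = (u ⟨j, h⟩)⁻¹ := by
    intro j h
    simp [w, h]
  have hwl' : ∀ (j : Fin N) (h : ¬ (j : ℕ) < r), w (Sum.inl j) = 1 := by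
    intro j h
    simp [w, h]
  have hwr : ∀ k : ι, w (Sum.inr k) = 1 := by
    intro k
    simp [w]
  have hli : LinearIndependent A (β.unitsSMul w) :=
    (β.unitsSMul w).linearIndependent.restrict_scalars (by
      simpa [Algebra.smul_def] using hinj)
  have hcast : ∀ (j : Fin N) (h : (j : ℕ) < r), Fin.castLE hr ⟨j, h⟩ = j := fun j h => Fin.ext rfl
  have hEq : W4c6katofilta.logForms1 (fun i : Fin r => x (Fin.castLE hr i)) u =
      Submodule.span A (Set.range (β.unitsSMul w)) := by
    unfold W4c6katofilta.logForms1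
    apply le_antisymm
    · rw [Submodule.span_le]
      rintro z (⟨ω, rfl⟩ | ⟨i, rfl⟩)
      · have hω : ω ∈ Submodule.span A (Set.range b) := by
          rw [b.span_eq]
          trivial
        have hmap : Submodule.map (KaehlerDifferential.map ℤ ℤ A B) (Submodule.span A (Set.range b)) ≤
            Submodule.span A (Set.range (β.unitsSMul w)) := by
          rw [Submodule.map_span, Submodule.span_le]
          rintro _ ⟨_, ⟨j, rfl⟩, rfl⟩
          have hj : KaehlerDifferential.map ℤ ℤ A B (b j) = ((w j)⁻¹ : Bˣ) • β.unitsSMul w j := by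
            rw [hβ', smul_smul, inv_mul_cancel, one_smul]
          rw [hj]
          rcases j with j | k
          · by_cases h : (j : ℕ) < r
            · rw [hwl j h, inv_inv, Units.smul_def, hu, algebraMap_smul]
              exact Submodule.smul_mem _ _ (Submodule.subset_span ⟨_, rfl⟩)
            · rw [hwl' j h, inv_one, one_smul]
              exact Submodule.subset_span ⟨_, rfl⟩
          · rw [hwr, inv_one, one_smul]
            exact Submodule.subset_span ⟨_, rfl⟩
        exact hmap ⟨ω, hω, rfl⟩
      · refine Submodule.subset_span ⟨Sum.inl (Fin.castLE hr i), ?_⟩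
        rw [hβ', hb, hwl (Fin.castLE hr i) (by simp)]
        rfl
    · rw [Submodule.span_le]
      rintro _ ⟨j, rfl⟩
      rw [hβ']
      rcases j with j | k
      · by_cases h : (j : ℕ) < r
        · refine Submodule.subset_span (Or.inr ⟨⟨j, h⟩, ?_⟩)
          simp only [hwl j h, hb, hcast j h]
        · refine Submodule.subset_span (Or.inl ⟨b (Sum.inl j), ?_⟩)
          rw [hwl' j h, one_smul]
      · refine Submodule.subset_span (Or.inl ⟨b (Sum.inr k), ?_⟩)
        rw [hwr, one_smul]
  refine ⟨(Module.Basis.span hli).map (LinearEquiv.ofEq _ _ hEq.symm), ?_, ?_, ?_⟩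
  · intro i
    rw [Module.Basis.map_apply, LinearEquiv.coe_ofEq_apply, Module.Basis.coe_span_apply, hβ', hb,
      hwl (Fin.castLE hr i) (by simp)]
    rfl
  · intro i hi
    rw [Module.Basis.map_apply, LinearEquiv.coe_ofEq_apply, Module.Basis.coe_span_apply, hβ', hb,
      hwl' i (by omega), one_smul]
  · intro k
    rw [Module.Basis.map_apply, LinearEquiv.coe_ofEq_apply, Module.Basis.coe_span_apply, hβ',
      hwr, one_smul]

end Groth.Agent.S19273
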