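import Groth.Statements.S19274
import Mathlib
import Groth.Agent.Lib.helper28.WittFilUFD

set_option autoImplicit false
universe u
open WittFil

namespace Groth.Agent.S19274
open Groth.Agent.Lib.helper28.WittFilUFD in

/-- Let A be a unique factorisation domain of characteristic p, x a prime element of A, B = A[1/x] with
u the unit of B defined by x, m ≥ 1, and n an integer NOT divisible by p^m. For e in B and k ≥ 0
write fil_k(e) for the set of truncated p-typical Witt vectors of length k over B whose j-th
coordinate y_j satisfies y_j ^ (p ^ (k−1−j)) · e ∈ A for all j < k (the filtered piece; fil_k(u^n)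
is the piece of index n). Then fil_{m+1}(u^n) is contained in fil_{m+1}(u^(n−1)) + V(fil_m(u^n))
(the reverse inclusion is immediate): every a in fil_{m+1}(u^n) can be written a = b + V(y) with b
in fil_{m+1}(u^(n−1)) and y a Witt vector over B whose length-m truncation lies in fil_m(u^n), V(y)
being truncated to length m+1. (In the source A is a henselian discrete valuation ring, n = p^r·l >
1 with p not dividing l, and the condition reads m ≥ r + 1.) -/
theorem result (p : ℕ) [Fact p.Prime]
    {A B : Type u} [CommRing A] [IsDomain A] [UniqueFactorizationMonoid A] [CharP A p]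
    [CommRing B] [Algebra A B] (x : A) (hx : Prime x) [IsLocalization.Away x B] (u : Bˣ)
    (hu : (u : B) = algebraMap A B x) (m : ℕ) (hm : 0 < m) (n : ℤ) (hn : ¬ ((p : ℤ) ^ m ∣ n)) :
    ∀ a ∈ WittFil.fil p (m + 1) (A := A) ((u ^ n : Bˣ) : B),
      ∃ b ∈ WittFil.fil p (m + 1) (A := A) ((u ^ (n - 1) : Bˣ) : B),
        ∃ y : WittVector p B,
          WittVector.truncate m y ∈ WittFil.fil p m (A := A) ((u ^ n : Bˣ) : B) ∧
            a = b + WittVector.truncate (m + 1) (WittVector.verschiebung y) := by
  intro a ha
  haveI : IsLocalization.Away (∏ i : Fin 1, (fun _ : Fin 1 => x) i) B := by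
    have : (∏ i : Fin 1, (fun _ : Fin 1 => x) i) = x := by simp
    rw [this]
    infer_instance
  have hzm : ∀ k : ℤ, ((u ^ k : Bˣ) : B) = WittFil.zmon (fun _ : Fin 1 => u) (fun _ => k) := by
    intro k
    simp [WittFil.zmon]
  obtain ⟨w, rfl⟩ := WittVector.truncate_surjective p (m + 1) B a
  have hdecomp : w = WittVector.teichmuller p (w.coeff 0) +
      WittVector.verschiebung (WittVector.mk p (fun k => w.coeff (k + 1))) := by
    ext k
    rw [WittVector.coeff_add_of_disjoint]
    · cases k with
      | zero => simp
      | succ k => simp [WittVector.verschiebung_coeff_succ, WittVector.teichmuller_coeff_pos]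
    · intro k
      cases k with
      | zero => right; simp
      | succ k => left; simp [WittVector.teichmuller_coeff_pos]
  refine ⟨WittVector.truncate (m + 1) (WittVector.teichmuller p (w.coeff 0)), ?_,
    WittVector.mk p (fun k => w.coeff (k + 1)), ?_, ?_⟩
  · intro j
    rw [WittVector.coeff_truncate]
    by_cases hj : (j : ℕ) = 0
    · have h := ha j
      rw [WittVector.coeff_truncate] at h
      rw [hj] at h ⊢
      rw [WittVector.teichmuller_coeff_zero]
      rw [hzm] at h ⊢
      refine mem_transfer (fun _ : Fin 1 => x) (fun _ => hx) (fun i j _ => Subsingleton.elim i j)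
        (fun _ : Fin 1 => u) (fun _ => hu) _ _ _ (pow_ne_zero _ (Fact.out : p.Prime).ne_zero)
        _ _ ?_ h
      intro i e he
      have hne : ((p ^ (m + 1 - 1 - 0) : ℕ) : ℤ) * e + n ≠ 0 := by
        intro h0
        apply hn
        refine ⟨-e, ?_⟩
        have h1 : m + 1 - 1 - 0 = m := by omega
        rw [h1] at h0
        push_cast at h0
        linarith
      omega
    · rw [WittVector.teichmuller_coeff_pos _ _ _ (Nat.pos_of_ne_zero hj),
        zero_pow (pow_ne_zero _ (Fact.out : p.Prime).ne_zero), zero_mul]
      exact ⟨0, map_zero _⟩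
  · intro j
    have h := ha ⟨(j : ℕ) + 1, by have := j.isLt; omega⟩
    rw [WittVector.coeff_truncate] at h ⊢
    rw [WittVector.coeff_mk]
    have hexp : m + 1 - 1 - ((j : ℕ) + 1) = m - 1 - (j : ℕ) := by omega
    simp only at h
    rw [hexp] at h
    exact h
  · rw [← map_add, ← hdecomp]

end Groth.Agent.S19274
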