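import Groth.Statements.S19276
import Groth.Agent.Lib.helper29.Cyc7

set_option autoImplicit false
universe u v
open GrpAlg

namespace Groth.Agent.S19276

open Groth.Agent.H29.Cyc W4c6equivkfinstab

/-- Let `A` be a finite commutative group and `Λ` a commutative ring in which the order of `A` is
invertible. Then the ring homomorphism from the group ring `Λ[A]` to the product, over the subgroups
`B` of `A` with cyclic quotient, of the cyclotomic quotients `Λ[A ⧸ B]/(Φ_{|A/B|})`, each component
induced by `A → A/B`, is bijective. (In terms of group schemes: `Λ[A]` is the representation ring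
with coefficients in `Λ` of the finite diagonalizable group with character group `A`, the factors
are indexed by its dual cyclic subgroups, i.e. those isomorphic to some `μ_n`, and the components
are restriction followed by the cyclotomic quotient. The published statement takes `Λ = ℤ[1/|A|]`;
here `Λ` is any commutative ring in which `|A|` is invertible.) -/
theorem result (Λ : Type u) [CommRing Λ] (A : Type v)
    [AddCommGroup A] [Finite A] (hA : IsUnit ((Nat.card A : ℕ) : Λ)) :
    Function.Bijective (RingHom.pi fun B : {B : AddSubgroup A // IsAddCyclic (A ⧸ B)} =>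
      W4c6equivkfinstab.cycQuotMap Λ A B.1) := by
  constructor
  · rw [injective_iff_map_eq_zero]
    intro x hx
    apply inj_core Λ (Nat.card A) A rfl hA x
    intro C _ _ π hπ
    apply cq_of_ker Λ π hπ
    have hcyc : IsAddCyclic (A ⧸ π.ker) := isAddCyclic_of_surjective
      (QuotientAddGroup.quotientKerEquivOfSurjective π hπ).symm.toAddMonoidHom
      (QuotientAddGroup.quotientKerEquivOfSurjective π hπ).symm.surjective
    exact congrFun hx ⟨π.ker, hcyc⟩
  · intro f
    classical
    haveI : Finite {B : AddSubgroup A // IsAddCyclic (A ⧸ B)} := inferInstance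
    obtain ⟨ε, hε⟩ := exists_eps Λ A (fun B : {B : AddSubgroup A // IsAddCyclic (A ⧸ B)} => B.1)
      Subtype.val_injective (fun B => inferInstance) (fun B => B.2)
      (fun B => isUnit_of_dvd_unit (Nat.cast_dvd_cast (AddSubgroup.index_dvd_card B.1)) hA)
    haveI : Fintype {B : AddSubgroup A // IsAddCyclic (A ⧸ B)} := Fintype.ofFinite _
    have hlift : ∀ B : {B : AddSubgroup A // IsAddCyclic (A ⧸ B)},
        ∃ y, cq Λ (QuotientAddGroup.mk' B.1) y = f B :=
      fun B => cq_surjective Λ _ (QuotientAddGroup.mk'_surjective _) (f B)
    choose y hy using hlift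
    refine ⟨∑ B, ε B * y B, ?_⟩
    funext B'
    show cq Λ (QuotientAddGroup.mk' B'.1) (∑ B, ε B * y B) = f B'
    rw [map_sum]
    simp only [map_mul, hε]
    rw [Finset.sum_eq_single B']
    · rw [if_pos rfl, one_mul, hy]
    · intro B _ hB
      rw [if_neg (Ne.symm hB), zero_mul]
    · intro h
      exact absurd (Finset.mem_univ _) h

end Groth.Agent.S19276
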