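import Groth.Statements.S19279
import Groth.Agent.Lib.helper29.Cyc7

set_option autoImplicit false
universe u v
open GrpAlg

namespace Groth.Agent.S19279

open Groth.Agent.H29.Cyc W4c6equivkfinstab

lemma finite_index_type (M : Type*) [AddCommGroup M] (B₀ : AddSubgroup M) [B₀.FiniteIndex] :
    Finite {B : AddSubgroup M // B₀ ≤ B ∧ IsAddCyclic (M ⧸ B)} := by
  haveI : Finite (M ⧸ B₀) := AddSubgroup.finite_quotient_of_finiteIndex
  haveI : Finite (AddSubgroup (M ⧸ B₀)) := inferInstance
  refine Finite.of_injective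
    (fun B : {B : AddSubgroup M // B₀ ≤ B ∧ IsAddCyclic (M ⧸ B)} =>
      B.1.map (QuotientAddGroup.mk' B₀)) ?_
  intro B B' h
  apply Subtype.ext
  have h1 := congrArg (AddSubgroup.comap (QuotientAddGroup.mk' B₀)) h
  simp only [AddSubgroup.comap_map_eq, QuotientAddGroup.ker_mk'] at h1
  rw [sup_eq_left.mpr B.2.1, sup_eq_left.mpr B'.2.1] at h1
  exact h1

/-- Let `M` be a commutative group, `B₀` a subgroup of finite index and `Λ` a commutative ring in which
the index of `B₀` is invertible. Then the `Λ[M]`-linear map from `Λ[M ⧸ B₀]` to the product, over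
the subgroups `B ⊇ B₀` with `M ⧸ B` cyclic, of the localizations of `Λ[M ⧸ B₀]` at the
multiplicative subsets of `Λ[M]` of elements with image `1` in `Λ[M ⧸ B]/(Φ_{|M/B|})`, with
components the localization maps, is bijective. (In terms of group schemes: for a finite closed
subgroup T' = D(M/B₀) of the diagonalizable group with character group `M`, the representation ring
of T' with coefficients in `Λ` is the product of its localizations at the dual cyclic subgroups of
T'. The published statement has a split torus and `Λ = ℤ[1/|T'|]`; here `M` is any commutative group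
and `Λ` any commutative ring in which the order of T' is invertible.) -/
theorem result (Λ : Type u) [CommRing Λ]
    (M : Type v) [AddCommGroup M] (B₀ : AddSubgroup M) [B₀.FiniteIndex]
    (hu : IsUnit ((B₀.index : ℕ) : Λ)) :
    Function.Bijective (LinearMap.pi (R := AddMonoidAlgebra Λ M)
      fun B : {B : AddSubgroup M // B₀ ≤ B ∧ IsAddCyclic (M ⧸ B)} =>
        LocalizedModule.mkLinearMap (W4c6equivkfinstab.locSubmonoid Λ M B.1)
          (AddMonoidAlgebra Λ (M ⧸ B₀))) := by
  classical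
  haveI hfin := finite_index_type M B₀
  haveI : Fintype {B : AddSubgroup M // B₀ ≤ B ∧ IsAddCyclic (M ⧸ B)} := Fintype.ofFinite _
  have hfi : ∀ B : {B : AddSubgroup M // B₀ ≤ B ∧ IsAddCyclic (M ⧸ B)}, (B.1).FiniteIndex :=
    fun B => AddSubgroup.finiteIndex_of_le B.2.1
  have hunit : ∀ B : {B : AddSubgroup M // B₀ ≤ B ∧ IsAddCyclic (M ⧸ B)},
      IsUnit (((B.1).index : ℕ) : Λ) :=
    fun B => isUnit_of_dvd_unit (Nat.cast_dvd_cast (AddSubgroup.index_dvd_of_le B.2.1)) hu
  have hker : ∀ (B : {B : AddSubgroup M // B₀ ≤ B ∧ IsAddCyclic (M ⧸ B)})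
      (z : AddMonoidAlgebra Λ M), dom Λ (QuotientAddGroup.mk' B₀) z = 0 →
      cq Λ (QuotientAddGroup.mk' B.1) z = 0 := by
    intro B z hz
    rw [cq_eq_zero_iff, dom_eq_zero_of_le Λ B₀ B.1 B.2.1 z hz]
    exact zero_mem _
  constructor
  · rw [injective_iff_map_eq_zero]
    intro y hy
    obtain ⟨y', rfl⟩ := dom_surjective Λ _ (QuotientAddGroup.mk'_surjective B₀) y
    apply core' Λ M B₀ hu y'
    intro B hB hcyc
    have h1 : LocalizedModule.mkLinearMap (locSubmonoid Λ M B) (AddMonoidAlgebra Λ (M ⧸ B₀))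
        (dom Λ (QuotientAddGroup.mk' B₀) y') = 0 := congrFun hy ⟨B, hB, hcyc⟩
    obtain ⟨s, hs, hs0⟩ := LocalizedModule.mem_ker_mkLinearMap_iff.mp
      (LinearMap.mem_ker.mpr h1)
    rw [smul_quot, ← map_mul] at hs0
    have h2 := hker ⟨B, hB, hcyc⟩ _ hs0
    rw [map_mul, (mem_locSubmonoid_iff Λ M B s).mp hs, one_mul] at h2
    exact h2
  · intro f
    obtain ⟨ε, hε⟩ := exists_eps Λ M
      (fun B : {B : AddSubgroup M // B₀ ≤ B ∧ IsAddCyclic (M ⧸ B)} => B.1)
      Subtype.val_injective hfi (fun B => B.2.2) hunit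
    have hrep : ∀ B : {B : AddSubgroup M // B₀ ≤ B ∧ IsAddCyclic (M ⧸ B)},
        ∃ (y : AddMonoidAlgebra Λ M) (s : locSubmonoid Λ M B.1),
          f B = LocalizedModule.mk (dom Λ (QuotientAddGroup.mk' B₀) y) s := by
      intro B
      induction f B using LocalizedModule.induction_on with
      | h m s =>
        obtain ⟨y, rfl⟩ := dom_surjective Λ _ (QuotientAddGroup.mk'_surjective B₀) m
        exact ⟨y, s, rfl⟩
    choose y s hs using hrep
    refine ⟨dom Λ (QuotientAddGroup.mk' B₀) (∑ B, ε B * y B), ?_⟩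
    funext B
    show LocalizedModule.mk (dom Λ (QuotientAddGroup.mk' B₀) (∑ B, ε B * y B)) 1 = f B
    rw [hs B, LocalizedModule.mk_eq]
    have hεB : ε B ∈ locSubmonoid Λ M B.1 := by
      rw [mem_locSubmonoid_iff]
      have := hε B B
      rw [if_pos rfl] at this
      exact this
    refine ⟨⟨ε B, hεB⟩, ?_⟩
    show ε B • ((s B : AddMonoidAlgebra Λ M) • dom Λ (QuotientAddGroup.mk' B₀) (∑ B, ε B * y B)) =
      ε B • ((1 : AddMonoidAlgebra Λ M) • dom Λ (QuotientAddGroup.mk' B₀) (y B))
    rw [one_smul, smul_quot, smul_quot, smul_quot, ← map_mul, ← map_mul, ← map_mul,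
      ← sub_eq_zero, ← map_sub]
    apply core' Λ M B₀ hu
    intro B' hB' hcyc'
    rw [← mul_sub, map_mul]
    have h3 := hε ⟨B', hB', hcyc'⟩ B
    by_cases hBB : (⟨B', hB', hcyc'⟩ : {B : AddSubgroup M // B₀ ≤ B ∧ IsAddCyclic (M ⧸ B)}) = B
    · subst hBB
      have h4 : cq Λ (QuotientAddGroup.mk' B') (∑ B, ε B * y B) =
          cq Λ (QuotientAddGroup.mk' B') (y ⟨B', hB', hcyc'⟩) := by
        rw [map_sum]
        simp only [map_mul]
        rw [Finset.sum_eq_single (⟨B', hB', hcyc'⟩ :
          {B : AddSubgroup M // B₀ ≤ B ∧ IsAddCyclic (M ⧸ B)})]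
        · have := hε ⟨B', hB', hcyc'⟩ ⟨B', hB', hcyc'⟩
          rw [if_pos rfl] at this
          rw [this, one_mul]
        · intro B₁ _ hB₁
          have := hε ⟨B', hB', hcyc'⟩ B₁
          rw [if_neg (Ne.symm hB₁)] at this
          rw [this, zero_mul]
        · intro h
          exact absurd (Finset.mem_univ _) h
      have h5 : cq Λ (QuotientAddGroup.mk' B') (s ⟨B', hB', hcyc'⟩ : AddMonoidAlgebra Λ M) = 1 :=
        (mem_locSubmonoid_iff Λ M B' _).mp (s ⟨B', hB', hcyc'⟩).2
      rw [map_sub, map_mul, h4, h5, one_mul, sub_self, mul_zero]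
    · rw [if_neg hBB] at h3
      rw [h3, zero_mul]

end Groth.Agent.S19279
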