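import Groth.Statements.S19288
-- import your own Groth.Agent.* helpers here

set_option autoImplicit false
universe u
open CategoryTheory CategoryTheory.Limits MonoidalCategory CartesianMonoidalCategory MonObj AlgebraicGeometry
open AbSch

namespace Groth.Agent.S19288

/-- Let S be a scheme, X a commutative S-group scheme which is etale and separated over S (hence locally
of finite presentation), and P a commutative S-group scheme of finite presentation over S all of
whose fibres are connected. Then every homomorphism of S-group schemes from P to X is trivial (it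
factors through the unit section). -/
theorem result {S : Scheme.{u}} (P X : Over S)
    [GrpObj P] [IsCommMonObj P] [GrpObj X] [IsCommMonObj X]
    [Etale X.hom] [IsSeparated X.hom]
    [QuasiCompact P.hom] [QuasiSeparated P.hom] [LocallyOfFinitePresentation P.hom]
    (hP : ∀ s : S, ConnectedSpace ↥(P.hom.fiber s))
    (f : P ⟶ X) [IsMonHom f] : f = 1 := by
  have hΔo : IsOpenImmersion (pullback.diagonal X.hom) := inferInstance
  have hΔc : IsClosedImmersion (pullback.diagonal X.hom) := inferInstance
  have h1 : (1 : P ⟶ X) = toUnit P ≫ η[X] := rfl
  set g : P ⟶ X := 1 with hg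
  have hw : f.left ≫ X.hom = g.left ≫ X.hom := by rw [Over.w, Over.w]
  let h : P.left ⟶ pullback X.hom X.hom := pullback.lift f.left g.left hw
  have hηf : η[P] ≫ f = η[X] := IsMonHom.one_hom f
  have hηg : η[P] ≫ g = η[X] := by
    rw [h1, ← Category.assoc, toUnit_unique (η[P] ≫ toUnit P) (𝟙 _), Category.id_comp]
  have hηh : η[P].left ≫ h = η[X].left ≫ pullback.diagonal X.hom := by
    apply pullback.hom_ext
    · simp only [h, Category.assoc, pullback.lift_fst, pullback.diagonal_fst, Category.comp_id]
      rw [← Over.comp_left, hηf]
    · simp only [h, Category.assoc, pullback.lift_snd, pullback.diagonal_snd, Category.comp_id]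
      rw [← Over.comp_left, hηg]
  have hclopen : IsClopen (h.base ⁻¹' Set.range (pullback.diagonal X.hom).base) :=
    ⟨(pullback.diagonal X.hom).isClosedEmbedding.isClosed_range.preimage h.continuous,
      (pullback.diagonal X.hom).isOpenEmbedding.isOpen_range.preimage h.continuous⟩
  have huniv : Set.range h.base ⊆ Set.range (pullback.diagonal X.hom).base := by
    rintro _ ⟨p, rfl⟩
    let s := P.hom.base p
    have hconn : _root_.IsPreconnected (P.hom.base ⁻¹' {s}) := by
      rw [← Scheme.Hom.range_fiberι]
      haveI := hP s
      exact isPreconnected_range (P.hom.fiberι s).continuous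
    have hsub := hconn.subset_isClopen hclopen ?_
    · exact hsub (show p ∈ P.hom.base ⁻¹' {s} from rfl)
    · refine ⟨η[P].left.base s, ?_, ?_⟩
      · show P.hom.base (η[P].left.base s) = s
        have : η[P].left ≫ P.hom = 𝟙 S := Over.w η[P]
        have h2 : (η[P].left ≫ P.hom).base s = s := by rw [this]; rfl
        exact h2
      · show h.base (η[P].left.base s) ∈ Set.range (pullback.diagonal X.hom).base
        have h2 := congr($(hηh).base s)
        simp only [Scheme.Hom.comp_base, TopCat.comp_app] at h2
        exact ⟨_, h2.symm⟩
  let l : P.left ⟶ X.left := IsOpenImmersion.lift (pullback.diagonal X.hom) h huniv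
  have hl : l ≫ pullback.diagonal X.hom = h := IsOpenImmersion.lift_fac _ _ _
  apply Over.OverMorphism.ext
  have e1 : f.left = h ≫ pullback.fst _ _ := (pullback.lift_fst _ _ _).symm
  have e2 : g.left = h ≫ pullback.snd _ _ := (pullback.lift_snd _ _ _).symm
  rw [e1, e2, ← hl, Category.assoc, Category.assoc, pullback.diagonal_fst, pullback.diagonal_snd]

end Groth.Agent.S19288
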