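import Groth.Statements.S19309
import Groth.Agent.Lib.helper13.LaurentExt

set_option autoImplicit false
universe u
open PowerSeries LaurentSeries
open CAlg

namespace Groth.Agent.S19309

/-- Let k be a field, R a commutative k-algebra, B a finitely presented R⟦X⟧-algebra (an affine scheme V
= Spec B of finite presentation over the disc D_R = Spec R⟦X⟧) and s : B → R((X)) an R⟦X⟧-algebra
map (a section of V over the punctured disc). Then there is an ideal I of R such that for every ring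
map φ : R → R', writing θ : R((X)) → R'((X)) for the ring map compatible with R⟦X⟧ → R'⟦X⟧, the
section s extends to a section over D_{R'} — an R⟦X⟧-algebra map s' : B → R'⟦X⟧ whose composite with
R'⟦X⟧ → R'((X)) is θ ∘ s — if and only if φ kills I. In other words the sub-presheaf of Spec R where
s extends over the disc is the closed subscheme defined by I. -/
theorem result
    (k : Type u) [Field k] (R : Type u) [CommRing R] [Algebra k R]
    (B : Type u) [CommRing B] [Algebra R⟦X⟧ B] [Algebra.FinitePresentation R⟦X⟧ B]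
    (s : B →ₐ[R⟦X⟧] R⸨X⸩) :
    ∃ I : Ideal R, ∀ (R' : Type u) [CommRing R'] (φ : R →+* R') (θ : R⸨X⸩ →+* R'⸨X⸩),
      θ.comp (algebraMap R⟦X⟧ R⸨X⸩) = (algebraMap R'⟦X⟧ R'⸨X⸩).comp (PowerSeries.map φ) →
      ((∃ s' : B →+* R'⟦X⟧, s'.comp (algebraMap R⟦X⟧ B) = PowerSeries.map φ ∧
          (algebraMap R'⟦X⟧ R'⸨X⸩).comp s' = θ.comp s.toRingHom) ↔ I ≤ RingHom.ker φ) := by
  refine ⟨Ideal.span {r : R | ∃ (b : B) (j : ℤ), j < 0 ∧ r = (s b).coeff j}, ?_⟩
  intro R' _ φ θ hθ
  have hcoeff := Groth.Agent.Lib.helper13.LaurentExt.coeff_theta φ θ hθ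
  have hkey : Ideal.span {r : R | ∃ (b : B) (j : ℤ), j < 0 ∧ r = (s b).coeff j} ≤ RingHom.ker φ ↔
      ∀ b : B, θ (s b) ∈ (algebraMap R'⟦X⟧ R'⸨X⸩).range := by
    rw [Ideal.span_le]
    constructor
    · intro h b
      rw [Groth.Agent.Lib.helper13.LaurentExt.mem_range_iff]
      intro j hj
      rw [hcoeff]
      exact (RingHom.mem_ker).mp (h ⟨b, j, hj, rfl⟩)
    · rintro h r ⟨b, j, hj, rfl⟩
      have h1 := (Groth.Agent.Lib.helper13.LaurentExt.mem_range_iff _).mp (h b) j hj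
      rw [hcoeff] at h1
      exact (RingHom.mem_ker).mpr h1
  rw [hkey]
  have hinj : Function.Injective (algebraMap R'⟦X⟧ R'⸨X⸩) := by
    rw [LaurentSeries.coe_algebraMap]
    exact HahnSeries.ofPowerSeries_injective
  constructor
  · rintro ⟨s', hs1, hs2⟩ b
    refine ⟨s' b, ?_⟩
    exact congrArg (fun h => h b) hs2
  · intro h
    let e : R'⟦X⟧ ≃+* (algebraMap R'⟦X⟧ R'⸨X⸩).range :=
      RingEquiv.ofBijective (algebraMap R'⟦X⟧ R'⸨X⸩).rangeRestrict
        ⟨fun x y hxy => hinj (congrArg Subtype.val hxy), RingHom.rangeRestrict_surjective _⟩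
    let s' : B →+* R'⟦X⟧ :=
      e.symm.toRingHom.comp ((θ.comp s.toRingHom).codRestrict (algebraMap R'⟦X⟧ R'⸨X⸩).range h)
    have hs' : ∀ b, algebraMap R'⟦X⟧ R'⸨X⸩ (s' b) = θ (s b) := by
      intro b
      have h1 : algebraMap R'⟦X⟧ R'⸨X⸩ (s' b)
          = ((algebraMap R'⟦X⟧ R'⸨X⸩).rangeRestrict (s' b) : R'⸨X⸩) := rfl
      rw [h1]
      have h2 : (algebraMap R'⟦X⟧ R'⸨X⸩).rangeRestrict (s' b) = e (s' b) := rfl
      rw [h2]
      show ((e (e.symm _) : (algebraMap R'⟦X⟧ R'⸨X⸩).range) : R'⸨X⸩) = θ (s b)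
      rw [RingEquiv.apply_symm_apply]
      rfl
    refine ⟨s', ?_, ?_⟩
    · ext1 g
      apply hinj
      rw [RingHom.comp_apply, hs', s.commutes]
      exact congrArg (fun h => h g) hθ
    · ext1 b
      exact hs' b

end Groth.Agent.S19309
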