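import Groth.Statements.S19310
import Mathlib
import Groth.Agent.Lib.helper14.AlgClosedTensor

set_option autoImplicit false
universe u
open TensorProduct
open CAlg

namespace Groth.Agent.S19310

namespace S19310aux

open IsLocalRing

/-- key lemma: over a local ring `R'`, an element of `R' ⊗ A` whose image in `κ ⊗ A` is nonzero is
a nonzerodivisor (`A` a domain over the algebraically closed field `k`). -/
theorem key {k : Type u} [Field k] [IsAlgClosed k] {A : Type u} [CommRing A] [Algebra k A]
    [IsDomain A] {R' : Type u} [CommRing R'] [Algebra k R'] [IsLocalRing R']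
    (G f : R' ⊗[k] A) (hGf : G * f = 0)
    (hG : Algebra.TensorProduct.map (IsScalarTower.toAlgHom k R' (ResidueField R')) (AlgHom.id k A) G
      ≠ 0) : f = 0 := by
  classical
  let κ := ResidueField R'
  let b := Module.Free.chooseBasis k A
  let Bb := Algebra.TensorProduct.basis R' b
  let Bκ := Algebra.TensorProduct.basis κ b
  haveI : IsDomain (κ ⊗[k] A) := Groth.Agent.H14.isDomain_tensorProduct_of_isAlgClosed
  let ψ := Algebra.TensorProduct.map (IsScalarTower.toAlgHom k R' κ) (AlgHom.id k A)
  -- linear independence of `G * Bb i`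
  have hLI : LinearIndependent R' (fun i => G * Bb i) := by
    apply Module.IsLocalRing.linearIndependent_of_flat
    let e : κ ⊗[R'] (R' ⊗[k] A) ≃ₗ[κ] κ ⊗[k] A :=
      TensorProduct.AlgebraTensorModule.cancelBaseChange k R' κ κ A
    have he : ∀ x : R' ⊗[k] A, e ((1 : κ) ⊗ₜ[R'] x) = ψ x := by
      intro x
      induction x using TensorProduct.induction_on with
      | zero => simp
      | tmul r a =>
        rw [TensorProduct.AlgebraTensorModule.cancelBaseChange_tmul]
        simp [ψ, Algebra.smul_def]
      | add x y hx hy => rw [TensorProduct.tmul_add, map_add, hx, hy, map_add]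
    have h1 : LinearIndependent κ (fun i => ψ G * Bκ i) := by
      have := Bκ.linearIndependent.map' (LinearMap.mulLeft κ (ψ G)) (by
        rw [LinearMap.ker_eq_bot]
        intro x y hxy
        exact mul_left_cancel₀ hG hxy)
      exact this
    have h2 : (fun i => ψ G * Bκ i) = fun i => e ((TensorProduct.mk R' κ (R' ⊗[k] A) 1 ∘ fun i => G * Bb i) i) := by
      funext i
      change _ = e ((1 : κ) ⊗ₜ[R'] (G * Bb i))
      rw [he, map_mul]
      congr 1
      simp [Bb, Bκ, ψ, Algebra.TensorProduct.basis_apply]
    rw [h2] at h1
    exact LinearIndependent.of_comp e.toLinearMap h1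
  have hrep : f = Finsupp.linearCombination R' Bb (Bb.repr f) := (Bb.linearCombination_repr f).symm
  have h3 : Finsupp.linearCombination R' (fun i => G * Bb i) (Bb.repr f) = 0 := by
    have := congrArg (LinearMap.mulLeft R' G) hrep
    rw [LinearMap.mulLeft_apply, hGf] at this
    rw [this, Finsupp.apply_linearCombination]
    rfl
  have h4 := (linearIndependent_iff.1 hLI) _ h3
  rw [hrep, h4, map_zero]

end S19310aux

/-- Let k be an algebraically closed field, A a finitely generated k-algebra which is an integral domain
(X = Spec A an affine variety), R a commutative k-algebra, possibly non-reduced, and U an open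
subset of X_R = Spec (R ⊗_k A) meeting every fibre of X_R → Spec R (a very dense open subset). Then
a regular function on X_R whose restriction to U vanishes is zero: if f ∈ R ⊗_k A maps to 0 in the
localisation (R ⊗_k A)[1/g] for every g with D(g) ⊆ U, then f = 0. (The published statement is that
automorphisms of a torsor under a smooth affine group scheme over X_R which are the identity over a
very dense open subset are the identity, for X a smooth projective curve; its proof reduces this to
the present assertion about functions, for quasi-projective X; this row is the affine case.) -/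
theorem result
    (k : Type u) [Field k] [IsAlgClosed k]
    (A : Type u) [CommRing A] [Algebra k A] [IsDomain A] [Algebra.FiniteType k A]
    (R : Type u) [CommRing R] [Algebra k R]
    (U : TopologicalSpace.Opens (PrimeSpectrum (TensorProduct k R A)))
    (hsurj : ∀ q : PrimeSpectrum R, ∃ P ∈ U,
      PrimeSpectrum.comap (Algebra.TensorProduct.includeLeftRingHom : R →+* TensorProduct k R A) P = q)
    (f : TensorProduct k R A)
    (hf : ∀ g : TensorProduct k R A, (PrimeSpectrum.basicOpen g : Set (PrimeSpectrum (TensorProduct k R A))) ⊆ U →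
      algebraMap (TensorProduct k R A) (Localization.Away g) f = 0) :
    f = 0 := by
  classical
  by_contra hf0
  -- annihilator of f in R
  let 𝔠 : Ideal R := LinearMap.ker (LinearMap.toSpanSingleton R (R ⊗[k] A) f)
  have h𝔠 : ∀ r : R, r ∈ 𝔠 ↔ r • f = 0 := fun r => by
    rw [LinearMap.mem_ker, LinearMap.toSpanSingleton_apply]
  have h𝔠top : 𝔠 ≠ ⊤ := by
    intro h
    have : (1 : R) ∈ 𝔠 := by rw [h]; trivial
    rw [h𝔠, one_smul] at this
    exact hf0 this
  obtain ⟨q, hqmax, hq⟩ := Ideal.exists_le_maximal 𝔠 h𝔠top
  haveI : q.IsPrime := hqmax.isPrime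
  obtain ⟨P, hPU, hPq⟩ := hsurj ⟨q, inferInstance⟩
  obtain ⟨_, ⟨g, rfl⟩, hPg, hgU⟩ :=
    PrimeSpectrum.isTopologicalBasis_basic_opens.exists_subset_of_mem_open hPU U.isOpen
  have hg0 := hf g hgU
  rw [IsLocalization.map_eq_zero_iff (Submonoid.powers g)] at hg0
  obtain ⟨⟨_, n, rfl⟩, hn⟩ := hg0
  simp only at hn
  have hGP : g ^ n ∉ P.asIdeal := fun h => hPg (P.2.mem_of_pow_mem n h)
  -- localize
  let R' := Localization.AtPrime q
  let φ : R ⊗[k] A →ₐ[k] R' ⊗[k] A :=
    Algebra.TensorProduct.map (IsScalarTower.toAlgHom k R R') (AlgHom.id k A)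
  let b := Module.Free.chooseBasis k A
  let Bb := Algebra.TensorProduct.basis R b
  let Bb' := Algebra.TensorProduct.basis R' b
  have hPmem : ∀ r ∈ q, (r ⊗ₜ[k] (1 : A) : R ⊗[k] A) ∈ P.asIdeal := by
    intro r hr
    have h1 : r ∈ (PrimeSpectrum.comap (Algebra.TensorProduct.includeLeftRingHom : R →+* R ⊗[k] A) P).asIdeal := by
      rw [hPq]; exact hr
    exact h1
  have hφf : φ f = 0 := by
    apply S19310aux.key (φ (g ^ n)) (φ f)
    · rw [← map_mul, hn, map_zero]
    · intro h0
      apply hGP
      -- g^n is in the kernel of B → κ ⊗ A, hence in P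
      set x := g ^ n with hx
      have hrep : x = Finsupp.linearCombination R Bb (Bb.repr x) := (Bb.linearCombination_repr x).symm
      rw [hrep, Finsupp.linearCombination_apply, Finsupp.sum]
      refine Ideal.sum_mem _ fun i _ => ?_
      have hxi : Bb.repr x i ∈ q := by
        -- coordinates of the image vanish
        let Bκ := Algebra.TensorProduct.basis (IsLocalRing.ResidueField R') b
        have h1 : Algebra.TensorProduct.map (IsScalarTower.toAlgHom k R' (IsLocalRing.ResidueField R'))
            (AlgHom.id k A) (φ x) =
            ∑ j ∈ (Bb.repr x).support,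
              algebraMap R (IsLocalRing.ResidueField R') (Bb.repr x j) • Bκ j := by
          conv_lhs => rw [hrep, Finsupp.linearCombination_apply, Finsupp.sum]
          rw [map_sum, map_sum]
          refine Finset.sum_congr rfl fun j _ => ?_
          simp only [Bb, Bκ, Algebra.TensorProduct.basis_apply, TensorProduct.smul_tmul', smul_eq_mul,
            mul_one, φ, Algebra.TensorProduct.map_tmul, AlgHom.id_apply, IsScalarTower.coe_toAlgHom']
          rw [← IsScalarTower.algebraMap_apply R R' (IsLocalRing.ResidueField R')]
        rw [h0] at h1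
        by_cases hi : i ∈ (Bb.repr x).support
        · have h2 := (linearIndependent_iff'.1 Bκ.linearIndependent) _ _ h1.symm i hi
          exact Ideal.algebraMap_residueField_eq_zero.1 h2
        · rw [Finsupp.notMem_support_iff.1 hi]; exact q.zero_mem
      have : Bb.repr x i • Bb i = (Bb.repr x i ⊗ₜ[k] (1 : A)) * ((1 : R) ⊗ₜ[k] b i) := by
        simp [Bb, Algebra.TensorProduct.basis_apply, TensorProduct.smul_tmul']
      rw [this]
      exact Ideal.mul_mem_right _ _ (hPmem _ hxi)
  -- coordinates of f vanish in the localization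
  have hrepf : f = Finsupp.linearCombination R Bb (Bb.repr f) := (Bb.linearCombination_repr f).symm
  have h1 : φ f = ∑ j ∈ (Bb.repr f).support, algebraMap R R' (Bb.repr f j) • Bb' j := by
    conv_lhs => rw [hrepf, Finsupp.linearCombination_apply, Finsupp.sum]
    rw [map_sum]
    refine Finset.sum_congr rfl fun j _ => ?_
    simp only [Bb, Bb', Algebra.TensorProduct.basis_apply, TensorProduct.smul_tmul', smul_eq_mul,
      mul_one, φ, Algebra.TensorProduct.map_tmul, AlgHom.id_apply, IsScalarTower.coe_toAlgHom']
  rw [hφf] at h1
  have h2 := (linearIndependent_iff'.1 Bb'.linearIndependent) _ _ h1.symm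
  have h3 : ∀ j ∈ (Bb.repr f).support, ∃ s : q.primeCompl, (s : R) * Bb.repr f j = 0 := by
    intro j hj
    have := h2 j hj
    rw [IsLocalization.map_eq_zero_iff q.primeCompl] at this
    exact this
  choose! s hs using h3
  let t : R := ∏ j ∈ (Bb.repr f).support, (s j : R)
  have ht : t ∉ q := by
    intro h
    have h' : ∏ j ∈ (Bb.repr f).support, (s j : R) ∈ q := h
    rw [Ideal.IsPrime.prod_mem_iff] at h'
    obtain ⟨j, _, hj⟩ := h'
    exact (s j).2 hj
  apply ht
  apply hq
  rw [h𝔠]
  conv_lhs => rw [hrepf, Finsupp.linearCombination_apply, Finsupp.sum]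
  rw [Finset.smul_sum]
  refine Finset.sum_eq_zero fun j hj => ?_
  rw [smul_smul]
  have : t * Bb.repr f j = 0 := by
    change (∏ j ∈ (Bb.repr f).support, (s j : R)) * Bb.repr f j = 0
    rw [← Finset.mul_prod_erase _ _ hj, mul_comm (s j : R), mul_assoc, hs j hj, mul_zero]
  rw [this, zero_smul]

end Groth.Agent.S19310
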