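import Groth.Statements.S19322
import Mathlib
import Groth.Agent.Lib.helper18.SSLine

set_option autoImplicit false
set_option linter.style.haveILetI false
universe v u
open CategoryTheory CategoryTheory.Limits
open SpSeq

namespace Groth.Agent.S19322

section helpers

variable {K : Type u} [Field K]

/-- three-term rank formula -/
lemma finrank_three {M₁ M₂ M₃ : Type v} [AddCommGroup M₁] [Module K M₁] [AddCommGroup M₂]
    [Module K M₂] [AddCommGroup M₃] [Module K M₃] (f : M₁ →ₗ[K] M₂) (g : M₂ →ₗ[K] M₃)
    (f' : M₁ →ₗ[K] LinearMap.ker g) (hf' : ∀ x, (f' x : M₂) = f x) [Module.Finite K M₂] :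
    Module.finrank K M₂ = Module.finrank K (LinearMap.range f) +
      Module.finrank K (LinearMap.ker g ⧸ LinearMap.range f') +
      Module.finrank K (LinearMap.range g) := by
  have e1 := LinearMap.finrank_range_add_finrank_ker g
  have e2 := Submodule.finrank_quotient_add_finrank (LinearMap.range f')
  have e3 : Module.finrank K (LinearMap.range f') = Module.finrank K (LinearMap.range f) := by
    have hrange : LinearMap.range f = (LinearMap.range f').map (LinearMap.ker g).subtype := by
      ext y
      constructor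
      · rintro ⟨x, rfl⟩
        exact ⟨f' x, ⟨x, rfl⟩, hf' x⟩
      · rintro ⟨_, ⟨x, rfl⟩, rfl⟩
        exact ⟨x, (hf' x).symm⟩
    rw [hrange]
    exact (Submodule.equivMapOfInjective _ (Submodule.subtype_injective _) _).finrank_eq
  omega

lemma finrank_cokernel {A B : ModuleCat.{v} K} [Module.Finite K B] (f : A ⟶ B) [Mono f] :
    Module.finrank K B = Module.finrank K A + Module.finrank K ↑(cokernel f) := by
  have hinj : Function.Injective f.hom := (ModuleCat.mono_iff_injective f).1 inferInstance
  have hsurj : Function.Surjective (cokernel.π f).hom :=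
    (ModuleCat.epi_iff_surjective (cokernel.π f)).1 inferInstance
  have hex : LinearMap.range f.hom = LinearMap.ker (cokernel.π f).hom :=
    (ShortComplex.exact_cokernel f).moduleCat_range_eq_ker
  have e1 := LinearMap.finrank_range_add_finrank_ker (cokernel.π f).hom
  rw [LinearMap.range_eq_top.2 hsurj, finrank_top, ← hex, LinearMap.finrank_range_of_inj hinj] at e1
  omega

lemma finite_sub {X : ModuleCat.{v} K} [Module.Finite K X] (S : Subobject X) :
    Module.Finite K ↑(Subobject.underlying.obj S) :=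
  Module.Finite.of_injective S.arrow.hom ((ModuleCat.mono_iff_injective S.arrow).1 inferInstance)

lemma fil_step {X : ModuleCat.{v} K} [Module.Finite K X] (F : ℤ → Subobject X) (hF : Antitone F)
    (p : ℤ) :
    Module.finrank K ↑(Subobject.underlying.obj (F p)) =
      Module.finrank K ↑(Subobject.underlying.obj (F (p + 1))) +
        Module.finrank K ↑(grPiece F hF p) := by
  haveI : Module.Finite K ↑(Subobject.underlying.obj (F p)) := finite_sub (F p)
  exact finrank_cokernel ((F (p + 1)).ofLE (F p) (hF (Int.le_add_one le_rfl)))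

lemma fil_sum {X : ModuleCat.{v} K} [Module.Finite K X] (F : ℤ → Subobject X) (hF : Antitone F)
    (lo : ℤ) (m : ℕ) :
    Module.finrank K ↑(Subobject.underlying.obj (F lo)) =
      Module.finrank K ↑(Subobject.underlying.obj (F (lo + (m : ℤ)))) +
        ∑ k ∈ Finset.range m, Module.finrank K ↑(grPiece F hF (lo + (k : ℤ))) := by
  induction m with
  | zero =>
    have h0 : lo + ((0 : ℕ) : ℤ) = lo := by simp
    rw [h0, Finset.range_zero, Finset.sum_empty, add_zero]
  | succ m ih =>
    have h1 := fil_step F hF (lo + (m : ℤ))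
    have h2 : lo + ((m + 1 : ℕ) : ℤ) = lo + (m : ℤ) + 1 := by push_cast; ring
    rw [Finset.sum_range_succ, h2]
    omega

variable (d : ℤ × ℤ) (P : HomologicalComplex (ModuleCat.{v} K) (ComplexShape.up' d))

lemma homology_iso (x : ℤ × ℤ) :
    Nonempty (P.homology x ≅ (P.sc' (x - d) x (x + d)).moduleCatLeftHomologyData.H) := by
  have hprev : (ComplexShape.up' d).prev x = x - d :=
    (ComplexShape.up' d).prev_eq' (sub_add_cancel x d)
  have hnext : (ComplexShape.up' d).next x = x + d := (ComplexShape.up' d).next_eq' rfl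
  exact ⟨P.homologyIsoSc' (x - d) x (x + d) hprev hnext ≪≫
    (P.sc' (x - d) x (x + d)).moduleCatHomologyIso⟩

lemma finrank_X (x : ℤ × ℤ) [Module.Finite K (P.X x)] :
    Module.finrank K (P.X x) = Module.finrank K (LinearMap.range (P.d (x - d) x).hom) +
      Module.finrank K (P.homology x) +
      Module.finrank K (LinearMap.range (P.d x (x + d)).hom) := by
  obtain ⟨eH⟩ := homology_iso d P x
  haveI : Module.Finite K ↑(P.sc' (x - d) x (x + d)).X₂ :=
    inferInstanceAs (Module.Finite K (P.X x))
  have h3 := finrank_three (K := K) (P.sc' (x - d) x (x + d)).f.hom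
    (P.sc' (x - d) x (x + d)).g.hom
    (P.sc' (x - d) x (x + d)).moduleCatToCycles (fun y => rfl)
  have hH : Module.finrank K (P.homology x) =
      Module.finrank K (LinearMap.ker (P.sc' (x - d) x (x + d)).g.hom ⧸
        LinearMap.range (P.sc' (x - d) x (x + d)).moduleCatToCycles) :=
    eH.toLinearEquiv.finrank_eq
  rw [hH]
  exact h3

lemma finite_homology (x : ℤ × ℤ) [Module.Finite K (P.X x)] :
    Module.Finite K (P.homology x) := by
  obtain ⟨eH⟩ := homology_iso d P x
  haveI : Module.Finite K ↑(P.sc' (x - d) x (x + d)).X₂ :=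
    inferInstanceAs (Module.Finite K (P.X x))
  haveI hQ : Module.Finite K (LinearMap.ker (P.sc' (x - d) x (x + d)).g.hom ⧸
        LinearMap.range (P.sc' (x - d) x (x + d)).moduleCatToCycles) := inferInstance
  haveI hQ' : Module.Finite K ↑(P.sc' (x - d) x (x + d)).moduleCatLeftHomologyData.H := hQ
  exact Module.Finite.equiv eH.symm.toLinearEquiv

lemma finrank_homology_le (x : ℤ × ℤ) [Module.Finite K (P.X x)] :
    Module.finrank K (P.homology x) ≤ Module.finrank K (P.X x) := by
  have := finrank_X d P x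
  omega

lemma d_eq_zero_of_finrank_le (x : ℤ × ℤ) [Module.Finite K (P.X x)]
    (h : Module.finrank K (P.X x) ≤ Module.finrank K (P.homology x)) :
    P.d (x - d) x = 0 ∧ P.d x (x + d) = 0 := by
  have h1 := finrank_X d P x
  have h2 : Module.finrank K (LinearMap.range (P.d (x - d) x).hom) = 0 := by omega
  have h3 : Module.finrank K (LinearMap.range (P.d x (x + d)).hom) = 0 := by omega
  constructor
  · apply ModuleCat.hom_ext
    rw [ModuleCat.hom_zero]
    exact LinearMap.range_eq_bot.1 (Submodule.finrank_eq_zero.1 h2)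
  · apply ModuleCat.hom_ext
    rw [ModuleCat.hom_zero]
    exact LinearMap.range_eq_bot.1 (Submodule.finrank_eq_zero.1 h3)

variable {r₀ : ℤ} (E : CohomologicalSpectralSequence (ModuleCat.{v} K) r₀)
  (hfd : ∀ pq : ℤ × ℤ, Module.Finite K ((E.page r₀ le_rfl).X pq))

include hfd

lemma finite_page : ∀ (r : ℤ) (hr : r₀ ≤ r) (pq : ℤ × ℤ),
    Module.Finite K ((E.page r hr).X pq) := by
  intro r hr
  induction r, hr using Int.le_induction with
  | base => exact hfd
  | succ r hr ih =>
    intro pq
    haveI := ih pq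
    haveI := finite_homology (r, 1 - r) (E.page r hr) pq
    exact Module.Finite.equiv (E.iso r (r + 1) pq rfl hr).toLinearEquiv

lemma finrank_succ_le (r : ℤ) (hr : r₀ ≤ r) (pq : ℤ × ℤ) :
    Module.finrank K ((E.page (r + 1) (hr.trans (Int.le_add_one le_rfl))).X pq) ≤
      Module.finrank K ((E.page r hr).X pq) := by
  haveI := finite_page E hfd r hr pq
  rw [← (E.iso r (r + 1) pq rfl hr).toLinearEquiv.finrank_eq]
  exact finrank_homology_le (r, 1 - r) (E.page r hr) pq

lemma finrank_le_of_le (r r' : ℤ) (hr : r₀ ≤ r) (hrr' : r ≤ r') (pq : ℤ × ℤ) :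
    Module.finrank K ((E.page r' (hr.trans hrr')).X pq) ≤
      Module.finrank K ((E.page r hr).X pq) := by
  induction r', hrr' using Int.le_induction with
  | base => exact le_rfl
  | succ k hk ih => exact (finrank_succ_le E hfd k (hr.trans hk) pq).trans ih

lemma d_eq_zero_of_finrank_le' (r : ℤ) (hr : r₀ ≤ r) (pq : ℤ × ℤ)
    (h : Module.finrank K ((E.page r hr).X pq) ≤
      Module.finrank K ((E.page (r + 1) (hr.trans (Int.le_add_one le_rfl))).X pq)) :
    (E.page r hr).d (pq - (r, 1 - r)) pq = 0 ∧ (E.page r hr).d pq (pq + (r, 1 - r)) = 0 := by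
  haveI := finite_page E hfd r hr pq
  refine d_eq_zero_of_finrank_le (r, 1 - r) (E.page r hr) pq ?_
  rw [(E.iso r (r + 1) pq rfl hr).toLinearEquiv.finrank_eq]
  exact h

lemma squeeze (pq : ℤ × ℤ) (rk : ℤ) (hrk : r₀ ≤ rk)
    (heq : Module.finrank K ((E.page rk hrk).X pq) =
      Module.finrank K ((E.page r₀ le_rfl).X pq))
    (r' : ℤ) (h₀ : r₀ ≤ r') (hlt : r' < rk) :
    (E.page r' h₀).d (pq - (r', 1 - r')) pq = 0 ∧
      (E.page r' h₀).d pq (pq + (r', 1 - r')) = 0 := by
  have h1 : r' + 1 ≤ rk := hlt
  have e1 := finrank_le_of_le E hfd (r' + 1) rk (h₀.trans (Int.le_add_one le_rfl)) h1 pq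
  have e2 := finrank_le_of_le E hfd r₀ r' le_rfl h₀ pq
  refine d_eq_zero_of_finrank_le' E hfd r' h₀ pq ?_
  exact e2.trans (heq.symm.le.trans e1)

end helpers

/-- Let K be a field and E a cohomological spectral sequence of K-vector spaces, pages from r₀,
concentrated in the first quadrant on page r₀ and with all terms of page r₀ finite-dimensional, and
let H be abutment data for E whose filtration in degree n is finite, H n finite-dimensional. If the
dimensions of the page-r₀ terms E^{s, n-s}, 0 ≤ s ≤ n, add up to the dimension of H n, then every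
position of total degree n is stationary from page r₀ on: all differentials into and out of it
vanish on every page. (The printed statement takes r₀ a positive integer and n ≥ 0; neither
restriction is needed.) -/
theorem result
    {K : Type u} [Field K] {r₀ : ℤ}
    (E : CohomologicalSpectralSequence (ModuleCat.{v} K) r₀) (H : ℤ → ModuleCat.{v} K)
    (a : SpSeq.Abutment E H) (n : ℤ) (hfin : a.IsFinite n)
    (hquad : ∀ pq : ℤ × ℤ, pq.1 < 0 ∨ pq.2 < 0 → IsZero ((E.page r₀ le_rfl).X pq))
    (hfd : ∀ pq : ℤ × ℤ, Module.Finite K ((E.page r₀ le_rfl).X pq))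
    (hH : Module.Finite K (H n))
    (hsum : ∑ s ∈ Finset.Icc (0 : ℤ) n, Module.finrank K ((E.page r₀ le_rfl).X (s, n - s)) =
      Module.finrank K (H n)) :
    ∀ s : ℤ, SpSeq.StationaryAt E (s, n - s) r₀ := by
  classical
  haveI := hH
  have hzero_out : ∀ s' : ℤ, (s' < 0 ∨ n < s') →
      IsZero ((E.page r₀ le_rfl).X (s', n - s')) := by
    intro s' hs'
    apply hquad
    rcases hs' with h | h
    · left
      exact h
    · right
      show n - s' < 0
      omega
  have hGeq : ∀ s' : ℤ, Module.finrank K ↑(grPiece (a.fil n) (a.anti n) s') =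
      Module.finrank K
        ↑((E.page (a.rk (s', n - s')) (a.stat (s', n - s')).1).X (s', n - s')) := by
    intro s'
    obtain ⟨e⟩ := Groth.Agent.S8347.grPiece_congr a.fil a.anti (s' + (n - s')) n s' (by omega)
    exact ((a.β (s', n - s')) ≪≫ e).toLinearEquiv.finrank_eq.symm
  have hGzero : ∀ s' : ℤ, (s' < 0 ∨ n < s') →
      Module.finrank K ↑(grPiece (a.fil n) (a.anti n) s') = 0 := by
    intro s' hs'
    have h1 := (Groth.Agent.S8355.result E r₀ le_rfl (s', n - s') (hzero_out s' hs')).2 H a
    obtain ⟨e⟩ := Groth.Agent.S8347.grPiece_congr a.fil a.anti (s' + (n - s')) n s' (by omega)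
    have h2 : IsZero (grPiece (a.fil n) (a.anti n) s') := h1.of_iso e.symm
    haveI := ModuleCat.subsingleton_of_isZero h2
    exact Module.finrank_zero_of_subsingleton
  have hHsum : Module.finrank K (H n) =
      ∑ s' ∈ Finset.Icc (0 : ℤ) n, Module.finrank K ↑(grPiece (a.fil n) (a.anti n) s') := by
    obtain ⟨⟨A, hA⟩, ⟨B, hB⟩⟩ := hfin
    have hA' : a.fil n A = ⊤ := hA
    have hB' : a.fil n B = ⊥ := hB
    obtain ⟨lo, hlo1, hlo2⟩ : ∃ lo : ℤ, lo ≤ A ∧ lo ≤ 0 :=
      ⟨min A 0, min_le_left _ _, min_le_right _ _⟩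
    obtain ⟨hi, hhi1, hhi2, hhi3⟩ : ∃ hi : ℤ, B ≤ hi ∧ n + 1 ≤ hi ∧ lo ≤ hi :=
      ⟨max (max B (n + 1)) lo, le_trans (le_max_left _ _) (le_max_left _ _),
        le_trans (le_max_right _ _) (le_max_left _ _), le_max_right _ _⟩
    have htop : a.fil n lo = ⊤ := by
      apply top_le_iff.1
      rw [← hA']
      exact a.anti n hlo1
    have hbot : a.fil n hi = ⊥ := by
      apply le_bot_iff.1
      rw [← hB']
      exact a.anti n hhi1
    obtain ⟨m, hm⟩ : ∃ m : ℕ, lo + (m : ℤ) = hi := ⟨(hi - lo).toNat, by omega⟩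
    have h1 := fil_sum (a.fil n) (a.anti n) lo m
    rw [hm] at h1
    have h2 : Module.finrank K ↑(Subobject.underlying.obj (a.fil n lo)) =
        Module.finrank K (H n) :=
      (Subobject.isoOfEq _ _ htop ≪≫
        asIso (⊤ : Subobject (H n)).arrow).toLinearEquiv.finrank_eq
    have h3 : Module.finrank K ↑(Subobject.underlying.obj (a.fil n hi)) = 0 := by
      have hz : IsZero (Subobject.underlying.obj (a.fil n hi)) :=
        (isZero_zero _).of_iso (Subobject.isoOfEq _ _ hbot ≪≫ Subobject.botCoeIsoZero)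
      haveI := ModuleCat.subsingleton_of_isZero hz
      exact Module.finrank_zero_of_subsingleton
    rw [h2, h3, zero_add] at h1
    rw [h1]
    let emb : ℕ ↪ ℤ := ⟨fun k => lo + (k : ℤ), fun x y hxy => by simpa using hxy⟩
    have h4 : ∑ k ∈ Finset.range m,
          Module.finrank K ↑(grPiece (a.fil n) (a.anti n) (lo + (k : ℤ))) =
        ∑ x ∈ (Finset.range m).map emb,
          Module.finrank K ↑(grPiece (a.fil n) (a.anti n) x) := by
      rw [Finset.sum_map]
      rfl
    rw [h4]
    symm
    apply Finset.sum_subset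
    · intro x hx
      rw [Finset.mem_Icc] at hx
      rw [Finset.mem_map]
      refine ⟨(x - lo).toNat, Finset.mem_range.2 (by omega), ?_⟩
      show lo + ((x - lo).toNat : ℤ) = x
      omega
    · intro x _ hx'
      apply hGzero
      rw [Finset.mem_Icc] at hx'
      omega
  have hle : ∀ s' ∈ Finset.Icc (0 : ℤ) n,
      Module.finrank K ↑(grPiece (a.fil n) (a.anti n) s') ≤
        Module.finrank K ↑((E.page r₀ le_rfl).X (s', n - s')) := by
    intro s' _
    rw [hGeq s']
    exact finrank_le_of_le E hfd r₀ (a.rk (s', n - s')) le_rfl (a.stat (s', n - s')).1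
      (s', n - s')
  have hall := (Finset.sum_eq_sum_iff_of_le hle).1 (hHsum.symm.trans hsum.symm)
  intro s
  by_cases hs : 0 ≤ s ∧ s ≤ n
  · have heq := hall s (Finset.mem_Icc.2 hs)
    refine ⟨le_rfl, fun r' h₀ _ => ?_⟩
    by_cases h : a.rk (s, n - s) ≤ r'
    · exact (a.stat (s, n - s)).2 r' h₀ h
    · exact squeeze E hfd (s, n - s) (a.rk (s, n - s)) (a.stat (s, n - s)).1
        ((hGeq s).symm.trans heq) r' h₀ (not_le.1 h)
  · have hz := hzero_out s (by omega)
    refine ⟨le_rfl, fun r' h₀ _ => ?_⟩
    have hz' : IsZero ((E.page r' h₀).X (s, n - s)) :=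
      (Groth.Agent.S8355.result E r₀ le_rfl (s, n - s) hz).1 r' h₀
    exact ⟨hz'.eq_of_tgt _ _, hz'.eq_of_src _ _⟩

end Groth.Agent.S19322
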