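import Groth.Statements.S19326
import Groth.Agent.Lib.helper29.AddDiag

set_option autoImplicit false
universe u
open TensorProduct
open GLin

namespace Groth.Agent.S19326

open Groth.Agent.H29AddDiag Groth.Agent.H12Comod

/-- Let k be a field, M a finite abelian group and D = Spec k[M] the finite diagonalizable group scheme
it defines, acting on an affine k-scheme U = Spec R through a multiplicative coaction R → R ⊗ k[M];
write R_a for the weight space of a ∈ M (elements with coaction f ⊗ a). For an ideal J of R the
induced action of D on the closed subscheme V(J) is trivial, meaning that the coaction followed by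
reduction modulo J equals f ↦ (f mod J) ⊗ 1, exactly when J contains the ideal generated by the
weight spaces R_a for a ≠ 0; in other words that ideal defines the largest closed subscheme of U on
which D acts trivially. (The printed setting has U smooth, which plays no role here and is not
assumed; the further assertion that the construction commutes with flat base change on U/D is not
part of this statement.) -/
theorem result
    {k : Type u} [Field k] {M : Type u} [AddCommGroup M] [Finite M]
    {R : Type u} [CommRing R] [Algebra k R] [HopfRep.Comod k (AddMonoidAlgebra k M) R]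
    [GLin.IsCoactAlg k (AddMonoidAlgebra k M) R] (J : Ideal R) :
    (∀ f : R, LinearMap.rTensor (AddMonoidAlgebra k M) (Ideal.Quotient.mkₐ k J).toLinearMap
        (HopfRep.Comod.coact (k := k) (A := AddMonoidAlgebra k M) f) =
        (Ideal.Quotient.mk J f) ⊗ₜ[k] (1 : AddMonoidAlgebra k M)) ↔
      Ideal.span (⋃ (a : M) (_ : a ≠ 0),
        (HopfRep.eigenspace k (AddMonoidAlgebra k M) R (AddMonoidAlgebra.single a 1) : Set R)) ≤ J := by
  classical
  constructor
  · intro h
    rw [Ideal.span_le]
    intro f hf
    simp only [Set.mem_iUnion] at hf
    obtain ⟨a, ha, hfa⟩ := hf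
    have hfa' : HopfRep.Comod.coact (k := k) (A := AddMonoidAlgebra k M) f =
        f ⊗ₜ[k] AddMonoidAlgebra.single a (1 : k) := hfa
    have h1 := h f
    rw [hfa', LinearMap.rTensor_tmul] at h1
    have h2 := congrArg (T (R ⧸ J) (coord k a)) h1
    rw [T_tmul, T_tmul, coord_single, AddMonoidAlgebra.one_def, coord_single, if_pos rfl,
      if_neg (Ne.symm ha), one_smul, zero_smul] at h2
    exact Ideal.Quotient.eq_zero_iff_mem.mp h2
  · intro h f
    have hp : ∀ m : M, m ≠ 0 → Ideal.Quotient.mk J (p k m f) = 0 := by
      intro m hm
      rw [Ideal.Quotient.eq_zero_iff_mem]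
      apply h
      apply Ideal.subset_span
      simp only [Set.mem_iUnion]
      exact ⟨m, hm, coact_p m f⟩
    rw [coact_eq_sum, map_sum]
    have h1 : ∀ m ∈ (ex (k := k) (M := M) f).support,
        LinearMap.rTensor (AddMonoidAlgebra k M) (Ideal.Quotient.mkₐ k J).toLinearMap
          (p k m f ⊗ₜ[k] AddMonoidAlgebra.single m (1 : k)) =
        if m = 0 then Ideal.Quotient.mk J (p k m f) ⊗ₜ[k] (1 : AddMonoidAlgebra k M) else 0 := by
      intro m _
      rw [LinearMap.rTensor_tmul]
      split_ifs with hm
      · subst hm
        rw [AddMonoidAlgebra.one_def]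
        rfl
      · have : (Ideal.Quotient.mkₐ k J).toLinearMap (p k m f) = 0 := hp m hm
        rw [this, TensorProduct.zero_tmul]
    rw [Finset.sum_congr rfl h1]
    have h2 : Ideal.Quotient.mk J f = ∑ m ∈ (ex (k := k) (M := M) f).support,
        if m = 0 then Ideal.Quotient.mk J (p k m f) else 0 := by
      conv_lhs => rw [sum_p (k := k) (M := M) f, map_sum]
      apply Finset.sum_congr rfl
      intro m _
      split_ifs with hm
      · rfl
      · exact hp m hm
    rw [h2, TensorProduct.sum_tmul]
    apply Finset.sum_congr rfl
    intro m _
    split_ifs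
    · rfl
    · rw [TensorProduct.zero_tmul]

end Groth.Agent.S19326
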