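import Groth.Statements.S19328
import Groth.Agent.Lib.helper13.FppfLocalRoot

set_option autoImplicit false
universe u
open CategoryTheory CategoryTheory.Limits AlgebraicGeometry
open ModPair

namespace Groth.Agent.S19328

/-- Let A be a commutative ring such that Spec A is local for fppf coverings, in the sense that for
every scheme X, every jointly surjective family of morphisms to X each of which is flat and of
finite presentation (locally of finite presentation, quasi-compact and quasi-separated), and every
morphism Spec A ⟶ X, the morphism factors through a member of the family. Then the residue field of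
A at every prime ideal is algebraically closed. -/
theorem result (A : Type u) [CommRing A]
    (hloc : ∀ (X : Scheme.{u}) (R : Presieve X),
      R ∈ Scheme.precoverage (@Flat ⊓ @LocallyOfFinitePresentation ⊓ @QuasiCompact ⊓ @QuasiSeparated) X →
      ∀ g : Spec (CommRingCat.of A) ⟶ X,
        ∃ (Y : Scheme.{u}) (v : Y ⟶ X) (h : Spec (CommRingCat.of A) ⟶ Y), R v ∧ h ≫ v = g)
    (p : Ideal A) [p.IsPrime] : IsAlgClosed p.ResidueField := by
  classical
  have hroot := Groth.Agent.Lib.helper13.FppfLocalRoot.exists_root A hloc
  have hrootD : ∀ F : Polynomial (A ⧸ p), F.Monic → 0 < F.natDegree → ∃ d : A ⧸ p, F.eval d = 0 := by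
    intro F hF hd
    have hlifts : F ∈ Polynomial.lifts (Ideal.Quotient.mk p) := by
      rw [Polynomial.mem_lifts]
      exact Polynomial.map_surjective _ Ideal.Quotient.mk_surjective F
    obtain ⟨F', hF'map, hF'deg, hF'monic⟩ :=
      Polynomial.lifts_and_natDegree_eq_and_monic hlifts hF
    obtain ⟨a, ha⟩ := hroot F' hF'monic (by omega)
    refine ⟨Ideal.Quotient.mk p a, ?_⟩
    rw [← hF'map, Polynomial.eval_map, Polynomial.eval₂_at_apply, ha, map_zero]
  apply IsAlgClosed.of_exists_root
  intro q hq hirr
  have hqd : 0 < q.natDegree := hirr.natDegree_pos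
  obtain ⟨b, hb⟩ := IsLocalization.integerNormalization_map_to_map (nonZeroDivisors (A ⧸ p)) q
  obtain ⟨G, hG⟩ : ∃ G, G = IsLocalization.integerNormalization (nonZeroDivisors (A ⧸ p)) q :=
    ⟨_, rfl⟩
  rw [← hG] at hb
  have hfinj : Function.Injective (algebraMap (A ⧸ p) p.ResidueField) :=
    IsFractionRing.injective (A ⧸ p) p.ResidueField
  have hb0 : algebraMap (A ⧸ p) p.ResidueField b ≠ 0 :=
    (map_ne_zero_iff _ hfinj).mpr (nonZeroDivisors.ne_zero b.2)
  have hGmap : G.map (algebraMap (A ⧸ p) p.ResidueField)
      = Polynomial.C (algebraMap (A ⧸ p) p.ResidueField b) * q := by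
    rw [hb, ← Polynomial.smul_eq_C_mul, algebraMap_smul]
  have hGdeg : G.natDegree = q.natDegree := by
    rw [← Polynomial.natDegree_map_eq_of_injective hfinj G, hGmap, Polynomial.natDegree_C_mul hb0]
  have hGne : G ≠ 0 := by
    intro h
    rw [h] at hGdeg
    simp at hGdeg
    omega
  obtain ⟨r, hr⟩ := hrootD G.integralNormalization (Polynomial.monic_integralNormalization hGne)
    (by rw [Polynomial.natDegree_integralNormalization]; omega)
  have hlc : algebraMap (A ⧸ p) p.ResidueField G.leadingCoeff ≠ 0 :=
    (map_ne_zero_iff _ hfinj).mpr (Polynomial.leadingCoeff_ne_zero.mpr hGne)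
  refine ⟨algebraMap (A ⧸ p) p.ResidueField r / algebraMap (A ⧸ p) p.ResidueField G.leadingCoeff, ?_⟩
  have key := Polynomial.integralNormalization_eval₂_leadingCoeff_mul (p := G) (by omega)
    (algebraMap (A ⧸ p) p.ResidueField)
    (algebraMap (A ⧸ p) p.ResidueField r / algebraMap (A ⧸ p) p.ResidueField G.leadingCoeff)
  rw [mul_div_cancel₀ _ hlc, Polynomial.eval₂_at_apply, hr, map_zero] at key
  have h0 : G.eval₂ (algebraMap (A ⧸ p) p.ResidueField)
      (algebraMap (A ⧸ p) p.ResidueField r / algebraMap (A ⧸ p) p.ResidueField G.leadingCoeff) = 0 := by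
    rcases mul_eq_zero.mp key.symm with h | h
    · exact absurd (eq_zero_of_pow_eq_zero h) hlc
    · exact h
  rw [← Polynomial.eval_map, hGmap, Polynomial.eval_mul, Polynomial.eval_C] at h0
  exact (mul_eq_zero.mp h0).resolve_left hb0

end Groth.Agent.S19328
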