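import Groth.Statements.S19333
import Mathlib

set_option autoImplicit false
universe u
open ModPair

namespace Groth.Agent.S19333

/-- Let A → B be any homomorphism of commutative rings. An element x of B is integral over A if and only
if for every field K, every valuation subring R of K and every ring homomorphism φ : B → K which
sends the image of A into R, the element φ(x) lies in R. In other words the integral closure of A in
B is the intersection of the subrings R ×_K B taken over all commutative squares A → R ⊆ K ← B with
R a valuation ring of the field K. -/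
theorem result {A B : Type u} [CommRing A]
    [CommRing B] [Algebra A B] (x : B) :
    x ∈ integralClosure A B ↔
      ∀ (K : Type u) [Field K] (R : ValuationSubring K) (φ : B →+* K),
        (∀ a : A, φ (algebraMap A B a) ∈ R) → φ x ∈ R := by
  constructor
  · intro hx K _ R φ hφ
    obtain ⟨p, hp, hpx⟩ := hx
    -- the map A → R
    let g : A →+* R := (φ.comp (algebraMap A B)).codRestrict R.toSubring hφ
    have hint : IsIntegral R (φ x) := by
      refine ⟨p.map g, hp.map g, ?_⟩
      rw [Polynomial.eval₂_map]
      have : (algebraMap R K).comp g = φ.comp (algebraMap A B) := by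
        ext a; rfl
      rw [this, ← Polynomial.hom_eval₂, hpx, map_zero]
    obtain ⟨y, hy⟩ := IsIntegrallyClosed.isIntegral_iff.mp hint
    rw [← hy]
    exact y.2
  · intro h
    by_contra hx
    -- the multiplicative set of monic evaluations
    let S : Submonoid B :=
      { carrier := {y | ∃ p : Polynomial A, p.Monic ∧ y = Polynomial.aeval x p}
        one_mem' := ⟨1, Polynomial.monic_one, by simp⟩
        mul_mem' := by
          rintro _ _ ⟨p, hp, rfl⟩ ⟨q, hq, rfl⟩
          exact ⟨p * q, hp.mul hq, by simp⟩ }
    have h0 : (0 : B) ∉ S := by
      rintro ⟨p, hp, hp0⟩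
      exact hx ⟨p, hp, by rw [← Polynomial.aeval_def]; exact hp0.symm⟩
    have hdisj : Disjoint ((⊥ : Ideal B) : Set B) (S : Set B) := by
      rw [Set.disjoint_left]
      intro y hy hyS
      rw [SetLike.mem_coe, Ideal.mem_bot] at hy
      exact h0 (hy ▸ hyS)
    obtain ⟨q, hq, -, hqS⟩ := Ideal.exists_le_prime_disjoint (⊥ : Ideal B) S hdisj
    let K := FractionRing (B ⧸ q)
    let φ : B →+* K := (algebraMap (B ⧸ q) K).comp (Ideal.Quotient.mk q)
    letI : Algebra A K := (φ.comp (algebraMap A B)).toAlgebra
    have hnot : φ x ∉ (integralClosure A K).toSubring := by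
      intro hmem
      obtain ⟨p, hp, hpx⟩ := (hmem : IsIntegral A (φ x))
      have h1 : algebraMap A K = φ.comp (algebraMap A B) := rfl
      rw [h1, ← Polynomial.hom_eval₂] at hpx
      have h2 : Ideal.Quotient.mk q (Polynomial.eval₂ (algebraMap A B) x p) = 0 := by
        apply IsFractionRing.injective (B ⧸ q) K
        rw [map_zero]
        exact hpx
      rw [Ideal.Quotient.eq_zero_iff_mem] at h2
      exact Set.disjoint_left.mp hqS h2 ⟨p, hp, rfl⟩
    obtain ⟨V, hV, hxV⟩ := Subring.exists_le_valuationSubring_of_isIntegrallyClosedIn hnot
    apply hxV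
    apply h K V φ
    intro a
    apply hV
    exact (integralClosure A K).algebraMap_mem a

end Groth.Agent.S19333
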