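import Groth.Statements.S19334
import Mathlib
import Groth.Agent.Lib.helper6.IdealComap

set_option autoImplicit false
universe u
open CategoryTheory CategoryTheory.Limits AlgebraicGeometry TopologicalSpace
open ModPair

namespace Groth.Agent.S19334
open CategoryTheory AlgebraicGeometry Limits

section helpers



lemma appLE_formula {X : Scheme.{u}} {U : X.Opens} (hU : IsAffineOpen U) (R : CommRingCat.{u})
    (φ : Γ(X, U) ⟶ R) (e : (⊤ : (Spec R).Opens) ≤ (Spec.map φ ≫ hU.fromSpec) ⁻¹ᵁ U) :
    (Spec.map φ ≫ hU.fromSpec).appLE U ⊤ e = φ ≫ (Scheme.ΓSpecIso R).inv := by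
  apply Spec.map_injective
  have h1 := IsAffineOpen.SpecMap_appLE_fromSpec (Spec.map φ ≫ hU.fromSpec) hU
    (isAffineOpen_top (Spec R)) e
  rw [IsAffineOpen.fromSpec_top, Scheme.isoSpec_Spec_inv, ← Category.assoc,
    ← Spec.map_comp] at h1
  have : Mono hU.fromSpec := inferInstance
  exact (cancel_mono hU.fromSpec).mp h1

lemma exists_val {A : Type u} [CommRing A] (f : A) (hf : f ∈ nonZeroDivisors A) (hu : ¬ IsUnit f) :
    ∃ (R : Type u) (_ : CommRing R) (_ : IsDomain R) (_ : ValuationRing R) (φ : A →+* R),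
      φ f ≠ 0 ∧ ¬ IsUnit (φ f) := by
  obtain ⟨m, hm, hfm⟩ := exists_max_ideal_of_mem_nonunits (mem_nonunits_iff.mpr hu)
  have hmp : m.IsPrime := hm.isPrime
  obtain ⟨q, hq, hqm⟩ := Ideal.exists_minimalPrimes_le (bot_le : (⊥ : Ideal A) ≤ m)
  have hq' : q ∈ minimalPrimes A := hq
  have hqp : q.IsPrime := hq.1.1
  have hfq : f ∉ q := fun h => notMem_nonZeroDivisors_of_mem_mem_minimalPrimes h hq' hf
  let B := A ⧸ q
  let K := FractionRing B
  let ι : B →+* K := algebraMap B K
  have hι : Function.Injective ι := IsFractionRing.injective B K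
  let fb : B := Ideal.Quotient.mk q f
  have hfb0 : fb ≠ 0 := by
    intro h
    exact hfq (Ideal.Quotient.eq_zero_iff_mem.mp h)
  have hfbu : ¬ IsUnit fb := by
    intro h
    have h2 : IsUnit (Ideal.Quotient.factor hqm fb) := h.map _
    have h3 : Ideal.Quotient.factor hqm fb = 0 := by
      simp only [fb, Ideal.Quotient.factor_mk]
      exact Ideal.Quotient.eq_zero_iff_mem.mpr hfm
    rw [h3] at h2
    have : Nontrivial (A ⧸ m) := Ideal.Quotient.nontrivial_iff.mpr hm.ne_top
    exact not_isUnit_zero h2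
  let A' : Subring K := ι.range
  let ιr : B →+* A' := ι.rangeRestrict
  have hιr_surj : Function.Surjective ιr := ι.rangeRestrict_surjective
  have hιr_inj : Function.Injective ιr := by
    intro a b hab
    apply hι
    exact congrArg Subtype.val hab
  let I : Ideal A' := Ideal.span {ιr fb}
  have hI : I ≠ ⊤ := by
    intro h
    rw [Ideal.span_singleton_eq_top] at h
    apply hfbu
    let e : B ≃+* A' := RingEquiv.ofBijective ιr ⟨hιr_inj, hιr_surj⟩
    have : IsUnit (e fb) := h
    exact (isUnit_map_iff e fb).mp this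
  obtain ⟨V, hle, hnon⟩ := Ideal.image_subset_nonunits_valuationSubring I hI
  have hmem : ∀ a : A, ι (Ideal.Quotient.mk q a) ∈ V := fun a => hle ⟨_, rfl⟩
  let φ : A →+* V := (ι.comp (Ideal.Quotient.mk q)).codRestrict V hmem
  refine ⟨V, inferInstance, inferInstance, inferInstance, φ, ?_, ?_⟩
  · intro h
    have : ((φ f : V) : K) = 0 := by rw [h]; rfl
    have h2 : ι fb = 0 := this
    exact hfb0 (hι (by rw [h2, map_zero]))
  · intro h
    have h1 : ι fb ∈ V.nonunits := hnon ⟨ιr fb, Ideal.subset_span rfl, rfl⟩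
    have h2 : ((φ f : V) : K) ∈ V.nonunits := h1
    rw [ValuationSubring.coe_mem_nonunits_iff] at h2
    exact (IsLocalRing.mem_maximalIdeal _).mp h2 h




end helpers

/-- Let (X, I) be a modulus pair, i.e. a scheme X with the quasi-coherent ideal sheaf I of an effective
Cartier divisor. Suppose that for every valuation ring R and every morphism p : Spec R ⟶ X along
which the divisor of I pulls back to an effective Cartier divisor on Spec R (so that p is a minimal
morphism of modulus pairs for the pulled-back modulus), the pulled-back divisor is empty, I.comap p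
= ⊤. Then the divisor of I is empty: I = ⊤. -/
theorem result {X : Scheme.{u}}
    (I : X.IdealSheafData) (hI : BlowUp.IsEffCartierIdeal I)
    (h : ∀ (R : Type u) [CommRing R] [IsDomain R] [ValuationRing R]
      (p : Spec (CommRingCat.of R) ⟶ X), BlowUp.IsEffCartierIdeal (I.comap p) → I.comap p = ⊤) :
    I = ⊤ := by
  choose U hxU f hf hIU using hI
  refine Scheme.IdealSheafData.ext_of_iSup_eq_top U ?_ ?_
  · rw [eq_top_iff]
    intro x _
    exact TopologicalSpace.Opens.mem_iSup.mpr ⟨x, hxU x⟩
  · intro x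
    rw [hIU x, Scheme.IdealSheafData.ideal_top, Pi.top_apply, Ideal.span_singleton_eq_top]
    by_contra hu
    obtain ⟨R, _, _, _, φ, h0, hnu⟩ := exists_val (f x) (hf x) hu
    let p : Spec (CommRingCat.of R) ⟶ X := Spec.map (CommRingCat.ofHom φ) ≫ (U x).2.fromSpec
    have e : (⊤ : (Spec (CommRingCat.of R)).Opens) ≤ p ⁻¹ᵁ (U x).1 := by
      intro z _
      show p z ∈ (U x).1
      have : p z = (U x).2.fromSpec (Spec.map (CommRingCat.ofHom φ) z) := rfl
      rw [this]
      have hr := (U x).2.range_fromSpec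
      have : (U x).2.fromSpec (Spec.map (CommRingCat.ofHom φ) z) ∈
        Set.range (U x).2.fromSpec := ⟨_, rfl⟩
      rw [hr] at this
      exact this
    have key := appLE_formula (U x).2 (CommRingCat.of R) (CommRingCat.ofHom φ) e
    have hc := Groth.Agent.Lib.helper6.comap_ideal_of_le p I ⟨⊤, isAffineOpen_top _⟩ (U x) e
    rw [hIU x, Ideal.map_span, Set.image_singleton] at hc
    set g := (p.appLE (U x).1 ⊤ e).hom (f x) with hg
    have hgφ : g = (Scheme.ΓSpecIso (CommRingCat.of R)).inv.hom (φ (f x)) := by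
      rw [hg]
      show (p.appLE (U x).1 ⊤ e).hom (f x) = _
      have : p.appLE (U x).1 ⊤ e = CommRingCat.ofHom φ ≫ (Scheme.ΓSpecIso (CommRingCat.of R)).inv := key
      rw [this]
      rfl
    let eR : Γ(Spec (CommRingCat.of R), ⊤) ≃+* R :=
      (Scheme.ΓSpecIso (CommRingCat.of R)).commRingCatIsoToRingEquiv
    have heg : eR g = φ (f x) := by
      rw [hgφ]
      show (Scheme.ΓSpecIso (CommRingCat.of R)).hom.hom
        ((Scheme.ΓSpecIso (CommRingCat.of R)).inv.hom (φ (f x))) = _
      rw [← CommRingCat.comp_apply, Iso.inv_hom_id]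
      rfl
    have : IsDomain Γ(Spec (CommRingCat.of R), ⊤) := eR.toMulEquiv.isDomain R
    have hcart : BlowUp.IsEffCartierIdeal (I.comap p) := by
      intro z
      refine ⟨⟨⊤, isAffineOpen_top _⟩, trivial, g, ?_, hc⟩
      apply mem_nonZeroDivisors_of_ne_zero
      intro hg0
      apply h0
      rw [← heg, hg0, map_zero]
    have htop := h R p hcart
    have : (I.comap p).ideal ⟨⊤, isAffineOpen_top _⟩ = ⊤ := by
      rw [htop]; rfl
    rw [hc, Ideal.span_singleton_eq_top] at this
    apply hnu
    rw [← heg]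
    exact this.map eR

end Groth.Agent.S19334
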