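import Groth.Statements.S19348
import Mathlib

set_option autoImplicit false
universe u
open RigCh

namespace Groth.Agent.S19348

/-- Let p be a prime and m a natural number, P a commutative ring complete and separated for the p-adic
topology, and I an ideal of P with a divided power structure of level m, that is a sub-ideal J of I
endowed with divided powers such that x ^ (p ^ m) and p * x lie in J for all x in I. Then an element
of P whose class in P / I is invertible is invertible in P. (The source states this for a lift of a
unit to the p-adically completed level-m divided power envelope of a closed immersion; the statement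
here keeps exactly what its argument uses: completeness for p and the level-m divided powers on the
kernel.) -/
theorem result (p : ℕ) [Fact p.Prime] (m : ℕ)
    (P : Type u) [CommRing P] [IsAdicComplete (Ideal.span {(p : P)}) P]
    (I J : Ideal P) (hJ : DividedPowers J) (hJI : J ≤ I)
    (hpow : ∀ x ∈ I, x ^ (p ^ m) ∈ J) (hmul : ∀ x ∈ I, (p : P) * x ∈ J)
    (u : P) (hu : IsUnit (Ideal.Quotient.mk I u)) : IsUnit u := by
  have hpprime : p.Prime := Fact.out
  have hjac : (p : P) ∈ (⊥ : Ideal P).jacobson :=
    IsAdicComplete.le_jacobson_bot (Ideal.span {(p : P)}) (Ideal.mem_span_singleton_self _)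
  -- key: 1 + x is a unit for x ∈ I
  have key : ∀ x ∈ I, IsUnit (1 + x) := by
    intro x hx
    have hy : x ^ (p ^ m) ∈ J := hpow x hx
    have h1 : (x ^ (p ^ m)) ^ p = (p : P) * (((p - 1).factorial : P) * hJ.dpow p (x ^ (p ^ m))) := by
      rw [← hJ.factorial_mul_dpow_eq_pow hy]
      have : p.factorial = p * (p - 1).factorial := by
        conv_lhs => rw [← Nat.sub_add_cancel hpprime.one_le, Nat.factorial_succ,
          Nat.sub_add_cancel hpprime.one_le]
      rw [this]; push_cast; ring
    set w := ((p - 1).factorial : P) * hJ.dpow p (x ^ (p ^ m)) with hw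
    set N := p ^ m * p with hN
    have hxN : x ^ N = (p : P) * w := by rw [hN, pow_mul, h1]
    have hgeom : (1 + x) * ∑ i ∈ Finset.range N, (-x) ^ i = 1 - (-x) ^ N := by
      have := mul_neg_geom_sum (-x) N
      rw [sub_neg_eq_add] at this
      exact this
    have hunit : IsUnit (1 - (-x) ^ N) := by
      rw [neg_pow, hxN]
      have := (Ideal.mem_jacobson_bot.mp hjac) (-((-1) ^ N * w))
      convert this using 1
      ring
    rw [← hgeom] at hunit
    exact isUnit_of_mul_isUnit_left hunit
  obtain ⟨v', hv'⟩ := hu.exists_right_inv
  obtain ⟨v, rfl⟩ := Ideal.Quotient.mk_surjective v'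
  rw [← map_mul, ← map_one (Ideal.Quotient.mk I), Ideal.Quotient.eq] at hv'
  have h2 := key _ hv'
  rw [add_sub_cancel] at h2
  exact isUnit_of_mul_isUnit_left h2

end Groth.Agent.S19348
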