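import Groth.Statements.S19356
import Mathlib.Tactic
import Mathlib.LinearAlgebra.Eigenspace.Charpoly
import Mathlib.LinearAlgebra.Charpoly.ToMatrix
import Mathlib.LinearAlgebra.Charpoly.BaseChange
import Mathlib.Analysis.Complex.Basic
import Mathlib.LinearAlgebra.QuadraticForm.Basic
import Mathlib.Algebra.Star.Module

set_option autoImplicit false
universe u
open AbVar

namespace Groth.Agent.S19356

open Polynomial

theorem core (n : ℕ) (M : Matrix (Fin n) (Fin n) ℚ) (D : Fin n → ℚ) (hD : ∀ i, 0 < D i) (q : ℚ)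
    (hrel : ∀ j l, ∑ i, M i j * M i l * D i = if j = l then q * D j else 0)
    (z : ℂ) (hz : (M.charpoly.map (algebraMap ℚ ℂ)).IsRoot z) : Complex.normSq z = (q : ℝ) := by
  classical
  set MC : Matrix (Fin n) (Fin n) ℂ := M.map (algebraMap ℚ ℂ) with hMC
  set f : Module.End ℂ (Fin n → ℂ) := Matrix.toLin' MC with hf
  have hchar : f.charpoly = M.charpoly.map (algebraMap ℚ ℂ) := by
    rw [hf, Matrix.charpoly_toLin', hMC, Matrix.charpoly_map]
  have hev : f.HasEigenvalue z := by
    rw [Module.End.hasEigenvalue_iff_isRoot_charpoly, hchar]; exact hz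
  obtain ⟨w, hw⟩ := hev.exists_hasEigenvector
  have hw0 : w ≠ 0 := hw.2
  have hfw : f w = z • w := hw.apply_eq_smul
  have hcoord : ∀ i, ∑ j, (M i j : ℂ) * w j = z * w i := by
    intro i
    have := congrFun hfw i
    simp only [hf, Matrix.toLin'_apply, Matrix.mulVec, dotProduct, hMC, Matrix.map_apply,
      Pi.smul_apply, smul_eq_mul] at this
    simpa using this
  -- the key identity
  have key : ∑ i, (D i : ℂ) * ((∑ j, (M i j : ℂ) * w j) * (starRingEnd ℂ) (∑ l, (M i l : ℂ) * w l)) =
      (q : ℂ) * ∑ j, (D j : ℂ) * (w j * (starRingEnd ℂ) (w j)) := by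
    have h1 : ∀ i, (D i : ℂ) * ((∑ j, (M i j : ℂ) * w j) * (starRingEnd ℂ) (∑ l, (M i l : ℂ) * w l)) =
        ∑ j, ∑ l, (w j * (starRingEnd ℂ) (w l)) * ((M i j : ℂ) * (M i l : ℂ) * (D i : ℂ)) := by
      intro i
      rw [map_sum, Finset.sum_mul_sum, Finset.mul_sum]
      apply Finset.sum_congr rfl; intro j _
      rw [Finset.mul_sum]
      apply Finset.sum_congr rfl; intro l _
      rw [map_mul, map_ratCast]; ring
    simp_rw [h1]
    rw [Finset.sum_comm]
    have h2 : ∀ j, ∑ i, ∑ l, (w j * (starRingEnd ℂ) (w l)) * ((M i j : ℂ) * (M i l : ℂ) * (D i : ℂ)) =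
        (q : ℂ) * ((D j : ℂ) * (w j * (starRingEnd ℂ) (w j))) := by
      intro j
      rw [Finset.sum_comm]
      have h3 : ∀ l, ∑ i, (w j * (starRingEnd ℂ) (w l)) * ((M i j : ℂ) * (M i l : ℂ) * (D i : ℂ)) =
          (w j * (starRingEnd ℂ) (w l)) * (if j = l then (q : ℂ) * (D j : ℂ) else 0) := by
        intro l
        rw [← Finset.mul_sum]
        congr 1
        have h' : ((∑ i, M i j * M i l * D i : ℚ) : ℂ) = ((if j = l then q * D j else 0 : ℚ) : ℂ) := by
          rw [hrel j l]
        push_cast at h'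
        rw [h']
        split_ifs <;> simp
      simp_rw [h3]
      rw [Finset.sum_eq_single j]
      · simp; ring
      · intro l _ hl; rw [if_neg (Ne.symm hl)]; simp
      · intro h; exact absurd (Finset.mem_univ j) h
    simp_rw [h2]
    rw [Finset.mul_sum]
  simp_rw [hcoord] at key
  -- convert to normSq
  have e1 : ∀ i, (D i : ℂ) * ((z * w i) * (starRingEnd ℂ) (z * w i)) =
      ((Complex.normSq z : ℝ) : ℂ) * ((D i : ℂ) * (w i * (starRingEnd ℂ) (w i))) := by
    intro i
    rw [map_mul, Complex.normSq_eq_conj_mul_self]; ring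
  simp_rw [e1] at key
  rw [← Finset.mul_sum] at key
  have hP : (∑ j, (D j : ℂ) * (w j * (starRingEnd ℂ) (w j))) ≠ 0 := by
    have e2 : (∑ j, (D j : ℂ) * (w j * (starRingEnd ℂ) (w j))) =
        ((∑ j, (D j : ℝ) * Complex.normSq (w j) : ℝ) : ℂ) := by
      push_cast
      apply Finset.sum_congr rfl; intro j _
      rw [Complex.mul_conj]
    rw [e2]
    norm_cast
    apply ne_of_gt
    obtain ⟨j0, hj0⟩ : ∃ j, w j ≠ 0 := by
      by_contra h; push Not at h; exact hw0 (funext h)
    apply Finset.sum_pos'
    · intro j _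
      exact mul_nonneg (by exact_mod_cast (hD j).le) (Complex.normSq_nonneg _)
    · exact ⟨j0, Finset.mem_univ _, mul_pos (by exact_mod_cast hD j0) (Complex.normSq_pos.mpr hj0)⟩
  have := mul_right_cancel₀ hP key
  exact_mod_cast this

section
variable {R : Type u} [Ring R] [Algebra ℚ R] [StarRing R] [StarModule ℚ R]

/-- symmetrised form -/
noncomputable def Bs (σ : R →ₗ[ℚ] ℚ) : LinearMap.BilinForm ℚ R :=
  LinearMap.mk₂ ℚ (fun x y => σ (x * star y) + σ (y * star x))
    (by intro x x' y; simp only [add_mul, mul_add, star_add, map_add]; ring)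
    (by intro c x y; simp only [smul_mul_assoc, mul_smul_comm, star_smul, star_trivial, map_smul,
          smul_eq_mul]; ring)
    (by intro x y y'; simp only [add_mul, mul_add, star_add, map_add]; ring)
    (by intro c x y; simp only [smul_mul_assoc, mul_smul_comm, star_smul, star_trivial, map_smul,
          smul_eq_mul]; ring)

theorem Bs_apply (σ : R →ₗ[ℚ] ℚ) (x y : R) : Bs σ x y = σ (x * star y) + σ (y * star x) := rfl

theorem Bs_symm (σ : R →ₗ[ℚ] ℚ) : (Bs σ).IsSymm := ⟨fun x y => by rw [Bs_apply, Bs_apply, add_comm]⟩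

theorem Bs_pos (σ : R →ₗ[ℚ] ℚ) (hpos : ∀ x : R, x ≠ 0 → 0 < σ (x * star x)) (x : R) (hx : x ≠ 0) :
    0 < Bs σ x x := by
  rw [Bs_apply]; have := hpos x hx; linarith

theorem Bs_mulRight (σ : R →ₗ[ℚ] ℚ) (α : R) (q : ℚ) (hα : α * star α = algebraMap ℚ R q) (x y : R) :
    Bs σ (x * α) (y * α) = q * Bs σ x y := by
  have h1 : ∀ a b : R, a * α * star (b * α) = q • (a * star b) := by
    intro a b
    rw [star_mul, mul_assoc, ← mul_assoc α, hα, Algebra.smul_def, ← mul_assoc, ← Algebra.commutes q a,
      mul_assoc]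
  rw [Bs_apply, Bs_apply, h1, h1, map_smul, map_smul, smul_eq_mul, smul_eq_mul]; ring

omit [StarRing R] [StarModule ℚ R] in
theorem aeval_mulRight (α : R) (p : ℚ[X]) (x : R) :
    (aeval (LinearMap.mulRight ℚ α) p) x = x * aeval α p := by
  induction p using Polynomial.induction_on generalizing x with
  | C c => simp [Algebra.smul_def, Algebra.commutes]
  | add p q hp hq => simp [hp, hq, mul_add]
  | monomial n c ih =>
    have hc : Commute α (aeval α (C c * X ^ n)) := by
      have := (Polynomial.commute_X (C c * X ^ n)).map (aeval α)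
      simpa using this
    have e : (C c * X ^ (n + 1) : ℚ[X]) = X * (C c * X ^ n) := by ring
    rw [e, map_mul (aeval (LinearMap.mulRight ℚ α)) X, aeval_X, map_mul (aeval α) X, aeval_X,
      Module.End.mul_apply, ih, LinearMap.mulRight_apply, mul_assoc, hc.eq]

variable [Module.Finite ℚ R]

theorem root_normSq (σ : R →ₗ[ℚ] ℚ) (hpos : ∀ x : R, x ≠ 0 → 0 < σ (x * star x))
    (α : R) (q : ℚ) (hα : α * star α = algebraMap ℚ R q) (z : ℂ)
    (hz : ((LinearMap.mulRight ℚ α).charpoly.map (algebraMap ℚ ℂ)).IsRoot z) :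
    Complex.normSq z = (q : ℝ) := by
  classical
  have : Invertible (2:ℚ) := invertibleOfNonzero (by norm_num)
  obtain ⟨b, hb⟩ := LinearMap.BilinForm.exists_orthogonal_basis (LinearMap.BilinForm.isSymm_iff.mp (Bs_symm σ))
  rw [LinearMap.isOrthoᵢ_def] at hb
  have hM : (LinearMap.toMatrix b b (LinearMap.mulRight ℚ α)).charpoly =
      (LinearMap.mulRight ℚ α).charpoly := LinearMap.charpoly_toMatrix _ b
  refine core _ (LinearMap.toMatrix b b (LinearMap.mulRight ℚ α)) (fun i => Bs σ (b i) (b i))
    (fun i => Bs_pos σ hpos _ (b.ne_zero i)) q ?_ z ?_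
  · intro j l
    have h1 : Bs σ (b j * α) (b l * α) = q * Bs σ (b j) (b l) := Bs_mulRight σ α q hα _ _
    have h2 : ∀ j, b j * α = ∑ i, (LinearMap.toMatrix b b (LinearMap.mulRight ℚ α)) i j • b i := by
      intro j
      conv_lhs => rw [← b.sum_repr (b j * α)]
      simp [LinearMap.toMatrix_apply]
    rw [h2 j, h2 l] at h1
    simp only [LinearMap.BilinForm.sum_left, LinearMap.BilinForm.sum_right,
      LinearMap.BilinForm.smul_left, LinearMap.BilinForm.smul_right] at h1
    have h3 : ∀ i, (LinearMap.toMatrix b b (LinearMap.mulRight ℚ α)) i l *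
        ∑ i', (LinearMap.toMatrix b b (LinearMap.mulRight ℚ α)) i' j * Bs σ (b i') (b i) =
        (LinearMap.toMatrix b b (LinearMap.mulRight ℚ α)) i j *
        (LinearMap.toMatrix b b (LinearMap.mulRight ℚ α)) i l * Bs σ (b i) (b i) := by
      intro i
      rw [Finset.sum_eq_single i]
      · ring
      · intro i' _ hi'; rw [hb i' i hi']; ring
      · intro h; exact absurd (Finset.mem_univ i) h
    simp_rw [h3] at h1
    rw [h1]
    split_ifs with hjl
    · rw [hjl]
    · rw [hb j l hjl, mul_zero]
  · rw [hM]; exact hz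

omit [StarRing R] [StarModule ℚ R] in
theorem aeval_charpoly_eq_zero (α : R) : aeval α (LinearMap.mulRight ℚ α).charpoly = 0 := by
  have h := LinearMap.aeval_self_charpoly (LinearMap.mulRight ℚ α)
  have h2 := aeval_mulRight α (LinearMap.mulRight ℚ α).charpoly 1
  rw [h, LinearMap.zero_apply, one_mul] at h2
  exact h2.symm


end

/-- Let R be a finite-dimensional ℚ-algebra with a ℚ-linear involution x ↦ x† (an anti-automorphism of
order two) and a ℚ-linear functional σ with σ(x x†) > 0 for every x ≠ 0; this is the positivity of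
the involution, σ being the trace of R over ℚ in the case of the endomorphism algebra of an abelian
variety with a Rosati involution, and the trace on a cohomology group in the case of an algebra of
correspondences with the adjoint for a Weil form. Let α ∈ R with α α† = q for a rational number q.
Then α† lies in the subalgebra ℚ[α], and for every ℚ-algebra homomorphism ρ : ℚ[α] → ℂ one has ρ(α†)
= the complex conjugate of ρ(α) and |ρ(α)|² = q. (The published statement is for the endomorphism
algebra of an abelian variety with a Rosati involution, with σ its trace over ℚ and q an integer;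
the form given here, for an arbitrary ℚ-linear functional σ positive on every x x† with x ≠ 0 and
rational q, is what its proof establishes.) -/
theorem result (R : Type u) [Ring R] [Algebra ℚ R]
    [Module.Finite ℚ R] [StarRing R] [StarModule ℚ R]
    (σ : R →ₗ[ℚ] ℚ) (hpos : ∀ x : R, x ≠ 0 → 0 < σ (x * star x))
    (α : R) (q : ℚ) (hα : α * star α = algebraMap ℚ R q) :
    ∃ hmem : star α ∈ Algebra.adjoin ℚ ({α} : Set R),
      ∀ ρ : Algebra.adjoin ℚ ({α} : Set R) →ₐ[ℚ] ℂ,
        ρ ⟨star α, hmem⟩ = starRingEnd ℂ (ρ ⟨α, Algebra.self_mem_adjoin_singleton ℚ α⟩) ∧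
          ‖ρ ⟨α, Algebra.self_mem_adjoin_singleton ℚ α⟩‖ ^ 2 = (q : ℝ) := by
  classical
  have hnorm : ∀ ρ : Algebra.adjoin ℚ ({α} : Set R) →ₐ[ℚ] ℂ,
      Complex.normSq (ρ ⟨α, Algebra.self_mem_adjoin_singleton ℚ α⟩) = (q : ℝ) := by
    intro ρ
    apply root_normSq σ hpos α q hα
    have h0 : aeval (⟨α, Algebra.self_mem_adjoin_singleton ℚ α⟩ : Algebra.adjoin ℚ ({α} : Set R))
        (LinearMap.mulRight ℚ α).charpoly = 0 := by
      apply Subtype.ext
      have := aeval_algHom_apply (Algebra.adjoin ℚ ({α} : Set R)).val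
        (⟨α, Algebra.self_mem_adjoin_singleton ℚ α⟩ : Algebra.adjoin ℚ ({α} : Set R))
        (LinearMap.mulRight ℚ α).charpoly
      simp only [Subalgebra.coe_val] at this
      rw [← this, aeval_charpoly_eq_zero]; rfl
    have h1 : aeval (ρ ⟨α, Algebra.self_mem_adjoin_singleton ℚ α⟩)
        (LinearMap.mulRight ℚ α).charpoly = 0 := by
      rw [aeval_algHom_apply, h0, map_zero]
    rw [IsRoot.def, eval_map_algebraMap]; exact h1
  have hq0 : α ≠ 0 → q ≠ 0 := by
    intro hα0 hq
    have := hpos α hα0
    rw [hα, hq, map_zero, map_zero] at this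
    exact lt_irrefl _ this
  have hmem : star α ∈ Algebra.adjoin ℚ ({α} : Set R) := by
    by_cases hα0 : α = 0
    · rw [hα0, star_zero]; exact zero_mem _
    · have hq := hq0 hα0
      have : Module.Finite ℚ (Algebra.adjoin ℚ ({α} : Set R)) :=
        Module.Finite.of_injective (Algebra.adjoin ℚ ({α} : Set R)).val.toLinearMap
          Subtype.val_injective
      have hinj : Function.Injective (LinearMap.mulRight ℚ
          (⟨α, Algebra.self_mem_adjoin_singleton ℚ α⟩ : Algebra.adjoin ℚ ({α} : Set R))) := by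
        rw [injective_iff_map_eq_zero]
        intro x hx
        have hx' : (x : R) * α = 0 := by
          have := congrArg Subtype.val hx
          simpa using this
        have h2 : (x : R) * (α * star α) = 0 := by rw [← mul_assoc, hx', zero_mul]
        rw [hα, ← Algebra.commutes, ← Algebra.smul_def] at h2
        have h3 : (x : R) = 0 := by
          rcases smul_eq_zero.mp h2 with h | h
          · exact absurd h hq
          · exact h
        exact Subtype.ext h3
      obtain ⟨u, hu⟩ := LinearMap.surjective_of_injective hinj 1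
      have hu' : (u : R) * α = 1 := by
        have := congrArg Subtype.val hu
        simpa using this
      have : star α = q • (u : R) := by
        calc star α = 1 * star α := (one_mul _).symm
          _ = (u : R) * (α * star α) := by rw [← hu', mul_assoc]
          _ = q • (u : R) := by rw [hα, ← Algebra.commutes, ← Algebra.smul_def]
      rw [this]
      exact Subalgebra.smul_mem _ u.2 q
  refine ⟨hmem, fun ρ => ⟨?_, ?_⟩⟩
  · have hprod : ρ ⟨α, Algebra.self_mem_adjoin_singleton ℚ α⟩ * ρ ⟨star α, hmem⟩ = (q : ℂ) := by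
      rw [← map_mul]
      have : (⟨α, Algebra.self_mem_adjoin_singleton ℚ α⟩ : Algebra.adjoin ℚ ({α} : Set R)) *
          ⟨star α, hmem⟩ = algebraMap ℚ _ q := Subtype.ext (by simpa using hα)
      rw [this, AlgHom.commutes]; simp
    have hn := hnorm ρ
    by_cases hz : ρ ⟨α, Algebra.self_mem_adjoin_singleton ℚ α⟩ = 0
    · rw [hz, Complex.normSq_zero] at hn
      have hq : q = 0 := by exact_mod_cast hn.symm
      have hα0 : α = 0 := by
        by_contra h; exact hq0 h hq
      have : (⟨star α, hmem⟩ : Algebra.adjoin ℚ ({α} : Set R)) = 0 :=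
        Subtype.ext (by simp [hα0])
      rw [this, hz, map_zero, map_zero]
    · apply mul_left_cancel₀ hz
      rw [hprod, Complex.mul_conj, hn]; simp
  · rw [← Complex.normSq_eq_norm_sq]; exact hnorm ρ

end Groth.Agent.S19356
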