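import Groth.Statements.S19358
import Groth.Agent.Lib.helper29.Fan1

set_option autoImplicit false
universe u
open CategoryTheory Opposite Instab
open Instab Instab.Fan

namespace Groth.Agent.S19358

open Groth.Agent.H29.Fan

/-- Let f : F ⟶ G be a map of formal fans. If f is injective on n-cones for every n, then the induced
continuous map of projective realizations P F → P G is injective; if f is surjective on n-cones for
every n, then P F → P G is surjective. -/
theorem result {F G : Fan.{u}} (f : F ⟶ G) :
    ((∀ n : ICone, Function.Injective (f.app (op n))) → Function.Injective (Fan.P.map f)) ∧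
    ((∀ n : ICone, Function.Surjective (f.app (op n))) → Function.Surjective (Fan.P.map f)) := by
  constructor
  · intro hinj x x' hxx'
    obtain ⟨n, ξ, v, rfl⟩ := mk_surj x
    obtain ⟨n', ξ', v', rfl⟩ := mk_surj x'
    rw [map_mk, map_mk] at hxx'
    obtain ⟨k, φ₁, φ₂, y, c₁, c₂, h1, h2, h3, h4, h5⟩ := common_of_mk_eq hxx'
    rw [← NatTrans.naturality_apply, ← NatTrans.naturality_apply] at h1
    have h1' := hinj k h1
    rw [← mk_map_eq φ₁ ξ y v c₁ h2 h4, ← mk_map_eq φ₂ ξ' y v' c₂ h3 h5, h1']
  · intro hsurj y
    obtain ⟨n, ξ, v, rfl⟩ := mk_surj y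
    obtain ⟨σ, rfl⟩ := hsurj n ξ
    exact ⟨P.mk σ v, rfl⟩

end Groth.Agent.S19358
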