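import Groth.Statements.S19370
import Groth.Agent.Lib.helper29.Fan7

set_option autoImplicit false
universe u v
open CategoryTheory Opposite Instab
open Instab Instab.Fan

namespace Groth.Agent.S19370

open Groth.Agent.H29.Fan Filter Topology

lemma global_max (F : Fan.{u}) (U : Set (Fan.P F))
    (hU : Fan.IsConvex U) {Γ : Type v} [LinearOrder Γ] (Φ : U → Γ) (hΦ : Fan.IsQuasiConcaveOn U Φ)
    (hlsc : ∀ c : Γ, IsClosed {x : U | Φ x ≤ c})
    (x : U) (hxr : (x : Fan.P F).IsRational) (hmax : IsLocalMax Φ x) (y : U) : Φ y ≤ Φ x := by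
  by_contra hlt
  rw [not_le] at hlt
  obtain ⟨_, ⟨S, hS⟩, hconv⟩ := hU
  -- find a rational point with a bigger value
  have hy : (y : P F) ∈ Set.range (P.map S.ι) := hS ▸ y.2
  obtain ⟨n, ξ, v, hξ, hyv⟩ := (mem_range_map_ι S _).mp hy
  have hcell : ∀ w : Orth n, P.mk ξ w ∈ U := by
    intro w
    rw [hS, mem_range_map_ι]
    exact ⟨n, ξ, w, hξ, rfl⟩
  let g : Orth n → U := fun w => ⟨P.mk ξ w, hcell w⟩
  have hg : Continuous g := Continuous.subtype_mk (continuous_mk ξ) _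
  have hgv : g v = y := Subtype.ext hyv.symm
  have hE : IsClosed (g ⁻¹' {z : U | Φ z ≤ Φ x}) := (hlsc (Φ x)).preimage hg
  have hex : ∃ (r : Fin n.dim → ℤ) (hr : ∀ i, 0 ≤ r i) (hr0 : r ≠ 0), Φ x < Φ (g (intPt r hr hr0)) := by
    by_contra hno
    push Not at hno
    have := eq_univ_of_intPt _ hE (fun v w hv c hc hw => by
      have : g w = g v := Subtype.ext (mk_smul_eq ξ v w c hc hw).symm
      show Φ (g w) ≤ Φ x
      rw [this]; exact hv) (fun r hr hr0 => hno r hr hr0) v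
    have h1 : Φ (g v) ≤ Φ x := this
    rw [hgv] at h1
    exact absurd h1 (not_le.mpr hlt)
  obtain ⟨r, hr, hr0, hlt'⟩ := hex
  set y' := g (intPt r hr hr0) with hy'
  have hy'r : (y' : P F).IsRational := isRational_mk_intPt ξ r hr hr0
  have hne : (x : P F) ≠ (y' : P F) := by
    intro h
    have : x = y' := Subtype.ext h
    rw [this] at hlt'
    exact lt_irrefl _ hlt'
  obtain ⟨τ, hτ, hτ0, hτ1⟩ := hconv x y' x.2 y'.2 hxr hy'r hne
  have hx0 : (⟨P.mk τ (Orth.basis Fan.two 0), hτ ⟨_, rfl⟩⟩ : U) = x := Subtype.ext hτ0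
  have hy1 : (⟨P.mk τ (Orth.basis Fan.two 1), hτ ⟨_, rfl⟩⟩ : U) = y' := Subtype.ext hτ1
  refine not_isLocalMax_of_lt Φ hΦ τ hτ ?_ ?_
  · rw [hx0, hy1]; exact hlt'
  · rw [hx0]; exact hmax

/-- Let F be a formal fan, U ⊆ P F a convex subset, Γ a totally ordered set and Φ : U → Γ a
quasi-concave function that is lower semicontinuous in the sense that every sublevel set {Φ ≤ c} is
closed in U. Then every rational point of U at which Φ has a local maximum is a global maximum of Φ,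
and if Φ is strictly quasi-concave there is at most one such rational point. -/
theorem result (F : Fan.{u}) (U : Set (Fan.P F))
    (hU : Fan.IsConvex U) {Γ : Type v} [LinearOrder Γ] (Φ : U → Γ) (hΦ : Fan.IsQuasiConcaveOn U Φ)
    (hlsc : ∀ c : Γ, IsClosed {x : U | Φ x ≤ c}) :
    (∀ x : U, (x : Fan.P F).IsRational → IsLocalMax Φ x → ∀ y : U, Φ y ≤ Φ x) ∧
    (Fan.IsStrictQuasiConcaveOn U Φ → ∀ x y : U, (x : Fan.P F).IsRational → (y : Fan.P F).IsRational →
      IsLocalMax Φ x → IsLocalMax Φ y → x = y) := by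
  refine ⟨fun x hxr hmax y => global_max F U hU Φ hΦ hlsc x hxr hmax y, ?_⟩
  intro hstrict x y hxr hyr hxm hym
  by_contra hne
  have h1 := global_max F U hU Φ hΦ hlsc x hxr hxm y
  have h2 := global_max F U hU Φ hΦ hlsc y hyr hym x
  have heq : Φ x = Φ y := le_antisymm h2 h1
  have hne' : (x : P F) ≠ (y : P F) := fun h => hne (Subtype.ext h)
  obtain ⟨τ, hτ, hτ0, hτ1⟩ := hU.2.2 x y x.2 y.2 hxr hyr hne'
  have hx0 : (⟨P.mk τ (Orth.basis Fan.two 0), hτ ⟨_, rfl⟩⟩ : U) = x := Subtype.ext hτ0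
  have hy1 : (⟨P.mk τ (Orth.basis Fan.two 1), hτ ⟨_, rfl⟩⟩ : U) = y := Subtype.ext hτ1
  have hq := hstrict Fan.two τ (Orth.basis Fan.two 0) (seg 1) (Orth.basis Fan.two 1)
    (hτ ⟨_, rfl⟩) (hτ ⟨_, rfl⟩) (hτ ⟨_, rfl⟩) basis_not_prop
    ⟨1, |(1 : ℝ)|, one_pos, by simp, by rw [seg_val, one_smul]⟩
  rw [hx0, hy1, ← heq, min_self] at hq
  exact absurd (global_max F U hU Φ hΦ hlsc x hxr hxm _) (not_le.mpr hq)

end Groth.Agent.S19370
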