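import Groth.Statements.S19374
import Groth.Agent.Lib.helper29.Fan1

set_option autoImplicit false
universe u
open CategoryTheory Opposite Instab
open Instab Instab.Fan

namespace Groth.Agent.S19374

open Groth.Agent.H29.Fan

/-- Let F be a formal fan and U ⊆ P F. Then U is locally convex in the simplex-wise sense — for every
rational simplex, a ray lying strictly between two rays that map into U also maps into U — if and
only if, for every n-cone ξ of F, the set of nonzero nonnegative vectors v of ℝ^n whose point of the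
rational simplex of ξ lies in U is a convex subset of ℝ^n (convexity of the preimage of U in each
punctured cone of the affine realization). -/
theorem result (F : Fan.{u}) (U : Set (Fan.P F)) :
    Fan.IsLocallyConvex U ↔
      ∀ (n : ICone) (ξ : F.obj (op n)),
        Convex ℝ {v : Fin n.dim → ℝ | ∃ h : (∀ i, 0 ≤ v i) ∧ v ≠ 0, Fan.P.mk ξ (⟨v, h⟩ : Fan.Orth n) ∈ U} := by
  constructor
  · intro hU n ξ x hx y hy a b ha hb hab
    obtain ⟨hx', hxU⟩ := hx
    obtain ⟨hy', hyU⟩ := hy
    rcases ha.eq_or_lt with ha0 | ha'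
    · subst ha0
      have hb1 : b = 1 := by linarith
      subst hb1
      simp only [zero_smul, one_smul, zero_add]
      exact ⟨hy', hyU⟩
    rcases hb.eq_or_lt with hb0 | hb'
    · subst hb0
      have ha1 : a = 1 := by linarith
      subst ha1
      simp only [zero_smul, one_smul, add_zero]
      exact ⟨hx', hxU⟩
    have hnn : ∀ i, 0 ≤ (a • x + b • y) i := by
      intro i
      simp only [Pi.add_apply, Pi.smul_apply, smul_eq_mul]
      exact add_nonneg (mul_nonneg ha (hx'.1 i)) (mul_nonneg hb (hy'.1 i))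
    have hne : a • x + b • y ≠ 0 := by
      intro h0
      apply hx'.2
      funext i
      have h1 := congrFun h0 i
      simp only [Pi.add_apply, Pi.smul_apply, smul_eq_mul, Pi.zero_apply] at h1
      have h2 := mul_nonneg ha (hx'.1 i)
      have h3 := mul_nonneg hb (hy'.1 i)
      have h4 : a * x i = 0 := by linarith
      rcases mul_eq_zero.mp h4 with h5 | h5
      · exact absurd h5 ha'.ne'
      · exact h5
    refine ⟨⟨hnn, hne⟩, ?_⟩
    exact hU n ξ ⟨x, hx'⟩ ⟨a • x + b • y, hnn, hne⟩ ⟨y, hy'⟩ hxU hyU ⟨a, b, ha', hb', rfl⟩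
  · intro h n ξ v₀ v₁ v₂ h0 h2 hv
    obtain ⟨a, b, ha, hb, hv1⟩ := hv
    have hs : 0 < a + b := add_pos ha hb
    have hconv := h n ξ (x := v₀.1) ⟨v₀.2, h0⟩ (y := v₂.1) ⟨v₂.2, h2⟩ (a := a / (a + b))
      (b := b / (a + b)) (div_pos ha hs).le (div_pos hb hs).le (by field_simp)
    obtain ⟨h', hU'⟩ := hconv
    have : P.mk ξ (⟨_, h'⟩ : Fan.Orth n) = P.mk ξ v₁ := by
      apply mk_smul_eq ξ _ _ (a + b) hs
      show v₁.1 = (a + b) • ((a / (a + b)) • v₀.1 + (b / (a + b)) • v₂.1)
      rw [hv1, smul_add, smul_smul, smul_smul, mul_div_cancel₀ _ hs.ne', mul_div_cancel₀ _ hs.ne']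
    rw [← this]
    exact hU'

end Groth.Agent.S19374
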