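import Groth.Statements.S4756
import Mathlib
import Groth.Agent.Lib.helper20.FiberLoc

set_option autoImplicit false
universe u
open EGA4

namespace Groth.Agent.S4756

/-- Let A → B be a normal homomorphism of Noetherian rings (flat, with geometrically normal fibres) and
S a multiplicative subset of A. Then the induced homomorphism S⁻¹A → S⁻¹B (arbitrary localizations
at S and at its image) is normal. -/
theorem result (A B : Type u) [CommRing A] [CommRing B] [IsNoetherianRing A] [IsNoetherianRing B]
    [Algebra A B] (h : EGA4.IsNormalHom A B) (S : Submonoid A)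
    (A' B' : Type u) [CommRing A'] [CommRing B'] [Algebra A A'] [Algebra B B'] [Algebra A' B'] [Algebra A B']
    [IsScalarTower A A' B'] [IsScalarTower A B B'] [IsLocalization S A']
    [IsLocalization (Algebra.algebraMapSubmonoid B S) B'] :
    EGA4.IsNormalHom A' B' := by
  obtain ⟨hflat, hfib⟩ := h
  haveI := hflat
  refine ⟨Groth.Agent.Lib.helper20.FiberLoc.flat_of_isLocalization A B A' B' S, ?_⟩
  intro p' hp'
  intro k' _ _ hfin
  obtain ⟨alg, h'⟩ := Groth.Agent.Lib.helper20.FiberLoc.exists_fiber_equiv A B A' B' S p' k'
  letI := alg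
  obtain ⟨hfin', -, ⟨e⟩⟩ := h'
  have hn := hfib (p'.comap (algebraMap A A')) k' (hfin' hfin)
  exact Groth.Agent.Lib.helper20.FiberLoc.normal_of_ringEquiv e.symm hn

end Groth.Agent.S4756
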