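import Groth.Statements.S19378
import Mathlib
import Groth.Agent.S0543
import Groth.Agent.S4756
import Groth.Agent.Lib.helper17.FlatNormal
import Groth.Agent.Lib.helper20.NormalDescent
set_option linter.style.haveILetI false

set_option autoImplicit false
universe u
open EGA4

namespace Groth.Agent.S19378

/-- Let A be a Noetherian ring, J a proper ideal of A, Â the J-adic completion and A_T the localization
of A at T = 1 + J. If the canonical map A → Â is a normal homomorphism (flat with geometrically
normal fibres), then A_T is a normal ring (all local rings integrally closed domains) if and only if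
Â is. (The case of the henselization of the pair and of the weak completion is not stated here.) -/
theorem result
    (A : Type u) [CommRing A] [IsNoetherianRing A] (J : Ideal A) (hJ : J ≠ ⊤)
    (hf : EGA4.IsNormalHom A (AdicCompletion J A))
    (T : Submonoid A) (hT : T = MonoidHom.mker (Ideal.Quotient.mk J)) :
    EGA4.IsNormalRing (Localization T) ↔ EGA4.IsNormalRing (AdicCompletion J A) := by
  subst hT
  set Ah := AdicCompletion J A with hAh
  haveI : IsNoetherianRing Ah := Groth.Agent.S0543.result A J
  have fg : J.FG := (isNoetherianRing_iff_ideal_fg A).mp inferInstance J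
  haveI := AdicCompletion.isAdicComplete_self J fg
  have hjac : J.map (algebraMap A Ah) ≤ Ideal.jacobson ⊥ := IsAdicComplete.le_jacobson_bot _
  have hmemT : ∀ t : A, t ∈ MonoidHom.mker (Ideal.Quotient.mk J) ↔ t - 1 ∈ J := by
    intro t
    rw [MonoidHom.mem_mker, ← Ideal.Quotient.eq_zero_iff_mem, map_sub, map_one, sub_eq_zero]
  have hunit : ∀ t : (MonoidHom.mker (Ideal.Quotient.mk J)), IsUnit (algebraMap A Ah t) := by
    rintro ⟨t, ht⟩
    have h1 : t - 1 ∈ J := (hmemT t).mp ht
    have h2 : algebraMap A Ah (t - 1) ∈ Ideal.jacobson ⊥ := hjac (Ideal.mem_map_of_mem _ h1)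
    have h3 := (Ideal.mem_jacobson_bot.mp h2) 1
    simpa using h3
  set T := MonoidHom.mker (Ideal.Quotient.mk J) with hT
  letI alg : Algebra (Localization T) Ah :=
    (IsLocalization.lift (M := T) (g := algebraMap A Ah) hunit).toAlgebra
  haveI : IsScalarTower A (Localization T) Ah :=
    IsScalarTower.of_algebraMap_eq (fun x => (IsLocalization.lift_eq _ x).symm)
  haveI : IsLocalization (Algebra.algebraMapSubmonoid Ah T) Ah := by
    apply IsLocalization.of_le_isUnit
    rintro _ ⟨t, ht, rfl⟩
    exact hunit ⟨t, ht⟩
  have hN : EGA4.IsNormalHom (Localization T) Ah :=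
    Groth.Agent.S4756.result A Ah hf T (Localization T) Ah
  haveI : Module.Flat (Localization T) Ah := hN.1
  constructor
  · intro hAT
    exact Groth.Agent.Lib.helper17.FlatNormal.isNormalRing_of_flat (A := Localization T) (B := Ah) hAT
      (fun p _ => Groth.Agent.Lib.helper17.FlatNormal.isNormalRing_of_isGeomNormal _ _ (hN.2 p))
  · intro hAh
    haveI : Module.FaithfullyFlat (Localization T) Ah := by
      refine ⟨fun m hm => ?_⟩
      set p := m.comap (algebraMap A (Localization T)) with hp
      have hpm : p.map (algebraMap A (Localization T)) = m := IsLocalization.map_under T _ m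
      have hdisj : Disjoint (T : Set A) p :=
        ((IsLocalization.isPrime_iff_isPrime_disjoint T (Localization T) m).mp hm.isPrime).2
      have hJp : J ≤ p := by
        intro j hj
        by_contra hjp
        have hjm : algebraMap A (Localization T) j ∉ m := hjp
        obtain ⟨y, i, hi, hyi⟩ := hm.exists_inv hjm
        obtain ⟨a, t, rfl⟩ := IsLocalization.exists_mk'_eq T y
        have h1 : algebraMap A (Localization T) ((t : A) - a * j) =
            algebraMap A (Localization T) t * i := by
          have h2 : algebraMap A (Localization T) t * (IsLocalization.mk' (Localization T) a t *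
              algebraMap A (Localization T) j + i) = algebraMap A (Localization T) t := by
            rw [hyi, mul_one]
          rw [mul_add, ← mul_assoc, IsLocalization.mul_mk'_eq_mk'_of_mul,
            IsLocalization.mk'_mul_cancel_left] at h2
          rw [map_sub, map_mul]; linear_combination -h2
        have h3 : (t : A) - a * j ∈ p := by
          rw [hp, Ideal.mem_comap, h1]
          exact Ideal.mul_mem_left _ _ hi
        have h4 : (t : A) - a * j ∈ T := by
          rw [hmemT]
          have := (hmemT t).mp t.2
          have h5 : (t : A) - a * j - 1 = ((t : A) - 1) - a * j := by ring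
          rw [h5]
          exact J.sub_mem this (J.mul_mem_left _ hj)
        exact Set.disjoint_left.mp hdisj h4 h3
      let φ : Ah →+* A ⧸ p :=
        (Ideal.Quotient.factor hJp).comp (AdicCompletion.evalOneₐ J).toRingHom
      have hφ : ∀ a : A, φ (algebraMap A Ah a) = Ideal.Quotient.mk p a := by
        intro a
        change Ideal.Quotient.factor hJp (AdicCompletion.evalOneₐ J (AdicCompletion.of J A a)) = _
        rw [AdicCompletion.evalOneₐ_of]
        rfl
      intro htop
      rw [Ideal.smul_top_eq_map] at htop
      have h1 : (1 : Ah) ∈ m.map (algebraMap (Localization T) Ah) := by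
        have : (1 : Ah) ∈ ((m.map (algebraMap (Localization T) Ah)).restrictScalars (Localization T)) := by
          rw [htop]; trivial
        exact this
      rw [← hpm, Ideal.map_map, ← IsScalarTower.algebraMap_eq] at h1
      have h2 : p.map (algebraMap A Ah) ≤ RingHom.ker φ := by
        rw [Ideal.map_le_iff_le_comap]
        intro a ha
        rw [Ideal.mem_comap, RingHom.mem_ker, hφ, Ideal.Quotient.eq_zero_iff_mem]
        exact ha
      have h3 := h2 h1
      rw [RingHom.mem_ker, map_one] at h3
      haveI : p.IsPrime := Ideal.comap_isPrime _ m
      haveI : Nontrivial (A ⧸ p) := Ideal.Quotient.nontrivial_iff.mpr (Ideal.IsPrime.ne_top ‹_›)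
      exact one_ne_zero h3
    exact Groth.Agent.Lib.helper20.NormalDescent.normal_of_faithfullyFlat (Localization T) Ah hAh

end Groth.Agent.S19378
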