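import Groth.Statements.S19375
import Mathlib
import Groth.Agent.S0543
import Groth.Agent.S4756
import Groth.Agent.S19378
import Groth.Agent.Lib.helper17.OnePlusJ
set_option linter.style.haveILetI false

set_option autoImplicit false
universe u
open EGA4

namespace Groth.Agent.S19375

/-- Let A be a Noetherian ring, J a proper ideal of A, Â the J-adic completion of A and A_T the
localization of A at the multiplicative set T = 1 + J (the elements congruent to 1 modulo J). Assume
that the canonical map A → Â is a normal homomorphism (flat, with geometrically normal fibres), as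
happens when A is excellent. Then Â is an integrally closed domain if and only if A_T is an
integrally closed domain and the spectrum of A/J is connected. (The published statement asserts the
equivalence of the first two conditions alone; for A = ℤ and J = 6ℤ the localization A_T is an
integrally closed domain while Â ≅ ℤ_2 × ℤ_3 is not a domain, and the published proof tacitly uses
that Spec Â, whose connected components correspond to those of Spec(A/J), is connected. The case of
the henselization of the pair and of the weak completion is not stated here.) -/
theorem result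
    (A : Type u) [CommRing A] [IsNoetherianRing A] (J : Ideal A) (hJ : J ≠ ⊤)
    (hf : EGA4.IsNormalHom A (AdicCompletion J A))
    (T : Submonoid A) (hT : T = MonoidHom.mker (Ideal.Quotient.mk J)) :
    (IsDomain (AdicCompletion J A) ∧ IsIntegrallyClosed (AdicCompletion J A)) ↔
      ((IsDomain (Localization T) ∧ IsIntegrallyClosed (Localization T)) ∧
        ConnectedSpace (PrimeSpectrum (A ⧸ J))) := by
  subst hT
  set Ah := AdicCompletion J A with hAh
  haveI : IsNoetherianRing Ah := Groth.Agent.S0543.result A J
  have hunit := Groth.Agent.Lib.helper17.OnePlusJ.isUnit_algebraMap A J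
  set T := MonoidHom.mker (Ideal.Quotient.mk J) with hT
  letI alg : Algebra (Localization T) Ah :=
    (IsLocalization.lift (M := T) (g := algebraMap A Ah) hunit).toAlgebra
  haveI : IsScalarTower A (Localization T) Ah :=
    IsScalarTower.of_algebraMap_eq (fun x => (IsLocalization.lift_eq _ x).symm)
  haveI : IsLocalization (Algebra.algebraMapSubmonoid Ah T) Ah := by
    apply IsLocalization.of_le_isUnit
    rintro _ ⟨t, ht, rfl⟩
    exact hunit ⟨t, ht⟩
  have hN : EGA4.IsNormalHom (Localization T) Ah :=
    Groth.Agent.S4756.result A Ah hf T (Localization T) Ah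
  haveI : Module.Flat (Localization T) Ah := hN.1
  haveI : Module.FaithfullyFlat (Localization T) Ah :=
    Groth.Agent.Lib.helper17.OnePlusJ.faithfullyFlat A J T rfl
  have hiff := Groth.Agent.S19378.result A J hJ hf T rfl
  have hconn := Groth.Agent.Lib.helper17.OnePlusJ.connectedSpace_iff A J
  have hinj : Function.Injective (algebraMap (Localization T) Ah) :=
    FaithfulSMul.algebraMap_injective _ _
  constructor
  · rintro ⟨hd, hic⟩
    haveI := hd
    haveI := hic
    have hnAh : EGA4.IsNormalRing Ah :=
      Groth.Agent.Lib.helper17.OnePlusJ.isNormalRing_of_isIntegrallyClosed Ah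
    have hnT := hiff.mpr hnAh
    haveI : IsDomain (Localization T) := hinj.isDomain (algebraMap (Localization T) Ah)
    refine ⟨⟨inferInstance,
      Groth.Agent.Lib.helper17.OnePlusJ.isIntegrallyClosed_of_isNormalRing _ hnT⟩, ?_⟩
    rw [← hconn, Groth.Agent.H14.connectedSpace_primeSpectrum_iff]
    refine ⟨inferInstance, fun e he => ?_⟩
    have h0 : e * (e - 1) = 0 := by
      have : e * e = e := he
      linear_combination this
    rcases mul_eq_zero.mp h0 with h | h
    · left; exact h
    · right; exact sub_eq_zero.mp h
  · rintro ⟨⟨hd, hic⟩, hc⟩
    haveI := hd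
    haveI := hic
    have hnT : EGA4.IsNormalRing (Localization T) :=
      Groth.Agent.Lib.helper17.OnePlusJ.isNormalRing_of_isIntegrallyClosed _
    have hnAh := hiff.mp hnT
    haveI : ConnectedSpace (PrimeSpectrum Ah) := hconn.mpr hc
    haveI : Nontrivial Ah :=
      (Groth.Agent.H14.connectedSpace_primeSpectrum_iff.mp ‹ConnectedSpace (PrimeSpectrum Ah)›).1
    haveI : IsDomain Ah := Groth.Agent.Lib.helper17.OnePlusJ.isDomain_of_isNormalRing Ah hnAh
    exact ⟨inferInstance,
      Groth.Agent.Lib.helper17.OnePlusJ.isIntegrallyClosed_of_isNormalRing Ah hnAh⟩

end Groth.Agent.S19375
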