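import Groth.Statements.S19376
import Mathlib
import Groth.Agent.Lib.helper3.ComplLift
-- import your own Groth.Agent.* helpers here

set_option autoImplicit false
universe u
open EGA4

namespace Groth.Agent.S19376

/-- Let V be an excellent normal ring with no additive torsion, I an ideal of V such that (V, I) is a
henselian pair, A and C smooth V-algebras, and φ₀ a V-algebra homomorphism from A/IA to C/IC which
is finite. Then φ₀ lifts to a finite V-algebra homomorphism φ from the IA-adic completion of A to
the IC-adic completion of C: composing φ with the projection onto C/IC equals the projection onto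
A/IA followed by φ₀. (The published statement also treats finite flat, finite faithfully flat and
finite étale maps, whose proofs are referred elsewhere; only the finite case is stated.) -/
theorem result
    (V : Type u) [CommRing V] [IsAddTorsionFree V]
    (hexc : EGA4.IsExcellent V) (hV : EGA4.IsNormalRing V)
    (I : Ideal V) [HenselianRing V I]
    (A C : Type u) [CommRing A] [Algebra V A] [Algebra.Smooth V A]
    [CommRing C] [Algebra V C] [Algebra.Smooth V C]
    (φ₀ : (A ⧸ I.map (algebraMap V A)) →ₐ[V] (C ⧸ I.map (algebraMap V C)))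
    (hφ₀ : φ₀.toRingHom.Finite) :
    ∃ φ : AdicCompletion (I.map (algebraMap V A)) A →ₐ[V]
        AdicCompletion (I.map (algebraMap V C)) C,
      φ.toRingHom.Finite ∧
      (AdicCompletion.evalOneₐ (I.map (algebraMap V C))).toRingHom.comp φ.toRingHom =
        φ₀.toRingHom.comp (AdicCompletion.evalOneₐ (I.map (algebraMap V A))).toRingHom := by
  haveI : IsNoetherianRing V := hexc.1
  have hIfg : I.FG := IsNoetherian.noetherian I
  have hIA : (I.map (algebraMap V A)).FG := hIfg.map _
  have hIC : (I.map (algebraMap V C)).FG := hIfg.map _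
  obtain ⟨g, hg⟩ := Algebra.FormallySmooth.exists_adicCompletionEvalOneₐ_comp_eq (R := V) (A := A)
    (S := C) (I := I.map (algebraMap V C)) (φ₀.comp (Ideal.Quotient.mkₐ V (I.map (algebraMap V A))))
  obtain ⟨φ, hφ⟩ := Groth.Agent.Lib.helper3.ComplLift.exists_extend I g
  have hcomp : (AdicCompletion.evalOneₐ (I.map (algebraMap V C))).toRingHom.comp φ.toRingHom =
      φ₀.toRingHom.comp (AdicCompletion.evalOneₐ (I.map (algebraMap V A))).toRingHom := by
    ext x
    obtain ⟨a, ha⟩ := Ideal.Quotient.mk_surjective
      (AdicCompletion.evalₐ (I.map (algebraMap V A)) 1 x)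
    have h1 := hφ 1 x a ha.symm
    show AdicCompletion.evalOneₐ (I.map (algebraMap V C)) (φ x) =
      φ₀ (AdicCompletion.evalOneₐ (I.map (algebraMap V A)) x)
    rw [← AdicCompletion.factorₐ_evalₐ_one, ← AdicCompletion.factorₐ_evalₐ_one, h1, ← ha,
      Ideal.Quotient.factor_mk, AdicCompletion.factorₐ_evalₐ_one]
    exact congrArg (fun h : A →ₐ[V] C ⧸ I.map (algebraMap V C) => h a) hg
  refine ⟨φ, ?_, hcomp⟩
  refine Groth.Agent.Lib.helper3.ComplLift.finite_of_evalOne _ _ hIA hIC φ.toRingHom φ₀.toRingHom
    hφ₀ hcomp ?_
  rw [Ideal.map_map, Ideal.map_map, Ideal.map_map]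
  congr 1
  refine RingHom.ext fun v => ?_
  show φ (algebraMap V (AdicCompletion (I.map (algebraMap V A)) A) v) =
    algebraMap V (AdicCompletion (I.map (algebraMap V C)) C) v
  exact φ.commutes v

end Groth.Agent.S19376
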