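import Groth.Statements.S19380

set_option autoImplicit false
universe u
open CAlg

namespace Groth.Agent.S19380

open Polynomial in
theorem charpolyRev_map_aux {L : Type u} [CommRing L] {r : ℕ} (f : L →+* L)
    (M : Matrix (Fin r) (Fin r) L) :
    (Matrix.charpolyRev M).map f = Matrix.charpolyRev (M.map f) := by
  unfold Matrix.charpolyRev
  rw [← Polynomial.coe_mapRingHom, RingHom.map_det]
  congr 1
  ext i j
  simp [Matrix.map_apply, Matrix.sub_apply, Matrix.one_apply, Matrix.smul_apply]
  split_ifs <;> simp [Polynomial.coeff_one]

theorem charpolyRev_mul_comm_aux {L : Type u} [CommRing L] {r : ℕ}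
    (A B : Matrix (Fin r) (Fin r) L) :
    Matrix.charpolyRev (A * B) = Matrix.charpolyRev (B * A) := by
  rw [← Matrix.reverse_charpoly, ← Matrix.reverse_charpoly, Matrix.charpoly_mul_comm]

/-- Let L be a commutative ring, σ a ring automorphism of L of finite order dividing d (σ^d = 1), and C
an r × r matrix over L. The reverse characteristic polynomial det(1 − T·N) of the twisted product N
= C·σ(C)·σ²(C)⋯σ^(d−1)(C), with σ applied to the entries, is fixed by σ acting on coefficients. (In
the source this is phrased for the fibre at a closed point x of degree d of a convergent F-module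
with Frobenius matrix C: the d-th iterate of the semilinear Frobenius of the fibre is the linear map
with matrix N, so its characteristic polynomial has coefficients in the subfield fixed by the
Frobenius of K(x), namely K, and likewise with the valuation ring in place of K for an integral
F-module; only this linear-algebra statement, over any commutative ring, is given here.) -/
theorem result
    (L : Type u) [CommRing L] (σ : L ≃+* L) (d : ℕ) (hσ : σ ^ d = 1)
    (r : ℕ) (C : Matrix (Fin r) (Fin r) L) :
    (Matrix.charpolyRev (((List.range d).map fun i => C.map ⇑(σ ^ i)).prod)).map (σ : L →+* L) =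
      Matrix.charpolyRev (((List.range d).map fun i => C.map ⇑(σ ^ i)).prod) := by
  rw [charpolyRev_map_aux]
  cases d with
  | zero => simp
  | succ d =>
    -- N = C * M where M = ∏_{i<d} σ^{i+1}(C); σ(N) = M * C
    have h1 : ((List.range (d+1)).map fun i => C.map ⇑(σ ^ i)).prod =
        C * ((List.range d).map fun i => C.map ⇑(σ ^ (i+1))).prod := by
      rw [List.range_succ_eq_map, List.map_cons, List.prod_cons, List.map_map]
      simp [Function.comp_def]
    have h2 : (((List.range (d+1)).map fun i => C.map ⇑(σ ^ i)).prod).map ⇑(σ : L →+* L) =
        ((List.range d).map fun i => C.map ⇑(σ ^ (i+1))).prod * C := by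
      have : (((List.range (d+1)).map fun i => C.map ⇑(σ ^ i)).prod).map ⇑(σ : L →+* L) =
          ((List.range (d+1)).map fun i => C.map ⇑(σ ^ (i+1))).prod := by
        have := map_list_prod ((σ : L →+* L).mapMatrix (m := Fin r)) ((List.range (d+1)).map fun i => C.map ⇑(σ ^ i))
        rw [RingHom.mapMatrix_apply] at this
        rw [this, List.map_map]
        congr 1
        apply List.map_congr_left
        intro i _
        ext a b
        simp [pow_succ', Matrix.map_apply]
      rw [this, List.range_succ, List.map_append, List.prod_append]
      have h3 : C.map ⇑(σ ^ (d+1)) = C := by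
        rw [hσ]; ext a b; simp
      simp only [List.map_cons, List.map_nil, List.prod_cons, List.prod_nil, mul_one, h3]
    rw [h2, h1]
    exact charpolyRev_mul_comm_aux _ _

end Groth.Agent.S19380
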