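import Groth.Statements.S19383
import Mathlib

set_option autoImplicit false
universe u
open CAlg

namespace Groth.Agent.S19383



/-- Over a discrete valuation ring, let V be a henselian discrete valuation ring with maximal ideal 𝔪
and B a Noetherian V-algebra, B̂ its 𝔪B-adic completion. Then B is flat over V if and only if B̂ is
flat over V. (The published lemma takes V an excellent normal ring with an ideal I such that (V,
V/I) is a henselian pair and B of finite type; in that generality it fails: for V = ℤ_p[[x]], I =
(p) and B = V[y]/(x, py − 1) ≅ ℚ_p one has IB = B, so B̂ = 0 is flat while B is not flat over V.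
Over a discrete valuation ring flatness is torsion-freeness and the statement holds for every
Noetherian B.) -/
theorem result
    (V : Type u) [CommRing V] [IsDomain V] [IsDiscreteValuationRing V] [HenselianLocalRing V]
    (B : Type u) [CommRing B] [Algebra V B] [IsNoetherianRing B] :
    Module.Flat V B ↔
      Module.Flat V (AdicCompletion ((IsLocalRing.maximalIdeal V).map (algebraMap V B)) B) := by
  set J := (IsLocalRing.maximalIdeal V).map (algebraMap V B) with hJ
  constructor
  · intro h
    exact Module.Flat.trans V B (AdicCompletion J B)
  · intro h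
    obtain ⟨π, hπ⟩ := IsDiscreteValuationRing.exists_irreducible V
    have hmax : IsLocalRing.maximalIdeal V = Ideal.span {π} := hπ.maximalIdeal_eq
    have hJ' : J = Ideal.span {algebraMap V B π} := by
      rw [hJ, hmax, Ideal.map_span, Set.image_singleton]
    have hπ0 : π ≠ 0 := hπ.ne_zero
    -- `π`-torsion-freeness of `B`
    have key : ∀ b : B, π • b = 0 → b = 0 := by
      intro b hb
      have h1 : π • (AdicCompletion.of J B b) = 0 := by
        rw [← LinearMap.map_smul_of_tower, hb, map_zero]
      have htf : Submodule.torsion V (AdicCompletion J B) = ⊥ :=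
        (IsDedekindDomain.flat_iff_torsion_eq_bot).mp h
      have h2 : AdicCompletion.of J B b = 0 := by
        have : AdicCompletion.of J B b ∈ Submodule.torsion V (AdicCompletion J B) := by
          rw [Submodule.mem_torsion_iff]
          exact ⟨⟨π, mem_nonZeroDivisors_of_ne_zero hπ0⟩, h1⟩
        rw [htf] at this
        exact this
      have h3 : b ∈ (⨅ i : ℕ, J ^ i • ⊤ : Submodule B B) := by
        rw [Submodule.mem_iInf]
        intro n
        have := congrArg (AdicCompletion.eval J B n) h2
        rw [AdicCompletion.eval_of, map_zero, Submodule.mkQ_apply,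
          Submodule.Quotient.mk_eq_zero] at this
        exact this
      obtain ⟨⟨r, hr⟩, hrb⟩ := (Ideal.mem_iInf_smul_pow_eq_bot_iff J b).mp h3
      rw [hJ', Ideal.mem_span_singleton'] at hr
      obtain ⟨c, rfl⟩ := hr
      rw [← hrb]
      change (c * algebraMap V B π) • b = 0
      rw [smul_eq_mul, mul_assoc, ← Algebra.smul_def, hb, mul_zero]
    rw [IsDedekindDomain.flat_iff_torsion_eq_bot, eq_bot_iff]
    intro b hb
    rw [Submodule.mem_torsion_iff] at hb
    obtain ⟨⟨a, ha⟩, hab⟩ := hb
    have ha0 : a ≠ 0 := nonZeroDivisors.ne_zero ha
    obtain ⟨n, u, rfl⟩ := IsDiscreteValuationRing.eq_unit_mul_pow_irreducible ha0 hπ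
    change ((u : V) * π ^ n) • b = 0 at hab
    rw [mul_smul] at hab
    have h4 : π ^ n • b = 0 := by
      have := congrArg (fun x => ((u⁻¹ : Vˣ) : V) • x) hab
      simpa [smul_smul] using this
    clear hab
    rw [Submodule.mem_bot]
    induction n with
    | zero => simpa using h4
    | succ n ih =>
      apply ih
      · exact mem_nonZeroDivisors_of_ne_zero (mul_ne_zero (Units.ne_zero u) (pow_ne_zero n hπ0))
      · exact mul_ne_zero (Units.ne_zero u) (pow_ne_zero n hπ0)
      · apply key
        rw [← mul_smul, ← pow_succ']
        exact h4

end Groth.Agent.S19383
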