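import Groth.Statements.S19384
import Mathlib
import Groth.Agent.Lib.helper12.Versch

set_option autoImplicit false
set_option linter.style.haveILetI false
universe u
open Versch

namespace Groth.Agent.S19384

/-- Over a field and for one finite level, let k be a field of characteristic p > 0 and G = Spec A a
finite commutative k-group scheme (A a finite-dimensional commutative cocommutative Hopf algebra)
killed by p^n, i.e. the p^n-th power map of G is the trivial homomorphism, and suppose the
Verschiebung of G is an isomorphism (the ring map v : A → A ⊗_k k^(p) characterised as the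
Verschiebung is bijective). Then G is infinitesimal, more precisely the n-th iterate of its
Frobenius is trivial: a^(p^n) = 0 for every a in the augmentation ideal. (The source states this for
the p^n-torsion levels of a p-divisible group of multiplicative type over any scheme of
characteristic p and reduces to a field fibre by fibre; it also records that the Cartier dual has
unipotent fibres, which is not stated here.) -/
theorem result
    (p : ℕ) [Fact p.Prime] (k : Type u) [Field k] [CharP k p]
    (A : Type u) [CommRing A] [HopfAlgebra k A] [Coalgebra.IsCocomm k A] [Module.Finite k A]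
    (n : ℕ)
    (hn : SGA3b.powConv k A (p ^ n) = (Algebra.ofId k A).comp (Bialgebra.counitAlgHom k A))
    (v : A →+* FrobAlg.BaseChange p k A) (hv : Versch.IsVerschiebung p k A v)
    (hbij : Function.Bijective v)
    (a : A) (ha : Coalgebra.counit (R := k) a = 0) : a ^ (p ^ n) = 0 := by
  classical
  rcases subsingleton_or_nontrivial A with hA | hA
  · exact Subsingleton.elim _ _
  haveI : CharP A p := charP_of_injective_algebraMap (algebraMap k A).injective p
  have hFV := Groth.Agent.H12Ver.relFrob_verschiebung p k A v hv
  have h1 : ∀ b : A, ∃ c, SGA3b.powConv k A p c = b ^ p := by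
    intro b
    obtain ⟨c, hc⟩ := hbij.2 (TensorProduct.tmul k b (1 : FrobAlg.Twist p k))
    refine ⟨c, ?_⟩
    rw [← hFV, hc, Groth.Agent.H12Ver.relFrob_tmul]
    simp
  have h2 : ∀ m : ℕ, ∀ b : A, ∃ c, SGA3b.powConv k A (p ^ m) c = b ^ (p ^ m) := by
    intro m
    induction m with
    | zero =>
      intro b
      exact ⟨b, by rw [pow_zero, Groth.Agent.H12Ver.powConv_one, pow_one]; rfl⟩
    | succ m ih =>
      intro b
      obtain ⟨c, hc⟩ := ih b
      obtain ⟨c', hc'⟩ := h1 c
      refine ⟨c', ?_⟩
      rw [pow_succ, Groth.Agent.H12Ver.powConv_mul, AlgHom.comp_apply, hc', map_pow, hc, ← pow_mul]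
  obtain ⟨c, hc⟩ := h2 n a
  rw [hn] at hc
  have h3 := congrArg (Coalgebra.counit (R := k)) hc
  simp only [AlgHom.comp_apply, Bialgebra.counitAlgHom_apply, Algebra.ofId_apply,
    Bialgebra.counit_algebraMap, Bialgebra.counit_pow, ha] at h3
  rw [← hc]
  simp only [AlgHom.comp_apply, Bialgebra.counitAlgHom_apply, Algebra.ofId_apply]
  rw [h3, zero_pow (pow_ne_zero _ (Fact.out : p.Prime).ne_zero), map_zero]

end Groth.Agent.S19384
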