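import Groth.Statements.S19390
import Mathlib

set_option autoImplicit false
universe u
open GIT

namespace Groth.Agent.S19390

section helpers



/-- block-sorted arrangement: positions at distance `≥ e` carry distinct values. -/
lemma exists_arrangement {α : Type u} [DecidableEq α] (n e : ℕ) (x : Fin n → α)
    (hx : ∀ a : α, (Finset.univ.filter fun k => x k = a).card ≤ e) :
    ∃ σ : Equiv.Perm (Fin n), ∀ p q : Fin n, p.val + e ≤ q.val → x (σ p) ≠ x (σ q) := by
  classical
  let key : Fin n → Fin n := fun k =>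
    (Finset.univ.filter (fun k' => x k' = x k)).min' ⟨k, by simp⟩
  have hkey_mem : ∀ k, x (key k) = x k := by
    intro k
    have := Finset.min'_mem (Finset.univ.filter (fun k' => x k' = x k)) ⟨k, by simp⟩
    exact (Finset.mem_filter.1 this).2
  have hkey_eq : ∀ k k', x k = x k' → key k = key k' := by
    intro k k' h
    simp only [key, h]
  have hkey_iff : ∀ k k', key k = key k' → x k = x k' := by
    intro k k' h
    rw [← hkey_mem k, h, hkey_mem k']
  let σ : Equiv.Perm (Fin n) := Tuple.sort key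
  have hmono : Monotone (key ∘ σ) := Tuple.monotone_sort key
  refine ⟨σ, ?_⟩
  intro p q hpq heq
  have hκ : key (σ p) = key (σ q) := hkey_eq _ _ heq
  have hall : ∀ s ∈ Finset.Icc p q, x (σ s) = x (σ p) := by
    intro s hs
    rw [Finset.mem_Icc] at hs
    apply hkey_iff
    apply le_antisymm
    · rw [hκ]; exact hmono hs.2
    · exact hmono hs.1
  have hsub : (Finset.Icc p q).image σ ⊆ Finset.univ.filter fun k => x k = x (σ p) := by
    intro k hk
    obtain ⟨s, hs, rfl⟩ := Finset.mem_image.1 hk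
    simp [hall s hs]
  have hcard := Finset.card_le_card hsub
  rw [Finset.card_image_of_injective _ σ.injective, Fin.card_Icc] at hcard
  have := hx (x (σ p))
  omega

lemma card_filter_eq_one {n : ℕ} (f : Fin n → Fin n) (hf : Function.Injective f) (m : Fin n) :
    (Finset.univ.filter fun k => f k = m).card = 1 := by
  obtain ⟨k0, hk0⟩ := (Finite.injective_iff_surjective.1 hf) m
  rw [Finset.card_eq_one]
  refine ⟨k0, ?_⟩
  ext k
  simp only [Finset.mem_filter, Finset.mem_univ, true_and, Finset.mem_singleton]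
  constructor
  · intro h; exact hf (h.trans hk0.symm)
  · rintro rfl; exact hk0



end helpers

/-- Let e ≥ 1, n = 2e + 1, and let x_1, …, x_n be points such that no point occurs more than e times
among them (the stability condition for n ordered points on a line, n odd). Then there are index
sequences i_1, …, i_n and j_1, …, j_n in which every index between 1 and n occurs exactly twice in
total, such that x_{i_k} ≠ x_{j_k} for every k and (i_1, i_2, i_3) = (j_3, j_1, j_2). Indices are
written 0, …, n − 1 here. -/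
theorem result {α : Type u} [DecidableEq α] (e : ℕ) (he : 1 ≤ e)
    (x : Fin (2 * e + 1) → α)
    (hx : ∀ a : α, (Finset.univ.filter fun k => x k = a).card ≤ e) :
    ∃ i j : Fin (2 * e + 1) → Fin (2 * e + 1),
      (∀ m : Fin (2 * e + 1),
        (Finset.univ.filter fun k => i k = m).card + (Finset.univ.filter fun k => j k = m).card = 2) ∧
      (∀ k, x (i k) ≠ x (j k)) ∧
      i 0 = j 2 ∧ i 1 = j 0 ∧ i 2 = j 1 := by
  classical
  obtain ⟨σ, hσ⟩ := exists_arrangement (2 * e + 1) e x hx
  -- positions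
  let E : Fin (2 * e + 1) := ⟨e, by omega⟩
  let E2 : Fin (2 * e + 1) := ⟨2 * e, by omega⟩
  have h0v : ((0 : Fin (2 * e + 1)) : ℕ) = 0 := rfl
  have h1v : ((1 : Fin (2 * e + 1)) : ℕ) = 1 := by
    rw [Fin.coe_ofNat_eq_mod]; exact Nat.mod_eq_of_lt (by omega)
  have h2v : ((2 : Fin (2 * e + 1)) : ℕ) = 2 := by
    rw [Fin.coe_ofNat_eq_mod]; exact Nat.mod_eq_of_lt (by omega)
  let c : Fin (2 * e + 1) → Fin (2 * e + 1) := fun t =>
    if h : t.val ≤ e then ⟨t.val + e, by omega⟩
    else if t.val = 2 * e then ⟨0, by omega⟩ else ⟨t.val - e, by omega⟩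
  have hc_inj : Function.Injective c := by
    intro t t' h
    simp only [c] at h
    split_ifs at h <;> simp only [Fin.mk.injEq] at h <;> apply Fin.ext <;> omega
  let i' : Equiv.Perm (Fin (2 * e + 1)) := Equiv.swap 1 E * Equiv.swap 2 E2
  have hEv : (E : ℕ) = e := rfl
  have hE2v : (E2 : ℕ) = 2 * e := rfl
  have ne01 : (0 : Fin (2 * e + 1)) ≠ 1 := Fin.ne_of_val_ne (by rw [h0v, h1v]; omega)
  have ne02 : (0 : Fin (2 * e + 1)) ≠ 2 := Fin.ne_of_val_ne (by rw [h0v, h2v]; omega)
  have ne0E : (0 : Fin (2 * e + 1)) ≠ E := Fin.ne_of_val_ne (by rw [h0v, hEv]; omega)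
  have ne0E2 : (0 : Fin (2 * e + 1)) ≠ E2 := Fin.ne_of_val_ne (by rw [h0v, hE2v]; omega)
  have ne12 : (1 : Fin (2 * e + 1)) ≠ 2 := Fin.ne_of_val_ne (by rw [h1v, h2v]; omega)
  have ne1E2 : (1 : Fin (2 * e + 1)) ≠ E2 := Fin.ne_of_val_ne (by rw [h1v, hE2v]; omega)
  have neE21 : E2 ≠ (1 : Fin (2 * e + 1)) := Fin.ne_of_val_ne (by rw [h1v, hE2v]; omega)
  have neE2E : E2 ≠ E := Fin.ne_of_val_ne (by rw [hEv, hE2v]; omega)
  have hi'0 : i' 0 = 0 := by
    show Equiv.swap 1 E (Equiv.swap 2 E2 0) = 0
    rw [Equiv.swap_apply_of_ne_of_ne ne02 ne0E2, Equiv.swap_apply_of_ne_of_ne ne01 ne0E]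
  have hi'1 : i' 1 = E := by
    show Equiv.swap 1 E (Equiv.swap 2 E2 1) = E
    rw [Equiv.swap_apply_of_ne_of_ne ne12 ne1E2, Equiv.swap_apply_left]
  have hi'2 : i' 2 = E2 := by
    show Equiv.swap 1 E (Equiv.swap 2 E2 2) = E2
    rw [Equiv.swap_apply_left, Equiv.swap_apply_of_ne_of_ne neE21 neE2E]
  have hc0 : c 0 = E := by
    apply Fin.ext
    simp only [c, E, h0v]
    rw [dif_pos (by omega)]
    simp
  have hcE : c E = E2 := by
    apply Fin.ext
    simp only [c, E, E2]
    rw [dif_pos (by omega)]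
    simp; omega
  have hcE2 : c E2 = 0 := by
    apply Fin.ext
    simp only [c, E2]
    rw [dif_neg (by omega)]
    simp
  refine ⟨fun k => σ (i' k), fun k => σ (c (i' k)), ?_, ?_, ?_, ?_, ?_⟩
  · intro m
    rw [card_filter_eq_one (fun k => σ (i' k)) (σ.injective.comp i'.injective) m,
      card_filter_eq_one (fun k => σ (c (i' k)))
        (σ.injective.comp (hc_inj.comp i'.injective)) m]
  · intro k
    show x (σ (i' k)) ≠ x (σ (c (i' k)))
    generalize i' k = p
    by_cases h1 : p.val ≤ e
    · apply hσ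
      simp only [c]
      rw [dif_pos h1]
    · by_cases h2 : p.val = 2 * e
      · apply Ne.symm
        apply hσ
        simp only [c]
        rw [dif_neg h1, if_pos h2]
        simp only
        omega
      · apply Ne.symm
        apply hσ
        simp only [c]
        rw [dif_neg h1, if_neg h2]
        simp only
        omega
  · show σ (i' 0) = σ (c (i' 2))
    rw [hi'0, hi'2, hcE2]
  · show σ (i' 1) = σ (c (i' 0))
    rw [hi'1, hi'0, hc0]
  · show σ (i' 2) = σ (c (i' 1))
    rw [hi'2, hi'1, hcE]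

end Groth.Agent.S19390
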