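import Groth.Statements.S19392
import Groth.Agent.S19391
import Mathlib.Tactic

set_option autoImplicit false
universe u
open InvQ

namespace Groth.Agent.S19392

open Groth.Agent.S19391

section
variable {k : Type u} [CommRing k]

/-- bracket -/
def B (la mu : Fin 4 → k) (i j : Fin 4) : k := la i * mu j - la j * mu i

theorem B_symm (la mu : Fin 4 → k) (i j : Fin 4) (h : B la mu i j = 0) : B la mu j i = 0 := by
  unfold B at *; linear_combination -h

def U (la mu : Fin 4 → k) : k := B la mu 0 1 * B la mu 2 3
def V (la mu : Fin 4 → k) : k := B la mu 0 2 * B la mu 3 1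
def W (la mu : Fin 4 → k) : k := B la mu 0 3 * B la mu 1 2

theorem UVW_sum (la mu : Fin 4 → k) : U la mu + V la mu + W la mu = 0 := by
  unfold U V W B; ring

theorem I_eq (la mu : Fin 4 → k) :
    2 * W4c6intromoduli.invI (W4c6intromoduli.coef la mu) = U la mu ^ 2 + V la mu ^ 2 + W la mu ^ 2 := by
  unfold W4c6intromoduli.invI
  rw [coef0, coef1, coef2, coef3, coef4]
  unfold U V W B; ring

theorem J_eq (la mu : Fin 4 → k) :
    W4c6intromoduli.invJ (W4c6intromoduli.coef la mu) =
      (U la mu - V la mu) * (V la mu - W la mu) * (W la mu - U la mu) := by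
  unfold W4c6intromoduli.invJ
  rw [coef0, coef1, coef2, coef3, coef4]
  unfold U V W B; ring

theorem disc_eq' (la mu : Fin 4 → k) :
    W4c6intromoduli.disc la mu = (U la mu * V la mu * W la mu) ^ 2 := by
  rw [disc_eq]; unfold U V W B; ring

end

theorem combi (Z : Fin 4 → Fin 4 → Prop) (hs : ∀ a b, Z a b → Z b a) (i j l : Fin 4)
    (h1 : i ≠ j) (h2 : j ≠ l) (h3 : i ≠ l) (a1 : Z i j) (a2 : Z j l) (a3 : Z i l) :
    (Z 0 1 ∨ Z 2 3) ∧ (Z 0 2 ∨ Z 3 1) ∧ (Z 0 3 ∨ Z 1 2) := by
  have b1 := hs _ _ a1
  have b2 := hs _ _ a2
  have b3 := hs _ _ a3
  fin_cases i <;> fin_cases j <;> fin_cases l <;> simp_all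

/-- Over a field of characteristic different from 2 and 3, a nonzero binary quartic f has P(f) = Q(f) =
0 for the two basic invariants P, Q if and only if f has a triple zero. Stated for f = ∏_i (μ_i X₀ −
λ_i X₁) given by four root points (λ_i, μ_i) ≠ (0, 0) (over an algebraically closed field every
nonzero quartic form is of this shape), with the integral invariants I = 6P and J = 72Q of the
coefficients of f; a triple zero means that three of the four root points are pairwise proportional. -/
theorem result (k : Type u) [Field k]
    (h2 : (2 : k) ≠ 0) (h3 : (3 : k) ≠ 0) (la mu : Fin 4 → k) (hne : ∀ i, la i ≠ 0 ∨ mu i ≠ 0) :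
    (W4c6intromoduli.invI (W4c6intromoduli.coef la mu) = 0 ∧
        W4c6intromoduli.invJ (W4c6intromoduli.coef la mu) = 0) ↔
      ∃ i j l : Fin 4, i ≠ j ∧ j ≠ l ∧ i ≠ l ∧
        la i * mu j = la j * mu i ∧ la j * mu l = la l * mu j := by
  have h27 : (27 : k) ≠ 0 := by
    have : (27 : k) = 3 ^ 3 := by norm_num
    rw [this]; exact pow_ne_zero _ h3
  have hsum := UVW_sum la mu
  have hI2 := I_eq la mu
  have hJ2 := J_eq la mu
  constructor
  · rintro ⟨hI, hJ⟩
    have hD : W4c6intromoduli.disc la mu = 0 := by
      have h := Groth.Agent.S19391.result k la mu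
      rw [hI, hJ] at h
      have : 27 * W4c6intromoduli.disc la mu = 0 := by rw [h]; ring
      exact (mul_eq_zero.mp this).resolve_left h27
    rw [disc_eq'] at hD
    rw [hI] at hI2
    have huvw : U la mu * V la mu * W la mu = 0 := pow_eq_zero_iff (two_ne_zero) |>.mp hD
    have key : U la mu = 0 ∧ V la mu = 0 ∧ W la mu = 0 := by
      rcases mul_eq_zero.mp huvw with h | h
      · rcases mul_eq_zero.mp h with h | h
        · have hv : V la mu = - W la mu := by linear_combination hsum - h
          have : 2 * W la mu ^ 2 = 0 := by rw [h, hv] at hI2; linear_combination -hI2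
          have hw : W la mu = 0 := by
            have := (mul_eq_zero.mp this).resolve_left h2
            exact pow_eq_zero_iff (two_ne_zero) |>.mp this
          exact ⟨h, by rw [hv, hw, neg_zero], hw⟩
        · have hu : U la mu = - W la mu := by linear_combination hsum - h
          have : 2 * W la mu ^ 2 = 0 := by rw [h, hu] at hI2; linear_combination -hI2
          have hw : W la mu = 0 := by
            have := (mul_eq_zero.mp this).resolve_left h2
            exact pow_eq_zero_iff (two_ne_zero) |>.mp this
          exact ⟨by rw [hu, hw, neg_zero], h, hw⟩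
      · have hu : U la mu = - V la mu := by linear_combination hsum - h
        have : 2 * V la mu ^ 2 = 0 := by rw [h, hu] at hI2; linear_combination -hI2
        have hv : V la mu = 0 := by
          have := (mul_eq_zero.mp this).resolve_left h2
          exact pow_eq_zero_iff (two_ne_zero) |>.mp this
        exact ⟨by rw [hu, hv, neg_zero], hv, h⟩
    obtain ⟨hu, hv, hw⟩ := key
    unfold U at hu; unfold V at hv; unfold W at hw
    rcases mul_eq_zero.mp hu with a | a <;> rcases mul_eq_zero.mp hv with b | b <;>
      rcases mul_eq_zero.mp hw with c | c <;> unfold B at a b c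
    · exact ⟨1, 0, 2, by decide, by decide, by decide, by linear_combination -a, by linear_combination b⟩
    · exact ⟨1, 0, 2, by decide, by decide, by decide, by linear_combination -a, by linear_combination b⟩
    · exact ⟨0, 1, 3, by decide, by decide, by decide, by linear_combination a, by linear_combination -b⟩
    · exact ⟨0, 1, 3, by decide, by decide, by decide, by linear_combination a, by linear_combination -b⟩
    · exact ⟨0, 2, 3, by decide, by decide, by decide, by linear_combination b, by linear_combination a⟩
    · exact ⟨0, 2, 3, by decide, by decide, by decide, by linear_combination b, by linear_combination a⟩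
    · exact ⟨1, 3, 2, by decide, by decide, by decide, by linear_combination -b, by linear_combination -a⟩
    · exact ⟨1, 3, 2, by decide, by decide, by decide, by linear_combination -b, by linear_combination -a⟩
  · rintro ⟨i, j, l, hij, hjl, hil, e1, e2⟩
    have a1 : B la mu i j = 0 := by unfold B; linear_combination e1
    have a2 : B la mu j l = 0 := by unfold B; linear_combination e2
    have a3 : B la mu i l = 0 := by
      unfold B
      rcases hne j with hj | hj
      · have : la j * (la i * mu l - la l * mu i) = 0 := by
          linear_combination la i * e2 + la l * e1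
        exact (mul_eq_zero.mp this).resolve_left hj
      · have : mu j * (la i * mu l - la l * mu i) = 0 := by
          linear_combination mu l * e1 + mu i * e2
        exact (mul_eq_zero.mp this).resolve_left hj
    obtain ⟨c1, c2, c3⟩ := combi (fun a b => B la mu a b = 0) (fun a b h => B_symm la mu a b h)
      i j l hij hjl hil a1 a2 a3
    have hu : U la mu = 0 := by
      unfold U; rcases c1 with h | h <;> rw [h] <;> simp
    have hv : V la mu = 0 := by
      unfold V; rcases c2 with h | h <;> rw [h] <;> simp
    have hw : W la mu = 0 := by
      unfold W; rcases c3 with h | h <;> rw [h] <;> simp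
    rw [hu, hv, hw] at hI2 hJ2
    refine ⟨?_, ?_⟩
    · have : 2 * W4c6intromoduli.invI (W4c6intromoduli.coef la mu) = 0 := by rw [hI2]; ring
      exact (mul_eq_zero.mp this).resolve_left h2
    · rw [hJ2]; ring

end Groth.Agent.S19392
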