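import Groth.Statements.S19393
import Groth.Agent.S19392
import Mathlib.Tactic

set_option autoImplicit false
universe u
open InvQ

namespace Groth.Agent.S19393

open Groth.Agent.S19391 Groth.Agent.S19392 MvPolynomial

section
variable {k : Type u} [Field k]

/-- one linear factor under substitution -/
theorem subst_factor (M : Matrix (Fin 2) (Fin 2) k) (l m l' m' t : k)
    (e0 : m * M 0 0 - l * M 1 0 = t * m') (e1 : l * M 1 1 - m * M 0 1 = t * l') :
    W4c6intromoduli.subst M (C m * X 0 - C l * X 1) = C t * (C m' * X 0 - C l' * X 1) := by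
  have h0 : (C (t * m') : MvPolynomial (Fin 2) k) = C m * C (M 0 0) - C l * C (M 1 0) := by
    rw [← e0]; simp
  have h1 : (C (t * l') : MvPolynomial (Fin 2) k) = C l * C (M 1 1) - C m * C (M 0 1) := by
    rw [← e1]; simp
  have : C t * (C m' * X 0 - C l' * X 1) = (C (t * m') * X 0 - C (t * l') * X 1 :
      MvPolynomial (Fin 2) k) := by
    simp only [map_mul]; ring
  rw [this, h0, h1]
  simp only [W4c6intromoduli.subst, map_sub, map_mul, aeval_C, aeval_X, Fin.sum_univ_two,
    algebraMap_eq]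
  ring

theorem lemmaA (la mu la' mu' : Fin 4 → k)
    (h01 : B la mu 0 1 ≠ 0) (h02 : B la mu 0 2 ≠ 0) (h21 : B la mu 2 1 ≠ 0)
    (h31 : B la mu 3 1 ≠ 0)
    (h01' : B la' mu' 0 1 ≠ 0) (h02' : B la' mu' 0 2 ≠ 0) (h21' : B la' mu' 2 1 ≠ 0)
    (h31' : B la' mu' 3 1 ≠ 0)
    (hVW : V la mu * W la' mu' = W la mu * V la' mu') :
    ∃ (M : Matrix (Fin 2) (Fin 2) k) (c : k), IsUnit M.det ∧ c ≠ 0 ∧
      W4c6intromoduli.binForm la' mu' =
        C c * W4c6intromoduli.subst M (W4c6intromoduli.binForm la mu) := by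
  set a := B la' mu' 2 1 * B la mu 0 2 with ha
  set b := B la' mu' 0 2 * B la mu 2 1 with hb
  have ha0 : a ≠ 0 := mul_ne_zero h21' h02
  have hb0 : b ≠ 0 := mul_ne_zero h02' h21
  set n00 := a * la' 0 * mu 1 - b * la' 1 * mu 0 with hn00
  set n01 := - a * la' 0 * la 1 + b * la' 1 * la 0 with hn01
  set n10 := a * mu' 0 * mu 1 - b * mu' 1 * mu 0 with hn10
  set n11 := - a * mu' 0 * la 1 + b * mu' 1 * la 0 with hn11
  set t3 := B la mu 3 1 * B la' mu' 2 1 * B la mu 0 2 * B la' mu' 0 1 / B la' mu' 3 1 with ht3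
  have ht3' : t3 * B la' mu' 3 1 = B la mu 3 1 * B la' mu' 2 1 * B la mu 0 2 * B la' mu' 0 1 := by
    rw [ht3]; field_simp
  have ht30 : t3 ≠ 0 := by
    rw [ht3]
    exact div_ne_zero (mul_ne_zero (mul_ne_zero (mul_ne_zero h31 h21') h02) h01') h31'
  refine ⟨!![n11, -n01; -n10, n00],
    (a * B la mu 0 1 * (b * B la mu 0 1) * (B la mu 0 2 * B la mu 2 1 * B la' mu' 0 1) * t3)⁻¹,
    ?_, ?_, ?_⟩
  · rw [Matrix.det_fin_two_of]
    have : n11 * n00 - -n01 * -n10 = a * b * B la' mu' 0 1 * B la mu 0 1 := by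
      rw [hn00, hn01, hn10, hn11]; unfold B; ring
    rw [this]
    exact (mul_ne_zero (mul_ne_zero (mul_ne_zero ha0 hb0) h01') h01).isUnit
  · exact inv_ne_zero (mul_ne_zero (mul_ne_zero (mul_ne_zero (mul_ne_zero ha0 h01)
      (mul_ne_zero hb0 h01)) (mul_ne_zero (mul_ne_zero h02 h21) h01')) ht30)
  · have f0 : W4c6intromoduli.subst !![n11, -n01; -n10, n00] (C (mu 0) * X 0 - C (la 0) * X 1) =
        C (a * B la mu 0 1) * (C (mu' 0) * X 0 - C (la' 0) * X 1) := by
      apply subst_factor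
      · simp only [Matrix.of_apply, Matrix.cons_val', Matrix.cons_val_zero, Matrix.cons_val_one,
          Matrix.cons_val_fin_one]
        rw [hn10, hn11]; unfold B; ring
      · simp only [Matrix.of_apply, Matrix.cons_val', Matrix.cons_val_zero, Matrix.cons_val_one,
          Matrix.cons_val_fin_one]
        rw [hn00, hn01]; unfold B; ring
    have f1 : W4c6intromoduli.subst !![n11, -n01; -n10, n00] (C (mu 1) * X 0 - C (la 1) * X 1) =
        C (b * B la mu 0 1) * (C (mu' 1) * X 0 - C (la' 1) * X 1) := by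
      apply subst_factor
      · simp only [Matrix.of_apply, Matrix.cons_val', Matrix.cons_val_zero, Matrix.cons_val_one,
          Matrix.cons_val_fin_one]
        rw [hn10, hn11]; unfold B; ring
      · simp only [Matrix.of_apply, Matrix.cons_val', Matrix.cons_val_zero, Matrix.cons_val_one,
          Matrix.cons_val_fin_one]
        rw [hn00, hn01]; unfold B; ring
    have f2 : W4c6intromoduli.subst !![n11, -n01; -n10, n00] (C (mu 2) * X 0 - C (la 2) * X 1) =
        C (B la mu 0 2 * B la mu 2 1 * B la' mu' 0 1) * (C (mu' 2) * X 0 - C (la' 2) * X 1) := by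
      apply subst_factor
      · simp only [Matrix.of_apply, Matrix.cons_val', Matrix.cons_val_zero, Matrix.cons_val_one,
          Matrix.cons_val_fin_one]
        rw [hn10, hn11, ha, hb]; unfold B; ring
      · simp only [Matrix.of_apply, Matrix.cons_val', Matrix.cons_val_zero, Matrix.cons_val_one,
          Matrix.cons_val_fin_one]
        rw [hn00, hn01, ha, hb]; unfold B; ring
    have f3 : W4c6intromoduli.subst !![n11, -n01; -n10, n00] (C (mu 3) * X 0 - C (la 3) * X 1) =
        C t3 * (C (mu' 3) * X 0 - C (la' 3) * X 1) := by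
      apply subst_factor
      · simp only [Matrix.of_apply, Matrix.cons_val', Matrix.cons_val_zero, Matrix.cons_val_one,
          Matrix.cons_val_fin_one]
        apply mul_right_cancel₀ h31'
        rw [mul_assoc, mul_comm (mu' 3), ← mul_assoc, ht3', hn10, hn11, ha, hb]
        unfold V W at hVW
        unfold B at hVW ⊢
        linear_combination (mu' 1) * hVW
      · simp only [Matrix.of_apply, Matrix.cons_val', Matrix.cons_val_zero, Matrix.cons_val_one,
          Matrix.cons_val_fin_one]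
        apply mul_right_cancel₀ h31'
        rw [mul_assoc, mul_comm (la' 3), ← mul_assoc, ht3', hn00, hn01, ha, hb]
        unfold V W at hVW
        unfold B at hVW ⊢
        linear_combination (la' 1) * hVW
    unfold W4c6intromoduli.binForm
    rw [map_prod, Fin.prod_univ_four, Fin.prod_univ_four, f0, f1, f2, f3]
    have hc : (a * B la mu 0 1 * (b * B la mu 0 1) *
        (B la mu 0 2 * B la mu 2 1 * B la' mu' 0 1) * t3) ≠ 0 :=
      mul_ne_zero (mul_ne_zero (mul_ne_zero (mul_ne_zero ha0 h01)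
        (mul_ne_zero hb0 h01)) (mul_ne_zero (mul_ne_zero h02 h21) h01')) ht30
    have hone : (C ((a * B la mu 0 1 * (b * B la mu 0 1) *
        (B la mu 0 2 * B la mu 2 1 * B la' mu' 0 1) * t3)⁻¹) : MvPolynomial (Fin 2) k) *
        (C (a * B la mu 0 1) * C (b * B la mu 0 1) *
        C (B la mu 0 2 * B la mu 2 1 * B la' mu' 0 1) * C t3) = 1 := by
      rw [← map_mul, ← map_mul, ← map_mul, ← map_mul, inv_mul_cancel₀ hc, map_one]
    generalize (C (mu' 0) * X 0 - C (la' 0) * X 1 : MvPolynomial (Fin 2) k) = P0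
    generalize (C (mu' 1) * X 0 - C (la' 1) * X 1 : MvPolynomial (Fin 2) k) = P1
    generalize (C (mu' 2) * X 0 - C (la' 2) * X 1 : MvPolynomial (Fin 2) k) = P2
    generalize (C (mu' 3) * X 0 - C (la' 3) * X 1 : MvPolynomial (Fin 2) k) = P3
    linear_combination (-(P0 * P1 * P2 * P3)) * hone

theorem B_comp (la mu : Fin 4 → k) (τ : Fin 4 → Fin 4) (i j : Fin 4) :
    B (la ∘ τ) (mu ∘ τ) i j = B la mu (τ i) (τ j) := rfl

theorem B_ne_zero (la mu : Fin 4 → k) (hd : W4c6intromoduli.disc la mu ≠ 0) :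
    ∀ i j : Fin 4, i ≠ j → B la mu i j ≠ 0 := by
  rw [disc_eq'] at hd
  have huvw : U la mu * V la mu * W la mu ≠ 0 := fun h => hd (by rw [h]; ring)
  have hu : U la mu ≠ 0 := fun h => huvw (by rw [h]; ring)
  have hv : V la mu ≠ 0 := fun h => huvw (by rw [h]; ring)
  have hw : W la mu ≠ 0 := fun h => huvw (by rw [h]; ring)
  have b01 : B la mu 0 1 ≠ 0 := fun h => hu (by unfold U; rw [h]; ring)
  have b23 : B la mu 2 3 ≠ 0 := fun h => hu (by unfold U; rw [h]; ring)
  have b02 : B la mu 0 2 ≠ 0 := fun h => hv (by unfold V; rw [h]; ring)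
  have b31 : B la mu 3 1 ≠ 0 := fun h => hv (by unfold V; rw [h]; ring)
  have b03 : B la mu 0 3 ≠ 0 := fun h => hw (by unfold W; rw [h]; ring)
  have b12 : B la mu 1 2 ≠ 0 := fun h => hw (by unfold W; rw [h]; ring)
  have hs : ∀ i j : Fin 4, B la mu i j ≠ 0 → B la mu j i ≠ 0 :=
    fun i j h h' => h (B_symm la mu j i h')
  intro i j hij
  fin_cases i <;> fin_cases j <;> first
    | exact absurd rfl hij
    | exact b01 | exact b23 | exact b02 | exact b31 | exact b03 | exact b12
    | exact hs _ _ b01 | exact hs _ _ b23 | exact hs _ _ b02 | exact hs _ _ b31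
    | exact hs _ _ b03 | exact hs _ _ b12

theorem final_of_perm (la mu la' mu' : Fin 4 → k)
    (hd : W4c6intromoduli.disc la mu ≠ 0) (hd' : W4c6intromoduli.disc la' mu' ≠ 0)
    (τ : Equiv.Perm (Fin 4))
    (hVW : V (la ∘ τ) (mu ∘ τ) * W la' mu' = W (la ∘ τ) (mu ∘ τ) * V la' mu') :
    ∃ (M : Matrix (Fin 2) (Fin 2) k) (c : k), IsUnit M.det ∧ c ≠ 0 ∧
      W4c6intromoduli.binForm la' mu' =
        C c * W4c6intromoduli.subst M (W4c6intromoduli.binForm la mu) := by
  have hB := B_ne_zero la mu hd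
  have hB' := B_ne_zero la' mu' hd'
  have hτ : ∀ i j : Fin 4, i ≠ j → B (la ∘ τ) (mu ∘ τ) i j ≠ 0 := by
    intro i j hij
    rw [B_comp]
    exact hB _ _ (fun h => hij (τ.injective h))
  have hbin : W4c6intromoduli.binForm (la ∘ τ) (mu ∘ τ) = W4c6intromoduli.binForm la mu := by
    unfold W4c6intromoduli.binForm
    exact Equiv.prod_comp τ (fun i => C (mu i) * X 0 - C (la i) * X 1)
  obtain ⟨M, c, hM, hc, h⟩ := lemmaA (la ∘ τ) (mu ∘ τ) la' mu'
    (hτ 0 1 (by decide)) (hτ 0 2 (by decide)) (hτ 2 1 (by decide)) (hτ 3 1 (by decide))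
    (hB' 0 1 (by decide)) (hB' 0 2 (by decide)) (hB' 2 1 (by decide)) (hB' 3 1 (by decide)) hVW
  exact ⟨M, c, hM, hc, by rw [h, hbin]⟩

theorem six_factors (x y z x' y' z' : k) (h8 : (8 : k) ≠ 0) (hs : x + y + z = 0)
    (hs' : x' + y' + z' = 0)
    (he : (x ^ 2 + y ^ 2 + z ^ 2) ^ 3 * (x' * y' * z') ^ 2 =
      (x' ^ 2 + y' ^ 2 + z' ^ 2) ^ 3 * (x * y * z) ^ 2) :
    (y * z' - z * y') * (z * z' - y * y') * (x * z' - y * y') * (y * z' - x * y') *
      (x * z' - z * y') * (z * z' - x * y') = 0 := by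
  have hx : x = -y - z := by linear_combination hs
  have hx' : x' = -y' - z' := by linear_combination hs'
  subst hx hx'
  have : (-8 : k) * ((y * z' - z * y') * (z * z' - y * y') * ((-y - z) * z' - y * y') *
      (y * z' - (-y - z) * y') * ((-y - z) * z' - z * y') * (z * z' - (-y - z) * y')) = 0 := by
    linear_combination he
  rcases mul_eq_zero.mp this with h | h
  · exfalso; apply h8; linear_combination -h
  · exact h

theorem main_quartic (h2 : (2 : k) ≠ 0) (h3 : (3 : k) ≠ 0) (la mu la' mu' : Fin 4 → k)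
    (hd : W4c6intromoduli.disc la mu ≠ 0) (hd' : W4c6intromoduli.disc la' mu' ≠ 0)
    (h : W4c6intromoduli.invI (W4c6intromoduli.coef la mu) ^ 3
          * W4c6intromoduli.invJ (W4c6intromoduli.coef la' mu') ^ 2 =
        W4c6intromoduli.invI (W4c6intromoduli.coef la' mu') ^ 3
          * W4c6intromoduli.invJ (W4c6intromoduli.coef la mu) ^ 2) :
    ∃ (M : Matrix (Fin 2) (Fin 2) k) (c : k), IsUnit M.det ∧ c ≠ 0 ∧
      W4c6intromoduli.binForm la' mu' =
        C c * W4c6intromoduli.subst M (W4c6intromoduli.binForm la mu) := by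
  have h8 : (8 : k) ≠ 0 := by
    have : (8 : k) = 2 ^ 3 := by norm_num
    rw [this]; exact pow_ne_zero _ h2
  have h27 : (27 : k) ≠ 0 := by
    have : (27 : k) = 3 ^ 3 := by norm_num
    rw [this]; exact pow_ne_zero _ h3
  have r := Groth.Agent.S19391.result k la mu
  have r' := Groth.Agent.S19391.result k la' mu'
  have hkey : W4c6intromoduli.invI (W4c6intromoduli.coef la mu) ^ 3 * W4c6intromoduli.disc la' mu' =
      W4c6intromoduli.invI (W4c6intromoduli.coef la' mu') ^ 3 * W4c6intromoduli.disc la mu := by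
    apply mul_left_cancel₀ h27
    linear_combination
      W4c6intromoduli.invI (W4c6intromoduli.coef la mu) ^ 3 * r' -
      W4c6intromoduli.invI (W4c6intromoduli.coef la' mu') ^ 3 * r - h
  have hI := I_eq la mu
  have hI' := I_eq la' mu'
  rw [disc_eq', disc_eq'] at hkey
  have he : (U la mu ^ 2 + V la mu ^ 2 + W la mu ^ 2) ^ 3 * (U la' mu' * V la' mu' * W la' mu') ^ 2 =
      (U la' mu' ^ 2 + V la' mu' ^ 2 + W la' mu' ^ 2) ^ 3 * (U la mu * V la mu * W la mu) ^ 2 := by
    rw [← hI, ← hI']; linear_combination 8 * hkey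
  have h6 := six_factors _ _ _ _ _ _ h8 (UVW_sum la mu) (UVW_sum la' mu') he
  rcases mul_eq_zero.mp h6 with h6 | hc
  rcases mul_eq_zero.mp h6 with h6 | hc
  rcases mul_eq_zero.mp h6 with h6 | hc
  rcases mul_eq_zero.mp h6 with h6 | hc
  rcases mul_eq_zero.mp h6 with hc | hc
  · -- (V, W): identity
    apply final_of_perm la mu la' mu' hd hd' (Equiv.refl _)
    simp only [Equiv.coe_refl, Function.comp_id]
    linear_combination hc
  · -- (W, V): swap 2 3
    apply final_of_perm la mu la' mu' hd hd' (Equiv.swap 2 3)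
    have e0 : (Equiv.swap (2 : Fin 4) 3) 0 = 0 := by decide
    have e1 : (Equiv.swap (2 : Fin 4) 3) 1 = 1 := by decide
    have e2 : (Equiv.swap (2 : Fin 4) 3) 2 = 3 := by decide
    have e3 : (Equiv.swap (2 : Fin 4) 3) 3 = 2 := by decide
    unfold V W at hc ⊢
    simp only [B_comp, e0, e1, e2, e3]
    unfold B at hc ⊢
    linear_combination -hc
  · -- (U, V): τ = (0,3,1,2)
    apply final_of_perm la mu la' mu' hd hd' (Equiv.swap 1 3 * Equiv.swap 2 3)
    have e0 : ((Equiv.swap (1 : Fin 4) 3 * Equiv.swap 2 3 : Equiv.Perm (Fin 4))) 0 = 0 := by decide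
    have e1 : ((Equiv.swap (1 : Fin 4) 3 * Equiv.swap 2 3 : Equiv.Perm (Fin 4))) 1 = 3 := by decide
    have e2 : ((Equiv.swap (1 : Fin 4) 3 * Equiv.swap 2 3 : Equiv.Perm (Fin 4))) 2 = 1 := by decide
    have e3 : ((Equiv.swap (1 : Fin 4) 3 * Equiv.swap 2 3 : Equiv.Perm (Fin 4))) 3 = 2 := by decide
    unfold U V W at hc
    unfold V W
    simp only [B_comp, e0, e1, e2, e3]
    unfold B at hc ⊢
    linear_combination hc
  · -- (V, U): swap 1 3
    apply final_of_perm la mu la' mu' hd hd' (Equiv.swap 1 3)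
    have e0 : (Equiv.swap (1 : Fin 4) 3) 0 = 0 := by decide
    have e1 : (Equiv.swap (1 : Fin 4) 3) 1 = 3 := by decide
    have e2 : (Equiv.swap (1 : Fin 4) 3) 2 = 2 := by decide
    have e3 : (Equiv.swap (1 : Fin 4) 3) 3 = 1 := by decide
    unfold U V W at hc
    unfold V W
    simp only [B_comp, e0, e1, e2, e3]
    unfold B at hc ⊢
    linear_combination -hc
  · -- (U, W): swap 1 2
    apply final_of_perm la mu la' mu' hd hd' (Equiv.swap 1 2)
    have e0 : (Equiv.swap (1 : Fin 4) 2) 0 = 0 := by decide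
    have e1 : (Equiv.swap (1 : Fin 4) 2) 1 = 2 := by decide
    have e2 : (Equiv.swap (1 : Fin 4) 2) 2 = 1 := by decide
    have e3 : (Equiv.swap (1 : Fin 4) 2) 3 = 3 := by decide
    unfold U V W at hc
    unfold V W
    simp only [B_comp, e0, e1, e2, e3]
    unfold B at hc ⊢
    linear_combination -hc
  · -- (W, U): τ = (0,2,3,1)
    apply final_of_perm la mu la' mu' hd hd' (Equiv.swap 1 2 * Equiv.swap 2 3)
    have e0 : ((Equiv.swap (1 : Fin 4) 2 * Equiv.swap 2 3 : Equiv.Perm (Fin 4))) 0 = 0 := by decide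
    have e1 : ((Equiv.swap (1 : Fin 4) 2 * Equiv.swap 2 3 : Equiv.Perm (Fin 4))) 1 = 2 := by decide
    have e2 : ((Equiv.swap (1 : Fin 4) 2 * Equiv.swap 2 3 : Equiv.Perm (Fin 4))) 2 = 3 := by decide
    have e3 : ((Equiv.swap (1 : Fin 4) 2 * Equiv.swap 2 3 : Equiv.Perm (Fin 4))) 3 = 1 := by decide
    unfold U V W at hc
    unfold V W
    simp only [B_comp, e0, e1, e2, e3]
    unfold B at hc ⊢
    linear_combination hc

end

/-- Over a field of characteristic different from 2 and 3, two binary quartics without double zeros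
lying in the same fibre of the map to the projective line given by the invariants, i.e. with
proportional (P³, Q²), are equivalent under a linear substitution of the variables up to a nonzero
constant factor. Stated for split quartics f = ∏_i (μ_i X₀ − λ_i X₁) given by root points (λ_i, μ_i)
≠ (0, 0), with the integral invariants I = 6P, J = 72Q and the discriminant ∏_{i<j} (λ_j μ_i − λ_i
μ_j)²; only the assertion that such a fibre is a single orbit is stated (not its closedness). -/
theorem result (k : Type u) [Field k]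
    (h2 : (2 : k) ≠ 0) (h3 : (3 : k) ≠ 0) (la mu la' mu' : Fin 4 → k)
    (hne : ∀ i, la i ≠ 0 ∨ mu i ≠ 0) (hne' : ∀ i, la' i ≠ 0 ∨ mu' i ≠ 0)
    (hd : W4c6intromoduli.disc la mu ≠ 0) (hd' : W4c6intromoduli.disc la' mu' ≠ 0)
    (h : W4c6intromoduli.invI (W4c6intromoduli.coef la mu) ^ 3
          * W4c6intromoduli.invJ (W4c6intromoduli.coef la' mu') ^ 2 =
        W4c6intromoduli.invI (W4c6intromoduli.coef la' mu') ^ 3
          * W4c6intromoduli.invJ (W4c6intromoduli.coef la mu) ^ 2) :
    ∃ (M : Matrix (Fin 2) (Fin 2) k) (c : k), IsUnit M.det ∧ c ≠ 0 ∧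
      W4c6intromoduli.binForm la' mu' =
        MvPolynomial.C c * W4c6intromoduli.subst M (W4c6intromoduli.binForm la mu) := by
  exact main_quartic h2 h3 la mu la' mu' hd hd' h

end Groth.Agent.S19393
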