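import Groth.Statements.S19394
import Mathlib.LinearAlgebra.Semisimple
import Mathlib.FieldTheory.IsAlgClosed.Basic
import Mathlib.LinearAlgebra.Matrix.NonsingularInverse
import Mathlib.Algebra.MvPolynomial.CommRing
import Mathlib.LinearAlgebra.Projection
import Mathlib.LinearAlgebra.Matrix.ToLin
import Mathlib.Algebra.Polynomial.Roots
import Mathlib.Tactic

set_option autoImplicit false
universe u
open InvQ

namespace Groth.Agent.S19394

open Matrix

section
variable {k : Type u} [Field k]

theorem line_lemma [Infinite k] {n : ℕ} (U W : Matrix (Fin n) (Fin n) k)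
    (F : MvPolynomial (Fin n × Fin n) k)
    (h : ∀ t : k, t ≠ 0 → MvPolynomial.eval (fun p => (U + t • W) p.1 p.2) F = 0) :
    MvPolynomial.eval (fun p => U p.1 p.2) F = 0 := by
  let G : Polynomial k := MvPolynomial.aeval
    (fun p : Fin n × Fin n => Polynomial.C (U p.1 p.2) + Polynomial.X * Polynomial.C (W p.1 p.2)) F
  have hG : ∀ t : k, Polynomial.eval t G =
      MvPolynomial.eval (fun p => (U + t • W) p.1 p.2) F := by
    intro t
    simp only [G]
    rw [← Polynomial.coe_evalRingHom, MvPolynomial.aeval_def, MvPolynomial.eval₂_comp_left]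
    rw [MvPolynomial.eval, MvPolynomial.eval₂Hom]
    simp only [RingHom.coe_mk, MonoidHom.coe_mk, OneHom.coe_mk]
    congr 1
    · ext x; simp
    · funext p; simp; ring
  have hG0 : G = 0 := by
    apply Polynomial.eq_zero_of_infinite_isRoot
    apply Set.Infinite.mono (s := {t | t ≠ 0})
    · intro t ht
      show Polynomial.IsRoot G t
      rw [Polynomial.IsRoot, hG, h t ht]
    · exact (Set.finite_singleton (0 : k)).infinite_compl
  have := hG 0
  rw [hG0] at this
  simpa using this.symm

theorem exists_proj {n : ℕ} (S N : Matrix (Fin n) (Fin n) k)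
    (hS : Module.End.IsSemisimple (Matrix.toLin' S)) (hSN : Commute S N) (j : ℕ)
    (hN : N ^ (j + 1) = 0) :
    ∃ p q : Matrix (Fin n) (Fin n) k, p + q = 1 ∧ p * p = p ∧ N * q = 0 ∧ p * S = S * p ∧
      p * N ^ j = 0 := by
  have hK : LinearMap.ker (Matrix.toLin' N) ∈ Module.End.invtSubmodule (Matrix.toLin' S) := by
    rw [Module.End.mem_invtSubmodule]
    intro x hx
    rw [Submodule.mem_comap, LinearMap.mem_ker] at *
    have h1 : Matrix.toLin' N (Matrix.toLin' S x) = Matrix.toLin' S (Matrix.toLin' N x) := by
      simp only [Matrix.toLin'_apply, Matrix.mulVec_mulVec, hSN.eq]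
    rw [h1, hx, map_zero]
  obtain ⟨C, hC, hKC⟩ := (Module.End.isSemisimple_iff.mp hS) _ hK
  rw [Module.End.mem_invtSubmodule] at hC hK
  refine ⟨LinearMap.toMatrix' (C.projection _ hKC.symm),
    LinearMap.toMatrix' ((LinearMap.ker (Matrix.toLin' N)).projection C hKC), ?_, ?_, ?_, ?_, ?_⟩
  · rw [← map_add, Submodule.projection_add_projection_eq_id hKC.symm, LinearMap.toMatrix'_id]
  · rw [← LinearMap.toMatrix'_mul, (Submodule.isIdempotentElem_projection hKC.symm).eq]
  · have h1 : Matrix.toLin' N ∘ₗ (LinearMap.ker (Matrix.toLin' N)).projection C hKC = 0 := by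
      apply LinearMap.ext; intro x
      have := Submodule.projection_apply_mem hKC x
      rw [LinearMap.mem_ker] at this
      rw [LinearMap.comp_apply, this, LinearMap.zero_apply]
    have h2 := congrArg LinearMap.toMatrix' h1
    rw [LinearMap.toMatrix'_comp, LinearMap.toMatrix'_toLin', map_zero] at h2
    exact h2
  · have h1 : C.projection _ hKC.symm ∘ₗ Matrix.toLin' S =
        Matrix.toLin' S ∘ₗ C.projection _ hKC.symm := by
      apply LinearMap.ext; intro x
      rw [LinearMap.comp_apply, LinearMap.comp_apply]
      conv_lhs => rw [← Submodule.projection_add_projection_eq_self hKC.symm x, map_add, map_add]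
      rw [Submodule.projection_apply_of_mem_left hKC.symm
          (hC (Submodule.projection_apply_mem hKC.symm x)),
        Submodule.projection_apply_of_mem_right hKC.symm
          (hK (Submodule.projection_apply_mem hKC x)), add_zero]
    have h2 := congrArg LinearMap.toMatrix' h1
    rw [LinearMap.toMatrix'_comp, LinearMap.toMatrix'_comp, LinearMap.toMatrix'_toLin'] at h2
    exact h2
  · have h1 : C.projection _ hKC.symm ∘ₗ Matrix.toLin' (N ^ j) = 0 := by
      apply LinearMap.ext; intro x
      rw [LinearMap.comp_apply, LinearMap.zero_apply]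
      apply Submodule.projection_apply_of_mem_right hKC.symm
      rw [LinearMap.mem_ker, Matrix.toLin'_apply, Matrix.toLin'_apply, Matrix.mulVec_mulVec,
        ← pow_succ', hN, Matrix.zero_mulVec]
    have h2 := congrArg LinearMap.toMatrix' h1
    rw [LinearMap.toMatrix'_comp, LinearMap.toMatrix'_toLin', map_zero] at h2
    exact h2

theorem main_aux [Infinite k] {n : ℕ} (S : Matrix (Fin n) (Fin n) k)
    (hS : Module.End.IsSemisimple (Matrix.toLin' S)) :
    ∀ (j : ℕ) (N : Matrix (Fin n) (Fin n) k), N ^ (j + 1) = 0 → Commute S N →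
      ∀ F : MvPolynomial (Fin n × Fin n) k,
        (∀ A : Matrix (Fin n) (Fin n) k, IsUnit A.det →
          MvPolynomial.eval (fun p => (A * (S + N) * A⁻¹) p.1 p.2) F = 0) →
        MvPolynomial.eval (fun p => S p.1 p.2) F = 0 := by
  intro j
  induction j with
  | zero =>
    intro N hN _ F hF
    have hN0 : N = 0 := by simpa using hN
    have := hF 1 (by simp)
    simpa [hN0] using this
  | succ j ih =>
    intro N hN hSN F hF
    obtain ⟨p, q, hpq, hpp, hNq, hpS, hpN⟩ := exists_proj S N hS hSN (j + 1) hN
    have hq : q = 1 - p := by rw [← hpq]; abel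
    have hNp : N * p = N := by
      have : N * (p + q) = N := by rw [hpq, mul_one]
      rw [mul_add, hNq, add_zero] at this; exact this
    have hNpow : ∀ i : ℕ, N ^ (i + 1) * p = N ^ (i + 1) := by
      intro i; rw [pow_succ, mul_assoc, hNp]
    have hpow : ∀ i : ℕ, (p * N) ^ (i + 1) = p * N ^ (i + 1) := by
      intro i
      induction i with
      | zero => simp
      | succ i ihi =>
        calc (p * N) ^ (i + 1 + 1) = (p * N) ^ (i + 1) * (p * N) := pow_succ _ _
          _ = p * N ^ (i + 1) * (p * N) := by rw [ihi]
          _ = p * (N ^ (i + 1) * p) * N := by simp only [mul_assoc]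
          _ = p * N ^ (i + 1) * N := by rw [hNpow]
          _ = p * N ^ (i + 1 + 1) := by rw [mul_assoc, ← pow_succ]
    have hN'pow : (p * N) ^ (j + 1) = 0 := by rw [hpow, hpN]
    have hSN' : Commute S (p * N) := by
      show S * (p * N) = p * N * S
      rw [← mul_assoc, ← hpS, mul_assoc, hSN.eq, mul_assoc]
    have hqq : q * q = q := by rw [hq]; noncomm_ring; rw [hpp]; abel
    have hpq0 : p * q = 0 := by rw [hq, mul_sub, mul_one, hpp, sub_self]
    have hqp0 : q * p = 0 := by rw [hq, sub_mul, one_mul, hpp, sub_self]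
    have hqS : q * S = S * q := by rw [hq, sub_mul, mul_sub, one_mul, mul_one, hpS]
    apply ih (p * N) hN'pow hSN' F
    intro A hA
    apply line_lemma (A * (S + p * N) * A⁻¹) (A * (q * N) * A⁻¹) F
    intro t ht
    have hTT' : (t • q + p) * (t⁻¹ • q + p) = 1 := by
      simp only [add_mul, mul_add, smul_mul_assoc, mul_smul_comm, smul_smul, hqq, hpp, hpq0,
        hqp0, smul_zero, add_zero, zero_add, inv_mul_cancel₀ ht, one_smul]
      rw [add_comm]; exact hpq
    have hconj : (t • q + p) * (S + N) = (S + p * N + t • (q * N)) * (t • q + p) := by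
      simp only [add_mul, mul_add, smul_mul_assoc, mul_smul_comm, smul_smul, mul_assoc, hNq, hNp,
        hqS, hpS, mul_zero, smul_zero, add_zero, zero_add]
      abel
    have hTinv : (t • q + p)⁻¹ = t⁻¹ • q + p := Matrix.inv_eq_right_inv hTT'
    have hTdet : IsUnit (t • q + p).det := Matrix.isUnit_det_of_right_inverse hTT'
    have hAT : IsUnit (A * (t • q + p)).det := by rw [Matrix.det_mul]; exact hA.mul hTdet
    have key := hF (A * (t • q + p)) hAT
    have e : A * (t • q + p) * (S + N) * (A * (t • q + p))⁻¹ =
        A * (S + p * N) * A⁻¹ + t • (A * (q * N) * A⁻¹) := by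
      rw [Matrix.mul_inv_rev, hTinv]
      calc A * (t • q + p) * (S + N) * ((t⁻¹ • q + p) * A⁻¹)
          = A * ((t • q + p) * (S + N)) * (t⁻¹ • q + p) * A⁻¹ := by simp only [mul_assoc]
        _ = A * ((S + p * N + t • (q * N)) * (t • q + p)) * (t⁻¹ • q + p) * A⁻¹ := by rw [hconj]
        _ = A * (S + p * N + t • (q * N)) * ((t • q + p) * (t⁻¹ • q + p)) * A⁻¹ := by
            simp only [mul_assoc]
        _ = A * (S + p * N) * A⁻¹ + t • (A * (q * N) * A⁻¹) := by
            rw [hTT', mul_one]
            simp only [mul_add, add_mul, mul_smul_comm, smul_mul_assoc]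
    rw [e] at key; exact key

end

/-- Over an algebraically closed field, the semisimple part of a square matrix B lies in the Zariski
closure of the orbit of B under conjugation by the general linear group. The semisimple part is
given as S with B = S + N, S semisimple, N nilpotent and SN = NS; membership in the Zariski closure
is spelled out as: every polynomial in the n² matrix entries vanishing at all conjugates A B A⁻¹ (A
invertible) vanishes at S. -/
theorem result (k : Type u) [Field k] [IsAlgClosed k] (n : ℕ)
    (B S N : Matrix (Fin n) (Fin n) k) (hS : Module.End.IsSemisimple (Matrix.toLin' S))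
    (hN : IsNilpotent N) (hSN : Commute S N) (hB : B = S + N)
    (F : MvPolynomial (Fin n × Fin n) k)
    (hF : ∀ A : Matrix (Fin n) (Fin n) k, IsUnit A.det →
      MvPolynomial.eval (fun p => (A * B * A⁻¹) p.1 p.2) F = 0) :
    MvPolynomial.eval (fun p => S p.1 p.2) F = 0 := by
  have : Infinite k := IsAlgClosed.instInfinite
  obtain ⟨m, hm⟩ := hN
  have hm' : N ^ (m + 1) = 0 := by rw [pow_succ, hm, zero_mul]
  subst hB
  exact main_aux S hS m N hm' hSN F hF

end Groth.Agent.S19394
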