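import Groth.Statements.S19395
import Groth.Agent.S19394
import Mathlib.LinearAlgebra.Eigenspace.Semisimple
import Mathlib.LinearAlgebra.Eigenspace.Zero
import Mathlib.LinearAlgebra.Eigenspace.Triangularizable
import Mathlib.LinearAlgebra.Charpoly.ToMatrix
import Mathlib.Algebra.DirectSum.Module
import Mathlib.LinearAlgebra.Matrix.Charpoly.Basic
import Mathlib.LinearAlgebra.Matrix.Charpoly.Coeff

set_option autoImplicit false
universe u
open InvQ

namespace Groth.Agent.S19395

open Matrix Groth.Agent.S19394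

section
variable {k : Type u} [Field k]

/-- generic charpoly coefficient polynomial -/
noncomputable def cf (n : ℕ) (i : ℕ) : MvPolynomial (Fin n × Fin n) k :=
  ((Matrix.of fun a b : Fin n =>
    (MvPolynomial.X (a, b) : MvPolynomial (Fin n × Fin n) k)).charpoly).coeff i

theorem eval_cf (n i : ℕ) (M : Matrix (Fin n) (Fin n) k) :
    MvPolynomial.eval (fun p => M p.1 p.2) (cf n i) = M.charpoly.coeff i := by
  unfold cf
  rw [← Polynomial.coeff_map, ← Matrix.charpoly_map]
  congr 2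
  ext a b; simp

theorem charpoly_eq_of_mem_closure {n : ℕ} (B C : Matrix (Fin n) (Fin n) k)
    (hC : ∀ F : MvPolynomial (Fin n × Fin n) k,
      (∀ A : Matrix (Fin n) (Fin n) k, IsUnit A.det →
        MvPolynomial.eval (fun p => (A * B * A⁻¹) p.1 p.2) F = 0) →
      MvPolynomial.eval (fun p => C p.1 p.2) F = 0) :
    C.charpoly = B.charpoly := by
  ext i
  have := hC (cf n i - MvPolynomial.C (B.charpoly.coeff i)) ?_
  · simpa [eval_cf, sub_eq_zero] using this
  · intro A hA
    rw [map_sub, eval_cf, MvPolynomial.eval_C, sub_eq_zero]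
    have := Matrix.charpoly_units_conj (Matrix.nonsingInvUnit A hA) B
    rw [← this]; rfl

theorem charpoly_semisimplePart [IsAlgClosed k] {n : ℕ} (S N : Matrix (Fin n) (Fin n) k)
    (hS : Module.End.IsSemisimple (Matrix.toLin' S)) (hN : IsNilpotent N) (hSN : Commute S N) :
    S.charpoly = (S + N).charpoly := by
  have : Infinite k := IsAlgClosed.instInfinite
  apply charpoly_eq_of_mem_closure (S + N) S
  intro F hF
  obtain ⟨m, hm⟩ := hN
  exact main_aux S hS m N (by rw [pow_succ, hm, zero_mul]) hSN F hF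

theorem conj_of_charpoly_eq [IsAlgClosed k] {n : ℕ} (S₁ S₂ : Matrix (Fin n) (Fin n) k)
    (h₁ : Module.End.IsSemisimple (Matrix.toLin' S₁))
    (h₂ : Module.End.IsSemisimple (Matrix.toLin' S₂)) (hχ : S₁.charpoly = S₂.charpoly) :
    ∃ A : Matrix (Fin n) (Fin n) k, IsUnit A.det ∧ A * S₁ * A⁻¹ = S₂ := by
  classical
  have I₁ : DirectSum.IsInternal (fun μ : k => Module.End.eigenspace (Matrix.toLin' S₁) μ) :=
    DirectSum.isInternal_submodule_of_iSupIndep_of_iSup_eq_top
      (Module.End.eigenspaces_iSupIndep _) h₁.iSup_eigenspace_eq_top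
  have I₂ : DirectSum.IsInternal (fun μ : k => Module.End.eigenspace (Matrix.toLin' S₂) μ) :=
    DirectSum.isInternal_submodule_of_iSupIndep_of_iSup_eq_top
      (Module.End.eigenspaces_iSupIndep _) h₂.iSup_eigenspace_eq_top
  have d₁ : ∀ μ : k, Module.finrank k (Module.End.eigenspace (Matrix.toLin' S₁) μ) =
      S₁.charpoly.rootMultiplicity μ := by
    intro μ
    rw [← (Module.End.isFinitelySemisimple_iff_isSemisimple.mpr h₁).maxGenEigenspace_eq_eigenspace,
      LinearMap.finrank_maxGenEigenspace_eq, Matrix.charpoly_toLin']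
  have d₂ : ∀ μ : k, Module.finrank k (Module.End.eigenspace (Matrix.toLin' S₂) μ) =
      S₁.charpoly.rootMultiplicity μ := by
    intro μ
    rw [← (Module.End.isFinitelySemisimple_iff_isSemisimple.mpr h₂).maxGenEigenspace_eq_eigenspace,
      LinearMap.finrank_maxGenEigenspace_eq, Matrix.charpoly_toLin', hχ]
  let v₁ : ∀ μ : k, Module.Basis (Fin (S₁.charpoly.rootMultiplicity μ)) k
      (Module.End.eigenspace (Matrix.toLin' S₁) μ) := fun μ => Module.finBasisOfFinrankEq k _ (d₁ μ)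
  let v₂ : ∀ μ : k, Module.Basis (Fin (S₁.charpoly.rootMultiplicity μ)) k
      (Module.End.eigenspace (Matrix.toLin' S₂) μ) := fun μ => Module.finBasisOfFinrankEq k _ (d₂ μ)
  let b₁ := I₁.collectedBasis v₁
  let b₂ := I₂.collectedBasis v₂
  let e : (Fin n → k) ≃ₗ[k] (Fin n → k) := b₁.equiv b₂ (Equiv.refl _)
  have he : e.toLinearMap ∘ₗ Matrix.toLin' S₁ = Matrix.toLin' S₂ ∘ₗ e.toLinearMap := by
    apply b₁.ext
    rintro ⟨μ, a⟩
    have hb₁ : Matrix.toLin' S₁ (b₁ ⟨μ, a⟩) = μ • b₁ ⟨μ, a⟩ :=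
      Module.End.mem_eigenspace_iff.mp (I₁.collectedBasis_mem v₁ ⟨μ, a⟩)
    have hb₂ : Matrix.toLin' S₂ (b₂ ⟨μ, a⟩) = μ • b₂ ⟨μ, a⟩ :=
      Module.End.mem_eigenspace_iff.mp (I₂.collectedBasis_mem v₂ ⟨μ, a⟩)
    rw [LinearMap.comp_apply, LinearMap.comp_apply, hb₁, LinearEquiv.coe_coe, map_smul]
    simp only [e, Module.Basis.equiv_apply, Equiv.refl_apply]
    rw [hb₂]
  have hAA' : LinearMap.toMatrix' e.toLinearMap * LinearMap.toMatrix' e.symm.toLinearMap = 1 := by
    rw [← LinearMap.toMatrix'_comp]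
    have : e.toLinearMap ∘ₗ e.symm.toLinearMap = LinearMap.id := by
      apply LinearMap.ext; intro x; simp
    rw [this, LinearMap.toMatrix'_id]
  have hdet : IsUnit (LinearMap.toMatrix' e.toLinearMap).det :=
    Matrix.isUnit_det_of_right_inverse hAA'
  refine ⟨LinearMap.toMatrix' e.toLinearMap, hdet, ?_⟩
  have h2 := congrArg LinearMap.toMatrix' he
  rw [LinearMap.toMatrix'_comp, LinearMap.toMatrix'_comp, LinearMap.toMatrix'_toLin',
    LinearMap.toMatrix'_toLin'] at h2
  rw [h2, Matrix.mul_nonsing_inv_cancel_right _ _ hdet]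

end

/-- Over an algebraically closed field, the Zariski closures of the conjugation orbits of two square
matrices B₁, B₂ meet if and only if their semisimple parts lie in one orbit. The semisimple parts
are given as S_i with B_i = S_i + N_i, S_i semisimple, N_i nilpotent, S_i N_i = N_i S_i; a common
point of the two closures is a matrix C at which every polynomial in the matrix entries vanishing on
the whole orbit of B₁, and every one vanishing on the whole orbit of B₂, vanishes. -/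
theorem result (k : Type u) [Field k] [IsAlgClosed k]
    (n : ℕ) (B₁ S₁ N₁ B₂ S₂ N₂ : Matrix (Fin n) (Fin n) k)
    (hS₁ : Module.End.IsSemisimple (Matrix.toLin' S₁)) (hN₁ : IsNilpotent N₁) (hc₁ : Commute S₁ N₁)
    (hB₁ : B₁ = S₁ + N₁)
    (hS₂ : Module.End.IsSemisimple (Matrix.toLin' S₂)) (hN₂ : IsNilpotent N₂) (hc₂ : Commute S₂ N₂)
    (hB₂ : B₂ = S₂ + N₂) :
    (∃ C : Matrix (Fin n) (Fin n) k,
        (∀ F : MvPolynomial (Fin n × Fin n) k,
          (∀ A : Matrix (Fin n) (Fin n) k, IsUnit A.det →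
            MvPolynomial.eval (fun p => (A * B₁ * A⁻¹) p.1 p.2) F = 0) →
          MvPolynomial.eval (fun p => C p.1 p.2) F = 0) ∧
        (∀ F : MvPolynomial (Fin n × Fin n) k,
          (∀ A : Matrix (Fin n) (Fin n) k, IsUnit A.det →
            MvPolynomial.eval (fun p => (A * B₂ * A⁻¹) p.1 p.2) F = 0) →
          MvPolynomial.eval (fun p => C p.1 p.2) F = 0)) ↔
      ∃ A : Matrix (Fin n) (Fin n) k, IsUnit A.det ∧ A * S₁ * A⁻¹ = S₂ := by
  have : Infinite k := IsAlgClosed.instInfinite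
  constructor
  · rintro ⟨C, hC₁, hC₂⟩
    have e₁ := charpoly_eq_of_mem_closure B₁ C hC₁
    have e₂ := charpoly_eq_of_mem_closure B₂ C hC₂
    have f₁ := charpoly_semisimplePart S₁ N₁ hS₁ hN₁ hc₁
    have f₂ := charpoly_semisimplePart S₂ N₂ hS₂ hN₂ hc₂
    apply conj_of_charpoly_eq S₁ S₂ hS₁ hS₂
    rw [f₁, f₂, ← hB₁, ← hB₂, ← e₁, ← e₂]
  · rintro ⟨A, hA, hAS⟩
    refine ⟨S₂, ?_, ?_⟩
    · intro F hF
      obtain ⟨m, hm⟩ := hN₁
      have hAinv : A⁻¹ * A = 1 := Matrix.nonsing_inv_mul A hA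
      have hpow : (A * N₁ * A⁻¹) ^ (m + 1) = 0 := by
        have := Units.conj_pow (Matrix.nonsingInvUnit A hA) N₁ (m + 1)
        rw [Matrix.coe_units_inv] at this
        have h' : ((Matrix.nonsingInvUnit A hA : (Matrix (Fin n) (Fin n) k)ˣ) :
            Matrix (Fin n) (Fin n) k) = A := rfl
        rw [h'] at this
        rw [this, pow_succ, hm, zero_mul, mul_zero, zero_mul]
      have hcomm : Commute S₂ (A * N₁ * A⁻¹) := by
        show S₂ * (A * N₁ * A⁻¹) = A * N₁ * A⁻¹ * S₂
        rw [← hAS]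
        calc A * S₁ * A⁻¹ * (A * N₁ * A⁻¹) = A * S₁ * (A⁻¹ * A) * N₁ * A⁻¹ := by
              simp only [mul_assoc]
          _ = A * (S₁ * N₁) * A⁻¹ := by rw [hAinv, mul_one]; simp only [mul_assoc]
          _ = A * (N₁ * S₁) * A⁻¹ := by rw [hc₁.eq]
          _ = A * N₁ * (A⁻¹ * A) * S₁ * A⁻¹ := by rw [hAinv, mul_one]; simp only [mul_assoc]
          _ = A * N₁ * A⁻¹ * (A * S₁ * A⁻¹) := by simp only [mul_assoc]
      apply main_aux S₂ hS₂ m (A * N₁ * A⁻¹) hpow hcomm F
      intro A' hA'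
      have hdet : IsUnit (A' * A).det := by rw [Matrix.det_mul]; exact hA'.mul hA
      have := hF (A' * A) hdet
      have e : A' * A * B₁ * (A' * A)⁻¹ = A' * (S₂ + A * N₁ * A⁻¹) * A'⁻¹ := by
        rw [Matrix.mul_inv_rev, hB₁, ← hAS]
        simp only [mul_add, add_mul, mul_assoc]
      rw [e] at this
      exact this
    · intro F hF
      obtain ⟨m, hm⟩ := hN₂
      apply main_aux S₂ hS₂ m N₂ (by rw [pow_succ, hm, zero_mul]) hc₂ F
      intro A' hA'
      rw [← hB₂]; exact hF A' hA'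

end Groth.Agent.S19395
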