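import Groth.Statements.S19398
import Groth.Prelude.Def_ComodSub
import Groth.Agent.Lib.helper12.Comod
import Groth.Agent.Lib.helper28.ComodMod

set_option autoImplicit false
universe u
open GIT

namespace Groth.Agent.S19398

open Groth.Agent.Lib.helper28.ComodMod

theorem mem_fixedPts_iff {k : Type u} [Field k] {A : Type u} [CommRing A] [HopfAlgebra k A]
    {V : Type u} [AddCommGroup V] [Module k V] [HopfRep.Comod k A V] (x : V) :
    x ∈ HopfRep.fixedPts k A V ↔ ∀ φ : A →ₗ[k] k, op φ x = φ 1 • x := by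
  constructor
  · intro h φ
    have h' : HopfRep.Comod.coact (k := k) (A := A) x = x ⊗ₜ[k] (1 : A) := h
    rw [op_apply, h', T_tmul]
  · intro h
    show HopfRep.Comod.coact (k := k) (A := A) x = x ⊗ₜ[k] (1 : A)
    apply eq_of_forall_T
    intro φ
    rw [T_tmul, ← op_apply, h φ]

theorem key (k : Type u) [Field k] (A : Type u) [CommRing A] [HopfAlgebra k A]
    (hG : HopfRep.IsLinearlyReductive k A)
    (V W : Type u) [AddCommGroup V] [Module k V] [cV : HopfRep.Comod k A V]
    [AddCommGroup W] [Module k W] [HopfRep.Comod k A W]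
    (E : V →ₗ[k] V) (hE₁ : Hoch.IsComodHom A E)
    (hE₃ : ∀ x : V, E x = x ↔ x ∈ HopfRep.fixedPts k A V)
    (E' : W →ₗ[k] W) (hE'₁ : Hoch.IsComodHom A E') (hE'₂ : E' ∘ₗ E' = E')
    (hE'₃ : ∀ y : W, E' y = y ↔ y ∈ HopfRep.fixedPts k A W)
    (u : V →ₗ[k] W) (hu : Hoch.IsComodHom A u) (y : V) (hy : E y = 0) : E' (u y) = 0 := by
  obtain ⟨Y₀, hfin, hyY₀, hY₀⟩ := Groth.Agent.H12Comod.exists_finite_subcomod (k := k) (C := A) y
  have hK : HopfRep.IsSubcomod (k := k) (A := A) (LinearMap.ker E) := isSubcomod_ker E hE₁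
  set Y : Submodule k V := Y₀ ⊓ LinearMap.ker E with hYdef
  have hY : HopfRep.IsSubcomod (k := k) (A := A) Y := isSubcomod_inf _ _ hY₀ hK
  letI cY : HopfRep.Comod k A Y := ComodSub.Comod.restr cV Y hY
  have hsub : Hoch.IsComodHom A Y.subtype := ComodSub.isComodHom_subtype cV Y hY
  haveI : Module.Finite k Y :=
    Module.Finite.of_injective (Submodule.inclusion (inf_le_left : Y ≤ Y₀))
      (Submodule.inclusion_injective _)
  have hss : HopfRep.IsSemisimpleComod k A Y := hG Y inferInstance
  let g : Y →ₗ[k] W := E' ∘ₗ u ∘ₗ Y.subtype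
  have hgop : ∀ (φ : A →ₗ[k] k) (v : Y), g (op φ v) = op φ (g v) := by
    intro φ v
    show E' (u (Y.subtype (op φ v))) = op φ (E' (u (Y.subtype v)))
    rw [(isComodHom_iff _).mp hsub, (isComodHom_iff _).mp hu, (isComodHom_iff _).mp hE'₁]
  have hg : Hoch.IsComodHom A g := (isComodHom_iff g).mpr hgop
  have hN : HopfRep.IsSubcomod (k := k) (A := A) (LinearMap.ker g) := isSubcomod_ker g hg
  obtain ⟨N', hN', hc⟩ := hss _ hN
  have hgfix : ∀ v : Y, g v ∈ HopfRep.fixedPts k A W := by
    intro v
    rw [← hE'₃]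
    show E' (E' (u (Y.subtype v))) = E' (u (Y.subtype v))
    rw [← LinearMap.comp_apply, hE'₂]
  have hN'bot : N' = ⊥ := by
    rw [eq_bot_iff]
    intro n' hn'
    have hfix : (n' : V) ∈ HopfRep.fixedPts k A V := by
      rw [mem_fixedPts_iff]
      intro φ
      have hz1 : op φ n' - φ 1 • n' ∈ N' :=
        N'.sub_mem ((isSubcomod_iff N').mp hN' φ n' hn') (N'.smul_mem _ hn')
      have hz2 : op φ n' - φ 1 • n' ∈ LinearMap.ker g := by
        rw [LinearMap.mem_ker, map_sub, map_smul, hgop, (mem_fixedPts_iff _).mp (hgfix n') φ, sub_self]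
      have hz : op φ n' - φ 1 • n' = 0 := by
        have : op φ n' - φ 1 • n' ∈ LinearMap.ker g ⊓ N' := ⟨hz2, hz1⟩
        rw [hc.inf_eq_bot] at this
        exact this
      have := congrArg Y.subtype hz
      rw [map_sub, map_smul, (isComodHom_iff _).mp hsub, map_zero, sub_eq_zero] at this
      exact this
    have h1 : E (n' : V) = n' := (hE₃ _).mpr hfix
    have h2 : E (n' : V) = 0 := (n'.2 : (n' : V) ∈ Y₀ ⊓ LinearMap.ker E).2
    rw [Submodule.mem_bot]
    apply Subtype.ext
    rw [← h1, h2]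
    rfl
  have htop : LinearMap.ker g = ⊤ := by
    have := hc.sup_eq_top
    rwa [hN'bot, sup_bot_eq] at this
  have hyY : y ∈ Y := ⟨hyY₀, hy⟩
  have : (⟨y, hyY⟩ : Y) ∈ LinearMap.ker g := by rw [htop]; trivial
  exact this

/-- For a reductive group G (here: every finite-dimensional representation completely reducible, i.e.
linearly reductive) acting linearly on vector spaces V and V′ of any dimension, with Reynolds
operators E and E′ (the projections onto the invariants along the unique invariant complement),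
every G-linear map u : V → V′ satisfies E′ ∘ u = u ∘ E. Stated for comodules over a commutative Hopf
algebra A whose finite-dimensional comodules are semisimple; a Reynolds operator is a comodule
endomorphism that is idempotent and fixes exactly the invariant vectors (such an operator is the
projection onto the invariants along an invariant complement, which is unique). -/
theorem result (k : Type u) [Field k] (A : Type u) [CommRing A] [HopfAlgebra k A]
    (hG : HopfRep.IsLinearlyReductive k A)
    (V W : Type u) [AddCommGroup V] [Module k V] [HopfRep.Comod k A V]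
    [AddCommGroup W] [Module k W] [HopfRep.Comod k A W]
    (E : V →ₗ[k] V) (hE₁ : Hoch.IsComodHom A E) (hE₂ : E ∘ₗ E = E)
    (hE₃ : ∀ x : V, E x = x ↔ x ∈ HopfRep.fixedPts k A V)
    (E' : W →ₗ[k] W) (hE'₁ : Hoch.IsComodHom A E') (hE'₂ : E' ∘ₗ E' = E')
    (hE'₃ : ∀ y : W, E' y = y ↔ y ∈ HopfRep.fixedPts k A W)
    (u : V →ₗ[k] W) (hu : Hoch.IsComodHom A u) :
    E' ∘ₗ u = u ∘ₗ E := by
  apply LinearMap.ext
  intro x
  have hEE : E (E x) = E x := by rw [← LinearMap.comp_apply, hE₂]
  have hEx : E x ∈ HopfRep.fixedPts k A V := (hE₃ (E x)).mp hEE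
  have hufix : u (E x) ∈ HopfRep.fixedPts k A W := by
    rw [mem_fixedPts_iff]
    intro φ
    rw [← (Groth.Agent.Lib.helper28.ComodMod.isComodHom_iff u).mp hu, (mem_fixedPts_iff _).mp hEx φ, map_smul]
  have h1 : E' (u (E x)) = u (E x) := (hE'₃ _).mpr hufix
  have h2 : E' (u (x - E x)) = 0 :=
    key k A hG V W E hE₁ hE₃ E' hE'₁ hE'₂ hE'₃ u hu (x - E x) (by rw [map_sub, hEE, sub_self])
  have h3 : x = E x + (x - E x) := by abel
  show E' (u x) = u (E x)
  conv_lhs => rw [h3]
  rw [map_add, map_add, h1, h2, add_zero]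

end Groth.Agent.S19398
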