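import Groth.Statements.S19409
import Mathlib
import Groth.Prelude.Def_ChGrp
import Groth.Prelude.Def_W4c6nonredquotmfGoodQuot
import Groth.Agent.S14586
import Groth.Agent.S18981
-- import your own Groth.Agent.* helpers here

set_option autoImplicit false
universe u
open CategoryTheory MonoidalCategory CartesianMonoidalCategory MonObj AlgebraicGeometry Topology
open NRQuot

namespace Groth.Agent.S19409

open CategoryTheory MonoidalCategory CartesianMonoidalCategory MonObj GrpObj AlgebraicGeometry CategoryTheory.Limits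

namespace H5S19409

open Groth.Agent.S14586.H5S14586 Groth.Agent.S18981.H5S18981

open TopologicalSpace in
theorem closed_orbit_in (k : Type u) [Field k] [IsAlgClosed k]
    (G X : Over (Spec (CommRingCat.of k))) [GrpObj G] [LocallyOfFiniteType G.hom]
    [QuasiCompact G.hom] [LocallyOfFiniteType X.hom]
    (a : AlgGrp.Action G X) (F : Set X.left) (hFcl : IsClosed F) (hFne : F.Nonempty)
    (hFst : Stable a F) [NoetherianSpace F] :
    ∃ x₁ ∈ F, IsClosed ({x₁} : Set X.left) ∧
      ∀ x₀ : 𝟙_ (Over (Spec (CommRingCat.of k))) ⟶ X, (∀ pt, x₀.left pt = x₁) →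
        IsClosed (Set.range ⇑(a.orbitMap x₀).left.base) := by
  haveI : JacobsonSpace X.left := LocallyOfFiniteType.jacobsonSpace X.hom
  have hopen : IsOpenMap (snd G X).left := by
    rw [Over.snd_left]
    exact (pullback.snd G.hom X.hom).isOpenMap
  let res : Closeds X.left → Closeds F := fun C =>
    ⟨Subtype.val ⁻¹' (C : Set X.left), C.isClosed.preimage continuous_subtype_val⟩
  have hres : ∀ C D : Closeds X.left, (D : Set X.left) ⊆ F → C < D → res C < res D := by
    intro C D hDF hlt
    refine lt_of_le_of_ne (fun z hz => hlt.le hz) (fun heq => hlt.not_ge ?_)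
    intro z hzD
    have h1 : (⟨z, hDF hzD⟩ : F) ∈ (res D : Set F) := hzD
    rw [← heq] at h1
    exact h1
  obtain ⟨Y, ⟨hYF, hYne, hYst⟩, hYmin0⟩ := (InvImage.wf res wellFounded_lt).has_min
    {C : Closeds X.left | (C : Set X.left) ⊆ F ∧ (C : Set X.left).Nonempty ∧
      Stable a (C : Set X.left)}
    ⟨⟨F, hFcl⟩, le_rfl, hFne, hFst⟩
  have hYmin : ∀ C : Closeds X.left, (C : Set X.left).Nonempty ∧ Stable a (C : Set X.left) →
      C < Y → False := by
    intro C hC hlt
    exact hYmin0 C ⟨fun z hz => hYF (hlt.le hz), hC.1, hC.2⟩ (hres C Y hYF hlt)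
  obtain ⟨y, hyY, hyc⟩ := nonempty_inter_closedPoints hYne Y.isClosed.isLocallyClosed
  refine ⟨y, hYF hyY, hyc, fun x₀ hx₀ => ?_⟩
  obtain ⟨O, hO⟩ : ∃ O, O = Set.range (a.orbitMap x₀).left := ⟨_, rfl⟩
  have hOY : O ⊆ (Y : Set X.left) := by
    rw [hO]
    exact orbit_subset a x₀ hYst (fun pt => by rw [hx₀]; exact hyY)
  have hOst : Stable a O := by rw [hO]; exact stable_orbit a x₀
  haveI : Nonempty ↥(𝟙_ (Over (Spec (CommRingCat.of k)))).left :=
    inferInstanceAs (Nonempty ↥(Spec (CommRingCat.of k)))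
  have hOne : O.Nonempty := by
    rw [hO]
    exact ⟨_, ⟨η[G].left (Classical.arbitrary _), rfl⟩⟩
  have hcl : closure O = (Y : Set X.left) := by
    by_contra hne
    have hle : (⟨closure O, isClosed_closure⟩ : Closeds X.left) ≤ Y :=
      closure_minimal hOY Y.isClosed
    have hlt : (⟨closure O, isClosed_closure⟩ : Closeds X.left) < Y :=
      lt_of_le_of_ne hle (fun h => hne (congrArg (fun C : Closeds X.left => (C : Set X.left)) h))
    exact hYmin ⟨closure O, isClosed_closure⟩
      ⟨hOne.mono subset_closure, stable_closure a hopen hOst⟩ hlt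
  obtain ⟨U, Z, hU, hZ, hOeq⟩ : IsLocallyClosed O := by
    rw [hO]
    exact Groth.Agent.S7984.H5S7984.main k G X a x₀
  have hYZ : (Y : Set X.left) ⊆ Z := by
    rw [← hcl]
    exact closure_minimal (hOeq ▸ Set.inter_subset_right) hZ
  have hdiff : (Y : Set X.left) \ O = (Y : Set X.left) ∩ Uᶜ := by
    ext z
    constructor
    · rintro ⟨hzY, hzO⟩
      exact ⟨hzY, fun hzU => hzO (hOeq ▸ ⟨hzU, hYZ hzY⟩)⟩
    · rintro ⟨hzY, hzU⟩
      exact ⟨hzY, fun hzO => hzU (hOeq ▸ hzO : z ∈ U ∩ Z).1⟩
  have hDcl : IsClosed ((Y : Set X.left) \ O) := by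
    rw [hdiff]
    exact Y.isClosed.inter hU.isClosed_compl
  have hDempty : (Y : Set X.left) \ O = ∅ := by
    by_contra hne'
    have hle : (⟨(Y : Set X.left) \ O, hDcl⟩ : Closeds X.left) ≤ Y := Set.sdiff_subset
    have hlt : (⟨(Y : Set X.left) \ O, hDcl⟩ : Closeds X.left) < Y := by
      refine lt_of_le_of_ne hle (fun h => ?_)
      obtain ⟨z, hz⟩ := hOne
      have hzY : z ∈ (Y : Set X.left) := hOY hz
      have : z ∈ (Y : Set X.left) \ O := by
        have h2 : ((Y : Set X.left) \ O) = (Y : Set X.left) :=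
          congrArg (fun C : Closeds X.left => (C : Set X.left)) h
        rw [h2]
        exact hzY
      exact this.2 hz
    exact hYmin ⟨(Y : Set X.left) \ O, hDcl⟩
      ⟨Set.nonempty_iff_ne_empty.2 hne', stable_diff a hYst hOst⟩ hlt
  have hOeqY : O = (Y : Set X.left) := Set.Subset.antisymm hOY (Set.sdiff_eq_empty.1 hDempty)
  show IsClosed (Set.range (a.orbitMap x₀).left)
  rw [← hO, hOeqY]
  exact Y.isClosed


theorem unique_orbit (k : Type u) [Field k] [IsAlgClosed k]
    (G X Y : Over (Spec (CommRingCat.of k))) [GrpObj G] [LocallyOfFiniteType G.hom]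
    [LocallyOfFiniteType X.hom]
    (a : AlgGrp.Action G X) (φ : X ⟶ Y) (h : NRQuot.IsGoodQuot a φ)
    (x₁ x₂ : 𝟙_ (Over (Spec (CommRingCat.of k))) ⟶ X)
    (hcl₁ : IsClosed (Set.range (a.orbitMap x₁).left.base))
    (hcl₂ : IsClosed (Set.range (a.orbitMap x₂).left.base))
    (hφ : x₁ ≫ φ = x₂ ≫ φ) :
    ∃ g : 𝟙_ (Over (Spec (CommRingCat.of k))) ⟶ G, lift g x₁ ≫ a.act = x₂ := by
  haveI : JacobsonSpace X.left := LocallyOfFiniteType.jacobsonSpace X.hom
  let pt : ↥(𝟙_ (Over (Spec (CommRingCat.of k)))).left := IsLocalRing.closedPoint k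
  have hmem : ∀ x : 𝟙_ (Over (Spec (CommRingCat.of k))) ⟶ X,
      x.left.base pt ∈ Set.range (a.orbitMap x).left.base := by
    intro x
    refine ⟨η[G].left.base pt, ?_⟩
    have h1 : η[G] ≫ a.orbitMap x = x := by
      rw [AlgGrp.Action.comp_orbitMap]
      have : toUnit (𝟙_ (Over (Spec (CommRingCat.of k)))) = 𝟙 _ := toUnit_unique _ _
      rw [this, Category.id_comp]
      exact AlgGrp.Action.lift_one_act a x
    have := congrArg (fun m => m.left.base pt) h1
    exact this
  let W : ULift.{u} Bool → Set ↥X.left := fun b =>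
    if b.down then Set.range (a.orbitMap x₁).left.base else Set.range (a.orbitMap x₂).left.base
  have hWcl : ∀ i, IsClosed (W i) := by
    rintro ⟨b⟩
    cases b
    · exact hcl₂
    · exact hcl₁
  have hWinv : ∀ i, NRQuot.IsInvariantSet a (W i) := by
    rintro ⟨b⟩
    cases b
    · exact stable_orbit a x₂
    · exact stable_orbit a x₁
  have hinter := h.inter (ULift.{u} Bool) W hWcl hWinv
  have hy : φ.left.base (x₁.left.base pt) ∈ ⋂ i, φ.left.base '' (W i) := by
    rw [Set.mem_iInter]
    rintro ⟨b⟩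
    cases b
    · refine ⟨x₂.left.base pt, hmem x₂, ?_⟩
      have := congrArg (fun m => m.left.base pt) hφ
      exact this.symm
    · exact ⟨x₁.left.base pt, hmem x₁, rfl⟩
  rw [← hinter] at hy
  obtain ⟨z₀, hz₀, -⟩ := hy
  have hz₁ : z₀ ∈ Set.range (a.orbitMap x₁).left.base := (Set.mem_iInter.1 hz₀) ⟨true⟩
  have hz₂ : z₀ ∈ Set.range (a.orbitMap x₂).left.base := (Set.mem_iInter.1 hz₀) ⟨false⟩
  obtain ⟨z, ⟨hzO₁, hzO₂⟩, hzc⟩ := nonempty_inter_closedPoints
    (Z := Set.range (a.orbitMap x₁).left.base ∩ Set.range (a.orbitMap x₂).left.base)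
    ⟨z₀, hz₁, hz₂⟩ (hcl₁.inter hcl₂).isLocallyClosed
  obtain ⟨g₁, hg₁⟩ := exists_pt k G X a x₁ z hzc hzO₁
  obtain ⟨g₂, hg₂⟩ := exists_pt k G X a x₂ z hzc hzO₂
  have hw : lift g₁ x₁ ≫ a.act = lift g₂ x₂ ≫ a.act := by
    apply Over.OverMorphism.ext
    refine ext_of_apply_closedPoint_eq X.hom ?_ ?_ (hg₁.trans hg₂.symm)
    · exact Over.w (lift g₁ x₁ ≫ a.act)
    · exact Over.w (lift g₂ x₂ ≫ a.act)
  refine ⟨g₂⁻¹ * g₁, ?_⟩
  rw [AlgGrp.Action.lift_mul_act, hw, ← AlgGrp.Action.lift_mul_act, inv_mul_cancel,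
    AlgGrp.Action.lift_one_act]

theorem main (k : Type u) [Field k] [IsAlgClosed k]
    (G X Y : Over (Spec (CommRingCat.of k))) [GrpObj G] [IsAffine G.left] [LocallyOfFiniteType G.hom]
    [LocallyOfFiniteType X.hom]
    (a : AlgGrp.Action G X) (φ : X ⟶ Y) (h : NRQuot.IsGoodQuot a φ)
    (y : 𝟙_ (Over (Spec (CommRingCat.of k))) ⟶ Y) :
    ∃ x : 𝟙_ (Over (Spec (CommRingCat.of k))) ⟶ X, x ≫ φ = y ∧ IsClosed (Set.range (a.orbitMap x).left.base) ∧
      ∀ x' : 𝟙_ (Over (Spec (CommRingCat.of k))) ⟶ X, x' ≫ φ = y → IsClosed (Set.range (a.orbitMap x').left.base) →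
        ∃ g : 𝟙_ (Over (Spec (CommRingCat.of k))) ⟶ G, lift g x ≫ a.act = x' := by
  haveI : QuasiCompact G.hom := (quasiCompact_iff_compactSpace G.hom).2 inferInstance
  let pt : ↥(𝟙_ (Over (Spec (CommRingCat.of k)))).left := IsLocalRing.closedPoint k
  haveI : Subsingleton ↥(𝟙_ (Over (Spec (CommRingCat.of k)))).left :=
    inferInstanceAs (Subsingleton (PrimeSpectrum k))
  haveI : IsAffineHom φ.left := h.affine
  haveI : LocallyOfFiniteType φ.left := by
    haveI : LocallyOfFiniteType (φ.left ≫ Y.hom) := by rw [Over.w]; infer_instance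
    exact locallyOfFiniteType_of_comp φ.left Y.hom
  haveI : IsClosedImmersion y.left :=
    isClosedImmersion_of_comp_eq_id Y.hom y.left (Over.w y)
  let p₁ := pullback.fst φ.left y.left
  let p₂ : pullback φ.left y.left ⟶ Spec (CommRingCat.of k) := pullback.snd φ.left y.left
  haveI : IsAffineHom p₂ := inferInstanceAs (IsAffineHom (pullback.snd φ.left y.left))
  haveI : IsAffine (pullback φ.left y.left) := isAffine_of_isAffineHom p₂
  haveI : LocallyOfFiniteType p₂ := inferInstanceAs (LocallyOfFiniteType (pullback.snd φ.left y.left))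
  haveI : IsLocallyNoetherian (pullback φ.left y.left) := LocallyOfFiniteType.isLocallyNoetherian p₂
  haveI : IsNoetherian (pullback φ.left y.left) := {}
  haveI : TopologicalSpace.NoetherianSpace ↥(pullback φ.left y.left) := inferInstance
  haveI : IsClosedImmersion p₁ := inferInstanceAs (IsClosedImmersion (pullback.fst φ.left y.left))
  obtain ⟨F, hFdef⟩ : ∃ F : Set X.left, F = Set.range p₁.base := ⟨_, rfl⟩
  have hF : F = φ.left.base ⁻¹' {y.left.base pt} := by
    rw [hFdef]
    have h1 := Scheme.Pullback.range_fst φ.left y.left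
    have h2 : Set.range y.left = {y.left.base pt} := by
      ext w
      constructor
      · rintro ⟨t, rfl⟩
        rw [Subsingleton.elim t pt]; rfl
      · intro hw; exact ⟨pt, hw.symm⟩
    rw [h2] at h1
    exact h1
  haveI : TopologicalSpace.NoetherianSpace F := by
    rw [hFdef]; exact TopologicalSpace.NoetherianSpace.range p₁.base p₁.continuous
  have hFcl : IsClosed F := by rw [hFdef]; exact p₁.isClosedEmbedding.isClosed_range
  have hsurj : Function.Surjective φ.left.base := by
    have h0 := h.inter PEmpty (fun i => i.elim) (fun i => i.elim) (fun i => i.elim)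
    simp only [Set.iInter_of_empty, Set.image_univ] at h0
    exact Set.range_eq_univ.1 h0
  have hFne : F.Nonempty := by
    rw [hF]
    obtain ⟨x, hx⟩ := hsurj (y.left.base pt)
    exact ⟨x, hx⟩
  have hFst : Stable a F := by
    rw [hF]
    intro u hu
    show φ.left.base (a.act.left.base u) = _
    have h2 := congrArg (fun m => m.base u) h.inv.left
    simp only [Scheme.Hom.comp_base, TopCat.comp_app] at h2
    rw [h2]
    exact hu
  obtain ⟨x₁, hx₁F, hx₁c, hx₁⟩ := closed_orbit_in k G X a F hFcl hFne hFst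
  rw [hFdef] at hx₁F
  obtain ⟨q, hq⟩ := hx₁F
  have hqc : IsClosed ({q} : Set ↥(pullback φ.left y.left)) := by
    have : ({q} : Set ↥(pullback φ.left y.left)) = p₁.base ⁻¹' {x₁} := by
      ext q'
      constructor
      · rintro rfl; exact hq
      · intro h'; exact p₁.isClosedEmbedding.injective (h'.trans hq.symm)
    rw [this]
    exact hx₁c.preimage p₁.continuous
  let σ := pointOfClosedPoint p₂ q hqc
  have hσ : σ ≫ pullback.snd φ.left y.left = 𝟙 _ := pointOfClosedPoint_comp p₂ q hqc
  let x : 𝟙_ (Over (Spec (CommRingCat.of k))) ⟶ X := Over.homMk (σ ≫ p₁) (by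
    have e1 : X.hom = φ.left ≫ Y.hom := (Over.w φ).symm
    rw [e1, Category.assoc, ← Category.assoc p₁, pullback.condition, Category.assoc, Over.w y,
      ← Category.assoc, hσ]
    rfl)
  have hxφ : x ≫ φ = y := by
    apply Over.OverMorphism.ext
    show (σ ≫ p₁) ≫ φ.left = y.left
    rw [Category.assoc, pullback.condition, ← Category.assoc, hσ]
    exact Category.id_comp _
  have hxpt : ∀ pt', x.left pt' = x₁ := fun pt' => by
    show p₁.base (σ.base pt') = x₁
    rw [show σ.base pt' = q from pointOfClosedPoint_apply p₂ q hqc pt']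
    exact hq
  refine ⟨x, hxφ, hx₁ x hxpt, fun x' hx' hcl' => ?_⟩
  exact unique_orbit k G X Y a φ h x x' (hx₁ x hxpt) hcl' (hxφ.trans hx'.symm)

end H5S19409

/-- Suppose k is a field that is algebraically closed (its characteristic is arbitrary, since
characteristic zero plays no role in the argument). Consider an algebraic group G over k, i.e. an
affine group scheme of finite type over k, together with an action of G on a k-scheme X that is
locally of finite type, and assume φ : X → Y is a good quotient (meaning φ is affine and invariant,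
on each open of Y the functions are precisely the invariant functions on its preimage, closed
invariant subsets are sent to closed subsets, and taking images commutes with intersecting families
of closed invariant subsets). Given any k-point y of Y, one can find a k-point x of X lying over y
whose orbit (the image of the orbit morphism G → X) is a closed subset of X; moreover, whenever x'
is a k-point of X over y with closed orbit, x' is obtained from x by acting with some k-point of G.
In other words, each fibre of φ over a k-point contains a unique closed orbit. -/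
theorem result
    (k : Type u) [Field k] [IsAlgClosed k]
    (G X Y : Over (Spec (CommRingCat.of k))) [GrpObj G] [IsAffine G.left] [LocallyOfFiniteType G.hom]
    [LocallyOfFiniteType X.hom]
    (a : AlgGrp.Action G X) (φ : X ⟶ Y) (h : NRQuot.IsGoodQuot a φ)
    (y : 𝟙_ (Over (Spec (CommRingCat.of k))) ⟶ Y) :
    ∃ x : 𝟙_ (Over (Spec (CommRingCat.of k))) ⟶ X, x ≫ φ = y ∧ IsClosed (Set.range (a.orbitMap x).left.base) ∧
      ∀ x' : 𝟙_ (Over (Spec (CommRingCat.of k))) ⟶ X, x' ≫ φ = y → IsClosed (Set.range (a.orbitMap x').left.base) →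
        ∃ g : 𝟙_ (Over (Spec (CommRingCat.of k))) ⟶ G, lift g x ≫ a.act = x' := by
  exact H5S19409.main k G X Y a φ h y

end Groth.Agent.S19409
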