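import Groth.Statements.S19415
import Mathlib
import Groth.Agent.S15464

set_option autoImplicit false
universe u v
open CategoryTheory AlgebraicGeometry
open WeilCoh

namespace Groth.Agent.S19415


open Groth.Agent.Lib.helper12.WeilGraph Groth.Agent.Lib.helper23.WeilCohLib

section Aux

variable (k : Type u) [Field k] [IsAlgClosed k] (K : Type v) [Field K] [CharZero K]
  (T : WeilCoh.Theory k K)

theorem push_congr {X Y : WeilCoh.Var k} (f : X ⟶ Y) (i i' : ℤ) (h : i = i')
    (a : ↥(T.gr X i)) (a' : ↥(T.gr X i')) (ha : (a : T.H X) = (a' : T.H X)) :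
    (T.push f i a : T.H Y) = (T.push f i' a' : T.H Y) := by
  subst h
  have : a = a' := Subtype.ext ha
  rw [this]

/-- Powers of an endomorphism. -/
noncomputable def Fpow {X : WeilCoh.Var k} (F : X ⟶ X) : ℕ → (X ⟶ X)
  | 0 => 𝟙 X
  | m + 1 => F ≫ Fpow F m

theorem pull_Fpow {X : WeilCoh.Var k} (F : X ⟶ X) (m : ℕ) (j : ℤ) (b : ↥(T.gr X j)) :
    T.pull (Fpow k F m) (b : T.H X) = (((T.pullDeg F j) ^ m) b : T.H X) := by
  induction m with
  | zero =>
    show T.pull (𝟙 X) (b : T.H X) = _
    rw [T.pull_id, pow_zero]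
    rfl
  | succ m ih =>
    show T.pull (F ≫ Fpow k F m) (b : T.H X) = _
    rw [← pull_pull k K T F (Fpow k F m), ih, pow_succ', Module.End.mul_apply]
    rfl

omit [IsAlgClosed k] in
theorem exists_graph {X P : WeilCoh.Var k} (p q : P ⟶ X) (hP : WeilCoh.IsProd p q)
    (g : X ⟶ X) : ∃ γ : X ⟶ P, γ ≫ p = g ∧ γ ≫ q = 𝟙 X := by
  have hw : sm g ≫ X.obj.hom = 𝟙 X.obj.left ≫ X.obj.hom := by
    rw [Category.id_comp]; exact Over.w g.hom
  have hl1 : hP.lift (sm g) (𝟙 _) hw ≫ sm p = sm g := hP.lift_fst _ _ _
  have hl2 : hP.lift (sm g) (𝟙 _) hw ≫ sm q = 𝟙 _ := hP.lift_snd _ _ _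
  have hlP : hP.lift (sm g) (𝟙 _) hw ≫ P.obj.hom = X.obj.hom := by
    have h1 : sm q ≫ X.obj.hom = P.obj.hom := Over.w q.hom
    rw [← h1, ← Category.assoc, hl2, Category.id_comp]
  refine ⟨ObjectProperty.homMk (Over.homMk (hP.lift (sm g) (𝟙 _) hw) hlP), ?_, ?_⟩
  · apply ObjectProperty.hom_ext
    apply Over.OverMorphism.ext
    exact hl1
  · apply ObjectProperty.hom_ext
    apply Over.OverMorphism.ext
    exact hl2

theorem cl_graph_mem {X P : WeilCoh.Var k} (p q : P ⟶ X) (hP : WeilCoh.IsProd p q)
    (γ : X ⟶ P) (hγq : γ ≫ q = 𝟙 X) :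
    haveI : IrreducibleSpace ↥X.obj.left := X.property.2.2
    T.cl P (sm γ (genericPoint ↥X.obj.left)) ∈ T.gr P (2 * (dim X.obj.left : ℤ)) := by
  haveI : IrreducibleSpace ↥X.obj.left := X.property.2.2
  have hc := codim_section k K T q p hP.flip γ hγq
  exact mem_of_eq T (by rw [hc]) (T.cl_mem P _)

/-- The class of the transposed graph of `g` acts as `g^*`. -/
theorem graph_action {X P : WeilCoh.Var k} (p q : P ⟶ X) (hP : WeilCoh.IsProd p q)
    (g : X ⟶ X) (γ : X ⟶ P) (hγp : γ ≫ p = g) (hγq : γ ≫ q = 𝟙 X) (j : ℤ) (b : ↥(T.gr X j))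
    (hmem : haveI : IrreducibleSpace ↥X.obj.left := X.property.2.2
      T.pull p (b : T.H X) * T.cl P (sm γ (genericPoint ↥X.obj.left)) ∈
        T.gr P (j + 2 * (dim X.obj.left : ℤ))) :
    haveI : IrreducibleSpace ↥X.obj.left := X.property.2.2
    (T.push q (j + 2 * (dim X.obj.left : ℤ))
      ⟨T.pull p (b : T.H X) * T.cl P (sm γ (genericPoint ↥X.obj.left)), hmem⟩ : T.H X) =
      T.pull g (b : T.H X) := by
  haveI : IrreducibleSpace ↥X.obj.left := X.property.2.2
  have h := Groth.Agent.S15464.result k K T X X P g q p hP.flip γ hγq hγp j b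
  rw [← h]
  have hc := codim_section k K T q p hP.flip γ hγq
  apply push_congr
  · rw [hc]; ring
  · show T.pull p (b : T.H X) * T.cl P (sm γ (genericPoint ↥X.obj.left)) =
      T.cl P (sm γ (genericPoint ↥X.obj.left)) * T.pull p (b : T.H X)
    have hcomm := T.gradedComm P _ _ _ _ (T.pull_mem p j b b.2)
      (cl_graph_mem k K T p q hP γ hγq)
    have hsign : (-1 : K) ^ (j.natAbs * (2 * (dim X.obj.left : ℤ)).natAbs) = 1 := by
      have h2 : (2 * (dim X.obj.left : ℤ)).natAbs = 2 * dim X.obj.left := by omega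
      rw [h2]
      exact Even.neg_one_pow ⟨j.natAbs * dim X.obj.left, by ring⟩
    rw [hcomm, hsign, one_smul]

end Aux

/-- Let H be a Weil cohomology theory with coefficients in a field K of characteristic zero on
nonsingular connected projective varieties over an algebraically closed field k, X such a variety of
dimension n, P = X × X with its projections p, q, and F : X → X an endomorphism such that the
characteristic polynomials of F^* on the cohomology groups H^i(X), i ∈ ℤ, are pairwise coprime in
K[T]. Then for every i the i-th Künneth projector of X is given by an algebraic correspondence with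
coefficients in K: there is a class u in H^{2n}(P), lying in the K-linear span of the classes of
closed irreducible subsets of P, whose action β ↦ q_*(p^*(β) · u) is the identity on H^i(X) and zero
on H^j(X) for every j ≠ i (push-forward q_* taken on the homogeneous piece of degree j + 2n). The
published statement has rational coefficients, X defined over a finite field and F its Frobenius
endomorphism, the coprimality of the characteristic polynomials being deduced there from the Riemann
hypothesis over finite fields and from the independence of these polynomials of the cohomology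
theory; here that coprimality is the hypothesis and F is any endomorphism. -/
theorem result (k : Type u) [Field k]
    [IsAlgClosed k] (K : Type v) [Field K] [CharZero K] (T : WeilCoh.Theory k K)
    (X P : WeilCoh.Var k) (p q : P ⟶ X) (hP : WeilCoh.IsProd p q) (F : X ⟶ X)
    (hF : ∀ i j : ℤ, i ≠ j → IsCoprime (T.pullDeg F i).charpoly (T.pullDeg F j).charpoly)
    (i : ℤ) :
    ∃ u : ↥(T.gr P (2 * (WeilCoh.dim X.obj.left : ℤ))),
      (u : T.H P) ∈ Submodule.span K (Set.range (T.cl P)) ∧
        ∀ (j : ℤ) (b : ↥(T.gr X j)),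
          (T.push q (j + 2 * (WeilCoh.dim X.obj.left : ℤ))
              ⟨T.pull p (b : T.H X) * (u : T.H P),
                SetLike.mul_mem_graded (T.pull_mem p j b b.2) u.2⟩ : T.H X) =
            if j = i then (b : T.H X) else 0 := by
  classical
  haveI : IrreducibleSpace ↥X.obj.left := X.property.2.2
  -- the polynomial
  let S : Finset ℤ := (Finset.Icc (0 : ℤ) (2 * (dim X.obj.left : ℤ))).erase i
  have hcop : IsCoprime (T.pullDeg F i).charpoly (∏ j ∈ S, (T.pullDeg F j).charpoly) :=
    IsCoprime.prod_right (fun j hj => hF i j (Finset.ne_of_mem_erase hj).symm)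
  obtain ⟨a, c, hac⟩ := hcop
  -- a * χ_i + c * Π = 1
  set Q : Polynomial K := c * ∏ j ∈ S, (T.pullDeg F j).charpoly with hQ
  have hQi : Polynomial.aeval (T.pullDeg F i) Q = 1 := by
    have h1 : Q = 1 - a * (T.pullDeg F i).charpoly := by rw [hQ, ← hac]; ring
    rw [h1, map_sub, map_one, map_mul, LinearMap.aeval_self_charpoly, mul_zero]
    simp
  have hQj : ∀ j ∈ S, Polynomial.aeval (T.pullDeg F j) Q = 0 := by
    intro j hj
    obtain ⟨w, hw⟩ := Finset.dvd_prod_of_mem (fun j => (T.pullDeg F j).charpoly) hj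
    have h1 : Q = (c * w) * (T.pullDeg F j).charpoly := by rw [hQ, hw]; ring
    rw [h1, map_mul, LinearMap.aeval_self_charpoly, mul_zero]
  -- the graphs
  choose γ hγp hγq using fun m : ℕ => exists_graph k p q hP (Fpow k F m)
  have hclm : ∀ m, T.cl P (sm (γ m) (genericPoint ↥X.obj.left)) ∈
      T.gr P (2 * (dim X.obj.left : ℤ)) := fun m => cl_graph_mem k K T p q hP (γ m) (hγq m)
  let u0 : T.H P := ∑ m ∈ Finset.range (Q.natDegree + 1),
    Q.coeff m • T.cl P (sm (γ m) (genericPoint ↥X.obj.left))
  have hu0 : u0 ∈ T.gr P (2 * (dim X.obj.left : ℤ)) :=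
    Submodule.sum_mem _ (fun m _ => Submodule.smul_mem _ _ (hclm m))
  refine ⟨⟨u0, hu0⟩, ?_, ?_⟩
  · show (∑ m ∈ Finset.range (Q.natDegree + 1),
      Q.coeff m • T.cl P (sm (γ m) (genericPoint ↥X.obj.left))) ∈
        Submodule.span K (Set.range (T.cl P))
    exact Submodule.sum_mem _ (fun m _ => Submodule.smul_mem _ _
      (Submodule.subset_span (Set.mem_range_self _)))
  · intro j b
    -- the action is Q(F^*)
    have hact : (T.push q (j + 2 * (WeilCoh.dim X.obj.left : ℤ))
        ⟨T.pull p (b : T.H X) * u0,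
          SetLike.mul_mem_graded (T.pull_mem p j b b.2) hu0⟩ : T.H X) =
        ((Polynomial.aeval (T.pullDeg F j) Q) b : T.H X) := by
      have helt : (⟨T.pull p (b : T.H X) * u0,
          SetLike.mul_mem_graded (T.pull_mem p j b b.2) hu0⟩ :
            ↥(T.gr P (j + 2 * (WeilCoh.dim X.obj.left : ℤ)))) =
          ∑ m ∈ Finset.range (Q.natDegree + 1), Q.coeff m •
            (⟨T.pull p (b : T.H X) * T.cl P (sm (γ m) (genericPoint ↥X.obj.left)),
              SetLike.mul_mem_graded (T.pull_mem p j b b.2) (hclm m)⟩ :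
              ↥(T.gr P (j + 2 * (WeilCoh.dim X.obj.left : ℤ)))) := by
        apply Subtype.ext
        rw [Submodule.coe_sum]
        simp only [Submodule.coe_smul]
        show T.pull p (b : T.H X) * ∑ m ∈ Finset.range (Q.natDegree + 1),
          Q.coeff m • T.cl P (sm (γ m) (genericPoint ↥X.obj.left)) = _
        rw [Finset.mul_sum]
        refine Finset.sum_congr rfl (fun m _ => ?_)
        rw [mul_smul_comm]
      rw [helt, map_sum, Submodule.coe_sum, Polynomial.aeval_eq_sum_range, LinearMap.sum_apply,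
        Submodule.coe_sum]
      refine Finset.sum_congr rfl (fun m _ => ?_)
      rw [map_smul, Submodule.coe_smul, LinearMap.smul_apply, Submodule.coe_smul,
        graph_action k K T p q hP (Fpow k F m) (γ m) (hγp m) (hγq m) j b, pull_Fpow k K T F m j b]
    show (T.push q (j + 2 * (WeilCoh.dim X.obj.left : ℤ))
        ⟨T.pull p (b : T.H X) * u0, _⟩ : T.H X) = _
    rw [hact]
    by_cases hji : j = i
    · subst hji
      rw [if_pos rfl, hQi]
      rfl
    · rw [if_neg hji]
      by_cases hjS : j ∈ Finset.Icc (0 : ℤ) (2 * (dim X.obj.left : ℤ))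
      · rw [hQj j (Finset.mem_erase.mpr ⟨hji, hjS⟩)]
        rfl
      · have hb := ((Polynomial.aeval (T.pullDeg F j) Q) b).2
        rw [Finset.mem_Icc, not_and_or, not_le, not_le] at hjS
        exact eq_zero_of_mem T X j _ hb hjS

end Groth.Agent.S19415
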