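import Groth.Statements.S19418
import Mathlib
import Groth.Agent.S15748
import Groth.Agent.S19414
import Groth.Agent.S19415

set_option autoImplicit false
universe u v
open CategoryTheory AlgebraicGeometry
open WeilCoh

namespace Groth.Agent.S19418


open Groth.Agent.Lib.helper12.WeilGraph Groth.Agent.Lib.helper23.WeilCohLib

section Aux

variable (k : Type u) [Field k] [IsAlgClosed k] (K : Type v) [Field K] [CharZero K]
  (T : WeilCoh.Theory k K) {X P : WeilCoh.Var k} (p q : P ⟶ X)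

omit [IsAlgClosed k] in
theorem swap_swap (hP : WeilCoh.IsProd p q) (σ : P ⟶ P) (hσp : σ ≫ p = q) (hσq : σ ≫ q = p) :
    σ ≫ σ = 𝟙 P := by
  have h1 : sm σ ≫ sm p = sm q := congrArg (fun f => f.hom.left) hσp
  have h2 : sm σ ≫ sm q = sm p := congrArg (fun f => f.hom.left) hσq
  apply ObjectProperty.hom_ext
  apply Over.OverMorphism.ext
  apply hP.hom_ext
  · show (sm σ ≫ sm σ) ≫ sm p = 𝟙 _ ≫ sm p
    rw [Category.assoc, h1, h2, Category.id_comp]
  · show (sm σ ≫ sm σ) ≫ sm q = 𝟙 _ ≫ sm q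
    rw [Category.assoc, h2, h1, Category.id_comp]

/-- The swap pulls the class of a point back to the class of its image. -/
theorem cl_swap (hP : WeilCoh.IsProd p q) (σ : P ⟶ P) (hσp : σ ≫ p = q) (hσq : σ ≫ q = p)
    (ξ : P.obj.left) : T.pull σ (T.cl P ξ) = T.cl P (sm σ ξ) := by
  have hσσ := swap_swap k p q hP σ hσp hσq
  have hsec : sm σ ≫ sm σ = 𝟙 _ := sm_section k σ σ hσσ
  have hpt : ∀ x : P.obj.left, (sm σ) ((sm σ) x) = x := fun x => by
    rw [← Scheme.Hom.comp_apply, hsec]; rfl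
  have hrange : IsClosed (Set.range (sm σ)) := by
    have : Set.range (sm σ) = Set.univ := Set.eq_univ_of_forall (fun x => ⟨(sm σ) x, hpt x⟩)
    rw [this]; exact isClosed_univ
  have hpd : pdim P.obj.left (sm σ ξ) = pdim P.obj.left ξ :=
    Groth.Agent.S19414.natDim_closure_section (sm σ) (sm σ) (sm σ).continuous (sm σ).continuous
      hpt hrange ξ
  have hple : pdim P.obj.left ξ ≤ dim P.obj.left := Groth.Agent.S19414.pdim_le_dim k P ξ
  have hc : codim P.obj.left (sm σ ξ) = codim P.obj.left ξ := by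
    unfold codim; rw [hpd]
  have hcZ : (codim P.obj.left ξ : ℤ) = (dim P.obj.left : ℤ) - (pdim P.obj.left ξ : ℤ) := by
    unfold codim
    rw [Nat.cast_sub hple]
  refine ext_of_tr T P (2 * (codim P.obj.left ξ : ℤ))
    (2 * (dim P.obj.left : ℤ) - 2 * (codim P.obj.left ξ : ℤ)) (by ring) _ _
    (T.pull_mem σ _ _ (T.cl_mem P ξ)) (mem_of_eq T (by rw [hc]) (T.cl_mem P (sm σ ξ))) ?_
  intro a ha
  have ha' : a ∈ T.gr P (2 * (pdim P.obj.left ξ : ℤ)) := mem_of_eq T (by rw [hcZ]; ring) ha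
  have hpush := T.cl_push σ ξ a ha'
  rw [residueDegree_eq_one_of_section (sm σ) (sm σ) hsec ξ, Nat.cast_one, one_mul] at hpush
  rw [← hpush]
  have h1 : T.pull σ (T.cl P ξ) * a = T.pull σ (T.cl P ξ * T.pull σ a) := by
    rw [map_mul (T.pull σ), pull_section k K T σ σ hσσ]
  rw [h1, Groth.Agent.S15748.tr_pull_swap k K T p q hP p q hP σ hσp hσq]

theorem pull_swap_mem_span (hP : WeilCoh.IsProd p q) (σ : P ⟶ P) (hσp : σ ≫ p = q)
    (hσq : σ ≫ q = p) (v : T.H P) (hv : v ∈ Submodule.span K (Set.range (T.cl P))) :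
    T.pull σ v ∈ Submodule.span K (Set.range (T.cl P)) := by
  induction hv using Submodule.span_induction with
  | mem x hx =>
    obtain ⟨ξ, rfl⟩ := hx
    rw [cl_swap k K T p q hP σ hσp hσq ξ]
    exact Submodule.subset_span (Set.mem_range_self _)
  | zero => rw [map_zero]; exact Submodule.zero_mem _
  | add x y _ _ hx hy => rw [map_add]; exact Submodule.add_mem _ hx hy
  | smul c x _ hx => rw [map_smul]; exact Submodule.smul_mem _ _ hx

/-- The family of endomorphisms attached to a class. -/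
noncomputable def fam
    (hdim : ∀ j : ℤ, j + 2 * (WeilCoh.dim X.obj.left : ℤ) + 2 * (WeilCoh.dim X.obj.left : ℤ) -
      2 * (WeilCoh.dim P.obj.left : ℤ) = j)
    (w : ↥(T.gr P (2 * (WeilCoh.dim X.obj.left : ℤ)))) :
    (j : Fin (2 * WeilCoh.dim X.obj.left + 1)) →
      (↥(T.gr X ((j : ℕ) : ℤ)) →ₗ[K] ↥(T.gr X ((j : ℕ) : ℤ))) :=
  fun j : Fin (2 * WeilCoh.dim X.obj.left + 1) =>
    ((LinearEquiv.ofEq (T.gr X (((j : ℕ) : ℤ) + 2 * (WeilCoh.dim X.obj.left : ℤ) + 2 * (WeilCoh.dim X.obj.left : ℤ) - 2 * (WeilCoh.dim P.obj.left : ℤ))) (T.gr X ((j : ℕ) : ℤ)) (congrArg (T.gr X) (hdim ((j : ℕ) : ℤ)))).toLinearMap ∘ₗ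
      ((T.push q (((j : ℕ) : ℤ) + 2 * (WeilCoh.dim X.obj.left : ℤ))) ∘ₗ
        (((LinearMap.mulRight K (w : T.H P)).restrict (p := T.gr P ((j : ℕ) : ℤ))
            (q := T.gr P (((j : ℕ) : ℤ) + 2 * (WeilCoh.dim X.obj.left : ℤ))) (fun x hx => SetLike.mul_mem_graded hx w.2)) ∘ₗ
          T.pullDeg p ((j : ℕ) : ℤ))))

end Aux

/-- Key step, cohomological form: let H be a Weil cohomology theory with coefficients in a field K of
characteristic zero on nonsingular connected projective varieties over an algebraically closed field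
k, X such a variety of dimension n, P = X × X with projections p, q and the swap automorphism σ (σ p
= q, σ q = p); the identity dim P = 2n is carried as the arithmetic hypothesis hdim. A class u ∈
H^{2n}(P) acts as a degree-0 correspondence on each H^j(X), 0 ≤ j ≤ 2n, by β ↦ q_*(p^*(β) · u); call
u algebraic when it lies in the K-linear span of the classes of closed irreducible subsets of P, and
let A be the K-subalgebra of ∏_j End_K(H^j(X)) generated by the actions of the algebraic classes in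
H^{2n}(P). If u is algebraic and ψ ∘ (action of u) is nilpotent for every ψ ∈ A — that is, the
action of u lies in the Jacobson radical of the finite-dimensional algebra A — then u is numerically
trivial against algebraic classes: Tr_P(u · v) = 0 for every algebraic v ∈ H^{2n}(P). In the
published argument this is the step showing that the algebra of degree-0 algebraic correspondences
modulo numerical equivalence has zero Jacobson radical, hence is semisimple; it is stated here on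
the cohomological side, with the algebra generated by the correspondence actions in place of the
algebra of cycle classes. -/
theorem result (k : Type u) [Field k] [IsAlgClosed k]
    (K : Type v) [Field K] [CharZero K] (T : WeilCoh.Theory k K) (X P : WeilCoh.Var k)
    (p q : P ⟶ X) (hP : WeilCoh.IsProd p q) (σ : P ⟶ P) (hσp : σ ≫ p = q) (hσq : σ ≫ q = p)
    (hdim : ∀ j : ℤ, j + 2 * (WeilCoh.dim X.obj.left : ℤ) + 2 * (WeilCoh.dim X.obj.left : ℤ) - 2 * (WeilCoh.dim P.obj.left : ℤ) = j)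
    (u : ↥(T.gr P (2 * (WeilCoh.dim X.obj.left : ℤ)))) (hu : (u : T.H P) ∈ Submodule.span K (Set.range (T.cl P)))
    (hJ : ∀ ψ ∈ Algebra.adjoin K
          (Set.range (fun w : {w : ↥(T.gr P (2 * (WeilCoh.dim X.obj.left : ℤ))) // (w : T.H P) ∈ Submodule.span K (Set.range (T.cl P))} =>
            fun j : Fin (2 * WeilCoh.dim X.obj.left + 1) =>
              ((LinearEquiv.ofEq (T.gr X (((j : ℕ) : ℤ) + 2 * (WeilCoh.dim X.obj.left : ℤ) + 2 * (WeilCoh.dim X.obj.left : ℤ) - 2 * (WeilCoh.dim P.obj.left : ℤ))) (T.gr X ((j : ℕ) : ℤ)) (congrArg (T.gr X) (hdim ((j : ℕ) : ℤ)))).toLinearMap ∘ₗ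
              ((T.push q (((j : ℕ) : ℤ) + 2 * (WeilCoh.dim X.obj.left : ℤ))) ∘ₗ
                (((LinearMap.mulRight K (w.1 : T.H P)).restrict (p := T.gr P ((j : ℕ) : ℤ))
                    (q := T.gr P (((j : ℕ) : ℤ) + 2 * (WeilCoh.dim X.obj.left : ℤ))) (fun x hx => SetLike.mul_mem_graded hx w.1.2)) ∘ₗ
                  T.pullDeg p ((j : ℕ) : ℤ)))))),
        IsNilpotent (ψ * fun j : Fin (2 * WeilCoh.dim X.obj.left + 1) =>
          ((LinearEquiv.ofEq (T.gr X (((j : ℕ) : ℤ) + 2 * (WeilCoh.dim X.obj.left : ℤ) + 2 * (WeilCoh.dim X.obj.left : ℤ) - 2 * (WeilCoh.dim P.obj.left : ℤ))) (T.gr X ((j : ℕ) : ℤ)) (congrArg (T.gr X) (hdim ((j : ℕ) : ℤ)))).toLinearMap ∘ₗ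
              ((T.push q (((j : ℕ) : ℤ) + 2 * (WeilCoh.dim X.obj.left : ℤ))) ∘ₗ
                (((LinearMap.mulRight K (u : T.H P)).restrict (p := T.gr P ((j : ℕ) : ℤ))
                    (q := T.gr P (((j : ℕ) : ℤ) + 2 * (WeilCoh.dim X.obj.left : ℤ))) (fun x hx => SetLike.mul_mem_graded hx u.2)) ∘ₗ
                  T.pullDeg p ((j : ℕ) : ℤ))))))
    (v : ↥(T.gr P (2 * (WeilCoh.dim X.obj.left : ℤ)))) (hv : (v : T.H P) ∈ Submodule.span K (Set.range (T.cl P))) :
    T.tr P ((u : T.H P) * (v : T.H P)) = 0 := by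
  classical
  have hdP : dim P.obj.left = dim X.obj.left + dim X.obj.left := dim_prod k K T p q hP
  have hσσ := swap_swap k p q hP σ hσp hσq
  -- the transposed class
  let w : ↥(T.gr P (2 * (WeilCoh.dim X.obj.left : ℤ))) :=
    ⟨T.pull σ (v : T.H P), T.pull_mem σ _ _ v.2⟩
  have hw : (w : T.H P) ∈ Submodule.span K (Set.range (T.cl P)) :=
    pull_swap_mem_span k K T p q hP σ hσp hσq _ hv
  have hnil := hJ (fam k K T p q hdim w) (Algebra.subset_adjoin ⟨⟨w, hw⟩, rfl⟩)
  have hnil' : IsNilpotent (fam k K T p q hdim w * fam k K T p q hdim u) := hnil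
  have htr : ∀ j : Fin (2 * WeilCoh.dim X.obj.left + 1),
      LinearMap.trace K _ (fam k K T p q hdim w j * fam k K T p q hdim u j) = 0 := by
    intro j
    obtain ⟨N, hN⟩ := hnil'
    have hj : IsNilpotent (fam k K T p q hdim w j * fam k K T p q hdim u j) := by
      refine ⟨N, ?_⟩
      have := congrFun hN j
      simpa [Pi.pow_apply, Pi.mul_apply] using this
    exact (LinearMap.isNilpotent_trace_of_isNilpotent hj).eq_zero
  -- the trace formula
  have hdim' : ∀ i : ℤ, ((i + (2 * (WeilCoh.dim X.obj.left : ℤ) + 0) + 2 * (WeilCoh.dim X.obj.left : ℤ) - 2 * (WeilCoh.dim P.obj.left : ℤ)) + (2 * (WeilCoh.dim X.obj.left : ℤ) - 0) + 2 * (WeilCoh.dim X.obj.left : ℤ) - 2 * (WeilCoh.dim P.obj.left : ℤ)) = i := by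
    intro i; rw [hdP]; push_cast; ring
  have h748 := Groth.Agent.S15748.result k K T X X P P p q hP p q hP σ hσp hσq 0 hdim'
    ⟨(u : T.H P), mem_of_eq T (by ring) u.2⟩ ⟨(w : T.H P), mem_of_eq T (by ring) w.2⟩
  have e : T.pull σ (w : T.H P) = (v : T.H P) := pull_section k K T σ σ hσσ v
  have h748' : T.tr P ((u : T.H P) * T.pull σ (w : T.H P)) = _ := h748
  rw [e] at h748'
  rw [h748']
  refine Finset.sum_eq_zero (fun i hi => ?_)
  have hi' : i < 2 * WeilCoh.dim X.obj.left + 1 := Finset.mem_range.mp hi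
  have hC : ((LinearEquiv.ofEq _ (T.gr X (i : ℤ)) (congrArg (T.gr X) (hdim' (i : ℤ)))).toLinearMap ∘ₗ
      ((T.push q (((i : ℤ) + (2 * (WeilCoh.dim X.obj.left : ℤ) + 0) + 2 * (WeilCoh.dim X.obj.left : ℤ) - 2 * (WeilCoh.dim P.obj.left : ℤ)) + (2 * (WeilCoh.dim X.obj.left : ℤ) - 0))) ∘ₗ ((LinearMap.mulRight K (w : T.H P)).restrict (p := T.gr P ((i : ℤ) + (2 * (WeilCoh.dim X.obj.left : ℤ) + 0) + 2 * (WeilCoh.dim X.obj.left : ℤ) - 2 * (WeilCoh.dim P.obj.left : ℤ))) (q := T.gr P (((i : ℤ) + (2 * (WeilCoh.dim X.obj.left : ℤ) + 0) + 2 * (WeilCoh.dim X.obj.left : ℤ) - 2 * (WeilCoh.dim P.obj.left : ℤ)) + (2 * (WeilCoh.dim X.obj.left : ℤ) - 0))) (fun y hy => SetLike.mul_mem_graded hy (mem_of_eq T (by ring) w.2))) ∘ₗ (T.pullDeg p ((i : ℤ) + (2 * (WeilCoh.dim X.obj.left : ℤ) + 0) + 2 * (WeilCoh.dim X.obj.left : ℤ) - 2 * (WeilCoh.dim P.obj.left : ℤ)))) ∘ₗ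
      ((T.push q ((i : ℤ) + (2 * (WeilCoh.dim X.obj.left : ℤ) + 0))) ∘ₗ ((LinearMap.mulRight K (u : T.H P)).restrict (p := T.gr P (i : ℤ)) (q := T.gr P ((i : ℤ) + (2 * (WeilCoh.dim X.obj.left : ℤ) + 0))) (fun x hx => SetLike.mul_mem_graded hx (mem_of_eq T (by ring) u.2))) ∘ₗ (T.pullDeg p (i : ℤ)))) =
      fam k K T p q hdim w ⟨i, hi'⟩ * fam k K T p q hdim u ⟨i, hi'⟩ := by
    apply LinearMap.ext
    intro x
    apply Subtype.ext
    simp only [fam, LinearMap.comp_apply, Module.End.mul_apply, LinearEquiv.coe_coe,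
      LinearEquiv.coe_ofEq_apply]
    refine Groth.Agent.S19415.push_congr k K T q _ _ (by rw [hdP]; push_cast; ring) _ _ ?_
    show T.pull p _ * (w : T.H P) = T.pull p _ * (w : T.H P)
    congr 2
  rw [hC, htr ⟨i, hi'⟩, mul_zero]

end Groth.Agent.S19418
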