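import Groth.Statements.S19422
import Mathlib.RingTheory.MvPolynomial.Homogeneous
import Mathlib.Tactic

set_option autoImplicit false
universe u
open TensorProduct LaurentPolynomial
open GIT

namespace Groth.Agent.S19422

section
variable {k : Type u} [Field k] {ι : Type u} [Fintype ι]
  [HopfRep.Comod k k[T;T⁻¹] (MvPolynomial ι k)] [GLin.IsCoactAlg k k[T;T⁻¹] (MvPolynomial ι k)]
  (r : ι → ℤ)

/-- the weight of a monomial -/
def wt (m : ι →₀ ℕ) : ℤ := ∑ i, (m i : ℤ) * r i

theorem wt_zero : wt r (0 : ι →₀ ℕ) = 0 := by simp [wt]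

theorem wt_add (m m' : ι →₀ ℕ) : wt r (m + m') = wt r m + wt r m' := by
  simp only [wt, Finsupp.add_apply, Nat.cast_add, add_mul, Finset.sum_add_distrib]

theorem wt_single (i : ι) (n : ℕ) : wt r (Finsupp.single i n) = (n : ℤ) * r i := by
  classical
  simp only [wt, Finsupp.single_apply]
  rw [Finset.sum_eq_single i]
  · simp
  · intro j _ hj; simp [Ne.symm hj]
  · intro h; exact absurd (Finset.mem_univ i) h

theorem coact_monomial
    (hr : ∀ i : ι, HopfRep.Comod.coact (k := k) (A := k[T;T⁻¹]) (MvPolynomial.X i : MvPolynomial ι k) =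
      (MvPolynomial.X i : MvPolynomial ι k) ⊗ₜ[k] (T (r i) : k[T;T⁻¹])) (m : ι →₀ ℕ) :
    HopfRep.Comod.coact (k := k) (A := k[T;T⁻¹]) (MvPolynomial.monomial m (1 : k)) =
      (MvPolynomial.monomial m (1 : k)) ⊗ₜ[k] (T (wt r m) : k[T;T⁻¹]) := by
  induction m using Finsupp.induction_linear with
  | zero =>
    rw [wt_zero, LaurentPolynomial.T_zero]
    have : (MvPolynomial.monomial (0 : ι →₀ ℕ) (1 : k)) = 1 := rfl
    rw [this, GLin.IsCoactAlg.coact_one (k := k) (A := k[T;T⁻¹]), Algebra.TensorProduct.one_def]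
  | add f g hf hg =>
    have : MvPolynomial.monomial (f + g) (1 : k) = MvPolynomial.monomial f 1 * MvPolynomial.monomial g 1 := by
      rw [MvPolynomial.monomial_mul, one_mul]
    rw [this, GLin.IsCoactAlg.coact_mul, hf, hg, Algebra.TensorProduct.tmul_mul_tmul, wt_add,
      LaurentPolynomial.T_add]
  | single i n =>
    rw [← MvPolynomial.X_pow_eq_monomial]
    have := map_pow (GLin.coactAlgHom k k[T;T⁻¹] (MvPolynomial ι k)) (MvPolynomial.X i) n
    simp only [GLin.coactAlgHom_apply] at this
    rw [this, hr, Algebra.TensorProduct.tmul_pow, LaurentPolynomial.T_pow, wt_single]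

/-- coefficient functional tensored with the Laurent ring -/
noncomputable def Lm (m : ι →₀ ℕ) : (MvPolynomial ι k) ⊗[k] k[T;T⁻¹] →ₗ[k] k[T;T⁻¹] :=
  (TensorProduct.lid k k[T;T⁻¹]).toLinearMap ∘ₗ (MvPolynomial.lcoeff k m).rTensor k[T;T⁻¹]

theorem Lm_tmul (m : ι →₀ ℕ) (p : MvPolynomial ι k) (a : k[T;T⁻¹]) :
    Lm m (p ⊗ₜ[k] a) = (MvPolynomial.coeff m p) • a := by
  simp [Lm]

theorem wt_eq_zero_of_invariant
    (hr : ∀ i : ι, HopfRep.Comod.coact (k := k) (A := k[T;T⁻¹]) (MvPolynomial.X i : MvPolynomial ι k) =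
      (MvPolynomial.X i : MvPolynomial ι k) ⊗ₜ[k] (T (r i) : k[T;T⁻¹]))
    (F : MvPolynomial ι k) (hF : F ∈ GLin.invariants k k[T;T⁻¹] (MvPolynomial ι k))
    (m : ι →₀ ℕ) (hm : MvPolynomial.coeff m F ≠ 0) : wt r m = 0 := by
  classical
  rw [GLin.mem_invariants_iff] at hF
  have h1 : HopfRep.Comod.coact (k := k) (A := k[T;T⁻¹]) F =
      ∑ m' ∈ F.support, (MvPolynomial.coeff m' F) •
        ((MvPolynomial.monomial m' (1 : k)) ⊗ₜ[k] (T (wt r m') : k[T;T⁻¹])) := by
    conv_lhs => rw [MvPolynomial.as_sum F]
    rw [map_sum]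
    apply Finset.sum_congr rfl
    intro m' _
    have : MvPolynomial.monomial m' (MvPolynomial.coeff m' F) =
        (MvPolynomial.coeff m' F) • MvPolynomial.monomial m' (1 : k) := by
      rw [MvPolynomial.smul_monomial, smul_eq_mul, mul_one]
    rw [this, map_smul, coact_monomial r hr]
  have h2 := congrArg (Lm m) hF
  rw [h1, map_sum, Lm_tmul] at h2
  simp only [map_smul, Lm_tmul, MvPolynomial.coeff_monomial] at h2
  rw [Finset.sum_eq_single m] at h2
  · simp only [if_true, one_smul] at h2
    have h3 : (T (wt r m) : k[T;T⁻¹]) = 1 := by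
      have := congrArg (fun z => (MvPolynomial.coeff m F)⁻¹ • z) h2
      simpa [smul_smul, inv_mul_cancel₀ hm] using this
    rw [← LaurentPolynomial.T_zero] at h3
    have h4 := congrArg (fun z : k[T;T⁻¹] => z.coeff 0) h3
    simp only [LaurentPolynomial.T_apply] at h4
    by_contra hne
    rw [if_neg hne] at h4
    simp at h4
  · intro m' _ hne
    rw [if_neg hne, zero_smul, smul_zero]
  · intro hnot
    exact absurd (MvPolynomial.mem_support_iff.mpr hm) hnot

end

/-- Over an algebraically closed field k, let the multiplicative group, whose coordinate Hopf algebra is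
the Laurent polynomial ring, act diagonally on affine ι-space, ι finite: the coaction on the
polynomial ring is multiplicative and sends the coordinate function X_i to X_i ⊗ T^(r_i) for
integers r_i. Then a vector v is semistable (some invariant homogeneous polynomial of positive
degree does not vanish at v) if and only if there are indices i and j, possibly equal, with v_i ≠ 0,
v_j ≠ 0 and r_i ≤ 0 ≤ r_j, i.e. the origin lies in the convex hull of the weights of v. (Stated for
the ambient projective space on its affine cone; the published statement is for a point of a closed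
invariant subvariety, whose semistability is that of the point in the ambient space.) -/
theorem result (k : Type u) [Field k] [IsAlgClosed k]
    (ι : Type u) [Fintype ι] [HopfRep.Comod k k[T;T⁻¹] (MvPolynomial ι k)] [GLin.IsCoactAlg k k[T;T⁻¹] (MvPolynomial ι k)]
    (r : ι → ℤ)
    (hr : ∀ i : ι, HopfRep.Comod.coact (k := k) (A := k[T;T⁻¹]) (MvPolynomial.X i : MvPolynomial ι k) =
      (MvPolynomial.X i : MvPolynomial ι k) ⊗ₜ[k] (T (r i) : k[T;T⁻¹]))
    (v : ι → k) :
    GLin.IsSemistableVec k k[T;T⁻¹] v ↔ ∃ i j : ι, v i ≠ 0 ∧ v j ≠ 0 ∧ r i ≤ 0 ∧ 0 ≤ r j := by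
  classical
  constructor
  · intro hss
    unfold GLin.IsSemistableVec GLin.IsNullform at hss
    push Not at hss
    obtain ⟨F, hF, d, hd, hhom, hev⟩ := hss
    rw [MvPolynomial.eval_eq] at hev
    obtain ⟨m, hm, hne⟩ := Finset.exists_ne_zero_of_sum_ne_zero hev
    have hcoeff : MvPolynomial.coeff m F ≠ 0 := MvPolynomial.mem_support_iff.mp hm
    have hprod : ∏ i ∈ m.support, v i ^ m i ≠ 0 := right_ne_zero_of_mul hne
    have hv : ∀ i ∈ m.support, v i ≠ 0 := by
      intro i hi hvi
      apply hprod
      apply Finset.prod_eq_zero hi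
      rw [hvi, zero_pow (Finsupp.mem_support_iff.mp hi)]
    have hw := wt_eq_zero_of_invariant r hr F hF m hcoeff
    have hdeg : m.degree = d := by
      by_contra hne'
      exact hcoeff (hhom.coeff_eq_zero hne')
    have hm0 : m ≠ 0 := by
      intro h0
      rw [h0] at hdeg
      simp at hdeg
      omega
    have hsupp : m.support.Nonempty := Finsupp.support_nonempty_iff.mpr hm0
    have hw' : ∑ i ∈ m.support, (m i : ℤ) * r i = 0 := by
      rw [← hw, wt]
      apply Finset.sum_subset (Finset.subset_univ _)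
      intro i _ hi
      rw [Finsupp.notMem_support_iff.mp hi]
      simp
    have hpos : ∀ i ∈ m.support, (0 : ℤ) < m i := by
      intro i hi
      have := Finsupp.mem_support_iff.mp hi
      positivity
    have h1 : ∃ i ∈ m.support, r i ≤ 0 := by
      by_contra hcon
      push Not at hcon
      have : 0 < ∑ i ∈ m.support, (m i : ℤ) * r i :=
        Finset.sum_pos (fun i hi => mul_pos (hpos i hi) (hcon i hi)) hsupp
      omega
    have h2 : ∃ j ∈ m.support, 0 ≤ r j := by
      by_contra hcon
      push Not at hcon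
      have : ∑ i ∈ m.support, (m i : ℤ) * r i < 0 :=
        Finset.sum_neg (fun i hi => mul_neg_of_pos_of_neg (hpos i hi) (hcon i hi)) hsupp
      omega
    obtain ⟨i, hi, hri⟩ := h1
    obtain ⟨j, hj, hrj⟩ := h2
    exact ⟨i, j, hv i hi, hv j hj, hri, hrj⟩
  · rintro ⟨i, j, hvi, hvj, hri, hrj⟩
    unfold GLin.IsSemistableVec GLin.IsNullform
    push Not
    by_cases hcase : r j - r i = 0
    · have hri0 : r i = 0 := by omega
      refine ⟨MvPolynomial.X i, ?_, 1, one_pos, MvPolynomial.isHomogeneous_X k i, by simpa using hvi⟩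
      rw [GLin.mem_invariants_iff, hr, hri0, LaurentPolynomial.T_zero]
    · set a : ℕ := (r j).toNat with ha
      set b : ℕ := (- r i).toNat with hb
      have ha' : (a : ℤ) = r j := Int.toNat_of_nonneg hrj
      have hb' : (b : ℤ) = - r i := Int.toNat_of_nonneg (by omega)
      set m : ι →₀ ℕ := Finsupp.single i a + Finsupp.single j b with hm
      have hwm : wt r m = 0 := by
        rw [hm, wt_add, wt_single, wt_single, ha', hb']
        ring
      refine ⟨MvPolynomial.monomial m 1, ?_, a + b, by omega, ?_, ?_⟩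
      · rw [GLin.mem_invariants_iff, coact_monomial r hr, hwm, LaurentPolynomial.T_zero]
      · apply MvPolynomial.isHomogeneous_monomial
        rw [hm, map_add, Finsupp.degree_single, Finsupp.degree_single]
      · rw [MvPolynomial.eval_monomial, one_mul, hm, Finsupp.prod_add_index' (by simp) (by intro _ _ _; rw [pow_add]),
          Finsupp.prod_single_index (h := fun n e => v n ^ e) (pow_zero _),
          Finsupp.prod_single_index (h := fun n e => v n ^ e) (pow_zero _)]
        exact mul_ne_zero (pow_ne_zero _ hvi) (pow_ne_zero _ hvj)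

end Groth.Agent.S19422
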