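import Groth.Statements.S19423
import Groth.Agent.Lib.helper29.MuLaurent
import Mathlib.RingTheory.Polynomial.Basic
import Mathlib.RingTheory.IntegralClosure.Algebra.Basic
import Mathlib.RingTheory.IntegralClosure.IsIntegralClosure.Basic

set_option autoImplicit false
universe u
open TensorProduct LaurentPolynomial
open GIT

namespace Groth.Agent.S19423

open Groth.Agent.Lib.helper29.MuLaurent

section
variable {k : Type u} [Field k]

theorem adjoin_T_eq_top : Algebra.adjoin k ({T 1, T (-1)} : Set k[T;T⁻¹]) = ⊤ := by
  rw [eq_top_iff]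
  intro f hf
  clear hf
  induction f using LaurentPolynomial.induction_on' with
  | add p q hp hq => exact Subalgebra.add_mem _ hp hq
  | C_mul_T n a =>
    apply Subalgebra.mul_mem
    · rw [LaurentPolynomial.C_eq_algebraMap]; exact Subalgebra.algebraMap_mem _ _
    · rcases Int.le_total 0 n with hn | hn
      · obtain ⟨m, rfl⟩ := Int.eq_ofNat_of_zero_le hn
        have : (T (m : ℤ) : k[T;T⁻¹]) = T 1 ^ m := by rw [LaurentPolynomial.T_pow]; simp
        rw [this]
        exact Subalgebra.pow_mem _ (Algebra.subset_adjoin (by simp)) _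
      · obtain ⟨m, hm⟩ := Int.eq_ofNat_of_zero_le (neg_nonneg.mpr hn)
        have : (T n : k[T;T⁻¹]) = T (-1) ^ m := by
          rw [LaurentPolynomial.T_pow]; congr 1; omega
        rw [this]
        exact Subalgebra.pow_mem _ (Algebra.subset_adjoin (by simp)) _

theorem not_finite_laurent : ¬ Module.Finite k k[T;T⁻¹] := by
  intro h
  have hinj : Function.Injective (Polynomial.toLaurentAlg (R := k)).toLinearMap := by
    intro a b hab
    exact Polynomial.toLaurent_injective hab
  haveI : Module.Finite k (Polynomial k) := Module.Finite.of_injective _ hinj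
  exact Polynomial.not_finite (R := k) this

end

section
variable {k : Type u} [Field k] {ι : Type u} [Fintype ι]
  [HopfRep.Comod k k[T;T⁻¹] (MvPolynomial ι k)] [GLin.IsCoactAlg k k[T;T⁻¹] (MvPolynomial ι k)]

theorem orbit_X (r : ι → ℤ)
    (hr : ∀ i : ι, HopfRep.Comod.coact (k := k) (A := k[T;T⁻¹]) (MvPolynomial.X i : MvPolynomial ι k) =
      (MvPolynomial.X i : MvPolynomial ι k) ⊗ₜ[k] (T (r i) : k[T;T⁻¹]))
    (v : ι → k) (i : ι) :
    GLin.orbitHom k k[T;T⁻¹] (GLin.vecPt k ι v) (MvPolynomial.X i) = v i • (T (r i) : k[T;T⁻¹]) := by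
  rw [orbitHom_eq_smul_of_coact _ _ _ (hr i)]
  simp

/-- the orbit is not closed when it degenerates along a polynomial curve -/
theorem not_closed (v : ι → k) (s : ι → ℕ) (ψ : Polynomial k →ₐ[k] k[T;T⁻¹])
    (hψ : Function.Injective ψ) (u : ι → k[T;T⁻¹]) (hu : ∀ i, v i ≠ 0 → IsUnit (u i))
    (hΦ : ∀ i, GLin.orbitHom k k[T;T⁻¹] (GLin.vecPt k ι v) (MvPolynomial.X i) = u i)
    (hfac : ∀ i, u i = ψ (Polynomial.C (v i) * Polynomial.X ^ s i))
    (j : ι) (hvj : v j ≠ 0) (hsj : 0 < s j) :
    ¬ GLin.IsClosedOrbit k k[T;T⁻¹] (GLin.vecPt k ι v) := by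
  intro hclosed
  unfold GLin.IsClosedOrbit at hclosed
  set Φ := GLin.orbitHom k k[T;T⁻¹] (GLin.vecPt k ι v) with hΦdef
  let h : MvPolynomial ι k →ₐ[k] Polynomial k :=
    MvPolynomial.aeval fun i => Polynomial.C (v i) * Polynomial.X ^ s i
  have hcomp : Φ = ψ.comp h := by
    apply MvPolynomial.algHom_ext
    intro i
    rw [hΦ, hfac, AlgHom.comp_apply]
    congr 1
    exact (MvPolynomial.aeval_X (R := k) (S₁ := Polynomial k)
      (fun i => Polynomial.C (v i) * Polynomial.X ^ s i) i).symm
  let y : MvPolynomial ι k →ₐ[k] k := (Polynomial.aeval (0 : k)).comp h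
  have hker : RingHom.ker Φ.toRingHom ≤ RingHom.ker y.toRingHom := by
    intro f hf
    rw [RingHom.mem_ker] at hf ⊢
    have hf' : ψ (h f) = 0 := by
      have : Φ f = 0 := hf
      rw [hcomp] at this; exact this
    have : h f = 0 := hψ (by rw [hf', map_zero])
    show (Polynomial.aeval (0 : k)) (h f) = 0
    rw [this, map_zero]
  have hymax : (RingHom.ker y.toRingHom).IsPrime := RingHom.ker_isPrime _
  let m₀ : PrimeSpectrum (MvPolynomial ι k) := ⟨RingHom.ker y.toRingHom, hymax⟩
  have hmem : m₀ ∈ closure (Set.range (PrimeSpectrum.comap Φ.toRingHom)) := by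
    rw [PrimeSpectrum.closure_range_comap]
    exact hker
  rw [hclosed.closure_eq] at hmem
  obtain ⟨q, hq⟩ := hmem
  have hXj : (MvPolynomial.X j : MvPolynomial ι k) ∈ m₀.asIdeal := by
    show y.toRingHom (MvPolynomial.X j) = 0
    show (Polynomial.aeval (0 : k)) (h (MvPolynomial.X j)) = 0
    have : h (MvPolynomial.X j) = Polynomial.C (v j) * Polynomial.X ^ s j := MvPolynomial.aeval_X _ j
    rw [this]
    simp [hsj.ne']
  rw [← hq] at hXj
  have hq1 : Φ (MvPolynomial.X j) ∈ q.asIdeal := hXj
  rw [hΦ] at hq1
  exact q.2.ne_top (Ideal.eq_top_of_isUnit_mem _ hq1 (hu j hvj))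

end

theorem aux (k : Type u) [Field k] [IsAlgClosed k]
    (ι : Type u) [Fintype ι] [HopfRep.Comod k k[T;T⁻¹] (MvPolynomial ι k)] [GLin.IsCoactAlg k k[T;T⁻¹] (MvPolynomial ι k)]
    (r : ι → ℤ)
    (hr : ∀ i : ι, HopfRep.Comod.coact (k := k) (A := k[T;T⁻¹]) (MvPolynomial.X i : MvPolynomial ι k) =
      (MvPolynomial.X i : MvPolynomial ι k) ⊗ₜ[k] (T (r i) : k[T;T⁻¹]))
    (v : ι → k) :
    GLin.IsStableVec k k[T;T⁻¹] v ↔ ∃ i j : ι, v i ≠ 0 ∧ v j ≠ 0 ∧ r i < 0 ∧ 0 < r j := by
  set Φ := GLin.orbitHom k k[T;T⁻¹] (GLin.vecPt k ι v) with hΦdef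
  have hΦX : ∀ i, Φ (MvPolynomial.X i) = v i • (T (r i) : k[T;T⁻¹]) := orbit_X r hr v
  have hunitT : ∀ n : ℤ, IsUnit (T n : k[T;T⁻¹]) := LaurentPolynomial.isUnit_T
  have hunit : ∀ i, v i ≠ 0 → IsUnit (v i • (T (r i) : k[T;T⁻¹])) := by
    intro i hi
    rw [LaurentPolynomial.smul_eq_C_mul]
    refine IsUnit.mul ?_ (hunitT _)
    rw [LaurentPolynomial.C_eq_algebraMap]
    exact (IsUnit.mk0 _ hi).map _
  constructor
  · rintro ⟨hclosed, hfin⟩
    by_contra hne
    push Not at hne
    by_cases h1 : ∃ j, v j ≠ 0 ∧ 0 < r j
    · obtain ⟨j, hvj, hrj⟩ := h1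
      have hall : ∀ i, v i ≠ 0 → 0 ≤ r i := by
        intro i hi
        by_contra hlt
        exact absurd hrj (not_lt.mpr (hne i j hi hvj (by omega)))
      refine not_closed v (fun i => (r i).toNat) (Polynomial.toLaurentAlg (R := k))
        Polynomial.toLaurent_injective (fun i => v i • (T (r i) : k[T;T⁻¹])) hunit hΦX ?_ j hvj
        (by simpa using hrj) hclosed
      intro i
      rw [Polynomial.toLaurentAlg_apply, map_mul, Polynomial.toLaurent_C, map_pow,
        Polynomial.toLaurent_X, LaurentPolynomial.T_pow, LaurentPolynomial.smul_eq_C_mul]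
      by_cases hi : v i = 0
      · rw [hi]; simp
      · congr 2
        have := hall i hi
        rw [mul_one]
        exact (Int.toNat_of_nonneg this).symm
    · push Not at h1
      by_cases h2 : ∃ j, v j ≠ 0 ∧ r j < 0
      · obtain ⟨j, hvj, hrj⟩ := h2
        have hall : ∀ i, v i ≠ 0 → r i ≤ 0 := fun i hi => h1 i hi
        refine not_closed v (fun i => (-r i).toNat)
          ((LaurentPolynomial.invert (R := k) : k[T;T⁻¹] →ₐ[k] k[T;T⁻¹]).comp
            (Polynomial.toLaurentAlg (R := k)))
          ?_ (fun i => v i • (T (r i) : k[T;T⁻¹])) hunit hΦX ?_ j hvj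
          (by simp only [Int.lt_toNat, Nat.cast_zero]; omega) hclosed
        · intro a b hab
          simp only [AlgHom.comp_apply, AlgEquiv.coe_toAlgHom] at hab
          exact Polynomial.toLaurent_injective (LaurentPolynomial.invert.injective hab)
        · intro i
          rw [AlgHom.comp_apply, Polynomial.toLaurentAlg_apply, map_mul, Polynomial.toLaurent_C,
            map_pow, Polynomial.toLaurent_X, LaurentPolynomial.T_pow, LaurentPolynomial.smul_eq_C_mul]
          show _ = LaurentPolynomial.invert (R := k) _
          rw [map_mul, LaurentPolynomial.invert_C, LaurentPolynomial.invert_T]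
          by_cases hi : v i = 0
          · rw [hi]; simp
          · congr 2
            have := hall i hi
            rw [mul_one, Int.toNat_of_nonneg (by omega)]
            omega
      · push Not at h2
        -- all weights on the support vanish: the stabiliser is everything
        have hzero : ∀ i, v i ≠ 0 → r i = 0 := fun i hi => le_antisymm (h1 i hi) (h2 i hi)
        have hΦeq : Φ = (Algebra.ofId k k[T;T⁻¹]).comp (GLin.vecPt k ι v) := by
          apply MvPolynomial.algHom_ext
          intro i
          rw [hΦX, AlgHom.comp_apply, MvPolynomial.aeval_X]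
          by_cases hi : v i = 0
          · rw [hi]; simp
          · rw [hzero i hi, LaurentPolynomial.T_zero, Algebra.ofId_apply,
              Algebra.algebraMap_eq_smul_one]
        have hstab : GLin.stabIdeal k k[T;T⁻¹] (GLin.vecPt k ι v) = ⊥ := by
          unfold GLin.stabIdeal
          rw [eq_bot_iff, Ideal.map_le_iff_le_comap]
          intro f hf
          rw [Ideal.mem_comap, Ideal.mem_bot]
          show Φ f = 0
          rw [hΦeq, AlgHom.comp_apply]
          have : (GLin.vecPt k ι v) f = 0 := hf
          rw [this, map_zero]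
        unfold GLin.HasFiniteStab at hfin
        rw [hstab] at hfin
        apply not_finite_laurent (k := k)
        have hinj : Function.Injective (Ideal.Quotient.mkₐ k (⊥ : Ideal k[T;T⁻¹])).toLinearMap := by
          intro a b hab
          have : Ideal.Quotient.mk (⊥ : Ideal k[T;T⁻¹]) a = Ideal.Quotient.mk ⊥ b := hab
          rw [Ideal.Quotient.eq, Ideal.mem_bot, sub_eq_zero] at this
          exact this
        exact Module.Finite.of_injective _ hinj
  · rintro ⟨i, j, hvi, hvj, hri, hrj⟩
    have hTj : (T (r j) : k[T;T⁻¹]) = Φ ((v j)⁻¹ • MvPolynomial.X j) := by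
      rw [map_smul, hΦX, smul_smul, inv_mul_cancel₀ hvj, one_smul]
    have hTi : (T (r i) : k[T;T⁻¹]) = Φ ((v i)⁻¹ • MvPolynomial.X i) := by
      rw [map_smul, hΦX, smul_smul, inv_mul_cancel₀ hvi, one_smul]
    refine ⟨?_, ?_⟩
    · -- closed orbit: the orbit map is integral
      unfold GLin.IsClosedOrbit
      rw [← hΦdef]
      have hint : Φ.toRingHom.IsIntegral := by
        letI : Algebra (MvPolynomial ι k) k[T;T⁻¹] := Φ.toRingHom.toAlgebra
        have halg : ∀ f, algebraMap (MvPolynomial ι k) k[T;T⁻¹] f = Φ f := fun f => rfl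
        have h1 : IsIntegral (MvPolynomial ι k) (T 1 : k[T;T⁻¹]) := by
          apply IsIntegral.of_pow (n := (r j).toNat) (by simpa using hrj)
          rw [LaurentPolynomial.T_pow, mul_one, Int.toNat_of_nonneg hrj.le, hTj, ← halg]
          exact isIntegral_algebraMap
        have h2 : IsIntegral (MvPolynomial ι k) (T (-1) : k[T;T⁻¹]) := by
          apply IsIntegral.of_pow (n := (-r i).toNat) (by simp only [Int.lt_toNat, Nat.cast_zero]; omega)
          rw [LaurentPolynomial.T_pow, Int.toNat_of_nonneg (by omega)]
          have : -r i * -1 = r i := by ring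
          rw [this, hTi, ← halg]
          exact isIntegral_algebraMap
        have hall : ∀ a : k[T;T⁻¹], IsIntegral (MvPolynomial ι k) a := by
          intro a
          induction a using LaurentPolynomial.induction_on' with
          | add p q hp hq => exact hp.add hq
          | C_mul_T n a =>
            apply IsIntegral.mul
            · have : (LaurentPolynomial.C a : k[T;T⁻¹]) = algebraMap (MvPolynomial ι k) k[T;T⁻¹] (MvPolynomial.C a) := by
                rw [halg]
                show _ = Φ (algebraMap k _ a)
                rw [AlgHom.commutes, LaurentPolynomial.C_eq_algebraMap]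
              rw [this]
              exact isIntegral_algebraMap
            · rcases Int.le_total 0 n with hn | hn
              · obtain ⟨m, rfl⟩ := Int.eq_ofNat_of_zero_le hn
                have : (T (m : ℤ) : k[T;T⁻¹]) = T 1 ^ m := by rw [LaurentPolynomial.T_pow]; simp
                rw [this]
                exact h1.pow m
              · obtain ⟨m, hm⟩ := Int.eq_ofNat_of_zero_le (neg_nonneg.mpr hn)
                have : (T n : k[T;T⁻¹]) = T (-1) ^ m := by
                  rw [LaurentPolynomial.T_pow]; congr 1; omega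
                rw [this]
                exact h2.pow m
        exact hall
      have := PrimeSpectrum.isClosedMap_comap_of_isIntegral Φ.toRingHom hint
      rw [← Set.image_univ]
      exact this _ isClosed_univ
    · -- finite stabiliser
      unfold GLin.HasFiniteStab GLin.stabIdeal
      rw [← hΦdef]
      set I := Ideal.map Φ (RingHom.ker (GLin.vecPt k ι v)) with hI
      have hmem : (T (r j) : k[T;T⁻¹]) - 1 ∈ I := by
        have h1 : (MvPolynomial.X j - MvPolynomial.C (v j) : MvPolynomial ι k) ∈
            RingHom.ker (GLin.vecPt k ι v) := by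
          rw [RingHom.mem_ker]
          simp
        have h2 : Φ (MvPolynomial.X j - MvPolynomial.C (v j)) ∈ I := Ideal.mem_map_of_mem _ h1
        have h3 : Φ (MvPolynomial.X j - MvPolynomial.C (v j)) = v j • ((T (r j) : k[T;T⁻¹]) - 1) := by
          rw [map_sub, hΦX, smul_sub]
          congr 1
          show Φ (algebraMap k _ (v j)) = _
          rw [AlgHom.commutes, Algebra.algebraMap_eq_smul_one]
        rw [h3] at h2
        have h4 := I.mul_mem_left (LaurentPolynomial.C (v j)⁻¹) h2
        rw [LaurentPolynomial.smul_eq_C_mul, ← mul_assoc, ← map_mul, inv_mul_cancel₀ hvj, map_one,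
          one_mul] at h4
        exact h4
      let q := Ideal.Quotient.mkₐ k I
      have hqs : Function.Surjective q := Ideal.Quotient.mkₐ_surjective k I
      have hq1 : q (T (r j)) = 1 := by
        have : q ((T (r j) : k[T;T⁻¹]) - 1) = 0 := by
          show Ideal.Quotient.mk I _ = 0
          exact Ideal.Quotient.eq_zero_iff_mem.mpr hmem
        rw [map_sub, map_one, sub_eq_zero] at this
        exact this
      have hq2 : q (T (-r j)) = 1 := by
        have : (T (-r j) : k[T;T⁻¹]) * T (r j) = 1 := by
          rw [← LaurentPolynomial.T_add]; simp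
        have h := congrArg q this
        rw [map_mul, hq1, mul_one, map_one] at h
        exact h
      have hi1 : IsIntegral k (q (T 1)) := by
        apply IsIntegral.of_pow (n := (r j).toNat) (by simpa using hrj)
        rw [← map_pow, LaurentPolynomial.T_pow, mul_one, Int.toNat_of_nonneg hrj.le, hq1]
        exact isIntegral_one
      have hi2 : IsIntegral k (q (T (-1))) := by
        apply IsIntegral.of_pow (n := (r j).toNat) (by simpa using hrj)
        rw [← map_pow, LaurentPolynomial.T_pow, Int.toNat_of_nonneg hrj.le]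
        have : r j * -1 = -r j := by ring
        rw [this, hq2]
        exact isIntegral_one
      have hfg := fg_adjoin_of_finite (R := k) (s := q '' ({T 1, T (-1)} : Set k[T;T⁻¹]))
        ((Set.toFinite _).image _) (by
          rintro _ ⟨a, ha, rfl⟩
          rcases ha with rfl | ha
          · exact hi1
          · rw [Set.mem_singleton_iff] at ha; rw [ha]; exact hi2)
      rw [← AlgHom.map_adjoin, adjoin_T_eq_top, Algebra.map_top,
        (AlgHom.range_eq_top q).mpr hqs, Algebra.top_toSubmodule] at hfg
      exact Module.finite_def.mpr hfg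

/-- Over an algebraically closed field k, let the multiplicative group, whose coordinate Hopf algebra is
the Laurent polynomial ring, act diagonally on affine ι-space, ι finite: the coaction on the
polynomial ring is multiplicative and sends the coordinate function X_i to X_i ⊗ T^(r_i) for
integers r_i. Then a vector v is stable (the orbit of the point v of affine space is closed and its
stabiliser is a finite group scheme) if and only if there are indices i and j with v_i ≠ 0, v_j ≠ 0
and r_i < 0 < r_j, i.e. the origin is an interior point of the convex hull of the weights of v.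
(Stated for the ambient projective space on its affine cone, where stability means a closed orbit
with finite stabiliser in the cone.) -/
theorem result (k : Type u) [Field k] [IsAlgClosed k]
    (ι : Type u) [Fintype ι] [HopfRep.Comod k k[T;T⁻¹] (MvPolynomial ι k)] [GLin.IsCoactAlg k k[T;T⁻¹] (MvPolynomial ι k)]
    (r : ι → ℤ)
    (hr : ∀ i : ι, HopfRep.Comod.coact (k := k) (A := k[T;T⁻¹]) (MvPolynomial.X i : MvPolynomial ι k) =
      (MvPolynomial.X i : MvPolynomial ι k) ⊗ₜ[k] (T (r i) : k[T;T⁻¹]))
    (v : ι → k) :
    GLin.IsStableVec k k[T;T⁻¹] v ↔ ∃ i j : ι, v i ≠ 0 ∧ v j ≠ 0 ∧ r i < 0 ∧ 0 < r j := by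
  exact aux k ι r hr v

end Groth.Agent.S19423
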