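import Groth.Statements.S19436
import Mathlib.Tactic
import Mathlib.RingTheory.Nakayama

set_option autoImplicit false
universe u
open CAlg

namespace Groth.Agent.S19436

/-- For a Noetherian local commutative algebra R over a field k, with maximal ideal M, and an ideal I of
R whose quotient R/I is finite-dimensional over k of dimension n, the power M^n lies in I. -/
theorem result (k : Type u) [Field k] (R : Type u) [CommRing R]
    [Algebra k R] [IsNoetherianRing R] [IsLocalRing R] (I : Ideal R) [Module.Finite k (R ⧸ I)] (n : ℕ)
    (hn : Module.finrank k (R ⧸ I) = n) : IsLocalRing.maximalIdeal R ^ n ≤ I := by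
  classical
  set M := IsLocalRing.maximalIdeal R with hMdef
  by_contra hcon
  -- K i = M^i ⊔ I
  let K : ℕ → Ideal R := fun i => M ^ i ⊔ I
  have hKI : ∀ i, I ≤ K i := fun i => le_sup_right
  have hKanti : ∀ i, K (i + 1) ≤ K i := by
    intro i
    exact sup_le_sup_right (Ideal.pow_le_pow_right (Nat.le_succ i)) I
  have hnot : ∀ i, i ≤ n → ¬ M ^ i ≤ I := by
    intro i hi h
    exact hcon ((Ideal.pow_le_pow_right hi).trans h)
  have hKne : ∀ i, i ≤ n → ¬ K i ≤ K (i + 1) := by
    intro i hi h
    apply hnot i hi
    have hfg : (M ^ i : Ideal R).FG := IsNoetherian.noetherian _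
    have hjac : M ≤ Ideal.jacobson ⊥ := by
      rw [IsLocalRing.jacobson_eq_maximalIdeal ⊥ bot_ne_top]
    refine Submodule.le_of_le_smul_of_le_jacobson_bot (I := M) (N := I) (N' := M ^ i) hfg hjac ?_
    have : M ^ i ≤ K (i + 1) := le_sup_left.trans h
    simpa [K, pow_succ', smul_eq_mul, sup_comm] using this
  -- images in the quotient
  let S : ℕ → Submodule k (R ⧸ I) := fun i =>
    Submodule.map (Ideal.Quotient.mkₐ k I).toLinearMap ((K i).restrictScalars k)
  have hSanti : ∀ i, S (i + 1) ≤ S i := by
    intro i
    apply Submodule.map_mono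
    intro x hx
    exact hKanti i hx
  have hSlt : ∀ i, i ≤ n → S (i + 1) < S i := by
    intro i hi
    refine lt_of_le_of_ne (hSanti i) ?_
    intro heq
    apply hKne i hi
    intro x hx
    have hx' : (Ideal.Quotient.mkₐ k I).toLinearMap x ∈ S i := ⟨x, hx, rfl⟩
    rw [← heq] at hx'
    obtain ⟨y, hy, hyx⟩ := hx'
    have hxy : x - y ∈ I := by
      have : (Ideal.Quotient.mk I) y = (Ideal.Quotient.mk I) x := hyx
      rw [← Ideal.Quotient.eq]; exact this.symm
    have : x = (x - y) + y := by ring
    rw [this]
    exact Ideal.add_mem _ (hKI _ hxy) hy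
  have hbound : ∀ i, i ≤ n + 1 → Module.finrank k (S i) + i ≤ n := by
    intro i
    induction i with
    | zero =>
      intro _
      have : S 0 = ⊤ := by
        simp only [S, K, pow_zero, Ideal.one_eq_top, top_sup_eq]
        rw [Submodule.restrictScalars_top, Submodule.map_top, LinearMap.range_eq_top]
        exact Ideal.Quotient.mk_surjective
      rw [this, finrank_top, hn]; omega
    | succ i ih =>
      intro hi
      have h1 := ih (by omega)
      have h2 := Submodule.finrank_lt_finrank_of_lt (hSlt i (by omega))
      omega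
  have := hbound (n + 1) le_rfl
  omega

end Groth.Agent.S19436
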