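import Groth.Statements.S19438
import Mathlib

set_option autoImplicit false
universe u
open CAlg

namespace Groth.Agent.S19438

/-- First assertion: let A be a Noetherian local commutative algebra over a field k with maximal ideal
M, residue field k (the map from k to A/M is onto) and embedding dimension dim M/M^2 at least 2, and
let I be a proper ideal with A/I finite-dimensional over k. If A/I is generated as a k-algebra by
one element, then some element of I does not lie in M^2; that is, the finite closed subscheme
defined by I lies on a smooth hypersurface germ (it is curvilinear). (The published statement is for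
the local ring of a smooth surface at a closed point; only a Noetherian local algebra with residue
field k and embedding dimension at least 2 is assumed here, which is what the published argument
uses.) -/
theorem result (k : Type u) [Field k]
    (A : Type u) [CommRing A] [Algebra k A] [IsNoetherianRing A] [IsLocalRing A]
    (hres : Function.Surjective (algebraMap k (IsLocalRing.ResidueField A)))
    (hemb : 2 ≤ Module.finrank (IsLocalRing.ResidueField A) (IsLocalRing.CotangentSpace A))
    (I : Ideal A) (hI : I ≠ ⊤) [Module.Finite k (A ⧸ I)]
    (f : A ⧸ I) (hf : Algebra.adjoin k {f} = ⊤) :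
    ∃ g ∈ I, g ∉ IsLocalRing.maximalIdeal A ^ 2 := by
  classical
  by_contra hcon
  push_neg at hcon
  set m := IsLocalRing.maximalIdeal A with hm
  have hIm2 : I ≤ m ^ 2 := fun g hg => hcon g hg
  have hIm : I ≤ m := IsLocalRing.le_maximalIdeal hI
  obtain ⟨f', rfl⟩ := Ideal.Quotient.mk_surjective f
  obtain ⟨l, hl⟩ := hres (IsLocalRing.residue A f')
  set t : A := f' - algebraMap k A l with ht
  have htm : t ∈ m := by
    rw [hm, ← IsLocalRing.residue_eq_zero_iff, ht, map_sub]
    rw [← hl, sub_eq_zero]
    rw [IsScalarTower.algebraMap_apply k A (IsLocalRing.ResidueField A)]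
    rfl
  have hadj : Algebra.adjoin k {Ideal.Quotient.mk I t} = ⊤ := by
    rw [eq_top_iff, ← hf]
    apply Algebra.adjoin_le
    rintro _ rfl
    have : Ideal.Quotient.mk I f' = Ideal.Quotient.mk I t + algebraMap k (A ⧸ I) l := by
      rw [ht, map_sub, IsScalarTower.algebraMap_apply k A (A ⧸ I) l]
      change _ = _ - Ideal.Quotient.mk I (algebraMap k A l) + Ideal.Quotient.mk I (algebraMap k A l)
      rw [sub_add_cancel]
    rw [SetLike.mem_coe, this]
    exact Subalgebra.add_mem _ (Algebra.subset_adjoin rfl) (Subalgebra.algebraMap_mem _ _)
  have hk : ∀ c : k, algebraMap k A c ∈ m → c = 0 := by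
    intro c hc
    by_contra hc0
    have : IsUnit (algebraMap k A c) := (IsUnit.mk0 c hc0).map _
    exact (IsLocalRing.mem_maximalIdeal _).mp hc this
  have key : m ≤ Ideal.span {t} ⊔ I := by
    intro x hx
    have hxI : Ideal.Quotient.mk I x ∈ Algebra.adjoin k {Ideal.Quotient.mk I t} := by
      rw [hadj]; trivial
    rw [Algebra.adjoin_singleton_eq_range_aeval] at hxI
    obtain ⟨P, hP⟩ := hxI
    have h1 : Ideal.Quotient.mk I (Polynomial.aeval t P) = Ideal.Quotient.mk I x := by
      rw [← hP]
      have := Polynomial.aeval_algHom_apply (Ideal.Quotient.mkₐ k I) t P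
      simpa using this.symm
    have h2 : x - Polynomial.aeval t P ∈ I := by
      rw [← Ideal.Quotient.eq]; exact h1.symm
    have h3 : Polynomial.aeval t P = Polynomial.aeval t P.divX * t + algebraMap k A (P.coeff 0) := by
      conv_lhs => rw [← Polynomial.divX_mul_X_add P]
      simp
    have h4 : algebraMap k A (P.coeff 0) ∈ m := by
      have : algebraMap k A (P.coeff 0) = x - (x - Polynomial.aeval t P) - Polynomial.aeval t P.divX * t := by
        rw [h3]; ring
      rw [this]
      exact Ideal.sub_mem _ (Ideal.sub_mem _ hx (hIm h2)) (Ideal.mul_mem_left _ _ htm)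
    have h5 := hk _ h4
    rw [h5, map_zero, add_zero] at h3
    have : x = Polynomial.aeval t P.divX * t + (x - Polynomial.aeval t P) := by
      rw [h3]; ring
    rw [this]
    exact Ideal.add_mem _ (Ideal.mem_sup_left (Ideal.mul_mem_left _ _ (Ideal.subset_span rfl)))
      (Ideal.mem_sup_right h2)
  have hfg : (m : Submodule A A).FG := (isNoetherianRing_iff_ideal_fg A).mp inferInstance m
  have hjac : m ≤ Ideal.jacobson (⊥ : Ideal A) := by
    rw [IsLocalRing.jacobson_eq_maximalIdeal ⊥ bot_ne_top]
  have hle : m ≤ Ideal.span {t} := by
    refine Submodule.le_of_le_smul_of_le_jacobson_bot hfg hjac ?_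
    refine key.trans (sup_le_sup_left ?_ _)
    rw [smul_eq_mul, ← pow_two]
    exact hIm2
  have hprin : m.IsPrincipal := by
    refine ⟨⟨t, ?_⟩⟩
    refine le_antisymm hle ?_
    rw [Ideal.submodule_span_eq, Ideal.span_singleton_le_iff_mem]
    exact htm
  have := (IsLocalRing.finrank_cotangentSpace_le_one_iff (R := A)).mpr hprin
  omega

end Groth.Agent.S19438
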