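import Groth.Statements.S19439
import Mathlib

set_option autoImplicit false
universe u
open CAlg

namespace Groth.Agent.S19439

section
variable {k : Type u} [Field k] {N : ℕ} (I : Ideal (MvPolynomial (Fin N) k))

/-- image of polynomials of degree ≤ j -/
noncomputable def V (j : ℕ) : Submodule k (MvPolynomial (Fin N) k ⧸ I) :=
  Submodule.map (Ideal.Quotient.mkₐ k I).toLinearMap (MvPolynomial.restrictTotalDegree (Fin N) k j)

theorem V_mono {i j : ℕ} (h : i ≤ j) : V I i ≤ V I j := by
  apply Submodule.map_mono
  intro p hp
  rw [MvPolynomial.mem_restrictTotalDegree] at hp ⊢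
  exact hp.trans h

theorem one_mem_V (j : ℕ) : (1 : MvPolynomial (Fin N) k ⧸ I) ∈ V I j := by
  refine ⟨1, ?_, by simp⟩
  rw [SetLike.mem_coe, MvPolynomial.mem_restrictTotalDegree]
  simp

theorem X_mul_mem_V (j : ℕ) (i : Fin N) {v : MvPolynomial (Fin N) k ⧸ I} (hv : v ∈ V I j) :
    Ideal.Quotient.mk I (MvPolynomial.X i) * v ∈ V I (j + 1) := by
  obtain ⟨p, hp, rfl⟩ := hv
  refine ⟨MvPolynomial.X i * p, ?_, by simp⟩
  rw [SetLike.mem_coe, MvPolynomial.mem_restrictTotalDegree] at hp ⊢
  refine (MvPolynomial.totalDegree_mul _ _).trans ?_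
  rw [MvPolynomial.totalDegree_X]
  omega

theorem V_eq_top_of_eq_succ (j : ℕ) (h : V I j = V I (j + 1)) : V I j = ⊤ := by
  let S : Subalgebra k (MvPolynomial (Fin N) k) :=
    { carrier := {p | ∀ v ∈ V I j, Ideal.Quotient.mk I p * v ∈ V I j}
      mul_mem' := by
        intro a b ha hb v hv
        rw [map_mul, mul_assoc]
        exact ha _ (hb _ hv)
      add_mem' := by
        intro a b ha hb v hv
        rw [map_add, add_mul]
        exact Submodule.add_mem _ (ha _ hv) (hb _ hv)
      algebraMap_mem' := by
        intro c v hv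
        have : Ideal.Quotient.mk I (algebraMap k (MvPolynomial (Fin N) k) c) * v = c • v := by
          rw [Algebra.smul_def (R := k) (A := MvPolynomial (Fin N) k ⧸ I)]; rfl
        rw [this]
        exact Submodule.smul_mem _ _ hv }
  have hS : S = ⊤ := by
    rw [eq_top_iff, ← MvPolynomial.adjoin_range_X]
    apply Algebra.adjoin_le
    rintro _ ⟨i, rfl⟩ v hv
    rw [h]
    exact X_mul_mem_V I j i hv
  rw [eq_top_iff]
  intro b _
  obtain ⟨p, rfl⟩ := Ideal.Quotient.mk_surjective b
  have hp : p ∈ S := by rw [hS]; trivial
  have := hp 1 (one_mem_V I j)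
  rwa [mul_one] at this

theorem V_top_or [Module.Finite k (MvPolynomial (Fin N) k ⧸ I)] (j : ℕ) :
    V I j = ⊤ ∨ j ≤ Module.finrank k (V I j) := by
  induction j with
  | zero => right; omega
  | succ j ih =>
    rcases ih with h | h
    · left
      rw [eq_top_iff, ← h]
      exact V_mono I (Nat.le_succ j)
    · by_cases he : V I j = V I (j + 1)
      · left
        rw [← he]
        exact V_eq_top_of_eq_succ I j he
      · right
        have hlt : V I j < V I (j + 1) := lt_of_le_of_ne (V_mono I (Nat.le_succ j)) he
        have := Submodule.finrank_lt_finrank_of_lt hlt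
        omega
end

/-- Affine form: for all n and N there is an integer d, that depends only on n and N, such that for
every algebraically closed field k and every ideal I of the polynomial ring in N variables over k
whose quotient has finite dimension n over k, the polynomials of total degree at most d map onto the
quotient. -/
theorem result (n N : ℕ) :
    ∃ d : ℕ, ∀ (k : Type u) [Field k] [IsAlgClosed k] (I : Ideal (MvPolynomial (Fin N) k))
      [Module.Finite k (MvPolynomial (Fin N) k ⧸ I)],
      Module.finrank k (MvPolynomial (Fin N) k ⧸ I) = n →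
      Submodule.map (Ideal.Quotient.mkₐ k I).toLinearMap (MvPolynomial.restrictTotalDegree (Fin N) k d) = ⊤ := by
  refine ⟨n + 1, ?_⟩
  intro k _ _ I _ hn
  rcases V_top_or I (n + 1) with h | h
  · exact h
  · exfalso
    have := Submodule.finrank_le (V I (n + 1))
    omega

end Groth.Agent.S19439
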