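import Groth.Statements.S19443
import Mathlib.Tactic

set_option autoImplicit false
universe u
open LinAlg

namespace Groth.Agent.S19443

/-- Algebraic form: let G be a finite group with order invertible in the field k, ρ a linear
representation of G on a k-vector space V, and ω a nondegenerate bilinear form on V invariant under
G. Then ω restricted to the fixed subspace V^G is nondegenerate (for a finite group of symplectic
automorphisms, the fixed subspace is a symplectic subspace). -/
theorem result (k : Type u) [Field k]
    (G : Type u) [Group G] [Finite G] (hG : (Nat.card G : k) ≠ 0)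
    (V : Type u) [AddCommGroup V] [Module k V] (ρ : Representation k G V)
    (ω : LinearMap.BilinForm k V) (hω : ω.Nondegenerate)
    (hinv : ∀ (g : G) (v w : V), ω (ρ g v) (ρ g w) = ω v w) :
    (ω.restrict ρ.invariants).Nondegenerate := by
  classical
  haveI : Fintype G := Fintype.ofFinite G
  have hcard : (Fintype.card G : k) ≠ 0 := by rwa [← Nat.card_eq_fintype_card]
  -- the sum over the group lands in the invariants
  have hs : ∀ v : V, (∑ g : G, ρ g v) ∈ ρ.invariants := by
    intro v
    rw [Representation.mem_invariants]
    intro h
    rw [map_sum]
    refine (Fintype.sum_equiv (Equiv.mulLeft h) _ _ ?_)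
    intro g
    simp [map_mul]
  have hl : ∀ x ∈ ρ.invariants, ∀ g : G, ∀ v : V, ω x (ρ g v) = ω x v := by
    intro x hx g v
    have := hinv g x v
    rw [(Representation.mem_invariants ρ x).1 hx g] at this
    exact this
  have hr : ∀ x ∈ ρ.invariants, ∀ g : G, ∀ v : V, ω (ρ g v) x = ω v x := by
    intro x hx g v
    have := hinv g v x
    rw [(Representation.mem_invariants ρ x).1 hx g] at this
    exact this
  constructor
  · -- separating left
    intro x hx
    have hx0 : ∀ v : V, ω x v = 0 := by
      intro v
      have h1 := hx ⟨_, hs v⟩
      rw [LinearMap.BilinForm.restrict_apply] at h1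
      simp only [LinearMap.domRestrict_apply, Submodule.coe_mk, Submodule.subtype_apply] at h1
      rw [map_sum] at h1
      simp only [hl x.1 x.2] at h1
      rw [Finset.sum_const, Finset.card_univ, nsmul_eq_mul] at h1
      exact (mul_eq_zero.mp h1).resolve_left hcard
    have := hω.1 x.1 hx0
    exact Subtype.ext this
  · intro x hx
    have hx0 : ∀ v : V, ω v x = 0 := by
      intro v
      have h1 := hx ⟨_, hs v⟩
      rw [LinearMap.BilinForm.restrict_apply] at h1
      simp only [LinearMap.domRestrict_apply, Submodule.coe_mk, Submodule.subtype_apply] at h1
      rw [map_sum, LinearMap.sum_apply] at h1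
      simp only [hr x.1 x.2] at h1
      rw [Finset.sum_const, Finset.card_univ, nsmul_eq_mul] at h1
      exact (mul_eq_zero.mp h1).resolve_left hcard
    have := hω.2 x.1 hx0
    exact Subtype.ext this

end Groth.Agent.S19443
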