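import Groth.Statements.S19444
import Groth.Agent.Lib.helper29.SymTenC

set_option autoImplicit false
universe u
open SymTen

namespace Groth.Agent.S19444

open Groth.Agent.Lib.helper29

/-- Linearised norm: let A be a commutative ring in which n! is invertible and R a commutative
A-algebra, free of rank n as an A-module. There is a unique A-algebra homomorphism from the
symmetric tensors TS^n_A(R) to A taking r ⊗ ⋯ ⊗ r to the norm of r for every r in R. (The published
corollary is stated for any free algebra of rank n; the construction printed for it divides by n!,
and n! invertible is assumed here.) -/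
theorem result (A : Type u) [CommRing A] (R : Type u) [CommRing R]
    [Algebra A R] [Module.Free A R] [Module.Finite A R] (n : ℕ) (hn : Module.finrank A R = n)
    (hfact : IsUnit ((Nat.factorial n : ℕ) : A)) :
    ∃! φ : SymTen.TS A R n →ₐ[A] A, ∀ r : R, φ (SymTen.tpow A R n r) = Algebra.norm A r := by
  rcases subsingleton_or_nontrivial A with hA | hA
  · refine ⟨{ toFun := fun _ => 0, map_one' := Subsingleton.elim _ _,
              map_mul' := fun _ _ => Subsingleton.elim _ _, map_zero' := rfl,
              map_add' := fun _ _ => Subsingleton.elim _ _,
              commutes' := fun _ => Subsingleton.elim _ _ }, fun r => Subsingleton.elim _ _, ?_⟩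
    intro φ _
    exact AlgHom.ext (fun t => Subsingleton.elim _ _)
  subst hn
  let b := Module.finBasis A R
  refine ⟨SymTenB.chiAlg b, fun r => SymTenB.chiAlg_tpow b r, ?_⟩
  intro φ hφ
  have h := SymTenC.linearMap_ext_of_tpow A R (Module.finrank A R) hfact φ.toLinearMap
    (SymTenB.chiAlg b).toLinearMap (fun r => by
      simp only [AlgHom.toLinearMap_apply]
      rw [hφ r, SymTenB.chiAlg_tpow b r])
  exact AlgHom.ext (fun t => LinearMap.congr_fun h t)

end Groth.Agent.S19444
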