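import Groth.Statements.S19445
import Mathlib
import Groth.Agent.Lib.helper29.RegQuot

set_option autoImplicit false
universe u
open CAlg

namespace Groth.Agent.S19445

section
variable {k : Type u} [Field k] {A : Type u} [CommRing A] [Algebra k A] [IsLocalRing A]
  {G : Type u} [Group G] [MulSemiringAction G A] [SMulCommClass G k A]

local notation "𝔪" => IsLocalRing.maximalIdeal A

variable (A G) in
/-- the generating set of the coinvariant ideal -/
def S : Set A := {x : A | ∃ (g : G) (a : A), x = g • a - a}

theorem smul_mem_max (g : G) {x : A} (hx : x ∈ 𝔪) : g • x ∈ 𝔪 := by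
  rw [IsLocalRing.mem_maximalIdeal, mem_nonunits_iff] at hx ⊢
  intro hu
  apply hx
  have := hu.map (MulSemiringAction.toRingHom G A g⁻¹)
  simpa using this

theorem smul_algebraMap (g : G) (c : k) : g • (algebraMap k A c) = algebraMap k A c := by
  rw [Algebra.algebraMap_eq_smul_one, smul_comm, smul_one]

theorem decomp (hres : Function.Surjective (algebraMap k (IsLocalRing.ResidueField A))) (a : A) :
    ∃ c : k, a - algebraMap k A c ∈ 𝔪 := by
  obtain ⟨c, hc⟩ := hres (IsLocalRing.residue A a)
  refine ⟨c, ?_⟩
  rw [← Ideal.Quotient.eq_zero_iff_mem, map_sub, sub_eq_zero]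
  exact hc.symm

theorem J_le (hres : Function.Surjective (algebraMap k (IsLocalRing.ResidueField A))) :
    Ideal.span (S A G) ≤ 𝔪 := by
  rw [Ideal.span_le]
  rintro _ ⟨g, a, rfl⟩
  obtain ⟨c, hc⟩ := decomp hres a
  have : g • a - a = g • (a - algebraMap k A c) - (a - algebraMap k A c) := by
    rw [smul_sub, smul_algebraMap]; ring
  rw [SetLike.mem_coe, this]
  exact Ideal.sub_mem _ (smul_mem_max g hc) hc

theorem sub_smul_mem (g : G) {x : A} (hx : x ∈ 𝔪 ^ 2) :
    x - g • x ∈ 𝔪 * Ideal.span (S A G) := by
  rw [pow_two] at hx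
  induction hx using Submodule.mul_induction_on' with
  | mem_mul_mem a ha b hb =>
    have h1 : a * b - g • (a * b) = b * (a - g • a) + (g • a) * (b - g • b) := by
      rw [smul_mul']; ring
    rw [h1]
    have hS : ∀ y : A, y - g • y ∈ Ideal.span (S A G) := by
      intro y
      have : y - g • y = -(g • y - y) := by ring
      rw [this]
      exact Ideal.neg_mem_iff _ |>.mpr (Ideal.subset_span ⟨g, y, rfl⟩)
    exact Ideal.add_mem _ (Ideal.mul_mem_mul hb (hS a)) (Ideal.mul_mem_mul (smul_mem_max g ha) (hS b))
  | add x _ y _ hx hy =>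
    have : x + y - g • (x + y) = (x - g • x) + (y - g • y) := by rw [smul_add]; ring
    rw [this]
    exact Ideal.add_mem _ hx hy

variable [Fintype G]

variable (k A G) in
/-- the trace (sum over the group) -/
noncomputable def tr : A →ₗ[k] A := ∑ g : G, (MulSemiringAction.toAlgHom k A g).toLinearMap

theorem tr_apply (a : A) : tr k A G a = ∑ g : G, g • a := by
  simp [tr, LinearMap.sum_apply]

theorem span_le_ker_tr : Submodule.span k (S A G) ≤ LinearMap.ker (tr k A G) := by
  rw [Submodule.span_le]
  rintro _ ⟨g, a, rfl⟩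
  rw [SetLike.mem_coe, LinearMap.mem_ker, map_sub, sub_eq_zero, tr_apply, tr_apply]
  simp_rw [← mul_smul]
  exact Fintype.sum_equiv (Equiv.mulRight g) _ _ (fun h => rfl)

theorem mem_of_mem_span_of_mem_sq (hG : (Fintype.card G : k) ≠ 0) {y : A}
    (hy : y ∈ Submodule.span k (S A G)) (hy2 : y ∈ 𝔪 ^ 2) :
    y ∈ 𝔪 * Ideal.span (S A G) := by
  have h0 : tr k A G y = 0 := span_le_ker_tr hy
  have h1 : ∑ g : G, (y - g • y) ∈ 𝔪 * Ideal.span (S A G) :=
    Ideal.sum_mem _ (fun g _ => sub_smul_mem g hy2)
  rw [Finset.sum_sub_distrib, ← tr_apply (k := k), h0, sub_zero, Finset.sum_const, Finset.card_univ,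
    nsmul_eq_mul] at h1
  have hu : IsUnit ((Fintype.card G : ℕ) : A) := by
    have : ((Fintype.card G : ℕ) : A) = algebraMap k A (Fintype.card G : k) := by rw [map_natCast]
    rw [this]
    exact (isUnit_iff_ne_zero.mpr hG).map _
  obtain ⟨u, hu⟩ := hu
  have := Ideal.mul_mem_left (𝔪 * Ideal.span (S A G)) (↑u⁻¹ : A) h1
  rwa [← mul_assoc, ← hu, Units.inv_mul, one_mul] at this

omit [Fintype G] in
theorem exists_span_sub_mem (hres : Function.Surjective (algebraMap k (IsLocalRing.ResidueField A)))
    {x : A} (hx : x ∈ Ideal.span (S A G)) :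
    ∃ y ∈ Submodule.span k (S A G), x - y ∈ 𝔪 * Ideal.span (S A G) := by
  induction hx using Submodule.span_induction with
  | mem x hx => exact ⟨x, Submodule.subset_span hx, by simp⟩
  | zero => exact ⟨0, Submodule.zero_mem _, by simp⟩
  | add x y _ _ hx hy =>
    obtain ⟨y1, h1, h1'⟩ := hx
    obtain ⟨y2, h2, h2'⟩ := hy
    refine ⟨y1 + y2, Submodule.add_mem _ h1 h2, ?_⟩
    have : x + y - (y1 + y2) = (x - y1) + (y - y2) := by ring
    rw [this]
    exact Ideal.add_mem _ h1' h2'
  | smul a x hx ih =>
    obtain ⟨y, hy, hy'⟩ := ih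
    obtain ⟨c, hc⟩ := decomp hres a
    refine ⟨c • y, Submodule.smul_mem _ _ hy, ?_⟩
    have : a • x - c • y = algebraMap k A c * (x - y) + (a - algebraMap k A c) * x := by
      rw [smul_eq_mul, Algebra.smul_def]; ring
    rw [this]
    exact Ideal.add_mem _ (Ideal.mul_mem_left _ _ hy') (Ideal.mul_mem_mul hc hx)

theorem inf_sq_le (hres : Function.Surjective (algebraMap k (IsLocalRing.ResidueField A)))
    (hG : (Fintype.card G : k) ≠ 0) :
    Ideal.span (S A G) ⊓ 𝔪 ^ 2 ≤ 𝔪 * Ideal.span (S A G) := by
  rintro x ⟨hxJ, hx2⟩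
  obtain ⟨y, hy, hz⟩ := exists_span_sub_mem hres hxJ
  have hle : 𝔪 * Ideal.span (S A G) ≤ 𝔪 ^ 2 := by
    rw [pow_two]; exact Ideal.mul_mono_right (J_le hres)
  have hy2 : y ∈ 𝔪 ^ 2 := by
    have : y = x - (x - y) := by ring
    rw [this]
    exact Ideal.sub_mem _ hx2 (hle hz)
  have := mem_of_mem_span_of_mem_sq hG hy hy2
  have hx : x = y + (x - y) := by ring
  rw [hx]
  exact Ideal.add_mem _ this hz

end

/-- Local form: let k be a field and A a regular local k-algebra with maximal ideal M and residue field
k (k maps onto A/M); let a finite group G whose order is invertible in k act on A by k-algebra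
automorphisms. Then A/J is a regular local ring, where J is the ideal generated by the elements g·a
− a (J defines the fixed-point subscheme, so the fixed locus of G is smooth at the point). The
accompanying identification of its tangent space with the G-invariants of the tangent space of A is
not restated here. -/
theorem result (k : Type u) [Field k] (A : Type u) [CommRing A]
    [Algebra k A] [IsRegularLocalRing A]
    (hres : Function.Surjective (algebraMap k (IsLocalRing.ResidueField A)))
    (G : Type u) [Group G] [Finite G] [MulSemiringAction G A] [SMulCommClass G k A]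
    (hG : (Nat.card G : k) ≠ 0) :
    IsRegularLocalRing (A ⧸ Ideal.span {x : A | ∃ (g : G) (a : A), x = g • a - a}) := by
  classical
  letI : Fintype G := Fintype.ofFinite G
  have hG' : (Fintype.card G : k) ≠ 0 := by rwa [← Nat.card_eq_fintype_card]
  exact Groth.Agent.H29.RegQuot.isRegularLocalRing_quotient _ (J_le hres) (inf_sq_le hres hG')

end Groth.Agent.S19445
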