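import Groth.Statements.S19448
import Mathlib

set_option autoImplicit false
universe u
open CAlg

namespace Groth.Agent.S19448

section
variable {k : Type u} [Field k] {A : Type u} [CommRing A] [Algebra k A] [IsLocalRing A]
  {G : Type u} [Group G] [MulSemiringAction G A] [SMulCommClass G k A]

local notation "𝔪" => IsLocalRing.maximalIdeal A

theorem N_mul (g : G) (a b : A) :
    g • (a * b) - a * b = (g • a - a) * (g • b) + a * (g • b - b) := by
  rw [smul_mul']; ring

theorem N_all (hres : Function.Surjective (algebraMap k (IsLocalRing.ResidueField A))) (g : G)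
    (hg : ∀ a ∈ 𝔪, g • a - a ∈ 𝔪 ^ 2) (a : A) : g • a - a ∈ 𝔪 ^ 2 := by
  obtain ⟨c, hc⟩ := hres (IsLocalRing.residue A a)
  have h1 : a - algebraMap k A c ∈ 𝔪 := by
    rw [← Ideal.Quotient.eq_zero_iff_mem, map_sub, sub_eq_zero]
    exact hc.symm
  have h2 : g • (algebraMap k A c) = algebraMap k A c := by
    rw [Algebra.algebraMap_eq_smul_one, smul_comm, smul_one]
  have h3 := hg _ h1
  rw [smul_sub, h2] at h3
  have : g • a - a = g • a - algebraMap k A c - (a - algebraMap k A c) := by ring
  rw [this]
  exact h3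

theorem claim_one (hres : Function.Surjective (algebraMap k (IsLocalRing.ResidueField A))) (g : G)
    (hg : ∀ a ∈ 𝔪, g • a - a ∈ 𝔪 ^ 2) :
    ∀ (i : ℕ) (x : A), x ∈ 𝔪 ^ i → g • x - x ∈ 𝔪 ^ (i + 1) := by
  intro i
  induction i with
  | zero =>
    intro x _
    exact Ideal.pow_le_pow_right (by omega) (N_all hres g hg x)
  | succ i ih =>
    intro x hx
    rw [pow_succ] at hx
    induction hx using Submodule.mul_induction_on' with
    | mem_mul_mem a ha b hb =>
      rw [N_mul]
      apply add_mem
      · rw [pow_succ (𝔪) (i + 1)]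
        apply Ideal.mul_mem_mul (ih a ha)
        have : g • b = b + (g • b - b) := by ring
        rw [this]
        exact add_mem hb (Ideal.pow_le_self (by omega) (hg b hb))
      · have : 𝔪 ^ (i + 1 + 1) = 𝔪 ^ i * 𝔪 ^ 2 := by rw [← pow_add]
        rw [this]
        exact Ideal.mul_mem_mul ha (hg b hb)
    | add x _ y _ hx hy =>
      have : g • (x + y) - (x + y) = (g • x - x) + (g • y - y) := by rw [smul_add]; ring
      rw [this]
      exact add_mem hx hy

theorem claim_step (g : G) (n : ℕ) (hgn : g ^ n = 1) (hn : IsUnit (n : A)) (j : ℕ) (hj : 1 ≤ j)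
    (h : ∀ (i : ℕ) (x : A), x ∈ 𝔪 ^ i → g • x - x ∈ 𝔪 ^ (i + j)) :
    ∀ (i : ℕ) (x : A), x ∈ 𝔪 ^ i → g • x - x ∈ 𝔪 ^ (i + (j + 1)) := by
  intro i x hx
  have key : ∀ t : ℕ, g ^ t • x - x - t • (g • x - x) ∈ 𝔪 ^ (i + 2 * j) := by
    intro t
    induction t with
    | zero => simp
    | succ t ih =>
      set e := g ^ t • x - x - t • (g • x - x) with he
      have hy : g ^ t • x = x + t • (g • x - x) + e := by rw [he]; ring
      have h1 : g ^ (t + 1) • x - x - (t + 1) • (g • x - x) =
          e + t • (g • (g • x - x) - (g • x - x)) + (g • e - e) := by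
        have hgt : g • (t • (g • x - x)) = t • (g • (g • x - x)) :=
          map_nsmul (MulSemiringAction.toRingHom G A g) t (g • x - x)
        rw [pow_succ', mul_smul, hy, smul_add, smul_add, hgt]
        simp only [nsmul_eq_mul, Nat.cast_add, Nat.cast_one]
        ring
      rw [h1]
      have h2 : g • (g • x - x) - (g • x - x) ∈ 𝔪 ^ (i + 2 * j) := by
        have := h (i + j) _ (h i x hx)
        rwa [show i + j + j = i + 2 * j by ring] at this
      have h3 : g • e - e ∈ 𝔪 ^ (i + 2 * j) := by
        have := h (i + 2 * j) e ih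
        exact Ideal.pow_le_pow_right (by omega) this
      refine add_mem (add_mem ih ?_) h3
      rw [nsmul_eq_mul]
      exact Ideal.mul_mem_left _ _ h2
  have h4 := key n
  rw [hgn, one_smul, sub_self, zero_sub, neg_mem_iff, nsmul_eq_mul] at h4
  have h5 : g • x - x ∈ 𝔪 ^ (i + 2 * j) := by
    obtain ⟨u, hu⟩ := hn
    have := Ideal.mul_mem_left (𝔪 ^ (i + 2 * j)) (↑u⁻¹ : A) h4
    rwa [← mul_assoc, ← hu, Units.inv_mul, one_mul] at this
  exact Ideal.pow_le_pow_right (by omega) h5

end

/-- Let k be a field, A a Noetherian local k-algebra with maximal ideal M and residue field k, and G a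
finite group with |G| ≠ 0 in k acting on A by k-algebra automorphisms. An element of G which acts
trivially on M/M^2 acts trivially on A; in other words the stabilizer acts faithfully on the
cotangent space whenever it acts faithfully on the local ring. -/
theorem result (k : Type u) [Field k] (A : Type u) [CommRing A]
    [Algebra k A] [IsLocalRing A] [IsNoetherianRing A]
    (hres : Function.Surjective (algebraMap k (IsLocalRing.ResidueField A)))
    (G : Type u) [Group G] [Finite G] [MulSemiringAction G A] [SMulCommClass G k A]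
    (hG : (Nat.card G : k) ≠ 0) (g : G)
    (hg : ∀ a ∈ IsLocalRing.maximalIdeal A, g • a - a ∈ IsLocalRing.maximalIdeal A ^ 2) (a : A) :
    g • a = a := by
  have hn : IsUnit ((Nat.card G : ℕ) : A) := by
    have h1 : ((Nat.card G : ℕ) : A) = algebraMap k A (Nat.card G : k) := by rw [map_natCast]
    rw [h1]
    exact (isUnit_iff_ne_zero.mpr hG).map _
  have hgn : g ^ Nat.card G = 1 := pow_card_eq_one'
  have hall : ∀ j : ℕ, 1 ≤ j → ∀ (i : ℕ) (x : A), x ∈ IsLocalRing.maximalIdeal A ^ i →
      g • x - x ∈ IsLocalRing.maximalIdeal A ^ (i + j) := by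
    intro j hj
    induction j, hj using Nat.le_induction with
    | base => exact claim_one hres g hg
    | succ j hj ih => exact claim_step g (Nat.card G) hgn hn j hj ih
  have hmem : g • a - a ∈ (⨅ j : ℕ, IsLocalRing.maximalIdeal A ^ j) := by
    rw [Ideal.mem_iInf]
    intro j
    rcases Nat.eq_zero_or_pos j with h | h
    · subst h; simp
    · have := hall j h 0 a (by simp)
      rwa [zero_add] at this
  rw [Ideal.iInf_pow_eq_bot_of_isLocalRing _ (IsLocalRing.maximalIdeal.isMaximal A).ne_top] at hmem
  exact sub_eq_zero.mp hmem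

end Groth.Agent.S19448
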