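import Groth.Statements.S19453
import Mathlib
import Groth.Agent.S19436

set_option autoImplicit false
universe u
open CAlg

namespace Groth.Agent.S19453

open Polynomial in
theorem ker_eq_span_X_pow {k : Type u} [Field k] {B : Type u} [CommRing B] [Algebra k B]
    [Nontrivial B] (φ : k[X] →ₐ[k] B) (r : ℕ) (hr : φ X ^ r = 0) :
    ∃ d : ℕ, RingHom.ker φ = Ideal.span {(X : k[X]) ^ d} := by
  obtain ⟨P, hP⟩ := (IsPrincipalIdealRing.principal (RingHom.ker φ.toRingHom)).principal
  have hX : (X : k[X]) ^ r ∈ RingHom.ker φ.toRingHom := by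
    rw [RingHom.mem_ker]; simpa using hr
  rw [hP] at hX
  have hdvd : P ∣ X ^ r := by
    rwa [Ideal.submodule_span_eq, Ideal.mem_span_singleton] at hX
  obtain ⟨d, -, hd⟩ := (dvd_prime_pow Polynomial.prime_X r).mp hdvd
  refine ⟨d, ?_⟩
  change RingHom.ker φ.toRingHom = _
  rw [hP, Ideal.submodule_span_eq, Ideal.span_singleton_eq_span_singleton]
  exact hd

/-- Converse direction: let k be a field, A a regular local k-algebra of Krull dimension 2 with maximal
ideal M and residue field k, and I an ideal with A/I of finite dimension n ≥ 1 over k. If some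
element of I does not lie in M^2, then A/I is isomorphic as a k-algebra to k[x]/(x^n): a cluster
lying on a smooth curve germ of a smooth surface is curvilinear, with coordinate ring generated by
one element. -/
theorem result (k : Type u) [Field k]
    (A : Type u) [CommRing A] [Algebra k A] [IsRegularLocalRing A] (hdim : ringKrullDim A = 2)
    (hres : Function.Surjective (algebraMap k (IsLocalRing.ResidueField A)))
    (I : Ideal A) [Module.Finite k (A ⧸ I)] (n : ℕ) (hn : Module.finrank k (A ⧸ I) = n) (h1 : 1 ≤ n)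
    (g : A) (hgI : g ∈ I) (hg : g ∉ IsLocalRing.maximalIdeal A ^ 2) :
    Nonempty ((A ⧸ I) ≃ₐ[k] (Polynomial k ⧸ Ideal.span {(Polynomial.X : Polynomial k) ^ n})) := by
  classical
  set m := IsLocalRing.maximalIdeal A with hm
  have hnt : Nontrivial (A ⧸ I) := by
    apply Module.nontrivial_of_finrank_pos (R := k)
    omega
  have hI : I ≠ ⊤ := by
    intro h
    have : Subsingleton (A ⧸ I) := by rw [h]; exact Ideal.Quotient.subsingleton_iff.mpr rfl
    exact not_subsingleton _ this
  have hIm : I ≤ m := IsLocalRing.le_maximalIdeal hI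
  have hgm : g ∈ m := hIm hgI
  have hfr : Module.finrank (IsLocalRing.ResidueField A) (IsLocalRing.CotangentSpace A) = 2 := by
    have := (IsRegularLocalRing.iff_finrank_cotangentSpace A).mp inferInstance
    rw [hdim] at this
    exact_mod_cast this
  -- find t
  have hg0 : m.toCotangent ⟨g, hgm⟩ ≠ 0 := by
    rw [Ne, Ideal.toCotangent_eq_zero]; exact hg
  obtain ⟨w, hw⟩ := exists_linearIndependent_pair_of_one_lt_finrank
    (R := IsLocalRing.ResidueField A) (by rw [hfr]; norm_num) hg0
  obtain ⟨t, rfl⟩ := Ideal.toCotangent_surjective _ w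
  have hspan := hw.span_eq_top_of_card_eq_finrank' (by rw [hfr]; simp)
  have hrange : Set.range ![m.toCotangent ⟨g, hgm⟩, m.toCotangent t] =
      m.toCotangent '' {⟨g, hgm⟩, t} := by
    ext x; simp [Set.image_pair, or_comm]
  rw [hrange, IsLocalRing.CotangentSpace.span_image_eq_top_iff] at hspan
  have hmt : ∀ x ∈ m, ∃ a b : A, x = a * g + b * (t : A) := by
    intro x hx
    have : (⟨x, hx⟩ : m) ∈ Submodule.span A {⟨g, hgm⟩, t} := by rw [hspan]; trivial
    rw [Submodule.mem_span_pair] at this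
    obtain ⟨a, b, hab⟩ := this
    refine ⟨a, b, ?_⟩
    have := congrArg Subtype.val hab
    simpa using this.symm
  have hres' : ∀ a : A, ∃ l : k, a - algebraMap k A l ∈ m := by
    intro a
    obtain ⟨l, hl⟩ := hres (IsLocalRing.residue A a)
    refine ⟨l, ?_⟩
    rw [hm, ← IsLocalRing.residue_eq_zero_iff, map_sub, ← hl, sub_eq_zero,
      IsScalarTower.algebraMap_apply k A (IsLocalRing.ResidueField A)]
    rfl
  set τ : A ⧸ I := Ideal.Quotient.mk I (t : A) with hτ
  have hdecomp : ∀ b : A ⧸ I, ∃ (l : k) (c : A ⧸ I), b = algebraMap k (A ⧸ I) l + τ * c := by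
    intro b
    obtain ⟨a, rfl⟩ := Ideal.Quotient.mk_surjective b
    obtain ⟨l, hl⟩ := hres' a
    obtain ⟨u, v, huv⟩ := hmt _ hl
    refine ⟨l, Ideal.Quotient.mk I v, ?_⟩
    have h1 : a = algebraMap k A l + u * g + v * t := by rw [add_assoc, ← huv]; ring
    have h2 : Ideal.Quotient.mk I g = 0 := Ideal.Quotient.eq_zero_iff_mem.mpr hgI
    conv_lhs => rw [h1]
    rw [map_add, map_add, map_mul, map_mul, h2, mul_zero, add_zero, hτ, mul_comm]
    rfl
  have hnil : τ ^ n = 0 := by
    have h1 := Groth.Agent.S19436.result k A I n hn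
    have h2 : (t : A) ^ n ∈ m ^ n := Ideal.pow_mem_pow t.2 n
    rw [hτ, ← map_pow]
    exact Ideal.Quotient.eq_zero_iff_mem.mpr (h1 h2)
  set φ : Polynomial k →ₐ[k] (A ⧸ I) := Polynomial.aeval τ with hφ
  have hstep : ∀ j : ℕ, ∀ b : A ⧸ I, ∃ (P : Polynomial k) (c : A ⧸ I), b = φ P + τ ^ j * c := by
    intro j
    induction j with
    | zero => intro b; exact ⟨0, b, by simp⟩
    | succ j ih =>
      intro b
      obtain ⟨P, c, hc⟩ := ih b
      obtain ⟨l, c', hc'⟩ := hdecomp c
      refine ⟨P + Polynomial.C l * Polynomial.X ^ j, c', ?_⟩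
      rw [hc, hc', map_add, map_mul, map_pow, hφ]
      simp only [Polynomial.aeval_C, Polynomial.aeval_X]
      ring
  have hsurj : Function.Surjective φ := by
    intro b
    obtain ⟨P, c, hc⟩ := hstep n b
    refine ⟨P, ?_⟩
    rw [hc, hnil, zero_mul, add_zero]
  have hX : φ Polynomial.X ^ n = 0 := by rw [hφ, Polynomial.aeval_X]; exact hnil
  obtain ⟨d, hd⟩ := ker_eq_span_X_pow φ n hX
  have e1 : (Polynomial k ⧸ RingHom.ker φ) ≃ₐ[k] (A ⧸ I) :=
    Ideal.quotientKerAlgEquivOfSurjective hsurj
  have e2 : (Polynomial k ⧸ RingHom.ker φ) ≃ₐ[k]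
      (Polynomial k ⧸ Ideal.span {(Polynomial.X : Polynomial k) ^ d}) :=
    Ideal.quotientEquivAlgOfEq k hd
  have e3 := e1.symm.trans e2
  have hdn : d = n := by
    have h1 : Module.finrank k (Polynomial k ⧸ Ideal.span {(Polynomial.X : Polynomial k) ^ d}) = n := by
      rw [← hn]; exact (e3.toLinearEquiv.finrank_eq).symm
    have h2 : Module.finrank k (AdjoinRoot ((Polynomial.X : Polynomial k) ^ d)) = d := by
      rw [(AdjoinRoot.powerBasis' (Polynomial.monic_X_pow d)).finrank]
      simp
    rw [← h2, ← h1]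
    rfl
  subst hdn
  exact ⟨e3⟩

end Groth.Agent.S19453
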