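import Groth.Statements.S19461
import Mathlib

set_option autoImplicit false
universe u
open CAlg

namespace Groth.Agent.S19461

open TensorProduct in
/-- If `C` is faithfully flat over `B` and flat over `A`, then `B` is flat over `A`. -/
theorem flat_of_faithfullyFlat_of_flat (A B C : Type*) [CommRing A] [CommRing B] [CommRing C]
    [Algebra A B] [Algebra B C] [Algebra A C] [IsScalarTower A B C] [Module.FaithfullyFlat B C]
    [Module.Flat A C] : Module.Flat A B := by
  rw [Module.Flat.iff_lTensor_preserves_injective_linearMap]
  intro N' N _ _ _ _ f hf
  have h1 : Function.Injective (f.lTensor C) :=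
    Module.Flat.lTensor_preserves_injective_linearMap f hf
  have h2 : Function.Injective ((f.baseChange B).lTensor C) := by
    let e₁ := AlgebraTensorModule.cancelBaseChange A B C C N'
    let e₂ := AlgebraTensorModule.cancelBaseChange A B C C N
    have nat : ∀ z, e₂ ((f.baseChange B).lTensor C z) = f.lTensor C (e₁ z) := by
      intro z
      induction z using TensorProduct.induction_on with
      | zero => simp
      | add x y hx hy => simp only [map_add, hx, hy]
      | tmul c w =>
        induction w using TensorProduct.induction_on with
        | zero => simp
        | add x y hx hy => simp only [tmul_add, map_add, hx, hy]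
        | tmul b n => simp [e₁, e₂]
    intro x y hxy
    apply e₁.injective
    apply h1
    rw [← nat, ← nat, hxy]
  have h3 := (Module.FaithfullyFlat.lTensor_injective_iff_injective B C (f.baseChange B)).mp h2
  intro x y hxy
  apply h3
  simpa [LinearMap.baseChange_eq_ltensor] using hxy

/-- The implication from isomorphic completions to flat and unramified. Let A → B be a local
homomorphism of Noetherian local rings and ψ a ring map from the completion of A at its maximal
ideal to that of B whose composite with A → A^ is A → B → B^. If ψ is bijective, then A → B is flat
and the maximal ideal of A generates the maximal ideal of B. (The published statement is the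
implication, for a morphism of algebraic varieties over an algebraically closed field, from
isomorphic induced maps of completed local rings at every point to flat and unramified; its proof is
this local-ring argument, valid for any Noetherian local rings. The converse implication is a
separate result.) -/
theorem result (A B : Type u) [CommRing A]
    [CommRing B] [IsLocalRing A] [IsLocalRing B] [IsNoetherianRing A] [IsNoetherianRing B]
    [Algebra A B] [IsLocalHom (algebraMap A B)]
    (ψ : AdicCompletion (IsLocalRing.maximalIdeal A) A →+* AdicCompletion (IsLocalRing.maximalIdeal B) B)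
    (hψ : ψ.comp (algebraMap A (AdicCompletion (IsLocalRing.maximalIdeal A) A)) =
      (algebraMap B (AdicCompletion (IsLocalRing.maximalIdeal B) B)).comp (algebraMap A B))
    (hbij : Function.Bijective ψ) :
    Module.Flat A B ∧
      Ideal.map (algebraMap A B) (IsLocalRing.maximalIdeal A) = IsLocalRing.maximalIdeal B := by
  set Ah := AdicCompletion (IsLocalRing.maximalIdeal A) A with hAh
  set Bh := AdicCompletion (IsLocalRing.maximalIdeal B) B with hBh
  haveI ffB : Module.FaithfullyFlat B Bh := Module.FaithfullyFlat.of_flat_of_isLocalHom
  have hψa : ∀ a : A, ψ (algebraMap A Ah a) = algebraMap A Bh a := fun a => RingHom.congr_fun hψ a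
  haveI flA : Module.Flat A Bh := by
    let e : Ah ≃ₗ[A] Bh :=
      { (RingEquiv.ofBijective ψ hbij).toAddEquiv with
        map_smul' := by
          intro a x
          change ψ (a • x) = a • ψ x
          rw [Algebra.smul_def, map_mul, hψa, Algebra.smul_def] }
    exact Module.Flat.of_linearEquiv e.symm
  refine ⟨flat_of_faithfullyFlat_of_flat A B Bh, ?_⟩
  apply Ideal.map_injective_of_faithfullyFlat (A := B) (B := Bh)
  rw [Ideal.map_map, ← hψ, ← Ideal.map_map, ← AdicCompletion.maximalIdeal_eq_map,
    ← AdicCompletion.maximalIdeal_eq_map]
  haveI : (Ideal.map ψ (IsLocalRing.maximalIdeal Ah)).IsMaximal :=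
    (Ideal.isMaximal_map_iff_of_bijective ψ hbij).mpr (IsLocalRing.maximalIdeal.isMaximal Ah)
  exact IsLocalRing.eq_maximalIdeal this

end Groth.Agent.S19461
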