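import Groth.Statements.S19462
import Mathlib

set_option autoImplicit false
universe u
open GrNak

namespace Groth.Agent.S19462

section AuxAll
open DirectSum

section Aux
variable {R : Type u} [CommRing R] {σ : Type u} [SetLike σ R] [AddSubmonoidClass σ R]
  (𝒜 : ℤ → σ) [GradedRing 𝒜]
  {M : Type u} [AddCommGroup M] [Module R M]
  {τ : Type u} [SetLike τ M] [AddSubmonoidClass τ M] (ℳ : ℤ → τ) [DirectSum.Decomposition ℳ]
  [SetLike.GradedSMul 𝒜 ℳ]

theorem coe_decompose_smul_gen {j : ℤ} (s : R) {x : M} (hx : x ∈ ℳ j) (d : ℤ) :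
    (decompose ℳ (s • x) d : M) = (decompose 𝒜 s (d - j) : R) • x := by
  classical
  conv_lhs => rw [← sum_support_decompose 𝒜 s, Finset.sum_smul]
  rw [decompose_sum, DFinsupp.finsetSum_apply, AddSubmonoidClass.coe_finsetSum]
  have hterm : ∀ i : ℤ, ((decompose ℳ ((decompose 𝒜 s i : R) • x)) d : M) =
      if i = d - j then (decompose 𝒜 s i : R) • x else 0 := by
    intro i
    have hmem : (decompose 𝒜 s i : R) • x ∈ ℳ (i + j) := by
      have := SetLike.GradedSMul.smul_mem (A := 𝒜) (B := ℳ) (decompose 𝒜 s i).2 hx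
      simpa [vadd_eq_add] using this
    split_ifs with h
    · have : i + j = d := by omega
      rw [← this]
      exact decompose_of_mem_same ℳ hmem
    · have : i + j ≠ d := by omega
      exact decompose_of_mem_ne ℳ hmem this
  simp only [hterm]
  rw [Finset.sum_ite_eq']
  split_ifs with h
  · rfl
  · rw [DFinsupp.notMem_support_iff] at h
    rw [h]
    simp

/-- elements all of whose components of degree `< N` vanish -/
def FF (N : ℤ) : Set R := {a | ∀ d < N, (decompose 𝒜 a d : R) = 0}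

theorem FF_add {N : ℤ} {a b : R} (ha : a ∈ FF 𝒜 N) (hb : b ∈ FF 𝒜 N) : a + b ∈ FF 𝒜 N := by
  intro d hd
  rw [decompose_add, DirectSum.add_apply, AddMemClass.coe_add, ha d hd, hb d hd, add_zero]

theorem FF_zero {N : ℤ} : (0 : R) ∈ FF 𝒜 N := by
  intro d _
  rw [decompose_zero]; rfl

theorem FF_sum {ι : Type*} {N : ℤ} (s : Finset ι) (f : ι → R) (h : ∀ i ∈ s, f i ∈ FF 𝒜 N) :
    ∑ i ∈ s, f i ∈ FF 𝒜 N := by
  classical
  induction s using Finset.induction_on with
  | empty => simpa using FF_zero 𝒜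
  | insert a s ha ih =>
    rw [Finset.sum_insert ha]
    exact FF_add 𝒜 (h a (Finset.mem_insert_self _ _))
      (ih fun i hi => h i (Finset.mem_insert_of_mem hi))

theorem FF_of_mem {N i : ℤ} (hi : N ≤ i) {a : R} (ha : a ∈ 𝒜 i) : a ∈ FF 𝒜 N := by
  intro d hd
  exact decompose_of_mem_ne 𝒜 ha (by omega)

theorem FF_mul {N : ℤ} {a b : R} (ha : a ∈ FF 𝒜 N) (hb : b ∈ FF 𝒜 1) : a * b ∈ FF 𝒜 (N + 1) := by
  classical
  rw [← sum_support_decompose 𝒜 a, ← sum_support_decompose 𝒜 b, Finset.sum_mul_sum]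
  refine FF_sum 𝒜 _ _ fun i hi => FF_sum 𝒜 _ _ fun j hj => ?_
  have hi' : N ≤ i := by
    by_contra hlt
    rw [DFinsupp.mem_support_iff] at hi
    apply hi
    apply Subtype.ext
    exact ha i (not_le.mp hlt)
  have hj' : 1 ≤ j := by
    by_contra hlt
    rw [DFinsupp.mem_support_iff] at hj
    apply hj
    apply Subtype.ext
    exact hb j (not_le.mp hlt)
  exact FF_of_mem 𝒜 (by omega) (SetLike.mul_mem_graded (decompose 𝒜 a i).2 (decompose 𝒜 b j).2)

theorem eq_zero_of_forall_FF {a : R} (h : ∀ N, a ∈ FF 𝒜 N) : a = 0 := by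
  classical
  rw [← sum_support_decompose 𝒜 a]
  refine Finset.sum_eq_zero fun i _ => ?_
  exact h (i + 1) i (by omega)

end Aux

section Main
variable {k : Type u} [Field k] {R : Type u} [CommRing R] [Algebra k R]
    {σ : Type u} [SetLike σ R] [AddSubmonoidClass σ R] (𝒜 : ℤ → σ) [GradedRing 𝒜]
    {M : Type u} [AddCommGroup M] [Module R M]
    {τ : Type u} [SetLike τ M] [AddSubmonoidClass τ M] (ℳ : ℤ → τ) [DirectSum.Decomposition ℳ]
    [SetLike.GradedSMul 𝒜 ℳ]

theorem exists_homog_gens' [Module.Finite R M] :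
    ∃ n : ℕ, ∃ (a : Fin n → ℤ) (x : Fin n → M), (∀ b, x b ∈ ℳ (a b)) ∧
      Submodule.span R (Set.range x) = ⊤ := by
  classical
  let 𝒢 : Set M := {x | ∃ d, x ∈ ℳ d}
  have htop : Submodule.span R 𝒢 = ⊤ := by
    rw [eq_top_iff]
    rintro y -
    rw [← sum_support_decompose ℳ y]
    exact Submodule.sum_mem _ fun d _ => Submodule.subset_span ⟨d, (decompose ℳ y d).2⟩
  have hfg : (Submodule.span R 𝒢).FG := htop ▸ Module.Finite.fg_top
  obtain ⟨s', hs', hspan⟩ := (Submodule.fg_span_iff_fg_span_finset_subset _).1 hfg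
  let e := s'.equivFin
  have hmem : ∀ j : Fin s'.card, ∃ d, ((e.symm j : s') : M) ∈ ℳ d := fun j => hs' (e.symm j).2
  choose a ha using hmem
  refine ⟨s'.card, a, fun j => ((e.symm j : s') : M), ha, ?_⟩
  rw [← htop, hspan]
  congr 1
  ext y
  constructor
  · rintro ⟨j, rfl⟩; exact (e.symm j).2
  · intro hy; exact ⟨e ⟨y, hy⟩, by simp⟩

theorem rel_zero_of_minimal (h0 : ∀ x ∈ 𝒜 0, ∃ c : k, algebraMap k R c = x)
    {n : ℕ} (a : Fin n → ℤ) (x : Fin n → M)
    (hx : ∀ b, x b ∈ ℳ (a b)) (hspan : Submodule.span R (Set.range x) = ⊤)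
    (hmin : ∀ m < n, ¬ ∃ (a' : Fin m → ℤ) (x' : Fin m → M), (∀ b, x' b ∈ ℳ (a' b)) ∧
      Submodule.span R (Set.range x') = ⊤)
    (u : Fin n → R) (hu : ∑ b, u b • x b = 0) (b₀ : Fin n) :
    (decompose 𝒜 (u b₀) 0 : R) = 0 := by
  classical
  by_contra hne
  obtain ⟨c, hc⟩ := h0 _ (decompose 𝒜 (u b₀) 0).2
  have hc0 : c ≠ 0 := by
    rintro rfl
    rw [map_zero] at hc
    exact hne hc.symm
  have hrel : ∑ b, (decompose 𝒜 (u b) (a b₀ - a b) : R) • x b = 0 := by
    have h1 := congrArg (fun y => (decompose ℳ y (a b₀) : M)) hu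
    simp only [decompose_sum, DFinsupp.finsetSum_apply, AddSubmonoidClass.coe_finsetSum,
      decompose_zero] at h1
    rw [← Finset.sum_congr rfl (fun b _ => coe_decompose_smul_gen 𝒜 ℳ (u b) (hx b) (a b₀))]
    simpa using h1
  have hb₀ : (decompose 𝒜 (u b₀) (a b₀ - a b₀) : R) = algebraMap k R c := by
    rw [sub_self]; exact hc.symm
  obtain ⟨m, rfl⟩ : ∃ m, n = m + 1 := by
    cases n with
    | zero => exact b₀.elim0
    | succ m => exact ⟨m, rfl⟩
  refine hmin m (Nat.lt_succ_self m) ⟨a ∘ b₀.succAbove, x ∘ b₀.succAbove,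
    fun b => hx _, ?_⟩
  rw [eq_top_iff, ← hspan, Submodule.span_le]
  rintro _ ⟨b, rfl⟩
  by_cases hb : b = b₀
  · subst hb
    rw [Fin.sum_univ_succAbove _ b, hb₀] at hrel
    have h1 : x b = (algebraMap k R c⁻¹) •
        (-(∑ j, (decompose 𝒜 (u (b.succAbove j)) (a b - a (b.succAbove j)) : R) •
          x (b.succAbove j))) := by
      rw [← eq_neg_of_add_eq_zero_left hrel, smul_smul, ← map_mul, inv_mul_cancel₀ hc0, map_one,
        one_smul]
    rw [h1]
    refine Submodule.smul_mem _ _ (Submodule.neg_mem _ (Submodule.sum_mem _ fun j _ => ?_))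
    exact Submodule.smul_mem _ _ (Submodule.subset_span ⟨j, rfl⟩)
  · obtain ⟨j, rfl⟩ := Fin.exists_succAbove_eq hb
    exact Submodule.subset_span ⟨j, rfl⟩

theorem FF_antitone {N N' : ℤ} (h : N ≤ N') {a : R} (ha : a ∈ FF 𝒜 N') : a ∈ FF 𝒜 N :=
  fun d hd => ha d (lt_of_lt_of_le hd h)

theorem main' (hneg : ∀ i : ℤ, i < 0 → ∀ x ∈ 𝒜 i, x = 0)
    (h0 : ∀ x ∈ 𝒜 0, ∃ c : k, algebraMap k R c = x) [Module.Finite R M] :
    Module.Projective R M ↔
      ∃ (ι : Type u) (b : Module.Basis ι R M), ∀ i : ι, SetLike.IsHomogeneousElem ℳ (b i) := by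
  classical
  constructor
  swap
  · rintro ⟨ι, b, -⟩
    exact Module.Projective.of_basis b
  intro hproj
  have hex := exists_homog_gens' (R := R) ℳ
  obtain ⟨n, ⟨a, x, hx, hspan⟩, hmin⟩ : ∃ n : ℕ, (∃ (a : Fin n → ℤ) (x : Fin n → M),
      (∀ b, x b ∈ ℳ (a b)) ∧ Submodule.span R (Set.range x) = ⊤) ∧
      ∀ m < n, ¬ ∃ (a' : Fin m → ℤ) (x' : Fin m → M), (∀ b, x' b ∈ ℳ (a' b)) ∧
        Submodule.span R (Set.range x') = ⊤ :=
    ⟨Nat.find hex, Nat.find_spec hex, fun m hm => Nat.find_min hex hm⟩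
  set φ := Fintype.linearCombination R x with hφ
  have hsurj : Function.Surjective φ := by
    rw [← LinearMap.range_eq_top, Fintype.range_linearCombination, hspan]
  obtain ⟨s, hs⟩ := Module.projective_lifting_property φ LinearMap.id hsurj
  have hs' : ∀ y, φ (s y) = y := fun y => by
    have := LinearMap.congr_fun hs y
    simpa using this
  -- the vectors w c = e_c - s (φ e_c)
  let w : Fin n → Fin n → R := fun c => Pi.single c 1 - s (φ (Pi.single c 1))
  have hw_rel : ∀ c, ∑ b, w c b • x b = 0 := by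
    intro c
    have h1 : φ (w c) = 0 := by
      change φ (Pi.single c 1 - s (φ (Pi.single c 1))) = 0
      rw [map_sub, hs', sub_self]
    rw [hφ, Fintype.linearCombination_apply] at h1
    exact h1
  have hw1 : ∀ c b, w c b ∈ FF 𝒜 1 := by
    intro c b d hd
    rcases lt_or_eq_of_le (show d ≤ 0 by omega) with hlt | rfl
    · exact hneg d hlt _ (decompose 𝒜 (w c b) d).2
    · exact rel_zero_of_minimal 𝒜 ℳ h0 a x hx hspan hmin (w c) (hw_rel c) b
  -- E = id - s ∘ φ is idempotent
  let E : (Fin n → R) →ₗ[R] (Fin n → R) := LinearMap.id - s ∘ₗ φ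
  have hE : ∀ c, E (Pi.single c 1) = w c := fun c => rfl
  have hEE : ∀ v, E (E v) = E v := by
    intro v
    change (E v) - s (φ (E v)) = E v
    have : φ (E v) = 0 := by
      change φ (v - s (φ v)) = 0
      rw [map_sub, hs', sub_self]
    rw [this, map_zero, sub_zero]
  have hEv : ∀ v : Fin n → R, E v = ∑ d, v d • w d := by
    intro v
    conv_lhs => rw [pi_eq_sum_univ v]
    rw [map_sum]
    refine Finset.sum_congr rfl fun d _ => ?_
    rw [map_smul]
    congr 1
    rw [← hE]
    congr 1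
    funext j
    simp [Pi.single_apply, eq_comm]
  have hww : ∀ c b, w c b = ∑ d, w c d * w d b := by
    intro c b
    have h1 : E (w c) = w c := by rw [← hE, hEE]
    have h2 := congrFun (hEv (w c)) b
    rw [h1] at h2
    rw [h2, Finset.sum_apply]
    rfl
  have hwN : ∀ N : ℕ, ∀ c b, w c b ∈ FF 𝒜 ((N : ℤ) + 1) := by
    intro N
    induction N with
    | zero =>
      intro c b
      simpa using hw1 c b
    | succ N ih =>
      intro c b
      rw [hww c b]
      push_cast
      exact FF_sum 𝒜 _ _ fun d _ => FF_mul 𝒜 (ih c d) (hw1 d b)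
  have hw0 : ∀ c b, w c b = 0 := by
    intro c b
    apply eq_zero_of_forall_FF 𝒜
    intro N
    exact FF_antitone 𝒜 (by omega : N ≤ (N.toNat : ℤ) + 1) (hwN N.toNat c b)
  have hsφ : s ∘ₗ φ = LinearMap.id := by
    apply LinearMap.pi_ext'
    intro c
    apply LinearMap.ext_ring
    have : w c = 0 := funext fun b => hw0 c b
    have h2 : Pi.single c 1 - s (φ (Pi.single c 1)) = (0 : Fin n → R) := this
    simp only [LinearMap.coe_comp, LinearMap.coe_single, Function.comp_apply, LinearMap.id_coe,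
      id_eq]
    exact (sub_eq_zero.mp h2).symm
  have hφinj : Function.Injective φ := by
    intro v v' hv
    have h1 := LinearMap.congr_fun hsφ v
    have h2 := LinearMap.congr_fun hsφ v'
    simp only [LinearMap.coe_comp, Function.comp_apply, LinearMap.id_coe, id_eq] at h1 h2
    rw [← h1, ← h2, hv]
  let e : (Fin n → R) ≃ₗ[R] M := LinearEquiv.ofBijective φ ⟨hφinj, hsurj⟩
  let B : Module.Basis (Fin n) R M := Module.Basis.ofEquivFun e.symm
  refine ⟨ULift.{u} (Fin n), B.reindex Equiv.ulift.symm, ?_⟩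
  intro i
  have hB : B.reindex Equiv.ulift.symm i = x i.down := by
    rw [Module.Basis.reindex_apply, Module.Basis.coe_ofEquivFun]
    simp only [LinearEquiv.symm_symm]
    change φ (Pi.single i.down 1) = x i.down
    rw [hφ, Fintype.linearCombination_apply_single, one_smul]
  rw [hB]
  exact ⟨_, hx i.down⟩

end Main

end AuxAll

/-- Let k be a field and R a commutative ℤ-graded k-algebra whose pieces of negative degree vanish and
whose degree-zero piece is the image of k, and let M be a finitely generated ℤ-graded R-module,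
graded compatibly with R. Then M is a projective R-module if and only if M has an R-basis consisting
of homogeneous elements, i.e. M is a free graded module. (The published statement takes R a graded
quotient of a polynomial ring k[x_0, …, x_n] with its standard grading; stated here for any
commutative graded k-algebra concentrated in non-negative degrees with degree-zero part k, to which
the same graded-Nakayama argument applies.) -/
theorem result {k : Type u} [Field k] {R : Type u} [CommRing R] [Algebra k R]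
    {σ : Type u} [SetLike σ R] [AddSubmonoidClass σ R] (𝒜 : ℤ → σ) [GradedRing 𝒜]
    (hneg : ∀ i : ℤ, i < 0 → ∀ x ∈ 𝒜 i, x = 0)
    (hk : ∀ c : k, algebraMap k R c ∈ 𝒜 0) (h0 : ∀ x ∈ 𝒜 0, ∃ c : k, algebraMap k R c = x)
    {M : Type u} [AddCommGroup M] [Module R M] [Module.Finite R M]
    {τ : Type u} [SetLike τ M] [AddSubmonoidClass τ M] (ℳ : ℤ → τ) [DirectSum.Decomposition ℳ]
    [SetLike.GradedSMul 𝒜 ℳ] :
    Module.Projective R M ↔
      ∃ (ι : Type u) (b : Module.Basis ι R M), ∀ i : ι, SetLike.IsHomogeneousElem ℳ (b i) := by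
  exact main' 𝒜 ℳ hneg h0

end Groth.Agent.S19462
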