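import Groth.Statements.S19465
import Mathlib
import Groth.Agent.Lib.helper21.SU2

set_option autoImplicit false
universe u
open CategoryTheory CategoryTheory.Limits MonoidalCategory CartesianMonoidalCategory MonObj GrpObj AlgebraicGeometry
open AlgGrp

namespace Groth.Agent.S19465

section Helpers

open AlgebraicGeometry CategoryTheory Limits TopologicalSpace MonoidalCategory CartesianMonoidalCategory MonObj IsLocalRing

section
variable {X Y : Scheme.{u}} (f : X ⟶ Y)

lemma bij_of_fibre_iso (x : X) (hiso : IsIso (f.fiberToSpecResidueField (f.base x))) :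
    Function.Bijective (Ideal.quotientMap
        ((maximalIdeal (Y.presheaf.stalk (f.base x))).map (f.stalkMap x).hom)
        (f.stalkMap x).hom Ideal.le_comap_map) := by
  set φ := f.stalkMap x with hφ
  set I : Ideal (X.presheaf.stalk x) :=
    (maximalIdeal (Y.presheaf.stalk (f.base x))).map φ.hom with hI
  have hloc : IsLocalHom φ.hom := f.toLRSHom.prop x
  have hIle : I ≤ maximalIdeal (X.presheaf.stalk x) :=
    ((IsLocalRing.local_hom_TFAE φ.hom).out 0 2 rfl rfl).mp hloc
  haveI : Nontrivial (X.presheaf.stalk x ⧸ I) :=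
    Ideal.Quotient.nontrivial_iff.2 (fun h => (maximalIdeal.isMaximal _).ne_top
      (top_le_iff.1 (h ▸ hIle)))
  let ψ : (Y.presheaf.stalk (f.base x) ⧸ maximalIdeal (Y.presheaf.stalk (f.base x))) →+*
      (X.presheaf.stalk x ⧸ I) := Ideal.quotientMap I φ.hom Ideal.le_comap_map
  let α : Y.residueField (f.base x) ⟶ CommRingCat.of (X.presheaf.stalk x ⧸ I) :=
    CommRingCat.ofHom ψ
  let πB : X.presheaf.stalk x ⟶ CommRingCat.of (X.presheaf.stalk x ⧸ I) :=
    CommRingCat.ofHom (Ideal.Quotient.mk I)
  have hcomm : Y.residue (f.base x) ≫ α = φ ≫ πB := by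
    ext a
    rfl
  -- the morphism m₁
  let m₁ : Spec (CommRingCat.of (X.presheaf.stalk x ⧸ I)) ⟶ X := Spec.map πB ≫ X.fromSpecStalk x
  haveI : IsClosedImmersion (Spec.map πB) :=
    IsClosedImmersion.spec_of_surjective _ Ideal.Quotient.mk_surjective
  haveI : Mono m₁ := mono_comp _ _
  have hw : m₁ ≫ f = Spec.map α ≫ Y.fromSpecResidueField (f.base x) := by
    simp only [m₁, Category.assoc, Scheme.fromSpecResidueField]
    rw [← Scheme.SpecMap_stalkMap_fromSpecStalk, ← Spec.map_comp_assoc, ← Spec.map_comp_assoc,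
      hcomm]
  let l : Spec (CommRingCat.of (X.presheaf.stalk x ⧸ I)) ⟶ f.fiber (f.base x) :=
    pullback.lift m₁ (Spec.map α) hw
  have h1 : l ≫ f.fiberι (f.base x) = m₁ := pullback.lift_fst _ _ _
  have h2 : l ≫ f.fiberToSpecResidueField (f.base x) = Spec.map α := pullback.lift_snd _ _ _
  have h3 : m₁ = Spec.map α ≫ inv (f.fiberToSpecResidueField (f.base x)) ≫ f.fiberι (f.base x) := by
    rw [← h2, Category.assoc, IsIso.hom_inv_id_assoc, h1]
  haveI : Mono (Spec.map α ≫ inv (f.fiberToSpecResidueField (f.base x)) ≫ f.fiberι (f.base x)) := by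
    rw [← h3]
    infer_instance
  haveI : Mono (Spec.map α) := mono_of_mono _ (inv (f.fiberToSpecResidueField (f.base x)) ≫
    f.fiberι (f.base x))
  haveI : Mono α.op := by
    have : Mono (Scheme.Spec.map α.op) := ‹Mono (Spec.map α)›
    exact Scheme.Spec.mono_of_mono_map this
  haveI : Epi α := unop_epi_of_mono α.op
  letI : Algebra (Y.presheaf.stalk (f.base x) ⧸ maximalIdeal (Y.presheaf.stalk (f.base x)))
      (X.presheaf.stalk x ⧸ I) := ψ.toAlgebra
  haveI : Algebra.IsEpi (Y.presheaf.stalk (f.base x) ⧸ maximalIdeal (Y.presheaf.stalk (f.base x)))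
      (X.presheaf.stalk x ⧸ I) := CommRingCat.epi_iff_epi.1 ‹Epi α›
  letI : Field (Y.presheaf.stalk (f.base x) ⧸ maximalIdeal (Y.presheaf.stalk (f.base x))) :=
    Ideal.Quotient.field _
  refine ⟨RingHom.injective ψ, ?_⟩
  exact Groth.Agent.H21.SU.surjective_of_isEpi_field
    (k := Y.presheaf.stalk (f.base x) ⧸ maximalIdeal (Y.presheaf.stalk (f.base x)))
    (C := X.presheaf.stalk x ⧸ I)

lemma inj_of_fibre_iso (x x' : X) (hx : f.base x' = f.base x)
    (hiso : IsIso (f.fiberToSpecResidueField (f.base x))) : x' = x := by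
  haveI : Subsingleton ↥(Spec (Y.residueField (f.base x))) :=
    inferInstanceAs (Subsingleton (PrimeSpectrum (Y.residueField (f.base x))))
  haveI : Subsingleton ↥(f.fiber (f.base x)) :=
    (f.fiberToSpecResidueField (f.base x)).homeomorph.injective.subsingleton
  haveI : Subsingleton ↥(f ⁻¹' {f.base x}) := (f.fiberHomeo (f.base x)).symm.injective.subsingleton
  have h := Subsingleton.elim (⟨x', hx⟩ : ↥(f ⁻¹' {f.base x})) ⟨x, rfl⟩
  exact congr($(h).1)

theorem iso_of_fibres [LocallyOfFiniteType f] (e : Y ⟶ X) (he : e ≫ f = 𝟙 Y)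
    (h : ∀ y : Y, IsIso (f.fiberToSpecResidueField y)) : IsIso f := by
  haveI : Mono f := Groth.Agent.H21.SU.mono_of_fibres f fun x =>
    ⟨fun x' hx' => inj_of_fibre_iso f x x' hx' (h _), bij_of_fibre_iso f x (h _)⟩
  have h1 : f ≫ e = 𝟙 X := by
    rw [← cancel_mono f, Category.assoc, he, Category.comp_id, Category.id_comp]
  exact ⟨e, h1, he⟩

end

theorem main19465 (S : Scheme.{u}) (G : Over S) [GrpObj G] [LocallyOfFiniteType G.hom] :
    IsIso G.hom ↔ ∀ s : S, IsIso (G.hom.fiberToSpecResidueField s) := by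
  constructor
  · intro h s
    exact inferInstanceAs (IsIso (pullback.snd G.hom (S.fromSpecResidueField s)))
  · intro h
    exact iso_of_fibres G.hom (η[G]).left (Over.w η[G]) h

end Helpers


/-- Let S be a scheme and G an S-group scheme whose structure morphism G → S is locally of finite type.
Then G → S is an isomorphism (G is the trivial group scheme over S) if and only if every fibre G_s →
Spec κ(s), s ∈ S, is an isomorphism. -/
theorem result (S : Scheme.{u}) (G : Over S)
    [GrpObj G] [LocallyOfFiniteType G.hom] :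
    IsIso G.hom ↔ ∀ s : S, IsIso (G.hom.fiberToSpecResidueField s) := by
  exact main19465 S G

end Groth.Agent.S19465
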