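import Groth.Statements.S19471
import Mathlib
import Groth.Agent.Lib.helper24.GrMinRes2
import Groth.Agent.Lib.helper21.TorLib
import Groth.Agent.S15436

set_option autoImplicit false
universe u
open GrSyz

namespace Groth.Agent.S19471

namespace Groth.Agent.S19471.Aux
open CategoryTheory CategoryTheory.Limits MonoidalCategory Groth.Agent.H21.TorLib

theorem isZero_congr_ideal {R : Type u} [CommRing R] {I I' : Ideal R} (h : I = I')
    (N : ModuleCat.{u} R) (i : ℕ) :
    IsZero (T i (ModuleCat.of R (R ⧸ I)) N) ↔ IsZero (T i (ModuleCat.of R (R ⧸ I')) N) := by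
  subst h; rfl

theorem tor_vanish_step {R : Type u} [CommRing R] (J : Ideal R) (x : R)
    (hx : ∀ f : R, x * f ∈ J → f ∈ J) (N : ModuleCat.{u} R) (d : ℕ)
    (h : ∀ i, d < i → IsZero (T i (ModuleCat.of R (R ⧸ J)) N)) :
    ∀ i, d + 1 < i → IsZero (T i (ModuleCat.of R (R ⧸ (J ⊔ Ideal.span {x}))) N) := by
  let f : (R ⧸ J) →ₗ[R] (R ⧸ J) := LinearMap.lsmul R (R ⧸ J) x
  let g : (R ⧸ J) →ₗ[R] (R ⧸ (J ⊔ Ideal.span {x})) :=
    Submodule.mapQ J (J ⊔ Ideal.span {x}) LinearMap.id (by
      intro y hy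
      exact Ideal.mem_sup_left hy)
  have hf : Function.Injective f := by
    rw [injective_iff_map_eq_zero]
    intro y hy
    obtain ⟨r, rfl⟩ := Ideal.Quotient.mk_surjective y
    have h1 : (Ideal.Quotient.mk J) (x * r) = 0 := by
      rw [map_mul]
      have : f (Ideal.Quotient.mk J r) = x • (Ideal.Quotient.mk J r) := rfl
      rw [this, Algebra.smul_def, Ideal.Quotient.algebraMap_eq] at hy
      exact hy
    rw [Ideal.Quotient.eq_zero_iff_mem] at h1 ⊢
    exact hx r h1
  have hg : Function.Surjective g := by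
    intro y
    obtain ⟨r, rfl⟩ := Ideal.Quotient.mk_surjective y
    exact ⟨Ideal.Quotient.mk J r, rfl⟩
  have hex : Function.Exact f g := by
    intro y
    obtain ⟨r, rfl⟩ := Ideal.Quotient.mk_surjective y
    have hgr : g (Ideal.Quotient.mk J r) = Ideal.Quotient.mk (J ⊔ Ideal.span {x}) r := rfl
    rw [hgr, Ideal.Quotient.eq_zero_iff_mem, Submodule.mem_sup]
    constructor
    · rintro ⟨a, ha, b, hb, hab⟩
      rw [Ideal.mem_span_singleton'] at hb
      obtain ⟨c, rfl⟩ := hb
      refine ⟨Ideal.Quotient.mk J c, ?_⟩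
      show x • (Ideal.Quotient.mk J c) = _
      rw [Algebra.smul_def, Ideal.Quotient.algebraMap_eq, ← map_mul, ← hab, map_add,
        Ideal.Quotient.eq_zero_iff_mem.2 ha, zero_add, mul_comm]
    · rintro ⟨z, hz⟩
      obtain ⟨c, rfl⟩ := Ideal.Quotient.mk_surjective z
      have h1 : x • (Ideal.Quotient.mk J c) = Ideal.Quotient.mk J r := hz
      rw [Algebra.smul_def, Ideal.Quotient.algebraMap_eq, ← map_mul, Ideal.Quotient.eq] at h1
      refine ⟨r - x * c, ?_, x * c, Ideal.mem_span_singleton'.2 ⟨c, mul_comm _ _⟩, by ring⟩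
      have := J.neg_mem h1
      rwa [neg_sub] at this
  have hE := linSES_shortExact f g hf hex hg
  intro i hi
  obtain ⟨n, rfl⟩ : ∃ n, i = n + 1 := ⟨i - 1, by omega⟩
  exact isZero_right₁ _ hE N n (h (n + 1) (by omega)) (h n (by omega))

theorem tor_vanish_base {R : Type u} [CommRing R] (N : ModuleCat.{u} R) :
    ∀ i, 0 < i → IsZero (T i (ModuleCat.of R (R ⧸ (⊥ : Ideal R))) N) := by
  intro i hi
  obtain ⟨n, rfl⟩ : ∃ n, i = n + 1 := ⟨i - 1, by omega⟩
  haveI : Module.Flat R (ModuleCat.of R (R ⧸ (⊥ : Ideal R))) :=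
    Module.Flat.of_linearEquiv (Submodule.quotEquivOfEqBot (⊥ : Submodule R R) rfl)
  exact isZero_of_flat_left _ N n

end Groth.Agent.S19471.Aux

open CategoryTheory CategoryTheory.Limits Groth.Agent.H21.TorLib Groth.Agent.Lib.helper24.GrMinRes in

/-- Let k be an algebraically closed field, S = k[x_0, …, x_n] with its standard grading, and M a
finitely generated ℤ-graded S-module. Then M has a graded free resolution of length at most n + 1:
an exact sequence 0 → F_{n+1} → … → F_1 → F_0 → M → 0 in which every F_i is a finite direct sum of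
twists S(−j) (a finite-rank free module with a homogeneous basis) and all maps respect the grading. -/
theorem result (k : Type u) [Field k] [IsAlgClosed k] (n : ℕ)
    (M : Type u) [AddCommGroup M] [Module k M] [Module (MvPolynomial (Fin (n + 1)) k) M]
    [IsScalarTower k (MvPolynomial (Fin (n + 1)) k) M] [Module.Finite (MvPolynomial (Fin (n + 1)) k) M]
    (ℳ : ℤ → Submodule k M) [DirectSum.Decomposition ℳ]
    [SetLike.GradedSMul (GrSyz.stdGr k (Fin (n + 1))) ℳ] :
    ∃ F : GrSyz.FreeRes (GrSyz.stdGr k (Fin (n + 1))) ℳ, F.HasLengthLE (n + 1) := by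
  classical
  obtain ⟨F, hF⟩ := exists_freeRes_isMinimal (k := k) (r := n) (ℳ := ℳ)
  refine ⟨F, fun i hi => ?_⟩
  have hlen := Groth.Agent.S15436.result k n M ℳ F hF i
  -- chain of ideals
  let J : ℕ → Ideal (MvPolynomial (Fin (n + 1)) k) := fun j =>
    Ideal.span (MvPolynomial.X '' {i : Fin (n + 1) | (i : ℕ) < j})
  have hJ0 : J 0 = ⊥ := by
    show Ideal.span (MvPolynomial.X '' {i : Fin (n + 1) | (i : ℕ) < 0}) = ⊥
    have : {i : Fin (n + 1) | (i : ℕ) < 0} = ∅ := by ext i; simp
    rw [this, Set.image_empty, Ideal.span_empty]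
  have hJS : ∀ j (hj : j < n + 1), J (j + 1) = J j ⊔ Ideal.span {MvPolynomial.X (⟨j, hj⟩ : Fin (n + 1))} := by
    intro j hj
    show Ideal.span (MvPolynomial.X '' {i : Fin (n + 1) | (i : ℕ) < j + 1}) =
      Ideal.span (MvPolynomial.X '' {i : Fin (n + 1) | (i : ℕ) < j}) ⊔ _
    have : {i : Fin (n + 1) | (i : ℕ) < j + 1} = {i : Fin (n + 1) | (i : ℕ) < j} ∪ {⟨j, hj⟩} := by
      ext i
      simp only [Set.mem_ofPred_eq, Set.mem_union, Set.mem_singleton_iff, Fin.ext_iff]
      omega
    rw [this, Set.image_union, Ideal.span_union, Set.image_singleton]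
  have hreg : ∀ j (hj : j < n + 1) (f : MvPolynomial (Fin (n + 1)) k),
      MvPolynomial.X (⟨j, hj⟩ : Fin (n + 1)) * f ∈ J j → f ∈ J j := by
    intro j hj f hf
    show f ∈ Ideal.span (MvPolynomial.X '' {i : Fin (n + 1) | (i : ℕ) < j})
    have hf' : MvPolynomial.X (⟨j, hj⟩ : Fin (n + 1)) * f ∈
      Ideal.span (MvPolynomial.X '' {i : Fin (n + 1) | (i : ℕ) < j}) := hf
    rw [MvPolynomial.mem_ideal_span_X_image] at hf' ⊢
    intro m hm
    have hm' : Finsupp.single (⟨j, hj⟩ : Fin (n + 1)) 1 + m ∈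
        (MvPolynomial.X (⟨j, hj⟩ : Fin (n + 1)) * f).support := by
      rw [MvPolynomial.mem_support_iff, MvPolynomial.coeff_X_mul]
      exact MvPolynomial.mem_support_iff.1 hm
    obtain ⟨i, hi, hne⟩ := hf' _ hm'
    refine ⟨i, hi, ?_⟩
    have hij : (⟨j, hj⟩ : Fin (n + 1)) ≠ i := by
      intro h
      rw [← h] at hi
      simp at hi
    rwa [Finsupp.add_apply, Finsupp.single_eq_of_ne' hij, zero_add] at hne
  have hchain : ∀ j, j ≤ n + 1 → ∀ i, j < i →
      IsZero (T i (ModuleCat.of _ (MvPolynomial (Fin (n + 1)) k ⧸ J j))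
        (ModuleCat.of (MvPolynomial (Fin (n + 1)) k) M)) := by
    intro j
    induction j with
    | zero =>
      intro _ i hi
      rw [Groth.Agent.S19471.Aux.isZero_congr_ideal hJ0 _ i]
      exact Groth.Agent.S19471.Aux.tor_vanish_base _ i hi
    | succ j ih =>
      intro hj i hi
      rw [Groth.Agent.S19471.Aux.isZero_congr_ideal (hJS j (by omega)) _ i]
      exact Groth.Agent.S19471.Aux.tor_vanish_step (J j) _ (hreg j (by omega)) _ j
        (ih (by omega)) i hi
  have hJtop : (GrSyz.irrel (GrSyz.stdGr k (Fin (n + 1)))).toIdeal = J (n + 1) := by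
    apply le_antisymm
    · intro s hs
      show s ∈ Ideal.span (MvPolynomial.X '' {i : Fin (n + 1) | (i : ℕ) < n + 1})
      rw [MvPolynomial.mem_ideal_span_X_image]
      intro m hm
      have h0 := constantCoeff_of_mem_irrel hs
      have hm0 : m ≠ 0 := by
        intro h
        rw [h, MvPolynomial.mem_support_iff] at hm
        exact hm h0
      obtain ⟨i, hi⟩ : ∃ i, m i ≠ 0 := by
        by_contra hcon
        push Not at hcon
        exact hm0 (Finsupp.ext hcon)
      exact ⟨i, i.2, hi⟩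
    · show Ideal.span _ ≤ _
      rw [Ideal.span_le]
      rintro _ ⟨i, -, rfl⟩
      exact Ideal.subset_span ⟨1, one_pos,
        (GrSyz.mem_stdGr_iff k (Fin (n + 1)) 1 _).2 (MvPolynomial.isWeightedHomogeneous_X _ _ i)⟩
  have hz : IsZero (T i (ModuleCat.of _ (MvPolynomial (Fin (n + 1)) k ⧸
      (GrSyz.irrel (GrSyz.stdGr k (Fin (n + 1)))).toIdeal))
        (ModuleCat.of (MvPolynomial (Fin (n + 1)) k) M)) := by
    rw [Groth.Agent.S19471.Aux.isZero_congr_ideal hJtop _ i]
    exact hchain (n + 1) le_rfl i hi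
  have hsub : Subsingleton (T i (ModuleCat.of _ (MvPolynomial (Fin (n + 1)) k ⧸
      (GrSyz.irrel (GrSyz.stdGr k (Fin (n + 1)))).toIdeal))
        (ModuleCat.of (MvPolynomial (Fin (n + 1)) k) M)) :=
    ModuleCat.subsingleton_of_isZero hz
  rw [Module.length_eq_zero] at hlen
  exact_mod_cast hlen.symm

end Groth.Agent.S19471
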