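import Groth.Statements.S19473
import Mathlib
import Groth.Agent.S0346

set_option autoImplicit false
universe u
open CategoryTheory CategoryTheory.Limits MonoidalCategory CartesianMonoidalCategory MonObj GrpObj AlgebraicGeometry
open AlgGrp

namespace Groth.Agent.S19473

section Aux
open CategoryTheory CategoryTheory.Limits MonoidalCategory CartesianMonoidalCategory MonObj GrpObj AlgebraicGeometry

theorem main (S : Scheme.{u})
    (G : Over S) [GrpObj G] [LocallyOfFiniteType G.hom] :
    FormallyUnramified G.hom ↔ IsOpenImmersion η[G].left := by
  have hw : η[G].left ≫ G.hom = 𝟙 S := by
    have := Over.w η[G]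
    simpa using this
  constructor
  · intro h
    have hd : IsOpenImmersion (pullback.diagonal G.hom) := inferInstance
    have h1 : IsOpenImmersion (η[G].left ≫ G.hom) := by
      rw [hw]; exact (inferInstance : @IsOpenImmersion S S (𝟙 S))
    haveI : (@IsOpenImmersion).HasOfPostcompProperty (@IsOpenImmersion).diagonal :=
      (MorphismProperty.hasOfPostcompProperty_iff_le_diagonal (P := @IsOpenImmersion)
        (Q := (@IsOpenImmersion).diagonal)).mpr le_rfl
    exact MorphismProperty.of_postcomp (W := @IsOpenImmersion)
      (W' := (@IsOpenImmersion).diagonal) η[G].left G.hom hd h1
  · intro h
    haveI : IsOpenImmersion (pullback.diagonal G.hom) :=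
      Groth.Agent.S0346.diagonal_of_unit @IsOpenImmersion S G h
    infer_instance

end Aux

/-- Let S be a scheme and G an S-group scheme whose structure morphism G → S is locally of finite type.
Then G → S is unramified — formally unramified, since it is locally of finite type — if and only if
the identity section S → G is an open immersion. (The separated and quasi-separated clauses of the
published item are separate results.) -/
theorem result (S : Scheme.{u})
    (G : Over S) [GrpObj G] [LocallyOfFiniteType G.hom] :
    FormallyUnramified G.hom ↔ IsOpenImmersion η[G].left := by
  exact main S G

end Groth.Agent.S19473
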