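import Groth.Statements.S19474
import Mathlib
import Groth.Agent.Lib.helper24.AdicLocal

set_option autoImplicit false
universe u
open CAlg

namespace Groth.Agent.S19474



/-- Let A be a Noetherian local ring and I an ideal of A different from A. Then the I-adic completion of
A has the same Krull dimension as A, and A is a regular local ring if and only if the I-adic
completion of A is a regular local ring (in particular the completion is then local and Noetherian).
The case where I is the maximal ideal is the classical one; here I is any proper ideal. -/
theorem result (A : Type u) [CommRing A]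
    [IsLocalRing A] [IsNoetherianRing A] (I : Ideal A) (hI : I ≠ ⊤) :
    ringKrullDim (AdicCompletion I A) = ringKrullDim A ∧
      (IsRegularLocalRing A ↔ IsRegularLocalRing (AdicCompletion I A)) := by
  have hdim := Groth.Agent.Lib.helper24.AdicLocal.ringKrullDim_eq A I hI
  refine ⟨hdim, ?_⟩
  haveI := Groth.Agent.Lib.helper24.AdicLocal.isLocalRing A I hI
  haveI : IsNoetherianRing (AdicCompletion I A) := Groth.Agent.S0543.result A _
  constructor
  · intro h
    rw [isRegularLocalRing_iff, Groth.Agent.Lib.helper24.AdicLocal.spanFinrank_maximalIdeal_eq A I hI,
      hdim]
    exact h.spanFinrank_maximalIdeal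
  · intro h
    rw [isRegularLocalRing_iff, ← Groth.Agent.Lib.helper24.AdicLocal.spanFinrank_maximalIdeal_eq A I hI,
      ← hdim]
    convert h.spanFinrank_maximalIdeal

end Groth.Agent.S19474
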