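import Groth.Statements.S19475
import Mathlib
set_option linter.style.haveILetI false

set_option autoImplicit false
universe u
open CAlg

namespace Groth.Agent.S19475

open IsLocalRing in
/-- Let A be a Noetherian ring, B an A-algebra, q a prime ideal of B and p its preimage in A; let A_p
and B_q be the local rings at p and q and Â_p the completion of A_p at its maximal ideal pA_p. Then
the ideal generated by qB_q in B_q ⊗ Â_p is maximal. (The tensor product is formed over A; since A_p
is a localization of A it agrees with the tensor product over A_p used in the published statement.) -/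
theorem result (A B : Type u) [CommRing A] [CommRing B]
    [Algebra A B] [IsNoetherianRing A] (q : Ideal B) [q.IsPrime] :
    ((maximalIdeal (Localization.AtPrime q)).map
      (Algebra.TensorProduct.includeLeftRingHom :
        Localization.AtPrime q →+* TensorProduct A (Localization.AtPrime q)
          (AdicCompletion (maximalIdeal (Localization.AtPrime (q.under A)))
            (Localization.AtPrime (q.under A))))).IsMaximal := by
  classical
  set p : Ideal A := q.under A with hp
  set Ap := Localization.AtPrime p with hAp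
  set Bq := Localization.AtPrime q with hBq
  set Ah := AdicCompletion (maximalIdeal Ap) Ap with hAh
  have fg : (maximalIdeal Ap).FG := (isNoetherianRing_iff_ideal_fg Ap).mp inferInstance _
  -- the local hom
  let θ : Ap →+* Bq := Localization.localRingHom p q (algebraMap A B) rfl
  have hθ_map : ∀ a : A, θ (algebraMap A Ap a) = algebraMap A Bq a := by
    intro a
    rw [Localization.localRingHom_to_map, IsScalarTower.algebraMap_apply A B Bq]
  haveI : IsLocalHom θ := Localization.isLocalHom_localRingHom p q (algebraMap A B) rfl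
  have hθm : ∀ a ∈ maximalIdeal Ap, (residue Bq).comp θ a = 0 := by
    intro a ha
    rw [RingHom.comp_apply, residue_eq_zero_iff]
    rw [mem_maximalIdeal, mem_nonunits_iff] at ha ⊢
    intro hu
    exact ha (isUnit_of_map_unit θ a hu)
  let κ := ResidueField Bq
  let f : Bq →ₐ[A] κ := { residue Bq with commutes' := fun a => rfl }
  let g' : Ap ⧸ maximalIdeal Ap →+* κ := Ideal.Quotient.lift (maximalIdeal Ap) ((residue Bq).comp θ) hθm
  let g₀ : Ah →+* κ := g'.comp (AdicCompletion.evalOneₐ (maximalIdeal Ap)).toRingHom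
  have hg₀ : ∀ a : A, g₀ (algebraMap A Ah a) = algebraMap A κ a := by
    intro a
    change g' (AdicCompletion.evalOneₐ (maximalIdeal Ap)
      (AdicCompletion.of (maximalIdeal Ap) Ap (algebraMap A Ap a))) = _
    rw [AdicCompletion.evalOneₐ_of]
    change (residue Bq) (θ (algebraMap A Ap a)) = _
    rw [hθ_map]
    rfl
  have hAA : ∀ a : A, algebraMap A Ah a = algebraMap Ap Ah (algebraMap A Ap a) := fun a => rfl
  have hof : ∀ c : Ap, AdicCompletion.of (maximalIdeal Ap) Ap c = algebraMap Ap Ah c := fun c => rfl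
  let g : Ah →ₐ[A] κ := { g₀ with commutes' := hg₀ }
  let ψ : TensorProduct A Bq Ah →ₐ[A] κ :=
    Algebra.TensorProduct.lift f g (fun _ _ => Commute.all _ _)
  have hψ : ∀ (b : Bq) (y : Ah), ψ (b ⊗ₜ[A] y) = residue Bq b * g₀ y := by
    intro b y
    exact Algebra.TensorProduct.lift_tmul _ _ _ b y
  set I : Ideal (TensorProduct A Bq Ah) := (maximalIdeal Bq).map
    (Algebra.TensorProduct.includeLeftRingHom : Bq →+* TensorProduct A Bq Ah) with hI
  have hIm : ∀ (b : Bq) (y : Ah), b ∈ maximalIdeal Bq → b ⊗ₜ[A] y ∈ I := by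
    intro b y hb
    have h1 : b ⊗ₜ[A] y = (b ⊗ₜ[A] (1 : Ah)) * ((1 : Bq) ⊗ₜ[A] y) := by
      rw [Algebra.TensorProduct.tmul_mul_tmul, mul_one, one_mul]
    rw [h1]
    exact Ideal.mul_mem_right _ _ (Ideal.mem_map_of_mem _ hb)
  have hIker : I ≤ RingHom.ker ψ.toRingHom := by
    rw [hI, Ideal.map_le_iff_le_comap]
    intro b hb
    rw [Ideal.mem_comap, RingHom.mem_ker]
    change ψ (b ⊗ₜ[A] (1 : Ah)) = 0
    rw [hψ, (residue_eq_zero_iff b).mpr hb, zero_mul]
  -- units
  have hunit : ∀ s : p.primeCompl, IsUnit (algebraMap A Bq (s : A)) := by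
    intro s
    rw [IsScalarTower.algebraMap_apply A B Bq]
    exact IsLocalization.map_units Bq (⟨algebraMap A B s, s.2⟩ : q.primeCompl)
  -- key computation
  have key : ∀ (a : A) (s : p.primeCompl) (b : Bq) (y : Ah),
      b ⊗ₜ[A] (y * algebraMap Ap Ah (IsLocalization.mk' Ap a s)) =
        (algebraMap A Bq a * (↑(hunit s).unit⁻¹ * b)) ⊗ₜ[A] y := by
    intro a s b y
    set b₁ : Bq := ↑(hunit s).unit⁻¹ * b with hb₁
    have hb : b = (s : A) • b₁ := by
      rw [Algebra.smul_def, hb₁, ← mul_assoc]
      have : algebraMap A Bq (s : A) * ↑(hunit s).unit⁻¹ = 1 := by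
        have := (hunit s).unit.mul_inv
        rwa [IsUnit.unit_spec] at this
      rw [this, one_mul]
    have h2 : (s : A) • (y * algebraMap Ap Ah (IsLocalization.mk' Ap a s)) =
        a • y := by
      rw [Algebra.smul_def, Algebra.smul_def, hAA, hAA, mul_comm y, ← mul_assoc, ← map_mul,
        IsLocalization.mk'_spec']
    conv_lhs => rw [hb]
    rw [TensorProduct.smul_tmul, h2, ← TensorProduct.smul_tmul, Algebra.smul_def]
  have hzero : ∀ z ∈ (maximalIdeal Ap).map (algebraMap Ap Ah), ∀ b : Bq, b ⊗ₜ[A] z ∈ I := by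
    intro z hz
    rw [Ideal.map] at hz
    refine Submodule.span_induction ?_ ?_ ?_ ?_ hz
    · rintro _ ⟨c, hc, rfl⟩ b
      obtain ⟨a, s, rfl⟩ := IsLocalization.exists_mk'_eq p.primeCompl c
      have ha : a ∈ p := by
        have := (IsLocalization.AtPrime.mk'_mem_maximal_iff Ap p a s).mp hc
        exact this
      have h1 := key a s b 1
      rw [one_mul] at h1
      rw [h1]
      apply hIm
      apply Ideal.mul_mem_right
      rw [IsScalarTower.algebraMap_apply A B Bq]
      exact (IsLocalization.AtPrime.to_map_mem_maximal_iff Bq q _).mpr ha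
    · intro b
      rw [TensorProduct.tmul_zero]
      exact I.zero_mem
    · intro x y _ _ hx hy b
      rw [TensorProduct.tmul_add]
      exact I.add_mem (hx b) (hy b)
    · intro r x _ hx b
      have h1 : b ⊗ₜ[A] (r • x) = ((1 : Bq) ⊗ₜ[A] r) * (b ⊗ₜ[A] x) := by
        rw [Algebra.TensorProduct.tmul_mul_tmul, one_mul, smul_eq_mul]
      rw [h1]
      exact Ideal.mul_mem_left _ _ (hx b)
  have hker : RingHom.ker (AdicCompletion.evalOneₐ (maximalIdeal Ap)).toRingHom =
      (maximalIdeal Ap).map (algebraMap Ap Ah) :=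
    AdicCompletion.ker_evalOneₐ_eq_map (maximalIdeal Ap) fg
  have hrep : ∀ t : TensorProduct A Bq Ah, ∃ b : Bq, t - b ⊗ₜ[A] (1 : Ah) ∈ I := by
    intro t
    induction t using TensorProduct.induction_on with
    | zero => exact ⟨0, by simp⟩
    | add x y hx hy =>
      obtain ⟨b₁, h₁⟩ := hx
      obtain ⟨b₂, h₂⟩ := hy
      refine ⟨b₁ + b₂, ?_⟩
      have : x + y - (b₁ + b₂) ⊗ₜ[A] (1 : Ah) = (x - b₁ ⊗ₜ[A] 1) + (y - b₂ ⊗ₜ[A] 1) := by
        rw [TensorProduct.add_tmul]; abel
      rw [this]
      exact I.add_mem h₁ h₂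
    | tmul b y =>
      obtain ⟨c, hc⟩ := Ideal.Quotient.mk_surjective (AdicCompletion.evalOneₐ (maximalIdeal Ap) y)
      have hz : y - AdicCompletion.of (maximalIdeal Ap) Ap c ∈
          (maximalIdeal Ap).map (algebraMap Ap Ah) := by
        rw [← hker, RingHom.mem_ker, map_sub]
        change AdicCompletion.evalOneₐ (maximalIdeal Ap) y -
          AdicCompletion.evalOneₐ (maximalIdeal Ap) (AdicCompletion.of (maximalIdeal Ap) Ap c) = 0
        rw [AdicCompletion.evalOneₐ_of, hc, sub_self]
      obtain ⟨a, s, rfl⟩ := IsLocalization.exists_mk'_eq p.primeCompl c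
      refine ⟨algebraMap A Bq a * (↑(hunit s).unit⁻¹ * b), ?_⟩
      have h1 := key a s b 1
      rw [one_mul] at h1
      rw [← h1, ← TensorProduct.tmul_sub, ← hof]
      exact hzero _ hz b
  have hkerψ : RingHom.ker ψ.toRingHom = I := by
    apply le_antisymm _ hIker
    intro t ht
    obtain ⟨b, hb⟩ := hrep t
    have h1 : ψ.toRingHom (t - b ⊗ₜ[A] (1 : Ah)) = 0 := hIker hb
    rw [map_sub, RingHom.mem_ker.mp ht, zero_sub, neg_eq_zero] at h1
    change ψ (b ⊗ₜ[A] (1 : Ah)) = 0 at h1
    rw [hψ, map_one, mul_one, residue_eq_zero_iff] at h1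
    have h2 : t = (t - b ⊗ₜ[A] (1 : Ah)) + b ⊗ₜ[A] (1 : Ah) := by abel
    rw [h2]
    exact I.add_mem hb (hIm b 1 h1)
  have hsurj : Function.Surjective ψ.toRingHom := by
    intro x
    obtain ⟨b, rfl⟩ := residue_surjective x
    refine ⟨b ⊗ₜ[A] (1 : Ah), ?_⟩
    change ψ (b ⊗ₜ[A] (1 : Ah)) = _
    rw [hψ, map_one, mul_one]
  rw [← hkerψ]
  exact RingHom.ker_isMaximal_of_surjective ψ.toRingHom hsurj

end Groth.Agent.S19475
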