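import Groth.Statements.S19479
import Mathlib
import Groth.Agent.Lib.helper28.ComodMod

set_option autoImplicit false
universe u v w
open HopfRep

namespace Groth.Agent.S19479

open Groth.Agent.Lib.helper28.ComodMod

open TensorProduct in
/-- Let K be a field, C a K-coalgebra and V a right C-comodule. The following are equivalent: (i) V is
the internal direct sum of a family of simple subcomodules, i.e. there is an independent family of
subcomodules W_i with sum V, each W_i nonzero and having no subcomodules inside it other than 0 and
W_i; (ii) every subcomodule of V has a complementary subcomodule. A subcomodule is a subspace W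
whose coaction lands in the image of W ⊗ C. (The source states this for left comodules; a left
comodule over C is a right comodule over the co-opposite coalgebra, so the statement is the same.) -/
theorem result {K : Type u} {C : Type v} [Field K]
    [AddCommGroup C] [Module K C] [Coalgebra K C] (V : Type w) [AddCommGroup V] [Module K V] [HopfRep.Comod K C V] :
    (∃ (ι : Type w) (W : ι → Submodule K V), iSupIndep W ∧ iSup W = ⊤ ∧ ∀ i,
        HopfRep.IsSubcomod (k := K) (A := C) (W i) ∧ W i ≠ ⊥ ∧
          ∀ W' : Submodule K V, HopfRep.IsSubcomod (k := K) (A := C) W' → W' ≤ W i → W' = ⊥ ∨ W' = W i) ↔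
      HopfRep.IsSemisimpleComod K C V := by
  classical
  constructor
  · rintro ⟨ι, W, hind, hsup, hW⟩
    rw [← isSemisimpleModule_asMod_iff K C V]
    apply IsSemisimpleModule.of_sSup_simples_eq_top
    apply ofSub_injective
    rw [ofSub_top, eq_top_iff, ← hsup]
    refine iSup_le fun i => ?_
    have hsimple : IsSimpleModule (R K C) (toSub (W i) (hW i).1) :=
      (isSimpleModule_toSub_iff (W i) (hW i).1).2 (hW i).2
    have hle : toSub (W i) (hW i).1 ≤
        sSup {m : Submodule (R K C) (AsMod K C V) | IsSimpleModule (R K C) m} := le_sSup hsimple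
    have := (ofSub_le_iff _ _).2 hle
    rwa [ofSub_toSub] at this
  · intro hV
    rw [← isSemisimpleModule_asMod_iff K C V] at hV
    obtain ⟨s, hind, hsup, hsimple⟩ :=
      IsSemisimpleModule.exists_sSupIndep_sSup_simples_eq_top (R K C) (AsMod K C V)
    refine ⟨s, fun m => ofSub m.1, ?_, ?_, ?_⟩
    · rw [iSupIndep_ofSub_iff]
      exact (sSupIndep_iff s).1 hind
    · rw [← ofSub_iSup, ← sSup_eq_iSup', hsup, ofSub_top]
    · rintro ⟨m, hm⟩
      have h1 := hsimple m hm
      have h2 : IsSimpleModule (R K C) (toSub (ofSub m) (isSubcomod_ofSub m)) := by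
        rw [toSub_ofSub]; exact h1
      exact ⟨isSubcomod_ofSub m, (isSimpleModule_toSub_iff _ _).1 h2⟩

end Groth.Agent.S19479
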