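import Groth.Statements.S19485
import Mathlib
import Groth.Agent.Lib.helper27.RootDisk

set_option autoImplicit false
universe u
open Crimp

namespace Groth.Agent.S19485aux
end Groth.Agent.S19485aux

namespace Groth.Agent.S19485

/-- The criterion for closedness under multiplication on which the description of the stratum rests.
Over R = k⟦t⟧ with k an algebraically closed field of characteristic zero, let S̃ = k⟦x⟧ regarded as
an R-algebra through t ↦ x ^ 3, that is S̃ = R[x] / (x ^ 3 - t). Let m, n be natural numbers with m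
not divisible by 3, and let g be a power series with nonzero constant term. Then the R-submodule of
S̃ spanned by 1 and x ^ m g together with the ideal x ^ n S̃ is closed under multiplication if and
only if n ≤ 2m. (The published proposition goes on to describe the stratum of crimps with these
invariants as irreducible of dimension ⌊(n - m)/3⌋ with a normal form for g; only the closedness
criterion is stated here.) -/
theorem result {k : Type u} [Field k] [IsAlgClosed k] [CharZero k]
    (m n : ℕ) (hm : ¬ 3 ∣ m) (x g : W4c1hurwitzcpt.RootDisk 3 k)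
    (hx : W4c1hurwitzcpt.RootDisk.val x = PowerSeries.X) (hg : PowerSeries.order (W4c1hurwitzcpt.RootDisk.val g) = 0)
    (M : Submodule (PowerSeries k) (W4c1hurwitzcpt.RootDisk 3 k))
    (hM : M = Submodule.span (PowerSeries k) {1, x ^ m * g} ⊔
      (Ideal.span {x ^ n} : Ideal (W4c1hurwitzcpt.RootDisk 3 k)).restrictScalars (PowerSeries k)) :
    (∀ a ∈ M, ∀ b ∈ M, a * b ∈ M) ↔ n ≤ 2 * m := by
  have hJ : ∀ j ∈ (Ideal.span {x ^ n} : Ideal (W4c1hurwitzcpt.RootDisk 3 k)).restrictScalars (PowerSeries k),
      ∀ d : W4c1hurwitzcpt.RootDisk 3 k,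
      j * d ∈ (Ideal.span {x ^ n} : Ideal (W4c1hurwitzcpt.RootDisk 3 k)).restrictScalars (PowerSeries k) :=
    fun j hj d => Ideal.mul_mem_right d _ hj
  rw [Groth.Agent.Lib.helper27.RootDiskLib.closed_iff' (x ^ m * g) _ hJ M hM]
  constructor
  · intro hyy
    by_contra hlt
    push Not at hlt
    rw [hM, Submodule.mem_sup] at hyy
    obtain ⟨u, hu, j, hj, huj⟩ := hyy
    rw [Submodule.mem_span_pair] at hu
    obtain ⟨r1, r2, rfl⟩ := hu
    have hj' : j ∈ (Ideal.span {x ^ n} : Ideal (W4c1hurwitzcpt.RootDisk 3 k)) := hj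
    rw [Ideal.mem_span_singleton'] at hj'
    obtain ⟨h, rfl⟩ := hj'
    have hval := congrArg W4c1hurwitzcpt.RootDisk.val huj
    simp only [map_add, map_mul, map_pow, Groth.Agent.Lib.helper27.RootDiskLib.val_smul, map_one,
      hx, mul_one] at hval
    have key : (PowerSeries.expand 3 (NeZero.ne 3) r1 + PowerSeries.expand 3 (NeZero.ne 3) r2 *
        (PowerSeries.X ^ m * W4c1hurwitzcpt.RootDisk.val g)).order = ((2 * m : ℕ) : ℕ∞) := by
      have e : PowerSeries.expand 3 (NeZero.ne 3) r1 + PowerSeries.expand 3 (NeZero.ne 3) r2 *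
          (PowerSeries.X ^ m * W4c1hurwitzcpt.RootDisk.val g) =
          PowerSeries.X ^ (2 * m) * (W4c1hurwitzcpt.RootDisk.val g * W4c1hurwitzcpt.RootDisk.val g) +
            -(W4c1hurwitzcpt.RootDisk.val h * PowerSeries.X ^ n) := by
        linear_combination hval
      have o1 : (PowerSeries.X ^ (2 * m) *
          (W4c1hurwitzcpt.RootDisk.val g * W4c1hurwitzcpt.RootDisk.val g)).order = ((2 * m : ℕ) : ℕ∞) := by
        rw [PowerSeries.order_mul, PowerSeries.order_mul, PowerSeries.order_X_pow, hg]; simp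
      have o2 : ((2 * m : ℕ) : ℕ∞) < (-(W4c1hurwitzcpt.RootDisk.val h * PowerSeries.X ^ n)).order := by
        rw [PowerSeries.order_neg, PowerSeries.order_mul, PowerSeries.order_X_pow]
        calc ((2 * m : ℕ) : ℕ∞) < (n : ℕ∞) := by exact_mod_cast hlt
          _ ≤ (W4c1hurwitzcpt.RootDisk.val h).order + n := le_add_self
      rw [e, PowerSeries.order_add_of_order_ne _ _ (by rw [o1]; exact o2.ne), o1, min_eq_left o2.le]
    rcases Groth.Agent.Lib.helper27.RootDiskLib.order_obstruction r1 r2 _ m (2 * m) hm hg key with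
      ⟨a, ha⟩ | ⟨b, hb⟩
    · exact hm (Nat.Coprime.dvd_of_dvd_mul_left (by decide : Nat.Coprime 3 2) ⟨a, ha⟩)
    · exact hm ⟨b, by omega⟩
  · intro hle
    rw [hM]
    apply Submodule.mem_sup_right
    show _ ∈ (Ideal.span {x ^ n} : Ideal (W4c1hurwitzcpt.RootDisk 3 k))
    rw [Ideal.mem_span_singleton]
    refine ⟨x ^ (2 * m - n) * (g * g), ?_⟩
    have e : x ^ n * x ^ (2 * m - n) = x ^ m * x ^ m := by
      rw [← pow_add, ← pow_add]; congr 1; omega
    linear_combination (-(g * g)) * e

end Groth.Agent.S19485
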