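import Groth.Statements.S19486
import Mathlib
import Groth.Agent.Lib.helper27.RootDisk

set_option autoImplicit false
universe u
open Crimp

namespace Groth.Agent.S19486aux
end Groth.Agent.S19486aux

namespace Groth.Agent.S19486

/-- The emptiness of the stratum rests on the following computation. Over R = k⟦t⟧ with k an
algebraically closed field of characteristic zero, let S̃ = S̃₁ × R where S̃₁ = k⟦x⟧ is regarded as
an R-algebra through t ↦ x ^ 2, that is S̃₁ = R[x] / (x ^ 2 - t), with R embedded diagonally in the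
product. Let m be odd, n > 2m, and let g be a power series with nonzero constant term. Then the
R-submodule of S̃ spanned by 1 = (1, 1) and (x ^ m g, 0) together with the ideal x ^ n S̃₁ × 0 is
not closed under multiplication. (The published item concludes that the corresponding stratum of
crimps is empty; only this computation is stated here, with the ideal read as x ^ n S̃₁ × 0.) -/
theorem result {k : Type u} [Field k] [IsAlgClosed k] [CharZero k]
    (m n : ℕ) (hm : Odd m) (hmn : 2 * m < n) (x g : W4c1hurwitzcpt.RootDisk 2 k)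
    (hx : W4c1hurwitzcpt.RootDisk.val x = PowerSeries.X) (hg : PowerSeries.order (W4c1hurwitzcpt.RootDisk.val g) = 0)
    (M : Submodule (PowerSeries k) (W4c1hurwitzcpt.RootDisk 2 k × PowerSeries k))
    (hM : M = Submodule.span (PowerSeries k) {(1 : W4c1hurwitzcpt.RootDisk 2 k × PowerSeries k), (x ^ m * g, 0)} ⊔
      ((Ideal.span {x ^ n} : Ideal (W4c1hurwitzcpt.RootDisk 2 k)).restrictScalars (PowerSeries k)).prod ⊥) :
    ∃ a ∈ M, ∃ b ∈ M, a * b ∉ M := by
  have hyM : ((x ^ m * g, 0) : W4c1hurwitzcpt.RootDisk 2 k × PowerSeries k) ∈ M := by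
    rw [hM]; exact Submodule.mem_sup_left (Submodule.subset_span (by simp))
  refine ⟨_, hyM, _, hyM, ?_⟩
  intro hyy
  rw [hM, Submodule.mem_sup] at hyy
  obtain ⟨u, hu, j, hj, huj⟩ := hyy
  rw [Submodule.mem_span_pair] at hu
  obtain ⟨r1, r2, rfl⟩ := hu
  obtain ⟨j1, j2⟩ := j
  rw [Submodule.mem_prod] at hj
  obtain ⟨hj1, hj2⟩ := hj
  have hj2' : j2 = 0 := by simpa using hj2
  have hj1' : j1 ∈ (Ideal.span {x ^ n} : Ideal (W4c1hurwitzcpt.RootDisk 2 k)) := hj1
  rw [Ideal.mem_span_singleton'] at hj1'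
  obtain ⟨h, rfl⟩ := hj1'
  have h1 := congrArg Prod.fst huj
  have h2 := congrArg Prod.snd huj
  simp only [Prod.fst_add, Prod.snd_add, Prod.smul_fst, Prod.smul_snd, Prod.fst_one, Prod.snd_one,
    Prod.mk_mul_mk, hj2', add_zero, mul_zero, smul_eq_mul, mul_one] at h1 h2
  subst h2
  have hval := congrArg W4c1hurwitzcpt.RootDisk.val h1
  simp only [map_add, map_mul, map_pow, Groth.Agent.Lib.helper27.RootDiskLib.val_smul, map_one,
    hx, mul_one, map_zero, zero_add] at hval
  have key : (PowerSeries.expand 2 (NeZero.ne 2) r2 *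
      (PowerSeries.X ^ m * W4c1hurwitzcpt.RootDisk.val g)).order = ((2 * m : ℕ) : ℕ∞) := by
    have e : PowerSeries.expand 2 (NeZero.ne 2) r2 *
        (PowerSeries.X ^ m * W4c1hurwitzcpt.RootDisk.val g) =
        PowerSeries.X ^ (2 * m) * (W4c1hurwitzcpt.RootDisk.val g * W4c1hurwitzcpt.RootDisk.val g) +
          -(W4c1hurwitzcpt.RootDisk.val h * PowerSeries.X ^ n) := by
      linear_combination hval
    have o1 : (PowerSeries.X ^ (2 * m) *
        (W4c1hurwitzcpt.RootDisk.val g * W4c1hurwitzcpt.RootDisk.val g)).order = ((2 * m : ℕ) : ℕ∞) := by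
      rw [PowerSeries.order_mul, PowerSeries.order_mul, PowerSeries.order_X_pow, hg]; simp
    have o2 : ((2 * m : ℕ) : ℕ∞) < (-(W4c1hurwitzcpt.RootDisk.val h * PowerSeries.X ^ n)).order := by
      rw [PowerSeries.order_neg, PowerSeries.order_mul, PowerSeries.order_X_pow]
      calc ((2 * m : ℕ) : ℕ∞) < (n : ℕ∞) := by exact_mod_cast hmn
        _ ≤ (W4c1hurwitzcpt.RootDisk.val h).order + n := le_add_self
    rw [e, PowerSeries.order_add_of_order_ne _ _ (by rw [o1]; exact o2.ne), o1, min_eq_left o2.le]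
  rw [PowerSeries.order_mul, PowerSeries.order_mul, PowerSeries.order_expand, PowerSeries.order_X_pow,
    hg, add_zero] at key
  by_cases hr2 : r2 = 0
  · subst hr2
    have : (⊤ : ℕ∞) = ((2 * m : ℕ) : ℕ∞) := by simpa using key
    exact ENat.top_ne_natCast _ this
  · obtain ⟨b, hb⟩ : ∃ b : ℕ, r2.order = b := by
      have := PowerSeries.order_finite_iff_ne_zero.2 hr2
      exact ⟨r2.order.toNat, (ENat.natCast_toNat this.ne).symm⟩
    rw [hb] at key
    have : ((2 * b + m : ℕ) : ℕ∞) = ((2 * m : ℕ) : ℕ∞) := by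
      rw [← key]; push_cast; simp [nsmul_eq_mul]
    have h3 : 2 * b + m = 2 * m := by exact_mod_cast this
    obtain ⟨c, hc⟩ := hm
    omega

end Groth.Agent.S19486
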