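import Groth.Statements.S19487
import Mathlib
import Groth.Agent.S14039

set_option autoImplicit false
open W4c1frobunstiva

namespace Groth.Agent.S19487aux
open Groth.Agent.S14039aux

/-- convolution with a shift and truncated subtraction -/
theorem coeff_shift_mul (A B : PowerSeries ℤ) (M s : ℕ)
    (h : PowerSeries.coeff 0 B = 0 ∨ M = 0) :
    PowerSeries.coeff s (PowerSeries.X ^ M * (A * B)) =
      ∑ j ∈ Finset.range (s + 1), PowerSeries.coeff j A * PowerSeries.coeff (s - j - M) B := by
  have h1 : (PowerSeries.X : PowerSeries ℤ) ^ M * (A * B) = A * (PowerSeries.X ^ M * B) := by ring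
  rw [h1, PowerSeries.coeff_mul, Finset.Nat.sum_antidiagonal_eq_sum_range_succ
    (fun j k => PowerSeries.coeff j A * PowerSeries.coeff k (PowerSeries.X ^ M * B))]
  refine Finset.sum_congr rfl fun j hj => ?_
  congr 1
  rw [PowerSeries.coeff_X_pow_mul']
  by_cases hM : M ≤ s - j
  · rw [if_pos hM]
  · rw [if_neg hM]
    rcases h with h | h
    · have : s - j - M = 0 := by omega
      rw [this, h]
    · omega

/-- generating function of one exponent with a marker `T` for small exponents -/
noncomputable def W (p : ℕ) (j : Fin p) : Polynomial (PowerSeries ℤ) :=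
  if 1 ≤ (j : ℕ) then
    (if 2 * (j : ℕ) < p then Polynomial.C ((PowerSeries.X : PowerSeries ℤ) ^ (j : ℕ)) * Polynomial.X
      else Polynomial.C ((PowerSeries.X : PowerSeries ℤ) ^ (j : ℕ)))
  else 0

theorem prod_W (p n : ℕ) (e : Fin n → Fin p) :
    ∏ i, W p (e i) =
      if ∀ i, 1 ≤ (e i : ℕ) then
        Polynomial.C ((PowerSeries.X : PowerSeries ℤ) ^ (∑ i, (e i : ℕ))) *
          Polynomial.X ^ (Finset.univ.filter fun i => 2 * (e i : ℕ) < p).card
      else 0 := by
  classical
  unfold W
  rw [Finset.prod_ite_zero]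
  by_cases h : ∀ i, 1 ≤ (e i : ℕ)
  · rw [if_pos (fun i _ => h i), if_pos h]
    have h2 : ∀ i : Fin n, (if 2 * (e i : ℕ) < p then
        Polynomial.C ((PowerSeries.X : PowerSeries ℤ) ^ (e i : ℕ)) * Polynomial.X
        else Polynomial.C ((PowerSeries.X : PowerSeries ℤ) ^ (e i : ℕ))) =
        Polynomial.C ((PowerSeries.X : PowerSeries ℤ) ^ (e i : ℕ)) *
          (if 2 * (e i : ℕ) < p then (Polynomial.X : Polynomial (PowerSeries ℤ)) else 1) := by
      intro i
      split_ifs <;> simp
    simp_rw [h2]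
    rw [Finset.prod_mul_distrib, Finset.prod_ite, Finset.prod_const, Finset.prod_const_one,
      mul_one, ← map_prod, Finset.prod_pow_eq_pow_sum]
  · rw [if_neg (fun h' => h (fun i => h' i (Finset.mem_univ i))), if_neg h]

theorem sum_W (m : ℕ) :
    ∑ j : Fin (2 * m + 1), W (2 * m + 1) j =
      Polynomial.C (G (m + 1)) * Polynomial.X +
        Polynomial.C (PowerSeries.X ^ m * G (m + 1)) := by
  classical
  -- convert to range sums
  have hW : ∀ j : Fin (2 * m + 1), W (2 * m + 1) j =
      (fun k : ℕ => if 1 ≤ k then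
        (if k < m + 1 then Polynomial.C ((PowerSeries.X : PowerSeries ℤ) ^ k) * Polynomial.X
          else Polynomial.C ((PowerSeries.X : PowerSeries ℤ) ^ k))
        else (0 : Polynomial (PowerSeries ℤ))) (j : ℕ) := by
    intro j
    unfold W
    by_cases h1 : 1 ≤ (j : ℕ)
    · simp only [if_pos h1]
      by_cases h2 : (j : ℕ) < m + 1
      · rw [if_pos h2, if_pos (by omega)]
      · rw [if_neg h2, if_neg (by omega)]
    · simp only [if_neg h1]
  simp_rw [hW]
  rw [Fin.sum_univ_eq_sum_range (fun k : ℕ => if 1 ≤ k then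
        (if k < m + 1 then Polynomial.C ((PowerSeries.X : PowerSeries ℤ) ^ k) * Polynomial.X
          else Polynomial.C ((PowerSeries.X : PowerSeries ℤ) ^ k))
        else (0 : Polynomial (PowerSeries ℤ))) (2 * m + 1)]
  have hG : G (m + 1) = ∑ k ∈ Finset.range (m + 1),
      (if 1 ≤ k then (PowerSeries.X : PowerSeries ℤ) ^ k else 0) := by
    unfold G
    rw [Fin.sum_univ_eq_sum_range (fun k : ℕ =>
      if 1 ≤ k then (PowerSeries.X : PowerSeries ℤ) ^ k else 0) (m + 1)]
  have hsplit : 2 * m + 1 = (m + 1) + m := by ring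
  rw [hsplit, Finset.sum_range_add]
  congr 1
  · rw [hG, map_sum, Finset.sum_mul]
    refine Finset.sum_congr rfl fun k hk => ?_
    rw [Finset.mem_range] at hk
    by_cases h1 : 1 ≤ k
    · rw [if_pos h1, if_pos hk, if_pos h1]
    · rw [if_neg h1, if_neg h1, map_zero, zero_mul]
  · rw [hG, Finset.mul_sum, map_sum]
    -- right side: sum over range (m+1) of X^m * [1 ≤ k] X^k; left side: sum over range m of X^(m+1+k)
    rw [Finset.sum_range_succ' (fun k => Polynomial.C ((PowerSeries.X : PowerSeries ℤ) ^ m *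
      (if 1 ≤ k then (PowerSeries.X : PowerSeries ℤ) ^ k else 0)))]
    simp only [Nat.le_zero_eq, one_ne_zero, if_false, mul_zero, map_zero, add_zero]
    refine Finset.sum_congr rfl fun k hk => ?_
    rw [if_pos (by omega), if_neg (by omega), if_pos (by omega)]
    congr 1
    rw [← pow_add]
    congr 1
    omega

theorem count_eq (p n s D : ℕ) :
    (Fintype.card {e : Fin n → Fin p // (∀ i, 1 ≤ (e i : ℕ)) ∧ ∑ i, (e i : ℕ) = s ∧
        (Finset.univ.filter fun i => 2 * (e i : ℕ) < p).card = D} : ℤ) =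
      PowerSeries.coeff s (Polynomial.coeff ((∑ j : Fin p, W p j) ^ n) D) := by
  classical
  have h1 : (∑ j : Fin p, W p j) ^ n = ∏ _i : Fin n, ∑ j : Fin p, W p j := by simp
  rw [h1, Finset.prod_univ_sum, Fintype.piFinset_univ, Polynomial.finsetSum_coeff, map_sum]
  rw [Fintype.card_subtype, Finset.card_filter]
  push_cast
  refine Finset.sum_congr rfl fun e _ => ?_
  rw [prod_W]
  by_cases h : ∀ i, 1 ≤ (e i : ℕ)
  · rw [if_pos h, Polynomial.coeff_C_mul_X_pow]
    by_cases hD : D = (Finset.univ.filter fun i => 2 * (e i : ℕ) < p).card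
    · rw [if_pos hD, PowerSeries.coeff_X_pow]
      by_cases hs : s = ∑ i, (e i : ℕ)
      · rw [if_pos hs, if_pos ⟨h, hs.symm, hD.symm⟩]
      · rw [if_neg hs, if_neg (fun h' => hs h'.2.1.symm)]
    · rw [if_neg hD, map_zero, if_neg (fun h' => hD h'.2.2.symm)]
  · rw [if_neg h, Polynomial.coeff_zero, map_zero, if_neg (fun h' => h h'.1)]

theorem coeff_binom (a b : PowerSeries ℤ) (n D : ℕ) :
    Polynomial.coeff ((Polynomial.C a * Polynomial.X + Polynomial.C b) ^ n) D =
      a ^ D * b ^ (n - D) * (n.choose D : PowerSeries ℤ) := by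
  classical
  rw [add_pow, Polynomial.finsetSum_coeff]
  have hterm : ∀ k : ℕ, Polynomial.coeff ((Polynomial.C a * Polynomial.X) ^ k *
      (Polynomial.C b) ^ (n - k) * ((n.choose k : ℕ) : Polynomial (PowerSeries ℤ))) D =
      if D = k then a ^ k * b ^ (n - k) * (n.choose k : PowerSeries ℤ) else 0 := by
    intro k
    have : (Polynomial.C a * Polynomial.X) ^ k * (Polynomial.C b) ^ (n - k) *
        ((n.choose k : ℕ) : Polynomial (PowerSeries ℤ)) =
        Polynomial.C (a ^ k * b ^ (n - k) * (n.choose k : PowerSeries ℤ)) * Polynomial.X ^ k := by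
      rw [mul_pow]
      simp only [map_mul, map_pow, map_natCast]
      ring
    rw [this, Polynomial.coeff_C_mul_X_pow]
  simp_rw [hterm]
  rw [Finset.sum_ite_eq]
  by_cases hD : D ∈ Finset.range (n + 1)
  · rw [if_pos hD]
  · rw [if_neg hD]
    rw [Finset.mem_range] at hD
    rw [Nat.choose_eq_zero_of_lt (by omega)]
    simp

theorem main (p n s D : ℕ) (hp : Odd p) :
    Fintype.card {e : Fin n → Fin p // (∀ i, 1 ≤ (e i : ℕ)) ∧ ∑ i, (e i : ℕ) = s ∧
        (Finset.univ.filter fun i => 2 * (e i : ℕ) < p).card = D} =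
      n.choose D * ∑ j ∈ Finset.range (s + 1),
        Fintype.card {e : Fin D → Fin ((p + 1) / 2) // (∀ i, 1 ≤ (e i : ℕ)) ∧ ∑ i, (e i : ℕ) = j} *
          Fintype.card {e : Fin (n - D) → Fin ((p + 1) / 2) //
            (∀ i, 1 ≤ (e i : ℕ)) ∧ ∑ i, (e i : ℕ) = (s - j - (n - D) * ((p - 1) / 2))} := by
  obtain ⟨m, rfl⟩ := hp
  have e1 : (2 * m + 1 + 1) / 2 = m + 1 := by omega
  have e2 : (2 * m + 1 - 1) / 2 = m := by omega
  rw [e1, e2]
  suffices h : ((Fintype.card {e : Fin n → Fin (2 * m + 1) // (∀ i, 1 ≤ (e i : ℕ)) ∧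
      ∑ i, (e i : ℕ) = s ∧
        (Finset.univ.filter fun i => 2 * (e i : ℕ) < 2 * m + 1).card = D} : ℕ) : ℤ) =
      ((n.choose D * ∑ j ∈ Finset.range (s + 1),
        Fintype.card {e : Fin D → Fin (m + 1) // (∀ i, 1 ≤ (e i : ℕ)) ∧ ∑ i, (e i : ℕ) = j} *
          Fintype.card {e : Fin (n - D) → Fin (m + 1) //
            (∀ i, 1 ≤ (e i : ℕ)) ∧ ∑ i, (e i : ℕ) = (s - j - (n - D) * m)} : ℕ) : ℤ) by
    exact_mod_cast h
  rw [count_eq, sum_W, coeff_binom]
  have h3 : G (m + 1) ^ D * (PowerSeries.X ^ m * G (m + 1)) ^ (n - D) *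
      (n.choose D : PowerSeries ℤ) =
      PowerSeries.C (n.choose D : ℤ) *
        (PowerSeries.X ^ ((n - D) * m) * (G (m + 1) ^ D * G (m + 1) ^ (n - D))) := by
    rw [mul_pow, ← pow_mul, mul_comm m (n - D)]
    simp only [map_natCast]
    ring
  rw [h3, PowerSeries.coeff_C_mul, coeff_shift_mul]
  · push_cast
    congr 1
    refine Finset.sum_congr rfl fun j _ => ?_
    rw [coeff_G_pow, coeff_G_pow]
  · by_cases hnD : n - D = 0
    · right; rw [hnD, zero_mul]
    · left
      rw [coeff_G_pow]
      have hempty : IsEmpty {e : Fin (n - D) → Fin (m + 1) //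
          (∀ i, 1 ≤ (e i : ℕ)) ∧ ∑ i, (e i : ℕ) = 0} := by
        refine ⟨fun e => ?_⟩
        obtain ⟨e, h1, h2⟩ := e
        have i0 : Fin (n - D) := ⟨0, by omega⟩
        have := Finset.single_le_sum (f := fun i => (e i : ℕ)) (fun i _ => Nat.zero_le _)
          (Finset.mem_univ i0)
        have := h1 i0
        omega
      rw [Fintype.card_eq_zero]
      rfl

end Groth.Agent.S19487aux

namespace Groth.Agent.S19487

/-- The second formula. For p odd and natural numbers n, s, write N_p(n, s) for the number of monomials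
of degree s in n variables in which every variable occurs with a positive exponent strictly less
than p, that is of exponent vectors (e_1, …, e_n) with sum s and 1 ≤ e_i ≤ p − 1, and N_p^D(n, s)
for the number of those in which exactly D variables occur with exponent less than p/2. Then
N_p^D(n, s) = C(n, D) · Σ_j N_{(p+1)/2}(D, j) · N_{(p+1)/2}(n − D, s − j − (n − D)(p − 1)/2), the
sum running over 0 ≤ j ≤ s. (Natural-number subtraction is used in the last argument; when it
truncates and n > D the factor vanishes, as it should. The published setting has p an odd prime;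
only p odd is used. The companion inclusion–exclusion expression for N_p(n, s) itself is a separate
statement.) -/
theorem result (p n s D : ℕ) (hp : Odd p) :
    Fintype.card {e : Fin n → Fin p // (∀ i, 1 ≤ (e i : ℕ)) ∧ ∑ i, (e i : ℕ) = s ∧
        (Finset.univ.filter fun i => 2 * (e i : ℕ) < p).card = D} =
      n.choose D * ∑ j ∈ Finset.range (s + 1),
        Fintype.card {e : Fin D → Fin ((p + 1) / 2) // (∀ i, 1 ≤ (e i : ℕ)) ∧ ∑ i, (e i : ℕ) = j} *
          Fintype.card {e : Fin (n - D) → Fin ((p + 1) / 2) // (∀ i, 1 ≤ (e i : ℕ)) ∧ ∑ i, (e i : ℕ) = (s - j - (n - D) * ((p - 1) / 2))} := by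
  exact Groth.Agent.S19487aux.main p n s D hp

end Groth.Agent.S19487
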