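import Groth.Statements.S19502
import Mathlib.Topology.Algebra.InfiniteSum.Real
import Mathlib.Analysis.Normed.Group.InfiniteSum
import Mathlib.Tactic

set_option autoImplicit false
universe u
open W4c3ghconstell

namespace Groth.Agent.S19502

theorem tail {ι : Type u} [DecidableEq ι] (f : ι → ℝ) (hf : Summable f) (E : Finset ι) :
    Summable (fun i => if i ∈ E then (0 : ℝ) else f i) ∧
      (∑' i, if i ∈ E then (0 : ℝ) else f i) = (∑' i, f i) - ∑ i ∈ E, f i := by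
  have h1 : (fun i => if i ∈ E then (0 : ℝ) else f i) =
      fun i => f i - (if i ∈ E then f i else 0) := by
    funext i; split_ifs <;> simp
  have h2 : Summable (fun i => if i ∈ E then f i else 0) :=
    summable_of_ne_finset_zero (s := E) (fun i hi => if_neg hi)
  have h3 : (∑' i, if i ∈ E then f i else 0) = ∑ i ∈ E, f i := by
    rw [tsum_eq_sum (s := E) (fun i hi => if_neg hi)]
    exact Finset.sum_congr rfl (fun i hi => if_pos hi)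
  refine ⟨?_, ?_⟩
  · rw [h1]; exact hf.sub h2
  · rw [h1, hf.tsum_sub h2, h3]

theorem alg1 (Xc Yc Xb Yb Q Yq B : ℝ) (d n : ℕ) (hQ : d = 0 → Q = 0) :
    ((Xc + Yc) + ((B - (Xb + Yb)) / ((d + n : ℕ) : ℝ)) * (Q + Yq)) - (Xc + ((B - Xb) / (d : ℝ)) * Q) =
      Yc - (1 / (d : ℝ) * Q) * Yb + ((B - (Xb + Yb)) / ((d + n : ℕ) : ℝ)) * Yq -
        (n : ℝ) * (((B - (Xb + Yb)) / ((d + n : ℕ) : ℝ)) * (1 / (d : ℝ) * Q)) := by
  by_cases hd : d = 0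
  · rw [hQ hd]; subst hd; simp; ring
  · have hd' : (d : ℝ) ≠ 0 := by exact_mod_cast hd
    have hdn : ((d + n : ℕ) : ℝ) ≠ 0 := by
      have : d + n ≠ 0 := by omega
      exact_mod_cast this
    push_cast at hdn ⊢
    field_simp
    ring

theorem aux {ι : Type u} [DecidableEq ι]
    (θ : ι → ℚ) (h h' : ι → ℕ) (hle : ∀ i, h' i ≤ h i) (hfin : {i | θ i < 0}.Finite)
    (hsum : Summable (fun i => (θ i : ℝ) * (h i : ℝ))) (D D' : Finset ι)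
    (hDm : hfin.toFinset ⊆ D) (hDD' : D ⊆ D') (hsupp : ∀ i ∈ D', θ i ≠ 0) :
    (((∑ i ∈ D', (θ i : ℝ) * (h' i : ℝ)) + ((∑' i, if i ∈ D' then (0 : ℝ) else (θ i : ℝ) * (h i : ℝ)) / ((D' \ hfin.toFinset).card : ℝ)) * (∑ σ ∈ D' \ hfin.toFinset, ((h' σ : ℝ) / (h σ : ℝ)))) - ((∑ i ∈ D, (θ i : ℝ) * (h' i : ℝ)) + ((∑' i, if i ∈ D then (0 : ℝ) else (θ i : ℝ) * (h i : ℝ)) / ((D \ hfin.toFinset).card : ℝ)) * (∑ σ ∈ D \ hfin.toFinset, ((h' σ : ℝ) / (h σ : ℝ)))) =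
      ∑ τ ∈ D' \ D, ((θ τ : ℝ) * (h τ : ℝ) + (∑' i, if i ∈ D' then (0 : ℝ) else (θ i : ℝ) * (h i : ℝ)) / ((D' \ hfin.toFinset).card : ℝ)) *
        (((h' τ : ℝ) / (h τ : ℝ)) - (1 / ((D \ hfin.toFinset).card : ℝ)) * (∑ σ ∈ D \ hfin.toFinset, ((h' σ : ℝ) / (h σ : ℝ))))) ∧
    ((∑' i, (θ i : ℝ) * (h' i : ℝ)) - ((∑ i ∈ D, (θ i : ℝ) * (h' i : ℝ)) + ((∑' i, if i ∈ D then (0 : ℝ) else (θ i : ℝ) * (h i : ℝ)) / ((D \ hfin.toFinset).card : ℝ)) * (∑ σ ∈ D \ hfin.toFinset, ((h' σ : ℝ) / (h σ : ℝ)))) =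
      ∑' τ, if τ ∈ D then (0 : ℝ) else (θ τ : ℝ) * (h τ : ℝ) *
        (((h' τ : ℝ) / (h τ : ℝ)) - (1 / ((D \ hfin.toFinset).card : ℝ)) * (∑ σ ∈ D \ hfin.toFinset, ((h' σ : ℝ) / (h σ : ℝ))))) := by
  set Dm := hfin.toFinset with hDmdef
  set b : ι → ℝ := fun i => (θ i : ℝ) * (h i : ℝ) with hb
  set c : ι → ℝ := fun i => (θ i : ℝ) * (h' i : ℝ) with hc
  set q : ι → ℝ := fun i => (h' i : ℝ) / (h i : ℝ) with hq
  have hbq : ∀ i, b i * q i = c i := by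
    intro i
    simp only [hb, hc, hq]
    by_cases hi : h i = 0
    · have : h' i = 0 := Nat.le_zero.mp (hi ▸ hle i)
      simp [hi, this]
    · have : (h i : ℝ) ≠ 0 := by exact_mod_cast hi
      field_simp
  have hcsum : Summable c := by
    refine Summable.of_norm_bounded hsum.abs ?_
    intro i
    simp only [hc]
    rw [Real.norm_eq_abs, abs_mul, abs_mul]
    apply mul_le_mul_of_nonneg_left _ (abs_nonneg _)
    rw [abs_of_nonneg (Nat.cast_nonneg _), abs_of_nonneg (Nat.cast_nonneg _)]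
    exact_mod_cast hle i
  set B := ∑' i, b i with hB
  set C := ∑' i, c i with hC
  have hSD := (tail b hsum D).2
  have hSD' := (tail b hsum D').2
  -- decomposition of D'
  have hdisj : Disjoint (D \ Dm) (D' \ D) := by
    rw [Finset.disjoint_left]
    intro x hx hx'
    exact (Finset.mem_sdiff.mp hx').2 (Finset.mem_sdiff.mp hx).1
  have hunion : D' \ Dm = (D \ Dm) ∪ (D' \ D) := by
    ext x
    simp only [Finset.mem_sdiff, Finset.mem_union]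
    constructor
    · rintro ⟨h1, h2⟩
      by_cases hx : x ∈ D
      · exact Or.inl ⟨hx, h2⟩
      · exact Or.inr ⟨h1, hx⟩
    · rintro (⟨h1, h2⟩ | ⟨h1, h2⟩)
      · exact ⟨hDD' h1, h2⟩
      · exact ⟨h1, fun hm => h2 (hDm hm)⟩
  have hcard : (D' \ Dm).card = (D \ Dm).card + (D' \ D).card := by
    rw [hunion, Finset.card_union_of_disjoint hdisj]
  have hQ' : ∑ σ ∈ D' \ Dm, q σ = ∑ σ ∈ D \ Dm, q σ + ∑ σ ∈ D' \ D, q σ := by
    rw [hunion, Finset.sum_union hdisj]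
  have hc' : ∑ i ∈ D', c i = ∑ i ∈ D, c i + ∑ i ∈ D' \ D, c i := by
    rw [← Finset.sum_sdiff hDD', add_comm]
  have hb' : ∑ i ∈ D', b i = ∑ i ∈ D, b i + ∑ i ∈ D' \ D, b i := by
    rw [← Finset.sum_sdiff hDD', add_comm]
  have hQ0 : (D \ Dm).card = 0 → ∑ σ ∈ D \ Dm, q σ = 0 := by
    intro h0
    rw [Finset.card_eq_zero.mp h0, Finset.sum_empty]
  constructor
  · rw [hSD, hSD', hcard, hQ', hc', hb']
    have hR : ∀ τ ∈ D' \ D, (b τ + (B - (∑ i ∈ D, b i + ∑ i ∈ D' \ D, b i)) /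
          (((D \ Dm).card + (D' \ D).card : ℕ) : ℝ)) *
        (q τ - 1 / ((D \ Dm).card : ℝ) * ∑ σ ∈ D \ Dm, q σ) =
        c τ - (1 / ((D \ Dm).card : ℝ) * ∑ σ ∈ D \ Dm, q σ) * b τ +
          ((B - (∑ i ∈ D, b i + ∑ i ∈ D' \ D, b i)) /
            (((D \ Dm).card + (D' \ D).card : ℕ) : ℝ)) * q τ -
          ((B - (∑ i ∈ D, b i + ∑ i ∈ D' \ D, b i)) /
            (((D \ Dm).card + (D' \ D).card : ℕ) : ℝ)) *
            (1 / ((D \ Dm).card : ℝ) * ∑ σ ∈ D \ Dm, q σ) := by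
      intro τ _
      rw [← hbq τ]
      ring
    rw [Finset.sum_congr rfl hR, Finset.sum_sub_distrib, Finset.sum_add_distrib,
      Finset.sum_sub_distrib, ← Finset.mul_sum, ← Finset.mul_sum, Finset.sum_const, nsmul_eq_mul]
    exact alg1 _ _ _ _ _ _ _ _ _ hQ0
  · rw [hSD]
    have hfun : (fun τ => if τ ∈ D then (0 : ℝ) else b τ *
        (q τ - 1 / ((D \ Dm).card : ℝ) * ∑ σ ∈ D \ Dm, q σ)) =
        fun τ => (if τ ∈ D then (0 : ℝ) else c τ) -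
          (1 / ((D \ Dm).card : ℝ) * ∑ σ ∈ D \ Dm, q σ) * (if τ ∈ D then (0 : ℝ) else b τ) := by
      funext τ
      split_ifs
      · simp
      · rw [← hbq τ]; ring
    rw [hfun, (tail c hcsum D).1.tsum_sub (((tail b hsum D).1).mul_left _),
      ((tail b hsum D).1).tsum_mul_left, (tail c hcsum D).2, (tail b hsum D).2]
    ring

/-- Let ι index the irreducible representations, θ : ι → ℚ a weight which is negative exactly on the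
finite set D₋, h h' : ι → ℕ with h' ≤ h pointwise (the isotypic dimensions of an object and of a
sub-object) and Σ_i θ_i h_i summable. For a finite set D of indices put S_D = Σ_{i ∉ D} θ_i h_i, d =
#(D ∖ D₋) and θ̃_D = Σ_{i ∈ D} θ_i h'_i + (S_D / d) · Σ_{i ∈ D ∖ D₋} h'_i / h_i, the modified weight
attached to the parameters chosen for D (a quotient by zero is read as zero). Then for finite sets
D₋ ⊆ D ⊆ D̃ contained in the locus θ ≠ 0: (first error term) θ̃_{D̃} − θ̃_D = Σ_{τ ∈ D̃ ∖ D} (θ_τ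
h_τ + S_{D̃}/d̃) · (h'_τ/h_τ − (1/d) Σ_{σ ∈ D ∖ D₋} h'_σ/h_σ); (second error term) Σ_i θ_i h'_i −
θ̃_D = Σ_{τ ∉ D} θ_τ h_τ · (h'_τ/h_τ − (1/d) Σ_{σ ∈ D ∖ D₋} h'_σ/h_σ). -/
theorem result {ι : Type u} [DecidableEq ι]
    (θ : ι → ℚ) (h h' : ι → ℕ) (hle : ∀ i, h' i ≤ h i) (hfin : {i | θ i < 0}.Finite)
    (hsum : Summable (fun i => (θ i : ℝ) * (h i : ℝ))) (D D' : Finset ι)
    (hDm : hfin.toFinset ⊆ D) (hDD' : D ⊆ D') (hsupp : ∀ i ∈ D', θ i ≠ 0) :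
    (((∑ i ∈ D', (θ i : ℝ) * (h' i : ℝ)) + ((∑' i, if i ∈ D' then (0 : ℝ) else (θ i : ℝ) * (h i : ℝ)) / ((D' \ hfin.toFinset).card : ℝ)) * (∑ σ ∈ D' \ hfin.toFinset, ((h' σ : ℝ) / (h σ : ℝ)))) - ((∑ i ∈ D, (θ i : ℝ) * (h' i : ℝ)) + ((∑' i, if i ∈ D then (0 : ℝ) else (θ i : ℝ) * (h i : ℝ)) / ((D \ hfin.toFinset).card : ℝ)) * (∑ σ ∈ D \ hfin.toFinset, ((h' σ : ℝ) / (h σ : ℝ)))) =
      ∑ τ ∈ D' \ D, ((θ τ : ℝ) * (h τ : ℝ) + (∑' i, if i ∈ D' then (0 : ℝ) else (θ i : ℝ) * (h i : ℝ)) / ((D' \ hfin.toFinset).card : ℝ)) *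
        (((h' τ : ℝ) / (h τ : ℝ)) - (1 / ((D \ hfin.toFinset).card : ℝ)) * (∑ σ ∈ D \ hfin.toFinset, ((h' σ : ℝ) / (h σ : ℝ))))) ∧
    ((∑' i, (θ i : ℝ) * (h' i : ℝ)) - ((∑ i ∈ D, (θ i : ℝ) * (h' i : ℝ)) + ((∑' i, if i ∈ D then (0 : ℝ) else (θ i : ℝ) * (h i : ℝ)) / ((D \ hfin.toFinset).card : ℝ)) * (∑ σ ∈ D \ hfin.toFinset, ((h' σ : ℝ) / (h σ : ℝ)))) =
      ∑' τ, if τ ∈ D then (0 : ℝ) else (θ τ : ℝ) * (h τ : ℝ) *
        (((h' τ : ℝ) / (h τ : ℝ)) - (1 / ((D \ hfin.toFinset).card : ℝ)) * (∑ σ ∈ D \ hfin.toFinset, ((h' σ : ℝ) / (h σ : ℝ))))) := by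
  exact aux θ h h' hle hfin hsum D D' hDm hDD' hsupp

end Groth.Agent.S19502
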