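import Groth.Statements.S20014
import Groth.Agent.Lib.helper4.Normal1

set_option autoImplicit false
universe u
open CategoryTheory CategoryTheory.Limits AlgebraicGeometry
open RatSing

namespace Groth.Agent.S20014


/-- If the local ring at `x` is a domain, every irreducible component through `x` is the closure
of the image of the generic point of `Spec 𝒪_{X,x}` (copied from helper4's Rat16). -/
theorem irreducibleComponent_eq_of_isDomain_stalk {X : Scheme.{u}} (x : X)
    [IsDomain (X.presheaf.stalk x)] (Z : Set X) (hZ : Z ∈ irreducibleComponents X) (hxZ : x ∈ Z) :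
    Z = closure {X.fromSpecStalk x ⟨⊥, Ideal.isPrime_bot⟩} := by
  have hZcl : IsClosed Z := isClosed_of_mem_irreducibleComponents Z hZ
  have hZirr : IsIrreducible Z := hZ.1
  obtain ⟨η, hη⟩ := QuasiSober.sober hZirr hZcl
  have hηx : η ⤳ x := by
    rw [specializes_iff_mem_closure, hη.def]
    exact hxZ
  have hmem : η ∈ Set.range (X.fromSpecStalk x) := by
    rw [Scheme.range_fromSpecStalk]
    exact hηx
  obtain ⟨y, rfl⟩ := hmem
  have h1 : (⟨⊥, Ideal.isPrime_bot⟩ : PrimeSpectrum (X.presheaf.stalk x)) ⤳ y := by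
    rw [← PrimeSpectrum.le_iff_specializes]
    exact bot_le
  have h2 : X.fromSpecStalk x ⟨⊥, Ideal.isPrime_bot⟩ ⤳ X.fromSpecStalk x y :=
    h1.map (X.fromSpecStalk x).continuous
  have h3 : Z ⊆ closure {X.fromSpecStalk x ⟨⊥, Ideal.isPrime_bot⟩} := by
    rw [← hη.def]
    exact closure_minimal (Set.singleton_subset_iff.2 (specializes_iff_mem_closure.1 h2))
      isClosed_closure
  exact hZ.eq_of_subset isIrreducible_singleton.closure h3

/-- A connected scheme with finitely many irreducible components all of whose local rings are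
domains is irreducible (copied from helper4's FEtNormal). -/
theorem irreducibleSpace_of_isDomain_stalks {Y : Scheme.{u}} [ConnectedSpace Y]
    (hfin : (irreducibleComponents Y).Finite) (hdom : ∀ y : Y, IsDomain (Y.presheaf.stalk y)) :
    IrreducibleSpace Y := by
  obtain ⟨y₀⟩ : Nonempty Y := inferInstance
  set Z₀ : Set Y := irreducibleComponent y₀ with hZ₀
  have hZ₀mem : Z₀ ∈ irreducibleComponents Y := irreducibleComponent_mem_irreducibleComponents y₀
  have hdisj : ∀ Z ∈ irreducibleComponents Y, ∀ y : Y, y ∈ Z → y ∈ Z₀ → Z = Z₀ := by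
    intro Z hZ y hyZ hyZ₀
    have := hdom y
    rw [irreducibleComponent_eq_of_isDomain_stalk y Z hZ hyZ,
      irreducibleComponent_eq_of_isDomain_stalk y Z₀ hZ₀mem hyZ₀]
  let 𝒯 : Set (Set Y) := {Z | Z ∈ irreducibleComponents Y ∧ Z ≠ Z₀}
  have h𝒯fin : 𝒯.Finite := hfin.subset fun Z hZ => hZ.1
  have hTcl : IsClosed (⋃₀ 𝒯) := by
    rw [Set.sUnion_eq_biUnion]
    exact h𝒯fin.isClosed_biUnion fun Z hZ => isClosed_of_mem_irreducibleComponents Z hZ.1
  have hcompl : Z₀ = (⋃₀ 𝒯)ᶜ := by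
    ext y
    constructor
    · rintro hy ⟨Z, ⟨hZ, hne⟩, hyZ⟩
      exact hne (hdisj Z hZ y hyZ hy)
    · intro hy
      by_contra hyZ₀
      refine hy ⟨irreducibleComponent y, ⟨irreducibleComponent_mem_irreducibleComponents y, ?_⟩,
        mem_irreducibleComponent⟩
      intro h
      exact hyZ₀ (h ▸ mem_irreducibleComponent)
  have hopen : IsOpen Z₀ := by
    rw [hcompl]
    exact hTcl.isOpen_compl
  have hclopen : IsClopen Z₀ := ⟨isClosed_irreducibleComponent, hopen⟩
  have huniv : Z₀ = Set.univ := hclopen.eq_univ ⟨y₀, mem_irreducibleComponent⟩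
  have hirr : IsIrreducible (Set.univ : Set Y) := huniv ▸ isIrreducible_irreducibleComponent
  exact (irreducibleSpace_def Y).2 hirr

set_option backward.isDefEq.respectTransparency false in
lemma isNormalScheme_opens' {X : Scheme.{u}} (hX : Pi1.IsNormalScheme X) (V : X.Opens) :
    Pi1.IsNormalScheme (V : Scheme.{u}) := by
  intro x
  obtain ⟨hd, hc⟩ := hX x.1
  let e : (V : Scheme.{u}).presheaf.stalk x ≃+* X.presheaf.stalk x.1 :=
    (V.stalkIso x).commRingCatIsoToRingEquiv
  have hd' : IsDomain ((V : Scheme.{u}).presheaf.stalk x) := e.injective.isDomain e.toRingHom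
  exact ⟨hd', IsIntegrallyClosed.of_equiv e.symm⟩

set_option backward.isDefEq.respectTransparency false in
/-- A scheme whose ring of global functions has no zero divisors is (pre)connected. -/
lemma preconnected_of_domain (Y : Scheme.{u}) (W : Y.Opens) (hW : W = ⊤)
    (hdom : ∀ a b : Γ(Y, W), a * b = 0 → a = 0 ∨ b = 0) : PreconnectedSpace Y := by
  subst hW
  rw [preconnectedSpace_iff_clopen]
  intro s hs
  let W1 : Y.Opens := ⟨s, hs.2⟩
  let W2 : Y.Opens := ⟨sᶜ, hs.1.isOpen_compl⟩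
  have hinf : W1 ⊓ W2 = ⊥ := by
    ext y
    simp [W1, W2]
  have hsup : W1 ⊔ W2 = ⊤ := by
    ext y
    simp [W1, W2, em]
  haveI : Subsingleton Γ(Y, W1 ⊓ W2) := by
    rw [hinf]; infer_instance
  have hdom' : ∀ a b : Γ(Y, W1 ⊔ W2), a * b = 0 → a = 0 ∨ b = 0 := by
    rw [hsup]; exact hdom
  have hcomp : Y.presheaf.map (homOfLE (inf_le_left : W1 ⊓ W2 ≤ W1)).op (1 : Γ(Y, W1)) =
      Y.presheaf.map (homOfLE (inf_le_right : W1 ⊓ W2 ≤ W2)).op (0 : Γ(Y, W2)) :=
    Subsingleton.elim _ _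
  let e0 : Γ(Y, W1 ⊔ W2) := (Y.sheaf.objSupIsoProdEqLocus W1 W2).inv ⟨⟨1, 0⟩, hcomp⟩
  have he1 : Y.presheaf.map (homOfLE (le_sup_left : W1 ≤ W1 ⊔ W2)).op e0 = 1 :=
    Y.sheaf.objSupIsoProdEqLocus_inv_fst W1 W2 ⟨⟨1, 0⟩, hcomp⟩
  have he2 : Y.presheaf.map (homOfLE (le_sup_right : W2 ≤ W1 ⊔ W2)).op e0 = 0 :=
    Y.sheaf.objSupIsoProdEqLocus_inv_snd W1 W2 ⟨⟨1, 0⟩, hcomp⟩
  have sep : ∀ a b : Γ(Y, W1 ⊔ W2),
      Y.presheaf.map (homOfLE (le_sup_left : W1 ≤ W1 ⊔ W2)).op a =
        Y.presheaf.map (homOfLE (le_sup_left : W1 ≤ W1 ⊔ W2)).op b →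
      Y.presheaf.map (homOfLE (le_sup_right : W2 ≤ W1 ⊔ W2)).op a =
        Y.presheaf.map (homOfLE (le_sup_right : W2 ≤ W1 ⊔ W2)).op b → a = b := by
    intro a b h1 h2
    have h3 : (Y.sheaf.objSupIsoProdEqLocus W1 W2).hom a =
        (Y.sheaf.objSupIsoProdEqLocus W1 W2).hom b := by
      apply Subtype.ext
      apply Prod.ext
      · exact (Y.sheaf.objSupIsoProdEqLocus_hom_fst W1 W2 a).trans
          (h1.trans (Y.sheaf.objSupIsoProdEqLocus_hom_fst W1 W2 b).symm)
      · exact (Y.sheaf.objSupIsoProdEqLocus_hom_snd W1 W2 a).trans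
          (h2.trans (Y.sheaf.objSupIsoProdEqLocus_hom_snd W1 W2 b).symm)
    have h4 := congrArg (fun z => (Y.sheaf.objSupIsoProdEqLocus W1 W2).inv z) h3
    simpa using h4
  have hmul : e0 * (1 - e0) = 0 := by
    apply sep
    · simp only [map_mul, map_sub, map_one, map_zero, he1, sub_self, mul_zero]
    · simp only [map_mul, map_zero, he2, zero_mul]
  rcases hdom' _ _ hmul with h0 | h1
  · left
    have h10 : (1 : Γ(Y, W1)) = 0 := by rw [← he1, h0, map_zero]
    by_contra hne
    obtain ⟨y, hy⟩ := Set.nonempty_iff_ne_empty.mpr hne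
    have h5 := congrArg (fun z => Y.presheaf.germ W1 y hy z) h10
    simp only [map_one, map_zero] at h5
    exact one_ne_zero h5
  · right
    have e1 : e0 = 1 := (sub_eq_zero.mp h1).symm
    have h01 : (1 : Γ(Y, W2)) = 0 := by rw [← he2, e1, map_one]
    by_contra hne
    obtain ⟨y, hy⟩ := (Set.ne_univ_iff_exists_notMem s).mp hne
    have h5 := congrArg (fun z => Y.presheaf.germ W2 y hy z) h01
    simp only [map_one, map_zero] at h5
    exact one_ne_zero h5

set_option backward.isDefEq.respectTransparency false in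
lemma main (k : Type u) [Field k]
    (X Xt : Scheme.{u}) [X.Over (Spec (CommRingCat.of k))]
    [IsIntegral X]
    [LocallyOfFiniteType (X ↘ Spec (CommRingCat.of k))] [QuasiCompact (X ↘ Spec (CommRingCat.of k))]
    (f : Xt ⟶ X) [IsProper f]
    (U : X.Opens) (hU : (U : Set X).Nonempty) (hbir : IsIso (f ∣_ U))
    (hfib : ∀ V : X.Opens, IsIso (f.app V))
    (hXt : Pi1.IsNormalScheme Xt) : Pi1.IsNormalScheme X := by
  haveI : IsNoetherianRing (CommRingCat.of k) := inferInstanceAs (IsNoetherianRing k)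
  haveI : IsLocallyNoetherian X :=
    LocallyOfFiniteType.isLocallyNoetherian (X ↘ Spec (CommRingCat.of k))
  haveI : CompactSpace X :=
    QuasiCompact.compactSpace_of_compactSpace (X ↘ Spec (CommRingCat.of k))
  haveI : IsLocallyNoetherian Xt := LocallyOfFiniteType.isLocallyNoetherian f
  haveI : CompactSpace Xt := QuasiCompact.compactSpace_of_compactSpace f
  haveI : IsNoetherian Xt := {}
  have hfin : (irreducibleComponents Xt).Finite :=
    TopologicalSpace.NoetherianSpace.finite_irreducibleComponents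
  have hsurjU : ∀ u : X, u ∈ U → ∃ x : Xt, f x = u := by
    intro u hu
    haveI := hbir
    obtain ⟨x, hx⟩ := (f ∣_ U).homeomorph.surjective ⟨u, hu⟩
    have hx' : (f ∣_ U) x = ⟨u, hu⟩ := hx
    refine ⟨x.1, ?_⟩
    have h1 := morphismRestrict_base_coe f U x
    rw [hx'] at h1
    exact h1.symm
  obtain ⟨u0, hu0⟩ := hU
  obtain ⟨x0, hx0⟩ := hsurjU u0 hu0
  haveI : Nonempty Xt := ⟨x0⟩
  haveI : Nonempty (⊤ : X.Opens) := ⟨⟨u0, trivial⟩⟩
  haveI : IsDomain Γ(X, ⊤) := IsIntegral.component_integral ⊤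
  haveI := hfib ⊤
  let eT : Γ(Xt, f ⁻¹ᵁ ⊤) ≃+* Γ(X, ⊤) := (asIso (f.app ⊤)).commRingCatIsoToRingEquiv.symm
  haveI : IsDomain Γ(Xt, f ⁻¹ᵁ ⊤) := eT.injective.isDomain eT.toRingHom
  haveI : PreconnectedSpace Xt :=
    preconnected_of_domain Xt (f ⁻¹ᵁ ⊤) (by ext y; simp) (fun a b hab => mul_eq_zero.mp hab)
  haveI : ConnectedSpace Xt := { toPreconnectedSpace := inferInstance, toNonempty := inferInstance }
  haveI : IrreducibleSpace Xt := irreducibleSpace_of_isDomain_stalks hfin (fun y => (hXt y).1)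
  haveI : ∀ x : Xt, _root_.IsReduced (Xt.presheaf.stalk x) := fun x => by
    haveI := (hXt x).1
    infer_instance
  haveI : IsReduced Xt := isReduced_of_isReduced_stalk Xt
  haveI : IsIntegral Xt := isIntegral_of_irreducibleSpace_of_isReduced Xt
  intro y
  refine ⟨inferInstance, ?_⟩
  obtain ⟨V, hV, hyV, -⟩ := exists_isAffineOpen_mem_and_subset (x := y) (U := ⊤) trivial
  obtain ⟨u, huV, huU⟩ := nonempty_preirreducible_inter V.2 U.2 ⟨y, hyV⟩ ⟨u0, hu0⟩
  obtain ⟨x, hx⟩ := hsurjU u huU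
  have hxW : x ∈ f ⁻¹ᵁ V := by
    show f x ∈ V
    rw [hx]; exact huV
  haveI : Nonempty (f ⁻¹ᵁ V) := ⟨⟨x, hxW⟩⟩
  haveI : Nonempty ((f ⁻¹ᵁ V : Xt.Opens) : Scheme.{u}) := ⟨⟨x, hxW⟩⟩
  haveI : IsIntegral ((f ⁻¹ᵁ V : Xt.Opens) : Scheme.{u}) :=
    isIntegral_of_isOpenImmersion (f ⁻¹ᵁ V).ι
  have h1 : IsIntegrallyClosed (Γ(((f ⁻¹ᵁ V : Xt.Opens) : Scheme.{u}), ⊤) : Type u) :=
    Groth.Agent.H4Normal.isIntegrallyClosed_top _ (isNormalScheme_opens' hXt (f ⁻¹ᵁ V))
  have h2 : IsIntegrallyClosed (Γ(Xt, f ⁻¹ᵁ V) : Type u) :=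
    IsIntegrallyClosed.of_equiv ((f ⁻¹ᵁ V).topIso.commRingCatIsoToRingEquiv)
  haveI := hfib V
  have h3 : IsIntegrallyClosed (Γ(X, V) : Type u) :=
    IsIntegrallyClosed.of_equiv ((asIso (f.app V)).commRingCatIsoToRingEquiv.symm)
  haveI : Nonempty V := ⟨⟨y, hyV⟩⟩
  haveI : IsDomain (Γ(X, V) : Type u) := IsIntegral.component_integral V
  letI := TopCat.Presheaf.algebra_section_stalk X.presheaf ⟨y, hyV⟩
  haveI : IsLocalization.AtPrime (X.presheaf.stalk y) (hV.primeIdealOf ⟨y, hyV⟩).asIdeal :=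
    hV.isLocalization_stalk ⟨y, hyV⟩
  exact isIntegrallyClosed_of_isLocalization (X.presheaf.stalk y)
    (hV.primeIdealOf ⟨y, hyV⟩).asIdeal.primeCompl (Ideal.primeCompl_le_nonZeroDivisors _)


/-- Let k be a field, X an integral k-scheme which is separated and of finite type over k, and f : X̃ →
X a proper morphism of k-schemes which is birational — an isomorphism over some nonempty open subset
of X — and for which O_X → f_*O_X̃ is an isomorphism (Γ(V, O_X) → Γ(f⁻¹V, O_X̃) bijective for every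
open V of X). If X̃ is normal (every local ring an integrally closed domain), then X is normal. (In
the text this is the last clause of a lemma whose other hypotheses — X̃ Cohen–Macaulay, vanishing of
the higher direct images of O_X̃ and of the dualizing sheaf — and whose standing assumption that k
is perfect of positive characteristic play no role in this clause; they are omitted here.) -/
theorem result (k : Type u) [Field k]
    (X Xt : Scheme.{u}) [X.Over (Spec (CommRingCat.of k))] [Xt.Over (Spec (CommRingCat.of k))]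
    [IsIntegral X] [IsSeparated (X ↘ Spec (CommRingCat.of k))]
    [LocallyOfFiniteType (X ↘ Spec (CommRingCat.of k))] [QuasiCompact (X ↘ Spec (CommRingCat.of k))]
    (f : Xt ⟶ X) (hf : f ≫ (X ↘ Spec (CommRingCat.of k)) = Xt ↘ Spec (CommRingCat.of k)) [IsProper f]
    (U : X.Opens) (hU : (U : Set X).Nonempty) (hbir : IsIso (f ∣_ U))
    (hfib : ∀ V : X.Opens, IsIso (f.app V))
    (hXt : Pi1.IsNormalScheme Xt) : Pi1.IsNormalScheme X := by
  exact main k X Xt f U hU hbir hfib hXt

end Groth.Agent.S20014
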