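import Groth.Statements.S19513
import Groth.Agent.S20014

set_option autoImplicit false
universe u
open CategoryTheory CategoryTheory.Limits AlgebraicGeometry
open Variety

namespace Groth.Agent.S19513


/-- In a space with finitely many irreducible components, connected components are open. -/
lemma isOpen_connectedComponent_of_finite {α : Type*} [TopologicalSpace α]
    (hfin : (irreducibleComponents α).Finite) (x : α) : IsOpen (connectedComponent x) := by
  let 𝒯 : Set (Set α) := {Z | Z ∈ irreducibleComponents α ∧ Disjoint Z (connectedComponent x)}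
  have h𝒯fin : 𝒯.Finite := hfin.subset fun Z hZ => hZ.1
  have hTcl : IsClosed (⋃₀ 𝒯) := by
    rw [Set.sUnion_eq_biUnion]
    exact h𝒯fin.isClosed_biUnion fun Z hZ => isClosed_of_mem_irreducibleComponents Z hZ.1
  have hcompl : connectedComponent x = (⋃₀ 𝒯)ᶜ := by
    ext y
    constructor
    · rintro hy ⟨Z, ⟨hZ, hdisj⟩, hyZ⟩
      exact Set.disjoint_left.mp hdisj hyZ hy
    · intro hy
      by_contra hyC
      apply hy
      refine ⟨irreducibleComponent y, ⟨irreducibleComponent_mem_irreducibleComponents y, ?_⟩,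
        mem_irreducibleComponent⟩
      rw [Set.disjoint_left]
      intro z hzZ hzC
      apply hyC
      have hpre : _root_.IsPreconnected (irreducibleComponent y) :=
        isIrreducible_irreducibleComponent.isPreirreducible.isPreconnected
      have hsub : irreducibleComponent y ⊆ connectedComponent z :=
        hpre.subset_connectedComponent hzZ
      rw [connectedComponent_eq hzC]
      exact hsub mem_irreducibleComponent
  rw [hcompl]
  exact hTcl.isOpen_compl

set_option backward.isDefEq.respectTransparency false in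
/-- A scheme whose ring of global functions has only trivial idempotents is (pre)connected. -/
lemma preconnected_of_idem (Y : Scheme.{u}) (W : Y.Opens) (hW : W = ⊤)
    (hidem : ∀ e : Γ(Y, W), e * (1 - e) = 0 → e = 0 ∨ 1 - e = 0) : PreconnectedSpace Y := by
  subst hW
  rw [preconnectedSpace_iff_clopen]
  intro s hs
  let W1 : Y.Opens := ⟨s, hs.2⟩
  let W2 : Y.Opens := ⟨sᶜ, hs.1.isOpen_compl⟩
  have hinf : W1 ⊓ W2 = ⊥ := by
    ext y
    simp [W1, W2]
  have hsup : W1 ⊔ W2 = ⊤ := by
    ext y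
    simp [W1, W2, em]
  haveI : Subsingleton Γ(Y, W1 ⊓ W2) := by
    rw [hinf]; infer_instance
  have hidem' : ∀ e : Γ(Y, W1 ⊔ W2), e * (1 - e) = 0 → e = 0 ∨ 1 - e = 0 := by
    rw [hsup]; exact hidem
  have hcomp : Y.presheaf.map (homOfLE (inf_le_left : W1 ⊓ W2 ≤ W1)).op (1 : Γ(Y, W1)) =
      Y.presheaf.map (homOfLE (inf_le_right : W1 ⊓ W2 ≤ W2)).op (0 : Γ(Y, W2)) :=
    Subsingleton.elim _ _
  let e0 : Γ(Y, W1 ⊔ W2) := (Y.sheaf.objSupIsoProdEqLocus W1 W2).inv ⟨⟨1, 0⟩, hcomp⟩
  have he1 : Y.presheaf.map (homOfLE (le_sup_left : W1 ≤ W1 ⊔ W2)).op e0 = 1 :=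
    Y.sheaf.objSupIsoProdEqLocus_inv_fst W1 W2 ⟨⟨1, 0⟩, hcomp⟩
  have he2 : Y.presheaf.map (homOfLE (le_sup_right : W2 ≤ W1 ⊔ W2)).op e0 = 0 :=
    Y.sheaf.objSupIsoProdEqLocus_inv_snd W1 W2 ⟨⟨1, 0⟩, hcomp⟩
  have sep : ∀ a b : Γ(Y, W1 ⊔ W2),
      Y.presheaf.map (homOfLE (le_sup_left : W1 ≤ W1 ⊔ W2)).op a =
        Y.presheaf.map (homOfLE (le_sup_left : W1 ≤ W1 ⊔ W2)).op b →
      Y.presheaf.map (homOfLE (le_sup_right : W2 ≤ W1 ⊔ W2)).op a =
        Y.presheaf.map (homOfLE (le_sup_right : W2 ≤ W1 ⊔ W2)).op b → a = b := by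
    intro a b h1 h2
    have h3 : (Y.sheaf.objSupIsoProdEqLocus W1 W2).hom a =
        (Y.sheaf.objSupIsoProdEqLocus W1 W2).hom b := by
      apply Subtype.ext
      apply Prod.ext
      · exact (Y.sheaf.objSupIsoProdEqLocus_hom_fst W1 W2 a).trans
          (h1.trans (Y.sheaf.objSupIsoProdEqLocus_hom_fst W1 W2 b).symm)
      · exact (Y.sheaf.objSupIsoProdEqLocus_hom_snd W1 W2 a).trans
          (h2.trans (Y.sheaf.objSupIsoProdEqLocus_hom_snd W1 W2 b).symm)
    have h4 := congrArg (fun z => (Y.sheaf.objSupIsoProdEqLocus W1 W2).inv z) h3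
    simpa using h4
  have hmul : e0 * (1 - e0) = 0 := by
    apply sep
    · simp only [map_mul, map_sub, map_one, map_zero, he1, sub_self, mul_zero]
    · simp only [map_mul, map_zero, he2, zero_mul]
  rcases hidem' _ hmul with h0 | h1
  · left
    have h10 : (1 : Γ(Y, W1)) = 0 := by rw [← he1, h0, map_zero]
    by_contra hne
    obtain ⟨y, hy⟩ := Set.nonempty_iff_ne_empty.mpr hne
    have h5 := congrArg (fun z => Y.presheaf.germ W1 y hy z) h10
    simp only [map_one, map_zero] at h5
    exact one_ne_zero h5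
  · right
    have e1 : e0 = 1 := (sub_eq_zero.mp h1).symm
    have h01 : (1 : Γ(Y, W2)) = 0 := by rw [← he2, e1, map_one]
    by_contra hne
    obtain ⟨y, hy⟩ := (Set.ne_univ_iff_exists_notMem s).mp hne
    have h5 := congrArg (fun z => Y.presheaf.germ W2 y hy z) h01
    simp only [map_one, map_zero] at h5
    exact one_ne_zero h5

set_option backward.isDefEq.respectTransparency false in
/-- Over a connected open, idempotent sections are trivial. -/
lemma idem_trivial (Y : Scheme.{u}) (V : Y.Opens) (hV : _root_.IsPreconnected (V : Set Y))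
    (e : Γ(Y, V)) (he : e * (1 - e) = 0) : e = 0 ∨ 1 - e = 0 := by
  have hgerm : ∀ (x : Y) (hx : x ∈ V),
      Y.presheaf.germ V x hx e * (1 - Y.presheaf.germ V x hx e) = 0 := by
    intro x hx
    have h := congrArg (fun z => Y.presheaf.germ V x hx z) he
    simpa only [map_mul, map_sub, map_one, map_zero] using h
  have hcover : (V : Set Y) ⊆ (Y.basicOpen e : Set Y) ∪ (Y.basicOpen (1 - e) : Set Y) := by
    intro x hx
    rcases IsLocalRing.isUnit_or_isUnit_one_sub_self (Y.presheaf.germ V x hx e) with h | h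
    · left
      exact (Y.mem_basicOpen e x hx).mpr h
    · right
      refine (Y.mem_basicOpen (1 - e) x hx).mpr ?_
      rw [map_sub, map_one]
      exact h
  have hdisj : (V : Set Y) ∩ ((Y.basicOpen e : Set Y) ∩ (Y.basicOpen (1 - e) : Set Y)) = ∅ := by
    ext x
    simp only [Set.mem_inter_iff, Set.mem_empty_iff_false, iff_false]
    rintro ⟨hx, h1, h2⟩
    have u1 := (Y.mem_basicOpen e x hx).mp h1
    have u2 := (Y.mem_basicOpen (1 - e) x hx).mp h2
    rw [map_sub, map_one] at u2
    have u3 := u1.mul u2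
    rw [hgerm x hx] at u3
    exact not_isUnit_zero u3
  rcases (isPreconnected_iff_subset_of_disjoint.mp hV) _ _ (Y.basicOpen e).2
      (Y.basicOpen (1 - e)).2 hcover hdisj with h | h
  · right
    apply TopCat.Presheaf.section_ext Y.sheaf V
    intro x hx
    have u1 := (Y.mem_basicOpen e x hx).mp (h hx)
    have h0 := hgerm x hx
    have h2 : 1 - Y.presheaf.germ V x hx e = 0 := (u1.mul_right_eq_zero).mp h0
    show Y.presheaf.germ V x hx (1 - e) = Y.presheaf.germ V x hx 0
    rw [map_sub, map_one, map_zero]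
    exact h2
  · left
    apply TopCat.Presheaf.section_ext Y.sheaf V
    intro x hx
    have u2 := (Y.mem_basicOpen (1 - e) x hx).mp (h hx)
    rw [map_sub, map_one] at u2
    have h0 := hgerm x hx
    have h2 : Y.presheaf.germ V x hx e = 0 := (u2.mul_left_eq_zero).mp h0
    show Y.presheaf.germ V x hx e = Y.presheaf.germ V x hx 0
    rw [map_zero]
    exact h2

set_option backward.isDefEq.respectTransparency false in
lemma nonempty_preimage {X Y : Scheme.{u}} (f : X ⟶ Y) (V : Y.Opens) [IsIso (f.app V)]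
    (y : Y) (hy : y ∈ V) : ∃ x : X, x ∈ f ⁻¹ᵁ V := by
  by_contra hne
  have hbot : f ⁻¹ᵁ V = ⊥ := by
    apply le_bot_iff.mp
    intro x hx
    exact (hne ⟨x, hx⟩).elim
  haveI : Subsingleton Γ(X, f ⁻¹ᵁ V) := by
    rw [hbot]; infer_instance
  have hinj := (ConcreteCategory.bijective_of_isIso (f.app V)).1
  have h10 : (1 : Γ(Y, V)) = 0 := hinj (Subsingleton.elim _ _)
  have h5 := congrArg (fun z => Y.presheaf.germ V y hy z) h10
  simp only [map_one, map_zero] at h5
  exact one_ne_zero h5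

set_option backward.isDefEq.respectTransparency false in
lemma main (k : Type u) [Field k] (X Y : Scheme.{u})
    [X.Over (Spec (CommRingCat.of k))] [Y.Over (Spec (CommRingCat.of k))]
    [IsProper (X ↘ Spec (CommRingCat.of k))] [IsProper (Y ↘ Spec (CommRingCat.of k))]
    (f : X ⟶ Y) (hfib : ∀ V : Y.Opens, IsIso (f.app V))
    (hX : Pi1.IsNormalScheme X) : Pi1.IsNormalScheme Y := by
  haveI : IsNoetherianRing (CommRingCat.of k) := inferInstanceAs (IsNoetherianRing k)
  haveI : IsLocallyNoetherian X :=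
    LocallyOfFiniteType.isLocallyNoetherian (X ↘ Spec (CommRingCat.of k))
  haveI : CompactSpace X :=
    QuasiCompact.compactSpace_of_compactSpace (X ↘ Spec (CommRingCat.of k))
  haveI : IsNoetherian X := {}
  haveI : IsLocallyNoetherian Y :=
    LocallyOfFiniteType.isLocallyNoetherian (Y ↘ Spec (CommRingCat.of k))
  haveI : CompactSpace Y :=
    QuasiCompact.compactSpace_of_compactSpace (Y ↘ Spec (CommRingCat.of k))
  haveI : IsNoetherian Y := {}
  intro y
  have hopen : IsOpen (connectedComponent y) :=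
    isOpen_connectedComponent_of_finite
      TopologicalSpace.NoetherianSpace.finite_irreducibleComponents y
  let V' : Y.Opens := ⟨connectedComponent y, hopen⟩
  have hyV' : y ∈ V' := mem_connectedComponent
  have hV'pre : _root_.IsPreconnected (V' : Set Y) := isPreconnected_connectedComponent
  let W' : X.Opens := f ⁻¹ᵁ V'
  haveI := hfib V'
  obtain ⟨x', hx'⟩ := nonempty_preimage f V' y hyV'
  have hSnormal : Pi1.IsNormalScheme (W' : Scheme.{u}) :=
    Groth.Agent.S20014.isNormalScheme_opens' hX W'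
  let φ : Γ((W' : Scheme.{u}), ⊤) ≃+* Γ(Y, V') :=
    (W'.topIso.commRingCatIsoToRingEquiv).trans
      (asIso (f.app V')).commRingCatIsoToRingEquiv.symm
  haveI : PreconnectedSpace (W' : Scheme.{u}) := by
    refine preconnected_of_idem (W' : Scheme.{u}) ⊤ rfl ?_
    intro e he
    have he' : φ e * (1 - φ e) = 0 := by
      rw [← map_one φ, ← map_sub, ← map_mul, he, map_zero]
    rcases idem_trivial Y V' hV'pre (φ e) he' with h | h
    · left
      exact (map_eq_zero_iff φ φ.injective).mp h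
    · right
      rw [← map_one φ, ← map_sub] at h
      exact (map_eq_zero_iff φ φ.injective).mp h
  haveI : Nonempty (W' : Scheme.{u}) := ⟨⟨x', hx'⟩⟩
  haveI : ConnectedSpace (W' : Scheme.{u}) :=
    { toPreconnectedSpace := inferInstance, toNonempty := inferInstance }
  haveI : TopologicalSpace.NoetherianSpace (W' : Scheme.{u}) :=
    inferInstanceAs (TopologicalSpace.NoetherianSpace (W' : Set X))
  have hfinS : (irreducibleComponents (W' : Scheme.{u})).Finite :=
    TopologicalSpace.NoetherianSpace.finite_irreducibleComponents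
  haveI : IrreducibleSpace (W' : Scheme.{u}) :=
    Groth.Agent.S20014.irreducibleSpace_of_isDomain_stalks hfinS (fun s => (hSnormal s).1)
  haveI : ∀ s : (W' : Scheme.{u}), _root_.IsReduced ((W' : Scheme.{u}).presheaf.stalk s) :=
    fun s => by
      haveI := (hSnormal s).1
      infer_instance
  haveI : IsReduced (W' : Scheme.{u}) := isReduced_of_isReduced_stalk _
  haveI : IsIntegral (W' : Scheme.{u}) := isIntegral_of_irreducibleSpace_of_isReduced _
  obtain ⟨V, hV, hyV, hVV'⟩ := exists_isAffineOpen_mem_and_subset (x := y) (U := V') hyV'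
  haveI := hfib V
  obtain ⟨x, hxW⟩ := nonempty_preimage f V y hyV
  have hWW' : f ⁻¹ᵁ V ≤ W' := fun z hz => hVV' hz
  haveI : Nonempty (f ⁻¹ᵁ V) := ⟨⟨x, hxW⟩⟩
  haveI : Nonempty ((f ⁻¹ᵁ V : X.Opens) : Scheme.{u}) := ⟨⟨x, hxW⟩⟩
  haveI : IsIntegral ((f ⁻¹ᵁ V : X.Opens) : Scheme.{u}) :=
    isIntegral_of_isOpenImmersion (X.homOfLE hWW')
  have h1 : IsIntegrallyClosed (Γ(((f ⁻¹ᵁ V : X.Opens) : Scheme.{u}), ⊤) : Type u) :=
    Groth.Agent.H4Normal.isIntegrallyClosed_top _
      (Groth.Agent.S20014.isNormalScheme_opens' hX (f ⁻¹ᵁ V))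
  have h2 : IsIntegrallyClosed (Γ(X, f ⁻¹ᵁ V) : Type u) :=
    IsIntegrallyClosed.of_equiv ((f ⁻¹ᵁ V).topIso.commRingCatIsoToRingEquiv)
  have h3 : IsIntegrallyClosed (Γ(Y, V) : Type u) :=
    IsIntegrallyClosed.of_equiv ((asIso (f.app V)).commRingCatIsoToRingEquiv.symm)
  haveI : Nonempty (⊤ : ((f ⁻¹ᵁ V : X.Opens) : Scheme.{u}).Opens) := ⟨⟨⟨x, hxW⟩, trivial⟩⟩
  haveI : IsDomain (Γ(((f ⁻¹ᵁ V : X.Opens) : Scheme.{u}), ⊤) : Type u) :=
    IsIntegral.component_integral ⊤
  let ψ : Γ(Y, V) ≃+* Γ(((f ⁻¹ᵁ V : X.Opens) : Scheme.{u}), ⊤) :=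
    ((asIso (f.app V)).commRingCatIsoToRingEquiv).trans
      ((f ⁻¹ᵁ V).topIso.commRingCatIsoToRingEquiv.symm)
  haveI : IsDomain (Γ(Y, V) : Type u) := ψ.injective.isDomain ψ.toRingHom
  letI := TopCat.Presheaf.algebra_section_stalk Y.presheaf ⟨y, hyV⟩
  haveI : IsLocalization.AtPrime (Y.presheaf.stalk y) (hV.primeIdealOf ⟨y, hyV⟩).asIdeal :=
    hV.isLocalization_stalk ⟨y, hyV⟩
  refine ⟨IsLocalization.isDomain_of_atPrime (Y.presheaf.stalk y)
    (hV.primeIdealOf ⟨y, hyV⟩).asIdeal, ?_⟩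
  exact isIntegrallyClosed_of_isLocalization (Y.presheaf.stalk y)
    (hV.primeIdealOf ⟨y, hyV⟩).asIdeal.primeCompl (Ideal.primeCompl_le_nonZeroDivisors _)


/-- Let k be a field and f : X → Y a k-morphism between proper k-schemes which is a fibration, i.e. O_Y
→ f_*O_X is an isomorphism (Γ(V, O_Y) → Γ(f⁻¹V, O_X) bijective for every open V ⊆ Y). If X is normal
(every local ring an integrally closed domain), then so is Y. -/
theorem result (k : Type u) [Field k] (X Y : Scheme.{u})
    [X.Over (Spec (CommRingCat.of k))] [Y.Over (Spec (CommRingCat.of k))] [IsProper (X ↘ Spec (CommRingCat.of k))] [IsProper (Y ↘ Spec (CommRingCat.of k))]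
    (f : X ⟶ Y) (hf : f ≫ (Y ↘ Spec (CommRingCat.of k)) = X ↘ Spec (CommRingCat.of k)) (hfib : ∀ V : Y.Opens, IsIso (f.app V))
    (hX : Pi1.IsNormalScheme X) : Pi1.IsNormalScheme Y := by
  exact main k X Y f hfib hX

end Groth.Agent.S19513
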