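import Groth.Statements.S19514
-- import your own Groth.Agent.* helpers here

set_option autoImplicit false
universe u
open CategoryTheory CategoryTheory.Limits AlgebraicGeometry
open Variety

namespace Groth.Agent.S19514

/-- Let k be a field and f : X → Y a k-morphism between proper k-schemes which is a fibration, i.e. O_Y
→ f_*O_X is an isomorphism (Γ(V, O_Y) → Γ(f⁻¹V, O_X) bijective for every open V ⊆ Y). If X is
geometrically integral over k, then so is Y. (The assertion of (iii) for geometric normality is not
stated here.) -/
theorem result (k : Type u) [Field k] (X Y : Scheme.{u})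
    [X.Over (Spec (CommRingCat.of k))] [Y.Over (Spec (CommRingCat.of k))] [IsProper (X ↘ Spec (CommRingCat.of k))] [IsProper (Y ↘ Spec (CommRingCat.of k))]
    (f : X ⟶ Y) (hf : f ≫ (Y ↘ Spec (CommRingCat.of k)) = X ↘ Spec (CommRingCat.of k)) (hfib : ∀ V : Y.Opens, IsIso (f.app V))
    [GeometricallyIntegral (X ↘ Spec (CommRingCat.of k))] : GeometricallyIntegral (Y ↘ Spec (CommRingCat.of k)) := by
  have hsepY : IsSeparated (Y ↘ Spec (CommRingCat.of k)) := inferInstance
  have hprop : IsProper f := by
    have : IsProper (f ≫ (Y ↘ Spec (CommRingCat.of k))) := hf ▸ inferInstance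
    exact IsProper.of_comp f (Y ↘ Spec (CommRingCat.of k))
  have hqc : QuasiCompact f := inferInstance
  have hdom : IsSchemeTheoreticallyDominant f := by
    rw [isSchemeTheoreticallyDominant_iff]
    ext U : 2
    rw [Scheme.Hom.ker_apply]
    have := hfib U.1
    simp only [Scheme.IdealSheafData.ideal_bot, Pi.bot_apply]
    rw [← RingHom.injective_iff_ker_eq_bot]
    exact (ConcreteCategory.bijective_of_isIso (f.app U.1)).1
  have hsurj : Surjective f := by
    constructor
    have hd : DenseRange f.base := f.denseRange
    have hc : IsClosed (Set.range f.base) := f.isClosedMap.isClosed_range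
    rw [← Set.range_eq_univ, ← hc.closure_eq]
    exact hd.closure_eq
  refine ⟨fun K _ y Z fst snd hpb => ?_⟩
  have hW : IsPullback (pullback.fst f fst) (pullback.snd f fst ≫ snd)
      (X ↘ Spec (CommRingCat.of k)) y := by
    rw [← hf]
    exact (IsPullback.of_hasPullback f fst).paste_vert hpb
  have hWint : IsIntegral (pullback f fst) :=
    GeometricallyIntegral.geometrically_isIntegral (f := X ↘ Spec (CommRingCat.of k)) y _ _ hW
  have hflaty : Flat y := by
    obtain ⟨φ, rfl⟩ : ∃ φ, Spec.map φ = y := ⟨_, Spec.map_preimage _⟩
    rw [HasRingHomProperty.Spec_iff (P := @Flat)]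
    algebraize [φ.hom]
    change Module.Flat k K
    infer_instance
  have hflat : Flat fst := MorphismProperty.of_isPullback (P := @Flat) hpb.flip hflaty
  rw [isIntegral_iff_irreducibleSpace_and_isReduced]
  constructor
  · exact (pullback.snd f fst).surjective.irreducibleSpace (pullback.snd f fst).continuous
  · exact IsSchemeTheoreticallyDominant.isReduced (pullback.snd f fst)

end Groth.Agent.S19514
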