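import Groth.Statements.S19522
import Groth.Agent.Lib.helper28.ComodMod

set_option autoImplicit false
universe u
open TensorProduct
open GLin

namespace Groth.Agent.S19522

open Groth.Agent.Lib.helper28.ComodMod Polynomial

section
variable {k : Type u} [Field k] {A : Type u} [CommRing A] [Algebra k A]
  {R : Type u} [CommRing R] [Algebra k R]

/-- coefficient map tensored with `A` -/
noncomputable def Cr (r : ℕ) : (Polynomial R) ⊗[k] A →ₗ[k] R ⊗[k] A :=
  ((Polynomial.lcoeff R r).restrictScalars k).rTensor A

theorem Cr_tmul (r : ℕ) (p : Polynomial R) (a : A) :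
    Cr (k := k) r (p ⊗ₜ[k] a) = (p.coeff r) ⊗ₜ[k] a := rfl

theorem eq_zero_of_Cr (z : (Polynomial R) ⊗[k] A) (h : ∀ r, Cr (k := k) r z = 0) : z = 0 := by
  apply eq_zero_of_forall_T
  intro φ
  ext r
  have := T_rTensor ((Polynomial.lcoeff R r).restrictScalars k) φ z
  have h' : ((Polynomial.lcoeff R r).restrictScalars k).rTensor A z = 0 := h r
  rw [h', map_zero] at this
  rw [Polynomial.coeff_zero]
  exact this.symm

theorem Cr_map_mul (r n : ℕ) (w : R ⊗[k] A) (a : A) :
    Cr (k := k) r (Algebra.TensorProduct.map (Polynomial.CAlgHom : R →ₐ[k] Polynomial R) (AlgHom.id k A) w *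
      (((Polynomial.X : Polynomial R) ^ n) ⊗ₜ[k] a)) = if n = r then w * ((1 : R) ⊗ₜ[k] a) else 0 := by
  induction w using TensorProduct.induction_on with
  | zero => simp
  | tmul x b =>
    rw [Algebra.TensorProduct.map_tmul, Algebra.TensorProduct.tmul_mul_tmul, Cr_tmul]
    simp only [Polynomial.CAlgHom_apply, AlgHom.id_apply, Polynomial.coeff_C_mul_X_pow]
    by_cases h : n = r
    · rw [if_pos h, if_pos h.symm, Algebra.TensorProduct.tmul_mul_tmul, mul_one]
    · rw [if_neg h, if_neg (Ne.symm h), TensorProduct.zero_tmul]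
  | add x y hx hy =>
    rw [map_add, add_mul, map_add, hx, hy]
    by_cases h : n = r
    · simp only [if_pos h, add_mul]
    · simp only [if_neg h, add_zero]

end

/-- Let k be a field, A a commutative k-bialgebra coacting multiplicatively on a commutative k-algebra
R, and χ ∈ A a group-like element with an inverse χ' (χχ' = 1). Suppose the polynomial ring R[t]
carries a multiplicative coaction which restricts to the given one on constants and sends t to t ⊗
χ'. Then g ∈ R[t] is coinvariant if and only if, for every r, its r-th coefficient has coaction g_r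
↦ g_r ⊗ χ^r; that is, the ring of invariants of R[t] is the sum over r ≥ 0 of the weight-χ^r
semi-invariants of R times t^r. (The published statement is phrased for an affine variety with an
action of a linear algebraic group over an algebraically closed field of characteristic zero and
identifies the invariants of X × A¹ with the graded ring of invariant sections of the powers of the
linearised trivial bundle; this is its coordinate-ring content, valid over any field.) -/
theorem result (k : Type u) [Field k]
    (A : Type u) [CommRing A] [Bialgebra k A]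
    (R : Type u) [CommRing R] [Algebra k R] [HopfRep.Comod k A R] [GLin.IsCoactAlg k A R]
    [HopfRep.Comod k A (Polynomial R)] [GLin.IsCoactAlg k A (Polynomial R)]
    (χ χ' : A) (hχ : CoalgebraStruct.comul (R := k) (A := A) χ = χ ⊗ₜ[k] χ)
    (hχε : CoalgebraStruct.counit (R := k) (A := A) χ = 1) (hχχ' : χ * χ' = 1)
    (hC : ∀ r : R, HopfRep.Comod.coact (k := k) (A := A) (Polynomial.C r) =
      Algebra.TensorProduct.map (Polynomial.CAlgHom : R →ₐ[k] Polynomial R) (AlgHom.id k A)
        (HopfRep.Comod.coact (k := k) (A := A) r))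
    (hX : HopfRep.Comod.coact (k := k) (A := A) (Polynomial.X : Polynomial R) = Polynomial.X ⊗ₜ[k] χ')
    (g : Polynomial R) :
    g ∈ GLin.invariants k A (Polynomial R) ↔
      ∀ r : ℕ, g.coeff r ∈ HopfRep.eigenspace k A R (χ ^ r) := by
  have hpow : ∀ n : ℕ, HopfRep.Comod.coact (k := k) (A := A) ((Polynomial.X : Polynomial R) ^ n) =
      ((Polynomial.X : Polynomial R) ^ n) ⊗ₜ[k] (χ' ^ n) := by
    intro n
    have := map_pow (GLin.coactAlgHom k A (Polynomial R)) (Polynomial.X : Polynomial R) n
    simp only [GLin.coactAlgHom_apply] at this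
    rw [this, hX, Algebra.TensorProduct.tmul_pow]
  have hkey : ∀ (g : Polynomial R) (r : ℕ), Cr (k := k) r (HopfRep.Comod.coact (k := k) (A := A) g) =
      HopfRep.Comod.coact (k := k) (A := A) (g.coeff r) * ((1 : R) ⊗ₜ[k] (χ' ^ r)) := by
    intro g r
    induction g using Polynomial.induction_on' with
    | add p q hp hq => rw [map_add, map_add, hp, hq, Polynomial.coeff_add, map_add, add_mul]
    | monomial n a =>
      rw [← Polynomial.C_mul_X_pow_eq_monomial, GLin.IsCoactAlg.coact_mul, hC, hpow, Cr_map_mul,
        Polynomial.coeff_C_mul_X_pow]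
      by_cases h : n = r
      · rw [if_pos h, if_pos h.symm, h]
      · rw [if_neg h, if_neg (Ne.symm h), map_zero, zero_mul]
  have hχpow : ∀ r : ℕ, χ ^ r * χ' ^ r = 1 := by
    intro r
    rw [← mul_pow, hχχ', one_pow]
  rw [GLin.mem_invariants_iff]
  constructor
  · intro hg r
    have h1 := hkey g r
    rw [hg, Cr_tmul] at h1
    show HopfRep.Comod.coact (k := k) (A := A) (g.coeff r) = (g.coeff r) ⊗ₜ[k] (χ ^ r)
    have h2 := congrArg (fun z => z * ((1 : R) ⊗ₜ[k] (χ ^ r))) h1
    rw [Algebra.TensorProduct.tmul_mul_tmul, mul_assoc, Algebra.TensorProduct.tmul_mul_tmul, mul_one,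
      one_mul, mul_comm (χ' ^ r), hχpow, mul_one, ← Algebra.TensorProduct.one_def, mul_one] at h2
    exact h2.symm
  · intro hg
    rw [← sub_eq_zero]
    apply eq_zero_of_Cr
    intro r
    rw [map_sub, hkey g r, Cr_tmul]
    have h1 : HopfRep.Comod.coact (k := k) (A := A) (g.coeff r) = (g.coeff r) ⊗ₜ[k] (χ ^ r) := hg r
    rw [h1, Algebra.TensorProduct.tmul_mul_tmul, mul_one, hχpow, sub_self]

end Groth.Agent.S19522
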