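import Groth.Statements.S19547
import Mathlib.RingTheory.Flat.FaithfullyFlat.Basic
import Mathlib.RingTheory.Flat.FaithfullyFlat.Algebra
import Mathlib.RingTheory.Flat.Basic
import Mathlib.Algebra.Exact.Basic
import Mathlib.Tactic

set_option autoImplicit false
universe u
open TensorProduct
open Desc

namespace Groth.Agent.S19547

/-- Let A → A' be a faithfully flat homomorphism of commutative rings, M' an A'-module and φ : M' ⊗_A A'
→ A' ⊗_A M' an isomorphism of (A' ⊗_A A')-modules for the diagonal actions (x ⊗ y)(u ⊗ z) = xu ⊗ yz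
and (x ⊗ y)(z ⊗ u) = xz ⊗ yu, satisfying the cocycle condition φ_13 = φ_23 ∘ φ_12 between the three
pullbacks to A' ⊗_A A' ⊗_A A'. Here linearity over A' ⊗_A A' is stated on the generators x ⊗ 1 and 1
⊗ y, and the cocycle condition on pure tensors u ⊗ a ⊗ b: writing φ(u ⊗ a) = Σ a_i ⊗ u_i, it says Σ
a_i ⊗ φ(u_i ⊗ b) = Σ b_j ⊗ a ⊗ u'_j where φ(u ⊗ b) = Σ b_j ⊗ u'_j. Let M = {u ∈ M' : φ(u ⊗ 1) = 1 ⊗
u}, an A-submodule of M'. Then the canonical map λ : A' ⊗_A M → M', x ⊗ u ↦ xu, is an isomorphism. -/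
theorem result (A A' : Type u) [CommRing A] [CommRing A']
    [Algebra A A'] [Module.FaithfullyFlat A A'] (M' : Type u) [AddCommGroup M'] [Module A M']
    [Module A' M'] [IsScalarTower A A' M']
    (φ : M' ⊗[A] A' →ₗ[A] A' ⊗[A] M') (hφ : Function.Bijective φ)
    (h1 : ∀ (x : A') (u : M') (z : A'),
      φ ((x • u) ⊗ₜ[A] z) = LinearMap.rTensor M' (LinearMap.mulLeft A x) (φ (u ⊗ₜ[A] z)))
    (h2 : ∀ (y : A') (u : M') (z : A'),
      φ (u ⊗ₜ[A] (y * z)) = LinearMap.lTensor A' (Algebra.lsmul A A M' y) (φ (u ⊗ₜ[A] z)))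
    (hcoc : ∀ (u : M') (a b : A'),
      LinearMap.lTensor A' φ (TensorProduct.assoc A A' M' A' (LinearMap.rTensor A' φ ((u ⊗ₜ[A] a) ⊗ₜ[A] b))) =
        LinearMap.lTensor A' (TensorProduct.mk A A' M' a) (φ (u ⊗ₜ[A] b)))
    (M : Submodule A M') (hM : ∀ u : M', u ∈ M ↔ φ (u ⊗ₜ[A] (1 : A')) = (1 : A') ⊗ₜ[A] u) :
    Function.Bijective
      ((TensorProduct.lift (Algebra.lsmul A A M').toLinearMap) ∘ₗ (LinearMap.lTensor A' M.subtype)) := by
  classical
  -- the two maps
  set β : M' →ₗ[A] A' ⊗[A] M' := φ ∘ₗ (TensorProduct.mk A M' A').flip 1 with hβ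
  set α : M' →ₗ[A] A' ⊗[A] M' := TensorProduct.mk A A' M' 1 with hα
  have hβapp : ∀ u, β u = φ (u ⊗ₜ[A] (1 : A')) := fun u => rfl
  have hαapp : ∀ u, α u = (1 : A') ⊗ₜ[A] u := fun u => rfl
  have hex : Function.Exact M.subtype (β - α) := by
    intro y
    rw [LinearMap.sub_apply, sub_eq_zero, hβapp, hαapp, ← hM]
    constructor
    · intro hy; exact ⟨⟨y, hy⟩, rfl⟩
    · rintro ⟨⟨z, hz⟩, rfl⟩; exact hz
  have hexT := Module.Flat.lTensor_exact A' hex
  have hinjT : Function.Injective (LinearMap.lTensor A' M.subtype) :=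
    Module.Flat.lTensor_preserves_injective_linearMap M.subtype Subtype.val_injective
  set lam : A' ⊗[A] M →ₗ[A] M' :=
    (TensorProduct.lift (Algebra.lsmul A A M').toLinearMap) ∘ₗ (LinearMap.lTensor A' M.subtype)
    with hlam
  -- β ∘ lam = inclusion
  have hβlam : ∀ t : A' ⊗[A] M, β (lam t) = LinearMap.lTensor A' M.subtype t := by
    intro t
    induction t with
    | zero => simp
    | tmul x u =>
      have hu : φ ((u : M') ⊗ₜ[A] (1 : A')) = (1 : A') ⊗ₜ[A] (u : M') := (hM u).mp u.2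
      have : lam (x ⊗ₜ u) = x • (u : M') := by simp [hlam]
      rw [this, hβapp, h1, hu]
      simp
    | add a b ha hb => rw [map_add, map_add, ha, hb, map_add]
  -- β injective
  have hβinj : Function.Injective β := by
    have h2 : Function.Injective ((TensorProduct.mk A M' A').flip 1) := by
      have h3 := Module.FaithfullyFlat.tensorProduct_mk_injective (A := A) (B := A') M'
      have : ⇑((TensorProduct.mk A M' A').flip 1) =
          ⇑(TensorProduct.comm A A' M') ∘ ⇑(TensorProduct.mk A A' M' 1) := by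
        funext u; simp
      rw [this]
      exact (TensorProduct.comm A A' M').injective.comp h3
    rw [hβ, LinearMap.coe_comp]
    exact hφ.1.comp h2
  constructor
  · rw [injective_iff_map_eq_zero]
    intro t ht
    apply hinjT
    rw [← hβlam, ht, map_zero, map_zero]
  · intro u
    -- β u lies in the equalizer
    have hkey : LinearMap.lTensor A' (β - α) (β u) = 0 := by
      have e1 : ∀ w : A' ⊗[A] M', LinearMap.lTensor A' β w =
          LinearMap.lTensor A' φ (TensorProduct.assoc A A' M' A' (w ⊗ₜ[A] (1 : A'))) := by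
        intro w
        induction w with
        | zero => simp
        | tmul a m => simp [hβapp]
        | add a b ha hb => rw [map_add, ha, hb, TensorProduct.add_tmul, map_add, map_add]
      have e2 := hcoc u 1 1
      rw [LinearMap.rTensor_tmul] at e2
      rw [LinearMap.lTensor_sub, LinearMap.sub_apply, e1, hβapp, e2, sub_self]
    obtain ⟨t, ht⟩ := (hexT _).mp hkey
    refine ⟨t, ?_⟩
    apply hβinj
    rw [← ht]
    exact hβlam t

end Groth.Agent.S19547
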