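import Groth.Statements.S19551
import Mathlib

set_option autoImplicit false
universe u v w
open KronMod

namespace Groth.Agent.S19551aux


theorem main (K : Type u) [Field K] [Infinite K]
    (V : Type v) (W : Type w)
    [AddCommGroup V] [Module K V] [FiniteDimensional K V]
    [AddCommGroup W] [Module K W] [FiniteDimensional K W]
    (f : Fin 2 → (V →ₗ[K] W)) (k : ℕ)
    (hV : Module.finrank K V = k) (hW : Module.finrank K W = k)
    (hf : KronMod.IsSemistable f) :
    ∃ z : Fin 2 → K, Function.Bijective ((∑ j, z j • f j : V →ₗ[K] W) : V → W) := by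
  classical
  by_contra hcon
  push Not at hcon
  have hk : 0 < k := by
    have := hf.1
    omega
  -- kernel vectors
  have hker : ∀ t : K, ∃ u : V, u ≠ 0 ∧ f 0 u + t • f 1 u = 0 := by
    intro t
    have h := hcon ![1, t]
    have hsum : (∑ j, (![1, t] : Fin 2 → K) j • f j : V →ₗ[K] W) = f 0 + t • f 1 := by
      simp [Fin.sum_univ_two]
    rw [hsum] at h
    have hinj : ¬ Function.Injective (f 0 + t • f 1) := by
      intro hi
      exact h ⟨hi, (LinearMap.injective_iff_surjective_of_finrank_eq_finrank
        (hV.trans hW.symm)).1 hi⟩
    rw [← LinearMap.ker_eq_bot] at hinj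
    obtain ⟨u, hu, hu0⟩ := Submodule.exists_mem_ne_zero_of_ne_bot hinj
    exact ⟨u, hu0, by simpa using hu⟩
  choose u hu0 hu using hker
  let τ : ℕ ↪ K := Infinite.natEmbedding K
  let vv : ℕ → V := fun i => u (τ i)
  have hvv0 : ∀ i, vv i ≠ 0 := fun i => hu0 _
  have hvv : ∀ i, f 0 (vv i) = - (τ i • f 1 (vv i)) := fun i => eq_neg_of_add_eq_zero_left (hu _)
  have hex : ∃ n : ℕ, ¬ LinearIndependent K (fun i : Fin n => vv i) := by
    refine ⟨k + 1, fun hli => ?_⟩
    have := hli.fintype_card_le_finrank
    rw [Fintype.card_fin, hV] at this
    omega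
  have hmin : ∀ m : ℕ, m < Nat.find hex → ¬ ¬ LinearIndependent K (fun i : Fin m => vv i) :=
    fun m hm => Nat.find_min hex hm
  have hspec := Nat.find_spec hex
  set n₁ := Nat.find hex with hn₁
  have hn₁0 : n₁ ≠ 0 := by
    intro h0
    apply hspec
    rw [h0]
    exact linearIndependent_empty_type
  obtain ⟨n, hn⟩ := Nat.exists_eq_succ_of_ne_zero hn₁0
  have hli : LinearIndependent K (fun i : Fin n => vv i) := by
    have := hmin n (by omega)
    exact not_not.1 this
  rw [hn] at hspec
  have hmem : vv n ∈ Submodule.span K (Set.range (fun i : Fin n => vv i)) := by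
    by_contra hnot
    apply hspec
    rw [linearIndependent_finSucc']
    exact ⟨hli, hnot⟩
  have hn1 : 1 ≤ n := by
    by_contra h
    have h0 : n = 0 := by omega
    subst h0
    have : Set.range (fun i : Fin 0 => vv i) = ∅ := Set.range_eq_empty _
    rw [this, Submodule.span_empty, Submodule.mem_bot] at hmem
    exact hvv0 0 hmem
  obtain ⟨c, hc⟩ := (Submodule.mem_span_range_iff_exists_fun K).1 hmem
  -- the subrepresentation
  set V' : Submodule K V := Submodule.span K (Set.range (fun i : Fin n => vv i)) with hV'
  set ww : Fin n → W := fun i => f 1 (vv i) with hww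
  set W' : Submodule K W := Submodule.span K (Set.range ww) with hW'
  have hsub : KronMod.IsSubrep f V' W' := by
    intro j
    rw [hV', Submodule.map_span, Submodule.span_le]
    rintro _ ⟨_, ⟨i, rfl⟩, rfl⟩
    fin_cases j
    · show f 0 (vv i) ∈ W'
      rw [hvv]
      exact Submodule.neg_mem _ (Submodule.smul_mem _ _ (Submodule.subset_span ⟨i, rfl⟩))
    · exact Submodule.subset_span ⟨i, rfl⟩
  have hdimV : Module.finrank K V' = n := by
    rw [hV', finrank_span_eq_card hli, Fintype.card_fin]
  -- relation among the ww
  have hrel : ∑ i, (c i * (τ i - τ n)) • ww i = 0 := by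
    have h0 := congrArg (f 0) hc
    have h1 := congrArg (f 1) hc
    rw [map_sum] at h0 h1
    simp only [map_smul, hvv] at h0
    simp only [map_smul] at h1
    have e1 : ∑ i, (c i * τ i) • ww i = τ n • f 1 (vv n) := by
      have : ∑ x : Fin n, c x • -((τ x) • (f 1) (vv x)) = - ∑ i, (c i * τ i) • ww i := by
        rw [← Finset.sum_neg_distrib]
        apply Finset.sum_congr rfl
        intro i _
        rw [smul_neg, mul_smul]
      rw [this] at h0
      exact neg_injective h0
    have e2 : ∑ i, (c i * τ n) • ww i = τ n • f 1 (vv n) := by
      rw [← h1, Finset.smul_sum]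
      apply Finset.sum_congr rfl
      intro i _
      rw [mul_comm, mul_smul]
    calc ∑ i, (c i * (τ i - τ n)) • ww i = ∑ i, (c i * τ i) • ww i - ∑ i, (c i * τ n) • ww i := by
          rw [← Finset.sum_sub_distrib]
          apply Finset.sum_congr rfl
          intro i _
          rw [mul_sub, sub_smul]
      _ = 0 := by rw [e1, e2, sub_self]
  have hnotli : ¬ LinearIndependent K ww := by
    intro hli'
    rw [Fintype.linearIndependent_iff] at hli'
    have hall := hli' _ hrel
    have hc0 : ∀ i, c i = 0 := by
      intro i
      have := hall i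
      rcases mul_eq_zero.1 this with h | h
      · exact h
      · exfalso
        have : τ i = τ n := sub_eq_zero.1 h
        have := τ.injective this
        exact absurd this (by have := i.2; omega)
    apply hvv0 n
    rw [← hc]
    simp [hc0]
  have hdimW : Module.finrank K W' < n := by
    have h1 : (Set.range ww).finrank K ≤ Fintype.card (Fin n) := finrank_range_le_card ww
    have h2 : Fintype.card (Fin n) ≠ (Set.range ww).finrank K :=
      fun h => hnotli (linearIndependent_iff_card_eq_finrank_span.2 h)
    rw [Fintype.card_fin] at h1 h2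
    show (Set.range ww).finrank K < n
    omega
  have h1 : ¬ (V' = ⊥ ∧ W' = ⊥) := by
    rintro ⟨hb, -⟩
    rw [hb, finrank_bot] at hdimV
    omega
  have h2 : ¬ (V' = ⊤ ∧ W' = ⊤) := by
    rintro ⟨ht, ht'⟩
    rw [ht, finrank_top, hV] at hdimV
    rw [ht', finrank_top, hW] at hdimW
    omega
  have h3 := hf.2 V' W' hsub h1 h2
  rw [hV, hW, hdimV] at h3
  have := Nat.le_of_mul_le_mul_left h3 hk
  omega

end Groth.Agent.S19551aux

namespace Groth.Agent.S19551

/-- Case of two arrows. Over an algebraically closed field K, if a Kronecker module f = (f_0, f_1) with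
two arrows between spaces V and W of the same finite dimension k is semistable, then some linear
combination z_0 f_0 + z_1 f_1 of its arrows is a linear isomorphism V → W: for two arrows the
semistable locus of dimension vector (k, k) lies in the open set of modules whose generic
combination is invertible, for every k. (The published statement, over an algebraically closed field
of characteristic zero, also covers the dimension vectors (1, 1) and (2, 2) for any number of
arrows; this row states the two-arrow case for all k, without the characteristic assumption.) -/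
theorem result (K : Type u) [Field K] [IsAlgClosed K]
    (V : Type v) (W : Type w)
    [AddCommGroup V] [Module K V] [FiniteDimensional K V]
    [AddCommGroup W] [Module K W] [FiniteDimensional K W]
    (f : Fin 2 → (V →ₗ[K] W)) (k : ℕ)
    (hV : Module.finrank K V = k) (hW : Module.finrank K W = k)
    (hf : KronMod.IsSemistable f) :
    ∃ z : Fin 2 → K, Function.Bijective ((∑ j, z j • f j : V →ₗ[K] W) : V → W) := by
  exact Groth.Agent.S19551aux.main K V W f k hV hW hf

end Groth.Agent.S19551
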