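import Groth.Statements.S19557
import Mathlib
-- import your own Groth.Agent.* helpers here

set_option autoImplicit false
universe u
open CategoryTheory CategoryTheory.Limits MonoidalCategory CartesianMonoidalCategory MonObj GrpObj AlgebraicGeometry
open NeronHD

namespace Groth.Agent.S19557

open CategoryTheory CategoryTheory.Limits MonoidalCategory CartesianMonoidalCategory MonObj GrpObj AlgebraicGeometry

namespace H5S19557

lemma isMonHom_of_mul {C : Type*} [Category C] [CartesianMonoidalCategory C] {H G : C} [GrpObj H] [GrpObj G]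
    (f : H ⟶ G) (hf : μ[H] ≫ f = (f ⊗ₘ f) ≫ μ[G]) : IsMonHom f := by
  refine ⟨?_, hf⟩
  have h1 : (η[H] ≫ f) * (η[H] ≫ f) = η[H] ≫ f := by
    rw [Hom.mul_def]
    have : lift (η[H] ≫ f) (η[H] ≫ f) = lift η[H] η[H] ≫ (f ⊗ₘ f) := by
      simp
    rw [this, Category.assoc, ← hf, ← Category.assoc]
    congr 1
    have h2 : lift η[H] η[H] ≫ μ[H] = (η[H] : 𝟙_ C ⟶ H) * η[H] := by
      rw [Hom.mul_def]
    rw [h2]
    have h3 : (η[H] : 𝟙_ C ⟶ H) = 1 := by
      rw [Hom.one_def]
      simp
    rw [h3]
    exact _root_.mul_one _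
  have h4 : η[H] ≫ f = 1 := by
    exact mul_left_cancel (a := η[H] ≫ f) (by rw [h1, _root_.mul_one])
  rw [h4, Hom.one_def]
  simp

lemma smooth_tensor {S : Scheme.{u}} (A B : Over S) [Smooth A.hom] [Smooth B.hom] :
    Smooth (A ⊗ B).hom := by
  rw [Over.tensorObj_hom]
  infer_instance

theorem main {S : Scheme.{u}} (S₀ : S.Opens)
    (G H : Over S) [GrpObj G] [GrpObj H] [Smooth G.hom] [Smooth H.hom]
    (hG : ∀ Z : Over S, Smooth Z.hom → Function.Bijective (fun g : Z ⟶ G => (Over.pullback S₀.ι).map g))
    (f : H ⟶ G)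
    (hf : (Over.pullback S₀.ι).map (μ[H] ≫ f) = (Over.pullback S₀.ι).map ((f ⊗ₘ f) ≫ μ[G])) :
    IsMonHom f :=
  isMonHom_of_mul f ((hG (H ⊗ H) (smooth_tensor H H)).1 hf)

end H5S19557

/-- Let S be a locally Noetherian scheme over a field of characteristic 0 and S₀ ⊆ S a
scheme-theoretically dense open. Let G and H be smooth S-group schemes (group objects in the
cartesian monoidal category of S-schemes), G having the Néron mapping property for S₀ ⊆ S (for every
smooth S-scheme Z, restriction to S₀ is a bijection from S-morphisms Z → G onto S₀-morphisms Z|S₀ →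
G|S₀). Let f : H → G be an S-morphism whose restriction to S₀ is multiplicative, in the sense that
the restrictions to S₀ of μ_H ≫ f and of (f ⊗ f) ≫ μ_G : H ×_S H → G agree. Then f is a homomorphism
of group schemes over S. (So the extension to the Néron model of a homomorphism H|S₀ → G|S₀ is a
homomorphism. Case of schemes, with smooth test schemes, of a statement about group algebraic
spaces.) -/
theorem result {k : Type u} [Field k] [CharZero k] {S : Scheme.{u}} (σ : S ⟶ Spec (CommRingCat.of k)) [IsLocallyNoetherian S] (S₀ : S.Opens) (hS₀ : CInt.IsSchematicallyDense S₀)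
    (G H : Over S) [GrpObj G] [GrpObj H] [Smooth G.hom] [Smooth H.hom]
    (hG : ∀ Z : Over S, Smooth Z.hom → Function.Bijective (fun g : Z ⟶ G => (Over.pullback S₀.ι).map g))
    (f : H ⟶ G)
    (hf : (Over.pullback S₀.ι).map (μ[H] ≫ f) = (Over.pullback S₀.ι).map ((f ⊗ₘ f) ≫ μ[G])) :
    IsMonHom f := by
  exact H5S19557.main S₀ G H hG f hf

end Groth.Agent.S19557
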