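import Groth.Statements.S19560
import Mathlib.Tactic

set_option autoImplicit false
universe u
open W4c1limliniiii

namespace Groth.Agent.S19560

open Polynomial in
theorem wronskian_comb {k : Type u} [Field k] (F G : k[X]) (α β γ δ : k) :
    wronskian (C α * F + C β * G) (C γ * F + C δ * G) = C (α * δ - β * γ) * wronskian F G := by
  simp only [wronskian, derivative_add, derivative_mul, derivative_C, zero_mul, zero_add, map_sub, map_mul]
  ring

open Polynomial in
/-- Let k be an algebraically closed field of characteristic p (a prime or zero) and let F, G be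
polynomials spanning a base-point-free pencil V of degree d (a two-dimensional space of polynomials
of degree at most d containing one of degree d and with no common zero in k), so that V encodes a
degree-d self-map F/G of the projective line up to automorphisms of the target. Suppose the
Wronskian W = F′G − FG′ is non-zero and vanishes at the point a to order exactly e − 1 with e ≥ 1,
and that p = 0 or e − 1 < p. Then the map is tamely ramified at a with index e: the largest order of
vanishing at a of a non-zero member of V is e, and p does not divide e. (The hypothesis W ≠ 0 makes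
the order of vanishing meaningful; for W = 0 the map is inseparable.) -/
theorem result
    (k : Type u) [Field k] [IsAlgClosed k] (p : ℕ) [CharP k p]
    (d : ℕ) (F G : k[X]) (hV : W4c1limliniiii.IsPencil d (Submodule.span k {F, G}))
    (hW : Polynomial.wronskian F G ≠ 0) (a : k) (e : ℕ)
    (he : (Polynomial.wronskian F G).rootMultiplicity a + 1 = e) (hp : p = 0 ∨ e - 1 < p) :
    W4c1limliniiii.HasRamIdx (Submodule.span k {F, G}) a e ∧ ¬ p ∣ e := by
  classical
  obtain ⟨hle, hrank, -, hbpf⟩ := hV
  obtain ⟨s₀, hs₀V, hs₀a⟩ := hbpf a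
  rw [Submodule.mem_span_pair] at hs₀V
  obtain ⟨α, β, rfl⟩ := hs₀V
  set f := F.eval a with hf
  set g := G.eval a with hg
  set W := Polynomial.wronskian F G with hWdef
  have hs₀a' : α * f + β * g ≠ 0 := by
    simpa [Polynomial.eval_add, Polynomial.eval_smul, smul_eq_mul] using hs₀a
  -- the member vanishing at a
  set s₁ : k[X] := Polynomial.C g * F + Polynomial.C (-f) * G with hs₁
  have hs₁V : s₁ ∈ Submodule.span k ({F, G} : Set k[X]) := by
    rw [Submodule.mem_span_pair]
    exact ⟨g, -f, by simp [hs₁, Polynomial.smul_eq_C_mul]⟩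
  have hs₁a : s₁.eval a = 0 := by
    simp [hs₁, ← hf, ← hg]; ring
  have hW₁ : Polynomial.wronskian (Polynomial.C α * F + Polynomial.C β * G) s₁ =
      Polynomial.C (-(α * f + β * g)) * W := by
    rw [hs₁, wronskian_comb]
    congr 2
    ring
  set s₀ : k[X] := Polynomial.C α * F + Polynomial.C β * G with hs₀
  have hs₀eq : α • F + β • G = s₀ := by simp [hs₀, Polynomial.smul_eq_C_mul]
  have hc : Polynomial.C (-(α * f + β * g)) ≠ (0 : k[X]) := by
    rw [Ne, Polynomial.C_eq_zero, neg_eq_zero]; exact hs₀a'
  have hW₁0 : Polynomial.wronskian s₀ s₁ ≠ 0 := by rw [hW₁]; exact mul_ne_zero hc hW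
  have hs₁0 : s₁ ≠ 0 := by
    intro h0
    apply hW₁0
    rw [h0, Polynomial.wronskian_zero_right]
  have hmultW : (Polynomial.wronskian s₀ s₁).rootMultiplicity a = W.rootMultiplicity a := by
    rw [hW₁, Polynomial.rootMultiplicity_mul (mul_ne_zero hc hW),
      Polynomial.rootMultiplicity_eq_zero, zero_add]
    rw [Polynomial.IsRoot, Polynomial.eval_C, neg_eq_zero]
    exact hs₀a'
  set m := s₁.rootMultiplicity a with hm
  have hm1 : 1 ≤ m := by
    rw [hm, Nat.one_le_iff_ne_zero, Ne, Polynomial.rootMultiplicity_eq_zero_iff]
    push Not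
    exact ⟨hs₁a, hs₁0⟩
  obtain ⟨u, hu, hudvd⟩ := Polynomial.exists_eq_pow_rootMultiplicity_mul_and_not_dvd s₁ hs₁0 a
  rw [← hm] at hu
  have hua : u.eval a ≠ 0 := by
    intro h
    exact hudvd (Polynomial.dvd_iff_isRoot.mpr h)
  set Q : k[X] := Polynomial.C (m : k) * s₀ * u +
    (Polynomial.X - Polynomial.C a) * (s₀ * Polynomial.derivative u - Polynomial.derivative s₀ * u) with hQ
  have hfact : Polynomial.wronskian s₀ s₁ = (Polynomial.X - Polynomial.C a) ^ (m - 1) * Q := by
    have hpow : (Polynomial.X - Polynomial.C a) ^ m =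
        (Polynomial.X - Polynomial.C a) ^ (m - 1) * (Polynomial.X - Polynomial.C a) := by
      rw [← pow_succ, Nat.sub_add_cancel hm1]
    rw [Polynomial.wronskian, hu, Polynomial.derivative_mul, Polynomial.derivative_X_sub_C_pow, hQ, hpow]
    ring
  have hQa : Q.eval a = (m : k) * s₀.eval a * u.eval a := by
    simp [hQ]
  have hs₀a'' : s₀.eval a ≠ 0 := by rw [← hs₀eq]; exact hs₀a
  -- key: m = e and p ∤ m
  have hkey : m = e ∧ ¬ p ∣ m := by
    by_cases hmk : (m : k) = 0
    · exfalso
      have hpm : p ∣ m := (CharP.cast_eq_zero_iff k p m).mp hmk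
      have hp0 : p ≠ 0 := by
        intro h0
        rw [h0, zero_dvd_iff] at hpm
        omega
      have hlt : e - 1 < p := hp.resolve_left hp0
      have hple : p ≤ m := Nat.le_of_dvd (by omega) hpm
      have hQroot : (Polynomial.X - Polynomial.C a) ∣ Q := by
        rw [Polynomial.dvd_iff_isRoot, Polynomial.IsRoot, hQa, hmk, zero_mul, zero_mul]
      have hdvd : (Polynomial.X - Polynomial.C a) ^ m ∣ Polynomial.wronskian s₀ s₁ := by
        rw [hfact]
        obtain ⟨Q', hQ'⟩ := hQroot
        refine ⟨Q', ?_⟩
        rw [hQ']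
        have hpow : (Polynomial.X - Polynomial.C a) ^ m =
            (Polynomial.X - Polynomial.C a) ^ (m - 1) * (Polynomial.X - Polynomial.C a) := by
          rw [← pow_succ, Nat.sub_add_cancel hm1]
        rw [hpow]
        ring
      have := (Polynomial.le_rootMultiplicity_iff hW₁0).mpr hdvd
      rw [hmultW] at this
      omega
    · have hQnr : ¬ Polynomial.IsRoot Q a := by
        rw [Polynomial.IsRoot, hQa]
        exact mul_ne_zero (mul_ne_zero hmk hs₀a'') hua
      have h1 : (Polynomial.wronskian s₀ s₁).rootMultiplicity a = m - 1 := by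
        rw [hfact, Polynomial.rootMultiplicity_mul (by rw [← hfact]; exact hW₁0),
          Polynomial.rootMultiplicity_X_sub_C_pow, Polynomial.rootMultiplicity_eq_zero hQnr, add_zero]
      rw [hmultW] at h1
      refine ⟨by omega, ?_⟩
      intro hpm
      exact hmk ((CharP.cast_eq_zero_iff k p m).mpr hpm)
  obtain ⟨hme, hpe⟩ := hkey
  refine ⟨⟨⟨s₁, hs₁V, hs₁0, by rw [← hme]⟩, ?_⟩, by rw [← hme]; exact hpe⟩
  intro s hs hs0
  rw [Submodule.mem_span_pair] at hs
  obtain ⟨x, y, rfl⟩ := hs
  by_cases hsa : (x • F + y • G).eval a = 0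
  · -- s is a multiple of s₁
    have hxy : x * f + y * g = 0 := by
      simpa [Polynomial.eval_add, Polynomial.eval_smul, smul_eq_mul] using hsa
    have : ∃ t : k, t ≠ 0 ∧ x • F + y • G = Polynomial.C t * s₁ := by
      by_cases hg0 : g = 0
      · have hf0 : f ≠ 0 := by
          intro hf0
          apply hs₀a'
          rw [hf0, hg0]; ring
        have hx0 : x = 0 := by
          rw [hg0, mul_zero, add_zero] at hxy
          exact (mul_eq_zero.mp hxy).resolve_right hf0
        have hy0 : y ≠ 0 := by
          intro hy0
          apply hs0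
          rw [hx0, hy0, zero_smul, zero_smul, add_zero]
        refine ⟨-y / f, div_ne_zero (neg_ne_zero.mpr hy0) hf0, ?_⟩
        rw [hs₁, hx0, hg0, zero_smul, zero_add, map_zero, zero_mul, zero_add, ← mul_assoc, ← map_mul,
          Polynomial.smul_eq_C_mul]
        congr 2
        field_simp
      · refine ⟨x / g, ?_, ?_⟩
        · intro h0
          have hx0 : x = 0 := by
            rcases div_eq_zero_iff.mp h0 with h | h
            · exact h
            · exact absurd h hg0
          have hy0 : y = 0 := by
            rw [hx0, zero_mul, zero_add] at hxy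
            exact (mul_eq_zero.mp hxy).resolve_right hg0
          apply hs0
          rw [hx0, hy0, zero_smul, zero_smul, add_zero]
        · rw [hs₁, mul_add, ← mul_assoc, ← mul_assoc, ← map_mul, ← map_mul, Polynomial.smul_eq_C_mul,
            Polynomial.smul_eq_C_mul]
          have h1 : x / g * g = x := by field_simp
          have h2 : x / g * -f = y := by
            field_simp
            linear_combination -hxy
          rw [h1, h2]
    obtain ⟨t, ht, hst⟩ := this
    rw [hst, Polynomial.rootMultiplicity_mul (mul_ne_zero (by rwa [Ne, Polynomial.C_eq_zero]) hs₁0),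
      Polynomial.rootMultiplicity_eq_zero, zero_add, ← hm, hme]
    rw [Polynomial.IsRoot, Polynomial.eval_C]
    exact ht
  · rw [Polynomial.rootMultiplicity_eq_zero hsa]
    exact Nat.zero_le _

end Groth.Agent.S19560
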