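import Groth.Statements.S19562
import Mathlib.RingTheory.Spectrum.Prime.FreeLocus
import Mathlib.LinearAlgebra.Dimension.RankNullity
import Mathlib.Tactic

set_option autoImplicit false
universe u
open W4c1limliniiii

namespace Groth.Agent.S19562

theorem finrank_map_add {k : Type u} [Field k] {E : Type u} [AddCommGroup E] [Module k E]
    [Module.Finite k E] (φ : E →ₗ[k] E) (V : Submodule k E) :
    Module.finrank k ↥(V.map φ) + Module.finrank k ↥(LinearMap.ker φ ⊓ V) = Module.finrank k V := by
  have h1 := LinearMap.finrank_range_add_finrank_ker (φ.domRestrict V)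
  rw [LinearMap.range_domRestrict, LinearMap.ker_domRestrict] at h1
  have h2 : Module.finrank k ↥(Submodule.comap V.subtype (LinearMap.ker φ)) =
      Module.finrank k ↥(LinearMap.ker φ ⊓ V) := by
    have e := Submodule.equivMapOfInjective V.subtype V.injective_subtype
      (Submodule.comap V.subtype (LinearMap.ker φ))
    rw [e.finrank_eq, Submodule.map_comap_subtype, inf_comm]
  rw [← h2]
  exact h1

open TensorProduct in
/-- Let k be a field, 0 < r < d, and f_i, g_i (i < n) linear maps forward and backward between
consecutive ones of n + 1 copies of k^d, forming a linked Grassmannian over Spec k whose scalar s is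
zero: every composite f_i ∘ g_i and g_i ∘ f_i vanishes, rank f_i + rank g_i ≥ d, and for consecutive
indices im f_i ∩ ker f_{i+1} = 0 and im g_{i+1} ∩ ker g_i = 0. Let (V_i) be a k-valued point of the
linked Grassmannian of rank-r sub-bundles (subspaces V_i of k ⊗ k^d with quotient of rank d − r,
with f_i(V_i) ⊆ V_{i+1} and g_i(V_{i+1}) ⊆ V_i). Then (V_i) is exact, meaning ker g_i ∩ V_{i+1} ⊆
f_i(V_i) and ker f_i ∩ V_i ⊆ g_i(V_{i+1}) for all i, if and only if dim f_i(V_i) + dim g_i(V_{i+1})
= r for all i. (The published assertion is for points with values in an arbitrary scheme and also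
says that f_i(V_i) and g_i(V_{i+1}) are then sub-bundles; this row is the case of a field, where the
last clause is empty.) -/
theorem result (k : Type u) [Field k]
    (d r n : ℕ) (hr : 0 < r) (hrd : r < d) (f g : Fin n → ((Fin d → k) →ₗ[k] (Fin d → k)))
    (hI : ∀ i, (f i).comp (g i) = 0 ∧ (g i).comp (f i) = 0)
    (hII : ∀ i, d ≤ Module.finrank k (LinearMap.range (f i)) + Module.finrank k (LinearMap.range (g i)))
    (hIII : ∀ i j : Fin n, i.val + 1 = j.val →
      LinearMap.range (f i) ⊓ LinearMap.ker (f j) = ⊥ ∧
        LinearMap.range (g j) ⊓ LinearMap.ker (g i) = ⊥)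
    (V : Fin (n + 1) → Module.Grassmannian k (k ⊗[k] (Fin d → k)) (d - r))
    (hV : V ∈ W4c1limliniiii.LGPoints k d r n f g k) :
    W4c1limliniiii.IsExact k d r n f g k V ↔
      ∀ i : Fin n,
        Module.finrank k ↥(Submodule.map ((f i).baseChange k) (V i.castSucc).toSubmodule) +
          Module.finrank k ↥(Submodule.map ((g i).baseChange k) (V i.succ).toSubmodule) = r := by
  classical
  have hEd : Module.finrank k (k ⊗[k] (Fin d → k)) = d := by
    rw [Module.finrank_baseChange, Module.finrank_fin_fun]
  have hVr : ∀ j, Module.finrank k (V j).toSubmodule = r := by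
    intro j
    have h1 := Submodule.finrank_quotient_add_finrank (V j).toSubmodule
    have h2 : Module.finrank k ((k ⊗[k] (Fin d → k)) ⧸ (V j).toSubmodule) = d - r := by
      have := (V j).rankAtStalk_eq ⊥
      rw [Module.rankAtStalk_eq_finrank_of_free] at this
      exact this
    rw [h2, hEd] at h1
    omega
  have key : ∀ i : Fin n,
      ((LinearMap.ker ((g i).baseChange k) ⊓ (V i.succ).toSubmodule ≤
        Submodule.map ((f i).baseChange k) (V i.castSucc).toSubmodule ∧
      LinearMap.ker ((f i).baseChange k) ⊓ (V i.castSucc).toSubmodule ≤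
        Submodule.map ((g i).baseChange k) (V i.succ).toSubmodule) ↔
      Module.finrank k ↥(Submodule.map ((f i).baseChange k) (V i.castSucc).toSubmodule) +
          Module.finrank k ↥(Submodule.map ((g i).baseChange k) (V i.succ).toSubmodule) = r) := by
    intro i
    set φ := (f i).baseChange k with hφ
    set γ := (g i).baseChange k with hγ
    set U := (V i.castSucc).toSubmodule with hU
    set U' := (V i.succ).toSubmodule with hU'
    have hγφ : γ ∘ₗ φ = 0 := by
      rw [hγ, hφ, ← LinearMap.baseChange_comp, (hI i).2, LinearMap.baseChange_zero]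
    have hφγ : φ ∘ₗ γ = 0 := by
      rw [hγ, hφ, ← LinearMap.baseChange_comp, (hI i).1, LinearMap.baseChange_zero]
    have hle1 : U.map φ ≤ LinearMap.ker γ ⊓ U' := by
      refine le_inf ?_ (hV i).1
      rintro _ ⟨x, _, rfl⟩
      rw [LinearMap.mem_ker, ← LinearMap.comp_apply, hγφ, LinearMap.zero_apply]
    have hle2 : U'.map γ ≤ LinearMap.ker φ ⊓ U := by
      refine le_inf ?_ (hV i).2
      rintro _ ⟨x, _, rfl⟩
      rw [LinearMap.mem_ker, ← LinearMap.comp_apply, hφγ, LinearMap.zero_apply]
    have e1 := finrank_map_add φ U
    have e2 := finrank_map_add γ U'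
    rw [hVr] at e1 e2
    have l1 := Submodule.finrank_mono hle1
    have l2 := Submodule.finrank_mono hle2
    constructor
    · rintro ⟨h1, h2⟩
      have := Submodule.finrank_mono h1
      omega
    · intro hsum
      constructor
      · have : U.map φ = LinearMap.ker γ ⊓ U' :=
          Submodule.eq_of_le_of_finrank_eq hle1 (by omega)
        rw [this]
      · have : U'.map γ = LinearMap.ker φ ⊓ U :=
          Submodule.eq_of_le_of_finrank_eq hle2 (by omega)
        rw [this]
  unfold W4c1limliniiii.IsExact
  exact forall_congr' key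

end Groth.Agent.S19562
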