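import Groth.Statements.S19564
import Groth.Agent.Lib.helper29.QuadLift
import Mathlib

set_option autoImplicit false
universe u
open scoped BigOperators
open FrobAlg

namespace Groth.Agent.S19564

open MvPolynomial Groth.Agent.H29.QuadLam Groth.Agent.H29.QuadLift Groth.Agent.H29

section
variable (p : ℕ) [hp : Fact p.Prime] (k : Type u) [Field k] [CharP k p] [PerfectRing k p]
  (n : ℕ) (hn : 3 ≤ n)

theorem lam_pow_p (f : MvPolynomial (Fin n × Fin 2) k) :
    lam k n (FF k n hn p) (f ^ p) = 0 := by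
  induction f using MvPolynomial.induction_on' with
  | add f g hf hg => rw [add_pow_char, map_add, hf, hg, add_zero]
  | monomial m c =>
    rw [monomial_pow]
    by_cases hm : m = 0
    · rw [hm, smul_zero]
      exact lam_const p k n hn (c ^ p)
    · obtain ⟨v, hv⟩ : ∃ v, m v ≠ 0 := by
        by_contra h
        push_neg at h
        exact hm (Finsupp.ext h)
      have hexp : p • m = Finsupp.single v p + (p • m - Finsupp.single v p) := by
        ext w
        rw [Finsupp.add_apply, Finsupp.tsub_apply, Finsupp.smul_apply, Finsupp.single_apply,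
          smul_eq_mul]
        by_cases hw : v = w
        · subst hw
          rw [if_pos rfl]
          have : p ≤ p * m v := Nat.le_mul_of_pos_right p (Nat.pos_of_ne_zero hv)
          omega
        · rw [if_neg hw]; omega
      have e : monomial (p • m) (c ^ p) =
          X v ^ p * monomial (p • m - Finsupp.single v p) (c ^ p) := by
        rw [X_pow_eq_monomial, monomial_mul, one_mul, ← hexp]
      rw [e]
      exact lam_X_pow_mul k n _ p v _

/-- the ideal `(q)` -/
noncomputable abbrev Iq : Ideal (MvPolynomial (Fin n × Fin 2) k) := Ideal.span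
    {(∑ i : Fin n, X (i, (0 : Fin 2)) * X (i, (1 : Fin 2)) : MvPolynomial (Fin n × Fin 2) k)}

include hn in
theorem result' : ¬ FrobAlg.IsFLiftable p k (MvPolynomial (Fin n × Fin 2) k ⧸ Iq k n) := by
  rintro ⟨B, _, ι, π, Φ, hΦ⟩
  have hB := hΦ.toIsLift
  obtain ⟨Ψ, hΨC, hΨ⟩ := exists_psi p k n (Iq k n) B ι π hB
  have hpp := W2Frob.p_mul_p p k _ B ι π hB
  have hq : map (FrobAlg.res p k) (qq (FrobAlg.W2 p k) n) ∈ Iq k n := by
    rw [map_res_qq]
    exact Ideal.subset_span rfl
  obtain ⟨h, hh⟩ := exists_p_mul p k n _ B ι π hB Ψ hΨ _ hq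
  choose f hf using fun v : Fin n × Fin 2 => W2Frob.exists_delta p k _ B ι π hB Φ hΦ (Ψ (X v))
  obtain ⟨δ, hδ⟩ := exists_delta p k n
  -- Ψ E
  have hE : Ψ (EE p k n) = -∑ i : Fin n, Ψ (X (i, 0)) ^ p * Ψ (X (i, 1)) ^ p := by
    rw [EE, map_sub, map_pow, hh, mul_pow, p_pow_eq_zero p k n _ B ι π hB, zero_mul, zero_sub,
      map_sum]
    simp_rw [map_mul, map_pow]
  have hE2 : (p : B) * Ψ δ = -∑ i : Fin n, Ψ (X (i, 0)) ^ p * Ψ (X (i, 1)) ^ p := by
    rw [← hE, hδ, map_mul, hΨC, map_natCast]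
  -- apply Φ to Ψ qq = p h
  have h1 : Φ (Ψ (qq (FrobAlg.W2 p k) n)) = (p : B) * Φ h := by
    rw [hh, map_mul, map_natCast]
  have h2 : Φ (Ψ (qq (FrobAlg.W2 p k) n)) =
      ∑ i : Fin n, (Ψ (X (i, 0)) ^ p + (p : B) * f (i, 0)) *
        (Ψ (X (i, 1)) ^ p + (p : B) * f (i, 1)) := by
    rw [qq, map_sum, map_sum]
    apply Finset.sum_congr rfl
    intro i _
    rw [map_mul, map_mul, hf, hf]
  have h3 : (p : B) * (Φ h + Ψ δ -
      ∑ i : Fin n, (Ψ (X (i, 0)) ^ p * f (i, 1) + f (i, 0) * Ψ (X (i, 1)) ^ p)) = 0 := by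
    have e : ∀ i : Fin n, (Ψ (X (i, 0)) ^ p + (p : B) * f (i, 0)) *
        (Ψ (X (i, 1)) ^ p + (p : B) * f (i, 1)) =
        Ψ (X (i, 0)) ^ p * Ψ (X (i, 1)) ^ p +
          (p : B) * (Ψ (X (i, 0)) ^ p * f (i, 1) + f (i, 0) * Ψ (X (i, 1)) ^ p) := by
      intro i
      have : (p : B) * f (i, 0) * ((p : B) * f (i, 1)) = 0 := by
        rw [mul_mul_mul_comm, hpp, zero_mul]
      linear_combination this
    rw [h2] at h1
    simp_rw [e] at h1
    rw [Finset.sum_add_distrib, ← Finset.mul_sum] at h1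
    rw [mul_sub, mul_add, hE2, ← h1]
    ring
  have h4 := W2Frob.pi_eq_zero_of_p_mul p k _ B ι π hB _ h3
  rw [map_sub, map_add, hΦ.red, hΨ, map_sum] at h4
  obtain ⟨ht, hht⟩ := Ideal.Quotient.mk_surjective (π h)
  choose ft hft using fun v : Fin n × Fin 2 => Ideal.Quotient.mk_surjective (I := Iq k n) (π (f v))
  have h5 : ∀ i : Fin n, π (Ψ (X (i, 0)) ^ p * f (i, 1) + f (i, 0) * Ψ (X (i, 1)) ^ p) =
      Ideal.Quotient.mk (Iq k n) (X (i, 0) ^ p * ft (i, 1) + X (i, 1) ^ p * ft (i, 0)) := by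
    intro i
    rw [map_add, map_mul, map_mul, map_pow, map_pow, hΨ, hΨ, map_X, map_X, ← hft, ← hft,
      map_add, map_mul, map_mul, map_pow, map_pow]
    ring
  simp_rw [h5] at h4
  rw [← hht, ← map_pow, ← map_add, ← map_sum, ← map_sub] at h4
  have h6 := Ideal.Quotient.eq_zero_iff_mem.mp h4
  rw [Iq, Ideal.mem_span_singleton'] at h6
  obtain ⟨g, hg⟩ := h6
  have h7 : map (FrobAlg.res p k) δ = g * qq k n - ht ^ p +
      ∑ i : Fin n, (X (i, 0) ^ p * ft (i, 1) + X (i, 1) ^ p * ft (i, 0)) := by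
    rw [qq, hg]; ring
  apply key p k n hn δ hδ
  rw [h7, map_add, map_sub, mul_comm, lam_qq_mul k n _ (dsum_FF k n hn p), lam_pow_p, map_sum]
  simp_rw [map_add, lam_X_pow_mul k n _ p]
  simp

end

/-- Let k be a perfect field of characteristic p ≥ 3 and n ≥ 3. Then the ordinary double point k[x_1,
y_1, …, x_n, y_n]/(x_1y_1 + ⋯ + x_ny_n), the affine cone over the split quadric in 2n ≥ 6 variables,
admits no flat lifting over W₂(k) compatible with Frobenius (no flat W₂(k)-algebra reducing to it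
that carries a ring endomorphism which is σ₂-semilinear and reduces to the p-th power map). (The
published statement is for any number N ≥ 5 of variables and allows arbitrary terms of degree ≥ 3 to
be added to a non-degenerate quadratic form; this row is the case of the split form in an even
number of variables with nothing added, the case in which the argument is a pure comparison of
homogeneous components.) -/
theorem result
    (p : ℕ) [Fact p.Prime] (hp : 3 ≤ p) (k : Type u) [Field k] [CharP k p] [PerfectRing k p]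
    (n : ℕ) (hn : 3 ≤ n) :
    ¬ FrobAlg.IsFLiftable p k
      (MvPolynomial (Fin n × Fin 2) k ⧸ Ideal.span
        {(∑ i : Fin n, MvPolynomial.X (i, (0 : Fin 2)) * MvPolynomial.X (i, (1 : Fin 2)) : MvPolynomial (Fin n × Fin 2) k)}) := by
  exact result' p k n hn

end Groth.Agent.S19564
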