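import Groth.Statements.S19567
import Mathlib

set_option autoImplicit false
universe u
open Hensel

namespace Groth.Agent.S19567

section
variable {A : Type u} [CommRing A] (I : Ideal A)

/-- the property "A/I → B/IB is bijective" -/
def Bij (B : Type u) [CommRing B] [Algebra A B] : Prop :=
  Function.Bijective (Ideal.quotientMap (I.map (algebraMap A B)) (algebraMap A B) Ideal.le_comap_map)

variable {B : Type u} [CommRing B] [Algebra A B]

theorem hom_kills (φ : B →ₐ[A] A ⧸ I) {r : B} (hr : r ∈ I.map (algebraMap A B)) : φ r = 0 := by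
  have : I.map (algebraMap A B) ≤ RingHom.ker φ.toRingHom := by
    rw [Ideal.map_le_iff_le_comap]
    intro i hi
    rw [Ideal.mem_comap, RingHom.mem_ker]
    change φ (algebraMap A B i) = 0
    rw [AlgHom.commutes]
    exact Ideal.Quotient.eq_zero_iff_mem.mpr hi
  exact this hr

theorem map_mem {C : Type u} [CommRing C] [Algebra A C] (ψ : B →ₐ[A] C) {r : B}
    (hr : r ∈ I.map (algebraMap A B)) : ψ r ∈ I.map (algebraMap A C) := by
  have : I.map (algebraMap A B) ≤ (I.map (algebraMap A C)).comap ψ.toRingHom := by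
    rw [Ideal.map_le_iff_le_comap]
    intro i hi
    rw [Ideal.mem_comap, Ideal.mem_comap]
    change ψ (algebraMap A B i) ∈ _
    rw [AlgHom.commutes]
    exact Ideal.mem_map_of_mem _ hi
  exact this hr

theorem bij_iff : Bij I B ↔
    (∀ b : B, ∃ a : A, b - algebraMap A B a ∈ I.map (algebraMap A B)) ∧
      Nonempty (B →ₐ[A] A ⧸ I) := by
  constructor
  · intro h
    refine ⟨?_, ?_⟩
    · intro b
      obtain ⟨q, hq⟩ := h.2 (Ideal.Quotient.mk _ b)
      obtain ⟨a, rfl⟩ := Ideal.Quotient.mk_surjective q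
      refine ⟨a, ?_⟩
      rw [Ideal.quotientMap_mk] at hq
      rw [← Ideal.Quotient.eq]
      exact hq.symm
    · let e := RingEquiv.ofBijective _ h
      let φ : B →+* A ⧸ I := e.symm.toRingHom.comp (Ideal.Quotient.mk (I.map (algebraMap A B)))
      refine ⟨{ φ with commutes' := ?_ }⟩
      intro a
      change e.symm (Ideal.Quotient.mk _ (algebraMap A B a)) = Ideal.Quotient.mk I a
      rw [RingEquiv.symm_apply_eq]
      rfl
  · rintro ⟨h1, ⟨φ⟩⟩
    constructor
    · rw [injective_iff_map_eq_zero]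
      intro q hq
      obtain ⟨a, rfl⟩ := Ideal.Quotient.mk_surjective q
      rw [Ideal.quotientMap_mk, Ideal.Quotient.eq_zero_iff_mem] at hq
      have := hom_kills I φ hq
      rw [AlgHom.commutes] at this
      exact this
    · intro q
      obtain ⟨b, rfl⟩ := Ideal.Quotient.mk_surjective q
      obtain ⟨a, ha⟩ := h1 b
      refine ⟨Ideal.Quotient.mk I a, ?_⟩
      rw [Ideal.quotientMap_mk, eq_comm, Ideal.Quotient.eq]
      exact ha

theorem hom_unique (h1 : ∀ b : B, ∃ a : A, b - algebraMap A B a ∈ I.map (algebraMap A B))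
    (φ ψ : B →ₐ[A] A ⧸ I) : φ = ψ := by
  ext b
  obtain ⟨a, ha⟩ := h1 b
  have h2 := hom_kills I φ ha
  have h3 := hom_kills I ψ ha
  rw [map_sub, AlgHom.commutes, sub_eq_zero] at h2 h3
  rw [h2, h3]

end

section part1
variable {A : Type u} [CommRing A] (I : Ideal A)
  {A₁ A₂ : Type u} [CommRing A₁] [Algebra A A₁] [CommRing A₂] [Algebra A A₂]

open TensorProduct

theorem bij_tensor (h₁ : Bij I A₁) (h₂ : Bij I A₂) : Bij I (A₁ ⊗[A] A₂) := by
  rw [bij_iff] at h₁ h₂ ⊢
  obtain ⟨h₁, ⟨φ₁⟩⟩ := h₁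
  obtain ⟨h₂, ⟨φ₂⟩⟩ := h₂
  refine ⟨?_, ⟨Algebra.TensorProduct.lift φ₁ φ₂ (fun _ _ => Commute.all _ _)⟩⟩
  intro b
  induction b using TensorProduct.induction_on with
  | zero => exact ⟨0, by simp⟩
  | tmul x y =>
    obtain ⟨a₁, ha₁⟩ := h₁ x
    obtain ⟨a₂, ha₂⟩ := h₂ y
    refine ⟨a₁ * a₂, ?_⟩
    have e : x ⊗ₜ[A] y - algebraMap A (A₁ ⊗[A] A₂) (a₁ * a₂) =
        (x - algebraMap A A₁ a₁) ⊗ₜ[A] y + (algebraMap A A₁ a₁) ⊗ₜ[A] (y - algebraMap A A₂ a₂) := by
      rw [Algebra.TensorProduct.algebraMap_apply, map_mul, TensorProduct.sub_tmul,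
        TensorProduct.tmul_sub]
      have : (algebraMap A A₁ a₁ * algebraMap A A₁ a₂) ⊗ₜ[A] (1 : A₂) =
          (algebraMap A A₁ a₁) ⊗ₜ[A] (algebraMap A A₂ a₂) := by
        rw [Algebra.algebraMap_eq_smul_one a₂, Algebra.algebraMap_eq_smul_one (A := A₂) a₂,
          mul_smul_comm, mul_one, TensorProduct.smul_tmul]
      rw [this]
      abel
    rw [e]
    refine Ideal.add_mem _ ?_ ?_
    · have h3 : (x - algebraMap A A₁ a₁) ⊗ₜ[A] (1 : A₂) ∈ I.map (algebraMap A (A₁ ⊗[A] A₂)) := by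
        exact map_mem I (Algebra.TensorProduct.includeLeft : A₁ →ₐ[A] A₁ ⊗[A] A₂) ha₁
      have h4 : (x - algebraMap A A₁ a₁) ⊗ₜ[A] y =
          ((x - algebraMap A A₁ a₁) ⊗ₜ[A] (1 : A₂)) * ((1 : A₁) ⊗ₜ[A] y) := by
        rw [Algebra.TensorProduct.tmul_mul_tmul, mul_one, one_mul]
      rw [h4]
      exact Ideal.mul_mem_right _ _ h3
    · have h3 : (1 : A₁) ⊗ₜ[A] (y - algebraMap A A₂ a₂) ∈ I.map (algebraMap A (A₁ ⊗[A] A₂)) := by
        exact map_mem I (Algebra.TensorProduct.includeRight : A₂ →ₐ[A] A₁ ⊗[A] A₂) ha₂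
      have h4 : (algebraMap A A₁ a₁) ⊗ₜ[A] (y - algebraMap A A₂ a₂) =
          ((algebraMap A A₁ a₁) ⊗ₜ[A] (1 : A₂)) * ((1 : A₁) ⊗ₜ[A] (y - algebraMap A A₂ a₂)) := by
        rw [Algebra.TensorProduct.tmul_mul_tmul, mul_one, one_mul]
      rw [h4]
      exact Ideal.mul_mem_left _ _ h3
  | add x y hx hy =>
    obtain ⟨a, ha⟩ := hx
    obtain ⟨a', ha'⟩ := hy
    refine ⟨a + a', ?_⟩
    have : x + y - algebraMap A (A₁ ⊗[A] A₂) (a + a') =
        (x - algebraMap A (A₁ ⊗[A] A₂) a) + (y - algebraMap A (A₁ ⊗[A] A₂) a') := by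
      rw [map_add]; ring
    rw [this]
    exact Ideal.add_mem _ ha ha'

end part1

section part2
variable {A : Type u} [CommRing A] (I : Ideal A)
  {A₁ A₂ : Type u} [CommRing A₁] [Algebra A A₁] [CommRing A₂] [Algebra A A₂]

theorem part2 [Algebra.Etale A A₁] [Algebra.Etale A A₂] (h₁ : Bij I A₁) (h₂ : Bij I A₂)
    (f g : A₁ →ₐ[A] A₂) :
    ∃ (A₃ : Type u) (_ : CommRing A₃) (_ : Algebra A A₃) (_ : Algebra.Etale A A₃),
      Bij I A₃ ∧ ∃ h : A₂ →ₐ[A] A₃, h.comp f = h.comp g := by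
  classical
  obtain ⟨s, hs⟩ := (Algebra.FiniteType.out : (⊤ : Subalgebra A A₁).FG)
  let J : Ideal A₂ := Ideal.span ((fun x => f x - g x) '' (s : Set A₁))
  have hJfg : J.FG := ⟨s.image (fun x => f x - g x), by simp [J]⟩
  have hcomp : (Ideal.Quotient.mkₐ A J).comp f = (Ideal.Quotient.mkₐ A J).comp g := by
    apply AlgHom.ext_of_adjoin_eq_top hs
    intro x hx
    simp only [AlgHom.comp_apply, Ideal.Quotient.mkₐ_eq_mk]
    rw [Ideal.Quotient.eq]
    exact Ideal.subset_span ⟨x, hx, rfl⟩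
  have hkill : ∀ {C : Type u} [CommRing C] [Algebra A C] (v : A₂ →ₐ[A] C),
      v.comp f = v.comp g → ∀ a ∈ J, v a = 0 := by
    intro C _ _ v hv a ha
    have : J ≤ RingHom.ker v.toRingHom := by
      rw [Ideal.span_le]
      rintro _ ⟨x, _, rfl⟩
      rw [SetLike.mem_coe, RingHom.mem_ker]
      change v (f x - g x) = 0
      rw [map_sub, sub_eq_zero]
      exact AlgHom.congr_fun hv x
    exact this ha
  haveI : Algebra.FormallyUnramified A (A₂ ⧸ J) :=
    Algebra.FormallyUnramified.of_surjective (Ideal.Quotient.mkₐ A J)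
      (Ideal.Quotient.mkₐ_surjective A J)
  haveI : Algebra.FormallySmooth A (A₂ ⧸ J) := by
    apply Algebra.FormallySmooth.of_comp_surjective
    intro C _ _ N hN ubar
    obtain ⟨v, hv⟩ := Algebra.FormallySmooth.comp_surjective A A₂ N hN
      (ubar.comp (Ideal.Quotient.mkₐ A J))
    have hvfg : v.comp f = v.comp g := by
      apply Algebra.FormallyUnramified.comp_injective N hN
      rw [← AlgHom.comp_assoc, ← AlgHom.comp_assoc, hv, AlgHom.comp_assoc, AlgHom.comp_assoc,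
        hcomp]
    refine ⟨Ideal.Quotient.liftₐ J v (hkill v hvfg), ?_⟩
    apply Ideal.Quotient.algHom_ext
    rw [← hv]
    ext x
    simp
  haveI : Algebra.FormallyEtale A (A₂ ⧸ J) :=
    Algebra.FormallyEtale.of_formallyUnramified_and_formallySmooth
  haveI : Algebra.FinitePresentation A (A₂ ⧸ J) := Algebra.FinitePresentation.quotient hJfg
  refine ⟨A₂ ⧸ J, inferInstance, inferInstance, {}, ?_, Ideal.Quotient.mkₐ A J, hcomp⟩
  rw [bij_iff] at h₁ h₂ ⊢
  obtain ⟨h₁, ⟨φ₁⟩⟩ := h₁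
  obtain ⟨h₂, ⟨φ₂⟩⟩ := h₂
  refine ⟨?_, ⟨Ideal.Quotient.liftₐ J φ₂ (hkill φ₂ (hom_unique I h₁ _ _))⟩⟩
  intro b
  obtain ⟨b₂, rfl⟩ := Ideal.Quotient.mk_surjective b
  obtain ⟨a, ha⟩ := h₂ b₂
  refine ⟨a, ?_⟩
  have := map_mem I (Ideal.Quotient.mkₐ A J) ha
  simpa using this

end part2

/-- Let A be a ring and I an ideal of A, and consider étale A-algebras A' for which the induced map A/I
→ A'/IA' is bijective. (1) For any two such algebras A₁ and A₂ there is a third such algebra A₃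
admitting A-algebra maps from both. (2) For any two A-algebra maps f, g : A₁ → A₂ between such
algebras there are such an algebra A₃ and an A-algebra map h : A₂ → A₃ with h ∘ f = h ∘ g. (All
algebras are taken in the universe of A. Since A itself is such an algebra, (1) and (2) say that the
category of these algebras and A-algebra maps is filtered.) -/
theorem result (A : Type u) [CommRing A] (I : Ideal A) :
    (∀ (A₁ A₂ : Type u) [CommRing A₁] [Algebra A A₁] [Algebra.Etale A A₁] [CommRing A₂] [Algebra A A₂]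
        [Algebra.Etale A A₂],
        Function.Bijective (Ideal.quotientMap (I.map (algebraMap A A₁)) (algebraMap A A₁) Ideal.le_comap_map) →
        Function.Bijective (Ideal.quotientMap (I.map (algebraMap A A₂)) (algebraMap A A₂) Ideal.le_comap_map) →
          ∃ (A₃ : Type u) (_ : CommRing A₃) (_ : Algebra A A₃) (_ : Algebra.Etale A A₃),
            Function.Bijective (Ideal.quotientMap (I.map (algebraMap A A₃)) (algebraMap A A₃) Ideal.le_comap_map) ∧
              Nonempty (A₁ →ₐ[A] A₃) ∧ Nonempty (A₂ →ₐ[A] A₃)) ∧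
    (∀ (A₁ A₂ : Type u) [CommRing A₁] [Algebra A A₁] [Algebra.Etale A A₁] [CommRing A₂] [Algebra A A₂]
        [Algebra.Etale A A₂],
        Function.Bijective (Ideal.quotientMap (I.map (algebraMap A A₁)) (algebraMap A A₁) Ideal.le_comap_map) →
        Function.Bijective (Ideal.quotientMap (I.map (algebraMap A A₂)) (algebraMap A A₂) Ideal.le_comap_map) →
          ∀ (f g : A₁ →ₐ[A] A₂),
            ∃ (A₃ : Type u) (_ : CommRing A₃) (_ : Algebra A A₃) (_ : Algebra.Etale A A₃),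
              Function.Bijective (Ideal.quotientMap (I.map (algebraMap A A₃)) (algebraMap A A₃) Ideal.le_comap_map) ∧
                ∃ h : A₂ →ₐ[A] A₃, h.comp f = h.comp g) := by
  refine ⟨?_, ?_⟩
  · intro A₁ A₂ _ _ _ _ _ _ h₁ h₂
    refine ⟨TensorProduct A A₁ A₂, inferInstance, inferInstance,
      Algebra.Etale.comp A A₁ (TensorProduct A A₁ A₂), bij_tensor I h₁ h₂,
      ⟨Algebra.TensorProduct.includeLeft⟩, ⟨Algebra.TensorProduct.includeRight⟩⟩
  · intro A₁ A₂ _ _ _ _ _ _ h₁ h₂ f g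
    exact part2 I h₁ h₂ f g

end Groth.Agent.S19567
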