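import Groth.Statements.S1957
import Groth.Agent.Lib.helper3.EtaleLift
-- import your own Groth.Agent.* helpers here

set_option autoImplicit false
universe u
open Polynomial
open EtAlg

namespace Groth.Agent.S1957

/-- Let A be a ring, I an ideal and f a monic polynomial over A. Suppose the image of f in (A/I)[x]
factors as g h where the leading coefficient of g is a unit and g, h generate the unit ideal. Then
there is an etale A-algebra A' such that A/I -> A'/IA' is bijective, together with a factorization f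
= g' h' in A'[x] whose reduction modulo IA' is the image of the given one. -/
theorem result (A : Type u) [CommRing A] (I : Ideal A) (f : A[X]) (hf : f.Monic)
    (g h : (A ⧸ I)[X]) (hgh : f.map (Ideal.Quotient.mk I) = g * h) (hlead : IsUnit g.leadingCoeff)
    (hcop : IsCoprime g h) :
    ∃ (A' : Type u) (_ : CommRing A') (_ : Algebra A A') (_ : Algebra.Etale A A'),
      Function.Bijective (Ideal.quotientMap (I.map (algebraMap A A')) (algebraMap A A') Ideal.le_comap_map) ∧
      ∃ g' h' : A'[X], f.map (algebraMap A A') = g' * h' ∧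
        g'.map (Ideal.Quotient.mk (I.map (algebraMap A A'))) =
          g.map (Ideal.quotientMap (I.map (algebraMap A A')) (algebraMap A A') Ideal.le_comap_map) ∧
        h'.map (Ideal.Quotient.mk (I.map (algebraMap A A'))) =
          h.map (Ideal.quotientMap (I.map (algebraMap A A')) (algebraMap A A') Ideal.le_comap_map) := by
  obtain ⟨u, hu⟩ := hlead
  -- `u * lc h = 1`
  have hlc : (u : A ⧸ I) * h.leadingCoeff = 1 := by
    rcases subsingleton_or_nontrivial (A ⧸ I) with hS | hS
    · exact Subsingleton.elim _ _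
    · have hfm : (f.map (Ideal.Quotient.mk I)).Monic := hf.map _
      have hh0 : h ≠ 0 := by
        rintro rfl
        rw [mul_zero] at hgh
        exact hfm.ne_zero hgh
      have hne : g.leadingCoeff * h.leadingCoeff ≠ 0 := by
        rw [← hu]
        intro h0
        have := congrArg (fun x ↦ (↑u⁻¹ : A ⧸ I) * x) h0
        simp only [← mul_assoc, Units.inv_mul, one_mul, mul_zero] at this
        exact hh0 (leadingCoeff_eq_zero.mp this)
      have := Polynomial.leadingCoeff_mul' hne
      rw [← hgh, hfm.leadingCoeff, ← hu] at this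
      exact this.symm
  have hg₁ : (C (↑u⁻¹ : A ⧸ I) * g).Monic :=
    monic_C_mul_of_mul_leadingCoeff_eq_one (by rw [← hu]; exact Units.inv_mul u)
  have hh₁ : (C (u : A ⧸ I) * h).Monic := monic_C_mul_of_mul_leadingCoeff_eq_one hlc
  have hCu : IsUnit (C (u : A ⧸ I)) := Polynomial.isUnit_C.mpr u.isUnit
  have hCu' : IsUnit (C (↑u⁻¹ : A ⧸ I)) := Polynomial.isUnit_C.mpr u⁻¹.isUnit
  have hcop₁ : IsCoprime (C (↑u⁻¹ : A ⧸ I) * g) (C (u : A ⧸ I) * h) :=
    (isCoprime_mul_unit_left_left hCu' _ _).mpr ((isCoprime_mul_unit_left_right hCu _ _).mpr hcop)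
  have hCC : C (↑u⁻¹ : A ⧸ I) * C (u : A ⧸ I) = 1 := by
    rw [← C_mul, Units.inv_mul, C_1]
  have hfac₁ : f.map (Ideal.Quotient.mk I) = (C (↑u⁻¹ : A ⧸ I) * g) * (C (u : A ⧸ I) * h) := by
    rw [hgh]
    calc g * h = (C (↑u⁻¹ : A ⧸ I) * C (u : A ⧸ I)) * (g * h) := by rw [hCC, one_mul]
      _ = _ := by ring
  obtain ⟨a, ha⟩ := Ideal.Quotient.mk_surjective (u : A ⧸ I)
  obtain ⟨A', _, _, hE, φ', g', h', hker, hunit, hg', hh', -, hfac, h1, h2⟩ :=
    Groth.Agent.Lib.helper3.EtaleLift.exists_etale_lift_coprime_factorization I f hf _ _ hg₁ hh₁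
      hcop₁ hfac₁ a (by rw [ha]; exact u.isUnit)
  obtain ⟨hbij, hmk⟩ := Groth.Agent.Lib.helper3.EtaleLift.bijective_of_ker_eq I A' φ' hker
  have key : ∀ q : A'[X], q.map (Ideal.Quotient.mk (I.map (algebraMap A A'))) =
      (q.map φ'.toRingHom).map (algebraMap (A ⧸ I) (A' ⧸ I.map (algebraMap A A'))) := by
    intro q
    rw [Polynomial.map_map]
    congr 1
    ext x
    exact (hmk x).symm
  obtain ⟨w, hw⟩ := hunit
  have hφa : φ' (algebraMap A A' a) = u := by rw [AlgHom.commutes]; exact ha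
  have hφw : φ' (↑w⁻¹ : A') * (u : A ⧸ I) = 1 := by
    rw [← hφa, ← hw, ← map_mul, Units.inv_mul, map_one]
  have hφw' : φ' (↑w⁻¹ : A') = (↑u⁻¹ : A ⧸ I) := by
    calc φ' (↑w⁻¹ : A') = φ' (↑w⁻¹ : A') * ((u : A ⧸ I) * (↑u⁻¹ : A ⧸ I)) := by
          rw [Units.mul_inv, mul_one]
      _ = _ := by rw [← mul_assoc, hφw, one_mul]
  refine ⟨A', inferInstance, inferInstance, hE, hbij, C (w : A') * g', C (↑w⁻¹ : A') * h', ?_, ?_, ?_⟩
  · rw [hfac]
    have : C (w : A') * C (↑w⁻¹ : A') = 1 := by rw [← C_mul, Units.mul_inv, C_1]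
    calc g' * h' = (C (w : A') * C (↑w⁻¹ : A')) * (g' * h') := by rw [this, one_mul]
      _ = _ := by ring
  · change _ = g.map (algebraMap (A ⧸ I) (A' ⧸ I.map (algebraMap A A')))
    rw [key]
    congr 1
    rw [Polynomial.map_mul, h1, Polynomial.map_C, hw]
    change C (φ' (algebraMap A A' a)) * _ = _
    rw [hφa, ← mul_assoc, ← C_mul, Units.mul_inv, C_1, one_mul]
  · change _ = h.map (algebraMap (A ⧸ I) (A' ⧸ I.map (algebraMap A A')))
    rw [key]
    congr 1
    rw [Polynomial.map_mul, h2, Polynomial.map_C]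
    change C (φ' (↑w⁻¹ : A')) * _ = _
    rw [hφw', ← mul_assoc, hCC, one_mul]

end Groth.Agent.S1957
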