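import Groth.Statements.S19571
import Mathlib

set_option autoImplicit false
universe u
open CategoryTheory AlgebraicGeometry
open EtaPt

namespace Groth.Agent.S19571

/-- Let f : Y → X be a morphism of schemes which is flat, surjective and locally of finite presentation.
Then every affine open U of X is covered by affine opens V each of which is the image f(W) of some
affine open W of Y; stated pointwise: for every x ∈ U there are an affine open V of X with x ∈ V ≤ U
and an affine open W of Y with f(W) = V as sets. (For such V and W the induced ring map Γ(V) → Γ(W)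
is then faithfully flat.) -/
theorem result
    {X Y : Scheme.{u}} (f : Y ⟶ X) [Flat f] [Surjective f] [LocallyOfFinitePresentation f]
    (U : X.affineOpens) (x : X) (hx : x ∈ (U : X.Opens)) :
    ∃ V : X.affineOpens, x ∈ (V : X.Opens) ∧ (V : X.Opens) ≤ (U : X.Opens) ∧
      ∃ W : Y.affineOpens, f.base '' ((W : Y.Opens) : Set Y) = ((V : X.Opens) : Set X) := by
  obtain ⟨y, rfl⟩ := f.surjective x
  obtain ⟨W₀, hW₀, hyW₀, hW₀U⟩ :=
    exists_isAffineOpen_mem_and_subset (x := y) (U := f ⁻¹ᵁ (U : X.Opens)) hx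
  -- the image of W₀ is open
  let O : X.Opens := ⟨f.base '' (W₀ : Set Y), f.isOpenMap _ W₀.2⟩
  have hyO : f.base y ∈ O := ⟨y, hyW₀, rfl⟩
  obtain ⟨g, hgO, hyg⟩ := U.2.exists_basicOpen_le (V := O) ⟨f.base y, hyO⟩ hx
  refine ⟨⟨X.basicOpen g, U.2.basicOpen g⟩, hyg, X.basicOpen_le g, ?_⟩
  refine ⟨⟨Y.basicOpen (f.appLE U W₀ hW₀U g), hW₀.basicOpen _⟩, ?_⟩
  show f.base '' ((Y.basicOpen (f.appLE U W₀ hW₀U g) : Y.Opens) : Set Y) =
    ((X.basicOpen g : X.Opens) : Set X)
  rw [Scheme.basicOpen_appLE]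
  ext z
  constructor
  · rintro ⟨w, ⟨-, hw⟩, rfl⟩
    exact hw
  · intro hz
    obtain ⟨w, hw, rfl⟩ := hgO hz
    exact ⟨w, ⟨hw, hz⟩, rfl⟩

end Groth.Agent.S19571
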