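import Groth.Statements.S19573
import Mathlib

set_option autoImplicit false
universe u
open LocInt

namespace Groth.Agent.S19573aux

variable (R : Type u) [CommRing R] (n : ℕ) (a : Fin n → R)

/-- the cokernel -/
abbrev F := (Fin n → R) ⧸ Submodule.span R {a}

/-- the images of the standard basis vectors -/
noncomputable def ebar : Fin n → F R n a := fun k => Submodule.Quotient.mk (Pi.single k 1)

/-- the generator of the top exterior power -/
noncomputable def omega : ⋀[R]^n (F R n a) := exteriorPower.ιMulti R n (ebar R n a)

lemma span_ebar : Submodule.span R (Set.range (ebar R n a)) = ⊤ := by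
  rw [eq_top_iff]
  rintro x -
  obtain ⟨v, rfl⟩ := Submodule.Quotient.mk_surjective _ x
  have hv : v = ∑ k, v k • (Pi.single k 1 : Fin n → R) := by
    ext j
    simp [Finset.sum_apply, Pi.single_apply]
  rw [hv, ← Submodule.mkQ_apply, map_sum]
  refine Submodule.sum_mem _ (fun k _ => ?_)
  rw [map_smul]
  exact Submodule.smul_mem _ _ (Submodule.subset_span ⟨k, rfl⟩)

/-- the top exterior power is generated by `omega` -/
lemma gen (y : ⋀[R]^n (F R n a)) : ∃ c : R, y = c • omega R n a := by
  have hy : y ∈ Submodule.span R (exteriorPower.ιMulti R n '' {v | Set.range v ⊆ Set.range (ebar R n a)}) := by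
    rw [exteriorPower.ιMulti_span_of_span R n (F R n a) (span_ebar R n a)]
    trivial
  induction hy using Submodule.span_induction with
  | mem x hx =>
    obtain ⟨v, hv, rfl⟩ := hx
    -- `v` factors through `ebar`
    have : ∃ σ : Fin n → Fin n, v = ebar R n a ∘ σ := by
      have h : ∀ k, ∃ j, ebar R n a j = v k := fun k => hv ⟨k, rfl⟩
      choose σ hσ using h
      exact ⟨σ, funext fun k => (hσ k).symm⟩
    obtain ⟨σ, rfl⟩ := this
    by_cases hinj : Function.Injective σ
    · let τ : Equiv.Perm (Fin n) := Equiv.ofBijective σ (Finite.injective_iff_bijective.mp hinj)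
      refine ⟨(Equiv.Perm.sign τ : ℤ), ?_⟩
      have := AlternatingMap.map_perm (exteriorPower.ιMulti R n (M := F R n a)) (ebar R n a) τ
      rw [omega]
      have h2 : (ebar R n a ∘ σ) = ebar R n a ∘ ⇑τ := rfl
      rw [h2, this, Units.smul_def]
      exact (Int.cast_smul_eq_zsmul R _ _).symm
    · refine ⟨0, ?_⟩
      rw [zero_smul]
      have : ¬ Function.Injective (ebar R n a ∘ σ) := fun h => hinj (Function.Injective.of_comp h)
      exact AlternatingMap.map_eq_zero_of_not_injective _ _ this
  | zero => exact ⟨0, by rw [zero_smul]⟩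
  | add x y _ _ hx hy =>
    obtain ⟨c, rfl⟩ := hx
    obtain ⟨d, rfl⟩ := hy
    exact ⟨c + d, by rw [add_smul]⟩
  | smul r x _ hx =>
    obtain ⟨c, rfl⟩ := hx
    exact ⟨r * c, by rw [mul_smul]⟩


lemma mk_a_eq_zero : (Submodule.Quotient.mk a : F R n a) = 0 :=
  (Submodule.Quotient.mk_eq_zero _).mpr (Submodule.mem_span_singleton_self a)

lemma mk_eq_sum (v : Fin n → R) : (Submodule.Quotient.mk v : F R n a) = ∑ j, v j • ebar R n a j := by
  have hv : v = ∑ k, v k • (Pi.single k 1 : Fin n → R) := by
    ext j
    simp [Finset.sum_apply, Pi.single_apply]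
  conv_lhs => rw [hv]
  rw [← Submodule.mkQ_apply, map_sum]
  apply Finset.sum_congr rfl
  intro k _
  rw [map_smul]
  rfl

lemma mk_a_eq_sum : (Submodule.Quotient.mk a : F R n a) = ∑ j, a j • ebar R n a j :=
  mk_eq_sum R n a a

/-- the coordinates of `a` kill `omega` -/
lemma kill (i : Fin n) : a i • omega R n a = 0 := by
  classical
  have h0 : exteriorPower.ιMulti R n (Function.update (ebar R n a) i (Submodule.Quotient.mk a)) = 0 := by
    rw [mk_a_eq_zero]
    exact AlternatingMap.map_update_zero _ _ _
  rw [mk_a_eq_sum, AlternatingMap.map_update_sum] at h0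
  rw [Finset.sum_eq_single i] at h0
  · rw [AlternatingMap.map_update_smul, Function.update_eq_self] at h0
    exact h0
  · intro j _ hji
    rw [AlternatingMap.map_update_smul]
    have : exteriorPower.ιMulti R n (Function.update (ebar R n a) i (ebar R n a j)) = 0 :=
      AlternatingMap.map_update_self _ _ (Ne.symm hji)
    rw [this, smul_zero]
  · intro h
    exact absurd (Finset.mem_univ i) h

/-- the determinant functional -/
lemma exists_Lambda : ∃ Λ : ⋀[R]^n (F R n a) →ₗ[R] (R ⧸ Ideal.span (Set.range a)),
    Λ (omega R n a) = 1 := by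
  classical
  -- the reduction map `F → (R/I)^n`
  let q₀ : (Fin n → R) →ₗ[R] (Fin n → R ⧸ Ideal.span (Set.range a)) :=
    LinearMap.pi fun j => (Submodule.mkQ (Ideal.span (Set.range a))) ∘ₗ LinearMap.proj j
  have hq₀ : Submodule.span R {a} ≤ LinearMap.ker q₀ := by
    rw [Submodule.span_le, Set.singleton_subset_iff]
    change q₀ a = 0
    ext j
    change Submodule.Quotient.mk (a j) = (0 : R ⧸ Ideal.span (Set.range a))
    exact (Submodule.Quotient.mk_eq_zero _).mpr (Ideal.subset_span ⟨j, rfl⟩)
  let q : F R n a →ₗ[R] (Fin n → R ⧸ Ideal.span (Set.range a)) := Submodule.liftQ _ q₀ hq₀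
  let D₀ : MultilinearMap R (fun _ : Fin n => F R n a) (R ⧸ Ideal.span (Set.range a)) :=
    ((Matrix.detRowAlternating (n := Fin n)
      (R := R ⧸ Ideal.span (Set.range a))).toMultilinearMap.restrictScalars R).compLinearMap
        (fun _ => q)
  let D : F R n a [⋀^Fin n]→ₗ[R] (R ⧸ Ideal.span (Set.range a)) :=
    { D₀ with
      map_eq_zero_of_eq' := fun v i j h hij => by
        change Matrix.detRowAlternating (fun k => q (v k)) = 0
        exact AlternatingMap.map_eq_zero_of_eq _ _ (by simp only [h]) hij }
  refine ⟨exteriorPower.alternatingMapLinearEquiv D, ?_⟩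
  rw [omega, exteriorPower.alternatingMapLinearEquiv_apply_ιMulti]
  change Matrix.det (fun k => q (ebar R n a k)) = 1
  have : (fun k => q (ebar R n a k)) = (1 : Matrix (Fin n) (Fin n) (R ⧸ Ideal.span (Set.range a))) := by
    ext k j
    change Submodule.Quotient.mk ((Pi.single k (1 : R) : Fin n → R) j) = _
    rw [Matrix.one_apply, Pi.single_apply]
    by_cases h : j = k
    · subst h; simp
    · rw [if_neg h, if_neg (Ne.symm h)]; rfl
  rw [this, Matrix.det_one]


theorem part1 : (⋀[R]^n (F R n a)).annihilator = Ideal.span (Set.range a) := by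
  ext r
  rw [Submodule.mem_annihilator]
  constructor
  · intro h
    obtain ⟨Λ, hΛ⟩ := exists_Lambda R n a
    have h1 : r • omega R n a = 0 := by
      apply Subtype.ext
      exact h _ (omega R n a).2
    have h2 := congrArg Λ h1
    rw [map_smul, hΛ, map_zero] at h2
    rw [← Ideal.Quotient.eq_zero_iff_mem]
    simpa [Algebra.smul_def] using h2
  · intro hr y hy
    obtain ⟨c, hc⟩ := gen R n a ⟨y, hy⟩
    have hkill : r • omega R n a = 0 := by
      induction hr using Submodule.span_induction with
      | mem x hx => obtain ⟨i, rfl⟩ := hx; exact kill R n a i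
      | zero => rw [zero_smul]
      | add x y _ _ hx hy => rw [add_smul, hx, hy, add_zero]
      | smul s x _ hx => rw [smul_eq_mul, mul_smul, hx, smul_zero]
    have : r • (⟨y, hy⟩ : ⋀[R]^n (F R n a)) = 0 := by rw [hc, smul_comm, hkill, smul_zero]
    exact congrArg Subtype.val this


section part2
variable (p : PrimeSpectrum R) (i : Fin n)

/-- the comparison map `R^n → R_p^{n-1}` -/
noncomputable def f₀ (u : Localization.AtPrime p.asIdeal) :
    (Fin n → R) →ₗ[R] ({j : Fin n // j ≠ i} → Localization.AtPrime p.asIdeal) where
  toFun x j := algebraMap R _ (x j) - algebraMap R _ (a j) * u * algebraMap R _ (x i)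
  map_add' x y := by
    ext j
    simp only [Pi.add_apply, map_add]
    ring
  map_smul' c x := by
    ext j
    simp only [Pi.smul_apply, smul_eq_mul, map_mul, RingHom.id_apply, Algebra.smul_def]
    ring

lemma f₀_a (u : Localization.AtPrime p.asIdeal)
    (hu : algebraMap R (Localization.AtPrime p.asIdeal) (a i) * u = 1) : f₀ R n a p i u a = 0 := by
  ext j
  change algebraMap R _ (a j) - algebraMap R _ (a j) * u * algebraMap R _ (a i) = 0
  rw [mul_assoc, mul_comm u, hu, mul_one, sub_self]

/-- the comparison map on the cokernel -/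
noncomputable def f (u : Localization.AtPrime p.asIdeal)
    (hu : algebraMap R (Localization.AtPrime p.asIdeal) (a i) * u = 1) :
    F R n a →ₗ[R] ({j : Fin n // j ≠ i} → Localization.AtPrime p.asIdeal) :=
  Submodule.liftQ _ (f₀ R n a p i u) (by
    rw [Submodule.span_le, Set.singleton_subset_iff]
    exact f₀_a R n a p i u hu)

lemma isLocalizedModule_f (hi : a i ∉ p.asIdeal) (u : Localization.AtPrime p.asIdeal)
    (hu : algebraMap R (Localization.AtPrime p.asIdeal) (a i) * u = 1) :
    IsLocalizedModule p.asIdeal.primeCompl (f R n a p i u hu) := by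
  classical
  refine ⟨?_, ?_, ?_⟩
  · intro s
    rw [Module.End.isUnit_iff]
    have hs : IsUnit (algebraMap R (Localization.AtPrime p.asIdeal) s) :=
      IsLocalization.map_units _ s
    obtain ⟨w, hw⟩ := hs.exists_right_inv
    constructor
    · intro y y' h
      ext j
      have := congrFun h j
      simp only [Module.algebraMap_end_apply, Pi.smul_apply, Algebra.smul_def] at this
      exact hs.mul_left_cancel this
    · intro y
      refine ⟨w • y, ?_⟩
      ext j
      change (s : R) • (w * y j) = y j
      rw [Algebra.smul_def, ← mul_assoc, hw, one_mul]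
  · intro y
    obtain ⟨b, hb⟩ := IsLocalization.exist_integer_multiples_of_finite p.asIdeal.primeCompl y
    choose r hr using hb
    let x : Fin n → R := fun j => if h : j ≠ i then r ⟨j, h⟩ else 0
    refine ⟨⟨Submodule.Quotient.mk x, b⟩, ?_⟩
    ext j
    change (b : R) • y j = algebraMap R _ (x j) - algebraMap R _ (a j) * u * algebraMap R _ (x i)
    have hxi : x i = 0 := by simp [x]
    have hxj : x j = r j := by simp [x, j.2]
    rw [hxi, hxj, map_zero, mul_zero, sub_zero, hr j]
  · intro x₁ x₂ h
    obtain ⟨v₁, rfl⟩ := Submodule.Quotient.mk_surjective _ x₁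
    obtain ⟨v₂, rfl⟩ := Submodule.Quotient.mk_surjective _ x₂
    set d := v₁ - v₂ with hd
    have hfd : ∀ j : {j : Fin n // j ≠ i}, algebraMap R (Localization.AtPrime p.asIdeal) (d j) =
        algebraMap R _ (a j) * u * algebraMap R _ (d i) := by
      intro j
      have := congrFun h j
      change algebraMap R _ (v₁ j) - algebraMap R _ (a j) * u * algebraMap R _ (v₁ i) =
        algebraMap R _ (v₂ j) - algebraMap R _ (a j) * u * algebraMap R _ (v₂ i) at this
      simp only [hd, Pi.sub_apply, map_sub]
      linear_combination this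
    have hzero : ∀ j : {j : Fin n // j ≠ i}, ∃ s : p.asIdeal.primeCompl,
        (s : R) * (a i * d j - a j * d i) = 0 := by
      intro j
      have : algebraMap R (Localization.AtPrime p.asIdeal) (a i * d j - a j * d i) = 0 := by
        rw [map_sub, map_mul, map_mul, hfd j]
        linear_combination (algebraMap R _ (a j) * algebraMap R _ (d i)) * hu
      exact (IsLocalization.map_eq_zero_iff p.asIdeal.primeCompl _ _).mp this
    choose s hs using hzero
    let t : R := ∏ j, (s j : R)
    have ht : t ∈ p.asIdeal.primeCompl := Submonoid.prod_mem _ (fun j _ => (s j).2)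
    have htz : ∀ j : {j : Fin n // j ≠ i}, t * (a i * d j - a j * d i) = 0 := by
      intro j
      have : t = (s j : R) * ∏ k ∈ Finset.univ.erase j, (s k : R) :=
        (Finset.mul_prod_erase Finset.univ (fun k => (s k : R)) (Finset.mem_univ j)).symm
      rw [this, mul_right_comm, hs j, zero_mul]
    refine ⟨⟨t * a i, Submonoid.mul_mem _ ht hi⟩, ?_⟩
    change (t * a i) • (Submodule.Quotient.mk v₁ : F R n a) = (t * a i) • Submodule.Quotient.mk v₂
    rw [← Submodule.Quotient.mk_smul, ← Submodule.Quotient.mk_smul, Submodule.Quotient.eq,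
      ← smul_sub, ← hd, Submodule.mem_span_singleton]
    refine ⟨t * d i, ?_⟩
    ext j
    simp only [Pi.smul_apply, smul_eq_mul]
    by_cases hj : j = i
    · subst hj; ring
    · have := htz ⟨j, hj⟩
      simp only at this
      linear_combination -this

end part2


theorem part2 (p : PrimeSpectrum R) (hp : ¬ Ideal.span (Set.range a) ≤ p.asIdeal) :
    p ∈ Module.freeLocus R (F R n a) ∧ Module.rankAtStalk (F R n a) p = n - 1 := by
  classical
  obtain ⟨i, hi⟩ : ∃ i, a i ∉ p.asIdeal := by
    by_contra hcon
    push Not at hcon
    apply hp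
    rw [Ideal.span_le]
    rintro _ ⟨i, rfl⟩
    exact hcon i
  obtain ⟨u, hu⟩ := (IsLocalization.map_units (Localization.AtPrime p.asIdeal)
    (⟨a i, hi⟩ : p.asIdeal.primeCompl)).exists_right_inv
  have hloc := isLocalizedModule_f R n a p i hi u hu
  constructor
  · rw [Module.mem_freeLocus_of_isLocalization p (Localization.AtPrime p.asIdeal) _
      (f R n a p i u hu)]
    infer_instance
  · rw [Module.rankAtStalk]
    let e := (IsLocalizedModule.linearEquiv p.asIdeal.primeCompl
      (LocalizedModule.mkLinearMap p.asIdeal.primeCompl (F R n a))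
      (f R n a p i u hu)).extendScalarsOfIsLocalization p.asIdeal.primeCompl
        (Localization.AtPrime p.asIdeal)
    rw [e.finrank_eq, Module.finrank_pi]
    simp [Fintype.card_subtype_compl]

end Groth.Agent.S19573aux

namespace Groth.Agent.S19573

/-- The first sentence of the lemma together with the description of the closed subscheme Z given in its
proof, in the local model. Let R be a commutative ring, n ≥ 1, a ∈ R^n, and F = R^n / R·a the
cokernel of R → R^n, 1 ↦ a (the zeroth homology of the two-term complex R → R^n). Then the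
annihilator ideal of the top exterior power ⋀^n F is the ideal generated by the coordinates a_1, …,
a_n of a, and at every prime p of R off the closed set V(a_1, …, a_n) the module F is free of rank n
− 1 after localization at p. (The published statement is for a complex on a scheme which is locally
quasi-isomorphic to such a two-term complex L → E with L invertible and E locally free of rank n,
and says that H^0 restricted to the complement of the closed subscheme cut out by the annihilator of
its n-th exterior power is locally free of rank n − 1; this row is the local model.) -/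
theorem result (R : Type u) [CommRing R]
    (n : ℕ) (hn : 1 ≤ n) (a : Fin n → R) :
    (⋀[R]^n ((Fin n → R) ⧸ Submodule.span R {a})).annihilator = Ideal.span (Set.range a) ∧
    ∀ p : PrimeSpectrum R, ¬ Ideal.span (Set.range a) ≤ p.asIdeal →
      p ∈ Module.freeLocus R ((Fin n → R) ⧸ Submodule.span R {a}) ∧
      Module.rankAtStalk ((Fin n → R) ⧸ Submodule.span R {a}) p = n - 1 := by
  exact ⟨Groth.Agent.S19573aux.part1 R n a, fun p hp => Groth.Agent.S19573aux.part2 R n a p hp⟩

end Groth.Agent.S19573
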