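import Groth.Statements.S19574
import Mathlib.RingTheory.Flat.Basic
import Mathlib.RingTheory.Flat.Tensor
import Mathlib.LinearAlgebra.TensorProduct.Quotient
import Mathlib.Algebra.Exact.Basic
import Mathlib.Algebra.Homology.ShortComplex.ModuleCat
import Mathlib.Tactic

set_option autoImplicit false
universe u
open CategoryTheory MonoidalCategory
open Lie3Mod

namespace Groth.Agent.S19574

open TensorProduct
universe v

section
variable {R : Type u} [CommRing R]

/-- multiplication map `I ⊗ N → N` -/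
noncomputable def muI (I : Ideal R) (N : Type v) [AddCommGroup N] [Module R N] : I ⊗[R] N →ₗ[R] N :=
  (TensorProduct.lid R N).toLinearMap ∘ₗ LinearMap.rTensor N I.subtype

@[simp]
theorem muI_tmul (I : Ideal R) (N : Type v) [AddCommGroup N] [Module R N] (r : I) (n : N) :
    muI I N (r ⊗ₜ n) = (r : R) • n := by
  simp [muI]

theorem muI_nat (I : Ideal R) {N N' : Type v} [AddCommGroup N] [Module R N] [AddCommGroup N']
    [Module R N'] (f : N →ₗ[R] N') (u : I ⊗[R] N) :
    f (muI I N u) = muI I N' (LinearMap.lTensor I f u) := by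
  induction u with
  | zero => simp
  | tmul r n => simp
  | add a b ha hb => simp only [map_add, ha, hb]

theorem muI_mem (I : Ideal R) (N : Type v) [AddCommGroup N] [Module R N] (u : I ⊗[R] N) :
    muI I N u ∈ I • (⊤ : Submodule R N) := by
  induction u with
  | zero => simp
  | tmul r n => rw [muI_tmul]; exact Submodule.smul_mem_smul r.2 trivial
  | add a b ha hb => rw [map_add]; exact Submodule.add_mem _ ha hb

theorem exists_muI (I : Ideal R) (N : Type v) [AddCommGroup N] [Module R N] (n : N)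
    (hn : n ∈ I • (⊤ : Submodule R N)) : ∃ u : I ⊗[R] N, muI I N u = n := by
  refine Submodule.smul_induction_on hn ?_ ?_
  · intro r hr m _
    exact ⟨(⟨r, hr⟩ : I) ⊗ₜ m, by simp⟩
  · rintro x y ⟨a, rfl⟩ ⟨b, rfl⟩
    exact ⟨a + b, map_add _ _ _⟩

theorem one_tmul_eq_zero_iff (I : Ideal R) (N : Type v) [AddCommGroup N] [Module R N] (n : N) :
    ((1 : R ⧸ I) ⊗ₜ[R] n = 0) ↔ n ∈ I • (⊤ : Submodule R N) := by
  rw [← (TensorProduct.quotTensorEquivQuotSMul N I).map_eq_zero_iff,
    TensorProduct.quotTensorEquivQuotSMul_mk_one_tmul, Submodule.Quotient.mk_eq_zero]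

theorem exists_one_tmul (I : Ideal R) (N : Type v) [AddCommGroup N] [Module R N]
    (t : (R ⧸ I) ⊗[R] N) : ∃ n : N, (1 : R ⧸ I) ⊗ₜ[R] n = t := by
  induction t with
  | zero => exact ⟨0, by simp⟩
  | tmul r n =>
    obtain ⟨r, rfl⟩ := Ideal.Quotient.mk_surjective r
    refine ⟨r • n, ?_⟩
    rw [← TensorProduct.smul_tmul]
    congr 1
    rw [Algebra.smul_def]; simp
  | add a b ha hb =>
    obtain ⟨x, rfl⟩ := ha
    obtain ⟨y, rfl⟩ := hb
    exact ⟨x + y, TensorProduct.tmul_add _ _ _⟩

theorem flat_of_chase {K₃ K₂ K₁ M : Type v}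
    [AddCommGroup K₃] [Module R K₃] [AddCommGroup K₂] [Module R K₂]
    [AddCommGroup K₁] [Module R K₁] [AddCommGroup M] [Module R M]
    (d₃ : K₃ →ₗ[R] K₂) (d₂ : K₂ →ₗ[R] K₁) (d₁ : K₁ →ₗ[R] M)
    (h₁ : Function.Surjective d₁) (e₁ : Function.Exact d₂ d₁) (e₂ : Function.Exact d₃ d₂)
    [Module.Flat R K₁]
    (hI : ∀ I : Ideal R, Function.Exact (LinearMap.lTensor (R ⧸ I) d₃)
      (LinearMap.lTensor (R ⧸ I) d₂)) :
    Module.Flat R M := by
  rw [Module.Flat.iff_rTensor_injective']
  intro I
  have hinjK : Function.Injective (muI I K₁) := by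
    unfold muI
    rw [LinearMap.coe_comp, LinearEquiv.coe_coe]
    exact (TensorProduct.lid R K₁).injective.comp
      (Module.Flat.rTensor_preserves_injective_linearMap I.subtype Subtype.val_injective)
  suffices hinj : Function.Injective (muI I M) by
    unfold muI at hinj
    rw [LinearMap.coe_comp, LinearEquiv.coe_coe] at hinj
    exact Function.Injective.of_comp hinj
  rw [injective_iff_map_eq_zero]
  intro x hx
  obtain ⟨y, rfl⟩ := LinearMap.lTensor_surjective I h₁ x
  have hdy : d₁ (muI I K₁ y) = 0 := by rw [muI_nat, hx]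
  obtain ⟨z, hz⟩ := (e₁ _).mp hdy
  have h1 : (LinearMap.lTensor (R ⧸ I) d₂) ((1 : R ⧸ I) ⊗ₜ z) = 0 := by
    rw [LinearMap.lTensor_tmul, hz, one_tmul_eq_zero_iff]
    exact muI_mem I K₁ y
  obtain ⟨wbar, hw⟩ := (hI I _).mp h1
  obtain ⟨w, rfl⟩ := exists_one_tmul I K₃ wbar
  rw [LinearMap.lTensor_tmul] at hw
  have hz' : z - d₃ w ∈ I • (⊤ : Submodule R K₂) := by
    rw [← one_tmul_eq_zero_iff, TensorProduct.tmul_sub, hw, sub_self]
  obtain ⟨u, hu⟩ := exists_muI I K₂ _ hz'
  have hd : d₂ (z - d₃ w) = muI I K₁ y := by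
    rw [map_sub, hz, e₂.apply_apply_eq_zero, sub_zero]
  have hy : LinearMap.lTensor I d₂ u = y := by
    apply hinjK
    rw [← muI_nat, hu, hd]
  rw [← hy, ← LinearMap.lTensor_comp_apply, e₁.linearMap_comp_eq_zero, LinearMap.lTensor_zero,
    LinearMap.zero_apply]

end

/-- Let R be a commutative ring and d ≥ 1. Let K be a chain complex of R-modules concentrated in degrees
0, …, d + 1, written … → 0 → P_{d+1} → P_d → … → P_1 → M with M = K_0, which is exact (so 0 →
P_{d+1} → … → P_1 → M → 0 is an exact sequence), such that P_1, …, P_d are flat R-modules and such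
that for every ideal I of R the complex obtained by applying (R/I) ⊗_R − termwise is again exact.
Then M is a flat R-module. (No flatness is assumed for P_{d+1}. The published lemma adds that for R
Noetherian it suffices to test prime ideals I; that refinement is not part of this statement.) -/
theorem result (R : Type u) [CommRing R]
    (d : ℕ) (hd : 1 ≤ d) (K : ChainComplex (ModuleCat.{u} R) ℕ)
    (hzero : ∀ i : ℕ, d + 1 < i → Limits.IsZero (K.X i))
    (hflat : ∀ i : ℕ, 1 ≤ i → i ≤ d → Module.Flat R (K.X i))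
    (hK : K.Acyclic)
    (hbc : ∀ I : Ideal R,
      (((tensorLeft (ModuleCat.of R (R ⧸ I))).mapHomologicalComplex (ComplexShape.down ℕ)).obj K).Acyclic) :
    Module.Flat R (K.X 0) := by
  have : Module.Flat R (K.X 1) := hflat 1 le_rfl hd
  apply flat_of_chase (K.d 3 2).hom (K.d 2 1).hom (K.d 1 0).hom
  · have h0 := hK 0
    rw [HomologicalComplex.exactAt_iff' K 1 0 0 (by simp) (by simp),
      ShortComplex.moduleCat_exact_iff] at h0
    intro m
    obtain ⟨x, hx⟩ := h0 m (by simp; rfl)
    exact ⟨x, hx⟩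
  · have h1 := hK 1
    rw [HomologicalComplex.exactAt_iff' K 2 1 0 (by simp) (by simp),
      ShortComplex.ShortExact.moduleCat_exact_iff_function_exact] at h1
    exact h1
  · have h2 := hK 2
    rw [HomologicalComplex.exactAt_iff' K 3 2 1 (by simp) (by simp),
      ShortComplex.ShortExact.moduleCat_exact_iff_function_exact] at h2
    exact h2
  · intro I
    have h2 := hbc I 2
    rw [HomologicalComplex.exactAt_iff' _ 3 2 1 (by simp) (by simp),
      ShortComplex.ShortExact.moduleCat_exact_iff_function_exact] at h2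
    exact h2

end Groth.Agent.S19574
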