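import Groth.Statements.S19575
import Mathlib
import Groth.Agent.Lib.helper20.EtaPtLoc3
import Groth.Agent.S13829

set_option autoImplicit false
universe u
open EtaPt Groth.Agent.Lib.helper20.EtaPt

namespace Groth.Agent.S19575

/-- Let η be the field-endofunctor datum of the pointwise construction, A a commutative ring with
finitely many minimal prime ideals and φ : A → B a ring map inducing a surjection on prime spectra.
If the canonical map A → (B/A)_η (the corestriction of φ onto the subring of B of elements whose
image in ∏_q F(k(q)) comes from M_η(A)) is bijective, then for every f ∈ A the canonical map A_f →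
(B_f/A_f)_η attached to the localized map A_f → B_{φ(f)} is bijective as well. -/
theorem result (η : EtaPt.FieldEndo.{u}) {A B : Type u} [CommRing A] [CommRing B]
    (hA : (minimalPrimes A).Finite) (φ : A →+* B) (hs : Function.Surjective (PrimeSpectrum.comap φ))
    (h : Function.Bijective (η.qRel φ)) (f : A) :
    Function.Bijective (η.qRel (Localization.awayMap φ f)) := by
  have hsq := Groth.Agent.S13829.awayMap_comp_algebraMap φ f
  have hsq' : ∀ a, Localization.awayMap φ f (algebraMap A (Localization.Away f) a) =
      algebraMap B (Localization.Away (φ f)) (φ a) := fun a =>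
    congrArg (fun k => k a) (congrArg DFunLike.coe hsq)
  have hφinj : Function.Injective φ := by
    intro a a' haa'
    exact h.1 (Subtype.ext haa')
  have hinj : Function.Injective (Localization.awayMap φ f) := by
    rw [Localization.awayMap_injective_iff]
    intro a ha
    refine ⟨0, ?_⟩
    rw [pow_zero, one_mul]
    exact hφinj (by rw [ha, map_zero])
  constructor
  · intro a a' haa'
    exact hinj (congrArg Subtype.val haa')
  · rintro ⟨y, hy⟩
    obtain ⟨x, hx, n, hn⟩ := (Groth.Agent.S13829.result η hA φ hs f).2 y hy
    obtain ⟨a, ha⟩ := h.2 ⟨x, hx⟩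
    have hax : φ a = x := congrArg Subtype.val ha
    refine ⟨IsLocalization.mk' (Localization.Away f) a (⟨f ^ n, n, rfl⟩ : Submonoid.powers f),
      Subtype.ext ?_⟩
    show Localization.awayMap φ f (IsLocalization.mk' (Localization.Away f) a
      (⟨f ^ n, n, rfl⟩ : Submonoid.powers f)) = y
    have hu : IsUnit (algebraMap B (Localization.Away (φ f)) (φ f) ^ n) :=
      (IsLocalization.Away.algebraMap_isUnit (φ f)).pow n
    apply hu.mul_left_injective
    show _ * _ = y * _
    rw [hn, ← hax, ← hsq' a, ← hsq' f, ← map_pow, ← map_mul, ← map_pow]
    congr 1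
    exact IsLocalization.mk'_spec (Localization.Away f) a (⟨f ^ n, n, rfl⟩ : Submonoid.powers f)

end Groth.Agent.S19575
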