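import Groth.Statements.S19576
import Mathlib
import Groth.Agent.Lib.helper20.EtaPtLoc3
import Groth.Agent.S13829

set_option autoImplicit false
universe u
open EtaPt Groth.Agent.Lib.helper20.EtaPt

namespace Groth.Agent.S19576

theorem ideal_eq_top_of_pow_mem {A : Type*} [CommRing A] (s : Finset A)
    (hspan : Ideal.span (s : Set A) = ⊤) (I : Ideal A) (hI : ∀ f ∈ s, ∃ n : ℕ, f ^ n ∈ I) :
    I = ⊤ := by
  classical
  choose! n hn using hI
  have h1 : Ideal.span ((fun x => x ^ (s.sup n)) '' (s : Set A)) = ⊤ :=
    Ideal.span_pow_eq_top _ hspan (s.sup n)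
  rw [eq_top_iff, ← h1, Ideal.span_le]
  rintro _ ⟨f, hf, rfl⟩
  have hle : n f ≤ s.sup n := Finset.le_sup hf
  have h2 : f ^ (s.sup n) = f ^ (n f) * f ^ (s.sup n - n f) := by
    rw [← pow_add, Nat.add_sub_cancel' hle]
  show f ^ (s.sup n) ∈ I
  rw [h2]
  exact I.mul_mem_right _ (hn f hf)

/-- Let η be the field-endofunctor datum of the pointwise construction, A a commutative ring with
finitely many minimal prime ideals and φ : A → B a ring map inducing a surjection on prime spectra.
If finitely many elements f_1, …, f_n of A generate the unit ideal and, for each i, the canonical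
map A_{f_i} → (B_{f_i}/A_{f_i})_η attached to the localized map A_{f_i} → B_{φ(f_i)} is bijective,
then the canonical map A → (B/A)_η is bijective. -/
theorem result (η : EtaPt.FieldEndo.{u}) {A B : Type u} [CommRing A] [CommRing B]
    (hA : (minimalPrimes A).Finite) (φ : A →+* B) (hs : Function.Surjective (PrimeSpectrum.comap φ))
    (s : Finset A) (hspan : Ideal.span (s : Set A) = ⊤)
    (h : ∀ f ∈ s, Function.Bijective (η.qRel (Localization.awayMap φ f))) :
    Function.Bijective (η.qRel φ) := by
  have hsq' : ∀ (f a : A), Localization.awayMap φ f (algebraMap A (Localization.Away f) a) =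
      algebraMap B (Localization.Away (φ f)) (φ a) := fun f a =>
    congrArg (fun k => k a) (congrArg DFunLike.coe (Groth.Agent.S13829.awayMap_comp_algebraMap φ f))
  have hinjf : ∀ f ∈ s, Function.Injective (Localization.awayMap φ f) := by
    intro f hf a a' haa'
    exact (h f hf).1 (Subtype.ext haa')
  constructor
  · intro a a' haa'
    have h0 : φ (a - a') = 0 := by
      rw [map_sub]
      exact sub_eq_zero.mpr (congrArg Subtype.val haa')
    let I : Ideal A :=
      { carrier := {r | r * (a - a') = 0}
        add_mem' := by
          intro r r' hr hr'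
          show (r + r') * (a - a') = 0
          rw [add_mul, hr, hr', add_zero]
        zero_mem' := zero_mul _
        smul_mem' := by
          intro c r hr
          show c * r * (a - a') = 0
          rw [mul_assoc, hr, mul_zero] }
    have hI : I = ⊤ := by
      apply ideal_eq_top_of_pow_mem s hspan
      intro f hf
      have h1 : algebraMap A (Localization.Away f) (a - a') = 0 := by
        apply hinjf f hf
        rw [hsq', h0, map_zero, map_zero]
      obtain ⟨⟨_, n, rfl⟩, hm⟩ := (IsLocalization.map_eq_zero_iff (Submonoid.powers f)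
        (Localization.Away f) (a - a')).mp h1
      exact ⟨n, hm⟩
    have h1 : (1 : A) ∈ I := by
      rw [hI]
      exact Submodule.mem_top
    have h2 : 1 * (a - a') = 0 := h1
    rw [one_mul] at h2
    exact sub_eq_zero.mp h2
  · rintro ⟨b, hb⟩
    let I : Ideal A :=
      { carrier := {r | φ r * b ∈ φ.range}
        add_mem' := by
          rintro r r' ⟨c, hc⟩ ⟨c', hc'⟩
          exact ⟨c + c', by rw [map_add, hc, hc', map_add, add_mul]⟩
        zero_mem' := ⟨0, by rw [map_zero, zero_mul]⟩
        smul_mem' := by
          rintro c r ⟨d, hd⟩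
          exact ⟨c * d, by rw [map_mul, hd, smul_eq_mul, map_mul, mul_assoc]⟩ }
    have hI : I = ⊤ := by
      apply ideal_eq_top_of_pow_mem s hspan
      intro f hf
      have h1 : algebraMap B (Localization.Away (φ f)) b ∈ η.rel (Localization.awayMap φ f) :=
        (Groth.Agent.S13829.result η hA φ hs f).1 ⟨b, hb, rfl⟩
      obtain ⟨af, haf⟩ := (h f hf).2 ⟨_, h1⟩
      have haf' : Localization.awayMap φ f af = algebraMap B (Localization.Away (φ f)) b :=
        congrArg Subtype.val haf
      obtain ⟨k, a, hka⟩ := IsLocalization.Away.surj f af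
      have h2 : algebraMap B (Localization.Away (φ f)) (b * φ f ^ k) =
          algebraMap B (Localization.Away (φ f)) (φ a) := by
        rw [← hsq' f a, ← hka, map_mul (Localization.awayMap φ f), map_pow (Localization.awayMap φ f), hsq' f f, haf', map_mul, map_pow]
      obtain ⟨⟨_, m, rfl⟩, hm⟩ := (IsLocalization.eq_iff_exists (Submonoid.powers (φ f))
        (Localization.Away (φ f))).mp h2
      refine ⟨m + k, f ^ m * a, ?_⟩
      show φ (f ^ m * a) = φ (f ^ (m + k)) * b
      rw [map_mul, map_pow, map_pow, pow_add]
      have hm' : φ f ^ m * (b * φ f ^ k) = φ f ^ m * φ a := hm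
      rw [← hm']
      ring
    have h1 : (1 : A) ∈ I := by
      rw [hI]
      exact Submodule.mem_top
    obtain ⟨a, ha⟩ := h1
    rw [map_one, one_mul] at ha
    exact ⟨a, Subtype.ext ha⟩

end Groth.Agent.S19576
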