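import Groth.Statements.S19577
import Mathlib
import Groth.Agent.Lib.helper20.EtaPt6

set_option autoImplicit false
universe u
open EtaPt Groth.Agent.Lib.helper20.EtaPt

namespace Groth.Agent.S19577

/-- Let f : A → B be a homomorphism of commutative rings, each with only finitely many minimal primes.
Then M_η(f) : M_η(A) → M_η(B) is integral exactly when f is integral, and Spec M_η(f) is surjective
exactly when Spec f is. Here η is the field-endofunctor datum of the pointwise construction, M_η(A)
⊆ ∏_p F(k(p)) the subring attached to A with q_A : A → M_η(A), and M_η(f) : M_η(A) → M_η(B) the ring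
map induced by N_η(f), pinned here as the ring map g compatible with N_η(f) under the two subring
inclusions. -/
theorem result (η : EtaPt.FieldEndo.{u}) {A B : Type u} [CommRing A] [CommRing B]
    (hA : (minimalPrimes A).Finite) (hB : (minimalPrimes B).Finite) (f : A →+* B)
    (g : η.M A →+* η.M B) (hg : ∀ x : η.M A, ((g x : η.M B) : η.N B) = η.Nmap f (x : η.N A)) :
    (f.IsIntegral ↔ g.IsIntegral) ∧
      (Function.Surjective (PrimeSpectrum.comap f) ↔ Function.Surjective (PrimeSpectrum.comap g)) := by
  have hqA : (η.q A).IsIntegral := Groth.Agent.S13802.result η A hA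
  have hqB : (η.q B).IsIntegral := Groth.Agent.S13802.result η B hB
  have hcomm : g.comp (η.q A) = (η.q B).comp f := by
    ext a : 1
    apply Subtype.ext
    show ((g (η.q A a) : η.M B) : η.N B) = η.t B (f a)
    rw [hg]
    exact η.Nmap_t_apply f a
  have hspec : ∀ Q : PrimeSpectrum (η.M B),
      PrimeSpectrum.comap f (PrimeSpectrum.comap (η.q B) Q) =
        PrimeSpectrum.comap (η.q A) (PrimeSpectrum.comap g Q) := by
    intro Q
    apply PrimeSpectrum.ext
    change (Q.asIdeal.comap (η.q B)).comap f = (Q.asIdeal.comap g).comap (η.q A)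
    rw [Ideal.comap_comap, Ideal.comap_comap, hcomm]
  constructor
  · constructor
    · intro hf
      apply RingHom.IsIntegral.tower_top (η.q A)
      rw [hcomm]
      exact RingHom.IsIntegral.trans _ _ hf hqB
    · intro hgint b
      have h1 : ((η.q B).comp f).IsIntegral := by
        rw [← hcomm]
        exact RingHom.IsIntegral.trans _ _ hqA hgint
      obtain ⟨P, hP, hP0⟩ := h1 (η.q B b)
      rw [← Polynomial.hom_eval₂] at hP0
      have h2 : η.t B (P.eval₂ f b) = 0 := congrArg Subtype.val hP0
      obtain ⟨k, hk⟩ := isNilpotent_of_t_eq_zero η _ h2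
      exact ⟨P ^ k, hP.pow k, by rw [Polynomial.eval₂_pow, hk]⟩
  · constructor
    · intro hf P'
      obtain ⟨Q₀, hQ₀⟩ := hf (PrimeSpectrum.comap (η.q A) P')
      obtain ⟨Q, rfl⟩ := (comap_q_bijective η hB).2 Q₀
      refine ⟨Q, ?_⟩
      apply (comap_q_bijective η hA).1
      rw [← hspec, hQ₀]
    · intro hgs P
      obtain ⟨P', rfl⟩ := (comap_q_bijective η hA).2 P
      obtain ⟨Q, rfl⟩ := hgs P'
      exact ⟨PrimeSpectrum.comap (η.q B) Q, hspec Q⟩

end Groth.Agent.S19577
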