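import Groth.Statements.S19578
import Mathlib
import Groth.Agent.Lib.helper20.EtaPt7

set_option autoImplicit false
universe u
open EtaPt Groth.Agent.Lib.helper20.EtaPt

namespace Groth.Agent.S19578

/-- Let f : A → B be a homomorphism of commutative rings, each with only finitely many minimal primes,
and suppose the induced map M_η(f) : M_η(A) → M_η(B) is an isomorphism. Then Spec f is a bijection
between the prime ideals of B and of A, and for every prime q of B, with p = f⁻¹(q), there is a ring
map φ : k(q) → F(k(p)) whose composite with the residue field map k(p) → k(q) equals η_{k(p)}. Here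
η is the field-endofunctor datum of the pointwise construction, M_η(A) ⊆ ∏_p F(k(p)) the subring
attached to A with q_A : A → M_η(A), and M_η(f) : M_η(A) → M_η(B) the ring map induced by N_η(f),
pinned here as the ring map g compatible with N_η(f) under the two subring inclusions. -/
theorem result (η : EtaPt.FieldEndo.{u}) {A B : Type u} [CommRing A] [CommRing B]
    (hA : (minimalPrimes A).Finite) (hB : (minimalPrimes B).Finite) (f : A →+* B)
    (g : η.M A →+* η.M B) (hg : ∀ x : η.M A, ((g x : η.M B) : η.N B) = η.Nmap f (x : η.N A))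
    (hbij : Function.Bijective g) :
    Function.Bijective (PrimeSpectrum.comap f) ∧
      ∀ Q : PrimeSpectrum B,
        ∃ φ : Q.asIdeal.ResidueField →+* η.obj (PrimeSpectrum.comap f Q).asIdeal.ResidueField,
          φ.comp (Ideal.ResidueField.map (PrimeSpectrum.comap f Q).asIdeal Q.asIdeal f rfl) =
            η.eta (PrimeSpectrum.comap f Q).asIdeal.ResidueField := by
  have hcomm : ∀ a, g (η.q A a) = η.q B (f a) := by
    intro a
    apply Subtype.ext
    show ((g (η.q A a) : η.M B) : η.N B) = η.t B (f a)
    rw [hg]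
    exact η.Nmap_t_apply f a
  have hcomm' : g.comp (η.q A) = (η.q B).comp f := RingHom.ext hcomm
  have hspec : ∀ Q : PrimeSpectrum (η.M B),
      PrimeSpectrum.comap f (PrimeSpectrum.comap (η.q B) Q) =
        PrimeSpectrum.comap (η.q A) (PrimeSpectrum.comap g Q) := by
    intro Q
    apply PrimeSpectrum.ext
    change (Q.asIdeal.comap (η.q B)).comap f = (Q.asIdeal.comap g).comap (η.q A)
    rw [Ideal.comap_comap, Ideal.comap_comap, hcomm']
  let e : η.M A ≃+* η.M B := RingEquiv.ofBijective g hbij
  have hes : ∀ y, g (e.symm y) = y := fun y => e.apply_symm_apply y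
  have hse : ∀ x, e.symm (g x) = x := fun x => e.symm_apply_apply x
  have hgc : Function.Bijective (PrimeSpectrum.comap g) := by
    constructor
    · exact PrimeSpectrum.comap_injective_of_surjective g hbij.2
    · intro P'
      refine ⟨PrimeSpectrum.comap (e.symm : η.M B →+* η.M A) P', ?_⟩
      apply PrimeSpectrum.ext
      ext x
      change e.symm (g x) ∈ P'.asIdeal ↔ x ∈ P'.asIdeal
      rw [hse]
  constructor
  · constructor
    · intro Q₁ Q₂ h12
      obtain ⟨Q₁', rfl⟩ := (comap_q_bijective η hB).2 Q₁
      obtain ⟨Q₂', rfl⟩ := (comap_q_bijective η hB).2 Q₂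
      rw [hspec, hspec] at h12
      rw [hgc.1 ((comap_q_bijective η hA).1 h12)]
    · intro P
      obtain ⟨P', rfl⟩ := (comap_q_bijective η hA).2 P
      obtain ⟨Q, rfl⟩ := hgc.2 P'
      exact ⟨PrimeSpectrum.comap (η.q B) Q, hspec Q⟩
  · intro Q
    have h₁ : Q.asIdeal = (QP η Q).asIdeal.comap (η.q B) :=
      (congrArg PrimeSpectrum.asIdeal (comap_q_QP η Q)).symm
    have h₂ : (QP η Q).asIdeal =
        (PrimeSpectrum.comap g (QP η Q)).asIdeal.comap (e.symm : η.M B →+* η.M A) := by
      ext y
      change y ∈ (QP η Q).asIdeal ↔ g (e.symm y) ∈ (QP η Q).asIdeal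
      rw [hes]
    have h₃ : (PrimeSpectrum.comap f Q).asIdeal =
        (PrimeSpectrum.comap g (QP η Q)).asIdeal.comap (η.q A) := by
      have h4 := congrArg PrimeSpectrum.asIdeal (hspec (QP η Q))
      rw [comap_q_QP] at h4
      exact h4
    obtain ⟨φ₀, hφ₀⟩ := exists_phi_of_eq η hA (PrimeSpectrum.comap f Q)
      (PrimeSpectrum.comap g (QP η Q)) h₃
    refine ⟨(φ₀.comp (Ideal.ResidueField.map (QP η Q).asIdeal
      (PrimeSpectrum.comap g (QP η Q)).asIdeal (e.symm : η.M B →+* η.M A) h₂)).comp
      (Ideal.ResidueField.map Q.asIdeal (QP η Q).asIdeal (η.q B) h₁), ?_⟩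
    apply Ideal.ResidueField.ringHom_ext
    ext a
    simp only [RingHom.comp_apply]
    rw [Ideal.ResidueField.map_algebraMap, Ideal.ResidueField.map_algebraMap,
      Ideal.ResidueField.map_algebraMap]
    have h5 : (e.symm : η.M B →+* η.M A) (η.q B (f a)) = η.q A a := by
      rw [← hcomm a]
      exact hse _
    rw [h5]
    have h6 := congrArg (fun k => k (algebraMap A _ a)) (congrArg DFunLike.coe hφ₀)
    simp only [RingHom.comp_apply] at h6
    rw [Ideal.ResidueField.map_algebraMap] at h6
    exact h6

end Groth.Agent.S19578
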