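import Groth.Statements.S1959
import Mathlib.RingTheory.IntegralClosure.Algebra.Ideal
-- import your own Groth.Agent.* helpers here

set_option autoImplicit false
universe u
open Polynomial
open EtAlg

namespace Groth.Agent.S1959

/-- Let I be an ideal of a ring A, A -> B an integral ring map and b an element of B whose image in B/IB
is idempotent. Then there are d ≥ 1 and a monic polynomial f over A with f(b) = 0 whose reduction
modulo I is x^d (x - 1)^d. -/
theorem result (A B : Type u) [CommRing A] [CommRing B] [Algebra A B]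
    [Algebra.IsIntegral A B] (I : Ideal A) (b : B)
    (hb : IsIdempotentElem (Ideal.Quotient.mk (I.map (algebraMap A B)) b)) :
    ∃ (f : A[X]) (d : ℕ), f.Monic ∧ 1 ≤ d ∧ aeval b f = 0 ∧
      f.map (Ideal.Quotient.mk I) = X ^ d * (X - 1) ^ d := by
  rcases subsingleton_or_nontrivial A with hA | hA
  · have hB : Subsingleton B := (algebraMap A B).codomain_trivial
    have hQ : Subsingleton (A ⧸ I) := (Ideal.Quotient.mk I).codomain_trivial
    exact ⟨1, 1, monic_one, le_refl _, Subsingleton.elim _ _, Subsingleton.elim _ _⟩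
  have hc : b * (b - 1) ∈ I.map (algebraMap A B) := by
    have h1 : Ideal.Quotient.mk (I.map (algebraMap A B)) (b * (b - 1)) = 0 := by
      have := hb.eq
      rw [map_mul, map_sub, map_one, mul_sub, mul_one, this, sub_self]
    exact Ideal.Quotient.eq_zero_iff_mem.mp h1
  obtain ⟨p, hp, hpc, hcoef⟩ := Polynomial.exists_monic_aeval_eq_zero_forall_mem_of_mem_map hc
  set q : A[X] := X * (X - C 1) with hq
  have hqm : q.Monic := monic_X.mul (monic_X_sub_C 1)
  have hqd : q.natDegree ≠ 0 := by
    rw [hq, monic_X.natDegree_mul (monic_X_sub_C 1), natDegree_X, natDegree_X_sub_C]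
    norm_num
  have hpmap : p.map (Ideal.Quotient.mk I) = X ^ p.natDegree := by
    ext i
    rw [coeff_map, coeff_X_pow]
    split_ifs with hi
    · rw [hi, hp.coeff_natDegree, map_one]
    · exact Ideal.Quotient.eq_zero_iff_mem.mpr (hcoef i hi)
  refine ⟨(p * X).comp q, p.natDegree + 1, (hp.mul monic_X).comp hqm hqd, Nat.le_add_left _ _, ?_, ?_⟩
  · rw [aeval_comp]
    have : aeval b q = b * (b - 1) := by simp [hq]
    rw [this, map_mul, hpc, zero_mul]
  · rw [Polynomial.map_comp, Polynomial.map_mul, hpmap, map_X, hq, Polynomial.map_mul, map_X,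
      Polynomial.map_sub, map_X, Polynomial.map_C, map_one, mul_comp, X_pow_comp, X_comp]
    simp only [map_one]
    rw [mul_pow, pow_succ, pow_succ]
    ring

end Groth.Agent.S1959
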