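import Groth.Statements.S19590
import Mathlib.Tactic
import Mathlib.GroupTheory.OrderOfElement
import Mathlib.Data.ZMod.Basic
import Mathlib.LinearAlgebra.Matrix.GeneralLinearGroup.Defs

set_option autoImplicit false
open BddFin

namespace Groth.Agent.S19590

section aux
variable {n : ℕ}

local notation "Mat" => Matrix (Fin n) (Fin n) ℤ

/-- the binomial expansion up to second order, in the matrix ring -/
theorem expand (Y : Mat) (m : ℕ) : ∃ Q : Mat, Commute Y Q ∧ (1 + Y) ^ m = 1 + (m : ℤ) • Y + Y * Y * Q := by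
  induction m with
  | zero => exact ⟨0, Commute.zero_right Y, by simp⟩
  | succ m ih =>
    obtain ⟨Q, hc, hQ⟩ := ih
    refine ⟨Q + (m : ℤ) • 1 + Q * Y, ?_, ?_⟩
    · exact ((hc.add_right ((Commute.one_right Y).smul_right _)).add_right (hc.mul_right (Commute.refl Y)))
    · rw [pow_succ, hQ]
      have h1 : Q * Y = Y * Q := hc.eq.symm
      push_cast
      simp only [mul_add, add_mul, mul_one, one_mul, smul_mul_assoc, mul_smul_comm, add_smul, one_smul]
      simp only [mul_assoc]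
      abel

theorem smul_inj_aux (c : ℤ) (hc : c ≠ 0) (X : Mat) (h : c • X = 0) : X = 0 := by
  ext i j
  have := congrFun (congrFun h i) j
  simp only [Matrix.smul_apply, smul_eq_mul, Matrix.zero_apply] at this
  exact (mul_eq_zero.mp this).resolve_left hc

theorem step_coprime (M N : Mat) (m k : ℕ) (hm : Nat.Coprime m 3) (hk : 1 ≤ k) (hM : M ^ m = 1)
    (hN : M = 1 + ((3 : ℤ) ^ k) • N) : ∃ N' : Mat, N = (3 : ℤ) • N' := by
  obtain ⟨Q, -, hQ⟩ := expand (((3 : ℤ) ^ k) • N) m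
  rw [← hN, hM] at hQ
  have h1 : ((3 : ℤ) ^ k) • ((m : ℤ) • N + ((3 : ℤ) ^ k) • (N * N * Q)) = 0 := by
    have : (1 : Mat) + ((m : ℤ) • ((3 : ℤ) ^ k • N) + (3 : ℤ) ^ k • N * (3 : ℤ) ^ k • N * Q) = 1 + 0 := by
      rw [add_zero, ← add_assoc]; exact hQ.symm
    have h2 := add_left_cancel this
    rw [← h2]
    simp only [smul_add, smul_mul_assoc, mul_smul_comm, smul_smul]
    congr 1
    · rw [mul_comm]
  have h2 := smul_inj_aux _ (pow_ne_zero k (by norm_num : (3 : ℤ) ≠ 0)) _ h1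
  -- entrywise: 3 ∣ m * N i j
  have hdiv : ∀ i j, (3 : ℤ) ∣ N i j := by
    intro i j
    have := congrFun (congrFun h2 i) j
    simp only [Matrix.add_apply, Matrix.smul_apply, smul_eq_mul, Matrix.zero_apply] at this
    have h3 : (3 : ℤ) ∣ (m : ℤ) * N i j := by
      have : (m : ℤ) * N i j = - ((3 : ℤ) ^ k * (N * N * Q) i j) := by linarith
      rw [this]
      apply Dvd.dvd.neg_right
      exact Dvd.dvd.mul_right (dvd_pow_self 3 (by omega)) _
    have hcop : IsCoprime (3 : ℤ) (m : ℤ) := by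
      have : Nat.Coprime 3 m := hm.symm
      exact_mod_cast Nat.isCoprime_iff_coprime.mpr this
    exact hcop.dvd_of_dvd_mul_left h3
  refine ⟨fun i j => N i j / 3, ?_⟩
  ext i j
  simp only [Matrix.smul_apply, smul_eq_mul]
  exact (Int.mul_ediv_cancel' (hdiv i j)).symm

theorem step_three (M N : Mat) (k : ℕ) (hM : M ^ 3 = 1)
    (hN : M = 1 + ((3 : ℤ) ^ (k + 1)) • N) : ∃ N' : Mat, N = (3 : ℤ) • N' := by
  have hexp : M ^ 3 = 1 + ((3 : ℤ) ^ (k + 2)) • (N + ((3 : ℤ) ^ (k + 1)) • (N * N) +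
      ((3 : ℤ) ^ (2 * k + 1)) • (N * N * N)) := by
    rw [hN]
    have : ((1 : Mat) + ((3 : ℤ) ^ (k + 1)) • N) ^ 3 = 1 + (3 : ℤ) • (((3 : ℤ) ^ (k + 1)) • N) +
        (3 : ℤ) • ((((3 : ℤ) ^ (k + 1)) • N) * (((3 : ℤ) ^ (k + 1)) • N)) +
        (((3 : ℤ) ^ (k + 1)) • N) * (((3 : ℤ) ^ (k + 1)) • N) * (((3 : ℤ) ^ (k + 1)) • N) := by
      generalize ((3 : ℤ) ^ (k + 1)) • N = Y
      noncomm_ring
    rw [this]
    simp only [smul_add, smul_mul_assoc, mul_smul_comm, smul_smul, add_assoc]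
    congr 2
    · congr 1; ring
    · congr 1
      · congr 1; ring
      · congr 1; ring
  rw [hM] at hexp
  have h1 : ((3 : ℤ) ^ (k + 2)) • (N + ((3 : ℤ) ^ (k + 1)) • (N * N) +
      ((3 : ℤ) ^ (2 * k + 1)) • (N * N * N)) = 0 := by
    have : (1 : Mat) + 0 = 1 + ((3 : ℤ) ^ (k + 2)) • (N + ((3 : ℤ) ^ (k + 1)) • (N * N) +
      ((3 : ℤ) ^ (2 * k + 1)) • (N * N * N)) := by rw [add_zero]; exact hexp
    exact (add_left_cancel this).symm
  have h2 := smul_inj_aux _ (pow_ne_zero _ (by norm_num : (3 : ℤ) ≠ 0)) _ h1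
  refine ⟨- (((3 : ℤ) ^ k) • (N * N) + ((3 : ℤ) ^ (2 * k)) • (N * N * N)), ?_⟩
  have : N = - (((3 : ℤ) ^ (k + 1)) • (N * N) + ((3 : ℤ) ^ (2 * k + 1)) • (N * N * N)) := by
    rw [add_assoc] at h2
    exact eq_neg_of_add_eq_zero_left h2
  conv_lhs => rw [this]
  rw [smul_neg, smul_add, smul_smul, smul_smul]
  congr 3 <;> ring

theorem all_levels (M : Mat) (h : ∀ k : ℕ, ∃ N : Mat, M = 1 + ((3 : ℤ) ^ k) • N) : M = 1 := by
  ext i j
  have key : M i j - (1 : Mat) i j = 0 := by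
    obtain ⟨x, hx⟩ : ∃ x, x = M i j - (1 : Mat) i j := ⟨_, rfl⟩
    rw [← hx]
    obtain ⟨N, hN⟩ := h (x.natAbs + 1)
    have hdvd : ((3 : ℤ) ^ (x.natAbs + 1)) ∣ x := by
      have h1 := congrFun (congrFun hN i) j
      simp only [Matrix.add_apply, Matrix.smul_apply, smul_eq_mul] at h1
      refine ⟨N i j, ?_⟩
      rw [h1] at hx
      linarith
    apply Int.eq_zero_of_abs_lt_dvd hdvd
    have h1 : x.natAbs < 3 ^ (x.natAbs + 1) :=
      lt_of_lt_of_le (Nat.lt_pow_self (by norm_num : 1 < 3)) (Nat.pow_le_pow_right (by norm_num) (by omega))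
    have h2 : |x| = (x.natAbs : ℤ) := Int.abs_eq_natAbs x
    rw [h2]
    exact_mod_cast h1
  linarith

theorem lemA (M : Mat) (m : ℕ) (hm : Nat.Coprime m 3) (hM : M ^ m = 1)
    (h3 : ∃ N : Mat, M = 1 + (3 : ℤ) • N) : M = 1 := by
  apply all_levels
  intro k
  induction k with
  | zero => exact ⟨M - 1, by simp⟩
  | succ k ih =>
    rcases Nat.eq_zero_or_pos k with hk | hk
    · subst hk
      obtain ⟨N, hN⟩ := h3
      exact ⟨N, by simpa using hN⟩
    · obtain ⟨N, hN⟩ := ih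
      obtain ⟨N', rfl⟩ := step_coprime M N m k hm hk hM hN
      exact ⟨N', by rw [hN, smul_smul, pow_succ]⟩

theorem lemB (M : Mat) (hM : M ^ 3 = 1) (h3 : ∃ N : Mat, M = 1 + (3 : ℤ) • N) : M = 1 := by
  apply all_levels
  intro k
  induction k with
  | zero => exact ⟨M - 1, by simp⟩
  | succ k ih =>
    rcases Nat.eq_zero_or_pos k with hk | hk
    · subst hk
      obtain ⟨N, hN⟩ := h3
      exact ⟨N, by simpa using hN⟩
    · obtain ⟨N, hN⟩ := ih
      obtain ⟨k', rfl⟩ : ∃ k', k = k' + 1 := ⟨k - 1, by omega⟩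
      obtain ⟨N', rfl⟩ := step_three M N k' hM hN
      exact ⟨N', by rw [hN, smul_smul, ← pow_succ]⟩

/-- reduction mod 3 being trivial means `M = 1 + 3 N` -/
theorem red_aux (M : Mat) (h : (Int.castRingHom (ZMod 3)).mapMatrix M = 1) :
    ∃ N : Mat, M = 1 + (3 : ℤ) • N := by
  have hdiv : ∀ i j, (3 : ℤ) ∣ M i j - (1 : Mat) i j := by
    intro i j
    have := congrFun (congrFun h i) j
    simp only [RingHom.mapMatrix_apply, Matrix.map_apply, Int.coe_castRingHom] at this
    have h1 : ((M i j - (1 : Mat) i j : ℤ) : ZMod 3) = 0 := by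
      push_cast
      rw [this]
      by_cases hij : i = j
      · subst hij; simp
      · simp [Matrix.one_apply_ne hij]
    exact (ZMod.intCast_zmod_eq_zero_iff_dvd _ 3).mp h1
  refine ⟨fun i j => (M i j - (1 : Mat) i j) / 3, ?_⟩
  ext i j
  simp only [Matrix.add_apply, Matrix.smul_apply, smul_eq_mul]
  rw [Int.mul_ediv_cancel' (hdiv i j)]
  ring

theorem torsion_trivial (g : Matrix.GeneralLinearGroup (Fin n) ℤ) (hfin : IsOfFinOrder g)
    (hg : Matrix.GeneralLinearGroup.map (Int.castRingHom (ZMod 3)) g = 1) : g = 1 := by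
  by_contra hne
  have ho : orderOf g ≠ 1 := fun h => hne (orderOf_eq_one_iff.mp h)
  obtain ⟨ℓ, hℓ, hdvd⟩ := Nat.exists_prime_and_dvd ho
  have ho0 : orderOf g ≠ 0 := (hfin.orderOf_pos).ne'
  set h := g ^ (orderOf g / ℓ) with hh
  have hord : orderOf h = ℓ := orderOf_pow_orderOf_div ho0 hdvd
  have hh1 : Matrix.GeneralLinearGroup.map (Int.castRingHom (ZMod 3)) h = 1 := by
    rw [hh, map_pow, hg, one_pow]
  have hred : (Int.castRingHom (ZMod 3)).mapMatrix (h : Mat) = 1 := by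
    have := congrArg (fun x : Matrix.GeneralLinearGroup (Fin n) (ZMod 3) => (x : Matrix (Fin n) (Fin n) (ZMod 3))) hh1
    simpa using this
  have hpow : (h : Mat) ^ ℓ = 1 := by
    have : h ^ ℓ = 1 := by rw [← hord]; exact pow_orderOf_eq_one h
    have := congrArg (fun x : Matrix.GeneralLinearGroup (Fin n) ℤ => (x : Mat)) this
    simpa using this
  have h1 : (h : Mat) = 1 := by
    by_cases h3 : ℓ = 3
    · subst h3
      exact lemB _ hpow (red_aux _ hred)
    · have hcop : Nat.Coprime ℓ 3 := (Nat.coprime_primes hℓ Nat.prime_three).mpr h3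
      exact lemA _ ℓ hcop hpow (red_aux _ hred)
  have : h = 1 := Units.ext h1
  rw [this, orderOf_one] at hord
  exact hℓ.one_lt.ne hord

end aux

/-- For every n, the orders of the finite subgroups of GL_n(ℤ) are bounded: there is B such that every
finite subgroup of GL_n(ℤ) has at most B elements. -/
theorem result (n : ℕ) :
    ∃ B : ℕ, ∀ H : Subgroup (Matrix.GeneralLinearGroup (Fin n) ℤ), Finite H → Nat.card H ≤ B := by
  classical
  refine ⟨Nat.card (Matrix.GeneralLinearGroup (Fin n) (ZMod 3)), ?_⟩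
  intro H hH
  have hinj : Function.Injective (fun h : H =>
      Matrix.GeneralLinearGroup.map (Int.castRingHom (ZMod 3)) (h : Matrix.GeneralLinearGroup (Fin n) ℤ)) := by
    intro a b hab
    simp only at hab
    have h1 : Matrix.GeneralLinearGroup.map (Int.castRingHom (ZMod 3))
        ((a⁻¹ * b : H) : Matrix.GeneralLinearGroup (Fin n) ℤ) = 1 := by
      push_cast
      rw [map_mul, map_inv, hab, inv_mul_cancel]
    have hfin : IsOfFinOrder ((a⁻¹ * b : H) : Matrix.GeneralLinearGroup (Fin n) ℤ) := by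
      obtain ⟨m, hm, hpow⟩ := isOfFinOrder_iff_pow_eq_one.mp (isOfFinOrder_of_finite (a⁻¹ * b : H))
      refine isOfFinOrder_iff_pow_eq_one.mpr ⟨m, hm, ?_⟩
      have := congrArg (fun x : H => (x : Matrix.GeneralLinearGroup (Fin n) ℤ)) hpow
      simpa using this
    have := torsion_trivial _ hfin h1
    have h2 : (a⁻¹ * b : H) = 1 := Subtype.ext this
    exact (inv_mul_eq_one.mp h2)
  exact Nat.card_le_card_of_injective _ hinj

end Groth.Agent.S19590
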