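import Groth.Statements.S19591
import Mathlib.Tactic
import Mathlib.LinearAlgebra.Dimension.Finrank
import Mathlib.LinearAlgebra.FiniteDimensional.Lemmas
import Mathlib.FieldTheory.Perfect

set_option autoImplicit false
universe u v
open BddFin

namespace Groth.Agent.S19591

/-- Let K be a perfect field of characteristic 2, V a finite-dimensional K-vector space with dim V > 2
and q a quadratic form on V whose polar bilinear form is non-degenerate. Then q represents zero
non-trivially. (Non-degeneracy of the polar form, which is alternating in characteristic 2, forces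
dim V to be even, as the published lemma notes.) -/
theorem result
    (K : Type u) [Field K] [CharP K 2] [PerfectField K]
    (V : Type v) [AddCommGroup V] [Module K V] [FiniteDimensional K V]
    (hV : 2 < Module.finrank K V) (q : QuadraticForm K V)
    (hq : (QuadraticMap.polarBilin q).Nondegenerate) :
    ∃ v : V, v ≠ 0 ∧ q v = 0 := by
  classical
  have : Fact (Nat.Prime 2) := ⟨Nat.prime_two⟩
  have : ExpChar K 2 := ExpChar.prime Nat.prime_two
  have hsq : ∀ a : K, ∃ c : K, c * c = a := by
    intro a
    obtain ⟨c, hc⟩ := (frobeniusEquiv K 2).surjective a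
    refine ⟨c, ?_⟩
    rw [← hc]
    simp [frobeniusEquiv_apply, frobenius_def, pow_two]
  have h2 : (2 : K) = 0 := by
    have := CharP.cast_eq_zero K 2
    exact_mod_cast this
  -- pick a nonzero vector
  have hpos : 0 < Module.finrank K V := by omega
  have hnt : Nontrivial V := Module.nontrivial_of_finrank_pos (R := K) hpos
  obtain ⟨v, hv⟩ := exists_ne (0 : V)
  by_cases hqv : q v = 0
  · exact ⟨v, hv, hqv⟩
  -- the functional b(v, ·)
  set φ : V →ₗ[K] K := QuadraticMap.polarBilin q v with hφ
  have hker : 2 ≤ Module.finrank K (LinearMap.ker φ) := by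
    have h1 := LinearMap.finrank_range_add_finrank_ker φ
    have h3 : Module.finrank K (LinearMap.range φ) ≤ 1 := by
      have := Submodule.finrank_le (LinearMap.range φ)
      simpa using this
    omega
  have hex : ∃ w ∈ LinearMap.ker φ, w ∉ Submodule.span K {v} := by
    by_contra hcon
    push Not at hcon
    have hle : LinearMap.ker φ ≤ Submodule.span K {v} := hcon
    have h1 := Submodule.finrank_mono hle
    have h3 : Module.finrank K (Submodule.span K {v}) ≤ 1 := by
      have := finrank_span_le_card (R := K) ({v} : Set V)
      simpa using this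
    omega
  obtain ⟨w, hw, hwv⟩ := hex
  have hvw : QuadraticMap.polar q v w = 0 := by
    have : φ w = 0 := hw
    simpa [hφ] using this
  obtain ⟨c, hc⟩ := hsq (q w / q v)
  refine ⟨c • v + w, ?_, ?_⟩
  · intro h
    apply hwv
    have : w = (-c) • v := by
      rw [neg_smul]; exact eq_neg_of_add_eq_zero_right h
    rw [this]
    exact Submodule.smul_mem _ _ (Submodule.mem_span_singleton_self v)
  · have h1 : q (c • v + w) = q (c • v) + q w + QuadraticMap.polar q (c • v) w := by
      unfold QuadraticMap.polar; ring
    rw [h1, QuadraticMap.polar_smul_left, hvw, QuadraticMap.map_smul, hc]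
    simp only [smul_eq_mul, mul_zero, add_zero]
    rw [div_mul_cancel₀ _ hqv]
    have : q w + q w = 2 * q w := by ring
    rw [this, h2, zero_mul]

end Groth.Agent.S19591
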