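import Groth.Statements.S19602
import Groth.Agent.Lib.helper29.Orbit

set_option autoImplicit false
universe u
open GIT

namespace Groth.Agent.S19602

/-- Let k be an algebraically closed field, G = Spec A a linearly reductive affine algebraic group over
k, and U = Spec R an affine k-scheme of finite type on which G acts. Two k-points x₁, x₂ of U have
the same image in U//G = Spec R^G if and only if the closures of their orbits have a common k-point.
Stated in coaction form. The published statement allows any affine U and asks only that the two
orbit closures meet; this row assumes U of finite type over k and asks for a common k-point, which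
is then equivalent. -/
theorem result (k : Type u) [Field k] [IsAlgClosed k]
    (A : Type u) [CommRing A] [HopfAlgebra k A] [Algebra.FiniteType k A] (hG : HopfRep.IsLinearlyReductive k A)
    (R : Type u) [CommRing R] [Algebra k R] [Algebra.FiniteType k R] [HopfRep.Comod k A R] [GLin.IsCoactAlg k A R]
    (x₁ x₂ : R →ₐ[k] k) :
    x₁.comp (GLin.invariants k A R).val = x₂.comp (GLin.invariants k A R).val ↔
      ∃ z : R →ₐ[k] k, GLin.InOrbitClosure k A x₁ z ∧ GLin.InOrbitClosure k A x₂ z := by
  open Groth.Agent.Lib.helper29.Orbit in
  constructor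
  · intro h
    have hinv : ∀ f ∈ GLin.invariants k A R, x₁ f = x₂ f := fun f hf =>
      AlgHom.congr_fun h ⟨f, hf⟩
    by_cases htop : RingHom.ker (GLin.orbitHom k A x₁) ⊔ RingHom.ker (GLin.orbitHom k A x₂) = ⊤
    · exfalso
      obtain ⟨f, hf, hf1, hf2⟩ := exists_invariant_separating hG _ _
        (isSubcomod_ker_orbitHom x₁) (isSubcomod_ker_orbitHom x₂) htop
      have h1 : x₁ f = 0 := eval_eq_zero_of_mem_ker x₁ f hf hf1
      have h2 : x₂ (1 - f) = 0 :=
        eval_eq_zero_of_mem_ker x₂ (1 - f)
          ((GLin.invariants k A R).sub_mem (GLin.invariants k A R).one_mem hf) hf2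
      rw [map_sub, map_one, ← hinv f hf, h1, sub_zero] at h2
      exact one_ne_zero h2
    · obtain ⟨z, hz⟩ := exists_point_of_ne_top (k := k) _ htop
      exact ⟨z, le_trans le_sup_left hz, le_trans le_sup_right hz⟩
  · rintro ⟨z, hz1, hz2⟩
    apply AlgHom.ext
    intro f
    show x₁ (f : R) = x₂ (f : R)
    rw [← eval_eq_of_inOrbitClosure x₁ z hz1 f f.2, ← eval_eq_of_inOrbitClosure x₂ z hz2 f f.2]

end Groth.Agent.S19602
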