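import Groth.Statements.S19603
import Groth.Agent.Lib.helper29.Orbit
import Groth.Agent.Lib.helper29.Hilbert

set_option autoImplicit false
universe u
open GIT

namespace Groth.Agent.S19603

open Groth.Agent.Lib.helper29.Orbit Groth.Agent.Lib.helper29.Hilbert MvPolynomial
open Groth.Agent.Lib.helper28.ComodMod Groth.Agent.Lib.helper29.Reynolds

theorem isLin_of_isLinear (k : Type u) [Field k]
    (A : Type u) [CommRing A] [HopfAlgebra k A]
    (ι : Type u) [Fintype ι] [HopfRep.Comod k A (MvPolynomial ι k)] [GLin.IsCoactAlg k A (MvPolynomial ι k)]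
    (hlin : GLin.IsLinear k A ι) : IsLin k ι A := by
  intro i
  obtain ⟨m, hm⟩ := hlin i
  rw [hm]
  apply Submodule.sum_mem
  intro j _
  exact ⟨(⟨X j, isHomogeneous_X k j⟩ : homogeneousSubmodule ι k 1) ⊗ₜ[k] m j, by simp⟩

theorem aeval_zero_of_homogeneous {k : Type u} [Field k] {ι : Type u} (F : MvPolynomial ι k) (d : ℕ)
    (hd : 0 < d) (hF : F.IsHomogeneous d) : aeval (fun _ => (0 : k)) F = 0 := by
  rw [aeval_zero']
  have : constantCoeff F = 0 := by
    rw [constantCoeff_eq]
    apply IsHomogeneous.coeff_eq_zero hF
    rw [map_zero]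
    omega
  rw [this, map_zero]

theorem ker_zero_eq (k : Type u) [Field k] (ι : Type u) :
    (RingHom.ker (GLin.vecPt k ι (fun _ => (0 : k)))).restrictScalars k =
      ⨆ d : {d : ℕ // 0 < d}, homogeneousSubmodule ι k d := by
  apply le_antisymm
  · intro F hF
    have hF0 : aeval (fun _ => (0 : k)) F = 0 := hF
    rw [aeval_zero'] at hF0
    have hc : constantCoeff F = 0 := by simpa using hF0
    rw [← sum_homogeneousComponent F]
    apply Submodule.sum_mem
    intro i _
    rcases Nat.eq_zero_or_pos i with rfl | hi
    · rw [homogeneousComponent_zero, ← constantCoeff_eq, hc, map_zero]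
      exact Submodule.zero_mem _
    · exact Submodule.mem_iSup_of_mem (⟨i, hi⟩ : {d : ℕ // 0 < d}) (homogeneousComponent_mem i F)
  · apply iSup_le
    rintro ⟨d, hd⟩ F hF
    exact aeval_zero_of_homogeneous F d hd hF

/-- For the whole projective space U = P(V), let k be an algebraically closed field of arbitrary
characteristic and G = Spec A a linearly reductive affine algebraic group acting linearly on affine
ι-space, and let v be a vector. Then some invariant homogeneous polynomial of positive degree is
non-zero at v (the point of v is semistable) if and only if the origin is not in the closure of the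
orbit of v. -/
theorem result (k : Type u) [Field k] [IsAlgClosed k]
    (A : Type u) [CommRing A] [HopfAlgebra k A] [Algebra.FiniteType k A] (hG : HopfRep.IsLinearlyReductive k A)
    (ι : Type u) [Fintype ι] [HopfRep.Comod k A (MvPolynomial ι k)] [GLin.IsCoactAlg k A (MvPolynomial ι k)]
    (hlin : GLin.IsLinear k A ι) (v : ι → k) :
    GLin.IsSemistableVec k A v ↔
      ¬ GLin.InOrbitClosure k A (GLin.vecPt k ι v) (GLin.vecPt k ι (fun _ => (0 : k))) := by
  have hL : IsLin k ι A := isLin_of_isLinear k A ι hlin
  unfold GLin.IsSemistableVec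
  rw [not_iff_not]
  constructor
  · intro hnull
    by_contra hnot
    have hmax : (RingHom.ker (GLin.vecPt k ι (fun _ => (0 : k)))).IsMaximal :=
      RingHom.ker_isMaximal_of_surjective _ (fun c => ⟨C c, by simp⟩)
    have htop : RingHom.ker (GLin.orbitHom k A (GLin.vecPt k ι v)) ⊔
        RingHom.ker (GLin.vecPt k ι (fun _ => (0 : k))) = ⊤ := by
      by_contra hne
      have := hmax.eq_of_le hne le_sup_right
      apply hnot
      show RingHom.ker (GLin.orbitHom k A (GLin.vecPt k ι v)) ≤
        RingHom.ker (GLin.vecPt k ι (fun _ => (0 : k)))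
      rw [this]
      exact le_sup_left
    have hsub0 : HopfRep.IsSubcomod (k := k) (A := A)
        ((RingHom.ker (GLin.vecPt k ι (fun _ => (0 : k)))).restrictScalars k) := by
      rw [ker_zero_eq]
      exact isSubcomod_iSup _ (fun d => isSubcomod_homogeneous hL d)
    obtain ⟨f, hf, hf1, hf2⟩ := exists_invariant_separating hG _ _
      (isSubcomod_ker_orbitHom (GLin.vecPt k ι v)) hsub0 htop
    have h1 : GLin.vecPt k ι v f = 0 := eval_eq_zero_of_mem_ker _ f hf hf1
    have hg : (1 - f) ∈ GLin.invariants k A (MvPolynomial ι k) :=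
      (GLin.invariants k A _).sub_mem (GLin.invariants k A _).one_mem hf
    have h2 : GLin.vecPt k ι v (1 - f) = 1 := by rw [map_sub, map_one, h1, sub_zero]
    have h3 : GLin.vecPt k ι v (1 - f) = 0 := by
      rw [← sum_homogeneousComponent (1 - f), map_sum]
      apply Finset.sum_eq_zero
      intro i _
      rcases Nat.eq_zero_or_pos i with rfl | hi
      · have hc : aeval (fun _ => (0 : k)) (1 - f) = 0 := hf2
        rw [aeval_zero'] at hc
        have hc' : constantCoeff (1 - f) = 0 := by simpa using hc
        rw [homogeneousComponent_zero, ← constantCoeff_eq, hc', map_zero, map_zero]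
      · have := hnull (homogeneousComponent i (1 - f))
          (component_mem_fixedPts hG hL (1 - f) hg i) i hi (homogeneousComponent_isHomogeneous i _)
        rw [← this]
        rfl
    rw [h2] at h3
    exact one_ne_zero h3
  · intro hclo F hF d hd hFd
    have := eval_eq_of_inOrbitClosure _ _ hclo F hF
    have h0 : GLin.vecPt k ι (fun _ => (0 : k)) F = 0 := aeval_zero_of_homogeneous F d hd hFd
    rw [h0] at this
    exact this.symm

end Groth.Agent.S19603
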