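import Groth.Statements.S19606
import Mathlib
import Groth.Agent.Lib.helper9.QcohIso
import Groth.Agent.Lib.helper9.PushAff
import Groth.Agent.Lib.helper9.QcohLim

set_option autoImplicit false
universe u
open CategoryTheory CategoryTheory.Limits AlgebraicGeometry
open ClSub

namespace Groth.Agent.S19606

section Helpers

open Opposite TopologicalSpace

/-- sections of `toSubscheme I` over an open are `subschemeι.app`. -/
theorem toSub_app {X : Scheme.{u}} (I : X.IdealSheafData) (U : X.Opens) (a : Γ(X, U)) :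
    ((ClSub.toSubscheme I).val.app (op U)).hom a = (I.subschemeι.app U).hom a := rfl

theorem toSub_surj {X : Scheme.{u}} (I : X.IdealSheafData) (U : X.affineOpens) :
    Function.Surjective ((ClSub.toSubscheme I).val.app (op U.1)).hom :=
  I.subschemeι.app_surjective U.1 U.2

theorem toSub_eq_zero_iff {X : Scheme.{u}} (I : X.IdealSheafData) (U : X.affineOpens) (a : Γ(X, U.1)) :
    ((ClSub.toSubscheme I).val.app (op U.1)).hom a = 0 ↔ a ∈ I.ideal U := by
  rw [toSub_app, ← I.ker_subschemeι_app U, RingHom.mem_ker]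
  exact Iff.rfl

/-- `toSubscheme I` is an epimorphism. -/
theorem epi_toSub {X : Scheme.{u}} (I : X.IdealSheafData) : Epi (ClSub.toSubscheme I) := by
  have hepi : Epi ((SheafOfModules.toSheaf _).map (ClSub.toSubscheme I)) := by
    refine (CategoryTheory.Sheaf.isLocallySurjective_iff_epi' _ _).mp ?_
    refine (TopCat.Presheaf.isLocallySurjective_iff (X := X.carrier) _).mpr ?_
    intro V t x hx
    obtain ⟨_, ⟨W, hW, rfl⟩, hxW, hWV⟩ :=
      (X.isBasis_affineOpens).exists_subset_of_mem_open hx V.isOpen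
    refine ⟨W, hWV, ?_, hxW⟩
    obtain ⟨s, hs⟩ := toSub_surj I ⟨W, hW⟩ (TopCat.Presheaf.restrictOpen t W hWV)
    exact ⟨s, hs⟩
  exact (SheafOfModules.toSheaf _).epi_of_epi_map hepi


section Main

variable {X : Scheme.{u}} (I₁ I₂ : X.IdealSheafData)
    (q₁ : ClSub.quotMod I₁ ⟶ ClSub.quotMod (I₁ ⊔ I₂)) (q₂ : ClSub.quotMod I₂ ⟶ ClSub.quotMod (I₁ ⊔ I₂))
    (hq₁ : ClSub.toSubscheme I₁ ≫ q₁ = ClSub.toSubscheme (I₁ ⊔ I₂))
    (hq₂ : ClSub.toSubscheme I₂ ≫ q₂ = ClSub.toSubscheme (I₁ ⊔ I₂))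

include hq₁ in
theorem part1 : Epi (biprod.desc q₁ (-q₂)) := by
  haveI := epi_toSub (I₁ ⊔ I₂)
  haveI : Epi q₁ := by
    haveI : Epi (ClSub.toSubscheme I₁ ≫ q₁) := by rw [hq₁]; infer_instance
    exact epi_of_epi (ClSub.toSubscheme I₁) q₁
  haveI : Epi (biprod.inl ≫ biprod.desc q₁ (-q₂)) := by rw [biprod.inl_desc]; infer_instance
  exact epi_of_epi biprod.inl _

include hq₁ hq₂ in
theorem part2 : biprod.lift (ClSub.toSubscheme I₁) (ClSub.toSubscheme I₂) ≫ biprod.desc q₁ (-q₂) = 0 := by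
  rw [biprod.lift_desc, hq₁, Preadditive.comp_neg, hq₂, add_neg_cancel]

end Main


noncomputable def unitPresentation {C : Type u} [SmallCategory C] {J : GrothendieckTopology C}
    (R : Sheaf J RingCat.{u}) [HasWeakSheafify J AddCommGrpCat.{u}]
    [J.WEqualsLocallyBijective AddCommGrpCat.{u}] [J.HasSheafCompose (forget₂ RingCat.{u} AddCommGrpCat.{u})] :
    (SheafOfModules.unit R).Presentation := by
  let g : SheafOfModules.free (R := R) PUnit.{u + 1} ⟶ SheafOfModules.unit R :=
    (coproductUniqueIso (fun _ : PUnit.{u + 1} => SheafOfModules.unit R)).hom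
  haveI : IsIso g := by dsimp only [g]; infer_instance
  refine SheafOfModules.presentationOfIsCokernelFree (ι := PEmpty.{u + 1}) (σ := PUnit.{u + 1})
    (0 : SheafOfModules.free PEmpty.{u + 1} ⟶ SheafOfModules.free PUnit.{u + 1}) g zero_comp ?_
  exact CokernelCofork.IsColimit.ofπ g _ (fun g' _ => inv g ≫ g')
    (fun g' _ => by rw [IsIso.hom_inv_id_assoc])
    (fun g' _ m hm => by rw [← hm, IsIso.inv_hom_id_assoc])


instance qcoh_structureModule (X : Scheme.{u}) : (Coh.structureModule X).IsQuasicoherent :=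
  (unitPresentation X.ringCatSheaf).isQuasicoherent

section Main3

open Scheme.Modules

variable {X : Scheme.{u}} (I₁ I₂ : X.IdealSheafData)
    (q₁ : ClSub.quotMod I₁ ⟶ ClSub.quotMod (I₁ ⊔ I₂)) (q₂ : ClSub.quotMod I₂ ⟶ ClSub.quotMod (I₁ ⊔ I₂))
    (hq₁ : ClSub.toSubscheme I₁ ≫ q₁ = ClSub.toSubscheme (I₁ ⊔ I₂))
    (hq₂ : ClSub.toSubscheme I₂ ≫ q₂ = ClSub.toSubscheme (I₁ ⊔ I₂))

instance qcoh_quotMod (I : X.IdealSheafData) : (ClSub.quotMod I).IsQuasicoherent := by
  exact Groth.Agent.Lib.helper9.PushAff.isQuasicoherent_pushforward I.subschemeι _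

include hq₁ hq₂ in
set_option backward.isDefEq.respectTransparency false in
theorem part3 (h : I₁ ⊓ I₂ = ⊥)
    (w : biprod.lift (ClSub.toSubscheme I₁) (ClSub.toSubscheme I₂) ≫ biprod.desc q₁ (-q₂) = 0) :
    Nonempty (IsLimit (KernelFork.ofι (biprod.lift (ClSub.toSubscheme I₁) (ClSub.toSubscheme I₂)) w)) := by
  set d := biprod.desc q₁ (-q₂) with hd
  set l := biprod.lift (ClSub.toSubscheme I₁) (ClSub.toSubscheme I₂) with hl
  let κ : Coh.structureModule X ⟶ kernel d := kernel.lift d l w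
  have hκ : κ ≫ kernel.ι d = l := kernel.lift_ι _ _ _
  haveI : (ClSub.quotMod I₁ ⊞ ClSub.quotMod I₂).IsQuasicoherent :=
    Groth.Agent.Lib.helper9.QcohLim.isQuasicoherent_biprod _ _
  haveI : (kernel d).IsQuasicoherent := Groth.Agent.Lib.helper9.QcohLocal.isQuasicoherent_kernel d
  haveI hiso : IsIso κ := by
    apply Groth.Agent.Lib.helper9.QcohIso.isIso_of_app_bijective
    intro x
    obtain ⟨_, ⟨W, hW, rfl⟩, hxW, -⟩ :=
      (X.isBasis_affineOpens).exists_subset_of_mem_open (Set.mem_univ x) isOpen_univ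
    refine ⟨W, hW, hxW, ?_⟩
    have hbij : Function.Bijective ((κ.val.app (op W)).hom) := by
      let Wa : X.affineOpens := ⟨W, hW⟩
      -- section-level maps
      have hfst : ∀ a, ((biprod.fst : ClSub.quotMod I₁ ⊞ ClSub.quotMod I₂ ⟶ _).val.app (op W)).hom
          ((l.val.app (op W)).hom a) = ((ClSub.toSubscheme I₁).val.app (op W)).hom a := by
        intro a
        have := congrArg (fun m => (m.val.app (op W)).hom a)
          (biprod.lift_fst (ClSub.toSubscheme I₁) (ClSub.toSubscheme I₂))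
        exact this
      have hsnd : ∀ a, ((biprod.snd : ClSub.quotMod I₁ ⊞ ClSub.quotMod I₂ ⟶ _).val.app (op W)).hom
          ((l.val.app (op W)).hom a) = ((ClSub.toSubscheme I₂).val.app (op W)).hom a := by
        intro a
        have := congrArg (fun m => (m.val.app (op W)).hom a)
          (biprod.lift_snd (ClSub.toSubscheme I₁) (ClSub.toSubscheme I₂))
        exact this
      have hκl : ∀ a, ((kernel.ι d).val.app (op W)).hom ((κ.val.app (op W)).hom a) =
          (l.val.app (op W)).hom a := by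
        intro a
        have := congrArg (fun m => (m.val.app (op W)).hom a) hκ
        exact this
      have hinj_ι : Function.Injective ((kernel.ι d).val.app (op W)).hom :=
        Groth.Agent.Lib.helper9.ZC.app_injective_of_mono (kernel.ι d) W
      have htotal : ∀ y : ((ClSub.quotMod I₁ ⊞ ClSub.quotMod I₂).val.obj (op W)),
          y = ((biprod.inl : ClSub.quotMod I₁ ⟶ ClSub.quotMod I₁ ⊞ ClSub.quotMod I₂).val.app (op W)).hom
              (((biprod.fst : ClSub.quotMod I₁ ⊞ ClSub.quotMod I₂ ⟶ _).val.app (op W)).hom y) +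
            ((biprod.inr : ClSub.quotMod I₂ ⟶ ClSub.quotMod I₁ ⊞ ClSub.quotMod I₂).val.app (op W)).hom
              (((biprod.snd : ClSub.quotMod I₁ ⊞ ClSub.quotMod I₂ ⟶ _).val.app (op W)).hom y) := by
        intro y
        have := congrArg (fun m => (m.val.app (op W)).hom y)
          (biprod.total (X := ClSub.quotMod I₁) (Y := ClSub.quotMod I₂))
        exact this.symm
      have hd_inl : ∀ u, (d.val.app (op W)).hom
          (((biprod.inl : ClSub.quotMod I₁ ⟶ ClSub.quotMod I₁ ⊞ ClSub.quotMod I₂).val.app (op W)).hom u) =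
          (q₁.val.app (op W)).hom u := by
        intro u
        have := congrArg (fun m => (m.val.app (op W)).hom u) (biprod.inl_desc q₁ (-q₂))
        exact this
      have hd_inr : ∀ v, (d.val.app (op W)).hom
          (((biprod.inr : ClSub.quotMod I₂ ⟶ ClSub.quotMod I₁ ⊞ ClSub.quotMod I₂).val.app (op W)).hom v) =
          ((-q₂).val.app (op W)).hom v := by
        intro v
        have := congrArg (fun m => (m.val.app (op W)).hom v) (biprod.inr_desc q₁ (-q₂))
        exact this
      have hq1W : ∀ a, (q₁.val.app (op W)).hom (((ClSub.toSubscheme I₁).val.app (op W)).hom a) =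
          ((ClSub.toSubscheme (I₁ ⊔ I₂)).val.app (op W)).hom a := by
        intro a
        have := congrArg (fun m => (m.val.app (op W)).hom a) hq₁
        exact this
      have hq2W : ∀ a, ((-q₂).val.app (op W)).hom (((ClSub.toSubscheme I₂).val.app (op W)).hom a) =
          -(((ClSub.toSubscheme (I₁ ⊔ I₂)).val.app (op W)).hom a) := by
        intro a
        have h0 : ClSub.toSubscheme I₂ ≫ (-q₂) = -ClSub.toSubscheme (I₁ ⊔ I₂) := by
          rw [Preadditive.comp_neg, hq₂]
        have := congrArg (fun m => (m.val.app (op W)).hom a) h0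
        exact this
      have hcond : ∀ z, (d.val.app (op W)).hom (((kernel.ι d).val.app (op W)).hom z) = 0 := by
        intro z
        have := congrArg (fun m => (m.val.app (op W)).hom z) (kernel.condition d)
        exact this
      constructor
      · intro a a' haa
        have h1 : (l.val.app (op W)).hom a = (l.val.app (op W)).hom a' := by
          rw [← hκl, ← hκl, haa]
        have h2 : ((ClSub.toSubscheme I₁).val.app (op W)).hom (a - a') = 0 := by
          rw [map_sub, ← hfst, ← hfst, h1, sub_self]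
        have h3 : ((ClSub.toSubscheme I₂).val.app (op W)).hom (a - a') = 0 := by
          rw [map_sub, ← hsnd, ← hsnd, h1, sub_self]
        have h4 : a - a' ∈ (I₁ ⊓ I₂).ideal Wa := by
          rw [Scheme.IdealSheafData.ideal_inf]
          exact ⟨(toSub_eq_zero_iff I₁ Wa _).mp h2, (toSub_eq_zero_iff I₂ Wa _).mp h3⟩
        rw [h, Scheme.IdealSheafData.ideal_bot] at h4
        exact sub_eq_zero.mp h4
      · intro z
        set y := ((kernel.ι d).val.app (op W)).hom z with hy
        obtain ⟨a₁, ha₁⟩ := toSub_surj I₁ Wa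
          (((biprod.fst : ClSub.quotMod I₁ ⊞ ClSub.quotMod I₂ ⟶ _).val.app (op W)).hom y)
        obtain ⟨a₂, ha₂⟩ := toSub_surj I₂ Wa
          (((biprod.snd : ClSub.quotMod I₁ ⊞ ClSub.quotMod I₂ ⟶ _).val.app (op W)).hom y)
        have h0 : (d.val.app (op W)).hom y = 0 := hcond z
        rw [htotal y, map_add, hd_inl, hd_inr, ← ha₁, ← ha₂, hq1W, hq2W, ← sub_eq_add_neg,
          ← map_sub] at h0
        have h5 : a₁ - a₂ ∈ (I₁ ⊔ I₂).ideal Wa := (toSub_eq_zero_iff (I₁ ⊔ I₂) Wa _).mp h0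
        rw [Scheme.IdealSheafData.ideal_sup] at h5
        obtain ⟨i₁, hi₁, i₂, hi₂, hsum⟩ := Submodule.mem_sup.mp h5
        refine ⟨a₁ - i₁, ?_⟩
        apply hinj_ι
        rw [hκl]
        have e1 : ((ClSub.toSubscheme I₁).val.app (op W)).hom (a₁ - i₁) =
            ((biprod.fst : ClSub.quotMod I₁ ⊞ ClSub.quotMod I₂ ⟶ _).val.app (op W)).hom y := by
          rw [map_sub, (toSub_eq_zero_iff I₁ Wa i₁).mpr hi₁, sub_zero, ha₁]
        have e2 : ((ClSub.toSubscheme I₂).val.app (op W)).hom (a₁ - i₁) =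
            ((biprod.snd : ClSub.quotMod I₁ ⊞ ClSub.quotMod I₂ ⟶ _).val.app (op W)).hom y := by
          have : a₁ - i₁ = a₂ + i₂ := by
            calc a₁ - i₁ = (a₁ - a₂) + a₂ - i₁ := by abel
              _ = (i₁ + i₂) + a₂ - i₁ := by rw [hsum]
              _ = a₂ + i₂ := by abel
          rw [this, map_add, (toSub_eq_zero_iff I₂ Wa i₂).mpr hi₂, add_zero, ha₂]
        rw [htotal ((l.val.app (op W)).hom (a₁ - i₁)), hfst, hsnd, e1, e2, ← htotal y]
    exact hbij
  refine ⟨IsLimit.ofIsoLimit (kernelIsKernel d) (Fork.ext (asIso κ).symm ?_)⟩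
  show inv κ ≫ l = kernel.ι d
  rw [← hκ, IsIso.inv_hom_id_assoc]

end Main3

end Helpers


/-- Let X be a scheme and I₁, I₂ quasi-coherent ideal sheaves with I₁ ⊓ I₂ = 0, cutting out closed
subschemes X₁, X₂ and X₁ ∩ X₂ (ideal I₁ + I₂). Then 0 → O_X → O_X/I₁ ⊕ O_X/I₂ → O_X/(I₁ + I₂) → 0 is
an exact sequence of O_X-modules, the maps being the two restrictions and the difference of the
restrictions q₁, q₂ (the module maps compatible with the quotient maps from O_X). The published
statement is for a locally free sheaf E on a reduced scheme with two irreducible components X₁, X₂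
(whose ideals meet in zero); this row is the case E = O_X for any two ideals with zero intersection,
which is what the local argument uses. -/
theorem result (X : Scheme.{u}) (I₁ I₂ : X.IdealSheafData)
    (h : I₁ ⊓ I₂ = ⊥)
    (q₁ : ClSub.quotMod I₁ ⟶ ClSub.quotMod (I₁ ⊔ I₂)) (q₂ : ClSub.quotMod I₂ ⟶ ClSub.quotMod (I₁ ⊔ I₂))
    (hq₁ : ClSub.toSubscheme I₁ ≫ q₁ = ClSub.toSubscheme (I₁ ⊔ I₂))
    (hq₂ : ClSub.toSubscheme I₂ ≫ q₂ = ClSub.toSubscheme (I₁ ⊔ I₂)) :
    Epi (biprod.desc q₁ (-q₂)) ∧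
      ∃ w : biprod.lift (ClSub.toSubscheme I₁) (ClSub.toSubscheme I₂) ≫ biprod.desc q₁ (-q₂) = 0,
        Nonempty (IsLimit (KernelFork.ofι (biprod.lift (ClSub.toSubscheme I₁) (ClSub.toSubscheme I₂)) w)) := by
  exact ⟨part1 I₁ I₂ q₁ q₂ hq₁, part2 I₁ I₂ q₁ q₂ hq₁ hq₂,
    part3 I₁ I₂ q₁ q₂ hq₁ hq₂ h (part2 I₁ I₂ q₁ q₂ hq₁ hq₂)⟩

end Groth.Agent.S19606
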