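import Groth.Statements.S19609
import Mathlib.Tactic

set_option autoImplicit false
universe u
open CartMod

namespace Groth.Agent.S19609

section aux

theorem smul_top_eq_aux {R : Type u} [CommRing R] (x : R) (n : ℕ) :
    ((Ideal.span {x}) ^ n • ⊤ : Submodule R R) = Ideal.span {x ^ n} := by
  rw [smul_eq_mul, Ideal.mul_top, Ideal.span_singleton_pow]

theorem haus_aux {R : Type u} [CommRing R] (x : R) [IsAdicComplete (Ideal.span {x}) R] (a : R)
    (h : ∀ n : ℕ, a ∈ Ideal.span {x ^ n}) : a = 0 := by
  apply IsHausdorff.haus (inferInstance : IsHausdorff (Ideal.span {x}) R)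
  intro n
  rw [SModEq.zero, smul_top_eq_aux]
  exact h n

theorem prec_aux {R : Type u} [CommRing R] (x : R) [IsAdicComplete (Ideal.span {x}) R] (f : ℕ → R)
    (h : ∀ n : ℕ, f (n + 1) - f n ∈ Ideal.span {x ^ n}) :
    ∃ L : R, ∀ n, L - f n ∈ Ideal.span {x ^ n} := by
  have hmn : ∀ m n, m ≤ n → f n - f m ∈ Ideal.span {x ^ m} := by
    intro m n hmn
    induction n, hmn using Nat.le_induction with
    | base => simp
    | succ n hmn ih =>
      have h1 : f (n + 1) - f n ∈ Ideal.span {x ^ m} := by
        have := h n
        rw [Ideal.mem_span_singleton] at this ⊢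
        exact (pow_dvd_pow x hmn).trans this
      have : f (n + 1) - f m = (f (n + 1) - f n) + (f n - f m) := by ring
      rw [this]
      exact Ideal.add_mem _ h1 ih
  obtain ⟨L, hL⟩ := IsPrecomplete.prec (inferInstance : IsPrecomplete (Ideal.span {x}) R) (f := f) (by
    intro m n hmn'
    rw [SModEq.sub_mem, smul_top_eq_aux]
    have := hmn m n hmn'
    rw [← Ideal.neg_mem_iff] at this
    simpa using this)
  refine ⟨L, fun n => ?_⟩
  have := hL n
  rw [SModEq.sub_mem, smul_top_eq_aux] at this
  rw [← Ideal.neg_mem_iff]
  simpa using this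

end aux

/-- Let p be a prime and u : A → B a ring homomorphism between commutative rings which are complete and
separated for the p-adic topology and have no p-torsion (flat over the p-adic base). If u induces a
bijection A/pA → B/pB (injectivity: u a ∈ pB forces a ∈ pA; surjectivity: every b ∈ B is congruent
to some u a modulo pB), then u is bijective. (The published statement is for a morphism of flat
p-adic formal schemes over the Witt vectors of a perfect field: if its special fibre is an
isomorphism, so is the morphism; this row is its affine, ring-level case.) -/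
theorem result (p : ℕ) [Fact p.Prime]
    {A B : Type u} [CommRing A] [CommRing B]
    [IsAdicComplete (Ideal.span {(p : A)}) A] [IsAdicComplete (Ideal.span {(p : B)}) B]
    (hA : IsSMulRegular A (p : A)) (hB : IsSMulRegular B (p : B)) (u : A →+* B)
    (hinj : ∀ a : A, u a ∈ Ideal.span {(p : B)} → a ∈ Ideal.span {(p : A)})
    (hsurj : ∀ b : B, ∃ a : A, b - u a ∈ Ideal.span {(p : B)}) :
    Function.Bijective u := by
  have hup : ∀ n : ℕ, ∀ a : A, a ∈ Ideal.span {(p : A) ^ n} → u a ∈ Ideal.span {(p : B) ^ n} := by
    intro n a ha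
    rw [Ideal.mem_span_singleton] at ha ⊢
    obtain ⟨c, rfl⟩ := ha
    exact ⟨u c, by simp⟩
  constructor
  · -- injective
    rw [injective_iff_map_eq_zero]
    intro a ha
    apply haus_aux (p : A)
    intro n
    induction n generalizing a with
    | zero => simp
    | succ n ih =>
      have h1 : a ∈ Ideal.span {(p : A)} := hinj a (by rw [ha]; exact Ideal.zero_mem _)
      rw [Ideal.mem_span_singleton] at h1
      obtain ⟨c, rfl⟩ := h1
      have hc : u c = 0 := by
        have : (p : B) • u c = (p : B) • 0 := by
          simp only [smul_eq_mul, mul_zero]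
          rw [← ha]; simp
        exact hB this
      have := ih c hc
      rw [Ideal.mem_span_singleton] at this ⊢
      rw [pow_succ']
      exact mul_dvd_mul_left _ this
  · -- surjective
    intro b
    -- build the sequence
    have step : ∀ n : ℕ, ∀ s : A, b - u s ∈ Ideal.span {(p : B) ^ n} →
        ∃ s' : A, s' - s ∈ Ideal.span {(p : A) ^ n} ∧ b - u s' ∈ Ideal.span {(p : B) ^ (n + 1)} := by
      intro n s hs
      rw [Ideal.mem_span_singleton] at hs
      obtain ⟨c, hc⟩ := hs
      obtain ⟨a, ha⟩ := hsurj c
      refine ⟨s + (p : A) ^ n * a, ?_, ?_⟩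
      · rw [Ideal.mem_span_singleton]; exact ⟨a, by ring⟩
      · rw [Ideal.mem_span_singleton] at ha ⊢
        obtain ⟨d, hd⟩ := ha
        refine ⟨d, ?_⟩
        have : b - u (s + (p : A) ^ n * a) = (b - u s) - (p : B) ^ n * u a := by
          simp [map_add, map_mul, map_pow]; ring
        rw [this, hc, pow_succ, mul_assoc, ← hd]; ring
    choose! nxt hnxt1 hnxt2 using step
    let f : ℕ → A := fun n => Nat.rec (motive := fun _ => A) 0 (fun n s => nxt n s) n
    have hf0 : f 0 = 0 := rfl
    have hfs : ∀ n, f (n + 1) = nxt n (f n) := fun n => rfl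
    have hfb : ∀ n, b - u (f n) ∈ Ideal.span {(p : B) ^ n} := by
      intro n
      induction n with
      | zero => simp
      | succ n ih => rw [hfs]; exact hnxt2 n (f n) ih
    have hfc : ∀ n, f (n + 1) - f n ∈ Ideal.span {(p : A) ^ n} := by
      intro n
      rw [hfs]; exact hnxt1 n (f n) (hfb n)
    obtain ⟨L, hL⟩ := prec_aux (p : A) f hfc
    refine ⟨L, ?_⟩
    have : u L - b = 0 := by
      apply haus_aux (p : B)
      intro n
      have h1 := hup n _ (hL n)
      have h2 := hfb n
      have : u L - b = u (L - f n) - (b - u (f n)) := by rw [map_sub]; ring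
      rw [this]
      exact Ideal.sub_mem _ h1 h2
    exact sub_eq_zero.mp this

end Groth.Agent.S19609
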