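import Groth.Statements.S19610
import Mathlib
import Groth.Agent.Lib.helper24.NilFlat2
import Groth.Agent.Lib.helper21.LocalCrit

set_option autoImplicit false
universe u
open scoped TensorProduct
open CartMod

namespace Groth.Agent.S19610

open Pointwise in
theorem aux {A B : Type u} [CommRing A] [CommRing B] [Algebra A B] (J : Ideal A) (t : A) (n : ℕ)
    (hn : 1 ≤ n) (hJ : J = Ideal.span {t ^ n}) (hB : IsSMulRegular B (algebraMap A B t))
    (h : Module.Flat (A ⧸ Ideal.span {t}) ((A ⧸ Ideal.span {t}) ⊗[A] B)) :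
    Module.Flat (A ⧸ J) ((A ⧸ J) ⊗[A] B) := by
  let In : Ideal (A ⧸ J) := Ideal.span {Ideal.Quotient.mk J t}
  have hpn : (Ideal.Quotient.mk J t) ^ n = 0 := by
    rw [← map_pow, Ideal.Quotient.eq_zero_iff_mem, hJ]
    exact Ideal.mem_span_singleton_self _
  have hnil : IsNilpotent In := by
    refine ⟨n, ?_⟩
    show (Ideal.span {Ideal.Quotient.mk J t}) ^ n = 0
    rw [Ideal.span_singleton_pow, hpn, Ideal.zero_eq_bot, Ideal.span_singleton_eq_bot]
  -- flatness over the residue ring
  let φ : (A ⧸ Ideal.span {t}) →+* ((A ⧸ J) ⧸ In) :=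
    Ideal.Quotient.lift (Ideal.span {t}) (algebraMap A ((A ⧸ J) ⧸ In)) (by
      intro a ha
      obtain ⟨c, rfl⟩ := Ideal.mem_span_singleton'.mp ha
      rw [map_mul, IsScalarTower.algebraMap_eq A (A ⧸ J) ((A ⧸ J) ⧸ In)]
      have : (algebraMap (A ⧸ J) ((A ⧸ J) ⧸ In)) (algebraMap A (A ⧸ J) t) = 0 := by
        rw [Ideal.Quotient.algebraMap_eq, Ideal.Quotient.eq_zero_iff_mem]
        exact Ideal.mem_span_singleton_self _
      rw [RingHom.comp_apply, RingHom.comp_apply, this, mul_zero])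
  letI : Algebra (A ⧸ Ideal.span {t}) ((A ⧸ J) ⧸ In) := φ.toAlgebra
  haveI : IsScalarTower A (A ⧸ Ideal.span {t}) ((A ⧸ J) ⧸ In) :=
    IsScalarTower.of_algebraMap_eq (fun x => rfl)
  haveI h1 : Module.Flat ((A ⧸ J) ⧸ In) (((A ⧸ J) ⧸ In) ⊗[A] B) :=
    Groth.Agent.Lib.helper24.NilFlat.flat_baseChange_of_flat_baseChange A
      (A ⧸ Ideal.span {t}) ((A ⧸ J) ⧸ In) B
  haveI h2 : Module.Flat ((A ⧸ J) ⧸ In) (((A ⧸ J) ⧸ In) ⊗[A ⧸ J] ((A ⧸ J) ⊗[A] B)) :=
    Groth.Agent.Lib.helper24.NilFlat.flat_baseChange_baseChange A (A ⧸ J) ((A ⧸ J) ⧸ In) B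
  refine Groth.Agent.Lib.helper24.NilFlat.flat_of_isNilpotent In ((A ⧸ J) ⊗[A] B) hnil ?_
  rw [Groth.Agent.Lib.helper24.NilFlat.rTensor_baseChange_injective_iff (R := A) (A ⧸ J) B In.subtype]
  rw [injective_iff_map_eq_zero]
  intro z hz
  let p' : In := ⟨Ideal.Quotient.mk J t, Ideal.mem_span_singleton_self _⟩
  have hz' : ∃ b : B, z = p' ⊗ₜ[A] b := by
    clear hz
    induction z using TensorProduct.induction_on with
    | zero => exact ⟨0, by rw [TensorProduct.tmul_zero]⟩
    | tmul x b =>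
      obtain ⟨x, hx⟩ := x
      obtain ⟨r, rfl⟩ := Ideal.mem_span_singleton'.mp hx
      obtain ⟨a, rfl⟩ := Ideal.Quotient.mk_surjective r
      refine ⟨a • b, ?_⟩
      rw [← TensorProduct.smul_tmul]
      congr 1
    | add x y hx hy =>
      obtain ⟨b1, rfl⟩ := hx
      obtain ⟨b2, rfl⟩ := hy
      exact ⟨b1 + b2, by rw [TensorProduct.tmul_add]⟩
  obtain ⟨b, rfl⟩ := hz'
  rw [LinearMap.rTensor_tmul] at hz
  have e1 : ((In.subtype.restrictScalars A) p' : A ⧸ J) = t • (1 : A ⧸ J) := by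
    show Ideal.Quotient.mk J t = _
    rw [Algebra.smul_def, mul_one]; rfl
  rw [e1, TensorProduct.smul_tmul, Groth.Agent.H21.one_tmul_eq_zero_iff, hJ,
    Submodule.ideal_span_singleton_smul] at hz
  obtain ⟨b'', -, hb''⟩ := (Submodule.mem_smul_pointwise_iff_exists _ _ _).mp hz
  obtain ⟨m, rfl⟩ : ∃ m, n = m + 1 := ⟨n - 1, by omega⟩
  have hb : b = t ^ m • b'' := by
    apply hB
    show algebraMap A B t • b = algebraMap A B t • (t ^ m • b'')
    rw [algebraMap_smul, algebraMap_smul, smul_smul, ← pow_succ', hb'']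
  rw [hb, ← TensorProduct.smul_tmul]
  have : t ^ m • p' = 0 := by
    apply Subtype.ext
    show t ^ m • (Ideal.Quotient.mk J t) = 0
    rw [Algebra.smul_def, Ideal.Quotient.algebraMap_eq, map_pow, ← pow_succ, hpn]
  rw [this, TensorProduct.zero_tmul]

/-- Let p be a prime and B a commutative algebra over the commutative ring A, both complete and
separated for the p-adic topology and both without p-torsion (flat over the p-adic base). If B/pB is
flat over A/pA, then B/p^nB is flat over A/p^nA for every n ≥ 1 (the quotients are written as base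
changes (A/p^n) ⊗_A B). (The published statement is for a morphism of flat p-adic formal schemes
over the Witt vectors of a perfect field: if its special fibre is flat, so are the induced morphisms
of schemes modulo every power of p; this row is its affine, ring-level case.) -/
theorem result (p : ℕ) [Fact p.Prime]
    {A B : Type u} [CommRing A] [CommRing B] [Algebra A B]
    [IsAdicComplete (Ideal.span {(p : A)}) A] [IsAdicComplete (Ideal.span {(p : B)}) B]
    (hA : IsSMulRegular A (p : A)) (hB : IsSMulRegular B (p : B))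
    (h : Module.Flat (A ⧸ Ideal.span {(p : A)}) ((A ⧸ Ideal.span {(p : A)}) ⊗[A] B))
    (n : ℕ) (hn : 1 ≤ n) :
    Module.Flat (A ⧸ (Ideal.span {(p : A)} ^ n)) ((A ⧸ (Ideal.span {(p : A)} ^ n)) ⊗[A] B) := by
  refine aux _ (p : A) n hn (Ideal.span_singleton_pow _ _) ?_ h
  rw [map_natCast]
  exact hB

end Groth.Agent.S19610
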