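import Groth.Statements.S19611
import Mathlib

set_option autoImplicit false
universe u
open CategoryTheory AlgebraicGeometry
open CartMod

namespace Groth.Agent.S19611aux

set_option backward.isDefEq.respectTransparency false in
theorem main (p : ℕ) [Fact p.Prime] (Y : Scheme.{u}) [FrobSch.IsCharP Y p] :
    Epi (FrobSch.frob Y p).toImage := by
  set f := FrobSch.frob Y p with hf
  have hqc : QuasiCompact f := ⟨fun U hU hc => hc⟩
  have hcomp : f.toImage ≫ f.imageι = f := f.toImage_imageι
  have hpt : ∀ x : Y, f.imageι (f.toImage x) = x := by
    intro x
    change (f.toImage ≫ f.imageι) x = x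
    rw [hcomp]
    rfl
  have hsurj : Function.Surjective f.toImage := by
    intro y
    refine ⟨f.imageι y, ?_⟩
    apply f.imageι.isEmbedding.injective
    exact hpt _
  have hind : Topology.IsInducing f.toImage := by
    refine Topology.IsInducing.of_comp f.toImage.continuous f.imageι.continuous ?_
    have : (f.imageι ∘ f.toImage : Y → Y) = id := funext hpt
    rw [this]
    exact Topology.IsInducing.id
  apply CategoryTheory.Functor.epi_of_epi_map (Scheme.forgetToLocallyRingedSpace)
  apply CategoryTheory.Functor.epi_of_epi_map (LocallyRingedSpace.forgetToSheafedSpace)
  apply SheafedSpace.epi_of_base_surjective_of_stalk_mono _ hsurj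
  intro x
  apply ConcreteCategory.mono_of_injective
  change Function.Injective (CommRingCat.Hom.hom (((TopCat.Presheaf.stalkFunctor CommRingCat
      (f.toImage x)).map f.toImage.c) ≫ Y.presheaf.stalkPushforward _ _ x))
  simp only [TopCat.Presheaf.stalkFunctor_obj, CommRingCat.hom_comp, RingHom.coe_comp]
  refine .comp ?_ (f.stalkFunctor_toImage_injective _)
  have := TopCat.Presheaf.stalkPushforward.stalkPushforward_iso_of_isInducing CommRingCat
      (f := f.toImage.base) hind Y.presheaf x
  exact ((ConcreteCategory.isIso_iff_bijective _).mp this).1

end Groth.Agent.S19611aux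

namespace Groth.Agent.S19611

/-- For a prime p and a scheme Y of characteristic p, write Y♭ for the scheme-theoretic image of the
absolute Frobenius F_Y : Y → Y, i.e. the closed subscheme of Y defined by the sections of O_Y whose
p-th power vanishes, and Y → Y♭ for the canonical morphism through which F_Y factors. Then Y → Y♭ is
an epimorphism of schemes: two morphisms g₁, g₂ from Y♭ to a scheme Z with equal composites Y → Y♭ →
Z are equal. (The published statement is for k-morphisms g₁, g₂ from Y♭ to a k-scheme Z over a
perfect field k of characteristic p, compared after Frobenius twist through Y → (Y♭)'; this row asks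
right-cancellation against morphisms to every scheme Z, which is equivalent to it for k-morphisms.) -/
theorem result (p : ℕ) [Fact p.Prime] (Y : Scheme.{u}) [FrobSch.IsCharP Y p] :
    Epi (FrobSch.frob Y p).toImage := by
  exact Groth.Agent.S19611aux.main p Y

end Groth.Agent.S19611
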