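import Groth.Statements.S19612
import Mathlib

set_option autoImplicit false
universe u
open scoped TensorProduct
open CartMod

namespace Groth.Agent.S19612

open TensorProduct in
/-- `1 ⊗ b = 0` in `(R ⧸ I) ⊗ M` forces `b ∈ I • ⊤`. -/
theorem mem_of_one_tmul_eq_zero {R : Type*} [CommRing R] (I : Ideal R) {M : Type*} [AddCommGroup M]
    [Module R M] (b : M) (h : (1 : R ⧸ I) ⊗ₜ[R] b = 0) : b ∈ I • (⊤ : Submodule R M) := by
  have := congrArg (TensorProduct.quotTensorEquivQuotSMul M I) h
  rw [map_zero, TensorProduct.quotTensorEquivQuotSMul_mk_one_tmul,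
    Submodule.Quotient.mk_eq_zero] at this
  exact this

open TensorProduct in
theorem exists_one_tmul {R : Type*} [CommRing R] (I : Ideal R) {M : Type*} [AddCommGroup M]
    [Module R M] (z : (R ⧸ I) ⊗[R] M) : ∃ b : M, z = (1 : R ⧸ I) ⊗ₜ[R] b := by
  induction z using TensorProduct.induction_on with
  | zero => exact ⟨0, by simp⟩
  | tmul r m =>
    obtain ⟨r, rfl⟩ := Ideal.Quotient.mk_surjective r
    refine ⟨r • m, ?_⟩
    have : (Ideal.Quotient.mk I r : R ⧸ I) = r • (1 : R ⧸ I) := by
      rw [Algebra.smul_def, mul_one]; rfl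
    rw [this, TensorProduct.smul_tmul]
  | add x y hx hy =>
    obtain ⟨a, rfl⟩ := hx
    obtain ⟨b, rfl⟩ := hy
    exact ⟨a + b, by rw [TensorProduct.tmul_add]⟩

open TensorProduct in
/-- Key step: over a domain `W` with a nonzero element `π`, if `(W/π^(n+1)) ⊗ A` is flat over
`W/π^(n+1)` then every `π`-torsion element of `A` lies in `π^n A`. -/
theorem mem_pow_of_flat {W : Type*} [CommRing W] [IsDomain W] (π : W) (hπ : π ≠ 0) {A : Type*}
    [AddCommGroup A] [Module W A] (n : ℕ)
    [Module.Flat (W ⧸ (Ideal.span {π} ^ (n + 1))) ((W ⧸ (Ideal.span {π} ^ (n + 1))) ⊗[W] A)]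
    (a : A) (ha : π • a = 0) : a ∈ (Ideal.span {π} ^ n) • (⊤ : Submodule W A) := by
  classical
  set I : Ideal W := Ideal.span {π} ^ (n + 1) with hI
  set M := (W ⧸ I) ⊗[W] A
  have hrel : ∑ _i : Fin 1, (Ideal.Quotient.mk I π) • ((1 : W ⧸ I) ⊗ₜ[W] a : M) = 0 := by
    simp only [Finset.univ_unique, Finset.sum_singleton]
    rw [TensorProduct.smul_tmul', smul_eq_mul, mul_one]
    have : (Ideal.Quotient.mk I π : W ⧸ I) = π • (1 : W ⧸ I) := by
      rw [Algebra.smul_def, mul_one]; rfl
    rw [this, TensorProduct.smul_tmul, ha, TensorProduct.tmul_zero]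
  obtain ⟨k, c, y, hy, hc⟩ := Module.Flat.isTrivialRelation_of_sum_smul_eq_zero
    (f := fun _ : Fin 1 => Ideal.Quotient.mk I π) (x := fun _ : Fin 1 => ((1 : W ⧸ I) ⊗ₜ[W] a : M)) hrel
  -- each `c 0 j` is a multiple of `π ^ n`
  have hcj : ∀ j, ∃ d : W, c 0 j = Ideal.Quotient.mk I (π ^ n * d) := by
    intro j
    obtain ⟨c', hc'⟩ := Ideal.Quotient.mk_surjective (c 0 j)
    have h0 := hc j
    simp only [Finset.univ_unique, Finset.sum_singleton] at h0
    have h0' : Ideal.Quotient.mk I π * c (default : Fin 1) j = 0 := h0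
    have hd : (default : Fin 1) = 0 := rfl
    rw [hd, ← hc', ← map_mul, Ideal.Quotient.eq_zero_iff_mem, hI, Ideal.span_singleton_pow,
      Ideal.mem_span_singleton'] at h0'
    obtain ⟨d, hd⟩ := h0'
    refine ⟨d, ?_⟩
    rw [← hc']
    congr 1
    have : π * c' = π * (π ^ n * d) := by rw [← hd]; ring
    exact mul_left_cancel₀ hπ this
  choose d hd using hcj
  obtain ⟨a', ha'⟩ := exists_one_tmul I (∑ j, Ideal.Quotient.mk I (d j) • y j)
  have h1 : ((1 : W ⧸ I) ⊗ₜ[W] a : M) = (1 : W ⧸ I) ⊗ₜ[W] (π ^ n • a') := by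
    have hy0 : ((1 : W ⧸ I) ⊗ₜ[W] a : M) = ∑ j, c 0 j • y j := hy 0
    rw [hy0]
    rw [TensorProduct.tmul_smul, ← ha', Finset.smul_sum]
    refine Finset.sum_congr rfl fun j _ => ?_
    rw [hd j, map_mul, mul_smul]
    have : (Ideal.Quotient.mk I (π ^ n) : W ⧸ I) = (π ^ n) • (1 : W ⧸ I) := by
      rw [Algebra.smul_def, mul_one]; rfl
    rw [this, smul_assoc, one_smul]
  have h2 : ((1 : W ⧸ I) ⊗ₜ[W] (a - π ^ n • a') : M) = 0 := by
    rw [TensorProduct.tmul_sub, h1, sub_self]
  have h3 := mem_of_one_tmul_eq_zero I _ h2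
  have h4 : I • (⊤ : Submodule W A) ≤ (Ideal.span {π} ^ n) • (⊤ : Submodule W A) :=
    Submodule.smul_mono_left (Ideal.pow_le_pow_right (Nat.le_succ n))
  have h5 : π ^ n • a' ∈ (Ideal.span {π} ^ n) • (⊤ : Submodule W A) :=
    Submodule.smul_mem_smul (Ideal.pow_mem_pow (Ideal.mem_span_singleton_self π) n)
      Submodule.mem_top
  have := Submodule.add_mem _ (h4 h3) h5
  simpa using this

/-- Let k be a perfect field of characteristic p, W = W(k) the ring of Witt vectors of k, and A a
commutative W-algebra which is complete and separated for the p-adic topology (an adic W-algebra).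
Then flatness of A over W is equivalent to flatness of A/p^nA = (W/p^nW) ⊗_W A over W/p^nW for every
n ≥ 1. -/
theorem result (p : ℕ) [Fact p.Prime] (k : Type u) [Field k]
    [CharP k p] [PerfectRing k p] (A : Type u) [CommRing A] [Algebra (WittVector p k) A]
    [IsAdicComplete (Ideal.span {(p : WittVector p k)}) A] :
    Module.Flat (WittVector p k) A ↔
      ∀ n : ℕ, 1 ≤ n →
        Module.Flat (WittVector p k ⧸ (Ideal.span {(p : WittVector p k)} ^ n))
          ((WittVector p k ⧸ (Ideal.span {(p : WittVector p k)} ^ n)) ⊗[WittVector p k] A) := by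
  constructor
  · intro hflat n _
    infer_instance
  · intro h
    set π : WittVector p k := (p : WittVector p k) with hπdef
    have hπ : π ≠ 0 := by
      rw [hπdef]
      exact WittVector.p_nonzero p k
    -- `π` is regular on `A`
    have hreg : ∀ a : A, π • a = 0 → a = 0 := by
      intro a ha
      refine IsHausdorff.haus' (I := Ideal.span {π}) a fun n => ?_
      have := h (n + 1) (Nat.succ_pos n)
      rw [SModEq.zero]
      exact mem_pow_of_flat π hπ n a ha
    have hregpow : ∀ (m : ℕ) (a : A), π ^ m • a = 0 → a = 0 := by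
      intro m
      induction m with
      | zero => intro a ha; simpa using ha
      | succ m ih =>
        intro a ha
        rw [pow_succ, mul_smul] at ha
        exact hreg a (ih _ ha)
    have htf : Module.IsTorsionFree (WittVector p k) A := by
      rw [Module.isTorsionFree_iff_smul_eq_zero]
      intro r a hra
      by_cases hr : r = 0
      · exact Or.inl hr
      · right
        obtain ⟨m, u, hu⟩ := WittVector.exists_eq_pow_p_mul' r hr
        rw [hu, mul_smul] at hra
        have := hregpow m _ hra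
        exact (IsUnit.smul_eq_zero u.isUnit).mp this
    infer_instance

end Groth.Agent.S19612
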