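import Groth.Statements.S19613
import Mathlib
import Groth.Agent.Lib.helper19.QcohSections
import Groth.Agent.Lib.helper22.NilAffine

set_option autoImplicit false
universe u
open CategoryTheory AlgebraicGeometry TopologicalSpace
open CartMod

namespace Groth.Agent.S19613

section Helpers

open Opposite

theorem surjective_of_nil {T Tc : Scheme.{u}} (i : T ⟶ Tc) [IsClosedImmersion i]
    (hnil : ∃ n : ℕ, ∀ V : Tc.affineOpens, i.ker.ideal V ^ n = ⊥) : Surjective i := by
  obtain ⟨n, hn⟩ := hnil
  refine ⟨fun x => ?_⟩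
  have hcl : IsClosed (Set.range i) := i.isClosedEmbedding.isClosed_range
  have hsupp : (i.ker.support : Set Tc) = Set.range i := by
    rw [Scheme.Hom.support_ker, hcl.closure_eq]
  have hx : x ∈ (i.ker.support : Set Tc) := by
    obtain ⟨_, ⟨V, hV, rfl⟩, hxV, -⟩ :=
      (Tc.isBasis_affineOpens).exists_subset_of_mem_open (Set.mem_univ x) isOpen_univ
    rw [SetLike.mem_coe, Scheme.IdealSheafData.mem_support_iff_of_mem (U := ⟨V, hV⟩) hxV,
      Scheme.mem_zeroLocus_iff]
    intro f hf hxf
    have h1 : f ^ n ∈ i.ker.ideal ⟨V, hV⟩ ^ n := Ideal.pow_mem_pow hf n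
    rw [hn ⟨V, hV⟩] at h1
    have h2 : f ^ n = 0 := h1
    by_cases hn0 : n = 0
    · subst hn0
      rw [pow_zero] at h2
      have : f = 0 := by
        calc f = f * 1 := (mul_one f).symm
          _ = 0 := by rw [h2, mul_zero]
      rw [this, Scheme.basicOpen_zero] at hxf
      exact hxf
    · have h3 : Tc.basicOpen (f ^ n) = Tc.basicOpen f := Scheme.basicOpen_pow _ _ (Nat.pos_of_ne_zero hn0)
      rw [← h3, h2, Scheme.basicOpen_zero] at hxf
      exact hxf
  rw [hsupp] at hx
  exact hx


open Groth.Agent.Lib.helper19.QcohSections in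
theorem main
    {T Tc U : Scheme.{u}} (i : T ⟶ Tc) [IsClosedImmersion i]
    (hnil : ∃ n : ℕ, ∀ V : Tc.affineOpens, i.ker.ideal V ^ n = ⊥)
    (u : T ⟶ U) [IsAffineHom u] (g : Tc.carrier ⟶ U.carrier) (hg : i.base ≫ g = u.base)
    (M N : Tc.Modules) [M.IsQuasicoherent] [N.IsQuasicoherent] (φ : M ⟶ N) [Epi φ] :
    Epi ((SheafOfModules.pushforward (F := Opens.map g) (R := Tc.ringCatSheaf)
      (𝟙 (((Opens.map g).sheafPushforwardContinuous RingCat.{u} (Opens.grothendieckTopology U)
        (Opens.grothendieckTopology Tc)).obj Tc.ringCatSheaf))).map φ) := by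
  haveI := surjective_of_nil i hnil
  have hepi : Epi ((SheafOfModules.toSheaf _).map
      ((SheafOfModules.pushforward (F := Opens.map g) (R := Tc.ringCatSheaf)
      (𝟙 (((Opens.map g).sheafPushforwardContinuous RingCat.{u} (Opens.grothendieckTopology U)
        (Opens.grothendieckTopology Tc)).obj Tc.ringCatSheaf))).map φ)) := by
    refine (CategoryTheory.Sheaf.isLocallySurjective_iff_epi' _ _).mp ?_
    refine (TopCat.Presheaf.isLocallySurjective_iff (X := U.carrier) _).mpr ?_
    intro V t x hx
    obtain ⟨W, hW, hxW, hWV⟩ : ∃ W : U.Opens, IsAffineOpen W ∧ x ∈ W ∧ W ≤ V := by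
      obtain ⟨_, ⟨W, hW, rfl⟩, hxW, hWV⟩ :=
        (U.isBasis_affineOpens).exists_subset_of_mem_open hx V.isOpen
      exact ⟨W, hW, hxW, hWV⟩
    refine ⟨W, hWV, ?_, hxW⟩
    have hpre : i ⁻¹ᵁ ((Opens.map g).obj W) = u ⁻¹ᵁ W := by
      ext y
      show g (i.base y) ∈ W ↔ u.base y ∈ W
      rw [← hg]
      rfl
    have hW0 : IsAffineOpen (i ⁻¹ᵁ ((Opens.map g).obj W)) := by
      rw [hpre]
      exact hW.preimage u
    have hW' : IsAffineOpen ((Opens.map g).obj W) :=
      Groth.Agent.H22.NilAffine.isAffineOpen_of_isAffineOpen_preimage' i _ hW0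
    obtain ⟨s, hs⟩ := sections_surjective φ hW' (TopCat.Presheaf.restrictOpen t W hWV)
    exact ⟨s, hs⟩
  exact (SheafOfModules.toSheaf _).epi_of_epi_map hepi

end Helpers

/-- Let u : T → U be an affine morphism of schemes and i : T → T♮ a nilpotent closed immersion (its
ideal has a vanishing power), so that |T♮| = |T|; let g : |T♮| → |U| be the continuous map
underlying u, and v : (T♮, O_{T♮}) → (U, g_*O_{T♮}) the induced morphism of ringed spaces (identity
on structure rings), with direct image v_* (sections over g⁻¹ of an open) and inverse image v^* its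
left adjoint. Then the restriction of v_* to quasi-coherent O_{T♮}-modules is exact; since v_* is a
right adjoint, the content is that v_* of an epimorphism between quasi-coherent O_{T♮}-modules is an
epimorphism of sheaves of g_*O_{T♮}-modules on U, which is what is stated. -/
theorem result
    {T Tc U : Scheme.{u}} (i : T ⟶ Tc) [IsClosedImmersion i]
    (hnil : ∃ n : ℕ, ∀ V : Tc.affineOpens, i.ker.ideal V ^ n = ⊥)
    (u : T ⟶ U) [IsAffineHom u] (g : Tc.carrier ⟶ U.carrier) (hg : i.base ≫ g = u.base)
    (M N : Tc.Modules) [M.IsQuasicoherent] [N.IsQuasicoherent] (φ : M ⟶ N) [Epi φ] :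
    Epi ((SheafOfModules.pushforward (F := Opens.map g) (R := Tc.ringCatSheaf)
      (𝟙 (((Opens.map g).sheafPushforwardContinuous RingCat.{u} (Opens.grothendieckTopology U)
        (Opens.grothendieckTopology Tc)).obj Tc.ringCatSheaf))).map φ) := by
  exact main i hnil u g hg M N φ

end Groth.Agent.S19613
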