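import Groth.Statements.S19630
import Mathlib.RingTheory.Unramified.Field
import Mathlib.FieldTheory.Perfect

set_option autoImplicit false
universe u
open DeRham

namespace Groth.Agent.S19630

open exteriorPower in
open exteriorPower in
/-- if `s` spans `M`, then the wedges of elements of `s` span `⋀^p M` -/
theorem ιMulti_mem_span {A M : Type*} [CommRing A] [AddCommGroup M] [Module A M]
    (s : Set M) (hs : Submodule.span A s = ⊤) (p : ℕ) :
    ∀ (k : ℕ) (m : Fin p → M), (∀ i : Fin p, k ≤ i.val → m i ∈ s) →
      ιMulti A p m ∈ Submodule.span A
        {x | ∃ v : Fin p → M, (∀ i, v i ∈ s) ∧ x = ιMulti A p v} := by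
  classical
  intro k
  induction k with
  | zero =>
    intro m hm
    exact Submodule.subset_span ⟨m, fun i => hm i (Nat.zero_le _), rfl⟩
  | succ k ih =>
    intro m hm
    by_cases hk : k < p
    · have hmk : m ⟨k, hk⟩ ∈ Submodule.span A s := by rw [hs]; exact Submodule.mem_top
      have key : ∀ x ∈ Submodule.span A s,
          ιMulti A p (Function.update m ⟨k, hk⟩ x) ∈ Submodule.span A
            {x | ∃ v : Fin p → M, (∀ i, v i ∈ s) ∧ x = ιMulti A p v} := by
        intro x hx
        induction hx using Submodule.span_induction with
        | mem x hx =>
          apply ih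
          intro i hi
          by_cases hik : i = ⟨k, hk⟩
          · subst hik; rw [Function.update_self]; exact hx
          · rw [Function.update_of_ne hik]
            apply hm
            have hne : k ≠ i.val := fun h => hik (Fin.ext h.symm)
            omega
        | zero =>
          rw [AlternatingMap.map_update_zero]; exact Submodule.zero_mem _
        | add x y _ _ hx hy =>
          rw [AlternatingMap.map_update_add]; exact Submodule.add_mem _ hx hy
        | smul c x _ hx =>
          rw [AlternatingMap.map_update_smul]; exact Submodule.smul_mem _ c hx
      have h := key _ hmk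
      rwa [Function.update_eq_self] at h
    · apply ih
      intro i hi
      have := i.2
      omega

/-- In the affine case, at ring level, let k ⊆ K be a finite extension of fields of characteristic zero
and B a smooth K-algebra, so that Y = Spec B is a smooth affine variety over K which may also be
regarded over k. Let ψ be the map of de Rham complexes from Ω•_{B/k} to Ω•_{B/K} induced by the
identity of B. Then ψ is bijective in every degree: the de Rham complex of Y over k and over K
coincide, and hence the natural map H^i_dR(Y/k) → H^i_dR(Y/K) is an isomorphism. (The source states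
the isomorphism on de Rham cohomology for any smooth variety Y over K, through the equality of the
two de Rham complexes; this row is that equality for affine Y.) -/
theorem result
    (k K : Type u) [Field k] [Field K] [CharZero k] [Algebra k K] [Module.Finite k K]
    (B : Type u) [CommRing B] [Algebra K B] [Algebra k B] [IsScalarTower k K B] [Algebra.Smooth K B]
    (ψ : ∀ p : ℕ, ↥(⋀[B]^p (Ω[B⁄k])) →+ ↥(⋀[B]^p (Ω[B⁄K])))
    (hψ : DeRham.IsCxMap (KaehlerDifferential.D k B) (KaehlerDifferential.D K B) (RingHom.id B) ψ)
    (p : ℕ) :
    Function.Bijective (ψ p) := by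
  classical
  have hπD : ∀ x : B, KaehlerDifferential.map k K B B (KaehlerDifferential.D k B x) =
      KaehlerDifferential.D K B x := fun x => by
    rw [KaehlerDifferential.map_D]
    rfl
  have hπsurj : Function.Surjective (KaehlerDifferential.map k K B B) :=
    KaehlerDifferential.map_surjective k K B
  have hπinj : Function.Injective (KaehlerDifferential.map k K B B) := by
    haveI : Algebra.IsSeparable k K := inferInstance
    haveI : Algebra.FormallyUnramified k K := Algebra.FormallyUnramified.of_isSeparable k K
    rw [injective_iff_map_eq_zero]
    intro x hx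
    have hsub : ∀ y : TensorProduct K B (Ω[K⁄k]), y = 0 := by
      intro y
      induction y using TensorProduct.induction_on with
      | zero => rfl
      | tmul b w => rw [Subsingleton.elim w 0, TensorProduct.tmul_zero]
      | add a c ha hc => rw [ha, hc, add_zero]
    have hex := KaehlerDifferential.exact_mapBaseChange_map k K B
    obtain ⟨y, rfl⟩ := (hex x).mp hx
    rw [hsub y, map_zero]
  have hE_gen : ∀ (b₀ : B) (b : Fin p → B),
      exteriorPower.map p (KaehlerDifferential.map k K B B)
        (DeRham.gen (KaehlerDifferential.D k B) p b₀ b) =
      DeRham.gen (KaehlerDifferential.D K B) p b₀ b := by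
    intro b₀ b
    unfold DeRham.gen
    rw [map_smul, exteriorPower.map_apply_ιMulti]
    congr 2
    funext i
    exact hπD (b i)
  have htop : Submodule.span B {x | ∃ v : Fin p → Ω[B⁄k],
      (∀ i, v i ∈ Set.range (KaehlerDifferential.D k B)) ∧ x = exteriorPower.ιMulti B p v} = ⊤ := by
    rw [eq_top_iff, ← exteriorPower.ιMulti_span B p (Ω[B⁄k]), Submodule.span_le]
    rintro _ ⟨m, rfl⟩
    exact ιMulti_mem_span _ (KaehlerDifferential.span_range_derivation k B) p p m
      (fun i hi => absurd i.2 (not_lt.mpr hi))
  have hall : ∀ x : ↥(⋀[B]^p (Ω[B⁄k])), ∀ c : B,
      ψ p (c • x) = exteriorPower.map p (KaehlerDifferential.map k K B B) (c • x) := by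
    intro x
    have hx : x ∈ Submodule.span B {x | ∃ v : Fin p → Ω[B⁄k],
        (∀ i, v i ∈ Set.range (KaehlerDifferential.D k B)) ∧ x = exteriorPower.ιMulti B p v} := by
      rw [htop]; exact Submodule.mem_top
    induction hx using Submodule.span_induction with
    | mem x hx =>
      obtain ⟨v, hv, rfl⟩ := hx
      intro c
      choose b hb using hv
      have hv' : v = fun i => KaehlerDifferential.D k B (b i) := funext fun i => (hb i).symm
      subst hv'
      have h1 : c • exteriorPower.ιMulti B p (fun i => KaehlerDifferential.D k B (b i)) =
          DeRham.gen (KaehlerDifferential.D k B) p c b := rfl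
      rw [h1, hψ p c b, hE_gen]
      rfl
    | zero =>
      intro c
      rw [smul_zero, map_zero, map_zero]
    | add x y _ _ hx hy =>
      intro c
      rw [smul_add, map_add, map_add, hx c, hy c]
    | smul a x _ hx =>
      intro c
      rw [smul_smul]
      exact hx (c * a)
  have hfun : ∀ x, ψ p x = exteriorPower.map p (KaehlerDifferential.map k K B B) x := by
    intro x
    have h := hall x 1
    rwa [one_smul] at h
  have hEinj : Function.Injective (exteriorPower.map p (KaehlerDifferential.map k K B B)) := by
    refine exteriorPower.map_injective
      ((LinearEquiv.ofBijective (KaehlerDifferential.map k K B B) ⟨hπinj, hπsurj⟩).symm :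
        Ω[B⁄K] →ₗ[B] Ω[B⁄k]) ?_
    refine LinearMap.ext fun x => ?_
    exact (LinearEquiv.ofBijective (KaehlerDifferential.map k K B B) ⟨hπinj, hπsurj⟩).symm_apply_apply x
  have hEsurj : Function.Surjective (exteriorPower.map p (KaehlerDifferential.map k K B B)) :=
    exteriorPower.map_surjective hπsurj
  constructor
  · intro x y hxy
    rw [hfun x, hfun y] at hxy
    exact hEinj hxy
  · intro z
    obtain ⟨x, hx⟩ := hEsurj z
    exact ⟨x, by rw [hfun x, hx]⟩

end Groth.Agent.S19630
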