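import Groth.Statements.S19632
import Mathlib.Tactic
import Mathlib.Algebra.MonoidAlgebra.Module

set_option autoImplicit false
universe u
open DeRham

namespace Groth.Agent.S19632

section aux
open LaurentPolynomial AddMonoidAlgebra

variable {k : Type u} [Field k]

/-- the Euler derivation `T d/dT` as a linear map. -/
noncomputable def eulerLin : k[T;T⁻¹] →ₗ[k] k[T;T⁻¹] :=
  (AddMonoidAlgebra.coeffLinearEquiv k).symm.toLinearMap ∘ₗ
    (Finsupp.lsum k (fun n : ℤ => (n : k) • Finsupp.lsingle n)) ∘ₗ
      (AddMonoidAlgebra.coeffLinearEquiv k).toLinearMap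

theorem eulerLin_single (n : ℤ) (a : k) :
    eulerLin (AddMonoidAlgebra.single n a : k[T;T⁻¹]) = AddMonoidAlgebra.single n ((n : k) * a) := by
  apply AddMonoidAlgebra.coeff_injective
  simp [eulerLin, AddMonoidAlgebra.coeffLinearEquiv, -single_eq_C_mul_T]

theorem eulerLin_coeff (f : k[T;T⁻¹]) (n : ℤ) :
    (eulerLin f).coeff n = (n : k) * f.coeff n := by
  induction f using LaurentPolynomial.induction_on' with
  | add p q hp hq => simp [map_add, hp, hq, mul_add, AddMonoidAlgebra.coeff_add]
  | C_mul_T m a =>
    rw [← single_eq_C_mul_T, eulerLin_single]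
    simp only [AddMonoidAlgebra.coeff_single]
    by_cases h : m = n
    · subst h; simp
    · simp [Finsupp.single_eq_of_ne h, Finsupp.single_eq_of_ne (Ne.symm h), h]

theorem eulerLin_leibniz (f g : k[T;T⁻¹]) :
    eulerLin (f * g) = f • eulerLin g + g • eulerLin f := by
  induction f using LaurentPolynomial.induction_on' with
  | add p q hp hq => simp only [add_mul, map_add, hp, hq, add_smul, smul_add]; abel
  | C_mul_T m a =>
    induction g using LaurentPolynomial.induction_on' with
    | add p q hp hq => simp only [mul_add, map_add, hp, hq, add_smul, smul_add]; abel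
    | C_mul_T n b =>
      simp only [← single_eq_C_mul_T, AddMonoidAlgebra.single_mul_single, eulerLin_single, smul_eq_mul]
      rw [add_comm n m, ← AddMonoidAlgebra.single_add]
      congr 1
      push_cast
      ring

noncomputable def eulerDer : Derivation k k[T;T⁻¹] k[T;T⁻¹] :=
  Derivation.mk' eulerLin eulerLin_leibniz

end aux

/-- Let k be a field of characteristic zero and G_m = Spec k[t, t⁻¹] the multiplicative group. The
kernel of the differential d : k[t, t⁻¹] → Ω¹ of the de Rham complex of G_m consists of the
constants: for a Laurent polynomial f, df = 0 if and only if f lies in the image of k. Equivalently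
H^0_dR(G_m/k) = k. (Characteristic zero is used: in characteristic p the element t^p is closed.) -/
theorem result (k : Type u) [Field k] [CharZero k]
    (f : LaurentPolynomial k) :
    KaehlerDifferential.D k (LaurentPolynomial k) f = 0 ↔ f ∈ Set.range (algebraMap k (LaurentPolynomial k)) := by
  constructor
  · intro h
    have h1 : eulerDer f = 0 := by
      rw [← Derivation.liftKaehlerDifferential_comp_D eulerDer f, h, map_zero]
    have h2 : ∀ n : ℤ, n ≠ 0 → f.coeff n = 0 := by
      intro n hn
      have h1' : eulerLin f = 0 := h1
      have := eulerLin_coeff f n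
      rw [h1'] at this
      simp only [AddMonoidAlgebra.coeff_zero, Finsupp.coe_zero, Pi.zero_apply] at this
      rcases mul_eq_zero.mp this.symm with h3 | h3
      · exact absurd (by exact_mod_cast h3) hn
      · exact h3
    refine ⟨f.coeff 0, ?_⟩
    rw [LaurentPolynomial.algebraMap_apply]
    apply AddMonoidAlgebra.coeff_injective
    ext n
    simp only [Algebra.algebraMap_self, RingHom.id_apply]
    rw [← LaurentPolynomial.single_eq_C, AddMonoidAlgebra.coeff_single, Finsupp.single_apply]
    by_cases hn : n = 0
    · subst hn
      simp
    · rw [h2 n hn, if_neg (Ne.symm hn)]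
  · rintro ⟨c, rfl⟩
    exact Derivation.map_algebraMap _ c

end Groth.Agent.S19632
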