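import Groth.Statements.S19633
import Groth.Agent.S19632
import Mathlib.Tactic
import Mathlib.LinearAlgebra.ExteriorPower.Basic

set_option autoImplicit false
universe u
open DeRham

namespace Groth.Agent.S19633

open Groth.Agent.S19632

section aux
open LaurentPolynomial AddMonoidAlgebra exteriorPower

variable (k : Type u) [Field k]

/-- the generator `dT` -/
noncomputable abbrev om : Ω[LaurentPolynomial k⁄k] :=
  KaehlerDifferential.D k (LaurentPolynomial k) (T 1)

theorem D_T (n : ℤ) : KaehlerDifferential.D k (LaurentPolynomial k) (T n) =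
    (C (n : k) * T (n - 1)) • om k := by
  have hm1 : KaehlerDifferential.D k (LaurentPolynomial k) (T (-1)) = (C ((-1 : ℤ) : k) * T (-1 - 1)) • om k := by
    have h1 : (T 1 : LaurentPolynomial k) * T (-1) = 1 := by rw [← T_add]; simp
    have h2 := congrArg (KaehlerDifferential.D k (LaurentPolynomial k)) h1
    rw [Derivation.leibniz, Derivation.map_one_eq_zero] at h2
    -- T 1 • D (T (-1)) + T (-1) • om = 0
    have h3 : KaehlerDifferential.D k (LaurentPolynomial k) (T (-1)) =
        - ((T (-1) : LaurentPolynomial k) * T (-1)) • om k := by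
      have h4 := congrArg (fun z => (T (-1) : LaurentPolynomial k) • z) h2
      simp only [smul_add, smul_zero, smul_smul] at h4
      rw [show (T (-1) : LaurentPolynomial k) * T 1 = 1 by rw [← T_add]; simp, one_smul] at h4
      rw [eq_neg_of_add_eq_zero_left h4, neg_smul]
    rw [h3, ← T_add]
    simp
  induction n using Int.induction_on with
  | zero => simp
  | succ n ih =>
    rw [T_add, Derivation.leibniz, ih, smul_smul, ← add_smul]
    congr 1
    rw [show ((n : ℤ) + 1 - 1) = (n : ℤ) by ring]
    have : (T 1 : LaurentPolynomial k) * T ((n : ℤ) - 1) = T n := by rw [← T_add]; congr 1; ring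
    rw [mul_comm (T 1) _, mul_assoc, mul_comm _ (T 1), this]
    push_cast
    rw [map_add, map_one]
    ring
  | pred n ih =>
    rw [sub_eq_add_neg, T_add, Derivation.leibniz, ih, hm1, smul_smul, smul_smul, ← add_smul]
    congr 1
    have e1 : (T (-(n : ℤ)) : LaurentPolynomial k) * T (-1 - 1) = T (-(n : ℤ) + -1 - 1) := by
      rw [← T_add]; congr 1; ring
    have e2 : (T (-1) : LaurentPolynomial k) * T (-(n : ℤ) - 1) = T (-(n : ℤ) + -1 - 1) := by
      rw [← T_add]; congr 1; ring
    rw [mul_comm (T (-(n : ℤ))) _, mul_assoc, mul_comm _ (T (-(n : ℤ))), e1,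
      mul_comm (T (-1)) _, mul_assoc, mul_comm _ (T (-1)), e2]
    push_cast
    rw [← add_mul, ← map_add]
    congr 2
    ring

theorem D_formula (f : LaurentPolynomial k) :
    KaehlerDifferential.D k (LaurentPolynomial k) f = (T (-1) * eulerLin f) • om k := by
  induction f using LaurentPolynomial.induction_on' with
  | add p q hp hq => rw [map_add, map_add, hp, hq, mul_add, add_smul]
  | C_mul_T n a =>
    rw [← single_eq_C_mul_T, eulerLin_single, single_eq_C_mul_T, single_eq_C_mul_T,
      Derivation.leibniz, D_T, smul_smul]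
    have : KaehlerDifferential.D k (LaurentPolynomial k) (C a) = 0 := by
      have := Derivation.map_algebraMap (KaehlerDifferential.D k (LaurentPolynomial k)) a
      rwa [LaurentPolynomial.algebraMap_apply] at this
    rw [this, smul_zero, add_zero]
    congr 1
    have : (T (-1) : LaurentPolynomial k) * T n = T (n - 1) := by rw [← T_add]; congr 1; ring
    rw [mul_comm (T (-1)) _, mul_assoc, mul_comm (T n), this, map_mul]
    ring

theorem span_om : Submodule.span (LaurentPolynomial k) {om k} = ⊤ := by
  rw [eq_top_iff, ← KaehlerDifferential.span_range_derivation, Submodule.span_le]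
  rintro _ ⟨f, rfl⟩
  rw [SetLike.mem_coe, D_formula]
  exact Submodule.smul_mem _ _ (Submodule.subset_span rfl)

theorem subsingleton_extPow (n : ℕ) :
    Subsingleton ↥(⋀[LaurentPolynomial k]^(n + 2) (Ω[LaurentPolynomial k⁄k])) := by
  have h := ιMulti_span_of_span (LaurentPolynomial k) (n + 2) (Ω[LaurentPolynomial k⁄k]) (span_om k)
  have h2 : (ιMulti (LaurentPolynomial k) (n + 2) '' {a | Set.range a ⊆ {om k}}) ⊆ {0} := by
    rintro _ ⟨a, ha, rfl⟩
    have h0 : a 0 = om k := ha ⟨0, rfl⟩
    have h1 : a 1 = om k := ha ⟨1, rfl⟩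
    exact AlternatingMap.map_eq_zero_of_eq _ a (h0.trans h1.symm) (by
      intro h; have := congrArg Fin.val h; simp at this)
  refine ⟨fun x y => ?_⟩
  have hx : ∀ z : ↥(⋀[LaurentPolynomial k]^(n + 2) (Ω[LaurentPolynomial k⁄k])), z = 0 := by
    intro z
    have hz : z ∈ (⊤ : Submodule (LaurentPolynomial k) _) := trivial
    rw [← h] at hz
    have := Submodule.span_mono h2 hz
    simpa using this
  rw [hx x, hx y]

theorem exists_euler [CharZero k] (h : LaurentPolynomial k) :
    ∃ (f : LaurentPolynomial k) (c : k), h = eulerLin f + C c := by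
  induction h using LaurentPolynomial.induction_on' with
  | add p q hp hq =>
    obtain ⟨f₁, c₁, h₁⟩ := hp
    obtain ⟨f₂, c₂, h₂⟩ := hq
    refine ⟨f₁ + f₂, c₁ + c₂, ?_⟩
    rw [map_add, map_add, h₁, h₂]; ring
  | C_mul_T n a =>
    by_cases hn : n = 0
    · subst hn
      exact ⟨0, a, by simp⟩
    · refine ⟨AddMonoidAlgebra.single n (a / n), 0, ?_⟩
      rw [eulerLin_single, map_zero, add_zero, ← single_eq_C_mul_T]
      congr 1
      have : (n : k) ≠ 0 := by exact_mod_cast hn
      field_simp

/-- the residue functional on 1-forms -/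
noncomputable def res : Ω[LaurentPolynomial k⁄k] →ₗ[k] k :=
  (AddMonoidAlgebra.coeffLinearEquiv k).toLinearMap.comp
    ((eulerDer (k := k)).liftKaehlerDifferential.restrictScalars k) |>.comp
      (LinearMap.id) |> fun l => (Finsupp.lapply (0 : ℤ)).comp l

theorem res_D (f : LaurentPolynomial k) : res k (KaehlerDifferential.D k _ f) = 0 := by
  have : res k (KaehlerDifferential.D k _ f) = (eulerLin f).coeff 0 := by
    simp only [res, LinearMap.comp_apply, LinearMap.id_apply, LinearMap.restrictScalars_apply,
      Derivation.liftKaehlerDifferential_comp_D]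
    rfl
  rw [this, eulerLin_coeff]; simp

theorem res_gen : res k ((T (-1) : LaurentPolynomial k) • om k) = 1 := by
  have : res k ((T (-1) : LaurentPolynomial k) • om k) = ((T (-1) : LaurentPolynomial k) * eulerLin (T 1)).coeff 0 := by
    simp only [res, LinearMap.comp_apply, LinearMap.id_apply, LinearMap.restrictScalars_apply,
      map_smul, Derivation.liftKaehlerDifferential_comp_D]
    rfl
  rw [this]
  have e : (T 1 : LaurentPolynomial k) = AddMonoidAlgebra.single 1 1 := by
    rw [single_eq_C_mul_T]; simp
  rw [e, eulerLin_single, single_eq_C_mul_T]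
  have : (T (-1) : LaurentPolynomial k) * (C (((1 : ℤ) : k) * 1) * T 1) = AddMonoidAlgebra.single 0 1 := by
    rw [mul_comm, mul_assoc, ← T_add]
    simp
  rw [this]
  simp

end aux

open exteriorPower in
/-- Let k be a field of characteristic zero, G_m = Spec k[t, t⁻¹], and d the de Rham differential of
k[t, t⁻¹] over k. Then: every 1-form is closed; the exact 1-forms and the k-line spanned by t⁻¹ dt
are complementary subspaces of the 1-forms, and t⁻¹ dt is not exact — so H^1_dR(G_m/k) is
one-dimensional, generated by the class of dt/t (the isomorphism with k being the residue); and for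
every i ≥ 2 the closed i-forms are exact, so H^i_dR(G_m/k) = 0 for i > 1. (Characteristic zero is
used in the computation of the exact forms.) -/
theorem result (k : Type u) [Field k] [CharZero k]
    (d : ∀ p : ℕ, ↥(⋀[LaurentPolynomial k]^p (Ω[LaurentPolynomial k⁄k])) →ₗ[k] ↥(⋀[LaurentPolynomial k]^(p + 1) (Ω[LaurentPolynomial k⁄k])))
    (hd : DeRham.IsDiff (KaehlerDifferential.D k (LaurentPolynomial k)) d) :
    DeRham.cocycles d 1 = ⊤ ∧
    IsCompl (DeRham.coboundaries d 1)
      (Submodule.span k {DeRham.gen (KaehlerDifferential.D k (LaurentPolynomial k)) 1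
        (LaurentPolynomial.T (-1)) (fun _ => LaurentPolynomial.T 1)}) ∧
    DeRham.gen (KaehlerDifferential.D k (LaurentPolynomial k)) 1
        (LaurentPolynomial.T (-1)) (fun _ => LaurentPolynomial.T 1) ∉ DeRham.coboundaries d 1 ∧
    ∀ i : ℕ, DeRham.cocycles d (i + 2) ≤ DeRham.coboundaries d (i + 2) := by
  classical
  obtain ⟨hrule, hsq⟩ := hd
  set A := LaurentPolynomial k with hA
  set δ := KaehlerDifferential.D k (LaurentPolynomial k) with hδ
  -- the iso Ω ≃ ⋀¹
  set ι := (oneEquiv (LaurentPolynomial k) (Ω[LaurentPolynomial k⁄k])).symm with hι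
  have hιapp : ∀ m, (ι m : ↥(⋀[LaurentPolynomial k]^1 (Ω[LaurentPolynomial k⁄k]))) =
      ιMulti (LaurentPolynomial k) 1 (fun _ => m) := fun m => oneEquiv_symm_apply _ _ m
  have hgen : DeRham.gen δ 1 (LaurentPolynomial.T (-1)) (fun _ => LaurentPolynomial.T 1) =
      ι ((LaurentPolynomial.T (-1) : LaurentPolynomial k) • om k) := by
    rw [map_smul, hιapp]; rfl
  -- the range of d 0
  have hd0 : ∀ f : LaurentPolynomial k, d 0 (DeRham.gen δ 0 f Fin.elim0) = ι (δ f) := by
    intro f
    rw [hrule 0 f Fin.elim0, hιapp]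
    congr 1
    funext i
    fin_cases i
    rfl
  have hd0' : ∀ η, ∃ f : LaurentPolynomial k, d 0 η = ι (δ f) := by
    intro η
    refine ⟨zeroEquiv (LaurentPolynomial k) _ η, ?_⟩
    rw [← hd0]
    congr 1
    apply (zeroEquiv (LaurentPolynomial k) (Ω[LaurentPolynomial k⁄k])).injective
    unfold DeRham.gen
    rw [map_smul, zeroEquiv_ιMulti]; simp
  -- the functional
  set R : ↥(⋀[LaurentPolynomial k]^1 (Ω[LaurentPolynomial k⁄k])) →ₗ[k] k :=
    (res k).comp ((oneEquiv (LaurentPolynomial k) (Ω[LaurentPolynomial k⁄k])).toLinearMap.restrictScalars k)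
    with hR
  have hRι : ∀ m, R (ι m) = res k m := by
    intro m
    simp [hR, hι]
  have hnot : DeRham.gen δ 1 (LaurentPolynomial.T (-1)) (fun _ => LaurentPolynomial.T 1) ∉
      DeRham.coboundaries d 1 := by
    rintro ⟨η, hη⟩
    obtain ⟨f, hf⟩ := hd0' η
    rw [hgen, hf] at hη
    have := congrArg R hη
    rw [hRι, hRι, res_D, res_gen] at this
    exact zero_ne_one this
  refine ⟨?_, ⟨?_, ?_⟩, hnot, ?_⟩
  · rw [eq_top_iff]
    intro x _
    have := subsingleton_extPow k 0
    exact Subsingleton.elim _ _
  · rw [Submodule.disjoint_def]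
    rintro x ⟨η, rfl⟩ hx
    obtain ⟨c, hc⟩ := Submodule.mem_span_singleton.mp hx
    obtain ⟨f, hf⟩ := hd0' η
    rw [hgen, hf] at hc
    have := congrArg R hc
    rw [map_smul, hRι, hRι, res_D, res_gen] at this
    rw [hf, ← hc]
    have hc0 : c = 0 := by simpa using this
    rw [hc0, zero_smul]
  · rw [codisjoint_iff, eq_top_iff]
    intro x _
    obtain ⟨m, rfl⟩ := ι.surjective x
    have hm : m ∈ Submodule.span (LaurentPolynomial k) {om k} := by rw [span_om]; trivial
    obtain ⟨g, rfl⟩ := Submodule.mem_span_singleton.mp hm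
    obtain ⟨f, c, hfc⟩ := exists_euler k (LaurentPolynomial.T 1 * g)
    have key : g • om k = δ f + c • ((LaurentPolynomial.T (-1) : LaurentPolynomial k) • om k) := by
      rw [hδ, D_formula, ← smul_assoc, ← add_smul]
      congr 1
      have : g = (LaurentPolynomial.T (-1) : LaurentPolynomial k) * (LaurentPolynomial.T 1 * g) := by
        rw [← mul_assoc, ← LaurentPolynomial.T_add]; simp
      conv_lhs => rw [this, hfc]
      rw [mul_add, Algebra.smul_def, LaurentPolynomial.algebraMap_apply]
      rw [Algebra.algebraMap_self, RingHom.id_apply, mul_comm (LaurentPolynomial.C c)]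
    rw [key, map_add]
    refine Submodule.add_mem_sup ?_ ?_
    · exact ⟨_, hd0 f⟩
    · have e : ι (c • (LaurentPolynomial.T (-1) : LaurentPolynomial k) • om k) =
          c • ι ((LaurentPolynomial.T (-1) : LaurentPolynomial k) • om k) :=
        (ι.toLinearMap.restrictScalars k).map_smul c _
      rw [e, ← hgen]
      exact Submodule.smul_mem _ _ (Submodule.subset_span rfl)
  · intro i x _
    have := subsingleton_extPow k i
    rw [Subsingleton.elim x 0]
    exact Submodule.zero_mem _

end Groth.Agent.S19633
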