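import Groth.Statements.S19634
import Mathlib.Tactic
import Mathlib.RingTheory.Kaehler.Polynomial
import Mathlib.Algebra.Polynomial.Derivation
import Mathlib.Algebra.Polynomial.Derivative

set_option autoImplicit false
universe u
open DeRham

namespace Groth.Agent.S19634

open Polynomial

section aux
variable (k : Type u) [Field k]

/-- the node ideal -/
noncomputable abbrev I : Ideal (MvPolynomial (Fin 2) k) :=
  Ideal.span {(MvPolynomial.X 0 * MvPolynomial.X 1 : MvPolynomial (Fin 2) k)}

/-- the coordinate ring of the node -/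
noncomputable abbrev A := MvPolynomial (Fin 2) k ⧸ I k

/-- the class of `X` -/
noncomputable def x : A k := Ideal.Quotient.mk (I k) (MvPolynomial.X 0)
/-- the class of `Y` -/
noncomputable def y : A k := Ideal.Quotient.mk (I k) (MvPolynomial.X 1)

theorem xy : x k * y k = 0 := by
  unfold x y
  rw [← map_mul, Ideal.Quotient.eq_zero_iff_mem]
  exact Ideal.subset_span rfl

theorem yx : y k * x k = 0 := by rw [mul_comm, xy]

/-- general lemma: a `k`-algebra hom to `k[X]` kills `d`-closed elements after derivative -/
theorem deriv_eq_zero {S : Type*} [CommRing S] [Algebra k S] (φ : S →ₐ[k] k[X]) (P : S)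
    (h : KaehlerDifferential.D k S P = 0) : derivative (φ P) = 0 := by
  let _ : Algebra S k[X] := φ.toRingHom.toAlgebra
  have : IsScalarTower k S k[X] := IsScalarTower.of_algebraMap_eq' φ.comp_algebraMap.symm
  let D' : Derivation k S k[X] := (Polynomial.derivative' : Derivation k k[X] k[X]).compAlgebraMap S
  have h1 := D'.liftKaehlerDifferential_comp_D P
  rw [h, map_zero] at h1
  exact h1.symm

/-- lift of an algebra hom to the quotient -/
noncomputable def lift (f g : k[X]) (h : f * g = 0) : A k →ₐ[k] k[X] :=
  Ideal.Quotient.liftₐ (I k) (MvPolynomial.aeval ![f, g]) (by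
    intro a ha
    obtain ⟨c, rfl⟩ := Ideal.mem_span_singleton'.mp ha
    simp [h])

theorem lift_x (f g : k[X]) (h : f * g = 0) : lift k f g h (x k) = f := by
  unfold lift x
  rw [Ideal.Quotient.liftₐ_apply, Ideal.Quotient.lift_mk]
  simp

theorem lift_y (f g : k[X]) (h : f * g = 0) : lift k f g h (y k) = g := by
  unfold lift y
  rw [Ideal.Quotient.liftₐ_apply, Ideal.Quotient.lift_mk]
  simp

theorem aeval_y_mul_x (b : k[X]) : aeval (y k) b * x k = algebraMap k (A k) (b.coeff 0) * x k := by
  conv_lhs => rw [← Polynomial.divX_mul_X_add b]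
  rw [map_add, map_mul, aeval_X, aeval_C, add_mul, mul_assoc, yx, mul_zero, zero_add]

theorem aeval_x_mul_y (a : k[X]) : aeval (x k) a * y k = algebraMap k (A k) (a.coeff 0) * y k := by
  conv_lhs => rw [← Polynomial.divX_mul_X_add a]
  rw [map_add, map_mul, aeval_X, aeval_C, add_mul, mul_assoc, xy, mul_zero, zero_add]

theorem decomp (P : A k) : ∃ a b : k[X], P = aeval (x k) a + aeval (y k) b := by
  obtain ⟨p, rfl⟩ := Ideal.Quotient.mk_surjective P
  induction p using MvPolynomial.induction_on with
  | C c =>
    refine ⟨C c, 0, ?_⟩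
    rw [aeval_C, map_zero, add_zero]
    rfl
  | add p q hp hq =>
    obtain ⟨a, b, hab⟩ := hp
    obtain ⟨a', b', hab'⟩ := hq
    refine ⟨a + a', b + b', ?_⟩
    rw [map_add, hab, hab', map_add, map_add]; ring
  | mul_X p i hp =>
    obtain ⟨a, b, hab⟩ := hp
    rw [map_mul, hab]
    fin_cases i
    · refine ⟨a * X + C (b.coeff 0) * X, 0, ?_⟩
      change (aeval (x k) a + aeval (y k) b) * x k = _
      rw [add_mul, aeval_y_mul_x, map_add, map_mul, map_mul, aeval_X, aeval_C, map_zero, add_zero]
    · refine ⟨0, b * X + C (a.coeff 0) * X, ?_⟩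
      change (aeval (x k) a + aeval (y k) b) * y k = _
      rw [add_mul, aeval_x_mul_y, map_add, map_mul, map_mul, aeval_X, aeval_C, map_zero, zero_add,
        add_comm]

/-- the key structural lemma: if both branch-derivatives vanish then `P` is constant -/
theorem const_of_derivs (P : A k) [CharZero k]
    (h1 : derivative (lift k X 0 (mul_zero _) P) = 0)
    (h2 : derivative (lift k 0 X (zero_mul _) P) = 0) :
    P ∈ Set.range (algebraMap k (A k)) := by
  obtain ⟨a, b, rfl⟩ := decomp k P
  have e1 : lift k X 0 (mul_zero _) (aeval (x k) a + aeval (y k) b) = a + C (b.coeff 0) := by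
    rw [map_add, ← AlgHom.comp_apply, ← AlgHom.comp_apply, ← aeval_algHom, ← aeval_algHom,
      lift_x, lift_y, aeval_X_left, AlgHom.id_apply, ← coeff_zero_eq_aeval_zero']
    rfl
  have e2 : lift k 0 X (zero_mul _) (aeval (x k) a + aeval (y k) b) = C (a.coeff 0) + b := by
    rw [map_add, ← AlgHom.comp_apply, ← AlgHom.comp_apply, ← aeval_algHom, ← aeval_algHom,
      lift_x, lift_y, aeval_X_left, AlgHom.id_apply, ← coeff_zero_eq_aeval_zero']
    rfl
  rw [e1] at h1
  rw [e2] at h2
  rw [derivative_add, derivative_C, add_zero] at h1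
  rw [derivative_add, derivative_C, zero_add] at h2
  have ha := eq_C_of_derivative_eq_zero h1
  have hb := eq_C_of_derivative_eq_zero h2
  refine ⟨a.coeff 0 + b.coeff 0, ?_⟩
  rw [ha, hb, aeval_C, aeval_C, map_add]
  simp

end aux

/-- Let k be a field of characteristic zero and A = k[X, Y]/(XY), the coordinate ring of two affine
lines crossing in a point. In the naive de Rham complex A → Ω¹_{A/k} the kernel of d consists of the
constants: dP = 0 if and only if P is in the image of k. -/
theorem result (k : Type u) [Field k] [CharZero k]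
    (P : MvPolynomial (Fin 2) k ⧸ Ideal.span {(MvPolynomial.X 0 * MvPolynomial.X 1 : MvPolynomial (Fin 2) k)}) :
    KaehlerDifferential.D k (MvPolynomial (Fin 2) k ⧸ Ideal.span {(MvPolynomial.X 0 * MvPolynomial.X 1 : MvPolynomial (Fin 2) k)}) P = 0 ↔
      P ∈ Set.range (algebraMap k (MvPolynomial (Fin 2) k ⧸ Ideal.span {(MvPolynomial.X 0 * MvPolynomial.X 1 : MvPolynomial (Fin 2) k)})) := by
  constructor
  · intro h
    exact const_of_derivs k P (deriv_eq_zero k _ P h) (deriv_eq_zero k _ P h)
  · rintro ⟨c, rfl⟩
    exact (KaehlerDifferential.D k _).map_algebraMap c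

end Groth.Agent.S19634
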