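import Groth.Statements.S19635
import Groth.Agent.S19634
import Mathlib.Tactic
import Mathlib.Algebra.DualNumber

set_option autoImplicit false
universe u
open DeRham

namespace Groth.Agent.S19635

open Polynomial Groth.Agent.S19634

section aux
variable (k : Type u) [Field k]

/-- general lemma: a `k`-algebra hom `φ` to `k[X]` induces a linear map on Kähler differentials -/
theorem exists_lift {S : Type*} [CommRing S] [Algebra k S] (φ : S →ₐ[k] k[X]) :
    ∃ l : Ω[S⁄k] →ₗ[k] k[X], (∀ P, l (KaehlerDifferential.D k S P) = derivative (φ P)) ∧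
      ∀ (s : S) (ω : Ω[S⁄k]), l (s • ω) = φ s * l ω := by
  let _ : Algebra S k[X] := φ.toRingHom.toAlgebra
  have : IsScalarTower k S k[X] := IsScalarTower.of_algebraMap_eq' φ.comp_algebraMap.symm
  let D' : Derivation k S k[X] := (Polynomial.derivative' : Derivation k k[X] k[X]).compAlgebraMap S
  refine ⟨D'.liftKaehlerDifferential.restrictScalars k, ?_, ?_⟩
  · intro P
    exact D'.liftKaehlerDifferential_comp_D P
  · intro s ω
    change D'.liftKaehlerDifferential (s • ω) = _
    rw [map_smul]
    rfl

open TrivSqZeroExt DualNumber in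
/-- image of `x` -/
noncomputable def uu : TrivSqZeroExt (DualNumber k) (DualNumber k) :=
  inl (ε : DualNumber k) + inr (-1 : DualNumber k)

open TrivSqZeroExt DualNumber in
/-- image of `y` -/
noncomputable def vv : TrivSqZeroExt (DualNumber k) (DualNumber k) :=
  inl (ε : DualNumber k) + inr (1 : DualNumber k)

theorem uu_vv : uu k * vv k = 0 := by
  unfold uu vv
  ext <;> simp

/-- the algebra hom `A → k[ε][ε']` with `x ↦ ε - ε'`, `y ↦ ε + ε'`. -/
noncomputable def Psi : A k →ₐ[k] TrivSqZeroExt (DualNumber k) (DualNumber k) :=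
  Ideal.Quotient.liftₐ (I k)
    (MvPolynomial.aeval ![uu k, vv k]) (by
    intro a ha
    obtain ⟨c, rfl⟩ := Ideal.mem_span_singleton'.mp ha
    simp [uu_vv])

theorem Psi_x : Psi k (x k) = uu k := by
  unfold Psi x
  rw [Ideal.Quotient.liftₐ_apply, Ideal.Quotient.lift_mk]
  simp

theorem Psi_y : Psi k (y k) = vv k := by
  unfold Psi y
  rw [Ideal.Quotient.liftₐ_apply, Ideal.Quotient.lift_mk]
  simp

open TrivSqZeroExt DualNumber in
theorem x_dy_ne_zero : x k • KaehlerDifferential.D k (A k) (y k) ≠ 0 := by
  let psi : A k →ₐ[k] DualNumber k := (TrivSqZeroExt.fstHom k _ _).comp (Psi k)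
  let _ : Algebra (A k) (DualNumber k) := psi.toRingHom.toAlgebra
  have : IsScalarTower k (A k) (DualNumber k) :=
    IsScalarTower.of_algebraMap_eq' psi.comp_algebraMap.symm
  have e : ∀ a, psi a = (Psi k a).fst := fun _ => rfl
  let D' : Derivation k (A k) (DualNumber k) :=
    Derivation.mk' (((TrivSqZeroExt.sndHom (DualNumber k) (DualNumber k)).restrictScalars k).comp
      (Psi k).toLinearMap) (by
      intro a b
      change (Psi k (a * b)).snd = psi a * (Psi k b).snd + psi b * (Psi k a).snd
      rw [map_mul, TrivSqZeroExt.snd_mul, e, e]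
      change (Psi k a).fst * (Psi k b).snd + (Psi k a).snd * (Psi k b).fst = _
      ring)
  intro h
  have h1 := congrArg D'.liftKaehlerDifferential h
  rw [map_smul, D'.liftKaehlerDifferential_comp_D, map_zero] at h1
  change psi (x k) * (Psi k (y k)).snd = 0 at h1
  rw [e, Psi_x, Psi_y] at h1
  unfold uu vv at h1
  simp at h1
  have := congrArg TrivSqZeroExt.snd h1
  simp at this

end aux

/-- Let k be a field of characteristic zero and A = k[X, Y]/(XY), the coordinate ring of two affine
lines crossing in a point. The differential d : A → Ω¹_{A/k} of the naive de Rham complex is not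
surjective, so the naive H^1 of this singular curve does not vanish although one expects trivial
cohomology; this is the example motivating the h-topology definition. -/
theorem result (k : Type u) [Field k] [CharZero k] :
    ¬ Function.Surjective (KaehlerDifferential.D k (MvPolynomial (Fin 2) k ⧸ Ideal.span {(MvPolynomial.X 0 * MvPolynomial.X 1 : MvPolynomial (Fin 2) k)})) := by
  intro hsurj
  obtain ⟨P, hP⟩ := hsurj (x k • KaehlerDifferential.D k (A k) (y k))
  obtain ⟨l₁, hl₁, hl₁'⟩ := exists_lift k (lift k X 0 (mul_zero _))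
  obtain ⟨l₂, hl₂, hl₂'⟩ := exists_lift k (lift k 0 X (zero_mul _))
  have h1 : derivative (lift k X 0 (mul_zero _) P) = 0 := by
    rw [← hl₁, hP, hl₁', hl₁, lift_y]; simp
  have h2 : derivative (lift k 0 X (zero_mul _) P) = 0 := by
    rw [← hl₂, hP, hl₂', lift_x]; simp
  obtain ⟨c, rfl⟩ := const_of_derivs k P h1 h2
  rw [(KaehlerDifferential.D k _).map_algebraMap c] at hP
  exact x_dy_ne_zero k hP.symm

end Groth.Agent.S19635
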