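import Groth.Statements.S1964
import Groth.Agent.Lib.lead.HenselIntegral

set_option autoImplicit false
universe u
open EtAlg

namespace Groth.Agent.S1964

open Groth.Agent.Lib.lead.HenselLocal IsLocalRing in
/-- A domain B integral over a henselian local ring A is itself henselian local, and the structure map A
-> B is local; if the residue field of A is separably closed, so is that of B, and the residue field
extension is purely inseparable. -/
theorem result (A B : Type u) [CommRing A] [HenselianLocalRing A] [CommRing B]
    [IsDomain B] [Algebra A B] [Algebra.IsIntegral A B] :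
    ∃ _ : HenselianLocalRing B, IsLocalHom (algebraMap A B) ∧
      (IsSepClosed (IsLocalRing.ResidueField A) →
        IsSepClosed (IsLocalRing.ResidueField B) ∧
        ∀ _ : IsLocalHom (algebraMap A B),
          letI := (IsLocalRing.ResidueField.map (algebraMap A B)).toAlgebra
          IsPurelyInseparable (IsLocalRing.ResidueField A) (IsLocalRing.ResidueField B)) := by
  have hB : HenselianLocalRing B := henselian_of_integral_domain A B
  have hcomap : (maximalIdeal B).comap (algebraMap A B) = maximalIdeal A :=
    IsLocalRing.eq_maximalIdeal (Ideal.isMaximal_comap_of_isIntegral_of_isMaximal (maximalIdeal B))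
  have hloc : IsLocalHom (algebraMap A B) :=
    ((IsLocalRing.local_hom_TFAE (algebraMap A B)).out 0 4).mpr hcomap
  refine ⟨hB, hloc, fun hsep => ?_⟩
  letI alg : Algebra (ResidueField A) (ResidueField B) :=
    (IsLocalRing.ResidueField.map (algebraMap A B)).toAlgebra
  have htower : IsScalarTower A (ResidueField A) (ResidueField B) :=
    IsScalarTower.of_algebraMap_eq (fun a => rfl)
  have hint : Algebra.IsIntegral (ResidueField A) (ResidueField B) := by
    refine ⟨fun x => ?_⟩
    obtain ⟨b, rfl⟩ := residue_surjective x
    have h1 : IsIntegral A b := Algebra.IsIntegral.isIntegral b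
    have h2 : IsIntegral A (residue B b) := h1.map (IsScalarTower.toAlgHom A B (ResidueField B))
    exact h2.tower_top
  have halg : Algebra.IsAlgebraic (ResidueField A) (ResidueField B) := inferInstance
  exact ⟨Algebra.IsAlgebraic.isSepClosed (F := ResidueField A), fun _ => inferInstance⟩

end Groth.Agent.S1964
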