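import Groth.Statements.S1965
import Mathlib

set_option autoImplicit false
universe u
open Polynomial
open EtAlg

namespace Groth.Agent.S1965

section helpers



/-- Newton iteration in an adically complete ring. -/
theorem newton {A : Type u} [CommRing A] (I : Ideal A) [IsAdicComplete I A]
    (F : A[X]) (a ε : A) (c : ℕ) (hc : 1 ≤ c) (hε : ε ∈ I ^ c)
    (hF : F.eval a = (F.derivative.eval a) ^ 2 * ε) :
    ∃ y ∈ I ^ c, F.eval (a + F.derivative.eval a * y) = 0 := by
  obtain ⟨d, hd⟩ : ∃ d, d = F.derivative.eval a := ⟨_, rfl⟩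
  rw [← hd] at hF ⊢
  have hpow : ∀ {i j : ℕ}, i ≤ j → I ^ j ≤ I ^ i := fun h => Ideal.pow_le_pow_right h
  -- the step
  have step : ∀ (n : ℕ) (y e : A), y ∈ I ^ c → e ∈ I ^ (c + n) →
      F.eval (a + d * y) = d ^ 2 * e →
      ∃ e' ∈ I ^ (c + (n + 1)), F.eval (a + d * (y - e)) = d ^ 2 * e' := by
    intro n y e hy he hFy
    obtain ⟨k, hk⟩ := F.binomExpansion (a + d * y) (d * (-e))
    obtain ⟨z, hz⟩ := F.derivative.evalSubFactor (a + d * y) a
    refine ⟨-z * y * e + k * e ^ 2, ?_, ?_⟩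
    · refine Ideal.add_mem _ ?_ ?_
      · have : -z * y * e = (-z) * (y * e) := by ring
        rw [this]
        refine Ideal.mul_mem_left _ _ ?_
        have h1 : y * e ∈ I ^ c * I ^ (c + n) := Ideal.mul_mem_mul hy he
        rw [← pow_add] at h1
        exact hpow (by omega) h1
      · refine Ideal.mul_mem_left _ _ ?_
        have h1 : e ^ 2 ∈ (I ^ (c + n)) ^ 2 := Ideal.pow_mem_pow he 2
        rw [← pow_mul] at h1
        exact hpow (by nlinarith) h1
    · have e1 : a + d * (y - e) = a + d * y + d * (-e) := by ring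
      rw [e1, hk, hFy]
      have e2 : F.derivative.eval (a + d * y) = d + z * (d * y) := by
        have : a + d * y - a = d * y := by ring
        rw [this] at hz
        rw [← hd] at hz; linear_combination hz
      rw [e2]; ring
  -- build the sequence
  let S : ℕ → Type u := fun n =>
    {p : A × A // p.1 ∈ I ^ c ∧ p.2 ∈ I ^ (c + n) ∧ F.eval (a + d * p.1) = d ^ 2 * p.2}
  let s0 : S 0 := ⟨(0, ε), by simp, by simpa using hε, by simpa using hF⟩
  let next : ∀ n, S n → S (n + 1) := fun n p =>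
    ⟨(p.1.1 - p.1.2, (step n p.1.1 p.1.2 p.2.1 p.2.2.1 p.2.2.2).choose),
      Ideal.sub_mem _ p.2.1 (hpow (by omega) p.2.2.1),
      (step n p.1.1 p.1.2 p.2.1 p.2.2.1 p.2.2.2).choose_spec.1,
      (step n p.1.1 p.1.2 p.2.1 p.2.2.1 p.2.2.2).choose_spec.2⟩
  let seq : ∀ n, S n := fun n => Nat.rec s0 next n
  let y : ℕ → A := fun n => (seq n).1.1
  let e : ℕ → A := fun n => (seq n).1.2
  have hy : ∀ n, y n ∈ I ^ c := fun n => (seq n).2.1
  have he : ∀ n, e n ∈ I ^ (c + n) := fun n => (seq n).2.2.1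
  have hFy : ∀ n, F.eval (a + d * y n) = d ^ 2 * e n := fun n => (seq n).2.2.2
  have hsucc : ∀ n, y (n + 1) = y n - e n := fun n => rfl
  have hcauchy : ∀ i j, i ≤ j → y i - y j ∈ I ^ i := by
    intro i j hij
    induction j, hij using Nat.le_induction with
    | base => simp
    | succ j hij ih =>
      have : y i - y (j + 1) = (y i - y j) + e j := by rw [hsucc]; ring
      rw [this]
      exact Ideal.add_mem _ ih (hpow (by omega) (he j))
  obtain ⟨yy, hyy⟩ := IsPrecomplete.prec (I := I) (M := A) inferInstance (f := y) (by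
    intro i j hij
    rw [SModEq.sub_mem, smul_eq_mul, Ideal.mul_top]
    exact hcauchy i j hij)
  have hyy' : ∀ k, y k - yy ∈ I ^ k := fun k => by
    have := hyy k
    rwa [SModEq.sub_mem, smul_eq_mul, Ideal.mul_top] at this
  refine ⟨yy, ?_, ?_⟩
  · have h1 := hyy' c
    have : yy = y c - (y c - yy) := by ring
    rw [this]
    exact Ideal.sub_mem _ (hy c) h1
  · apply IsHausdorff.haus (I := I) (M := A) inferInstance
    intro n
    rw [SModEq.sub_mem, smul_eq_mul, Ideal.mul_top, sub_zero]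
    obtain ⟨w, hw⟩ := F.evalSubFactor (a + d * yy) (a + d * y n)
    have : F.eval (a + d * yy) = w * (a + d * yy - (a + d * y n)) + d ^ 2 * e n := by
      rw [← hw, ← hFy n]; ring
    rw [this]
    refine Ideal.add_mem _ ?_ ?_
    · have : w * (a + d * yy - (a + d * y n)) = (- w * d) * (y n - yy) := by ring
      rw [this]
      exact Ideal.mul_mem_left _ _ (hyy' n)
    · exact Ideal.mul_mem_left _ _ (hpow (by omega) (he n))




theorem pow_le_span {A : Type u} [CommRing A] [IsDomain A] [IsLocalRing A] [IsNoetherianRing A]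
    (hdim : ringKrullDim A = 1) (d : A) (hd : d ≠ 0) :
    ∃ k : ℕ, IsLocalRing.maximalIdeal A ^ k ≤ Ideal.span {d} := by
  have : Ring.KrullDimLE 1 A := Ring.krullDimLE_iff.mpr (by rw [hdim]; rfl)
  refine Ideal.exists_pow_le_of_le_radical_of_fg ?_ (isNoetherian_def.mp inferInstance _)
  rw [Ideal.radical_eq_sInf]
  refine le_sInf ?_
  rintro J ⟨hJ, hJp⟩
  have hne : J ≠ ⊥ := by
    rintro rfl
    exact hd (by simpa using hJ (Ideal.subset_span (Set.mem_singleton d)))
  have := hJp.isMaximal_of_ne_bot hne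
  rw [IsLocalRing.eq_maximalIdeal this]

theorem eval_mem_of_coeff {A : Type u} [CommRing A] (J : Ideal A) (Q : A[X])
    (hQ : ∀ i, Q.coeff i ∈ J) (x : A) : Q.eval x ∈ J := by
  rw [Polynomial.eval_eq_sum_range]
  exact Ideal.sum_mem _ fun i _ => Ideal.mul_mem_right _ _ (hQ i)

theorem deriv_coeff_mem {A : Type u} [CommRing A] (J : Ideal A) (Q : A[X])
    (hQ : ∀ i, Q.coeff i ∈ J) (i : ℕ) : (derivative Q).coeff i ∈ J := by
  rw [Polynomial.coeff_derivative]
  exact Ideal.mul_mem_right _ _ (hQ _)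


end helpers

/-- Let A be a complete Noetherian local domain of Krull dimension 1 with maximal ideal m, P a
polynomial over A and α a root of P which is not a root of the derivative P'. Then for every c there
is an n such that for every polynomial Q all of whose coefficients lie in m^n, the polynomial P + Q
has a root β with β - α in m^c. -/
theorem result (A : Type u) [CommRing A] [IsDomain A] [IsLocalRing A] [IsNoetherianRing A]
    [IsAdicComplete (IsLocalRing.maximalIdeal A) A] (hdim : ringKrullDim A = 1) (P : A[X]) (α : A)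
    (hα : P.eval α = 0) (hα' : (derivative P).eval α ≠ 0) (c : ℕ) :
    ∃ n : ℕ, ∀ Q : A[X], (∀ i, Q.coeff i ∈ IsLocalRing.maximalIdeal A ^ n) →
      ∃ β : A, (P + Q).eval β = 0 ∧ β - α ∈ IsLocalRing.maximalIdeal A ^ c := by
  obtain ⟨d, hd⟩ : ∃ d, d = (derivative P).eval α := ⟨_, rfl⟩
  rw [← hd] at hα'
  obtain ⟨k, hk⟩ := pow_le_span hdim (d ^ 2) (pow_ne_zero 2 hα')
  obtain ⟨c', hc'⟩ : ∃ c', c' = max c 1 := ⟨_, rfl⟩
  have hc1 : 1 ≤ c' := by omega
  have hcc : c ≤ c' := by omega
  refine ⟨k + c', fun Q hQ => ?_⟩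
  have hmem : ∀ x ∈ IsLocalRing.maximalIdeal A ^ (k + c'),
      ∃ t ∈ IsLocalRing.maximalIdeal A ^ c', x = d ^ 2 * t := by
    intro x hx
    rw [pow_add] at hx
    have := Ideal.mul_mono_left (K := IsLocalRing.maximalIdeal A ^ c') hk hx
    rw [Ideal.mem_span_singleton_mul] at this
    obtain ⟨z, hz, hzx⟩ := this
    exact ⟨z, hz, hzx.symm⟩
  obtain ⟨s, hs, hQs⟩ := hmem _ (eval_mem_of_coeff _ Q hQ α)
  obtain ⟨t, ht, hQt⟩ := hmem _ (eval_mem_of_coeff _ (derivative Q)
    (deriv_coeff_mem _ Q hQ) α)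
  have htm : t ∈ IsLocalRing.maximalIdeal A :=
    Ideal.pow_le_self (by omega) ht
  have hu : IsUnit (1 + d * t) := by
    have h1 : d * t ∈ IsLocalRing.maximalIdeal A := Ideal.mul_mem_left _ _ htm
    by_contra hnu
    have h2 : 1 + d * t ∈ IsLocalRing.maximalIdeal A := (IsLocalRing.mem_maximalIdeal _).mpr hnu
    have h3 : (1 : A) ∈ IsLocalRing.maximalIdeal A := by
      have : (1 : A) = (1 + d * t) - d * t := by ring
      rw [this]; exact Ideal.sub_mem _ h2 h1
    exact (IsLocalRing.maximalIdeal.isMaximal A).ne_top ((Ideal.eq_top_iff_one _).mpr h3)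
  obtain ⟨u, hu⟩ := hu
  have hder : (derivative (P + Q)).eval α = d * u := by
    rw [derivative_add, eval_add, ← hd, hQt, hu]; ring
  have hev : (P + Q).eval α = ((derivative (P + Q)).eval α) ^ 2 * ((↑(u⁻¹) : A) ^ 2 * s) := by
    rw [eval_add, hα, zero_add, hQs, hder]
    have : (u : A) * ↑(u⁻¹) = 1 := by simp
    linear_combination (-(d ^ 2 * s) * (u * ↑(u⁻¹) + 1)) * this
  obtain ⟨y, hy, hroot⟩ := newton (IsLocalRing.maximalIdeal A) (P + Q) α _ c' hc1
    (Ideal.mul_mem_left _ _ hs) hev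
  refine ⟨_, hroot, ?_⟩
  have : α + (derivative (P + Q)).eval α * y - α = (derivative (P + Q)).eval α * y := by ring
  rw [this]
  exact Ideal.mul_mem_left _ _ (Ideal.pow_le_pow_right hcc hy)


end Groth.Agent.S1965
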