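import Groth.Statements.S19651
import Mathlib.Tactic
import Mathlib.Algebra.Polynomial.EraseLead

set_option autoImplicit false
universe u v
open AbVar

namespace Groth.Agent.S19651

section aux
open Polynomial

variable {k : Type u} [Field k] {V : Type v} [AddCommGroup V] [Module k V]

theorem adj_pow (B : LinearMap.BilinForm k V) (M : V ≃ₗ[k] V)
    (hM : ∀ x y : V, B (M x) (M y) = B x y) (n : ℕ) (u v : V) :
    B (((M : V →ₗ[k] V) ^ n) u) (((M : V →ₗ[k] V) ^ n) v) = B u v := by
  induction n generalizing u v with
  | zero => simp
  | succ n ih =>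
    rw [pow_succ', Module.End.mul_apply, Module.End.mul_apply]
    simp only [LinearEquiv.coe_coe]
    rw [hM, ih]

theorem adj_reflect (B : LinearMap.BilinForm k V) (M : V ≃ₗ[k] V)
    (hM : ∀ x y : V, B (M x) (M y) = B x y) (N : ℕ) (P : k[X]) (hP : P.natDegree ≤ N) (u v : V) :
    B (aeval (M : V →ₗ[k] V) P u) (((M : V →ₗ[k] V) ^ N) v) =
      B u (aeval (M : V →ₗ[k] V) (reflect N P) v) := by
  revert u v
  refine induction_with_natDegree_le
    (fun P => ∀ u v, B (aeval (M : V →ₗ[k] V) P u) (((M : V →ₗ[k] V) ^ N) v) =
      B u (aeval (M : V →ₗ[k] V) (reflect N P) v)) N ?_ ?_ ?_ P hP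
  · intro u v; simp
  · intro n r _ hn u v
    rw [reflect_C_mul_X_pow, revAt_le hn]
    simp only [map_mul, aeval_C, map_pow, aeval_X, Module.End.mul_apply, Module.algebraMap_end_apply,
      map_smul, LinearMap.smul_apply, smul_eq_mul]
    congr 1
    have : N = n + (N - n) := by omega
    conv_lhs => rw [this, pow_add, Module.End.mul_apply]
    exact adj_pow B M hM n _ _
  · intro f g _ _ hf hg u v
    rw [reflect_add]
    simp only [map_add, LinearMap.add_apply, hf, hg]

theorem reverse_pow_aux (Q : k[X]) (n : ℕ) : (Q ^ n).reverse = Q.reverse ^ n := by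
  induction n with
  | zero => simp only [pow_zero]; exact reverse_C (1 : k)
  | succ n ih => rw [pow_succ, reverse_mul_of_domain, ih, pow_succ]

end aux

open Polynomial in
/-- Stated for an arbitrary invariant bilinear form, as the argument there allows. Let k be a field, V a
k-vector space with a bilinear form B and M a linear automorphism of V with B(Mx, My) = B(x, y) for
all x, y. If Q₁ and Q₂ are polynomials such that the reciprocal polynomial of Q₁ (its coefficient
list reversed) is coprime to Q₂, then every vector killed by a power of Q₁(M) is B-orthogonal to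
every vector killed by a power of Q₂(M). With Q₁ = Q₂ = Q this says that the generalized kernel of
Q(M) is totally isotropic whenever Q is coprime to its reciprocal polynomial, which for an
irreducible Q means that Q is not self-reciprocal. (The published statement takes M symplectic and
Q₁, Q₂ irreducible factors of the characteristic polynomial, with Q not self-reciprocal in the first
clause; its second clause asks Q₁ and Q₂ to be distinct and not reciprocal, which holds as proved
when this is read as saying that Q₂ is not the reciprocal of Q₁, but fails if it only means that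
neither is self-reciprocal, as the diagonal matrix with entries 2 and 1/2 preserving the standard
alternating form on k² shows; the coprimality of the reciprocal of Q₁ with Q₂, which is what the
published proof uses, is imposed here and covers both clauses.) -/
theorem result
    {k : Type u} [Field k] {V : Type v} [AddCommGroup V] [Module k V]
    (B : LinearMap.BilinForm k V) (M : V ≃ₗ[k] V)
    (hM : ∀ x y : V, B (M x) (M y) = B x y)
    (Q₁ Q₂ : k[X]) (h : IsCoprime Q₁.reverse Q₂)
    (x y : V)
    (hx : ∃ n : ℕ, (Polynomial.aeval (M : V →ₗ[k] V) Q₁ ^ n) x = 0)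
    (hy : ∃ n : ℕ, (Polynomial.aeval (M : V →ₗ[k] V) Q₂ ^ n) y = 0) :
    B x y = 0 := by
  obtain ⟨n, hn⟩ := hx
  obtain ⟨m, hm⟩ := hy
  have hcop : IsCoprime (Q₁.reverse ^ n) (Q₂ ^ m) := h.pow
  obtain ⟨a, b, hab⟩ := hcop
  -- y = R(M)^n (a(M) y)
  have hy' : y = aeval (M : V →ₗ[k] V) ((Q₁ ^ n).reverse) (aeval (M : V →ₗ[k] V) a y) := by
    have h1 : aeval (M : V →ₗ[k] V) (a * Q₁.reverse ^ n + b * Q₂ ^ m) y = y := by
      rw [hab]; simp
    rw [map_add, LinearMap.add_apply, map_mul, map_mul, Module.End.mul_apply, Module.End.mul_apply,
      map_pow (aeval (M : V →ₗ[k] V)) Q₂ m, hm, map_zero, add_zero] at h1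
    rw [reverse_pow_aux]
    conv_lhs => rw [← h1]
    rw [← Module.End.mul_apply, ← Module.End.mul_apply, ← map_mul, ← map_mul, mul_comm]
  rw [hy']
  unfold reverse
  rw [← adj_reflect B M hM _ _ le_rfl, map_pow, hn]
  simp

end Groth.Agent.S19651
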