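import Groth.Statements.S19652
import Groth.Agent.S19651
import Mathlib.Tactic
import Mathlib.RingTheory.Artinian.Module

set_option autoImplicit false
universe u v
open AbVar

namespace Groth.Agent.S19652

open Groth.Agent.S19651

section aux
open Polynomial

variable {k : Type u} [Field k] {V : Type v} [AddCommGroup V] [Module k V]

/-- key orthogonality: if `Q ~ Q.reverse` and `Q(M)^N w = 0` then `w ⟂ range Q(M)^N`. -/
theorem orth_aux (B : LinearMap.BilinForm k V) (M : V ≃ₗ[k] V)
    (hM : ∀ x y : V, B (M x) (M y) = B x y) (Q : k[X]) (hQ : Associated Q Q.reverse)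
    (N : ℕ) (w : V) (hw : ((aeval (M : V →ₗ[k] V) Q) ^ N) w = 0) (v : V) :
    B w (((aeval (M : V →ₗ[k] V) Q) ^ N) v) = 0 := by
  obtain ⟨u, hu⟩ := hQ
  -- v = aeval (u^N) v'
  set v' := aeval (M : V →ₗ[k] V) ((↑(u⁻¹) : k[X]) ^ N) v with hv'
  have e1 : ((aeval (M : V →ₗ[k] V) Q) ^ N) v =
      aeval (M : V →ₗ[k] V) ((Q ^ N).reverse) v' := by
    rw [reverse_pow_aux, ← hu, hv', ← Module.End.mul_apply, ← map_mul, mul_pow, mul_assoc,
      ← mul_pow, Units.mul_inv, one_pow, mul_one, map_pow]
  rw [e1]
  unfold reverse
  rw [← adj_reflect B M hM _ _ le_rfl, map_pow, hw, map_zero, LinearMap.zero_apply]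

end aux

open Polynomial in
/-- Stated for an arbitrary invariant nondegenerate bilinear form, as the argument there allows. Let k
be a field, V a finite-dimensional k-vector space with a nondegenerate bilinear form B and M a
linear automorphism of V with B(Mx, My) = B(x, y) for all x, y. If Q is a polynomial associated to
its own reciprocal polynomial (its coefficient list reversed), then B restricted to the generalized
kernel of Q(M), the union of the kernels of the powers Q(M)^n, is nondegenerate. (The published
statement takes M symplectic and Q a self-reciprocal divisor of the characteristic polynomial;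
divisibility plays no role and is not assumed.) -/
theorem result
    {k : Type u} [Field k] {V : Type v} [AddCommGroup V] [Module k V] [FiniteDimensional k V]
    (B : LinearMap.BilinForm k V) (hB : B.Nondegenerate) (M : V ≃ₗ[k] V)
    (hM : ∀ x y : V, B (M x) (M y) = B x y)
    (Q : k[X]) (hQ : Associated Q Q.reverse) :
    (B.restrict (⨆ n : ℕ, LinearMap.ker (Polynomial.aeval (M : V →ₗ[k] V) Q ^ n))).Nondegenerate := by
  classical
  set f : Module.End k V := Polynomial.aeval (M : V →ₗ[k] V) Q with hf
  obtain ⟨N, hN⟩ := Filter.eventually_atTop.mp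
    ((LinearMap.eventually_isCompl_ker_pow_range_pow f).and f.eventually_iSup_ker_pow_eq)
  obtain ⟨hc, hW⟩ := hN N le_rfl
  have hMflip : ∀ x y : V, B.flip (M x) (M y) = B.flip x y := fun x y => hM y x
  rw [hW]
  have hdecomp : ∀ z : V, ∃ a ∈ LinearMap.ker (f ^ N), ∃ v : V, a + (f ^ N) v = z := by
    intro z
    have hz : z ∈ LinearMap.ker (f ^ N) ⊔ LinearMap.range (f ^ N) := by
      rw [hc.sup_eq_top]; trivial
    obtain ⟨a, ha, b, ⟨v, rfl⟩, rfl⟩ := Submodule.mem_sup.mp hz
    exact ⟨a, ha, v, rfl⟩
  constructor
  · intro w hw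
    have hw0 : (f ^ N) (w : V) = 0 := w.2
    have : (w : V) = 0 := by
      apply hB.1
      intro z
      obtain ⟨a, ha, v, rfl⟩ := hdecomp z
      rw [map_add, orth_aux B M hM Q hQ N w hw0 v, add_zero]
      exact hw ⟨a, ha⟩
    exact Subtype.ext this
  · intro w hw
    have hw0 : (f ^ N) (w : V) = 0 := w.2
    have : (w : V) = 0 := by
      apply hB.2
      intro z
      obtain ⟨a, ha, v, rfl⟩ := hdecomp z
      rw [map_add, LinearMap.add_apply]
      have h2 : B ((f ^ N) v) (w : V) = 0 := orth_aux B.flip M hMflip Q hQ N w hw0 v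
      rw [h2, add_zero]
      exact hw ⟨a, ha⟩
    exact Subtype.ext this

end Groth.Agent.S19652
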