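import Groth.Statements.S1966
import Mathlib
import Groth.Agent.Lib.lead.Hensel
-- import your own Groth.Agent.* helpers here

set_option autoImplicit false
universe u
open EtAlg

namespace Groth.Agent.S1966

theorem exists_seq {X : ℕ → Type u} (good : ∀ j, X j → Prop) (R : ∀ j, X j → X (j+1) → Prop)
    (x0 : X 0) (h0 : good 0 x0)
    (hstep : ∀ j (a : X j), good j a → ∃ b : X (j+1), good (j+1) b ∧ R j a b) :
    ∃ x : ∀ j, X j, x 0 = x0 ∧ (∀ j, good j (x j)) ∧ ∀ j, R j (x j) (x (j+1)) := by
  classical
  let F : ∀ j, {a : X j // good j a} := fun j =>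
    Nat.rec (motive := fun j => {a : X j // good j a}) ⟨x0, h0⟩
      (fun j a => ⟨Classical.choose (hstep j a.1 a.2),
        (Classical.choose_spec (hstep j a.1 a.2)).1⟩) j
  refine ⟨fun j => (F j).1, rfl, fun j => (F j).2, fun j => ?_⟩
  exact (Classical.choose_spec (hstep j (F j).1 (F j).2)).2

theorem isUnit_of_map_nil {B C : Type*} [CommRing B] [CommRing C] (t : B →+* C)
    (ht : Function.Surjective t)
    (hnil : ∀ x, t x = 0 → IsNilpotent x) {b : B} (hb : IsUnit (t b)) : IsUnit b := by
  obtain ⟨u, hu⟩ := hb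
  obtain ⟨c, hc⟩ := ht (↑u⁻¹)
  have h1 : t (b * c - 1) = 0 := by
    rw [map_sub, map_mul, ← hu, hc, u.mul_inv, map_one, sub_self]
  have h2 : IsNilpotent (b * c - 1) := hnil _ h1
  have h3 : IsUnit (b * c) := by
    have := h2.isUnit_add_one
    simpa using this
  exact isUnit_of_mul_isUnit_left h3

/-- Towers indexed by the natural numbers: let (A_k) be rings with surjective transition maps A_{k+1} ->
A_k whose kernels consist of nilpotent elements, and let A be a ring with compatible projections p_k
: A -> A_k identifying A with the set of compatible sequences (p is jointly injective and every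
compatible sequence comes from an element of A). Then for every k the pair (A, ker p_k) is
henselian. -/
theorem result (A : Type u) [CommRing A] (As : ℕ → Type u) [∀ k, CommRing (As k)]
    (t : ∀ k, As (k + 1) →+* As k) (ht : ∀ k, Function.Surjective (t k))
    (hnil : ∀ k (x : As (k + 1)), t k x = 0 → IsNilpotent x)
    (p : ∀ k, A →+* As k) (hp : ∀ k, (t k).comp (p (k + 1)) = p k)
    (hinj : ∀ a b : A, (∀ k, p k a = p k b) → a = b)
    (hsurj : ∀ x : ∀ k, As k, (∀ k, t k (x (k + 1)) = x k) → ∃ a : A, ∀ k, p k a = x k) (k : ℕ) :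
    HenselianRing A (RingHom.ker (p k)) := by
  have hp' : ∀ j (a : A), t j (p (j+1) a) = p j a := fun j a => RingHom.congr_fun (hp j) a
  have hker : ∀ j m, j ≤ m → RingHom.ker (p m) ≤ RingHom.ker (p j) := by
    intro j m hjm
    induction m, hjm using Nat.le_induction with
    | base => exact le_rfl
    | succ m hjm ih =>
      refine le_trans ?_ ih
      intro x hx
      rw [RingHom.mem_ker] at hx ⊢
      rw [← hp', hx, map_zero]
  have hunitA : ∀ a : A, (∀ j, IsUnit (p j a)) → IsUnit a := by
    intro a ha
    have hy : ∀ j, ∃ y : As j, p j a * y = 1 := fun j => by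
      obtain ⟨u, hu⟩ := ha j
      exact ⟨↑u⁻¹, by rw [← hu, u.mul_inv]⟩
    choose y hy using hy
    have hcompat : ∀ j, t j (y (j+1)) = y j := by
      intro j
      have h1 : p j a * t j (y (j+1)) = 1 := by
        rw [← hp', ← map_mul, hy, map_one]
      calc t j (y (j+1)) = t j (y (j+1)) * (p j a * y j) := by rw [hy, mul_one]
        _ = (p j a * t j (y (j+1))) * y j := by ring
        _ = y j := by rw [h1, one_mul]
    obtain ⟨b, hb⟩ := hsurj y hcompat
    have : a * b = 1 := by
      apply hinj
      intro j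
      rw [map_mul, hb, hy, map_one]
    exact IsUnit.of_mul_eq_one b this
  have hiff : ∀ (a : A) j, IsUnit (p (j+1) a) ↔ IsUnit (p j a) := by
    intro a j
    constructor
    · intro h
      rw [← hp']
      exact h.map (t j)
    · intro h
      rw [← hp'] at h
      exact isUnit_of_map_nil (t j) (ht j) (hnil j) h
  have hiff0 : ∀ (a : A) j, IsUnit (p j a) ↔ IsUnit (p 0 a) := by
    intro a j
    induction j with
    | zero => exact Iff.rfl
    | succ j ih => exact (hiff a j).trans ih
  have hunit_k : ∀ a : A, IsUnit (p k a) → IsUnit a := by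
    intro a ha
    apply hunitA
    intro j
    rw [hiff0 a j, ← hiff0 a k]
    exact ha
  refine ⟨?_, ?_⟩
  · intro x hx
    rw [Ideal.mem_jacobson_bot]
    intro y
    apply hunit_k
    rw [RingHom.mem_ker] at hx
    rw [map_add, map_mul, hx, zero_mul, zero_add, map_one]
    exact isUnit_one
  · intro f hf a₀ h₁ h₂
    -- derivative unit in A
    have hu₀ : IsUnit (p k (f.derivative.eval a₀)) := by
      obtain ⟨v, hv⟩ := h₂
      obtain ⟨w, hw⟩ := Ideal.Quotient.mk_surjective (I := RingHom.ker (p k)) (↑v⁻¹ : A ⧸ RingHom.ker (p k))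
      have h3 : Ideal.Quotient.mk (RingHom.ker (p k)) (f.derivative.eval a₀ * w) =
          Ideal.Quotient.mk (RingHom.ker (p k)) 1 := by
        rw [map_mul, hw, ← hv, v.mul_inv, map_one]
      rw [Ideal.Quotient.eq, RingHom.mem_ker, map_sub, map_mul, map_one, sub_eq_zero] at h3
      exact IsUnit.of_mul_eq_one _ h3
    have hu : ∀ j, IsUnit (p j (f.derivative.eval a₀)) := fun j => by
      rw [hiff0 _ j, ← hiff0 _ k]; exact hu₀
    let good : ∀ j, As j → Prop := fun j a =>
      (f.map (p j)).IsRoot a ∧ IsUnit ((f.map (p j)).derivative.eval a) ∧ (j ≤ k → a = p j a₀)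
    have hgood_le : ∀ j, j ≤ k → good j (p j a₀) := by
      intro j hjk
      refine ⟨?_, ?_, fun _ => rfl⟩
      · rw [Polynomial.IsRoot.def, Polynomial.eval_map_apply]
        exact hker j k hjk h₁
      · rw [Polynomial.derivative_map, Polynomial.eval_map_apply]
        exact hu j
    have hstep : ∀ j (a : As j), good j a → ∃ b : As (j+1), good (j+1) b ∧ t j b = a := by
      intro j a hga
      by_cases hjk : j + 1 ≤ k
      · refine ⟨p (j+1) a₀, hgood_le _ hjk, ?_⟩
        rw [hp', hga.2.2 (by omega)]
      · have : HenselianRing (As (j+1)) (RingHom.ker (t j)) :=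
          Groth.Agent.Lib.lead.Hensel.henselian_of_nil _ (fun x hx => hnil j x hx)
        obtain ⟨b₀, hb₀⟩ := ht j a
        have hmm : (f.map (p (j+1))).map (t j) = f.map (p j) := by
          rw [Polynomial.map_map, hp j]
        have hmapd : ∀ b : As (j+1), t j b = a →
            IsUnit ((f.map (p (j+1))).derivative.eval b) := by
          intro b hb
          apply isUnit_of_map_nil (t j) (ht j) (hnil j)
          rw [← Polynomial.eval_map_apply, ← Polynomial.derivative_map, hmm, hb]
          exact hga.2.1
        have e₁ : (f.map (p (j+1))).eval b₀ ∈ RingHom.ker (t j) := by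
          rw [RingHom.mem_ker, ← Polynomial.eval_map_apply, hmm, hb₀]
          exact hga.1
        have e₂ : IsUnit (Ideal.Quotient.mk (RingHom.ker (t j))
            ((f.map (p (j+1))).derivative.eval b₀)) := (hmapd b₀ hb₀).map _
        obtain ⟨b, hb1, hb2⟩ := HenselianRing.is_henselian (f.map (p (j+1))) (hf.map _) b₀ e₁ e₂
        have hb3 : t j b = a := by
          rw [RingHom.mem_ker, map_sub, sub_eq_zero] at hb2
          rw [hb2, hb₀]
        exact ⟨b, ⟨hb1, hmapd b hb3, fun h => absurd h hjk⟩, hb3⟩
    obtain ⟨x, -, hx1, hx2⟩ := exists_seq good (fun j a b => t j b = a) (p 0 a₀)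
      (hgood_le 0 (Nat.zero_le k)) hstep
    obtain ⟨a, ha⟩ := hsurj x hx2
    refine ⟨a, ?_, ?_⟩
    · rw [Polynomial.IsRoot.def]
      apply hinj
      intro j
      rw [← Polynomial.eval_map_apply, ha j, map_zero]
      exact (hx1 j).1
    · rw [RingHom.mem_ker, map_sub, ha k, (hx1 k).2.2 le_rfl, sub_self]

end Groth.Agent.S1966
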