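import Groth.Statements.S19660
import Mathlib.Tactic
import Mathlib.RingTheory.Artinian.Module
import Mathlib.Algebra.Polynomial.RingDivision

set_option autoImplicit false
universe u v
open AbVar

namespace Groth.Agent.S19660

section aux
open Polynomial Filter

variable {k : Type u} [Field k] {V : Type v} [AddCommGroup V] [Module k V]

theorem sign_aux (a b : Module.End k V) (n : ℕ) (x : V) (h : ((a - b) ^ n) x = 0) :
    ((b - a) ^ n) x = 0 := by
  have : (b - a) ^ n = (-1) ^ n * (a - b) ^ n := by rw [← neg_pow, neg_sub]
  rw [this, Module.End.mul_apply, h, map_zero]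

theorem lemA (B : LinearMap.BilinForm k V) (q : k) (f : Module.End k V)
    (hM : ∀ x y : V, B (f x) (f y) = q * B x y) (n : ℕ) (u v : V) :
    B (((1 - f) ^ n) u) ((f ^ n) v) = B u (((f - q • (1 : Module.End k V)) ^ n) v) := by
  induction n generalizing u v with
  | zero => simp
  | succ n ih =>
    have hc : Commute f ((f - q • (1 : Module.End k V)) ^ n) :=
      ((Commute.refl f).sub_right ((Commute.one_right f).smul_right q)).pow_right n
    rw [pow_succ (1 - f), pow_succ f, Module.End.mul_apply, Module.End.mul_apply, ih,
      pow_succ' (f - q • (1 : Module.End k V)), Module.End.mul_apply]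
    have : ((f - q • (1 : Module.End k V)) ^ n) (f v) = f (((f - q • (1 : Module.End k V)) ^ n) v) := by
      rw [← Module.End.mul_apply, ← Module.End.mul_apply, hc.eq]
    rw [this]
    set w := ((f - q • (1 : Module.End k V)) ^ n) v
    simp only [LinearMap.sub_apply, Module.End.one_apply, LinearMap.smul_apply, map_sub, map_smul,
      smul_eq_mul, hM]

theorem lemA' (B : LinearMap.BilinForm k V) (q : k) (f : Module.End k V)
    (hM : ∀ x y : V, B (f x) (f y) = q * B x y) (n : ℕ) (u v : V) :
    B ((f ^ n) u) (((f - q • (1 : Module.End k V)) ^ n) v) = q ^ n * B (((1 - f) ^ n) u) v := by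
  induction n generalizing u v with
  | zero => simp
  | succ n ih =>
    have hc : Commute f ((1 - f) ^ n) :=
      ((Commute.one_right f).sub_right (Commute.refl f)).pow_right n
    rw [pow_succ f, pow_succ (f - q • (1 : Module.End k V)), Module.End.mul_apply,
      Module.End.mul_apply, ih, pow_succ' (1 - f), Module.End.mul_apply]
    have : ((1 - f) ^ n) (f u) = f (((1 - f) ^ n) u) := by
      rw [← Module.End.mul_apply, ← Module.End.mul_apply, hc.eq]
    rw [this]
    set w := ((1 - f) ^ n) u
    simp only [LinearMap.sub_apply, Module.End.one_apply, LinearMap.smul_apply, map_sub, map_smul,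
      smul_eq_mul, hM]
    ring

/-- if `(f - a)^m x = 0` and `a ≠ b` then `x ∈ range (f - b)^n` -/
theorem range_aux (f : Module.End k V) (a b : k) (hab : a ≠ b) (m n : ℕ) (x : V)
    (hx : ((f - a • (1 : Module.End k V)) ^ m) x = 0) :
    ∃ z, ((f - b • (1 : Module.End k V)) ^ n) z = x := by
  have hcop : IsCoprime ((X - C b : k[X]) ^ n) ((X - C a) ^ m) :=
    (isCoprime_X_sub_C_of_isUnit_sub (sub_ne_zero.mpr (Ne.symm hab)).isUnit).pow
  obtain ⟨c, d, hcd⟩ := hcop
  have h1 : aeval f (c * (X - C b) ^ n + d * (X - C a) ^ m) x = x := by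
    rw [hcd]; simp
  have e1 : aeval f (X - C a : k[X]) = f - a • (1 : Module.End k V) := by
    simp [Algebra.algebraMap_eq_smul_one]
  have e2 : aeval f (X - C b : k[X]) = f - b • (1 : Module.End k V) := by
    simp [Algebra.algebraMap_eq_smul_one]
  rw [map_add, LinearMap.add_apply, mul_comm c, map_mul, map_mul, Module.End.mul_apply,
    Module.End.mul_apply, map_pow, map_pow, e1, e2, hx, map_zero, add_zero] at h1
  exact ⟨_, h1⟩

end aux

/-- The text applies this to the Frobenius acting on the points of prime order of a principally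
polarised abelian variety over a finite field with q elements and to their Weil pairing. Let k be a
field, V a finite-dimensional k-vector space with a nondegenerate bilinear form B, q a nonzero
element of k and M a linear automorphism of V with B(Mx, My) = q·B(x, y) for all x, y. Write V₁ and
V_q for the generalized eigenspaces of M at 1 and at q. Then every vector of V₁ that is B-orthogonal
to all of V_q is zero, every vector of V_q that is B-orthogonal (on the right) to all of V₁ is zero,
and when q ≠ 1 the form B vanishes identically on V₁ × V₁ and on V_q × V_q. (The text asserts this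
as the evident adaptation, to a form scaled by q, of the orthogonality and nondegeneracy facts for
generalized kernels of an automorphism preserving a form; the abstract statement is recorded here,
the application to the Weil pairing needing that pairing's formalism.) -/
theorem result
    {k : Type u} [Field k] {V : Type v} [AddCommGroup V] [Module k V] [FiniteDimensional k V]
    (B : LinearMap.BilinForm k V) (hB : B.Nondegenerate) (q : k) (hq : q ≠ 0)
    (M : V ≃ₗ[k] V) (hM : ∀ x y : V, B (M x) (M y) = q * B x y) :
    (∀ x ∈ Module.End.maxGenEigenspace (M : Module.End k V) 1,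
        (∀ y ∈ Module.End.maxGenEigenspace (M : Module.End k V) q, B x y = 0) → x = 0) ∧
      (∀ y ∈ Module.End.maxGenEigenspace (M : Module.End k V) q,
        (∀ x ∈ Module.End.maxGenEigenspace (M : Module.End k V) 1, B x y = 0) → y = 0) ∧
      (q ≠ 1 → ∀ x ∈ Module.End.maxGenEigenspace (M : Module.End k V) 1,
        ∀ x' ∈ Module.End.maxGenEigenspace (M : Module.End k V) 1, B x x' = 0) ∧
      (q ≠ 1 → ∀ y ∈ Module.End.maxGenEigenspace (M : Module.End k V) q,
        ∀ y' ∈ Module.End.maxGenEigenspace (M : Module.End k V) q, B y y' = 0) := by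
  classical
  set f : Module.End k V := (M : Module.End k V) with hf
  have hM' : ∀ x y : V, B (f x) (f y) = q * B x y := fun x y => hM x y
  have A := lemA B q f hM'
  have A' := lemA' B q f hM'
  refine ⟨?_, ?_, ?_, ?_⟩
  · intro x hx hxy
    rw [Module.End.mem_maxGenEigenspace] at hx
    obtain ⟨n₀, hn₀⟩ := hx
    obtain ⟨N, hN⟩ := Filter.eventually_atTop.mp
      (LinearMap.eventually_isCompl_ker_pow_range_pow (f - q • (1 : Module.End k V)))
    set n := max n₀ N with hn
    have hc := hN n (le_max_right _ _)
    have hx0 : ((1 - f) ^ n) x = 0 := by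
      apply sign_aux
      have := Module.End.pow_map_zero_of_le (le_max_left n₀ N) hn₀
      simpa using this
    apply hB.1 x
    intro z
    have hz : z ∈ LinearMap.ker ((f - q • (1 : Module.End k V)) ^ n) ⊔
        LinearMap.range ((f - q • (1 : Module.End k V)) ^ n) := by
      rw [hc.sup_eq_top]; trivial
    obtain ⟨a, ha, b, ⟨w, rfl⟩, rfl⟩ := Submodule.mem_sup.mp hz
    rw [map_add, ← A, hx0, map_zero, LinearMap.zero_apply, add_zero]
    apply hxy
    rw [Module.End.mem_maxGenEigenspace]
    exact ⟨n, ha⟩
  · intro y hy hxy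
    rw [Module.End.mem_maxGenEigenspace] at hy
    obtain ⟨n₀, hn₀⟩ := hy
    obtain ⟨N, hN⟩ := Filter.eventually_atTop.mp
      (LinearMap.eventually_isCompl_ker_pow_range_pow ((1 : Module.End k V) - f))
    set n := max n₀ N with hn
    have hc := hN n (le_max_right _ _)
    have hy0 : ((f - q • (1 : Module.End k V)) ^ n) y = 0 :=
      Module.End.pow_map_zero_of_le (le_max_left n₀ N) hn₀
    apply hB.2 y
    intro z
    have hz : z ∈ LinearMap.ker (((1 : Module.End k V) - f) ^ n) ⊔
        LinearMap.range (((1 : Module.End k V) - f) ^ n) := by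
      rw [hc.sup_eq_top]; trivial
    obtain ⟨a, ha, b, ⟨w, rfl⟩, rfl⟩ := Submodule.mem_sup.mp hz
    rw [map_add, LinearMap.add_apply]
    have h1 : B a y = 0 := by
      apply hxy
      rw [Module.End.mem_maxGenEigenspace]
      refine ⟨n, ?_⟩
      rw [one_smul]
      exact sign_aux _ _ n a ha
    have h2 : B (((1 - f) ^ n) w) y = 0 := by
      have := A' n w y
      rw [hy0, map_zero] at this
      have hq : q ^ n ≠ 0 := pow_ne_zero _ hq
      exact (mul_eq_zero.mp this.symm).resolve_left hq
    rw [h1, h2, add_zero]
  · intro hq1 x hx x' hx'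
    rw [Module.End.mem_maxGenEigenspace] at hx hx'
    obtain ⟨n, hn⟩ := hx
    obtain ⟨m, hm⟩ := hx'
    have hx0 : ((1 - f) ^ n) x = 0 := by
      apply sign_aux
      simpa using hn
    obtain ⟨z, rfl⟩ := range_aux f 1 q (Ne.symm hq1) m n x' hm
    rw [← A, hx0, map_zero, LinearMap.zero_apply]
  · intro hq1 y hy y' hy'
    rw [Module.End.mem_maxGenEigenspace] at hy hy'
    obtain ⟨n, hn⟩ := hy
    obtain ⟨m, hm⟩ := hy'
    obtain ⟨z, hz⟩ := range_aux f q 1 hq1 n m y hn
    -- y = (f - 1)^m z = (1 - f)^m ((-1)^m z)
    have hy2 : y = ((1 - f) ^ m) (((-1 : Module.End k V) ^ m) z) := by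
      rw [← hz, ← Module.End.mul_apply, one_smul]
      have : (f - 1) ^ m = (1 - f) ^ m * (-1) ^ m := by
        rw [← neg_sub 1 f, neg_pow']
      rw [this]
    have := A' m (((-1 : Module.End k V) ^ m) z) y'
    rw [hm, map_zero, ← hy2] at this
    have hqm : q ^ m ≠ 0 := pow_ne_zero _ hq
    exact (mul_eq_zero.mp this.symm).resolve_left hqm

end Groth.Agent.S19660
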