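import Groth.Statements.S19679
import Mathlib
import Groth.Agent.S18859
import Groth.Agent.S18977
import Groth.Agent.S8718
-- import your own Groth.Agent.* helpers here

set_option autoImplicit false
universe u
open CategoryTheory MonoidalCategory CartesianMonoidalCategory MonObj AlgebraicGeometry
open ChGrp

namespace Groth.Agent.S19679

open CategoryTheory CategoryTheory.Limits AlgebraicGeometry

namespace H5S19679

open MonoidalCategory CartesianMonoidalCategory MonObj Groth.Agent.S18859 Groth.Agent.S18977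
  Groth.Agent.S8718

variable {S : Scheme.{u}}

theorem main {G H Z Y P Q : Over S} [GrpObj G] [GrpObj H]
    (i : H ⟶ G) [IsMonHom i]
    (aZ : AlgGrp.Action H Z) (aY : AlgGrp.Action G Y) (j : G ⊗ Z ⟶ Y)
    (hY : ChGrp.IsBalProd Scheme.fppfPrecoverage i aZ aY j)
    (πZ : Z ⟶ P) (hP : GIT.IsCatQuot aZ πZ) (πY : Y ⟶ Q) (hQ : GIT.IsCatQuot aY πY) :
    ∃ (φ : P ⟶ Q) (χ : Q ⟶ P), φ ≫ χ = 𝟙 P ∧ χ ≫ φ = 𝟙 Q ∧
      πZ ≫ φ = lift (toUnit Z ≫ η[G]) (𝟙 Z) ≫ j ≫ πY ∧ j ≫ πY ≫ χ = snd G Z ≫ πZ := by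
  obtain ⟨heq, hsq, hloc0⟩ := hY
  have hloc : NonAbH1.IsLocallyTrivialFor Scheme.fpqcPrecoverage (Over.mk j.left : Over Y.left) :=
    H5S8718.loc_mono Scheme.fppfPrecoverage_le_fpqcPrecoverage hloc0
  obtain ⟨hPinv, hPu⟩ := hP
  obtain ⟨hQinv, hQu⟩ := hQ
  have hPinv' : ∀ {T : Over S} (h : T ⟶ H) (z : T ⟶ Z), (lift h z ≫ aZ.act) ≫ πZ = z ≫ πZ := by
    intro T h z
    rw [Category.assoc, hPinv, lift_snd_assoc]
  have hQinv' : ∀ {T : Over S} (g : T ⟶ G) (y : T ⟶ Y), (lift g y ≫ aY.act) ≫ πY = y ≫ πY := by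
    intro T g y
    rw [Category.assoc, hQinv, lift_snd_assoc]
  have hjeq : ∀ {T : Over S} (g g' : T ⟶ G) (z : T ⟶ Z),
      lift (g * g') z ≫ j = lift g (lift g' z ≫ j) ≫ aY.act := by
    intro T g g' z
    have := congrArg (fun t => lift g (lift g' z) ≫ t) heq
    simp only [lift_whiskerLeft_assoc] at this
    rw [← this, ← Category.assoc, AlgGrp.Action.lift_prod_act, AlgGrp.Action.lift_trivial_act]
    congr 2
  have hjinv : ∀ {T : Over S} (h : T ⟶ H) (g : T ⟶ G) (z : T ⟶ Z),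
      lift (g * (h ≫ i)⁻¹) (lift h z ≫ aZ.act) ≫ j = lift g z ≫ j := by
    intro T h g z
    rw [← ChGrp.lift_twist_act, Category.assoc, hsq.w, lift_snd_assoc]
  -- Step 1
  let f₀ : Z ⟶ Q := lift (toUnit Z ≫ η[G]) (𝟙 Z) ≫ j ≫ πY
  have hf₀pt : ∀ {T : Over S} (z : T ⟶ Z), z ≫ f₀ = lift 1 z ≫ j ≫ πY := by
    intro T z
    change z ≫ lift (toUnit Z ≫ η[G]) (𝟙 Z) ≫ j ≫ πY = _
    have e : z ≫ lift (toUnit Z ≫ η[G]) (𝟙 Z) = lift (1 : T ⟶ G) z := by
      rw [comp_lift, Category.comp_id, Hom.one_def, ← Category.assoc,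
        toUnit_unique (z ≫ toUnit Z) (toUnit T)]
    rw [← Category.assoc, e]
  have hf₀inv : GIT.IsInvariant aZ f₀ := by
    apply AlgGrp.Action.hom_ext_lift₂
    intro T h z
    rw [← Category.assoc, hf₀pt, lift_snd_assoc, hf₀pt]
    have e1 : lift (1 : T ⟶ G) (lift h z ≫ aZ.act) ≫ j = lift (h ≫ i) z ≫ j := by
      rw [← hjinv h (h ≫ i) z, mul_inv_cancel]
    have e2 : lift (h ≫ i) z ≫ j = lift (h ≫ i) (lift 1 z ≫ j) ≫ aY.act := by
      rw [← hjeq, _root_.mul_one]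
    rw [← Category.assoc, e1, e2, hQinv', Category.assoc]
  obtain ⟨φ, hφ, -⟩ := hPu Q f₀ hf₀inv
  -- Step 2
  have hx : ∀ {W : Over S} (p₁ p₂ : W ⟶ G ⊗ Z), p₁ ≫ j = p₂ ≫ j →
      p₁ ≫ snd G Z ≫ πZ = p₂ ≫ snd G Z ≫ πZ := by
    intro W p₁ p₂ e
    obtain ⟨h, hh, -⟩ := H5S18977.sq_tr hsq p₁ p₂ e
    have hp₂ : p₂ = lift (p₂ ≫ fst G Z) (p₂ ≫ snd G Z) := by
      apply CartesianMonoidalCategory.hom_ext <;> simp
    rw [hp₂, ChGrp.lift_twist_act] at hh
    rw [← hh, lift_snd_assoc, hPinv', Category.assoc]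
  obtain ⟨ψ, hψ, -⟩ := H5S8718.desc_over j hloc (snd G Z ≫ πZ) hx
  have hψpt : ∀ {T : Over S} (g : T ⟶ G) (z : T ⟶ Z), (lift g z ≫ j) ≫ ψ = z ≫ πZ := by
    intro T g z
    rw [Category.assoc, hψ, lift_snd_assoc]
  -- Step 3
  have hψinv : GIT.IsInvariant aY ψ := by
    apply H5S8718.epi_of_loc (G ◁ j) (H5S8718.loc_whiskerLeft j G hloc)
    apply AlgGrp.Action.hom_ext_lift₂
    intro T g w
    have hw : w = lift (w ≫ fst G Z) (w ≫ snd G Z) := by
      apply CartesianMonoidalCategory.hom_ext <;> simp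
    rw [lift_whiskerLeft_assoc, lift_whiskerLeft_assoc, lift_snd_assoc, hw, ← Category.assoc,
      ← hjeq, hψpt, hψpt]
  obtain ⟨χ, hχ, -⟩ := hQu P ψ hψinv
  refine ⟨φ, χ, ?_, ?_, hφ, ?_⟩
  · obtain ⟨c, -, hcu⟩ := hPu P πZ hPinv
    have h1 : πZ ≫ φ ≫ χ = πZ := by
      rw [← Category.assoc, hφ]
      change (lift (toUnit Z ≫ η[G]) (𝟙 Z) ≫ j ≫ πY) ≫ χ = _
      rw [Category.assoc, Category.assoc, hχ, hψ, lift_snd_assoc, Category.id_comp]
    rw [hcu (φ ≫ χ) h1, hcu (𝟙 P) (Category.comp_id _)]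
  · obtain ⟨c, -, hcu⟩ := hQu Q πY hQinv
    have h2 : ψ ≫ φ = πY := by
      apply H5S8718.epi_of_loc j hloc
      apply AlgGrp.Action.hom_ext_lift₂
      intro T g z
      rw [← Category.assoc, ← Category.assoc, hψpt, Category.assoc, hφ, hf₀pt]
      have e2 : lift g z ≫ j = lift g (lift 1 z ≫ j) ≫ aY.act := by
        rw [← hjeq, _root_.mul_one]
      rw [← Category.assoc (lift g z), e2, hQinv', Category.assoc]
    have h1 : πY ≫ χ ≫ φ = πY := by
      rw [← Category.assoc, hχ, h2]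
    rw [hcu (χ ≫ φ) h1, hcu (𝟙 Q) (Category.comp_id _)]
  · rw [hχ, hψ]

end H5S19679

/-- Let k be an algebraically closed field of characteristic zero, G and H affine group schemes of
finite type over k (algebraic groups) with i : H → G a homomorphism which is a closed immersion, and
Z a reduced affine k-scheme of finite type (an affine variety) with an action of H. Let Y, with its
G-action and j : G × Z → Y, be the balanced product G ×^H Z for the fppf topology: j is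
G-equivariant for left translation on the first factor, it is a torsor for the twisted H-action
h·(g, z) = (g i(h)⁻¹, h·z), and it has sections fppf-locally on Y. If π_Z : Z → P is a categorical
quotient of Z by H and π_Y : Y → Q a categorical quotient of Y by G, then the projection G × Z → Z
induces an isomorphism Q ≅ P, inverse to the morphism induced by the H-invariant map z ↦ π_Y(j(e,
z)): there are mutually inverse φ : P → Q and χ : Q → P with π_Z followed by φ equal to z ↦ π_Y(j(e,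
z)) and j followed by π_Y and χ equal to the projection followed by π_Z (so Y//G ≅ Z//H). (The
source assumes G and H reductive and defines G ×^H Z as the quotient (G × Z)//H, a principal
H-bundle; here the quotients are part of the data, the balanced product is taken in its torsor form,
and reductivity is not needed.) -/
theorem result
    (k : Type u) [Field k] [IsAlgClosed k] [CharZero k]
    (G H Z Y P Q : Over (Spec (CommRingCat.of k))) [GrpObj G] [GrpObj H]
    [IsAffine G.left] [LocallyOfFiniteType G.hom] [IsAffine H.left] [LocallyOfFiniteType H.hom]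
    (i : H ⟶ G) [IsMonHom i] [IsClosedImmersion i.left]
    [IsAffine Z.left] [LocallyOfFiniteType Z.hom] [IsReduced Z.left]
    (aZ : AlgGrp.Action H Z) (aY : AlgGrp.Action G Y) (j : G ⊗ Z ⟶ Y)
    (hY : ChGrp.IsBalProd Scheme.fppfPrecoverage i aZ aY j)
    (πZ : Z ⟶ P) (hP : GIT.IsCatQuot aZ πZ) (πY : Y ⟶ Q) (hQ : GIT.IsCatQuot aY πY) :
    ∃ (φ : P ⟶ Q) (χ : Q ⟶ P), φ ≫ χ = 𝟙 P ∧ χ ≫ φ = 𝟙 Q ∧
      πZ ≫ φ = lift (toUnit Z ≫ η[G]) (𝟙 Z) ≫ j ≫ πY ∧ j ≫ πY ≫ χ = snd G Z ≫ πZ := by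
  exact H5S19679.main i aZ aY j hY πZ hP πY hQ

end Groth.Agent.S19679
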