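import Groth.Statements.S19681
import Mathlib
import Groth.Agent.S18859
import Groth.Agent.S18977
import Groth.Agent.S8718
-- import your own Groth.Agent.* helpers here

set_option autoImplicit false
universe u
open CategoryTheory MonoidalCategory CartesianMonoidalCategory MonObj AlgebraicGeometry
open ChGrp

namespace Groth.Agent.S19681

open CategoryTheory CategoryTheory.Limits AlgebraicGeometry

namespace H5S19681

open MonoidalCategory CartesianMonoidalCategory MonObj Groth.Agent.S18859 Groth.Agent.S18977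
  Groth.Agent.S8718

variable {S : Scheme.{u}}

theorem main {G H Z Y Y' : Over S} [GrpObj G] [GrpObj H]
    (i : H ⟶ G) [IsMonHom i]
    (aZ : AlgGrp.Action H Z) (aY : AlgGrp.Action G Y) (j : G ⊗ Z ⟶ Y)
    (hY : ChGrp.IsBalProd Scheme.fppfPrecoverage i aZ aY j)
    (c : Y' ⟶ Y) [IsClosedImmersion c.left]
    (aY' : AlgGrp.Action G Y') (hc : AlgGrp.Action.IsEquivariant aY' aY c) :
    ∃ (Z' : Over S) (c' : Z' ⟶ Z) (aZ' : AlgGrp.Action H Z') (j' : G ⊗ Z' ⟶ Y'),
      IsClosedImmersion c'.left ∧ AlgGrp.Action.IsEquivariant aZ' aZ c' ∧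
      j' ≫ c = (G ◁ c') ≫ j ∧ ChGrp.IsBalProd Scheme.fppfPrecoverage i aZ' aY' j' := by
  obtain ⟨heq, hsq, hloc0⟩ := hY
  haveI : Mono c := (Over.forget S).mono_of_mono_map (inferInstanceAs (Mono c.left))
  have hcpt : ∀ {T : Over S} (g : T ⟶ G) (y : T ⟶ Y'),
      (lift g y ≫ aY'.act) ≫ c = lift g (y ≫ c) ≫ aY.act := by
    intro T g y
    rw [Category.assoc, hc, lift_whiskerLeft_assoc]
  have hjeq : ∀ {T : Over S} (g g' : T ⟶ G) (z : T ⟶ Z),
      lift (g * g') z ≫ j = lift g (lift g' z ≫ j) ≫ aY.act := by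
    intro T g g' z
    have := congrArg (fun t => lift g (lift g' z) ≫ t) heq
    simp only [lift_whiskerLeft_assoc] at this
    rw [← this, ← Category.assoc, AlgGrp.Action.lift_prod_act, AlgGrp.Action.lift_trivial_act]
    congr 2
  have hjinv : ∀ {T : Over S} (h : T ⟶ H) (g : T ⟶ G) (z : T ⟶ Z),
      lift (g * (h ≫ i)⁻¹) (lift h z ≫ aZ.act) ≫ j = lift g z ≫ j := by
    intro T h g z
    rw [← ChGrp.lift_twist_act, Category.assoc, hsq.w, lift_snd_assoc]
  obtain ⟨eZ, heZdef⟩ : ∃ eZ : Z ⟶ Y, eZ = lift (toUnit Z ≫ η[G]) (𝟙 Z) ≫ j := ⟨_, rfl⟩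
  have heZ : ∀ {T : Over S} (z : T ⟶ Z), z ≫ eZ = lift 1 z ≫ j := by
    intro T z
    have e : z ≫ lift (toUnit Z ≫ η[G]) (𝟙 Z) = lift (1 : T ⟶ G) z := by
      rw [comp_lift, Category.comp_id, Hom.one_def, ← Category.assoc,
        toUnit_unique (z ≫ toUnit Z) (toUnit T)]
    rw [heZdef, ← Category.assoc, e]
  have heZact : ∀ {T : Over S} (h : T ⟶ H) (z : T ⟶ Z),
      (lift h z ≫ aZ.act) ≫ eZ = lift (h ≫ i) (z ≫ eZ) ≫ aY.act := by
    intro T h z
    rw [heZ, heZ, ← hjeq, _root_.mul_one, ← hjinv h (h ≫ i) z, mul_inv_cancel]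
  obtain ⟨Z', c', y', hpb⟩ : ∃ (Z' : Over S) (c' : Z' ⟶ Z) (y' : Z' ⟶ Y'), IsPullback c' y' eZ c :=
    ⟨_, _, _, IsPullback.of_hasPullback eZ c⟩
  have hcond : c' ≫ eZ = y' ≫ c := hpb.w
  have hext : ∀ {T : Over S} (p₁ p₂ : T ⟶ Z'), p₁ ≫ c' = p₂ ≫ c' → p₁ = p₂ := by
    intro T p₁ p₂ h
    apply hpb.hom_ext h
    rw [← cancel_mono c, Category.assoc, Category.assoc, ← hcond, ← Category.assoc, ← Category.assoc]
    exact congrArg (fun t => t ≫ eZ) h
  haveI : Mono c' := ⟨fun p₁ p₂ h => hext p₁ p₂ h⟩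
  have hcl : IsClosedImmersion c'.left := by
    have sqL : IsPullback c'.left y'.left eZ.left c.left := hpb.map (Over.forget S)
    exact MorphismProperty.of_isPullback (P := @IsClosedImmersion) sqL.flip inferInstance
  -- the action on Z'
  have hactw : ((H ◁ c') ≫ aZ.act) ≫ eZ =
      (lift (fst H Z' ≫ i) (snd H Z' ≫ y') ≫ aY'.act) ≫ c := by
    apply AlgGrp.Action.hom_ext_lift₂
    intro T h p
    have L : lift h p ≫ ((H ◁ c') ≫ aZ.act) ≫ eZ = lift (h ≫ i) ((p ≫ c') ≫ eZ) ≫ aY.act := by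
      rw [← Category.assoc, lift_whiskerLeft_assoc, heZact]
    have R : lift h p ≫ (lift (fst H Z' ≫ i) (snd H Z' ≫ y') ≫ aY'.act) ≫ c =
        lift (h ≫ i) ((p ≫ y') ≫ c) ≫ aY.act := by
      rw [← Category.assoc, comp_lift_assoc, lift_fst_assoc, lift_snd_assoc, hcpt]
    rw [L, R, Category.assoc, Category.assoc, hcond]
  obtain ⟨act', hact'c, hact'y⟩ : ∃ act' : H ⊗ Z' ⟶ Z', act' ≫ c' = (H ◁ c') ≫ aZ.act ∧
      act' ≫ y' = lift (fst H Z' ≫ i) (snd H Z' ≫ y') ≫ aY'.act :=
    ⟨hpb.lift _ _ hactw, hpb.lift_fst _ _ _, hpb.lift_snd _ _ _⟩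
  have hact' : ∀ {T : Over S} (h : T ⟶ H) (p : T ⟶ Z'),
      (lift h p ≫ act') ≫ c' = lift h (p ≫ c') ≫ aZ.act := by
    intro T h p
    rw [Category.assoc, hact'c, lift_whiskerLeft_assoc]
  obtain ⟨aZ', haZ'⟩ : ∃ a : AlgGrp.Action H Z', a.act = act' :=
    ⟨{ act := act'
       one_act := by
        apply AlgGrp.Action.hom_ext_lift₂
        intro T u p
        have hu : u ≫ η[H] = 1 := by rw [Hom.one_def, toUnit_unique (toUnit T) u]
        rw [lift_whiskerRight_assoc, hu, leftUnitor_hom, lift_snd]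
        apply hext
        rw [hact', AlgGrp.Action.lift_one_act]
       mul_act := by
        apply AlgGrp.Action.hom_ext_lift₃
        intro T g g' p
        rw [lift_whiskerRight_assoc, ← Hom.mul_def, lift_lift_associator_hom_assoc,
          lift_whiskerLeft_assoc]
        apply hext
        rw [hact', hact', hact', AlgGrp.Action.lift_mul_act] }, rfl⟩
  obtain ⟨j', hj'def⟩ : ∃ j' : G ⊗ Z' ⟶ Y', j' = lift (fst G Z') (snd G Z' ≫ y') ≫ aY'.act :=
    ⟨_, rfl⟩
  have hj' : ∀ {T : Over S} (g : T ⟶ G) (p : T ⟶ Z'), lift g p ≫ j' = lift g (p ≫ y') ≫ aY'.act := by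
    intro T g p
    rw [hj'def, comp_lift_assoc, lift_fst, lift_snd_assoc]
  have hj'c : j' ≫ c = (G ◁ c') ≫ j := by
    apply AlgGrp.Action.hom_ext_lift₂
    intro T g p
    rw [← Category.assoc, hj', hcpt, Category.assoc, ← hcond, ← Category.assoc, heZ, ← hjeq,
      _root_.mul_one, lift_whiskerLeft_assoc]
  haveI : Mono (G ◁ c') := ⟨fun p₁ p₂ h => by
    apply CartesianMonoidalCategory.hom_ext
    · have := congrArg (fun t => t ≫ fst G Z) h
      simpa using this
    · apply hext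
      have := congrArg (fun t => t ≫ snd G Z) h
      simpa using this⟩
  have htw : ∀ {T : Over S} (h : T ⟶ H) (x : T ⟶ G ⊗ Z'),
      (lift h x ≫ (ChGrp.twist i aZ').act) ≫ (G ◁ c') =
        lift h (x ≫ (G ◁ c')) ≫ (ChGrp.twist i aZ).act := by
    intro T h x
    have hx : x = lift (x ≫ fst G Z') (x ≫ snd G Z') := by
      apply CartesianMonoidalCategory.hom_ext <;> simp
    rw [hx, ChGrp.lift_twist_act, lift_whiskerLeft, lift_whiskerLeft, ChGrp.lift_twist_act, haZ']
    congr 1
    exact hact' h _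
  refine ⟨Z', c', aZ', j', hcl, ?_, hj'c, ?_, ?_, ?_⟩
  · change aZ'.act ≫ c' = _
    rw [haZ']
    exact hact'c
  · apply AlgGrp.Action.hom_ext_lift₂
    intro T g w
    have hw : w = lift (w ≫ fst G Z') (w ≫ snd G Z') := by
      apply CartesianMonoidalCategory.hom_ext <;> simp
    rw [hw, ← Category.assoc, AlgGrp.Action.lift_prod_act, AlgGrp.Action.lift_trivial_act,
      lift_whiskerLeft_assoc, hj', hj']
    have e : lift g (w ≫ fst G Z') ≫ (NonAbH1.trivialAction G).act = g * (w ≫ fst G Z') := rfl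
    rw [e, AlgGrp.Action.lift_mul_act]
  · apply H5S18977.sq_of_tr
    · rw [← cancel_mono c]
      apply AlgGrp.Action.hom_ext_lift₂
      intro T h x
      have L : lift h x ≫ ((ChGrp.twist i aZ').act ≫ j') ≫ c = (x ≫ (G ◁ c')) ≫ j := by
        have e1 : lift h x ≫ ((ChGrp.twist i aZ').act ≫ j') ≫ c =
            ((lift h x ≫ (ChGrp.twist i aZ').act) ≫ (G ◁ c')) ≫ j := by
          simp only [Category.assoc, hj'c]
        rw [e1, htw, Category.assoc, hsq.w, lift_snd_assoc]
      have R : lift h x ≫ (snd H (G ⊗ Z') ≫ j') ≫ c = (x ≫ (G ◁ c')) ≫ j := by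
        rw [Category.assoc, lift_snd_assoc, hj'c, Category.assoc]
      rw [L, R]
    · intro W x₁ x₂ e
      have e' : (x₁ ≫ (G ◁ c')) ≫ j = (x₂ ≫ (G ◁ c')) ≫ j := by
        calc (x₁ ≫ (G ◁ c')) ≫ j = (x₁ ≫ j') ≫ c := by rw [Category.assoc, Category.assoc, hj'c]
          _ = (x₂ ≫ j') ≫ c := by rw [e]
          _ = _ := by rw [Category.assoc, Category.assoc, hj'c]
      obtain ⟨h, hh, hhu⟩ := H5S18977.sq_tr hsq _ _ e'
      refine ⟨h, ?_, ?_⟩
      · change lift h x₂ ≫ (ChGrp.twist i aZ').act = x₁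
        rw [← cancel_mono (G ◁ c'), htw]
        exact hh
      · intro h' hh'
        apply hhu
        change lift h' x₂ ≫ (ChGrp.twist i aZ').act = x₁ at hh'
        rw [← htw, hh']
  · obtain ⟨R, hR, hs⟩ := hloc0
    obtain ⟨J, T, r, rfl⟩ := R.exists_eq_ofArrows
    refine ⟨_, Precoverage.mem_coverings_of_isPullback r hR c.left
      (fun k => pullback.snd (r k) c.left) (fun k => pullback.fst (r k) c.left)
      (fun k => (IsPullback.of_hasPullback (r k) c.left).flip), ?_⟩
    rintro _ _ ⟨k⟩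
    obtain ⟨s, hs'⟩ := hs (r k) (Presieve.ofArrows.mk k)
    have hs'' : s ≫ j.left = r k := hs'
    have hpc : pullback.fst (r k) c.left ≫ r k = pullback.snd (r k) c.left ≫ c.left :=
      pullback.condition
    let W : Over S := Over.mk (pullback.snd (r k) c.left ≫ Y'.hom)
    have hw1 : (pullback.fst (r k) c.left ≫ s) ≫ (G ⊗ Z).hom = W.hom := by
      rw [← Over.w j, Category.assoc, ← Category.assoc s, hs'', ← Category.assoc, hpc, Category.assoc,
        Over.w c]
      rfl
    let wpt : W ⟶ G ⊗ Z := Over.homMk (pullback.fst (r k) c.left ≫ s) hw1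
    let ypt : W ⟶ Y' := Over.homMk (pullback.snd (r k) c.left) rfl
    have hwy : wpt ≫ j = ypt ≫ c := by
      ext
      change (pullback.fst (r k) c.left ≫ s) ≫ j.left = pullback.snd (r k) c.left ≫ c.left
      rw [Category.assoc, hs'', hpc]
    obtain ⟨g, hg⟩ : ∃ g : W ⟶ G, g = wpt ≫ fst G Z := ⟨_, rfl⟩
    obtain ⟨z, hz⟩ : ∃ z : W ⟶ Z, z = wpt ≫ snd G Z := ⟨_, rfl⟩
    have hwpt : wpt = lift g z := by
      apply CartesianMonoidalCategory.hom_ext <;> simp [hg, hz]
    rw [hwpt] at hwy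
    have hz' : z ≫ eZ = (lift g⁻¹ ypt ≫ aY'.act) ≫ c := by
      rw [heZ, hcpt, ← hwy, ← hjeq, inv_mul_cancel]
    obtain ⟨z', hz'y⟩ : ∃ z' : W ⟶ Z', z' ≫ y' = lift g⁻¹ ypt ≫ aY'.act :=
      ⟨hpb.lift z (lift g⁻¹ ypt ≫ aY'.act) hz', hpb.lift_snd _ _ _⟩
    have hsec : lift g z' ≫ j' = ypt := by
      rw [hj', hz'y, ← AlgGrp.Action.lift_mul_act, mul_inv_cancel, AlgGrp.Action.lift_one_act]
    refine ⟨(lift g z').left, ?_⟩
    have := congrArg (fun t => t.left) hsec
    exact this

end H5S19681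

/-- Let k be an algebraically closed field of characteristic zero, G and H affine group schemes of
finite type over k with i : H → G a homomorphism which is a closed immersion, and Z a reduced affine
k-scheme of finite type with an action of H. Let Y, with its G-action and j : G × Z → Y, be the
balanced product G ×^H Z for the fppf topology (j is G-equivariant for left translation on the first
factor, a torsor for the twisted H-action h·(g, z) = (g i(h)⁻¹, h·z), with sections fppf-locally on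
Y). Let c : Y' → Y be a closed immersion from a reduced scheme Y' with a G-action making c
equivariant (a closed G-invariant subvariety of Y). Then Y' is again a balanced product: there are a
closed immersion c' : Z' → Z, an H-action on Z' for which c' is equivariant (a closed H-invariant
subscheme of Z), and a morphism j' : G × Z' → Y' with j' followed by c equal to G × c' followed by
j, such that j' makes Y' the balanced product G ×^H Z' for the fppf topology. (The source assumes G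
and H reductive and defines G ×^H Z as the quotient (G × Z)//H, a principal H-bundle; here the
balanced product is taken in its torsor form and reductivity is not needed.) -/
theorem result
    (k : Type u) [Field k] [IsAlgClosed k] [CharZero k]
    (G H Z Y Y' : Over (Spec (CommRingCat.of k))) [GrpObj G] [GrpObj H]
    [IsAffine G.left] [LocallyOfFiniteType G.hom] [IsAffine H.left] [LocallyOfFiniteType H.hom]
    (i : H ⟶ G) [IsMonHom i] [IsClosedImmersion i.left]
    [IsAffine Z.left] [LocallyOfFiniteType Z.hom] [IsReduced Z.left]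
    (aZ : AlgGrp.Action H Z) (aY : AlgGrp.Action G Y) (j : G ⊗ Z ⟶ Y)
    (hY : ChGrp.IsBalProd Scheme.fppfPrecoverage i aZ aY j)
    (c : Y' ⟶ Y) [IsClosedImmersion c.left] [IsReduced Y'.left]
    (aY' : AlgGrp.Action G Y') (hc : AlgGrp.Action.IsEquivariant aY' aY c) :
    ∃ (Z' : Over (Spec (CommRingCat.of k))) (c' : Z' ⟶ Z) (aZ' : AlgGrp.Action H Z') (j' : G ⊗ Z' ⟶ Y'),
      IsClosedImmersion c'.left ∧ AlgGrp.Action.IsEquivariant aZ' aZ c' ∧
      j' ≫ c = (G ◁ c') ≫ j ∧ ChGrp.IsBalProd Scheme.fppfPrecoverage i aZ' aY' j' := by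
  exact H5S19681.main i aZ aY j hY c aY' hc

end Groth.Agent.S19681
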