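import Groth.Statements.S1970
import Groth.Agent.Lib.lead.WEFieldInd
import Groth.Agent.S0736
-- import your own Groth.Agent.* helpers here

set_option autoImplicit false
universe u
open EtAlg

namespace Groth.Agent.S1970

/-- Over a field K, every K-subalgebra and every quotient K-algebra of a weakly etale K-algebra is again
weakly etale over K. -/
theorem result (K : Type u) [Field K] (B : Type u) [CommRing B] [Algebra K B]
    [Algebra.WeaklyEtale K B] :
    (∀ S : Subalgebra K B, Algebra.WeaklyEtale K S) ∧ ∀ I : Ideal B, Algebra.WeaklyEtale K (B ⧸ I) := by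
  refine ⟨fun S => ?_, fun I => ?_⟩
  · exact Groth.Agent.S0736.result K S
      (Groth.Agent.Lib.lead.WEFieldInd.isIndEtale_subalgebra K B S)
  · exact Groth.Agent.Lib.lead.WEFieldAlg.weaklyEtale_quotient K B I

end Groth.Agent.S1970
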