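import Groth.Statements.S19710
import Groth.Agent.Lib.helper16.FFG0

set_option autoImplicit false
open FunFld

namespace Groth.Agent.S19710

/-- Let `k` be an algebraically closed field of characteristic zero. A `g^r_d` on a function field `K/k`
of one variable is a divisor `D` of degree `d` with a subspace `V ⊆ L(D)` of dimension `r + 1`;
`V(-nP) = V ∩ L(D - nP)`, and the `i`-th vanishing order `m_i(V, P)` (`m_0 < ⋯ < m_r`) equals `m`
exactly when `dim V(-mP) = r + 1 - i` and `dim V(-(m+1)P) = r - i`. Let `K_Y` have genus `0` and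
carry a `g^r_d` `(D_Y, V_Y)` with at least a cusp at a place `Q_Y` (`dim V_Y(-2Q_Y) ≥ r`); let
`(D_Z, V_Z)` be a `g^r_d` on a second function field `K_Z`, compatible with `(D_Y, V_Y)` at a node
formed by a place `P ≠ Q_Y` of `K_Y` and a place `Q` of `K_Z` (`dim V_Y(-nP) + dim V_Z(-(d+1-n)Q) =
r + 1` for `0 ≤ n ≤ d + 1`), and let `P'` be a place of `K_Y` different from `P` and from `Q_Y`.
Then `m_i(V_Y, P') < m_i(V_Z, Q)` for all but at most one index: the set of `i ≤ r` for which the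
`i`-th vanishing order of `V_Y` at `P'` equals the `i`-th vanishing order of `V_Z` at `Q` has at
most one element. (In the source `Q_Y` is the point where the rational component `Y` meets a chain
of curves ending in a curve of positive genus, which forces the cusp condition assumed here; the
source works over the complex numbers.) -/
theorem result
    (k : Type*) [Field k] [IsAlgClosed k] [CharZero k]
    (KY : Type*) [Field KY] [Algebra k KY] (hKY : FunFld.IsFunctionField k KY) (hg0 : FunFld.genus k KY = 0)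
    (KZ : Type*) [Field KZ] [Algebra k KZ] (hKZ : FunFld.IsFunctionField k KZ)
    (d r : ℕ) (DY : FunFld.Divisor k KY) (hDY : DY.deg = d) (DZ : FunFld.Divisor k KZ) (hDZ : DZ.deg = d)
    (VY : Submodule k KY) (hVY : VY ≤ FunFld.L DY) (hVYr : Module.finrank k ↥VY = r + 1)
    (VZ : Submodule k KZ) (hVZ : VZ ≤ FunFld.L DZ) (hVZr : Module.finrank k ↥VZ = r + 1)
    (QY : FunFld.Place k KY) (hcusp : r ≤ Module.finrank k ↥(VY ⊓ FunFld.L (DY - Finsupp.single QY ((2 : ℤ)))))
    (P : FunFld.Place k KY) (hP : P ≠ QY) (Q : FunFld.Place k KZ)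
    (hcomp : ∀ n : ℕ, n ≤ d + 1 →
      Module.finrank k ↥(VY ⊓ FunFld.L (DY - Finsupp.single P ((n : ℤ)))) + Module.finrank k ↥(VZ ⊓ FunFld.L (DZ - Finsupp.single Q ((d : ℤ) + 1 - n))) = r + 1)
    (P' : FunFld.Place k KY) (hP'P : P' ≠ P) (hP'Q : P' ≠ QY) :
    {i : ℕ | i ≤ r ∧ ∃ m : ℕ,
        Module.finrank k ↥(VY ⊓ FunFld.L (DY - Finsupp.single P' ((m : ℤ)))) = r + 1 - i ∧
        Module.finrank k ↥(VY ⊓ FunFld.L (DY - Finsupp.single P' ((m : ℤ) + 1))) = r - i ∧
        Module.finrank k ↥(VZ ⊓ FunFld.L (DZ - Finsupp.single Q ((m : ℤ)))) = r + 1 - i ∧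
        Module.finrank k ↥(VZ ⊓ FunFld.L (DZ - Finsupp.single Q ((m : ℤ) + 1))) = r - i}.Subsingleton := by
  open Groth.Agent.Lib.helper16.FF in
  have hdegY : ∀ R : FunFld.Place k KY, R.deg = 1 := fun R => deg_eq_one_of_isAlgClosed hKY R
  -- each index in the set yields a member of `VY` with divisor `mP' + (d-m)P - DY`
  have key : ∀ i : ℕ, i ≤ r → ∀ m : ℕ,
      Module.finrank k ↥(VY ⊓ FunFld.L (DY - Finsupp.single P' ((m : ℤ)))) = r + 1 - i →
      Module.finrank k ↥(VZ ⊓ FunFld.L (DZ - Finsupp.single Q ((m : ℤ) + 1))) = r - i →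
      ∃ s : KY, s ≠ 0 ∧ s ∈ VY ∧
        FunFld.div k s = Finsupp.single P' (m : ℤ) + Finsupp.single P ((d - m : ℕ) : ℤ) - DY := by
    intro i hi m h1 h4
    have hmd : m ≤ d := by
      by_contra hcon
      have : VY ⊓ FunFld.L (DY - Finsupp.single P' ((m : ℤ))) = ⊥ := by
        apply inf_L_eq_bot_of_deg_neg hKY
        rw [deg_sub, deg_single, hDY, hdegY P']
        push_cast
        have : (d : ℤ) < m := by exact_mod_cast (not_le.mp hcon)
        omega
      rw [this, finrank_bot] at h1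
      omega
    have hc := hcomp (d - m) (by omega)
    have e : (d : ℤ) + 1 - ((d - m : ℕ) : ℤ) = (m : ℤ) + 1 := by
      push_cast [Nat.cast_sub hmd]; ring
    rw [e, h4] at hc
    apply exists_div_eq_of_finrank_lt hKY hVY hP'P (hdegY P') (hdegY P) (by positivity)
      (by positivity)
    · rw [hDY]; push_cast [Nat.cast_sub hmd]; ring
    · rw [hVYr, h1]
      omega
  have hsmul : ∀ (c : k) (s : KY), c ≠ 0 → s ≠ 0 → FunFld.div k (c • s) = FunFld.div k s := by
    intro c s hc hs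
    rw [Algebra.smul_def, Groth.Agent.Lib.helper16.FF.div_mul hKY ((map_ne_zero _).mpr hc) hs,
      div_eq_zero_of_mem_range hKY ⟨c, rfl⟩, zero_add]
  rintro i₁ ⟨hi₁, m₁, a1, a2, a3, a4⟩ i₂ ⟨hi₂, m₂, b1, b2, b3, b4⟩
  obtain ⟨s₁, hs₁0, hs₁V, hs₁⟩ := key i₁ hi₁ m₁ a1 a4
  obtain ⟨s₂, hs₂0, hs₂V, hs₂⟩ := key i₂ hi₂ m₂ b1 b4
  have hsupp : ∀ (m : ℕ) (s : KY), FunFld.div k s = Finsupp.single P' (m : ℤ) + Finsupp.single P ((d - m : ℕ) : ℤ) - DY →
      ∀ R : FunFld.Place k KY, R ≠ P → R ≠ P' → (FunFld.div k s + DY) R = 0 := by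
    intro m s hs R hRP hRP'
    rw [hs, sub_add_cancel, Finsupp.add_apply, Finsupp.single_eq_of_ne hRP,
      Finsupp.single_eq_of_ne hRP', add_zero]
  obtain ⟨c, hc⟩ := eq_smul_of_cusp_genus_zero hKY hg0 r DY VY hVY hVYr QY hcusp P P' hP hP'Q
    s₁ s₂ hs₁V hs₂V hs₁0 hs₂0 (hsupp m₁ s₁ hs₁) (hsupp m₂ s₂ hs₂)
  have hc0 : c ≠ 0 := by
    rintro rfl
    rw [zero_smul] at hc
    exact hs₂0 hc
  have hdiv : FunFld.div k s₂ = FunFld.div k s₁ := by rw [hc, hsmul c s₁ hc0 hs₁0]
  rw [hs₁, hs₂] at hdiv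
  have h := DFunLike.congr_fun hdiv P'
  rw [Finsupp.sub_apply, Finsupp.sub_apply, Finsupp.add_apply, Finsupp.add_apply,
    Finsupp.single_eq_same, Finsupp.single_eq_same, Finsupp.single_eq_of_ne hP'P,
    Finsupp.single_eq_of_ne hP'P] at h
  have hm : m₁ = m₂ := by omega
  subst hm
  rw [a1] at b1
  omega

end Groth.Agent.S19710
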