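import Groth.Statements.S19748
import Mathlib

set_option autoImplicit false
universe u
open scoped TensorProduct
open GrSegre

namespace Groth.Agent.S19748

section Aux
open DirectSum
variable {R : Type u} [CommRing R] {k : Type u} [CommRing k] [Algebra k R] (𝒜 : ℤ → Submodule k R) [GradedAlgebra 𝒜]
  {M : Type u} [AddCommGroup M] [Module R M] (ℳ : ℤ → AddSubgroup M) [DirectSum.Decomposition ℳ]
  [SetLike.GradedSMul 𝒜 ℳ]

theorem coe_decompose_smul_homog {c : ℤ} {u : R} (hu : u ∈ 𝒜 c) (w : M) (n : ℤ) :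
    (decompose ℳ (u • w) (c + n) : M) = u • (decompose ℳ w n : M) := by
  classical
  conv_lhs => rw [← sum_support_decompose ℳ w, Finset.smul_sum]
  rw [decompose_sum, DFinsupp.finsetSum_apply, AddSubmonoidClass.coe_finsetSum]
  have hterm : ∀ i : ℤ, ((decompose ℳ (u • (decompose ℳ w i : M))) (c + n) : M) =
      if i = n then u • (decompose ℳ w i : M) else 0 := by
    intro i
    have hmem : u • (decompose ℳ w i : M) ∈ ℳ (c + i) := by
      have := SetLike.GradedSMul.smul_mem (A := 𝒜) (B := ℳ) hu (decompose ℳ w i).2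
      simpa [vadd_eq_add] using this
    split_ifs with h
    · subst h
      exact decompose_of_mem_same ℳ hmem
    · have : c + i ≠ c + n := by omega
      exact decompose_of_mem_ne ℳ hmem this
  simp only [hterm]
  rw [Finset.sum_ite_eq']
  split_ifs with h
  · rfl
  · rw [DFinsupp.notMem_support_iff] at h
    rw [h]
    simp

theorem piece_surj {c : ℤ} {u : R} (hu : u ∈ 𝒜 c) (hub : Function.Bijective (fun x : M => u • x))
    (n : ℤ) (x' : M) (hx' : x' ∈ ℳ (c + n)) : ∃ x ∈ ℳ n, u • x = x' := by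
  obtain ⟨x₀, hx₀⟩ := hub.2 x'
  refine ⟨(decompose ℳ x₀ n : M), (decompose ℳ x₀ n).2, ?_⟩
  rw [← coe_decompose_smul_homog 𝒜 ℳ hu x₀ n]
  have : u • x₀ = x' := hx₀
  rw [this]
  exact decompose_of_mem_same ℳ hx'

end Aux

/-- Let R and S be graded rings defined over a field k with Segre product T = R # S, M a graded R-module
and N a graded S-module. Suppose that multiplication by some homogeneous element f ∈ R_d of positive
degree d is bijective on M and multiplication by some homogeneous g ∈ S_e of positive degree e is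
bijective on N. Then multiplication by some homogeneous element of T of positive degree is bijective
on M # N. Here a graded ring defined over k is a commutative k-algebra of finite type, graded in
nonnegative degrees by k-subspaces with degree-zero part k·1; the Segre product T = R # S = ⊕_n R_n
⊗_k S_n is presented abstractly as a graded k-algebra T with an injective k-algebra homomorphism ψ :
T → R ⊗_k S carrying T_n onto the k-span of the elementary tensors a ⊗ b with a ∈ R_n, b ∈ S_n; the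
Segre product M # N = ⊕_n M_n ⊗_k N_n of a graded R-module M and a graded S-module N is presented
abstractly as a graded T-module P with an injective k-linear map φ : P → M ⊗_k N carrying P_n onto
the k-span of the tensors x ⊗ y with x ∈ M_n, y ∈ N_n and turning the action of t ∈ T into that of
ψ(t) (acting factorwise on M ⊗_k N). -/
theorem result (k : Type u) [Field k] (R : Type u) [CommRing R] [Algebra k R] (𝒜 : ℤ → Submodule k R) [GradedAlgebra 𝒜] (hposR : ∀ n : ℤ, n < 0 → 𝒜 n = ⊥) (h0R : 𝒜 0 = Submodule.span k {(1 : R)}) [Algebra.FiniteType k R] (S : Type u) [CommRing S] [Algebra k S] (ℬ : ℤ → Submodule k S) [GradedAlgebra ℬ] (hposS : ∀ n : ℤ, n < 0 → ℬ n = ⊥) (h0S : ℬ 0 = Submodule.span k {(1 : S)}) [Algebra.FiniteType k S] (T : Type u) [CommRing T] [Algebra k T] (𝒯 : ℤ → Submodule k T) [GradedAlgebra 𝒯] (ψ : T →ₐ[k] TensorProduct k R S) (hT : GrSeg.IsSegreRing 𝒜 ℬ 𝒯 ψ) (M : Type u) [AddCommGroup M] [Module R M] [Module k M] [IsScalarTower k R M] (ℳ : ℤ →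 AddSubgroup M) [DirectSum.Decomposition ℳ] [SetLike.GradedSMul 𝒜 ℳ] (N : Type u) [AddCommGroup N] [Module S N] [Module k N] [IsScalarTower k S N] (𝒩 : ℤ → AddSubgroup N) [DirectSum.Decomposition 𝒩] [SetLike.GradedSMul ℬ 𝒩] (P : Type u) [AddCommGroup P] [Module T P] [Module k P] [IsScalarTower k T P] (𝒬 : ℤ → AddSubgroup P) [DirectSum.Decomposition 𝒬] (φ : P →ₗ[k] TensorProduct k M N) (hP : GrSeg.IsSegreMod ψ ℳ 𝒩 𝒬 φ) (d : ℕ) (hd : 0 < d) (f : R) (hf : f ∈ 𝒜 (d : ℤ)) (hfM : Function.Bijective (fun x : M => f • x)) (e : ℕ) (he : 0 < e) (g : S) (hg : g ∈ ℬ (e : ℤ)) (hgN : Function.Bijective (fun y : N => g • y)) : ∃ (c : ℤ) (t : T), 0 < c ∧ t ∈ 𝒯 c ∧ Function.Bijective (fun p : P => t • p) := by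
  classical
  obtain ⟨hψinj, hψpiece⟩ := hT
  obtain ⟨c, hc⟩ : ∃ c : ℤ, c = ((d * e : ℕ) : ℤ) := ⟨_, rfl⟩
  have hcpos : 0 < c := by
    rw [hc]
    exact_mod_cast Nat.mul_pos hd he
  have hfe : f ^ e ∈ 𝒜 c := by
    have h1 := SetLike.pow_mem_graded e hf
    have h2 : e • (d : ℤ) = c := by
      rw [hc]
      push_cast
      rw [nsmul_eq_mul]
      ring
    rwa [h2] at h1
  have hgd : g ^ d ∈ ℬ c := by
    have h1 := SetLike.pow_mem_graded d hg
    have h2 : d • (e : ℤ) = c := by
      rw [hc]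
      push_cast
      rw [nsmul_eq_mul]
    rwa [h2] at h1
  have hmem : (f ^ e) ⊗ₜ[k] (g ^ d) ∈ GrSeg.segrePiece k 𝒜 ℬ c :=
    Submodule.subset_span ⟨_, hfe, _, hgd, rfl⟩
  rw [← hψpiece c] at hmem
  obtain ⟨t, ht, htψ⟩ := hmem
  have htψ' : ψ t = (f ^ e) ⊗ₜ[k] (g ^ d) := htψ
  refine ⟨c, t, hcpos, ht, ?_⟩
  obtain ⟨F, hF⟩ : ∃ F : M ⊗[k] N →ₗ[k] M ⊗[k] N, F = GrSeg.act k R S M N (ψ t) := ⟨_, rfl⟩
  have hFtmul : ∀ (m : M) (n : N), F (m ⊗ₜ[k] n) = (f ^ e • m) ⊗ₜ[k] (g ^ d • n) := by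
    intro m n
    rw [hF, htψ']
    exact GrSeg.act_tmul _ _ _ _
  have hfeb : Function.Bijective (fun x : M => f ^ e • x) := by
    have := hfM.iterate e
    rwa [smul_iterate] at this
  have hgdb : Function.Bijective (fun y : N => g ^ d • y) := by
    have := hgN.iterate d
    rwa [smul_iterate] at this
  let α : M ≃ₗ[k] M := LinearEquiv.ofBijective (Algebra.lsmul k k M (f ^ e)) hfeb
  let β : N ≃ₗ[k] N := LinearEquiv.ofBijective (Algebra.lsmul k k N (g ^ d)) hgdb
  have hFeq : F = (TensorProduct.congr α β).toLinearMap := by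
    apply TensorProduct.ext'
    intro m n
    rw [hFtmul]
    rfl
  have hFbij : Function.Bijective F := by
    rw [hFeq]
    exact (TensorProduct.congr α β).bijective
  have hφt : ∀ p : P, φ (t • p) = F (φ p) := fun p => by
    rw [hF]
    exact hP.map_smul t p
  constructor
  · intro p p' hpp
    have h1 : φ (t • p) = φ (t • p') := congrArg φ hpp
    rw [hφt, hφt] at h1
    exact hP.injective (hFbij.1 h1)
  · -- surjectivity on pieces
    have hpiece : ∀ n : ℤ, ∀ w ∈ GrSeg.segrePiece k ℳ 𝒩 (c + n),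
        ∃ w' ∈ GrSeg.segrePiece k ℳ 𝒩 n, F w' = w := by
      intro n w hw
      induction hw using Submodule.span_induction with
      | mem w h =>
        obtain ⟨a, ha, b, hb, rfl⟩ := h
        obtain ⟨a', ha', haa⟩ := piece_surj 𝒜 ℳ hfe hfeb n a ha
        obtain ⟨b', hb', hbb⟩ := piece_surj ℬ 𝒩 hgd hgdb n b hb
        exact ⟨a' ⊗ₜ[k] b', Submodule.subset_span ⟨a', ha', b', hb', rfl⟩, by
          rw [hFtmul, haa, hbb]⟩
      | zero => exact ⟨0, zero_mem _, map_zero _⟩
      | add w₁ w₂ _ _ h₁ h₂ =>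
        obtain ⟨w₁', hw₁', e₁⟩ := h₁
        obtain ⟨w₂', hw₂', e₂⟩ := h₂
        exact ⟨w₁' + w₂', add_mem hw₁' hw₂', by rw [map_add, e₁, e₂]⟩
      | smul r w _ h =>
        obtain ⟨w', hw', e₁⟩ := h
        exact ⟨r • w', Submodule.smul_mem _ r hw', by rw [map_smul, e₁]⟩
    have hhom : ∀ (n : ℤ) (p : P), p ∈ 𝒬 n → ∃ q : P, t • q = p := by
      intro n p hp
      have h1 : φ p ∈ (GrSeg.segrePiece k ℳ 𝒩 n : Set (M ⊗[k] N)) := by
        rw [← hP.image_piece n]
        exact ⟨p, hp, rfl⟩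
      have h2 : φ p ∈ GrSeg.segrePiece k ℳ 𝒩 (c + (n - c)) := by
        have : c + (n - c) = n := by ring
        rw [this]
        exact h1
      obtain ⟨w', hw', hFw⟩ := hpiece (n - c) (φ p) h2
      have h3 : w' ∈ (GrSeg.segrePiece k ℳ 𝒩 (n - c) : Set (M ⊗[k] N)) := hw'
      rw [← hP.image_piece (n - c)] at h3
      obtain ⟨q, _, hq⟩ := h3
      refine ⟨q, hP.injective ?_⟩
      rw [hφt, hq, hFw]
    intro p
    have hsum := DirectSum.sum_support_decompose 𝒬 p
    choose q hq using fun i : ℤ => hhom i (DirectSum.decompose 𝒬 p i : P)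
      (DirectSum.decompose 𝒬 p i).2
    refine ⟨∑ i ∈ (DirectSum.decompose 𝒬 p).support, q i, ?_⟩
    show t • _ = p
    rw [Finset.smul_sum]
    simp only [hq]
    exact hsum

end Groth.Agent.S19748
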