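import Groth.Statements.S19749
import Mathlib

set_option autoImplicit false
universe u
open scoped TensorProduct
open GrSegre

namespace Groth.Agent.S19749

section Aux
open DirectSum
variable {R : Type u} [CommRing R] {k : Type u} [CommRing k] [Algebra k R] (𝒜 : ℤ → Submodule k R) [GradedAlgebra 𝒜]
  {M : Type u} [AddCommGroup M] [Module R M] (ℳ : ℤ → AddSubgroup M) [DirectSum.Decomposition ℳ]
  [SetLike.GradedSMul 𝒜 ℳ]

theorem coe_decompose_smul_of_mem {j : ℤ} {w : M} (hw : w ∈ ℳ j) (u : R) (i : ℤ) :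
    (decompose ℳ (u • w) (i + j) : M) = (decompose 𝒜 u i : R) • w := by
  classical
  conv_lhs => rw [← sum_support_decompose 𝒜 u, Finset.sum_smul]
  rw [decompose_sum, DFinsupp.finsetSum_apply, AddSubmonoidClass.coe_finsetSum]
  have hterm : ∀ i' : ℤ, ((decompose ℳ ((decompose 𝒜 u i' : R) • w)) (i + j) : M) =
      if i' = i then (decompose 𝒜 u i' : R) • w else 0 := by
    intro i'
    have hmem : (decompose 𝒜 u i' : R) • w ∈ ℳ (i' + j) := by
      have := SetLike.GradedSMul.smul_mem (A := 𝒜) (B := ℳ) (decompose 𝒜 u i').2 hw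
      simpa [vadd_eq_add] using this
    split_ifs with h
    · subst h
      exact decompose_of_mem_same ℳ hmem
    · have : i' + j ≠ i + j := by omega
      exact decompose_of_mem_ne ℳ hmem this
  simp only [hterm]
  rw [Finset.sum_ite_eq']
  split_ifs with h
  · rfl
  · rw [DFinsupp.notMem_support_iff] at h
    rw [h]
    simp

end Aux

/-- Let R and S be graded rings defined over a field k, both generated over k by their degree-one parts
and of positive Krull dimension, T = R # S, M a graded R-module and N a graded S-module, n an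
integer with N_m ≠ 0 for every m ≥ n, and x ∈ M_n, y ∈ N_n. If x # y generates M # N as a T-module,
then R_d x = M_{n+d} for every d ≥ 0 (every element of M_{n+d} is r x for some r ∈ R_d). Here a
graded ring defined over k is a commutative k-algebra of finite type, graded in nonnegative degrees
by k-subspaces with degree-zero part k·1; the Segre product T = R # S = ⊕_n R_n ⊗_k S_n is presented
abstractly as a graded k-algebra T with an injective k-algebra homomorphism ψ : T → R ⊗_k S carrying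
T_n onto the k-span of the elementary tensors a ⊗ b with a ∈ R_n, b ∈ S_n; the Segre product M # N =
⊕_n M_n ⊗_k N_n of a graded R-module M and a graded S-module N is presented abstractly as a graded
T-module P with an injective k-linear map φ : P → M ⊗_k N carrying P_n onto the k-span of the
tensors x ⊗ y with x ∈ M_n, y ∈ N_n and turning the action of t ∈ T into that of ψ(t) (acting
factorwise on M ⊗_k N), and x # y is the element of P mapped to x ⊗ y. -/
theorem result (k : Type u) [Field k] (R : Type u) [CommRing R] [Algebra k R] (𝒜 : ℤ → Submodule k R) [GradedAlgebra 𝒜] (hposR : ∀ n : ℤ, n < 0 → 𝒜 n = ⊥) (h0R : 𝒜 0 = Submodule.span k {(1 : R)}) [Algebra.FiniteType k R] (S : Type u) [CommRing S] [Algebra k S] (ℬ : ℤ → Submodule k S) [GradedAlgebra ℬ] (hposS : ∀ n : ℤ, n < 0 → ℬ n = ⊥) (h0S : ℬ 0 = Submodule.span k {(1 : S)}) [Algebra.FiniteType k S] (T : Type u) [CommRing T] [Algebra k T] (𝒯 : ℤ → Submodule k T) [GradedAlgebra 𝒯] (ψ : T →ₐ[k]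 TensorProduct k R S) (hT : GrSeg.IsSegreRing 𝒜 ℬ 𝒯 ψ) (hstdR : Ideal.span (⋃ n ∈ Set.Ioi (0 : ℤ), (𝒜 n : Set R)) = Ideal.span ((𝒜 1 : Submodule k R) : Set R)) (hstdS : Ideal.span (⋃ n ∈ Set.Ioi (0 : ℤ), (ℬ n : Set S)) = Ideal.span ((ℬ 1 : Submodule k S) : Set S)) (hr1 : 1 ≤ ringKrullDim R) (hs1 : 1 ≤ ringKrullDim S) (M : Type u) [AddCommGroup M] [Module R M] [Module k M] [IsScalarTower k R M] (ℳ : ℤ → AddSubgroup M) [DirectSum.Decomposition ℳ] [SetLike.GradedSMul 𝒜 ℳ] (N : Type u) [AddCommGroup N] [Module S N] [Module k N] [IsScalarTower k S N] (𝒩 : ℤ → AddSubgroup N) [DirectSum.Decomposition 𝒩] [SetLike.GradedSMul ℬ 𝒩] (P : Type u) [AddCommGroup P] [Module T P] [Module k P] [IsScalarTower k T P] (𝒬 : ℤ → AddSubgroup P) [DirectSum.Decomposition 𝒬] (φ : P →ₗ[k] TensorProduct k M N) (hP : GrSeg.IsSegreMod ψ ℳ 𝒩 𝒬 φ) (n : ℤ) (hNn : ∀ m : ℤ, n ≤ m → 𝒩 m ≠ ⊥) (x : M) (hx : x ∈ ℳ n) (y : N) (hy : y ∈ 𝒩 n) (p : P) (hp : φ p = x ⊗ₜ[k] y) (hgen : Submodule.span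 T {p} = ⊤) (d : ℤ) (hd : 0 ≤ d) (z : M) (hz : z ∈ ℳ (n + d)) : ∃ r ∈ 𝒜 d, r • x = z := by
  classical
  -- a nonzero element of `𝒩 (n + d)`
  obtain ⟨y', hy', hy'0⟩ : ∃ y' ∈ 𝒩 (n + d), y' ≠ 0 := by
    have := hNn (n + d) (by omega)
    rw [Ne, AddSubgroup.eq_bot_iff_forall] at this
    push Not at this
    exact this
  obtain ⟨lam, hlam⟩ := Module.Projective.exists_dual_eq_one k hy'0
  let Λ : M ⊗[k] N →ₗ[k] M := (TensorProduct.rid k M).toLinearMap ∘ₗ (LinearMap.lTensor M lam)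
  have hΛ : ∀ (m : M) (n' : N), Λ (m ⊗ₜ[k] n') = lam n' • m := by
    intro m n'
    simp [Λ]
  -- `z ⊗ y'` comes from `𝒬 (n + d)`
  have h1 : z ⊗ₜ[k] y' ∈ (GrSeg.segrePiece k ℳ 𝒩 (n + d) : Set (M ⊗[k] N)) :=
    Submodule.subset_span ⟨z, hz, y', hy', rfl⟩
  rw [← hP.image_piece (n + d)] at h1
  obtain ⟨q, _, hq⟩ := h1
  have hqmem : q ∈ Submodule.span T {p} := by
    rw [hgen]
    trivial
  obtain ⟨t, rfl⟩ := Submodule.mem_span_singleton.mp hqmem
  have hkey : ∀ a : R ⊗[k] S, ∃ r' : R, Λ (GrSeg.act k R S M N a (x ⊗ₜ[k] y)) = r' • x := by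
    intro a
    induction a using TensorProduct.induction_on with
    | zero => exact ⟨0, by simp⟩
    | tmul r s =>
      refine ⟨lam (s • y) • r, ?_⟩
      rw [GrSeg.act_tmul, hΛ, smul_assoc]
    | add a b ha hb =>
      obtain ⟨r₁, h₁⟩ := ha
      obtain ⟨r₂, h₂⟩ := hb
      exact ⟨r₁ + r₂, by rw [map_add, LinearMap.add_apply, map_add, h₁, h₂, add_smul]⟩
  obtain ⟨r', hr'⟩ := hkey (ψ t)
  have hz' : z = r' • x := by
    have h2 : Λ (φ (t • p)) = z := by
      rw [hq, hΛ, hlam, one_smul]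
    rw [← h2, hP.map_smul, hp, hr']
  refine ⟨(DirectSum.decompose 𝒜 r' d : R), (DirectSum.decompose 𝒜 r' d).2, ?_⟩
  rw [← coe_decompose_smul_of_mem 𝒜 ℳ hx r' d, ← hz']
  have hz2 : z ∈ ℳ (d + n) := by
    rw [add_comm]
    exact hz
  exact DirectSum.decompose_of_mem_same ℳ hz2

end Groth.Agent.S19749
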