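import Groth.Statements.S19751
import Groth.Agent.Lib.helper8.GDualK

set_option autoImplicit false
universe u
open GrDual

namespace Groth.Agent.S19751

/-- Let R be a graded ring defined over a field k with m = R_+, let F and M be finitely generated graded
R-modules and f : F → M a surjective homomorphism of graded R-modules, with dual f^* : M^* → F^* on
graded k-duals. Then f is minimal, that is Ker f ⊆ m F, if and only if f^* is essential: an
injective homomorphism of graded modules such that every nonzero graded submodule of F^* meets its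
image. Here a graded ring defined over k is a commutative k-algebra of finite type, graded in
nonnegative degrees by k-subspaces with degree-zero part k·1, and R_+ is the ideal spanned by the
R_n with n > 0; the graded k-dual M^* = ⊕_n Hom_k(M_{−n}, k) of a graded R-module M (with r ∈ R
acting by (r f)(x) = f(r x)) is presented abstractly as a graded R-module D with a k-bilinear
pairing β : D × M → k compatible with the R-actions, under which D_n pairs to zero with M_m for m ≠
−n and is identified with the full dual space of M_{−n}; f^* is presented as the R-linear map g :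
M^* → F^* with β_F(g d, x) = β_M(d, f x). -/
theorem result (k : Type u) [Field k] (R : Type u) [CommRing R] [Algebra k R] (𝒜 : ℤ → Submodule k R) [GradedAlgebra 𝒜] (hposR : ∀ n : ℤ, n < 0 → 𝒜 n = ⊥) (h0R : 𝒜 0 = Submodule.span k {(1 : R)}) [Algebra.FiniteType k R] (mR : HomogeneousIdeal 𝒜) (hmR : mR.toIdeal = Ideal.span (⋃ n ∈ Set.Ioi (0 : ℤ), (𝒜 n : Set R))) (F : Type u) [AddCommGroup F] [Module R F] [Module k F] [IsScalarTower k R F] (ℱ : ℤ → AddSubgroup F) [DirectSum.Decomposition ℱ] [SetLike.GradedSMul 𝒜 ℱ] [Module.Finite R F] (M : Type u) [AddCommGroup M] [Module R M] [Module k M] [IsScalarTower k R M] (ℳ : ℤ → AddSubgroup M) [DirectSum.Decomposition ℳ] [SetLike.GradedSMul 𝒜 ℳ] [Module.Finite R M] (f : F →ₗ[R] M) (hf : Function.Surjective f) (hfgr : GrLC.IsGrHom ℱ ℳ f) (DM : Type u) [AddCommGroup DM] [Module R DM] [Module k DM] [IsScalarTower k R DM] (𝒟M : ℤ → AddSubgroup DM) [DirectSum.Decomposition 𝒟M] [SetLike.GradedSMul 𝒜 𝒟M] (βM : DM →ₗ[k] M →ₗ[k] k) (hDM : GrSeg.IsGDual R ℳ 𝒟M βM) (DF : Type u) [AddCommGroup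 DF] [Module R DF] [Module k DF] [IsScalarTower k R DF] (𝒟F : ℤ → AddSubgroup DF) [DirectSum.Decomposition 𝒟F] [SetLike.GradedSMul 𝒜 𝒟F] (βF : DF →ₗ[k] F →ₗ[k] k) (hDF : GrSeg.IsGDual R ℱ 𝒟F βF) (g : DM →ₗ[R] DF) (hg : GrSeg.IsGDualMap βM βF f g) : LinearMap.ker f ≤ mR.toIdeal • (⊤ : Submodule R F) ↔ GrLC.IsStarEss 𝒟M 𝒟F g := by
  haveI : IsNoetherianRing R := Algebra.FiniteType.isNoetherianRing k R
  have hFflip : GrSeg.IsGDual R 𝒟F ℱ βF.flip :=
    Groth.Agent.H8.GDual.isGDual_flip 𝒜 ℱ 𝒟F hDF
      (fun n => Groth.Agent.H8.GDual.finite_piece_module 𝒜 ℱ hposR h0R n)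
  have hK : (LinearMap.ker f).IsHomogeneous ℱ := Groth.Agent.H8.GDual.isHomogeneous_ker ℱ ℳ hfgr
  rw [hmR]
  constructor
  · intro hmin
    refine ⟨?_, ?_, ?_⟩
    · rw [← LinearMap.ker_eq_bot, LinearMap.ker_eq_bot']
      intro d hd
      apply Groth.Agent.H8.GDual.beta_injective hDM
      ext y
      obtain ⟨x, rfl⟩ := hf y
      rw [← hg d x, hd, map_zero, LinearMap.zero_apply, map_zero, LinearMap.zero_apply]
    · intro n d hd
      apply Groth.Agent.H8.GDual.mem_piece_of_vanish hDF
      intro m hm x hx
      rw [hg d x]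
      exact Groth.Agent.H8.GDual.vanish' hDM hd (hfgr m x hx) (by omega)
    · intro P hP hPne
      have hQ : (Groth.Agent.H8.GDual.perpSub hDF P).IsHomogeneous ℱ :=
        Groth.Agent.H8.GDual.isHomogeneous_perpSub hDF hFflip hP
      have hQne : Groth.Agent.H8.GDual.perpSub hDF P ≠ ⊤ := by
        intro hQtop
        apply hPne
        rw [eq_bot_iff]
        intro d hd
        rw [Submodule.mem_bot]
        apply Groth.Agent.H8.GDual.beta_injective hDF
        ext x
        rw [map_zero, LinearMap.zero_apply]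
        have : x ∈ Groth.Agent.H8.GDual.perpSub hDF P := by rw [hQtop]; trivial
        exact this d hd
      have hN : (Groth.Agent.H8.GDual.perpSub hDF P ⊔ LinearMap.ker f).IsHomogeneous ℱ :=
        Groth.Agent.H8.GDual.isHomogeneous_sup ℱ hQ hK
      have hNne : Groth.Agent.H8.GDual.perpSub hDF P ⊔ LinearMap.ker f ≠ ⊤ := by
        intro htop
        apply hQne
        apply Groth.Agent.H8.GDual.eq_top_of_sup_irr_smul_eq_top 𝒜 ℱ hposR _ hQ
        have hle : Groth.Agent.H8.GDual.perpSub hDF P ⊔ LinearMap.ker f ≤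
            Groth.Agent.H8.GDual.perpSub hDF P ⊔
              Groth.Agent.H8.GDual.irr 𝒜 • (⊤ : Submodule R F) := sup_le_sup_left hmin _
        rw [htop] at hle
        exact eq_top_iff.mpr hle
      obtain ⟨y, hy⟩ : ∃ y, y ∉ Groth.Agent.H8.GDual.perpSub hDF P ⊔ LinearMap.ker f := by
        by_contra hcon
        push Not at hcon
        exact hNne (eq_top_iff.mpr fun y _ => hcon y)
      obtain ⟨e, ⟨n, hen⟩, hey, hevan⟩ :=
        Groth.Agent.H8.GDual.exists_vanishing_apply_ne_zero 𝒜 ℱ hDF _ hN hy
      have heP : e ∈ P := by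
        by_contra heP
        obtain ⟨x, -, hxe, hxP⟩ :=
          Groth.Agent.H8.GDual.exists_vanishing_apply_ne_zero 𝒜 𝒟F hFflip P hP heP
        apply hxe
        show βF e x = 0
        apply hevan x
        apply Submodule.mem_sup_left
        exact fun d hd => hxP d hd
      have heg : e ∈ LinearMap.range g := by
        obtain ⟨σ, hσ⟩ := LinearMap.exists_rightInverse_of_surjective (f.restrictScalars k)
          (LinearMap.range_eq_top.mpr (by exact hf))
        let φ : M →ₗ[k] k := ((βF e).comp σ).comp (Groth.Agent.H8.GDual.proj 𝒜 ℳ (-n))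
        have hφf : ∀ x, φ (f x) = βF e x := by
          have h1 : (φ.comp (f.restrictScalars k)).toAddMonoidHom = (βF e).toAddMonoidHom := by
            apply Groth.Agent.H8.GDual.ext_homogeneous ℱ
            intro m x hx
            by_cases hm : m = -n
            · subst hm
              show βF e (σ (Groth.Agent.H8.GDual.proj 𝒜 ℳ (-n) (f x))) = βF e x
              rw [Groth.Agent.H8.GDual.proj_of_mem 𝒜 ℳ (hfgr _ x hx)]
              have hker : σ (f x) - x ∈ Groth.Agent.H8.GDual.perpSub hDF P ⊔ LinearMap.ker f := by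
                apply Submodule.mem_sup_right
                rw [LinearMap.mem_ker, map_sub, sub_eq_zero]
                exact DFunLike.congr_fun hσ (f x)
              have := hevan _ hker
              rw [map_sub, sub_eq_zero] at this
              exact this
            · show βF e (σ (Groth.Agent.H8.GDual.proj 𝒜 ℳ (-n) (f x))) = βF e x
              rw [Groth.Agent.H8.GDual.proj_of_mem_ne 𝒜 ℳ (hfgr _ x hx) hm, map_zero, map_zero]
              exact (Groth.Agent.H8.GDual.vanish' hDF hen hx (by omega)).symm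
          intro x
          exact DFunLike.congr_fun h1 x
        obtain ⟨d', hd'⟩ := Groth.Agent.H8.GDual.exists_rep hDM φ {-n} (by
          intro m hm x hx
          show βF e (σ (Groth.Agent.H8.GDual.proj 𝒜 ℳ (-n) x)) = 0
          rw [Groth.Agent.H8.GDual.proj_of_mem_ne 𝒜 ℳ hx (by simpa using hm), map_zero, map_zero])
        refine ⟨d', ?_⟩
        apply Groth.Agent.H8.GDual.beta_injective hDF
        ext x
        rw [hg d' x, hd', hφf]
      have he0 : e ≠ 0 := by
        rintro rfl
        apply hey
        rw [map_zero, LinearMap.zero_apply]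
      intro hbot
      have hmem : e ∈ P ⊓ LinearMap.range g := ⟨heP, heg⟩
      rw [hbot] at hmem
      exact he0 ((Submodule.mem_bot R).mp hmem)
  · intro hess
    by_contra hnot
    obtain ⟨x, hxK, hxm⟩ := SetLike.not_le_iff_exists.mp hnot
    have hmF := Groth.Agent.H8.GDual.isHomogeneous_irr_smul_top 𝒜 ℱ
    obtain ⟨e, ⟨n, hen⟩, hex, hevan⟩ :=
      Groth.Agent.H8.GDual.exists_vanishing_apply_ne_zero 𝒜 ℱ hDF _ hmF hxm
    have he0 : e ≠ 0 := by
      rintro rfl
      apply hex
      rw [map_zero, LinearMap.zero_apply]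
    have hme : ∀ a ∈ Groth.Agent.H8.GDual.irr 𝒜, a • e = 0 := by
      intro a ha
      apply Groth.Agent.H8.GDual.beta_injective hDF
      ext y
      rw [hDF.map_smul, map_zero, LinearMap.zero_apply]
      exact hevan _ (Submodule.smul_mem_smul ha trivial)
    have hspan : (Submodule.span R {e}).IsHomogeneous 𝒟F :=
      Groth.Agent.H8.GDual.isHomogeneous_span 𝒜 𝒟F _ (by
        rintro _ rfl
        exact ⟨n, hen⟩)
    have hspan_ne : Submodule.span R {e} ≠ ⊥ := by
      intro h
      apply he0
      have := Submodule.mem_span_singleton_self (R := R) e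
      rw [h] at this
      exact (Submodule.mem_bot R).mp this
    have hmeet := hess.essential _ hspan hspan_ne
    obtain ⟨z, hz, hz0⟩ := (Submodule.ne_bot_iff _).mp hmeet
    obtain ⟨hz1, ⟨d, hd⟩⟩ := hz
    obtain ⟨r, rfl⟩ := Submodule.mem_span_singleton.mp hz1
    obtain ⟨c, a, ha, hra⟩ := Groth.Agent.H8.GDual.exists_smul_eq 𝒜 (M := DF) hposR h0R r
    have hre : r • e = c • e := by rw [hra e, hme a ha, add_zero]
    have hc0 : c ≠ 0 := by
      rintro rfl
      apply hz0
      rw [hre, zero_smul]
    apply hex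
    have h1 : βF (r • e) x = 0 := by
      rw [← hd, hg d x, LinearMap.mem_ker.mp hxK, map_zero]
    rw [hre, map_smul, LinearMap.smul_apply, smul_eq_mul] at h1
    exact (mul_eq_zero.mp h1).resolve_left hc0

end Groth.Agent.S19751
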