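import Groth.Statements.S19761
import Groth.Agent.Lib.helper8.GDualJ

set_option autoImplicit false
universe u
open GrDual

namespace Groth.Agent.S19761

/-- Let R = ⊕_{n ≥ 0} R_n be a Noetherian graded ring with R_0 = k a field. The graded k-dual M ↦ M^* =
⊕_n Hom_k(M_{−n}, k) is an equivalence between the category of Noetherian graded R-modules and the
opposite of the category of Artinian graded R-modules; on objects: if M is a finitely generated
graded R-module then M^* is an Artinian R-module and M = M^{**}, and if M is an Artinian graded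
R-module then M^* is finitely generated and M = M^{**}. Here M = M^{**} is stated as: M is the
graded dual of M^* under the transposed pairing. Here a graded ring defined over k is a commutative
k-algebra of finite type, graded in nonnegative degrees by k-subspaces with degree-zero part k·1,
and R_+ is the ideal spanned by the R_n with n > 0 (a Noetherian such ring is the same as one of
finite type over k); the graded k-dual M^* = ⊕_n Hom_k(M_{−n}, k) of a graded R-module M (with r ∈ R
acting by (r f)(x) = f(r x)) is presented abstractly as a graded R-module D with a k-bilinear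
pairing β : D × M → k compatible with the R-actions, under which D_n pairs to zero with M_m for m ≠
−n and is identified with the full dual space of M_{−n}. -/
theorem result (k : Type u) [Field k] (R : Type u) [CommRing R] [Algebra k R] (𝒜 : ℤ → Submodule k R) [GradedAlgebra 𝒜] (hposR : ∀ n : ℤ, n < 0 → 𝒜 n = ⊥) (h0R : 𝒜 0 = Submodule.span k {(1 : R)}) [Algebra.FiniteType k R] (M : Type u) [AddCommGroup M] [Module R M] [Module k M] [IsScalarTower k R M] (ℳ : ℤ → AddSubgroup M) [DirectSum.Decomposition ℳ] [SetLike.GradedSMul 𝒜 ℳ] (D : Type u) [AddCommGroup D] [Module R D] [Module k D] [IsScalarTower k R D] (𝒟 : ℤ → AddSubgroup D) [DirectSum.Decomposition 𝒟] [SetLike.GradedSMul 𝒜 𝒟] (β : D →ₗ[k] M →ₗ[k] k) (hD : GrSeg.IsGDual R ℳ 𝒟 β) : (Module.Finite R M → IsArtinian R D ∧ GrSeg.IsGDual R 𝒟 ℳ β.flip) ∧ (IsArtinian R M → Module.Finite R D ∧ GrSeg.IsGDual R 𝒟 ℳ β.flip) := by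
  haveI : IsNoetherianRing R := Algebra.FiniteType.isNoetherianRing k R
  constructor
  · intro hfin
    exact ⟨Groth.Agent.H8.GDual.isArtinian_gdual_of_finite 𝒜 ℳ 𝒟 hD hposR h0R,
      Groth.Agent.H8.GDual.isGDual_flip 𝒜 ℳ 𝒟 hD
        (fun n => Groth.Agent.H8.GDual.finite_piece_module 𝒜 ℳ hposR h0R n)⟩
  · intro hArt
    have hflip : GrSeg.IsGDual R 𝒟 ℳ β.flip :=
      Groth.Agent.H8.GDual.isGDual_flip 𝒜 ℳ 𝒟 hD
        (fun n => Groth.Agent.H8.GDual.finite_piece_of_isArtinian 𝒜 ℳ hposR h0R n)
    refine ⟨?_, hflip⟩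
    obtain ⟨t, deg, ψ, hψ, hsoc⟩ :=
      Groth.Agent.H8.GDual.exists_socle_functionals 𝒜 ℳ hposR h0R
    have hpt := Groth.Agent.H8.GDual.isPowerTorsion_of_isArtinian_graded 𝒜 ℳ hposR
    choose d hd using fun i => Groth.Agent.H8.GDual.exists_rep hD (ψ i) {deg i} (by
      intro m hm x hx
      exact hψ i m (by simpa using hm) x hx)
    have hdmem : ∀ i, d i ∈ 𝒟 (-deg i) := by
      intro i
      apply Groth.Agent.H8.GDual.mem_piece_of_vanish hD
      intro m hm x hx
      rw [hd i]
      exact hψ i m (by simpa using hm) x hx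
    have hN : (Submodule.span R (Set.range d)).IsHomogeneous 𝒟 := by
      apply Groth.Agent.H8.GDual.isHomogeneous_span 𝒜 𝒟
      rintro _ ⟨i, rfl⟩
      exact ⟨_, hdmem i⟩
    have htop : Submodule.span R (Set.range d) = ⊤ := by
      by_contra hne
      obtain ⟨x, hx0, hx⟩ :=
        Groth.Agent.H8.GDual.exists_ne_zero_vanishing 𝒜 𝒟 hflip _ hN hne
      obtain ⟨r, hr0, hr⟩ := Groth.Agent.H8.Matlis.exists_socle_mem' _ hpt hx0
      apply hr0
      apply hsoc (r • x) ((Groth.Agent.H8.GDual.mem_socK 𝒜).mpr hr)
      intro i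
      rw [← hd i, ← hD.map_smul]
      exact hx (r • d i) (Submodule.smul_mem _ r (Submodule.subset_span ⟨i, rfl⟩))
    exact Module.finite_def.mpr (htop ▸ Submodule.fg_span (Set.finite_range d))

end Groth.Agent.S19761
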