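import Groth.Statements.S19799
import Mathlib.LinearAlgebra.TensorProduct.RightExactness
import Mathlib.RingTheory.Artinian.Ring
import Mathlib.RingTheory.TensorProduct.Free
import Mathlib.LinearAlgebra.Dimension.Free
import Mathlib.Tactic

set_option autoImplicit false
universe u v w
open scoped TensorProduct
open CAlg

namespace Groth.Agent.S19799

theorem isReduced_tensor (k : Type u) [Field k] [IsAlgClosed k]
    (A : Type v) [CommRing A] [Algebra k A] [Module.Finite k A] [IsReduced A]
    (B : Type w) [CommRing B] [Algebra k B] [Module.Finite k B] [IsReduced B] :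
    IsReduced (A ⊗[k] B) := by
  classical
  refine ⟨fun x hx => ?_⟩
  let b := Module.finBasis k B
  let bA := Algebra.TensorProduct.basis A b
  haveI : IsArtinianRing A := IsArtinianRing.of_finite k A
  suffices h : ∀ j, bA.repr x j = 0 by
    have : bA.repr x = 0 := Finsupp.ext h
    exact (bA.repr.map_eq_zero_iff).mp this
  intro j
  have hmem : bA.repr x j ∈ nilradical A := by
    rw [nilradical_eq_sInf, Ideal.mem_sInf]
    intro p hp
    have hp' : p.IsPrime := hp
    haveI : p.IsMaximal := IsArtinianRing.isMaximal_of_isPrime p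
    letI : Field (A ⧸ p) := Ideal.Quotient.field p
    haveI : Algebra.IsIntegral k (A ⧸ p) := Algebra.IsIntegral.of_finite k (A ⧸ p)
    have hbij : Function.Bijective (algebraMap k (A ⧸ p)) :=
      IsAlgClosed.algebraMap_bijective_of_isIntegral (k := k) (K := A ⧸ p)
    let e : k ≃ₐ[k] (A ⧸ p) := AlgEquiv.ofBijective (Algebra.ofId k (A ⧸ p)) hbij
    let χ : A →ₐ[k] k := e.symm.toAlgHom.comp (Ideal.Quotient.mkₐ k p)
    have hχ : ∀ a : A, χ a = 0 → a ∈ p := by
      intro a ha
      have : e.symm (Ideal.Quotient.mk p a) = 0 := ha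
      rw [map_eq_zero_iff e.symm e.symm.injective] at this
      exact Ideal.Quotient.eq_zero_iff_mem.mp this
    let Ψ : A ⊗[k] B →ₐ[k] B :=
      (Algebra.TensorProduct.lid k B).toAlgHom.comp (Algebra.TensorProduct.map χ (AlgHom.id k B))
    have hΨ0 : Ψ x = 0 := IsReduced.eq_zero _ (hx.map Ψ)
    have hΨ : Ψ x = ∑ j, χ (bA.repr x j) • b j := by
      conv_lhs => rw [← bA.sum_repr x]
      rw [map_sum]
      apply Finset.sum_congr rfl
      intro j _
      have : bA.repr x j • bA j = (bA.repr x j) ⊗ₜ[k] b j := by
        rw [Algebra.TensorProduct.basis_apply, TensorProduct.smul_tmul', smul_eq_mul, mul_one]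
      rw [this]
      simp [Ψ]
    rw [hΨ] at hΨ0
    have := Fintype.linearIndependent_iff.mp b.linearIndependent _ hΨ0 j
    exact hχ _ this
  rw [nilradical_eq_zero] at hmem
  exact hmem

/-- Let k be an algebraically closed field and A, B commutative k-algebras, each finite-dimensional as a
k-vector space. Then reduction commutes with tensor products: the kernel of the canonical surjection
A ⊗_k B ⟶ (A/nilradical A) ⊗_k (B/nilradical B) equals the nilradical of A ⊗_k B, so that this
surjection induces an isomorphism (A ⊗_k B)_red ≅ A_red ⊗_k B_red and in particular A_red ⊗_k B_red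
is reduced. -/
theorem result (k : Type u) [Field k]
    [IsAlgClosed k] (A : Type v) [CommRing A] [Algebra k A] [Module.Finite k A]
    (B : Type w) [CommRing B] [Algebra k B] [Module.Finite k B] :
    RingHom.ker (Algebra.TensorProduct.map (Ideal.Quotient.mkₐ k (nilradical A))
      (Ideal.Quotient.mkₐ k (nilradical B))).toRingHom = nilradical (A ⊗[k] B) := by
  have hf : Function.Surjective (Ideal.Quotient.mkₐ k (nilradical A)) := Ideal.Quotient.mkₐ_surjective k _
  have hg : Function.Surjective (Ideal.Quotient.mkₐ k (nilradical B)) := Ideal.Quotient.mkₐ_surjective k _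
  haveI : IsReduced (A ⧸ nilradical A) := (Ideal.isRadical_iff_quotient_reduced _).mp (Ideal.radical_isRadical (⊥ : Ideal A))
  haveI : IsReduced (B ⧸ nilradical B) := (Ideal.isRadical_iff_quotient_reduced _).mp (Ideal.radical_isRadical (⊥ : Ideal B))
  haveI := isReduced_tensor k (A ⧸ nilradical A) (B ⧸ nilradical B)
  apply le_antisymm
  · have h := Algebra.TensorProduct.map_ker _ _ hf hg
    change RingHom.ker (Algebra.TensorProduct.map (Ideal.Quotient.mkₐ k (nilradical A))
      (Ideal.Quotient.mkₐ k (nilradical B))) ≤ _
    rw [h]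
    apply sup_le
    · rw [Ideal.map_le_iff_le_comap]
      intro a ha
      have ha' : a ∈ nilradical A := by
        rw [RingHom.mem_ker] at ha
        exact Ideal.Quotient.eq_zero_iff_mem.mp ha
      exact (mem_nilradical.mp ha').map _
    · rw [Ideal.map_le_iff_le_comap]
      intro a ha
      have ha' : a ∈ nilradical B := by
        rw [RingHom.mem_ker] at ha
        exact Ideal.Quotient.eq_zero_iff_mem.mp ha
      exact (mem_nilradical.mp ha').map _
  · intro x hx
    rw [RingHom.mem_ker]
    exact IsReduced.eq_zero _ ((mem_nilradical.mp hx).map _)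

end Groth.Agent.S19799
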