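import Groth.Statements.S19804
import Mathlib

set_option autoImplicit false
open scoped TensorProduct
universe u v w
open Brauer

namespace Groth.Agent.S19804


open Module in
lemma idem_eq_zero {R : Type*} [CommRing R] [ConnectedSpace (PrimeSpectrum R)] {A : Type*} [Ring A]
    [Algebra R A] [Module.Finite R A] [Module.Projective R A]
    (e : A) (he : e * e = e) (R' : Type*) [CommRing R'] [Nontrivial R'] [Algebra R R']
    (h : (1 : R') ⊗ₜ[R] e = (0 : R' ⊗[R] A)) : e = 0 := by
  classical
  let M : Submodule R A := LinearMap.range (LinearMap.mulRight R e)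
  let pr : A →ₗ[R] M := (LinearMap.mulRight R e).rangeRestrict
  have hpr : ∀ x : M, pr x.1 = x := by
    rintro ⟨x, a, rfl⟩
    apply Subtype.ext
    simp [pr, mul_assoc, he]
  have hfin : Module.Finite R M :=
    Module.Finite.of_surjective pr (LinearMap.surjective_rangeRestrict _)
  have hproj : Module.Projective R M :=
    Module.Projective.of_split M.subtype pr (by ext x; simp [hpr x])
  have hfp : Module.FinitePresentation R M := Module.finitePresentation_of_projective R M
  -- base change is zero
  have hzero : ∀ t : R' ⊗[R] M, LinearMap.lTensor R' M.subtype t = 0 := by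
    intro t
    induction t using TensorProduct.induction_on with
    | zero => simp
    | tmul r x =>
      obtain ⟨x, a, rfl⟩ := x
      have : (r ⊗ₜ[R] (a * e) : R' ⊗[R] A) = (r ⊗ₜ[R] a) * ((1 : R') ⊗ₜ[R] e) := by
        simp [Algebra.TensorProduct.tmul_mul_tmul]
      simp only [LinearMap.lTensor_tmul, Submodule.subtype_apply, LinearMap.mulRight_apply]
      rw [this, h, mul_zero]
    | add x y hx hy => rw [map_add, hx, hy, add_zero]
  have hsub : Subsingleton (R' ⊗[R] M) := by
    refine ⟨fun t t' => ?_⟩
    have key : ∀ t : R' ⊗[R] M, t = 0 := by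
      intro t
      have h1 : LinearMap.lTensor R' pr (LinearMap.lTensor R' M.subtype t) = t := by
        rw [← LinearMap.comp_apply, ← LinearMap.lTensor_comp]
        have : pr ∘ₗ M.subtype = LinearMap.id := by ext x; simp [hpr x]
        rw [this, LinearMap.lTensor_id, LinearMap.id_apply]
      rw [← h1, hzero, map_zero]
    rw [key t, key t']
  obtain ⟨p'⟩ : Nonempty (PrimeSpectrum R') := inferInstance
  have h0 : rankAtStalk (R' ⊗[R] M) p' = 0 := by
    rw [rankAtStalk_eq_zero_of_subsingleton]; rfl
  rw [rankAtStalk_baseChange] at h0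
  have hconst : rankAtStalk (R := R) M = 0 := by
    ext p
    rw [(Module.isLocallyConstant_rankAtStalk (R := R) (M := M)).apply_eq_of_preconnectedSpace p
      (p'.comap (algebraMap R R')), h0]
    rfl
  have hM : Subsingleton M := rankAtStalk_eq_zero_iff_subsingleton.1 hconst
  have hmem : e ∈ M := ⟨e, by simp [he]⟩
  have := congrArg Subtype.val (Subsingleton.elim (⟨e, hmem⟩ : M) 0)
  simpa using this

/-- Let R be a commutative ring with Spec R connected, A an Azumaya R-algebra and e an idempotent
element of A. If for some nonzero commutative R-algebra R' the element 1 ⊗ e of R' ⊗_R A is 0, then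
e = 0; and if 1 ⊗ e = 1 in R' ⊗_R A, then e = 1. (The published statement is for an Azumaya algebra
over a connected scheme S and base change to an arbitrary nonempty S-scheme T; this row takes S and
T affine.) -/
theorem result {R : Type u} [CommRing R]
    [ConnectedSpace (PrimeSpectrum R)] {A : Type v} [Ring A] [Algebra R A] [IsAzumaya R A]
    (e : A) (he : IsIdempotentElem e) (R' : Type w) [CommRing R'] [Nontrivial R'] [Algebra R R'] :
    ((1 : R') ⊗ₜ[R] e = (0 : R' ⊗[R] A) → e = 0) ∧ ((1 : R') ⊗ₜ[R] e = (1 : R' ⊗[R] A) → e = 1) := by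
  refine ⟨fun h => idem_eq_zero e he R' h, fun h => ?_⟩
  have he' : (1 - e) * (1 - e) = 1 - e := he.one_sub.eq
  have h0 : (1 : R') ⊗ₜ[R] (1 - e) = (0 : R' ⊗[R] A) := by
    rw [TensorProduct.tmul_sub, h, Algebra.TensorProduct.one_def, sub_self]
  have := idem_eq_zero (1 - e) he' R' h0
  exact (sub_eq_zero.1 this).symm


end Groth.Agent.S19804
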