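import Groth.Statements.S19856
import Mathlib

set_option autoImplicit false
universe u v
open CAlg

namespace Groth.Agent.S19856

section
variable {A : Type u} [CommRing A] [IsLocalRing A]
  {G : Type v} [Group G] [MulSemiringAction G A]

local notation "𝔪" => IsLocalRing.maximalIdeal A

theorem smul_mem_max (g : G) {x : A} (hx : x ∈ 𝔪) : g • x ∈ 𝔪 := by
  rw [IsLocalRing.mem_maximalIdeal, mem_nonunits_iff] at hx ⊢
  intro hu
  apply hx
  have := hu.map (MulSemiringAction.toRingHom G A g⁻¹)
  simpa using this

theorem N_mul (g : G) (a b : A) :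
    g • (a * b) - a * b = (g • a - a) * (g • b) + a * (g • b - b) := by
  rw [smul_mul']; ring

theorem claim_one (g : G) (h0 : ∀ a : A, g • a - a ∈ 𝔪)
    (hg : ∀ a ∈ 𝔪, g • a - a ∈ 𝔪 ^ 2) :
    ∀ (i : ℕ) (x : A), x ∈ 𝔪 ^ i → g • x - x ∈ 𝔪 ^ (i + 1) := by
  intro i
  induction i with
  | zero =>
    intro x _
    simpa using h0 x
  | succ i ih =>
    intro x hx
    rw [pow_succ] at hx
    induction hx using Submodule.mul_induction_on' with
    | mem_mul_mem a ha b hb =>
      rw [N_mul]
      apply add_mem
      · rw [pow_succ (𝔪) (i + 1)]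
        exact Ideal.mul_mem_mul (ih a ha) (smul_mem_max g hb)
      · have : 𝔪 ^ (i + 1 + 1) = 𝔪 ^ i * 𝔪 ^ 2 := by rw [← pow_add]
        rw [this]
        exact Ideal.mul_mem_mul ha (hg b hb)
    | add x _ y _ hx hy =>
      have : g • (x + y) - (x + y) = (g • x - x) + (g • y - y) := by rw [smul_add]; ring
      rw [this]
      exact add_mem hx hy

theorem claim_step (g : G) (n : ℕ) (hgn : g ^ n = 1) (hn : IsUnit (n : A)) (j : ℕ) (hj : 1 ≤ j)
    (h : ∀ (i : ℕ) (x : A), x ∈ 𝔪 ^ i → g • x - x ∈ 𝔪 ^ (i + j)) :
    ∀ (i : ℕ) (x : A), x ∈ 𝔪 ^ i → g • x - x ∈ 𝔪 ^ (i + (j + 1)) := by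
  intro i x hx
  have key : ∀ t : ℕ, g ^ t • x - x - t • (g • x - x) ∈ 𝔪 ^ (i + 2 * j) := by
    intro t
    induction t with
    | zero => simp
    | succ t ih =>
      set e := g ^ t • x - x - t • (g • x - x) with he
      have hy : g ^ t • x = x + t • (g • x - x) + e := by rw [he]; ring
      have h1 : g ^ (t + 1) • x - x - (t + 1) • (g • x - x) =
          e + t • (g • (g • x - x) - (g • x - x)) + (g • e - e) := by
        have hgt : g • (t • (g • x - x)) = t • (g • (g • x - x)) :=
          map_nsmul (MulSemiringAction.toRingHom G A g) t (g • x - x)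
        rw [pow_succ', mul_smul, hy, smul_add, smul_add, hgt]
        simp only [nsmul_eq_mul, Nat.cast_add, Nat.cast_one]
        ring
      rw [h1]
      have h2 : g • (g • x - x) - (g • x - x) ∈ 𝔪 ^ (i + 2 * j) := by
        have := h (i + j) _ (h i x hx)
        rwa [show i + j + j = i + 2 * j by ring] at this
      have h3 : g • e - e ∈ 𝔪 ^ (i + 2 * j) := by
        have := h (i + 2 * j) e ih
        exact Ideal.pow_le_pow_right (by omega) this
      refine add_mem (add_mem ih ?_) h3
      rw [nsmul_eq_mul]
      exact Ideal.mul_mem_left _ _ h2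
  have h4 := key n
  rw [hgn, one_smul, sub_self, zero_sub, neg_mem_iff, nsmul_eq_mul] at h4
  have h5 : g • x - x ∈ 𝔪 ^ (i + 2 * j) := by
    obtain ⟨u, hu⟩ := hn
    have := Ideal.mul_mem_left (𝔪 ^ (i + 2 * j)) (↑u⁻¹ : A) h4
    rwa [← mul_assoc, ← hu, Units.inv_mul, one_mul] at this
  exact Ideal.pow_le_pow_right (by omega) h5

theorem smul_eq_self_of_trivial [IsNoetherianRing A] [Finite G]
    (hcard : ((Nat.card G : ℕ) : IsLocalRing.ResidueField A) ≠ 0) (g : G)
    (h0 : ∀ a : A, g • a - a ∈ 𝔪) (hg : ∀ a ∈ 𝔪, g • a - a ∈ 𝔪 ^ 2) (a : A) : g • a = a := by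
  have hn : IsUnit ((Nat.card G : ℕ) : A) := by
    by_contra hnu
    apply hcard
    have : ((Nat.card G : ℕ) : A) ∈ 𝔪 := (IsLocalRing.mem_maximalIdeal _).mpr hnu
    rw [← IsLocalRing.residue_eq_zero_iff] at this
    rwa [map_natCast] at this
  have hgn : g ^ Nat.card G = 1 := pow_card_eq_one'
  have hall : ∀ j : ℕ, 1 ≤ j → ∀ (i : ℕ) (x : A), x ∈ 𝔪 ^ i → g • x - x ∈ 𝔪 ^ (i + j) := by
    intro j hj
    induction j, hj using Nat.le_induction with
    | base => exact claim_one g h0 hg
    | succ j hj ih => exact claim_step g (Nat.card G) hgn hn j hj ih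
  have hmem : g • a - a ∈ (⨅ j : ℕ, 𝔪 ^ j) := by
    rw [Ideal.mem_iInf]
    intro j
    rcases Nat.eq_zero_or_pos j with h | h
    · subst h; simp
    · have := hall j h 0 a (by simp)
      rwa [zero_add] at this
  rw [Ideal.iInf_pow_eq_bot_of_isLocalRing _ (IsLocalRing.maximalIdeal.isMaximal A).ne_top] at hmem
  exact sub_eq_zero.mp hmem

end

/-- Ring-level form: let O be a discrete valuation ring and G a finite group acting faithfully on O by
ring automorphisms, such that every element of G acts trivially on the residue field of O (that is,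
g • a - a lies in the maximal ideal for all a) and such that the order of G is nonzero in the
residue field of O. Then G is cyclic. (The source states this for a finite group of order invertible
in an algebraically closed field k acting faithfully on a smooth connected k-variety and the
subgroup of elements fixing pointwise a codimension-one irreducible component of the ramification
locus, applied to the local ring at the generic point of that component; it is stated here for an
arbitrary discrete valuation ring with a faithful action. The source also shows that this subgroup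
is nontrivial; that geometric part is not stated.) -/
theorem result
    (O : Type u) [CommRing O] [IsDomain O] [IsDiscreteValuationRing O]
    (G : Type v) [Group G] [Finite G] [MulSemiringAction G O] [FaithfulSMul G O]
    (htriv : ∀ (g : G) (a : O), g • a - a ∈ IsLocalRing.maximalIdeal O)
    (hcard : ((Nat.card G : ℕ) : IsLocalRing.ResidueField O) ≠ 0) :
    IsCyclic G := by
  classical
  obtain ⟨π, hπ⟩ := IsDiscreteValuationRing.exists_irreducible O
  have hπ0 : π ≠ 0 := hπ.ne_zero
  have hm : IsLocalRing.maximalIdeal O = Ideal.span {π} := hπ.maximalIdeal_eq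
  have hassoc : ∀ g : G, ∃ u : Oˣ, π * u = g • π := by
    intro g
    have h1 : Irreducible (g • π) :=
      (MulEquiv.irreducible_iff (MulSemiringAction.toRingEquiv G O g)).mpr hπ
    exact IsDiscreteValuationRing.associated_of_irreducible O hπ h1
  choose u hu using hassoc
  have hu_mul : ∀ g h : G, (u (g * h) : O) = g • (u h : O) * u g := by
    intro g h
    apply mul_left_cancel₀ hπ0
    rw [hu, mul_smul, ← hu h, smul_mul', ← hu g]
    ring
  have hu_one : (u 1 : O) = 1 := by
    apply mul_left_cancel₀ hπ0
    rw [hu, one_smul, mul_one]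
  have hres_smul : ∀ (g : G) (a : O), IsLocalRing.residue O (g • a) = IsLocalRing.residue O a := by
    intro g a
    rw [← sub_eq_zero, ← map_sub, IsLocalRing.residue_eq_zero_iff]
    exact htriv g a
  let f : G →* IsLocalRing.ResidueField O :=
    { toFun := fun g => IsLocalRing.residue O (u g)
      map_one' := by rw [hu_one, map_one]
      map_mul' := by
        intro g h
        rw [hu_mul, map_mul, hres_smul, mul_comm] }
  have hf : Function.Injective f := by
    rw [injective_iff_map_eq_one]
    intro g hg
    have hg1 : (u g : O) - 1 ∈ IsLocalRing.maximalIdeal O := by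
      rw [← IsLocalRing.residue_eq_zero_iff, map_sub, map_one, sub_eq_zero]
      exact hg
    have hπ2 : g • π - π ∈ IsLocalRing.maximalIdeal O ^ 2 := by
      rw [← hu g]
      have : π * (u g : O) - π = π * ((u g : O) - 1) := by ring
      rw [this, pow_two]
      exact Ideal.mul_mem_mul (hm ▸ Ideal.subset_span rfl) hg1
    have hmm : ∀ a ∈ IsLocalRing.maximalIdeal O, g • a - a ∈ IsLocalRing.maximalIdeal O ^ 2 := by
      intro a ha
      rw [hm, Ideal.mem_span_singleton] at ha
      obtain ⟨b, rfl⟩ := ha
      rw [N_mul]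
      refine Ideal.add_mem _ (Ideal.mul_mem_right _ _ hπ2) ?_
      rw [pow_two]
      exact Ideal.mul_mem_mul (hm ▸ Ideal.subset_span rfl) (htriv g b)
    have hall := smul_eq_self_of_trivial hcard g (htriv g) hmm
    apply FaithfulSMul.eq_of_smul_eq_smul (α := O)
    intro a
    rw [hall a, one_smul]
  exact isCyclic_of_injective_ringHom f hf

end Groth.Agent.S19856
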