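import Groth.Statements.S19858
import Mathlib
import Groth.Agent.Lib.helper15.FlatSrc
import Groth.Agent.Lib.helper20.FiberLoc
import Groth.Agent.Lib.helper20.NormalDescent

set_option autoImplicit false
universe u
open EGA4

namespace Groth.Agent.S19858

/-- Let A → B → C be homomorphisms of Noetherian rings such that C is faithfully flat over B and the
composite A → C is a normal homomorphism (flat, with geometrically normal fibres). Then A → B is a
normal homomorphism. (In the source C is the adic completion of A along an ideal and A → C is
assumed normal; only the faithful flatness of B → C and the normality of A → C enter, so C is an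
arbitrary Noetherian ring here.) -/
theorem result (A B C : Type u)
    [CommRing A] [CommRing B] [CommRing C] [IsNoetherianRing A] [IsNoetherianRing B] [IsNoetherianRing C]
    [Algebra A B] [Algebra B C] [Algebra A C] [IsScalarTower A B C] [Module.FaithfullyFlat B C]
    (hAC : EGA4.IsNormalHom A C) : EGA4.IsNormalHom A B := by
  obtain ⟨hflat, hfib⟩ := hAC
  haveI := hflat
  refine ⟨Groth.Agent.Lib.H15.flat_of_flat_of_faithfullyFlat A B C, ?_⟩
  intro p hp
  intro k' _ _ hfin
  letI : Algebra A k' :=
    ((algebraMap p.ResidueField k').comp (algebraMap A p.ResidueField)).toAlgebra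
  haveI : IsScalarTower A p.ResidueField k' := IsScalarTower.of_algebraMap_eq (fun _ => rfl)
  let e1 : TensorProduct B (TensorProduct A B k') C ≃+* TensorProduct B C (TensorProduct A B k') :=
    (Algebra.TensorProduct.comm B _ _).toRingEquiv
  let e2 : TensorProduct B C (TensorProduct A B k') ≃+* TensorProduct A C k' :=
    (Algebra.TensorProduct.cancelBaseChange A B C C k').toRingEquiv
  let e3 : TensorProduct A C k' ≃+* TensorProduct A k' C :=
    (Algebra.TensorProduct.comm A C k').toRingEquiv
  let c1 : TensorProduct p.ResidueField k' (p.Fiber C) ≃+* TensorProduct A k' C :=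
    (Algebra.TensorProduct.cancelBaseChange A p.ResidueField p.ResidueField k' C).toRingEquiv
  let c2 : TensorProduct p.ResidueField k' (p.Fiber B) ≃+* TensorProduct A k' B :=
    (Algebra.TensorProduct.cancelBaseChange A p.ResidueField p.ResidueField k' B).toRingEquiv
  have hC := hfib p k' hfin
  have h1 := Groth.Agent.Lib.helper20.FiberLoc.normal_of_ringEquiv
    (c1.trans (e3.symm.trans (e2.symm.trans e1.symm))) hC
  have h2 := Groth.Agent.Lib.helper20.NormalDescent.normal_of_faithfullyFlat
    (TensorProduct A B k') (TensorProduct B (TensorProduct A B k') C) h1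
  exact Groth.Agent.Lib.helper20.FiberLoc.normal_of_ringEquiv
    ((Algebra.TensorProduct.comm A B k').toRingEquiv.trans c2.symm) h2

end Groth.Agent.S19858
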