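import Groth.Statements.S4736
import Mathlib
import Groth.Agent.Lib.helper20.FiberLoc

set_option autoImplicit false
universe u
open EGA4

namespace Groth.Agent.S4736

/-- Let A → B be a regular homomorphism of Noetherian rings (flat, with geometrically regular fibres)
and S a multiplicative subset of A. Then the induced homomorphism S⁻¹A → S⁻¹B is regular. (S⁻¹A and
S⁻¹B are given here as arbitrary localizations at S and at its image.) -/
theorem result (A B : Type u) [CommRing A] [CommRing B] [IsNoetherianRing A] [IsNoetherianRing B]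
    [Algebra A B] (h : CAlg.IsRegularHom A B) (S : Submonoid A)
    (A' B' : Type u) [CommRing A'] [CommRing B'] [Algebra A A'] [Algebra B B'] [Algebra A' B'] [Algebra A B']
    [IsScalarTower A A' B'] [IsScalarTower A B B'] [IsLocalization S A']
    [IsLocalization (Algebra.algebraMapSubmonoid B S) B'] :
    CAlg.IsRegularHom A' B' := by
  obtain ⟨hflat, hfib⟩ := h
  haveI := hflat
  haveI : IsNoetherianRing B' :=
    IsLocalization.isNoetherianRing (Algebra.algebraMapSubmonoid B S) B' inferInstance
  refine ⟨Groth.Agent.Lib.helper20.FiberLoc.flat_of_isLocalization A B A' B' S, ?_⟩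
  intro p' hp'
  refine ⟨Groth.Agent.Lib.helper20.FiberLoc.fiber_isNoetherianRing A' B' p', ?_⟩
  intro k' _ _ hfin
  obtain ⟨alg, h'⟩ := Groth.Agent.Lib.helper20.FiberLoc.exists_fiber_equiv A B A' B' S p' k'
  letI := alg
  obtain ⟨hfin', -, ⟨e⟩⟩ := h'
  haveI := (hfib (p'.comap (algebraMap A A'))).2 k' (hfin' hfin)
  exact IsRegularRing.of_ringEquiv (R := TensorProduct (p'.comap (algebraMap A A')).ResidueField k'
    ((p'.comap (algebraMap A A')).Fiber B)) e.symm

end Groth.Agent.S4736
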