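import Groth.Statements.S9250
import Mathlib
import Groth.Agent.Lib.helper20.RegAscent

set_option autoImplicit false
universe u
open CAlg

namespace Groth.Agent.S9250

/-- Let R → S be a regular ring map with S Noetherian and R regular. Then S is regular. -/
theorem result (R S : Type u) [CommRing R] [CommRing S] [Algebra R S]
    [IsRegularRing R] [IsNoetherianRing S] (h : CAlg.IsRegularHom R S) : IsRegularRing S := by
  obtain ⟨hflat, hfib⟩ := h
  haveI := hflat
  apply Groth.Agent.Lib.helper20.RegAscent.isRegularRing_of_flat_of_regular_fibers R S
  intro p hp
  haveI h1 : IsRegularRing (TensorProduct p.ResidueField p.ResidueField (p.Fiber S)) :=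
    (hfib p).2 p.ResidueField inferInstance
  exact IsRegularRing.of_ringEquiv (R := TensorProduct p.ResidueField p.ResidueField (p.Fiber S))
    (Algebra.TensorProduct.lid p.ResidueField (p.Fiber S)).toRingEquiv

end Groth.Agent.S9250
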