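import Groth.Statements.S19863
import Mathlib
import Groth.Agent.S0543
import Groth.Agent.S4736
import Groth.Agent.S9250
import Groth.Agent.S9406

set_option autoImplicit false
universe u
open EGA4

namespace Groth.Agent.S19863

/-- Let A be a Noetherian ring, J a proper ideal of A, Â the J-adic completion and A_T the localization
of A at T = 1 + J. If the canonical map A → Â is a regular homomorphism (flat, with Noetherian
geometrically regular fibres), then A_T is a regular ring if and only if Â is a regular ring
(Noetherian, with regular local rings at all primes). (The cases of the henselization of the pair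
and of the weak completion are not stated here.) -/
theorem result
    (A : Type u) [CommRing A] [IsNoetherianRing A] (J : Ideal A) (hJ : J ≠ ⊤)
    (hf : CAlg.IsRegularHom A (AdicCompletion J A))
    (T : Submonoid A) (hT : T = MonoidHom.mker (Ideal.Quotient.mk J)) :
    IsRegularRing (Localization T) ↔ IsRegularRing (AdicCompletion J A) := by
  haveI hN : IsNoetherianRing (AdicCompletion J A) := Groth.Agent.S0543.result A J
  have hJfg : J.FG := (isNoetherianRing_iff_ideal_fg A).mp inferInstance J
  have hcomp := AdicCompletion.isAdicComplete_self J hJfg
  have hTiff : ∀ x : A, x ∈ T ↔ Ideal.Quotient.mk J x = 1 := by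
    intro x
    rw [hT, MonoidHom.mem_mker]
  have hTmem : ∀ t ∈ T, t - 1 ∈ J := by
    intro t ht
    rw [hTiff] at ht
    rw [← Ideal.Quotient.eq_zero_iff_mem, map_sub, map_one]
    exact sub_eq_zero.mpr ht
  have hunit : ∀ t : T, IsUnit (algebraMap A (AdicCompletion J A) t) := by
    intro t
    have h1 : algebraMap A (AdicCompletion J A) (t.1 - 1) ∈
        (⊥ : Ideal (AdicCompletion J A)).jacobson :=
      (IsAdicComplete.le_jacobson_bot _) (Ideal.mem_map_of_mem _ (hTmem t.1 t.2))
    have h2 := Ideal.mem_jacobson_bot.mp h1 1
    have h3 : algebraMap A (AdicCompletion J A) (t.1 - 1) * 1 + 1 =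
        algebraMap A (AdicCompletion J A) t.1 := by
      rw [map_sub, map_one]; ring
    rwa [h3] at h2
  let φ : Localization T →+* AdicCompletion J A := IsLocalization.lift hunit
  letI : Algebra (Localization T) (AdicCompletion J A) := φ.toAlgebra
  haveI : IsScalarTower A (Localization T) (AdicCompletion J A) :=
    IsScalarTower.of_algebraMap_eq (fun a => (IsLocalization.lift_eq hunit a).symm)
  haveI : IsLocalization (Algebra.algebraMapSubmonoid (AdicCompletion J A) T)
      (AdicCompletion J A) :=
    IsLocalization.of_le_isUnit (by rintro x ⟨t, ht, rfl⟩; exact hunit ⟨t, ht⟩)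
  have hreg' : CAlg.IsRegularHom (Localization T) (AdicCompletion J A) :=
    Groth.Agent.S4736.result A (AdicCompletion J A) hf T (Localization T) (AdicCompletion J A)
  constructor
  · intro h
    haveI := h
    exact Groth.Agent.S9250.result (Localization T) (AdicCompletion J A) hreg'
  · intro h
    haveI := h
    haveI := hreg'.1
    haveI : Module.FaithfullyFlat (Localization T) (AdicCompletion J A) := by
      refine ⟨fun m hm => ?_⟩
      rw [Ideal.smul_top_eq_map]
      refine (Submodule.restrictScalars_eq_top_iff _ _ _).ne.mpr ?_
      intro htop
      have hnne : m.comap (algebraMap A (Localization T)) ≠ ⊤ := by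
        intro h1
        apply hm.ne_top
        rw [Ideal.eq_top_iff_one] at h1 ⊢
        have h2 : algebraMap A (Localization T) 1 ∈ m := h1
        simpa using h2
      have hJn : J ≤ m.comap (algebraMap A (Localization T)) := by
        intro j hj
        show algebraMap A (Localization T) j ∈ m
        by_contra hjm
        obtain ⟨y, i, hi, hyi⟩ := hm.exists_inv hjm
        obtain ⟨a, t, rfl⟩ := IsLocalization.exists_mk'_eq T y
        have htT : t.1 - a * j ∈ T := by
          rw [hTiff, map_sub, map_mul,
            Ideal.Quotient.eq_zero_iff_mem.mpr hj, mul_zero, sub_zero]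
          exact (hTiff _).mp t.2
        have h1 : algebraMap A (Localization T) (t.1 - a * j) =
            i * algebraMap A (Localization T) t.1 := by
          have h2 : i = 1 - IsLocalization.mk' (Localization T) a t *
              algebraMap A (Localization T) j := by
            rw [← hyi]; ring
          rw [h2, sub_mul, one_mul, mul_right_comm, IsLocalization.mk'_spec, map_sub, map_mul]
        have h3 : algebraMap A (Localization T) (t.1 - a * j) ∈ m := by
          rw [h1]; exact m.mul_mem_right _ hi
        exact hm.ne_top (Ideal.eq_top_of_isUnit_mem _ h3
          (IsLocalization.map_units (Localization T) ⟨_, htT⟩))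
      let ψ : AdicCompletion J A →+* A ⧸ m.comap (algebraMap A (Localization T)) :=
        (Ideal.Quotient.factor hJn).comp (AdicCompletion.evalOneₐ J).toRingHom
      have hψ : ∀ a : A, ψ (algebraMap A (AdicCompletion J A) a) =
          Ideal.Quotient.mk (m.comap (algebraMap A (Localization T))) a := by
        intro a
        show (Ideal.Quotient.factor hJn) ((AdicCompletion.evalOneₐ J) (algebraMap A _ a)) = _
        rw [AlgHom.commutes]
        rfl
      have hle : m.map (algebraMap (Localization T) (AdicCompletion J A)) ≤ RingHom.ker ψ := by
        rw [Ideal.map_le_iff_le_comap]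
        intro x hx
        rw [Ideal.mem_comap, RingHom.mem_ker]
        obtain ⟨a, t, rfl⟩ := IsLocalization.exists_mk'_eq T x
        have ha : a ∈ m.comap (algebraMap A (Localization T)) := by
          show algebraMap A (Localization T) a ∈ m
          have := m.mul_mem_right (algebraMap A (Localization T) t.1) hx
          rwa [IsLocalization.mk'_spec] at this
        have h1 : algebraMap (Localization T) (AdicCompletion J A)
            (IsLocalization.mk' (Localization T) a t) *
            algebraMap A (AdicCompletion J A) t.1 = algebraMap A (AdicCompletion J A) a := by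
          rw [IsScalarTower.algebraMap_apply A (Localization T) (AdicCompletion J A) t.1,
            ← map_mul, IsLocalization.mk'_spec, ← IsScalarTower.algebraMap_apply]
        have h2 := congrArg ψ h1
        rw [map_mul, hψ, hψ] at h2
        have h3 : Ideal.Quotient.mk (m.comap (algebraMap A (Localization T))) t.1 = 1 := by
          rw [← map_one (Ideal.Quotient.mk (m.comap (algebraMap A (Localization T)))),
            Ideal.Quotient.eq]
          exact hJn (hTmem t.1 t.2)
        have h4 : Ideal.Quotient.mk (m.comap (algebraMap A (Localization T))) a = 0 :=
          Ideal.Quotient.eq_zero_iff_mem.mpr ha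
        rw [h3, h4, mul_one] at h2
        exact h2
      have h1 : (1 : AdicCompletion J A) ∈ RingHom.ker ψ := hle (htop ▸ Submodule.mem_top)
      rw [RingHom.mem_ker, map_one] at h1
      apply hnne
      rw [Ideal.eq_top_iff_one, ← Ideal.Quotient.eq_zero_iff_mem, map_one]
      exact h1
    exact Groth.Agent.S9406.result (Localization T) (AdicCompletion J A)

end Groth.Agent.S19863
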