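import Groth.Statements.S19868
import Groth.Agent.Lib.helper1.PLie3
import Groth.Agent.Lib.lead.Restore.H1DN3

set_option autoImplicit false
universe u v
open PLie

namespace Groth.Agent.S19868

section Helpers
open DualNumber Groth.Agent.Lib.helper1.DN3

section
variable (K : Type u) [Field K] (a b c d e f g h i : K)
  (L : Type v) [LieRing L] [LieAlgebra (DualNumber K) L] (bs : Module.Basis (Fin 3) (DualNumber K) L)
  (hxy : ⁅bs 0, bs 1⁆ = (a • ε : DualNumber K) • bs 0 + (b • ε : DualNumber K) • bs 1 + (c • ε : DualNumber K) • bs 2)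
  (hxz : ⁅bs 0, bs 2⁆ = (d • ε : DualNumber K) • bs 0 + (e • ε : DualNumber K) • bs 1 + (f • ε : DualNumber K) • bs 2)
  (hyz : ⁅bs 1, bs 2⁆ = (1 + g • ε : DualNumber K) • bs 0 + (h • ε : DualNumber K) • bs 1 + (i • ε : DualNumber K) • bs 2)

include hxy hxz hyz

theorem jacobi_rel : b + f = 0 := by
  have hl := lie_vec bs hxy hxz hyz
  have hJ := lie_jacobi (bs 0) (bs 1) (bs 2)
  have hzx : ⁅bs 2, bs 0⁆ = - ⁅bs 0, bs 2⁆ := (lie_skew _ _).symm
  rw [hzx, hyz, hxz, hxy] at hJ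
  change ⁅bs 0, vec bs _ _ _⁆ + ⁅bs 1, - vec bs _ _ _⁆ + ⁅bs 2, vec bs _ _ _⁆ = 0 at hJ
  rw [vec_neg] at hJ
  conv at hJ =>
    lhs
    rw [bs0 bs, bs1 bs, bs2 bs]
  rw [hl, hl, hl, vec_add, vec_add, ← vec_zero bs, vec_inj] at hJ
  obtain ⟨h0, h1, h2⟩ := hJ
  have h0' := congrArg TrivSqZeroExt.snd h0
  simp at h0'
  linear_combination -h0'

theorem adx (d₀ d₁ d₂ : DualNumber K) :
    ⁅bs 0, vec bs d₀ d₁ d₂⁆ = vec bs (d₁ * a • ε + d₂ * d • ε) (d₁ * b • ε + d₂ * e • ε)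
      (d₁ * c • ε + d₂ * f • ε) := by
  have hl := lie_vec bs hxy hxz hyz
  conv_lhs => rw [bs0 bs]
  rw [hl, vec_inj]
  exact ⟨by ring, by ring, by ring⟩

theorem ady (d₀ d₁ d₂ : DualNumber K) :
    ⁅bs 1, vec bs d₀ d₁ d₂⁆ = vec bs (-d₀ * a • ε + d₂ * (1 + g • ε)) (-d₀ * b • ε + d₂ * h • ε)
      (-d₀ * c • ε + d₂ * i • ε) := by
  have hl := lie_vec bs hxy hxz hyz
  conv_lhs => rw [bs1 bs]
  rw [hl, vec_inj]
  exact ⟨by ring, by ring, by ring⟩

theorem adz (d₀ d₁ d₂ : DualNumber K) :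
    ⁅bs 2, vec bs d₀ d₁ d₂⁆ = vec bs (-d₀ * d • ε - d₁ * (1 + g • ε)) (-d₀ * e • ε - d₁ * h • ε)
      (-d₀ * f • ε - d₁ * i • ε) := by
  have hl := lie_vec bs hxy hxz hyz
  conv_lhs => rw [bs2 bs]
  rw [hl, vec_inj]
  exact ⟨by ring, by ring, by ring⟩

/-- `(ad x)^2 = 0` -/
theorem adx_sq : LieAlgebra.ad (DualNumber K) L (bs 0) ^ 2 = 0 := by
  apply bs.ext
  intro k
  obtain ⟨d₀, d₁, d₂, hk⟩ := exists_vec bs (bs k)
  rw [pow_two, Module.End.mul_apply, LieAlgebra.ad_apply, LieAlgebra.ad_apply, LinearMap.zero_apply,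
    hk, adx K a b c d e f g h i L bs hxy hxz hyz, adx K a b c d e f g h i L bs hxy hxz hyz,
    ← vec_zero bs, vec_inj]
  refine ⟨?_, ?_, ?_⟩ <;> (apply TrivSqZeroExt.ext <;> simp)

/-- values of `(ad y)^2` -/
theorem ady_sq (d₀ d₁ d₂ : DualNumber K) :
    ⁅bs 1, ⁅bs 1, vec bs d₀ d₁ d₂⁆⁆
      = vec bs (d₀ * -(c • ε) + d₂ * ((i - a) • ε)) (d₂ * -(b • ε)) (d₂ * -(c • ε)) := by
  rw [ady K a b c d e f g h i L bs hxy hxz hyz, ady K a b c d e f g h i L bs hxy hxz hyz, vec_inj]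
  refine ⟨?_, ?_, ?_⟩ <;> (apply TrivSqZeroExt.ext <;> simp <;> ring)

/-- values of `(ad y)^3` -/
theorem ady_cube (d₀ d₁ d₂ : DualNumber K) :
    ⁅bs 1, ⁅bs 1, ⁅bs 1, vec bs d₀ d₁ d₂⁆⁆⁆ = vec bs (d₂ * -(c • ε)) 0 0 := by
  rw [ady_sq K a b c d e f g h i L bs hxy hxz hyz, ady K a b c d e f g h i L bs hxy hxz hyz, vec_inj]
  refine ⟨?_, ?_, ?_⟩ <;> (apply TrivSqZeroExt.ext <;> simp)

theorem ady_four (d₀ d₁ d₂ : DualNumber K) :
    ⁅bs 1, ⁅bs 1, ⁅bs 1, ⁅bs 1, vec bs d₀ d₁ d₂⁆⁆⁆⁆ = 0 := by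
  rw [ady_cube K a b c d e f g h i L bs hxy hxz hyz, ady K a b c d e f g h i L bs hxy hxz hyz,
    ← vec_zero bs, vec_inj]
  refine ⟨?_, ?_, ?_⟩ <;> (apply TrivSqZeroExt.ext <;> simp)

/-- values of `(ad z)^2` -/
theorem adz_sq (d₀ d₁ d₂ : DualNumber K) :
    ⁅bs 2, ⁅bs 2, vec bs d₀ d₁ d₂⁆⁆
      = vec bs (d₀ * (e • ε) + d₁ * ((d + h) • ε)) (d₁ * (e • ε)) (d₁ * (f • ε)) := by
  rw [adz K a b c d e f g h i L bs hxy hxz hyz, adz K a b c d e f g h i L bs hxy hxz hyz, vec_inj]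
  refine ⟨?_, ?_, ?_⟩ <;> (apply TrivSqZeroExt.ext <;> simp <;> ring)

theorem adz_cube (d₀ d₁ d₂ : DualNumber K) :
    ⁅bs 2, ⁅bs 2, ⁅bs 2, vec bs d₀ d₁ d₂⁆⁆⁆ = vec bs (d₁ * -(e • ε)) 0 0 := by
  rw [adz_sq K a b c d e f g h i L bs hxy hxz hyz, adz K a b c d e f g h i L bs hxy hxz hyz, vec_inj]
  refine ⟨?_, ?_, ?_⟩ <;> (apply TrivSqZeroExt.ext <;> simp)

theorem adz_four (d₀ d₁ d₂ : DualNumber K) :
    ⁅bs 2, ⁅bs 2, ⁅bs 2, ⁅bs 2, vec bs d₀ d₁ d₂⁆⁆⁆⁆ = 0 := by
  rw [adz_cube K a b c d e f g h i L bs hxy hxz hyz, adz K a b c d e f g h i L bs hxy hxz hyz,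
    ← vec_zero bs, vec_inj]
  refine ⟨?_, ?_, ?_⟩ <;> (apply TrivSqZeroExt.ext <;> simp)


variable (p : ℕ) [hp : Fact p.Prime] [CharP K p] [CharP (DualNumber K) p]

theorem forward (φ : PLie.PMap (DualNumber K) p L) (hp2 : p = 2) : b = 0 ∧ c = 0 ∧ e = 0 := by
  have hl := lie_vec bs hxy hxz hyz
  -- φ y
  obtain ⟨α, β, γ, hφy⟩ := exists_vec bs (φ.toFun (bs 1))
  have had := φ.ad_map (bs 1)
  have h2 : LieAlgebra.ad (DualNumber K) L (bs 1) ^ p = LieAlgebra.ad (DualNumber K) L (bs 1) ^ 2 := by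
    rw [hp2]
  rw [h2] at had
  have F0 := congrArg (fun T : Module.End (DualNumber K) L => T (bs 0)) had
  have F1 := congrArg (fun T : Module.End (DualNumber K) L => T (bs 1)) had
  have F2 := congrArg (fun T : Module.End (DualNumber K) L => T (bs 2)) had
  simp only [LieAlgebra.ad_apply, pow_two, Module.End.mul_apply] at F0 F1 F2
  rw [hφy] at F0 F1 F2
  conv at F0 => rw [bs0 bs]
  conv at F2 => rw [bs2 bs]
  conv at F1 => lhs; rw [bs1 bs]
  rw [lie_self, lie_zero, ← vec_zero bs] at F1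
  rw [ady_sq K a b c d e f g h i L bs hxy hxz hyz, hl, vec_inj] at F0 F2
  rw [hl, vec_inj] at F1
  have r1 := congrArg TrivSqZeroExt.fst F1.1
  have r2 := congrArg TrivSqZeroExt.fst F2.1
  have r0 := congrArg TrivSqZeroExt.snd F0.1
  have r3 := congrArg TrivSqZeroExt.snd F1.2.1
  have r4 := congrArg TrivSqZeroExt.snd F2.2.1
  simp at r0 r1 r2 r3 r4
  -- φ z
  obtain ⟨α', β', γ', hφz⟩ := exists_vec bs (φ.toFun (bs 2))
  have had' := φ.ad_map (bs 2)
  have h2' : LieAlgebra.ad (DualNumber K) L (bs 2) ^ p = LieAlgebra.ad (DualNumber K) L (bs 2) ^ 2 := by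
    rw [hp2]
  rw [h2'] at had'
  have G0 := congrArg (fun T : Module.End (DualNumber K) L => T (bs 0)) had'
  have G1 := congrArg (fun T : Module.End (DualNumber K) L => T (bs 1)) had'
  have G2 := congrArg (fun T : Module.End (DualNumber K) L => T (bs 2)) had'
  simp only [LieAlgebra.ad_apply, pow_two, Module.End.mul_apply] at G0 G1 G2
  rw [hφz] at G0 G1 G2
  conv at G0 => rw [bs0 bs]
  conv at G1 => rw [bs1 bs]
  conv at G2 => lhs; rw [bs2 bs]
  rw [lie_self, lie_zero, ← vec_zero bs] at G2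
  rw [adz_sq K a b c d e f g h i L bs hxy hxz hyz, hl, vec_inj] at G0 G1
  rw [hl, vec_inj] at G2
  have s1 := congrArg TrivSqZeroExt.fst G1.1
  have s2 := congrArg TrivSqZeroExt.fst G2.1
  have s0 := congrArg TrivSqZeroExt.snd G0.1
  simp at s0 s1 s2
  rw [r1, r2] at r0
  rw [r1] at r3
  rw [r2] at r4
  rw [s1, s2] at s0
  simp only [mul_zero, neg_zero, add_zero] at r0 r3 r4 s0
  refine ⟨?_, ?_, ?_⟩
  · have hbb : b * b = 0 := by linear_combination b * r4 - e * r3
    exact mul_self_eq_zero.mp hbb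
  · linear_combination r0
  · exact s0.symm

omit hxy hxz hyz in
theorem pow_zero_of_pow {M : Type*} [AddCommGroup M] [Module (DualNumber K) M]
    (T : Module.End (DualNumber K) M) (n : ℕ) (hT : T ^ n = 0) (hpn : n ≤ p) : T ^ p = 0 := by
  have : p = n + (p - n) := by omega
  rw [this, pow_add, hT, zero_mul]

theorem backward_x : LieAlgebra.ad (DualNumber K) L (bs 0) ^ p = LieAlgebra.ad (DualNumber K) L 0 := by
  rw [map_zero (LieAlgebra.ad (DualNumber K) L)]
  exact pow_zero_of_pow K p _ 2 (adx_sq K a b c d e f g h i L bs hxy hxz hyz) hp.out.two_le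

theorem ady_pow_four : LieAlgebra.ad (DualNumber K) L (bs 1) ^ 4 = 0 := by
  apply bs.ext
  intro k
  obtain ⟨d₀, d₁, d₂, hk⟩ := exists_vec bs (bs k)
  rw [pow_succ, pow_succ, pow_succ, pow_one, Module.End.mul_apply, Module.End.mul_apply,
    Module.End.mul_apply, LieAlgebra.ad_apply, LieAlgebra.ad_apply, LieAlgebra.ad_apply,
    LieAlgebra.ad_apply, LinearMap.zero_apply, hk, ady_four K a b c d e f g h i L bs hxy hxz hyz]

theorem adz_pow_four : LieAlgebra.ad (DualNumber K) L (bs 2) ^ 4 = 0 := by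
  apply bs.ext
  intro k
  obtain ⟨d₀, d₁, d₂, hk⟩ := exists_vec bs (bs k)
  rw [pow_succ, pow_succ, pow_succ, pow_one, Module.End.mul_apply, Module.End.mul_apply,
    Module.End.mul_apply, LieAlgebra.ad_apply, LieAlgebra.ad_apply, LieAlgebra.ad_apply,
    LieAlgebra.ad_apply, LinearMap.zero_apply, hk, adz_four K a b c d e f g h i L bs hxy hxz hyz]

theorem ady_pow_three :
    LieAlgebra.ad (DualNumber K) L (bs 1) ^ 3 = LieAlgebra.ad (DualNumber K) L (vec bs 0 (-(c • ε)) 0) := by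
  have hl := lie_vec bs hxy hxz hyz
  apply bs.ext
  intro k
  obtain ⟨d₀, d₁, d₂, hk⟩ := exists_vec bs (bs k)
  rw [pow_succ, pow_succ, pow_one, Module.End.mul_apply, Module.End.mul_apply,
    LieAlgebra.ad_apply, LieAlgebra.ad_apply, LieAlgebra.ad_apply, LieAlgebra.ad_apply, hk,
    ady_cube K a b c d e f g h i L bs hxy hxz hyz, hl, vec_inj]
  refine ⟨?_, ?_, ?_⟩ <;> (apply TrivSqZeroExt.ext <;> simp)

theorem adz_pow_three :
    LieAlgebra.ad (DualNumber K) L (bs 2) ^ 3 = LieAlgebra.ad (DualNumber K) L (vec bs 0 0 (e • ε)) := by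
  have hl := lie_vec bs hxy hxz hyz
  apply bs.ext
  intro k
  obtain ⟨d₀, d₁, d₂, hk⟩ := exists_vec bs (bs k)
  rw [pow_succ, pow_succ, pow_one, Module.End.mul_apply, Module.End.mul_apply,
    LieAlgebra.ad_apply, LieAlgebra.ad_apply, LieAlgebra.ad_apply, LieAlgebra.ad_apply, hk,
    adz_cube K a b c d e f g h i L bs hxy hxz hyz, hl, vec_inj]
  refine ⟨?_, ?_, ?_⟩ <;> (apply TrivSqZeroExt.ext <;> simp)

theorem ady_pow_two (hb : b = 0) (hc : c = 0) :
    LieAlgebra.ad (DualNumber K) L (bs 1) ^ 2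
      = LieAlgebra.ad (DualNumber K) L (vec bs 0 ((i - a) • ε) 0) := by
  have hl := lie_vec bs hxy hxz hyz
  apply bs.ext
  intro k
  obtain ⟨d₀, d₁, d₂, hk⟩ := exists_vec bs (bs k)
  rw [pow_succ, pow_one, Module.End.mul_apply,
    LieAlgebra.ad_apply, LieAlgebra.ad_apply, LieAlgebra.ad_apply, hk,
    ady_sq K a b c d e f g h i L bs hxy hxz hyz, hl, vec_inj, hb, hc]
  refine ⟨?_, ?_, ?_⟩ <;> (apply TrivSqZeroExt.ext <;> simp)

theorem adz_pow_two (he : e = 0) (hf : f = 0) :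
    LieAlgebra.ad (DualNumber K) L (bs 2) ^ 2
      = LieAlgebra.ad (DualNumber K) L (vec bs 0 0 (-((d + h) • ε))) := by
  have hl := lie_vec bs hxy hxz hyz
  apply bs.ext
  intro k
  obtain ⟨d₀, d₁, d₂, hk⟩ := exists_vec bs (bs k)
  rw [pow_succ, pow_one, Module.End.mul_apply,
    LieAlgebra.ad_apply, LieAlgebra.ad_apply, LieAlgebra.ad_apply, hk,
    adz_sq K a b c d e f g h i L bs hxy hxz hyz, hl, vec_inj, he, hf]
  refine ⟨?_, ?_, ?_⟩ <;> (apply TrivSqZeroExt.ext <;> simp)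

theorem backward (h3 : p = 2 → b = 0 ∧ c = 0 ∧ e = 0) : Nonempty (PLie.PMap (DualNumber K) p L) := by
  have hx := backward_x K a b c d e f g h i L bs hxy hxz hyz p
  have hbf := jacobi_rel K a b c d e f g h i L bs hxy hxz hyz
  have h2le := hp.out.two_le
  by_cases hp2 : p = 2
  · obtain ⟨hb, hc, he⟩ := h3 hp2
    have hf : f = 0 := by rw [hb, zero_add] at hbf; exact hbf
    have hy : ∀ k : Fin 3, LieAlgebra.ad (DualNumber K) L (bs k) ^ p
        = LieAlgebra.ad (DualNumber K) L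
            ((![0, vec bs 0 ((i - a) • ε) 0, vec bs 0 0 (-((d + h) • ε))] : Fin 3 → L) k) := by
      intro k
      fin_cases k
      · exact hx
      · show LieAlgebra.ad (DualNumber K) L (bs 1) ^ p = _
        rw [hp2]
        exact ady_pow_two K a b c d e f g h i L bs hxy hxz hyz hb hc
      · show LieAlgebra.ad (DualNumber K) L (bs 2) ^ p = _
        rw [hp2]
        exact adz_pow_two K a b c d e f g h i L bs hxy hxz hyz he hf
    obtain ⟨φ, _⟩ := Groth.Agent.Lib.helper1.PLieLib.exists_pmap p bs _ hy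
    exact ⟨φ⟩
  · by_cases hp3 : p = 3
    · have hy : ∀ k : Fin 3, LieAlgebra.ad (DualNumber K) L (bs k) ^ p
          = LieAlgebra.ad (DualNumber K) L
              ((![0, vec bs 0 (-(c • ε)) 0, vec bs 0 0 (e • ε)] : Fin 3 → L) k) := by
        intro k
        fin_cases k
        · exact hx
        · show LieAlgebra.ad (DualNumber K) L (bs 1) ^ p = _
          rw [hp3]
          exact ady_pow_three K a b c d e f g h i L bs hxy hxz hyz
        · show LieAlgebra.ad (DualNumber K) L (bs 2) ^ p = _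
          rw [hp3]
          exact adz_pow_three K a b c d e f g h i L bs hxy hxz hyz
      obtain ⟨φ, _⟩ := Groth.Agent.Lib.helper1.PLieLib.exists_pmap p bs _ hy
      exact ⟨φ⟩
    · have hp4 : 4 ≤ p := by omega
      have hy : ∀ k : Fin 3, LieAlgebra.ad (DualNumber K) L (bs k) ^ p
          = LieAlgebra.ad (DualNumber K) L ((![0, 0, 0] : Fin 3 → L) k) := by
        intro k
        fin_cases k
        · exact hx
        · show LieAlgebra.ad (DualNumber K) L (bs 1) ^ p = LieAlgebra.ad (DualNumber K) L 0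
          rw [map_zero (LieAlgebra.ad (DualNumber K) L)]
          exact pow_zero_of_pow K p _ 4 (ady_pow_four K a b c d e f g h i L bs hxy hxz hyz) hp4
        · show LieAlgebra.ad (DualNumber K) L (bs 2) ^ p = LieAlgebra.ad (DualNumber K) L 0
          rw [map_zero (LieAlgebra.ad (DualNumber K) L)]
          exact pow_zero_of_pow K p _ 4 (adz_pow_four K a b c d e f g h i L bs hxy hxz hyz) hp4
      obtain ⟨φ, _⟩ := Groth.Agent.Lib.helper1.PLieLib.exists_pmap p bs _ hy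
      exact ⟨φ⟩

end
end Helpers

open DualNumber in
/-- Let K be a field of prime characteristic p, K[ε] the ring of dual numbers (taken with its
characteristic-p structure) and a, …, i ∈ K. Let L be a Lie algebra over K[ε], free as a module with
basis x = bs 0, y = bs 1, z = bs 2 and brackets [x,y] = aε x + bε y + cε z, [x,z] = dε x + eε y + fε
z, [y,z] = (1 + gε) x + hε y + iε z, a first-order deformation of the Heisenberg algebra (the Jacobi
identity forces b + f = 0). Then L carries a p-mapping over K[ε] if and only if b = c = e = 0 when p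
= 2; for odd p there is no condition. (The published statement is about the singularity of the point
h_3 in the restrictable locus of the rank-one-centre stratum of the moduli scheme of based
three-dimensional Lie algebras over the prime field; this row states the restrictability criterion
for the first-order deformations of h_3 asserted in its proof, over any field of characteristic p in
place of the prime field.) -/
theorem result (K : Type u) [Field K] (p : ℕ) [Fact p.Prime] [CharP K p]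
    [CharP (DualNumber K) p] (a b c d e f g h i : K)
    (L : Type v) [LieRing L] [LieAlgebra (DualNumber K) L] (bs : Module.Basis (Fin 3) (DualNumber K) L)
    (hxy : ⁅bs 0, bs 1⁆ = (a • ε : DualNumber K) • bs 0 + (b • ε : DualNumber K) • bs 1 + (c • ε : DualNumber K) • bs 2)
    (hxz : ⁅bs 0, bs 2⁆ = (d • ε : DualNumber K) • bs 0 + (e • ε : DualNumber K) • bs 1 + (f • ε : DualNumber K) • bs 2)
    (hyz : ⁅bs 1, bs 2⁆ = (1 + g • ε : DualNumber K) • bs 0 + (h • ε : DualNumber K) • bs 1 + (i • ε : DualNumber K) • bs 2) :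
    Nonempty (PLie.PMap (DualNumber K) p L) ↔ (p = 2 → b = 0 ∧ c = 0 ∧ e = 0) := by
  constructor
  · rintro ⟨φ⟩
    intro hp2
    exact forward K a b c d e f g h i L bs hxy hxz hyz p φ hp2
  · intro h3
    exact backward K a b c d e f g h i L bs hxy hxz hyz p h3

end Groth.Agent.S19868
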