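import Groth.Statements.S19895
import Mathlib
import Groth.Agent.Lib.helper27.Verlinde4

set_option autoImplicit false
open Complex
open VerlindeComb

namespace Groth.Agent.S19895

open Groth.Agent.Lib.helper27.VerlindeLib in
/-- Fix integers r ≥ 2 and k ≥ 1, and two partitions λ, λ' with k ≥ λ_1 ≥ ⋯ ≥ λ_{r-1} ≥ λ_r = 0 and k ≥
λ'_1 ≥ ⋯ ≥ λ'_{r-1} ≥ λ'_r = 0 such that λ is not equivalent to the dual partition λ'* = (k − λ'_r,
…, k − λ'_1), two integer vectors being equivalent when their difference is a constant vector (a, …,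
a). For an integer vector v with r + k > v_1 > ⋯ > v_{r-1} > v_r = 0 put z(v)_j = exp(2πi v_j / (r +
k)), let S_μ(v) = det(z(v)_j^{μ_i + r − i}) / det(z(v)_j^{r − i}) be the Schur value and P(v) =
∏_{i<j} (2 sin(π (v_i − v_j)/(r + k)))². Then the sum over all such v of exp(−2πi (|λ| + |λ'|) (v_1
+ ⋯ + v_r) / (r (r + k))) · S_λ(v) · S_{λ'}(v) · P(v) vanishes; that is, the genus-zero Verlinde
number of rank r, degree 0 and level k with two parabolic points of types λ, λ' is zero. (Only the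
vanishing case is stated; the complementary case, where the number equals 1, is not part of this
statement. The source allows r = 1, where the non-equivalence hypothesis cannot hold.) Indices are
0-based below: lam i stands for λ_{i+1}. -/
theorem result (r k : ℕ) (hr : 2 ≤ r)
    (hk : 1 ≤ k) (lam lam' : Fin r → ℕ) (hlam : Antitone lam) (hlamk : ∀ i, lam i ≤ k)
    (hlam0 : ∀ i : Fin r, (i : ℕ) = r - 1 → lam i = 0)
    (hlam' : Antitone lam') (hlam'k : ∀ i, lam' i ≤ k) (hlam'0 : ∀ i : Fin r, (i : ℕ) = r - 1 → lam' i = 0)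
    (hne : ¬ ∃ a : ℤ, ∀ i, (lam i : ℤ) - ((k - lam' (Fin.rev i) : ℕ) : ℤ) = a)
    (z : (Fin r → ℕ) → Fin r → ℂ)
    (hz : ∀ v j, z v j = Complex.exp (2 * Real.pi * Complex.I * (v j : ℂ) / ((r : ℂ) + k)))
    (S : (Fin r → ℕ) → (Fin r → ℕ) → ℂ)
    (hS : ∀ μ v, S μ v = (Matrix.of fun i j : Fin r => z v j ^ (μ i + (r - 1 - (i : ℕ)))).det /
        (Matrix.of fun i j : Fin r => z v j ^ (r - 1 - (i : ℕ))).det)
    (P : (Fin r → ℕ) → ℝ)
    (hP : ∀ v, P v = ∏ p ∈ (Finset.univ : Finset (Fin r × Fin r)).filter (fun p => p.1 < p.2),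
        ((2 : ℝ) * Real.sin (Real.pi * ((v p.1 : ℝ) - (v p.2 : ℝ)) / ((r : ℝ) + k))) ^ 2) :
    (∑ v ∈ (Finset.univ : Finset (Fin r → Fin (r + k))).filter
        (fun v : Fin r → Fin (r + k) => StrictAnti v ∧ ∀ i : Fin r, (i : ℕ) = r - 1 → (v i : ℕ) = 0),
      Complex.exp (-(2 * Real.pi * Complex.I * (((∑ i, lam i) + (∑ i, lam' i) : ℕ) : ℂ) *
          ((∑ j, (v j : ℕ) : ℕ) : ℂ) / ((r : ℂ) * ((r : ℂ) + k)))) *
        S lam (fun j => (v j : ℕ)) * S lam' (fun j => (v j : ℕ)) * (P (fun j => (v j : ℕ)) : ℂ)) = 0 := by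
  classical
  have hr1 : 1 ≤ r := by omega
  have hnz : NeZero (r + k) := ⟨by omega⟩
  set n := r + k with hn
  have hrn0 : r * n ≠ 0 := Nat.mul_ne_zero (by omega) (by omega)
  set ξ : ℂ := Complex.exp (2 * Real.pi * Complex.I / ((r * n : ℕ) : ℂ)) with hξdef
  have hξ : IsPrimitiveRoot ξ (r * n) := Complex.isPrimitiveRoot_exp (r * n) hrn0
  have hξ0 : ξ ≠ 0 := Complex.exp_ne_zero _
  have hcast : ((r : ℂ) + k) = (n : ℂ) := by rw [hn]; push_cast; ring
  have hr0 : (r : ℂ) ≠ 0 := by exact_mod_cast (show r ≠ 0 by omega)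
  have hn0 : (n : ℂ) ≠ 0 := by exact_mod_cast (show n ≠ 0 by omega)
  have hξz : ∀ t : ℤ, ξ ^ t = Complex.exp (2 * Real.pi * Complex.I * (t : ℂ) / ((r : ℂ) * n)) := by
    intro t
    rw [hξdef, ← Complex.exp_int_mul]
    congr 1
    push_cast
    field_simp
  have hξrn : ξ ^ (r * n) = 1 := hξ.pow_eq_one
  have hξrnz : ξ ^ ((r : ℤ) * (n : ℤ)) = 1 := by
    have : ((r : ℤ) * (n : ℤ)) = ((r * n : ℕ) : ℤ) := by push_cast; ring
    rw [this, zpow_natCast, hξrn]
  have hζ : zeta n = ξ ^ r := by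
    rw [zeta, ← zpow_natCast, hξz]
    congr 1
    push_cast
    field_simp
  -- exponents
  set ν : Fin r → ℕ := fun i => lam i + (r - 1 - (i : ℕ)) with hνdef
  set ν' : Fin r → ℕ := fun i => lam' i + (r - 1 - (i : ℕ)) with hν'def
  set ν'' : Fin r → ℕ := fun i => n - 1 - ν' (Fin.rev i) with hν''def
  have hνlt : ∀ i, ν i < n := by
    intro i; have := hlamk i; have := i.2; simp only [hνdef]; omega
  have hν'lt : ∀ i, ν' i < n := by
    intro i; have := hlam'k i; have := i.2; simp only [hν'def]; omega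
  have hν''lt : ∀ i, ν'' i < n := by
    intro i; simp only [hν''def]; omega
  have hν : StrictAnti ν := by
    intro i j hij
    have h1 := hlam hij.le
    have h2 : (i : ℕ) < (j : ℕ) := hij
    have := j.2
    simp only [hνdef]; omega
  have hν'anti : StrictAnti ν' := by
    intro i j hij
    have h1 := hlam' hij.le
    have h2 : (i : ℕ) < (j : ℕ) := hij
    have := j.2
    simp only [hν'def]; omega
  have hν'' : StrictAnti ν'' := by
    intro i j hij
    have h1 : Fin.rev j < Fin.rev i := Fin.rev_lt_rev.mpr hij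
    have h2 := hν'anti h1
    have h3 := hν'lt (Fin.rev j)
    have h4 := hν'lt (Fin.rev i)
    simp only [hν''def]; omega
  have hrev : ∀ i : Fin r, ((Fin.rev i : Fin r) : ℕ) = r - 1 - (i : ℕ) := by
    intro i; rw [Fin.val_rev]; have := i.2; omega
  have hne' : ¬ ∃ c : ℤ, ∀ i, (ν i : ℤ) - (ν'' i : ℤ) = c := by
    rintro ⟨c, hc⟩
    apply hne
    refine ⟨c, fun i => ?_⟩
    have h1 := hc i
    have h2 := hlam'k (Fin.rev i)
    have h3 := hrev i
    have h4 := i.2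
    simp only [hνdef, hν''def, hν'def, h3] at h1
    omega
  -- bases
  set a : Fin r → ℂ := fun i => ξ ^ (r * ν i) with hadef
  set a' : Fin r → ℂ := fun i => ξ ^ (r * ν' i) with ha'def
  set w : Fin r → ℂ := fun b => (ξ ^ (r * ν'' b))⁻¹ with hwdef
  set ω : ℂ := ξ ^ ((∑ j, (ν'' j : ℤ)) - (∑ j, (ν j : ℤ))) with hωdef
  have hG := hG_concrete n hr1 ξ hξ ν ν'' hν hν'' hνlt hν''lt hne' a w ω (fun _ => rfl)
    (fun b => inv_mul_cancel₀ (pow_ne_zero _ hξ0)) rfl
  have hpowrn : ∀ m : ℕ, (ξ ^ (r * m)) ^ n = 1 := by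
    intro m
    rw [← pow_mul]
    have : r * m * n = (r * n) * m := by ring
    rw [this, pow_mul, hξrn, one_pow]
  have hwn : ∀ b, w b ^ n = 1 := by
    intro b
    simp only [hwdef]
    rw [inv_pow, hpowrn, inv_one]
  set y : Fin r → ℂ := fun i => ω * a i with hydef
  have hyn : ∀ i, y i ^ n = ω ^ n := by
    intro i
    simp only [hydef, hadef]
    rw [mul_pow, hpowrn, mul_one]
  have hprod' : (∏ i, y i) * (∏ b, w b) = 1 := by
    simp only [hydef, hadef, hwdef]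
    rw [Finset.prod_mul_distrib, Finset.prod_const, Finset.card_univ, Fintype.card_fin,
      Finset.prod_inv_distrib, Finset.prod_pow_eq_pow_sum, Finset.prod_pow_eq_pow_sum,
      ← Finset.mul_sum, ← Finset.mul_sum, hωdef, ← zpow_natCast (ξ ^ _) r, ← zpow_mul,
      ← zpow_natCast ξ (r * ∑ i, ν i), ← zpow_natCast ξ (r * ∑ i, ν'' i), ← zpow_neg,
      ← zpow_add₀ hξ0, ← zpow_add₀ hξ0]
    have : ((∑ j, (ν'' j : ℤ)) - (∑ j, (ν j : ℤ))) * (r : ℤ) + ((r * ∑ i, ν i : ℕ) : ℤ) +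
        -((r * ∑ i, ν'' i : ℕ) : ℤ) = 0 := by
      push_cast; ring
    rw [this, zpow_zero]
  have hmain := sum_alcove_eq_zero (n := n) y w (ω ^ n) hyn hwn hprod' hG
  -- Gauss sum
  set c₀ : ℕ := ∑ i : Fin r, (r - 1 - (i : ℕ)) with hc₀
  have hc₀2 : c₀ * 2 = r * (r - 1) := by
    rw [hc₀, Fin.sum_univ_eq_sum_range (fun i => r - 1 - i) r, Finset.sum_range_reflect (fun i => i) r,
      Finset.sum_range_id_mul_two]
  set L : ℕ := (∑ i, lam i) + (∑ i, lam' i) with hL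
  have hsumν : (∑ j, (ν j : ℤ)) = (∑ i, (lam i : ℤ)) + c₀ := by
    simp only [hνdef, hc₀]
    push_cast
    rw [Finset.sum_add_distrib]
  have hsumν'' : (∑ j, (ν'' j : ℤ)) = (r : ℤ) * ((n : ℤ) - 1) - ((∑ i, (lam' i : ℤ)) + c₀) := by
    have h1 : (∑ j, (ν'' j : ℤ)) = ∑ j, (((n : ℤ) - 1) - (ν' j : ℤ)) := by
      rw [← Equiv.sum_comp (Fin.revPerm : Equiv.Perm (Fin r)) (fun j => ((n : ℤ) - 1) - (ν' j : ℤ))]
      refine Finset.sum_congr rfl fun j _ => ?_
      simp only [hν''def, Fin.revPerm_apply]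
      have := hν'lt (Fin.rev j)
      omega
    rw [h1, Finset.sum_sub_distrib, Finset.sum_const, Finset.card_univ, Fintype.card_fin]
    simp only [hν'def, hc₀]
    push_cast
    rw [Finset.sum_add_distrib]
    ring
  have hωexp : (∑ j, (ν'' j : ℤ)) - (∑ j, (ν j : ℤ)) = (r : ℤ) * (n : ℤ) - ((L : ℤ) + (r : ℤ) * r) := by
    rw [hsumν, hsumν'', hL]
    have h2 : ((c₀ : ℤ)) * 2 = (r : ℤ) * ((r : ℤ) - 1) := by
      have := hc₀2
      have h3 : ((r - 1 : ℕ) : ℤ) = (r : ℤ) - 1 := by omega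
      rw [← h3]
      exact_mod_cast this
    push_cast
    linarith
  -- index set
  have hfilter : (Finset.univ : Finset (Fin r → Fin (r + k))).filter
      (fun v : Fin r → Fin (r + k) => StrictAnti v ∧ ∀ i : Fin r, (i : ℕ) = r - 1 → (v i : ℕ) = 0) =
      (Finset.univ : Finset (Fin r → Fin n)).filter
      (fun v => StrictAnti v ∧ (0 : Fin n) ∈ Set.range v) := by
    apply Finset.filter_congr
    intro v _
    refine and_congr_right fun hv => ?_
    have hlast : r - 1 < r := by omega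
    constructor
    · intro h
      refine ⟨⟨r - 1, hlast⟩, ?_⟩
      apply Fin.ext
      rw [h ⟨r - 1, hlast⟩ rfl]
      simp
    · rintro ⟨i₀, hi₀⟩ i hi
      have h1 : v i ≤ v i₀ := hv.antitone (by rw [Fin.le_def]; have := i₀.2; omega)
      rw [hi₀] at h1
      have : (v i : ℕ) ≤ ((0 : Fin n) : ℕ) := h1
      simpa using this
  rw [hfilter]
  refine Eq.trans (Finset.sum_congr rfl fun v hv => ?_) hmain
  rw [Finset.mem_filter] at hv
  have hvanti := hv.2.1
  set vn : Fin r → ℕ := fun j => (v j : ℕ) with hvn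
  set sv : ℕ := ∑ j, (v j : ℕ) with hsv
  set zv : Fin r → ℂ := z vn with hzvdef
  have hzv : ∀ j, zv j = ξ ^ (r * vn j) := by
    intro j
    rw [← zpow_natCast, hξz, hzvdef, hz, hcast]
    congr 1
    push_cast
    field_simp
  have hzvζ : ∀ j, zv j = zeta n ^ ((v j : Fin n) : ℕ) := by
    intro j
    rw [hzv, hζ, ← pow_mul]
  have hzv0 : ∀ j, zv j ≠ 0 := fun j => by rw [hzv]; exact pow_ne_zero _ hξ0
  set zcv : Fin r → ℂ := fun j => (zv j)⁻¹ with hzcvdef
  have hzcv : ∀ j, zv j * zcv j = 1 := fun j => mul_inv_cancel₀ (hzv0 j)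
  have hinj : Function.Injective zv := by
    intro i j hij
    rw [hzvζ, hzvζ] at hij
    have := (zeta_prim n).pow_inj (v i).2 (v j).2 hij
    exact hvanti.injective (Fin.ext this)
  set Δ := N zv (fun i : Fin r => r - 1 - (i : ℕ)) with hΔ
  have hΔ0 : Δ ≠ 0 := N_delta_ne_zero zv hinj
  have hPv : ((P vn : ℝ) : ℂ) = Δ * ((∏ j, zcv j ^ (r - 1)) *
        (((Equiv.Perm.sign (Fin.revPerm : Equiv.Perm (Fin r)) : ℤ) : ℂ) * Δ)) := by
    rw [← ofReal_D_eq n v zv zcv hzvζ hzcv]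
    congr 1
    rw [hP, D_eq_prod, Finset.prod_filter, ← Finset.univ_product_univ, Finset.prod_product]
    refine Finset.prod_congr rfl fun i _ => ?_
    rw [← Finset.prod_filter, Finset.filter_lt_eq_Ioi]
    refine Finset.prod_congr rfl fun j _ => ?_
    have e1 : ((r : ℝ) + k) = ((n : ℕ) : ℝ) := by rw [hn]; push_cast; ring
    rw [e1]
    have e2 : Real.pi * ((vn i : ℝ) - (vn j : ℝ)) / ((n : ℕ) : ℝ) =
        -(Real.pi * ((((v j : Fin n) : ℕ) : ℝ) - (((v i : Fin n) : ℕ) : ℝ)) / ((n : ℕ) : ℝ)) := by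
      simp only [hvn]
      ring
    rw [e2, Real.sin_neg]
    ring
  have hS1 : S lam vn = N zv ν / Δ := by rw [hS]; rfl
  have hS2 : S lam' vn = N zv ν' / Δ := by rw [hS]; rfl
  have hzvfun : zv = fun j => (ξ ^ r) ^ vn j := by
    funext j; rw [hzv, pow_mul]
  have hT1 : N zv ν = N a vn := by
    rw [hzvfun, N_transpose_pow]
    congr 1
    funext i
    simp only [hadef, pow_mul]
  have hT2 : N zv ν' = N a' vn := by
    rw [hzvfun, N_transpose_pow]
    congr 1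
    funext i
    simp only [ha'def, pow_mul]
  set sg : ℂ := ((Equiv.Perm.sign (Fin.revPerm : Equiv.Perm (Fin r)) : ℤ) : ℂ) with hsg
  have hsgsg : sg * sg = 1 := by
    rw [hsg, ← Int.cast_mul]
    rcases Int.units_eq_one_or (Equiv.Perm.sign (Fin.revPerm : Equiv.Perm (Fin r))) with h | h <;>
      simp [h]
  have hT3 : N w vn = (ξ ^ r) ^ sv * (sg * N a' vn) := by
    have hw_eq : w = fun b => ξ ^ r * (a' ∘ (Fin.revPerm : Equiv.Perm (Fin r))) b := by
      funext b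
      simp only [hwdef, ha'def, Function.comp_apply, Fin.revPerm_apply]
      have h1 : ξ ^ (r * ν'' b) * (ξ ^ r * ξ ^ (r * ν' (Fin.rev b))) = 1 := by
        rw [← pow_add, ← pow_add]
        have h2 := hν'lt (Fin.rev b)
        have : r * ν'' b + (r + r * ν' (Fin.rev b)) = r * n := by
          simp only [hν''def]
          have : n - 1 - ν' (Fin.rev b) + 1 + ν' (Fin.rev b) = n := by omega
          calc r * (n - 1 - ν' (Fin.rev b)) + (r + r * ν' (Fin.rev b))
              = r * (n - 1 - ν' (Fin.rev b) + 1 + ν' (Fin.rev b)) := by ring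
            _ = r * n := by rw [this]
        rw [this, hξrn]
      exact inv_eq_of_mul_eq_one_right h1
    rw [hw_eq, N_smul, N_comp_perm_base]
  have hE : Complex.exp (-(2 * Real.pi * Complex.I * (L : ℂ) * (sv : ℂ) / ((r : ℂ) * ((r : ℂ) + k)))) =
      ξ ^ (-((L : ℤ) * (sv : ℤ))) := by
    rw [hξz, hcast]
    congr 1
    push_cast
    ring
  have hc' : (∏ j, zcv j ^ (r - 1)) = ξ ^ (-((r : ℤ) * ((r : ℤ) - 1) * (sv : ℤ))) := by
    have h1 : ∀ j, zcv j ^ (r - 1) = (ξ ^ (r * (r - 1))) ⁻¹ ^ vn j := by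
      intro j
      simp only [hzcvdef]
      rw [hzv, inv_pow, inv_pow, ← pow_mul, ← pow_mul]
      congr 2
      ring
    simp only [h1]
    rw [Finset.prod_pow_eq_pow_sum, inv_pow, ← pow_mul, zpow_neg, ← zpow_natCast]
    congr 2
    have h3 : ((r - 1 : ℕ) : ℤ) = (r : ℤ) - 1 := by omega
    push_cast
    rw [h3, hsv]
    push_cast
    rfl
  have hNy : N y vn = ω ^ sv * N a vn := by
    simp only [hydef]
    rw [N_smul]
  have hωsv : ω ^ sv = ξ ^ (-(((L : ℤ) + (r : ℤ) * r) * (sv : ℤ))) := by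
    rw [hωdef, hωexp, ← zpow_natCast (ξ ^ _) sv, ← zpow_mul]
    have : ((r : ℤ) * (n : ℤ) - ((L : ℤ) + (r : ℤ) * r)) * (sv : ℤ) =
        ((r : ℤ) * (n : ℤ)) * (sv : ℤ) + -(((L : ℤ) + (r : ℤ) * r) * (sv : ℤ)) := by ring
    rw [this, zpow_add₀ hξ0, zpow_mul, hξrnz, one_zpow, one_mul]
  have hkey : ξ ^ (-((L : ℤ) * (sv : ℤ))) * ξ ^ (-((r : ℤ) * ((r : ℤ) - 1) * (sv : ℤ))) =
      ω ^ sv * (ξ ^ r) ^ sv := by
    rw [hωsv, ← pow_mul, ← zpow_natCast ξ (r * sv), ← zpow_add₀ hξ0, ← zpow_add₀ hξ0]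
    congr 1
    push_cast
    ring
  show Complex.exp (-(2 * Real.pi * Complex.I * (L : ℂ) * (sv : ℂ) / ((r : ℂ) * ((r : ℂ) + k)))) *
        S lam vn * S lam' vn * ((P vn : ℝ) : ℂ) = N y vn * N w vn
  rw [hE, hS1, hS2, hPv, hT1, hT2, hc', hNy, hT3]
  have h5 : ξ ^ (-((L : ℤ) * (sv : ℤ))) * (N a vn / Δ) * (N a' vn / Δ) *
      (Δ * (ξ ^ (-((r : ℤ) * ((r : ℤ) - 1) * (sv : ℤ))) * (sg * Δ))) =
      (ξ ^ (-((L : ℤ) * (sv : ℤ))) * ξ ^ (-((r : ℤ) * ((r : ℤ) - 1) * (sv : ℤ)))) *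
        (sg * (N a vn * N a' vn)) := by
    field_simp
  rw [h5, hkey]
  calc ω ^ sv * (ξ ^ r) ^ sv * (sg * (N a vn * N a' vn))
      = ω ^ sv * N a vn * ((ξ ^ r) ^ sv * (sg * N a' vn)) := by ring
    _ = _ := rfl

end Groth.Agent.S19895
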