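import Groth.Statements.S19912
import Groth.Agent.Lib.helper1.RG1
import Groth.Agent.Lib.helper5.RegLoc

set_option autoImplicit false
universe u
open CategoryTheory CategoryTheory.Limits AlgebraicGeometry
open Models

namespace Groth.Agent.S19912

/-- Let R be a discrete valuation ring with fraction field K and YR a scheme over Spec R. Let V be a
discrete valuation ring which is an R-algebra in such a way that the maximal ideal of R generates
the maximal ideal of V (ramification index one), and let σ : Spec V -> YR be a morphism over Spec R
sending the closed point of Spec V to y. If the local ring of YR at y is regular, then the local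
ring at y of the special fibre of YR, namely O_{YR,y}/𝔪_R O_{YR,y}, is regular. (The published
statement takes YR a normal projective flat model of a smooth projective geometrically connected
curve Y over K and phrases the hypothesis through a point Q of Y rational over an extension L of K
unramified over K with y in the closure of Q: by the valuative criterion such a point yields a
morphism as above from the spectrum of the localization of the integral closure of R in L at a
maximal ideal over y, which is the form used here.) -/
theorem result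
    (R : Type u) [CommRing R] [IsDomain R] [IsDiscreteValuationRing R]
    (YR : Over (Spec (CommRingCat.of R)))
    (V : Type u) [CommRing V] [IsDomain V] [IsDiscreteValuationRing V] [Algebra R V]
    (hV : Ideal.map (algebraMap R V) (IsLocalRing.maximalIdeal R) = IsLocalRing.maximalIdeal V)
    (σ : Spec (CommRingCat.of V) ⟶ YR.left)
    (hσ : σ ≫ YR.hom = Spec.map (CommRingCat.ofHom (algebraMap R V)))
    (y : YR.left) (hy : σ.base (IsLocalRing.closedPoint V) = y)
    (hreg : IsRegularLocalRing (YR.left.presheaf.stalk y)) :
    IsRegularLocalRing (YR.left.presheaf.stalk y ⧸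
      Ideal.map (Models.stalkHom R YR y) (IsLocalRing.maximalIdeal R)) := by
  classical
  subst hy
  haveI := hreg
  let ψ : YR.left.presheaf.stalk (σ.base (IsLocalRing.closedPoint V)) →+* V :=
    (Scheme.stalkClosedPointTo σ).hom
  have hψloc : IsLocalHom ψ := Scheme.isLocalHom_stalkClosedPointTo' σ
  have hψ : ∀ r, ψ (Models.stalkHom R YR (σ.base (IsLocalRing.closedPoint V)) r) = algebraMap R V r :=
    Groth.Agent.Lib.helper1.RG.stalkClosedPointTo_stalkHom R YR V σ hσ
  obtain ⟨ϖ, hϖ⟩ := IsDiscreteValuationRing.exists_irreducible R
  have hmR : IsLocalRing.maximalIdeal R = Ideal.span {ϖ} :=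
    (IsDiscreteValuationRing.irreducible_iff_uniformizer ϖ).1 hϖ
  have hI : Ideal.map (Models.stalkHom R YR (σ.base (IsLocalRing.closedPoint V)))
      (IsLocalRing.maximalIdeal R) =
      Ideal.span {Models.stalkHom R YR (σ.base (IsLocalRing.closedPoint V)) ϖ} := by
    rw [hmR, Ideal.map_span, Set.image_singleton]
  have hmV : IsLocalRing.maximalIdeal V = Ideal.span {algebraMap R V ϖ} := by
    rw [← hV, hmR, Ideal.map_span, Set.image_singleton]
  have hmemV : algebraMap R V ϖ ∈ IsLocalRing.maximalIdeal V := by
    rw [hmV]; exact Ideal.mem_span_singleton_self _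
  have hnu : ¬ IsUnit (algebraMap R V ϖ) := (IsLocalRing.mem_maximalIdeal _).1 hmemV
  have hne : algebraMap R V ϖ ≠ 0 := by
    intro h0
    rw [h0, Ideal.span_singleton_eq_bot.2 rfl] at hmV
    exact IsDiscreteValuationRing.not_a_field V hmV
  have hmapm : Ideal.map ψ (IsLocalRing.maximalIdeal
      (YR.left.presheaf.stalk (σ.base (IsLocalRing.closedPoint V)))) ≤ IsLocalRing.maximalIdeal V := by
    rw [Ideal.map_le_iff_le_comap]
    intro a ha
    rw [Ideal.mem_comap, IsLocalRing.mem_maximalIdeal, mem_nonunits_iff]
    intro hu
    exact ((IsLocalRing.mem_maximalIdeal a).1 ha) (isUnit_of_map_unit ψ a hu)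
  have hxm : Models.stalkHom R YR (σ.base (IsLocalRing.closedPoint V)) ϖ ∈ IsLocalRing.maximalIdeal
      (YR.left.presheaf.stalk (σ.base (IsLocalRing.closedPoint V))) := by
    rw [IsLocalRing.mem_maximalIdeal, mem_nonunits_iff]
    intro hu
    apply hnu
    rw [← hψ]
    exact hu.map ψ
  have hx2 : Models.stalkHom R YR (σ.base (IsLocalRing.closedPoint V)) ϖ ∉ IsLocalRing.maximalIdeal
      (YR.left.presheaf.stalk (σ.base (IsLocalRing.closedPoint V))) ^ 2 := by
    intro hx
    have h1 : ψ (Models.stalkHom R YR (σ.base (IsLocalRing.closedPoint V)) ϖ) ∈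
        (IsLocalRing.maximalIdeal V) ^ 2 := by
      have := Ideal.mem_map_of_mem ψ hx
      rw [Ideal.map_pow] at this
      exact Ideal.pow_right_mono hmapm 2 this
    rw [hψ, hmV, Ideal.span_singleton_pow, Ideal.mem_span_singleton] at h1
    obtain ⟨c, hc⟩ := h1
    have h2 : algebraMap R V ϖ * (1 - algebraMap R V ϖ * c) = 0 := by
      linear_combination hc
    rcases mul_eq_zero.1 h2 with h | h
    · exact hne h
    · exact hnu (IsUnit.of_mul_eq_one c (by linear_combination -h))
  have hIne : Ideal.map (Models.stalkHom R YR (σ.base (IsLocalRing.closedPoint V)))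
      (IsLocalRing.maximalIdeal R) ≠ ⊤ := by
    rw [hI]
    intro htop
    have : (1 : YR.left.presheaf.stalk (σ.base (IsLocalRing.closedPoint V))) ∈
        IsLocalRing.maximalIdeal _ := by
      have h1 : (1 : YR.left.presheaf.stalk (σ.base (IsLocalRing.closedPoint V))) ∈
          Ideal.span {Models.stalkHom R YR (σ.base (IsLocalRing.closedPoint V)) ϖ} := by
        rw [htop]; trivial
      exact (Ideal.span_singleton_le_iff_mem _).2 hxm h1
    exact (IsLocalRing.mem_maximalIdeal _).1 this isUnit_one
  haveI : Nontrivial (YR.left.presheaf.stalk (σ.base (IsLocalRing.closedPoint V)) ⧸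
      Ideal.map (Models.stalkHom R YR (σ.base (IsLocalRing.closedPoint V)))
        (IsLocalRing.maximalIdeal R)) := Ideal.Quotient.nontrivial_iff.2 hIne
  haveI : IsLocalRing (YR.left.presheaf.stalk (σ.base (IsLocalRing.closedPoint V)) ⧸
      Ideal.map (Models.stalkHom R YR (σ.base (IsLocalRing.closedPoint V)))
        (IsLocalRing.maximalIdeal R)) :=
    IsLocalRing.of_surjective' (Ideal.Quotient.mk _) Ideal.Quotient.mk_surjective
  exact (Groth.Agent.H5.RegLoc.regular_of_quotient (Ideal.Quotient.mk _)
    Ideal.Quotient.mk_surjective _ (by rw [Ideal.mk_ker, hI]) hx2).1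

end Groth.Agent.S19912
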