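import Groth.Statements.S19919
import Mathlib

set_option autoImplicit false
universe u v w
open DPow

namespace Groth.Agent.S19919

/-- Let R be a commutative ring and P = R⟨X_1, …, X_N⟩ the divided power polynomial algebra over R,
presented concretely as an R-algebra P with elements x i n = X_i^[n] (i < N, n ≥ 0) such that
X_i^[0] = 1, X_i^[n] · X_i^[m] = C(n+m, n) X_i^[n+m], and the monomials ∏_i X_i^[e_i] form an
R-basis of P; let P_+ be the ideal generated by the X_i^[n] with n ≥ 1 and γ the divided power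
structure on P_+ with γ_n(X_i^[1]) = X_i^[n]. Then (P, P_+, γ) is the free divided power R-algebra
on N variables: for every commutative R-algebra S, every ideal J of S with a divided power structure
δ and every family s_1, …, s_N of elements of J there is exactly one R-algebra homomorphism φ : P →
S that is a divided power morphism from (P_+, γ) to (J, δ) and satisfies φ(X_i^[1]) = s_i for all i. -/
theorem result (R : Type u) [CommRing R] (N : ℕ)
    (P : Type v) [CommRing P] [Algebra R P] (x : Fin N → ℕ → P)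
    (hx0 : ∀ i, x i 0 = 1)
    (hxmul : ∀ i n m, x i n * x i m = ((n + m).choose n : P) * x i (n + m))
    (b : Module.Basis (Fin N →₀ ℕ) R P) (hb : ∀ e : Fin N →₀ ℕ, b e = e.prod (fun i k => x i k))
    (γ : DividedPowers (Ideal.span {y : P | ∃ (i : Fin N) (n : ℕ), 1 ≤ n ∧ y = x i n}))
    (hγ : ∀ (i : Fin N) (n : ℕ), γ.dpow n (x i 1) = x i n)
    (S : Type w) [CommRing S] [Algebra R S] (J : Ideal S) (δ : DividedPowers J)
    (s : Fin N → S) (hs : ∀ i, s i ∈ J) :
    ∃! φ : P →ₐ[R] S, γ.IsDPMorphism δ φ.toRingHom ∧ ∀ i, φ (x i 1) = s i := by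
  classical
  have hbe : ∀ e : Fin N →₀ ℕ, b e = ∏ i, x i (e i) := by
    intro e
    rw [hb e, Finsupp.prod_fintype _ _ (fun i => hx0 i)]
  have hsingle : ∀ (i : Fin N) (n : ℕ), b (Finsupp.single i n) = x i n := by
    intro i n
    rw [hbe, Finset.prod_eq_single i]
    · simp
    · intro j _ hj
      rw [Finsupp.single_apply, if_neg (Ne.symm hj), hx0]
    · intro h; exact absurd (Finset.mem_univ i) h
  let L : P →ₗ[R] S := b.constr R (fun e => ∏ i, δ.dpow (e i) (s i))
  have hL : ∀ e, L (b e) = ∏ i, δ.dpow (e i) (s i) := fun e => b.constr_basis R _ e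
  have hLnat : ∀ (c : ℕ) (p : P), L ((c : P) * p) = (c : S) * L p := by
    intro c p
    rw [← nsmul_eq_mul, map_nsmul, nsmul_eq_mul]
  have hmulb : ∀ e e' : Fin N →₀ ℕ, b e * b e' =
      ((∏ i, (e i + e' i).choose (e i) : ℕ) : P) * b (e + e') := by
    intro e e'
    rw [hbe, hbe, hbe, ← Finset.prod_mul_distrib]
    push_cast
    rw [← Finset.prod_mul_distrib]
    refine Finset.prod_congr rfl fun i _ => ?_
    rw [hxmul, Pi.add_apply]
  have hL1 : L 1 = 1 := by
    have : (1 : P) = b 0 := by
      rw [hbe]; simp [hx0]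
    rw [this, hL]
    refine Finset.prod_eq_one fun i _ => ?_
    rw [Finsupp.zero_apply, δ.dpow_zero (hs i)]
  have hLmul : ∀ p q : P, L (p * q) = L p * L q := by
    have : (LinearMap.mul R P).compr₂ L = ((LinearMap.mul R S).comp L).compl₂ L := by
      refine b.ext fun e => b.ext fun e' => ?_
      simp only [LinearMap.compr₂_apply, LinearMap.mul_apply', LinearMap.compl₂_apply,
        LinearMap.comp_apply]
      rw [hmulb, hLnat, hL, hL, hL, ← Finset.prod_mul_distrib]
      push_cast
      rw [← Finset.prod_mul_distrib]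
      refine Finset.prod_congr rfl fun i _ => ?_
      rw [δ.mul_dpow (hs i), Pi.add_apply]
    intro p q
    have := LinearMap.congr_fun (LinearMap.congr_fun this p) q
    simpa using this
  let φ : P →ₐ[R] S := AlgHom.ofLinearMap L hL1 hLmul
  have hφx : ∀ i n, φ (x i n) = δ.dpow n (s i) := by
    intro i n
    change L (x i n) = _
    rw [← hsingle, hL, Finset.prod_eq_single i]
    · simp
    · intro j _ hj
      rw [Finsupp.single_apply, if_neg (Ne.symm hj), δ.dpow_zero (hs j)]
    · intro h; exact absurd (Finset.mem_univ i) h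
  have hx1 : ∀ i, x i 1 ∈ Ideal.span {y : P | ∃ (i : Fin N) (n : ℕ), 1 ≤ n ∧ y = x i n} :=
    fun i => Ideal.subset_span ⟨i, 1, le_refl 1, rfl⟩
  have hγcomp : ∀ (i : Fin N) (m n : ℕ), n ≠ 0 →
      γ.dpow m (x i n) = (Nat.uniformBell m n : P) * x i (m * n) := by
    intro i m n hn
    rw [← hγ i n, γ.dpow_comp hn (hx1 i), hγ]
  refine ⟨φ, ⟨?_, fun i => ?_⟩, ?_⟩
  · refine DividedPowers.IsDPMorphism.on_span γ δ rfl ?_ ?_
    · rintro _ ⟨i, n, hn, rfl⟩
      change φ (x i n) ∈ J
      rw [hφx]
      exact δ.dpow_mem (by omega) (hs i)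
    · rintro m _ ⟨i, n, hn, rfl⟩
      change φ (γ.dpow m (x i n)) = δ.dpow m (φ (x i n))
      rw [hγcomp i m n (by omega), hφx, map_mul, map_natCast, hφx, δ.dpow_comp (by omega) (hs i)]
  · rw [hφx, δ.dpow_one (hs i)]
  · rintro ψ ⟨hψ, hψs⟩
    have hψx : ∀ i n, ψ (x i n) = δ.dpow n (s i) := by
      intro i n
      rw [← hγ i n]
      have := hψ.2 (n := n) (x i 1) (hx1 i)
      change δ.dpow n (ψ (x i 1)) = ψ (γ.dpow n (x i 1)) at this
      rw [← this, hψs]
    apply AlgHom.toLinearMap_injective
    refine b.ext fun e => ?_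
    change ψ (b e) = L (b e)
    rw [hL, hbe, map_prod]
    exact Finset.prod_congr rfl fun i _ => hψx i (e i)

end Groth.Agent.S19919
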