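import Groth.Statements.S1992
import Mathlib

set_option autoImplicit false
universe u
open Polynomial
open EtAlg

namespace Groth.Agent.S1992

open IsLocalRing

theorem splits_of_monic (A : Type u) [CommRing A]
    (hA : ∀ f : A[X], f.Monic → ∃ s : Multiset A, f = (s.map fun a => X - C a).prod)
    (p : Ideal A) [p.IsPrime] (f : (Localization.AtPrime p)[X]) (hf : f.Monic) : f.Splits := by
  set c := IsLocalization.commonDenom p.primeCompl f.support f.coeff with hc
  set s' : Localization.AtPrime p := algebraMap A (Localization.AtPrime p) c with hs'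
  have hu : IsUnit s' := IsLocalization.map_units (Localization.AtPrime p) c
  have hF : f.scaleRoots s' ∈ Polynomial.lifts (algebraMap A (Localization.AtPrime p)) :=
    IsLocalization.scaleRoots_commonDenom_mem_lifts p.primeCompl f
      (by rw [hf.leadingCoeff]; exact one_mem _)
  obtain ⟨g, hg, -, hgm⟩ := Polynomial.lifts_and_natDegree_eq_and_monic hF
    ((Polynomial.monic_scaleRoots_iff s').mpr hf)
  obtain ⟨t, ht⟩ := hA g hgm
  have hgs : g.Splits := by
    rw [ht]
    refine Splits.multisetProd fun q hq => ?_
    obtain ⟨a, -, rfl⟩ := Multiset.mem_map.mp hq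
    exact Splits.X_sub_C a
  have hFs : (f.scaleRoots s').Splits := hg ▸ hgs.map _
  obtain ⟨u, hu'⟩ := hu
  have h1 : f = (f.scaleRoots s').scaleRoots ((u⁻¹ : (Localization.AtPrime p)ˣ) : _) := by
    rw [← scaleRoots_mul, ← hu', Units.mul_inv, scaleRoots_one]
  rw [h1]
  exact hFs.scaleRoots _

/-- Let A be an absolutely integrally closed ring, i.e. every monic polynomial over A is a product of
linear factors X - a. Then for every prime p of A the localization A_p is a strictly henselian local
ring (henselian with separably closed residue field). -/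
theorem result (A : Type u) [CommRing A]
    (hA : ∀ f : A[X], f.Monic → ∃ s : Multiset A, f = (s.map fun a => X - C a).prod)
    (p : Ideal A) [p.IsPrime] :
    EtCoh.IsStrictlyHenselianLocalRing (Localization.AtPrime p) := by
  have hsplit := splits_of_monic A hA p
  refine ⟨{ is_henselian := ?_ }, ?_⟩
  · intro f hf a₀ h₁ _
    obtain ⟨m, hm⟩ := splits_iff_exists_multiset.mp (hsplit f hf)
    rw [hf.leadingCoeff, C_1, one_mul] at hm
    have hev : f.eval a₀ = (m.map (fun r => a₀ - r)).prod := by
      rw [hm, eval_multiset_prod, Multiset.map_map]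
      congr 1
      apply Multiset.map_congr rfl
      intro r _
      simp
    rw [hev] at h₁
    obtain ⟨x, hx, hxm⟩ :=
      ((maximalIdeal.isMaximal _).isPrime.multiset_prod_mem_iff_exists_mem _).mp h₁
    obtain ⟨r, hr, rfl⟩ := Multiset.mem_map.mp hx
    refine ⟨r, ?_, ?_⟩
    · rw [IsRoot.def, hm, eval_multiset_prod]
      apply Multiset.prod_eq_zero
      rw [Multiset.mem_map]
      exact ⟨X - C r, Multiset.mem_map.mpr ⟨r, hr, rfl⟩, by simp⟩
    · have : r - a₀ = -(a₀ - r) := by ring
      rw [this]
      exact neg_mem hxm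
  · refine IsSepClosed.of_exists_root _ fun q hqm hqi _ => ?_
    have hlift : q ∈ Polynomial.lifts (residue (Localization.AtPrime p)) := by
      obtain ⟨P, hP⟩ := Polynomial.map_surjective (residue (Localization.AtPrime p))
        residue_surjective q
      exact (Polynomial.mem_lifts q).mpr ⟨P, hP⟩
    obtain ⟨P, hP, hPd, hPm⟩ := Polynomial.lifts_and_natDegree_eq_and_monic hlift hqm
    have hdeg : P.degree ≠ 0 := by
      rw [degree_eq_natDegree hPm.ne_zero, hPd, ← degree_eq_natDegree hqm.ne_zero]
      exact (degree_pos_of_irreducible hqi).ne'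
    obtain ⟨x, hx⟩ := (hsplit P hPm).exists_eval_eq_zero hdeg
    refine ⟨residue _ x, ?_⟩
    rw [← hP, eval_map, eval₂_at_apply, hx, map_zero]

end Groth.Agent.S1992
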