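import Groth.Statements.S1995
import Groth.Agent.Lib.helper3.PairHzn8
import Groth.Agent.Lib.helper3.PairIdem
-- import your own Groth.Agent.* helpers here

set_option autoImplicit false
universe u
open EtAlg

namespace Groth.Agent.S1995

open Groth.Agent.Lib.helper3.PairHzn Groth.Agent.Lib.helper3.PairIdem

/-- the factor `B/(1-e)` of a henselization `B` of `(A, 𝔍)` at an idempotent `e ≡ ε` with
`ε ≡ 1 mod I₀`, `I₀ ε ⊆ 𝔍`, `𝔍 ⊆ I₀` is a henselization of `(A, I₀)` -/
theorem isPairHenselization_factor (A : Type u) [CommRing A] (𝔍 I₀ : Ideal A) (h𝔍 : 𝔍 ≤ I₀)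
    (ε : A) (hε1 : ε - 1 ∈ I₀) (hε2 : ∀ a ∈ I₀, a * ε ∈ 𝔍)
    (B : Type u) [CommRing B] [Algebra A B] (hB : Hens2.IsPairHenselization A 𝔍 B)
    (e : B) (he : IsIdempotentElem e) (heε : e - algebraMap A B ε ∈ 𝔍.map (algebraMap A B)) :
    Hens2.IsPairHenselization A I₀ (B ⧸ Ideal.span {1 - e}) := by
  set 𝔟 : Ideal B := Ideal.span {1 - e} with h𝔟
  have hmk : (algebraMap A (B ⧸ 𝔟)) = (Ideal.Quotient.mk 𝔟).comp (algebraMap A B) := rfl
  have hmke : Ideal.Quotient.mk 𝔟 e = 1 := by
    have : Ideal.Quotient.mk 𝔟 (1 - e) = 0 :=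
      Ideal.Quotient.eq_zero_iff_mem.mpr (Ideal.subset_span rfl)
    rw [map_sub, map_one, sub_eq_zero] at this
    exact this.symm
  have hideal : I₀.map (algebraMap A (B ⧸ 𝔟)) = (𝔍.map (algebraMap A B)).map (Ideal.Quotient.mk 𝔟) := by
    rw [Ideal.map_map, ← hmk]
    apply le_antisymm
    · rw [Ideal.map_le_iff_le_comap]
      intro a ha
      rw [Ideal.mem_comap]
      have h1 : algebraMap A (B ⧸ 𝔟) (a * ε) ∈ 𝔍.map (algebraMap A (B ⧸ 𝔟)) :=
        Ideal.mem_map_of_mem _ (hε2 a ha)
      have h2 : algebraMap A (B ⧸ 𝔟) ε - 1 ∈ 𝔍.map (algebraMap A (B ⧸ 𝔟)) := by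
        have h3 : Ideal.Quotient.mk 𝔟 (algebraMap A B ε - e) ∈
            (𝔍.map (algebraMap A B)).map (Ideal.Quotient.mk 𝔟) := by
          apply Ideal.mem_map_of_mem
          have := Ideal.neg_mem_iff (𝔍.map (algebraMap A B)) |>.mpr heε
          simpa using this
        rw [Ideal.map_map, ← hmk, map_sub, hmke] at h3
        exact h3
      have h4 : algebraMap A (B ⧸ 𝔟) a = algebraMap A (B ⧸ 𝔟) (a * ε) -
          algebraMap A (B ⧸ 𝔟) a * (algebraMap A (B ⧸ 𝔟) ε - 1) := by
        rw [map_mul]; ring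
      rw [h4]
      exact Ideal.sub_mem _ h1 (Ideal.mul_mem_left _ _ h2)
    · exact Ideal.map_mono h𝔍
  refine ⟨?_, ?_⟩
  · haveI := hB.1
    have := henselian_quot B (𝔍.map (algebraMap A B)) 𝔟
    rwa [← hideal] at this
  · intro C _ L f hC hfL
    have hLjac : L ≤ Ideal.jacobson ⊥ := hC.jac
    have hfL' : 𝔍.map f ≤ L := (Ideal.map_mono h𝔍).trans hfL
    obtain ⟨g, hg, hgu⟩ := hB.2 C L f hC hfL'
    -- `g e = 1`
    have hge : g e = 1 := by
      apply idem_eq_of_sub_mem_jacobson (he.map g) IsIdempotentElem.one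
      apply hLjac
      have h1 : g (e - algebraMap A B ε) ∈ L := by
        apply hfL'
        have := Ideal.mem_map_of_mem g heε
        rwa [Ideal.map_map, hg] at this
      have h2 : f (ε - 1) ∈ L := hfL (Ideal.mem_map_of_mem _ hε1)
      have h3 : g e - 1 = g (e - algebraMap A B ε) + f (ε - 1) := by
        rw [map_sub, map_sub, map_one, ← hg]
        simp
      rw [h3]
      exact Ideal.add_mem _ h1 h2
    have hgker : ∀ x ∈ 𝔟, g x = 0 := by
      intro x hx
      rw [h𝔟, Ideal.mem_span_singleton] at hx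
      obtain ⟨y, rfl⟩ := hx
      rw [map_mul, map_sub, map_one, hge, sub_self, zero_mul]
    refine ⟨Ideal.Quotient.lift 𝔟 g hgker, ?_, ?_⟩
    · ext a
      change Ideal.Quotient.lift 𝔟 g hgker (Ideal.Quotient.mk 𝔟 (algebraMap A B a)) = f a
      rw [Ideal.Quotient.lift_mk]
      exact RingHom.congr_fun hg a
    · intro g' hg'
      have h1 : g'.comp (Ideal.Quotient.mk 𝔟) = g := by
        apply hgu
        rw [RingHom.comp_assoc, ← hmk]
        exact hg'
      apply Ideal.Quotient.ringHom_ext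
      rw [h1]
      ext x
      simp

/-- Let I_1, …, I_n be pairwise comaximal ideals of a ring A, B a henselization of the pair (A, I_1 ∩ …
∩ I_n) and B_i a henselization of (A, I_i) for each i. Then B is isomorphic as an A-algebra to the
product of the B_i (any such isomorphism is the natural comparison map, by the universal property). -/
theorem result (A : Type u) [CommRing A] {n : ℕ} (I : Fin n → Ideal A)
    (hI : Pairwise fun i j => I i ⊔ I j = ⊤) (B : Type u) [CommRing B] [Algebra A B]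
    (hB : Hens2.IsPairHenselization A (⨅ i, I i) B) (Bi : Fin n → Type u) [∀ i, CommRing (Bi i)] [∀ i, Algebra A (Bi i)]
    (hBi : ∀ i, Hens2.IsPairHenselization A (I i) (Bi i)) :
    Nonempty (B ≃ₐ[A] ∀ i, Bi i) := by
  classical
  set 𝔍 : Ideal A := ⨅ i, I i with h𝔍
  have hcop : Pairwise (Function.onFun IsCoprime I) := by
    intro i j hij
    exact (Ideal.isCoprime_iff_sup_eq).mpr (hI hij)
  -- the elements `ε i`
  have hε : ∀ i : Fin n, ∃ ε : A, ∀ j, ε - (if j = i then (1 : A) else 0) ∈ I j :=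
    fun i => Ideal.exists_forall_sub_mem_ideal hcop (fun j => if j = i then (1 : A) else 0)
  choose ε hε using hε
  have hε1 : ∀ i, ε i - 1 ∈ I i := fun i => by simpa using hε i i
  have hε0 : ∀ i j, j ≠ i → ε i ∈ I j := fun i j hji => by simpa [hji] using hε i j
  have hmem𝔍 : ∀ x : A, (∀ j, x ∈ I j) → x ∈ 𝔍 := fun x hx => by
    rw [h𝔍, Ideal.mem_iInf]; exact hx
  have h𝔍le : ∀ i, 𝔍 ≤ I i := fun i => iInf_le _ i
  haveI hBh : HenselianRing B (𝔍.map (algebraMap A B)) := hB.1
  have hKjac : 𝔍.map (algebraMap A B) ≤ Ideal.jacobson ⊥ := hBh.jac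
  -- idempotents of `B`
  haveI : Algebra.IsIntegral B B := Algebra.IsIntegral.of_finite B B
  have hlift : ∀ i, ∃ e : B, IsIdempotentElem e ∧
      e - algebraMap A B (ε i) ∈ 𝔍.map (algebraMap A B) := by
    intro i
    have hbij := bijOn_of_henselian B (𝔍.map (algebraMap A B)) B
    rw [Algebra.algebraMap_self, Ideal.map_id] at hbij
    have hidem : IsIdempotentElem (Ideal.Quotient.mk (𝔍.map (algebraMap A B)) (algebraMap A B (ε i))) := by
      change _ * _ = _
      rw [← map_mul, ← map_mul, ← sub_eq_zero, ← map_sub, ← map_sub,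
        Ideal.Quotient.eq_zero_iff_mem]
      apply Ideal.mem_map_of_mem
      apply hmem𝔍
      intro j
      by_cases hji : j = i
      · subst hji
        have : ε j * ε j - ε j = ε j * (ε j - 1) := by ring
        rw [this]; exact Ideal.mul_mem_left _ _ (hε1 j)
      · have : ε i * ε i - ε i = (ε i - 1) * ε i := by ring
        rw [this]; exact Ideal.mul_mem_left _ _ (hε0 i j hji)
    obtain ⟨e, he, hee⟩ := hbij.surjOn hidem
    exact ⟨e, he, Ideal.Quotient.eq.mp hee⟩
  choose e he heε using hlift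
  -- orthogonality and completeness
  have horth : ∀ i j, i ≠ j → e i * e j = 0 := by
    intro i j hij
    apply idem_eq_of_sub_mem_jacobson ((he i).mul (he j)) IsIdempotentElem.zero
    apply hKjac
    have h1 : algebraMap A B (ε i * ε j) ∈ 𝔍.map (algebraMap A B) := by
      apply Ideal.mem_map_of_mem
      apply hmem𝔍
      intro k
      by_cases hki : k = i
      · subst hki
        exact Ideal.mul_mem_left _ _ (hε0 j k hij)
      · exact Ideal.mul_mem_right _ _ (hε0 i k hki)
    have h2 : e i * e j - 0 = (e i - algebraMap A B (ε i)) * e j +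
        algebraMap A B (ε i) * (e j - algebraMap A B (ε j)) + algebraMap A B (ε i * ε j) := by
      rw [map_mul]; ring
    rw [h2]
    exact Ideal.add_mem _ (Ideal.add_mem _ (Ideal.mul_mem_right _ _ (heε i))
      (Ideal.mul_mem_left _ _ (heε j))) h1
  have hsumidem : IsIdempotentElem (∑ i, e i) := by
    change (∑ i, e i) * (∑ i, e i) = ∑ i, e i
    rw [Finset.sum_mul_sum]
    refine Finset.sum_congr rfl fun i _ => ?_
    rw [Finset.sum_eq_single i]
    · exact he i
    · intro j _ hji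
      exact horth i j (Ne.symm hji)
    · intro h; exact absurd (Finset.mem_univ i) h
  have hsum : ∑ i, e i = 1 := by
    apply idem_eq_of_sub_mem_jacobson hsumidem IsIdempotentElem.one
    apply hKjac
    have h1 : algebraMap A B (∑ i, ε i - 1) ∈ 𝔍.map (algebraMap A B) := by
      apply Ideal.mem_map_of_mem
      apply hmem𝔍
      intro k
      have : ∑ i, ε i - 1 = ∑ i, (ε i - (if k = i then (1 : A) else 0)) := by
        rw [Finset.sum_sub_distrib]
        simp
      rw [this]
      exact Ideal.sum_mem _ fun i _ => hε i k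
    have h2 : ∑ i, e i - 1 = ∑ i, (e i - algebraMap A B (ε i)) + algebraMap A B (∑ i, ε i - 1) := by
      rw [Finset.sum_sub_distrib, map_sub, map_sum, map_one]; ring
    rw [h2]
    exact Ideal.add_mem _ (Ideal.sum_mem _ fun i _ => heε i) h1
  -- the factors
  let 𝔟 : Fin n → Ideal B := fun i => Ideal.span {1 - e i}
  have hfac : ∀ i, Hens2.IsPairHenselization A (I i) (B ⧸ 𝔟 i) := by
    intro i
    refine isPairHenselization_factor A 𝔍 (I i) (h𝔍le i) (ε i) (hε1 i) ?_ B hB (e i) (he i) (heε i)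
    intro a ha
    apply hmem𝔍
    intro k
    by_cases hki : k = i
    · subst hki; exact Ideal.mul_mem_right _ _ ha
    · exact Ideal.mul_mem_left _ _ (hε0 i k hki)
  -- CRT
  have hcop𝔟 : Pairwise (Function.onFun IsCoprime 𝔟) := by
    intro i j hij
    rw [Function.onFun, Ideal.isCoprime_iff_exists]
    refine ⟨1 - e i, Ideal.subset_span rfl, (1 - e j) * e i, ?_, ?_⟩
    · exact Ideal.mul_mem_right _ _ (Ideal.subset_span rfl)
    · have := horth j i (Ne.symm hij)
      linear_combination -this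
  have hinf : ⨅ i, 𝔟 i = ⊥ := by
    rw [eq_bot_iff]
    intro x hx
    rw [Ideal.mem_iInf] at hx
    rw [Ideal.mem_bot]
    have hxe : ∀ i, x * e i = 0 := by
      intro i
      obtain ⟨y, rfl⟩ := Ideal.mem_span_singleton.mp (hx i)
      have := he i
      have h1 : e i * e i = e i := this
      linear_combination (-y) * h1
    calc x = x * ∑ i, e i := by rw [hsum, mul_one]
      _ = ∑ i, x * e i := Finset.mul_sum _ _ _
      _ = 0 := Finset.sum_eq_zero fun i _ => hxe i
  let κ₁ : B ≃+* (B ⧸ ⨅ i, 𝔟 i) :=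
    ((Ideal.quotEquivOfEq hinf).trans (RingEquiv.quotientBot B)).symm
  let κ₂ : (B ⧸ ⨅ i, 𝔟 i) ≃+* ∀ i, B ⧸ 𝔟 i := Ideal.quotientInfRingEquivPiQuotient 𝔟 hcop𝔟
  have hκ₁ : ∀ b : B, κ₁ b = Ideal.Quotient.mk _ b := by
    intro b
    apply ((Ideal.quotEquivOfEq hinf).trans (RingEquiv.quotientBot B)).injective
    change _ = (RingEquiv.quotientBot B) ((Ideal.quotEquivOfEq hinf) (Ideal.Quotient.mk _ b))
    rw [Ideal.quotEquivOfEq_mk]
    exact RingEquiv.apply_symm_apply _ b
  let κ : B ≃ₐ[A] ∀ i, B ⧸ 𝔟 i :=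
    { κ₁.trans κ₂ with
      commutes' := fun a => by
        change κ₂ (κ₁ (algebraMap A B a)) = _
        rw [hκ₁]
        rfl }
  have hequiv : ∀ i, Nonempty ((B ⧸ 𝔟 i) ≃ₐ[A] Bi i) := fun i =>
    Groth.Agent.Lib.lead.PairHz.algEquiv_of_isPairHenselization (hfac i) (hBi i)
  exact ⟨κ.trans (AlgEquiv.piCongrRight fun i => (hequiv i).some)⟩

end Groth.Agent.S1995
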