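import Groth.Statements.S19965
import Mathlib
import Groth.Agent.S12837

set_option autoImplicit false
universe u
open CategoryTheory MonoidalCategory CartesianMonoidalCategory MonObj AlgebraicGeometry
open ChGrp

namespace Groth.Agent.S19965
open CategoryTheory CategoryTheory.Limits MonoidalCategory CartesianMonoidalCategory MonObj GrpObj AlgebraicGeometry

/-- In the case of group schemes with the quotient given as a scheme, let S be a scheme, G a group
scheme over S, i : H → G a homomorphism from a group scheme H, and let the S-scheme Q with its
G-action and base point q₀ be the quotient G/H for the fppf topology: i is a homomorphism, the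
square exhibiting G ×_S H as G ×_Q G through (g, h) ↦ (g, g·i(h)) and the orbit map of q₀ is
cartesian, and the orbit map G → Q acquires sections on the members of an fppf covering family of Q.
Let P be a property of morphisms of schemes which is stable under base change and local on the
target for the fppf topology. If H → S has P, then the orbit map G → Q has P. (In the source G and H
are group algebraic spaces, H is flat and locally of finite presentation over S so that G/H exists
as an algebraic space, and P is a property of morphisms of algebraic spaces; here all three are
schemes, the quotient is part of the data, and flatness of H plays no part.) -/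
theorem result (S : Scheme.{u})
    (G H : Over S) [GrpObj G] [GrpObj H] (i : H ⟶ G)
    (Q : Over S) (aQ : AlgGrp.Action G Q) (q₀ : 𝟙_ (Over S) ⟶ Q)
    (hQ : ChGrp.IsHomog Scheme.fppfPrecoverage i aQ q₀)
    (P : MorphismProperty Scheme.{u}) [P.IsStableUnderBaseChange]
    [P.IsLocalAtTarget Scheme.fppfPrecoverage]
    (hP : P H.hom) : P (aQ.orbitMap q₀).left := by
  obtain ⟨hmon, hsq, R, hR, hsec⟩ := hQ
  have hsqL : IsPullback (fst G H).left ((G ◁ i) ≫ μ[G]).left (aQ.orbitMap q₀).left
      (aQ.orbitMap q₀).left := hsq.map (Over.forget S)
  have h1 : P (fst G H).left := P.pullback_fst G.hom H.hom hP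
  have h2 : P (pullback.snd (aQ.orbitMap q₀).left (aQ.orbitMap q₀).left) := by
    rw [← hsqL.flip.isoPullback_inv_snd]
    exact (P.cancel_left_of_respectsIso _ _).2 h1
  refine MorphismProperty.IsLocalAtTarget.of_forall_pullbackSnd (K := Scheme.fppfPrecoverage) hR ?_
  intro U g _ hg
  obtain ⟨s, hs⟩ := hsec g hg
  refine Groth.Agent.S12837.H5S12837.of_factor (aQ.orbitMap q₀).left (aQ.orbitMap q₀).left h2 s
    (p₁ := pullback.fst (aQ.orbitMap q₀).left g) ?_
  have hs' : s ≫ (aQ.orbitMap q₀).left = g := hs
  rw [hs']
  exact IsPullback.of_hasPullback _ _

end Groth.Agent.S19965
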