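import Groth.Statements.S19974
import Mathlib.RingTheory.Derivation.Basic
import Mathlib.Algebra.Algebra.Basic
import Mathlib.LinearAlgebra.Finsupp.LSum
import Mathlib.Tactic

set_option autoImplicit false
universe u v w x
open scoped BigOperators
open DefMod

namespace Groth.Agent.S19974

def wseq {R : Type*} [Ring R] (v a : R) : ℕ → R
  | 0 => 0
  | (j+1) => v * a ^ j + a * wseq v a j

section
variable (K : Type u) [Field K]
    (O : Type v) [CommRing O] [Algebra K O] (δ : Derivation K O O)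
    (D : Type w) [Ring D] [Algebra K D] (ι : O →ₐ[K] D) (d : D)
    (hd : ∀ f : O, d * ι f = ι f * d + ι (δ f))
    (hbasis : Function.Bijective (fun c : ℕ →₀ O => c.sum (fun i f => ι f * d ^ i)))
    (E : Type x) [AddCommGroup E] [Module K E] (ρ : D →ₐ[K] Module.End K E)

/-- the coordinate map -/
noncomputable def Lmap : (ℕ →₀ O) →ₗ[K] D :=
  Finsupp.lsum K (fun i => (LinearMap.mulRight K (d ^ i)) ∘ₗ ι.toLinearMap)

theorem Lmap_apply (c : ℕ →₀ O) : Lmap K O D ι d c = c.sum (fun i f => ι f * d ^ i) := by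
  simp only [Lmap, Finsupp.lsum_apply]
  rfl

theorem Lmap_single (i : ℕ) (f : O) : Lmap K O D ι d (Finsupp.single i f) = ι f * d ^ i := by
  simp [Lmap]

include hbasis in
theorem Lmap_bijective : Function.Bijective (Lmap K O D ι d) := by
  have : ⇑(Lmap K O D ι d) = (fun c : ℕ →₀ O => c.sum (fun i f => ι f * d ^ i)) := by
    funext c; exact Lmap_apply K O D ι d c
  rw [this]; exact hbasis

include hbasis in
theorem D_induction (Q : D → Prop) (h0 : Q 0) (hadd : ∀ a b, Q a → Q b → Q (a + b))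
    (hmon : ∀ (f : O) (i : ℕ), Q (ι f * d ^ i)) (P : D) : Q P := by
  obtain ⟨c, rfl⟩ := (Lmap_bijective K O D ι d hbasis).2 P
  induction c using Finsupp.induction_linear with
  | zero => simpa using h0
  | add a b ha hb => rw [map_add]; exact hadd _ _ ha hb
  | single i f => rw [Lmap_single]; exact hmon f i

/-- the candidate derivation on coordinates -/
noncomputable def sig0 (r : O →ₗ[K] Module.End K E) (v : Module.End K E) :
    (ℕ →₀ O) →ₗ[K] Module.End K E :=
  Finsupp.lsum K (fun i => (LinearMap.mulRight K (ρ d ^ i)) ∘ₗ r +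
    (LinearMap.mulRight K (wseq v (ρ d) i)) ∘ₗ (ρ.toLinearMap ∘ₗ ι.toLinearMap))

theorem sig0_single (r : O →ₗ[K] Module.End K E) (v : Module.End K E) (i : ℕ) (f : O) :
    sig0 K O D ι d E ρ r v (Finsupp.single i f) = r f * ρ d ^ i + ρ (ι f) * wseq v (ρ d) i := by
  simp [sig0]

include hd hbasis in
theorem exists_der (r : O →ₗ[K] Module.End K E) (v : Module.End K E)
    (hr : ∀ f g : O, r (f * g) = r f * ρ (ι g) + ρ (ι f) * r g)
    (hrv : ∀ f : O, (r f * ρ d - ρ d * r f) + (ρ (ι f) * v - v * ρ (ι f)) + r (δ f) = 0) :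
    ∃ s : D →ₗ[K] Module.End K E,
      (∀ P Q : D, s (P * Q) = s P * ρ Q + ρ P * s Q) ∧ s ∘ₗ ι.toLinearMap = r ∧ s d = v := by
  set e := LinearEquiv.ofBijective (Lmap K O D ι d) (Lmap_bijective K O D ι d hbasis) with he
  set s : D →ₗ[K] Module.End K E := sig0 K O D ι d E ρ r v ∘ₗ e.symm.toLinearMap with hs
  have hmon : ∀ (f : O) (i : ℕ), s (ι f * d ^ i) = r f * ρ d ^ i + ρ (ι f) * wseq v (ρ d) i := by
    intro f i
    have : e.symm (ι f * d ^ i) = Finsupp.single i f := by
      rw [LinearEquiv.symm_apply_eq, he, LinearEquiv.ofBijective_apply, Lmap_single]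
    rw [hs, LinearMap.comp_apply, LinearEquiv.coe_coe, this, sig0_single]
  have hr1 : r 1 = 0 := by
    have := hr 1 1
    simp only [mul_one, map_one, one_mul] at this
    -- r 1 = r 1 + r 1
    have h2 : r 1 + 0 = r 1 + r 1 := by rw [add_zero]; exact this
    exact (add_left_cancel h2).symm
  have hs1 : s 1 = 0 := by
    have := hmon 1 0
    simpa [wseq, hr1] using this
  have key1 : ∀ g : O, r g * ρ d + ρ (ι g) * v + r (δ g) = v * ρ (ι g) + ρ d * r g := by
    intro g
    have h := hrv g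
    rw [← sub_eq_zero, ← h]; abel
  have key2 : ∀ g : O, ρ d * ρ (ι g) = ρ (ι g) * ρ d + ρ (ι (δ g)) := by
    intro g
    rw [← map_mul, hd, map_add, map_mul]
  -- (i)
  have hι : ∀ (f : O) (Q : D), s (ι f * Q) = r f * ρ Q + ρ (ι f) * s Q := by
    intro f Q
    induction Q using D_induction K O D ι d hbasis with
    | h0 => simp
    | hadd a b ha hb => rw [mul_add, map_add, ha, hb, map_add, map_add]; noncomm_ring
    | hmon g j =>
      rw [← mul_assoc, ← map_mul, hmon, hmon, hr, map_mul, map_mul, map_mul, map_pow]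
      noncomm_ring
  -- (ii)
  have hdQ : ∀ Q : D, s (d * Q) = v * ρ Q + ρ d * s Q := by
    intro Q
    induction Q using D_induction K O D ι d hbasis with
    | h0 => simp
    | hadd a b ha hb => rw [mul_add, map_add, ha, hb, map_add, map_add]; noncomm_ring
    | hmon g j =>
      have e1 : d * (ι g * d ^ j) = ι g * d ^ (j + 1) + ι (δ g) * d ^ j := by
        rw [← mul_assoc, hd, add_mul, mul_assoc, ← pow_succ']
      rw [e1, map_add, hmon, hmon, hmon, map_mul, map_pow]
      show r g * ρ d ^ (j + 1) + ρ (ι g) * (v * ρ d ^ j + ρ d * wseq v (ρ d) j) +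
        (r (δ g) * ρ d ^ j + ρ (ι (δ g)) * wseq v (ρ d) j) =
        v * (ρ (ι g) * ρ d ^ j) + ρ d * (r g * ρ d ^ j + ρ (ι g) * wseq v (ρ d) j)
      calc r g * ρ d ^ (j + 1) + ρ (ι g) * (v * ρ d ^ j + ρ d * wseq v (ρ d) j) +
            (r (δ g) * ρ d ^ j + ρ (ι (δ g)) * wseq v (ρ d) j)
          = (r g * ρ d + ρ (ι g) * v + r (δ g)) * ρ d ^ j +
            (ρ (ι g) * ρ d + ρ (ι (δ g))) * wseq v (ρ d) j := by
            rw [pow_succ']; noncomm_ring
        _ = (v * ρ (ι g) + ρ d * r g) * ρ d ^ j + (ρ d * ρ (ι g)) * wseq v (ρ d) j := by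
            rw [key1, key2]
        _ = _ := by noncomm_ring
  have hsι : ∀ f, s (ι f) = r f := by
    intro f
    have := hι f 1
    simpa [hs1] using this
  have hsd : s d = v := by
    have := hdQ 1
    simpa [hs1] using this
  -- Leibniz predicate
  have Lι : ∀ f : O, ∀ Q, s (ι f * Q) = s (ι f) * ρ Q + ρ (ι f) * s Q := by
    intro f Q; rw [hι, hsι]
  have Ld : ∀ Q, s (d * Q) = s d * ρ Q + ρ d * s Q := by
    intro Q; rw [hdQ, hsd]
  have Lmul : ∀ P₁ P₂ : D, (∀ Q, s (P₁ * Q) = s P₁ * ρ Q + ρ P₁ * s Q) →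
      (∀ Q, s (P₂ * Q) = s P₂ * ρ Q + ρ P₂ * s Q) →
      ∀ Q, s (P₁ * P₂ * Q) = s (P₁ * P₂) * ρ Q + ρ (P₁ * P₂) * s Q := by
    intro P₁ P₂ h1 h2 Q
    rw [mul_assoc, h1, h2, h1 P₂, map_mul, map_mul]
    noncomm_ring
  have Lpow : ∀ i : ℕ, ∀ Q, s (d ^ i * Q) = s (d ^ i) * ρ Q + ρ (d ^ i) * s Q := by
    intro i
    induction i with
    | zero => intro Q; simp [hs1]
    | succ i ih => rw [pow_succ]; exact Lmul _ _ ih Ld
  have Lall : ∀ P Q : D, s (P * Q) = s P * ρ Q + ρ P * s Q := by
    intro P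
    induction P using D_induction K O D ι d hbasis with
    | h0 => intro Q; simp
    | hadd a b ha hb =>
      intro Q
      rw [add_mul, map_add, ha, hb, map_add, map_add]; noncomm_ring
    | hmon f i => exact Lmul _ _ (Lι f) (Lpow i)
  refine ⟨s, Lall, ?_, hsd⟩
  apply LinearMap.ext
  intro f
  exact hsι f

include hbasis in
theorem unique_der (s₁ s₂ : D →ₗ[K] Module.End K E)
    (h1 : ∀ P Q : D, s₁ (P * Q) = s₁ P * ρ Q + ρ P * s₁ Q)
    (h2 : ∀ P Q : D, s₂ (P * Q) = s₂ P * ρ Q + ρ P * s₂ Q)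
    (hι : ∀ f, s₁ (ι f) = s₂ (ι f)) (hd' : s₁ d = s₂ d) : s₁ = s₂ := by
  have one : ∀ s : D →ₗ[K] Module.End K E,
      (∀ P Q : D, s (P * Q) = s P * ρ Q + ρ P * s Q) → s 1 = 0 := by
    intro s hs
    have := hs 1 1
    simp only [mul_one, map_one, one_mul] at this
    have h2 : s 1 + 0 = s 1 + s 1 := by rw [add_zero]; exact this
    exact (add_left_cancel h2).symm
  have hpow : ∀ i : ℕ, s₁ (d ^ i) = s₂ (d ^ i) := by
    intro i
    induction i with
    | zero => simp [one s₁ h1, one s₂ h2]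
    | succ i ih => rw [pow_succ, h1, h2, ih, hd']
  apply LinearMap.ext
  intro P
  induction P using D_induction K O D ι d hbasis with
  | h0 => simp
  | hadd a b ha hb => rw [map_add, map_add, ha, hb]
  | hmon f i => rw [h1, h2, hι, hpow]

include hd hbasis in
theorem main_thm :
    (∀ s : D →ₗ[K] Module.End K E, (∀ P Q : D, s (P * Q) = s P * ρ Q + ρ P * s Q) →
      ∀ f : O, (s (ι f) * ρ d - ρ d * s (ι f)) + (ρ (ι f) * s d - s d * ρ (ι f)) + s (ι (δ f)) = 0) ∧
    ∀ (r : O →ₗ[K] Module.End K E) (v : Module.End K E),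
      (∀ f g : O, r (f * g) = r f * ρ (ι g) + ρ (ι f) * r g) →
      (∀ f : O, (r f * ρ d - ρ d * r f) + (ρ (ι f) * v - v * ρ (ι f)) + r (δ f) = 0) →
      ∃! s : D →ₗ[K] Module.End K E,
        (∀ P Q : D, s (P * Q) = s P * ρ Q + ρ P * s Q) ∧ s ∘ₗ ι.toLinearMap = r ∧ s d = v := by
  refine ⟨?_, ?_⟩
  · intro s hs f
    have h := congrArg s (hd f)
    rw [hs, map_add, hs] at h
    have h' := sub_eq_zero.mpr h.symm
    rw [← h']; abel
  · intro r v hr hrv
    obtain ⟨s, hs1, hs2, hs3⟩ := exists_der K O δ D ι d hd hbasis E ρ r v hr hrv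
    refine ⟨s, ⟨hs1, hs2, hs3⟩, ?_⟩
    rintro s' ⟨h1, h2, h3⟩
    apply unique_der K O D ι d hbasis E ρ s' s h1 hs1 ?_ (h3.trans hs3.symm)
    intro f
    have a := LinearMap.congr_fun h2 f
    have b := LinearMap.congr_fun hs2 f
    simp only [LinearMap.comp_apply, AlgHom.toLinearMap_apply] at a b
    rw [a, b]

end

/-- Let K be a field of characteristic 0, O a commutative K-algebra with a K-linear derivation δ, and D
the ring of differential operators O[∂], presented abstractly as a K-algebra D with an algebra map ι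
: O → D and an element ∂ of D such that ∂ ι(f) = ι(f) ∂ + ι(δ f) for every f in O and such that
every element of D is in a unique way a finite sum of terms ι(f_i) ∂^i. Let E be a left D-module,
given as a K-vector space with a K-algebra map ρ : D → End_K(E), which is finite free as an
O-module. A K-derivation of D with values in the D-bimodule End_K(E) is a K-linear map s with s(PQ)
= s(P) ρ(Q) + ρ(P) s(Q); a K-derivation of O with values in End_K(E) is a K-linear map r with r(fg)
= r(f) ρ(ι g) + ρ(ι f) r(g). Then: (a) for every K-derivation s of D into End_K(E), the pair (r, v)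
= (s ∘ ι, s(∂)) satisfies the identity [r(f), ρ(∂)] + [ρ(ι f), v] + r(δ f) = 0 for all f in O; (b)
conversely, for every K-derivation r of O into End_K(E) and every v in End_K(E) satisfying that
identity for all f, there is exactly one K-derivation s of D into End_K(E) with s ∘ ι = r and s(∂) =
v. In other words s ↦ (s ∘ ι, s(∂)) maps the K-derivations of D injectively onto the pairs
satisfying the identity. -/
theorem result
    (K : Type u) [Field K] [CharZero K]
    (O : Type v) [CommRing O] [Algebra K O] (δ : Derivation K O O)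
    (D : Type w) [Ring D] [Algebra K D] (ι : O →ₐ[K] D) (d : D)
    (hd : ∀ f : O, d * ι f = ι f * d + ι (δ f))
    (hbasis : Function.Bijective (fun c : ℕ →₀ O => c.sum (fun i f => ι f * d ^ i)))
    (E : Type x) [AddCommGroup E] [Module K E] (ρ : D →ₐ[K] Module.End K E)
    (hE : ∃ (n : ℕ) (b : Fin n → E), Function.Bijective (fun c : Fin n → O => ∑ i, ρ (ι (c i)) (b i))) :
    (∀ s : D →ₗ[K] Module.End K E, (∀ P Q : D, s (P * Q) = s P * ρ Q + ρ P * s Q) →
      ∀ f : O, (s (ι f) * ρ d - ρ d * s (ι f)) + (ρ (ι f) * s d - s d * ρ (ι f)) + s (ι (δ f)) = 0) ∧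
    ∀ (r : O →ₗ[K] Module.End K E) (v : Module.End K E),
      (∀ f g : O, r (f * g) = r f * ρ (ι g) + ρ (ι f) * r g) →
      (∀ f : O, (r f * ρ d - ρ d * r f) + (ρ (ι f) * v - v * ρ (ι f)) + r (δ f) = 0) →
      ∃! s : D →ₗ[K] Module.End K E,
        (∀ P Q : D, s (P * Q) = s P * ρ Q + ρ P * s Q) ∧ s ∘ₗ ι.toLinearMap = r ∧ s d = v := by
  exact main_thm K O δ D ι d hd hbasis E ρ

end Groth.Agent.S19974
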