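import Groth.Statements.S1998
import Mathlib
-- import your own Groth.Agent.* helpers here

set_option autoImplicit false
universe u
open EtAlg

namespace Groth.Agent.S1998

theorem hens_of_colimit {ι : Type u} [Preorder ι] [IsDirected ι (· ≤ ·)] [Nonempty ι]
    (G : ι → Type u) [∀ i, CommRing (G i)] (f : ∀ i j, i ≤ j → G i →+* G j)
    (hff : ∀ i j k (hij : i ≤ j) (hjk : j ≤ k) x, f j k hjk (f i j hij x) = f i k (hij.trans hjk) x)
    (I : ∀ i, Ideal (G i))
    (hI : ∀ i j (h : i ≤ j), (I i).map (f i j h) ≤ I j) (hh : ∀ i, HenselianRing (G i) (I i))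
    {A : Type u} [CommRing A] (φ : ∀ i, G i →+* A)
    (ha : ∀ i j (h : i ≤ j) x, φ j (f i j h x) = φ i x)
    (hb : ∀ z : A, ∃ i x, φ i x = z)
    (hc : ∀ i x, φ i x = 0 → ∃ j, ∃ hij : i ≤ j, f i j hij x = 0)
    (hd : ∀ q : Polynomial A, ∃ i p, Polynomial.map (φ i) p = q) :
    HenselianRing A (⨆ i, (I i).map (φ i)) := by
  classical
  have hI' : ∀ i j (h : i ≤ j) x, x ∈ I i → f i j h x ∈ I j :=
    fun i j h x hx => hI i j h (Ideal.mem_map_of_mem _ hx)
  have hcomp : ∀ i j (h : i ≤ j), (φ j).comp (f i j h) = φ i := fun i j h => RingHom.ext (ha i j h)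
  -- Step A
  let J : Ideal A :=
    { carrier := {x | ∃ i, ∃ y ∈ I i, φ i y = x}
      add_mem' := by
        rintro _ _ ⟨i, y, hy, rfl⟩ ⟨j, y', hy', rfl⟩
        obtain ⟨k, hik, hjk⟩ := exists_ge_ge i j
        exact ⟨k, f i k hik y + f j k hjk y', add_mem (hI' _ _ _ _ hy) (hI' _ _ _ _ hy'),
          by rw [map_add, ha, ha]⟩
      zero_mem' := ⟨Classical.arbitrary ι, 0, zero_mem _, map_zero _⟩
      smul_mem' := by
        rintro c _ ⟨i, y, hy, rfl⟩
        obtain ⟨j, w, rfl⟩ := hb c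
        obtain ⟨k, hik, hjk⟩ := exists_ge_ge i j
        exact ⟨k, f j k hjk w * f i k hik y, Ideal.mul_mem_left _ _ (hI' _ _ _ _ hy),
          by rw [map_mul, ha, ha]; rfl⟩ }
  have hmem : ∀ x ∈ ⨆ i, (I i).map (φ i), ∃ i, ∃ y ∈ I i, φ i y = x := by
    intro x hx
    have hle : (⨆ i, (I i).map (φ i)) ≤ J :=
      iSup_le fun i => Ideal.map_le_iff_le_comap.mpr fun y hy => ⟨i, y, hy, rfl⟩
    exact hle hx
  have hmem' : ∀ i (y : G i), y ∈ I i → φ i y ∈ ⨆ i, (I i).map (φ i) := fun i y hy =>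
    (le_iSup (fun i => (I i).map (φ i)) i) (Ideal.mem_map_of_mem _ hy)
  -- lemma (L)
  have hL : ∀ m (x : G m), φ m x ∈ (⨆ i, (I i).map (φ i)) →
      ∃ n, ∃ hmn : m ≤ n, ∀ n' (hnn' : n ≤ n'), f m n' (hmn.trans hnn') x ∈ I n' := by
    intro m x hx
    obtain ⟨i, y, hy, hyx⟩ := hmem _ hx
    obtain ⟨k, hik, hmk⟩ := exists_ge_ge i m
    have h0 : φ k (f m k hmk x - f i k hik y) = 0 := by
      rw [map_sub, ha, ha, hyx, sub_self]
    obtain ⟨n, hkn, hn⟩ := hc _ _ h0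
    refine ⟨n, hmk.trans hkn, fun n' hnn' => ?_⟩
    rw [map_sub, sub_eq_zero, hff, hff] at hn
    rw [← hff m n n' (hmk.trans hkn) hnn', hn]
    exact hI' _ _ _ _ (hI' _ _ _ _ hy)
  refine ⟨?_, ?_⟩
  · intro x hx
    rw [Ideal.mem_jacobson_bot]
    intro z
    obtain ⟨i, y, hy, rfl⟩ := hmem x hx
    obtain ⟨j, w, rfl⟩ := hb z
    obtain ⟨k, hik, hjk⟩ := exists_ge_ge i j
    have h1 : f i k hik y ∈ Ideal.jacobson (⊥ : Ideal (G k)) := (hh k).jac (hI' _ _ _ _ hy)
    have h2 : IsUnit (f i k hik y * f j k hjk w + 1) := Ideal.mem_jacobson_bot.mp h1 _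
    have h3 := h2.map (φ k)
    rwa [map_add, map_mul, ha, ha, map_one] at h3
  · intro p hp a₀ h₁ h₂
    obtain ⟨i₁, q0, hq0⟩ := hd p
    obtain ⟨q, hq, -, hqm⟩ := Polynomial.lifts_and_natDegree_eq_and_monic
      ((Polynomial.mem_lifts p).mpr ⟨q0, hq0⟩) hp
    obtain ⟨i₂, b, hb'⟩ := hb a₀
    obtain ⟨u, hu⟩ : ∃ u : A, p.derivative.eval a₀ * u - 1 ∈ ⨆ i, (I i).map (φ i) := by
      obtain ⟨v, hv⟩ := h₂
      obtain ⟨w, hw⟩ := Ideal.Quotient.mk_surjective (I := ⨆ i, (I i).map (φ i)) (↑v⁻¹ : A ⧸ _)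
      refine ⟨w, ?_⟩
      rw [← Ideal.Quotient.eq, map_mul, hw, ← hv, v.mul_inv, map_one]
    obtain ⟨i₃, c, hc'⟩ := hb u
    obtain ⟨m0, h1m0, h2m0⟩ := exists_ge_ge i₁ i₂
    obtain ⟨m, hm0m, h3m⟩ := exists_ge_ge m0 i₃
    have h1m : i₁ ≤ m := h1m0.trans hm0m
    have h2m : i₂ ≤ m := h2m0.trans hm0m
    have hqm' : (q.map (f i₁ m h1m)).map (φ m) = p := by
      rw [Polynomial.map_map, hcomp, hq]
    have hbm : φ m (f i₂ m h2m b) = a₀ := by rw [ha, hb']
    have hcm : φ m (f i₃ m h3m c) = u := by rw [ha, hc']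
    have hx₁ : φ m ((q.map (f i₁ m h1m)).eval (f i₂ m h2m b)) ∈ ⨆ i, (I i).map (φ i) := by
      rw [← Polynomial.eval_map_apply, hqm', hbm]
      exact h₁
    have hx₂ : φ m ((q.map (f i₁ m h1m)).derivative.eval (f i₂ m h2m b) * f i₃ m h3m c - 1) ∈
        ⨆ i, (I i).map (φ i) := by
      rw [map_sub, map_mul, ← Polynomial.eval_map_apply, ← Polynomial.derivative_map, hqm', hbm,
        hcm, map_one]
      exact hu
    obtain ⟨n₁, hmn₁, hn₁⟩ := hL m _ hx₁
    obtain ⟨n₂, hmn₂, hn₂⟩ := hL m _ hx₂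
    obtain ⟨N, hn₁N, hn₂N⟩ := exists_ge_ge n₁ n₂
    have hmN : m ≤ N := hmn₁.trans hn₁N
    have e₁ := hn₁ N hn₁N
    have e₂ := hn₂ N hn₂N
    rw [← Polynomial.eval_map_apply] at e₁
    rw [map_sub, map_mul, map_one, ← Polynomial.eval_map_apply, ← Polynomial.derivative_map] at e₂
    have e₃ : IsUnit (Ideal.Quotient.mk (I N)
        (((q.map (f i₁ m h1m)).map (f m N hmN)).derivative.eval (f m N hmN (f i₂ m h2m b)))) := by
      apply IsUnit.of_mul_eq_one (Ideal.Quotient.mk (I N) (f m N hmN (f i₃ m h3m c)))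
      rw [← map_mul, ← map_one (Ideal.Quotient.mk (I N)), Ideal.Quotient.eq]
      exact e₂
    obtain ⟨r, hr, hrb⟩ := (hh N).is_henselian ((q.map (f i₁ m h1m)).map (f m N hmN))
      ((hqm.map _).map _) (f m N hmN (f i₂ m h2m b)) e₁ e₃
    have hpN : ((q.map (f i₁ m h1m)).map (f m N hmN)).map (φ N) = p := by
      rw [Polynomial.map_map, hcomp, hqm']
    refine ⟨φ N r, ?_, ?_⟩
    · rw [Polynomial.IsRoot.def] at hr ⊢
      rw [← hpN, Polynomial.eval_map_apply, hr, map_zero]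
    · have : φ N r - a₀ = φ N (r - f m N hmN (f i₂ m h2m b)) := by
        rw [map_sub, ha, hbm]
      rw [this]
      exact hmem' _ _ hrb

/-- Let (A_j, I_j) be a directed system of henselian pairs (ring maps A_j -> A_k for j ≤ k carrying I_j
into I_k). Then the direct limit A of the A_j together with the ideal generated by the images of the
I_j is a henselian pair. -/
theorem result {ι : Type u} [Preorder ι] [IsDirected ι (· ≤ ·)] [Nonempty ι]
    (G : ι → Type u) [∀ i, CommRing (G i)] (f : ∀ i j, i ≤ j → G i →+* G j)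
    [DirectedSystem G fun i j h => f i j h] (I : ∀ i, Ideal (G i))
    (hI : ∀ i j (h : i ≤ j), (I i).map (f i j h) ≤ I j) (hh : ∀ i, HenselianRing (G i) (I i)) :
    HenselianRing (Ring.DirectLimit G fun i j h => f i j h)
      (⨆ i, (I i).map (Ring.DirectLimit.of G (fun i j h => f i j h) i)) := by
  apply hens_of_colimit G f _ I hI hh (Ring.DirectLimit.of G (fun i j h => f i j h))
  · intro i j h x
    exact Ring.DirectLimit.of_f h x
  · intro z
    exact Ring.DirectLimit.exists_of z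
  · intro i x hx
    exact Ring.DirectLimit.of.zero_exact hx
  · intro q
    exact Ring.DirectLimit.Polynomial.exists_of q
  · intro i j k hij hjk x
    exact DirectedSystem.map_map (f := fun i j h => f i j h) hij hjk x

end Groth.Agent.S1998
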