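import Groth.Statements.S2000
import Groth.Agent.Lib.helper3.BL
-- import your own Groth.Agent.* helpers here

set_option autoImplicit false
universe u
open TensorProduct
open EtAlg

namespace Groth.Agent.S2000

section construction

variable {R R' : Type u} [CommRing R] [CommRing R'] [Algebra R R'] (f : R)
  {M' : Type u} [AddCommGroup M'] [Module R' M'] [Module R M'] [IsScalarTower R R' M']
  {M₁ : Type u} [AddCommGroup M₁] [Module R M₁]
  (α : LocalizedModule (Submonoid.powers (algebraMap R R' f)) M' ≃ₗ[R'] TensorProduct R R' M₁)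

theorem alg_smul_one_tmul (r : R) (y : M₁) :
    (algebraMap R R' r) • ((1 : R') ⊗ₜ[R] y) = (1 : R') ⊗ₜ[R] (r • y) := by
  rw [TensorProduct.smul_tmul', algebraMap_smul, TensorProduct.smul_tmul]

/-- the localization map of `M'`. -/
noncomputable abbrev gL {R : Type u} (R' : Type u) [CommRing R] [CommRing R'] [Algebra R R'] (f : R)
    {M' : Type u} [AddCommGroup M'] [Module R' M'] :
    M' →ₗ[R'] LocalizedModule (Submonoid.powers (algebraMap R R' f)) M' :=
  LocalizedModule.mkLinearMap (Submonoid.powers (algebraMap R R' f)) M'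

/-- the glued module as a submodule of `M' × M₁`. -/
def glued : Submodule R (M' × M₁) where
  carrier := {p | α (gL R' f p.1) = (1 : R') ⊗ₜ[R] p.2}
  add_mem' := by
    intro p q hp hq
    simp only [Set.mem_ofPred_eq] at hp hq ⊢
    rw [Prod.fst_add, Prod.snd_add, map_add, map_add, hp, hq, tmul_add]
  zero_mem' := by
    simp only [Set.mem_ofPred_eq, Prod.fst_zero, Prod.snd_zero, map_zero, tmul_zero]
  smul_mem' := by
    intro r p hp
    simp only [Set.mem_ofPred_eq] at hp ⊢
    rw [Prod.smul_fst, Prod.smul_snd, ← algebraMap_smul R' r p.1, map_smul, map_smul, hp,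
      alg_smul_one_tmul]

/-- first projection -/
def pr₁ : glued f α →ₗ[R] M' := (LinearMap.fst R M' M₁) ∘ₗ (glued f α).subtype

/-- second projection -/
def pr₂ : glued f α →ₗ[R] M₁ := (LinearMap.snd R M' M₁) ∘ₗ (glued f α).subtype

theorem glued_spec (m : glued f α) : α (gL R' f (pr₁ f α m)) = (1 : R') ⊗ₜ[R] (pr₂ f α m) := m.2

theorem glued_ext (m m' : glued f α) (h1 : pr₁ f α m = pr₁ f α m') (h2 : pr₂ f α m = pr₂ f α m') :
    m = m' := by
  apply Subtype.ext
  exact Prod.ext h1 h2

/-- elements of the glued module from compatible pairs -/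
def mkGlued (x : M') (y : M₁) (h : α (gL R' f x) = (1 : R') ⊗ₜ[R] y) : glued f α := ⟨(x, y), h⟩

@[simp] theorem pr₁_mkGlued (x : M') (y : M₁) (h : α (gL R' f x) = (1 : R') ⊗ₜ[R] y) :
    pr₁ f α (mkGlued f α x y h) = x := rfl

@[simp] theorem pr₂_mkGlued (x : M') (y : M₁) (h : α (gL R' f x) = (1 : R') ⊗ₜ[R] y) :
    pr₂ f α (mkGlued f α x y h) = y := rfl

variable (hf : Function.Bijective fun x : M₁ => f • x)
include hf

theorem pow_bij (n : ℕ) : Function.Bijective fun x : M₁ => f ^ n • x := by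
  have := hf.iterate n
  rwa [smul_iterate] at this

omit hf in
/-- (F1) every element of `M₁` times a power of `f` comes from the glued module. -/
theorem exists_pr₂ (y : M₁) : ∃ (n : ℕ) (m : glued f α), pr₂ f α m = f ^ (n + 1) • y := by
  obtain ⟨⟨x, ⟨_, n, rfl⟩⟩, hx⟩ := IsLocalizedModule.surj
    (Submonoid.powers (algebraMap R R' f)) (gL R' f (M' := M')) (α.symm ((1 : R') ⊗ₜ[R] y))
  have hx' : (algebraMap R R' f) ^ n • α.symm ((1 : R') ⊗ₜ[R] y) = gL R' f x := hx
  have h1 : α (gL R' f x) = (1 : R') ⊗ₜ[R] (f ^ n • y) := by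
    rw [← hx', map_smul, LinearEquiv.apply_symm_apply, ← map_pow, alg_smul_one_tmul]
  refine ⟨n, f • mkGlued f α x (f ^ n • y) h1, ?_⟩
  rw [map_smul, pr₂_mkGlued, smul_smul, ← pow_succ']

/-- (F2) torsion elements have zero second component -/
theorem pr₂_eq_zero_of_torsion (m : glued f α) (h : ∃ n : ℕ, f ^ n • m = 0) : pr₂ f α m = 0 := by
  obtain ⟨n, hn⟩ := h
  have h1 : f ^ n • pr₂ f α m = 0 := by rw [← map_smul, hn, map_zero]
  exact (pow_bij f hf n).1 (h1.trans (smul_zero _).symm)

omit hf in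
theorem torsion_of_pr₂_eq_zero (m : glued f α) (h : pr₂ f α m = 0) : ∃ n : ℕ, f ^ n • m = 0 := by
  have h1 : α (gL R' f (pr₁ f α m)) = 0 := by rw [glued_spec f α m, h, tmul_zero]
  have h2 : gL R' f (pr₁ f α m) = 0 := by
    have := congrArg α.symm h1
    rwa [LinearEquiv.symm_apply_apply, map_zero] at this
  obtain ⟨⟨_, n, rfl⟩, hs⟩ := (IsLocalizedModule.eq_zero_iff
    (Submonoid.powers (algebraMap R R' f)) (gL R' f (M' := M'))).mp h2
  refine ⟨n, ?_⟩
  apply glued_ext
  · rw [map_smul, map_zero]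
    have hs' : (algebraMap R R' f) ^ n • pr₁ f α m = 0 := hs
    rw [← map_pow, algebraMap_smul] at hs'
    exact hs'
  · rw [map_smul, map_zero, h, smul_zero]

/-- (1) the second projection is a localization. -/
theorem isLoc_pr₂ : IsLocalizedModule (Submonoid.powers f) (pr₂ f α) where
  map_units := by
    rintro ⟨_, n, rfl⟩
    rw [Module.End.isUnit_iff]
    exact pow_bij f hf n
  surj := by
    intro y
    obtain ⟨n, m, hm⟩ := exists_pr₂ f α y
    exact ⟨(m, ⟨f ^ (n + 1), n + 1, rfl⟩), hm.symm⟩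
  exists_of_eq := by
    intro m m' h
    have h0 : pr₂ f α (m - m') = 0 := by rw [map_sub, h, sub_self]
    obtain ⟨n, hn⟩ := torsion_of_pr₂_eq_zero f α _ h0
    refine ⟨⟨f ^ n, n, rfl⟩, ?_⟩
    rw [smul_sub, sub_eq_zero] at hn
    exact hn

omit hf in
/-- (F3) -/
theorem alpha_phi (ξ : TensorProduct R R' (glued f α)) :
    α (gL R' f ((pr₁ f α).liftBaseChange R' ξ)) = (pr₂ f α).lTensor R' ξ := by
  induction ξ using TensorProduct.induction_on with
  | zero => simp only [map_zero]
  | tmul r m =>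
    rw [LinearMap.liftBaseChange_tmul, map_smul, map_smul, glued_spec f α m,
      LinearMap.lTensor_tmul, TensorProduct.smul_tmul', smul_eq_mul, mul_one]
  | add a b ha hb => simp only [map_add, ha, hb]

omit hf in
/-- decomposition used for surjectivity -/
theorem decomp (hq : EtGlue.QuotPowBijective R R' f) (w : TensorProduct R R' M₁) :
    ∃ (ξ : TensorProduct R R' (glued f α)) (y₀ : M₁),
      w = (1 : R') ⊗ₜ[R] y₀ + (pr₂ f α).lTensor R' ξ := by
  induction w using TensorProduct.induction_on with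
  | zero => exact ⟨0, 0, by simp⟩
  | tmul r y =>
    obtain ⟨n, m, hm⟩ := exists_pr₂ f α y
    obtain ⟨a, b, hab⟩ := Groth.Agent.S2004.q1 f hq (n + 1) (Nat.succ_pos n) r
    refine ⟨b ⊗ₜ[R] m, a • y, ?_⟩
    rw [LinearMap.lTensor_tmul, hm, hab, add_tmul, ← map_pow]
    congr 1
    · rw [← alg_smul_one_tmul, TensorProduct.smul_tmul', smul_eq_mul, mul_one]
    · rw [← Algebra.smul_def, TensorProduct.smul_tmul]
  | add w₁ w₂ h₁ h₂ =>
    obtain ⟨ξ₁, y₁, e₁⟩ := h₁
    obtain ⟨ξ₂, y₂, e₂⟩ := h₂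
    refine ⟨ξ₁ + ξ₂, y₁ + y₂, ?_⟩
    rw [e₁, e₂, tmul_add, map_add]
    abel

omit hf in
theorem phi_surjective (hq : EtGlue.QuotPowBijective R R' f) :
    Function.Surjective ((pr₁ f α).liftBaseChange R') := by
  intro x
  obtain ⟨ξ, y₀, hw⟩ := decomp f α hq (α (gL R' f x))
  have h1 : α (gL R' f (x - (pr₁ f α).liftBaseChange R' ξ)) = (1 : R') ⊗ₜ[R] y₀ := by
    rw [map_sub, map_sub, alpha_phi, hw]
    abel
  refine ⟨(1 : R') ⊗ₜ[R] (mkGlued f α _ y₀ h1) + ξ, ?_⟩
  rw [map_add, LinearMap.liftBaseChange_tmul, one_smul, pr₁_mkGlued]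
  abel

omit hf in
theorem torsion_of_lTensor_eq_zero {M : Type u} [AddCommGroup M] [Module R M] (p₂ : M →ₗ[R] M₁)
    [IsLocalizedModule (Submonoid.powers f) p₂] (ξ : TensorProduct R R' M)
    (h : p₂.lTensor R' ξ = 0) : ∃ n : ℕ, f ^ n • ξ = 0 := by
  have inst : IsLocalizedModule (Submonoid.powers f)
      (TensorProduct.AlgebraTensorModule.rTensor R R' p₂) :=
    IsLocalizedModule.rTensor (R := R) (A := R) (N := R') (Submonoid.powers f) p₂
  have h1 : (TensorProduct.AlgebraTensorModule.rTensor R R' p₂) (TensorProduct.comm R R' M ξ) = 0 := by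
    have : (TensorProduct.AlgebraTensorModule.rTensor R R' p₂) (TensorProduct.comm R R' M ξ) =
        p₂.rTensor R' (TensorProduct.comm R R' M ξ) := rfl
    rw [this, LinearMap.rTensor_comm, h, map_zero]
  obtain ⟨⟨_, n, rfl⟩, hs⟩ := (IsLocalizedModule.eq_zero_iff (Submonoid.powers f)
    (TensorProduct.AlgebraTensorModule.rTensor R R' p₂)).mp h1
  refine ⟨n, ?_⟩
  have hs' : f ^ n • (TensorProduct.comm R R' M ξ) = 0 := hs
  rw [← map_smul] at hs'
  exact (TensorProduct.comm R R' M).injective (hs'.trans (map_zero _).symm)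

theorem phi_injective (hRR : EtGlue.IsGlueingPair R R' f) :
    Function.Injective ((pr₁ f α).liftBaseChange R') := by
  rw [injective_iff_map_eq_zero]
  intro ξ hξ
  have h1 : (pr₂ f α).lTensor R' ξ = 0 := by rw [← alpha_phi, hξ, map_zero, map_zero]
  have := isLoc_pr₂ f α hf
  obtain ⟨m, hm, rfl⟩ := Groth.Agent.Lib.helper3.BL.torsion_surj f hRR _ ξ
    (torsion_of_lTensor_eq_zero f (pr₂ f α) ξ h1)
  rw [LinearMap.liftBaseChange_tmul, one_smul] at hξ
  have : m = 0 := by
    apply glued_ext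
    · rw [hξ, map_zero]
    · rw [pr₂_eq_zero_of_torsion f α hf m hm, map_zero]
  rw [this, tmul_zero]

theorem glueable (hRR : EtGlue.IsGlueingPair R R' f) :
    EtGlue.IsGlueable R R' f (glued f α) := by
  refine Groth.Agent.Lib.helper3.BL.isGlueable_of_torsion f hRR.1 _ ?_
    (Groth.Agent.Lib.helper3.BL.torsion_surj f hRR _)
  intro m hm h0
  apply glued_ext
  · have := congrArg ((pr₁ f α).liftBaseChange R') h0
    rw [LinearMap.liftBaseChange_tmul, one_smul, map_zero] at this
    rw [this, map_zero]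
  · rw [pr₂_eq_zero_of_torsion f α hf m hm, map_zero]

end construction
theorem main (R R' : Type u) [CommRing R] [CommRing R'] [Algebra R R'] (f : R)
    (hRR : EtGlue.IsGlueingPair R R' f) (M' : Type u) [AddCommGroup M'] [Module R' M']
    [Module R M'] [IsScalarTower R R' M'] (M₁ : Type u) [AddCommGroup M₁]
    [Module R M₁] (hf : Function.Bijective fun x : M₁ => f • x)
    (α : LocalizedModule (Submonoid.powers (algebraMap R R' f)) M' ≃ₗ[R'] TensorProduct R R' M₁) :
    ∃ (M : Type u) (_ : AddCommGroup M) (_ : Module R M) (_ : EtGlue.IsGlueable R R' f M)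
      (e' : TensorProduct R R' M ≃ₗ[R'] M') (e₁ : LocalizedModule (Submonoid.powers f) M ≃ₗ[R] M₁),
      ∀ m : M, α (LocalizedModule.mkLinearMap (Submonoid.powers (algebraMap R R' f)) M' (e' ((1 : R') ⊗ₜ[R] m))) =
        (1 : R') ⊗ₜ[R] e₁ (LocalizedModule.mkLinearMap (Submonoid.powers f) M m) := by
  have := isLoc_pr₂ f α hf
  refine ⟨glued f α, inferInstance, inferInstance, glueable f α hf hRR,
    LinearEquiv.ofBijective ((pr₁ f α).liftBaseChange R')
      ⟨phi_injective f α hf hRR, phi_surjective f α hRR.1⟩,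
    IsLocalizedModule.iso (Submonoid.powers f) (pr₂ f α), ?_⟩
  intro m
  have h1 : (IsLocalizedModule.iso (Submonoid.powers f) (pr₂ f α))
      (LocalizedModule.mkLinearMap (Submonoid.powers f) _ m) = pr₂ f α m := by
    rw [LocalizedModule.mkLinearMap_apply, IsLocalizedModule.iso_mk_one]
  rw [h1, LinearEquiv.ofBijective_apply, LinearMap.liftBaseChange_tmul, one_smul]
  exact glued_spec f α m

/-- Beauville–Laszlo, essential surjectivity with glueability: take a glueing pair (R -> R', f). Fix an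
R'-module M', an R-module M₁ on which multiplication by f is bijective (i.e. an R_f-module), and α
an R'-linear isomorphism from the localization of M' at f to R' ⊗_R M₁ (an isomorphism of
R'_f-modules). Then there is an R-module M, glueable for (R -> R', f), with an R'-isomorphism R' ⊗_R
M ≅ M' and an R-isomorphism M_f ≅ M₁ under which α becomes the canonical identification (R' ⊗_R M)_f
= R' ⊗_R M_f. -/
theorem result (R R' : Type u) [CommRing R] [CommRing R'] [Algebra R R'] (f : R)
    (hRR : EtGlue.IsGlueingPair R R' f) (M' : Type u) [AddCommGroup M'] [Module R' M'] (M₁ : Type u) [AddCommGroup M₁]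
    [Module R M₁] (hf : Function.Bijective fun x : M₁ => f • x)
    (α : LocalizedModule (Submonoid.powers (algebraMap R R' f)) M' ≃ₗ[R'] R' ⊗[R] M₁) :
    ∃ (M : Type u) (_ : AddCommGroup M) (_ : Module R M) (_ : EtGlue.IsGlueable R R' f M)
      (e' : R' ⊗[R] M ≃ₗ[R'] M') (e₁ : LocalizedModule (Submonoid.powers f) M ≃ₗ[R] M₁),
      ∀ m : M, α (LocalizedModule.mkLinearMap (Submonoid.powers (algebraMap R R' f)) M' (e' ((1 : R') ⊗ₜ[R] m))) =
        (1 : R') ⊗ₜ[R] e₁ (LocalizedModule.mkLinearMap (Submonoid.powers f) M m) := by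
  let _ : Module R M' := Module.compHom M' (algebraMap R R')
  have : IsScalarTower R R' M' := IsScalarTower.of_algebraMap_smul (fun r x => rfl)
  exact main R R' f hRR M' M₁ hf α

end Groth.Agent.S2000
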