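import Groth.Statements.S2001
import Mathlib
-- import your own Groth.Agent.* helpers here

set_option autoImplicit false
universe u
open TensorProduct
open EtAlg

namespace Groth.Agent.S2001

open TensorProduct in
theorem ext_one_tmul {R S M P : Type*} [CommRing R] [CommRing S] [Algebra R S]
    [AddCommGroup M] [Module R M] [AddCommGroup P] [Module R P] [Module S P] [IsScalarTower R S P]
    (g g' : S ⊗[R] M →ₗ[S] P) (h : ∀ m : M, g ((1 : S) ⊗ₜ[R] m) = g' ((1 : S) ⊗ₜ[R] m)) : g = g' := by
  apply TensorProduct.AlgebraTensorModule.ext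
  intro s m
  have : s ⊗ₜ[R] m = s • ((1 : S) ⊗ₜ[R] m) := by
    rw [TensorProduct.smul_tmul', smul_eq_mul, mul_one]
  rw [this, map_smul, map_smul, h]

/-- Let (R -> R', f) be a glueing pair and M, N R-modules glueable for it. Given an R'-linear map φ' :
R' ⊗_R M -> R' ⊗_R N and an R-linear map φ₁ : M_f -> N_f which induce the same map into (R' ⊗_R N)_f
on elements of M, there is a unique R-linear map ψ : M -> N whose base change to R' is φ' and whose
localization is φ₁. -/
theorem result (R R' : Type u) [CommRing R] [CommRing R'] [Algebra R R'] (f : R)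
    (hRR : EtGlue.IsGlueingPair R R' f) (M N : Type u) [AddCommGroup M] [Module R M] [AddCommGroup N] [Module R N]
    (hM : EtGlue.IsGlueable R R' f M) (hN : EtGlue.IsGlueable R R' f N)
    (φ' : R' ⊗[R] M →ₗ[R'] R' ⊗[R] N)
    (φ₁ : LocalizedModule (Submonoid.powers f) M →ₗ[R] LocalizedModule (Submonoid.powers f) N)
    (hc : ∀ m : M, EtGlue.locOfTensor R R' f N (φ' ((1 : R') ⊗ₜ[R] m)) =
      EtGlue.tensorOfLoc R R' f N (φ₁ (LocalizedModule.mkLinearMap (Submonoid.powers f) M m))) :
    ∃! ψ : M →ₗ[R] N, ψ.baseChange R' = φ' ∧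
      IsLocalizedModule.map (Submonoid.powers f) (LocalizedModule.mkLinearMap (Submonoid.powers f) M)
        (LocalizedModule.mkLinearMap (Submonoid.powers f) N) ψ = φ₁ := by
  obtain ⟨hinj, hex⟩ := hN
  have hinj' : ∀ n n' : N, (1 : R') ⊗ₜ[R] n = (1 : R') ⊗ₜ[R] n' →
      LocalizedModule.mkLinearMap (Submonoid.powers f) N n =
        LocalizedModule.mkLinearMap (Submonoid.powers f) N n' → n = n' := by
    intro n n' h1 h2
    exact hinj (Prod.ext h1 h2)
  have hex' : ∀ m : M, ∃ n : N, (1 : R') ⊗ₜ[R] n = φ' ((1 : R') ⊗ₜ[R] m) ∧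
      LocalizedModule.mkLinearMap (Submonoid.powers f) N n =
        φ₁ (LocalizedModule.mkLinearMap (Submonoid.powers f) M m) := fun m => hex _ _ (hc m)
  choose F hF1 hF2 using hex'
  let ψ : M →ₗ[R] N :=
    { toFun := F
      map_add' := by
        intro m m'
        apply hinj'
        · rw [TensorProduct.tmul_add, hF1, hF1, hF1, TensorProduct.tmul_add, map_add]
        · rw [map_add, hF2, hF2, hF2, map_add, map_add]
      map_smul' := by
        intro r m
        apply hinj'
        · rw [RingHom.id_apply, TensorProduct.tmul_smul, hF1, hF1, TensorProduct.tmul_smul,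
            ← algebraMap_smul R' r ((1 : R') ⊗ₜ[R] m), map_smul, algebraMap_smul]
        · rw [RingHom.id_apply, map_smul, hF2, hF2, map_smul, map_smul] }
  have hψ1 : ψ.baseChange R' = φ' := by
    apply ext_one_tmul
    intro m
    rw [LinearMap.baseChange_tmul]
    exact hF1 m
  have hψ2 : IsLocalizedModule.map (Submonoid.powers f)
      (LocalizedModule.mkLinearMap (Submonoid.powers f) M)
      (LocalizedModule.mkLinearMap (Submonoid.powers f) N) ψ = φ₁ := by
    apply IsLocalizedModule.linearMap_ext (Submonoid.powers f)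
      (LocalizedModule.mkLinearMap (Submonoid.powers f) M)
      (LocalizedModule.mkLinearMap (Submonoid.powers f) N)
    ext m
    rw [LinearMap.comp_apply, LinearMap.comp_apply, IsLocalizedModule.map_apply]
    exact hF2 m
  refine ⟨ψ, ⟨hψ1, hψ2⟩, ?_⟩
  rintro ψ' ⟨h1, h2⟩
  ext m
  apply hinj'
  · have e1 := LinearMap.congr_fun h1 ((1 : R') ⊗ₜ[R] m)
    rw [LinearMap.baseChange_tmul] at e1
    rw [e1]
    exact (hF1 m).symm
  · have e2 := LinearMap.congr_fun h2 (LocalizedModule.mkLinearMap (Submonoid.powers f) M m)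
    rw [IsLocalizedModule.map_apply] at e2
    rw [e2]
    exact (hF2 m).symm

end Groth.Agent.S2001
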