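import Groth.Statements.S20010
import Mathlib

set_option autoImplicit false
universe u
open CategoryTheory CategoryTheory.Limits AlgebraicGeometry TopologicalSpace
open ModPair

namespace Groth.Agent.S20010

/-- A finite cover of the limit by quasi-compact opens descends to a finite stage. -/
theorem exists_cover_descend {J : Type u} [SmallCategory J] [IsCofiltered J] (D' : J ⥤ Scheme.{u})
    (c' : Cone D') (hc' : IsLimit c') [∀ {i j : J} (f : i ⟶ j), IsAffineHom (D'.map f)]
    [∀ i, CompactSpace (D'.obj i)] {n : ℕ} (O : Fin n → c'.pt.Opens)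
    (hO : ∀ j, IsCompact (O j : Set c'.pt)) (hcov : ⨆ j, O j = ⊤) :
    ∃ (k : J) (V : Fin n → (D'.obj k).Opens), (∀ j, IsCompact (V j : Set (D'.obj k))) ∧
      (∀ j, c'.π.app k ⁻¹ᵁ V j = O j) ∧ ⨆ j, V j = ⊤ := by
  classical
  choose i V hV hVO using fun j => exists_preimage_eq D' c' hc' (O j) (hO j)
  obtain ⟨k, fk⟩ := IsCofiltered.inf_objs_exists (Finset.univ.image i)
  replace fk : ∀ j, k ⟶ i j := fun j => (@fk (i j) (by simp)).some
  let V' : Fin n → (D'.obj k).Opens := fun j => D'.map (fk j) ⁻¹ᵁ V j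
  have hV'c : ∀ j, IsCompact (V' j : Set (D'.obj k)) := fun j =>
    QuasiCompact.isCompact_preimage (f := D'.map (fk j)) _ (V j).2 (hV j)
  have hV'O : ∀ j, c'.π.app k ⁻¹ᵁ V' j = O j := by
    intro j
    rw [← Scheme.Hom.comp_preimage, c'.w, hVO]
  have htop : c'.π.app k ⁻¹ᵁ (⨆ j, V' j) = ⊤ := by
    rw [Scheme.Hom.preimage_iSup]
    simp only [hV'O, hcov]
  obtain ⟨l, flk, hl⟩ := exists_map_eq_top D' c' hc' (⨆ j, V' j) htop
  refine ⟨l, fun j => D'.map flk ⁻¹ᵁ V' j, fun j => ?_, fun j => ?_, ?_⟩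
  · exact QuasiCompact.isCompact_preimage (f := D'.map flk) _ (V' j).2 (hV'c j)
  · rw [← Scheme.Hom.comp_preimage, c'.w, hV'O]
  · rw [← Scheme.Hom.preimage_iSup]
    exact hl

/-- Let (X_i) be a cofiltered system of schemes with affine transition morphisms such that X_{i₀} is
quasi-compact and quasi-separated for some index i₀, let X be its limit, and let {U_a ⟶ X} be a
family of quasi-compact open immersions (open immersions of finite presentation) which is jointly
surjective (a covering family for the Zariski class). Then the covering descends: for some index i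
there is a finite jointly surjective family {V_j ⟶ X_i}_{j < n} of quasi-compact open immersions
such that every V_j ×_{X_i} X is one of the U_a, i.e. for each j some U_{a_j} ⟶ X is the base change
of V_j ⟶ X_i along X ⟶ X_i. -/
theorem result {I : Type u} [SmallCategory I] [IsCofiltered I]
    (D : I ⥤ Scheme.{u}) (c : Cone D) (hc : IsLimit c)
    [∀ (i j : I) (t : i ⟶ j), IsAffineHom (D.map t)] (i₀ : I) [CompactSpace (D.obj i₀)]
    [QuasiSeparatedSpace (D.obj i₀)] {ι : Type u} (U : ι → Scheme.{u}) (u : ∀ a, U a ⟶ c.pt)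
    [∀ a, IsOpenImmersion (u a)] [∀ a, QuasiCompact (u a)] (hcov : ∀ x : c.pt, ∃ (a : ι) (y : U a), (u a).base y = x) :
    ∃ (i : I) (n : ℕ) (V : Fin n → Scheme.{u}) (v : ∀ j, V j ⟶ D.obj i) (a : Fin n → ι)
      (e : ∀ j, U (a j) ⟶ V j),
      (∀ j, IsOpenImmersion (v j) ∧ QuasiCompact (v j)) ∧
      (∀ x : D.obj i, ∃ (j : Fin n) (y : V j), (v j).base y = x) ∧
      ∀ j, IsPullback (e j) (u (a j)) (v j) (c.π.app i) := by
  classical
  let D' : Over i₀ ⥤ Scheme.{u} := Over.forget i₀ ⋙ D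
  let c' : Cone D' := c.whisker (Over.forget i₀)
  have hc' : IsLimit c' := (Functor.Initial.isLimitWhiskerEquiv (Over.forget i₀) c).symm hc
  have hA : ∀ {i j : Over i₀} (f : i ⟶ j), IsAffineHom (D'.map f) := fun f =>
    inferInstanceAs (IsAffineHom (D.map f.left))
  have hC : ∀ i : Over i₀, CompactSpace (D'.obj i) := fun i =>
    QuasiCompact.compactSpace_of_compactSpace (D.map i.hom)
  have hQ : ∀ i : Over i₀, QuasiSeparatedSpace (D'.obj i) := fun i =>
    quasiSeparatedSpace_of_quasiSeparated (D.map i.hom)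
  haveI : CompactSpace c.pt := Scheme.compactSpace_of_isLimit D' c' hc'
  haveI : ∀ a, CompactSpace (U a) := fun a => QuasiCompact.compactSpace_of_compactSpace (u a)
  -- finite subcover
  obtain ⟨t, ht⟩ := isCompact_univ.elim_finite_subcover (fun a => Set.range (u a))
    (fun a => (u a).isOpenEmbedding.isOpen_range) (by
      intro x _
      obtain ⟨a, y, hy⟩ := hcov x
      exact Set.mem_iUnion.mpr ⟨a, y, hy⟩)
  let n := t.card
  let a : Fin n → ι := fun j => (t.equivFin.symm j).1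
  let O : Fin n → c'.pt.Opens := fun j => (u (a j)).opensRange
  have hO : ∀ j, IsCompact (O j : Set c'.pt) := fun j => isCompact_range (u (a j)).continuous
  have hOcov : ⨆ j, O j = ⊤ := by
    rw [eq_top_iff]
    intro x _
    obtain ⟨b, hb, hxb⟩ := Set.mem_iUnion₂.mp (ht (Set.mem_univ x))
    refine TopologicalSpace.Opens.mem_iSup.mpr ⟨t.equivFin ⟨b, hb⟩, ?_⟩
    show x ∈ Set.range (u (a (t.equivFin ⟨b, hb⟩)))
    have : a (t.equivFin ⟨b, hb⟩) = b := by
      show (t.equivFin.symm (t.equivFin ⟨b, hb⟩)).1 = b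
      rw [Equiv.symm_apply_apply]
    rw [this]
    exact hxb
  obtain ⟨k, V, hVc, hVO, hVcov⟩ := exists_cover_descend D' c' hc' O hO hOcov
  have hrange : ∀ j, Set.range (u (a j)) = Set.range ((c.π.app k.left) ⁻¹ᵁ V j).ι := by
    intro j
    rw [Scheme.Opens.range_ι]
    have := congrArg (fun W : c'.pt.Opens => (W : Set c'.pt)) (hVO j)
    exact this.symm
  let ψ : ∀ j, U (a j) ≅ (((c.π.app k.left) ⁻¹ᵁ V j : c.pt.Opens) : Scheme.{u}) := fun j =>
    IsOpenImmersion.isoOfRangeEq (u (a j)) ((c.π.app k.left) ⁻¹ᵁ V j).ι (hrange j)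
  have hψ : ∀ j, (ψ j).hom ≫ ((c.π.app k.left) ⁻¹ᵁ V j).ι = u (a j) := fun j =>
    IsOpenImmersion.isoOfRangeEq_hom_fac _ _ _
  refine ⟨k.left, n, fun j => (V j : Scheme.{u}), fun j => (V j).ι, a,
    fun j => (ψ j).hom ≫ (c.π.app k.left ∣_ V j), fun j => ⟨show IsOpenImmersion (V j).ι from inferInstance, ?_⟩, ?_, ?_⟩
  · haveI : CompactSpace ((V j : Scheme.{u})) := isCompact_iff_compactSpace.mp (hVc j)
    haveI : QuasiSeparatedSpace (D.obj k.left) := hQ k
    infer_instance
  · intro x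
    have hx : x ∈ (⨆ j, V j : (D'.obj k).Opens) := by rw [hVcov]; trivial
    obtain ⟨j, hj⟩ := TopologicalSpace.Opens.mem_iSup.mp hx
    exact ⟨j, ⟨x, hj⟩, rfl⟩
  · intro j
    have hpb := isPullback_morphismRestrict (c.π.app k.left) (V j)
    refine IsPullback.of_iso hpb (ψ j).symm (Iso.refl _) (Iso.refl _) (Iso.refl _) ?_ ?_ ?_ ?_
    · show (c.π.app k.left ∣_ V j) ≫ 𝟙 _ = (ψ j).inv ≫ (ψ j).hom ≫ (c.π.app k.left ∣_ V j)
      rw [Category.comp_id, Iso.inv_hom_id_assoc]
    · show ((c.π.app k.left) ⁻¹ᵁ V j).ι ≫ 𝟙 _ = (ψ j).inv ≫ u (a j)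
      rw [Category.comp_id, ← hψ j, Iso.inv_hom_id_assoc]
    · show (V j).ι ≫ 𝟙 _ = 𝟙 _ ≫ (V j).ι
      rw [Category.comp_id, Category.id_comp]
    · show c.π.app k.left ≫ 𝟙 _ = 𝟙 _ ≫ c.π.app k.left
      rw [Category.comp_id, Category.id_comp]

end Groth.Agent.S20010
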