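import Groth.Statements.S20018
import Mathlib.Tactic
import Mathlib.RingTheory.PowerSeries.Trunc

set_option autoImplicit false
open CAlg

namespace Groth.Agent.S20018

section aux
open PowerSeries

variable {R : Type*} [CommRing R]

theorem coeff_mul_factor (P : PowerSeries R) (a : R) (n m : ℕ) :
    coeff m (P * (1 - C a * X ^ (n + 1))) =
      coeff m P - a * (if n + 1 ≤ m then coeff (m - (n + 1)) P else 0) := by
  have : P * (1 - C a * X ^ (n + 1)) = P - C a * (P * X ^ (n + 1)) := by ring
  rw [this, map_sub, coeff_C_mul, coeff_mul_X_pow']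

theorem trunc_eq_iff (n : ℕ) (a b : PowerSeries R) :
    trunc n a = trunc n b ↔ ∀ m < n, coeff m a = coeff m b := by
  constructor
  · intro h m hm
    have := congrArg (fun p => Polynomial.coeff p m) h
    simpa [coeff_trunc, hm] using this
  · intro h
    ext m
    rw [coeff_trunc, coeff_trunc]
    split_ifs with hm
    · exact h m hm
    · rfl

/-- the sequence of partial products -/
noncomputable def Pseq (x : PowerSeries R) : ℕ → PowerSeries R
  | 0 => 1
  | (N + 1) => Pseq x N * (1 - C (coeff (N + 1) (Pseq x N) - coeff (N + 1) x) * X ^ (N + 1))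

noncomputable def alpha (x : PowerSeries R) (N : ℕ) : R :=
  coeff (N + 1) (Pseq x N) - coeff (N + 1) x

theorem Pseq_succ (x : PowerSeries R) (N : ℕ) :
    Pseq x (N + 1) = Pseq x N * (1 - C (alpha x N) * X ^ (N + 1)) := rfl

theorem Pseq_eq_prod (x : PowerSeries R) (N : ℕ) :
    Pseq x N = ∏ i ∈ Finset.range N, (1 - C (alpha x i) * X ^ (i + 1) : PowerSeries R) := by
  induction N with
  | zero => simp [Pseq]
  | succ N ih => rw [Finset.prod_range_succ, ← ih, Pseq_succ]

theorem Pseq_inv (x : PowerSeries R) (hx : constantCoeff x = 1) (N : ℕ) :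
    ∀ m < N + 1, coeff m (Pseq x N) = coeff m x := by
  induction N with
  | zero =>
    intro m hm
    have : m = 0 := by omega
    subst this
    simp [Pseq, hx]
  | succ N ih =>
    intro m hm
    rw [Pseq_succ, coeff_mul_factor]
    by_cases h : N + 1 ≤ m
    · have hmeq : m = N + 1 := by omega
      subst hmeq
      have h0 : coeff 0 (Pseq x N) = 1 := by
        rw [ih 0 (by omega), coeff_zero_eq_constantCoeff_apply, hx]
      simp [h0, alpha]
    · rw [if_neg h, mul_zero, sub_zero]
      exact ih m (by omega)

end aux

open PowerSeries in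
/-- Product expansion of big Witt vectors: let R be a commutative ring and x ∈ 1 + tR[[t]] a formal
power series with constant term 1. Then x can be written uniquely as an infinite product ∏_{i ≥ 1}
(1 - α_i t^i) with α_i ∈ R. The infinite product is expressed through its truncations: there is a
unique sequence α : ℕ → R (α i standing for the coefficient attached to t^{i+1}) such that for every
N the series x and the finite product ∏_{i=0}^{N} (1 - α_i t^{i+1}) agree modulo t^{N+2}. -/
theorem result
    (R : Type*) [CommRing R] (x : PowerSeries R) (hx : PowerSeries.constantCoeff x = 1) :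
    ∃! α : ℕ → R, ∀ N : ℕ,
      PowerSeries.trunc (N + 2) x =
        PowerSeries.trunc (N + 2) (∏ i ∈ Finset.range (N + 1),
          (1 - PowerSeries.C (α i) * PowerSeries.X ^ (i + 1) : PowerSeries R)) := by
  refine ⟨alpha x, ?_, ?_⟩
  · intro N
    rw [trunc_eq_iff, ← Pseq_eq_prod]
    intro m hm
    exact (Pseq_inv x hx (N + 1) m hm).symm
  · intro β hβ
    funext N
    induction N using Nat.strong_induction_on with
    | _ N ih =>
      have hP : (∏ i ∈ Finset.range N, (1 - C (β i) * X ^ (i + 1) : PowerSeries R)) = Pseq x N := by
        rw [Pseq_eq_prod]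
        apply Finset.prod_congr rfl
        intro i hi
        rw [ih i (Finset.mem_range.mp hi)]
      have h1 := (trunc_eq_iff _ _ _).mp (hβ N) (N + 1) (by omega)
      rw [Finset.prod_range_succ, hP, coeff_mul_factor] at h1
      have h0 : coeff 0 (Pseq x N) = 1 := by
        rw [Pseq_inv x hx N 0 (by omega), coeff_zero_eq_constantCoeff_apply, hx]
      simp only [le_refl, if_true, Nat.sub_self, h0, mul_one] at h1
      unfold alpha
      rw [h1]; ring

end Groth.Agent.S20018
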