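import Groth.Statements.S20022
import Mathlib

set_option autoImplicit false
universe u
open GrLC

namespace Groth.Agent.S20022

open DirectSum

section
variable {R : Type u} [CommRing R] (𝒜 : ℤ → AddSubgroup R) [GradedRing 𝒜]
  {M : Type u} [AddCommGroup M] [Module R M] (ℳ : ℤ → AddSubgroup M)
  [DirectSum.Decomposition ℳ] [SetLike.GradedSMul 𝒜 ℳ]

theorem comp_smul (a : R) (m : M) (e : ℤ) (hm : m ∈ ℳ e) (k : ℤ) :
    (DirectSum.decompose ℳ (a • m) k : M) = (DirectSum.decompose 𝒜 a (k - e) : R) • m := by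
  classical
  have hmem : ∀ i, (DirectSum.decompose 𝒜 a i : R) • m ∈ ℳ (i + e) := by
    intro i
    have := SetLike.GradedSMul.smul_mem (A := 𝒜) (B := ℳ) (SetLike.coe_mem (DirectSum.decompose 𝒜 a i)) hm
    rwa [vadd_eq_add] at this
  conv_lhs => rw [← DirectSum.sum_support_decompose 𝒜 a, Finset.sum_smul, DirectSum.decompose_sum]
  rw [DFinsupp.finsetSum_apply, AddSubmonoidClass.coe_finsetSum]
  rw [Finset.sum_eq_single (k - e)]
  · have := hmem (k - e)
    rw [sub_add_cancel] at this
    exact DirectSum.decompose_of_mem_same ℳ this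
  · intro i _ hi
    exact DirectSum.decompose_of_mem_ne ℳ (hmem i) (fun h => hi (by omega))
  · intro hn
    rw [DFinsupp.notMem_support_iff] at hn
    rw [hn]
    simp

include 𝒜 in
theorem span_homog (H : Set M) (hH : ∀ h ∈ H, SetLike.IsHomogeneousElem ℳ h) (w : M)
    (hw : w ∈ Submodule.span R H) (k : ℤ) :
    (DirectSum.decompose ℳ w k : M) ∈ Submodule.span R H := by
  refine Submodule.closure_induction (p := fun w _ => (DirectSum.decompose ℳ w k : M) ∈ Submodule.span R H)
    ?_ ?_ ?_ hw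
  · simp
  · intro x y _ _ hx hy
    rw [DirectSum.decompose_add]
    exact Submodule.add_mem _ hx hy
  · intro r x hx
    obtain ⟨e, he⟩ := hH x hx
    rw [comp_smul 𝒜 ℳ r x e he k]
    exact Submodule.smul_mem _ _ (Submodule.subset_span hx)

theorem isUnit_of_homog (h0 : IsField (GrLC.deg0 𝒜))
    (d : ℤ) (T : Rˣ)
    (hA : ∀ (n : ℤ) (x : R), x ∈ 𝒜 n → x ≠ 0 →
      ∃ j : ℤ, ∃ a ∈ 𝒜 0, j * d = n ∧ x = a * ((T ^ j : Rˣ) : R))
    (n : ℤ) (x : R) (hx : x ∈ 𝒜 n) (hx0 : x ≠ 0) : IsUnit x := by
  obtain ⟨j, a, ha, -, rfl⟩ := hA n x hx hx0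
  refine IsUnit.mul ?_ (Units.isUnit _)
  have ha0 : (⟨a, ha⟩ : GrLC.deg0 𝒜) ≠ 0 := by
    intro h
    apply hx0
    have : a = 0 := congrArg Subtype.val h
    rw [this, zero_mul]
  obtain ⟨b, hb⟩ := h0.mul_inv_cancel ha0
  have hb' : a * (b : R) = 1 := congrArg Subtype.val hb
  exact IsUnit.of_mul_eq_one _ hb'

end

/-- Let R be a commutative ℤ-graded ring whose degree-zero subring R_0 is a field k and which is the
Laurent polynomial ring k[T, T⁻¹] on a homogeneous invertible element T of positive degree d, in the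
following intrinsic sense: T is a unit lying in R_d, and every nonzero homogeneous element of degree
n equals a·T^j for some a ∈ R_0 and some integer j with j·d = n (so R_n = 0 unless d divides n, and
R_{jd} = k·T^j). Then every graded R-module M is free in the graded sense: M has an R-basis
consisting of homogeneous elements. (The other case of condition (2), R = k concentrated in degree
zero, is not included.) -/
theorem result (R : Type u) [CommRing R]
    (𝒜 : ℤ → AddSubgroup R) [GradedRing 𝒜] (h0 : IsField (GrLC.deg0 𝒜))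
    (d : ℤ) (hd : 0 < d) (T : Rˣ) (hT : (T : R) ∈ 𝒜 d)
    (hA : ∀ (n : ℤ) (x : R), x ∈ 𝒜 n → x ≠ 0 →
      ∃ j : ℤ, ∃ a ∈ 𝒜 0, j * d = n ∧ x = a * ((T ^ j : Rˣ) : R))
    (M : Type u) [AddCommGroup M] [Module R M] (ℳ : ℤ → AddSubgroup M)
    [DirectSum.Decomposition ℳ] [SetLike.GradedSMul 𝒜 ℳ] :
    ∃ (κ : Type u) (b : Module.Basis κ R M), ∀ i : κ, SetLike.IsHomogeneousElem ℳ (b i) := by
  classical
  let ι := {m : M // SetLike.IsHomogeneousElem ℳ m}
  let v : ι → M := Subtype.val
  obtain ⟨s, hli, hmax⟩ := exists_maximal_linearIndepOn R v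
  have hH : ∀ h ∈ v '' s, SetLike.IsHomogeneousElem ℳ h := by
    rintro _ ⟨i, _, rfl⟩
    exact i.2
  have hall : ∀ i : ι, v i ∈ Submodule.span R (v '' s) := by
    intro i
    by_cases his : i ∈ s
    · exact Submodule.subset_span ⟨i, his, rfl⟩
    · obtain ⟨a, ha0, ha⟩ := hmax i his
      obtain ⟨e, he⟩ := i.2
      have hne : DirectSum.decompose 𝒜 a ≠ 0 := by
        intro h
        apply ha0
        have := congrArg (DirectSum.decompose 𝒜).symm h
        simpa using this
      obtain ⟨n, hn⟩ : ∃ n, (DirectSum.decompose 𝒜 a n : R) ≠ 0 := by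
        by_contra hcon
        push_neg at hcon
        apply hne
        ext n
        simpa using hcon n
      have h1 := span_homog 𝒜 ℳ (v '' s) hH (a • v i) ha (n + e)
      rw [comp_smul 𝒜 ℳ a (v i) e he (n + e), add_sub_cancel_right] at h1
      obtain ⟨u, hu⟩ := isUnit_of_homog 𝒜 h0 d T hA n _ (SetLike.coe_mem _) hn
      have : v i = (↑u⁻¹ : R) • ((DirectSum.decompose 𝒜 a n : R) • v i) := by
        rw [← hu, smul_smul, Units.inv_mul, one_smul]
      rw [this]
      exact Submodule.smul_mem _ _ h1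
  have htop : ⊤ ≤ Submodule.span R (Set.range (fun x : s => v x)) := by
    have hr : Set.range (fun x : s => v x) = v '' s := by
      ext m; simp
    rw [hr]
    intro m _
    rw [← DirectSum.sum_support_decompose ℳ m]
    refine Submodule.sum_mem _ fun k _ => ?_
    exact hall ⟨_, k, SetLike.coe_mem _⟩
  have hli' : LinearIndependent R (fun x : s => v x) := hli
  refine ⟨s, Module.Basis.mk hli' htop, fun i => ?_⟩
  rw [Module.Basis.mk_apply]
  exact i.1.2

end Groth.Agent.S20022
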