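import Groth.Statements.S20025
import Mathlib

set_option autoImplicit false
universe u
open InvQ

namespace Groth.Agent.S20025

open MvPolynomial W4c6intromoduli

lemma prop_scalar {k : Type u} [Field k] {a b a' b' : k} (h : a ≠ 0 ∨ b ≠ 0)
    (h' : a' ≠ 0 ∨ b' ≠ 0) (hp : a' * b = a * b') : ∃ t : k, t ≠ 0 ∧ a' = t * a ∧ b' = t * b := by
  by_cases ha : a = 0
  · have hb : b ≠ 0 := h.resolve_left (not_not.mpr ha)
    rw [ha, zero_mul] at hp
    have ha' : a' = 0 := (mul_eq_zero.mp hp).resolve_right hb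
    have hb' : b' ≠ 0 := h'.resolve_left (not_not.mpr ha')
    refine ⟨b' / b, div_ne_zero hb' hb, by rw [ha, ha', mul_zero], by field_simp⟩
  · have ha' : a' ≠ 0 := by
      intro h0
      rw [h0, zero_mul] at hp
      have hb' : b' = 0 := (mul_eq_zero.mp hp.symm).resolve_left ha
      exact h'.elim (fun h => h h0) (fun h => h hb')
    refine ⟨a' / a, div_ne_zero ha' ha, by field_simp, ?_⟩
    field_simp
    linear_combination -hp

lemma subst_A {k : Type u} [Field k] (M : Matrix (Fin 2) (Fin 2) k) :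
    subst M (X 0 ^ 2 * X 1 * (X 0 - X 1) : MvPolynomial (Fin 2) k) =
      (C (M 0 0) * X 0 + C (M 0 1) * X 1) ^ 2 * (C (M 1 0) * X 0 + C (M 1 1) * X 1) *
        ((C (M 0 0) * X 0 + C (M 0 1) * X 1) - (C (M 1 0) * X 0 + C (M 1 1) * X 1)) := by
  simp [subst, Fin.sum_univ_two]

lemma subst_B {k : Type u} [Field k] (M : Matrix (Fin 2) (Fin 2) k) :
    subst M (X 0 ^ 2 * X 1 ^ 2 : MvPolynomial (Fin 2) k) =
      (C (M 0 0) * X 0 + C (M 0 1) * X 1) ^ 2 * (C (M 1 0) * X 0 + C (M 1 1) * X 1) ^ 2 := by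
  simp [subst, Fin.sum_univ_two]

/-- the existence part, for an explicit enumeration `i, j, l, m` of the four indices -/
lemma core {k : Type u} [Field k] (la mu : Fin 4 → k) (hne : ∀ i, la i ≠ 0 ∨ mu i ≠ 0)
    (i j l m : Fin 4)
    (hprod : binForm la mu =
      (C (mu i) * X 0 - C (la i) * X 1) * (C (mu j) * X 0 - C (la j) * X 1) *
        (C (mu l) * X 0 - C (la l) * X 1) * (C (mu m) * X 0 - C (la m) * X 1))
    (hij : la j * mu i = la i * mu j) (hil : ¬ la i * mu l = la l * mu i)
    (him : ¬ la i * mu m = la m * mu i) :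
    (∃ (M : Matrix (Fin 2) (Fin 2) k) (c : k), IsUnit M.det ∧ c ≠ 0 ∧
        binForm la mu = C c * subst M (X 0 ^ 2 * X 1 * (X 0 - X 1))) ∨
      (∃ (M : Matrix (Fin 2) (Fin 2) k) (c : k), IsUnit M.det ∧ c ≠ 0 ∧
        binForm la mu = C c * subst M (X 0 ^ 2 * X 1 ^ 2)) := by
  obtain ⟨t, ht, hlj, hmj⟩ := prop_scalar (hne i) (hne j) hij
  by_cases hlm : la m * mu l = la l * mu m
  · right
    obtain ⟨s, hs, hlm', hmm'⟩ := prop_scalar (hne l) (hne m) hlm
    refine ⟨!![mu i, -la i; mu l, -la l], t * s, ?_, mul_ne_zero ht hs, ?_⟩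
    · rw [Matrix.det_fin_two_of, isUnit_iff_ne_zero]
      intro h0
      apply hil
      linear_combination h0
    · rw [hprod, subst_B, hlj, hmj, hlm', hmm']
      simp only [Matrix.of_apply, Matrix.cons_val', Matrix.cons_val_zero, Matrix.cons_val_one,
        Matrix.cons_val_fin_one, map_mul, map_neg]
      ring
  · left
    set α : k := la l * mu m - mu l * la m with hα
    set β : k := la m * mu i - mu m * la i with hβ
    set γ : k := la i * mu l - mu i * la l with hγ
    have hα0 : α ≠ 0 := by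
      intro h0
      apply hlm
      linear_combination -h0
    have hβ0 : β ≠ 0 := by
      intro h0
      apply him
      linear_combination -h0
    have hγ0 : γ ≠ 0 := by
      intro h0
      apply hil
      linear_combination h0
    refine ⟨!![α * mu i, -(α * la i); -(β * mu l), β * la l], t / (α ^ 2 * β * γ), ?_,
      div_ne_zero ht (mul_ne_zero (mul_ne_zero (pow_ne_zero _ hα0) hβ0) hγ0), ?_⟩
    · rw [Matrix.det_fin_two_of, isUnit_iff_ne_zero]
      have : α * mu i * (β * la l) - -(α * la i) * -(β * mu l) = -(α * β * γ) := by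
        rw [hγ]; ring
      rw [this]
      exact neg_ne_zero.mpr (mul_ne_zero (mul_ne_zero hα0 hβ0) hγ0)
    · have hk : t / (α ^ 2 * β * γ) * α ^ 2 * β * γ = t := by field_simp
      have hC := congrArg (C (σ := Fin 2)) hk
      rw [hprod, subst_A, hlj, hmj]
      simp only [Matrix.of_apply, Matrix.cons_val', Matrix.cons_val_zero, Matrix.cons_val_one,
        Matrix.cons_val_fin_one, map_mul, map_neg, map_pow] at hC ⊢
      rw [hα, hβ, hγ] at hC ⊢
      simp only [map_sub, map_mul] at hC ⊢
      linear_combination (-((C (mu i) * X 0 - C (la i) * X 1) ^ 2 *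
        (C (mu l) * X 0 - C (la l) * X 1) * (C (mu m) * X 0 - C (la m) * X 1))) * hC

lemma core' {k : Type u} [Field k] (la mu : Fin 4 → k) (hne : ∀ i, la i ≠ 0 ∨ mu i ≠ 0)
    (h3z : ∀ i j l : Fin 4, i ≠ j → j ≠ l → i ≠ l →
      ¬ (la i * mu j = la j * mu i ∧ la j * mu l = la l * mu j))
    (i j l m : Fin 4) (hijne : i ≠ j) (hli : l ≠ i) (hlj : l ≠ j) (hmi : m ≠ i) (hmj : m ≠ j)
    (hprod : binForm la mu =
      (C (mu i) * X 0 - C (la i) * X 1) * (C (mu j) * X 0 - C (la j) * X 1) *
        (C (mu l) * X 0 - C (la l) * X 1) * (C (mu m) * X 0 - C (la m) * X 1))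
    (hij : la j * mu i = la i * mu j) :
    (∃ (M : Matrix (Fin 2) (Fin 2) k) (c : k), IsUnit M.det ∧ c ≠ 0 ∧
        binForm la mu = C c * subst M (X 0 ^ 2 * X 1 * (X 0 - X 1))) ∨
      (∃ (M : Matrix (Fin 2) (Fin 2) k) (c : k), IsUnit M.det ∧ c ≠ 0 ∧
        binForm la mu = C c * subst M (X 0 ^ 2 * X 1 ^ 2)) :=
  core la mu hne i j l m hprod hij
    (fun h => h3z l i j hli hijne hlj ⟨h.symm, hij.symm⟩)
    (fun h => h3z m i j hmi hijne hmj ⟨h.symm, hij.symm⟩)

lemma not_both {k : Type u} [Field k] (f : MvPolynomial (Fin 2) k)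
    (hA : ∃ (M : Matrix (Fin 2) (Fin 2) k) (c : k), IsUnit M.det ∧ c ≠ 0 ∧
        f = C c * subst M (X 0 ^ 2 * X 1 * (X 0 - X 1)))
    (hB : ∃ (M : Matrix (Fin 2) (Fin 2) k) (c : k), IsUnit M.det ∧ c ≠ 0 ∧
        f = C c * subst M (X 0 ^ 2 * X 1 ^ 2)) : False := by
  obtain ⟨M, c, hM, hc, hf⟩ := hA
  obtain ⟨M', c', hM', hc', hf'⟩ := hB
  have heq := hf.symm.trans hf'
  rw [subst_A, subst_B] at heq
  have E : ∀ x0 x1 : k, c * ((M 0 0 * x0 + M 0 1 * x1) ^ 2 * (M 1 0 * x0 + M 1 1 * x1) *
      ((M 0 0 * x0 + M 0 1 * x1) - (M 1 0 * x0 + M 1 1 * x1))) =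
      c' * ((M' 0 0 * x0 + M' 0 1 * x1) ^ 2 * (M' 1 0 * x0 + M' 1 1 * x1) ^ 2) := by
    intro x0 x1
    have := congrArg (MvPolynomial.eval ![x0, x1]) heq
    simpa using this
  rw [Matrix.det_fin_two, isUnit_iff_ne_zero] at hM hM'
  set z10 := M' 0 0 * M 1 1 + M' 0 1 * (-(M 1 0)) with hz10
  set z11 := M' 1 0 * M 1 1 + M' 1 1 * (-(M 1 0)) with hz11
  set z20 := M' 0 0 * (-(M 0 1)) + M' 0 1 * M 0 0 with hz20
  set z21 := M' 1 0 * (-(M 0 1)) + M' 1 1 * M 0 0 with hz21
  have sq : ∀ u v : k, c' * (u ^ 2 * v ^ 2) = 0 → u * v = 0 := by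
    intro u v h
    have h1 := (mul_eq_zero.mp h).resolve_left hc'
    have h2 : (u * v) ^ 2 = 0 := by linear_combination h1
    exact pow_eq_zero_iff (two_ne_zero) |>.mp h2
  have e1 : z10 * z11 = 0 := by
    apply sq
    rw [hz10, hz11, ← E (M 1 1) (-(M 1 0))]
    ring
  have e2 : z20 * z21 = 0 := by
    apply sq
    rw [hz20, hz21, ← E (-(M 0 1)) (M 0 0)]
    ring
  have e3 : (z10 + z20) * (z11 + z21) = 0 := by
    apply sq
    have := E (M 1 1 + -(M 0 1)) (-(M 1 0) + M 0 0)
    have h2 : c' * ((z10 + z20) ^ 2 * (z11 + z21) ^ 2) =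
        c' * ((M' 0 0 * (M 1 1 + -(M 0 1)) + M' 0 1 * (-(M 1 0) + M 0 0)) ^ 2 *
          (M' 1 0 * (M 1 1 + -(M 0 1)) + M' 1 1 * (-(M 1 0) + M 0 0)) ^ 2) := by
      rw [hz10, hz11, hz20, hz21]; ring
    rw [h2, ← this]
    ring
  have hD : z10 * z21 - z11 * z20 =
      (M' 0 0 * M' 1 1 - M' 0 1 * M' 1 0) * (M 0 0 * M 1 1 - M 0 1 * M 1 0) := by
    rw [hz10, hz11, hz20, hz21]; ring
  have hD0 : z10 * z21 - z11 * z20 ≠ 0 := by
    rw [hD]; exact mul_ne_zero hM' hM
  have hD2 : (z10 * z21 - z11 * z20) ^ 2 = 0 := by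
    linear_combination (z10 * z21 + z11 * z20) * e3 - (z10 * z21 + z11 * z20) * e1
      - (z10 * z21 + z11 * z20) * e2 - 4 * (z20 * z21) * e1
  exact hD0 (pow_eq_zero_iff (two_ne_zero) |>.mp hD2)

/-- For the special fibre of the invariant map, over a field in which 2 and 3 are nonzero, consider a
split binary quartic f = ∏_i (μ_i X₀ − λ_i X₁) given by four root points (λ_i, μ_i) ≠ (0, 0), with a
double zero (vanishing discriminant ∏_{i<j} (λ_j μ_i − λ_i μ_j)²) and no triple zero (no three root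
points pairwise proportional); these are the forms of the fibre over the special point P³/Q² = 6 of
the invariant map. Then exactly one of the two alternatives holds: f is a nonzero constant times the
form X₀² X₁ (X₀ − X₁) after an invertible linear substitution of the variables, or f is a nonzero
constant times X₀² X₁² after such a substitution. So this fibre consists of exactly two classes
under substitutions and scalars (one double zero and two simple zeros; two double zeros). (The
dimensions of the two orbits and which of them is open or closed in the fibre are not part of this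
row; stated for split forms over any such field.) -/
theorem result (k : Type u) [Field k]
    (h2 : (2 : k) ≠ 0) (h3 : (3 : k) ≠ 0) (la mu : Fin 4 → k)
    (hne : ∀ i, la i ≠ 0 ∨ mu i ≠ 0) (hd : W4c6intromoduli.disc la mu = 0)
    (h3z : ∀ i j l : Fin 4, i ≠ j → j ≠ l → i ≠ l →
      ¬ (la i * mu j = la j * mu i ∧ la j * mu l = la l * mu j)) :
    Xor
      (∃ (M : Matrix (Fin 2) (Fin 2) k) (c : k), IsUnit M.det ∧ c ≠ 0 ∧
        W4c6intromoduli.binForm la mu =
          MvPolynomial.C c * W4c6intromoduli.subst M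
            (MvPolynomial.X 0 ^ 2 * MvPolynomial.X 1 * (MvPolynomial.X 0 - MvPolynomial.X 1)))
      (∃ (M : Matrix (Fin 2) (Fin 2) k) (c : k), IsUnit M.det ∧ c ≠ 0 ∧
        W4c6intromoduli.binForm la mu =
          MvPolynomial.C c * W4c6intromoduli.subst M
            (MvPolynomial.X 0 ^ 2 * MvPolynomial.X 1 ^ 2)) := by
  have hex : (∃ (M : Matrix (Fin 2) (Fin 2) k) (c : k), IsUnit M.det ∧ c ≠ 0 ∧
        W4c6intromoduli.binForm la mu =
          MvPolynomial.C c * W4c6intromoduli.subst M
            (MvPolynomial.X 0 ^ 2 * MvPolynomial.X 1 * (MvPolynomial.X 0 - MvPolynomial.X 1))) ∨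
      (∃ (M : Matrix (Fin 2) (Fin 2) k) (c : k), IsUnit M.det ∧ c ≠ 0 ∧
        W4c6intromoduli.binForm la mu =
          MvPolynomial.C c * W4c6intromoduli.subst M
            (MvPolynomial.X 0 ^ 2 * MvPolynomial.X 1 ^ 2)) := by
    unfold W4c6intromoduli.disc at hd
    rw [Finset.prod_eq_zero_iff] at hd
    obtain ⟨⟨i, j⟩, hmem, h0⟩ := hd
    rw [Finset.mem_filter] at hmem
    have hlt : i < j := hmem.2
    have hij : la j * mu i = la i * mu j := by
      have := pow_eq_zero_iff (two_ne_zero) |>.mp h0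
      linear_combination this
    clear hmem h0
    fin_cases i <;> fin_cases j <;> first
      | exact absurd hlt (by decide)
      | exact core' la mu hne h3z 0 1 2 3 (by decide) (by decide) (by decide) (by decide)
          (by decide) (by simp only [W4c6intromoduli.binForm, Fin.prod_univ_four]) hij
      | exact core' la mu hne h3z 0 2 1 3 (by decide) (by decide) (by decide) (by decide)
          (by decide) (by simp only [W4c6intromoduli.binForm, Fin.prod_univ_four]; ring) hij
      | exact core' la mu hne h3z 0 3 1 2 (by decide) (by decide) (by decide) (by decide)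
          (by decide) (by simp only [W4c6intromoduli.binForm, Fin.prod_univ_four]; ring) hij
      | exact core' la mu hne h3z 1 2 0 3 (by decide) (by decide) (by decide) (by decide)
          (by decide) (by simp only [W4c6intromoduli.binForm, Fin.prod_univ_four]; ring) hij
      | exact core' la mu hne h3z 1 3 0 2 (by decide) (by decide) (by decide) (by decide)
          (by decide) (by simp only [W4c6intromoduli.binForm, Fin.prod_univ_four]; ring) hij
      | exact core' la mu hne h3z 2 3 0 1 (by decide) (by decide) (by decide) (by decide)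
          (by decide) (by simp only [W4c6intromoduli.binForm, Fin.prod_univ_four]; ring) hij
  rcases hex with hA | hB
  · exact Or.inl ⟨hA, fun hB => not_both _ hA hB⟩
  · exact Or.inr ⟨hB, fun hA => not_both _ hA hB⟩

end Groth.Agent.S20025
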