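import Groth.Statements.S2007
import Mathlib
import Groth.Agent.Lib.helper3.FormalGlue
-- import your own Groth.Agent.* helpers here

set_option autoImplicit false
universe u
open TensorProduct
open EtAlg

namespace Groth.Agent.S2007

open TensorProduct in
theorem ext_one_tmul {R S M P : Type*} [CommRing R] [CommRing S] [Algebra R S]
    [AddCommGroup M] [Module R M] [AddCommGroup P] [Module R P] [Module S P] [IsScalarTower R S P]
    (g g' : S ⊗[R] M →ₗ[S] P) (h : ∀ m : M, g ((1 : S) ⊗ₜ[R] m) = g' ((1 : S) ⊗ₜ[R] m)) : g = g' := by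
  apply TensorProduct.AlgebraTensorModule.ext
  intro s m
  have : s ⊗ₜ[R] m = s • ((1 : S) ⊗ₜ[R] m) := by
    rw [TensorProduct.smul_tmul', smul_eq_mul, mul_one]
  rw [this, map_smul, map_smul, h]

open TensorProduct in
theorem main (R S : Type u) [CommRing R] [CommRing S] [Algebra R S] [Module.Flat R S] (I : Ideal R)
    (h1 : LinearMap.range (Algebra.linearMap R S) ⊔ I • (⊤ : Submodule R S) = ⊤)
    (h2 : ∀ r, algebraMap R S r ∈ I • (⊤ : Submodule R S) → r ∈ I)
    (N : Type u) [AddCommGroup N] [Module R N] (M' : Type u) [AddCommGroup M'] [Module S M']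
    [Module R M'] [IsScalarTower R S M']
    (φ : M' →ₗ[S] S ⊗[R] N)
    (hker : ∀ x : M', φ x = 0 → ∃ n : ℕ, ∀ a ∈ I ^ n, a • x = 0)
    (hcoker : ∀ y : S ⊗[R] N, ∃ n : ℕ, ∀ a ∈ I ^ n, a • y ∈ LinearMap.range φ) :
    ∃ (M : Submodule R (M' × N)) (e : S ⊗[R] M ≃ₗ[S] M'),
      φ ∘ₗ e.toLinearMap = (LinearMap.snd R M' N ∘ₗ M.subtype).baseChange S := by
  classical
  let α : (M' × N) →ₗ[R] S ⊗[R] N :=
    (φ.restrictScalars R) ∘ₗ LinearMap.fst R M' N - (TensorProduct.mk R S N 1) ∘ₗ LinearMap.snd R M' N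
  let M : Submodule R (M' × N) := LinearMap.ker α
  have hMmem : ∀ p : M' × N, p ∈ M ↔ φ p.1 = (1 : S) ⊗ₜ[R] p.2 := by
    intro p
    simp only [M, α, LinearMap.mem_ker, LinearMap.sub_apply, LinearMap.comp_apply,
      LinearMap.fst_apply, LinearMap.snd_apply, LinearMap.restrictScalars_apply,
      TensorProduct.mk_apply, sub_eq_zero]
  let ψ : M →ₗ[R] N := LinearMap.snd R M' N ∘ₗ M.subtype
  let pr : M →ₗ[R] M' := LinearMap.fst R M' N ∘ₗ M.subtype
  let e₀ : S ⊗[R] M →ₗ[S] M' := pr.liftBaseChange S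
  have hcomm : φ ∘ₗ e₀ = ψ.baseChange S := by
    apply ext_one_tmul
    intro m
    rw [LinearMap.comp_apply, LinearMap.liftBaseChange_tmul, one_smul, LinearMap.baseChange_tmul]
    exact (hMmem m.1).mp m.2
  have hcomm' : ∀ t, φ (e₀ t) = ψ.lTensor S t := fun t => LinearMap.congr_fun hcomm t
  -- injectivity
  have hinj : Function.Injective e₀ := by
    rw [injective_iff_map_eq_zero]
    intro t ht
    have h3 : (ψ.lTensor S) t = 0 := by
      rw [← hcomm', ht, map_zero]
    have hex := Module.Flat.lTensor_exact S (N := LinearMap.ker ψ) (N' := M) (N'' := N)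
      (f := (LinearMap.ker ψ).subtype) (g := ψ) (LinearMap.exact_subtype_ker_map ψ)
    obtain ⟨w, hw⟩ := (hex t).mp h3
    have hK : ∀ k : LinearMap.ker ψ, ∃ n : ℕ, ∀ a ∈ I ^ n, a • k = 0 := by
      intro k
      have hk2 : (k.1.1).2 = 0 := k.2
      have hx : φ (k.1.1).1 = 0 := by
        rw [(hMmem k.1.1).mp k.1.2, hk2, TensorProduct.tmul_zero]
      obtain ⟨n, hn⟩ := hker _ hx
      refine ⟨n, fun a ha => ?_⟩
      apply Subtype.ext
      apply Subtype.ext
      refine Prod.ext ?_ ?_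
      · exact hn a ha
      · change a • (k.1.1).2 = 0
        rw [hk2, smul_zero]
    obtain ⟨k, hk⟩ := Groth.Agent.Lib.helper3.FormalGlue.mk_surjective_of_torsion (S := S)
      (M := LinearMap.ker ψ) I h1 hK w
    have ht' : t = (1 : S) ⊗ₜ[R] (k : M) := by
      rw [← hw, ← hk, TensorProduct.mk_apply, LinearMap.lTensor_tmul]
      rfl
    rw [ht', LinearMap.liftBaseChange_tmul, one_smul] at ht
    have hk0 : (k : M) = 0 := by
      apply Subtype.ext
      exact Prod.ext ht k.2
    rw [ht', hk0, TensorProduct.tmul_zero]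
  -- surjectivity
  have hsurj : Function.Surjective e₀ := by
    let π : S ⊗[R] N →ₗ[S] (S ⊗[R] N) ⧸ LinearMap.range φ := (LinearMap.range φ).mkQ
    let ν : N →ₗ[R] (S ⊗[R] N) ⧸ LinearMap.range φ :=
      (π.restrictScalars R) ∘ₗ (TensorProduct.mk R S N 1)
    have hQ : ∀ q : (S ⊗[R] N) ⧸ LinearMap.range φ, ∃ n : ℕ, ∀ a ∈ I ^ n, a • q = 0 := by
      intro q
      obtain ⟨y, rfl⟩ := Submodule.Quotient.mk_surjective _ q
      obtain ⟨n, hn⟩ := hcoker y
      refine ⟨n, fun a ha => ?_⟩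
      rw [← Submodule.Quotient.mk_smul, Submodule.Quotient.mk_eq_zero]
      exact hn a ha
    let μ : S ⊗[R] ((S ⊗[R] N) ⧸ LinearMap.range φ) →ₗ[S] (S ⊗[R] N) ⧸ LinearMap.range φ :=
      (LinearMap.id : ((S ⊗[R] N) ⧸ LinearMap.range φ) →ₗ[R] _).liftBaseChange S
    have hμ : Function.Injective μ := by
      have hb := Groth.Agent.Lib.helper3.FormalGlue.mk_bijective_of_torsion (S := S) I h1 h2 hQ
      intro a b hab
      obtain ⟨a', rfl⟩ := hb.2 a
      obtain ⟨b', rfl⟩ := hb.2 b
      rw [TensorProduct.mk_apply, TensorProduct.mk_apply, LinearMap.liftBaseChange_tmul,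
        LinearMap.liftBaseChange_tmul, one_smul, one_smul] at hab
      rw [show a' = b' from hab]
    have hμν : ∀ y, μ (ν.lTensor S y) = π y := by
      intro y
      induction y using TensorProduct.induction_on with
      | zero => simp
      | tmul s n =>
        rw [LinearMap.lTensor_tmul, LinearMap.liftBaseChange_tmul]
        change s • π ((1 : S) ⊗ₜ[R] n) = π (s ⊗ₜ[R] n)
        rw [← map_smul, TensorProduct.smul_tmul', smul_eq_mul, mul_one]
      | add a b ha hb => simp only [map_add, ha, hb]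
    have hexν := Module.Flat.lTensor_exact S (LinearMap.exact_subtype_ker_map ν)
    have hνψ : ∀ m : M, ψ m ∈ LinearMap.ker ν := by
      intro m
      rw [LinearMap.mem_ker]
      change π ((1 : S) ⊗ₜ[R] (m.1).2) = 0
      rw [← (hMmem m.1).mp m.2]
      exact (Submodule.Quotient.mk_eq_zero _).mpr ⟨_, rfl⟩
    let ψ' : M →ₗ[R] LinearMap.ker ν := ψ.codRestrict _ hνψ
    have hψ' : Function.Surjective ψ' := by
      rintro ⟨n, hn⟩
      have h4 : (1 : S) ⊗ₜ[R] n ∈ LinearMap.range φ := by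
        rw [← Submodule.Quotient.mk_eq_zero]
        exact hn
      obtain ⟨x, hx⟩ := h4
      exact ⟨⟨(x, n), (hMmem _).mpr hx⟩, Subtype.ext rfl⟩
    have stepA : ∀ x : M', ∃ t : S ⊗[R] M, φ (e₀ t) = φ x := by
      intro x
      have h3 : ν.lTensor S (φ x) = 0 := by
        apply hμ
        rw [hμν, map_zero]
        exact (Submodule.Quotient.mk_eq_zero _).mpr ⟨x, rfl⟩
      obtain ⟨w, hw⟩ := (hexν (φ x)).mp h3
      obtain ⟨t, ht⟩ := LinearMap.lTensor_surjective S hψ' w
      refine ⟨t, ?_⟩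
      rw [hcomm', ← hw, ← ht, ← LinearMap.comp_apply, ← LinearMap.lTensor_comp]
      rfl
    intro x
    obtain ⟨t, ht⟩ := stepA x
    have hk : φ (x - e₀ t) = 0 := by rw [map_sub, ht, sub_self]
    let m0 : M := ⟨(x - e₀ t, 0), (hMmem _).mpr (by rw [hk, TensorProduct.tmul_zero])⟩
    refine ⟨t + (1 : S) ⊗ₜ[R] m0, ?_⟩
    rw [map_add, LinearMap.liftBaseChange_tmul, one_smul]
    change e₀ t + (x - e₀ t) = x
    abel
  exact ⟨M, LinearEquiv.ofBijective e₀ ⟨hinj, hsurj⟩, hcomm⟩

/-- Let R -> S be a flat ring map and I a finitely generated ideal of R such that R/I -> S/IS is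
bijective. Let N be an R-module, M' an S-module and φ : M' -> S ⊗_R N an S-linear map whose kernel
and cokernel are I-power torsion (every element of the kernel, resp. of the target modulo the image,
is killed by some power of I). Then there are an R-module M, an R-linear map ψ : M -> N and an
S-isomorphism S ⊗_R M ≅ M' identifying φ with the base change of ψ. -/
theorem result (R S : Type u) [CommRing R] [CommRing S] [Algebra R S] [Module.Flat R S] (I : Ideal R)
    (hI : I.FG) (hq : Function.Bijective (Ideal.quotientMap (I.map (algebraMap R S)) (algebraMap R S) Ideal.le_comap_map))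
    (N : Type u) [AddCommGroup N] [Module R N] (M' : Type u) [AddCommGroup M'] [Module S M'] (φ : M' →ₗ[S] S ⊗[R] N)
    (hker : ∀ x : M', φ x = 0 → ∃ n : ℕ, ∀ a ∈ I ^ n, algebraMap R S a • x = 0)
    (hcoker : ∀ y : S ⊗[R] N, ∃ n : ℕ, ∀ a ∈ I ^ n, algebraMap R S a • y ∈ LinearMap.range φ) :
    ∃ (M : Type u) (_ : AddCommGroup M) (_ : Module R M) (ψ : M →ₗ[R] N) (e : S ⊗[R] M ≃ₗ[S] M'),
      φ ∘ₗ e.toLinearMap = ψ.baseChange S := by
  obtain ⟨h1, h2⟩ := Groth.Agent.Lib.helper3.FormalGlue.hyps_of_quotientMap_bijective I hq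
  letI : Module R M' := Module.compHom M' (algebraMap R S)
  haveI : IsScalarTower R S M' := IsScalarTower.of_algebraMap_smul (fun r x => rfl)
  obtain ⟨M, e, he⟩ := main R S I h1 h2 N M' φ
    (fun x hx => by
      obtain ⟨n, hn⟩ := hker x hx
      exact ⟨n, fun a ha => hn a ha⟩)
    (fun y => by
      obtain ⟨n, hn⟩ := hcoker y
      refine ⟨n, fun a ha => ?_⟩
      rw [← algebraMap_smul S a y]
      exact hn a ha)
  exact ⟨M, inferInstance, inferInstance, LinearMap.snd R M' N ∘ₗ M.subtype, e, he⟩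

end Groth.Agent.S2007
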