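import Groth.Statements.S2008
import Mathlib
-- import your own Groth.Agent.* helpers here

set_option autoImplicit false
universe u
open TensorProduct
open EtAlg

namespace Groth.Agent.S2008

theorem flat_quot (R S : Type u) [CommRing R] [CommRing S] [Algebra R S] (I : Ideal R)
    [Module.Flat R S] : Module.Flat (R ⧸ I) (S ⧸ I.map (algebraMap R S)) :=
  Module.Flat.of_linearEquiv
    (Algebra.TensorProduct.quotIdealMapEquivQuotTensor S I).toLinearEquiv

theorem map_map_eq (R S : Type u) [CommRing R] [CommRing S] [Algebra R S] (I : Ideal R)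
    (𝔪 : Ideal R) :
    (𝔪.map (Ideal.Quotient.mk I)).map (algebraMap (R ⧸ I) (S ⧸ I.map (algebraMap R S))) =
      (𝔪.map (algebraMap R S)).map (Ideal.Quotient.mk (I.map (algebraMap R S))) := by
  rw [Ideal.map_map, Ideal.map_map]
  congr 1

theorem key (R S : Type u) [CommRing R] [CommRing S] [Algebra R S] (I : Ideal R)
    (𝔪 : Ideal R) (hI : I ≤ 𝔪) :
    (𝔪.map (Ideal.Quotient.mk I)).map (algebraMap (R ⧸ I) (S ⧸ I.map (algebraMap R S))) = ⊤ ↔
      𝔪.map (algebraMap R S) = ⊤ := by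
  rw [map_map_eq]
  constructor
  · intro h
    have h2 := congrArg (Ideal.comap (Ideal.Quotient.mk (I.map (algebraMap R S)))) h
    rw [Ideal.comap_map_of_surjective _ Ideal.Quotient.mk_surjective, Ideal.comap_top,
      ← RingHom.ker_eq_comap_bot, Ideal.mk_ker] at h2
    rw [← h2]
    exact (sup_eq_left.mpr (Ideal.map_mono hI)).symm
  · intro h
    rw [h]
    exact Ideal.map_top _

theorem ff_iff (R S : Type u) [CommRing R] [CommRing S] [Algebra R S] (I : Ideal R)
    [Module.Flat R S] :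
    Module.FaithfullyFlat (R ⧸ I) (S ⧸ I.map (algebraMap R S)) ↔
      ∀ 𝔪 : Ideal R, 𝔪.IsMaximal → I ≤ 𝔪 → 𝔪.map (algebraMap R S) ≠ ⊤ := by
  have hfl := flat_quot R S I
  have hsm : ∀ 𝔫 : Ideal (R ⧸ I), 𝔫 • (⊤ : Submodule (R ⧸ I) (S ⧸ I.map (algebraMap R S))) = ⊤ ↔
      𝔫.map (algebraMap (R ⧸ I) (S ⧸ I.map (algebraMap R S))) = ⊤ := by
    intro 𝔫
    rw [Ideal.smul_top_eq_map, Submodule.restrictScalars_eq_top_iff]
  constructor
  · intro hff 𝔪 h𝔪 hI h
    have h1 := (key R S I 𝔪 hI).mpr h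
    have hne : 𝔪.map (Ideal.Quotient.mk I) ≠ ⊤ := by
      intro h3
      have h2 := congrArg (Ideal.comap (Ideal.Quotient.mk I)) h3
      rw [Ideal.comap_map_of_surjective _ Ideal.Quotient.mk_surjective, Ideal.comap_top,
        ← RingHom.ker_eq_comap_bot, Ideal.mk_ker, sup_eq_left.mpr hI] at h2
      exact h𝔪.ne_top h2
    exact ((Module.FaithfullyFlat.iff_flat_and_proper_ideal _ _).mp hff).2 _ hne ((hsm _).mpr h1)
  · intro H
    refine ⟨fun 𝔫 h𝔫 h => ?_⟩
    have h𝔪 : (𝔫.comap (Ideal.Quotient.mk I)).IsMaximal :=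
      Ideal.comap_isMaximal_of_surjective _ Ideal.Quotient.mk_surjective
    have hI : I ≤ 𝔫.comap (Ideal.Quotient.mk I) := by
      intro x hx
      rw [Ideal.mem_comap, Ideal.Quotient.eq_zero_iff_mem.mpr hx]
      exact 𝔫.zero_mem
    have h𝔫' : (𝔫.comap (Ideal.Quotient.mk I)).map (Ideal.Quotient.mk I) = 𝔫 :=
      Ideal.map_comap_of_surjective _ Ideal.Quotient.mk_surjective 𝔫
    apply H _ h𝔪 hI
    rw [← key R S I _ hI, h𝔫']
    exact (hsm 𝔫).mp h

/-- For a ring map R -> S and an ideal I of R the following are equivalent: (1) S is flat over R and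
S/IS is faithfully flat over R/I; (2) S is flat over R and Spec(S/IS) -> Spec(R/I) is surjective;
(3) S is flat over R and S ⊗_R M is nonzero for every nonzero R-module M killed by I; (4) S is flat
over R and S ⊗_R M is nonzero for every nonzero I-power torsion R-module M. (Faithfulness of base
change on these subcategories is stated as detection of nonzero objects, which is equivalent for an
exact functor.) -/
theorem result (R S : Type u) [CommRing R] [CommRing S] [Algebra R S] (I : Ideal R) :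
    List.TFAE [
      Module.Flat R S ∧ Module.FaithfullyFlat (R ⧸ I) (S ⧸ I.map (algebraMap R S)),
      Module.Flat R S ∧ Function.Surjective (PrimeSpectrum.comap (Ideal.quotientMap (I.map (algebraMap R S)) (algebraMap R S) Ideal.le_comap_map)),
      Module.Flat R S ∧ ∀ (M : Type u) [AddCommGroup M] [Module R M], (∀ (a : R) (m : M), a ∈ I → a • m = 0) →
        Nontrivial M → Nontrivial (S ⊗[R] M),
      Module.Flat R S ∧ ∀ (M : Type u) [AddCommGroup M] [Module R M], (∀ m : M, ∃ n : ℕ, ∀ a ∈ I ^ n, a • m = 0) →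
        Nontrivial M → Nontrivial (S ⊗[R] M)] := by
  tfae_have 1 ↔ 2 := by
    constructor
    · rintro ⟨hfl, hff⟩
      exact ⟨hfl, PrimeSpectrum.comap_surjective_of_faithfullyFlat
        (A := R ⧸ I) (B := S ⧸ I.map (algebraMap R S))⟩
    · rintro ⟨hfl, hs⟩
      have := flat_quot R S I
      exact ⟨hfl, Module.FaithfullyFlat.of_comap_surjective
        (A := R ⧸ I) (B := S ⧸ I.map (algebraMap R S)) hs⟩
  tfae_have 1 → 4 := by
    rintro ⟨hfl, hff⟩
    refine ⟨hfl, ?_⟩
    intro M _ _ hM hnt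
    have hC := (ff_iff R S I).mp hff
    obtain ⟨x, hx⟩ := exists_ne (0 : M)
    obtain ⟨n, hn⟩ := hM x
    let f : R →ₗ[R] M := LinearMap.toSpanSingleton R M x
    let J : Ideal R := LinearMap.ker f
    have hJmem : ∀ a, a ∈ J ↔ a • x = 0 := fun a => by
      simp [J, f, LinearMap.mem_ker]
    have hIJ : I ^ n ≤ J := fun a ha => (hJmem a).mpr (hn a ha)
    have hJ : J ≠ ⊤ := by
      intro hJ
      have : (1 : R) ∈ J := hJ ▸ Submodule.mem_top
      rw [hJmem, one_smul] at this
      exact hx this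
    obtain ⟨𝔪, h𝔪, hJ𝔪⟩ := Ideal.exists_le_maximal J hJ
    have hI𝔪 : I ≤ 𝔪 := h𝔪.isPrime.le_of_pow_le (hIJ.trans hJ𝔪)
    have hJS : J • (⊤ : Submodule R S) ≠ ⊤ := by
      intro h
      apply hC 𝔪 h𝔪 hI𝔪
      have h2 : 𝔪 • (⊤ : Submodule R S) = ⊤ := by
        apply top_le_iff.mp
        calc (⊤ : Submodule R S) = J • (⊤ : Submodule R S) := h.symm
          _ ≤ 𝔪 • (⊤ : Submodule R S) := Submodule.smul_mono_left hJ𝔪
      rwa [Ideal.smul_top_eq_map, Submodule.restrictScalars_eq_top_iff] at h2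
    let ι : R ⧸ J →ₗ[R] M := Submodule.liftQ J f le_rfl
    have hι : Function.Injective ι := by
      rw [← LinearMap.ker_eq_bot]
      exact Submodule.ker_liftQ_eq_bot _ _ _ le_rfl
    have hflat : Function.Injective (ι.lTensor S) :=
      Module.Flat.lTensor_preserves_injective_linearMap ι hι
    have hnt' : Nontrivial (S ⧸ J • (⊤ : Submodule R S)) :=
      Submodule.Quotient.nontrivial_iff.mpr hJS
    have hnt'' : Nontrivial (S ⊗[R] (R ⧸ J)) :=
      (TensorProduct.tensorQuotEquivQuotSMul S J).toEquiv.nontrivial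
    exact hflat.nontrivial
  tfae_have 4 → 3 := by
    rintro ⟨hfl, H⟩
    refine ⟨hfl, ?_⟩
    intro M _ _ hM hnt
    apply H M _ hnt
    intro m
    refine ⟨1, fun a ha => ?_⟩
    rw [pow_one] at ha
    exact hM a m ha
  tfae_have 3 → 1 := by
    rintro ⟨hfl, H⟩
    refine ⟨hfl, ?_⟩
    rw [ff_iff]
    intro 𝔪 h𝔪 hI h
    have hnt : Nontrivial (S ⊗[R] (R ⧸ 𝔪)) := by
      apply H (R ⧸ 𝔪)
      · intro a m ha
        obtain ⟨r, rfl⟩ := Ideal.Quotient.mk_surjective m
        rw [← Ideal.Quotient.mk_eq_mk, ← Submodule.Quotient.mk_smul, Submodule.Quotient.mk_eq_zero]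
        exact 𝔪.mul_mem_right _ (hI ha)
      · exact Ideal.Quotient.nontrivial_iff.mpr h𝔪.ne_top
    have hnt' : Nontrivial (S ⧸ 𝔪 • (⊤ : Submodule R S)) :=
      (TensorProduct.tensorQuotEquivQuotSMul S 𝔪).symm.toEquiv.nontrivial
    rw [Submodule.Quotient.nontrivial_iff] at hnt'
    apply hnt'
    rw [Ideal.smul_top_eq_map, Submodule.restrictScalars_eq_top_iff]
    exact h
  tfae_finish

end Groth.Agent.S2008
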