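import Groth.Statements.S2009
import Mathlib
import Groth.Agent.Lib.helper3.FormalGlue
-- import your own Groth.Agent.* helpers here

set_option autoImplicit false
universe u
open TensorProduct
open EtAlg

namespace Groth.Agent.S2009

/-- Let R -> S be flat with S/IS faithfully flat over R/I. Then the natural map M -> S ⊗_R M is
bijective for every I-power torsion R-module M if and only if R/I -> S/IS is bijective. -/
theorem result (R S : Type u) [CommRing R] [CommRing S] [Algebra R S] (I : Ideal R)
    [Module.Flat R S] [Module.FaithfullyFlat (R ⧸ I) (S ⧸ I.map (algebraMap R S))] :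
    (∀ (M : Type u) [AddCommGroup M] [Module R M], (∀ m : M, ∃ n : ℕ, ∀ a ∈ I ^ n, a • m = 0) →
      Function.Bijective (TensorProduct.mk R S M 1)) ↔
    Function.Bijective (Ideal.quotientMap (I.map (algebraMap R S)) (algebraMap R S) Ideal.le_comap_map) := by
  constructor
  · intro H
    have hb := H (R ⧸ I) (by
      intro x
      refine ⟨1, fun a ha => ?_⟩
      rw [pow_one] at ha
      obtain ⟨r, rfl⟩ := Ideal.Quotient.mk_surjective x
      rw [← Ideal.Quotient.mk_eq_mk, ← Submodule.Quotient.mk_smul, Submodule.Quotient.mk_eq_zero]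
      exact I.mul_mem_right _ ha)
    have hmem : ∀ x : S, x ∈ I • (⊤ : Submodule R S) ↔ x ∈ I.map (algebraMap R S) := by
      intro x
      rw [Ideal.smul_top_eq_map]
      rfl
    have he : ∀ r : R, TensorProduct.tensorQuotEquivQuotSMul S I ((1 : S) ⊗ₜ[R] Ideal.Quotient.mk I r) =
        Submodule.Quotient.mk (algebraMap R S r) := by
      intro r
      rw [TensorProduct.tensorQuotEquivQuotSMul_tmul_mk, Algebra.algebraMap_eq_smul_one]
    constructor
    · rw [injective_iff_map_eq_zero]
      intro x hx
      obtain ⟨r, rfl⟩ := Ideal.Quotient.mk_surjective x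
      rw [Ideal.quotientMap_mk, Ideal.Quotient.eq_zero_iff_mem, ← hmem] at hx
      apply hb.1
      rw [map_zero, TensorProduct.mk_apply]
      apply (TensorProduct.tensorQuotEquivQuotSMul S I).injective
      rw [he, map_zero, Submodule.Quotient.mk_eq_zero]
      exact hx
    · intro y
      obtain ⟨s, rfl⟩ := Ideal.Quotient.mk_surjective y
      obtain ⟨x, hx⟩ := hb.2 ((TensorProduct.tensorQuotEquivQuotSMul S I).symm (Submodule.Quotient.mk s))
      obtain ⟨r, rfl⟩ := Ideal.Quotient.mk_surjective x
      refine ⟨Ideal.Quotient.mk I r, ?_⟩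
      rw [TensorProduct.mk_apply, LinearEquiv.eq_symm_apply, he, Submodule.Quotient.eq, hmem] at hx
      rw [Ideal.quotientMap_mk, Ideal.Quotient.eq]
      exact hx
  · intro hq M _ _ hM
    obtain ⟨h1, h2⟩ := Groth.Agent.Lib.helper3.FormalGlue.hyps_of_quotientMap_bijective I hq
    exact Groth.Agent.Lib.helper3.FormalGlue.mk_bijective_of_torsion I h1 h2 hM

end Groth.Agent.S2009
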