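import Groth.Statements.S9832
import Mathlib
import Groth.Agent.Lib.helper20.PrimeFin

set_option autoImplicit false
universe u
open Props

namespace Groth.Agent.S9832

/-- For a Noetherian ring R and an ideal I inside the Jacobson radical of R, the complement of V(I) in
Spec R is a Jacobson topological space. -/
theorem result (R : Type u) [CommRing R] [IsNoetherianRing R]
    (I : Ideal R) (hI : I ≤ (⊥ : Ideal R).jacobson) :
    JacobsonSpace ↥((PrimeSpectrum.zeroLocus (I : Set R))ᶜ) := by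
  classical
  rw [jacobsonSpace_iff_locallyClosed]
  rintro Z ⟨⟨p, hpU⟩, hpZ⟩ ⟨O, C, hO, hC, rfl⟩
  obtain ⟨O', hO', rfl⟩ := Topology.IsInducing.subtypeVal.isOpen_iff.1 hO
  obtain ⟨C', hC', rfl⟩ := Topology.IsInducing.subtypeVal.isClosed_iff.1 hC
  have hpO : p ∈ O' := hpZ.1
  have hpC : p ∈ C' := hpZ.2
  obtain ⟨_, ⟨g0, rfl⟩, hpg0, hg0O⟩ :=
    PrimeSpectrum.isTopologicalBasis_basic_opens.exists_subset_of_mem_open hpO hO'
  have hg0p : g0 ∉ p.asIdeal := hpg0
  have hIp : ¬ (I : Set R) ⊆ p.asIdeal := by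
    rwa [Set.mem_compl_iff, PrimeSpectrum.mem_zeroLocus] at hpU
  obtain ⟨a, haI, hap⟩ := Set.not_subset.1 hIp
  have hgp : g0 * a ∉ p.asIdeal := fun h => (p.isPrime.mem_or_mem h).elim hg0p hap
  obtain ⟨q, ⟨hqprime, hpq, hgq⟩, hqmax⟩ : ∃ q : Ideal R,
      (q.IsPrime ∧ p.asIdeal ≤ q ∧ g0 * a ∉ q) ∧
      ∀ J : Ideal R, (J.IsPrime ∧ p.asIdeal ≤ J ∧ g0 * a ∉ J) → ¬ q < J :=
    set_has_maximal_iff_noetherian.2 (inferInstance : IsNoetherian R R) _
      ⟨p.asIdeal, p.isPrime, le_rfl, hgp⟩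
  haveI := hqprime
  have hgQ : ∀ Q : Ideal R, Q.IsPrime → q < Q → g0 * a ∈ Q := by
    intro Q hQ hqQ
    by_contra hgQ
    exact hqmax Q ⟨hQ, hpq.trans hqQ.le, hgQ⟩ hqQ
  have hIQ : ∀ Q : Ideal R, Q.IsPrime → q < Q → I ≤ Q := by
    intro Q hQ hqQ
    haveI := hQ
    have hQmax : Q.IsMaximal := by
      by_contra hnm
      obtain ⟨M, hMmax, hQM⟩ := Ideal.exists_le_maximal Q hQ.ne_top
      have hQltM : Q < M := lt_of_le_of_ne hQM (fun h => hnm (h ▸ hMmax))
      haveI := hMmax.isPrime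
      have hM1 := Groth.Agent.Lib.helper20.PrimeFin.map_height_le_one_of_forall_mem q (g0 * a)
        hgq hgQ M hMmax.isPrime (hqQ.trans hQltM)
      have hsurj : Function.Surjective (Ideal.Quotient.mk q) := Ideal.Quotient.mk_surjective
      have hker : RingHom.ker (Ideal.Quotient.mk q) = q := Ideal.mk_ker
      have hcm : ∀ B : Ideal R, q ≤ B →
          (B.map (Ideal.Quotient.mk q)).comap (Ideal.Quotient.mk q) = B := by
        intro B hB
        rw [Ideal.comap_map_of_surjective _ hsurj, ← RingHom.ker_eq_comap_bot, hker]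
        exact sup_eq_left.2 hB
      haveI : (Q.map (Ideal.Quotient.mk q)).IsPrime :=
        Ideal.map_isPrime_of_surjective hsurj (by rw [hker]; exact hqQ.le)
      haveI : (M.map (Ideal.Quotient.mk q)).IsPrime :=
        Ideal.map_isPrime_of_surjective hsurj (by rw [hker]; exact hqQ.le.trans hQM)
      have hlt1 : (⊥ : Ideal (R ⧸ q)) < Q.map (Ideal.Quotient.mk q) := by
        rw [bot_lt_iff_ne_bot, Ne, Ideal.map_eq_bot_iff_le_ker, hker]
        exact not_le_of_gt hqQ
      have hlt2 : Q.map (Ideal.Quotient.mk q) < M.map (Ideal.Quotient.mk q) := by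
        refine lt_of_le_of_ne (Ideal.map_mono hQM) (fun heq2 => hQltM.ne ?_)
        rw [← hcm Q hqQ.le, ← hcm M (hqQ.le.trans hQM), heq2]
      have h1 := Ideal.height_strict_mono_of_isPrime_of_isPrime hlt1
      have h2 := Ideal.height_strict_mono_of_isPrime_of_isPrime hlt2
      have h3 : (Q.map (Ideal.Quotient.mk q)).height < 1 := lt_of_lt_of_le h2 hM1
      rw [ENat.lt_one_iff_eq_zero] at h3
      rw [h3] at h1
      exact not_lt_of_ge zero_le h1
    refine hI.trans ?_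
    intro x hx
    rw [Ideal.jacobson, Ideal.mem_sInf] at hx
    exact hx ⟨bot_le, hQmax⟩
  have hqU : (⟨q, hqprime⟩ : PrimeSpectrum R) ∈ (PrimeSpectrum.zeroLocus (I : Set R))ᶜ := by
    rw [Set.mem_compl_iff, PrimeSpectrum.mem_zeroLocus]
    intro hIq
    exact hgq (Ideal.mul_mem_left _ _ (hIq haI))
  refine ⟨⟨⟨q, hqprime⟩, hqU⟩, ⟨?_, ?_⟩, ?_⟩
  · apply hg0O
    show g0 ∉ q
    intro h
    exact hgq (Ideal.mul_mem_right _ _ h)
  · have hspec : p ⤳ (⟨q, hqprime⟩ : PrimeSpectrum R) :=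
      (PrimeSpectrum.le_iff_specializes _ _).1 hpq
    exact hspec.mem_closed hC' hpC
  · rw [mem_closedPoints_iff, Topology.IsInducing.subtypeVal.isClosed_iff]
    refine ⟨PrimeSpectrum.zeroLocus (q : Set R), PrimeSpectrum.isClosed_zeroLocus _, ?_⟩
    ext ⟨x, hxU⟩
    simp only [Set.mem_preimage, PrimeSpectrum.mem_zeroLocus, Set.mem_singleton_iff,
      Subtype.mk.injEq]
    constructor
    · intro hqx
      by_contra hne
      have hlt : q < x.asIdeal :=
        lt_of_le_of_ne hqx (fun h => hne (PrimeSpectrum.ext h.symm))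
      exact hxU ((PrimeSpectrum.mem_zeroLocus _ _).2 (hIQ x.asIdeal x.isPrime hlt))
    · intro hx
      rw [hx]

end Groth.Agent.S9832
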