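import Groth.Statements.S2011
import Mathlib
import Groth.Agent.S9832

set_option autoImplicit false
universe u
open EtAlg

namespace Groth.Agent.S2011

/-- Let A be a Noetherian ring and I an ideal contained in the Jacobson radical of A (a Zariski pair).
Then for every f in I the localization A_f is a Jacobson ring. -/
theorem result (A : Type u) [CommRing A] [IsNoetherianRing A] (I : Ideal A)
    (hI : I ≤ (⊥ : Ideal A).jacobson) (f : A) (hf : f ∈ I) : IsJacobsonRing (Localization.Away f) := by
  rw [PrimeSpectrum.isJacobsonRing_iff_jacobsonSpace]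
  haveI := Groth.Agent.S9832.result A I hI
  have hemb := PrimeSpectrum.localization_away_isOpenEmbedding (Localization.Away f) f
  have hrange : ∀ x : PrimeSpectrum (Localization.Away f),
      PrimeSpectrum.comap (algebraMap A (Localization.Away f)) x ∈
        (PrimeSpectrum.zeroLocus (I : Set A))ᶜ := by
    intro x hx
    rw [PrimeSpectrum.mem_zeroLocus] at hx
    have h1 : algebraMap A (Localization.Away f) f ∈ x.asIdeal := hx hf
    exact x.isPrime.ne_top
      (Ideal.eq_top_of_isUnit_mem _ h1 (IsLocalization.Away.algebraMap_isUnit f))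
  have hval : Topology.IsOpenEmbedding
      (Subtype.val : ↥((PrimeSpectrum.zeroLocus (I : Set A))ᶜ) → PrimeSpectrum A) :=
    (PrimeSpectrum.isClosed_zeroLocus _).isOpen_compl.isOpenEmbedding_subtypeVal
  have hφ : Topology.IsOpenEmbedding
      (fun x : PrimeSpectrum (Localization.Away f) =>
        (⟨_, hrange x⟩ : ↥((PrimeSpectrum.zeroLocus (I : Set A))ᶜ))) :=
    Topology.IsOpenEmbedding.of_comp _ hval hemb
  exact JacobsonSpace.of_isOpenEmbedding hφ

end Groth.Agent.S2011
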