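import Groth.Statements.S2012
import Mathlib
-- import your own Groth.Agent.* helpers here

set_option autoImplicit false
universe u
open EtAlg

namespace Groth.Agent.S2012

/-- Let A be a ring and I an ideal contained in its Jacobson radical. Let B be an A-algebra which is
flat, integral and of finite presentation over A and such that A/I -> B/IB is bijective. Then A -> B
is bijective. -/
theorem result (A B : Type u) [CommRing A] [CommRing B] [Algebra A B]
    (I : Ideal A) (hI : I ≤ (⊥ : Ideal A).jacobson) [Module.Flat A B] [Algebra.IsIntegral A B] [Algebra.FinitePresentation A B]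
    (hq : Function.Bijective (Ideal.quotientMap (I.map (algebraMap A B)) (algebraMap A B) Ideal.le_comap_map)) :
    Function.Bijective (algebraMap A B) := by
  have hfin : Module.Finite A B := Algebra.IsIntegral.finite
  have hfp : Module.FinitePresentation A B :=
    Module.FinitePresentation.of_finite_of_finitePresentation A B
  have hproj : Module.Projective A B := Module.Flat.projective_of_finitePresentation
  have hsurj : Function.Surjective (algebraMap A B) := by
    have h1 : (⊤ : Submodule A B) ≤ LinearMap.range (Algebra.linearMap A B) ⊔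
        I • (⊤ : Submodule A B) := by
      intro b _
      obtain ⟨a', ha'⟩ := hq.2 (Ideal.Quotient.mk _ b)
      obtain ⟨a, rfl⟩ := Ideal.Quotient.mk_surjective a'
      have hmem : b - algebraMap A B a ∈ I.map (algebraMap A B) := by
        rw [← Ideal.Quotient.eq_zero_iff_mem, map_sub, ← ha']
        simp
      rw [← sub_add_cancel b (algebraMap A B a), add_comm]
      refine Submodule.add_mem_sup ⟨a, rfl⟩ ?_
      rw [Ideal.smul_top_eq_map]
      exact hmem
    have h2 := Submodule.le_of_le_smul_of_le_jacobson_bot (Module.Finite.fg_top) hI h1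
    intro b
    obtain ⟨a, ha⟩ := h2 (Submodule.mem_top : b ∈ ⊤)
    exact ⟨a, ha⟩
  refine ⟨?_, hsurj⟩
  obtain ⟨s, hs⟩ := Module.projective_lifting_property (Algebra.linearMap A B) LinearMap.id hsurj
  have hs1 : algebraMap A B (s 1) = 1 := LinearMap.congr_fun hs 1
  have hkill : ∀ k : A, algebraMap A B k = 0 → k * s 1 = 0 := by
    intro k hk
    have : k * s 1 = s (k • (1 : B)) := by rw [map_smul, smul_eq_mul]
    rw [this, Algebra.smul_def, mul_one, hk, map_zero]
  have hε : algebraMap A B (1 - s 1) = 0 := by rw [map_sub, map_one, hs1, sub_self]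
  have hεI : (1 - s 1) ∈ I := by
    have h3 : Ideal.quotientMap (I.map (algebraMap A B)) (algebraMap A B) Ideal.le_comap_map
        (Ideal.Quotient.mk I (1 - s 1)) = 0 := by
      rw [Ideal.quotientMap_mk, hε, map_zero]
    have h4 := hq.1 (h3.trans (map_zero _).symm)
    exact Ideal.Quotient.eq_zero_iff_mem.mp h4
  have hunit : IsUnit (s 1) := by
    have h5 := (Ideal.mem_jacobson_bot.mp (hI hεI)) (-1)
    have : (1 - s 1) * -1 + 1 = s 1 := by ring
    rwa [this] at h5
  have hε0 : (1 - s 1) = 0 := by
    have := hkill _ hε
    exact (hunit.mul_left_eq_zero).mp this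
  have hs1' : s 1 = 1 := by
    have := sub_eq_zero.mp hε0
    exact this.symm
  rw [injective_iff_map_eq_zero]
  intro k hk
  have := hkill k hk
  rwa [hs1', mul_one] at this

end Groth.Agent.S2012
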