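import Groth.Statements.S2015
import Mathlib

set_option autoImplicit false
universe u
open EtAlg

namespace Groth.Agent.S2015

namespace S2015aux

variable {R : Type u} [CommRing R]

/-- in a finite nonempty family over a chain ring, some element divides all the others -/
theorem exists_dvd_all (h : ∀ a b : R, a ∣ b ∨ b ∣ a) {α : Type} (s : Finset α) (g : α → R)
    (hs : s.Nonempty) : ∃ x ∈ s, ∀ y ∈ s, g x ∣ g y := by
  classical
  induction hs using Finset.Nonempty.cons_induction with
  | singleton a => exact ⟨a, Finset.mem_singleton_self a, fun y hy => by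
      rw [Finset.mem_singleton.1 hy]⟩
  | cons a s ha hs ih =>
    obtain ⟨x, hx, hxy⟩ := ih
    rcases h (g a) (g x) with h1 | h1
    · refine ⟨a, Finset.mem_cons_self a s, fun y hy => ?_⟩
      rcases Finset.mem_cons.1 hy with rfl | hy
      · exact dvd_rfl
      · exact h1.trans (hxy y hy)
    · refine ⟨x, Finset.mem_cons.2 (Or.inr hx), fun y hy => ?_⟩
      rcases Finset.mem_cons.1 hy with rfl | hy
      · exact h1
      · exact hxy y hy

/-- splitting off a cyclic summand -/
theorem split {G : Type u} [AddCommGroup G] [Module R G] (K : Submodule R (R × G)) (a : R) (v : G)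
    (hav : ((a, a • v) : R × G) ∈ K) (hK : ∀ x ∈ K, a ∣ x.1) :
    Nonempty (((R × G) ⧸ K) ≃ₗ[R]
      ((R ⧸ Ideal.span {a}) × (G ⧸ K.map (LinearMap.snd R R G - (LinearMap.fst R R G).smulRight v)))) := by
  set q : R × G →ₗ[R] G := LinearMap.snd R R G - (LinearMap.fst R R G).smulRight v with hq
  have hqx : ∀ x : R × G, q x = x.2 - x.1 • v := fun x => by simp [hq]
  set Φ : R × G →ₗ[R] (R ⧸ Ideal.span {a}) × (G ⧸ K.map q) :=
    LinearMap.prod ((Ideal.span {a}).mkQ ∘ₗ LinearMap.fst R R G) ((K.map q).mkQ ∘ₗ q) with hΦ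
  have hker : K ≤ LinearMap.ker Φ := by
    intro x hx
    rw [LinearMap.mem_ker]
    apply Prod.ext
    · show (Ideal.span {a}).mkQ x.1 = 0
      rw [Submodule.mkQ_apply, Submodule.Quotient.mk_eq_zero]
      exact Ideal.mem_span_singleton.2 (hK x hx)
    · show (K.map q).mkQ (q x) = 0
      rw [Submodule.mkQ_apply, Submodule.Quotient.mk_eq_zero]
      exact ⟨x, hx, rfl⟩
  refine ⟨LinearEquiv.ofBijective (K.liftQ Φ hker) ⟨?_, ?_⟩⟩
  · rw [← LinearMap.ker_eq_bot, Submodule.ker_liftQ_eq_bot']
    refine le_antisymm hker ?_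
    intro x hx
    rw [LinearMap.mem_ker] at hx
    have h1 : (Ideal.span {a}).mkQ x.1 = 0 := congrArg Prod.fst hx
    have h2 : (K.map q).mkQ (q x) = 0 := congrArg Prod.snd hx
    rw [Submodule.mkQ_apply, Submodule.Quotient.mk_eq_zero] at h1 h2
    obtain ⟨c, hc⟩ := Ideal.mem_span_singleton.1 h1
    obtain ⟨y, hy, hyx⟩ := h2
    obtain ⟨c', hc'⟩ := hK y hy
    have : x = y + (c - c') • ((a, a • v) : R × G) := by
      have h3 : x.2 - x.1 • v = y.2 - y.1 • v := by rw [← hqx, ← hqx, hyx]
      have hx1 : x.1 = a * c := hc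
      have hy1 : y.1 = a * c' := hc'
      apply Prod.ext
      · simp only [Prod.fst_add, Prod.smul_fst, smul_eq_mul]
        rw [hx1, hy1]; ring
      · simp only [Prod.snd_add, Prod.smul_snd]
        have : x.2 = y.2 - y.1 • v + x.1 • v := by rw [← h3]; abel
        rw [this, hx1, hy1, smul_smul]
        have h5 : ((c - c') * a) • v = (a * c) • v - (a * c') • v := by
          rw [← sub_smul]; congr 1; ring
        rw [h5]
        abel
    rw [this]
    exact K.add_mem hy (K.smul_mem _ hav)
  · rintro ⟨s, g⟩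
    obtain ⟨s, rfl⟩ := Submodule.Quotient.mk_surjective _ s
    obtain ⟨g, rfl⟩ := Submodule.Quotient.mk_surjective _ g
    refine ⟨Submodule.Quotient.mk (s, g + s • v), ?_⟩
    rw [Submodule.liftQ_apply]
    apply Prod.ext
    · rfl
    · show (K.map q).mkQ (q (s, g + s • v)) = _
      rw [hqx]
      simp only [add_sub_cancel_right]
      rfl

/-- removing the coordinate `i0` -/
def e (n : ℕ) (i0 : Fin (n + 1)) : (Fin (n + 1) → R) ≃ₗ[R] R × (Fin n → R) where
  toFun x := (x i0, fun i => x (i0.succAbove i))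
  invFun sg := Fin.insertNth i0 sg.1 sg.2
  map_add' x y := rfl
  map_smul' c x := rfl
  left_inv x := by
    funext j
    refine Fin.succAboveCases i0 ?_ ?_ j
    · simp
    · intro i; simp
  right_inv sg := by
    apply Prod.ext
    · simp
    · funext i; simp

theorem main (h : ∀ a b : R, a ∣ b ∨ b ∣ a) : ∀ (n : ℕ) (K : Submodule R (Fin n → R)), K.FG →
    ∃ f : Fin n → R, Nonempty (((Fin n → R) ⧸ K) ≃ₗ[R] ((i : Fin n) → R ⧸ Ideal.span {f i})) := by
  classical
  intro n
  induction n with
  | zero =>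
    intro K _
    refine ⟨fun _ => 0, ⟨?_⟩⟩
    exact
      { toFun := fun _ => 0
        invFun := fun _ => 0
        map_add' := fun _ _ => by simp
        map_smul' := fun _ _ => by simp
        left_inv := fun x => by
          obtain ⟨y, rfl⟩ := Submodule.Quotient.mk_surjective _ x
          have : y = 0 := Subsingleton.elim _ _
          rw [this, Submodule.Quotient.mk_zero]
        right_inv := fun x => Subsingleton.elim _ _ }
  | succ n ih =>
    intro K hK
    obtain ⟨m, k, hk⟩ := Submodule.fg_iff_exists_fin_generating_family.1 hK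
    by_cases hm : m = 0
    · -- `K = ⊥`
      subst hm
      have hbot : K = ⊥ := by
        rw [← hk]
        have : Set.range k = ∅ := Set.range_eq_empty k
        rw [this, Submodule.span_empty]
      refine ⟨fun _ => 0, ⟨?_⟩⟩
      have E0 : ((Fin (n + 1) → R) ⧸ K) ≃ₗ[R] (Fin (n + 1) → R) := Submodule.quotEquivOfEqBot K hbot
      have E1 : (Fin (n + 1) → R) ≃ₗ[R] ((i : Fin (n + 1)) → R ⧸ Ideal.span {(0 : R)}) :=
        LinearEquiv.piCongrRight fun i =>
          (Submodule.quotEquivOfEqBot (Ideal.span {(0 : R)}) (by simp)).symm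
      exact E0.trans E1
    · have hne : (Finset.univ : Finset (Fin m × Fin (n + 1))).Nonempty := by
        have : Nonempty (Fin m) := ⟨⟨0, by omega⟩⟩
        exact Finset.univ_nonempty
      obtain ⟨⟨j0, i0⟩, -, hmin⟩ := exists_dvd_all h Finset.univ
        (fun ji : Fin m × Fin (n + 1) => k ji.1 ji.2) hne
      set a := k j0 i0 with ha
      have hdiv : ∀ x ∈ K, ∀ i, a ∣ x i := by
        intro x hx
        rw [← hk] at hx
        refine Submodule.span_induction (p := fun x _ => ∀ i, a ∣ x i) ?_ ?_ ?_ ?_ hx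
        · rintro _ ⟨j, rfl⟩ i
          exact hmin (j, i) (Finset.mem_univ _)
        · intro i; exact dvd_zero a
        · intro x y _ _ hx hy i
          exact dvd_add (hx i) (hy i)
        · intro c x _ hx i
          exact Dvd.dvd.mul_left (hx i) c
      choose c hc using fun i => hmin (j0, i) (Finset.mem_univ _)
      -- transport
      set K₁ : Submodule R (R × (Fin n → R)) := K.map (e n i0).toLinearMap with hK₁
      set v : Fin n → R := fun i => c (i0.succAbove i) with hv
      have hav : ((a, a • v) : R × (Fin n → R)) ∈ K₁ := by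
        refine ⟨k j0, hk ▸ Submodule.subset_span ⟨j0, rfl⟩, ?_⟩
        apply Prod.ext
        · rfl
        · funext i
          exact hc (i0.succAbove i)
      have hK₁d : ∀ x ∈ K₁, a ∣ x.1 := by
        rintro _ ⟨y, hy, rfl⟩
        exact hdiv y hy i0
      obtain ⟨E1⟩ := split K₁ a v hav hK₁d
      set K'' := K₁.map (LinearMap.snd R R (Fin n → R) - (LinearMap.fst R R (Fin n → R)).smulRight v)
      have hK''fg : K''.FG := (hK.map _).map _
      obtain ⟨f', ⟨E2⟩⟩ := ih K'' hK''fg
      refine ⟨Fin.cons a f', ⟨?_⟩⟩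
      have E0 : ((Fin (n + 1) → R) ⧸ K) ≃ₗ[R] ((R × (Fin n → R)) ⧸ K₁) :=
        Submodule.Quotient.equiv K K₁ (e n i0) rfl
      have E3 : ((R ⧸ Ideal.span {a}) × ((Fin n → R) ⧸ K'')) ≃ₗ[R]
          ((R ⧸ Ideal.span {a}) × ((i : Fin n) → R ⧸ Ideal.span {f' i})) :=
        LinearEquiv.prodCongr (LinearEquiv.refl R _) E2
      have E4 : ((R ⧸ Ideal.span {a}) × ((i : Fin n) → R ⧸ Ideal.span {f' i})) ≃ₗ[R]
          ((i : Fin (n + 1)) → R ⧸ Ideal.span {(Fin.cons a f' : Fin (n + 1) → R) i}) :=
        Fin.consLinearEquiv R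
          (fun i : Fin (n + 1) => R ⧸ Ideal.span {(Fin.cons a f' : Fin (n + 1) → R) i})
      exact E0.trans (E1.trans (E3.trans E4))

end S2015aux

/-- Let R be a nonzero ring such that for all a, b in R either a divides b or b divides a. Then each
finitely presented R-module decomposes as a direct sum of finitely many cyclic modules R/fR. -/
theorem result (R : Type u) [CommRing R] [Nontrivial R] (h : ∀ a b : R, a ∣ b ∨ b ∣ a)
    (M : Type u) [AddCommGroup M] [Module R M] [Module.FinitePresentation R M] :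
    ∃ (n : ℕ) (f : Fin n → R), Nonempty (M ≃ₗ[R] ((i : Fin n) → R ⧸ Ideal.span {f i})) := by
  obtain ⟨n, K, e, hK⟩ := Module.FinitePresentation.exists_fin R M
  obtain ⟨f, ⟨E⟩⟩ := S2015aux.main h n K hK
  exact ⟨n, f, ⟨e.trans E⟩⟩

end Groth.Agent.S2015
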