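import Groth.Statements.S2016
import Mathlib
import Groth.Agent.S2015

set_option autoImplicit false
universe u
open EtAlg

namespace Groth.Agent.S2016


section Aux

variable {R : Type u} [CommRing R] {M : Type u} [AddCommGroup M] [Module R M]

instance fp_quot (a : R) : Module.FinitePresentation R (R ⧸ Ideal.span {a}) := by
  refine Module.finitePresentation_of_surjective (Submodule.mkQ (Ideal.span {a}))
    (Submodule.mkQ_surjective _) ?_
  rw [Submodule.ker_mkQ]
  exact ⟨{a}, by simp [Ideal.span]⟩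

theorem local_step [Module.FinitePresentation R M]
    (m : Ideal R) [m.IsMaximal]
    (h : ∀ a b : Localization.AtPrime m, a ∣ b ∨ b ∣ a) :
    ∃ (n : ℕ) (a : Fin n → R) (Φ : M →ₗ[R] ((i : Fin n) → R ⧸ Ideal.span {a i}))
      (Ψ : ((i : Fin n) → R ⧸ Ideal.span {a i}) →ₗ[R] M) (u : R),
      u ∉ m ∧ Ψ ∘ₗ Φ = u • LinearMap.id := by
  classical
  let p := m.primeCompl
  let Rm := Localization.AtPrime m
  let Mm := LocalizedModule p M
  let locM : M →ₗ[R] Mm := LocalizedModule.mkLinearMap p M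
  obtain ⟨n, f', ⟨e⟩⟩ := Groth.Agent.S2015.result Rm h Mm
  have hsurj : ∀ i, ∃ x : R × p, f' i * algebraMap R Rm x.2 = algebraMap R Rm x.1 :=
    fun i => IsLocalization.surj p (f' i)
  choose as has using hsurj
  let a : Fin n → R := fun i => (as i).1
  let I' : Fin n → Submodule Rm Rm := fun i =>
    (Ideal.span {a i} : Submodule R R).localized' Rm p (Algebra.linearMap R Rm)
  have hI : ∀ i, I' i = (Ideal.span {f' i} : Ideal Rm) := by
    intro i
    have h1 : I' i = Submodule.span Rm ((Algebra.linearMap R Rm) '' {a i}) :=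
      Submodule.localized'_span Rm p (Algebra.linearMap R Rm) {a i}
    rw [h1, Set.image_singleton, Algebra.linearMap_apply]
    have hu : IsUnit (algebraMap R Rm (as i).2) := IsLocalization.map_units Rm (as i).2
    show Ideal.span {algebraMap R Rm (a i)} = Ideal.span {f' i}
    rw [← has i]
    exact Ideal.span_singleton_mul_right_unit hu _
  let q : ∀ i, (R ⧸ Ideal.span {a i}) →ₗ[R] (Rm ⧸ I' i) := fun i =>
    (Ideal.span {a i} : Submodule R R).toLocalizedQuotient' Rm p (Algebra.linearMap R Rm)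
  haveI hq : ∀ i, IsLocalizedModule p (q i) := fun i => inferInstance
  let locP : ((i : Fin n) → R ⧸ Ideal.span {a i}) →ₗ[R] ((i : Fin n) → Rm ⧸ I' i) :=
    LinearMap.pi fun i => q i ∘ₗ LinearMap.proj i
  haveI hlocP : IsLocalizedModule p locP := inferInstance
  let e' : Mm ≃ₗ[Rm] ((i : Fin n) → Rm ⧸ I' i) :=
    e ≪≫ₗ LinearEquiv.piCongrRight fun i => Submodule.quotEquivOfEq _ _ (hI i).symm
  let g : M →ₗ[R] ((i : Fin n) → Rm ⧸ I' i) := (e'.toLinearMap.restrictScalars R) ∘ₗ locM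
  obtain ⟨Φ, s₁, h₁⟩ := Module.FinitePresentation.exists_lift_of_isLocalizedModule p locP g
  let g' : ((i : Fin n) → R ⧸ Ideal.span {a i}) →ₗ[R] Mm :=
    (e'.symm.toLinearMap.restrictScalars R) ∘ₗ locP
  obtain ⟨Ψ, s₂, h₂⟩ := Module.FinitePresentation.exists_lift_of_isLocalizedModule p locM g'
  have heq : locM ∘ₗ (Ψ ∘ₗ Φ) = locM ∘ₗ (((s₁ : R) * (s₂ : R)) • LinearMap.id) := by
    ext x
    have e1 : locM (Ψ (Φ x)) = (s₂ : R) • g' (Φ x) := by
      have := LinearMap.congr_fun h₂ (Φ x)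
      simpa [Submonoid.smul_def] using this
    have e2 : locP (Φ x) = (s₁ : R) • g x := by
      have := LinearMap.congr_fun h₁ x
      simpa [Submonoid.smul_def] using this
    simp only [LinearMap.coe_comp, Function.comp_apply, LinearMap.smul_apply, LinearMap.id_coe,
      id_eq]
    rw [e1]
    simp only [g', LinearMap.coe_comp, Function.comp_apply, LinearMap.coe_restrictScalars,
      LinearEquiv.coe_coe]
    rw [e2]
    simp only [g, LinearMap.coe_comp, Function.comp_apply, LinearMap.coe_restrictScalars,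
      LinearEquiv.coe_coe]
    have e3 : e'.symm ((s₁ : R) • e' (locM x)) = (s₁ : R) • locM x := by
      have h5 := (e'.symm.toLinearMap.restrictScalars R).map_smul (s₁ : R) (e' (locM x))
      rw [LinearMap.coe_restrictScalars, LinearEquiv.coe_coe, LinearEquiv.symm_apply_apply] at h5
      exact h5
    rw [e3, smul_smul, ← map_smul, mul_comm]
  obtain ⟨t, ht⟩ := Module.Finite.exists_smul_of_comp_eq_of_isLocalizedModule p locM _ _ heq
  refine ⟨n, a, Φ, (t : R) • Ψ, (t : R) * ((s₁ : R) * (s₂ : R)), ?_, ?_⟩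
  · intro hmem
    exact (t * (s₁ * s₂)).2 hmem
  · rw [LinearMap.smul_comp]
    have := ht
    simp only [Submonoid.smul_def] at this
    rw [this, smul_smul]

variable (R M) in
def Good (u : R) : Prop :=
  ∃ (ι : Type) (_ : Fintype ι) (f : ι → R)
    (Φ : M →ₗ[R] ((i : ι) → R ⧸ Ideal.span {f i}))
    (Ψ : ((i : ι) → R ⧸ Ideal.span {f i}) →ₗ[R] M), Ψ ∘ₗ Φ = u • LinearMap.id

theorem good_zero : Good R M 0 :=
  ⟨PEmpty, inferInstance, fun i => i.elim, 0, 0, by simp⟩

theorem good_smul (c u : R) (hu : Good R M u) : Good R M (c * u) := by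
  obtain ⟨ι, _, f, Φ, Ψ, h⟩ := hu
  exact ⟨ι, inferInstance, f, Φ, c • Ψ, by rw [LinearMap.smul_comp, h, smul_smul]⟩

theorem good_add (u v : R) (hu : Good R M u) (hv : Good R M v) : Good R M (u + v) := by
  obtain ⟨ι₁, _, f₁, Φ₁, Ψ₁, h₁⟩ := hu
  obtain ⟨ι₂, _, f₂, Φ₂, Ψ₂, h₂⟩ := hv
  let Φ : M →ₗ[R] ((s : ι₁ ⊕ ι₂) → R ⧸ Ideal.span {Sum.elim f₁ f₂ s}) :=
    LinearMap.pi fun s =>
      Sum.rec (motive := fun s => M →ₗ[R] R ⧸ Ideal.span {Sum.elim f₁ f₂ s})
        (fun i => LinearMap.proj i ∘ₗ Φ₁) (fun i => LinearMap.proj i ∘ₗ Φ₂) s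
  let π₁ : ((s : ι₁ ⊕ ι₂) → R ⧸ Ideal.span {Sum.elim f₁ f₂ s}) →ₗ[R]
      ((i : ι₁) → R ⧸ Ideal.span {f₁ i}) :=
    LinearMap.pi fun i => LinearMap.proj (Sum.inl i)
  let π₂ : ((s : ι₁ ⊕ ι₂) → R ⧸ Ideal.span {Sum.elim f₁ f₂ s}) →ₗ[R]
      ((i : ι₂) → R ⧸ Ideal.span {f₂ i}) :=
    LinearMap.pi fun i => LinearMap.proj (Sum.inr i)
  refine ⟨ι₁ ⊕ ι₂, inferInstance, Sum.elim f₁ f₂, Φ, Ψ₁ ∘ₗ π₁ + Ψ₂ ∘ₗ π₂, ?_⟩
  have hπ₁ : π₁ ∘ₗ Φ = Φ₁ := by
    ext x i
    rfl
  have hπ₂ : π₂ ∘ₗ Φ = Φ₂ := by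
    ext x i
    rfl
  rw [LinearMap.add_comp, LinearMap.comp_assoc, LinearMap.comp_assoc, hπ₁, hπ₂, h₁, h₂, add_smul]

variable (R M) in
def goodIdeal : Ideal R where
  carrier := {u | Good R M u}
  add_mem' := fun {u v} hu hv => good_add u v hu hv
  zero_mem' := good_zero
  smul_mem' := fun c {u} hu => good_smul c u hu

theorem good_one [Module.FinitePresentation R M]
    (h : ∀ (m : Ideal R) [m.IsMaximal], ∀ a b : Localization.AtPrime m, a ∣ b ∨ b ∣ a) :
    Good R M 1 := by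
  have htop : goodIdeal R M = ⊤ := by
    by_contra hne
    obtain ⟨m, hm, hle⟩ := Ideal.exists_le_maximal _ hne
    haveI := hm
    obtain ⟨n, a, Φ, Ψ, u, hu, hcomp⟩ := local_step (M := M) m (h m)
    exact hu (hle ⟨Fin n, inferInstance, a, Φ, Ψ, hcomp⟩)
  have : (1 : R) ∈ goodIdeal R M := by rw [htop]; trivial
  exact this

theorem main [Module.FinitePresentation R M]
    (h : ∀ (m : Ideal R) [m.IsMaximal], ∀ a b : Localization.AtPrime m, a ∣ b ∨ b ∣ a) :
    ∃ (n : ℕ) (f : Fin n → R) (N : Type u) (_ : AddCommGroup N) (_ : Module R N),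
      Nonempty ((M × N) ≃ₗ[R] ((i : Fin n) → R ⧸ Ideal.span {f i})) := by
  obtain ⟨ι, _, f, Φ, Ψ, hcomp⟩ := good_one (M := M) h
  rw [one_smul] at hcomp
  have hΨΦ : ∀ x, Ψ (Φ x) = x := fun x => LinearMap.congr_fun hcomp x
  let eqv := Fintype.equivFin ι
  let E : ((i : ι) → R ⧸ Ideal.span {f i}) ≃ₗ[R]
      ((j : Fin (Fintype.card ι)) → R ⧸ Ideal.span {f (eqv.symm j)}) :=
    LinearEquiv.piCongrLeft' R (fun i => R ⧸ Ideal.span {f i}) eqv
  let F : (M × LinearMap.ker Ψ) ≃ₗ[R] ((i : ι) → R ⧸ Ideal.span {f i}) :=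
    { LinearMap.coprod Φ (LinearMap.ker Ψ).subtype with
      invFun := fun x => (Ψ x, ⟨x - Φ (Ψ x), by simp [LinearMap.mem_ker, hΨΦ]⟩)
      left_inv := fun mk => by
        obtain ⟨m, k⟩ := mk
        have hk : Ψ k.1 = 0 := LinearMap.mem_ker.1 k.2
        refine Prod.ext ?_ (Subtype.ext ?_)
        · simp [hΨΦ, hk]
        · simp [hΨΦ, hk]
      right_inv := fun x => by simp }
  exact ⟨Fintype.card ι, fun j => f (eqv.symm j), LinearMap.ker Ψ, inferInstance, inferInstance,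
    ⟨F ≪≫ₗ E⟩⟩

end Aux

/-- Let R be a ring such that for every maximal ideal m and all a, b in R_m, either a divides b or b
divides a in R_m. Then each finitely presented R-module is a direct summand of a direct sum of
finitely many cyclic modules R/fR. -/
theorem result (R : Type u) [CommRing R]
    (h : ∀ (m : Ideal R) [m.IsMaximal], ∀ a b : Localization.AtPrime m, a ∣ b ∨ b ∣ a)
    (M : Type u) [AddCommGroup M] [Module R M] [Module.FinitePresentation R M] :
    ∃ (n : ℕ) (f : Fin n → R) (N : Type u) (_ : AddCommGroup N) (_ : Module R N),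
      Nonempty ((M × N) ≃ₗ[R] ((i : Fin n) → R ⧸ Ideal.span {f i})) := by
  exact main h

end Groth.Agent.S2016
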