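import Groth.Statements.S2017
import Mathlib
-- import your own Groth.Agent.* helpers here

set_option autoImplicit false
universe u
open EtAlg

namespace Groth.Agent.S2017

/-- Let R be a Noetherian ring, A, B, C R-algebras of finite type, f : A -> B a surjective R-algebra map
and g : C -> B an R-algebra map making B a finite C-module. Then the fibre product A ×_B C (the
equalizer of f ∘ pr₁ and g ∘ pr₂ in A × C) is an R-algebra of finite type. -/
theorem result (R A B C : Type u) [CommRing R] [IsNoetherianRing R] [CommRing A] [CommRing B]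
    [CommRing C] [Algebra R A] [Algebra R B] [Algebra R C] [Algebra.FiniteType R A] [Algebra.FiniteType R B]
    [Algebra.FiniteType R C] (f : A →ₐ[R] B) (hf : Function.Surjective f) (g : C →ₐ[R] B)
    (hg : (g.toRingHom).Finite) :
    Algebra.FiniteType R ↥(AlgHom.equalizer (f.comp (AlgHom.fst R A C)) (g.comp (AlgHom.snd R A C))) := by
  classical
  set D := AlgHom.equalizer (f.comp (AlgHom.fst R A C)) (g.comp (AlgHom.snd R A C)) with hD
  have hmemD : ∀ (a : A) (c : C), (a, c) ∈ D ↔ f a = g c := by
    intro a c
    rw [hD, AlgHom.mem_equalizer]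
    rfl
  -- generators of B over C
  obtain ⟨s, hs⟩ : ∃ s : Finset B, ∀ b : B, ∃ coef : B → C, b = ∑ i ∈ s, g (coef i) * i := by
    letI := g.toRingHom.toAlgebra
    have hfin : Module.Finite C B := hg
    obtain ⟨s, hs⟩ := hfin.fg_top
    refine ⟨s, fun b ↦ ?_⟩
    have hb : b ∈ Submodule.span C (s : Set B) := by rw [hs]; trivial
    obtain ⟨coef, hcoef⟩ := Submodule.mem_span_finset'.mp hb
    refine ⟨fun i ↦ if h : i ∈ s then coef ⟨i, h⟩ else 0, ?_⟩
    rw [← hcoef, ← Finset.sum_attach s]
    refine Finset.sum_congr rfl fun i _ ↦ ?_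
    simp only [Finset.coe_mem, dif_pos, Subtype.coe_eta]
    rw [Algebra.smul_def]
    rfl
  have hf2 := hf
  choose lift hlift using hf2
  choose liftC hliftC using fun c : C ↦ hf (g c)
  -- the generating set of A × C over D
  let gens : Finset (A × C) := insert ((0 : A), (1 : C)) (insert ((1 : A), (0 : C))
    (s.image fun b ↦ (lift b, (0 : C))))
  have hspan : Submodule.span D (gens : Set (A × C)) = ⊤ := by
    rw [eq_top_iff]
    rintro ⟨a, c⟩ -
    have h01 : ((0 : A), c) ∈ Submodule.span D (gens : Set (A × C)) := by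
      have hd : (liftC c, c) ∈ D := (hmemD _ _).mpr (hliftC c)
      have : ((0 : A), c) = (⟨(liftC c, c), hd⟩ : D) • ((0 : A), (1 : C)) := by
        rw [Subalgebra.smul_def]
        simp
      rw [this]
      exact Submodule.smul_mem _ _ (Submodule.subset_span (by simp [gens]))
    have h10 : (a, (0 : C)) ∈ Submodule.span D (gens : Set (A × C)) := by
      obtain ⟨coef, hcoef⟩ := hs (f a)
      -- a' := ∑ liftC (coef i) * lift i
      have hk : f (a - ∑ i ∈ s, liftC (coef i) * lift i) = 0 := by
        rw [map_sub, map_sum, hcoef, sub_eq_zero]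
        refine Finset.sum_congr rfl fun i _ ↦ ?_
        rw [map_mul, hliftC, hlift]
      have hkD : (a - ∑ i ∈ s, liftC (coef i) * lift i, (0 : C)) ∈ D :=
        (hmemD _ _).mpr (by rw [hk, map_zero])
      have hsum : (a, (0 : C)) = (⟨_, hkD⟩ : D) • ((1 : A), (0 : C)) +
          ∑ i ∈ s, (⟨(liftC (coef i), coef i), (hmemD _ _).mpr (hliftC (coef i))⟩ : D) •
            (lift i, (0 : C)) := by
        simp only [Subalgebra.smul_def, smul_eq_mul, Prod.mk_mul_mk, mul_one, mul_zero]
        rw [Prod.ext_iff]
        constructor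
        · simp [Prod.fst_sum]
        · simp [Prod.snd_sum]
      rw [hsum]
      refine Submodule.add_mem _ (Submodule.smul_mem _ _ (Submodule.subset_span (by simp [gens])))
        (Submodule.sum_mem _ fun i hi ↦ Submodule.smul_mem _ _ (Submodule.subset_span ?_))
      simp only [gens, Finset.coe_insert, Finset.coe_image, Set.mem_insert_iff, Set.mem_image,
        Finset.mem_coe]
      exact Or.inr (Or.inr ⟨i, hi, rfl⟩)
    have : (a, c) = (a, (0 : C)) + ((0 : A), c) := by simp
    rw [this]
    exact Submodule.add_mem _ h10 h01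
  have hfg : (⊤ : Submodule D (A × C)).FG := ⟨gens, hspan⟩
  have hAC : (⊤ : Subalgebra R (A × C)).FG := (inferInstance : Algebra.FiniteType R (A × C)).out
  exact ⟨fg_of_fg_of_fg R D (A × C) hAC hfg Subtype.val_injective⟩

end Groth.Agent.S2017
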