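import Groth.Statements.S2018
-- import your own Groth.Agent.* helpers here

set_option autoImplicit false
universe u
open EtAlg

namespace Groth.Agent.S2018

/-- Let g : A' -> A be a surjective ring map and f : B -> A an integral ring map. Then the projection
from the fibre product B ×_A A' (the equalizer of f ∘ pr₁ and g ∘ pr₂ in B × A') to A' is integral. -/
theorem result (A A' B : Type u) [CommRing A] [CommRing A'] [CommRing B] (g : A' →+* A)
    (hg : Function.Surjective g) (f : B →+* A) (hf : f.IsIntegral) :
    ((RingHom.snd B A').comp ((f.comp (RingHom.fst B A')).eqLocus (g.comp (RingHom.snd B A'))).subtype).IsIntegral := by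
  intro a'
  set E := (f.comp (RingHom.fst B A')).eqLocus (g.comp (RingHom.snd B A')) with hE
  set π₁ : E →+* B := (RingHom.fst B A').comp E.subtype with hπ₁
  set π₂ : E →+* A' := (RingHom.snd B A').comp E.subtype with hπ₂
  have hcomm : f.comp π₁ = g.comp π₂ := by
    ext ⟨x, hx⟩
    exact hx
  have hsurj : Function.Surjective π₁ := by
    intro b
    obtain ⟨a'', ha''⟩ := hg (f b)
    exact ⟨⟨(b, a''), ha''.symm⟩, rfl⟩
  obtain ⟨p, hp, hpe⟩ := hf (g a')
  obtain ⟨q₀, hq₀, -, hq₀m⟩ := Polynomial.lifts_and_natDegree_eq_and_monic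
    (Polynomial.mem_lifts_of_surjective hsurj p) hp
  set k : A' := Polynomial.eval₂ π₂ a' q₀ with hk
  have hgk : g k = 0 := by
    rw [hk, Polynomial.hom_eval₂, ← hcomm, ← Polynomial.eval₂_map, hq₀]
    exact hpe
  let c : E := ⟨(0, k * a'), by
    change f 0 = g (k * a')
    rw [map_zero, map_mul, hgk, zero_mul]⟩
  have hc : π₂ c = k * a' := rfl
  refine ⟨q₀ * Polynomial.X - Polynomial.C c, ?_, ?_⟩
  · rcases subsingleton_or_nontrivial E with h | h
    · exact Polynomial.monic_of_subsingleton _
    · apply Polynomial.Monic.sub_of_left (hq₀m.mul Polynomial.monic_X)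
      refine lt_of_le_of_lt Polynomial.degree_C_le ?_
      rw [Polynomial.degree_mul_X, Polynomial.degree_eq_natDegree hq₀m.ne_zero]
      exact_mod_cast Nat.succ_pos _
  · rw [Polynomial.eval₂_sub, Polynomial.eval₂_mul, Polynomial.eval₂_X, Polynomial.eval₂_C, hc,
      ← hk, sub_self]

end Groth.Agent.S2018
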