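import Groth.Statements.S2020
import Mathlib
import Groth.Agent.Lib.helper3.MilnorFlat
-- import your own Groth.Agent.* helpers here

set_option autoImplicit false
universe u
open TensorProduct
open EtAlg

namespace Groth.Agent.S2020

/-- Let B' → B, B' → A', B → A and A' → A be ring homomorphisms forming a commutative square that is a
fibre product, B' = B ×_A A', with A' → A surjective. (1) Given a flat B-module N, a flat A'-module
M' and an A-linear isomorphism φ : A ⊗_B N ≅ A ⊗_{A'} M', the glued module N ×_φ M' (pairs (n, m')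
with φ(1 ⊗ n) = 1 ⊗ m') is a flat B'-module. (2) For every flat B'-module L', the map L' → (B ⊗_{B'}
L') × (A' ⊗_{B'} L') is injective, and any pair (x, y) whose two images in A ⊗_{B'} L' agree comes
from an element of L'. -/
theorem result (B' B A' A : Type u) [CommRing B'] [CommRing B] [CommRing A'] [CommRing A]
    [Algebra B' B] [Algebra B' A'] [Algebra B A] [Algebra A' A] [Algebra B' A] [IsScalarTower B' B A] [IsScalarTower B' A' A]
    (hsq : EtMil.IsFibreSquare B' B A' A) :
    (∀ (N M' : Type u) [AddCommGroup N] [Module B N] [Module B' N] [IsScalarTower B' B N]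
    [AddCommGroup M'] [Module A' M'] [Module B' M'] [IsScalarTower B' A' M'] (φ : A ⊗[B] N ≃ₗ[A] A ⊗[A'] M'), Module.Flat B N → Module.Flat A' M' → Module.Flat B' ↥(EtMil.glue B' φ)) ∧
    (∀ (L' : Type u) [AddCommGroup L'] [Module B' L'], Module.Flat B' L' →
      Function.Injective (fun l : L' => (((1 : B) ⊗ₜ[B'] l : B ⊗[B'] L'), ((1 : A') ⊗ₜ[B'] l : A' ⊗[B'] L'))) ∧
      ∀ (x : B ⊗[B'] L') (y : A' ⊗[B'] L'),
        (IsScalarTower.toAlgHom B' B A).toLinearMap.rTensor L' x = (IsScalarTower.toAlgHom B' A' A).toLinearMap.rTensor L' y →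
          ∃ l : L', (1 : B) ⊗ₜ[B'] l = x ∧ (1 : A') ⊗ₜ[B'] l = y) := by
  constructor
  · intro N M' _ _ _ _ _ _ _ _ φ hN hM'
    apply Groth.Agent.Lib.helper3.MilnorFlat.flat_of_hyp _ hsq
    constructor
    · exact Module.Flat.of_linearEquiv
        (LinearEquiv.ofBijective _ (Groth.Agent.Lib.helper3.Milnor.liftFst_bijective φ hsq))
    · exact Module.Flat.of_linearEquiv
        (LinearEquiv.ofBijective _ (Groth.Agent.Lib.helper3.Milnor.liftSnd_bijective φ hsq))
  · intro L' _ _ hL'
    refine ⟨?_, fun x y hxy => Groth.Agent.S6916.result B' B A' A hsq L' x y hxy⟩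
    have hinj : Function.Injective
        (Groth.Agent.Lib.helper3.MilnorFlat.mvF (B' := B') (B := B) (A' := A')) := by
      rw [injective_iff_map_eq_zero]
      intro x hx
      have h1 : algebraMap B' B x = 0 := congrArg Prod.fst hx
      have h2 : algebraMap B' A' x = 0 := congrArg Prod.snd hx
      exact Groth.Agent.Lib.helper3.Milnor.eq_zero_of_map_eq_zero hsq x h1 h2
    have hinj' := Module.Flat.rTensor_preserves_injective_linearMap (M := L')
      (Groth.Agent.Lib.helper3.MilnorFlat.mvF (B' := B') (B := B) (A' := A')) hinj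
    have key : ∀ l : L', (1 : B) ⊗ₜ[B'] l = 0 → (1 : A') ⊗ₜ[B'] l = 0 → l = 0 := by
      intro l h1 h2
      have e1 : ((1 : B), (0 : A')) ⊗ₜ[B'] l = 0 := by
        have := congrArg ((LinearMap.inl B' B A').rTensor L') h1
        simpa using this
      have e2 : ((0 : B), (1 : A')) ⊗ₜ[B'] l = 0 := by
        have := congrArg ((LinearMap.inr B' B A').rTensor L') h2
        simpa using this
      have e3 : (Groth.Agent.Lib.helper3.MilnorFlat.mvF (B' := B') (B := B) (A' := A')).rTensor L'
          ((1 : B') ⊗ₜ[B'] l) = 0 := by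
        rw [LinearMap.rTensor_tmul]
        have : Groth.Agent.Lib.helper3.MilnorFlat.mvF (B' := B') (B := B) (A' := A') 1 =
            ((1 : B), (0 : A')) + ((0 : B), (1 : A')) := by
          simp [Groth.Agent.Lib.helper3.MilnorFlat.mvF]
        rw [this, add_tmul, e1, e2, add_zero]
      have e4 := hinj' (e3.trans (map_zero _).symm)
      have e5 := congrArg (TensorProduct.lid B' L') e4
      simpa using e5
    intro l₁ l₂ h
    have h1 : (1 : B) ⊗ₜ[B'] (l₁ - l₂) = 0 := by
      rw [tmul_sub]; exact sub_eq_zero.mpr (congrArg Prod.fst h)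
    have h2 : (1 : A') ⊗ₜ[B'] (l₁ - l₂) = 0 := by
      rw [tmul_sub]; exact sub_eq_zero.mpr (congrArg Prod.snd h)
    exact sub_eq_zero.mp (key _ h1 h2)

end Groth.Agent.S2020
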