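import Groth.Statements.S2032
import Mathlib
-- import your own Groth.Agent.* helpers here

set_option autoImplicit false
universe u
open Smoothing

namespace Groth.Agent.S2032

open MvPolynomial in
/-- Cayley–Hamilton step: if `x * J ⊆ J ^ 2` for a finitely generated ideal `J` of `B` and `π` kills `J`,
then there is `h` with `h * J = 0` and `π h = (π x) ^ d`. -/
theorem exists_kill {B A : Type u} [CommRing B] [CommRing A] (π : B →+* A)
    (J : Ideal B) (hJfg : J.FG) (hJπ : ∀ y ∈ J, π y = 0) (x : B)
    (hx : ∀ y ∈ J, x * y ∈ J ^ 2) :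
    ∃ (h : B) (d : ℕ), (∀ y ∈ J, h * y = 0) ∧ π h = π x ^ d := by
  haveI : Module.Finite B J := Module.Finite.iff_fg.mpr hJfg
  let f : Module.End B J := algebraMap B (Module.End B J) x
  have hI : LinearMap.range f ≤ J • (⊤ : Submodule B J) := by
    rintro _ ⟨y, rfl⟩
    rw [Submodule.mem_smul_top_iff]
    change x • (y : B) ∈ J • J
    rw [smul_eq_mul, smul_eq_mul, ← pow_two]
    exact hx y y.2
  obtain ⟨p, hmonic, -, hcoeff, hp⟩ :=
    LinearMap.exists_monic_and_natDegree_eq_and_coeff_mem_pow_and_aeval_eq_zero B f J hI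
  refine ⟨p.eval x, p.natDegree, ?_, ?_⟩
  · intro y hy
    have h1 : Polynomial.aeval f p = algebraMap B (Module.End B J) (p.eval x) := by
      rw [Polynomial.aeval_algebraMap_apply, Polynomial.coe_aeval_eq_eval]
    rw [h1] at hp
    have h2 := LinearMap.congr_fun hp ⟨y, hy⟩
    have h3 : ((algebraMap B (Module.End B J) (p.eval x)) ⟨y, hy⟩ : B) = p.eval x * y := rfl
    rw [← h3, h2]
    rfl
  · rw [← Polynomial.eval_map_apply]
    have hmap : p.map π = Polynomial.X ^ p.natDegree := by
      ext k
      rw [Polynomial.coeff_map, Polynomial.coeff_X_pow]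
      split_ifs with hk
      · rw [hk, hmonic.coeff_natDegree, map_one]
      · rcases lt_or_gt_of_ne hk with hlt | hgt
        · apply hJπ
          have : p.natDegree - k ≠ 0 := by omega
          exact Ideal.pow_le_self this (hcoeff k)
        · rw [Polynomial.coeff_eq_zero_of_natDegree_lt hgt, map_zero]
    rw [hmap, Polynomial.eval_pow, Polynomial.eval_X]

theorem isLocalization_away {B A : Type u} [CommRing B] [CommRing A] (π : B →+* A)
    (hπ : Function.Surjective π) (a : A) (x h : B) (d : ℕ) (hx : π x = a) (hh : π h = a ^ d)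
    (hkill : ∀ y, π y = 0 → h * y = 0)
    [Algebra B (Localization.Away a)]
    (halg : ∀ b, algebraMap B (Localization.Away a) b = algebraMap A (Localization.Away a) (π b)) :
    IsLocalization.Away (x * h) (Localization.Away a) := by
  have hg : ∀ k : ℕ, π ((x * h) ^ k) = a ^ ((d + 1) * k) := by
    intro k
    rw [map_pow, map_mul, hx, hh, ← pow_succ', pow_mul]
  refine (isLocalization_iff _ _).mpr ⟨?_, ?_, ?_⟩
  · rintro ⟨_, k, rfl⟩
    rw [halg]
    simp only
    rw [hg]
    exact IsLocalization.map_units (Localization.Away a)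
      (⟨a ^ ((d + 1) * k), (d + 1) * k, rfl⟩ : Submonoid.powers a)
  · intro z
    obtain ⟨⟨w, ⟨_, k, rfl⟩⟩, hz⟩ := IsLocalization.surj (Submonoid.powers a) z
    obtain ⟨b, rfl⟩ := hπ w
    simp only at hz
    refine ⟨(b * x ^ (d * k), ⟨(x * h) ^ k, k, rfl⟩), ?_⟩
    simp only
    rw [halg, halg, hg, map_mul, map_pow π, hx, map_mul, ← hz, mul_assoc, ← map_mul, ← pow_add]
    congr 3
    ring
  · intro b₁ b₂ hb
    rw [halg, halg, IsLocalization.eq_iff_exists (Submonoid.powers a)] at hb
    obtain ⟨⟨_, k, rfl⟩, hc⟩ := hb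
    simp only at hc
    have h0 : π (x ^ k * (b₁ - b₂)) = 0 := by
      rw [map_mul, map_pow, hx, map_sub, mul_sub, hc, sub_self]
    have h1 := hkill _ h0
    refine ⟨⟨(x * h) ^ (k + 1), k + 1, rfl⟩, ?_⟩
    simp only
    have h2 : (x * h) ^ (k + 1) * (b₁ - b₂) = 0 := by
      have : (x * h) ^ (k + 1) * (b₁ - b₂) = x * h ^ k * (h * (x ^ k * (b₁ - b₂))) := by ring
      rw [this, h1, mul_zero]
    rw [mul_sub, sub_eq_zero] at h2
    exact h2

open MvPolynomial in
theorem main {R A : Type u} [CommRing R] [CommRing A] [Algebra R A] (a : A)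
    (n m c : ℕ) (hcn : c ≤ n) (hcm : c ≤ m) (rel : Fin m → MvPolynomial (Fin n) R)
    (v : Fin c → MvPolynomial (Fin n) R) (hv : ∀ i, v i = rel (Fin.castLE hcm i))
    (hom : MvPolynomial (Fin n) R →ₐ[R] A) (surj : Function.Surjective hom)
    (ker_eq : RingHom.ker hom.toRingHom = Ideal.span (Set.range rel))
    (a'' : A) (ha'' : a = a'' * hom (Smoothing.jacobianMinor rel (Fin.castLE hcm) (Fin.castLE hcn)))
    (hkill : ∀ a' : MvPolynomial (Fin n) R, hom a' = a → ∀ j : Fin m, c ≤ (j : ℕ) →
      a' * rel j ∈ Ideal.span (rel '' {j' : Fin m | (j' : ℕ) < c}) ⊔ Ideal.span (Set.range rel) ^ 2) :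
    Algebra.IsStandardSmooth R (Localization.Away a) := by
  classical
  have hrange : rel '' {j' : Fin m | (j' : ℕ) < c} = Set.range v := by
    ext y
    constructor
    · rintro ⟨j, hj, rfl⟩
      refine ⟨⟨j, hj⟩, ?_⟩
      rw [hv]
      rfl
    · rintro ⟨i, rfl⟩
      refine ⟨Fin.castLE hcm i, ?_, (hv i).symm⟩
      simp
  have hJcJ : Ideal.span (Set.range v) ≤ Ideal.span (Set.range rel) := by
    apply Ideal.span_mono
    rintro _ ⟨i, rfl⟩
    exact ⟨_, (hv i).symm⟩
  have hker : ∀ y, hom y = 0 ↔ y ∈ Ideal.span (Set.range rel) := fun y => by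
    rw [← ker_eq]
    rfl
  let π : (MvPolynomial (Fin n) R ⧸ Ideal.span (Set.range v)) →ₐ[R] A :=
    Ideal.Quotient.liftₐ (Ideal.span (Set.range v)) hom (fun y hy => (hker y).mpr (hJcJ hy))
  have hπmk : ∀ y, π (Ideal.Quotient.mk (Ideal.span (Set.range v)) y) = hom y := fun y => rfl
  have hπsurj : Function.Surjective π := by
    intro w
    obtain ⟨y, rfl⟩ := surj w
    exact ⟨Ideal.Quotient.mk _ y, hπmk y⟩
  have hJbar : ∀ b, π b = 0 ↔
      b ∈ (Ideal.span (Set.range rel)).map (Ideal.Quotient.mk (Ideal.span (Set.range v))) := by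
    intro b
    obtain ⟨y, rfl⟩ := Ideal.Quotient.mk_surjective b
    rw [hπmk, hker]
    constructor
    · exact fun h => Ideal.mem_map_of_mem _ h
    · intro h
      rw [Ideal.mem_map_iff_of_surjective _ Ideal.Quotient.mk_surjective] at h
      obtain ⟨y', hy', hyy'⟩ := h
      have h1 : y - y' ∈ Ideal.span (Set.range v) := by
        rw [← Ideal.Quotient.eq]
        exact hyy'.symm
      have h2 := (Ideal.span (Set.range rel)).add_mem (hJcJ h1) hy'
      rwa [sub_add_cancel] at h2
  obtain ⟨a', ha'⟩ := surj a
  have hkey : ∀ y ∈ Ideal.span (Set.range rel),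
      a' * y ∈ Ideal.span (Set.range v) ⊔ Ideal.span (Set.range rel) ^ 2 := by
    intro y hy
    refine Submodule.span_induction ?_ ?_ ?_ ?_ hy
    · rintro _ ⟨j, rfl⟩
      by_cases hj : c ≤ (j : ℕ)
      · have := hkill a' ha' j hj
        rwa [hrange] at this
      · apply Ideal.mem_sup_left
        apply Ideal.mul_mem_left
        apply Ideal.subset_span
        refine ⟨⟨j, by omega⟩, ?_⟩
        rw [hv]
        rfl
    · rw [mul_zero]
      exact Submodule.zero_mem _
    · intro x y _ _ hx hy
      rw [mul_add]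
      exact add_mem hx hy
    · intro r x _ hx
      rw [smul_eq_mul, mul_left_comm]
      exact Ideal.mul_mem_left _ _ hx
  have hkey' : ∀ b ∈ (Ideal.span (Set.range rel)).map (Ideal.Quotient.mk (Ideal.span (Set.range v))),
      Ideal.Quotient.mk (Ideal.span (Set.range v)) a' * b ∈
        ((Ideal.span (Set.range rel)).map (Ideal.Quotient.mk (Ideal.span (Set.range v)))) ^ 2 := by
    intro b hb
    rw [Ideal.mem_map_iff_of_surjective _ Ideal.Quotient.mk_surjective] at hb
    obtain ⟨y, hy, rfl⟩ := hb
    rw [← map_mul]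
    have h1 := Ideal.mem_map_of_mem (Ideal.Quotient.mk (Ideal.span (Set.range v))) (hkey y hy)
    rw [Ideal.map_sup, Ideal.map_pow, Ideal.map_quotient_self, bot_sup_eq] at h1
    exact h1
  have hJbarfg : ((Ideal.span (Set.range rel)).map
      (Ideal.Quotient.mk (Ideal.span (Set.range v)))).FG :=
    Ideal.FG.map (Submodule.fg_span (Set.finite_range rel)) _
  obtain ⟨h, d, hh1, hh2⟩ := exists_kill π.toRingHom _ hJbarfg
    (fun y hy => (hJbar y).mpr hy) (Ideal.Quotient.mk (Ideal.span (Set.range v)) a') hkey'
  have hh2' : π h = a ^ d := by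
    have : π (Ideal.Quotient.mk (Ideal.span (Set.range v)) a') = a := by rw [hπmk, ha']
    rw [← this]
    exact hh2
  letI : Algebra (MvPolynomial (Fin n) R ⧸ Ideal.span (Set.range v)) (Localization.Away a) :=
    ((algebraMap A (Localization.Away a)).comp π.toRingHom).toAlgebra
  have halg : ∀ b, algebraMap (MvPolynomial (Fin n) R ⧸ Ideal.span (Set.range v))
      (Localization.Away a) b = algebraMap A (Localization.Away a) (π b) := fun b => rfl
  haveI : IsScalarTower R (MvPolynomial (Fin n) R ⧸ Ideal.span (Set.range v))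
      (Localization.Away a) := IsScalarTower.of_algebraMap_eq (R := R)
      (S := MvPolynomial (Fin n) R ⧸ Ideal.span (Set.range v)) (A := Localization.Away a) (fun r => by
    rw [halg, π.commutes]
    exact IsScalarTower.algebraMap_apply R A (Localization.Away a) r)
  haveI : IsLocalization.Away (Ideal.Quotient.mk (Ideal.span (Set.range v)) a' * h)
      (Localization.Away a) :=
    isLocalization_away π.toRingHom hπsurj a (Ideal.Quotient.mk (Ideal.span (Set.range v)) a') h d
      (by change π _ = a; rw [hπmk, ha']) hh2'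
      (fun y hy => hh1 y ((hJbar y).mp hy)) halg
  let P₁ : Algebra.PreSubmersivePresentation R
      (MvPolynomial (Fin n) R ⧸ Ideal.span (Set.range v)) (Fin n) (Fin c) :=
    Algebra.PreSubmersivePresentation.naive (v := v) (Fin.castLE hcn) (Fin.castLE_injective hcn)
  let Q₁ : Algebra.PreSubmersivePresentation (MvPolynomial (Fin n) R ⧸ Ideal.span (Set.range v))
      (Localization.Away a) Unit Unit :=
    Algebra.PreSubmersivePresentation.localizationAway (Localization.Away a)
      (Ideal.Quotient.mk (Ideal.span (Set.range v)) a' * h)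
  have hjac : IsUnit (Q₁.comp P₁).jacobian := by
    rw [Algebra.PreSubmersivePresentation.comp_jacobian_eq_jacobian_smul_jacobian,
      Algebra.PreSubmersivePresentation.localizationAway_jacobian, Algebra.smul_def]
    apply IsUnit.mul
    · rw [Algebra.PreSubmersivePresentation.jacobian_eq_jacobiMatrix_det]
      have e1 : algebraMap P₁.Ring (MvPolynomial (Fin n) R ⧸ Ideal.span (Set.range v))
          P₁.jacobiMatrix.det = Ideal.Quotient.mk (Ideal.span (Set.range v))
            (Smoothing.jacobianMinor rel (Fin.castLE hcm) (Fin.castLE hcn)) := by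
        change Ideal.Quotient.mk (Ideal.span (Set.range v)) _ = _
        congr 1
        rw [Smoothing.jacobianMinor, ← Matrix.det_transpose]
        congr 1
        ext i j
        rw [Matrix.transpose_apply, Algebra.PreSubmersivePresentation.jacobiMatrix_naive,
          Matrix.of_apply, hv]
      rw [e1, halg, hπmk]
      have hu : IsUnit (algebraMap A (Localization.Away a) a) :=
        IsLocalization.Away.algebraMap_isUnit a
      have hu' : IsUnit (algebraMap A (Localization.Away a) a'' *
          algebraMap A (Localization.Away a)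
            (hom (Smoothing.jacobianMinor rel (Fin.castLE hcm) (Fin.castLE hcn)))) := by
        rw [← map_mul, ← ha'']
        exact hu
      exact isUnit_of_mul_isUnit_right hu'
    · exact IsLocalization.Away.algebraMap_isUnit _
  exact Algebra.SubmersivePresentation.isStandardSmooth ⟨Q₁.comp P₁, hjac⟩

/-- For a finitely presented `R`-algebra `A` and `a ∈ A`, if `a` is elementary standard then `A_a` is
standard smooth over `R`. (Part (f), the converse for large powers of `a`, is not stated: as
published it fails, for example for the nodal cubic `A = {g ∈ ℚ[u] : g(0) = g(1)}` and `a =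
u(u-1)`.) -/
theorem result {R A : Type u} [CommRing R] [CommRing A]
    [Algebra R A] [Algebra.FinitePresentation R A] (a : A)
    (ha : Smoothing.IsElementaryStandard R A a) : Algebra.IsStandardSmooth R (Localization.Away a) := by
  obtain ⟨P, ⟨a'', ha''⟩, hkill⟩ := ha
  exact main a P.n P.m P.c P.hcn P.hcm P.rel (fun i => P.rel (Fin.castLE P.hcm i)) (fun _ => rfl)
    P.hom P.surj P.ker_eq a'' ha'' hkill

end Groth.Agent.S2032
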