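import Groth.Statements.S2041
import Groth.Agent.Lib.helper3.EtaleLift
import Groth.Agent.S1959
-- import your own Groth.Agent.* helpers here

set_option autoImplicit false
universe u
open CAlg

namespace Groth.Agent.S2041

open Polynomial in
theorem aeval_mem_map_of_coeff_mem {A' B' : Type u} [CommRing A'] [CommRing B'] [Algebra A' B']
    (q : A'[X]) (K : Ideal A') (hq : ∀ i, q.coeff i ∈ K) (b' : B') :
    aeval b' q ∈ K.map (algebraMap A' B') := by
  rw [aeval_eq_sum_range]
  refine Ideal.sum_mem _ fun i _ ↦ ?_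
  rw [Algebra.smul_def]
  exact Ideal.mul_mem_right _ _ (Ideal.mem_map_of_mem _ (hq i))

open Polynomial in
theorem idem_of_coprime {A' B' : Type u} [CommRing A'] [CommRing B'] [Algebra A' B']
    (J : Ideal B') (b' : B') (g' h' r s : A'[X]) (hrs : r * g' + s * h' = 1)
    (hzero : aeval b' (g' * h') = 0) (d : ℕ) (hd : 1 ≤ d)
    (hβ : b' * b' - b' ∈ J)
    (hg : aeval b' g' - b' ^ d ∈ J) (hh : aeval b' h' - (b' - 1) ^ d ∈ J) :
    IsIdempotentElem (aeval b' (r * g')) ∧ aeval b' (r * g') - b' ∈ J := by
  have h1 : aeval b' (r * g') + aeval b' (s * h') = 1 := by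
    rw [← map_add, hrs, map_one]
  have h0 : aeval b' (r * g') * aeval b' (s * h') = 0 := by
    rw [← map_mul]
    have : r * g' * (s * h') = (r * s) * (g' * h') := by ring
    rw [this, map_mul, hzero, mul_zero]
  constructor
  · have : aeval b' (s * h') = 1 - aeval b' (r * g') := by rw [← h1]; ring
    rw [this, mul_sub, mul_one, sub_eq_zero] at h0
    exact h0.symm
  · -- work in the quotient
    rw [← Ideal.Quotient.eq_zero_iff_mem] at hβ hg hh ⊢
    set π := Ideal.Quotient.mk J
    set β := π b' with hβdef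
    simp only [map_sub, map_mul, map_pow, map_one, sub_eq_zero] at hβ hg hh
    rw [map_sub, sub_eq_zero]
    have hβpow : ∀ n : ℕ, 1 ≤ n → β ^ n = β := by
      intro n hn
      induction n, hn using Nat.le_induction with
      | base => exact pow_one _
      | succ n hn ih => rw [pow_succ, ih, hβ]
    have hβ1 : (β - 1) ^ d * β = 0 := by
      obtain ⟨k, rfl⟩ : ∃ k, d = k + 1 := ⟨d - 1, by omega⟩
      rw [pow_succ, mul_assoc]
      have : (β - 1) * β = 0 := by rw [sub_mul, one_mul, hβ, sub_self]
      rw [this, mul_zero]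
    have e1 : π (aeval b' (r * g')) = π (aeval b' r) * β := by
      rw [map_mul, map_mul, hg, hβpow d hd]
    have e2 : π (aeval b' (s * h')) * β = 0 := by
      rw [map_mul, map_mul, hh, mul_assoc, hβ1, mul_zero]
    have e3 : π (aeval b' (r * g')) + π (aeval b' (s * h')) = 1 := by
      rw [← map_add, h1, map_one]
    have e4 : π (aeval b' (r * g')) * β = π (aeval b' (r * g')) := by
      rw [e1, mul_assoc, hβ]
    calc π (aeval b' (r * g')) = π (aeval b' (r * g')) * β := e4.symm
      _ = (π (aeval b' (r * g')) + π (aeval b' (s * h'))) * β := by rw [add_mul, e2, add_zero]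
      _ = β := by rw [e3, one_mul]

open TensorProduct in
/-- Let `I ⊆ A` be an ideal, `A → B` integral and `ē` an idempotent of `B/IB`. Then there is an étale
`A`-algebra `A'` with `A/I → A'/IA'` bijective and an idempotent of `A' ⊗ B` whose class modulo `I`
agrees with that of any lift of `ē`. -/
theorem result {A B : Type u} [CommRing A] [CommRing B] [Algebra A B]
    [Algebra.IsIntegral A B] (I : Ideal A) (e : B ⧸ I.map (algebraMap A B)) (he : IsIdempotentElem e) :
    ∃ (A' : Type u) (_ : CommRing A') (_ : Algebra A A'), Algebra.Etale A A' ∧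
      Function.Bijective (algebraMap (A ⧸ I) (A' ⧸ I.map (algebraMap A A'))) ∧
      ∃ e' : A' ⊗[A] B, IsIdempotentElem e' ∧
        ∀ b : B, Ideal.Quotient.mk (I.map (algebraMap A B)) b = e →
          e' - 1 ⊗ₜ b ∈ I.map (algebraMap A (A' ⊗[A] B)) := by
  obtain ⟨b₀, hb₀⟩ := Ideal.Quotient.mk_surjective e
  have hb : IsIdempotentElem (Ideal.Quotient.mk (I.map (algebraMap A B)) b₀) := by rw [hb₀]; exact he
  obtain ⟨f, d, hfm, hd, hfb, hfmap⟩ := Groth.Agent.S1959.result A B I b₀ hb
  have hX1 : (Polynomial.X - 1 : Polynomial (A ⧸ I)) = Polynomial.X - Polynomial.C 1 := by simp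
  have hg : (Polynomial.X ^ d : Polynomial (A ⧸ I)).Monic := Polynomial.monic_X_pow d
  have hh : ((Polynomial.X - 1) ^ d : Polynomial (A ⧸ I)).Monic := by
    rw [hX1]; exact (Polynomial.monic_X_sub_C 1).pow d
  have hcop : IsCoprime (Polynomial.X ^ d : Polynomial (A ⧸ I)) ((Polynomial.X - 1) ^ d) := by
    apply IsCoprime.pow
    exact ⟨1, -1, by ring⟩
  obtain ⟨A', _, _, hE, φ', g', h', hker, -, hg', hh', ⟨r, s, hrs⟩, hfac, h1, h2⟩ :=
    Groth.Agent.Lib.helper3.EtaleLift.exists_etale_lift_coprime_factorization I f hfm _ _ hg hh hcop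
      hfmap 1 (by rw [map_one]; exact isUnit_one)
  obtain ⟨hbij, hmk⟩ := Groth.Agent.Lib.helper3.EtaleLift.bijective_of_ker_eq I A' φ' hker
  refine ⟨A', inferInstance, inferInstance, hE, hbij, ?_⟩
  -- notation
  have hincl : ∀ x ∈ I.map (algebraMap A B),
      (Algebra.TensorProduct.includeRight (R := A) (A := A') (B := B)) x ∈
        I.map (algebraMap A (TensorProduct A A' B)) := by
    intro x hx
    have h3 := Ideal.mem_map_of_mem
      (Algebra.TensorProduct.includeRight (R := A) (A := A') (B := B)).toRingHom hx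
    rw [Ideal.map_map] at h3
    have h4 : ((Algebra.TensorProduct.includeRight (R := A) (A := A') (B := B)).toRingHom).comp
        (algebraMap A B) = algebraMap A (TensorProduct A A' B) :=
      (Algebra.TensorProduct.includeRight (R := A) (A := A') (B := B)).comp_algebraMap
    rw [h4] at h3
    exact h3
  have hJ : (I.map (algebraMap A A')).map (algebraMap A' (TensorProduct A A' B)) =
      I.map (algebraMap A (TensorProduct A A' B)) := by
    rw [Ideal.map_map, ← IsScalarTower.algebraMap_eq]
  have hcoef : ∀ q : Polynomial A', q.map φ'.toRingHom = 0 → ∀ b' : TensorProduct A A' B,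
      Polynomial.aeval b' q ∈ I.map (algebraMap A (TensorProduct A A' B)) := by
    intro q hq b'
    rw [← hJ]
    apply aeval_mem_map_of_coeff_mem
    intro i
    rw [← hker]
    have := congrArg (fun p ↦ Polynomial.coeff p i) hq
    simpa using this
  have hbb : b₀ * b₀ - b₀ ∈ I.map (algebraMap A B) := by
    rw [← Ideal.Quotient.eq_zero_iff_mem, map_sub, map_mul, hb.eq, sub_self]
  have key := idem_of_coprime (I.map (algebraMap A (TensorProduct A A' B)))
    ((1 : A') ⊗ₜ[A] b₀) g' h' r s hrs ?_ d hd ?_ ?_ ?_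
  · refine ⟨Polynomial.aeval ((1 : A') ⊗ₜ[A] b₀) (r * g'), key.1, fun b hbe ↦ ?_⟩
    have hdiff : b - b₀ ∈ I.map (algebraMap A B) := by
      rw [← Ideal.Quotient.eq_zero_iff_mem, map_sub, hbe, hb₀, sub_self]
    have h5 := hincl _ hdiff
    have h6 : Polynomial.aeval ((1 : A') ⊗ₜ[A] b₀) (r * g') - (1 : A') ⊗ₜ[A] b =
        (Polynomial.aeval ((1 : A') ⊗ₜ[A] b₀) (r * g') - (1 : A') ⊗ₜ[A] b₀) -
          (Algebra.TensorProduct.includeRight (R := A) (A := A') (B := B)) (b - b₀) := by
      rw [map_sub]
      simp only [Algebra.TensorProduct.includeRight_apply]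
      ring
    rw [h6]
    exact Ideal.sub_mem _ key.2 h5
  · -- aeval b' (g' * h') = 0
    rw [← hfac, Polynomial.aeval_map_algebraMap]
    have : ((1 : A') ⊗ₜ[A] b₀ : TensorProduct A A' B) =
        (Algebra.TensorProduct.includeRight (R := A) (A := A') (B := B)) b₀ := rfl
    rw [this, Polynomial.aeval_algHom_apply, hfb, map_zero]
  · -- b' * b' - b' ∈ J
    have := hincl _ hbb
    rw [map_sub, map_mul] at this
    simpa [Algebra.TensorProduct.includeRight_apply] using this
  · -- g'
    have h7 := hcoef (g' - Polynomial.X ^ d) (by rw [Polynomial.map_sub, h1]; simp)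
      ((1 : A') ⊗ₜ[A] b₀)
    simpa using h7
  · -- h'
    have h7 := hcoef (h' - (Polynomial.X - 1) ^ d) (by rw [Polynomial.map_sub, h2]; simp)
      ((1 : A') ⊗ₜ[A] b₀)
    simpa using h7

end Groth.Agent.S2041
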