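import Groth.Statements.S2044
import Groth.Agent.Lib.helper3.EtaleLift
-- import your own Groth.Agent.* helpers here

set_option autoImplicit false
universe u
open CAlg

namespace Groth.Agent.S2044

open Polynomial in
/-- noncommutative version of the idempotent construction -/
theorem idem_of_coprime' {A' : Type u} {B' C : Type u} [CommRing A'] [Ring B'] [Algebra A' B']
    [Ring C] (π : B' →+* C) (b' : B') (g' h' r s : A'[X]) (hrs : r * g' + s * h' = 1)
    (hzero : aeval b' (g' * h') = 0) (d : ℕ) (hd : 1 ≤ d)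
    (hβ : π b' * π b' = π b')
    (hg : π (aeval b' g') = π b' ^ d) (hh : π (aeval b' h') = (π b' - 1) ^ d) :
    IsIdempotentElem (aeval b' (r * g')) ∧ π (aeval b' (r * g')) = π b' := by
  have h1 : aeval b' (r * g') + aeval b' (s * h') = 1 := by
    rw [← map_add, hrs, map_one]
  have h0 : aeval b' (r * g') * aeval b' (s * h') = 0 := by
    rw [← map_mul]
    have : r * g' * (s * h') = (r * s) * (g' * h') := by ring
    rw [this, map_mul, hzero, mul_zero]
  constructor
  · have : aeval b' (s * h') = 1 - aeval b' (r * g') := by rw [← h1]; abel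
    rw [this, mul_sub, mul_one, sub_eq_zero] at h0
    exact h0.symm
  · set β := π b' with hβdef
    have hβpow : ∀ n : ℕ, 1 ≤ n → β ^ n = β := by
      intro n hn
      induction n, hn using Nat.le_induction with
      | base => exact pow_one _
      | succ n hn ih => rw [pow_succ, ih, hβ]
    have hβ1 : (β - 1) ^ d * β = 0 := by
      obtain ⟨k, rfl⟩ : ∃ k, d = k + 1 := ⟨d - 1, by omega⟩
      rw [pow_succ, mul_assoc]
      have : (β - 1) * β = 0 := by rw [sub_mul, one_mul, hβ, sub_self]
      rw [this, mul_zero]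
    have e1 : π (aeval b' (r * g')) = π (aeval b' r) * β := by
      rw [map_mul, map_mul, hg, hβpow d hd]
    have e2 : π (aeval b' (s * h')) * β = 0 := by
      rw [map_mul, map_mul, hh, mul_assoc, hβ1, mul_zero]
    have e3 : π (aeval b' (r * g')) + π (aeval b' (s * h')) = 1 := by
      rw [← map_add, h1, map_one]
    have e4 : π (aeval b' (r * g')) * β = π (aeval b' (r * g')) := by
      rw [e1, mul_assoc, hβ]
    calc π (aeval b' (r * g')) = π (aeval b' (r * g')) * β := e4.symm
      _ = (π (aeval b' (r * g')) + π (aeval b' (s * h'))) * β := by rw [add_mul, e2, add_zero]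
      _ = β := by rw [e3, one_mul]

/-- Two retracts with conjugate idempotents are isomorphic. -/
noncomputable def retractEquiv {R : Type u} [CommRing R] {T₁ T₂ N₁ N₂ : Type u}
    [AddCommGroup T₁] [AddCommGroup T₂] [AddCommGroup N₁] [AddCommGroup N₂]
    [Module R T₁] [Module R T₂] [Module R N₁] [Module R N₂]
    (i₁ : T₁ →ₗ[R] N₁) (p₁ : N₁ →ₗ[R] T₁) (i₂ : T₂ →ₗ[R] N₂) (p₂ : N₂ →ₗ[R] T₂)
    (h₁ : p₁ ∘ₗ i₁ = LinearMap.id) (h₂ : p₂ ∘ₗ i₂ = LinearMap.id) (θ : N₁ ≃ₗ[R] N₂)
    (hθ : ∀ z, θ (i₁ (p₁ z)) = i₂ (p₂ (θ z))) : T₁ ≃ₗ[R] T₂ :=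
  LinearEquiv.ofLinear (p₂ ∘ₗ θ.toLinearMap ∘ₗ i₁) (p₁ ∘ₗ θ.symm.toLinearMap ∘ₗ i₂)
    (by
      ext t
      simp only [LinearMap.coe_comp, LinearEquiv.coe_coe, Function.comp_apply, LinearMap.id_coe,
        id_eq]
      have := hθ (θ.symm (i₂ t))
      rw [LinearEquiv.apply_symm_apply] at this
      rw [this]
      have h3 : p₂ (i₂ t) = t := LinearMap.congr_fun h₂ t
      rw [h3, h3])
    (by
      ext t
      simp only [LinearMap.coe_comp, LinearEquiv.coe_coe, Function.comp_apply, LinearMap.id_coe,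
        id_eq]
      have := hθ (i₁ t)
      have h3 : p₁ (i₁ t) = t := LinearMap.congr_fun h₁ t
      rw [h3] at this
      rw [← this, LinearEquiv.symm_apply_apply, h3])

open TensorProduct in
/-- coordinates on the base change of `Fin n → R` -/
noncomputable def coordEquiv (R R' : Type u) [CommRing R] [CommRing R'] [Algebra R R'] (n : ℕ) :
    R' ⊗[R] (Fin n → R) ≃ₗ[R'] (Fin n → R') :=
  (Algebra.TensorProduct.basis R' (Pi.basisFun R (Fin n))).equivFun

open TensorProduct in
theorem coordEquiv_baseChange (R R' : Type u) [CommRing R] [CommRing R'] [Algebra R R'] (n : ℕ)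
    (f : (Fin n → R) →ₗ[R] (Fin n → R)) (z : R' ⊗[R] (Fin n → R)) :
    coordEquiv R R' n (f.baseChange R' z) =
      ((LinearMap.toMatrix' f).map (algebraMap R R')).mulVec (coordEquiv R R' n z) := by
  have h := LinearMap.toMatrix_mulVec_repr
    (Algebra.TensorProduct.basis R' (Pi.basisFun R (Fin n)))
    (Algebra.TensorProduct.basis R' (Pi.basisFun R (Fin n))) (f.baseChange R') z
  rw [LinearMap.toMatrix_baseChange, LinearMap.toMatrix_eq_toMatrix'] at h
  exact h.symm

open Polynomial in
/-- A matrix which is idempotent modulo `I` is killed by a monic polynomial congruent to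
`X^d (X-1)^d`. -/
theorem exists_monic_of_idem_mod {A : Type u} [CommRing A] (I : Ideal A) {n : ℕ}
    (E : Matrix (Fin n) (Fin n) A)
    (hE : E.map (Ideal.Quotient.mk I) * E.map (Ideal.Quotient.mk I) = E.map (Ideal.Quotient.mk I)) :
    ∃ (f : A[X]) (d : ℕ), f.Monic ∧ 1 ≤ d ∧ aeval E f = 0 ∧
      f.map (Ideal.Quotient.mk I) = X ^ d * (X - 1) ^ d := by
  rcases subsingleton_or_nontrivial A with hA | hA
  · have hQ : Subsingleton (A ⧸ I) := (Ideal.Quotient.mk I).codomain_trivial
    exact ⟨1, 1, monic_one, le_refl _, Subsingleton.elim _ _, Subsingleton.elim _ _⟩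
  set N := E * E - E with hNdef
  have hN : N.map (Ideal.Quotient.mk I) = 0 := by
    have : N.map (Ideal.Quotient.mk I) = (Ideal.Quotient.mk I).mapMatrix N := rfl
    rw [this, hNdef, map_sub, map_mul]
    change E.map (Ideal.Quotient.mk I) * E.map (Ideal.Quotient.mk I) - E.map (Ideal.Quotient.mk I) = 0
    rw [hE, sub_self]
  set p := N.charpoly with hpdef
  have hp : p.Monic := Matrix.charpoly_monic N
  have hpmap : p.map (Ideal.Quotient.mk I) = X ^ n := by
    rw [hpdef, ← Matrix.charpoly_map, hN, Matrix.charpoly_zero, Fintype.card_fin]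
  have hpc : aeval N p = 0 := Matrix.aeval_self_charpoly N
  set q : A[X] := X * (X - C 1) with hq
  have hqm : q.Monic := monic_X.mul (monic_X_sub_C 1)
  have hqd : q.natDegree ≠ 0 := by
    rw [hq, monic_X.natDegree_mul (monic_X_sub_C 1), natDegree_X, natDegree_X_sub_C]
    norm_num
  refine ⟨(p * X).comp q, n + 1, (hp.mul monic_X).comp hqm hqd, Nat.le_add_left _ _, ?_, ?_⟩
  · rw [aeval_comp]
    have : aeval E q = N := by
      simp [hq, hNdef, mul_sub]
    rw [this, map_mul, hpc, zero_mul]
  · rw [Polynomial.map_comp, Polynomial.map_mul, hpmap, map_X, hq, Polynomial.map_mul, map_X,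
      Polynomial.map_sub, map_X, Polynomial.map_C, map_one, mul_comp, X_pow_comp, X_comp]
    simp only [map_one]
    rw [mul_pow, pow_succ, pow_succ]
    ring

open TensorProduct in
/-- Let `I ⊆ A` be an ideal and `P` a finite projective `A/I`-module. Then there is an étale `A`-algebra
`A'` with `A/I → A'/IA'` bijective and a finite projective `A'`-module whose reduction modulo `IA'`
is the base change of `P`. -/
theorem result {A : Type u} [CommRing A] (I : Ideal A) (P : Type u)
    [AddCommGroup P] [Module (A ⧸ I) P] [Module.Finite (A ⧸ I) P] [Module.Projective (A ⧸ I) P] :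
    ∃ (A' : Type u) (_ : CommRing A') (_ : Algebra A A'), Algebra.Etale A A' ∧
      Function.Bijective (algebraMap (A ⧸ I) (A' ⧸ I.map (algebraMap A A'))) ∧
      ∃ (P' : Type u) (_ : AddCommGroup P') (_ : Module A' P'), Module.Finite A' P' ∧
        Module.Projective A' P' ∧
        Nonempty (((A' ⧸ I.map (algebraMap A A')) ⊗[A'] P') ≃ₗ[A' ⧸ I.map (algebraMap A A')]
          ((A' ⧸ I.map (algebraMap A A')) ⊗[A ⧸ I] P)) := by
  classical
  obtain ⟨n, πb, hπb⟩ := Module.Finite.exists_fin' (A ⧸ I) P
  obtain ⟨σ, hσ⟩ := Module.projective_lifting_property πb LinearMap.id hπb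
  let εlin : (Fin n → A ⧸ I) →ₗ[A ⧸ I] (Fin n → A ⧸ I) := σ ∘ₗ πb
  let εb : Matrix (Fin n) (Fin n) (A ⧸ I) := LinearMap.toMatrix' εlin
  have hεlin : εlin ∘ₗ εlin = εlin := by
    apply LinearMap.ext
    intro v
    simp only [εlin, LinearMap.coe_comp, Function.comp_apply]
    have := LinearMap.congr_fun hσ (πb v)
    simp only [LinearMap.coe_comp, Function.comp_apply, LinearMap.id_coe, id_eq] at this
    rw [this]
  have hεb : εb * εb = εb := by rw [← LinearMap.toMatrix'_comp, hεlin]
  let E : Matrix (Fin n) (Fin n) A :=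
    Matrix.of fun i j ↦ (Ideal.Quotient.mk_surjective (εb i j)).choose
  have hE : E.map (Ideal.Quotient.mk I) = εb := by
    ext i j
    exact (Ideal.Quotient.mk_surjective (εb i j)).choose_spec
  obtain ⟨f, d, hfm, hd, hfE, hfmap⟩ := exists_monic_of_idem_mod I E (by rw [hE]; exact hεb)
  have hX1 : (Polynomial.X - 1 : Polynomial (A ⧸ I)) = Polynomial.X - Polynomial.C 1 := by simp
  have hg : (Polynomial.X ^ d : Polynomial (A ⧸ I)).Monic := Polynomial.monic_X_pow d
  have hh : ((Polynomial.X - 1) ^ d : Polynomial (A ⧸ I)).Monic := by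
    rw [hX1]; exact (Polynomial.monic_X_sub_C 1).pow d
  have hcop : IsCoprime (Polynomial.X ^ d : Polynomial (A ⧸ I)) ((Polynomial.X - 1) ^ d) := by
    apply IsCoprime.pow
    exact ⟨1, -1, by ring⟩
  obtain ⟨A', _, _, hEt, φ', g', h', hker, -, hg', hh', ⟨r, s, hrs⟩, hfac, h1, h2⟩ :=
    Groth.Agent.Lib.helper3.EtaleLift.exists_etale_lift_coprime_factorization I f hfm _ _ hg hh hcop
      hfmap 1 (by rw [map_one]; exact isUnit_one)
  obtain ⟨hbij, hmk⟩ := Groth.Agent.Lib.helper3.EtaleLift.bijective_of_ker_eq I A' φ' hker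
  refine ⟨A', inferInstance, inferInstance, hEt, hbij, ?_⟩
  have hkey : ∀ q : Polynomial A', q.map (Ideal.Quotient.mk (I.map (algebraMap A A'))) =
      (q.map φ'.toRingHom).map (algebraMap (A ⧸ I) (A' ⧸ I.map (algebraMap A A'))) := by
    intro q
    rw [Polynomial.map_map]
    congr 1
    ext x
    exact (hmk x).symm
  let E' : Matrix (Fin n) (Fin n) A' := E.map (algebraMap A A')
  let π : Matrix (Fin n) (Fin n) A' →+* Matrix (Fin n) (Fin n) (A' ⧸ I.map (algebraMap A A')) :=
    (Ideal.Quotient.mk (I.map (algebraMap A A'))).mapMatrix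
  have hπE' : π E' = εb.map (algebraMap (A ⧸ I) (A' ⧸ I.map (algebraMap A A'))) := by
    ext i j
    simp only [π, E', RingHom.mapMatrix_apply, Matrix.map_apply, ← hE]
    rfl
  have hβ : π E' * π E' = π E' := by
    rw [hπE']
    have := congrArg (algebraMap (A ⧸ I) (A' ⧸ I.map (algebraMap A A'))).mapMatrix hεb
    rw [map_mul] at this
    exact this
  have hπaeval : ∀ q : Polynomial A', π (Polynomial.aeval E' q) =
      Polynomial.aeval (π E') (q.map (Ideal.Quotient.mk (I.map (algebraMap A A')))) := by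
    intro q
    have h3 : π (Polynomial.aeval E' q) =
        (Ideal.Quotient.mkₐ A' (I.map (algebraMap A A'))).mapMatrix (Polynomial.aeval E' q) := rfl
    rw [h3, ← Polynomial.aeval_algHom_apply]
    have h4 : (Ideal.Quotient.mkₐ A' (I.map (algebraMap A A'))).mapMatrix E' = π E' := rfl
    rw [h4]
    exact (Polynomial.aeval_map_algebraMap (A' ⧸ I.map (algebraMap A A')) (π E') q).symm
  have key := idem_of_coprime' π E' g' h' r s hrs ?_ d hd hβ ?_ ?_
  rotate_left
  · -- aeval E' (g' * h') = 0
    rw [← hfac, Polynomial.aeval_map_algebraMap]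
    have h3 : E' = (Algebra.ofId A A').mapMatrix E := rfl
    rw [h3, Polynomial.aeval_algHom_apply, hfE, map_zero]
  · rw [hπaeval, hkey, h1]
    simp
  · rw [hπaeval, hkey, h2]
    simp
  obtain ⟨hidem, hπe'⟩ := key
  set e' : Matrix (Fin n) (Fin n) A' := Polynomial.aeval E' (r * g') with he'
  let ε'lin : (Fin n → A') →ₗ[A'] (Fin n → A') := Matrix.toLin' e'
  have hε'lin : ∀ v, ε'lin (ε'lin v) = ε'lin v := by
    intro v
    simp only [ε'lin, Matrix.toLin'_apply, Matrix.mulVec_mulVec, hidem.eq]
  refine ⟨LinearMap.range ε'lin, inferInstance, inferInstance, inferInstance, ?_, ?_⟩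
  · refine Module.Projective.of_split (LinearMap.range ε'lin).subtype ε'lin.rangeRestrict ?_
    apply LinearMap.ext
    rintro ⟨x, v, rfl⟩
    simp only [LinearMap.coe_comp, Submodule.coe_subtype, Function.comp_apply, LinearMap.id_coe,
      id_eq]
    apply Subtype.ext
    exact hε'lin v
  · have hsplit : ε'lin.rangeRestrict ∘ₗ (LinearMap.range ε'lin).subtype = LinearMap.id := by
      apply LinearMap.ext
      rintro ⟨x, v, rfl⟩
      simp only [LinearMap.coe_comp, Submodule.coe_subtype, Function.comp_apply, LinearMap.id_coe,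
        id_eq]
      apply Subtype.ext
      exact hε'lin v
    have hcomp' : (LinearMap.range ε'lin).subtype ∘ₗ ε'lin.rangeRestrict = ε'lin := by
      apply LinearMap.ext
      intro v
      rfl
    refine ⟨retractEquiv
      ((LinearMap.range ε'lin).subtype.baseChange (A' ⧸ I.map (algebraMap A A')))
      (ε'lin.rangeRestrict.baseChange (A' ⧸ I.map (algebraMap A A')))
      (σ.baseChange (A' ⧸ I.map (algebraMap A A')))
      (πb.baseChange (A' ⧸ I.map (algebraMap A A')))
      ?_ ?_
      ((coordEquiv A' (A' ⧸ I.map (algebraMap A A')) n).trans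
        (coordEquiv (A ⧸ I) (A' ⧸ I.map (algebraMap A A')) n).symm) ?_⟩
    · rw [← LinearMap.baseChange_comp, hsplit, LinearMap.baseChange_id]
    · rw [← LinearMap.baseChange_comp, hσ, LinearMap.baseChange_id]
    · intro z
      apply (coordEquiv (A ⧸ I) (A' ⧸ I.map (algebraMap A A')) n).injective
      have hl : (LinearMap.range ε'lin).subtype.baseChange (A' ⧸ I.map (algebraMap A A'))
          (ε'lin.rangeRestrict.baseChange (A' ⧸ I.map (algebraMap A A')) z) =
          ε'lin.baseChange (A' ⧸ I.map (algebraMap A A')) z := by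
        rw [← LinearMap.comp_apply, ← LinearMap.baseChange_comp, hcomp']
      have hr : σ.baseChange (A' ⧸ I.map (algebraMap A A'))
          (πb.baseChange (A' ⧸ I.map (algebraMap A A')) (((coordEquiv A' (A' ⧸ I.map (algebraMap A A')) n).trans
        (coordEquiv (A ⧸ I) (A' ⧸ I.map (algebraMap A A')) n).symm) z)) =
          εlin.baseChange (A' ⧸ I.map (algebraMap A A')) (((coordEquiv A' (A' ⧸ I.map (algebraMap A A')) n).trans
        (coordEquiv (A ⧸ I) (A' ⧸ I.map (algebraMap A A')) n).symm) z) := by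
        rw [← LinearMap.comp_apply, ← LinearMap.baseChange_comp]
      rw [hl, hr, coordEquiv_baseChange, LinearEquiv.trans_apply, LinearEquiv.apply_symm_apply,
        LinearEquiv.trans_apply, LinearEquiv.apply_symm_apply, coordEquiv_baseChange]
      congr 1
      have h5 : LinearMap.toMatrix' ε'lin = e' := LinearMap.toMatrix'_toLin' e'
      rw [h5]
      change π e' = _
      rw [hπe', hπE']

end Groth.Agent.S2044
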