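import Groth.Statements.S2055
import Mathlib
import Groth.Agent.Lib.helper3.FormalGlue
-- import your own Groth.Agent.* helpers here

set_option autoImplicit false
universe u
open CAlg

namespace Groth.Agent.S2055

open TensorProduct in
theorem ext_one_tmul {R S M P : Type*} [CommRing R] [CommRing S] [Algebra R S]
    [AddCommGroup M] [Module R M] [AddCommGroup P] [Module R P] [Module S P] [IsScalarTower R S P]
    (g g' : S ⊗[R] M →ₗ[S] P) (h : ∀ m : M, g ((1 : S) ⊗ₜ[R] m) = g' ((1 : S) ⊗ₜ[R] m)) : g = g' := by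
  apply TensorProduct.AlgebraTensorModule.ext
  intro s m
  have : s ⊗ₜ[R] m = s • ((1 : S) ⊗ₜ[R] m) := by
    rw [TensorProduct.smul_tmul', smul_eq_mul, mul_one]
  rw [this, map_smul, map_smul, h]

open TensorProduct in
/-- Let `R → S` be flat and `I ⊆ R` a finitely generated ideal with `R/I → S/IS` bijective. If one of
the `R`-modules `M`, `N` has every element killed by a power of `I`, then base change of linear maps
`Hom_R(M, N) → Hom_S(S ⊗ M, S ⊗ N)` is bijective. -/
theorem result {R S M N : Type u} [CommRing R] [CommRing S]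
    [Algebra R S] [Module.Flat R S] (I : Ideal R) (hI : I.FG)
    (hq : Function.Bijective (algebraMap (R ⧸ I) (S ⧸ I.map (algebraMap R S))))
    [AddCommGroup M] [Module R M] [AddCommGroup N] [Module R N]
    (hMN : (∀ x : M, ∃ n : ℕ, ∀ a ∈ I ^ n, a • x = 0) ∨ (∀ y : N, ∃ n : ℕ, ∀ a ∈ I ^ n, a • y = 0)) :
    Function.Bijective (fun f : M →ₗ[R] N => LinearMap.baseChange S f) := by
  have hq' : Function.Bijective (Ideal.quotientMap (I.map (algebraMap R S)) (algebraMap R S)
      Ideal.le_comap_map) := hq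
  obtain ⟨h1, h2⟩ := Groth.Agent.Lib.helper3.FormalGlue.hyps_of_quotientMap_bijective I hq'
  rcases hMN with hM | hN
  · -- M torsion
    constructor
    · intro f f' hff
      have hff' : LinearMap.baseChange S f = LinearMap.baseChange S f' := hff
      ext m
      obtain ⟨n, hn⟩ := hM m
      have h3 : (1 : S) ⊗ₜ[R] (f m - f' m) = 0 := by
        have := LinearMap.congr_fun hff' ((1 : S) ⊗ₜ[R] m)
        rw [LinearMap.baseChange_tmul, LinearMap.baseChange_tmul] at this
        rw [TensorProduct.tmul_sub, this, sub_self]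
      have h4 : ∀ a ∈ I ^ n, a • (f m - f' m) = 0 := by
        intro a ha
        rw [smul_sub, ← map_smul, ← map_smul, hn a ha, map_zero, map_zero, sub_self]
      have := Groth.Agent.Lib.helper3.FormalGlue.eq_zero_of_torsion_of_tmul_eq_zero I h1 h2 n _ h4 h3
      exact sub_eq_zero.mp this
    · intro g
      have hex : ∀ m : M, ∃ x : N, (∃ n : ℕ, ∀ a ∈ I ^ n, a • x = 0) ∧
          (1 : S) ⊗ₜ[R] x = g ((1 : S) ⊗ₜ[R] m) := by
        intro m
        obtain ⟨n, hn⟩ := hM m
        have hy : ∀ a ∈ I ^ n, a • g ((1 : S) ⊗ₜ[R] m) = 0 := by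
          intro a ha
          rw [← algebraMap_smul S a (g ((1 : S) ⊗ₜ[R] m)), ← map_smul, algebraMap_smul,
            TensorProduct.smul_tmul', TensorProduct.smul_tmul, hn a ha, TensorProduct.tmul_zero,
            map_zero]
        obtain ⟨x, hx1, hx2⟩ :=
          Groth.Agent.Lib.helper3.FormalGlue.exists_of_torsion_tmul I hI h1 n _ hy
        exact ⟨x, ⟨n, hx1⟩, hx2⟩
      choose F hF1 hF2 using hex
      have huniq : ∀ x : N, (∃ n : ℕ, ∀ a ∈ I ^ n, a • x = 0) → (1 : S) ⊗ₜ[R] x = 0 → x = 0 := by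
        rintro x ⟨n, hn⟩ h0
        exact Groth.Agent.Lib.helper3.FormalGlue.eq_zero_of_torsion_of_tmul_eq_zero I h1 h2 n x hn h0
      have htadd : ∀ x y : N, (∃ n : ℕ, ∀ a ∈ I ^ n, a • x = 0) → (∃ n : ℕ, ∀ a ∈ I ^ n, a • y = 0) →
          ∃ n : ℕ, ∀ a ∈ I ^ n, a • (x - y) = 0 := by
        rintro x y ⟨n, hn⟩ ⟨k, hk⟩
        refine ⟨max n k, fun a ha => ?_⟩
        rw [smul_sub, hn a (Ideal.pow_le_pow_right (le_max_left n k) ha),
          hk a (Ideal.pow_le_pow_right (le_max_right n k) ha), sub_self]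
      have htadd' : ∀ x y : N, (∃ n : ℕ, ∀ a ∈ I ^ n, a • x = 0) → (∃ n : ℕ, ∀ a ∈ I ^ n, a • y = 0) →
          ∃ n : ℕ, ∀ a ∈ I ^ n, a • (x + y) = 0 := by
        rintro x y ⟨n, hn⟩ ⟨k, hk⟩
        refine ⟨max n k, fun a ha => ?_⟩
        rw [smul_add, hn a (Ideal.pow_le_pow_right (le_max_left n k) ha),
          hk a (Ideal.pow_le_pow_right (le_max_right n k) ha), add_zero]
      have htsmul : ∀ (r : R) (x : N), (∃ n : ℕ, ∀ a ∈ I ^ n, a • x = 0) →
          ∃ n : ℕ, ∀ a ∈ I ^ n, a • (r • x) = 0 := by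
        rintro r x ⟨n, hn⟩
        refine ⟨n, fun a ha => ?_⟩
        rw [smul_comm, hn a ha, smul_zero]
      let f : M →ₗ[R] N :=
        { toFun := F
          map_add' := by
            intro m m'
            apply sub_eq_zero.mp
            apply huniq _ (htadd _ _ (hF1 _) (htadd' _ _ (hF1 _) (hF1 _)))
            rw [TensorProduct.tmul_sub, TensorProduct.tmul_add, hF2, hF2, hF2,
              TensorProduct.tmul_add, map_add, sub_self]
          map_smul' := by
            intro r m
            apply sub_eq_zero.mp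
            apply huniq _ (htadd _ _ (hF1 _) (htsmul _ _ (hF1 _)))
            rw [TensorProduct.tmul_sub, RingHom.id_apply, TensorProduct.tmul_smul, hF2, hF2,
              TensorProduct.tmul_smul, ← algebraMap_smul S r ((1 : S) ⊗ₜ[R] m), map_smul,
              algebraMap_smul, sub_self] }
      refine ⟨f, ?_⟩
      apply ext_one_tmul
      intro m
      rw [LinearMap.baseChange_tmul]
      exact hF2 m
  · -- N torsion
    have hb := Groth.Agent.Lib.helper3.FormalGlue.mk_bijective_of_torsion (S := S) I h1 h2 hN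
    constructor
    · intro f f' hff
      have hff' : LinearMap.baseChange S f = LinearMap.baseChange S f' := hff
      ext m
      apply hb.1
      have := LinearMap.congr_fun hff' ((1 : S) ⊗ₜ[R] m)
      rw [LinearMap.baseChange_tmul, LinearMap.baseChange_tmul] at this
      exact this
    · intro g
      let eN : N ≃ₗ[R] S ⊗[R] N := LinearEquiv.ofBijective (TensorProduct.mk R S N 1) hb
      refine ⟨eN.symm.toLinearMap ∘ₗ (g.restrictScalars R) ∘ₗ (TensorProduct.mk R S M 1), ?_⟩
      apply ext_one_tmul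
      intro m
      rw [LinearMap.baseChange_tmul]
      have : ∀ x : N, (1 : S) ⊗ₜ[R] x = eN x := fun x => rfl
      rw [this, LinearMap.comp_apply, LinearEquiv.coe_coe, LinearEquiv.apply_symm_apply]
      rfl

end Groth.Agent.S2055
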