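import Groth.Statements.S2059
import Mathlib
-- import your own Groth.Agent.* helpers here

set_option autoImplicit false
universe u
open CAlg

namespace Groth.Agent.S2059

open Cardinal in
theorem isAlgebraic_of_rank_lt {k L : Type u} [Field k] [Field L] [Algebra k L]
    (h : Module.rank k L < #k) : Algebra.IsAlgebraic k L := by
  refine ⟨fun x => ?_⟩
  by_contra hx
  have hx' : Transcendental k x := hx
  have := hx'.linearIndependent_sub_inv.cardinal_le_rank
  exact absurd (this.trans_lt h) (lt_irrefl _)

open Cardinal Polynomial in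
theorem exists_maximal_not_mem {k D : Type u} [Field k] [CommRing D] [IsDomain D] [Algebra k D]
    (hk : ℵ₀ < #k) (h : Module.rank k D < #k) (f : D) (hf : f ≠ 0) :
    ∃ Q : Ideal D, Q.IsMaximal ∧ f ∉ Q := by
  have hnu : ¬ IsUnit (C f * X - 1 : D[X]) := by
    intro hu
    have h0 := Polynomial.natDegree_eq_zero_of_isUnit hu
    have h1 : (C f * X - 1 : D[X]).natDegree = 1 := by
      rw [natDegree_sub_eq_left_of_natDegree_lt]
      · exact natDegree_C_mul_X f hf
      · rw [natDegree_C_mul_X f hf]; simp
    omega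
  have hne : Ideal.span {(C f * X - 1 : D[X])} ≠ ⊤ := by rwa [Ne, Ideal.span_singleton_eq_top]
  obtain ⟨N, hN, hle⟩ := Ideal.exists_le_maximal _ hne
  letI := Ideal.Quotient.field N
  have hrank : Module.rank k (D[X] ⧸ N) < #k := by
    have h1 : Module.rank k (D[X] ⧸ N) ≤ Module.rank k D[X] :=
      LinearMap.rank_le_of_surjective (Ideal.Quotient.mkₐ k N).toLinearMap
        (Ideal.Quotient.mkₐ_surjective k N)
    have h2 : Module.rank k D[X] = Module.rank k D * ℵ₀ := by
      rw [(polyEquivTensor k D).toLinearEquiv.rank_eq, rank_tensorProduct']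
      congr 1
      have := (Polynomial.basisMonomials k).mk_eq_rank
      simpa using this.symm
    rw [h2] at h1
    exact h1.trans_lt (Cardinal.mul_lt_of_lt hk.le h hk)
  haveI : Algebra.IsAlgebraic k (D[X] ⧸ N) := isAlgebraic_of_rank_lt hrank
  haveI : Algebra.IsIntegral D (D[X] ⧸ N) :=
    ⟨fun x => (Algebra.IsIntegral.isIntegral (R := k) x).tower_top⟩
  have hmax : ((⊥ : Ideal (D[X] ⧸ N)).comap (algebraMap D (D[X] ⧸ N))).IsMaximal := by
    haveI : (⊥ : Ideal (D[X] ⧸ N)).IsMaximal := Ideal.bot_isMaximal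
    exact Ideal.isMaximal_comap_of_isIntegral_of_isMaximal _
  refine ⟨_, hmax, ?_⟩
  rw [Ideal.mem_comap, Ideal.mem_bot]
  intro h0
  have h3 : (C f * X - 1 : D[X]) ∈ N := hle (Ideal.subset_span rfl)
  have h4 : Ideal.Quotient.mk N (C f * X) = 1 := by
    rw [← map_one (Ideal.Quotient.mk N), Ideal.Quotient.eq]
    exact h3
  have h5 : algebraMap D (D[X] ⧸ N) f = Ideal.Quotient.mk N (C f) := rfl
  rw [map_mul, ← h5, h0, zero_mul] at h4
  exact zero_ne_one h4

open Cardinal in
theorem jacobson_of_rank_lt {k T : Type u} [Field k] [CommRing T] [Algebra k T]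
    (hk : ℵ₀ < #k) (h : Module.rank k T < #k) : IsJacobsonRing T := by
  rw [isJacobsonRing_iff_prime_eq]
  intro P hP
  refine le_antisymm ?_ Ideal.le_jacobson
  intro f hf
  by_contra hfP
  have hf0 : Ideal.Quotient.mk P f ≠ 0 := by rwa [Ne, Ideal.Quotient.eq_zero_iff_mem]
  have hrank : Module.rank k (T ⧸ P) < #k :=
    (LinearMap.rank_le_of_surjective (Ideal.Quotient.mkₐ k P).toLinearMap
        (Ideal.Quotient.mkₐ_surjective k P)).trans_lt h
  obtain ⟨Q, hQ, hfQ⟩ := exists_maximal_not_mem hk hrank _ hf0
  have hQ' : (Q.comap (Ideal.Quotient.mk P)).IsMaximal :=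
    Ideal.comap_isMaximal_of_surjective _ Ideal.Quotient.mk_surjective
  have hPQ : P ≤ Q.comap (Ideal.Quotient.mk P) := by
    intro x hx
    rw [Ideal.mem_comap, Ideal.Quotient.eq_zero_iff_mem.mpr hx]
    exact Q.zero_mem
  have : f ∈ Q.comap (Ideal.Quotient.mk P) := by
    rw [Ideal.jacobson, Ideal.mem_sInf] at hf
    exact hf ⟨hPQ, hQ'⟩
  exact hfQ this

/-- Let `k` be a field and `S` a `k`-algebra generated by a set of cardinality smaller than that of `k`.
Then for every maximal ideal `𝔪` of `S` the residue field `S/𝔪` is algebraic over `k`, and `S` is a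
Jacobson ring. -/
theorem result {k S : Type u} [Field k] [CommRing S] [Algebra k S]
    (s : Set S) (hs : Algebra.adjoin k s = ⊤) (hcard : Cardinal.mk s < Cardinal.mk k) :
    (∀ (m : Ideal S) [m.IsMaximal], Algebra.IsAlgebraic k (S ⧸ m)) ∧ IsJacobsonRing S := by
  classical
  by_cases hsfin : s.Finite
  · haveI : Algebra.FiniteType k S :=
      ⟨⟨hsfin.toFinset, by rw [Set.Finite.coe_toFinset]; exact hs⟩⟩
    constructor
    · intro m hm
      letI := Ideal.Quotient.field m
      haveI : Algebra.FiniteType k (S ⧸ m) :=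
        Algebra.FiniteType.of_surjective (Ideal.Quotient.mkₐ k m)
          (Ideal.Quotient.mkₐ_surjective k m)
      haveI := finite_of_finite_type_of_isJacobsonRing k (S ⧸ m)
      exact Algebra.IsAlgebraic.of_finite k (S ⧸ m)
    · exact isJacobsonRing_of_finiteType (A := k) (B := S)
  · have hsinf : s.Infinite := hsfin
    haveI : Infinite s := hsinf.to_subtype
    have hk : Cardinal.aleph0 < Cardinal.mk k := (Cardinal.aleph0_le_mk s).trans_lt hcard
    have hrankS : Module.rank k S < Cardinal.mk k := by
      let g : MvPolynomial s k →ₐ[k] S := MvPolynomial.aeval (fun x : s => (x : S))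
      have hg : Function.Surjective g := by
        rw [← AlgHom.range_eq_top, ← Algebra.adjoin_range_eq_range_aeval, Subtype.range_coe, hs]
      have h1 := LinearMap.rank_le_of_surjective g.toLinearMap hg
      rw [MvPolynomial.rank_eq, Cardinal.mk_finsupp_nat] at h1
      exact h1.trans_lt (max_lt hcard hk)
    constructor
    · intro m hm
      letI := Ideal.Quotient.field m
      apply isAlgebraic_of_rank_lt
      exact (LinearMap.rank_le_of_surjective (Ideal.Quotient.mkₐ k m).toLinearMap
        (Ideal.Quotient.mkₐ_surjective k m)).trans_lt hrankS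
    · exact jacobson_of_rank_lt hk hrankS

end Groth.Agent.S2059
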