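import Groth.Statements.S2068
import Mathlib
import Groth.Agent.Lib.helper17.DRingTor
import Groth.Agent.Lib.helper17.PCohTrunc
-- import your own Groth.Agent.* helpers here

set_option autoImplicit false
universe u
open CategoryTheory
attribute [local instance] HasDerivedCategory.standard
open CAlg

open Groth.Agent.Lib.helper17

namespace Groth.Agent.S2068

/-- If `K` is `m`-pseudo-coherent in `D(A)`, its cohomology in degree `m` is a finitely generated module
when nothing above degree `m` survives, and its cohomology in degree `m+1` is finitely presented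
when nothing above degree `m+1` survives. -/
theorem result {A : Type u} [CommRing A] (K : Dual.D A) (m : ℤ)
    (hK : DRing.IsPseudoCoherent A m K) :
    ((∀ i : ℤ, m < i → Limits.IsZero ((DerivedCategory.homologyFunctor (ModuleCat.{u} A) i).obj K)) →
        Module.Finite A ((DerivedCategory.homologyFunctor (ModuleCat.{u} A) m).obj K)) ∧
      ((∀ i : ℤ, m + 1 < i → Limits.IsZero ((DerivedCategory.homologyFunctor (ModuleCat.{u} A) i).obj K)) →
        Module.FinitePresentation A ((DerivedCategory.homologyFunctor (ModuleCat.{u} A) (m + 1)).obj K)) := by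
  rw [DRingPC.isPseudoCoherent_iff_NPC] at hK
  constructor
  · intro hz
    have h1 := (PCohD.NPC_iff_isOfFiniteType (DRingPC.FF A) (DRingPC.FF_hqs A) (DRingPC.FF_hql A)
      m K hz).1 hK
    exact (DRingPC.isOfFiniteType_FF_iff A _).1 h1
  · intro hz
    let t := (DerivedCategory.TStructure.t :
      Triangulated.TStructure (DerivedCategory (ModuleCat.{u} A)))
    let T := (t.triangleLTGE (m + 1)).obj K
    have hT : T ∈ distTriang _ := t.triangleLTGE_distinguished (m + 1) K
    have hA : t.IsLE T.obj₁ (m + 1 - 1) := inferInstance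
    have hB : t.IsGE T.obj₃ (m + 1) := inferInstance
    have hA0 : ∀ i, m + 1 - 1 < i →
        Limits.IsZero ((DerivedCategory.homologyFunctor (ModuleCat.{u} A) i).obj T.obj₁) :=
      fun i hi => DerivedCategory.isZero_of_isLE T.obj₁ (m + 1 - 1) i hi
    have hB1 : ∀ i, m + 1 < i →
        Limits.IsZero ((DerivedCategory.homologyFunctor (ModuleCat.{u} A) i).obj T.obj₃) :=
      fun i hi => PCohTrunc.isZero_homology_obj₃ T hT i (hz i hi) (hA0 _ (by lia))
    have hBle : T.obj₃.IsLE (m + 1) := by
      rw [DerivedCategory.isLE_iff]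
      exact hB1
    have hBge : T.obj₃.IsGE (m + 1) := hB
    obtain ⟨Y, ⟨eY⟩⟩ :=
      DerivedCategory.exists_iso_singleFunctor_obj_of_isGE_of_isLE T.obj₃ (m + 1)
    have h1 : PCohBasic.NPC (DRingPC.FF A) (m + 1) T.obj₁ :=
      PCohD.NPC_of_isLE _ _ (m + 1 - 1) (m + 1) (by lia) hA0
    have h3 : PCohBasic.NPC (DRingPC.FF A) m T.obj₃ :=
      (PCohTri.NPC_triangle _ (DRingPC.FF_prod _) (DRingPC.FF_hqs _) (DRingPC.FF_hql _) m T hT).1
        h1 hK
    have h4 : PCohBasic.NPC (DRingPC.FF A) (-1 + (m + 1))
        ((DerivedCategory.singleFunctor (ModuleCat.{u} A) (m + 1)).obj Y) := by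
      have : -1 + (m + 1) = m := by ring
      rw [this]
      exact PCohBasic.NPC.of_iso _ h3 eY
    have h5 := PCohLES.NPC_single_to_zero _ (m + 1) h4
    have := PCohTrunc.isIso_homology_mor₂ T hT (m + 1) (hA0 (m + 1) (by lia)) (hA0 _ (by lia))
    have e0 := asIso ((DerivedCategory.homologyFunctor (ModuleCat.{u} A) (m + 1)).map T.mor₂)
    have e : (DerivedCategory.homologyFunctor (ModuleCat.{u} A) (m + 1)).obj K ≅ Y :=
      e0 ≪≫ (DerivedCategory.homologyFunctor (ModuleCat.{u} A) (m + 1)).mapIso eY ≪≫
        PCohLES.homologySingleIso Y (m + 1)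
    have h6 := PCohBasic.NPC.of_iso _ h5
      ((DerivedCategory.singleFunctor (ModuleCat.{u} A) 0).mapIso e.symm)
    exact (DRingPC.NPC_single_negOne_iff_finitePresentation A _).1 h6

end Groth.Agent.S2068
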