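import Groth.Statements.S2069
import Mathlib

set_option autoImplicit false
universe u
open CAlg

namespace Groth.Agent.S2069

namespace S2069aux
open TensorProduct Function

section
variable {R S : Type u} [CommRing R] [CommRing S] [Algebra R S]
  {N : Type u} [AddCommGroup N] [Module S N] [Module R N] [IsScalarTower R S N]

theorem map_le_annihilator (p : Ideal R) :
    p.map (algebraMap R S) ≤ Module.annihilator S (N ⊗[R] (R ⧸ p)) := by
  rw [Ideal.map_le_iff_le_comap]
  intro a ha
  rw [Ideal.mem_comap, Module.mem_annihilator]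
  intro t
  rw [algebraMap_smul]
  induction t using TensorProduct.induction_on with
  | zero => simp
  | add x y hx hy => rw [smul_add, hx, hy, add_zero]
  | tmul n r =>
    obtain ⟨r, rfl⟩ := Ideal.Quotient.mk_surjective r
    rw [smul_tmul', smul_tmul, ← Ideal.Quotient.mk_eq_mk, Algebra.smul_def]
    have : algebraMap R (R ⧸ p) a = 0 := Ideal.Quotient.eq_zero_iff_mem.mpr ha
    rw [this, zero_mul, tmul_zero]

/-- `N / pN ≃ N ⊗ R/p`, `S`-linearly. -/
noncomputable def quotEquiv (p : Ideal R) :
    (N ⧸ (p.map (algebraMap R S)) • (⊤ : Submodule S N)) ≃ₗ[S] N ⊗[R] (R ⧸ p) := by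
  let g : N →ₗ[S] N ⊗[R] (R ⧸ p) := (AlgebraTensorModule.mk R S N (R ⧸ p)).flip 1
  have hg : ∀ n, g n = n ⊗ₜ[R] (1 : R ⧸ p) := fun n => rfl
  have hle : (p.map (algebraMap R S)) • (⊤ : Submodule S N) ≤ LinearMap.ker g := by
    rw [Submodule.smul_le]
    intro r hr n _
    rw [LinearMap.mem_ker, map_smul]
    exact Module.mem_annihilator.mp (map_le_annihilator (N := N) p hr) _
  refine LinearEquiv.ofBijective (Submodule.liftQ _ g hle) ⟨?_, ?_⟩
  · rw [← LinearMap.ker_eq_bot, Submodule.ker_liftQ, ← le_bot_iff]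
    rintro _ ⟨n, hn, rfl⟩
    rw [Submodule.mem_bot, Submodule.mkQ_apply, Submodule.Quotient.mk_eq_zero]
    rw [SetLike.mem_coe, LinearMap.mem_ker, hg] at hn
    have h1 : tensorQuotEquivQuotSMul N p (n ⊗ₜ[R] (Ideal.Quotient.mk p 1)) = 0 := by
      rw [map_one, hn, map_zero]
    rw [tensorQuotEquivQuotSMul_tmul_mk, one_smul, Submodule.Quotient.mk_eq_zero] at h1
    refine Submodule.smul_induction_on (p := fun x => x ∈ (p.map (algebraMap R S)) • (⊤ : Submodule S N)) h1 ?_ ?_
    · intro a ha m _
      rw [← algebraMap_smul S a m]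
      exact Submodule.smul_mem_smul (Ideal.mem_map_of_mem _ ha) Submodule.mem_top
    · intro x y hx hy
      exact add_mem hx hy
  · intro t
    induction t using TensorProduct.induction_on with
    | zero => exact ⟨0, map_zero _⟩
    | add x y hx hy =>
      obtain ⟨x', rfl⟩ := hx
      obtain ⟨y', rfl⟩ := hy
      exact ⟨x' + y', map_add _ _ _⟩
    | tmul n r =>
      obtain ⟨r, rfl⟩ := Ideal.Quotient.mk_surjective r
      refine ⟨Submodule.Quotient.mk (r • n), ?_⟩
      rw [Submodule.liftQ_apply, hg, smul_tmul, ← Ideal.Quotient.mk_eq_mk, Algebra.smul_def, mul_one]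
      rfl

/-- Lemma G -/
theorem lemmaG [IsNoetherianRing R] [Module.Flat R N] (X : Type u) [AddCommGroup X] [Module R X] [hfin : Module.Finite R X] :
    ∀ q ∈ associatedPrimes S (N ⊗[R] X), ∃ p' : Ideal R, p'.IsPrime ∧
      Module.annihilator R X ≤ p' ∧ q ∈ associatedPrimes S (N ⊗[R] (R ⧸ p')) := by
  induction hfin using IsNoetherianRing.induction_on_isQuotientEquivQuotientPrime R with
  | subsingleton X =>
    intro q hq
    rw [associatedPrimes.eq_empty_of_subsingleton] at hq
    exact absurd hq (Set.notMem_empty q)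
  | quotient X p' e =>
    intro q hq
    refine ⟨p'.1, p'.2, ?_, ?_⟩
    · rw [e.annihilator_eq, Ideal.annihilator_quotient]
    · rw [← LinearEquiv.AssociatedPrimes.eq
        (AlgebraTensorModule.congr (LinearEquiv.refl S N) e)]
      exact hq
  | exact X₁ X₂ X₃ f g hf hg hfg h₁ h₃ =>
    intro q hq
    have hf' : Injective (AlgebraTensorModule.lTensor S N f) :=
      Module.Flat.lTensor_preserves_injective_linearMap f hf
    have hfg' : Function.Exact (AlgebraTensorModule.lTensor S N f)
        (AlgebraTensorModule.lTensor S N g) := lTensor_exact N hfg hg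
    rcases associatedPrimes.subset_union_of_exact hf' hfg' hq with h | h
    · obtain ⟨p', hp', hle, hq'⟩ := h₁ q h
      exact ⟨p', hp', (f.annihilator_le_of_injective hf).trans hle, hq'⟩
    · obtain ⟨p', hp', hle, hq'⟩ := h₃ q h
      exact ⟨p', hp', (g.annihilator_le_of_surjective hg).trans hle, hq'⟩

theorem main_subset [IsNoetherianRing R] [Module.Flat R N] (M : Type u) [AddCommGroup M]
    [Module R M] (q : Ideal S) (hq : q ∈ associatedPrimes S (N ⊗[R] M)) :
    ∃ p ∈ associatedPrimes R M, q ∈ associatedPrimes S (N ⊗[R] (R ⧸ p)) := by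
  classical
  obtain ⟨hqprime, z, hz⟩ := hq
  obtain ⟨M₀, hfin, hzM₀⟩ := TensorProduct.exists_finite_submodule_right_of_setFinite {z}
    (Set.finite_singleton z)
  obtain ⟨z₀, hz₀⟩ := hzM₀ (Set.mem_singleton z)
  have hinj₀ : Injective (M₀.subtype.lTensor N) :=
    Module.Flat.lTensor_preserves_injective_linearMap _ (Submodule.injective_subtype M₀)
  obtain ⟨p, hpdef⟩ : ∃ p : Ideal R, p = q.comap (algebraMap R S) := ⟨_, rfl⟩
  haveI hpprime : p.IsPrime := by rw [hpdef]; exact Ideal.comap_isPrime _ _
  have hle : p.map (algebraMap R S) ≤ (Submodule.colon (⊥ : Submodule S (N ⊗[R] M)) {z}).radical := by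
    rw [← hz, hpdef]; exact Ideal.map_comap_le
  obtain ⟨K, hK⟩ := Ideal.exists_pow_le_of_le_radical_of_fg hle
    (((isNoetherianRing_iff_ideal_fg R).mp inferInstance p).map _)
  obtain ⟨g, a, ha⟩ := Submodule.fg_iff_exists_fin_generating_family.mp
    ((isNoetherianRing_iff_ideal_fg R).mp inferInstance (p ^ K))
  have hakill : ∀ i, a i • z = 0 := by
    intro i
    have h1 : a i ∈ p ^ K := by rw [← ha]; exact Submodule.subset_span ⟨i, rfl⟩
    have h2 : algebraMap R S (a i) ∈ (p.map (algebraMap R S)) ^ K := by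
      rw [← Ideal.map_pow]; exact Ideal.mem_map_of_mem _ h1
    have h3 := hK h2
    rw [Submodule.mem_colon_singleton, Submodule.mem_bot, algebraMap_smul] at h3
    exact h3
  let φ : ↥M₀ →ₗ[R] (Fin g → ↥M₀) := LinearMap.pi (fun i => (a i) • LinearMap.id)
  have hφ : ∀ m i, φ m i = a i • m := fun m i => rfl
  have hφz : (φ.lTensor N) z₀ = 0 := by
    apply (TensorProduct.piRight R R N (fun _ : Fin g => ↥M₀)).injective
    rw [map_zero]
    have key : ∀ w : N ⊗[R] ↥M₀, TensorProduct.piRight R R N (fun _ : Fin g => ↥M₀)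
        ((φ.lTensor N) w) = fun i => a i • w := by
      intro w
      induction w using TensorProduct.induction_on with
      | zero => funext i; simp
      | add x y hx hy => rw [map_add, map_add, hx, hy]; funext i; simp [smul_add]
      | tmul n m =>
        funext i
        rw [LinearMap.lTensor_tmul, TensorProduct.piRight_apply, TensorProduct.piRightHom_tmul]
        show n ⊗ₜ[R] φ m i = _
        rw [hφ, tmul_smul]
    rw [key]
    funext i
    apply hinj₀
    show (M₀.subtype.lTensor N) (a i • z₀) = (M₀.subtype.lTensor N) 0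
    rw [map_smul, hz₀, hakill i, map_zero]
  obtain ⟨X, hXdef⟩ : ∃ X : Submodule R ↥M₀, X = LinearMap.ker φ := ⟨_, rfl⟩
  have hexX : Function.Exact X.subtype φ := by
    rw [hXdef]; exact LinearMap.exact_subtype_ker_map φ
  obtain ⟨zX, hzX⟩ := (Module.Flat.lTensor_exact N hexX z₀).mp hφz
  have hinjX : Injective (X.subtype.lTensor N) :=
    Module.Flat.lTensor_preserves_injective_linearMap _ (Submodule.injective_subtype X)
  -- the S-linear injection N ⊗ X → N ⊗ M
  let ι : N ⊗[R] ↥X →ₗ[S] N ⊗[R] M :=
    AlgebraTensorModule.lTensor S N (M₀.subtype ∘ₗ X.subtype)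
  have hι : Injective ι := by
    have : (ι : N ⊗[R] ↥X → N ⊗[R] M) = (M₀.subtype.lTensor N) ∘ (X.subtype.lTensor N) := by
      funext w
      show ((M₀.subtype ∘ₗ X.subtype).lTensor N) w = _
      rw [LinearMap.lTensor_comp]; rfl
    rw [this]
    exact hinj₀.comp hinjX
  have hιz : ι zX = z := by
    show ((M₀.subtype ∘ₗ X.subtype).lTensor N) zX = z
    rw [LinearMap.lTensor_comp, LinearMap.comp_apply, hzX, hz₀]
  have hcolon : Submodule.colon (⊥ : Submodule S (N ⊗[R] ↥X)) {zX} =
      Submodule.colon (⊥ : Submodule S (N ⊗[R] M)) {z} := by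
    ext r
    rw [Submodule.mem_colon_singleton, Submodule.mem_colon_singleton, Submodule.mem_bot,
      Submodule.mem_bot, ← hιz, ← map_smul, map_eq_zero_iff ι hι]
  have hqX : q ∈ associatedPrimes S (N ⊗[R] ↥X) := ⟨hqprime, zX, by rw [hcolon]; exact hz⟩
  haveI : Module.Finite R ↥M₀ := hfin
  haveI : IsNoetherian R ↥M₀ := inferInstance
  haveI : Module.Finite R ↥X := inferInstance
  obtain ⟨p', hp'prime, hannle, hq'⟩ := lemmaG (N := N) (S := S) ↥X q hqX
  have hpowle : p ^ K ≤ Module.annihilator R ↥X := by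
    rw [← ha]
    show Submodule.span R (Set.range a) ≤ _
    rw [Submodule.span_le]
    rintro _ ⟨i, rfl⟩
    rw [SetLike.mem_coe, Module.mem_annihilator]
    intro x
    have hx : φ x.1 = 0 := by
      have h5 : (x.1 : ↥M₀) ∈ LinearMap.ker φ := hXdef ▸ x.2
      exact h5
    have := congrFun hx i
    rw [hφ] at this
    exact Subtype.ext this
  have hpp' : p = p' := by
    apply le_antisymm
    · exact hp'prime.le_of_pow_le (hpowle.trans hannle)
    · intro r hr
      obtain ⟨_, y, hy⟩ := hq'
      rw [hpdef, Ideal.mem_comap, hy]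
      apply Ideal.le_radical
      rw [Submodule.mem_colon_singleton, Submodule.mem_bot]
      exact Module.mem_annihilator.mp
        (map_le_annihilator (N := N) p' (Ideal.mem_map_of_mem _ hr)) y
  subst hpp'
  refine ⟨p, ?_, hq'⟩
  have hpmin : p ∈ (Module.annihilator R ↥X).minimalPrimes := by
    refine ⟨⟨hpprime, hannle⟩, fun P ⟨hP, hle⟩ _ => ?_⟩
    exact hP.le_of_pow_le (hpowle.trans hle)
  have h1 := Module.associatedPrimes.minimalPrimes_annihilator_subset_associatedPrimes R ↥X hpmin
  have h2 := associatedPrimes.subset_of_injective (Submodule.injective_subtype X) h1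
  exact associatedPrimes.subset_of_injective (Submodule.injective_subtype M₀) h2

end
end S2069aux

open TensorProduct in

open TensorProduct in
/-- Let `R → S` be a ring map, `M` an `R`-module and `N` an `S`-module flat over `R`. Then a prime of
`S` is associated to `N ⊗_R M` if and only if it is associated to `N/𝔭N` for some prime `𝔭` of `R`
associated to `M`. -/
theorem result {R S M N : Type u} [CommRing R] [IsNoetherianRing R] [CommRing S]
    [Algebra R S] [AddCommGroup M] [Module R M] [AddCommGroup N] [Module S N] [Module R N]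
    [IsScalarTower R S N] [Module.Flat R N] :
    associatedPrimes S (N ⊗[R] M) =
      ⋃ p ∈ associatedPrimes R M, associatedPrimes S (N ⧸ p.map (algebraMap R S) • (⊤ : Submodule S N)) := by
  ext q
  rw [Set.mem_iUnion₂]
  constructor
  · intro hq
    obtain ⟨p, hp, hq'⟩ := S2069aux.main_subset M q hq
    refine ⟨p, hp, ?_⟩
    rw [LinearEquiv.AssociatedPrimes.eq (S2069aux.quotEquiv (N := N) (S := S) p)]
    exact hq'
  · rintro ⟨p, hp, hq⟩
    rw [LinearEquiv.AssociatedPrimes.eq (S2069aux.quotEquiv (N := N) (S := S) p)] at hq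
    obtain ⟨_, f, hf⟩ := (isAssociatedPrime_iff_exists_injective_linearMap p M).mp hp
    have hf' : Function.Injective (AlgebraTensorModule.lTensor S N f) :=
      Module.Flat.lTensor_preserves_injective_linearMap f hf
    exact associatedPrimes.subset_of_injective hf' hq

end Groth.Agent.S2069
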