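import Groth.Statements.S2071
import Mathlib
import Groth.Agent.Lib.helper12.Kaplansky

set_option autoImplicit false
set_option linter.style.haveILetI false
universe u
open CAlg

namespace Groth.Agent.S2071

/-- For a field extension `k'/k`, every element of `k'` has a positive power in `k` if and only if
either `k' = k`, or the characteristic is a prime `p` and either `k'/k` is purely inseparable or
`k'` is algebraic over its prime field. -/
theorem result {k k' : Type u} [Field k] [Field k'] [Algebra k k'] :
    (∀ x : k', ∃ n : ℕ, 0 < n ∧ x ^ n ∈ Set.range (algebraMap k k')) ↔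
      Function.Surjective (algebraMap k k') ∨
        ∃ p : ℕ, p.Prime ∧ CharP k' p ∧
          (IsPurelyInseparable k k' ∨ Algebra.IsAlgebraic (⊥ : Subfield k') k') := by
  classical
  constructor
  · intro H
    have hint : Algebra.IsIntegral k k' := ⟨fun z => by
      obtain ⟨n, hn, a, ha⟩ := H z
      exact IsIntegral.of_pow hn (ha ▸ isIntegral_algebraMap)⟩
    by_cases hsep : ∃ x : k', IsSeparable k x ∧ x ∉ Set.range (algebraMap k k')
    · right
      obtain ⟨x, hxsep, hxr⟩ := hsep
      obtain ⟨p, hp, hc, halg⟩ := H12Kap.main H x hxsep hxr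
      exact ⟨p, hp, hc, Or.inr halg⟩
    · push Not at hsep
      obtain ⟨p, hp⟩ := CharP.exists k'
      rcases CharP.char_is_prime_or_zero k' p with hpp | hp0
      · right
        refine ⟨p, hpp, hp, Or.inl ⟨hint, fun x hx => ?_⟩⟩
        obtain ⟨a, ha⟩ := hsep x hx
        exact ⟨a, ha⟩
      · left
        subst hp0
        haveI : CharZero k' := CharP.charP_to_charZero k'
        haveI : CharZero k := (algebraMap k k').charZero
        intro x
        have hx : IsSeparable k x :=
          (Algebra.IsAlgebraic.isSeparable_of_perfectField (K := k) (L := k')).isSeparable' x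
        exact hsep x hx
  · rintro (hs | ⟨p, hp, hchar, hpi | halg⟩)
    · intro x
      exact ⟨1, one_pos, by rw [pow_one]; exact hs x⟩
    · haveI : CharP k p := (algebraMap k k').charP (algebraMap k k').injective p
      haveI : ExpChar k p := ExpChar.prime hp
      intro x
      obtain ⟨n, a, ha⟩ := IsPurelyInseparable.pow_mem k p (x := x)
      exact ⟨p ^ n, pow_pos hp.pos n, a, ha⟩
    · haveI : Fact p.Prime := ⟨hp⟩
      intro x
      by_cases hx : x = 0
      · exact ⟨1, one_pos, 0, by rw [hx, map_zero, pow_one]⟩
      · obtain ⟨N, hN, h⟩ := H12Kap.exists_pow_eq_one_of_isAlgebraic_bot p x hx (halg.isAlgebraic x)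
        exact ⟨N, hN, 1, by rw [map_one, h]⟩

end Groth.Agent.S2071
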