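import Groth.Statements.S2073
import Mathlib
-- import your own Groth.Agent.* helpers here

set_option autoImplicit false
universe u
open CAlg

namespace Groth.Agent.S2073

open TensorProduct in
attribute [local instance] MvPolynomial.algebraMvPolynomial in
/-- descent of integrality from `K ⊗ S` to `S` up to a denominator -/
theorem exists_smul_isIntegralElem {R S : Type u} [CommRing R] [IsDomain R] [CommRing S]
    [Algebra R S] {d : ℕ} (y : Fin d → S) (t : S)
    (ht : ((MvPolynomial.aeval (fun i ↦ (1 : FractionRing R) ⊗ₜ[R] y i) :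
      MvPolynomial (Fin d) (FractionRing R) →ₐ[FractionRing R] (FractionRing R ⊗[R] S))).toRingHom.IsIntegralElem
        ((1 : FractionRing R) ⊗ₜ[R] t)) :
    ∃ ρ ∈ nonZeroDivisors R,
      ((MvPolynomial.aeval y : MvPolynomial (Fin d) R →ₐ[R] S)).toRingHom.IsIntegralElem (ρ • t) := by
  set K := FractionRing R
  set T := K ⊗[R] S
  let g' : MvPolynomial (Fin d) K →ₐ[K] T := MvPolynomial.aeval (fun i ↦ (1 : K) ⊗ₜ[R] y i)
  let φ : MvPolynomial (Fin d) R →ₐ[R] S := MvPolynomial.aeval y
  let ι : S →ₐ[R] T := Algebra.TensorProduct.includeRight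
  -- algebra structures
  let algPKT : Algebra (MvPolynomial (Fin d) K) T := g'.toRingHom.toAlgebra
  let algPRT : Algebra (MvPolynomial (Fin d) R) T :=
    (g'.toRingHom.comp (MvPolynomial.map (algebraMap R K))).toAlgebra
  have : IsScalarTower (MvPolynomial (Fin d) R) (MvPolynomial (Fin d) K) T :=
    IsScalarTower.of_algebraMap_eq' rfl
  have hx : IsIntegral (MvPolynomial (Fin d) K) ((1 : K) ⊗ₜ[R] t : T) := ht
  obtain ⟨⟨m, hm⟩, hmint⟩ := IsIntegral.exists_multiple_integral_of_isLocalization
    ((nonZeroDivisors R).map (MvPolynomial.C (σ := Fin d))) (R := MvPolynomial (Fin d) R)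
    (Rₘ := MvPolynomial (Fin d) K) ((1 : K) ⊗ₜ[R] t : T) hx
  obtain ⟨ρ, hρ, rfl⟩ := hm
  -- the algebra map P_R → T is ι ∘ φ
  have halg : (algebraMap (MvPolynomial (Fin d) R) T) = ι.toRingHom.comp φ.toRingHom := by
    apply MvPolynomial.ringHom_ext
    · intro r
      change g' (MvPolynomial.map (algebraMap R K) (MvPolynomial.C r)) = ι (φ (MvPolynomial.C r))
      simp [g', φ, ι, Algebra.TensorProduct.algebraMap_apply, Algebra.algebraMap_eq_smul_one,
        TensorProduct.smul_tmul]
    · intro i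
      change g' (MvPolynomial.map (algebraMap R K) (MvPolynomial.X i)) = ι (φ (MvPolynomial.X i))
      simp [g', φ, ι]
      rfl
  obtain ⟨Q, hQm, hQ⟩ := hmint
  have hsmul : ((⟨MvPolynomial.C ρ, Submonoid.mem_map_of_mem _ hρ⟩ :
      (nonZeroDivisors R).map (MvPolynomial.C (σ := Fin d))) • ((1 : K) ⊗ₜ[R] t : T)) =
      ι (ρ • t) := by
    rw [Submonoid.mk_smul, Algebra.smul_def, halg]
    simp [φ, ι, Algebra.algebraMap_eq_smul_one, TensorProduct.smul_tmul']
    rfl
  rw [hsmul, halg] at hQ
  have hQ' : ι (Polynomial.eval₂ φ.toRingHom (ρ • t) Q) = 0 := by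
    rw [← hQ]
    exact Polynomial.hom_eval₂ Q φ.toRingHom ι.toRingHom (ρ • t)
  -- kernel of ι is torsion
  have hker : ∃ r' : nonZeroDivisors R, r' • (Polynomial.eval₂ φ.toRingHom (ρ • t) Q) = 0 := by
    have := (IsLocalizedModule.eq_zero_iff (nonZeroDivisors R) (TensorProduct.mk R K S 1)
      (m := Polynomial.eval₂ φ.toRingHom (ρ • t) Q)).mp hQ'
    exact this
  obtain ⟨⟨r', hr'⟩, hr'u⟩ := hker
  refine ⟨r' * ρ, mul_mem hr' hρ, (Q * Polynomial.X).scaleRoots (MvPolynomial.C r'), ?_, ?_⟩
  · rw [Polynomial.monic_scaleRoots_iff]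
    exact hQm.mul Polynomial.monic_X
  · have h1 : (r' * ρ) • t = φ.toRingHom (MvPolynomial.C r') * (ρ • t) := by
      simp [φ, Algebra.smul_def, mul_assoc]
    rw [h1, Polynomial.scaleRoots_eval₂_mul, Polynomial.eval₂_mul, Polynomial.eval₂_X,
      hQm.natDegree_mul Polynomial.monic_X, Polynomial.natDegree_X, pow_succ]
    have h2 : φ.toRingHom (MvPolynomial.C r') * Polynomial.eval₂ φ.toRingHom (ρ • t) Q = 0 := by
      have : φ.toRingHom (MvPolynomial.C r') = algebraMap R S r' := by simp [φ]
      rw [this, ← Algebra.smul_def]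
      exact hr'u
    calc _ = φ.toRingHom (MvPolynomial.C r') ^ Q.natDegree *
          (φ.toRingHom (MvPolynomial.C r') * Polynomial.eval₂ φ.toRingHom (ρ • t) Q) * (ρ • t) := by
          ring
      _ = 0 := by rw [h2, mul_zero, zero_mul]

/-- from integrality over the polynomial ring via `aeval y` to integrality over `adjoin R (range y)` -/
theorem isIntegral_adjoin_of_isIntegralElem {R S : Type u} [CommRing R] [CommRing S]
    [Algebra R S] {d : ℕ} (y : Fin d → S) (x : S)
    (hx : ((MvPolynomial.aeval y : MvPolynomial (Fin d) R →ₐ[R] S)).toRingHom.IsIntegralElem x) :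
    IsIntegral (Algebra.adjoin R (Set.range y)) x := by
  obtain ⟨Q, hQm, hQ⟩ := hx
  have hrange : ∀ p : MvPolynomial (Fin d) R, MvPolynomial.aeval y p ∈ Algebra.adjoin R (Set.range y) := by
    intro p
    rw [Algebra.adjoin_range_eq_range_aeval]
    exact ⟨p, rfl⟩
  let φ₀ : MvPolynomial (Fin d) R →+* Algebra.adjoin R (Set.range y) :=
    ((MvPolynomial.aeval y : MvPolynomial (Fin d) R →ₐ[R] S).codRestrict _ hrange).toRingHom
  refine ⟨Q.map φ₀, hQm.map _, ?_⟩
  rw [Polynomial.eval₂_map]
  exact hQ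

/-- the scaling automorphism -/
theorem scale_bijective {K : Type u} [Field K] {d : ℕ} (c : Fin d → K) (hc : ∀ i, c i ≠ 0) :
    Function.Bijective (MvPolynomial.aeval (fun i ↦ MvPolynomial.C (c i) * MvPolynomial.X i) :
      MvPolynomial (Fin d) K →ₐ[K] MvPolynomial (Fin d) K) := by
  have key : ∀ (a b : Fin d → K), (∀ i, a i * b i = 1) →
      (MvPolynomial.aeval (fun i ↦ MvPolynomial.C (a i) * MvPolynomial.X i) :
        MvPolynomial (Fin d) K →ₐ[K] MvPolynomial (Fin d) K).comp
      (MvPolynomial.aeval (fun i ↦ MvPolynomial.C (b i) * MvPolynomial.X i)) = AlgHom.id K _ := by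
    intro a b hab
    apply MvPolynomial.algHom_ext
    intro i
    simp only [AlgHom.comp_apply, MvPolynomial.aeval_X, map_mul, MvPolynomial.aeval_C,
      MvPolynomial.algebraMap_eq, AlgHom.id_apply]
    rw [← mul_assoc, ← MvPolynomial.C_mul, mul_comm (b i), hab i, MvPolynomial.C_1, one_mul]
  have h1 := key (fun i ↦ (c i)⁻¹) c (fun i ↦ inv_mul_cancel₀ (hc i))
  have h2 := key c (fun i ↦ (c i)⁻¹) (fun i ↦ mul_inv_cancel₀ (hc i))
  refine ⟨?_, ?_⟩
  · intro p q hpq
    have := congrArg (MvPolynomial.aeval (fun i ↦ MvPolynomial.C (c i)⁻¹ * MvPolynomial.X i) :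
        MvPolynomial (Fin d) K →ₐ[K] MvPolynomial (Fin d) K) hpq
    rw [← AlgHom.comp_apply, ← AlgHom.comp_apply, h1] at this
    exact this
  · intro p
    refine ⟨MvPolynomial.aeval (fun i ↦ MvPolynomial.C (c i)⁻¹ * MvPolynomial.X i) p, ?_⟩
    rw [← AlgHom.comp_apply, h2]
    rfl

/-- Let `R` be a domain and `R → S` an injective ring map of finite type. Then there are elements `y_1,
…, y_d` of `S` algebraically independent over `R`, a finitely generated `R`-subalgebra `S'` of `S`
containing them and integral over `R[y_1, …, y_d]`, and a nonzero `f ∈ R` such that every element of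
`S` lands in `S'` after multiplication by a power of `f`. -/
theorem result {R S : Type u} [CommRing R] [IsDomain R] [CommRing S] [Algebra R S]
    [Algebra.FiniteType R S] (hinj : Function.Injective (algebraMap R S)) :
    ∃ (d : ℕ) (y : Fin d → S) (S' : Subalgebra R S), AlgebraicIndependent R y ∧ (∀ i, y i ∈ S') ∧ S'.FG ∧
      (∀ s ∈ S', IsIntegral (Algebra.adjoin R (Set.range y)) s) ∧
      ∃ f : R, f ≠ 0 ∧ ∀ s : S, ∃ n : ℕ, (f ^ n) • s ∈ S' := by
  classical
  have hloc : ∀ m : S, ((1 : FractionRing R) ⊗ₜ[R] m : TensorProduct R (FractionRing R) S) = 0 →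
      ∃ r : nonZeroDivisors R, r • m = 0 := fun m hm ↦
    (IsLocalizedModule.eq_zero_iff (nonZeroDivisors R)
      (TensorProduct.mk R (FractionRing R) S 1) (m := m)).mp hm
  have hnt : Nontrivial (TensorProduct R (FractionRing R) S) := by
    refine ⟨⟨1, 0, fun h ↦ ?_⟩⟩
    obtain ⟨⟨r, hr⟩, hr0⟩ := hloc 1 h
    have h1 : algebraMap R S r = 0 := by
      rw [Algebra.algebraMap_eq_smul_one]; exact hr0
    have h2 : r = 0 := hinj (by rw [h1, map_zero])
    exact nonZeroDivisors.ne_zero hr h2
  obtain ⟨d, g, hginj, hgint⟩ :=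
    exists_integral_inj_algHom_of_fg (FractionRing R) (TensorProduct R (FractionRing R) S)
  have hsurj : ∀ z : TensorProduct R (FractionRing R) S, ∃ (x : S × nonZeroDivisors R),
      x.2 • z = (1 : FractionRing R) ⊗ₜ[R] x.1 := fun z ↦
    IsLocalizedModule.surj (nonZeroDivisors R) (TensorProduct.mk R (FractionRing R) S 1) z
  choose yr hyr using fun i ↦ hsurj (g (MvPolynomial.X i))
  let y : Fin d → S := fun i ↦ (yr i).1
  let c : Fin d → FractionRing R := fun i ↦ algebraMap R (FractionRing R) (yr i).2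
  have hc : ∀ i, c i ≠ 0 := fun i ↦ by
    intro h0
    have : ((yr i).2 : R) = 0 := IsFractionRing.injective R (FractionRing R) (by
      rw [map_zero]; exact h0)
    exact nonZeroDivisors.ne_zero (yr i).2.2 this
  have hbij := scale_bijective c hc
  let g' : MvPolynomial (Fin d) (FractionRing R) →ₐ[FractionRing R]
      TensorProduct R (FractionRing R) S :=
    g.comp (MvPolynomial.aeval (fun i ↦ MvPolynomial.C (c i) * MvPolynomial.X i))
  have hg'eq : g' = MvPolynomial.aeval (fun i ↦ (1 : FractionRing R) ⊗ₜ[R] y i) := by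
    apply MvPolynomial.algHom_ext
    intro i
    simp only [g', AlgHom.comp_apply, MvPolynomial.aeval_X, map_mul]
    rw [← hyr i, ← MvPolynomial.algebraMap_eq, AlgHom.commutes, Submonoid.smul_def,
      ← Algebra.smul_def]
    exact algebraMap_smul (FractionRing R) _ _
  have hg'inj : Function.Injective g' := hginj.comp hbij.1
  have hg'int : g'.toRingHom.IsIntegral :=
    RingHom.IsIntegral.trans _ _ (RingHom.isIntegral_of_surjective _ hbij.2) hgint
  rw [hg'eq] at hg'inj hg'int
  have hyK : AlgebraicIndependent (FractionRing R)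
      (fun i ↦ ((1 : FractionRing R) ⊗ₜ[R] y i : TensorProduct R (FractionRing R) S)) := hg'inj
  have hyR : AlgebraicIndependent R
      (fun i ↦ ((1 : FractionRing R) ⊗ₜ[R] y i : TensorProduct R (FractionRing R) S)) :=
    hyK.restrictScalars (IsFractionRing.injective R (FractionRing R))
  have hy : AlgebraicIndependent R y :=
    AlgebraicIndependent.of_comp
      (Algebra.TensorProduct.includeRight : S →ₐ[R] TensorProduct R (FractionRing R) S) hyR
  choose ρ hρ hint using fun t : S ↦ exists_smul_isIntegralElem y t (hg'int _)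
  have hint' : ∀ t : S, IsIntegral (Algebra.adjoin R (Set.range y)) (ρ t • t) := fun t ↦
    isIntegral_adjoin_of_isIntegralElem y _ (hint t)
  obtain ⟨G, hG⟩ := (Algebra.FiniteType.out : (⊤ : Subalgebra R S).FG)
  let f : R := ∏ s ∈ G, ρ s
  have hf : f ∈ nonZeroDivisors R := Submonoid.prod_mem _ fun s _ ↦ hρ s
  have hfint : ∀ s ∈ G, IsIntegral (Algebra.adjoin R (Set.range y)) (f • s) := by
    intro s hs
    have : f • s = (∏ s' ∈ G.erase s, ρ s') • (ρ s • s) := by
      rw [smul_smul, Finset.prod_erase_mul G ρ hs]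
    rw [this]
    exact (hint' s).smul _
  let gens : Finset S := Finset.univ.image y ∪ G.image (fun s ↦ f • s)
  refine ⟨d, y, Algebra.adjoin R (gens : Set S), hy, ?_, Subalgebra.fg_adjoin_finset gens, ?_,
    f, nonZeroDivisors.ne_zero hf, ?_⟩
  · intro i
    apply Algebra.subset_adjoin
    simp [gens]
  · intro s hs
    induction hs using Algebra.adjoin_induction with
    | mem x hx =>
      simp only [gens, Finset.coe_union, Finset.coe_image, Finset.coe_univ, Set.image_univ,
        Set.mem_union, Set.mem_range, Set.mem_image, Finset.mem_coe] at hx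
      rcases hx with ⟨i, rfl⟩ | ⟨s, hs, rfl⟩
      · exact isIntegral_algebraMap
          (x := (⟨y i, Algebra.subset_adjoin ⟨i, rfl⟩⟩ : Algebra.adjoin R (Set.range y)))
      · exact hfint s hs
    | algebraMap r =>
      exact isIntegral_algebraMap (x := algebraMap R (Algebra.adjoin R (Set.range y)) r)
    | add x y _ _ hx hy => exact hx.add hy
    | mul x y _ _ hx hy => exact hx.mul hy
  · intro s
    have hs : s ∈ Algebra.adjoin R (G : Set S) := by rw [hG]; trivial
    induction hs using Algebra.adjoin_induction with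
    | mem x hx =>
      refine ⟨1, ?_⟩
      rw [pow_one]
      apply Algebra.subset_adjoin
      simp only [gens, Finset.coe_union, Finset.coe_image, Set.mem_union, Set.mem_image,
        Finset.mem_coe]
      exact Or.inr ⟨x, hx, rfl⟩
    | algebraMap r =>
      exact ⟨0, by rw [pow_zero, one_smul]; exact Subalgebra.algebraMap_mem _ r⟩
    | add a b _ _ ha hb =>
      obtain ⟨n₁, h₁⟩ := ha
      obtain ⟨n₂, h₂⟩ := hb
      refine ⟨n₁ + n₂, ?_⟩
      have : f ^ (n₁ + n₂) • (a + b) = f ^ n₂ • (f ^ n₁ • a) + f ^ n₁ • (f ^ n₂ • b) := by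
        rw [smul_add, smul_smul, smul_smul, pow_add, mul_comm]
      rw [this]
      exact add_mem (Subalgebra.smul_mem _ h₁ _) (Subalgebra.smul_mem _ h₂ _)
    | mul a b _ _ ha hb =>
      obtain ⟨n₁, h₁⟩ := ha
      obtain ⟨n₂, h₂⟩ := hb
      refine ⟨n₁ + n₂, ?_⟩
      have : f ^ (n₁ + n₂) • (a * b) = (f ^ n₁ • a) * (f ^ n₂ • b) := by
        rw [smul_mul_smul_comm, pow_add]
      rw [this]
      exact mul_mem h₁ h₂

end Groth.Agent.S2073
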