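import Groth.Statements.S2076
import Groth.Agent.Lib.helper11.LimClosedImm

set_option autoImplicit false
universe u
open CategoryTheory AlgebraicGeometry
open Lim

namespace Groth.Agent.S2076

attribute [local instance] IsCofiltered.isConnected


/-- Let `X = lim X_i` be a cofiltered limit of quasi-compact schemes over `S` with affine transition
morphisms and `h : Y → X` a closed immersion with `Y → S` locally of finite type. Then `Y → X_i` is
a closed immersion for some `i`. -/
theorem result {I : Type u} [SmallCategory I] [IsCofiltered I] (S : Scheme.{u})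
    (D : I ⥤ Over S) (c : Limits.Cone D) (hc : Limits.IsLimit c)
    [∀ (i j : I) (f : i ⟶ j), IsAffineHom (D.map f).left] [∀ i, CompactSpace (D.obj i).left]
    {Y : Scheme.{u}} (h : Y ⟶ c.pt.left) [IsClosedImmersion h] [LocallyOfFiniteType (h ≫ c.pt.hom)] :
    ∃ i : I, IsClosedImmersion (h ≫ (c.π.app i).left) := by
  classical
  let D₀ : I ⥤ Scheme.{u} := D ⋙ Over.forget S
  let c₀ : Limits.Cone D₀ := (Over.forget S).mapCone c
  have hc₀ : Limits.IsLimit c₀ := Limits.isLimitOfPreserves (Over.forget S) hc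
  obtain ⟨i₀⟩ := IsCofiltered.nonempty (C := I)
  have : ∀ (i j : I) (f : i ⟶ j), IsAffineHom (D₀.map f) := fun i j f =>
    ‹∀ (i j : I) (f : i ⟶ j), IsAffineHom (D.map f).left› i j f
  have : CompactSpace (D₀.obj i₀) := ‹∀ i, CompactSpace (D.obj i).left› i₀
  have hlft : LocallyOfFiniteType (h ≫ c₀.π.app i₀) := by
    have e : (h ≫ (c.π.app i₀).left) ≫ (D.obj i₀).hom = h ≫ c.pt.hom := by
      rw [Category.assoc, Over.w]
      rfl
    have : LocallyOfFiniteType ((h ≫ (c.π.app i₀).left) ≫ (D.obj i₀).hom) := by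
      rw [e]; infer_instance
    exact @locallyOfFiniteType_of_comp _ _ _ (h ≫ (c.π.app i₀).left) (D.obj i₀).hom this
  let h' : Y ⟶ c₀.pt := h
  have hcl : IsClosedImmersion h' := ‹IsClosedImmersion h›
  have hlft' : LocallyOfFiniteType (h' ≫ c₀.π.app i₀) := hlft
  obtain ⟨i, _, hi⟩ := Groth.Agent.Lib.helper11.LimClosedImm.exists_isClosedImmersion_stage
    D₀ c₀ i₀ h' hc₀
  exact ⟨i, hi⟩

end Groth.Agent.S2076
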