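import Groth.Statements.S2090
import Groth.Agent.Lib.helper9.Depth15

set_option autoImplicit false
universe u
open CAlg

namespace Groth.Agent.S2090

/-- Let `R` be Noetherian and `φ : M → N` a map of `R`-modules with `M` finite. Suppose that for every
prime `𝔭` either `φ_𝔭` is bijective, or `M_𝔭` has depth at least two and `𝔭` is not an associated
prime of `N`. Then `φ` is bijective. -/
theorem result {R M N : Type u} [CommRing R] [IsNoetherianRing R] [AddCommGroup M]
    [Module R M] [Module.Finite R M] [AddCommGroup N] [Module R N] (φ : M →ₗ[R] N)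
    (h : ∀ (p : Ideal R) [p.IsPrime],
      Function.Bijective (LocalizedModule.map p.primeCompl φ) ∨
        (2 ≤ LocCoh.depth (Localization.AtPrime p) (LocalizedModule p.primeCompl M) ∧
          p ∉ associatedPrimes R N)) :
    Function.Bijective φ := by
  classical
  have hinj : Function.Injective φ := by
    rw [← LinearMap.ker_eq_bot]
    by_contra hK
    have hnt : Nontrivial (LinearMap.ker φ) := (Submodule.nontrivial_iff_ne_bot).mpr hK
    obtain ⟨p, hp⟩ := associatedPrimes.nonempty R (LinearMap.ker φ)
    have hp' : IsAssociatedPrime p (LinearMap.ker φ) := hp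
    have hprime : p.IsPrime := hp'.isPrime
    have hpM : p ∈ associatedPrimes R M :=
      associatedPrimes.subset_of_injective (f := (LinearMap.ker φ).subtype)
        (Submodule.subtype_injective _) hp
    rw [isAssociatedPrime_iff] at hp'
    obtain ⟨-, k, hk⟩ := hp'
    rcases h p with hbij | ⟨hdepth, -⟩
    · have h0 : LocalizedModule.map p.primeCompl φ (LocalizedModule.mk (k : M) 1) = 0 := by
        rw [LocalizedModule.map_mk, k.2, LocalizedModule.zero_mk]
      have h1 : (LocalizedModule.mk (k : M) (1 : p.primeCompl) : LocalizedModule p.primeCompl M) = 0 :=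
        hbij.1 (by rw [h0, map_zero])
      rw [Groth.Agent.Lib.helper9.Depth.mk_eq_zero_iff'] at h1
      obtain ⟨t, ht⟩ := h1
      have htp : (t : R) ∈ (⊥ : Submodule R (LinearMap.ker φ)).colon {k} := by
        rw [Submodule.mem_colon_singleton]
        have : (t : R) • k = 0 := by
          apply Subtype.ext
          rw [Submodule.coe_smul, Submodule.coe_zero]
          exact ht
        simpa using this
      exact t.2 (hk ▸ htp)
    · have h0 := (Groth.Agent.Lib.helper9.Depth.depth_localization_eq_zero_iff p M).mpr hpM
      rw [h0] at hdepth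
      simp at hdepth
  refine ⟨hinj, ?_⟩
  rw [← LinearMap.range_eq_top]
  by_contra hC
  have hnt : Nontrivial (N ⧸ LinearMap.range φ) :=
    Submodule.Quotient.nontrivial_iff.mpr hC
  obtain ⟨p, hp⟩ := associatedPrimes.nonempty R (N ⧸ LinearMap.range φ)
  have hp' : IsAssociatedPrime p (N ⧸ LinearMap.range φ) := hp
  have hprime : p.IsPrime := hp'.isPrime
  rw [isAssociatedPrime_iff] at hp'
  obtain ⟨-, c, hc⟩ := hp'
  obtain ⟨n, rfl⟩ := Submodule.Quotient.mk_surjective _ c
  have hmem : ∀ r : R, r ∈ p ↔ r • n ∈ LinearMap.range φ := by
    intro r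
    have : r ∈ p ↔ r ∈ (⊥ : Submodule R (N ⧸ LinearMap.range φ)).colon {Submodule.Quotient.mk n} := by
      rw [← hc]
    rw [this, Submodule.mem_colon_singleton, ← Submodule.Quotient.mk_smul, Submodule.mem_bot,
      Submodule.Quotient.mk_eq_zero]
  -- `n/1` is not in the range of `φ_p`
  have hnot : ∀ μ : LocalizedModule p.primeCompl M,
      LocalizedModule.map p.primeCompl φ μ ≠ LocalizedModule.mk n 1 := by
    intro μ hμ
    induction μ using LocalizedModule.induction_on with
    | h m s =>
      rw [LocalizedModule.map_mk, LocalizedModule.mk_eq] at hμ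
      obtain ⟨t, ht⟩ := hμ
      rw [one_smul] at ht
      have : ((t : R) * (s : R)) • n ∈ LinearMap.range φ := by
        refine ⟨(t : R) • m, ?_⟩
        rw [map_smul, mul_smul]
        exact ht
      have := (hmem _).mpr this
      rcases hprime.mem_or_mem this with h1 | h1
      · exact t.2 h1
      · exact s.2 h1
  rcases h p with hbij | ⟨hdepth, hpN⟩
  · obtain ⟨μ, hμ⟩ := hbij.2 (LocalizedModule.mk n 1)
    exact hnot μ hμ
  · apply hpN
    -- the map `p → M`, `r ↦ φ⁻¹(r n)`
    have hex : ∀ r : p, ∃ m : M, φ m = (r : R) • n := fun r => (hmem r).mp r.2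
    choose ψ hψ using hex
    let Ψ : p →ₗ[R] LocalizedModule p.primeCompl M :=
      { toFun := fun r => LocalizedModule.mk (ψ r) 1
        map_add' := by
          intro a b
          have : ψ (a + b) = ψ a + ψ b := by
            apply hinj
            rw [map_add, hψ, hψ, hψ]
            simp [add_smul]
          rw [this, LocalizedModule.mk_add_mk]
          simp
        map_smul' := by
          intro a b
          have : ψ (a • b) = a • ψ b := by
            apply hinj
            rw [map_smul, hψ, hψ]
            simp [mul_smul]
          rw [this, RingHom.id_apply, LocalizedModule.smul'_mk] }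
    obtain ⟨μ, hμ⟩ :=
      Groth.Agent.Lib.helper9.Depth.exists_eq_smul_of_two_le_depth_localization p M hdepth Ψ
    let y : LocalizedModule p.primeCompl N :=
      LocalizedModule.mk n 1 - LocalizedModule.map p.primeCompl φ μ
    have hy0 : y ≠ 0 := by
      intro h0
      exact hnot μ (sub_eq_zero.mp h0).symm
    have hky : ∀ r : R, r ∈ p → r • y = 0 := by
      intro r hr
      have h1 := hμ ⟨r, hr⟩
      change LocalizedModule.mk (ψ ⟨r, hr⟩) 1 = r • μ at h1
      change r • (LocalizedModule.mk n 1 - LocalizedModule.map p.primeCompl φ μ) = 0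
      rw [smul_sub, ← LinearMap.map_smul_of_tower, ← h1, LocalizedModule.map_mk, hψ,
        LocalizedModule.smul'_mk, sub_self]
    -- maximal ideal is associated to `N_p`
    have hass : IsLocalRing.maximalIdeal (Localization.AtPrime p) ∈
        associatedPrimes (Localization.AtPrime p) (LocalizedModule p.primeCompl N) := by
      change IsAssociatedPrime _ _
      rw [isAssociatedPrime_iff]
      refine ⟨inferInstance, y, ?_⟩
      apply le_antisymm
      · rw [← Localization.AtPrime.map_eq_maximalIdeal, Ideal.map_le_iff_le_comap]
        intro r hr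
        rw [Ideal.mem_comap, Submodule.mem_colon_singleton, algebraMap_smul]
        simpa using hky r hr
      · apply IsLocalRing.le_maximalIdeal
        intro htop
        rw [Ideal.eq_top_iff_one, Submodule.mem_colon_singleton] at htop
        apply hy0
        simpa using htop
    have := Module.associatedPrimes.comap_mem_associatedPrimes_of_mem_associatedPrimes_of_isLocalizedModule_of_fg
      p.primeCompl (LocalizedModule.mkLinearMap p.primeCompl N) _ hass
      ((isNoetherianRing_iff_ideal_fg R).mp inferInstance _)
    have hmax : Ideal.comap (algebraMap R (Localization.AtPrime p))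
        (IsLocalRing.maximalIdeal (Localization.AtPrime p)) = p :=
      Localization.AtPrime.under_maximalIdeal
    rwa [hmax] at this

end Groth.Agent.S2090
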