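import Groth.Statements.S2092
import Groth.Agent.Lib.helper17.FlatCM
import Groth.Agent.Lib.helper20.SmoothReg

set_option autoImplicit false
universe u
open CAlg

namespace Groth.Agent.S2092

/-- Case `M = R`: if `R` is a Cohen–Macaulay ring then so is the polynomial ring `R[x_1, …, x_n]`. -/
theorem result {R : Type u} [CommRing R] [LocCoh.IsCohenMacaulayRing R] (n : ℕ) :
    LocCoh.IsCohenMacaulayRing (MvPolynomial (Fin n) R) := by
  haveI : IsNoetherianRing R := inferInstance
  refine Groth.Agent.Lib.helper17.FlatCM.isCM_of_flat (A := R) (B := MvPolynomial (Fin n) R)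
    inferInstance ?_
  intro p _ q _
  haveI : Algebra.Smooth p.ResidueField (MvPolynomial (Fin n) p.ResidueField) :=
    ⟨inferInstance, inferInstance⟩
  haveI : IsRegularRing (MvPolynomial (Fin n) p.ResidueField) :=
    Groth.Agent.Lib.helper20.SmoothReg.isRegularRing_of_smooth p.ResidueField _
  haveI : IsRegularRing (p.Fiber (MvPolynomial (Fin n) R)) :=
    IsRegularRing.of_ringEquiv
      (MvPolynomial.algebraTensorAlgEquiv (σ := Fin n) R p.ResidueField).symm.toRingEquiv
  haveI : IsRegularLocalRing (Localization.AtPrime q) :=
    IsRegularRing.isRegularLocalRing_localization q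
  exact Groth.Agent.Lib.helper17.FlatCM.isCM_of_regular _

end Groth.Agent.S2092
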