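import Groth.Statements.S2093
import Groth.Agent.Lib.helper21.LC64
import Groth.Agent.Lib.helper6.CplQuot
import Groth.Agent.S0543

set_option autoImplicit false
universe u
open CAlg

namespace Groth.Agent.S2093

/-- Let `(R, 𝔪)` be a Noetherian local domain and `x ∈ 𝔪` nonzero such that `R/xR` has no embedded
associated primes, and for every associated prime `𝔭` of `R/xR` the local ring `R_𝔭` is regular and
the completion of `R/𝔭` is reduced. Then the completion of `R` is reduced. -/
theorem result {R : Type u} [CommRing R] [IsDomain R] [IsLocalRing R]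
    [IsNoetherianRing R] (x : R) (hx : x ≠ 0) (hxm : x ∈ IsLocalRing.maximalIdeal R)
    (hemb : ∀ p ∈ associatedPrimes R (R ⧸ Ideal.span {x}), p ∈ (Ideal.span {x}).minimalPrimes)
    (hreg : ∀ p ∈ associatedPrimes R (R ⧸ Ideal.span {x}), ∀ (_ : p.IsPrime),
      IsRegularLocalRing (Localization.AtPrime p) ∧
        IsReduced (AdicCompletion ((IsLocalRing.maximalIdeal R).map (Ideal.Quotient.mk p)) (R ⧸ p))) :
    IsReduced (AdicCompletion (IsLocalRing.maximalIdeal R) R) := by
  classical
  haveI : IsNoetherianRing (AdicCompletion (IsLocalRing.maximalIdeal R) R) :=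
    Groth.Agent.S0543.result R _
  apply Groth.Agent.H21.LC.isReduced_of_flat_of_hausdorff x hx hemb
  · intro p hp hpp
    haveI := hpp
    obtain ⟨hrl, hred⟩ := hreg p hp hpp
    haveI := hrl
    refine ⟨Groth.Agent.H21.LC.dvr_of_regular_of_minimal x hx p (hemb p hp), ?_⟩
    haveI : Nontrivial (R ⧸ p) := Ideal.Quotient.nontrivial_iff.mpr hpp.ne_top
    have e := Groth.Agent.Lib.helper6.CplQuot.quotEquiv R p
    have hI : (IsLocalRing.maximalIdeal R).map (Ideal.Quotient.mk p) =
        IsLocalRing.maximalIdeal (R ⧸ p) :=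
      IsLocalRing.map_maximalIdeal_of_surjective _ Ideal.Quotient.mk_surjective
    have hred' : IsReduced (AdicCompletion (IsLocalRing.maximalIdeal (R ⧸ p)) (R ⧸ p)) := by
      rw [← hI]; exact hred
    exact isReduced_of_injective e e.injective
  · intro y hy
    apply IsHausdorff.haus (inferInstance :
      IsHausdorff (IsLocalRing.maximalIdeal R) (AdicCompletion (IsLocalRing.maximalIdeal R) R)) y
    intro n
    rw [SModEq.zero]
    have h1 := hy n
    rw [Ideal.map_span, Set.image_singleton, Ideal.mem_span_singleton'] at h1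
    obtain ⟨w, rfl⟩ := h1
    rw [mul_comm, ← Algebra.smul_def]
    exact Submodule.smul_mem_smul (Ideal.pow_mem_pow hxm n) Submodule.mem_top

end Groth.Agent.S2093
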