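import Groth.Statements.S2094
import Mathlib

set_option autoImplicit false
universe u
open CAlg

namespace Groth.Agent.S2094

section

variable {A : Type u} [CommRing A]

/-- `Sym M` is formally smooth for projective `M`. -/
theorem formallySmooth_of_projective {M : Type u} [AddCommGroup M] [Module A M]
    [Module.Projective A M] : Algebra.FormallySmooth A (SymmetricAlgebra A M) := by
  rw [Algebra.FormallySmooth.iff_comp_surjective]
  intro B _ _ I _ φ
  let w : M →ₗ[A] B ⧸ I := φ.toLinearMap ∘ₗ SymmetricAlgebra.ι A M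
  obtain ⟨v, hv⟩ := Module.projective_lifting_property (Ideal.Quotient.mkₐ A I).toLinearMap w
    (Ideal.Quotient.mkₐ_surjective A I)
  refine ⟨SymmetricAlgebra.lift v, ?_⟩
  apply SymmetricAlgebra.algHom_ext
  ext m
  have := congrArg (fun f => f m) hv
  simpa [w] using this

/-- `Sym M` is finitely presented for finite projective `M`. -/
theorem finitePresentation_of_finite_projective {M : Type u} [AddCommGroup M] [Module A M]
    [Module.Finite A M] [Module.Projective A M] :
    Algebra.FinitePresentation A (SymmetricAlgebra A M) := by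
  obtain ⟨n, π, hπ⟩ := Module.Finite.exists_fin' A M
  obtain ⟨i, hi⟩ := Module.projective_lifting_property π LinearMap.id hπ
  let r : MvPolynomial (Fin n) A →ₐ[A] SymmetricAlgebra A M :=
    MvPolynomial.aeval (fun j => SymmetricAlgebra.ι A M (π (Pi.single j 1)))
  let s : SymmetricAlgebra A M →ₐ[A] MvPolynomial (Fin n) A :=
    SymmetricAlgebra.lift
      ((Fintype.linearCombination A (fun j : Fin n => (MvPolynomial.X j : MvPolynomial (Fin n) A))) ∘ₗ i)
  have hrs' : ∀ m, r (s (SymmetricAlgebra.ι A M m)) = SymmetricAlgebra.ι A M m := by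
    intro m
    have h1 : s (SymmetricAlgebra.ι A M m) =
        ∑ j, (i m) j • (MvPolynomial.X j : MvPolynomial (Fin n) A) := by
      simp [s, Fintype.linearCombination_apply]
    have h2 : π (i m) = m := congrArg (fun f => f m) hi
    have h3 : i m = ∑ j, (i m) j • (Pi.single j (1 : A) : Fin n → A) := by
      ext k
      simp [Finset.sum_apply, Pi.single_apply]
    rw [h1, map_sum]
    simp only [map_smul, r, MvPolynomial.aeval_X]
    simp only [← map_smul, ← map_sum]
    rw [← h3, h2]
  have hrs : r.comp s = AlgHom.id A _ :=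
    SymmetricAlgebra.algHom_ext (LinearMap.ext fun m => hrs' m)
  have hrs'' : ∀ x, r (s x) = x := fun x => congrArg (fun f => f x) hrs
  have hsurj : Function.Surjective r := fun x => ⟨s x, hrs'' x⟩
  refine Algebra.FinitePresentation.of_surjective hsurj ?_
  -- the kernel is generated by `X j - s (r (X j))`
  let J : Ideal (MvPolynomial (Fin n) A) :=
    Ideal.span (Set.range fun j : Fin n => MvPolynomial.X j - s (r (MvPolynomial.X j)))
  have hJ : RingHom.ker r.toRingHom = J := by
    apply le_antisymm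
    · intro x hx
      have hx' : r x = 0 := hx
      have key : (Ideal.Quotient.mkₐ A J) = ((Ideal.Quotient.mkₐ A J).comp s).comp r := by
        apply MvPolynomial.algHom_ext
        intro j
        simp only [AlgHom.coe_comp, Function.comp_apply, Ideal.Quotient.mkₐ_eq_mk]
        rw [← sub_eq_zero, ← map_sub, Ideal.Quotient.eq_zero_iff_mem]
        exact Ideal.subset_span ⟨j, rfl⟩
      have := congrArg (fun f => f x) key
      simp only [AlgHom.coe_comp, Function.comp_apply, Ideal.Quotient.mkₐ_eq_mk, hx', map_zero] at this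
      exact Ideal.Quotient.eq_zero_iff_mem.mp this
    · rw [Ideal.span_le]
      rintro _ ⟨j, rfl⟩
      change r _ = 0
      rw [map_sub, hrs'', sub_self]
  rw [hJ]
  exact Submodule.fg_span (Set.finite_range _)

end

section

variable {A : Type u} [CommRing A]

/-- the algebra map `Sym M → A ⊕ N` induced by a linear map `M → N` -/
noncomputable def toTSZ {M N : Type u} [AddCommGroup M] [Module A M] [AddCommGroup N] [Module A N]
    [Module Aᵐᵒᵖ N] [IsCentralScalar A N] (f : M →ₗ[A] N) :
    SymmetricAlgebra A M →ₐ[A] TrivSqZeroExt A N :=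
  SymmetricAlgebra.lift (TrivSqZeroExt.inrHom A N ∘ₗ f)

theorem toTSZ_ι {M N : Type u} [AddCommGroup M] [Module A M] [AddCommGroup N] [Module A N]
    [Module Aᵐᵒᵖ N] [IsCentralScalar A N] (f : M →ₗ[A] N) (m : M) :
    toTSZ f (SymmetricAlgebra.ι A M m) = TrivSqZeroExt.inr (f m) := by
  simp [toTSZ]

theorem exists_section_of_formallySmooth {M F : Type u} [AddCommGroup M] [Module A M]
    [Module Aᵐᵒᵖ M] [IsCentralScalar A M] [AddCommGroup F] [Module A F]
    [Module Aᵐᵒᵖ F] [IsCentralScalar A F] [Algebra.FormallySmooth A (SymmetricAlgebra A M)]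
    (q : F →ₗ[A] M) (hq : Function.Surjective q) :
    ∃ σ : M →ₗ[A] F, q ∘ₗ σ = LinearMap.id := by
  have hsurj : Function.Surjective (TrivSqZeroExt.map q) := by
    intro x
    obtain ⟨f, hf⟩ := hq x.snd
    refine ⟨TrivSqZeroExt.inl x.fst + TrivSqZeroExt.inr f, ?_⟩
    apply TrivSqZeroExt.ext
    · simp
    · simp [hf]
  have hnil : IsNilpotent (RingHom.ker (TrivSqZeroExt.map q : TrivSqZeroExt A F →+* TrivSqZeroExt A M)) := by
    refine ⟨2, ?_⟩
    rw [Ideal.zero_eq_bot, ← le_bot_iff, ← TrivSqZeroExt.kerIdeal_sq (R := A) (M := F)]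
    apply Ideal.pow_right_mono
    intro x hx
    rw [RingHom.mem_ker] at hx
    change TrivSqZeroExt.fst x = 0
    have := congrArg TrivSqZeroExt.fst hx
    simpa using this
  let ψ := Algebra.FormallySmooth.liftOfSurjective (toTSZ (LinearMap.id : M →ₗ[A] M))
    (TrivSqZeroExt.map q) hsurj hnil
  refine ⟨TrivSqZeroExt.sndHom A F ∘ₗ ψ.toLinearMap ∘ₗ SymmetricAlgebra.ι A M, ?_⟩
  ext m
  have h1 : TrivSqZeroExt.map q (ψ (SymmetricAlgebra.ι A M m)) =
      toTSZ (LinearMap.id : M →ₗ[A] M) (SymmetricAlgebra.ι A M m) :=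
    Algebra.FormallySmooth.liftOfSurjective_apply _ _ hsurj hnil _
  have h2 := congrArg TrivSqZeroExt.snd h1
  rw [TrivSqZeroExt.snd_map, toTSZ_ι] at h2
  simpa using h2

theorem finite_of_finiteType {M : Type u} [AddCommGroup M] [Module A M]
    [Algebra.FiniteType A (SymmetricAlgebra A M)] : Module.Finite A M := by
  classical
  have hP : ∀ x : SymmetricAlgebra A M, ∃ M' : Submodule A M, M'.FG ∧
      x ∈ Algebra.adjoin A (SymmetricAlgebra.ι A M '' (M' : Set M)) := by
    intro x
    induction x using SymmetricAlgebra.induction with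
    | algebraMap r => exact ⟨⊥, Submodule.fg_bot, Subalgebra.algebraMap_mem _ r⟩
    | ι m =>
      exact ⟨Submodule.span A {m}, Submodule.fg_span_singleton m,
        Algebra.subset_adjoin ⟨m, Submodule.mem_span_singleton_self m, rfl⟩⟩
    | mul a b ha hb =>
      obtain ⟨Ma, hMa, ha'⟩ := ha
      obtain ⟨Mb, hMb, hb'⟩ := hb
      refine ⟨Ma ⊔ Mb, hMa.sup hMb, Subalgebra.mul_mem _ ?_ ?_⟩
      · exact Algebra.adjoin_mono (Set.image_mono (SetLike.coe_subset_coe.mpr le_sup_left)) ha'
      · exact Algebra.adjoin_mono (Set.image_mono (SetLike.coe_subset_coe.mpr le_sup_right)) hb'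
    | add a b ha hb =>
      obtain ⟨Ma, hMa, ha'⟩ := ha
      obtain ⟨Mb, hMb, hb'⟩ := hb
      refine ⟨Ma ⊔ Mb, hMa.sup hMb, Subalgebra.add_mem _ ?_ ?_⟩
      · exact Algebra.adjoin_mono (Set.image_mono (SetLike.coe_subset_coe.mpr le_sup_left)) ha'
      · exact Algebra.adjoin_mono (Set.image_mono (SetLike.coe_subset_coe.mpr le_sup_right)) hb'
  obtain ⟨s, hs⟩ := (Algebra.FiniteType.out : (⊤ : Subalgebra A (SymmetricAlgebra A M)).FG)
  choose N hNfg hN using hP
  let M₀ : Submodule A M := ⨆ x ∈ s, N x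
  have hM₀fg : M₀.FG := Submodule.fg_biSup s N (fun x _ => hNfg x)
  have htop : Algebra.adjoin A (SymmetricAlgebra.ι A M '' (M₀ : Set M)) = ⊤ := by
    rw [eq_top_iff, ← hs]
    apply Algebra.adjoin_le
    intro x hx
    have hle : N x ≤ M₀ := le_biSup N hx
    exact Algebra.adjoin_mono (Set.image_mono (SetLike.coe_subset_coe.mpr hle)) (hN x)
  letI : Module Aᵐᵒᵖ (M ⧸ M₀) := Module.compHom _ ((RingHom.id A).fromOpposite mul_comm)
  haveI : IsCentralScalar A (M ⧸ M₀) := ⟨fun r m => rfl⟩
  have hsnd : ∀ x ∈ Algebra.adjoin A (SymmetricAlgebra.ι A M '' (M₀ : Set M)),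
      TrivSqZeroExt.snd (toTSZ M₀.mkQ x) = 0 := by
    intro x hx
    induction hx using Algebra.adjoin_induction with
    | mem x hx =>
      obtain ⟨m, hm, rfl⟩ := hx
      rw [toTSZ_ι, TrivSqZeroExt.snd_inr, Submodule.mkQ_apply, Submodule.Quotient.mk_eq_zero]
      exact hm
    | algebraMap r =>
      rw [AlgHom.commutes, TrivSqZeroExt.algebraMap_eq_inl, TrivSqZeroExt.snd_inl]
    | add x y _ _ hx hy => rw [map_add, TrivSqZeroExt.snd_add, hx, hy, add_zero]
    | mul x y _ _ hx hy => rw [map_mul, TrivSqZeroExt.snd_mul, hx, hy]; simp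
  have hall : ∀ m : M, m ∈ M₀ := by
    intro m
    have h1 := hsnd (SymmetricAlgebra.ι A M m) (by rw [htop]; trivial)
    rw [toTSZ_ι, TrivSqZeroExt.snd_inr, Submodule.mkQ_apply, Submodule.Quotient.mk_eq_zero] at h1
    exact h1
  have : M₀ = ⊤ := eq_top_iff.mpr fun m _ => hall m
  exact Module.finite_def.mpr (this ▸ hM₀fg)

end

/-- The symmetric algebra of an `A`-module is a smooth `A`-algebra exactly when the module is finite
projective. -/
theorem result {A M : Type u} [CommRing A] [AddCommGroup M] [Module A M] :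
    Algebra.Smooth A (SymmetricAlgebra A M) ↔ Module.Finite A M ∧ Module.Projective A M := by
  constructor
  · intro h
    haveI := h.formallySmooth
    haveI := h.finitePresentation
    refine ⟨finite_of_finiteType, ?_⟩
    letI : Module Aᵐᵒᵖ M := Module.compHom _ ((RingHom.id A).fromOpposite mul_comm)
    haveI : IsCentralScalar A M := ⟨fun r m => rfl⟩
    obtain ⟨σ, hσ⟩ := exists_section_of_formallySmooth (A := A) (M := M) (F := M →₀ A)
      (Finsupp.linearCombination A (id : M → M)) (Finsupp.linearCombination_id_surjective A M)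
    exact Module.Projective.of_split σ _ hσ
  · rintro ⟨h1, h2⟩
    exact ⟨formallySmooth_of_projective, finitePresentation_of_finite_projective⟩

end Groth.Agent.S2094
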