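import Groth.Statements.S2097
import Mathlib.RingTheory.Noetherian.Nilpotent
import Mathlib.RingTheory.Ideal.Quotient.Operations

set_option autoImplicit false
universe u
open CAlg

namespace Groth.Agent.S2097

/-- Let `R → S` be smooth, `A` an `R`-algebra and `I ⊆ A` an ideal all of whose elements are nilpotent.
Every `R`-algebra map `S → A/I` lifts to an `R`-algebra map `S → A`. -/
theorem result {R S A : Type u} [CommRing R] [CommRing S] [Algebra R S] [Algebra.Smooth R S]
    [CommRing A] [Algebra R A] (I : Ideal A) (hI : ∀ x ∈ I, IsNilpotent x) (g : S →ₐ[R] A ⧸ I) :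
    ∃ f : S →ₐ[R] A, (Ideal.Quotient.mkₐ R I).comp f = g := by
  obtain ⟨n, φ, hφ, hK⟩ :=
    (Algebra.Smooth.finitePresentation : Algebra.FinitePresentation R S).out
  have hsurj : Function.Surjective (Ideal.Quotient.mk I) := Ideal.Quotient.mk_surjective
  choose a ha using fun i : Fin n => hsurj (g (φ (MvPolynomial.X i)))
  let ψ : MvPolynomial (Fin n) R →ₐ[R] A := MvPolynomial.aeval a
  have hψ : (Ideal.Quotient.mkₐ R I).comp ψ = g.comp φ := by
    apply MvPolynomial.algHom_ext
    intro i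
    simp [ψ, ha]
  have hψ' : ∀ p, Ideal.Quotient.mk I (ψ p) = g (φ p) := fun p => AlgHom.congr_fun hψ p
  let J : Ideal A := (RingHom.ker φ.toRingHom).map ψ.toRingHom
  have hJI : J ≤ I := by
    rw [Ideal.map_le_iff_le_comap]
    intro p hp
    have hp' : φ p = 0 := hp
    rw [Ideal.mem_comap, ← Ideal.Quotient.eq_zero_iff_mem]
    change Ideal.Quotient.mk I (ψ p) = 0
    rw [hψ', hp', map_zero]
  have hJfg : J.FG := hK.map _
  have hJnil : IsNilpotent J :=
    hJfg.isNilpotent_iff_le_nilradical.mpr (fun x hx => hI x (hJI hx))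
  let ψ' : MvPolynomial (Fin n) R →ₐ[R] A ⧸ J := (Ideal.Quotient.mkₐ R J).comp ψ
  have hker : RingHom.ker φ.toRingHom ≤ RingHom.ker ψ'.toRingHom := by
    intro p hp
    change Ideal.Quotient.mk J (ψ p) = 0
    rw [Ideal.Quotient.eq_zero_iff_mem]
    exact Ideal.mem_map_of_mem _ hp
  let g' : S →ₐ[R] A ⧸ J := AlgHom.liftOfSurjective φ hφ ψ' hker
  obtain ⟨f, hf⟩ := Algebra.FormallySmooth.exists_lift J hJnil g'
  refine ⟨f, ?_⟩
  ext s
  obtain ⟨p, rfl⟩ := hφ s
  have h1 : Ideal.Quotient.mk J (f (φ p)) = Ideal.Quotient.mk J (ψ p) := by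
    have := AlgHom.congr_fun hf (φ p)
    simpa [g', ψ'] using this
  have h2 : f (φ p) - ψ p ∈ I := hJI ((Ideal.Quotient.eq).mp h1)
  change Ideal.Quotient.mk I (f (φ p)) = g (φ p)
  rw [← hψ']
  exact (Ideal.Quotient.eq).mpr h2

end Groth.Agent.S2097
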