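import Groth.Statements.S2098
import Mathlib
import Groth.Agent.Lib.helper24.HomAdic

set_option autoImplicit false
universe u
open CAlg

namespace Groth.Agent.S2098

open Groth.Agent.Lib.helper24 in

/-- Let `R` be Noetherian, `I` an ideal inside the Jacobson radical and `u : N → M` a map of finite
`R`-modules. If for arbitrarily large `n` the induced map `N/IⁿN → M/IⁿM` has a left inverse, then
`u` has a left inverse. -/
theorem result {R M N : Type u} [CommRing R] [IsNoetherianRing R] (I : Ideal R)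
    (hI : I ≤ (⊥ : Ideal R).jacobson) [AddCommGroup M] [Module R M] [Module.Finite R M] [AddCommGroup N] [Module R N]
    [Module.Finite R N] (u : N →ₗ[R] M)
    (h : ∀ n₀ : ℕ, ∃ n, n₀ ≤ n ∧ ∃ s : (M ⧸ (I ^ n) • (⊤ : Submodule R M)) →ₗ[R] (N ⧸ (I ^ n) • (⊤ : Submodule R N)),
      ∀ x : N, s (Submodule.Quotient.mk (u x)) = Submodule.Quotient.mk x) :
    ∃ s : M →ₗ[R] N, s.comp u = LinearMap.id := by
  obtain ⟨b, π, hπ⟩ := Module.Finite.exists_fin' R M
  let K : Submodule R (Fin b → R) := LinearMap.ker π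
  let ρ : ((Fin b → R) →ₗ[R] N) →ₗ[R] (K →ₗ[R] N) := LinearMap.lcomp R N K.subtype
  obtain ⟨c, hc⟩ := Ideal.exists_pow_inf_eq_pow_smul I (LinearMap.range ρ)
  obtain ⟨m, hm⟩ := HomAdic.exists_forall_range_le_imp_mem R I K N (c + 1)
  obtain ⟨n, hn, s_n, hs⟩ := h (max m 1)
  have hn1 : n ≠ 0 := by
    have := le_trans (le_max_right m 1) hn
    omega
  have hlift : ∀ i : Fin b, ∃ y : N, (Submodule.Quotient.mk y : N ⧸ (I ^ n) • (⊤ : Submodule R N)) =
      s_n (Submodule.Quotient.mk (π (Pi.single i 1))) := fun i => Submodule.Quotient.mk_surjective _ _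
  choose y0 hy0 using hlift
  let φ : (Fin b → R) →ₗ[R] N := Fintype.linearCombination R y0
  have hφ : ∀ x, (Submodule.Quotient.mk (φ x) : N ⧸ (I ^ n) • (⊤ : Submodule R N)) =
      s_n (Submodule.Quotient.mk (π x)) := by
    intro x
    have : (Submodule.mkQ ((I ^ n) • (⊤ : Submodule R N))) ∘ₗ φ =
        s_n ∘ₗ (Submodule.mkQ ((I ^ n) • (⊤ : Submodule R M))) ∘ₗ π := by
      apply LinearMap.pi_ext'
      intro i
      ext
      simp [φ, Fintype.linearCombination_apply, hy0]
    exact LinearMap.congr_fun this x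
  have h1 : LinearMap.range (ρ φ) ≤ I ^ m • ⊤ := by
    rintro _ ⟨⟨x, hx⟩, rfl⟩
    have h0 : (Submodule.Quotient.mk (φ x) : N ⧸ (I ^ n) • (⊤ : Submodule R N)) = 0 := by
      rw [hφ, LinearMap.mem_ker.mp hx, Submodule.Quotient.mk_zero, map_zero]
    rw [Submodule.Quotient.mk_eq_zero] at h0
    exact Submodule.smul_mono (Ideal.pow_le_pow_right (le_trans (le_max_left _ _) hn)) le_rfl h0
  have h2 := hm (ρ φ) h1
  have h3 : ρ φ ∈ I ^ (c + 1) • (⊤ : Submodule R (K →ₗ[R] N)) ⊓ LinearMap.range ρ := ⟨h2, ⟨φ, rfl⟩⟩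
  rw [hc (c + 1) (by omega)] at h3
  have h4 : I ^ (c + 1 - c) • (I ^ c • (⊤ : Submodule R (K →ₗ[R] N)) ⊓ LinearMap.range ρ) ≤
      Submodule.map ρ (I • ⊤) := by
    rw [Submodule.map_smul'', Submodule.map_top, Nat.add_sub_cancel_left, pow_one]
    exact Submodule.smul_mono le_rfl inf_le_right
  obtain ⟨ψ, hψ, hψφ⟩ := h4 h3
  let s'' : (Fin b → R) →ₗ[R] N := φ - ψ
  have hs'' : K ≤ LinearMap.ker s'' := by
    intro x hx
    have h5 := LinearMap.congr_fun hψφ ⟨x, hx⟩
    simp only [ρ, LinearMap.lcomp_apply', LinearMap.comp_apply, Submodule.subtype_apply] at h5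
    rw [LinearMap.mem_ker, LinearMap.sub_apply, h5, sub_self]
  let s' : M →ₗ[R] N := (K.liftQ s'' hs'') ∘ₗ (LinearMap.quotKerEquivOfSurjective π hπ).symm.toLinearMap
  have hs' : ∀ x, s' (π x) = φ x - ψ x := by
    intro x
    have : (LinearMap.quotKerEquivOfSurjective π hπ).symm (π x) = Submodule.Quotient.mk x := by
      rw [LinearEquiv.symm_apply_eq]
      rfl
    simp only [s', LinearMap.comp_apply, LinearEquiv.coe_coe, this, Submodule.liftQ_apply, s'',
      LinearMap.sub_apply]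
  let e : N →ₗ[R] N := s' ∘ₗ u
  have he : ∀ y, e y - y ∈ I • (⊤ : Submodule R N) := by
    intro y
    obtain ⟨x, hx⟩ := hπ (u y)
    have h5 : e y = φ x - ψ x := by
      simp only [e, LinearMap.comp_apply, ← hx, hs']
    have h6 : φ x - y ∈ I ^ n • (⊤ : Submodule R N) := by
      rw [← Submodule.Quotient.mk_eq_zero, Submodule.Quotient.mk_sub, hφ, hx, hs y, sub_self]
    have h7 : ψ x ∈ I • (⊤ : Submodule R N) := by
      have hx0 : x ∈ I ^ 0 • (⊤ : Submodule R (Fin b → R)) := by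
        rw [pow_zero, Ideal.one_eq_top, Submodule.top_smul]; exact Submodule.mem_top
      have hψ1 : ψ ∈ I ^ 1 • (⊤ : Submodule R ((Fin b → R) →ₗ[R] N)) := by
        rw [pow_one]; exact hψ
      have := HomAdic.smul_apply_mem I 1 0 ψ hψ1 x hx0
      rwa [add_zero, pow_one] at this
    have h8 : e y - y = (φ x - y) - ψ x := by rw [h5]; abel
    rw [h8]
    exact sub_mem (Submodule.smul_mono (Ideal.pow_le_self hn1) le_rfl h6) h7
  have hsurj : Function.Surjective e := by
    rw [← LinearMap.range_eq_top]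
    apply top_le_iff.mp
    apply Submodule.le_of_le_smul_of_le_jacobson_bot Module.Finite.fg_top hI
    intro y _
    have h9 : y = e y - (e y - y) := by abel
    rw [h9]
    exact Submodule.sub_mem_sup ⟨y, rfl⟩ (he y)
  have hbij : Function.Bijective e :=
    ⟨OrzechProperty.injective_of_surjective_endomorphism e hsurj, hsurj⟩
  let E := LinearEquiv.ofBijective e hbij
  refine ⟨E.symm.toLinearMap ∘ₗ s', ?_⟩
  ext y
  simp only [LinearMap.comp_apply, LinearEquiv.coe_coe, LinearMap.id_apply]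
  rw [LinearEquiv.symm_apply_eq]
  rfl

end Groth.Agent.S2098
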