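import Groth.Statements.S2105
import Mathlib

set_option autoImplicit false
universe u
open CAlg

namespace Groth.Agent.S2105
open CAlgX

section helpers


variable {A : Type u} [CommRing A]

/-- trivial relations -/
def triv {c : ℕ} (f : Fin c → A) : Submodule A (Fin c → A) :=
  Submodule.span A {v : Fin c → A | ∃ i j : Fin c, v = Pi.single i (f j) - Pi.single j (f i)}

theorem rel_of_mem_triv {c : ℕ} (f : Fin c → A) {v : Fin c → A} (hv : v ∈ triv f) :
    ∑ i, v i * f i = 0 := by
  classical
  unfold triv at hv
  induction hv using Submodule.span_induction with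
  | mem x hx =>
    obtain ⟨i, j, rfl⟩ := hx
    simp only [Pi.sub_apply, sub_mul, Finset.sum_sub_distrib, Pi.single_apply, ite_mul, zero_mul,
      Finset.sum_ite_eq', Finset.mem_univ, if_true]
    ring
  | zero => simp
  | add x y _ _ hx hy => simp only [Pi.add_apply, add_mul, Finset.sum_add_distrib, hx, hy, add_zero]
  | smul a x _ hx =>
    simp only [Pi.smul_apply, smul_eq_mul, mul_assoc]
    rw [← Finset.mul_sum, hx, mul_zero]

variable {n m : ℕ}

/-- left inclusion -/
def inL : (Fin n → A) →ₗ[A] (Fin (n + m) → A) where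
  toFun s := Fin.append s 0
  map_add' s t := by
    ext k
    refine Fin.addCases (fun i => ?_) (fun j => ?_) k <;> simp
  map_smul' a s := by
    ext k
    refine Fin.addCases (fun i => ?_) (fun j => ?_) k <;> simp

/-- right inclusion -/
def inR : (Fin m → A) →ₗ[A] (Fin (n + m) → A) where
  toFun s := Fin.append 0 s
  map_add' s t := by
    ext k
    refine Fin.addCases (fun i => ?_) (fun j => ?_) k <;> simp
  map_smul' a s := by
    ext k
    refine Fin.addCases (fun i => ?_) (fun j => ?_) k <;> simp

@[simp] theorem inL_left (s : Fin n → A) (i : Fin n) : inL (m := m) s (Fin.castAdd m i) = s i := by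
  simp [inL]
@[simp] theorem inL_right (s : Fin n → A) (j : Fin m) : inL (m := m) s (Fin.natAdd n j) = 0 := by
  simp [inL]
@[simp] theorem inR_left (s : Fin m → A) (i : Fin n) : inR (n := n) s (Fin.castAdd m i) = 0 := by
  simp [inR]
@[simp] theorem inR_right (s : Fin m → A) (j : Fin m) : inR (n := n) s (Fin.natAdd n j) = s j := by
  simp [inR]

theorem inL_single (i : Fin n) (x : A) :
    inL (m := m) (Pi.single i x) = Pi.single (Fin.castAdd m i) x := by
  classical
  ext k
  refine Fin.addCases (fun i' => ?_) (fun j => ?_) k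
  · simp [Pi.single_apply]
  · have : Fin.natAdd n j ≠ Fin.castAdd m i := by
      intro h; have := congrArg Fin.val h; simp at this; omega
    simp [Pi.single_apply, this]

theorem inR_single (j : Fin m) (x : A) :
    inR (n := n) (Pi.single j x) = Pi.single (Fin.natAdd n j) x := by
  classical
  ext k
  refine Fin.addCases (fun i' => ?_) (fun j' => ?_) k
  · have : Fin.castAdd m i' ≠ Fin.natAdd n j := by
      intro h; have := congrArg Fin.val h; simp at this; omega
    simp [Pi.single_apply, this]
  · simp [Pi.single_apply]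

theorem inL_mem (f : Fin n → A) (g : Fin m → A) {s : Fin n → A} (hs : s ∈ triv f) :
    inL (m := m) s ∈ triv (Fin.append f g) := by
  have : triv f ≤ (triv (Fin.append f g)).comap (inL (m := m)) := by
    unfold triv
    rw [Submodule.span_le]
    rintro _ ⟨i, j, rfl⟩
    rw [SetLike.mem_coe, Submodule.mem_comap, map_sub, inL_single, inL_single]
    apply Submodule.subset_span
    refine ⟨Fin.castAdd m i, Fin.castAdd m j, ?_⟩
    simp
  exact this hs

theorem inR_mem (f : Fin n → A) (g : Fin m → A) {s : Fin m → A} (hs : s ∈ triv g) :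
    inR (n := n) s ∈ triv (Fin.append f g) := by
  have : triv g ≤ (triv (Fin.append f g)).comap (inR (n := n)) := by
    unfold triv
    rw [Submodule.span_le]
    rintro _ ⟨i, j, rfl⟩
    rw [SetLike.mem_coe, Submodule.mem_comap, map_sub, inR_single, inR_single]
    apply Submodule.subset_span
    refine ⟨Fin.natAdd n i, Fin.natAdd n j, ?_⟩
    simp
  exact this hs

theorem lift_mem (I : Ideal A) (g : Fin m → A) {x : Fin m → A ⧸ I}
    (hx : x ∈ triv (fun j => Ideal.Quotient.mk I (g j))) :
    ∃ t ∈ triv g, ∀ j, Ideal.Quotient.mk I (t j) = x j := by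
  classical
  unfold triv at hx
  induction hx using Submodule.span_induction with
  | mem x hx =>
    obtain ⟨i, j, rfl⟩ := hx
    refine ⟨Pi.single i (g j) - Pi.single j (g i), Submodule.subset_span ⟨i, j, rfl⟩, ?_⟩
    intro k
    simp only [Pi.sub_apply, Pi.single_apply, map_sub]
    split_ifs <;> simp
  | zero => exact ⟨0, Submodule.zero_mem _, fun j => by simp⟩
  | add x y _ _ hx hy =>
    obtain ⟨t, ht, ht'⟩ := hx
    obtain ⟨t', ht2, ht2'⟩ := hy
    exact ⟨t + t', Submodule.add_mem _ ht ht2, fun j => by simp [ht', ht2']⟩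
  | smul a x _ hx =>
    obtain ⟨t, ht, ht'⟩ := hx
    obtain ⟨a, rfl⟩ := Ideal.Quotient.mk_surjective a
    exact ⟨a • t, Submodule.smul_mem _ _ ht, fun j => by simp [ht']⟩

theorem main (f : Fin n → A) (g : Fin m → A) (hf : CAlgX.IsH1Regular f)
    (hg : CAlgX.IsH1Regular (fun j => Ideal.Quotient.mk (Ideal.span (Set.range f)) (g j))) :
    CAlgX.IsH1Regular (Fin.append f g) := by
  classical
  intro c hc
  change c ∈ triv (Fin.append f g)
  set I := Ideal.span (Set.range f) with hI
  rw [Fin.sum_univ_add] at hc
  simp only [Fin.append_left, Fin.append_right] at hc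
  -- step 1
  have h1 : ∑ j, Ideal.Quotient.mk I (c (Fin.natAdd n j)) * Ideal.Quotient.mk I (g j) = 0 := by
    have h := congrArg (Ideal.Quotient.mk I) hc
    rw [map_add, map_sum, map_sum, map_zero] at h
    have h0 : ∑ i, Ideal.Quotient.mk I (c (Fin.castAdd m i) * f i) = 0 := by
      apply Finset.sum_eq_zero
      intro i _
      rw [Ideal.Quotient.eq_zero_iff_mem]
      exact Ideal.mul_mem_left _ _ (Ideal.subset_span ⟨i, rfl⟩)
    rw [h0, zero_add] at h
    simpa only [map_mul] using h
  obtain ⟨t, ht, ht'⟩ := lift_mem I g (hg (fun j => Ideal.Quotient.mk I (c (Fin.natAdd n j))) h1)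
  have hd : ∀ j, c (Fin.natAdd n j) - t j ∈ I := by
    intro j
    rw [← Ideal.Quotient.eq_zero_iff_mem, map_sub, ht' j, sub_self]
  have hd' : ∀ j, ∃ e : Fin n → A, ∑ i, e i * f i = c (Fin.natAdd n j) - t j := by
    intro j
    exact (Ideal.mem_span_range_iff_exists_fun).1 (hd j)
  choose e he using hd'
  -- the mixed trivial relations
  set w : Fin m → Fin n → (Fin (n + m) → A) := fun j i =>
    Pi.single (Fin.natAdd n j) (f i) - Pi.single (Fin.castAdd m i) (g j) with hw
  have hwmem : ∀ j i, w j i ∈ triv (Fin.append f g) := by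
    intro j i
    apply Submodule.subset_span
    refine ⟨Fin.natAdd n j, Fin.castAdd m i, ?_⟩
    simp [hw]
  set W : Fin (n + m) → A := ∑ j, ∑ i, e j i • w j i with hW
  have hWmem : W ∈ triv (Fin.append f g) :=
    Submodule.sum_mem _ (fun j _ => Submodule.sum_mem _ (fun i _ => Submodule.smul_mem _ _ (hwmem j i)))
  set c' := c - inR (n := n) t - W with hc'
  have hc'rel : ∑ k, c' k * (Fin.append f g) k = 0 := by
    have e1 := rel_of_mem_triv _ (inR_mem f g ht)
    have e2 := rel_of_mem_triv _ hWmem
    have e0 : ∑ k, c k * (Fin.append f g) k = 0 := by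
      rw [Fin.sum_univ_add]
      simpa only [Fin.append_left, Fin.append_right] using hc
    simp only [hc', Pi.sub_apply, sub_mul, Finset.sum_sub_distrib, e0, e1, e2, sub_zero]
  have hWr : ∀ j, W (Fin.natAdd n j) = ∑ i, e j i * f i := by
    intro j
    have hne : ∀ i : Fin n, Fin.natAdd n j ≠ Fin.castAdd m i := by
      intro i h; have := congrArg Fin.val h; simp at this; omega
    have hterm : ∀ j' i, (e j' i • w j' i) (Fin.natAdd n j) = if j = j' then e j' i * f i else 0 := by
      intro j' i
      simp only [hw, Pi.smul_apply, Pi.sub_apply, Pi.single_apply, smul_eq_mul, hne, if_false,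
        sub_zero, Fin.natAdd_inj, mul_ite, mul_zero]
    simp only [hW, Finset.sum_apply, hterm]
    rw [Finset.sum_eq_single j]
    · simp
    · intro b _ hb
      simp [Ne.symm hb]
    · simp
  have hc'r : ∀ j, c' (Fin.natAdd n j) = 0 := by
    intro j
    simp only [hc', Pi.sub_apply, inR_right, hWr, he]
    ring
  have hc'eq : c' = inL (m := m) (fun i => c' (Fin.castAdd m i)) := by
    ext k
    refine Fin.addCases (fun i => ?_) (fun j => ?_) k
    · simp
    · simp [hc'r]
  have h2 : ∑ i, c' (Fin.castAdd m i) * f i = 0 := by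
    rw [Fin.sum_univ_add] at hc'rel
    simp only [Fin.append_left, Fin.append_right, hc'r, zero_mul, Finset.sum_const_zero,
      add_zero] at hc'rel
    exact hc'rel
  have h3 := inL_mem f g (m := m) (hf _ h2)
  rw [← hc'eq] at h3
  have : c = c' + inR (n := n) t + W := by rw [hc']; abel
  rw [this]
  exact Submodule.add_mem _ (Submodule.add_mem _ h3 (inR_mem f g ht)) hWmem



end helpers

/-- Appending to an `H_1`-regular sequence `f` a sequence `g` whose image modulo the ideal `(f)` is
`H_1`-regular yields an `H_1`-regular sequence. -/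
theorem result {A : Type u} [CommRing A] {n m : ℕ} (f : Fin n → A)
    (g : Fin m → A) (hf : CAlgX.IsH1Regular f)
    (hg : CAlgX.IsH1Regular (fun j => Ideal.Quotient.mk (Ideal.span (Set.range f)) (g j))) :
    CAlgX.IsH1Regular (Fin.append f g) := by
  exact main f g hf hg

end Groth.Agent.S2105
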