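import Groth.Statements.S2111
import Mathlib

set_option autoImplicit false
universe u
open CAlg

namespace Groth.Agent.S2111

/-- Let `R` be a Noetherian normal domain with fraction field `K`. An element of `K` which lies in `R_𝔭`
for every prime `𝔭` of height one lies in `R`. -/
theorem result {R : Type u} [CommRing R] [IsDomain R] [IsNoetherianRing R]
    [IsIntegrallyClosed R] (x : FractionRing R)
    (hx : ∀ (p : Ideal R) [p.IsPrime], p.height = 1 →
      x ∈ Set.range (algebraMap (Localization.AtPrime p) (FractionRing R))) :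
    x ∈ Set.range (algebraMap R (FractionRing R)) := by
  classical
  by_contra hxR
  let den : FractionRing R → Ideal R := fun z =>
    { carrier := {r | algebraMap R (FractionRing R) r * z ∈
        Set.range (algebraMap R (FractionRing R))}
      zero_mem' := ⟨0, by simp⟩
      add_mem' := by
        rintro a b ⟨a', ha⟩ ⟨b', hb⟩
        exact ⟨a' + b', by rw [map_add, map_add, add_mul, ha, hb]⟩
      smul_mem' := by
        rintro c a ⟨a', ha⟩
        exact ⟨c * a', by rw [smul_eq_mul, map_mul, map_mul, mul_assoc, ha]⟩ }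
  have hden : ∀ (z : FractionRing R) (r : R), r ∈ den z ↔
      algebraMap R (FractionRing R) r * z ∈ Set.range (algebraMap R (FractionRing R)) :=
    fun z r => Iff.rfl
  have hinj : Function.Injective (algebraMap R (FractionRing R)) :=
    IsFractionRing.injective R (FractionRing R)
  have hD : den x ≠ ⊤ := by
    intro h
    apply hxR
    have h1 : (1 : R) ∈ den x := h ▸ Submodule.mem_top
    obtain ⟨r, hr⟩ := (hden x 1).mp h1
    exact ⟨r, by simpa using hr⟩
  haveI : Nontrivial (R ⧸ den x) := Ideal.Quotient.nontrivial_iff.mpr hD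
  obtain ⟨P, hP⟩ := associatedPrimes.nonempty R (R ⧸ den x)
  obtain ⟨hPprime, c', hc'⟩ := (isAssociatedPrime_iff).mp hP
  obtain ⟨c, rfl⟩ := Ideal.Quotient.mk_surjective c'
  haveI := hPprime
  set y : FractionRing R := algebraMap R (FractionRing R) c * x with hy
  have hPy : ∀ r, r ∈ P ↔
      algebraMap R (FractionRing R) r * y ∈ Set.range (algebraMap R (FractionRing R)) := by
    intro r
    rw [hc', Submodule.mem_colon_singleton, Submodule.mem_bot]
    show r • Submodule.Quotient.mk c = 0 ↔ _
    rw [← Submodule.Quotient.mk_smul, Submodule.Quotient.mk_eq_zero, smul_eq_mul, hden, map_mul,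
      hy, mul_assoc]
  have hyR : y ∉ Set.range (algebraMap R (FractionRing R)) := by
    intro h
    have h1 : (1 : R) ∈ P := (hPy 1).mpr (by simpa using h)
    exact hPprime.ne_top ((Ideal.eq_top_iff_one _).mpr h1)
  -- P ≠ ⊥
  obtain ⟨⟨a, b⟩, hab⟩ := IsLocalization.surj (nonZeroDivisors R) x
  have hbP : (b : R) ∈ P := by
    rw [hPy]
    refine ⟨c * a, ?_⟩
    rw [map_mul, ← hab, hy]
    ring
  have hb0 : (b : R) ≠ 0 := nonZeroDivisors.coe_ne_zero b
  by_cases hcase : ∀ z ∈ P, ∃ w ∈ P, algebraMap R (FractionRing R) z * y =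
      algebraMap R (FractionRing R) w
  · -- y integral
    let N : Submodule R (FractionRing R) := Submodule.map (Algebra.linearMap R (FractionRing R)) P
    have hN0 : N ≠ ⊥ := by
      intro h
      have h1 : algebraMap R (FractionRing R) b ∈ N := ⟨b, hbP, rfl⟩
      rw [h, Submodule.mem_bot] at h1
      exact hb0 (hinj (by rw [h1, map_zero]))
    have hNfg : N.FG := Submodule.FG.map _ (IsNoetherian.noetherian P)
    have hyN : ∀ n ∈ N, y • n ∈ N := by
      rintro _ ⟨z, hz, rfl⟩
      obtain ⟨w, hw, hzw⟩ := hcase z hz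
      refine ⟨w, hw, ?_⟩
      rw [smul_eq_mul, mul_comm]
      exact hzw.symm
    have hint : IsIntegral R y := isIntegral_of_smul_mem_submodule N hN0 hNfg y hyN
    exact hyR (IsIntegrallyClosed.isIntegral_iff.mp hint)
  · push_neg at hcase
    obtain ⟨t, htP, ht⟩ := hcase
    obtain ⟨s, hs⟩ := (hPy t).mp htP
    have hsP : s ∉ P := fun h => ht s h hs.symm
    have hmin : P ∈ (Ideal.span {t}).minimalPrimes := by
      refine ⟨⟨hPprime, (Ideal.span_singleton_le_iff_mem _).mpr htP⟩, ?_⟩
      rintro Q ⟨hQprime, htQ⟩ hQP z hz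
      obtain ⟨w, hw⟩ := (hPy z).mp hz
      have h1 : s * z = t * w := by
        apply hinj
        rw [map_mul, map_mul, hs, hw]
        ring
      have h2 : s * z ∈ Q := by
        rw [h1]
        exact Q.mul_mem_right _ (htQ (Ideal.mem_span_singleton_self t))
      exact (hQprime.mem_or_mem h2).resolve_left (fun h => hsP (hQP h))
    have hht1 : P.height ≤ 1 := Ideal.height_le_one_of_isPrincipal_of_mem_minimalPrimes _ P hmin
    have hht0 : P.height ≠ 0 := by
      rw [Ne, Ideal.height_eq_zero_iff_eq_bot]
      intro h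
      rw [h, Ideal.mem_bot] at hbP
      exact hb0 hbP
    have hht : P.height = 1 := le_antisymm hht1 (Order.one_le_iff_pos.mpr (pos_iff_ne_zero.mpr hht0))
    obtain ⟨q, hq⟩ := hx P hht
    obtain ⟨⟨r, s'⟩, hrs⟩ := IsLocalization.surj P.primeCompl q
    apply s'.2
    rw [SetLike.mem_coe, hPy]
    refine ⟨c * r, ?_⟩
    have h1 : x * algebraMap R (FractionRing R) s' = algebraMap R (FractionRing R) r := by
      rw [← hq, IsScalarTower.algebraMap_apply R (Localization.AtPrime P) (FractionRing R),
        IsScalarTower.algebraMap_apply R (Localization.AtPrime P) (FractionRing R) r, ← map_mul, hrs]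
    rw [map_mul, ← h1, hy]
    ring

end Groth.Agent.S2111
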