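import Groth.Statements.S2112
import Mathlib
import Groth.Agent.S7590

set_option autoImplicit false
universe u
open CAlg

namespace Groth.Agent.S2112

section Aux
open CategoryTheory CategoryTheory.Limits AlgebraicGeometry TensorProduct

theorem hasUniqueMinimalPrime_iff (A : Type u) [CommRing A] :
    CAlgX.HasUniqueMinimalPrime A ↔ (nilradical A).IsPrime := by
  constructor
  · rintro ⟨p, hp, huniq⟩
    have hset : (⊥ : Ideal A).minimalPrimes = {p} := by
      ext q
      constructor
      · intro hq; exact huniq q hq
      · rintro rfl; exact hp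
    have h1 : nilradical A = p := by
      have := Ideal.sInf_minimalPrimes (I := (⊥ : Ideal A))
      rw [hset, sInf_singleton] at this
      exact this.symm
    rw [h1]
    exact hp.1.1
  · intro hP
    have hPmin : nilradical A ∈ minimalPrimes A := by
      refine ⟨⟨hP, bot_le⟩, ?_⟩
      rintro q ⟨hq, -⟩ -
      exact nilradical_le_prime q
    refine ⟨nilradical A, hPmin, ?_⟩
    intro q hq
    have h1 : nilradical A ≤ q := by
      haveI := hq.1.1
      exact nilradical_le_prime q
    exact le_antisymm (hq.2 ⟨hP, bot_le⟩ h1) h1

theorem main {k R S : Type u} [Field k] [IsSepClosed k] [CommRing R] [CommRing S]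
    [Algebra k R] [Algebra k S] (hR : CAlgX.HasUniqueMinimalPrime R) (hS : CAlgX.HasUniqueMinimalPrime S) :
    CAlgX.HasUniqueMinimalPrime (R ⊗[k] S) := by
  rw [hasUniqueMinimalPrime_iff] at hR hS ⊢
  rw [← PrimeSpectrum.irreducibleSpace_iff_isPrime_nilradical] at hR hS ⊢
  haveI : IrreducibleSpace ↥(Spec (CommRingCat.of R)) := hR
  haveI : IrreducibleSpace ↥(Spec (CommRingCat.of S)) := hS
  set f := Spec.map (CommRingCat.ofHom (algebraMap k R)) with hf
  set g := Spec.map (CommRingCat.ofHom (algebraMap k S)) with hg
  haveI : GeometricallyIrreducible f := Groth.Agent.S7590.geomIrr_of_sepClosed f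
  haveI : UniversallyOpen f := inferInstance
  haveI : IrreducibleSpace ↥(pullback f g) := inferInstance
  have e := pullbackSpecIso k R S
  have : IrreducibleSpace ↥(Spec (CommRingCat.of (R ⊗[k] S))) :=
    Groth.Agent.S7590.irreducibleSpace_of_surj e.hom e.hom.continuous e.hom.surjective
  exact this

end Aux

open TensorProduct in
/-- Let `k` be a separably closed field and `R`, `S` two `k`-algebras each having exactly one minimal
prime ideal. Then `R ⊗_k S` has exactly one minimal prime ideal. -/
theorem result {k R S : Type u} [Field k] [IsSepClosed k] [CommRing R] [CommRing S]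
    [Algebra k R] [Algebra k S] (hR : CAlgX.HasUniqueMinimalPrime R) (hS : CAlgX.HasUniqueMinimalPrime S) :
    CAlgX.HasUniqueMinimalPrime (R ⊗[k] S) := by
  exact main hR hS

end Groth.Agent.S2112
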