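import Groth.Statements.S2113
import Mathlib

set_option autoImplicit false
universe u
open CAlg

namespace Groth.Agent.S2113

/-- A Noetherian ring in which each prime is maximal or else lies below infinitely many primes is a
Jacobson ring. -/
theorem result {R : Type u} [CommRing R] [IsNoetherianRing R]
    (h : ∀ (p : Ideal R) [p.IsPrime], p.IsMaximal ∨ {q : PrimeSpectrum R | p ≤ q.asIdeal}.Infinite) :
    IsJacobsonRing R := by
  classical
  rw [isJacobsonRing_iff_prime_eq]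
  by_contra hcon
  push_neg at hcon
  have hS : ({P : Ideal R | P.IsPrime ∧ Ideal.jacobson P ≠ P} : Set (Ideal R)).Nonempty := by
    obtain ⟨P, hP, hne⟩ := hcon
    exact ⟨P, hP, hne⟩
  obtain ⟨P, ⟨hPprime, hPjac⟩, hPmax⟩ : ∃ P : Ideal R, (P.IsPrime ∧ Ideal.jacobson P ≠ P) ∧
      ∀ I : Ideal R, (I.IsPrime ∧ Ideal.jacobson I ≠ I) → ¬ P < I :=
    set_has_maximal_iff_noetherian.2 (inferInstance : IsNoetherian R R) _ hS
  haveI := hPprime
  have hlt : P < P.jacobson := lt_of_le_of_ne Ideal.le_jacobson (Ne.symm hPjac)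
  obtain ⟨f, hfJ, hfP⟩ := SetLike.exists_of_lt hlt
  have hfQ : ∀ Q : Ideal R, Q.IsPrime → P < Q → f ∈ Q := by
    intro Q hQ hPQ
    have hQj : Q.jacobson = Q := by
      by_contra hne
      exact hPmax Q ⟨hQ, hne⟩ hPQ
    rw [← hQj]
    exact Ideal.jacobson_mono hPQ.le hfJ
  have hPnm : ¬ P.IsMaximal := fun hm => hPjac (Ideal.jacobson_eq_self_of_isMaximal)
  have hinf := (h P).resolve_left hPnm
  have hfin : (P ⊔ Ideal.span {f}).minimalPrimes.Finite :=
    Ideal.finite_minimalPrimes_of_isNoetherianRing R _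
  -- facts about minimal primes of I
  have hmp : ∀ q ∈ (P ⊔ Ideal.span {f}).minimalPrimes, q.IsPrime ∧ P < q := by
    intro q hq
    refine ⟨hq.1.1, lt_of_le_of_ne (le_sup_left.trans hq.1.2) ?_⟩
    intro heq
    apply hfP
    rw [heq]
    exact hq.1.2 (Ideal.mem_sup_right (Ideal.mem_span_singleton_self f))
  have hclaim : ∀ Q : Ideal R, Q.IsPrime → P < Q → Q ∈ (P ⊔ Ideal.span {f}).minimalPrimes := by
    intro Q hQ hPQ
    haveI := hQ
    have hIQ : P ⊔ Ideal.span {f} ≤ Q :=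
      sup_le hPQ.le ((Ideal.span_singleton_le_iff_mem Q).2 (hfQ Q hQ hPQ))
    by_contra hQmin
    obtain ⟨q0, hq0, hq0Q⟩ := Ideal.exists_minimalPrimes_le hIQ
    have hav : ¬ ((Q : Set R) ⊆ ⋃ q ∈ (↑hfin.toFinset : Set (Ideal R)), ((id q : Ideal R) : Set R)) := by
      rw [Ideal.subset_union_prime (f := id) ⊤ ⊤
        (fun q hq _ _ => ((hfin.mem_toFinset).1 hq).1.1)]
      rintro ⟨q, hq, hQq⟩
      have hq' := (hfin.mem_toFinset).1 hq
      have h1 : q ≤ q0 := hq'.2 hq0.1 (hq0Q.trans hQq)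
      have h2 : Q = q := le_antisymm hQq (h1.trans hq0Q)
      exact hQmin (h2 ▸ hq')
    obtain ⟨g, hgQ, hgU⟩ := Set.not_subset.1 hav
    have hg : ∀ q ∈ (P ⊔ Ideal.span {f}).minimalPrimes, g ∉ q := by
      intro q hq hgq
      apply hgU
      simp only [Set.mem_iUnion, Finset.mem_coe, Set.Finite.mem_toFinset, id]
      exact ⟨q, hq, hgq⟩
    have hKQ : P ⊔ Ideal.span {g} ≤ Q :=
      sup_le hPQ.le ((Ideal.span_singleton_le_iff_mem Q).2 hgQ)
    obtain ⟨Q', hQ'min, hQ'Q⟩ := Ideal.exists_minimalPrimes_le hKQ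
    haveI hQ'prime : Q'.IsPrime := hQ'min.1.1
    have hPQ' : P ≤ Q' := le_sup_left.trans hQ'min.1.2
    have hgQ' : g ∈ Q' := hQ'min.1.2 (Ideal.mem_sup_right (Ideal.mem_span_singleton_self g))
    have hgP : g ∉ P := fun hgP => hg q0 hq0 ((hmp q0 hq0).2.le hgP)
    have hPltQ' : P < Q' := lt_of_le_of_ne hPQ' (fun heq => hgP (heq ▸ hgQ'))
    have hIQ' : P ⊔ Ideal.span {f} ≤ Q' :=
      sup_le hPQ' ((Ideal.span_singleton_le_iff_mem Q').2 (hfQ Q' hQ'prime hPltQ'))
    obtain ⟨q1, hq1, hq1Q'⟩ := Ideal.exists_minimalPrimes_le hIQ'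
    haveI hq1prime : q1.IsPrime := (hmp q1 hq1).1
    have hPq1 : P < q1 := (hmp q1 hq1).2
    have hq1ltQ' : q1 < Q' := lt_of_le_of_ne hq1Q' (fun heq => hg q1 hq1 (heq ▸ hgQ'))
    have hkrull := Ideal.map_height_le_one_of_mem_minimalPrimes hQ'min
    -- quotient facts
    have hsurj : Function.Surjective (Ideal.Quotient.mk P) := Ideal.Quotient.mk_surjective
    have hker : RingHom.ker (Ideal.Quotient.mk P) = P := Ideal.mk_ker
    have hcm : ∀ A : Ideal R, P ≤ A → (A.map (Ideal.Quotient.mk P)).comap (Ideal.Quotient.mk P) = A := by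
      intro A hA
      rw [Ideal.comap_map_of_surjective _ hsurj, ← RingHom.ker_eq_comap_bot, hker]
      exact sup_eq_left.2 hA
    haveI : (q1.map (Ideal.Quotient.mk P)).IsPrime :=
      Ideal.map_isPrime_of_surjective hsurj (by rw [hker]; exact hPq1.le)
    haveI : (Q'.map (Ideal.Quotient.mk P)).IsPrime :=
      Ideal.map_isPrime_of_surjective hsurj (by rw [hker]; exact hPQ')
    have hlt1 : (⊥ : Ideal (R ⧸ P)) < q1.map (Ideal.Quotient.mk P) := by
      rw [bot_lt_iff_ne_bot, Ne, Ideal.map_eq_bot_iff_le_ker, hker]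
      exact not_le_of_gt hPq1
    have hlt2 : q1.map (Ideal.Quotient.mk P) < Q'.map (Ideal.Quotient.mk P) := by
      refine lt_of_le_of_ne (Ideal.map_mono hq1Q') (fun heq => hq1ltQ'.ne ?_)
      rw [← hcm q1 hPq1.le, ← hcm Q' hPQ', heq]
    have h1 := Ideal.height_strict_mono_of_isPrime_of_isPrime hlt1
    have h2 := Ideal.height_strict_mono_of_isPrime_of_isPrime hlt2
    have h3 : (q1.map (Ideal.Quotient.mk P)).height < 1 := lt_of_lt_of_le h2 hkrull
    rw [ENat.lt_one_iff_eq_zero] at h3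
    rw [h3] at h1
    exact not_lt_of_ge zero_le h1
  apply hinf
  have hsub : {q : PrimeSpectrum R | P ≤ q.asIdeal} ⊆
      PrimeSpectrum.asIdeal ⁻¹' (insert P (P ⊔ Ideal.span {f}).minimalPrimes) := by
    intro q hq
    rcases eq_or_lt_of_le (show P ≤ q.asIdeal from hq) with heq | hlt'
    · left; exact heq.symm
    · right; exact hclaim q.asIdeal q.isPrime hlt'
  refine Set.Finite.subset (Set.Finite.preimage ?_ (hfin.insert P)) hsub
  intro a _ b _ hab
  exact PrimeSpectrum.ext hab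

end Groth.Agent.S2113
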