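import Groth.Statements.S2114
import Groth.Agent.Lib.helper26.QFinN2

set_option autoImplicit false
universe u
open CAlg

namespace Groth.Agent.S2114



/-- Let `R ⊆ S` be an extension of domains which is of finite type and quasi-finite, with `R` Noetherian
and N-2 (integral closures in finite extensions of the fraction field are finite). Then `S` is N-2. -/
theorem result {R S : Type u} [CommRing R] [IsDomain R] [IsNoetherianRing R] [CommRing S]
    [IsDomain S] [Algebra R S] (hinj : Function.Injective (algebraMap R S)) [Algebra.FiniteType R S]
    [Algebra.QuasiFinite R S] (hR : CAlg.IsN2 R) : CAlg.IsN2 S := by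
  exact Groth.Agent.Lib.helper26.QFinN2.isN2_of_quasiFinite hinj hR

end Groth.Agent.S2114
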