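import Groth.Statements.S2119
import Mathlib

set_option autoImplicit false
universe u
open CAlg

namespace Groth.Agent.S2119

/-- Nagata's criterion for factoriality, final assertion: let `A` be a domain in which every nonzero
nonunit factors into irreducibles, and `S` the multiplicative subset generated by a set of prime
elements. If the localization `S⁻¹A` is a unique factorization domain, then so is `A`. -/
theorem result {A : Type u} [CommRing A] [IsDomain A]
    (hfac : ∀ a : A, a ≠ 0 → ¬ IsUnit a → ∃ f : Multiset A, (∀ b ∈ f, Irreducible b) ∧ Associated f.prod a) (P : Set A)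
    (hP : ∀ p ∈ P, Prime p) [IsDomain (Localization (Submonoid.closure P))]
    (hS : UniqueFactorizationMonoid (Localization (Submonoid.closure P))) : UniqueFactorizationMonoid A := by
  classical
  haveI := hS
  have hS0 : Submonoid.closure P ≤ nonZeroDivisors A :=
    (Submonoid.closure_le).2 fun p hp => mem_nonZeroDivisors_of_ne_zero (hP p hp).ne_zero
  have hinj : Function.Injective (algebraMap A (Localization (Submonoid.closure P))) :=
    IsLocalization.injective _ hS0
  -- key1
  have key1 : ∀ a : A, (∀ p ∈ P, ¬ p ∣ a) → ∀ s ∈ Submonoid.closure P, ∀ z x : A,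
      a * z = s * x → a ∣ x := by
    intro a ha s hs
    refine Submonoid.closure_induction_left
      (motive := fun s _ => ∀ z x : A, a * z = s * x → a ∣ x) ?_ ?_ hs
    · intro z x h
      exact ⟨z, by rw [one_mul] at h; exact h.symm⟩
    · intro p hp s' _ ih z x h
      have hpz : p ∣ z := by
        have h1 : p ∣ a * z := ⟨s' * x, by rw [h]; ring⟩
        exact ((hP p hp).dvd_or_dvd h1).resolve_left (ha p hp)
      obtain ⟨z', rfl⟩ := hpz
      have h2 : a * z' = s' * x := by
        have h3 : p * (a * z') = p * (s' * x) := by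
          rw [← mul_assoc p s' x, ← h]; ring
        exact mul_left_cancel₀ (hP p hp).ne_zero h3
      exact ih z' x h2
  -- key2
  have key2 : ∀ a : A, Irreducible a → ∀ s ∈ Submonoid.closure P, a ∣ s →
      ∃ p ∈ P, Associated p a := by
    intro a ha s hs
    refine Submonoid.closure_induction_left
      (motive := fun s _ => a ∣ s → ∃ p ∈ P, Associated p a) ?_ ?_ hs
    · intro h
      exact absurd (isUnit_of_dvd_one h) ha.not_isUnit
    · intro p hp s' _ ih h
      obtain ⟨c, hc⟩ := h
      have h1 : p ∣ a * c := ⟨s', hc.symm⟩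
      rcases (hP p hp).dvd_or_dvd h1 with hpa | hpc
      · rcases (ha.dvd_iff).1 hpa with hu | hassoc
        · exact absurd hu (hP p hp).not_unit
        · exact ⟨p, hp, hassoc.symm⟩
      · obtain ⟨c', rfl⟩ := hpc
        have h2 : s' = a * c' :=
          mul_left_cancel₀ (hP p hp).ne_zero (by rw [hc]; ring)
        exact ih ⟨c', h2⟩
  -- key3
  have key3 : ∀ a : A, ∀ s ∈ Submonoid.closure P, ∀ b c : A, a * s = b * c →
      ∃ s₁ ∈ Submonoid.closure P, ∃ s₂ ∈ Submonoid.closure P, ∃ b' c' : A,
        b = s₁ * b' ∧ c = s₂ * c' ∧ a = b' * c' := by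
    intro a s hs
    refine Submonoid.closure_induction_left
      (motive := fun s _ => ∀ b c : A, a * s = b * c →
        ∃ s₁ ∈ Submonoid.closure P, ∃ s₂ ∈ Submonoid.closure P, ∃ b' c' : A,
          b = s₁ * b' ∧ c = s₂ * c' ∧ a = b' * c') ?_ ?_ hs
    · intro b c h
      exact ⟨1, one_mem _, 1, one_mem _, b, c, (one_mul b).symm, (one_mul c).symm,
        by rw [mul_one] at h; exact h⟩
    · intro p hp s' _ ih b c h
      have h1 : p ∣ b * c := ⟨a * s', by rw [← h]; ring⟩
      rcases (hP p hp).dvd_or_dvd h1 with hpb | hpc
      · obtain ⟨b₁, rfl⟩ := hpb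
        have h2 : a * s' = b₁ * c :=
          mul_left_cancel₀ (hP p hp).ne_zero (by
            calc p * (a * s') = a * (p * s') := by ring
              _ = p * b₁ * c := h
              _ = p * (b₁ * c) := by ring)
        obtain ⟨s₁, hs₁, s₂, hs₂, b', c', hb', hc', habc⟩ := ih b₁ c h2
        exact ⟨p * s₁, mul_mem (Submonoid.subset_closure hp) hs₁, s₂, hs₂, b', c',
          by rw [hb']; ring, hc', habc⟩
      · obtain ⟨c₁, rfl⟩ := hpc
        have h2 : a * s' = b * c₁ :=
          mul_left_cancel₀ (hP p hp).ne_zero (by
            calc p * (a * s') = a * (p * s') := by ring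
              _ = b * (p * c₁) := h
              _ = p * (b * c₁) := by ring)
        obtain ⟨s₁, hs₁, s₂, hs₂, b', c', hb', hc', habc⟩ := ih b c₁ h2
        exact ⟨s₁, hs₁, p * s₂, mul_mem (Submonoid.subset_closure hp) hs₂, b', c',
          hb', by rw [hc']; ring, habc⟩
  have hunitS : ∀ s ∈ Submonoid.closure P,
      IsUnit (algebraMap A (Localization (Submonoid.closure P)) s) :=
    fun s hs => IsLocalization.map_units _ (⟨s, hs⟩ : Submonoid.closure P)
  -- every irreducible is prime
  have hirr : ∀ a : A, Irreducible a → Prime a := by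
    intro a ha
    by_cases hdiv : ∃ p ∈ P, p ∣ a
    · obtain ⟨p, hp, hpa⟩ := hdiv
      rcases (ha.dvd_iff).1 hpa with hu | hassoc
      · exact absurd hu (hP p hp).not_unit
      · exact hassoc.symm.prime (hP p hp)
    · push_neg at hdiv
      have hirrL : Irreducible (algebraMap A (Localization (Submonoid.closure P)) a) := by
        rw [irreducible_iff]
        refine ⟨?_, ?_⟩
        · intro hu
          obtain ⟨u, hu'⟩ := hu.exists_right_inv
          obtain ⟨⟨b, t⟩, hbt⟩ := IsLocalization.surj (Submonoid.closure P) u
          have h1 : a * b = t := hinj (by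
            rw [map_mul, ← hbt, ← mul_assoc, hu', one_mul])
          obtain ⟨p, hp, hassoc⟩ := key2 a ha t t.2 ⟨b, h1.symm⟩
          exact hdiv p hp hassoc.dvd
        · intro X Y hXY
          obtain ⟨⟨b, s⟩, hb⟩ := IsLocalization.surj (Submonoid.closure P) X
          obtain ⟨⟨c, t⟩, hc⟩ := IsLocalization.surj (Submonoid.closure P) Y
          have h1 : a * ((s : A) * (t : A)) = b * c := hinj (by
            rw [map_mul, map_mul, map_mul, ← hb, ← hc, hXY]; ring)
          obtain ⟨s₁, hs₁, s₂, hs₂, b', c', hb', hc', habc⟩ :=
            key3 a _ (mul_mem s.2 t.2) b c h1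
          rcases ha.isUnit_or_isUnit habc with hub | huc
          · left
            have h2 : IsUnit (X * algebraMap A _ (s : A)) := by
              rw [hb, hb', map_mul]
              exact (hunitS s₁ hs₁).mul (hub.map _)
            exact isUnit_of_mul_isUnit_left h2
          · right
            have h2 : IsUnit (Y * algebraMap A _ (t : A)) := by
              rw [hc, hc', map_mul]
              exact (hunitS s₂ hs₂).mul (huc.map _)
            exact isUnit_of_mul_isUnit_left h2
      have hprimeL : Prime (algebraMap A (Localization (Submonoid.closure P)) a) :=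
        (UniqueFactorizationMonoid.irreducible_iff_prime).1 hirrL
      refine ⟨ha.ne_zero, ha.not_isUnit, fun x y hxy => ?_⟩
      have h1 : algebraMap A (Localization (Submonoid.closure P)) a ∣
          algebraMap A _ x * algebraMap A _ y := by
        rw [← map_mul]; exact map_dvd _ hxy
      rcases hprimeL.dvd_or_dvd h1 with h | h
      · left
        obtain ⟨Z, hZ⟩ := h
        obtain ⟨⟨z, s⟩, hz⟩ := IsLocalization.surj (Submonoid.closure P) Z
        have h2 : a * z = s * x := hinj (by
          rw [map_mul, map_mul, ← hz, hZ]; ring)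
        exact key1 a hdiv s s.2 z x h2
      · right
        obtain ⟨Z, hZ⟩ := h
        obtain ⟨⟨z, s⟩, hz⟩ := IsLocalization.surj (Submonoid.closure P) Z
        have h2 : a * z = s * y := hinj (by
          rw [map_mul, map_mul, ← hz, hZ]; ring)
        exact key1 a hdiv s s.2 z y h2
  refine UniqueFactorizationMonoid.of_exists_prime_factors (fun a ha0 => ?_)
  by_cases hu : IsUnit a
  · refine ⟨0, by simp, ?_⟩
    rw [Multiset.prod_zero]
    exact (associated_one_iff_isUnit.2 hu).symm
  · obtain ⟨f, hf, hfa⟩ := hfac a ha0 hu
    exact ⟨f, fun b hb => hirr b (hf b hb), hfa⟩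

end Groth.Agent.S2119
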