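import Groth.Statements.S2120
import Mathlib
import Groth.Agent.Lib.helper2.ProperOver
-- import your own Groth.Agent.* helpers here

set_option autoImplicit false
universe u
open CategoryTheory AlgebraicGeometry
open Mor

namespace Groth.Agent.S2120

/-- Let `f : X → Y` be surjective and universally closed. If `X` is quasi-separated then so is `Y`; if
`X` is separated then so is `Y`. -/
theorem result {X Y : Scheme.{u}} (f : X ⟶ Y) [Surjective f] [UniversallyClosed f] :
    (QuasiSeparatedSpace X → QuasiSeparatedSpace Y) ∧ (X.IsSeparated → Y.IsSeparated) := by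
  constructor
  · intro hX
    rw [quasiSeparatedSpace_iff_forall_affineOpens]
    intro U V
    have hU : IsCompact (f ⁻¹ᵁ U.1 : Set X) := f.isCompact_preimage U.2.isCompact
    have hV : IsCompact (f ⁻¹ᵁ V.1 : Set X) := f.isCompact_preimage V.2.isCompact
    have hUV : IsCompact ((f ⁻¹ᵁ U.1 : Set X) ∩ (f ⁻¹ᵁ V.1 : Set X)) :=
      hX.inter_isCompact _ _ (f ⁻¹ᵁ U.1).2 hU (f ⁻¹ᵁ V.1).2 hV
    have himg : (U.1 ∩ V.1 : Set Y) = f '' ((f ⁻¹ᵁ U.1 : Set X) ∩ (f ⁻¹ᵁ V.1 : Set X)) := by
      ext y
      constructor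
      · intro hy
        obtain ⟨x, rfl⟩ := Surjective.surj (f := f) y
        exact ⟨x, hy, rfl⟩
      · rintro ⟨x, hx, rfl⟩
        exact hx
    rw [himg]
    exact hUV.image f.continuous
  · intro hX
    have h1 : IsSeparated (f ≫ Limits.terminal.from Y) := by
      rw [Limits.terminal.comp_from]; infer_instance
    exact ⟨Groth.Agent.Lib.helper2.ProperOver.isSeparated_of_comp_surjective f
      (Limits.terminal.from Y)⟩

end Groth.Agent.S2120
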