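import Groth.Statements.S2121
import Mathlib
import Groth.Agent.Lib.helper4.DvrScheme

set_option autoImplicit false
universe u
open CategoryTheory AlgebraicGeometry
open Mor

namespace Groth.Agent.S2121

section Helpers
open AlgebraicGeometry CategoryTheory IsLocalRing

theorem exists_comap_specializes {S R : Type u} [CommRing S] [CommRing R] (φ : S →+* R)
    (z : PrimeSpectrum S) (hz : z ∈ closure (Set.range (PrimeSpectrum.comap φ))) :
    ∃ q : PrimeSpectrum R, PrimeSpectrum.comap φ q ⤳ z := by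
  rw [PrimeSpectrum.closure_range_comap, PrimeSpectrum.mem_zeroLocus] at hz
  have hz' : RingHom.ker φ ≤ z.asIdeal := hz
  obtain ⟨p, hp, hpz⟩ := Ideal.exists_minimalPrimes_le hz'
  have hp' : p ∈ ((⊥ : Ideal R).comap φ).minimalPrimes := hp
  obtain ⟨q, hq, -, hqp⟩ := Ideal.exists_comap_eq_of_mem_minimalPrimes φ p hp'
  refine ⟨⟨q, hq⟩, ?_⟩
  rw [← PrimeSpectrum.le_iff_specializes]
  change q.comap φ ≤ z.asIdeal
  rw [hqp]
  exact hpz

theorem exists_specializes_of_mem_closure_range {X Y : Scheme.{u}} (f : X ⟶ Y) [QuasiCompact f]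
    (z : Y) (hz : z ∈ closure (Set.range f.base)) : ∃ x : X, f.base x ⤳ z := by
  obtain ⟨U, hU, hzU, -⟩ := exists_isAffineOpen_mem_and_subset (x := z) (U := ⊤) trivial
  have hcomp : IsCompact (f ⁻¹ᵁ U : Set X) := f.isCompact_preimage hU.isCompact
  obtain ⟨R, g, hg⟩ := isCompact_iff_exists.1 hcomp
  have hrange : Set.range (g ≫ f) ⊆ Set.range U.ι := by
    rintro _ ⟨t, rfl⟩
    rw [Scheme.Opens.range_ι]
    have : g t ∈ (f ⁻¹ᵁ U : Set X) := hg ▸ ⟨t, rfl⟩
    exact this
  let h₀ : Spec R ⟶ U.toScheme := IsOpenImmersion.lift U.ι (g ≫ f) hrange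
  let h : Spec R ⟶ Spec Γ(Y, U) := h₀ ≫ hU.isoSpec.hom
  have hh : h ≫ hU.fromSpec = g ≫ f := by
    simp only [h, Category.assoc, hU.isoSpec_hom_fromSpec]
    exact IsOpenImmersion.lift_fac _ _ _
  obtain ⟨φ, hφ⟩ : ∃ φ : Γ(Y, U) ⟶ R, Spec.map φ = h := ⟨Spec.preimage h, Spec.map_preimage h⟩
  let z' : Spec Γ(Y, U) := hU.primeIdealOf ⟨z, hzU⟩
  have hz' : hU.fromSpec z' = z := hU.fromSpec_primeIdealOf ⟨z, hzU⟩
  have hemb : Topology.IsEmbedding hU.fromSpec := hU.fromSpec.isOpenEmbedding.isEmbedding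
  have hcl : z' ∈ closure (Set.range h) := by
    rw [hemb.closure_eq_preimage_closure_image, Set.mem_preimage, hz']
    rw [mem_closure_iff] at hz ⊢
    intro V hV hzV
    obtain ⟨y, ⟨hyV, hyU⟩, ⟨x, rfl⟩⟩ := hz (V ∩ U) (hV.inter U.isOpen) ⟨hzV, hzU⟩
    refine ⟨f x, hyV, ?_⟩
    have hx : x ∈ Set.range g := by rw [hg]; exact hyU
    obtain ⟨t, rfl⟩ := hx
    refine ⟨h t, ⟨t, rfl⟩, ?_⟩
    have := congrArg (fun F => F t) hh
    exact this
  have hcl' : z' ∈ closure (Set.range (PrimeSpectrum.comap φ.hom)) := by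
    rw [← hφ] at hcl
    exact hcl
  obtain ⟨q, hq⟩ := exists_comap_specializes φ.hom z' hcl'
  refine ⟨g q, ?_⟩
  have h1 : hU.fromSpec (Spec.map φ q) ⤳ hU.fromSpec z' := hq.map hU.fromSpec.continuous
  rw [hz', hφ] at h1
  have h2 : hU.fromSpec (h q) = f (g q) := congrArg (fun F => F q) hh
  rw [h2] at h1
  exact h1

open Groth.Agent.H4Dvr in
theorem main {X Y : Scheme.{u}} (f : X ⟶ Y) [QuasiCompact f] (z : Y)
    (hz : z ∈ closure (Set.range f.base)) :
    ∃ (A : Type u) (_ : CommRing A) (_ : IsDomain A) (_ : ValuationRing A)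
      (x : Spec (CommRingCat.of (FractionRing A)) ⟶ X) (y : Spec (CommRingCat.of A) ⟶ Y),
      x ≫ f = Spec.map (CommRingCat.ofHom (algebraMap A (FractionRing A))) ≫ y ∧
      y.base (IsLocalRing.closedPoint A) = z := by
  obtain ⟨x, hsp⟩ := exists_specializes_of_mem_closure_range f z hz
  obtain ⟨A, hA, hloc⟩ := exists_factor_valuationRing (toRes f x z hsp).hom
  obtain ⟨h, h1, h2⟩ := exists_hom_of_factor f x z hsp A hA hloc
  let e : FractionRing A ≃ₐ[A] X.residueField x := FractionRing.algEquiv A (X.residueField x)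
  let incl : CommRingCat.of A ⟶ X.residueField x := CommRingCat.ofHom A.subtype
  let alg : CommRingCat.of A ⟶ CommRingCat.of (FractionRing A) :=
    CommRingCat.ofHom (algebraMap A (FractionRing A))
  let einv : X.residueField x ⟶ CommRingCat.of (FractionRing A) :=
    CommRingCat.ofHom (e.symm : X.residueField x →+* FractionRing A)
  have halg : alg = incl ≫ einv := by
    ext a
    exact (e.symm_apply_eq.2 (e.commutes a).symm).symm
  refine ⟨A, inferInstance, inferInstance, inferInstance,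
    Spec.map einv ≫ X.fromSpecResidueField x, h, ?_, h1⟩
  rw [Category.assoc, ← h2, ← Category.assoc, ← Spec.map_comp]
  change Spec.map (incl ≫ einv) ≫ h = Spec.map alg ≫ h
  rw [halg]

end Helpers


/-- Let `f : X → Y` be quasi-compact and `z` a point in the closure of `f(X)` (the underlying set of the
scheme theoretic image). Then there are a valuation ring `A` with fraction field `K` and morphisms
`Spec K → X`, `Spec A → Y` forming a commutative square with `f` and `Spec K → Spec A`, such that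
the closed point of `Spec A` maps to `z`. -/
theorem result {X Y : Scheme.{u}} (f : X ⟶ Y) [QuasiCompact f] (z : Y)
    (hz : z ∈ closure (Set.range f.base)) :
    ∃ (A : Type u) (_ : CommRing A) (_ : IsDomain A) (_ : ValuationRing A)
      (x : Spec (CommRingCat.of (FractionRing A)) ⟶ X) (y : Spec (CommRingCat.of A) ⟶ Y),
      x ≫ f = Spec.map (CommRingCat.ofHom (algebraMap A (FractionRing A))) ≫ y ∧
      y.base (IsLocalRing.closedPoint A) = z := by
  exact main f z hz

end Groth.Agent.S2121
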