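import Groth.Statements.S2123
import Mathlib
import Groth.Agent.Lib.helper4.FFCenter1

set_option autoImplicit false
universe u
open CategoryTheory AlgebraicGeometry
open Mor

namespace Groth.Agent.S2123

section Helpers
open IsLocalRing Groth.Agent.H4FF in
theorem specializes_of_stalk_le (X : Scheme.{u}) [IsIntegral X] [X.IsSeparated] (x y : X)
    (hle : ∀ a : X.presheaf.stalk x, ∃ b : X.presheaf.stalk y,
      algebraMap (X.presheaf.stalk y) X.functionField b =
        algebraMap (X.presheaf.stalk x) X.functionField a) : y ⤳ x := by
  obtain ⟨V, h, hloc⟩ := IsLocalRing.exists_factor_valuationRing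
    (algebraMap (X.presheaf.stalk y) X.functionField)
  have hdom : Dominates V y := by
    refine ⟨h, fun a ha => ?_⟩
    have h1 : ((algebraMap (X.presheaf.stalk y) X.functionField).codRestrict V.toSubring h a) ∈
        maximalIdeal V := by
      intro hu
      exact ha (hloc.1 a hu)
    rw [ValuationSubring.valuation_lt_one_iff] at h1
    exact h1
  obtain ⟨l₁, h1, h1'⟩ := lift_of_dominates V y hdom
  have hx : ∀ a : X.presheaf.stalk x, algebraMap (X.presheaf.stalk x) X.functionField a ∈ V := by
    intro a
    obtain ⟨b, hb⟩ := hle a
    rw [← hb]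
    exact h b
  let g : X.presheaf.stalk x →+* V :=
    (algebraMap (X.presheaf.stalk x) X.functionField).codRestrict V.toSubring hx
  let l₂ : Spec (CommRingCat.of V) ⟶ X := Spec.map (CommRingCat.ofHom g) ≫ X.fromSpecStalk x
  have h2' : genIncl V ≫ l₂ = X.fromSpecStalk (genericPoint X) := by
    change genIncl V ≫ Spec.map (CommRingCat.ofHom g) ≫ X.fromSpecStalk x = _
    rw [← Scheme.SpecMap_stalkSpecializes_fromSpecStalk (Groth.Agent.H4FF.genericPoint_specializes x),
      ← Category.assoc, ← Spec.map_comp]
    rfl
  have heq := lift_ext V l₁ l₂ (h1'.trans h2'.symm)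
  have h3 : y ∈ Set.range (X.fromSpecStalk x) := by
    rw [← h1, heq]
    exact ⟨Spec.map (CommRingCat.ofHom g) (closedPoint V), rfl⟩
  rw [Scheme.range_fromSpecStalk] at h3
  exact h3
end Helpers


/-- Let `X` be an integral separated scheme and `x, y` points such that the closure of `x` is not
contained in the closure of `y`. Then, inside the function field of `X`, the local ring at `x` is
not contained in the local ring at `y`. -/
theorem result (X : Scheme.{u}) [IsIntegral X] [X.IsSeparated] (x y : X)
    (h : ¬ closure ({x} : Set X) ⊆ closure {y}) :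
    ¬ Set.range (X.presheaf.stalkSpecializes (genericPoint_specializes x)) ⊆
        Set.range (X.presheaf.stalkSpecializes (genericPoint_specializes y)) := by
  intro hsub
  apply h
  have hsp : y ⤳ x := by
    apply specializes_of_stalk_le X x y
    intro a
    obtain ⟨b, hb⟩ := hsub ⟨a, rfl⟩
    exact ⟨b, hb⟩
  exact (specializes_iff_closure_subset.1 hsp)

end Groth.Agent.S2123
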