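import Groth.Statements.S2131
import Mathlib

set_option autoImplicit false
universe u
open CAlg

namespace Groth.Agent.S2131


theorem mk_eq_zero_iff' {R M : Type u} [CommRing R] [AddCommGroup M] [Module R M]
    (S : Submonoid R) (m : M) (s : S) :
    LocalizedModule.mk m s = 0 ↔ ∃ u : R, u ∈ S ∧ u • m = 0 := by
  rw [← LocalizedModule.zero_mk s, LocalizedModule.mk_eq]
  constructor
  · rintro ⟨u, hu⟩
    refine ⟨u * s, S.mul_mem u.2 s.2, ?_⟩
    simpa [mul_smul, Submonoid.smul_def] using hu
  · rintro ⟨u, hu, h⟩
    refine ⟨⟨u, hu⟩, ?_⟩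
    simp only [Submonoid.smul_def, smul_zero]
    rw [smul_comm, h, smul_zero]

theorem bijective_map_of_powers {R M N : Type u} [CommRing R] [AddCommGroup M] [Module R M]
    [AddCommGroup N] [Module R N] (φ : M →ₗ[R] N) (g : R)
    (hbij : Function.Bijective (LocalizedModule.map (Submonoid.powers g) φ))
    (S : Submonoid R) (hg : g ∈ S) :
    Function.Bijective (LocalizedModule.map S φ) := by
  have hpow : ∀ k : ℕ, g ^ k ∈ S := fun k => S.pow_mem hg k
  constructor
  · rw [injective_iff_map_eq_zero]
    intro x hx
    induction x using LocalizedModule.induction_on with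
    | _ m s =>
      rw [LocalizedModule.map_mk, mk_eq_zero_iff'] at hx
      obtain ⟨t, htS, ht⟩ := hx
      have h0 : φ (t • m) = 0 := by rw [map_smul, ht]
      have h1 : LocalizedModule.map (Submonoid.powers g) φ
          (LocalizedModule.mk (t • m) (1 : Submonoid.powers g)) = 0 := by
        rw [LocalizedModule.map_mk, h0, LocalizedModule.zero_mk]
      have h2 : LocalizedModule.mk (t • m) (1 : Submonoid.powers g) = 0 :=
        hbij.1 (h1.trans (map_zero _).symm)
      rw [mk_eq_zero_iff'] at h2
      obtain ⟨u, ⟨k, rfl⟩, hu⟩ := h2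
      rw [mk_eq_zero_iff']
      refine ⟨g ^ k * t, S.mul_mem (hpow k) htS, ?_⟩
      rw [mul_smul]; exact hu
  · intro y
    induction y using LocalizedModule.induction_on with
    | _ n s =>
      obtain ⟨x, hx⟩ := hbij.2 (LocalizedModule.mk n (1 : Submonoid.powers g))
      induction x using LocalizedModule.induction_on with
      | _ m t =>
        obtain ⟨t, k, rfl⟩ := t
        rw [LocalizedModule.map_mk, LocalizedModule.mk_eq] at hx
        obtain ⟨⟨_, j, rfl⟩, hu⟩ := hx
        simp only [Submonoid.smul_def, Submonoid.coe_one, one_smul] at hu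
        -- hu : g ^ j • φ m = g ^ j • g ^ k • n
        refine ⟨LocalizedModule.mk m (⟨g ^ k, hpow k⟩ * s), ?_⟩
        rw [LocalizedModule.map_mk, LocalizedModule.mk_eq]
        refine ⟨⟨g ^ j, hpow j⟩, ?_⟩
        simp only [Submonoid.smul_def, Submonoid.coe_mul]
        rw [smul_comm (g ^ j) (s : R) (φ m), hu]
        simp only [← mul_smul]
        congr 1
        ring

/-- For an `R`-linear map from a finite module to a finitely presented module, the primes at which its
localization is bijective form an open subset of `Spec R`. -/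
theorem result {R M N : Type u} [CommRing R] [AddCommGroup M] [Module R M] [Module.Finite R M]
    [AddCommGroup N] [Module R N] [Module.FinitePresentation R N] (φ : M →ₗ[R] N) :
    IsOpen {p : PrimeSpectrum R | Function.Bijective (LocalizedModule.map p.asIdeal.primeCompl φ)} := by
  rw [isOpen_iff_forall_mem_open]
  intro p hp
  obtain ⟨g, hg, hbij⟩ := Module.FinitePresentation.exists_notMem_bijective φ p.asIdeal
    (LocalizedModule.mkLinearMap p.asIdeal.primeCompl M)
    (LocalizedModule.mkLinearMap p.asIdeal.primeCompl N) hp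
  refine ⟨PrimeSpectrum.basicOpen g, ?_, (PrimeSpectrum.basicOpen g).isOpen, hg⟩
  intro q hq
  exact bijective_map_of_powers φ g hbij q.asIdeal.primeCompl hq

end Groth.Agent.S2131
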