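import Groth.Statements.S2132
import Mathlib
import Groth.Agent.Lib.helper3.HensColim

set_option autoImplicit false
universe u
open CategoryTheory
open CAlg

namespace Groth.Agent.S2132

/-- Let `F : J ⥤ CommRingCat` be a filtered diagram of henselian local rings with local transition maps
and `c` a colimit cocone. Then the colimit is a henselian local ring. -/
theorem result {J : Type u} [SmallCategory J] [IsFiltered J] (F : J ⥤ CommRingCat.{u})
    (hF : ∀ j, HenselianLocalRing (F.obj j)) (hloc : ∀ (i j : J) (a : i ⟶ j), IsLocalHom (F.map a).hom)
    (c : Limits.Cocone F) (hc : Limits.IsColimit c) : HenselianLocalRing c.pt := by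
  have := hF
  have hyp : Groth.Agent.Lib.helper3.HensColim.Hyp (G := fun j => (F.obj j : Type u))
      (A := (c.pt : Type u)) (fun j => (c.ι.app j).hom) := by
    refine ⟨fun i j => ?_, fun i x hx => ?_, fun z => ?_⟩
    · refine ⟨IsFiltered.max i j, (F.map (IsFiltered.leftToMax i j)).hom,
        (F.map (IsFiltered.rightToMax i j)).hom, hloc _ _ _, hloc _ _ _, fun x => ?_, fun x => ?_⟩
      · have := c.w (IsFiltered.leftToMax i j)
        exact ConcreteCategory.congr_hom this x
      · have := c.w (IsFiltered.rightToMax i j)
        exact ConcreteCategory.congr_hom this x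
    · have h0 : c.ι.app i x = c.ι.app i 0 := by
        rw [map_zero]; exact hx
      obtain ⟨k, f, g, hfg⟩ := Limits.Concrete.isColimit_exists_of_rep_eq F hc x 0 h0
      refine ⟨k, (F.map f).hom, hloc _ _ _, fun x => ?_, ?_⟩
      · exact ConcreteCategory.congr_hom (c.w f) x
      · rw [map_zero] at hfg
        exact hfg
    · exact Limits.Concrete.isColimit_exists_rep F hc z
  exact hyp.henselian

end Groth.Agent.S2132
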