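import Groth.Statements.S2133
import Mathlib

set_option autoImplicit false
universe u
open CAlg

namespace Groth.Agent.S2133

namespace S2133aux

theorem aux {R R' T : Type u} [CommRing R] [CommRing R'] [Algebra R R'] [Algebra.FiniteType R R']
    [CommRing T] [Algebra R' T] [Algebra R T] [IsScalarTower R R' T]
    (hinj : Function.Injective (algebraMap R R')) (g : R) (hg : IsSMulRegular R' (algebraMap R R' g))
    [IsLocalization.Away (algebraMap R R' g) T]
    (hloc : ∀ x : R', ∃ n : ℕ, (algebraMap R R' g) ^ n * x ∈ Set.range (algebraMap R R')) (D : Derivation ℤ R R) :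
    ∃ (N : ℕ) (D' : Derivation ℤ R' R'), ∀ r : R, D' (algebraMap R R' r) = algebraMap R R' (g ^ N * D r) := by
  classical
  set g' := algebraMap R R' g with hg'
  have hRT : ∀ r : R, algebraMap R T r = algebraMap R' T (algebraMap R R' r) := fun r =>
    IsScalarTower.algebraMap_apply R R' T r
  have hinjT : Function.Injective (algebraMap R' T) := by
    apply IsLocalization.injective T (M := Submonoid.powers g')
    apply Submonoid.powers_le.2
    rw [mem_nonZeroDivisors_iff_right]
    intro x hx
    apply hg
    change g' * x = g' * 0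
    rw [mul_zero, mul_comm]
    exact hx
  have hgunit : IsUnit (algebraMap R' T g') := IsLocalization.Away.algebraMap_isUnit g'
  -- T is the localization of R at powers of g
  haveI : IsLocalization (Submonoid.powers g) T := by
    refine ⟨?_, ?_, ?_⟩
    · rintro ⟨_, k, rfl⟩
      rw [hRT, map_pow, map_pow]
      exact hgunit.pow k
    · intro t
      obtain ⟨⟨x, ⟨_, k, rfl⟩⟩, hx⟩ := IsLocalization.surj (Submonoid.powers g') t
      obtain ⟨n, r, hr⟩ := hloc x
      refine ⟨⟨r, ⟨g ^ (n + k), n + k, rfl⟩⟩, ?_⟩
      simp only at hx ⊢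
      rw [hRT, hRT, hr, map_pow, pow_add, map_mul, map_mul, ← hx, ← hg', map_pow]
      ring
    · intro r₁ r₂ h
      rw [hRT, hRT] at h
      have := hinj (hinjT h)
      exact ⟨1, by rw [this]⟩
  haveI : Algebra.FormallyEtale R T := Algebra.FormallyEtale.of_isLocalization (Submonoid.powers g)
  -- extend D
  have hbc := KaehlerDifferential.isBaseChange_of_formallyEtale ℤ R T
  let g₀ : Ω[R⁄ℤ] →ₗ[R] T := (Algebra.linearMap R T) ∘ₗ D.liftKaehlerDifferential
  let L : Ω[T⁄ℤ] →ₗ[T] T := hbc.lift g₀
  let DT : Derivation ℤ T T := L.compDer (KaehlerDifferential.D ℤ T)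
  have hDTL : ∀ t : T, DT t = L (KaehlerDifferential.D ℤ T t) := fun t => rfl
  have hDT : ∀ r : R, DT (algebraMap R T r) = algebraMap R T (D r) := by
    intro r
    rw [hDTL]
    rw [← KaehlerDifferential.map_D ℤ ℤ R T, hbc.lift_eq]
    change algebraMap R T (D.liftKaehlerDifferential (KaehlerDifferential.D ℤ R r)) = _
    rw [Derivation.liftKaehlerDifferential_comp_D]
  -- each element becomes integral after multiplying by a power of g
  have hk : ∀ t : T, ∃ k : ℕ, ∀ j, k ≤ j →
      algebraMap R T g ^ j * t ∈ Set.range (algebraMap R' T) := by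
    intro t
    obtain ⟨⟨x, ⟨_, k, rfl⟩⟩, hx⟩ := IsLocalization.surj (Submonoid.powers g') t
    refine ⟨k, fun j hj => ⟨g' ^ (j - k) * x, ?_⟩⟩
    simp only at hx
    obtain ⟨i, rfl⟩ := Nat.exists_eq_add_of_le hj
    rw [map_mul, ← hx, hRT, ← hg', map_pow, map_pow, Nat.add_sub_cancel_left, pow_add]
    ring
  obtain ⟨s, hs⟩ := Algebra.FiniteType.out (R := R) (A := R')
  choose k hk' using fun x : R' => hk (DT (algebraMap R' T x))
  let N := s.sup k
  let S : Subalgebra R R' :=
    { carrier := {x | algebraMap R T g ^ N * DT (algebraMap R' T x) ∈ Set.range (algebraMap R' T)}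
      mul_mem' := by
        rintro a b ⟨ya, hya⟩ ⟨yb, hyb⟩
        refine ⟨a * yb + b * ya, ?_⟩
        rw [map_add, map_mul, map_mul, hya, hyb, map_mul (algebraMap R' T) a b, Derivation.leibniz,
          smul_eq_mul, smul_eq_mul]
        ring
      add_mem' := by
        rintro a b ⟨ya, hya⟩ ⟨yb, hyb⟩
        refine ⟨ya + yb, ?_⟩
        rw [map_add, hya, hyb, map_add (algebraMap R' T) a b, map_add, mul_add]
      algebraMap_mem' := by
        intro r
        refine ⟨algebraMap R R' (g ^ N * D r), ?_⟩
        rw [← hRT, ← hRT, hDT, map_mul, map_pow] }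
  have hS : S = ⊤ := by
    rw [eq_top_iff, ← hs]
    exact Algebra.adjoin_le (fun x hx => hk' x N (Finset.le_sup (f := k) hx))
  have hall : ∀ x : R', ∃ y : R',
      algebraMap R' T y = algebraMap R T g ^ N * DT (algebraMap R' T x) := by
    intro x
    have : x ∈ S := by rw [hS]; exact Algebra.mem_top
    exact this
  choose D' hD' using hall
  refine ⟨N, Derivation.mk' (AddMonoidHom.toIntLinearMap (AddMonoidHom.mk' D' ?_)) ?_, ?_⟩
  · intro a b
    apply hinjT
    rw [map_add, hD', hD', hD', map_add, map_add, mul_add]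
  · intro a b
    apply hinjT
    change algebraMap R' T (D' (a * b)) = algebraMap R' T (a • D' b + b • D' a)
    rw [smul_eq_mul, smul_eq_mul, map_add, map_mul, map_mul, hD', hD', hD', map_mul,
      Derivation.leibniz, smul_eq_mul, smul_eq_mul]
    ring
  · intro r
    apply hinjT
    change algebraMap R' T (D' (algebraMap R R' r)) = _
    rw [hD', ← hRT, ← hRT, hDT, map_mul, map_pow]

end S2133aux

/-- Let `R → R'` be an injective ring map of finite type and `g ∈ R` a nonzerodivisor on `R'` such that
every element of `R'` lands in `R` after multiplication by a power of `g` (so `R_g = R'_g`). Then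
for every derivation `D` of `R` there is `N` such that `g^N D` extends to a derivation of `R'`. -/
theorem result {R R' : Type u} [CommRing R] [CommRing R'] [Algebra R R'] [Algebra.FiniteType R R']
    (hinj : Function.Injective (algebraMap R R')) (g : R) (hg : IsSMulRegular R' (algebraMap R R' g))
    (hloc : ∀ x : R', ∃ n : ℕ, (algebraMap R R' g) ^ n * x ∈ Set.range (algebraMap R R')) (D : Derivation ℤ R R) :
    ∃ (N : ℕ) (D' : Derivation ℤ R' R'), ∀ r : R, D' (algebraMap R R' r) = algebraMap R R' (g ^ N * D r) := by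
  exact S2133aux.aux (T := Localization.Away (algebraMap R R' g)) hinj g hg hloc D

end Groth.Agent.S2133
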