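import Groth.Statements.S2134
import Mathlib

set_option autoImplicit false
universe u
open CAlg

namespace Groth.Agent.S2134

/-- Let `K/k` be a field extension and `(K_α)` a nonempty family of intermediate fields, directed
downwards, with intersection `k`. For a `K`-subspace `V` of `K^n` (`n ≥ 1`), `V` contains a nonzero
vector with all coordinates in `k` if and only if for every `α` it contains a nonzero vector with
all coordinates in `K_α`. -/
theorem result {k K : Type u} [Field k] [Field K] [Algebra k K] {ι : Type u} [Nonempty ι]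
    (F : ι → IntermediateField k K) (hdir : ∀ a b : ι, ∃ c, F c ≤ F a ⊓ F b) (hinf : ⨅ a, F a = ⊥) (n : ℕ) (hn : 1 ≤ n)
    (V : Submodule K (Fin n → K)) :
    (∃ v ∈ V, v ≠ 0 ∧ ∀ i, v i ∈ Set.range (algebraMap k K)) ↔
      ∀ a, ∃ v ∈ V, v ≠ 0 ∧ ∀ i, v i ∈ F a := by
  classical
  constructor
  · rintro ⟨v, hv, hv0, hvk⟩ a
    refine ⟨v, hv, hv0, fun i => ?_⟩
    obtain ⟨x, hx⟩ := hvk i
    rw [← hx]
    exact (F a).algebraMap_mem x
  intro H
  let supp : (Fin n → K) → Finset (Fin n) := fun v => Finset.univ.filter fun i => v i ≠ 0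
  have hsupp0 : ∀ v, supp v = ∅ ↔ v = 0 := by
    intro v
    simp only [supp, Finset.filter_eq_empty_iff, Finset.mem_univ, true_implies, not_not]
    exact ⟨fun h => funext h, fun h i => by rw [h]; rfl⟩
  let T : ι → Finset (Finset (Fin n)) := fun a =>
    Finset.univ.filter fun S => ∃ v ∈ V, v ≠ 0 ∧ (∀ i, v i ∈ F a) ∧ supp v = S
  have hTmem : ∀ a S, S ∈ T a ↔ ∃ v ∈ V, v ≠ 0 ∧ (∀ i, v i ∈ F a) ∧ supp v = S := by
    intro a S; simp [T]
  have hTne : ∀ a, (T a).Nonempty := by
    intro a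
    obtain ⟨v, hv, hv0, hva⟩ := H a
    exact ⟨supp v, (hTmem a _).mpr ⟨v, hv, hv0, hva, rfl⟩⟩
  have hTmono : ∀ a c, F c ≤ F a → T c ⊆ T a := by
    intro a c hca S hS
    obtain ⟨v, hv, hv0, hvc, hvS⟩ := (hTmem c S).mp hS
    exact (hTmem a S).mpr ⟨v, hv, hv0, fun i => hca (hvc i), hvS⟩
  -- minimize the cardinality of T
  have hex : ∃ m, ∃ a, (T a).card = m := ⟨_, Classical.arbitrary ι, rfl⟩
  obtain ⟨a1, ha1⟩ := Nat.find_spec hex
  have hmin : ∀ a, (T a1).card ≤ (T a).card := fun a => ha1 ▸ Nat.find_min' hex ⟨a, rfl⟩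
  have hTeq : ∀ c, F c ≤ F a1 → T c = T a1 := fun c hc =>
    Finset.eq_of_subset_of_card_le (hTmono a1 c hc) (hmin c)
  obtain ⟨S, hS, hSmin⟩ := Finset.exists_min_image (T a1) Finset.card (hTne a1)
  -- normalised vectors with support S
  have hnorm : ∀ c, S ∈ T c → ∀ j ∈ S, ∃ v ∈ V, (∀ i, v i ∈ F c) ∧ supp v = S ∧ v j = 1 := by
    intro c hSc j hj
    obtain ⟨v, hv, hv0, hvc, hvS⟩ := (hTmem c S).mp hSc
    have hvj : v j ≠ 0 := by
      have : j ∈ supp v := hvS ▸ hj
      simpa [supp] using this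
    refine ⟨(v j)⁻¹ • v, V.smul_mem _ hv, fun i => ?_, ?_, ?_⟩
    · simp only [Pi.smul_apply, smul_eq_mul]
      exact (F c).mul_mem ((F c).inv_mem (hvc j)) (hvc i)
    · rw [← hvS]
      ext i
      simp [supp, hvj]
    · simp [hvj]
  have hSne : S.Nonempty := by
    obtain ⟨v, hv, hv0, hvc, hvS⟩ := (hTmem a1 S).mp hS
    rw [Finset.nonempty_iff_ne_empty, ← hvS, Ne, hsupp0]
    exact hv0
  obtain ⟨j, hj⟩ := hSne
  obtain ⟨v, hv, hva1, hvS, hvj⟩ := hnorm a1 hS j hj
  have hv0 : v ≠ 0 := by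
    intro h
    rw [h] at hvj
    simp at hvj
  have hall : ∀ a, ∀ i, v i ∈ F a := by
    intro a
    obtain ⟨c, hc⟩ := hdir a1 a
    have hca1 : F c ≤ F a1 := hc.trans inf_le_left
    have hca : F c ≤ F a := hc.trans inf_le_right
    have hSc : S ∈ T c := (hTeq c hca1).symm ▸ hS
    obtain ⟨w, hw, hwc, hwS, hwj⟩ := hnorm c hSc j hj
    have hu : v - w = 0 := by
      by_contra hu0
      have hu1 : supp (v - w) ∈ T a1 :=
        (hTmem a1 _).mpr ⟨v - w, V.sub_mem hv hw, hu0,
          fun i => (F a1).sub_mem (hva1 i) (hca1 (hwc i)), rfl⟩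
      have hsub : supp (v - w) ⊂ S := by
        rw [Finset.ssubset_iff_of_subset]
        · refine ⟨j, hj, ?_⟩
          simp [supp, hvj, hwj]
        · intro i hi
          by_contra hiS
          have h1 : v i = 0 := by
            have : i ∉ supp v := hvS ▸ hiS
            simpa [supp] using this
          have h2 : w i = 0 := by
            have : i ∉ supp w := hwS ▸ hiS
            simpa [supp] using this
          simp [supp, h1, h2] at hi
      exact absurd (hSmin _ hu1) (not_le.mpr (Finset.card_lt_card hsub))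
    have hvw : v = w := sub_eq_zero.mp hu
    intro i
    rw [hvw]
    exact hca (hwc i)
  refine ⟨v, hv, hv0, fun i => ?_⟩
  have : v i ∈ ⨅ a, F a := by
    rw [← SetLike.mem_coe, IntermediateField.coe_iInf, Set.mem_iInter]
    exact fun a => hall a i
  rw [hinf, IntermediateField.mem_bot] at this
  exact this

end Groth.Agent.S2134
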