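import Groth.Statements.S2139
import Groth.Agent.Lib.helper26.NorLoc

set_option autoImplicit false
universe u
open CAlg

namespace Groth.Agent.S2139



/-- Let `R` be a reduced ring with finitely many minimal primes. Then every localization of `R` at a
prime is an integrally closed domain if and only if `R` is integrally closed in its total ring of
fractions. -/
theorem result {R : Type u} [CommRing R] [IsReduced R] (hfin : (minimalPrimes R).Finite) :
    (∀ (p : Ideal R) [p.IsPrime], IsDomain (Localization.AtPrime p) ∧ IsIntegrallyClosed (Localization.AtPrime p)) ↔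
      IsIntegrallyClosedIn R (FractionRing R) := by
  classical
  haveI : Fintype (minimalPrimes R) := hfin.fintype
  constructor
  · intro h
    rw [isIntegrallyClosedIn_iff]
    refine ⟨IsFractionRing.injective R (FractionRing R), fun {x} hx => ?_⟩
    let I : Ideal R :=
      { carrier := {s | ∃ y : R, algebraMap R (FractionRing R) y = s • x}
        add_mem' := by
          rintro a b ⟨y, hy⟩ ⟨z, hz⟩
          exact ⟨y + z, by rw [map_add, hy, hz, add_smul]⟩
        zero_mem' := ⟨0, by rw [map_zero, zero_smul]⟩
        smul_mem' := by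
          rintro c a ⟨y, hy⟩
          exact ⟨c * y, by rw [map_mul, hy, smul_eq_mul, mul_smul, Algebra.smul_def c]⟩ }
    have hI : I = ⊤ := by
      by_contra hne
      obtain ⟨m, hm, hIm⟩ := Ideal.exists_le_maximal I hne
      haveI := hm.isPrime
      obtain ⟨hd, hic⟩ := h m
      obtain ⟨s, hs, y, hy⟩ := Groth.Agent.Lib.helper26.NorLoc.cond_of_normal R m ⟨x, hx⟩
      apply hs
      apply hIm
      refine ⟨y, ?_⟩
      have := congrArg Subtype.val hy
      exact this
    have h1 : (1 : R) ∈ I := by rw [hI]; trivial
    obtain ⟨y, hy⟩ := h1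
    exact ⟨y, by rw [hy, one_smul]⟩
  · intro h p _
    apply Groth.Agent.Lib.helper26.NorLoc.normal_of_cond R p
    intro x
    rw [isIntegrallyClosedIn_iff] at h
    obtain ⟨y, hy⟩ := h.2 x.2
    refine ⟨1, fun h1 => ‹p.IsPrime›.ne_top ((Ideal.eq_top_iff_one _).2 h1), y, ?_⟩
    apply Subtype.ext
    rw [one_smul]
    exact hy

end Groth.Agent.S2139
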