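import Groth.Statements.S2140
import Mathlib
-- import your own Groth.Agent.* helpers here

set_option autoImplicit false
universe u
open CAlg

namespace Groth.Agent.S2140

/-- maximal linearly independent families: every element has a nonzero multiple in the span. -/
theorem exists_smul_mem_span {A M : Type u} [CommRing A] [IsDomain A] [AddCommGroup M] [Module A M]
    [Module.Finite A M] :
    ∃ (b : Fin (Module.finrank A M) → M), LinearIndependent A b ∧
      ∀ s : M, ∃ a : A, a ≠ 0 ∧ a • s ∈ Submodule.span A (Set.range b) := by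
  classical
  obtain ⟨b, hb⟩ := exists_linearIndependent_of_le_finrank (R := A) (M := M) le_rfl
  refine ⟨b, hb, ?_⟩
  intro s
  have hnot : ¬ LinearIndependent A (Fin.cons s b : Fin (Module.finrank A M + 1) → M) := by
    intro h
    have := h.fintype_card_le_finrank
    simp at this
  rw [Fintype.not_linearIndependent_iff] at hnot
  obtain ⟨c, hc, i, hi⟩ := hnot
  rw [Fin.sum_univ_succ] at hc
  simp only [Fin.cons_zero, Fin.cons_succ] at hc
  have hc0 : c 0 ≠ 0 := by
    intro h0
    rw [h0, zero_smul, zero_add] at hc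
    have := Fintype.linearIndependent_iff.mp hb (fun j => c j.succ) hc
    refine Fin.cases ?_ ?_ i hi
    · intro h; exact h h0
    · intro j h; exact h (this j)
  refine ⟨c 0, hc0, ?_⟩
  have : c 0 • s = - ∑ j : Fin (Module.finrank A M), c j.succ • b j := by
    rw [eq_neg_iff_add_eq_zero]; exact hc
  rw [this]
  refine Submodule.neg_mem _ (Submodule.sum_mem _ fun j _ => ?_)
  exact Submodule.smul_mem _ _ (Submodule.subset_span ⟨j, rfl⟩)


/-- **GF1**: generic freeness data for a finite type algebraic extension of domains. -/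
theorem gf1 {A S : Type u} [CommRing A] [IsDomain A] [CommRing S] [IsDomain S] [Algebra A S]
    [Algebra.FiniteType A S] [Algebra.IsAlgebraic A S] :
    ∃ (g : A) (r : ℕ) (b : Fin r → S), g ≠ 0 ∧ LinearIndependent A b ∧
      ∀ s : S, ∃ m : ℕ, g ^ m • s ∈ Submodule.span A (Set.range b) := by
  classical
  obtain ⟨G, hG⟩ := (inferInstance : Algebra.FiniteType A S).out
  obtain ⟨y, hy0, hy⟩ := Algebra.IsAlgebraic.exists_integral_multiples A G
  let G' : Finset S := G.image (fun x => y • x)
  let S0 : Subalgebra A S := Algebra.adjoin A (G' : Set S)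
  haveI : Algebra.IsIntegral A S0 := Algebra.IsIntegral.adjoin (by
    intro x hx
    obtain ⟨z, hz, rfl⟩ := Finset.mem_image.mp hx
    exact hy z hz)
  haveI : Algebra.FiniteType A S0 :=
    (Subalgebra.fg_iff_finiteType _).mp (Subalgebra.fg_adjoin_finset _)
  haveI : Module.Finite A S0 := Algebra.IsIntegral.finite
  obtain ⟨b0, hb0, hmax⟩ := exists_smul_mem_span (A := A) (M := S0)
  let r := Module.finrank A S0
  let b : Fin r → S := fun i => (b0 i : S)
  have hb : LinearIndependent A b :=
    hb0.map' S0.val.toLinearMap (LinearMap.ker_eq_bot.mpr Subtype.val_injective)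
  set F := Submodule.span A (Set.range b) with hF
  have hmaxS : ∀ s : S0, ∃ a : A, a ≠ 0 ∧ a • (s : S) ∈ F := by
    intro s
    obtain ⟨a, ha, hs⟩ := hmax s
    refine ⟨a, ha, ?_⟩
    have h1 : S0.val.toLinearMap (a • s) ∈
        Submodule.map S0.val.toLinearMap (Submodule.span A (Set.range b0)) :=
      Submodule.mem_map_of_mem hs
    rw [Submodule.map_span, ← Set.range_comp] at h1
    exact h1
  choose a ha0 ha using hmaxS
  -- elements of S0 we need
  have hxS0 : ∀ x ∈ G, y • x ∈ S0 := fun x hx =>
    Algebra.subset_adjoin (Finset.mem_image_of_mem _ hx)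
  let el : S × Fin r → S0 := fun p =>
    if h : p.1 ∈ G then (⟨y • p.1, hxS0 p.1 h⟩ : S0) * b0 p.2 else 0
  set c : A := (∏ p ∈ G ×ˢ (Finset.univ : Finset (Fin r)), a (el p)) * a 1 with hc
  have hc0 : c ≠ 0 := by
    refine mul_ne_zero (Finset.prod_ne_zero_iff.mpr fun p _ => ha0 _) (ha0 _)
  set g : A := y * c with hg
  have hg0 : g ≠ 0 := mul_ne_zero hy0 hc0
  have hg1 : g • (1 : S) ∈ F := by
    have h1 : a (1 : S0) • (((1 : S0) : S)) ∈ F := ha 1
    have h2 : g = (y * ∏ p ∈ G ×ˢ (Finset.univ : Finset (Fin r)), a (el p)) * a 1 := by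
      rw [hg, hc]; ring
    rw [h2, mul_smul]
    exact F.smul_mem _ h1
  have hgx : ∀ x ∈ G, ∀ f ∈ F, g • (x * f) ∈ F := by
    intro x hx f hf
    refine Submodule.span_induction ?_ ?_ ?_ ?_ hf
    · rintro _ ⟨i, rfl⟩
      have h1 : a (el (x, i)) • ((el (x, i) : S0) : S) ∈ F := ha _
      have h2 : ((el (x, i) : S0) : S) = y • x * b i := by
        simp only [el, dif_pos hx]
        rfl
      obtain ⟨d, hd⟩ := Finset.dvd_prod_of_mem (fun p => a (el p))
        (Finset.mem_product.mpr ⟨hx, Finset.mem_univ i⟩ : (x, i) ∈ G ×ˢ (Finset.univ : Finset (Fin r)))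
      have h3 : g • (x * b i) = (d * a 1) • (a (el (x, i)) • (y • x * b i)) := by
        rw [hg, hc, hd, smul_smul, smul_mul_assoc, smul_smul]
        congr 1; ring
      rw [h3, ← h2]
      exact F.smul_mem _ h1
    · rw [mul_zero, smul_zero]; exact F.zero_mem
    · intro u v _ _ hu hv; rw [mul_add, smul_add]; exact F.add_mem hu hv
    · intro k u _ hu
      rw [mul_smul_comm, smul_comm]; exact F.smul_mem _ hu
  have key : ∀ s : S, ∃ m : ℕ, ∀ f ∈ F, g ^ m • (s * f) ∈ F := by
    intro s
    have hs : s ∈ Algebra.adjoin A (G : Set S) := by rw [hG]; trivial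
    induction hs using Algebra.adjoin_induction with
    | mem x hx => exact ⟨1, fun f hf => by rw [pow_one]; exact hgx x hx f hf⟩
    | algebraMap k =>
      refine ⟨0, fun f hf => ?_⟩
      rw [pow_zero, one_smul, ← Algebra.smul_def]
      exact F.smul_mem _ hf
    | add u v _ _ hu hv =>
      obtain ⟨m, hm⟩ := hu
      obtain ⟨l, hl⟩ := hv
      refine ⟨m + l, fun f hf => ?_⟩
      rw [add_mul, smul_add]
      refine F.add_mem ?_ ?_
      · rw [pow_add, mul_comm, mul_smul]; exact F.smul_mem _ (hm f hf)
      · rw [pow_add, mul_smul]; exact F.smul_mem _ (hl f hf)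
    | mul u v _ _ hu hv =>
      obtain ⟨m, hm⟩ := hu
      obtain ⟨l, hl⟩ := hv
      refine ⟨m + l, fun f hf => ?_⟩
      have := hm _ (hl f hf)
      rw [mul_smul_comm, ← mul_assoc, smul_smul, ← pow_add] at this
      exact this
  refine ⟨g, r, b, hg0, hb, fun s => ?_⟩
  obtain ⟨m, hm⟩ := key s
  refine ⟨m + 1, ?_⟩
  have := hm _ hg1
  rw [mul_smul_comm, mul_one, smul_smul, ← pow_succ] at this
  exact this


/-- **GF2**: the data of `gf1` give a finite basis after localizing. -/
theorem gf2 {A S : Type u} [CommRing A] [IsDomain A] [CommRing S] [IsDomain S] [Algebra A S]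
    (hinj : Function.Injective (algebraMap A S)) (g : A) (hg : g ≠ 0) (r : ℕ) (b : Fin r → S)
    (hb : LinearIndependent A b)
    (hspan : ∀ s : S, ∃ m : ℕ, g ^ m • s ∈ Submodule.span A (Set.range b))
    (Ag Sg : Type u) [CommRing Ag] [CommRing Sg] [Algebra A Ag] [IsLocalization.Away g Ag]
    [Algebra S Sg] [IsLocalization.Away (algebraMap A S g) Sg] [Algebra Ag Sg] [Algebra A Sg]
    [IsScalarTower A S Sg] [IsScalarTower A Ag Sg] :
    Module.Free Ag Sg ∧ Module.Finite Ag Sg := by
  classical
  let v : Fin r → Sg := fun i => algebraMap S Sg (b i)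
  have hgu : IsUnit (algebraMap A Ag g) := IsLocalization.Away.algebraMap_isUnit g
  have hAS : ∀ a : A, algebraMap Ag Sg (algebraMap A Ag a) = algebraMap S Sg (algebraMap A S a) := by
    intro a
    rw [← IsScalarTower.algebraMap_apply A Ag Sg, IsScalarTower.algebraMap_apply A S Sg]
  have hgS : algebraMap A S g ≠ 0 := fun h => hg (hinj (by rw [h, map_zero]))
  have hli : LinearIndependent Ag v := by
    rw [Fintype.linearIndependent_iff]
    intro c hc i
    choose n α hα using fun i => IsLocalization.Away.surj g (c i)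
    set N := ∑ i, n i with hN
    have hle : ∀ i, n i ≤ N := fun i => Finset.single_le_sum (fun _ _ => Nat.zero_le _)
      (Finset.mem_univ i)
    let α' : Fin r → A := fun i => α i * g ^ (N - n i)
    have hα' : ∀ i, c i * algebraMap A Ag g ^ N = algebraMap A Ag (α' i) := by
      intro i
      have : N = n i + (N - n i) := by have := hle i; omega
      rw [map_mul, ← hα, map_pow, mul_assoc, ← pow_add, ← this]
    have h1 : algebraMap S Sg (∑ i, α' i • b i) = 0 := by
      rw [map_sum]
      have h2 : ∀ i, algebraMap S Sg (α' i • b i) = algebraMap A Ag g ^ N • (c i • v i) := by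
        intro i
        rw [Algebra.smul_def, map_mul, ← hAS, ← hα', smul_smul, Algebra.smul_def]
        show _ = algebraMap Ag Sg (algebraMap A Ag g ^ N * c i) * algebraMap S Sg (b i)
        rw [mul_comm (algebraMap A Ag g ^ N)]
      simp_rw [h2]
      rw [← Finset.smul_sum, hc, smul_zero]
    obtain ⟨⟨_, k, rfl⟩, hk⟩ :=
      (IsLocalization.map_eq_zero_iff (Submonoid.powers (algebraMap A S g)) Sg _).mp h1
    have h3 : ∑ i, α' i • b i = 0 := by
      rcases mul_eq_zero.mp hk with h | h
      · exact absurd h (pow_ne_zero _ hgS)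
      · exact h
    have h4 := Fintype.linearIndependent_iff.mp hb α' h3 i
    have h5 := hα' i
    rw [h4, map_zero] at h5
    exact ((hgu.pow N).mul_left_eq_zero).mp h5
  have hsp : ⊤ ≤ Submodule.span Ag (Set.range v) := by
    rintro z -
    obtain ⟨n, s, hs⟩ := IsLocalization.Away.surj (algebraMap A S g) z
    obtain ⟨m, hm⟩ := hspan s
    have h1 : ∀ x ∈ Submodule.span A (Set.range b),
        algebraMap S Sg x ∈ Submodule.span Ag (Set.range v) := by
      intro x hx
      refine Submodule.span_induction ?_ ?_ ?_ ?_ hx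
      · rintro _ ⟨i, rfl⟩; exact Submodule.subset_span ⟨i, rfl⟩
      · rw [map_zero]; exact Submodule.zero_mem _
      · intro p q _ _ hp hq; rw [map_add]; exact Submodule.add_mem _ hp hq
      · intro a p _ hp
        rw [Algebra.smul_def, map_mul, ← hAS, ← Algebra.smul_def]
        exact Submodule.smul_mem _ _ hp
    have h2 := h1 _ hm
    obtain ⟨u, hu⟩ := hgu
    have h3 : z = (↑(u⁻¹ ^ (m + n)) : Ag) • algebraMap S Sg (g ^ m • s) := by
      rw [Algebra.smul_def (g ^ m), map_mul, ← hs, ← hAS, map_pow, ← hAS, ← hu, Algebra.smul_def,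
        Units.val_pow_eq_pow_val, map_pow, map_pow]
      rw [show (algebraMap Ag Sg (↑u⁻¹ : Ag)) ^ (m + n) *
          (algebraMap Ag Sg ↑u ^ m * (z * algebraMap Ag Sg ↑u ^ n)) =
          z * ((algebraMap Ag Sg (↑u⁻¹ : Ag)) * algebraMap Ag Sg ↑u) ^ (m + n) by ring]
      rw [← map_mul, Units.inv_mul, map_one, one_pow, mul_one]
    rw [h3]
    exact Submodule.smul_mem _ _ h2
  let B := Module.Basis.mk hli hsp
  exact ⟨Module.Free.of_basis B, Module.Finite.of_basis B⟩

/-- Let `R → S` be an injective ring map of finite type between domains. Then there are nonzero `f ∈ R`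
and `g ∈ S` such that `S_{fg}` is a finitely presented `R_f`-algebra. -/
theorem result {R S : Type u} [CommRing R] [IsDomain R] [CommRing S] [IsDomain S]
    [Algebra R S] [Algebra.FiniteType R S] (hinj : Function.Injective (algebraMap R S)) :
    ∃ (f : R) (g : S), f ≠ 0 ∧ g ≠ 0 ∧
      ∀ (Rf Sfg : Type u) [CommRing Rf] [CommRing Sfg] [Algebra R Rf] [IsLocalization.Away f Rf]
        [Algebra S Sfg] [IsLocalization.Away (algebraMap R S f * g) Sfg] [Algebra Rf Sfg] [Algebra R Sfg]
        [IsScalarTower R S Sfg] [IsScalarTower R Rf Sfg], Algebra.FinitePresentation Rf Sfg := by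
  classical
  obtain ⟨G, hG⟩ := (inferInstance : Algebra.FiniteType R S).out
  haveI : FaithfulSMul R S := (faithfulSMul_iff_algebraMap_injective R S).mpr hinj
  haveI : Algebra.IsAlgebraic (Algebra.adjoin R (G : Set S)) S := by
    constructor
    intro s
    have hs : s ∈ Algebra.adjoin R (G : Set S) := by rw [hG]; trivial
    exact isAlgebraic_algebraMap (⟨s, hs⟩ : Algebra.adjoin R (G : Set S))
  obtain ⟨u, huG, hu⟩ := exists_isTranscendenceBasis_subset (R := R) (G : Set S)
  let A : Subalgebra R S := Algebra.adjoin R (Set.range ((↑) : u → S))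
  haveI : Algebra.IsAlgebraic A S := hu.isAlgebraic
  haveI : Finite u := (G.finite_toSet.subset huG).to_subtype
  haveI : Algebra.FinitePresentation R A := Algebra.FinitePresentation.equiv hu.1.aevalEquiv
  haveI : Algebra.FiniteType A S := Algebra.FiniteType.of_restrictScalars_finiteType R A S
  obtain ⟨g, r, b, hg0, hb, hspan⟩ := gf1 (A := A) (S := S)
  have hinjA : Function.Injective (algebraMap A S) := Subtype.val_injective
  refine ⟨1, (g : S), one_ne_zero, fun h => hg0 (Subtype.ext h), ?_⟩
  intro Rf Sfg _ _ _ _ _ _ _ _ _ _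
  haveI : IsLocalization.Away (algebraMap A S g) Sfg := by
    have h : algebraMap R S 1 * (g : S) = algebraMap A S g := by
      rw [map_one, one_mul]; rfl
    rw [← h]; infer_instance
  haveI : IsScalarTower A S Sfg := inferInstance
  have hunit : IsUnit (algebraMap A Sfg g) :=
    IsLocalization.Away.algebraMap_isUnit (S := Sfg) (algebraMap A S g)
  letI : Algebra (Localization.Away g) Sfg := (IsLocalization.Away.lift g hunit).toAlgebra
  haveI : IsScalarTower A (Localization.Away g) Sfg :=
    IsScalarTower.of_algebraMap_eq (fun a => (IsLocalization.Away.lift_eq g hunit a).symm)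
  obtain ⟨hfree, hfin⟩ := gf2 hinjA g hg0 r b hb hspan (Localization.Away g) Sfg
  haveI : Algebra.FinitePresentation A (Localization.Away g) :=
    IsLocalization.Away.finitePresentation g
  haveI : Algebra.FinitePresentation R (Localization.Away g) :=
    Algebra.FinitePresentation.trans R A (Localization.Away g)
  haveI : Module.FinitePresentation (Localization.Away g) Sfg :=
    Module.finitePresentation_of_projective _ _
  haveI : Algebra.FinitePresentation (Localization.Away g) Sfg :=
    Algebra.FinitePresentation.of_finitePresentation _ _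
  haveI : IsScalarTower R A Sfg := by
    refine IsScalarTower.of_algebraMap_eq (fun x => ?_)
    rw [IsScalarTower.algebraMap_apply R S Sfg, IsScalarTower.algebraMap_apply A S Sfg,
      ← IsScalarTower.algebraMap_apply R A S]
  haveI : IsScalarTower R (Localization.Away g) Sfg := by
    refine IsScalarTower.of_algebraMap_eq (fun x => ?_)
    rw [IsScalarTower.algebraMap_apply R A (Localization.Away g),
      ← IsScalarTower.algebraMap_apply A (Localization.Away g) Sfg,
      ← IsScalarTower.algebraMap_apply R A Sfg]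
  haveI : Algebra.FinitePresentation R Sfg :=
    Algebra.FinitePresentation.trans R (Localization.Away g) Sfg
  haveI : Algebra.FiniteType R Rf := by
    haveI : Algebra.FinitePresentation R Rf := IsLocalization.Away.finitePresentation (1 : R)
    infer_instance
  exact Algebra.FinitePresentation.of_restrict_scalars_finitePresentation R Rf Sfg

end Groth.Agent.S2140
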