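import Groth.Statements.S2145
import Mathlib
import Groth.Agent.Lib.helper3.SpreadOut
-- import your own Groth.Agent.* helpers here

set_option autoImplicit false
universe u
open CAlg

namespace Groth.Agent.S2145

open Groth.Agent.Lib.helper3

theorem awayTo_awayToAway {T TW : Type u} [CommRing T] [CommRing TW] [Algebra T TW]
    (W : Submonoid T) [IsLocalization W TW] (s w : T) (hs : s ∈ W) (hw : w ∈ W) (h : s ∣ w)
    (y : Localization.Away s) :
    SpreadOut.awayTo (TW := TW) W w hw (SpreadOut.awayToAway s w h y) =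
      SpreadOut.awayTo (TW := TW) W s hs y := by
  have : ((SpreadOut.awayTo (TW := TW) W w hw).comp (SpreadOut.awayToAway s w h)) =
      SpreadOut.awayTo (TW := TW) W s hs :=
    (IsLocalization.algHom_subsingleton (Submonoid.powers s)).elim _ _
  exact AlgHom.congr_fun this y

/-- **Lemma U**: two maps from a finite type algebra into `T_{w₁}` which agree in `TW` agree in
some `T_w`. -/
theorem exists_eq {R S T TW : Type u} [CommRing R] [CommRing S] [CommRing T] [CommRing TW]
    [Algebra R S] [Algebra R T] [Algebra T TW] (W : Submonoid T) [IsLocalization W TW]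
    [Algebra.FiniteType R S] (w₁ : T) (hw₁ : w₁ ∈ W)
    (γ₁ γ₂ : S →ₐ[R] Localization.Away w₁)
    (h : ∀ x, SpreadOut.awayTo (TW := TW) W w₁ hw₁ (γ₁ x) =
      SpreadOut.awayTo (TW := TW) W w₁ hw₁ (γ₂ x)) :
    ∃ (w : T) (_ : w ∈ W) (hd : w₁ ∣ w), ∀ x,
      SpreadOut.awayToAway w₁ w hd (γ₁ x) = SpreadOut.awayToAway w₁ w hd (γ₂ x) := by
  classical
  obtain ⟨G, hG⟩ := (inferInstance : Algebra.FiniteType R S).out
  have h1 : ∀ x : S, ∃ c : T, c ∈ W ∧ ∀ (w : T) (hd : w₁ ∣ w), c ∣ w →
      SpreadOut.awayToAway w₁ w hd (γ₁ x) = SpreadOut.awayToAway w₁ w hd (γ₂ x) := by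
    intro x
    obtain ⟨k, b, hb⟩ := IsLocalization.Away.surj w₁ (γ₁ x - γ₂ x)
    have hb0 : algebraMap T TW b = 0 := by
      have := congrArg (SpreadOut.awayTo (TW := TW) W w₁ hw₁) hb
      rw [AlgHom.commutes, map_mul, map_sub, h x, sub_self, zero_mul] at this
      exact this.symm
    obtain ⟨c, hc⟩ := (IsLocalization.map_eq_zero_iff W TW b).mp hb0
    refine ⟨c, c.2, ?_⟩
    intro w hd hcw
    have h2 := congrArg (SpreadOut.awayToAway w₁ w hd) hb
    rw [AlgHom.commutes, map_mul, map_pow, AlgHom.commutes] at h2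
    have hb' : algebraMap T (Localization.Away w) b = 0 := by
      have hu : IsUnit (algebraMap T (Localization.Away w) c) :=
        IsLocalization.Away.isUnit_of_dvd w hcw
      apply hu.mul_left_cancel
      rw [← map_mul, hc, map_zero, mul_zero]
    rw [hb'] at h2
    have hu : IsUnit (algebraMap T (Localization.Away w) w₁ ^ k) :=
      (IsLocalization.Away.isUnit_of_dvd w hd).pow k
    have h3 := (hu.mul_left_eq_zero).mp h2
    rwa [map_sub, sub_eq_zero] at h3
  choose c hcW hc using h1
  refine ⟨w₁ * ∏ x ∈ G, c x, W.mul_mem hw₁ (W.prod_mem fun x _ => hcW x), Dvd.intro _ rfl, ?_⟩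
  intro x
  have hx : x ∈ Algebra.adjoin R (G : Set S) := by rw [hG]; trivial
  induction hx using Algebra.adjoin_induction with
  | mem y hy => exact hc y _ _ (Dvd.dvd.mul_left (Finset.dvd_prod_of_mem c hy) _)
  | algebraMap r => rw [AlgHom.commutes, AlgHom.commutes]
  | add x y _ _ hx hy => rw [map_add, map_add, map_add, map_add, hx, hy]
  | mul x y _ _ hx hy => rw [map_mul, map_mul, map_mul, map_mul, hx, hy]

/-- **Lemma K**: a surjection whose kernel is killed by `c'` becomes bijective after inverting
`c'`. -/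
theorem bijective_map_of_ker_killed {R B' B C' C : Type u} [CommRing R] [CommRing B'] [CommRing B]
    [CommRing C'] [CommRing C] [Algebra R B'] [Algebra R B] [Algebra B' C'] [Algebra R C']
    [IsScalarTower R B' C'] [Algebra B C] [Algebra R C] [IsScalarTower R B C]
    (ψ : B' →ₐ[R] B) (hψ : Function.Surjective ψ) (c' : B') (hc' : ∀ x, ψ x = 0 → c' * x = 0)
    [IsLocalization.Away c' C'] [IsLocalization.Away (ψ c') C] :
    Function.Bijective (IsLocalization.Away.mapₐ C' C ψ c') := by
  refine ⟨?_, IsLocalization.Away.mapₐ_surjective_of_surjective c' hψ⟩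
  rw [injective_iff_map_eq_zero]
  intro z hz
  obtain ⟨n, y, hy⟩ := IsLocalization.Away.surj c' z
  have h1 : algebraMap B C (ψ y) = 0 := by
    have h0 := congrArg (IsLocalization.Away.mapₐ C' C ψ c') hy
    rw [map_mul, hz, zero_mul] at h0
    rw [IsLocalization.Away.mapₐ_apply, IsLocalization.Away.map, IsLocalization.map_eq] at h0
    exact h0.symm
  obtain ⟨⟨_, m, rfl⟩, hm⟩ :=
    (IsLocalization.map_eq_zero_iff (Submonoid.powers (ψ c')) C (ψ y)).mp h1
  have h2 : c' * (c' ^ m * y) = 0 := hc' _ (by rw [map_mul, map_pow]; exact hm)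
  have h3 : algebraMap B' C' y = 0 := by
    have hu : IsUnit (algebraMap B' C' (c' * c' ^ m)) := by
      rw [map_mul, map_pow]
      exact (IsLocalization.Away.algebraMap_isUnit c').mul
        ((IsLocalization.Away.algebraMap_isUnit c').pow m)
    apply hu.mul_left_cancel
    rw [← map_mul, mul_assoc, h2, map_zero, mul_zero]
  rw [h3] at hy
  exact ((IsLocalization.Away.algebraMap_pow_isUnit c' n).mul_left_eq_zero).mp hy

/-- Let `S`, `S'` be finitely presented `R`-algebras and `𝔮 ⊆ S`, `𝔮' ⊆ S'` primes with `S_𝔮 ≅ S'_{𝔮'}`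
as `R`-algebras. Then `S_g ≅ S'_{g'}` as `R`-algebras for some `g ∉ 𝔮`, `g' ∉ 𝔮'`. -/
theorem result {R S S' : Type u} [CommRing R] [CommRing S] [CommRing S'] [Algebra R S]
    [Algebra R S'] [Algebra.FinitePresentation R S] [Algebra.FinitePresentation R S'] (q : Ideal S) [q.IsPrime]
    (q' : Ideal S') [q'.IsPrime] (e : Localization.AtPrime q ≃ₐ[R] Localization.AtPrime q') :
    ∃ (g : S) (g' : S'), g ∉ q ∧ g' ∉ q' ∧ Nonempty (Localization.Away g ≃ₐ[R] Localization.Away g') := by
  classical
  -- Step 1
  let α₁ : S →ₐ[R] Localization.AtPrime q' :=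
    e.toAlgHom.comp (IsScalarTower.toAlgHom R S (Localization.AtPrime q))
  obtain ⟨w', hw', β, hβ⟩ := SpreadOut.exists_lift (R := R) (S := S) (T := S')
    (TW := Localization.AtPrime q') q'.primeCompl α₁
  have hβ' : ∀ x, SpreadOut.awayTo (TW := Localization.AtPrime q') q'.primeCompl w' hw' (β x) =
      e (algebraMap S (Localization.AtPrime q) x) := hβ
  -- Step 2
  haveI : Algebra.FinitePresentation S' (Localization.Away w') :=
    IsLocalization.Away.finitePresentation w'
  haveI : Algebra.FinitePresentation R (Localization.Away w') :=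
    Algebra.FinitePresentation.trans R S' (Localization.Away w')
  let α₂ : Localization.Away w' →ₐ[R] Localization.AtPrime q :=
    e.symm.toAlgHom.comp
      ((SpreadOut.awayTo (TW := Localization.AtPrime q') q'.primeCompl w' hw').restrictScalars R)
  obtain ⟨g₀, hg₀, ψ₀, hψ₀⟩ := SpreadOut.exists_lift (R := R) (S := Localization.Away w') (T := S)
    (TW := Localization.AtPrime q) q.primeCompl α₂
  have hψ₀' : ∀ y, SpreadOut.awayTo (TW := Localization.AtPrime q) q.primeCompl g₀ hg₀ (ψ₀ y) =
      e.symm (SpreadOut.awayTo (TW := Localization.AtPrime q') q'.primeCompl w' hw' y) := hψ₀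
  -- Step 3
  obtain ⟨g, hg, hd, hgeq⟩ := exists_eq (R := R) (S := S) (T := S) (TW := Localization.AtPrime q)
    q.primeCompl g₀ hg₀ (ψ₀.comp β) (IsScalarTower.toAlgHom R S (Localization.Away g₀)) (by
      intro x
      rw [AlgHom.comp_apply, hψ₀', hβ', e.symm_apply_apply, IsScalarTower.toAlgHom_apply,
        AlgHom.commutes])
  let ψ : Localization.Away w' →ₐ[R] Localization.Away g :=
    ((SpreadOut.awayToAway g₀ g hd).restrictScalars R).comp ψ₀
  have hψβ : ∀ x, ψ (β x) = algebraMap S (Localization.Away g) x := by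
    intro x
    have := hgeq x
    rw [IsScalarTower.toAlgHom_apply, AlgHom.commutes] at this
    exact this
  have hψL : ∀ y, SpreadOut.awayTo (TW := Localization.AtPrime q) q.primeCompl g hg (ψ y) =
      e.symm (SpreadOut.awayTo (TW := Localization.AtPrime q') q'.primeCompl w' hw' y) := by
    intro y
    rw [← hψ₀']
    exact awayTo_awayToAway q.primeCompl g₀ g hg₀ hg hd (ψ₀ y)
  -- Step 4
  obtain ⟨m, a', ha'⟩ := IsLocalization.Away.surj w' (β g)
  have hgu : IsUnit (algebraMap S (Localization.AtPrime q) g) :=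
    IsLocalization.map_units (Localization.AtPrime q) (⟨g, hg⟩ : q.primeCompl)
  have hw'u : IsUnit (algebraMap S' (Localization.AtPrime q') w') :=
    IsLocalization.map_units (Localization.AtPrime q') (⟨w', hw'⟩ : q'.primeCompl)
  have ha'q : a' ∈ q'.primeCompl := by
    have h1 := congrArg (SpreadOut.awayTo (TW := Localization.AtPrime q') q'.primeCompl w' hw') ha'
    rw [map_mul, map_pow, AlgHom.commutes, AlgHom.commutes, hβ'] at h1
    have h2 : IsUnit (algebraMap S' (Localization.AtPrime q') a') := by
      rw [← h1]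
      exact (hgu.map e).mul (hw'u.pow m)
    exact fun hmem =>
      (IsLocalization.AtPrime.isUnit_to_map_iff (Localization.AtPrime q') q' a').mp h2 hmem
  set g'₁ : S' := w' * a' with hg'₁def
  have hg'₁ : g'₁ ∈ q'.primeCompl := q'.primeCompl.mul_mem hw' ha'q
  let f : S' →ₐ[R] Localization.Away g :=
    ψ.comp (IsScalarTower.toAlgHom R S' (Localization.Away w'))
  have hfw' : IsUnit (ψ (algebraMap S' (Localization.Away w') w')) :=
    (IsLocalization.Away.algebraMap_isUnit w').map ψ
  have hfa' : IsUnit (ψ (algebraMap S' (Localization.Away w') a')) := by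
    rw [← ha', map_mul, map_pow, hψβ]
    exact (IsLocalization.Away.algebraMap_isUnit g).mul (hfw'.pow m)
  have hunit : IsUnit (f g'₁) := by
    show IsUnit (ψ (algebraMap S' (Localization.Away w') (w' * a')))
    rw [map_mul, map_mul]
    exact hfw'.mul hfa'
  let ψ₁ : Localization.Away g'₁ →ₐ[R] Localization.Away g :=
    IsLocalization.Away.liftAlgHom (A := R) (R := S') (S := Localization.Away g'₁) g'₁ (f := f) hunit
  have hψ₁ : ∀ y : S', ψ₁ (algebraMap S' (Localization.Away g'₁) y) =
      ψ (algebraMap S' (Localization.Away w') y) := fun y =>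
    IsLocalization.Away.lift_eq g'₁ hunit y
  have hw'g'₁ : w' ∣ g'₁ := Dvd.intro _ rfl
  have hψ₁ι : ∀ z : Localization.Away w', ψ₁ (SpreadOut.awayToAway w' g'₁ hw'g'₁ z) = ψ z := by
    have : ψ₁.toRingHom.comp (SpreadOut.awayToAway w' g'₁ hw'g'₁).toRingHom = ψ.toRingHom := by
      apply IsLocalization.ringHom_ext (Submonoid.powers w')
      ext y
      show ψ₁ (SpreadOut.awayToAway w' g'₁ hw'g'₁ (algebraMap S' (Localization.Away w') y)) =
        ψ (algebraMap S' (Localization.Away w') y)
      rw [AlgHom.commutes, hψ₁]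
    exact fun z => RingHom.congr_fun this z
  have hsurj : Function.Surjective ψ₁ := by
    intro z
    obtain ⟨n, x, hx⟩ := IsLocalization.Away.surj g z
    set u := SpreadOut.awayToAway w' g'₁ hw'g'₁ (β g) with hu
    have hψ₁u : ψ₁ u = algebraMap S (Localization.Away g) g := by rw [hu, hψ₁ι, hψβ]
    have huu : IsUnit u := by
      have h1 : u * algebraMap S' (Localization.Away g'₁) w' ^ m =
          algebraMap S' (Localization.Away g'₁) a' := by
        have := congrArg (SpreadOut.awayToAway w' g'₁ hw'g'₁) ha'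
        rwa [map_mul, map_pow, AlgHom.commutes, AlgHom.commutes] at this
      have h2 : IsUnit (algebraMap S' (Localization.Away g'₁) a') :=
        IsLocalization.Away.isUnit_of_dvd g'₁ (Dvd.intro_left _ rfl)
      rw [← h1] at h2
      exact isUnit_of_mul_isUnit_left h2
    obtain ⟨uu, huu'⟩ := huu
    refine ⟨SpreadOut.awayToAway w' g'₁ hw'g'₁ (β x) * (↑uu⁻¹ : Localization.Away g'₁) ^ n, ?_⟩
    have h3 : algebraMap S (Localization.Away g) g * ψ₁ (↑uu⁻¹ : Localization.Away g'₁) = 1 := by
      rw [← hψ₁u, ← huu', ← map_mul, Units.mul_inv, map_one]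
    rw [map_mul, map_pow, hψ₁ι, hψβ, ← hx, mul_assoc, ← mul_pow, h3, one_pow, mul_one]
  -- Step 5
  haveI : Algebra.FinitePresentation S' (Localization.Away g'₁) :=
    IsLocalization.Away.finitePresentation g'₁
  haveI : Algebra.FinitePresentation R (Localization.Away g'₁) :=
    Algebra.FinitePresentation.trans R S' (Localization.Away g'₁)
  haveI : Algebra.FinitePresentation S (Localization.Away g) :=
    IsLocalization.Away.finitePresentation g
  haveI : Algebra.FinitePresentation R (Localization.Away g) :=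
    Algebra.FinitePresentation.trans R S (Localization.Away g)
  have hker : (RingHom.ker ψ₁.toRingHom).FG :=
    Algebra.FinitePresentation.ker_fG_of_surjective ψ₁ hsurj
  -- Step 6
  have hLL : ∀ z : Localization.Away g'₁,
      e (SpreadOut.awayTo (TW := Localization.AtPrime q) q.primeCompl g hg (ψ₁ z)) =
        SpreadOut.awayTo (TW := Localization.AtPrime q') q'.primeCompl g'₁ hg'₁ z := by
    have : ((e : Localization.AtPrime q →+* Localization.AtPrime q').comp
        ((SpreadOut.awayTo (TW := Localization.AtPrime q) q.primeCompl g hg).toRingHom.comp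
          ψ₁.toRingHom)) =
        (SpreadOut.awayTo (TW := Localization.AtPrime q') q'.primeCompl g'₁ hg'₁).toRingHom := by
      apply IsLocalization.ringHom_ext (Submonoid.powers g'₁)
      ext y
      show e (SpreadOut.awayTo (TW := Localization.AtPrime q) q.primeCompl g hg
        (ψ₁ (algebraMap S' (Localization.Away g'₁) y))) =
        SpreadOut.awayTo (TW := Localization.AtPrime q') q'.primeCompl g'₁ hg'₁
          (algebraMap S' (Localization.Away g'₁) y)
      rw [hψ₁, hψL, e.apply_symm_apply, AlgHom.commutes, AlgHom.commutes]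
    exact fun z => RingHom.congr_fun this z
  have kill : ∀ x : Localization.Away g'₁, ψ₁ x = 0 → ∃ c : S', c ∈ q'.primeCompl ∧
      algebraMap S' (Localization.Away g'₁) c * x = 0 := by
    intro x hx
    obtain ⟨n, y, hy⟩ := IsLocalization.Away.surj g'₁ x
    have h1 : algebraMap S' (Localization.AtPrime q') y = 0 := by
      have := congrArg (SpreadOut.awayTo (TW := Localization.AtPrime q') q'.primeCompl g'₁ hg'₁) hy
      rw [map_mul, ← hLL, hx, map_zero, map_zero, zero_mul, AlgHom.commutes] at this
      exact this.symm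
    obtain ⟨c, hc⟩ := (IsLocalization.map_eq_zero_iff q'.primeCompl _ y).mp h1
    refine ⟨c, c.2, ?_⟩
    have h2 : algebraMap S' (Localization.Away g'₁) c * x *
        algebraMap S' (Localization.Away g'₁) g'₁ ^ n = 0 := by
      rw [mul_assoc, hy, ← map_mul, hc, map_zero]
    exact ((IsLocalization.Away.algebraMap_pow_isUnit g'₁ n).mul_left_eq_zero).mp h2
  obtain ⟨F, hF⟩ := hker
  choose! cc hccq hcc using kill
  set c' : S' := ∏ x ∈ F, cc x with hc'def
  have hc'q : c' ∈ q'.primeCompl := by
    apply Submonoid.prod_mem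
    intro x hx
    apply hccq
    have : x ∈ RingHom.ker ψ₁.toRingHom := by rw [← hF]; exact Ideal.subset_span hx
    exact this
  have hkill : ∀ x : Localization.Away g'₁, ψ₁ x = 0 →
      algebraMap S' (Localization.Away g'₁) c' * x = 0 := by
    intro x hx
    have hxk : x ∈ RingHom.ker ψ₁.toRingHom := hx
    rw [← hF] at hxk
    refine Submodule.span_induction ?_ ?_ ?_ ?_ hxk
    · intro y hy
      have hy0 : ψ₁ y = 0 := by
        have : y ∈ RingHom.ker ψ₁.toRingHom := by rw [← hF]; exact Ideal.subset_span hy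
        exact this
      obtain ⟨d, hd'⟩ := Finset.dvd_prod_of_mem cc hy
      rw [hc'def, hd', map_mul, mul_comm (algebraMap S' (Localization.Away g'₁) (cc y)), mul_assoc,
        hcc y hy0, mul_zero]
    · exact mul_zero _
    · intro a b _ _ ha hb; rw [mul_add, ha, hb, add_zero]
    · intro r a _ ha; rw [smul_eq_mul, mul_left_comm, ha, mul_zero]
  -- Step 7
  set b' : Localization.Away g'₁ := algebraMap S' (Localization.Away g'₁) c' with hb'def
  have hbij := bijective_map_of_ker_killed (R := R) (C' := Localization.Away b')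
    (C := Localization.Away (ψ₁ b')) ψ₁ hsurj b' hkill
  let E₁ : Localization.Away b' ≃ₐ[R] Localization.Away (ψ₁ b') := AlgEquiv.ofBijective _ hbij
  -- Step 8
  haveI : IsLocalization.Away (c' * g'₁) (Localization.Away b') := by
    rw [hb'def]; infer_instance
  let E₂ : Localization.Away (c' * g'₁) ≃ₐ[S'] Localization.Away b' :=
    IsLocalization.algEquiv (Submonoid.powers (c' * g'₁)) _ _
  obtain ⟨n, c, hc⟩ := IsLocalization.Away.surj g (ψ₁ b')
  have hassoc : Associated (algebraMap S (Localization.Away g) c) (ψ₁ b') := by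
    obtain ⟨uu, huu⟩ := IsLocalization.Away.algebraMap_pow_isUnit (S := Localization.Away g) g n
    refine Associated.symm ⟨uu, ?_⟩
    rw [huu, hc]
  haveI : IsLocalization.Away (g * c) (Localization.Away (ψ₁ b')) :=
    IsLocalization.Away.mul_of_associated g c (ψ₁ b') hassoc
  let E₃ : Localization.Away (g * c) ≃ₐ[S] Localization.Away (ψ₁ b') :=
    IsLocalization.algEquiv (Submonoid.powers (g * c)) _ _
  have hcq : c ∈ q.primeCompl := by
    have h1 := congrArg (SpreadOut.awayTo (TW := Localization.AtPrime q) q.primeCompl g hg) hc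
    rw [map_mul, map_pow, AlgHom.commutes, AlgHom.commutes] at h1
    have h2 : IsUnit (SpreadOut.awayTo (TW := Localization.AtPrime q) q.primeCompl g hg (ψ₁ b')) := by
      have h3 : IsUnit (e (SpreadOut.awayTo (TW := Localization.AtPrime q) q.primeCompl g hg
          (ψ₁ b'))) := by
        rw [hLL, hb'def, AlgHom.commutes]
        exact IsLocalization.map_units (Localization.AtPrime q') (⟨c', hc'q⟩ : q'.primeCompl)
      have := h3.map e.symm
      rwa [e.symm_apply_apply] at this
    have h4 : IsUnit (algebraMap S (Localization.AtPrime q) c) := by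
      rw [← h1]
      exact h2.mul (hgu.pow n)
    exact fun hmem =>
      (IsLocalization.AtPrime.isUnit_to_map_iff (Localization.AtPrime q) q c).mp h4 hmem
  refine ⟨g * c, c' * g'₁, q.primeCompl.mul_mem hg hcq, q'.primeCompl.mul_mem hc'q hg'₁, ⟨?_⟩⟩
  exact (E₃.restrictScalars R).trans (E₁.symm.trans (E₂.restrictScalars R).symm)

end Groth.Agent.S2145
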