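import Groth.Statements.S2146
import Mathlib
import Groth.Agent.Lib.helper3.SpreadOut
-- import your own Groth.Agent.* helpers here

set_option autoImplicit false
universe u
open CAlg

namespace Groth.Agent.S2146

open Groth.Agent.Lib.helper3

/-- stage 1 data. -/
theorem stage1 {R S : Type u} [CommRing R] [CommRing S] [Algebra R S]
    [Algebra.FinitePresentation R S] (q : Ideal S) [q.IsPrime] (p : Ideal R) [p.IsPrime] [q.LiesOver p]
    (h : Function.Bijective (Localization.localRingHom p q (algebraMap R S) (q.over_def p))) :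
    ∃ (f₁ : R) (_ : f₁ ∉ p) (β : S →ₐ[R] Localization.Away f₁),
      ∀ j : S, β j = 0 → ∃ (t : S) (c : R), c ∉ p ∧ t * j = 0 ∧
        β t = algebraMap R (Localization.Away f₁) c := by
  let e : Localization.AtPrime p ≃+* Localization.AtPrime q := RingEquiv.ofBijective _ h
  have he : ∀ x, e x = Localization.localRingHom p q (algebraMap R S) (q.over_def p) x := fun x => rfl
  let α : S →ₐ[R] Localization.AtPrime p :=
    { toRingHom := e.symm.toRingHom.comp (algebraMap S (Localization.AtPrime q))
      commutes' := fun r => by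
        show e.symm (algebraMap S (Localization.AtPrime q) (algebraMap R S r)) = _
        rw [RingEquiv.symm_apply_eq, he, Localization.localRingHom_to_map] }
  have hα : ∀ x, e (α x) = algebraMap S (Localization.AtPrime q) x := fun x => e.apply_symm_apply _
  obtain ⟨f₁, hf₁, β, hβ⟩ := SpreadOut.exists_lift (R := R) (S := S) (T := R)
    (TW := Localization.AtPrime p) p.primeCompl α
  refine ⟨f₁, hf₁, β, ?_⟩
  intro j hj
  have h1 : algebraMap S (Localization.AtPrime q) j = 0 := by
    rw [← hα, ← hβ, hj, map_zero, map_zero]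
  obtain ⟨t, ht⟩ := (IsLocalization.map_eq_zero_iff q.primeCompl (Localization.AtPrime q) j).mp h1
  obtain ⟨c, ⟨_, m, rfl⟩, hcm⟩ := IsLocalization.exists_mk'_eq (Submonoid.powers f₁) (β t)
  have h2 : algebraMap R (Localization.Away f₁) c =
      β t * algebraMap R (Localization.Away f₁) (f₁ ^ m) := by
    rw [← hcm, IsLocalization.mk'_spec]
  refine ⟨f₁ ^ m • (t : S), c, ?_, ?_, ?_⟩
  · -- c ∉ p
    have h3 : (f₁ ^ m • (t : S)) ∉ q := by
      rw [Algebra.smul_def]
      intro hmem
      rcases Ideal.IsPrime.mem_or_mem inferInstance hmem with h4 | h4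
      · have : f₁ ^ m ∈ p := by
          rw [q.over_def p]; exact h4
        exact hf₁ (Ideal.IsPrime.mem_of_pow_mem inferInstance _ this)
      · exact t.2 h4
    have h4 : IsUnit (algebraMap S (Localization.AtPrime q) (f₁ ^ m • (t : S))) :=
      IsLocalization.map_units (Localization.AtPrime q) (⟨_, h3⟩ : q.primeCompl)
    rw [← hα] at h4
    have h5 : IsUnit (α (f₁ ^ m • (t : S))) := by
      have := h4.map e.symm
      simpa using this
    rw [← hβ, map_smul, Algebra.smul_def, mul_comm, ← h2] at h5
    have h6 : SpreadOut.awayTo (TW := Localization.AtPrime p) p.primeCompl f₁ hf₁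
        (algebraMap R (Localization.Away f₁) c) = algebraMap R (Localization.AtPrime p) c :=
      AlgHom.commutes _ c
    rw [h6] at h5
    exact fun hc => (IsLocalization.AtPrime.isUnit_to_map_iff (Localization.AtPrime p) p c).mp h5 hc
  · rw [smul_mul_assoc, ht, smul_zero]
  · rw [map_smul, Algebra.smul_def, mul_comm, ← h2]
/-- the kernel of a retraction `A → R` is generated by `x - β x` for `x` in a generating set. -/
theorem ker_eq_span {R A : Type u} [CommRing R] [CommRing A] [Algebra R A] (β : A →ₐ[R] R)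
    (G : Set A) (hG : Algebra.adjoin R G = ⊤) :
    RingHom.ker β.toRingHom = Ideal.span ((fun x => x - algebraMap R A (β x)) '' G) := by
  set I : Ideal A := Ideal.span ((fun x => x - algebraMap R A (β x)) '' G) with hI
  apply le_antisymm
  · intro y hy
    have hy0 : β y = 0 := hy
    have key : ∀ z : A, z - algebraMap R A (β z) ∈ I := by
      intro z
      have hz : z ∈ Algebra.adjoin R G := by rw [hG]; trivial
      induction hz using Algebra.adjoin_induction with
      | mem x hx => exact Ideal.subset_span ⟨x, hx, rfl⟩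
      | algebraMap r => rw [AlgHom.commutes, Algebra.algebraMap_self_apply, sub_self]; exact I.zero_mem
      | add x y _ _ hx hy =>
        have : x + y - algebraMap R A (β (x + y)) =
            (x - algebraMap R A (β x)) + (y - algebraMap R A (β y)) := by
          rw [map_add, map_add]; ring
        rw [this]; exact I.add_mem hx hy
      | mul x y _ _ hx hy =>
        have : x * y - algebraMap R A (β (x * y)) =
            (x - algebraMap R A (β x)) * y + algebraMap R A (β x) * (y - algebraMap R A (β y)) := by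
          rw [map_mul, map_mul]; ring
        rw [this]
        exact I.add_mem (I.mul_mem_right _ hx) (I.mul_mem_left _ hy)
    have := key y
    rwa [hy0, map_zero, sub_zero] at this
  · rw [hI, Ideal.span_le]
    rintro _ ⟨x, _, rfl⟩
    show β (x - algebraMap R A (β x)) = 0
    rw [map_sub, AlgHom.commutes, Algebra.algebraMap_self_apply, sub_self]

/-- product decomposition from a retraction with idempotent finitely generated kernel. -/
theorem exists_prod {R A : Type u} [CommRing R] [CommRing A] [Algebra R A] (β : A →ₐ[R] R)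
    (hfg : (RingHom.ker β.toRingHom).FG)
    (hJ : RingHom.ker β.toRingHom ≤ RingHom.ker β.toRingHom * RingHom.ker β.toRingHom) :
    ∃ (C : Type u) (_ : CommRing C) (_ : Algebra R C), Nonempty (A ≃ₐ[R] (R × C)) := by
  set J := RingHom.ker β.toRingHom with hJdef
  have hidem : IsIdempotentElem J := le_antisymm Ideal.mul_le_right hJ
  obtain ⟨e, he, hJe⟩ := (Ideal.isIdempotentElem_iff_of_fg J hfg).mp hidem
  have hβ : Function.Surjective β := fun r => ⟨algebraMap R A r, by rw [AlgHom.commutes]; rfl⟩
  let e1 : A ≃ₐ[R] (A ⧸ Ideal.span {e}) × (A ⧸ Ideal.span {1 - e}) :=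
    AlgEquiv.prodQuotientOfIsIdempotentElem R he he.one_sub (by ring) (by
      rw [mul_sub, mul_one, he.eq, sub_self])
  have hJe' : Ideal.span {e} = RingHom.ker β.toRingHom := hJe.symm
  let e2 : (A ⧸ Ideal.span {e}) ≃ₐ[R] R :=
    (Ideal.quotientEquivAlgOfEq R hJe').trans (Ideal.quotientKerAlgEquivOfSurjective hβ)
  exact ⟨A ⧸ Ideal.span {1 - e}, inferInstance, inferInstance,
    ⟨e1.trans (AlgEquiv.prodCongr e2 AlgEquiv.refl)⟩⟩


/-- the map `R_{f₁} → Rf` for `f₁ ∣ f`. -/
noncomputable def rho {R : Type u} [CommRing R] (f₁ f : R) (hf : f₁ ∣ f) (Rf : Type u) [CommRing Rf]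
    [Algebra R Rf] [IsLocalization.Away f Rf] : Localization.Away f₁ →ₐ[R] Rf :=
  IsLocalization.Away.liftAlgHom (A := R) (R := R) f₁ (f := Algebra.ofId R Rf)
    (IsLocalization.Away.isUnit_of_dvd f hf)

/-- stage 2: the induced retraction over `Rf`. -/
theorem stage2 {R S : Type u} [CommRing R] [CommRing S] [Algebra R S] (f₁ : R)
    (β : S →ₐ[R] Localization.Away f₁) (f : R) (hf : f₁ ∣ f)
    (Rf Sf : Type u) [CommRing Rf] [CommRing Sf] [Algebra R Rf] [IsLocalization.Away f Rf]
    [Algebra S Sf] [IsLocalization.Away (algebraMap R S f) Sf] [Algebra Rf Sf] [Algebra R Sf]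
    [IsScalarTower R S Sf] [IsScalarTower R Rf Sf] :
    ∃ βf : Sf →ₐ[Rf] Rf, ∀ x : S, βf (algebraMap S Sf x) = rho f₁ f hf Rf (β x) := by
  let β' : S →ₐ[R] Rf := (rho f₁ f hf Rf).comp β
  have hu : IsUnit (β'.toRingHom (algebraMap R S f)) := by
    show IsUnit (β' (algebraMap R S f))
    rw [AlgHom.commutes]
    exact IsLocalization.Away.algebraMap_isUnit f
  let g : Sf →+* Rf := IsLocalization.Away.lift (algebraMap R S f) hu
  have hg : ∀ x : S, g (algebraMap S Sf x) = β' x := fun x => IsLocalization.Away.lift_eq _ hu x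
  have hcomm : ∀ y : Rf, g (algebraMap Rf Sf y) = y := by
    have : (g.comp (algebraMap Rf Sf)) = RingHom.id Rf := by
      apply IsLocalization.ringHom_ext (Submonoid.powers f)
      ext r
      simp only [RingHom.comp_apply, RingHom.id_apply]
      rw [← IsScalarTower.algebraMap_apply R Rf Sf, IsScalarTower.algebraMap_apply R S Sf, hg,
        AlgHom.commutes]
    exact fun y => RingHom.congr_fun this y
  exact ⟨{ toRingHom := g, commutes' := hcomm }, fun x => hg x⟩

/-- Let `S` be a finitely presented `R`-algebra and `𝔮` a prime of `S` over `𝔭` such that the induced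
map `R_𝔭 → S_𝔮` is bijective. Then for some `f ∉ 𝔭` there is an `R_f`-algebra `C` with `S_f ≅ R_f ×
C` as `R_f`-algebras. -/
theorem result {R S : Type u} [CommRing R] [CommRing S] [Algebra R S]
    [Algebra.FinitePresentation R S] (q : Ideal S) [q.IsPrime] (p : Ideal R) [p.IsPrime] [q.LiesOver p]
    (h : Function.Bijective (Localization.localRingHom p q (algebraMap R S) (q.over_def p))) :
    ∃ f : R, f ∉ p ∧ ∀ (Rf Sf : Type u) [CommRing Rf] [CommRing Sf] [Algebra R Rf] [IsLocalization.Away f Rf]
      [Algebra S Sf] [IsLocalization.Away (algebraMap R S f) Sf] [Algebra Rf Sf] [Algebra R Sf] [IsScalarTower R S Sf]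
      [IsScalarTower R Rf Sf],
      ∃ (C : Type u) (_ : CommRing C) (_ : Algebra Rf C), Nonempty (Sf ≃ₐ[Rf] (Rf × C)) := by
  classical
  obtain ⟨f₁, hf₁, β, hβ⟩ := stage1 q p h
  obtain ⟨G, hG⟩ := (inferInstance : Algebra.FiniteType R S).out
  have h1 : ∀ x : S, ∃ (a : R) (k : ℕ),
      β x * algebraMap R (Localization.Away f₁) (f₁ ^ k) = algebraMap R (Localization.Away f₁) a := by
    intro x
    obtain ⟨a, ⟨_, k, rfl⟩, hak⟩ := IsLocalization.exists_mk'_eq (Submonoid.powers f₁) (β x)
    exact ⟨a, k, by rw [← hak, IsLocalization.mk'_spec]⟩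
  choose a k hak using h1
  have hj : ∀ x, β (f₁ ^ k x • x - algebraMap R S (a x)) = 0 := by
    intro x
    rw [map_sub, map_smul, Algebra.smul_def, AlgHom.commutes, mul_comm, hak, sub_self]
  choose t c hc ht hβt using fun x => hβ _ (hj x)
  refine ⟨f₁ * ∏ x ∈ G, c x, ?_, ?_⟩
  · intro hmem
    rcases Ideal.IsPrime.mem_or_mem inferInstance hmem with h | h
    · exact hf₁ h
    · obtain ⟨x, _, hx⟩ := (Ideal.IsPrime.prod_mem_iff).mp h
      exact hc x hx
  intro Rf Sf _ _ _ _ _ _ _ _ _ _
  set f := f₁ * ∏ x ∈ G, c x with hfdef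
  have hf₁f : f₁ ∣ f := Dvd.intro _ rfl
  obtain ⟨βf, hβf⟩ := stage2 f₁ β f hf₁f Rf Sf
  -- compatibility of algebra maps
  have hRS : ∀ r : R, algebraMap S Sf (algebraMap R S r) = algebraMap Rf Sf (algebraMap R Rf r) := by
    intro r
    rw [← IsScalarTower.algebraMap_apply R S Sf, IsScalarTower.algebraMap_apply R Rf Sf]
  have hadj : Algebra.adjoin Rf (algebraMap S Sf '' (G : Set S)) = ⊤ := by
    rw [eq_top_iff]
    rintro y -
    have himg : ∀ s : S, algebraMap S Sf s ∈ Algebra.adjoin Rf (algebraMap S Sf '' (G : Set S)) := by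
      intro s
      have hs : s ∈ Algebra.adjoin R (G : Set S) := by rw [hG]; trivial
      induction hs using Algebra.adjoin_induction with
      | mem x hx => exact Algebra.subset_adjoin ⟨x, hx, rfl⟩
      | algebraMap r => rw [hRS]; exact Subalgebra.algebraMap_mem _ _
      | add x y _ _ hx hy => rw [map_add]; exact Subalgebra.add_mem _ hx hy
      | mul x y _ _ hx hy => rw [map_mul]; exact Subalgebra.mul_mem _ hx hy
    obtain ⟨s, ⟨_, n, rfl⟩, rfl⟩ :=
      IsLocalization.exists_mk'_eq (Submonoid.powers (algebraMap R S f)) y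
    have hu : IsUnit (algebraMap R Rf f ^ n) := (IsLocalization.Away.algebraMap_isUnit f).pow n
    obtain ⟨u, hu'⟩ := hu
    have h2 : IsLocalization.mk' Sf s (⟨(algebraMap R S f) ^ n, n, rfl⟩ :
        Submonoid.powers (algebraMap R S f)) = (↑u⁻¹ : Rf) • algebraMap S Sf s := by
      rw [IsLocalization.mk'_eq_iff_eq_mul, Algebra.smul_def]
      show algebraMap S Sf s = _ * algebraMap S Sf ((algebraMap R S f) ^ n)
      rw [← map_pow, hRS, map_pow, ← hu', mul_assoc, mul_comm (algebraMap S Sf s), ← mul_assoc,
        ← map_mul, Units.inv_mul, map_one, one_mul]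
    rw [h2]
    exact Subalgebra.smul_mem _ (himg s) _
  have hker := ker_eq_span βf _ hadj
  apply exists_prod βf
  · rw [hker]
    exact Submodule.fg_span ((G.finite_toSet.image _).image _)
  · have hgen : ∀ x ∈ G, algebraMap S Sf x - algebraMap Rf Sf (βf (algebraMap S Sf x)) ∈
        RingHom.ker βf.toRingHom * RingHom.ker βf.toRingHom := by
      intro x hx
      set J := RingHom.ker βf.toRingHom with hJ
      set x' := algebraMap S Sf x with hx'
      set g := x' - algebraMap Rf Sf (βf x') with hg
      have hgJ : g ∈ J := by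
        show βf g = 0
        rw [hg, map_sub, AlgHom.commutes, Algebra.algebraMap_self_apply, sub_self]
      -- j'
      have hj' : algebraMap S Sf (f₁ ^ k x • x - algebraMap R S (a x)) =
          algebraMap Rf Sf (algebraMap R Rf (f₁ ^ k x)) * g := by
        have e1 : βf (algebraMap S Sf (f₁ ^ k x • x - algebraMap R S (a x))) = 0 := by
          rw [hβf, hj, map_zero]
        rw [Algebra.smul_def, map_sub, map_mul, hRS, hRS, map_sub, map_mul, AlgHom.commutes,
          AlgHom.commutes, Algebra.algebraMap_self_apply, Algebra.algebraMap_self_apply,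
          sub_eq_zero] at e1
        rw [Algebra.smul_def, map_sub, map_mul, hRS, hRS, hg, mul_sub, ← map_mul, e1]
      have htJ : algebraMap S Sf (t x) - algebraMap Rf Sf (algebraMap R Rf (c x)) ∈ J := by
        show βf _ = 0
        rw [map_sub, hβf, hβt, AlgHom.commutes, AlgHom.commutes, Algebra.algebraMap_self_apply,
          sub_self]
      have h3 : (algebraMap S Sf (t x) - algebraMap Rf Sf (algebraMap R Rf (c x))) * g ∈ J * J :=
        Ideal.mul_mem_mul htJ hgJ
      have h4 : algebraMap S Sf (t x) * (algebraMap Rf Sf (algebraMap R Rf (f₁ ^ k x)) * g) = 0 := by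
        rw [← hj', ← map_mul, ht, map_zero]
      have hu1 : IsUnit (algebraMap R Rf (f₁ ^ k x)) := by
        rw [map_pow]; exact (IsLocalization.Away.isUnit_of_dvd f hf₁f).pow _
      have hu2 : IsUnit (algebraMap R Rf (c x)) :=
        IsLocalization.Away.isUnit_of_dvd f ((Finset.dvd_prod_of_mem c hx).mul_left _)
      obtain ⟨u1, hu1'⟩ := hu1
      obtain ⟨u2, hu2'⟩ := hu2
      have h5 : algebraMap Rf Sf (↑u1 * ↑u2) * g ∈ J * J := by
        have : algebraMap Rf Sf (↑u1 * ↑u2) * g =
            algebraMap S Sf (t x) * (algebraMap Rf Sf (algebraMap R Rf (f₁ ^ k x)) * g) -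
            algebraMap Rf Sf (algebraMap R Rf (f₁ ^ k x)) *
              ((algebraMap S Sf (t x) - algebraMap Rf Sf (algebraMap R Rf (c x))) * g) := by
          rw [hu1', hu2', map_mul]; ring
        rw [this, h4, zero_sub]
        exact (J * J).neg_mem ((J * J).mul_mem_left _ h3)
      have h6 : g = algebraMap Rf Sf (↑(u1 * u2)⁻¹ : Rf) * (algebraMap Rf Sf (↑u1 * ↑u2) * g) := by
        rw [← mul_assoc, ← map_mul, ← Units.val_mul, Units.inv_mul, map_one, one_mul]
      rw [h6]
      exact (J * J).mul_mem_left _ h5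
    conv_lhs => rw [hker]
    rw [Ideal.span_le]
    rintro _ ⟨_, ⟨x, hx, rfl⟩, rfl⟩
    exact hgen x hx

end Groth.Agent.S2146
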