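import Groth.Statements.S2149
import Mathlib
-- import your own Groth.Agent.* helpers here

set_option autoImplicit false
universe u
open CAlg

namespace Groth.Agent.S2149

open TensorProduct in
theorem nat_sq {R S M M' : Type u} [CommRing R] [CommRing S] [Algebra R S]
    [AddCommGroup M] [Module S M] [Module R M] [IsScalarTower R S M] [AddCommGroup M'] [Module S M']
    [Module R M'] [IsScalarTower R S M'] (u : M →ₗ[S] M') (P : Submonoid S)
    (Q : Type u) [AddCommGroup Q] [Module R Q] (x : M ⊗[R] Q) :
    (((LocalizedModule.map P u).restrictScalars R).rTensor Q)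
      (TensorProduct.AlgebraTensorModule.rTensor R Q (LocalizedModule.mkLinearMap P M) x) =
    TensorProduct.AlgebraTensorModule.rTensor R Q (LocalizedModule.mkLinearMap P M')
      (((u.restrictScalars R).rTensor Q) x) := by
  induction x using TensorProduct.induction_on with
  | zero => simp
  | tmul a q =>
    simp only [TensorProduct.AlgebraTensorModule.rTensor_tmul, LinearMap.rTensor_tmul,
      LinearMap.restrictScalars_apply, LocalizedModule.mkLinearMap_apply, LocalizedModule.map_mk]
  | add a b ha hb => simp only [map_add, ha, hb]

open TensorProduct in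
theorem smul_comm_map {R S M M' : Type u} [CommRing R] [CommRing S] [Algebra R S]
    [AddCommGroup M] [Module S M] [Module R M] [IsScalarTower R S M] [AddCommGroup M'] [Module S M']
    [Module R M'] [IsScalarTower R S M'] (v : M →ₗ[S] M')
    (Q : Type u) [AddCommGroup Q] [Module R Q] (s : S) (x : M ⊗[R] Q) :
    ((v.restrictScalars R).rTensor Q) (s • x) = s • ((v.restrictScalars R).rTensor Q) x := by
  have h : ∀ y, ((v.restrictScalars R).rTensor Q) y =
      TensorProduct.AlgebraTensorModule.rTensor R Q v y := fun y => rfl
  rw [h, h, map_smul]

/-- Let `R → S` be a ring map and `u : M → M'` a map of `S`-modules. Then `u`, viewed as an `R`-linear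
map, is universally injective exactly when, for every maximal ideal `𝔪` of `S`, the localized map
`M_𝔪 → M'_𝔪` is also universally injective as an `R`-linear map. -/
theorem result {R S M M' : Type u} [CommRing R] [CommRing S] [Algebra R S]
    [AddCommGroup M] [Module S M] [Module R M] [IsScalarTower R S M] [AddCommGroup M'] [Module S M'] [Module R M']
    [IsScalarTower R S M'] (u : M →ₗ[S] M') :
    CAlgX.UniversallyInjective R (u.restrictScalars R) ↔
      ∀ (m : Ideal S) [m.IsMaximal],
        CAlgX.UniversallyInjective R ((LocalizedModule.map m.primeCompl u).restrictScalars R) := by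
  constructor
  · intro H m hm Q _ _
    rw [injective_iff_map_eq_zero]
    intro y hy
    obtain ⟨⟨x, s⟩, hxs⟩ := IsLocalizedModule.surj m.primeCompl
      (TensorProduct.AlgebraTensorModule.rTensor R Q (LocalizedModule.mkLinearMap m.primeCompl M)) y
    simp only at hxs
    have h1 : TensorProduct.AlgebraTensorModule.rTensor R Q
        (LocalizedModule.mkLinearMap m.primeCompl M')
        (((u.restrictScalars R).rTensor Q) x) = 0 := by
      rw [← nat_sq, ← hxs]
      have : ∀ (s' : S) z, (((LocalizedModule.map m.primeCompl u).restrictScalars R).rTensor Q)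
          (s' • z) = s' • (((LocalizedModule.map m.primeCompl u).restrictScalars R).rTensor Q) z := by
        intro s' z
        exact smul_comm_map ((LocalizedModule.map m.primeCompl u).restrictScalars S) Q s' z
      rw [Submonoid.smul_def, this, hy, smul_zero]
    rw [IsLocalizedModule.eq_zero_iff m.primeCompl] at h1
    obtain ⟨s', hs'⟩ := h1
    rw [Submonoid.smul_def, ← smul_comm_map] at hs'
    have h2 : (s' : S) • x = 0 := H Q (hs'.trans (map_zero _).symm)
    have h3 : (s' : S) • (s : S) • y = 0 := by
      rw [← Submonoid.smul_def s y, hxs, ← map_smul, h2, map_zero]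
    have inj := IsLocalizedModule.smul_injective (S := m.primeCompl)
      (TensorProduct.AlgebraTensorModule.rTensor R Q (LocalizedModule.mkLinearMap m.primeCompl M))
    have h4 := inj s' (h3.trans (smul_zero _).symm)
    exact inj s (h4.trans (smul_zero _).symm)
  · intro H Q _ _
    rw [injective_iff_map_eq_zero]
    intro x hx
    by_contra hne
    let J : Ideal S := LinearMap.ker (LinearMap.toSpanSingleton S (TensorProduct R M Q) x)
    have hJmem : ∀ a, a ∈ J ↔ a • x = 0 := fun a => by
      simp [J, LinearMap.mem_ker]
    have hJ : J ≠ ⊤ := by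
      intro hJ
      have : (1 : S) ∈ J := hJ ▸ Submodule.mem_top
      rw [hJmem, one_smul] at this
      exact hne this
    obtain ⟨m, hm, hJm⟩ := Ideal.exists_le_maximal J hJ
    have h1 : TensorProduct.AlgebraTensorModule.rTensor R Q
        (LocalizedModule.mkLinearMap m.primeCompl M) x = 0 := by
      apply H m Q
      rw [nat_sq, hx, map_zero, map_zero]
    rw [IsLocalizedModule.eq_zero_iff m.primeCompl] at h1
    obtain ⟨s, hs⟩ := h1
    exact s.2 (hJm ((hJmem _).mpr hs))

end Groth.Agent.S2149
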