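import Groth.Statements.S2150
import Groth.Agent.Lib.helper14.SepClosedIrred


set_option autoImplicit false
universe u
open CAlg

namespace Groth.Agent.S2150

open TensorProduct in
/-- For a field extension `K/k`, the spectrum of `k' ⊗_k K` is irreducible for every field extension
`k'/k` (geometric irreducibility, extensions in the same universe) if and only if every element of
`K` which is separable algebraic over `k` lies in `k`. -/
theorem result {k K : Type u} [Field k] [Field K] [Algebra k K] :
    (∀ (k' : Type u) [Field k'] [Algebra k k'], IrreducibleSpace (PrimeSpectrum (k' ⊗[k] K))) ↔
      ∀ α : K, IsSeparable k α → α ∈ Set.range (algebraMap k K) := by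
  constructor
  · intro h α hα
    exact Groth.Agent.H14.SCI.mem_range_of_irreducibleSpace h α hα
  · intro H k' _ _
    exact Groth.Agent.H14.SCI.irreducibleSpace_of_separable_mem H k'

end Groth.Agent.S2150
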