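import Groth.Statements.S2152
import Mathlib
import Groth.Agent.Lib.helper7.Lim8h

set_option autoImplicit false
universe u
open CategoryTheory AlgebraicGeometry
open Lim

namespace Groth.Agent.S2152

open Groth.Agent.Lib.helper7.PC Groth.Agent.Lib.helper7.Lim8

lemma isOpen_of_forall_exists {α : Type*} (t : TopologicalSpace α) (u : Set α)
    (h : ∀ a ∈ u, ∃ v, v ⊆ u ∧ @IsOpen α t v ∧ a ∈ v) : @IsOpen α t u :=
  isOpen_iff_forall_mem_open.mpr h

/-- Let `c` be a limit cone of a diagram of schemes indexed by a small cofiltered category with affine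
transition morphisms. Then the image of `c` under the forgetful functor to topological spaces is a
limit cone: the underlying space of the limit scheme is the limit of the underlying spaces. -/
theorem result {I : Type u} [SmallCategory I] [IsCofiltered I] (D : I ⥤ Scheme.{u})
    [∀ (i j : I) (f : i ⟶ j), IsAffineHom (D.map f)] (c : Limits.Cone D) (hc : Limits.IsLimit c) :
    Nonempty (Limits.IsLimit (Scheme.forgetToTop.mapCone c)) := by
  have : ∀ {i j : I} (f : i ⟶ j), IsAffineHom (D.map f) := fun f => inferInstance
  refine (TopCat.nonempty_isLimit_iff_eq_induced _ ?_).mpr ?_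
  · refine ((CategoryTheory.Limits.Types.isLimit_iff _).mpr ?_).some
    intro s hs
    obtain ⟨s₀, hs₀⟩ := exists_forall_π_app_eq D c hc s (fun i j f => hs f)
    exact ⟨s₀, fun j => hs₀ j, fun y hy =>
      eq_of_forall_π_app_eq D c hc fun i => (hy i).trans (hs₀ i).symm⟩
  · refine le_antisymm (le_iInf fun j => ?_) ?_
    · exact continuous_iff_le_induced.mp (c.π.app j).continuous
    · obtain ⟨i₀⟩ := IsCofiltered.nonempty (C := I)
      refine TopologicalSpace.le_def.mpr fun u hu => ?_
      refine isOpen_of_forall_exists _ u fun a ha => ?_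
      obtain ⟨k, _, V, hsV, hVu⟩ := exists_basic_open_over D c hc i₀ hu ha
      refine ⟨_, hVu, ?_, hsV⟩
      exact TopologicalSpace.le_def.mp (iInf_le _ k) _ (isOpen_induced_iff.mpr ⟨(V : Set (D.obj k)), V.2, rfl⟩)

end Groth.Agent.S2152
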