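import Groth.Statements.S2154
import Groth.Agent.Lib.helper11.LimFinite

set_option autoImplicit false
universe u
open CategoryTheory AlgebraicGeometry
open Lim

namespace Groth.Agent.S2154

attribute [local instance] IsCofiltered.isConnected


/-- Let `S` be quasi-compact and quasi-separated and `X = lim X_i` a cofiltered limit of quasi-compact
quasi-separated `S`-schemes locally of finite type over `S`, with finite transition morphisms. If `X
→ S` is integral then `X_i → S` is finite for all `i` beyond some index. -/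
theorem result {I : Type u} [SmallCategory I] [IsCofiltered I] (S : Scheme.{u}) [CompactSpace S]
    [QuasiSeparatedSpace S] (D : I ⥤ Over S) (c : Limits.Cone D) (hc : Limits.IsLimit c)
    [∀ (i j : I) (f : i ⟶ j), IsFinite (D.map f).left] [∀ i, CompactSpace (D.obj i).left]
    [∀ i, QuasiSeparatedSpace (D.obj i).left] [∀ i, LocallyOfFiniteType (D.obj i).hom] [IsIntegralHom c.pt.hom] :
    ∃ i₀ : I, ∀ (i : I) (_ : i ⟶ i₀), IsFinite (D.obj i).hom := by
  classical
  let D₀ : I ⥤ Scheme.{u} := D ⋙ Over.forget S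
  let c₀ : Limits.Cone D₀ := (Over.forget S).mapCone c
  have hc₀ : Limits.IsLimit c₀ := Limits.isLimitOfPreserves (Over.forget S) hc
  obtain ⟨i₀⟩ := IsCofiltered.nonempty (C := I)
  let τ : ∀ i, D₀.obj i ⟶ S := fun i => (D.obj i).hom
  have hτ : ∀ {j k : I} (φ : j ⟶ k), D₀.map φ ≫ τ k = τ j := fun φ => Over.w (D.map φ)
  have h1 : ∀ (i j : I) (f : i ⟶ j), IsFinite (D₀.map f) := fun i j f =>
    ‹∀ (i j : I) (f : i ⟶ j), IsFinite (D.map f).left› i j f
  have h2 : ∀ i, CompactSpace (D₀.obj i) := fun i => ‹∀ i, CompactSpace (D.obj i).left› i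
  have h3 : ∀ i, QuasiSeparatedSpace (D₀.obj i) :=
    fun i => ‹∀ i, QuasiSeparatedSpace (D.obj i).left› i
  have h4 : ∀ i, LocallyOfFiniteType (τ i) := fun i => ‹∀ i, LocallyOfFiniteType (D.obj i).hom› i
  have h5 : IsIntegralHom (c₀.π.app i₀ ≫ τ i₀) := by
    have e : c₀.π.app i₀ ≫ τ i₀ = c.pt.hom := Over.w (c.π.app i₀)
    rw [e]; exact ‹IsIntegralHom c.pt.hom›
  exact Groth.Agent.Lib.helper11.LimFinite.exists_isFinite D₀ τ hτ c₀ hc₀ i₀

end Groth.Agent.S2154
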