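import Groth.Statements.S2156
import Mathlib
import Groth.Agent.Lib.helper22.SmoothFibreSch
import Groth.Agent.S2757

set_option autoImplicit false
universe u
open CategoryTheory AlgebraicGeometry
open Mor

namespace Groth.Agent.S2156

section Helpers

open CategoryTheory CategoryTheory.Limits AlgebraicGeometry

open Groth.Agent.H22.SmoothDescent Groth.Agent.H22.SmoothFibre

theorem flat_stalkMap_of_mem_smoothLocus {X S : Scheme.{u}} (f : X ⟶ S)
    [LocallyOfFinitePresentation f] (x : X) (hx : x ∈ f.smoothLocus) :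
    (f.stalkMap x).hom.Flat := by
  haveI := Groth.Agent.S2757.smooth_smoothLocus_ι f
  set U := f.smoothLocus
  have h1 : ((U.ι ≫ f).stalkMap ⟨x, hx⟩).hom.Flat :=
    (Flat.iff_flat_stalkMap (f := U.ι ≫ f)).mp inferInstance ⟨x, hx⟩
  rw [Scheme.Hom.stalkMap_comp] at h1
  have h2 : (f.stalkMap (U.ι ⟨x, hx⟩)).hom =
      (inv (U.ι.stalkMap ⟨x, hx⟩)).hom.comp
        ((f.stalkMap (U.ι ⟨x, hx⟩)) ≫ (U.ι.stalkMap ⟨x, hx⟩)).hom := by
    rw [← CommRingCat.hom_comp, Category.assoc, IsIso.hom_inv_id, Category.comp_id]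
  change (f.stalkMap (U.ι ⟨x, hx⟩)).hom.Flat
  rw [h2]
  refine RingHom.Flat.comp h1 (RingHom.Flat.of_bijective ?_)
  exact ConcreteCategory.bijective_of_isIso (inv (U.ι.stalkMap ⟨x, hx⟩))

theorem fibreCrit' {X S P : Scheme.{u}} {K : Type u} [Field K]
    {f : X ⟶ S} {t : Spec (.of K) ⟶ S} {a : P ⟶ X} {b : P ⟶ Spec (.of K)}
    (H : IsPullback a b f t) [LocallyOfFinitePresentation f] [LocallyOfFinitePresentation b]
    (z : P) (x : X) (hx : a z = x) (hflat : (f.stalkMap x).hom.Flat) (hz : z ∈ b.smoothLocus) :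
    x ∈ f.smoothLocus := by
  subst hx
  exact mem_smoothLocus_of_flat_of_fibre H z hflat hz

theorem main {X S : Scheme.{u}} (f : X ⟶ S) [LocallyOfFinitePresentation f] (x : X)
    [LocallyOfFinitePresentation (f.fiberToSpecResidueField (f.base x))] :
    x ∈ f.smoothLocus ↔ (f.stalkMap x).hom.Flat ∧
      f.asFiber x ∈ (f.fiberToSpecResidueField (f.base x)).smoothLocus := by
  have H : IsPullback (f.fiberι (f x)) (f.fiberToSpecResidueField (f x)) f
      (S.fromSpecResidueField (f x)) := IsPullback.of_hasPullback _ _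
  constructor
  · intro hx
    refine ⟨flat_stalkMap_of_mem_smoothLocus f x hx, ?_⟩
    refine preimage_smoothLocus_le_of_isPullback H ?_
    show f.fiberι (f x) (f.asFiber x) ∈ f.smoothLocus
    rw [Scheme.Hom.fiberι_asFiber]
    exact hx
  · rintro ⟨hflat, hz⟩
    exact fibreCrit' (K := S.residueField (f x)) H (f.asFiber x) x (Scheme.Hom.fiberι_asFiber f x)
      hflat hz

end Helpers

/-- Let `f : X → S` be locally of finite presentation and `x ∈ X` with image `s`. Then `f` is smooth at
`x` if and only if `O_{S,s} → O_{X,x}` is flat and the fibre `X_s → Spec κ(s)` is smooth at the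
point corresponding to `x`. -/
theorem result {X S : Scheme.{u}} (f : X ⟶ S) [LocallyOfFinitePresentation f] (x : X)
    [LocallyOfFinitePresentation (f.fiberToSpecResidueField (f.base x))] :
    x ∈ f.smoothLocus ↔
      (f.stalkMap x).hom.Flat ∧ f.asFiber x ∈ (f.fiberToSpecResidueField (f.base x)).smoothLocus := by
  exact main f x

end Groth.Agent.S2156
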