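import Groth.Statements.S2155
import Mathlib
import Groth.Agent.Lib.helper22.SmoothFibreSch
import Groth.Agent.S2156

set_option autoImplicit false
universe u
open CategoryTheory AlgebraicGeometry
open Mor

namespace Groth.Agent.S2155

section Helpers

open CategoryTheory CategoryTheory.Limits AlgebraicGeometry

open Groth.Agent.H22.SmoothDescent Groth.Agent.H22.SmoothFibre

theorem main {X S X' S' : Scheme.{u}} (f : X ⟶ S) (g : S' ⟶ S) (f' : X' ⟶ S') (g' : X' ⟶ X)
    (h : IsPullback g' f' f g) [LocallyOfFinitePresentation f] [LocallyOfFinitePresentation f']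
    (hflat : Flat f ∨ Flat g) : f'.smoothLocus = g' ⁻¹ᵁ f.smoothLocus := by
  refine le_antisymm ?_ (preimage_smoothLocus_le_of_isPullback h)
  intro x' hx'
  show g' x' ∈ f.smoothLocus
  rcases hflat with hf | hg
  · -- `f` flat: fibre criterion
    have H' : IsPullback (f'.fiberι (f' x')) (f'.fiberToSpecResidueField (f' x')) f'
        (S'.fromSpecResidueField (f' x')) := IsPullback.of_hasPullback _ _
    haveI : LocallyOfFinitePresentation (f'.fiberToSpecResidueField (f' x')) :=
      MorphismProperty.of_isPullback (P := @LocallyOfFinitePresentation) H' inferInstance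
    have hz : f'.asFiber x' ∈ (f'.fiberToSpecResidueField (f' x')).smoothLocus := by
      refine preimage_smoothLocus_le_of_isPullback H' ?_
      show f'.fiberι (f' x') (f'.asFiber x') ∈ f'.smoothLocus
      rw [Scheme.Hom.fiberι_asFiber]
      exact hx'
    have H'' := H'.paste_horiz h
    refine Groth.Agent.S2156.fibreCrit' (K := S'.residueField (f' x')) H'' (f'.asFiber x') (g' x')
      ?_ ((Flat.iff_flat_stalkMap (f := f)).mp hf _) hz
    rw [Scheme.Hom.comp_apply, Scheme.Hom.fiberι_asFiber]
  · exact mem_smoothLocus_of_isPullback h x' hx'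

end Helpers

/-- Consider a cartesian square with `f : X → S` locally of finite presentation, base change `g : S' →
S`, and `f' : X' → S'`, `g' : X' → X` the projections. If `f` is flat, or if `g` is flat, then the
open set of points where `f'` is smooth is the preimage under `g'` of the open set of points where
`f` is smooth. -/
theorem result {X S X' S' : Scheme.{u}} (f : X ⟶ S) (g : S' ⟶ S) (f' : X' ⟶ S') (g' : X' ⟶ X)
    (h : IsPullback g' f' f g) [LocallyOfFinitePresentation f] [LocallyOfFinitePresentation f'] (hflat : Flat f ∨ Flat g) :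
    f'.smoothLocus = g' ⁻¹ᵁ f.smoothLocus := by
  exact main f g f' g' h hflat

end Groth.Agent.S2155
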