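import Groth.Statements.S2160
import Mathlib

set_option autoImplicit false
universe u
open CAlg

namespace Groth.Agent.S2160

/-- Let `R` be a Noetherian local domain of Krull dimension at least `2`. Then every nonempty open
subset of `Spec R` is infinite. -/
theorem result {R : Type u} [CommRing R] [IsDomain R] [IsLocalRing R] [IsNoetherianRing R]
    (hdim : 2 ≤ ringKrullDim R) (U : Set (PrimeSpectrum R)) (hU : IsOpen U) (hne : U.Nonempty) : U.Infinite := by
  classical
  intro hfin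
  obtain ⟨x0, hx0⟩ := hne
  obtain ⟨_, ⟨f, rfl⟩, hx0f, hfU⟩ :=
    PrimeSpectrum.isTopologicalBasis_basic_opens.exists_subset_of_mem_open hx0 hU
  have hf0 : f ≠ 0 := by
    rintro rfl
    have h0 : (0 : R) ∉ x0.asIdeal := hx0f
    exact h0 (Ideal.zero_mem _)
  have hDfin : ((PrimeSpectrum.basicOpen f : Set (PrimeSpectrum R))).Finite := hfin.subset hfU
  have hmh : (2 : ℕ∞) ≤ (IsLocalRing.maximalIdeal R).height := by
    have h1 : ((IsLocalRing.maximalIdeal R).height : WithBot ℕ∞) = ringKrullDim R :=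
      IsLocalRing.maximalIdeal_height_eq_ringKrullDim
    rw [← h1] at hdim
    exact WithBot.coe_le_coe.1 (by simpa using hdim)
  have hT : (((({⊥} : Set (Ideal R)) ∪ (PrimeSpectrum.asIdeal ''
      (PrimeSpectrum.basicOpen f : Set (PrimeSpectrum R)))) ∪
      (Ideal.span {f}).minimalPrimes) \ {IsLocalRing.maximalIdeal R}).Finite :=
    (((Set.finite_singleton ⊥).union (hDfin.image _)).union
      (Ideal.finite_minimalPrimes_of_isNoetherianRing R _)).subset Set.sdiff_subset
  have hTprime : ∀ q ∈ (((({⊥} : Set (Ideal R)) ∪ (PrimeSpectrum.asIdeal ''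
      (PrimeSpectrum.basicOpen f : Set (PrimeSpectrum R)))) ∪
      (Ideal.span {f}).minimalPrimes) \ {IsLocalRing.maximalIdeal R}), q.IsPrime := by
    rintro q ⟨((hq | ⟨y, _, rfl⟩) | hq), _⟩
    · rw [Set.mem_singleton_iff] at hq
      rw [hq]
      exact Ideal.isPrime_bot
    · exact y.isPrime
    · exact hq.1.1
  have hav : ¬ (((IsLocalRing.maximalIdeal R) : Set R) ⊆
      ⋃ q ∈ (↑hT.toFinset : Set (Ideal R)), ((id q : Ideal R) : Set R)) := by
    rw [Ideal.subset_union_prime (f := id) ⊤ ⊤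
      (fun q hq _ _ => hTprime q (hT.mem_toFinset.1 hq))]
    rintro ⟨q, hq, hmq⟩
    have hq' := hT.mem_toFinset.1 hq
    have hqp := hTprime q hq'
    exact hq'.2 (le_antisymm (IsLocalRing.le_maximalIdeal hqp.ne_top) hmq)
  obtain ⟨g, hgm, hgU⟩ := Set.not_subset.1 hav
  have hg : ∀ q ∈ (((({⊥} : Set (Ideal R)) ∪ (PrimeSpectrum.asIdeal ''
      (PrimeSpectrum.basicOpen f : Set (PrimeSpectrum R)))) ∪
      (Ideal.span {f}).minimalPrimes) \ {IsLocalRing.maximalIdeal R}), g ∉ q := by
    intro q hq hgq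
    apply hgU
    simp only [Set.mem_iUnion, Finset.mem_coe, Set.Finite.mem_toFinset, id]
    exact ⟨q, hq, hgq⟩
  have hbotm : (⊥ : Ideal R) ≠ IsLocalRing.maximalIdeal R := by
    intro h
    rw [← h, Ideal.height_bot] at hmh
    exact absurd hmh (by norm_num)
  have hg0 : g ≠ 0 := by
    rintro rfl
    exact hg ⊥ ⟨Or.inl (Or.inl rfl), hbotm⟩ (Ideal.zero_mem _)
  obtain ⟨P, hPmin, hPm⟩ := Ideal.exists_minimalPrimes_le
    (show Ideal.span {g} ≤ IsLocalRing.maximalIdeal R from
      (Ideal.span_singleton_le_iff_mem _).2 hgm)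
  haveI hPprime : P.IsPrime := hPmin.1.1
  have hgP : g ∈ P := hPmin.1.2 (Ideal.mem_span_singleton_self g)
  have hPh : P.height ≤ 1 :=
    Ideal.height_le_one_of_isPrincipal_of_mem_minimalPrimes (Ideal.span {g}) P hPmin
  have hPnem : P ≠ IsLocalRing.maximalIdeal R := by
    intro h
    rw [h] at hPh
    exact absurd (hmh.trans hPh) (by norm_num)
  by_cases hfP : f ∈ P
  · obtain ⟨p, hpmin, hpP⟩ := Ideal.exists_minimalPrimes_le
      (show Ideal.span {f} ≤ P from (Ideal.span_singleton_le_iff_mem P).2 hfP)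
    haveI hpprime : p.IsPrime := hpmin.1.1
    have hfp : f ∈ p := hpmin.1.2 (Ideal.mem_span_singleton_self f)
    have hpnem : p ≠ IsLocalRing.maximalIdeal R := by
      intro h
      exact hPnem (le_antisymm hPm (h ▸ hpP))
    have hpltP : p < P :=
      lt_of_le_of_ne hpP (fun h => hg p ⟨Or.inr hpmin, hpnem⟩ (h ▸ hgP))
    have hbotp : (⊥ : Ideal R) < p := by
      rw [bot_lt_iff_ne_bot]
      intro h
      rw [h] at hfp
      exact hf0 (by simpa using hfp)
    have h1 := Ideal.height_strict_mono_of_isPrime_of_isPrime hbotp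
    have h2 := Ideal.height_strict_mono_of_isPrime_of_isPrime hpltP
    have h3 : p.height < 1 := lt_of_lt_of_le h2 hPh
    rw [ENat.lt_one_iff_eq_zero] at h3
    rw [h3] at h1
    exact not_lt_of_ge zero_le h1
  · exact hg P ⟨Or.inl (Or.inr ⟨⟨P, hPprime⟩, hfP, rfl⟩), hPnem⟩ hgP

end Groth.Agent.S2160
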