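import Groth.Statements.S2163
import Mathlib

set_option autoImplicit false
universe u
open CAlg

namespace Groth.Agent.S2163

/-- the relation module of a finite family. -/
noncomputable def rel {R : Type u} [CommRing R] {n : ℕ} (f : Fin n → R) :
    Submodule R (Fin n → R) := LinearMap.ker (Fintype.linearCombination R f)

theorem mem_rel {R : Type u} [CommRing R] {n : ℕ} (f : Fin n → R) (c : Fin n → R) :
    c ∈ rel f ↔ ∑ i, f i * c i = 0 := by
  unfold rel
  rw [LinearMap.mem_ker, Fintype.linearCombination_apply]
  simp only [smul_eq_mul, mul_comm]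

theorem fp_iff {R : Type u} [CommRing R] {n : ℕ} (f : Fin n → R) :
    Module.FinitePresentation R (Ideal.span (Set.range f)) ↔ (rel f).FG := by
  let π : (Fin n → R) →ₗ[R] R := Fintype.linearCombination R f
  have hmem : ∀ c, π c ∈ Ideal.span (Set.range f) := by
    intro c
    rw [Ideal.mem_span_range_iff_exists_fun]
    exact ⟨c, by simp [π, Fintype.linearCombination_apply]⟩
  let π' : (Fin n → R) →ₗ[R] (Ideal.span (Set.range f)) := π.codRestrict _ hmem
  have hsurj : Function.Surjective π' := by
    rintro ⟨y, hy⟩
    obtain ⟨c, hc⟩ := Ideal.mem_span_range_iff_exists_fun.mp hy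
    refine ⟨c, Subtype.ext ?_⟩
    simp only [π', LinearMap.codRestrict_apply, π, Fintype.linearCombination_apply, smul_eq_mul]
    exact hc
  have hker : LinearMap.ker π' = rel f := LinearMap.ker_codRestrict _ _ hmem
  rw [← hker]
  exact (Module.FinitePresentation.fg_ker_iff π' hsurj).symm

/-- flatness of all powers gives finite generation of relation modules. -/
theorem rel_fg_of_flat {R : Type u} [CommRing R] (h : ∀ (A : Type u), Module.Flat R (A → R))
    {n : ℕ} (f : Fin n → R) : (rel f).FG := by
  haveI := h (rel f)
  let x : Fin n → (rel f → R) := fun i k => k.1 i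
  have hx : ∑ i, f i • x i = 0 := by
    funext k
    simp only [Finset.sum_apply, Pi.smul_apply, smul_eq_mul, Pi.zero_apply, x]
    exact (mem_rel f k.1).mp k.2
  obtain ⟨m, a, y, hxy, ha⟩ := Module.Flat.isTrivialRelation_of_sum_smul_eq_zero hx
  rw [Submodule.fg_iff_exists_fin_generating_family]
  refine ⟨m, fun j i => a i j, ?_⟩
  apply le_antisymm
  · rw [Submodule.span_le]
    rintro _ ⟨j, rfl⟩
    exact (mem_rel f _).mpr (ha j)
  · intro c hc
    rw [Submodule.mem_span_range_iff_exists_fun]
    refine ⟨fun j => y j ⟨c, hc⟩, ?_⟩
    funext i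
    have h1 := congrFun (hxy i) ⟨c, hc⟩
    simp only [x, Finset.sum_apply, Pi.smul_apply, smul_eq_mul] at h1
    simp only [Finset.sum_apply, Pi.smul_apply, smul_eq_mul]
    rw [h1]
    exact Finset.sum_congr rfl (fun j _ => mul_comm _ _)

/-- finite generation of relation modules gives flatness of powers. -/
theorem flat_of_rel_fg {R : Type u} [CommRing R]
    (h : ∀ {n : ℕ} (f : Fin n → R), (rel f).FG) (A : Type u) : Module.Flat R (A → R) := by
  apply Module.Flat.of_forall_isTrivialRelation
  intro l f x hx
  obtain ⟨m, b, hb⟩ := Submodule.fg_iff_exists_fin_generating_family.mp (h f)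
  have hv : ∀ a : A, (fun i => x i a) ∈ rel f := by
    intro a
    rw [mem_rel]
    have := congrFun hx a
    simpa only [Finset.sum_apply, Pi.smul_apply, smul_eq_mul, Pi.zero_apply] using this
  have hc : ∀ a : A, ∃ c : Fin m → R, ∑ j, c j • b j = (fun i => x i a) := by
    intro a
    have := hv a
    rw [← hb, Submodule.mem_span_range_iff_exists_fun] at this
    exact this
  choose c hc using hc
  refine ⟨m, fun i j => b j i, fun j a => c a j, ?_, ?_⟩
  · intro i
    funext a
    have h1 := congrFun (hc a) i
    simp only [Finset.sum_apply, Pi.smul_apply, smul_eq_mul] at h1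
    simp only [Finset.sum_apply, Pi.smul_apply, smul_eq_mul]
    rw [← h1]
    exact Finset.sum_congr rfl (fun j _ => mul_comm _ _)
  · intro j
    have : b j ∈ rel f := by
      rw [← hb]
      exact Submodule.subset_span ⟨j, rfl⟩
    exact (mem_rel f _).mp this

/-- A ring `R` is coherent — every finitely generated ideal is a finitely presented module — if and only
if for every index set `A` (in the same universe) the product module `R^A` is flat. -/
theorem result {R : Type u} [CommRing R] :
    (∀ I : Ideal R, I.FG → Module.FinitePresentation R I) ↔ ∀ (A : Type u), Module.Flat R (A → R) := by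
  constructor
  · intro h A
    apply flat_of_rel_fg
    intro n f
    rw [← fp_iff]
    apply h
    exact Submodule.fg_iff_exists_fin_generating_family.mpr ⟨n, f, rfl⟩
  · intro h I hI
    obtain ⟨n, f, rfl⟩ := Submodule.fg_iff_exists_fin_generating_family.mp hI
    exact (fp_iff f).mpr (rel_fg_of_flat h f)

end Groth.Agent.S2163
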