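import Groth.Statements.S2167
import Mathlib
import Groth.Agent.Lib.helper9.Depth21
import Groth.Agent.Lib.helper9.DepthHom
import Groth.Agent.Lib.helper6.AusBuchE

set_option autoImplicit false
universe u
open LCI

namespace Groth.Agent.S2167

/-- the cotangent module of an ideal generated by a list is spanned by at most `length` elements. -/
theorem spanFinrank_cotangent_le {R : Type u} [CommRing R] (I : Ideal R) (rs : List R)
    (hrs : Ideal.ofList rs = I) :
    (⊤ : Submodule (R ⧸ I) I.Cotangent).spanFinrank ≤ rs.length := by
  classical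
  have hmem : ∀ i : Fin rs.length, rs.get i ∈ I := fun i => by
    rw [← hrs]
    exact Ideal.subset_span (List.get_mem rs i)
  let g : Fin rs.length → I.Cotangent := fun i => I.toCotangent ⟨rs.get i, hmem i⟩
  let s : Finset I.Cotangent := Finset.image g Finset.univ
  have hs : Submodule.span (R ⧸ I) (s : Set I.Cotangent) = ⊤ := by
    rw [eq_top_iff]
    intro c _
    obtain ⟨y, rfl⟩ := Ideal.toCotangent_surjective I c
    have hy : (y : R) ∈ Ideal.span (Set.range rs.get) := by
      rw [Set.range_list_get]
      change (y : R) ∈ Ideal.ofList rs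
      rw [hrs]
      exact y.2
    obtain ⟨a, ha⟩ := (Ideal.mem_span_range_iff_exists_fun).mp hy
    have hy2 : y = ∑ i, a i • (⟨rs.get i, hmem i⟩ : I) := by
      apply Subtype.ext
      rw [← ha]
      simp
    rw [hy2, map_sum]
    refine Submodule.sum_mem _ fun i _ => ?_
    rw [map_smul, ← algebraMap_smul (R ⧸ I) (a i)]
    refine Submodule.smul_mem _ _ (Submodule.subset_span ?_)
    exact Finset.mem_coe.mpr (Finset.mem_image_of_mem g (Finset.mem_univ i))
  rw [← hs]
  refine (Submodule.spanFinrank_span_le_ncard_of_finite s.finite_toSet).trans ?_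
  rw [Set.ncard_coe_finset]
  exact (Finset.card_image_le).trans (by simp)

/-- an ideal in a local ring is generated by `spanFinrank (I/I²)` elements. -/
theorem exists_list_ofList_eq {R : Type u} [CommRing R] [IsLocalRing R] [IsNoetherianRing R]
    (I : Ideal R) (hI : I ≠ ⊤) :
    ∃ xs : List R, xs.length = (⊤ : Submodule (R ⧸ I) I.Cotangent).spanFinrank ∧
      Ideal.ofList xs = I := by
  classical
  have hfg : (⊤ : Submodule (R ⧸ I) I.Cotangent).FG := by
    haveI : Module.Finite R I := Module.Finite.iff_fg.mpr (isNoetherian_def.mp inferInstance I)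
    haveI : Module.Finite R I.Cotangent :=
      Module.Finite.of_surjective I.toCotangent (Ideal.toCotangent_surjective I)
    haveI : Module.Finite (R ⧸ I) I.Cotangent := Module.Finite.of_restrictScalars_finite R _ _
    exact Module.Finite.fg_top
  let G := (⊤ : Submodule (R ⧸ I) I.Cotangent).generators
  have hGfin : G.Finite := hfg.finite_generators
  have hGcard : G.ncard = (⊤ : Submodule (R ⧸ I) I.Cotangent).spanFinrank := hfg.generators_ncard
  have hGspan : Submodule.span (R ⧸ I) G = ⊤ := Submodule.span_generators _
  let lift : I.Cotangent → I := Function.surjInv (Ideal.toCotangent_surjective I)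
  have hlift : ∀ c, I.toCotangent (lift c) = c := Function.surjInv_eq _
  let xs : List R := hGfin.toFinset.toList.map (fun c => (lift c : R))
  have hxsI : ∀ x ∈ xs, x ∈ I := by
    intro x hx
    obtain ⟨c, _, rfl⟩ := List.mem_map.mp hx
    exact (lift c).2
  refine ⟨xs, ?_, ?_⟩
  · rw [List.length_map, Finset.length_toList, ← hGcard, Set.ncard_eq_toFinset_card G hGfin]
  · apply le_antisymm
    · exact Ideal.span_le.mpr hxsI
    · have hIm : I ≤ Ideal.jacobson ⊥ := by
        rw [IsLocalRing.jacobson_eq_maximalIdeal ⊥ bot_ne_top]
        exact IsLocalRing.le_maximalIdeal hI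
      refine Submodule.le_of_le_smul_of_le_jacobson_bot (N := Ideal.ofList xs) (N' := I)
        (isNoetherian_def.mp inferInstance I) hIm ?_
      -- every element of the cotangent space lifts to `ofList xs`
      have key : ∀ c ∈ Submodule.span (R ⧸ I) G,
          ∃ y : I, I.toCotangent y = c ∧ (y : R) ∈ Ideal.ofList xs := by
        intro c hc
        induction hc using Submodule.span_induction with
        | mem g hg =>
          refine ⟨lift g, hlift g, Ideal.subset_span ?_⟩
          exact List.mem_map.mpr ⟨g, by simpa using hg, rfl⟩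
        | zero => exact ⟨0, map_zero _, Ideal.zero_mem _⟩
        | add u v _ _ hu hv =>
          obtain ⟨y1, h1, h1'⟩ := hu
          obtain ⟨y2, h2, h2'⟩ := hv
          exact ⟨y1 + y2, by rw [map_add, h1, h2], Ideal.add_mem _ h1' h2'⟩
        | smul a u _ hu =>
          obtain ⟨y1, h1, h1'⟩ := hu
          obtain ⟨a, rfl⟩ := Ideal.Quotient.mk_surjective a
          refine ⟨a • y1, ?_, ?_⟩
          · rw [map_smul, h1]
            exact (algebraMap_smul (R ⧸ I) a u).symm
          · exact Ideal.mul_mem_left _ a h1'
      intro y hy
      obtain ⟨y', hy'1, hy'2⟩ := key (I.toCotangent ⟨y, hy⟩) (by rw [hGspan]; trivial)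
      have hz : I.toCotangent (⟨y, hy⟩ - y') = 0 := by rw [map_sub, hy'1, sub_self]
      rw [Ideal.toCotangent_eq_zero] at hz
      have hy3 : y = (y' : R) + (y - (y' : R)) := by ring
      rw [hy3]
      refine Submodule.add_mem_sup hy'2 ?_
      have : I • I = I ^ 2 := by rw [smul_eq_mul, pow_two]
      rw [this]
      exact hz

/-- Equivalence of (2) and (3), special case with R already a regular local ring: for a regular local
ring R and a proper ideal I, the ideal I is generated by a regular sequence if and only if the
conormal module I/I^2 can be generated by (dim R - dim R/I) elements, the inequality below being the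
additive form of that count. -/
theorem result {R : Type u} [CommRing R] [IsRegularLocalRing R]
    (I : Ideal R) (hI : I ≠ ⊤) :
    (∃ rs : List R, Ideal.ofList rs = I ∧ RingTheory.Sequence.IsRegular R rs) ↔
      (((⊤ : Submodule (R ⧸ I) I.Cotangent).spanFinrank : WithBot ℕ∞) + ringKrullDim (R ⧸ I)
        ≤ ringKrullDim R) := by
  classical
  obtain ⟨d, hd⟩ := Groth.Agent.H5.RegLoc.exists_nat_dim R
  have hCM : LocCoh.IsCohenMacaulayModule R R := by
    unfold LocCoh.IsCohenMacaulayModule
    rw [Module.supportDim_self_eq_ringKrullDim, hd,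
      Groth.Agent.Lib.helper6.AusBuchE.depth_eq_dim R d hd]
    rfl
  have hIm : I ≤ IsLocalRing.maximalIdeal R := IsLocalRing.le_maximalIdeal hI
  have hform := Groth.Agent.Lib.helper9.Depth.supportDim_eq_add_idealDepth_of_isCohenMacaulayModule
    I hI R hCM
  have hItop : (I • (⊤ : Submodule R R)) = I := by rw [smul_eq_mul, Ideal.mul_top]
  have h3 : Module.supportDim R (R ⧸ (I • (⊤ : Submodule R R))) = ringKrullDim (R ⧸ I) := by
    rw [hItop]
    exact Module.supportDim_quotient_eq_ringKrullDim I
  rw [Module.supportDim_self_eq_ringKrullDim, h3] at hform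
  constructor
  · rintro ⟨rs, hrs, hreg⟩
    have h1 : (rs.length : ℕ∞) ≤ LocCoh.idealDepth I R :=
      Groth.Agent.Lib.helper9.DepthHom.length_le_idealDepth hreg.toIsWeaklyRegular
        (fun r hr => hrs ▸ Ideal.subset_span hr)
    have h2 := spanFinrank_cotangent_le I rs hrs
    rw [hform, add_comm]
    gcongr
    exact_mod_cast (Nat.cast_le.mpr h2).trans h1
  · intro hle
    obtain ⟨xs, hlen, hxs⟩ := exists_list_ofList_eq I hI
    have hmem : ∀ x ∈ xs, x ∈ IsLocalRing.maximalIdeal R := fun x hx =>
      hIm (hxs ▸ Ideal.subset_span hx)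
    refine ⟨xs, hxs, ?_, ?_⟩
    · rw [← Groth.Agent.Lib.helper9.Depth.idealDepth_ofList_eq_length_iff xs R hmem]
      apply le_antisymm (Groth.Agent.Lib.helper9.Depth.idealDepth_ofList_le R xs hmem)
      rw [hxs, hlen]
      -- cancel `dim R/I`
      rw [hform] at hle
      haveI : Nontrivial (R ⧸ I) := Ideal.Quotient.nontrivial_iff.mpr hI
      have hne : ringKrullDim (R ⧸ I) ≠ ⊥ := by
        unfold ringKrullDim
        rw [Ne, Order.krullDim_eq_bot_iff, not_isEmpty_iff]
        infer_instance
      have hled : ringKrullDim (R ⧸ I) ≤ d := hd ▸ ringKrullDim_quotient_le I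
      generalize ringKrullDim (R ⧸ I) = e at hle hne hled
      generalize (⊤ : Submodule (R ⧸ I) I.Cotangent).spanFinrank = n at hle ⊢
      generalize LocCoh.idealDepth I R = t at hle ⊢
      induction e using WithBot.recBotCoe with
      | bot => exact absurd rfl hne
      | coe e =>
        induction e using ENat.recTopCoe with
        | top =>
          exfalso
          have : ((⊤ : ℕ∞) : WithBot ℕ∞) ≤ ((d : ℕ∞) : WithBot ℕ∞) := hled
          rw [WithBot.coe_le_coe] at this
          exact absurd (top_le_iff.mp this) (ENat.natCast_ne_top d)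
        | coe e =>
          induction t using ENat.recTopCoe with
          | top => exact le_top
          | coe t =>
            have : ((n + e : ℕ) : WithBot ℕ∞) ≤ ((e + t : ℕ) : WithBot ℕ∞) := by
              push_cast
              exact hle
            have h5 : n + e ≤ e + t := by exact_mod_cast this
            exact_mod_cast (by omega : n ≤ t)
    · rw [hxs, hItop]
      exact fun h => hI h.symm

end Groth.Agent.S2167
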