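import Groth.Statements.S2170
import Mathlib

set_option autoImplicit false
open Finset
open Models

namespace Groth.Agent.S2170

/-- Let A be a symmetric real n × n matrix with non-negative off-diagonal entries and m a vector with
positive entries such that for every i, ∑_{j ≠ i} A_{ij} m_j ≤ −A_{ii} m_i. Then the kernel of A is
the span of the vectors equal to m on an index set I and zero off I, for those I such that A_{ij} =
0 whenever i ∈ I and j ∉ I and such that equality holds in the above inequality for every i ∈ I. The
published statement omits the symmetry of A (without which it fails) and applies it only to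
symmetric matrices; stated here with A symmetric. -/
theorem result {n : ℕ} (A : Matrix (Fin n) (Fin n) ℝ) (m : Fin n → ℝ)
    (hsymm : A.IsSymm) (hA : ∀ i j, i ≠ j → 0 ≤ A i j) (hm : ∀ i, 0 < m i)
    (hle : ∀ i, ∑ j ∈ univ.erase i, A i j * m j ≤ -(A i i * m i)) :
    LinearMap.ker (Matrix.mulVecLin A) = Submodule.span ℝ
      {x : Fin n → ℝ | ∃ I : Finset (Fin n), (∀ i ∈ I, ∀ j ∉ I, A i j = 0) ∧
        (∀ i ∈ I, ∑ j ∈ univ.erase i, A i j * m j = -(A i i * m i)) ∧
        x = fun i => if i ∈ I then m i else 0} := by
  have hA' : ∀ i j, A i j = A j i := fun i j => hsymm.apply j i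
  have hs_erase : ∀ i, ∑ j, A i j * m j = A i i * m i + ∑ j ∈ univ.erase i, A i j * m j :=
    fun i => (Finset.add_sum_erase univ (fun j => A i j * m j) (mem_univ i)).symm
  have hs_le : ∀ i, ∑ j, A i j * m j ≤ 0 := fun i => by rw [hs_erase]; linarith [hle i]
  apply le_antisymm
  · intro x hx
    rw [LinearMap.mem_ker, Matrix.mulVecLin_apply] at hx
    obtain ⟨y, hy⟩ : ∃ y : Fin n → ℝ, ∀ i, x i = m i * y i :=
      ⟨fun i => x i / m i, fun i => by have := (hm i).ne'; field_simp⟩
    -- the three double sums
    have h1 : ∑ i, x i * (A.mulVec x) i = ∑ i, ∑ j, A i j * m i * m j * (y i * y j) := by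
      apply Finset.sum_congr rfl; intro i _
      simp only [Matrix.mulVec, dotProduct, Finset.mul_sum]
      apply Finset.sum_congr rfl; intro j _
      rw [hy i, hy j]; ring
    have h2 : ∑ i, m i * (∑ j, A i j * m j) * (y i) ^ 2 =
        ∑ i, ∑ j, A i j * m i * m j * (y i) ^ 2 := by
      apply Finset.sum_congr rfl; intro i _
      simp only [Finset.mul_sum, Finset.sum_mul]
      apply Finset.sum_congr rfl; intro j _
      ring
    have h3 : ∑ i, ∑ j, A i j * m i * m j * (y j) ^ 2 =
        ∑ i, ∑ j, A i j * m i * m j * (y i) ^ 2 := by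
      rw [Finset.sum_comm]
      apply Finset.sum_congr rfl; intro i _
      apply Finset.sum_congr rfl; intro j _
      rw [hA' j i]; ring
    have h4 : ∑ i, ∑ j, A i j * m i * m j * (y i - y j) ^ 2 =
        ∑ i, ∑ j, A i j * m i * m j * (y i) ^ 2
          - 2 * ∑ i, ∑ j, A i j * m i * m j * (y i * y j)
          + ∑ i, ∑ j, A i j * m i * m j * (y j) ^ 2 := by
      simp only [Finset.mul_sum, ← Finset.sum_sub_distrib, ← Finset.sum_add_distrib]
      apply Finset.sum_congr rfl; intro i _
      apply Finset.sum_congr rfl; intro j _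
      ring
    have h0 : ∑ i, x i * (A.mulVec x) i = 0 := by simp [hx]
    -- sign information
    have hPterm : ∀ i ∈ (univ : Finset (Fin n)), m i * (∑ j, A i j * m j) * (y i) ^ 2 ≤ 0 := by
      intro i _
      have : m i * (∑ j, A i j * m j) ≤ 0 := mul_nonpos_of_nonneg_of_nonpos (hm i).le (hs_le i)
      exact mul_nonpos_of_nonpos_of_nonneg this (sq_nonneg _)
    have hQterm : ∀ i ∈ (univ : Finset (Fin n)), ∀ j ∈ (univ : Finset (Fin n)),
        0 ≤ A i j * m i * m j * (y i - y j) ^ 2 := by
      intro i _ j _
      by_cases hij : i = j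
      · subst hij; simp
      · exact mul_nonneg (mul_nonneg (mul_nonneg (hA i j hij) (hm i).le) (hm j).le) (sq_nonneg _)
    have hP : ∑ i, m i * (∑ j, A i j * m j) * (y i) ^ 2 ≤ 0 := Finset.sum_nonpos hPterm
    have hQ : 0 ≤ ∑ i, ∑ j, A i j * m i * m j * (y i - y j) ^ 2 :=
      Finset.sum_nonneg fun i hi => Finset.sum_nonneg (hQterm i hi)
    have hP0 : ∑ i, m i * (∑ j, A i j * m j) * (y i) ^ 2 = 0 := by
      rw [h1] at h0; rw [h4, h3, h0, ← h2] at hQ; linarith
    have hQ0 : ∑ i, ∑ j, A i j * m i * m j * (y i - y j) ^ 2 = 0 := by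
      rw [h1] at h0; rw [h4, h3, h0, ← h2, hP0]; ring
    have hPi : ∀ i, (∑ j, A i j * m j) = 0 ∨ y i = 0 := by
      intro i
      have := (Finset.sum_eq_zero_iff_of_nonpos hPterm).1 hP0 i (mem_univ i)
      rcases mul_eq_zero.1 this with h | h
      · rcases mul_eq_zero.1 h with h | h
        · exact absurd h (hm i).ne'
        · exact Or.inl h
      · exact Or.inr (by simpa using h)
    have hQij : ∀ i j, A i j = 0 ∨ y i = y j := by
      intro i j
      have hi := (Finset.sum_eq_zero_iff_of_nonneg
        (fun i hi => Finset.sum_nonneg (hQterm i hi))).1 hQ0 i (mem_univ i)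
      have := (Finset.sum_eq_zero_iff_of_nonneg (hQterm i (mem_univ i))).1 hi j (mem_univ j)
      rcases mul_eq_zero.1 this with h | h
      · rcases mul_eq_zero.1 h with h | h
        · rcases mul_eq_zero.1 h with h | h
          · exact Or.inl h
          · exact absurd h (hm i).ne'
        · exact absurd h (hm j).ne'
      · right
        have : y i - y j = 0 := by simpa using h
        linarith
    -- decompose x along the level sets of y
    have hx_eq : x = ∑ c ∈ univ.image y, c • (fun i => if y i = c then m i else 0) := by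
      funext i
      simp only [Finset.sum_apply, Pi.smul_apply, smul_eq_mul, mul_ite, mul_zero]
      rw [Finset.sum_ite_eq]
      simp only [Finset.mem_image, mem_univ, true_and, exists_apply_eq_apply, if_true]
      rw [hy i]; ring
    rw [hx_eq]
    apply Submodule.sum_mem
    intro c _
    by_cases hc : c = 0
    · subst hc; simp
    apply Submodule.smul_mem
    apply Submodule.subset_span
    refine ⟨univ.filter (fun i => y i = c), ?_, ?_, ?_⟩
    · intro i hi j hj
      simp only [Finset.mem_filter, mem_univ, true_and] at hi hj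
      rcases hQij i j with h | h
      · exact h
      · exact absurd (h ▸ hi) hj
    · intro i hi
      simp only [Finset.mem_filter, mem_univ, true_and] at hi
      rcases hPi i with h | h
      · rw [hs_erase] at h; linarith
      · exact absurd (h ▸ hi).symm hc
    · funext i
      simp
  · rw [Submodule.span_le]
    rintro x ⟨I, hI1, hI2, rfl⟩
    rw [SetLike.mem_coe, LinearMap.mem_ker, Matrix.mulVecLin_apply]
    funext i
    simp only [Matrix.mulVec, dotProduct, Pi.zero_apply, mul_ite, mul_zero]
    by_cases hi : i ∈ I
    · have : ∑ j, (if j ∈ I then A i j * m j else 0) = ∑ j, A i j * m j := by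
        apply Finset.sum_congr rfl; intro j _
        by_cases hj : j ∈ I
        · simp [hj]
        · simp [hj, hI1 i hi j hj]
      rw [this, hs_erase, hI2 i hi]; ring
    · apply Finset.sum_eq_zero
      intro j _
      by_cases hj : j ∈ I
      · simp [hj, hA' i j, hI1 j hj i hi]
      · simp [hj]

end Groth.Agent.S2170
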