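import Groth.Statements.S2179
import Mathlib

set_option autoImplicit false
open Finset
open Models Models.NumericalType

namespace Groth.Agent.S2179

/-- For a numerical type T, the map Z^n -> Z^n multiplying the i-th coordinate by w i induces a
well-defined injective homomorphism from Pic(T), the cokernel of (a i j / w i), to the cokernel of
the matrix a. -/
theorem result {n : ℕ} (T : Models.NumericalType n) :
    ∃ f : T.Pic →+ T.CokerA, Function.Injective f ∧
      ∀ x : Fin n → ℤ, f (Submodule.Quotient.mk x) = Submodule.Quotient.mk (fun i => T.w i * x i) := by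
  classical
  let φ : (Fin n → ℤ) →ₗ[ℤ] (Fin n → ℤ) :=
    { toFun := fun x i => T.w i * x i
      map_add' := fun x y => by funext i; simp [mul_add]
      map_smul' := fun c x => by funext i; simp; ring }
  have hφ : LinearMap.range (Matrix.mulVecLin T.picMatrix) ≤
      (LinearMap.range (Matrix.mulVecLin T.a)).comap φ := by
    rintro _ ⟨v, rfl⟩
    refine ⟨v, ?_⟩
    funext i
    simp only [Matrix.mulVecLin_apply, Matrix.mulVec, dotProduct, φ, LinearMap.coe_mk,
      AddHom.coe_mk, Finset.mul_sum, Models.NumericalType.picMatrix]
    apply Finset.sum_congr rfl; intro j _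
    rw [← mul_assoc, Int.mul_ediv_cancel' (T.w_dvd i j)]
  refine ⟨(Submodule.mapQ _ _ φ hφ).toAddMonoidHom, ?_, ?_⟩
  · rw [injective_iff_map_eq_zero]
    intro x
    induction x using Submodule.Quotient.induction_on with
    | _ x =>
      intro hx
      simp only [LinearMap.toAddMonoidHom_coe, Submodule.mapQ_apply,
        Submodule.Quotient.mk_eq_zero] at hx ⊢
      obtain ⟨v, hv⟩ := hx
      refine ⟨v, ?_⟩
      funext i
      have hvi := congrFun hv i
      simp only [Matrix.mulVecLin_apply, Matrix.mulVec, dotProduct, φ, LinearMap.coe_mk,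
        AddHom.coe_mk, Models.NumericalType.picMatrix] at hvi ⊢
      apply mul_left_cancel₀ (T.w_pos i).ne'
      rw [← hvi, Finset.mul_sum]
      apply Finset.sum_congr rfl; intro j _
      rw [← mul_assoc, Int.mul_ediv_cancel' (T.w_dvd i j)]
  · intro x
    rfl

end Groth.Agent.S2179
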