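import Groth.Statements.S2187
-- import your own Groth.Agent.* helpers here
import Mathlib
import Groth.Agent.Lib.helper6.VascD

set_option autoImplicit false
set_option linter.style.haveILetI false
universe u
open CategoryTheory
open LCI

namespace Groth.Agent.S2187

/-- Let R be a Noetherian local ring and I an ideal of finite projective dimension as an R-module. If F
is a direct summand of the conormal module I/I^2 which is isomorphic to R/I, then there is a
nonzerodivisor x in I whose class in I/I^2 generates F. -/
theorem result {R : Type u} [CommRing R]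
    [IsNoetherianRing R] [IsLocalRing R] (I : Ideal R) (n : ℕ)
    (hpd : HasProjectiveDimensionLT (ModuleCat.of R I) n)
    (F G : Submodule (R ⧸ I) I.Cotangent) (hFG : IsCompl F G) (e : F ≃ₗ[R ⧸ I] (R ⧸ I)) :
    ∃ (x : R) (hx : x ∈ I), x ∈ nonZeroDivisors R ∧
      Submodule.span (R ⧸ I) {I.toCotangent ⟨x, hx⟩} = F := by
  classical
  by_cases hI : I = ⊤
  · subst hI
    haveI : Subsingleton (R ⧸ (⊤ : Ideal R)) := Ideal.Quotient.subsingleton_iff.mpr rfl
    haveI : Subsingleton (⊤ : Ideal R).Cotangent := Module.subsingleton (R ⧸ (⊤ : Ideal R)) _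
    refine ⟨1, Submodule.mem_top, one_mem _, ?_⟩
    apply SetLike.ext
    intro c
    have hc : c = 0 := Subsingleton.elim _ _
    subst hc
    simp
  · let e' : F ≃ₗ[R ⧸ I] (Fin 1 → R ⧸ I) :=
      e.trans (LinearEquiv.funUnique (Fin 1) (R ⧸ I) (R ⧸ I)).symm
    obtain ⟨x, hx, hreg, hspan⟩ :=
      Groth.Agent.Lib.helper6.VascD.vasconcelos I hI n hpd F G hFG 1 e'
    refine ⟨x 0, hx 0, ?_, ?_⟩
    · rw [List.ofFn_succ, List.ofFn_zero, RingTheory.Sequence.isRegular_cons_iff] at hreg
      have h1 : IsSMulRegular R (x 0) := hreg.1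
      rw [mem_nonZeroDivisors_iff_right]
      intro z hz
      apply h1
      change x 0 • z = x 0 • 0
      rw [smul_eq_mul, smul_eq_mul, mul_zero, mul_comm]
      exact hz
    · rw [← hspan]
      congr 1
      ext c
      simp only [Set.mem_singleton_iff, Set.mem_range]
      constructor
      · rintro rfl
        exact ⟨0, rfl⟩
      · rintro ⟨i, rfl⟩
        have : i = 0 := Subsingleton.elim _ _
        subst this
        rfl

end Groth.Agent.S2187
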