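import Groth.Statements.S2190
import Mathlib
import Groth.Agent.S2176

set_option autoImplicit false
open Finset
open Models Models.NumericalType

namespace Groth.Agent.S2190

/-- A minimal numerical type of genus zero has a single index, with m = 1, a = 0, w = 1 and g = 0. -/
theorem result {n : ℕ} (T : Models.NumericalType n) (hmin : T.IsMinimal) (hg : T.genus = 0) :
    n = 1 ∧ ∀ i, T.m i = 1 ∧ T.a i i = 0 ∧ T.w i = 1 ∧ T.g i = 0 := by
  have hn : n = 1 := by
    have hpos := T.pos
    by_contra hne
    have h1 : 1 < n := by omega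
    have := Groth.Agent.S2176.result T hmin h1
    omega
  subst hn
  refine ⟨rfl, ?_⟩
  intro i
  have hi : i = 0 := Subsingleton.elim _ _
  subst hi
  have h0 := congrFun T.mulVec_m 0
  simp only [Matrix.mulVec, dotProduct, Pi.zero_apply, Fin.sum_univ_one] at h0
  have ha : T.a 0 0 = 0 := by
    rcases mul_eq_zero.1 h0 with h | h
    · exact h
    · exact absurd h (T.m_pos 0).ne'
  unfold Models.NumericalType.genus at hg
  simp only [Fin.sum_univ_one, ha, mul_zero, Int.zero_ediv, sub_zero] at hg
  have hm := T.m_pos 0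
  have hw := T.w_pos 0
  have hgn := T.g_nonneg 0
  have hmw : 1 ≤ T.m 0 * T.w 0 := by nlinarith
  have hg0 : T.g 0 = 0 := by
    by_contra hne
    have : 1 ≤ T.g 0 := by omega
    nlinarith
  rw [hg0] at hg
  have hmw1 : T.m 0 * T.w 0 = 1 := by linarith
  have hm1 : T.m 0 = 1 := Int.eq_one_of_mul_eq_one_right hm.le hmw1
  have hw1 : T.w 0 = 1 := by rw [hm1] at hmw1; linarith
  exact ⟨hm1, ha, hw1, hg0⟩

end Groth.Agent.S2190
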