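import Groth.Statements.S2197
import Mathlib

set_option autoImplicit false
universe u
open Disc

namespace Groth.Agent.S2197
open AlgebraicGeometry CategoryTheory TensorProduct
open Disc

section helpers




/-- Annihilators of finitely generated ideals commute with flat base change. -/
theorem annih_flat {R R' : Type*} [CommRing R] [CommRing R'] [Algebra R R'] [Module.Flat R R']
    (J : Ideal R) (hJ : J.FG) :
    Submodule.annihilator (J.map (algebraMap R R')) =
      (Submodule.annihilator J).map (algebraMap R R') := by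
  classical
  apply le_antisymm
  · obtain ⟨s, hs⟩ := hJ
    intro y hy
    rw [Submodule.mem_annihilator] at hy
    -- φ : R → (s → R)
    let φ : R →ₗ[R] (s → R) := LinearMap.pi (fun i => LinearMap.mulRight R (i : R))
    have hker : ∀ a : R, a ∈ LinearMap.ker φ → a ∈ Submodule.annihilator J := by
      intro a ha
      rw [Submodule.mem_annihilator]
      intro x hx
      rw [← hs] at hx
      refine Submodule.span_induction ?_ ?_ ?_ ?_ hx
      · intro x hx
        have := congrFun (LinearMap.mem_ker.1 ha) ⟨x, hx⟩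
        simpa [φ] using this
      · simp
      · intro x y _ _ hx hy; rw [smul_add, hx, hy, add_zero]
      · intro c x _ hx; rw [smul_comm, hx, smul_zero]
    have h0 : (LinearMap.lTensor R' φ) (y ⊗ₜ[R] (1 : R)) = 0 := by
      rw [LinearMap.lTensor_tmul]
      have h1 : φ 1 = ∑ i : s, (i : R) • (Pi.single i (1 : R) : s → R) := by
        ext j
        simp [φ, Finset.sum_apply, Pi.single_apply]
      rw [h1, TensorProduct.tmul_sum]
      apply Finset.sum_eq_zero
      intro i _
      rw [TensorProduct.tmul_smul, TensorProduct.smul_tmul']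
      have : (i : R) • y = 0 := by
        have := hy (algebraMap R R' (i : R)) (Ideal.mem_map_of_mem _ (by
          rw [← hs]; exact Ideal.subset_span i.2))
        rw [smul_eq_mul] at this
        rw [Algebra.smul_def, mul_comm]; exact this
      rw [this, TensorProduct.zero_tmul]
    have hex : Function.Exact (LinearMap.lTensor R' (LinearMap.ker φ).subtype)
        (LinearMap.lTensor R' φ) :=
      Module.Flat.lTensor_exact R' (LinearMap.exact_subtype_ker_map φ)
    obtain ⟨z, hz⟩ := (hex _).1 h0
    -- multiplication map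
    let m : R' ⊗[R] R →ₗ[R] R' := (TensorProduct.rid R R').toLinearMap
    have hm : m (y ⊗ₜ[R] (1 : R)) = y := by simp [m]
    have key : ∀ z : R' ⊗[R] (LinearMap.ker φ),
        m (LinearMap.lTensor R' (LinearMap.ker φ).subtype z) ∈
          (Submodule.annihilator J).map (algebraMap R R') := by
      intro z
      induction z using TensorProduct.induction_on with
      | zero => simp
      | tmul y' a =>
        rw [LinearMap.lTensor_tmul]
        simp only [m, LinearEquiv.coe_coe, TensorProduct.rid_tmul, Submodule.subtype_apply]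
        rw [Algebra.smul_def]
        exact Ideal.mul_mem_right _ _ (Ideal.mem_map_of_mem _ (hker _ a.2))
      | add z1 z2 h1 h2 =>
        rw [map_add, map_add]; exact Ideal.add_mem _ h1 h2
    rw [← hm, ← hz]
    exact key z
  · rw [Ideal.map_le_iff_le_comap]
    intro a ha
    rw [Ideal.mem_comap, Submodule.mem_annihilator]
    intro x hx
    rw [Submodule.mem_annihilator] at ha
    refine Submodule.span_induction ?_ ?_ ?_ ?_ hx
    · rintro _ ⟨x, hx, rfl⟩
      rw [smul_eq_mul, ← map_mul]
      have := ha x hx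
      rw [smul_eq_mul] at this
      rw [this, map_zero]
    · simp
    · intro x y _ _ hx hy; rw [smul_add, hx, hy, add_zero]
    · intro c x _ hx; rw [smul_comm, hx, smul_zero]



/-- General principle. -/
theorem GP {A B A' B' : Type u} [CommRing A] [CommRing B] [CommRing A'] [CommRing B']
    [Algebra A B] [Algebra A' B'] (ρ : B ⊗[A] B →+* B' ⊗[A'] B') (g : B →+* B')
    (hρ : ρ.Flat)
    (hμ : (Algebra.TensorProduct.lmul' (S := B') A').toRingHom.comp ρ =
      g.comp (Algebra.TensorProduct.lmul' (S := B) A).toRingHom)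
    (hK : RingHom.ker (Algebra.TensorProduct.lmul' (S := B') A').toRingHom ≤
      (RingHom.ker (Algebra.TensorProduct.lmul' (S := B) A).toRingHom).map ρ)
    (hfg : (RingHom.ker (Algebra.TensorProduct.lmul' (S := B) A).toRingHom).FG) :
    Disc.noetherDifferent A' B' = (Disc.noetherDifferent A B).map g := by
  letI : Algebra (B ⊗[A] B) (B' ⊗[A'] B') := ρ.toAlgebra
  haveI : Module.Flat (B ⊗[A] B) (B' ⊗[A'] B') := hρ
  set μ' := (Algebra.TensorProduct.lmul' (S := B') A').toRingHom with hμ'
  set μ := (Algebra.TensorProduct.lmul' (S := B) A).toRingHom with hμd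
  have hJ : RingHom.ker μ' = (RingHom.ker μ).map ρ := by
    apply le_antisymm hK
    rw [Ideal.map_le_iff_le_comap]
    intro x hx
    rw [Ideal.mem_comap, RingHom.mem_ker]
    rw [RingHom.mem_ker] at hx
    have := RingHom.congr_fun hμ x
    simp only [RingHom.coe_comp, Function.comp_apply] at this
    rw [this, hx, map_zero]
  have hAnn : Submodule.annihilator (RingHom.ker μ') =
      (Submodule.annihilator (RingHom.ker μ)).map ρ := by
    rw [hJ]
    exact annih_flat _ hfg
  show Ideal.map μ' (Submodule.annihilator (RingHom.ker μ')) =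
    (Ideal.map μ (Submodule.annihilator (RingHom.ker μ))).map g
  rw [hAnn, Ideal.map_map, Ideal.map_map, hμ]



end helpers

/-- Part (2): let A -> B be a ring map of finite type and A -> A' a flat ring map, and let B' = B
tensor_A A'. Then the Noether different of B' over A' is the extension to B' of the Noether
different of B over A. -/
theorem result {A B A' B' : Type u} [CommRing A] [CommRing B]
    [CommRing A'] [CommRing B'] [Algebra A B] [Algebra A A'] [Algebra A B'] [Algebra B B']
    [Algebra A' B'] [IsScalarTower A B B'] [IsScalarTower A A' B']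
    [Algebra.IsPushout A B A' B'] [Algebra.FiniteType A B] [Module.Flat A A'] :
    Disc.noetherDifferent A' B' = (Disc.noetherDifferent A B).map (algebraMap B B') := by
  have hpo : Algebra.IsPushout A B A' B' := inferInstance
  have hpo' : Algebra.IsPushout A A' B B' := hpo.symm
  -- B → B' flat
  have hgflat : Module.Flat B B' := Module.Flat.isBaseChange (R := A) (S := B) (M := A') B' hpo.out
  let g' : B →ₐ[A] B' := IsScalarTower.toAlgHom A B B'
  have hg'flat : g'.toRingHom.Flat := RingHom.flat_algebraMap_iff.2 hgflat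
  -- ρ₁
  let ρ₁ : B ⊗[A] B →ₐ[B] B ⊗[A] B' := Algebra.TensorProduct.lTensor (S := B) B g'
  have hρ₁ : ρ₁.toRingHom.Flat := RingHom.Flat.lTensor (S := B) B hg'flat
  let ρ₂ : B ⊗[A] B' ≃ₐ[B] B' ⊗[A'] B' := (Algebra.IsPushout.cancelBaseChangeAlg A B A' B' B').symm
  let ρ : B ⊗[A] B →+* B' ⊗[A'] B' := ρ₂.toAlgHom.toRingHom.comp ρ₁.toRingHom
  have hρ : ρ.Flat := RingHom.Flat.comp hρ₁ (RingHom.Flat.of_bijective ρ₂.bijective)
  have hρ_tmul : ∀ b1 b2 : B, ρ (b1 ⊗ₜ[A] b2) = algebraMap B B' b1 ⊗ₜ[A'] algebraMap B B' b2 := by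
    intro b1 b2
    simp [ρ, ρ₁, ρ₂, g']
  apply GP ρ (algebraMap B B') hρ
  · refine RingHom.ext (fun x => ?_)
    induction x using TensorProduct.induction_on with
    | zero => simp
    | tmul b1 b2 => simp [hρ_tmul]
    | add x y hx hy => rw [map_add, map_add, hx, hy]
  · have : RingHom.ker (Algebra.TensorProduct.lmul' (S := B') A').toRingHom =
        KaehlerDifferential.ideal A' B' := rfl
    rw [this, ← KaehlerDifferential.span_range_eq_ideal, Ideal.span_le]
    rintro _ ⟨b', rfl⟩
    set I := (RingHom.ker (Algebra.TensorProduct.lmul' (S := B) A).toRingHom).map ρ with hI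
    show ((1 : B') ⊗ₜ[A'] b' - b' ⊗ₜ[A'] (1 : B')) ∈ I
    refine hpo'.out.inductionOn b' (fun b' => ((1 : B') ⊗ₜ[A'] b' - b' ⊗ₜ[A'] (1 : B')) ∈ I)
      ?_ ?_ ?_ ?_
    · simp
    · intro b
      have h1 : ((1 : B') ⊗ₜ[A'] (algebraMap B B' b) - (algebraMap B B' b) ⊗ₜ[A'] (1 : B')) =
          ρ ((1 : B) ⊗ₜ[A] b - b ⊗ₜ[A] (1 : B)) := by
        rw [map_sub, hρ_tmul, hρ_tmul, map_one]
      show ((1 : B') ⊗ₜ[A'] (algebraMap B B' b) - (algebraMap B B' b) ⊗ₜ[A'] (1 : B')) ∈ I
      rw [h1]
      exact Ideal.mem_map_of_mem _ (KaehlerDifferential.one_smul_sub_smul_one_mem_ideal A b)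
    · intro a' n hn
      have h2 : ((1 : B') ⊗ₜ[A'] (a' • n) - (a' • n) ⊗ₜ[A'] (1 : B')) =
          a' • ((1 : B') ⊗ₜ[A'] n - n ⊗ₜ[A'] (1 : B')) := by
        have e1 : (1 : B') ⊗ₜ[A'] (a' • n) = a' • ((1 : B') ⊗ₜ[A'] n) :=
          TensorProduct.tmul_smul a' 1 n
        have e2 : (a' • n) ⊗ₜ[A'] (1 : B') = a' • (n ⊗ₜ[A'] (1 : B')) :=
          (TensorProduct.smul_tmul' a' n 1).symm
        rw [e1, e2, ← smul_sub]
      rw [h2, Algebra.smul_def]
      exact Ideal.mul_mem_left _ _ hn
    · intro n1 n2 h1 h2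
      have h3 : ((1 : B') ⊗ₜ[A'] (n1 + n2) - (n1 + n2) ⊗ₜ[A'] (1 : B')) =
          ((1 : B') ⊗ₜ[A'] n1 - n1 ⊗ₜ[A'] (1 : B')) + ((1 : B') ⊗ₜ[A'] n2 - n2 ⊗ₜ[A'] (1 : B')) := by
        rw [TensorProduct.tmul_add, TensorProduct.add_tmul]; abel
      rw [h3]
      exact Ideal.add_mem _ h1 h2
  · exact KaehlerDifferential.ideal_fg A B

end Groth.Agent.S2197
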