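import Groth.Statements.S2203
import Mathlib

set_option autoImplicit false
universe u v u' v'
open CategoryTheory
open QCohCat

namespace Groth.Agent.S2203aux


variable {C : Type u} [Category.{v} C] [Preadditive C] {D : Type u'} [Category.{v'} D] [Preadditive D]

/-- pull back endomorphisms of the identity functor along a fully faithful additive functor -/
noncomputable def pull (F : C ⥤ D) [F.Full] [F.Faithful] [F.Additive] :
    End (𝟭 D) →+* End (𝟭 C) where
  toFun ζ :=
    { app := fun X => F.preimage (ζ.app (F.obj X))
      naturality := by
        intro X Y f
        apply F.map_injective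
        simp only [Functor.id_map, Functor.map_comp, Functor.map_preimage]
        exact ζ.naturality (F.map f) }
  map_one' := by
    apply NatTrans.ext
    funext X
    apply F.map_injective
    simp only [Functor.map_preimage]
    show (𝟙 (𝟭 D) : 𝟭 D ⟶ 𝟭 D).app (F.obj X) = F.map ((𝟙 (𝟭 C) : 𝟭 C ⟶ 𝟭 C).app X)
    simp
  map_mul' ζ ζ' := by
    apply NatTrans.ext
    funext X
    apply F.map_injective
    simp only [Functor.map_preimage]
    show (ζ' ≫ ζ).app (F.obj X) = F.map (F.preimage (ζ'.app (F.obj X)) ≫ F.preimage (ζ.app (F.obj X)))
    simp
  map_zero' := by
    apply NatTrans.ext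
    funext X
    apply F.map_injective
    simp only [Functor.map_preimage]
    show (0 : 𝟭 D ⟶ 𝟭 D).app (F.obj X) = F.map ((0 : 𝟭 C ⟶ 𝟭 C).app X)
    simp
  map_add' ζ ζ' := by
    apply NatTrans.ext
    funext X
    apply F.map_injective
    simp only [Functor.map_preimage]
    show (ζ + ζ').app (F.obj X) = F.map (F.preimage (ζ.app (F.obj X)) + F.preimage (ζ'.app (F.obj X)))
    simp


theorem pull_app (F : C ⥤ D) [F.Full] [F.Faithful] [F.Additive] (ζ : End (𝟭 D)) (X : C) :
    F.map ((pull F ζ).app X) = ζ.app (F.obj X) := by
  simp [pull]

theorem pull_bijective (e : C ≌ D) [e.functor.Additive] : Function.Bijective (pull e.functor) := by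
  constructor
  · intro ζ ζ' h
    apply NatTrans.ext
    funext Y
    have h1 : ∀ X, ζ.app (e.functor.obj X) = ζ'.app (e.functor.obj X) := by
      intro X
      rw [← pull_app, ← pull_app, h]
    have n1 := ζ.naturality (e.counit.app Y)
    have n2 := ζ'.naturality (e.counit.app Y)
    simp only [Functor.id_map, Functor.id_obj, Functor.comp_obj] at n1 n2
    have : e.counit.app Y ≫ ζ.app Y = e.counit.app Y ≫ ζ'.app Y := by
      rw [n1, n2, h1]
    exact (cancel_epi (e.counit.app Y)).1 this
  · intro η
    let ζ : End (𝟭 D) :=
      { app := fun Y => e.counitInv.app Y ≫ e.functor.map (η.app (e.inverse.obj Y)) ≫ e.counit.app Y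
        naturality := by
          intro Y Y' f
          simp only [Functor.id_map, Functor.id_obj]
          have n1 := e.counitInv.naturality f
          have n2 := e.counit.naturality f
          have n3 := η.naturality (e.inverse.map f)
          simp only [Functor.id_map, Functor.id_obj, Functor.comp_obj, Functor.comp_map] at n1 n2 n3
          rw [← Category.assoc, n1, Category.assoc, Category.assoc, Category.assoc, ← n2,
            ← Functor.map_comp_assoc, ← Functor.map_comp_assoc, n3] }
    refine ⟨ζ, ?_⟩
    apply NatTrans.ext
    funext X
    apply e.functor.map_injective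
    rw [pull_app]
    show e.counitInv.app (e.functor.obj X) ≫ e.functor.map (η.app (e.inverse.obj (e.functor.obj X))) ≫
      e.counit.app (e.functor.obj X) = e.functor.map (η.app X)
    have n3 := η.naturality (e.unit.app X)
    simp only [Functor.id_map, Functor.id_obj, Functor.comp_obj] at n3
    have h1 : e.counitInv.app (e.functor.obj X) = e.functor.map (e.unit.app X) := by
      rw [← cancel_mono (e.counit.app (e.functor.obj X))]
      simp
    rw [h1, ← Functor.map_comp_assoc, n3, Functor.map_comp, Category.assoc]
    simp


end Groth.Agent.S2203aux

namespace Groth.Agent.S2203aux2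


variable (A : Type u) [CommRing A]

/-- `a ↦ (a • ·)`, an endomorphism of the identity functor of `ModuleCat A` -/
noncomputable def toEndId : A →+* End (𝟭 (ModuleCat.{u} A)) where
  toFun a :=
    { app := fun M => ModuleCat.ofHom (a • (LinearMap.id : M →ₗ[A] M))
      naturality := by
        intro M N f
        ext x
        simp }
  map_one' := by
    apply NatTrans.ext
    funext M
    ext x
    show (1 : A) • x = x
    simp
  map_mul' a b := by
    apply NatTrans.ext
    funext M
    ext x
    show (a * b) • x = a • (b • x)
    rw [mul_smul]
  map_zero' := by
    apply NatTrans.ext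
    funext M
    ext x
    show (0 : A) • x = 0
    simp
  map_add' a b := by
    apply NatTrans.ext
    funext M
    ext x
    show (a + b) • x = a • x + b • x
    rw [add_smul]

theorem toEndId_app (a : A) (M : ModuleCat.{u} A) (x : M) :
    ((toEndId A a).app M).hom x = a • x := rfl

theorem toEndId_bijective : Function.Bijective (toEndId A) := by
  constructor
  · intro a b h
    have := congrArg (fun η : End (𝟭 (ModuleCat.{u} A)) => (η.app (ModuleCat.of A A)).hom (1 : A)) h
    simp only [toEndId_app] at this
    simpa using this
  · intro η
    refine ⟨(η.app (ModuleCat.of A A)).hom (1 : A), ?_⟩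
    apply NatTrans.ext
    funext M
    ext x
    rw [toEndId_app]
    have n := η.naturality (ModuleCat.ofHom (LinearMap.toSpanSingleton A M x))
    have n1 := congrArg (fun f => f.hom (1 : A)) n
    simp only [Functor.id_map, Functor.id_obj, ModuleCat.hom_comp, LinearMap.comp_apply,
      ModuleCat.hom_ofHom, LinearMap.toSpanSingleton_apply, one_smul] at n1
    exact n1.symm


end Groth.Agent.S2203aux2

open Groth.Agent.S2203aux Groth.Agent.S2203aux2

namespace Groth.Agent.S2203

/-- Ring-isomorphism part of the statement: let A and B be commutative rings whose categories of modules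
are equivalent. Then A and B are isomorphic as rings. (The source moreover describes the equivalence
as base change followed by tensoring with an invertible module.) -/
theorem result (A B : Type u) [CommRing A] [CommRing B]
    (F : ModuleCat.{u} A ≌ ModuleCat.{u} B) : Nonempty (A ≃+* B) := by
  have : F.functor.PreservesZeroMorphisms := inferInstance
  have hadd : F.functor.Additive := Functor.additive_of_preserves_binary_products _
  let eA := RingEquiv.ofBijective (toEndId A) (toEndId_bijective A)
  let eB := RingEquiv.ofBijective (toEndId B) (toEndId_bijective B)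
  let eP := RingEquiv.ofBijective (pull F.functor) (pull_bijective F)
  exact ⟨(eB.trans eP).trans eA.symm |>.symm⟩

end Groth.Agent.S2203
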