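import Groth.Statements.S2207
import Mathlib

set_option autoImplicit false
universe u v
open DPow

namespace Groth.Agent.S2207

section
variable {A : Type u} {B : Type v} [CommRing A] [CommRing B] [Algebra A B] (x : A)
  (γ : DividedPowers (Ideal.span {x}))

theorem hxI : x ∈ Ideal.span {x} := Ideal.mem_span_singleton_self x

theorem W (b b' : B) (n : ℕ) (h : b * algebraMap A B x = b' * algebraMap A B x) :
    b ^ n * algebraMap A B (γ.dpow n x) = b' ^ n * algebraMap A B (γ.dpow n x) := by
  rcases Nat.eq_zero_or_pos n with rfl | hn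
  · simp
  · obtain ⟨a, ha⟩ := Ideal.mem_span_singleton'.mp (γ.dpow_mem (n := n) (by omega) (hxI x))
    have key : ∀ k : ℕ, 1 ≤ k → b ^ k * algebraMap A B x = b' ^ k * algebraMap A B x := by
      intro k hk
      induction k, hk using Nat.le_induction with
      | base => simpa using h
      | succ k hk ih =>
        calc b ^ (k+1) * algebraMap A B x = b^k * (b * algebraMap A B x) := by ring
          _ = b^k * (b' * algebraMap A B x) := by rw [h]
          _ = b' * (b^k * algebraMap A B x) := by ring
          _ = b' * (b'^k * algebraMap A B x) := by rw [ih]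
          _ = _ := by ring
    rw [← ha, map_mul]
    calc b^n * (algebraMap A B a * algebraMap A B x)
        = algebraMap A B a * (b^n * algebraMap A B x) := by ring
      _ = algebraMap A B a * (b'^n * algebraMap A B x) := by rw [key n hn]
      _ = _ := by ring

open Classical in
noncomputable def dfun (n : ℕ) (y : B) : B :=
  if h : y ∈ Ideal.span {algebraMap A B x} then
    (Ideal.mem_span_singleton'.mp h).choose ^ n * algebraMap A B (γ.dpow n x) else 0

theorem dfun_eq (b : B) (n : ℕ) :
    dfun x γ n (b * algebraMap A B x) = b ^ n * algebraMap A B (γ.dpow n x) := by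
  have hmem : b * algebraMap A B x ∈ Ideal.span {algebraMap A B x} :=
    Ideal.mem_span_singleton'.mpr ⟨b, rfl⟩
  unfold dfun
  rw [dif_pos hmem]
  exact W x γ _ _ n (Ideal.mem_span_singleton'.mp hmem).choose_spec

noncomputable def dp : DividedPowers (Ideal.span {algebraMap A B x}) where
  dpow := dfun x γ
  dpow_null {n y} hy := by unfold dfun; rw [dif_neg hy]
  dpow_zero {y} hy := by
    obtain ⟨b, rfl⟩ := Ideal.mem_span_singleton'.mp hy
    rw [dfun_eq, γ.dpow_zero (hxI x)]; simp
  dpow_one {y} hy := by
    obtain ⟨b, rfl⟩ := Ideal.mem_span_singleton'.mp hy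
    rw [dfun_eq, γ.dpow_one (hxI x)]; simp
  dpow_mem {n y} hn hy := by
    obtain ⟨b, rfl⟩ := Ideal.mem_span_singleton'.mp hy
    rw [dfun_eq]
    obtain ⟨a, ha⟩ := Ideal.mem_span_singleton'.mp (γ.dpow_mem hn (hxI x))
    rw [← ha, map_mul]
    exact Ideal.mem_span_singleton'.mpr ⟨b^n * algebraMap A B a, by ring⟩
  dpow_add {n y z} hy hz := by
    obtain ⟨b, rfl⟩ := Ideal.mem_span_singleton'.mp hy
    obtain ⟨c, rfl⟩ := Ideal.mem_span_singleton'.mp hz
    rw [← add_mul]
    simp only [dfun_eq]
    rw [add_pow, Finset.sum_mul, Finset.Nat.sum_antidiagonal_eq_sum_range_succ_mk]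
    refine Finset.sum_congr rfl fun k hk => ?_
    have hk' : k ≤ n := Nat.lt_succ_iff.mp (Finset.mem_range.mp hk)
    have h1 : γ.dpow k x * γ.dpow (n - k) x = (n.choose k : A) * γ.dpow n x := by
      have := γ.mul_dpow (m := k) (n := n - k) (hxI x)
      rw [Nat.add_sub_cancel' hk'] at this
      exact this
    calc b ^ k * c ^ (n - k) * (n.choose k : B) * algebraMap A B (γ.dpow n x)
        = b ^ k * c ^ (n - k) * algebraMap A B ((n.choose k : A) * γ.dpow n x) := by
          rw [map_mul, map_natCast]; ring
      _ = _ := by rw [← h1, map_mul]; ring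
  dpow_mul {n a y} hy := by
    obtain ⟨b, rfl⟩ := Ideal.mem_span_singleton'.mp hy
    rw [← mul_assoc, dfun_eq, dfun_eq]; ring
  mul_dpow {m n y} hy := by
    obtain ⟨b, rfl⟩ := Ideal.mem_span_singleton'.mp hy
    simp only [dfun_eq]
    have h1 := γ.mul_dpow (m := m) (n := n) (hxI x)
    calc b ^ m * algebraMap A B (γ.dpow m x) * (b ^ n * algebraMap A B (γ.dpow n x))
        = b ^ (m + n) * algebraMap A B (γ.dpow m x * γ.dpow n x) := by rw [map_mul]; ring
      _ = _ := by rw [h1, map_mul, map_natCast]; ring
  dpow_comp {m n y} hn hy := by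
    obtain ⟨b, rfl⟩ := Ideal.mem_span_singleton'.mp hy
    rw [dfun_eq, dfun_eq]
    obtain ⟨a, ha⟩ := Ideal.mem_span_singleton'.mp (γ.dpow_mem hn (hxI x))
    have h1 : b ^ n * algebraMap A B (γ.dpow n x) = (b ^ n * algebraMap A B a) * algebraMap A B x := by
      rw [← ha, map_mul]; ring
    rw [h1, dfun_eq]
    have h2 : a ^ m * γ.dpow m x = (Nat.uniformBell m n : A) * γ.dpow (m * n) x := by
      rw [← γ.dpow_mul (hxI x), ha, γ.dpow_comp hn (hxI x)]
    calc (b ^ n * algebraMap A B a) ^ m * algebraMap A B (γ.dpow m x)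
        = b ^ (m * n) * algebraMap A B (a ^ m * γ.dpow m x) := by
          rw [map_mul, map_pow]; ring
      _ = _ := by rw [h2, map_mul, map_natCast]; ring

theorem dp_isDPMorphism : γ.IsDPMorphism (dp (B := B) x γ) (algebraMap A B) := by
  refine ⟨?_, fun {n} a ha => ?_⟩
  · rw [Ideal.map_span, Set.image_singleton]
  · obtain ⟨c, rfl⟩ := Ideal.mem_span_singleton'.mp ha
    change dfun x γ n (algebraMap A B (c * x)) = _
    rw [map_mul, dfun_eq, γ.dpow_mul (hxI x), map_mul, map_pow]

end

/-- Existence in case (2): let I = (x) be a principal ideal of A with a divided power structure and B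
any A-algebra. Then there is a divided power structure on I B for which A -> B is a homomorphism of
divided power rings. -/
theorem result {A : Type u} {B : Type v} [CommRing A] [CommRing B] [Algebra A B]
    (x : A) (γ : DividedPowers (Ideal.span {x})) :
    ∃ δ : DividedPowers ((Ideal.span {x}).map (algebraMap A B)), γ.IsDPMorphism δ (algebraMap A B) := by
  have hJ : (Ideal.span {x}).map (algebraMap A B) = Ideal.span {algebraMap A B x} := by
    rw [Ideal.map_span, Set.image_singleton]
  rw [hJ]
  exact ⟨dp x γ, dp_isDPMorphism x γ⟩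

end Groth.Agent.S2207
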