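import Groth.Statements.S2211
import Mathlib

set_option autoImplicit false
universe u
open DPow

namespace Groth.Agent.S2211

theorem not_dvd_uniformBell (p : ℕ) (hp : p.Prime) (m : ℕ) : ¬ p ∣ Nat.uniformBell m p := by
  haveI : Fact p.Prime := ⟨hp⟩
  rw [Nat.uniformBell_eq]
  intro h
  rw [hp.prime.dvd_finsetProd_iff] at h
  obtain ⟨j, _, hj⟩ := h
  have h1 := Choose.choose_modEq_choose_mod_mul_choose_div_nat (n := j * p + p - 1) (k := p - 1) (p := p)
  have hpos : 1 ≤ p := hp.one_le
  have e1 : j * p + p - 1 = p * j + (p - 1) := by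
    rw [Nat.add_sub_assoc hpos, mul_comm]
  have hlt : p - 1 < p := Nat.sub_lt hp.pos one_pos
  rw [e1, Nat.mul_add_mod, Nat.mod_eq_of_lt hlt, Nat.mul_add_div hp.pos, Nat.div_eq_of_lt hlt,
    add_zero, Nat.choose_self, Nat.choose_zero_right, mul_one] at h1
  rw [e1] at hj
  have h2 := (Nat.modEq_zero_iff_dvd.mpr hj).symm.trans h1
  have h3 : p ∣ 1 := (Nat.modEq_zero_iff_dvd.mp h2.symm)
  exact hp.one_lt.ne' (Nat.dvd_one.mp h3)

/-- First part: let p be a prime and A a ring in which every integer prime to p is invertible, I an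
ideal of A. Two divided power structures on I coincide exactly when their p-th divided power maps
agree on I. -/
theorem result {A : Type u} [CommRing A] (p : ℕ) (hp : p.Prime)
    (hA : ∀ n : ℕ, ¬ p ∣ n → IsUnit (n : A)) {I : Ideal A} (γ γ' : DividedPowers I) :
    γ = γ' ↔ ∀ x ∈ I, γ.dpow p x = γ'.dpow p x := by
  constructor
  · rintro rfl x _
    rfl
  · intro h
    have hp0 : p ≠ 0 := hp.ne_zero
    have key : ∀ n : ℕ, ∀ x ∈ I, γ.dpow n x = γ'.dpow n x := by
      intro n
      induction n using Nat.strong_induction_on with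
      | _ n ih =>
        intro x hx
        rcases Nat.eq_zero_or_pos n with hn | hn
        · subst hn
          rw [γ.dpow_zero hx, γ'.dpow_zero hx]
        by_cases hpn : p ∣ n
        · obtain ⟨m, rfl⟩ := hpn
          have hm : m < p * m := by
            have hm0 : 0 < m := Nat.pos_of_mul_pos_left hn
            nlinarith [hp.two_le]
          have hy : γ.dpow p x ∈ I := γ.dpow_mem hp0 hx
          have e1 := γ.dpow_comp (m := m) hp0 hx
          have e2 := γ'.dpow_comp (m := m) hp0 hx
          rw [← h x hx, ← ih m hm _ hy, e1] at e2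
          have hu := hA _ (not_dvd_uniformBell p hp m)
          rw [mul_comm p m]
          exact hu.mul_left_cancel e2
        · have e1 := γ.mul_dpow (m := 1) (n := n - 1) hx
          have e2 := γ'.mul_dpow (m := 1) (n := n - 1) hx
          have hn1 : 1 + (n - 1) = n := by omega
          rw [hn1, Nat.choose_one_right, γ.dpow_one hx] at e1
          rw [hn1, Nat.choose_one_right, γ'.dpow_one hx, ← ih (n - 1) (by omega) x hx, e1] at e2
          exact (hA n hpn).mul_left_cancel e2
    exact DividedPowers.ext _ _ (fun n x hx => key n x hx)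

end Groth.Agent.S2211
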