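import Groth.Statements.S2215
import Groth.Agent.Lib.helper29.Disc1

set_option autoImplicit false
universe u v
open Disc

namespace Groth.Agent.S2215

open Groth.Agent.H29.Disc1 in
theorem aux {A : Type u} {B : Type v} [CommRing A]
    [CommRing B] [Algebra A B] [Module.Finite A B] [Module.Free A B] :
    (Disc.noetherDifferent A B : Set B) =
      Set.range (fun φ : Disc.Omega A B →ₗ[B] B => φ (Disc.Omega.trace A B)) := by
  have hsurj : Function.Surjective (Algebra.TensorProduct.lmul' (S := B) A) := fun x =>
    ⟨x ⊗ₜ[A] 1, by simp⟩
  ext x
  simp only [SetLike.mem_coe, Set.mem_range]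
  unfold Disc.noetherDifferent
  rw [Ideal.mem_map_iff_of_surjective _ hsurj]
  constructor
  · rintro ⟨ξ, hξ, rfl⟩
    refine ⟨pair ξ hξ, ?_⟩
    rw [pair_apply]
    exact ev_trace (Module.Free.chooseBasis A B) ξ hξ
  · rintro ⟨φ, rfl⟩
    obtain ⟨ξ, ⟨hξ, h2⟩, -⟩ := existsUnique_pairing φ
    refine ⟨ξ, hξ, ?_⟩
    rw [h2]
    exact (ev_trace (Module.Free.chooseBasis A B) ξ hξ).symm

/-- Special case: B finite free over A (the source allows flat quasi-finite maps of Noetherian rings).
Let omega = Hom_A(B, A) with its B-module structure through the argument and tau in omega the trace.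
Then an element of B lies in the Noether different of B over A exactly when it is of the form
phi(tau) for some B-linear map phi : omega -> B. -/
theorem result {A : Type u} {B : Type v} [CommRing A]
    [CommRing B] [Algebra A B] [IsNoetherianRing A] [Module.Finite A B] [Module.Free A B] :
    (Disc.noetherDifferent A B : Set B) =
      Set.range (fun φ : Disc.Omega A B →ₗ[B] B => φ (Disc.Omega.trace A B)) := by
  exact aux

end Groth.Agent.S2215
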