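import Groth.Statements.S2218
import Mathlib

set_option autoImplicit false
universe u v
open Disc

namespace Groth.Agent.S2218

open TensorProduct

theorem exists_functional {R : Type u} {S : Type v} [CommRing R] [IsDomain R] [CommRing S]
    [Algebra R S] [Module.Finite R S] (hinj : Function.Injective (algebraMap R S)) :
    ∃ ψ : S →ₗ[R] R, ψ 1 ≠ 0 := by
  classical
  let K := FractionRing R
  letI : Field K := inferInstanceAs (Field (FractionRing R))
  haveI : Module.Free K (K ⊗[R] S) := Module.Free.of_divisionRing K _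
  haveI : Module.Projective K (K ⊗[R] S) := Module.Projective.of_free
  -- 1 ⊗ 1 ≠ 0
  have h1 : ((1 : K) ⊗ₜ[R] (1 : S)) ≠ 0 := by
    have hflat := Module.Flat.lTensor_preserves_injective_linearMap (M := K)
      (Algebra.linearMap R S) hinj
    intro h0
    have h2 : (LinearMap.lTensor K (Algebra.linearMap R S)) ((1 : K) ⊗ₜ[R] (1 : R)) = 0 := by
      rw [LinearMap.lTensor_tmul, Algebra.linearMap_apply, map_one, h0]
    have h3 := hflat (h2.trans (map_zero _).symm)
    have h4 := congrArg (TensorProduct.rid R K) h3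
    rw [TensorProduct.rid_tmul, map_zero, one_smul] at h4
    exact one_ne_zero h4
  obtain ⟨lam, hlam⟩ : ∃ lam : Module.Dual K (K ⊗[R] S), lam ((1 : K) ⊗ₜ[R] (1 : S)) ≠ 0 := by
    by_contra hcon
    push_neg at hcon
    exact h1 ((Module.forall_dual_apply_eq_zero_iff K _).1 hcon)
  let lam0 : S →ₗ[R] K := (lam.restrictScalars R) ∘ₗ (TensorProduct.mk R K S 1)
  obtain ⟨s, hs⟩ := (Module.Finite.fg_top : (⊤ : Submodule R S).FG)
  obtain ⟨d, hd⟩ := IsLocalization.exist_integer_multiples_of_finset (nonZeroDivisors R)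
    (s.image lam0)
  have hrange : ∀ b : S, (d : R) • lam0 b ∈ LinearMap.range (Algebra.linearMap R K) := by
    intro b
    have hb : b ∈ Submodule.span R (s : Set S) := by rw [hs]; trivial
    refine Submodule.span_induction ?_ ?_ ?_ ?_ hb
    · intro x hx
      obtain ⟨a, ha⟩ := hd (lam0 x) (Finset.mem_image_of_mem _ hx)
      exact ⟨a, ha⟩
    · rw [map_zero, smul_zero]; exact zero_mem _
    · intro x y _ _ hx hy
      rw [map_add, smul_add]; exact add_mem hx hy
    · intro a x _ hx
      rw [map_smul, smul_comm]; exact Submodule.smul_mem _ _ hx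
  have hKinj : Function.Injective (Algebra.linearMap R K) := IsFractionRing.injective R K
  let e := LinearEquiv.ofInjective (Algebra.linearMap R K) hKinj
  let ψ : S →ₗ[R] R := e.symm.toLinearMap ∘ₗ
    (LinearMap.codRestrict _ ((d : R) • lam0) hrange)
  refine ⟨ψ, ?_⟩
  intro h0
  have h5 : (Algebra.linearMap R K) (ψ 1) = (d : R) • lam0 1 := by
    have := LinearEquiv.ofInjective_apply (Algebra.linearMap R K) (h := hKinj) (ψ 1)
    have h6 : e (ψ 1) = LinearMap.codRestrict _ ((d : R) • lam0) hrange 1 :=
      e.apply_symm_apply _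
    have h7 := congrArg Subtype.val h6
    exact h7
  rw [h0, map_zero] at h5
  have h8 : lam0 1 = lam ((1 : K) ⊗ₜ[R] (1 : S)) := rfl
  rw [h8, Algebra.smul_def] at h5
  rcases mul_eq_zero.1 h5.symm with h9 | h9
  · exact nonZeroDivisors.ne_zero d.2 (IsFractionRing.injective R K (h9.trans (map_zero _).symm))
  · exact hlam h9

section main
variable {A : Type u} {B : Type v} [CommRing A] [CommRing B]
    [Algebra A B] [IsNoetherianRing A] [IsNoetherianRing B] [Module.Finite A B]

omit [IsNoetherianRing A] [IsNoetherianRing B] [Module.Finite A B] in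
theorem smul_eq_zero_iff (b : B) (φ : Disc.Omega A B) :
    b • φ = 0 ↔ ∀ y : B, φ.toLinearMap (b * y) = 0 := by
  constructor
  · intro h y
    have := congrArg (fun ω : Disc.Omega A B => ω.toLinearMap y) h
    simpa using this
  · intro h
    apply Disc.Omega.ext
    ext y
    simpa using h y

theorem forward (q : Ideal B) (hq : q ∈ associatedPrimes B (Disc.Omega A B)) :
    q.IsPrime ∧ q.comap (algebraMap A B) ∈ associatedPrimes A A := by
  obtain ⟨hqp, φ, hφ⟩ := (isAssociatedPrime_iff).1 hq
  refine ⟨hqp, ?_⟩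
  haveI := hqp
  have hpp : (q.comap (algebraMap A B)).IsPrime := Ideal.comap_isPrime _ _
  obtain ⟨n, b, hb⟩ := Module.Finite.exists_fin (R := A) (M := B)
  have hmem : ∀ a : A, a ∈ q.comap (algebraMap A B) ↔ ∀ i, a * φ.toLinearMap (b i) = 0 := by
    intro a
    rw [Ideal.mem_comap, hφ, Submodule.mem_colon_singleton, Submodule.mem_bot, smul_eq_zero_iff]
    constructor
    · intro h i
      have := h (b i)
      rwa [← Algebra.smul_def, map_smul, smul_eq_mul] at this
    · intro h y
      rw [← Algebra.smul_def, map_smul, smul_eq_mul]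
      have hy : y ∈ Submodule.span A (Set.range b) := by rw [hb]; trivial
      refine Submodule.span_induction ?_ ?_ ?_ ?_ hy
      · rintro _ ⟨i, rfl⟩; exact h i
      · rw [map_zero, mul_zero]
      · intro x z _ _ hx hz; rw [map_add, mul_add, hx, hz, add_zero]
      · intro c x _ hx; rw [map_smul, smul_eq_mul, mul_left_comm, hx, mul_zero]
  have hle : (Finset.univ.inf fun i : Fin n =>
      (⊥ : Submodule A A).colon {φ.toLinearMap (b i)}) ≤ q.comap (algebraMap A B) := by
    intro a ha
    rw [hmem]
    intro i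
    have hle' : (Finset.univ.inf fun i : Fin n =>
      (⊥ : Submodule A A).colon {φ.toLinearMap (b i)}) ≤
        (⊥ : Submodule A A).colon {φ.toLinearMap (b i)} :=
      Finset.inf_le (f := fun i : Fin n => (⊥ : Submodule A A).colon {φ.toLinearMap (b i)})
        (Finset.mem_univ i)
    have := hle' ha
    rwa [Submodule.mem_colon_singleton, Submodule.mem_bot, smul_eq_mul] at this
  obtain ⟨i, -, hi⟩ := hpp.inf_le'.1 hle
  refine (isAssociatedPrime_iff).2 ⟨hpp, φ.toLinearMap (b i), le_antisymm ?_ hi⟩
  intro a ha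
  rw [Submodule.mem_colon_singleton, Submodule.mem_bot, smul_eq_mul]
  exact (hmem a).1 ha i


theorem backward (q : Ideal B) (hqp : q.IsPrime)
    (hp : q.comap (algebraMap A B) ∈ associatedPrimes A A) :
    q ∈ associatedPrimes B (Disc.Omega A B) := by
  haveI := hqp
  obtain ⟨hpp, x, hx⟩ := (isAssociatedPrime_iff).1 hp
  haveI := hpp
  set p := q.comap (algebraMap A B) with hpdef
  haveI : IsDomain (A ⧸ p) := Ideal.Quotient.isDomain p
  haveI : IsDomain (B ⧸ q) := Ideal.Quotient.isDomain q
  haveI : Module.Finite A (B ⧸ q) :=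
    Module.Finite.of_surjective (Ideal.Quotient.mkₐ A q).toLinearMap Ideal.Quotient.mk_surjective
  haveI : Module.Finite (A ⧸ p) (B ⧸ q) := Module.Finite.of_restrictScalars_finite A (A ⧸ p) (B ⧸ q)
  obtain ⟨ψ, hψ⟩ := exists_functional (R := A ⧸ p) (S := B ⧸ q) Ideal.algebraMap_quotient_injective
  -- μ_x
  have hker : p ≤ LinearMap.ker (LinearMap.toSpanSingleton A A x) := by
    intro a ha
    rw [hx, Submodule.mem_colon_singleton, Submodule.mem_bot] at ha
    rw [LinearMap.mem_ker, LinearMap.toSpanSingleton_apply]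
    exact ha
  let μ : (A ⧸ p) →ₗ[A] A := Submodule.liftQ p (LinearMap.toSpanSingleton A A x) hker
  have hμinj : Function.Injective μ := by
    rw [← LinearMap.ker_eq_bot]
    apply Submodule.ker_liftQ_eq_bot
    intro a ha
    rw [LinearMap.mem_ker, LinearMap.toSpanSingleton_apply] at ha
    rw [hx, Submodule.mem_colon_singleton, Submodule.mem_bot]
    exact ha
  let φ₀ : B →ₗ[A] A := μ ∘ₗ (ψ.restrictScalars A) ∘ₗ (Ideal.Quotient.mkₐ A q).toLinearMap
  have hφ₀ : ∀ y : B, φ₀ y = μ (ψ (Ideal.Quotient.mk q y)) := fun y => rfl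
  refine (isAssociatedPrime_iff).2 ⟨hqp, ⟨φ₀⟩, ?_⟩
  ext b
  rw [Submodule.mem_colon_singleton, Submodule.mem_bot, smul_eq_zero_iff]
  constructor
  · intro hb y
    show φ₀ (b * y) = 0
    rw [hφ₀, (Ideal.Quotient.eq_zero_iff_mem).2 (q.mul_mem_right y hb), map_zero, map_zero]
  · intro h
    by_contra hbq
    have hb0 : (Ideal.Quotient.mk q b) ≠ 0 := fun h0 => hbq (Ideal.Quotient.eq_zero_iff_mem.1 h0)
    have hint : IsIntegral (A ⧸ p) (Ideal.Quotient.mk q b) := Algebra.IsIntegral.isIntegral _
    have hne := Ideal.comap_ne_bot_of_integral_mem (R := A ⧸ p)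
      (I := Ideal.span {Ideal.Quotient.mk q b}) hb0 (Ideal.mem_span_singleton_self _) hint
    obtain ⟨a0, ha0mem, ha0⟩ := Submodule.exists_mem_ne_zero_of_ne_bot hne
    rw [Ideal.mem_comap, Ideal.mem_span_singleton'] at ha0mem
    obtain ⟨c', hc'⟩ := ha0mem
    obtain ⟨c, rfl⟩ := Ideal.Quotient.mk_surjective c'
    have h1 := h c
    change φ₀ (b * c) = 0 at h1
    rw [hφ₀, map_mul, mul_comm, hc'] at h1
    have h2 : ψ (algebraMap (A ⧸ p) (B ⧸ q) a0) = a0 * ψ 1 := by
      rw [Algebra.algebraMap_eq_smul_one, map_smul, smul_eq_mul]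
    rw [h2] at h1
    have h3 : a0 * ψ 1 = 0 := hμinj (h1.trans (map_zero μ).symm)
    rcases mul_eq_zero.1 h3 with h4 | h4
    · exact ha0 h4
    · exact hψ h4

theorem result' : associatedPrimes B (Disc.Omega A B) =
      {q : Ideal B | q.IsPrime ∧ q.comap (algebraMap A B) ∈ associatedPrimes A A} := by
  ext q
  exact ⟨forward q, fun h => backward q h.1 h.2⟩

end main

/-- Special case: A -> B finite (the source allows quasi-finite maps). For a finite map of Noetherian
rings and omega = Hom_A(B, A) with its B-module structure through the argument, the associated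
primes of the B-module omega are exactly the primes of B whose contraction to A is an associated
prime of A. -/
theorem result {A : Type u} {B : Type v} [CommRing A] [CommRing B]
    [Algebra A B] [IsNoetherianRing A] [IsNoetherianRing B] [Module.Finite A B] :
    associatedPrimes B (Disc.Omega A B) =
      {q : Ideal B | q.IsPrime ∧ q.comap (algebraMap A B) ∈ associatedPrimes A A} := by
  exact result'

end Groth.Agent.S2218
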