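import Groth.Statements.S2220
import Mathlib

set_option autoImplicit false
universe u
open AlgebraicGeometry
open Disc

namespace Groth.Agent.S2220
open AlgebraicGeometry CategoryTheory TensorProduct
open Disc

section helpers




/-- Annihilators of finitely generated ideals commute with flat base change. -/
theorem annih_flat {R R' : Type*} [CommRing R] [CommRing R'] [Algebra R R'] [Module.Flat R R']
    (J : Ideal R) (hJ : J.FG) :
    Submodule.annihilator (J.map (algebraMap R R')) =
      (Submodule.annihilator J).map (algebraMap R R') := by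
  classical
  apply le_antisymm
  · obtain ⟨s, hs⟩ := hJ
    intro y hy
    rw [Submodule.mem_annihilator] at hy
    -- φ : R → (s → R)
    let φ : R →ₗ[R] (s → R) := LinearMap.pi (fun i => LinearMap.mulRight R (i : R))
    have hker : ∀ a : R, a ∈ LinearMap.ker φ → a ∈ Submodule.annihilator J := by
      intro a ha
      rw [Submodule.mem_annihilator]
      intro x hx
      rw [← hs] at hx
      refine Submodule.span_induction ?_ ?_ ?_ ?_ hx
      · intro x hx
        have := congrFun (LinearMap.mem_ker.1 ha) ⟨x, hx⟩
        simpa [φ] using this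
      · simp
      · intro x y _ _ hx hy; rw [smul_add, hx, hy, add_zero]
      · intro c x _ hx; rw [smul_comm, hx, smul_zero]
    have h0 : (LinearMap.lTensor R' φ) (y ⊗ₜ[R] (1 : R)) = 0 := by
      rw [LinearMap.lTensor_tmul]
      have h1 : φ 1 = ∑ i : s, (i : R) • (Pi.single i (1 : R) : s → R) := by
        ext j
        simp [φ, Finset.sum_apply, Pi.single_apply]
      rw [h1, TensorProduct.tmul_sum]
      apply Finset.sum_eq_zero
      intro i _
      rw [TensorProduct.tmul_smul, TensorProduct.smul_tmul']
      have : (i : R) • y = 0 := by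
        have := hy (algebraMap R R' (i : R)) (Ideal.mem_map_of_mem _ (by
          rw [← hs]; exact Ideal.subset_span i.2))
        rw [smul_eq_mul] at this
        rw [Algebra.smul_def, mul_comm]; exact this
      rw [this, TensorProduct.zero_tmul]
    have hex : Function.Exact (LinearMap.lTensor R' (LinearMap.ker φ).subtype)
        (LinearMap.lTensor R' φ) :=
      Module.Flat.lTensor_exact R' (LinearMap.exact_subtype_ker_map φ)
    obtain ⟨z, hz⟩ := (hex _).1 h0
    -- multiplication map
    let m : R' ⊗[R] R →ₗ[R] R' := (TensorProduct.rid R R').toLinearMap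
    have hm : m (y ⊗ₜ[R] (1 : R)) = y := by simp [m]
    have key : ∀ z : R' ⊗[R] (LinearMap.ker φ),
        m (LinearMap.lTensor R' (LinearMap.ker φ).subtype z) ∈
          (Submodule.annihilator J).map (algebraMap R R') := by
      intro z
      induction z using TensorProduct.induction_on with
      | zero => simp
      | tmul y' a =>
        rw [LinearMap.lTensor_tmul]
        simp only [m, LinearEquiv.coe_coe, TensorProduct.rid_tmul, Submodule.subtype_apply]
        rw [Algebra.smul_def]
        exact Ideal.mul_mem_right _ _ (Ideal.mem_map_of_mem _ (hker _ a.2))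
      | add z1 z2 h1 h2 =>
        rw [map_add, map_add]; exact Ideal.add_mem _ h1 h2
    rw [← hm, ← hz]
    exact key z
  · rw [Ideal.map_le_iff_le_comap]
    intro a ha
    rw [Ideal.mem_comap, Submodule.mem_annihilator]
    intro x hx
    rw [Submodule.mem_annihilator] at ha
    refine Submodule.span_induction ?_ ?_ ?_ ?_ hx
    · rintro _ ⟨x, hx, rfl⟩
      rw [smul_eq_mul, ← map_mul]
      have := ha x hx
      rw [smul_eq_mul] at this
      rw [this, map_zero]
    · simp
    · intro x y _ _ hx hy; rw [smul_add, hx, hy, add_zero]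
    · intro c x _ hx; rw [smul_comm, hx, smul_zero]




end helpers

/-- Part (2): for ring maps A -> B' -> B with B' of finite type over A and Spec B -> Spec B' an open
immersion, the Noether different of B over A is the ideal generated by the image of that of B'. -/
theorem result {A B' B : Type u} [CommRing A] [CommRing B']
    [CommRing B] [Algebra A B'] [Algebra A B] [Algebra B' B] [IsScalarTower A B' B]
    [Algebra.FiniteType A B']
    (h : IsOpenImmersion (Spec.map (CommRingCat.ofHom (algebraMap B' B)))) :
    Disc.noetherDifferent A B = (Disc.noetherDifferent A B').map (algebraMap B' B) := by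
  have hflat : (algebraMap B' B).Flat := by
    have : Flat (Spec.map (CommRingCat.ofHom (algebraMap B' B))) := inferInstance
    rw [Flat.SpecMap_iff] at this
    exact this
  have hepi : Epi (CommRingCat.ofHom (algebraMap B' B)) := by
    have hm : Mono (Spec.map (CommRingCat.ofHom (algebraMap B' B))) := inferInstance
    have hm' : Mono (Scheme.Spec.map (CommRingCat.ofHom (algebraMap B' B)).op) := hm
    have hm2 : Mono (CommRingCat.ofHom (algebraMap B' B)).op :=
      Functor.mono_of_mono_map Scheme.Spec hm'
    exact unop_epi_of_mono (CommRingCat.ofHom (algebraMap B' B)).op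
  let f' : B' →ₐ[A] B := IsScalarTower.toAlgHom A B' B
  let ρ : B' ⊗[A] B' →ₐ[A] B ⊗[A] B := Algebra.TensorProduct.map f' f'
  have hρflat : ρ.toRingHom.Flat := RingHom.Flat.tensorProductMap (f := f') (g := f') hflat hflat
  letI : Algebra (B' ⊗[A] B') (B ⊗[A] B) := ρ.toRingHom.toAlgebra
  haveI : Module.Flat (B' ⊗[A] B') (B ⊗[A] B) := hρflat
  let μ' : B' ⊗[A] B' →ₐ[A] B' := Algebra.TensorProduct.lmul' (S := B') A
  let μ : B ⊗[A] B →ₐ[A] B := Algebra.TensorProduct.lmul' (S := B) A
  have hμρ : μ.comp ρ = f'.comp μ' := by
    apply Algebra.TensorProduct.ext'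
    intro x y
    simp [μ, μ', ρ, f']
  have hμρ' : μ.toRingHom.comp ρ.toRingHom = (algebraMap B' B).comp μ'.toRingHom := by
    exact RingHom.ext (fun x => AlgHom.congr_fun hμρ x)
  -- Step 2
  have hJ : RingHom.ker μ.toRingHom = (RingHom.ker μ'.toRingHom).map ρ.toRingHom := by
    apply le_antisymm
    · have : RingHom.ker μ.toRingHom = KaehlerDifferential.ideal A B := rfl
      rw [this, ← KaehlerDifferential.span_range_eq_ideal, Ideal.span_le]
      rintro _ ⟨b, rfl⟩
      set Jm := (RingHom.ker μ'.toRingHom).map ρ.toRingHom with hJm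
      let i1 : B →+* (B ⊗[A] B) ⧸ Jm :=
        (Ideal.Quotient.mk Jm).comp (Algebra.TensorProduct.includeLeftRingHom)
      let i2 : B →+* (B ⊗[A] B) ⧸ Jm :=
        (Ideal.Quotient.mk Jm).comp (Algebra.TensorProduct.includeRight (R := A) (A := B) (B := B)).toRingHom
      have hagree : i1.comp (algebraMap B' B) = i2.comp (algebraMap B' B) := by
        ext b'
        simp only [i1, i2, RingHom.coe_comp, Function.comp_apply,
          Algebra.TensorProduct.includeLeftRingHom_apply, AlgHom.toRingHom_eq_coe, RingHom.coe_coe,
          Algebra.TensorProduct.includeRight_apply]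
        rw [Ideal.Quotient.eq]
        have h1 : (algebraMap B' B b' ⊗ₜ[A] (1 : B) - (1 : B) ⊗ₜ[A] algebraMap B' B b') =
            ρ.toRingHom (b' ⊗ₜ[A] (1 : B') - (1 : B') ⊗ₜ[A] b') := by
          simp [ρ, f']
        rw [h1]
        apply Ideal.mem_map_of_mem
        have := KaehlerDifferential.one_smul_sub_smul_one_mem_ideal A b'
        have h2 : (b' ⊗ₜ[A] (1 : B') - (1 : B') ⊗ₜ[A] b') = -((1 : B') ⊗ₜ[A] b' - b' ⊗ₜ[A] (1 : B')) := by
          ring
        rw [h2]
        exact Ideal.neg_mem_iff _ |>.2 this
      have h12 : i1 = i2 := by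
        have h3 : CommRingCat.ofHom (algebraMap B' B) ≫ CommRingCat.ofHom i1 =
            CommRingCat.ofHom (algebraMap B' B) ≫ CommRingCat.ofHom i2 := by
          rw [← CommRingCat.ofHom_comp, ← CommRingCat.ofHom_comp, hagree]
        have h4 := (cancel_epi _).1 h3
        exact congrArg CommRingCat.Hom.hom h4
      have h5 := RingHom.congr_fun h12 b
      simp only [i1, i2, RingHom.coe_comp, Function.comp_apply,
          Algebra.TensorProduct.includeLeftRingHom_apply, AlgHom.toRingHom_eq_coe, RingHom.coe_coe,
          Algebra.TensorProduct.includeRight_apply] at h5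
      rw [Ideal.Quotient.eq] at h5
      have h6 : ((1 : B) ⊗ₜ[A] b - b ⊗ₜ[A] (1 : B)) = -(b ⊗ₜ[A] (1 : B) - (1 : B) ⊗ₜ[A] b) := by ring
      show ((1 : B) ⊗ₜ[A] b - b ⊗ₜ[A] (1 : B)) ∈ Jm
      rw [h6]
      exact (Ideal.neg_mem_iff _).2 h5
    · rw [Ideal.map_le_iff_le_comap]
      intro x hx
      rw [Ideal.mem_comap, RingHom.mem_ker]
      rw [RingHom.mem_ker] at hx
      have := RingHom.congr_fun hμρ' x
      simp only [RingHom.coe_comp, Function.comp_apply] at this
      rw [this, hx, map_zero]
  -- Step 4
  have hfg : (RingHom.ker μ'.toRingHom).FG := KaehlerDifferential.ideal_fg A B'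
  have hAnn : Submodule.annihilator (RingHom.ker μ.toRingHom) =
      (Submodule.annihilator (RingHom.ker μ'.toRingHom)).map ρ.toRingHom := by
    rw [hJ]
    exact annih_flat _ hfg
  -- Step 5
  show Ideal.map μ.toRingHom (Submodule.annihilator (RingHom.ker μ.toRingHom)) =
    (Ideal.map μ'.toRingHom (Submodule.annihilator (RingHom.ker μ'.toRingHom))).map (algebraMap B' B)
  rw [hAnn, Ideal.map_map, Ideal.map_map, hμρ']

end Groth.Agent.S2220
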