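import Groth.Statements.S2229
import Mathlib
import Groth.Agent.S2216

set_option autoImplicit false
universe u
open Disc

namespace Groth.Agent.S2229

section Aux
open TensorProduct

/-- rank one identity for invertible modules. -/
theorem rank_one_identity {B ω : Type*} [CommRing B] [AddCommGroup ω] [Module B ω]
    [Module.Invertible B ω] (μ : ω →ₗ[B] B) (α β : ω) : μ α • β = μ β • α := by
  let Ψ : ω ⊗[B] ω →ₗ[B] ω := TensorProduct.lift (LinearMap.mk₂ B (fun a b => μ a • b)
    (fun a a' b => by rw [map_add, add_smul]) (fun c a b => by rw [map_smul, smul_assoc])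
    (fun a b b' => by rw [smul_add]) (fun c a b => by rw [smul_comm]))
  have h1 : ∀ a b : ω, Ψ (a ⊗ₜ b) = μ a • b := fun a b => by simp [Ψ]
  have h2 : α ⊗ₜ[B] β = β ⊗ₜ[B] α := Module.Invertible.tmul_comm
  have := congrArg Ψ h2
  rwa [h1, h1] at this

variable {A B : Type u} [CommRing A] [CommRing B] [Algebra A B]

theorem key_identity [Module.Free A B] [Module.Finite A B] [Module.Invertible B (Disc.Omega A B)]
    (μ : Disc.Omega A B →ₗ[B] B) (φ : B →ₗ[A] A) (y : B) :
    φ (μ (Disc.Omega.trace A B) * y) = Algebra.trace A B (μ ⟨φ⟩ * y) := by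
  have h := rank_one_identity μ (Disc.Omega.trace A B) ⟨φ⟩
  have h2 := congrArg (fun w : Disc.Omega A B => w.toLinearMap y) h
  simp only [Disc.Omega.smul_toLinearMap_apply] at h2
  exact h2

variable {ι : Type} [Fintype ι] [DecidableEq ι] (b : Module.Basis ι A B)

/-- the matrix of `μ` in the bases (dual basis, `b`). -/
noncomputable def Cmat (μ : Disc.Omega A B →ₗ[B] B) : Matrix ι ι A :=
  Matrix.of fun i k => b.repr (μ ⟨b.coord i⟩) k

theorem mem_differentSet [Module.Free A B] [Module.Finite A B]
    [Module.Invertible B (Disc.Omega A B)] (μ : Disc.Omega A B →ₗ[B] B) :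
    μ (Disc.Omega.trace A B) ∈ Disc.differentSet A B :=
  fun φ => ⟨μ ⟨φ⟩, fun x => key_identity μ φ x⟩

theorem norm_eq [Module.Free A B] [Module.Finite A B] [Module.Invertible B (Disc.Omega A B)]
    (μ : Disc.Omega A B →ₗ[B] B) :
    Algebra.norm A (μ (Disc.Omega.trace A B)) = (Cmat b μ).det * Algebra.discr A b := by
  have hM : Algebra.leftMulMatrix b (μ (Disc.Omega.trace A B)) =
      Cmat b μ * Algebra.traceMatrix A b := by
    ext i j
    rw [Algebra.leftMulMatrix_eq_repr_mul, Matrix.mul_apply]
    have h1 : b.repr (μ (Disc.Omega.trace A B) * b j) i =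
        b.coord i (μ (Disc.Omega.trace A B) * b j) := rfl
    rw [h1, key_identity μ (b.coord i) (b j)]
    conv_lhs => rw [← b.sum_repr (μ ⟨b.coord i⟩)]
    rw [Finset.sum_mul, map_sum]
    refine Finset.sum_congr rfl fun k _ => ?_
    rw [Cmat, Matrix.of_apply, smul_mul_assoc, map_smul, smul_eq_mul, Algebra.traceMatrix_apply,
      Algebra.traceForm_apply]
  rw [Algebra.norm_eq_matrix_det b, hM, Matrix.det_mul, Algebra.discr_def]

theorem repr_mem_of_mem_map (𝔪 : Ideal A) {z : B} (hz : z ∈ 𝔪.map (algebraMap A B)) (k : ι) :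
    b.repr z k ∈ 𝔪 := by
  unfold Ideal.map at hz
  induction hz using Submodule.span_induction generalizing k with
  | mem z hz =>
    obtain ⟨a, ha, rfl⟩ := hz
    rw [Algebra.algebraMap_eq_smul_one, map_smul, Finsupp.smul_apply, smul_eq_mul]
    exact 𝔪.mul_mem_right _ ha
  | zero => simp
  | add x y _ _ hx hy =>
    rw [map_add, Finsupp.add_apply]
    exact 𝔪.add_mem (hx k) (hy k)
  | smul c z _ hz =>
    have h1 : c • z = ∑ i, b.repr z i • (c * b i) := by
      conv_lhs => rw [← b.sum_repr z]
      rw [Finset.smul_sum]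
      refine Finset.sum_congr rfl fun i _ => ?_
      rw [smul_eq_mul, mul_smul_comm]
    rw [h1, map_sum, Finsupp.coe_finset_sum, Finset.sum_apply]
    refine 𝔪.sum_mem fun i _ => ?_
    rw [map_smul, Finsupp.smul_apply, smul_eq_mul]
    exact 𝔪.mul_mem_right _ (hz i)


theorem exists_det_notMem [Module.Invertible B (Disc.Omega A B)] (𝔪 : Ideal A) [𝔪.IsMaximal] :
    ∃ μ : Disc.Omega A B →ₗ[B] B, (Cmat b μ).det ∉ 𝔪 := by
  classical
  haveI : Module.Finite A B := Module.Finite.of_basis b
  letI : Field (A ⧸ 𝔪) := Ideal.Quotient.field 𝔪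
  haveI : IsScalarTower A (A ⧸ 𝔪) (B ⧸ 𝔪.map (algebraMap A B)) := inferInstance
  haveI : Module.Finite (A ⧸ 𝔪) (B ⧸ 𝔪.map (algebraMap A B)) :=
    Module.Finite.of_restrictScalars_finite A _ _
  haveI : IsArtinianRing (B ⧸ 𝔪.map (algebraMap A B)) := IsArtinianRing.of_finite (A ⧸ 𝔪) _
  haveI : Finite (MaximalSpectrum (B ⧸ 𝔪.map (algebraMap A B))) := inferInstance
  haveI : Module.Free (B ⧸ 𝔪.map (algebraMap A B))
      ((B ⧸ 𝔪.map (algebraMap A B)) ⊗[B] Disc.Omega A B) := inferInstance
  obtain ⟨e⟩ := Module.Invertible.free_iff_linearEquiv.1 this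
  -- an element λ with 1 ⊗ λ = e.symm 1
  have hsurj : ∀ w : (B ⧸ 𝔪.map (algebraMap A B)) ⊗[B] Disc.Omega A B,
      ∃ l : Disc.Omega A B, (1 : B ⧸ 𝔪.map (algebraMap A B)) ⊗ₜ[B] l = w := by
    intro w
    induction w using TensorProduct.induction_on with
    | zero => exact ⟨0, by simp⟩
    | add x y hx hy =>
      obtain ⟨l1, h1⟩ := hx
      obtain ⟨l2, h2⟩ := hy
      exact ⟨l1 + l2, by rw [tmul_add, h1, h2]⟩
    | tmul c l =>
      obtain ⟨c, rfl⟩ := Ideal.Quotient.mk_surjective c
      refine ⟨c • l, ?_⟩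
      rw [tmul_smul, smul_tmul', Algebra.smul_def, mul_one]
      rfl
  obtain ⟨l, hl⟩ := hsurj (e.symm 1)
  -- the lift μ
  let g : Disc.Omega A B →ₗ[B] (B ⧸ 𝔪.map (algebraMap A B)) :=
    (e.toLinearMap.restrictScalars B) ∘ₗ (TensorProduct.mk B _ _ 1)
  have hgl : g l = 1 := by
    simp only [g, LinearMap.comp_apply, TensorProduct.mk_apply, LinearMap.coe_restrictScalars,
      LinearEquiv.coe_coe]
    rw [hl, LinearEquiv.apply_symm_apply]
  obtain ⟨μ, hμ⟩ := Module.projective_lifting_property
    (Algebra.linearMap B (B ⧸ 𝔪.map (algebraMap A B))) g Ideal.Quotient.mk_surjective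
  have hμl : μ l - 1 ∈ 𝔪.map (algebraMap A B) := by
    rw [← Ideal.Quotient.eq_zero_iff_mem, map_sub, map_one, sub_eq_zero]
    have := LinearMap.congr_fun hμ l
    rw [hgl] at this
    exact this
  refine ⟨μ, fun hdet => ?_⟩
  -- matrices
  let D : Matrix ι ι A := Matrix.of fun j i => (b j • l).toLinearMap (b i)
  have hexp : ∀ w : Disc.Omega A B, w = ∑ i, algebraMap A B (w.toLinearMap (b i)) •
      (⟨b.coord i⟩ : Disc.Omega A B) := by
    intro w
    apply Disc.Omega.ext
    apply b.ext
    intro k
    have hsum : ∀ (s : Finset ι) (f : ι → Disc.Omega A B),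
        (∑ i ∈ s, f i).toLinearMap = ∑ i ∈ s, (f i).toLinearMap := by
      intro s f
      induction s using Finset.induction_on with
      | empty => simp
      | insert a s ha ih => rw [Finset.sum_insert ha, Finset.sum_insert ha,
          Disc.Omega.add_toLinearMap, ih]
    rw [hsum, LinearMap.sum_apply]
    simp only [Disc.Omega.smul_toLinearMap_apply]
    rw [Finset.sum_eq_single k]
    · rw [← Algebra.smul_def, map_smul, Module.Basis.coord_apply, Module.Basis.repr_self,
        Finsupp.single_eq_same, smul_eq_mul, mul_one]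
    · intro i _ hik
      rw [← Algebra.smul_def, map_smul, Module.Basis.coord_apply, Module.Basis.repr_self,
        Finsupp.single_eq_of_ne hik, smul_zero]
    · intro h
      exact absurd (Finset.mem_univ k) h
  have hDC : ∀ j k, (D * Cmat b μ) j k = b.repr (μ (b j • l)) k := by
    intro j k
    conv_rhs => rw [hexp (b j • l), map_sum, map_sum, Finsupp.coe_finset_sum, Finset.sum_apply]
    rw [Matrix.mul_apply]
    refine Finset.sum_congr rfl fun i _ => ?_
    rw [map_smul, smul_eq_mul, ← Algebra.smul_def, map_smul, Finsupp.smul_apply, smul_eq_mul]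
    rfl
  have hmod : (D * Cmat b μ).map (Ideal.Quotient.mk 𝔪) = 1 := by
    ext j k
    rw [Matrix.map_apply, hDC, Matrix.one_apply]
    have h1 : μ (b j • l) - b j ∈ 𝔪.map (algebraMap A B) := by
      have : μ (b j • l) - b j = b j * (μ l - 1) := by
        rw [map_smul, smul_eq_mul]; ring
      rw [this]
      exact Ideal.mul_mem_left _ _ hμl
    have h2 := repr_mem_of_mem_map b 𝔪 h1 k
    rw [map_sub, Finsupp.sub_apply, Module.Basis.repr_self] at h2
    rw [← sub_eq_zero]
    by_cases hjk : j = k
    · subst hjk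
      rw [Finsupp.single_eq_same] at h2
      rw [if_pos rfl, ← map_one (Ideal.Quotient.mk 𝔪), ← map_sub, Ideal.Quotient.eq_zero_iff_mem]
      exact h2
    · rw [Finsupp.single_eq_of_ne (Ne.symm hjk), sub_zero] at h2
      rw [if_neg hjk, sub_zero, Ideal.Quotient.eq_zero_iff_mem]
      exact h2
  have hdet1 : Ideal.Quotient.mk 𝔪 ((D * Cmat b μ).det) = 1 := by
    rw [RingHom.map_det, RingHom.mapMatrix_apply, hmod, Matrix.det_one]
  rw [Matrix.det_mul, map_mul, Ideal.Quotient.eq_zero_iff_mem.2 hdet, mul_zero] at hdet1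
  exact zero_ne_one hdet1

theorem main [IsNoetherianRing A] [Module.Invertible B (Disc.Omega A B)] :
    Ideal.span (Algebra.norm A '' Disc.differentSet A B) = Ideal.span {Algebra.discr A b} := by
  haveI : Module.Free A B := Module.Free.of_basis b
  haveI : Module.Finite A B := Module.Finite.of_basis b
  apply le_antisymm
  · rw [Ideal.span_le]
    rintro _ ⟨x, hx, rfl⟩
    exact Groth.Agent.S2216.result b x hx
  · rw [Ideal.span_le, Set.singleton_subset_iff]
    let J : Ideal A := Ideal.span (Set.range fun μ : Disc.Omega A B →ₗ[B] B => (Cmat b μ).det)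
    have hJ : J = ⊤ := by
      by_contra hne
      obtain ⟨𝔪, hm, hle⟩ := Ideal.exists_le_maximal J hne
      obtain ⟨μ, hμ⟩ := exists_det_notMem b 𝔪
      exact hμ (hle (Ideal.subset_span ⟨μ, rfl⟩))
    have h1 : (1 : A) ∈ J := by rw [hJ]; trivial
    have h2 : ∀ a ∈ J, a * Algebra.discr A b ∈
        Ideal.span (Algebra.norm A '' Disc.differentSet A B) := by
      intro a ha
      induction ha using Submodule.span_induction with
      | mem a ha =>
        obtain ⟨μ, rfl⟩ := ha
        rw [← norm_eq b μ]
        exact Ideal.subset_span ⟨_, mem_differentSet μ, rfl⟩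
      | zero => simp
      | add x y _ _ hx hy =>
        rw [add_mul]
        exact Ideal.add_mem _ hx hy
      | smul c x _ hx =>
        rw [smul_eq_mul, mul_assoc]
        exact Ideal.mul_mem_left _ _ hx
    simpa using h2 1 h1

end Aux

/-- Part (2), special case: affine with B finite free over the Noetherian ring A (basis b) and omega =
Hom_A(B, A) an invertible B-module. Then the ideal of A generated by the norms of all elements of
the different of B over A equals the ideal generated by the discriminant of the basis b (the norm of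
the ramification locus is the discriminant). -/
theorem result {A B : Type u} [CommRing A] [CommRing B]
    [Algebra A B] [IsNoetherianRing A] {ι : Type} [Fintype ι] [DecidableEq ι]
    (b : Module.Basis ι A B) [Module.Invertible B (Disc.Omega A B)] :
    Ideal.span (Algebra.norm A '' Disc.differentSet A B) = Ideal.span {Algebra.discr A b} := by
  exact main b

end Groth.Agent.S2229
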