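import Groth.Statements.S3569
import Mathlib
import Groth.Prelude.Def_AffAlg
import Groth.Agent.Lib.helper27.GlueAff

set_option autoImplicit false
universe u
open CategoryTheory CategoryTheory.Limits AlgebraicGeometry
open EGA2

namespace Groth.Agent.S3569aux
open CategoryTheory CategoryTheory.Limits AlgebraicGeometry Opposite TopologicalSpace
open Groth.Agent.Lib.helper27

variable {X Y S : Scheme.{u}} (f : X ⟶ S) (g : Y ⟶ S)

theorem algHom_app (h : Y ⟶ X) (w : h ≫ f = g) (U : S.Opens) (e : g ⁻¹ᵁ U ≤ h ⁻¹ᵁ f ⁻¹ᵁ U) :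
    (AffAlg.algHom f g h w).app (op U) = h.appLE (f ⁻¹ᵁ U) (g ⁻¹ᵁ U) e := by
  subst w
  have e2 : Y.presheaf.map (homOfLE e).op = 𝟙 (Y.presheaf.obj (op (h ⁻¹ᵁ f ⁻¹ᵁ U))) := by
    have : homOfLE e = 𝟙 _ := Subsingleton.elim _ _
    rw [this]; exact Y.presheaf.map_id _
  have e3 : h.appLE (f ⁻¹ᵁ U) ((h ≫ f) ⁻¹ᵁ U) e = h.app (f ⁻¹ᵁ U) := by
    rw [Scheme.Hom.appLE]
    exact (congrArg (fun t => h.app (f ⁻¹ᵁ U) ≫ t) e2).trans (Category.comp_id _)
  rw [e3]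
  simp only [AffAlg.algHom]
  exact (Category.comp_id _)

theorem ι_comp (h : Y ⟶ X) (w : h ≫ f = g) (U : S.Opens) (hfU : IsAffineOpen (f ⁻¹ᵁ U)) :
    (g ⁻¹ᵁ U).ι ≫ h =
      (g ⁻¹ᵁ U).toSpecΓ ≫ Spec.map ((AffAlg.algHom f g h w).app (op U)) ≫ hfU.fromSpec := by
  have e : g ⁻¹ᵁ U ≤ h ⁻¹ᵁ f ⁻¹ᵁ U := by subst w; exact le_rfl
  rw [algHom_app f g h w U e, Scheme.Opens.toSpecΓ_SpecMap_appLE_assoc,
    IsAffineOpen.toSpecΓ_fromSpec, Scheme.Hom.resLE_comp_ι]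

theorem inj [IsAffineHom f] : Function.Injective (AffAlg.algOf f g) := by
  intro h₁ h₂ heq
  have heq' : AffAlg.algHom f g h₁.1 h₁.2 = AffAlg.algHom f g h₂.1 h₂.2 := congrArg Subtype.val heq
  have key : h₁.1 = h₂.1 := by
    refine (GlueAff.cover g).hom_ext _ _ ?_
    intro (U : S.AffineZariskiSite)
    change (g ⁻¹ᵁ U.1).ι ≫ h₁.1 = (g ⁻¹ᵁ U.1).ι ≫ h₂.1
    have hfU : IsAffineOpen (f ⁻¹ᵁ U.1) := U.2.preimage f
    rw [ι_comp f g h₁.1 h₁.2 U.1 hfU, ι_comp f g h₂.1 h₂.2 U.1 hfU, heq']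
  exact Subtype.ext (a1 := h₁) (a2 := h₂) key

theorem toSpecΓ_SpecMap_injective {T : Scheme.{u}} (V : T.Opens) {R : CommRingCat.{u}}
    (φ ψ : R ⟶ Γ(T, V)) (h : V.toSpecΓ ≫ Spec.map φ = V.toSpecΓ ≫ Spec.map ψ) : φ = ψ := by
  have h1 := congrArg Scheme.Hom.appTop h
  rw [Scheme.Hom.comp_appTop, Scheme.Hom.comp_appTop, Scheme.Opens.toSpecΓ_appTop,
    ← Category.assoc, ← Category.assoc, Scheme.ΓSpecIso_naturality, Scheme.ΓSpecIso_naturality,
    Category.assoc, Category.assoc] at h1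
  have h2 := (cancel_epi _).mp h1
  exact (cancel_mono _).mp h2

section surj
variable [IsAffineHom f] (ω : AffAlg.alg f ⟶ AffAlg.alg g)

noncomputable def m (U : S.AffineZariskiSite) : ((g ⁻¹ᵁ U.1 : Y.Opens) : Scheme.{u}) ⟶ X :=
  (g ⁻¹ᵁ U.1).toSpecΓ ≫ Spec.map (ω.app (op U.1)) ≫ (U.2.preimage f).fromSpec

theorem hm (U W : S.AffineZariskiSite) (h : W ≤ U) :
    Y.homOfLE (g.preimage_mono (Scheme.AffineZariskiSite.toOpens_mono h)) ≫ m f g ω U =
      m f g ω W := by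
  unfold m
  have hle : W.1 ≤ U.1 := Scheme.AffineZariskiSite.toOpens_mono h
  rw [← Scheme.Opens.toSpecΓ_SpecMap_presheaf_map_assoc (g ⁻¹ᵁ W.1) (g ⁻¹ᵁ U.1) (g.preimage_mono hle)]
  congr 1
  have nat := ω.naturality (homOfLE hle).op
  have e1 : ω.app (op U.1) ≫ Y.presheaf.map (homOfLE (g.preimage_mono hle)).op =
      X.presheaf.map (homOfLE (f.preimage_mono hle)).op ≫ ω.app (op W.1) := nat.symm
  rw [← Spec.map_comp_assoc, e1, Spec.map_comp_assoc, IsAffineOpen.map_fromSpec]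

variable (hω : f.c ≫ ω = g.c)

include hω in
theorem glue_comp : GlueAff.glue g (m f g ω) (hm f g ω) ≫ f = g := by
  refine (GlueAff.cover g).hom_ext _ _ ?_
  intro (U : S.AffineZariskiSite)
  change (g ⁻¹ᵁ U.1).ι ≫ _ ≫ f = (g ⁻¹ᵁ U.1).ι ≫ g
  rw [← Category.assoc, GlueAff.ι_glue]
  unfold m
  rw [Category.assoc, Category.assoc]
  have h1 : (U.2.preimage f).fromSpec ≫ f = Spec.map (f.app U.1) ≫ U.2.fromSpec := by
    have := IsAffineOpen.SpecMap_appLE_fromSpec f U.2 (U.2.preimage f) le_rfl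
    rw [← this, ← Scheme.Hom.app_eq_appLE]
  have h2 : f.app U.1 ≫ ω.app (op U.1) = g.app U.1 :=
    congrArg (fun t => t.app (op U.1)) hω
  rw [h1, ← Spec.map_comp_assoc, h2, Scheme.Opens.toSpecΓ_naturality_assoc,
    IsAffineOpen.toSpecΓ_fromSpec, morphismRestrict_ι]

include hω in
theorem algHom_glue :
    AffAlg.algHom f g (GlueAff.glue g (m f g ω) (hm f g ω)) (glue_comp f g ω hω) = ω := by
  let F' : TopCat.Sheaf CommRingCat.{u} S.carrier :=
    ⟨AffAlg.alg g, TopCat.Sheaf.pushforward_sheaf_of_sheaf _ Y.sheaf.property⟩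
  refine TopCat.Sheaf.hom_ext (B := fun U : S.affineOpens => U.1) (AffAlg.alg f) F' ?_ ?_
  · rw [Subtype.range_coe]; exact S.isBasis_affineOpens
  · intro U
    have hfU : IsAffineOpen (f ⁻¹ᵁ U.1) := U.2.preimage f
    have h1 := ι_comp f g _ (glue_comp f g ω hω) U.1 hfU
    have h0 := GlueAff.ι_glue g (m f g ω) (hm f g ω) ⟨U.1, U.2⟩
    rw [h0] at h1
    unfold m at h1
    have h2 := (cancel_mono hfU.fromSpec).mp
      ((Category.assoc _ _ _).trans (h1.trans (Category.assoc _ _ _).symm))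
    exact (toSpecΓ_SpecMap_injective _ _ _ h2).symm

include hω in
theorem surj_aux : ∃ h : AffAlg.over f g, AffAlg.algOf f g h = ⟨ω, hω⟩ :=
  ⟨⟨GlueAff.glue g (m f g ω) (hm f g ω), glue_comp f g ω hω⟩,
    Subtype.ext (algHom_glue f g ω hω)⟩

end surj

end Groth.Agent.S3569aux

namespace Groth.Agent.S3569

/-- Let f : X → S be an affine morphism and g : Y → S any morphism. Then h ↦ A(h) = f_*(h^♯) is a
bijection from the set of S-morphisms Y → X onto the set of O_S-algebra homomorphisms f_*O_X →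
g_*O_Y (morphisms of sheaves of rings compatible with the structure maps from O_S). -/
theorem result {X Y S : Scheme.{u}} (f : X ⟶ S) [IsAffineHom f] (g : Y ⟶ S) :
    Function.Bijective (AffAlg.algOf f g) := by
  refine ⟨S3569aux.inj f g, ?_⟩
  rintro ⟨ω, hω⟩
  exact S3569aux.surj_aux f g ω hω

end Groth.Agent.S3569
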