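import Groth.Statements.S3571
import Mathlib
import Groth.Prelude.Def_RelSpec
import Groth.Prelude.Def_Coh
import Groth.Agent.Lib.helper9.QcohLoc

set_option autoImplicit false
universe u
open CategoryTheory AlgebraicGeometry TopologicalSpace
open EGA2

namespace Groth.Agent.S3571aux
open CategoryTheory CategoryTheory.Limits AlgebraicGeometry Opposite TopologicalSpace
open Groth.Agent.Lib.helper9

variable {S : Scheme.{u}} (A : RelSpec.QCAlg S)

theorem isIso_gammaAff (U : S.Opens) (hU : IsAffineOpen U) : IsIso (A.gammaAff U hU) := by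
  unfold RelSpec.QCAlg.gammaAff
  have h1 : IsIso ((A.ι U hU).appLE (A.π ⁻¹ᵁ U) ⊤ (A.top_le_preimage U hU)) := by
    rw [Scheme.Hom.appLE]
    have i1 : IsIso ((A.ι U hU).app (A.π ⁻¹ᵁ U)) := by
      apply Scheme.Hom.isIso_app
      rw [A.π_preimage U hU]
    have i2 : IsIso ((Spec (A.presheaf.obj (op U))).presheaf.map
        (homOfLE (A.top_le_preimage U hU)).op) := by
      have : IsIso (homOfLE (A.top_le_preimage U hU)) :=
        ⟨⟨homOfLE le_top, Subsingleton.elim _ _, Subsingleton.elim _ _⟩⟩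
      infer_instance
    infer_instance
  infer_instance

/-- the sheaf-level comparison map. -/
noncomputable def gSheaf : (TopCat.Sheaf.pushforward CommRingCat.{u} A.π.base).obj A.spec.sheaf ⟶
    (⟨A.presheaf, A.isSheaf⟩ : TopCat.Sheaf CommRingCat.{u} S.carrier) :=
  ⟨A.gammaMap⟩

instance isIso_gSheaf : IsIso (gSheaf A) := by
  refine TopCat.Sheaf.isIso_iff_isIso_basis (B := fun U : S.affineOpens => U.1) ?_ ?_
  · rw [Subtype.range_coe]; exact S.isBasis_affineOpens
  · intro U
    change IsIso (A.gammaMap.app (op U.1))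
    rw [A.gammaMap_app U.1 U.2]
    exact isIso_gammaAff A U.1 U.2

variable (B : Sheaf (Opens.grothendieckTopology S) CommRingCat.{u}) (φ : S.sheaf ⟶ B)

noncomputable abbrev Mod : S.Modules := ((SheafOfModules.restrictScalars
      ((sheafCompose (Opens.grothendieckTopology S) (forget₂ CommRingCat.{u} RingCat.{u})).map φ)).obj
      (SheafOfModules.unit ((sheafCompose (Opens.grothendieckTopology S) (forget₂ CommRingCat.{u} RingCat.{u})).obj B)))

noncomputable def toB (U : S.Opens) (t : Γ(Mod B φ, U)) : B.obj.obj (op U) := t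
noncomputable def ofB (U : S.Opens) (t : B.obj.obj (op U)) : Γ(Mod B φ, U) := t

theorem isQC (hB : Coh.IsQCoh (Mod B φ)) : RelSpec.IsQC B.obj φ.hom := by
  intro U hU r
  let _ := (B.obj.map (homOfLE (S.basicOpen_le r)).op).hom.toAlgebra
  have : (Mod B φ).IsQuasicoherent := hB
  have hnat : ∀ a : Γ(S, U), (B.obj.map (homOfLE (S.basicOpen_le r)).op).hom ((φ.hom.app (op U)).hom a) =
      (φ.hom.app (op (S.basicOpen r))).hom ((S.presheaf.map (homOfLE (S.basicOpen_le r)).op).hom a) := by
    intro a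
    have := φ.hom.naturality (homOfLE (S.basicOpen_le r)).op
    exact (congrArg (fun k => k.hom a) this).symm
  change IsLocalization (Submonoid.powers ((φ.hom.app (op U)).hom r)) _
  rw [isLocalization_iff]
  refine ⟨?_, ?_, ?_⟩
  · rintro ⟨_, n, rfl⟩
    change IsUnit ((B.obj.map (homOfLE (S.basicOpen_le r)).op).hom (((φ.hom.app (op U)).hom r) ^ n))
    rw [map_pow, hnat]
    exact ((S.toRingedSpace.isUnit_res_basicOpen r).map _).pow n
  · intro z
    obtain ⟨n, t, ht⟩ := QcohLoc.exists_pow_smul_eq_res (Mod B φ) hU r (S.basicOpen r) rfl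
      (S.basicOpen_le r) (ofB B φ _ z)
    refine ⟨(toB B φ U t, ⟨_, n, rfl⟩), ?_⟩
    change z * (B.obj.map (homOfLE (S.basicOpen_le r)).op).hom (((φ.hom.app (op U)).hom r) ^ n) =
      (B.obj.map (homOfLE (S.basicOpen_le r)).op).hom (toB B φ U t)
    have ht' : (B.obj.map (homOfLE (S.basicOpen_le r)).op).hom (toB B φ U t) =
        (φ.hom.app (op (S.basicOpen r))).hom
          ((S.presheaf.map (homOfLE (S.basicOpen_le r)).op).hom r ^ n) * z := ht
    have e1 : (φ.hom.app (op (S.basicOpen r))).hom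
        ((S.presheaf.map (homOfLE (S.basicOpen_le r)).op).hom r ^ n) =
        ((φ.hom.app (op (S.basicOpen r))).hom
          ((S.presheaf.map (homOfLE (S.basicOpen_le r)).op).hom r)) ^ n := map_pow _ _ _
    rw [ht', map_pow, hnat, e1, mul_comm]
  · intro a b hab
    have h0 : (Mod B φ).presheaf.map (homOfLE (S.basicOpen_le r)).op (ofB B φ U (a - b)) = 0 := by
      change (B.obj.map (homOfLE (S.basicOpen_le r)).op).hom (a - b) = 0
      rw [map_sub, sub_eq_zero]; exact hab
    obtain ⟨n, hn⟩ := QcohLoc.exists_pow_smul_eq_zero (Mod B φ) hU r (S.basicOpen r) rfl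
      (S.basicOpen_le r) _ h0
    refine ⟨⟨_, n, rfl⟩, ?_⟩
    have hn' : (φ.hom.app (op U)).hom (r ^ n) * (a - b) = 0 := hn
    have e2 : (φ.hom.app (op U)).hom (r ^ n) = ((φ.hom.app (op U)).hom r) ^ n := map_pow _ _ _
    rw [e2, mul_sub, sub_eq_zero] at hn'
    exact hn'

/-- the quasi-coherent algebra attached to the data. -/
noncomputable def alg (hB : Coh.IsQCoh (Mod B φ)) : RelSpec.QCAlg S where
  presheaf := B.obj
  isSheaf := B.property
  str := φ.hom
  isQC := isQC B φ hB

theorem comp_symm {C : Type*} [Category C] {X Y Z : C} (c : X ⟶ Y) (g : Y ⟶ Z) [IsIso g]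
    (φ : X ⟶ Z) (h : c ≫ g = φ) : φ ≫ (asIso g).symm.hom = c := by
  subst h; simp

theorem main (hB : Coh.IsQCoh (Mod B φ)) :
    ∃ (X : Scheme.{u}) (f : X ⟶ S) (_ : IsAffineHom f)
      (e : B ≅ (TopCat.Sheaf.pushforward CommRingCat.{u} f.base).obj X.sheaf),
      (φ ≫ e.hom).hom = f.c := by
  refine ⟨(alg B φ hB).spec, (alg B φ hB).π, inferInstance,
    (asIso (gSheaf (alg B φ hB))).symm, ?_⟩
  have h1 : (alg B φ hB).π.c ≫ (alg B φ hB).gammaMap = φ.hom := (alg B φ hB).π_c_gammaMap
  have h2 : (⟨(alg B φ hB).π.c⟩ : S.sheaf ⟶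
      (TopCat.Sheaf.pushforward CommRingCat.{u} (alg B φ hB).π.base).obj (alg B φ hB).spec.sheaf) ≫
      gSheaf (alg B φ hB) = φ := by
    apply Sheaf.hom_ext
    exact h1
  exact congrArg (fun k => k.hom)
    (comp_symm (⟨(alg B φ hB).π.c⟩ : S.sheaf ⟶
      (TopCat.Sheaf.pushforward CommRingCat.{u} (alg B φ hB).π.base).obj (alg B φ hB).spec.sheaf)
      (gSheaf (alg B φ hB)) φ h2)

end Groth.Agent.S3571aux

namespace Groth.Agent.S3571

/-- Let S be a scheme and B a sheaf of commutative rings on S with a morphism O_S → B making B a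
quasi-coherent O_S-module (a quasi-coherent O_S-algebra). Then there are a scheme X and an affine
morphism f : X → S together with an isomorphism of sheaves of rings B ≅ f_*O_X compatible with the
two structure maps from O_S (X is the relative spectrum of B; it is in fact unique up to unique
S-isomorphism, but only existence is asserted here). -/
theorem result {S : Scheme.{u}}
    (B : Sheaf (Opens.grothendieckTopology S) CommRingCat.{u}) (φ : S.sheaf ⟶ B)
    (hB : Coh.IsQCoh ((SheafOfModules.restrictScalars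
      ((sheafCompose (Opens.grothendieckTopology S) (forget₂ CommRingCat.{u} RingCat.{u})).map φ)).obj
      (SheafOfModules.unit ((sheafCompose (Opens.grothendieckTopology S) (forget₂ CommRingCat.{u} RingCat.{u})).obj B)))) :
    ∃ (X : Scheme.{u}) (f : X ⟶ S) (_ : IsAffineHom f)
      (e : B ≅ (TopCat.Sheaf.pushforward CommRingCat.{u} f.base).obj X.sheaf),
      (φ ≫ e.hom).hom = f.c := by
  exact S3571aux.main B φ hB

end Groth.Agent.S3571
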