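import Groth.Statements.S9373
import Groth.Agent.Lib.helper9.WeakAssSch

set_option autoImplicit false
universe u
open QCohSub

namespace Groth.Agent.S9373

open AlgebraicGeometry CategoryTheory in
/-- The support of a quasi-coherent O_X-module is closed under specialization. -/
theorem result (X : Scheme.{u}) (F : X.Modules) (hF : Coh.IsQCoh F) :
    StableUnderSpecialization (CohB1.support F) := by
  haveI : F.IsQuasicoherent := hF
  intro x y hxy hx
  obtain ⟨W, hW, hyW, -⟩ := exists_isAffineOpen_mem_and_subset (show y ∈ (⊤ : X.Opens) from trivial)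
  have hxW : x ∈ W := hxy.mem_open W.isOpen hyW
  obtain ⟨p, rfl⟩ := Groth.Agent.Lib.helper9.CohB.exists_fromSpec_eq hW hxW
  obtain ⟨q, rfl⟩ := Groth.Agent.Lib.helper9.CohB.exists_fromSpec_eq hW hyW
  haveI : p.asIdeal.IsPrime := p.2
  haveI : q.asIdeal.IsPrime := q.2
  have hpq : p.asIdeal ≤ q.asIdeal :=
    (Groth.Agent.Lib.helper9.CohB.fromSpec_specializes_iff hW p q).mp hxy
  have hns : ¬ Subsingleton (LocalizedModule p.asIdeal.primeCompl
      (Groth.Agent.Lib.helper9.CohB.Γmod (F.restrict hW.fromSpec))) := by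
    rw [(Groth.Agent.Lib.helper9.CohB.stalkSemiEquiv F hW p).subsingleton_iff]
    exact hx
  obtain ⟨n, hn⟩ := Groth.Agent.Lib.helper9.WeakAssSch.exists_mk_ne_zero p.asIdeal hns
  have hle := Groth.Agent.Lib.helper9.WeakAssSch.annihilator_le_of_mk_ne_zero n p.asIdeal hn
  change ¬ Subsingleton _
  rw [← (Groth.Agent.Lib.helper9.CohB.stalkSemiEquiv F hW q).subsingleton_iff]
  intro hsub
  exact Groth.Agent.Lib.helper9.WeakAssSch.mk_ne_zero_of_annihilator_le n q.asIdeal
    (hle.trans hpq) (Subsingleton.elim _ _)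

end Groth.Agent.S9373
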