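import Groth.Statements.S2335
import Mathlib
import Groth.Agent.Lib.helper4.DvrSep
import Groth.Agent.Lib.helper4.DvrProper4

set_option autoImplicit false
universe u
open CategoryTheory CategoryTheory.Limits AlgebraicGeometry
open EGA2

namespace Groth.Agent.S2335

/-- Let Y be locally Noetherian and f : X → Y of finite type. Then f is proper if and only if for every
discrete valuation ring A with fraction field K and every commutative square Spec K → X, Spec A → Y,
there is exactly one morphism Spec A → X making both triangles commute. -/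
theorem result {X Y : Scheme.{u}} [IsLocallyNoetherian Y] (f : X ⟶ Y) [LocallyOfFiniteType f] [QuasiCompact f] :
    IsProper f ↔ ∀ (A : Type u) [CommRing A] [IsDomain A] [IsDiscreteValuationRing A] (x : (Spec (CommRingCat.of (FractionRing A))) ⟶ X) (y : (Spec (CommRingCat.of A)) ⟶ Y),
      x ≫ f = (Spec.map (CommRingCat.ofHom (algebraMap A (FractionRing A)))) ≫ y → ∃! l : (Spec (CommRingCat.of A)) ⟶ X, l ≫ f = y ∧ (Spec.map (CommRingCat.ofHom (algebraMap A (FractionRing A)))) ≫ l = x := by
  constructor
  · intro hP A _ _ _ x y hxy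
    have hv : ValuativeCriterion f := by
      have h := IsProper.eq_valuativeCriterion
      have h2 : (ValuativeCriterion ⊓ @QuasiCompact ⊓ @QuasiSeparated ⊓ @LocallyOfFiniteType :
          MorphismProperty Scheme.{u}) f := by
        rw [← h]; exact hP
      exact h2.1.1.1
    let S : ValuativeCommSq f :=
      { R := A
        K := FractionRing A
        i₁ := x
        i₂ := y
        commSq := ⟨hxy⟩ }
    obtain ⟨u⟩ := hv S
    refine ⟨u.default.l, ⟨u.default.fac_right, u.default.fac_left⟩, ?_⟩
    rintro l' ⟨h1, h2⟩
    let l₂ : S.commSq.LiftStruct := ⟨l', h2, h1⟩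
    exact congrArg CommSq.LiftStruct.l (u.uniq l₂)
  · intro H
    have hsep : IsSeparated f := by
      apply Groth.Agent.H4Dvr.isSeparated_of_dvr_uniqueness f
      intro A _ _ _ g₁ g₂ h1 h2
      obtain ⟨l, -, hl⟩ := H A (Spec.map (CommRingCat.ofHom (algebraMap A (FractionRing A))) ≫ g₁)
        (g₁ ≫ f) (by rw [Category.assoc])
      rw [hl g₁ ⟨rfl, rfl⟩, hl g₂ ⟨h1.symm, h2.symm⟩]
    have hE : Groth.Agent.H4Dvr.DvrExistence f := by
      intro A _ _ _ x y hxy
      obtain ⟨l, hl, -⟩ := H A x y hxy
      exact ⟨l, hl⟩
    have huc : UniversallyClosed f :=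
      UniversallyClosed.of_valuativeCriterion f
        (Groth.Agent.H4Dvr.existence_of_dvrExistence f hE)
    exact { }

end Groth.Agent.S2335
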