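import Groth.Statements.S2344
import Mathlib
import Groth.Agent.S4440
import Groth.Agent.Lib.lead.Restore.H4Curve1
import Groth.Agent.Lib.helper4.Normal3

set_option autoImplicit false
universe u
open CategoryTheory CategoryTheory.Limits AlgebraicGeometry
open EGA2

namespace Groth.Agent.S2344

section Helpers

theorem main (k : Type u) [Field k] (X Y : Scheme.{u}) [X.Over (Spec (CommRingCat.of k))]
    [Y.Over (Spec (CommRingCat.of k))]
    [LocallyOfFiniteType (X ↘ (Spec (CommRingCat.of k)))]
    [QuasiCompact (X ↘ (Spec (CommRingCat.of k)))]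
    (hcurve : (∀ x : X, IsClosed ({x} : Set X) → ringKrullDim (X.presheaf.stalk x) = 1))
    (hnorm : Pi1.IsNormalScheme X)
    [IsProper (Y ↘ (Spec (CommRingCat.of k)))] (U : X.Opens) (hU : Dense (U : Set X))
    (g : (U : Scheme.{u}) ⟶ Y)
    (hg : g ≫ (Y ↘ (Spec (CommRingCat.of k))) = U.ι ≫ (X ↘ (Spec (CommRingCat.of k)))) :
    ∃! g' : X ⟶ Y, U.ι ≫ g' = g ∧
      g' ≫ (Y ↘ (Spec (CommRingCat.of k))) = X ↘ (Spec (CommRingCat.of k)) := by
  have hN : IsLocallyNoetherian X :=
    LocallyOfFiniteType.isLocallyNoetherian (X ↘ (Spec (CommRingCat.of k)))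
  have hC : CompactSpace X :=
    (quasiCompact_iff_compactSpace (X ↘ (Spec (CommRingCat.of k)))).mp inferInstance
  have hred : ∀ x : X, _root_.IsReduced (X.presheaf.stalk x) := fun x => by
    have := (hnorm x).1
    infer_instance
  have hR : IsReduced X := isReduced_of_isReduced_stalk X
  have hdim := Groth.Agent.H4Curve.ringKrullDim_stalk_le_one hcurve
  have hreg : ∀ x : X, ringKrullDim (X.presheaf.stalk x) ≤ 1 →
      IsRegularLocalRing (X.presheaf.stalk x) := by
    intro x hx
    have := (hnorm x).1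
    have := (hnorm x).2
    have : IsNoetherianRing (X.presheaf.stalk x) := inferInstance
    exact Groth.Agent.H4Curve.regular_of_normal_dim_le_one _ hx
  obtain ⟨U', hUU', g'', h1, h2, h3⟩ := Groth.Agent.S4440.result
    (Y ↘ (Spec (CommRingCat.of k))) (X ↘ (Spec (CommRingCat.of k))) hreg U hU g hg
  have htop : U' = ⊤ := by
    ext x
    simp only [TopologicalSpace.Opens.coe_top, Set.mem_univ, iff_true]
    exact h3 x (hdim x)
  subst htop
  have hdom : IsDominant U.ι := Groth.Agent.H4Normal.isDominant_opens_ι U hU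
  refine ⟨X.topIso.inv ≫ g'', ⟨?_, ?_⟩, ?_⟩
  · have e1 : U.ι ≫ X.topIso.inv = X.homOfLE hUU' := by
      rw [← cancel_mono (⊤ : X.Opens).ι, Category.assoc, Scheme.toIso_inv_ι, Category.comp_id,
        Scheme.homOfLE_ι]
    rw [← Category.assoc, e1, h2]
  · rw [Category.assoc, h1, ← Category.assoc, Scheme.toIso_inv_ι, Category.id_comp]
  · rintro g₂ ⟨hg₂, hg₂'⟩
    apply ext_of_isDominant_of_isSeparated (Y ↘ (Spec (CommRingCat.of k))) ?_ U.ι ?_
    · rw [hg₂', Category.assoc, h1, ← Category.assoc, Scheme.toIso_inv_ι, Category.id_comp]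
    · rw [hg₂, ← Category.assoc]
      have e1 : U.ι ≫ X.topIso.inv = X.homOfLE hUU' := by
        rw [← cancel_mono (⊤ : X.Opens).ι, Category.assoc, Scheme.toIso_inv_ι, Category.comp_id,
          Scheme.homOfLE_ι]
      rw [e1, h2]

end Helpers


/-- Let X be a normal algebraic curve over k (separated, of finite type, nonempty, local rings at closed
points of dimension one, all local rings integrally closed domains), Y proper over k, U a dense open
of X and g : U → Y a k-morphism. Then g extends uniquely to a k-morphism X → Y. -/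
theorem result (k : Type u) [Field k] (X Y : Scheme.{u}) [X.Over (Spec (CommRingCat.of k))] [Y.Over (Spec (CommRingCat.of k))]
    [LocallyOfFiniteType (X ↘ (Spec (CommRingCat.of k)))] [QuasiCompact (X ↘ (Spec (CommRingCat.of k)))] [IsSeparated (X ↘ (Spec (CommRingCat.of k)))] [Nonempty X] (hcurve : (∀ x : X, IsClosed ({x} : Set X) → ringKrullDim (X.presheaf.stalk x) = 1)) (hnorm : Pi1.IsNormalScheme X)
    [IsProper (Y ↘ (Spec (CommRingCat.of k)))] (U : X.Opens) (hU : Dense (U : Set X)) (g : (U : Scheme.{u}) ⟶ Y)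
    (hg : g ≫ (Y ↘ (Spec (CommRingCat.of k))) = U.ι ≫ (X ↘ (Spec (CommRingCat.of k)))) :
    ∃! g' : X ⟶ Y, U.ι ≫ g' = g ∧ g' ≫ (Y ↘ (Spec (CommRingCat.of k))) = X ↘ (Spec (CommRingCat.of k)) := by
  exact main k X Y hcurve hnorm U hU g hg

end Groth.Agent.S2344
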