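import Groth.Statements.S2346
import Mathlib
import Groth.Agent.Lib.helper7.DimSch6

set_option autoImplicit false
universe u
open CategoryTheory CategoryTheory.Limits AlgebraicGeometry
open EGA2

namespace Groth.Agent.S2346


open Groth.Agent.Lib.helper7.DimSch in
theorem trdeg_generic_eq_one (k : Type u) [Field k] (Z : Scheme.{u})
    [Z.Over (Spec (CommRingCat.of k))] [LocallyOfFiniteType (Z ↘ (Spec (CommRingCat.of k)))]
    [IrreducibleSpace Z]
    (hZ : ∀ z : Z, IsClosed ({z} : Set Z) → ringKrullDim (Z.presheaf.stalk z) = 1) :
    @Algebra.trdeg k (Z.residueField (genericPoint Z)) _ _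
      (Curv2.resAlgebra k Z (genericPoint Z)) = ((1 : ℕ) : Cardinal) := by
  haveI := jacobsonSpace k Z
  have hne : (closedPoints Z).Nonempty := by
    by_contra h
    rw [Set.not_nonempty_iff_eq_empty] at h
    have h1 := closure_closedPoints (X := Z)
    rw [h, closure_empty] at h1
    exact Set.empty_ne_univ h1
  obtain ⟨z, hz⟩ := hne
  obtain ⟨ξ', n, hξz, hgen, htr, hdim⟩ := exists_generic_trdeg_eq_of_isClosed k Z z hz
  have h1 := hZ z hz
  rw [hdim] at h1
  have hn : n = 1 := by exact_mod_cast h1
  have hξ : genericPoint Z = ξ' := hgen _ (genericPoint_specializes ξ')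
  rw [hξ, htr, hn]

open Groth.Agent.Lib.helper7.DimSch in
theorem isClosed_of_ne_generic (k : Type u) [Field k] (Z : Scheme.{u})
    [Z.Over (Spec (CommRingCat.of k))] [LocallyOfFiniteType (Z ↘ (Spec (CommRingCat.of k)))]
    [IrreducibleSpace Z]
    (h1 : @Algebra.trdeg k (Z.residueField (genericPoint Z)) _ _
      (Curv2.resAlgebra k Z (genericPoint Z)) = ((1 : ℕ) : Cardinal))
    (z : Z) (hz : z ≠ genericPoint Z) : IsClosed ({z} : Set Z) := by
  obtain ⟨m, hm, hle, heq⟩ := trdeg_le_of_irreducible k Z 1 h1 z
  have hm0 : m = 0 := by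
    by_contra h
    exact hz (heq (by omega))
  apply isClosed_of_trdeg_eq_zero k Z z
  rw [hm, hm0]
  rfl

open Groth.Agent.Lib.helper7.DimSch in
theorem not_finite (k : Type u) [Field k] (Z : Scheme.{u})
    [Z.Over (Spec (CommRingCat.of k))] [LocallyOfFiniteType (Z ↘ (Spec (CommRingCat.of k)))]
    [IrreducibleSpace Z]
    (hZ : ∀ z : Z, IsClosed ({z} : Set Z) → ringKrullDim (Z.presheaf.stalk z) = 1) :
    ¬ Finite Z := by
  intro hfin
  haveI := jacobsonSpace k Z
  have hcl : IsClosed (closedPoints Z) := by
    have : closedPoints Z = ⋃ z ∈ closedPoints Z, ({z} : Set Z) := by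
      ext z; simp
    rw [this]
    exact (Set.toFinite (closedPoints Z)).isClosed_biUnion fun z hz => hz
  have h1 := closure_closedPoints (X := Z)
  rw [hcl.closure_eq] at h1
  have hξ : IsClosed ({genericPoint Z} : Set Z) := by
    have : genericPoint Z ∈ closedPoints Z := by rw [h1]; trivial
    exact this
  have h2 := hZ _ hξ
  rw [ringKrullDim_stalk_eq_zero_of_forall_generization Z (genericPoint Z)
    (fun η hη => (hη.antisymm (genericPoint_specializes η)).eq)] at h2
  exact zero_ne_one h2

/-- Let X and Y be irreducible algebraic curves over k (separated, of finite type, local rings at closed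
points one-dimensional) and f : X → Y a k-morphism. Then f is dominant if and only if every fibre
f⁻¹(y) is a finite set. -/
theorem result (k : Type u) [Field k] (X Y : Scheme.{u}) [X.Over (Spec (CommRingCat.of k))] [Y.Over (Spec (CommRingCat.of k))]
    [LocallyOfFiniteType (X ↘ (Spec (CommRingCat.of k)))] [QuasiCompact (X ↘ (Spec (CommRingCat.of k)))] [IsSeparated (X ↘ (Spec (CommRingCat.of k)))] [LocallyOfFiniteType (Y ↘ (Spec (CommRingCat.of k)))] [QuasiCompact (Y ↘ (Spec (CommRingCat.of k)))] [IsSeparated (Y ↘ (Spec (CommRingCat.of k)))] [IrreducibleSpace X] [IrreducibleSpace Y]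
    (hX : (∀ x : X, IsClosed ({x} : Set X) → ringKrullDim (X.presheaf.stalk x) = 1)) (hY : (∀ x : Y, IsClosed ({x} : Set Y) → ringKrullDim (Y.presheaf.stalk x) = 1))
    (f : X ⟶ Y) (hf : f ≫ (Y ↘ (Spec (CommRingCat.of k))) = X ↘ (Spec (CommRingCat.of k))) :
    IsDominant f ↔ ∀ y : Y, (f.base ⁻¹' {y}).Finite := by
  classical
  haveI : IsLocallyNoetherian X :=
    LocallyOfFiniteType.isLocallyNoetherian (X ↘ (Spec (CommRingCat.of k)))
  haveI : CompactSpace X :=
    QuasiCompact.compactSpace_of_compactSpace (X ↘ (Spec (CommRingCat.of k)))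
  haveI : IsNoetherian X := {}
  have hX1 := trdeg_generic_eq_one k X hX
  have hY1 := trdeg_generic_eq_one k Y hY
  constructor
  · intro hdom y
    have hgen : f.base (genericPoint X) = genericPoint Y := by
      have h1 : IsGenericPoint (f.base (genericPoint X)) (Set.univ : Set Y) := by
        show closure {f.base (genericPoint X)} = Set.univ
        apply Set.eq_univ_of_univ_subset
        rw [← hdom.denseRange.closure_range]
        apply closure_minimal _ isClosed_closure
        rintro _ ⟨x, rfl⟩
        exact ((genericPoint_specializes x).map f.continuous).mem_closure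
      exact h1.eq (genericPoint_spec Y)
    by_cases hy : y = genericPoint Y
    · subst hy
      refine (Set.finite_singleton (genericPoint X)).subset ?_
      intro x hx
      have hfx : f.base x = genericPoint Y := hx
      have h1 := Groth.Agent.Lib.helper7.DimSch.trdeg_residueField_le k Y X f hf x
      rw [hfx, hY1] at h1
      obtain ⟨m, hm, hle, heq⟩ :=
        Groth.Agent.Lib.helper7.DimSch.trdeg_le_of_irreducible k X 1 hX1 x
      rw [hm] at h1
      have h2 : 1 ≤ m := by exact_mod_cast h1
      exact heq (by omega)
    · have hyc : IsClosed ({y} : Set Y) := isClosed_of_ne_generic k Y hY1 y hy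
      apply Groth.Agent.Lib.helper7.DimSch.finite_of_isClosed_of_forall_isClosed
      · exact hyc.preimage f.continuous
      · intro x hx
        apply isClosed_of_ne_generic k X hX1 x
        intro hxg
        have hfx : f.base x = y := hx
        rw [hxg, hgen] at hfx
        exact hy hfx.symm
  · intro hfin
    by_contra hnd
    have hne : f.base (genericPoint X) ≠ genericPoint Y := by
      intro h
      apply hnd
      refine ⟨?_⟩
      show Dense (Set.range f.base)
      rw [dense_iff_closure_eq]
      apply Set.eq_univ_of_univ_subset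
      rw [← (genericPoint_spec Y).def, ← h]
      exact closure_mono (Set.singleton_subset_iff.mpr ⟨_, rfl⟩)
    have hyc : IsClosed ({f.base (genericPoint X)} : Set Y) :=
      isClosed_of_ne_generic k Y hY1 _ hne
    have hall : f.base ⁻¹' {f.base (genericPoint X)} = Set.univ := by
      apply Set.eq_univ_of_forall
      intro x
      have h1 : f.base x ∈ closure ({f.base (genericPoint X)} : Set Y) :=
        ((genericPoint_specializes x).map f.continuous).mem_closure
      rw [hyc.closure_eq] at h1
      exact h1
    have h2 := hfin (f.base (genericPoint X))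
    rw [hall] at h2
    exact not_finite k X hX (Set.finite_univ_iff.mp h2)

end Groth.Agent.S2346
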