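import Groth.Statements.S2347
import Mathlib
import Groth.Agent.Lib.helper4.Normal3

set_option autoImplicit false
universe u
open CategoryTheory CategoryTheory.Limits AlgebraicGeometry
open EGA2

namespace Groth.Agent.S2347

section Helpers
open AlgebraicGeometry CategoryTheory TopologicalSpace Limits

theorem bijective_of_retraction {A B : Type*} [CommRing A] [CommRing B] [IsDomain B]
    (φ : A →+* B) (hφ : φ.IsIntegral) (τ : B →+* A) (hτ : τ.comp φ = RingHom.id A) :
    Function.Bijective φ := by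
  have hτ' : ∀ a, τ (φ a) = a := fun a => congrArg (fun F => F a) hτ
  have hinj : Function.Injective φ := Function.LeftInverse.injective hτ'
  have hA : Nontrivial A := φ.domain_nontrivial
  let _ := φ.toAlgebra
  have hint : Algebra.IsIntegral A B := ⟨hφ⟩
  have hker : RingHom.ker τ = ⊥ := by
    apply Ideal.eq_bot_of_comap_eq_bot (R := A)
    rw [eq_bot_iff]
    intro a ha
    have : τ (φ a) = 0 := ha
    rw [hτ'] at this
    exact this
  have hτinj : Function.Injective τ := (RingHom.injective_iff_ker_eq_bot τ).2 hker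
  refine ⟨hinj, fun b => ⟨τ b, hτinj ?_⟩⟩
  rw [hτ']

theorem main {X X' : Scheme.{u}} [IsIntegral X] [IsIntegral X'] (g : X' ⟶ X) [IsIntegralHom g]
    (s' : X ⟶ X') (hs' : s' ≫ g = 𝟙 X) : IsIso g := by
  have hV : ∀ x : X, ∃ V : X.Opens, IsAffineOpen V ∧ x ∈ V := fun x => by
    obtain ⟨V, hV, hxV, -⟩ := exists_isAffineOpen_mem_and_subset (x := x) (U := ⊤) trivial
    exact ⟨V, hV, hxV⟩
  choose V hVaff hxV using hV
  change (MorphismProperty.isomorphisms Scheme) g
  rw [HasAffineProperty.iff_of_iSup_eq_top (P := MorphismProperty.isomorphisms Scheme)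
    (fun x : X => (⟨V x, hVaff x⟩ : X.affineOpens))
    (by
      rw [eq_top_iff]
      intro x _
      exact Opens.mem_iSup.2 ⟨x, hxV x⟩)]
  intro x
  have haff : IsAffine ((g ⁻¹ᵁ V x : X'.Opens) : Scheme.{u}) := (hVaff x).preimage g
  refine ⟨haff, ?_⟩
  -- the section restricted
  have hrange : Set.range ((V x).ι ≫ s') ⊆ Set.range (g ⁻¹ᵁ V x).ι := by
    rintro _ ⟨z, rfl⟩
    rw [Scheme.Opens.range_ι]
    change g (s' ((V x).ι z)) ∈ V x
    have : g (s' ((V x).ι z)) = (s' ≫ g) ((V x).ι z) := rfl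
    rw [this, hs']
    exact z.2
  let sV : (V x : Scheme.{u}) ⟶ ((g ⁻¹ᵁ V x : X'.Opens) : Scheme.{u}) :=
    IsOpenImmersion.lift (g ⁻¹ᵁ V x).ι ((V x).ι ≫ s') hrange
  have hsV : sV ≫ (g ⁻¹ᵁ V x).ι = (V x).ι ≫ s' := IsOpenImmersion.lift_fac _ _ _
  have hsVg : sV ≫ (g ∣_ V x) = 𝟙 _ := by
    rw [← cancel_mono (V x).ι, Category.assoc, morphismRestrict_ι, ← Category.assoc, hsV,
      Category.assoc, hs', Category.comp_id, Category.id_comp]
  have hne' : Nonempty ((g ⁻¹ᵁ V x : X'.Opens)) := ⟨⟨s' x, by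
    change g (s' x) ∈ V x
    have : g (s' x) = (s' ≫ g) x := rfl
    rw [this, hs']
    exact hxV x⟩⟩
  have hint : IsIntegralHom (g ∣_ V x) :=
    IsZariskiLocalAtTarget.restrict (P := @IsIntegralHom) (inferInstance : IsIntegralHom g) (V x)
  have hVa : IsAffine (V x : Scheme.{u}) := hVaff x
  have hφint : (g ∣_ V x).appTop.hom.IsIntegral :=
    IsIntegralHom.isIntegral_app (g ∣_ V x) ⊤ (isAffineOpen_top _)
  have hret : (sV.appTop.hom).comp (g ∣_ V x).appTop.hom = RingHom.id _ := by
    have h1 : (g ∣_ V x).appTop ≫ sV.appTop = 𝟙 _ := by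
      rw [← Scheme.Hom.comp_appTop, hsVg]
      rfl
    exact congrArg CommRingCat.Hom.hom h1
  have hbij := bijective_of_retraction (g ∣_ V x).appTop.hom hφint sV.appTop.hom hret
  exact (ConcreteCategory.isIso_iff_bijective _).2 hbij

end Helpers


/-- Let X be an integral normal scheme, X' an integral scheme and g : X' → X an integral morphism. If g
has a rational section (a morphism s from a dense open U of X to X' with g ∘ s the inclusion of U),
then g is an isomorphism. -/
theorem result {X X' : Scheme.{u}} [IsIntegral X] [IsIntegral X'] (hX : Pi1.IsNormalScheme X)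
    (g : X' ⟶ X) [IsIntegralHom g] (U : X.Opens) (hU : Dense (U : Set X)) (s : (U : Scheme.{u}) ⟶ X') (hs : s ≫ g = U.ι) :
    IsIso g := by
  obtain ⟨s', h1, -⟩ := Groth.Agent.H4Normal.exists_section_extension hX g U hU s hs
  exact main g s' h1

end Groth.Agent.S2347
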