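import Groth.Statements.S2348
import Mathlib
import Groth.Agent.Lib.helper22.BlowUpU
import Groth.Agent.Lib.helper22.BlowUpInt

set_option autoImplicit false
universe u
open CategoryTheory CategoryTheory.Limits AlgebraicGeometry
open EGA2

namespace Groth.Agent.S2348

section Helpers

open Groth.Agent.H22.BlowUpU TopologicalSpace

theorem main {X Y : Scheme.{u}} [IsIntegral Y] (I : Y.IdealSheafData) (hI : I ≠ ⊥) (b : X ⟶ Y)
    (hb : BlowUp.IsBlowUp b I) :
    ∃ (_ : IsIntegral X), ∃ hgen : b.base (genericPoint X) = genericPoint Y,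
      Function.Bijective (b.residueFieldMap (genericPoint X)).hom := by
  let U : Y.Opens := ⟨(I.support : Set Y)ᶜ, I.support.isClosed.isOpen_compl⟩
  have hUne : Nonempty U := by
    by_contra hne
    apply hI
    rw [← Scheme.IdealSheafData.support_eq_top_iff]
    ext y
    simp only [Closeds.coe_top, Set.mem_univ, iff_true]
    by_contra hy
    exact hne ⟨⟨y, hy⟩⟩
  haveI hiso : IsIso (b ∣_ U) := isIso_morphismRestrict_of_isBlowUp I b hb U (fun x hx => hx)
  haveI : IsIntegral (U : Scheme.{u}) := isIntegral_of_isOpenImmersion U.ι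
  haveI hne' : Nonempty ((b ⁻¹ᵁ U : X.Opens) : Scheme.{u}) :=
    ⟨(inv (b ∣_ U)) hUne.some⟩
  haveI : IsIntegral ((b ⁻¹ᵁ U : X.Opens) : Scheme.{u}) := isIntegral_of_isOpenImmersion (b ∣_ U)
  have hsupp : ∀ p : X, p ∉ (I.comap b).support ↔ p ∈ b ⁻¹ᵁ U := by
    intro p
    rw [Scheme.IdealSheafData.support_comap]
    exact Iff.rfl
  haveI hred : IsReduced X := by
    refine isReduced_of_effCartier (I.comap b) hb.1 (fun O hO => ?_)
    have hOle : O ≤ b ⁻¹ᵁ U := fun p hp => (hsupp p).mp (hO p hp)
    haveI : IsReduced (O : Scheme.{u}) := isReduced_of_isOpenImmersion (X.homOfLE hOle)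
    exact isReduced_of_injective O.topIso.inv.hom
      O.topIso.symm.commRingCatIsoToRingEquiv.injective
  haveI hirr : IrreducibleSpace X := by
    rw [irreducibleSpace_def]
    have h1 : IsIrreducible ((b ⁻¹ᵁ U : X.Opens) : Set X) := by
      haveI : IrreducibleSpace ↥((b ⁻¹ᵁ U : X.Opens) : Set X) :=
        (inferInstance : IrreducibleSpace ((b ⁻¹ᵁ U : X.Opens) : Scheme.{u}))
      exact IsIrreducible.of_subtype
    have h2 : closure ((b ⁻¹ᵁ U : X.Opens) : Set X) = Set.univ := by
      rw [← dense_iff_closure_eq, dense_iff_inter_open]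
      rintro O hO ⟨x, hx⟩
      obtain ⟨p, hpO, hp⟩ := exists_mem_not_mem_support (I.comap b) hb.1 ⟨O, hO⟩ x hx
      exact ⟨p, hpO, (hsupp p).mp hp⟩
    show IsIrreducible (Set.univ : Set X)
    rw [← h2, isIrreducible_iff_closure]
    exact h1
  haveI hint : IsIntegral X := isIntegral_of_irreducibleSpace_of_isReduced X
  have e1 : (b ⁻¹ᵁ U).ι (genericPoint ((b ⁻¹ᵁ U : X.Opens) : Scheme.{u})) = genericPoint X :=
    genericPoint_eq_of_isOpenImmersion (b ⁻¹ᵁ U).ι
  have e2 : U.ι (genericPoint (U : Scheme.{u})) = genericPoint Y :=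
    genericPoint_eq_of_isOpenImmersion U.ι
  have e3 : (b ∣_ U) (genericPoint ((b ⁻¹ᵁ U : X.Opens) : Scheme.{u})) =
      genericPoint (U : Scheme.{u}) :=
    genericPoint_eq_of_isOpenImmersion (b ∣_ U)
  have hgen : b.base (genericPoint X) = genericPoint Y := by
    show b (genericPoint X) = genericPoint Y
    rw [← e1, ← Scheme.Hom.comp_apply, ← morphismRestrict_ι, Scheme.Hom.comp_apply, e3, e2]
  refine ⟨hint, hgen, ?_⟩
  have hmem : b (genericPoint X) ∉ I.support := by
    rw [← e1]
    exact (genericPoint ((b ⁻¹ᵁ U : X.Opens) : Scheme.{u})).2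
  haveI hst : IsIso (b.stalkMap (genericPoint X)) :=
    isIso_stalkMap_of_isBlowUp I b hb (genericPoint X) hmem
  let e : Y.presheaf.stalk (b (genericPoint X)) ≃+* X.presheaf.stalk (genericPoint X) :=
    (asIso (b.stalkMap (genericPoint X))).commRingCatIsoToRingEquiv
  exact (IsLocalRing.ResidueField.mapEquiv e).bijective

end Helpers

/-- For an ideal of O_Y: let Y be an integral scheme, I a nonzero quasi-coherent ideal sheaf and b : X →
Y a blowing up of Y in I (characterised by its universal property). Then X is integral, b sends the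
generic point of X to that of Y and induces a bijection on their residue fields (b is birational).
The printed statement also asserts that b is surjective; the proof does not show this and it fails
when I is not of finite type, so it is left out. -/
theorem result {X Y : Scheme.{u}} [IsIntegral Y] (I : Y.IdealSheafData) (hI : I ≠ ⊥)
    (b : X ⟶ Y) (hb : BlowUp.IsBlowUp b I) :
    ∃ (_ : IsIntegral X), ∃ hgen : b.base (genericPoint X) = genericPoint Y,
      Function.Bijective (b.residueFieldMap (genericPoint X)).hom := by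
  exact main I hI b hb

end Groth.Agent.S2348
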