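import Groth.Statements.S2349
import Mathlib

set_option autoImplicit false
universe u
open CategoryTheory CategoryTheory.Limits AlgebraicGeometry
open EGA2

namespace Groth.Agent.S2349

section Helpers
open AlgebraicGeometry CategoryTheory CategoryTheory.Limits

theorem univClosed_of_closed_cover {X Y : Scheme.{u}} (f : X ⟶ Y) (ι : Type u) [Finite ι]
    (Xi : ι → Scheme.{u}) (j : ∀ i, Xi i ⟶ X) (hcov : ∀ x : X, ∃ i, x ∈ Set.range (j i).base)
    (h : ∀ i, UniversallyClosed (j i ≫ f)) : UniversallyClosed f := by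
  rw [universallyClosed_eq]
  intro X' Y' i₁ i₂ f' hpb Z hZ
  have hcl : ∀ i, IsClosedMap (pullback.fst i₁ (j i) ≫ f').base := by
    intro i
    have hsq : IsPullback (pullback.fst i₁ (j i) ≫ f') (pullback.snd i₁ (j i)) i₂ (j i ≫ f) :=
      (IsPullback.of_hasPullback i₁ (j i)).paste_horiz hpb
    have : UniversallyClosed (pullback.fst i₁ (j i) ≫ f') :=
      MorphismProperty.of_isPullback hsq.flip (h i)
    exact (pullback.fst i₁ (j i) ≫ f').isClosedMap
  have heq : f'.base '' Z = ⋃ i, (pullback.fst i₁ (j i) ≫ f').base ''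
      ((pullback.fst i₁ (j i)).base ⁻¹' Z) := by
    ext y
    constructor
    · rintro ⟨z, hz, rfl⟩
      obtain ⟨i, t, ht⟩ := hcov (i₁ z)
      obtain ⟨w, hw1, -⟩ := Scheme.Pullback.exists_preimage_pullback (f := i₁) (g := j i) z t ht.symm
      refine Set.mem_iUnion.2 ⟨i, w, ?_, ?_⟩
      · change (pullback.fst i₁ (j i)) w ∈ Z
        rw [hw1]; exact hz
      · change f' ((pullback.fst i₁ (j i)) w) = f' z
        rw [hw1]
    · intro hy
      obtain ⟨i, w, hw, rfl⟩ := Set.mem_iUnion.1 hy
      exact ⟨(pullback.fst i₁ (j i)) w, hw, rfl⟩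
  rw [heq]
  exact isClosed_iUnion_of_finite fun i => hcl i _ (hZ.preimage (pullback.fst i₁ (j i)).continuous)

end Helpers


/-- Let f : X → Y be separated and of finite type, and let j_i : X_i → X and h_i : Y_i → Y (i in a
finite index type) be closed immersions with morphisms f_i : X_i → Y_i satisfying j_i ≫ f = f_i ≫
h_i, such that the images of the j_i cover X. Then f is proper if and only if every f_i is proper. -/
theorem result {X Y : Scheme.{u}} (f : X ⟶ Y) [IsSeparated f] [LocallyOfFiniteType f] [QuasiCompact f]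
    (ι : Type u) [Finite ι] (Xi Yi : ι → Scheme.{u}) (j : ∀ i, Xi i ⟶ X) (h : ∀ i, Yi i ⟶ Y) (fi : ∀ i, Xi i ⟶ Yi i)
    [∀ i, IsClosedImmersion (j i)] [∀ i, IsClosedImmersion (h i)] (hcomm : ∀ i, j i ≫ f = fi i ≫ h i)
    (hcov : ∀ x : X, ∃ i, x ∈ Set.range (j i).base) : IsProper f ↔ ∀ i, IsProper (fi i) := by
  constructor
  · intro hP i
    have h1 : IsProper (fi i ≫ h i) := by
      rw [← hcomm i]
      infer_instance
    exact IsProper.of_comp (fi i) (h i)
  · intro hP
    have huc : UniversallyClosed f := by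
      apply univClosed_of_closed_cover f ι Xi j hcov
      intro i
      rw [hcomm i]
      have := hP i
      infer_instance
    exact { }

end Groth.Agent.S2349
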