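import Groth.Statements.S2351
import Groth.Agent.Lib.helper26.NormAff2

set_option autoImplicit false
universe u
open CategoryTheory CategoryTheory.Limits AlgebraicGeometry
open EGA2

namespace Groth.Agent.S2351



/-- Let X be an integral scheme and X' → X its normalization (integral closure of X in its function
field). Then X' is integral with integrally closed local rings, the morphism X' → X is surjective,
maps the generic point to the generic point and induces a bijection between the residue fields of
the generic points. (The quasi-compactness/quasi-separatedness binders on Spec K(X) → X always hold;
they are only needed to form Mathlib's relative normalization.) -/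
theorem result (X : Scheme.{u}) [IsIntegral X]
    [QuasiCompact (X.fromSpecStalk (genericPoint X))] [QuasiSeparated (X.fromSpecStalk (genericPoint X))] :
    ∃ (_ : IsIntegral (Curv2.normalization X)), Pi1.IsNormalScheme (Curv2.normalization X) ∧ Surjective (Curv2.normalizationι X) ∧
      ∃ hgen : (Curv2.normalizationι X).base (genericPoint (Curv2.normalization X)) = genericPoint X,
        Function.Bijective ((Curv2.normalizationι X).residueFieldMap (genericPoint (Curv2.normalization X))).hom := by
  refine ⟨inferInstanceAs (IsIntegral (X.fromSpecStalk (genericPoint X)).normalization),
    Groth.Agent.Lib.helper26.NormAff.isNormalScheme_normalization X,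
    ⟨Groth.Agent.Lib.helper26.NormAff.surjective_fromNormalization X⟩,
    Groth.Agent.Lib.helper26.NormAff.fromNormalization_genericPoint X,
    Groth.Agent.Lib.helper26.NormAff.bijective_residueFieldMap_genericPoint X⟩

end Groth.Agent.S2351
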