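import Groth.Statements.S2356
import Groth.Agent.Lib.helper9.LocFree6
import Groth.Agent.Lib.helper9.LocFree5
import Groth.Agent.Lib.helper9.LocFree2
import Groth.Agent.Lib.helper9.SemiLoc
import Groth.Agent.S12451

set_option autoImplicit false
universe u
open CategoryTheory CategoryTheory.Limits AlgebraicGeometry
open EGA2

namespace Groth.Agent.S2356

open CategoryTheory CategoryTheory.Limits AlgebraicGeometry Groth.Agent.Lib.helper9.LocFree
  Groth.Agent.Lib.helper9.CohB Groth.Agent.Lib.helper9.SemiLoc in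
set_option backward.isDefEq.respectTransparency false in
lemma nonempty_iso_of_isEmpty (X : Scheme.{u}) [IsEmpty X] (M N : X.Modules) :
    Nonempty (M ≅ N) := by
  have hsub : ∀ (K : X.Modules) (U : X.Opens), Subsingleton Γ(K, U) := by
    intro K U
    have hU : U = ⊥ := by
      apply TopologicalSpace.Opens.ext
      exact Set.eq_empty_of_isEmpty _
    subst hU
    exact Module.subsingleton Γ(X, ⊥) Γ(K, ⊥)
  have hhom : ∀ (K L : X.Modules) (f g : K ⟶ L), f = g := by
    intro K L f g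
    apply Scheme.Modules.hom_ext
    intro U
    haveI := hsub L U
    ext x
    exact Subsingleton.elim _ _
  exact ⟨⟨0, 0, hhom _ _ _ _, hhom _ _ _ _⟩⟩

open CategoryTheory CategoryTheory.Limits AlgebraicGeometry Groth.Agent.Lib.helper9.LocFree
  Groth.Agent.Lib.helper9.CohB Groth.Agent.Lib.helper9.SemiLoc in
set_option backward.isDefEq.respectTransparency false in
lemma isQuasicoherent_of_isFinLocFree {Y : Scheme.{u}} (E : Y.Modules)
    (hE : FlatMod.IsFinLocFree E) : E.IsQuasicoherent := by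
  apply Groth.Agent.Lib.helper9.QcohLocal.isQuasicoherent_of_forall_exists
  intro x
  obtain ⟨U, n, hxU, ⟨i⟩⟩ := hE x
  obtain ⟨W, hW, hxW, hWU⟩ := exists_isAffineOpen_mem_and_subset (x := x) (U := U) hxU
  refine ⟨W, hW, hxW, ?_⟩
  have hrange : Set.range hW.fromSpec ⊆ (U : Set Y) := by
    rw [hW.range_fromSpec]
    exact hWU
  obtain ⟨i'⟩ := restrict_iso_freeMod_of_range_subset E n i hW.fromSpec hrange
  exact (SheafOfModules.isQuasicoherent (Spec Γ(Y, W)).ringCatSheaf).prop_of_iso i'.symm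
    (isQuasicoherent_freeMod _ n)

open CategoryTheory CategoryTheory.Limits AlgebraicGeometry Groth.Agent.Lib.helper9.LocFree
  Groth.Agent.Lib.helper9.CohB Groth.Agent.Lib.helper9.SemiLoc Scheme.Modules in
set_option backward.isDefEq.respectTransparency false in
lemma main (Y : Scheme.{u}) (r : ℕ) (E : Y.Modules) (hE : FlatMod.IsFinLocFreeOfRank r E)
    (Z : Set Y) (hZ : Z.Finite) (V : Y.Opens) (hV : IsAffineOpen V) (hZV : Z ⊆ V) :
    ∃ U : Y.Opens, Z ⊆ U ∧ U ≤ V ∧
      Nonempty (E.restrict U.ι ≅ FlatMod.freeMod (U : Scheme.{u}) r) := by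
  have hE' : FlatMod.IsFinLocFree E := fun x => by
    obtain ⟨U, hxU, hi⟩ := hE x
    exact ⟨U, r, hxU, hi⟩
  haveI hqc : E.IsQuasicoherent := isQuasicoherent_of_isFinLocFree E hE'
  rcases Z.eq_empty_or_nonempty with hZe | hZne
  · subst hZe
    refine ⟨⊥, Set.empty_subset _, bot_le, ?_⟩
    haveI : IsEmpty ((⊥ : Y.Opens) : Scheme.{u}) := ⟨fun y => by
      have h : (y.1 : Y) ∈ ((⊥ : Y.Opens) : Set Y) := y.2
      rw [TopologicalSpace.Opens.coe_bot] at h
      exact h⟩
    exact nonempty_iso_of_isEmpty _ _ _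
  haveI hGqc : (E.restrict hV.fromSpec).IsQuasicoherent := inferInstance
  -- the restriction to the affine open is finite locally free
  have hG : FlatMod.IsFinLocFree (E.restrict hV.fromSpec) := by
    intro q
    obtain ⟨U, hxU, ⟨i⟩⟩ := hE (hV.fromSpec q)
    refine ⟨hV.fromSpec ⁻¹ᵁ U, r, hxU, ?_⟩
    have hrange : Set.range ((hV.fromSpec ⁻¹ᵁ U).ι ≫ hV.fromSpec) ⊆ (U : Set Y) := by
      rw [Scheme.Hom.comp_base, TopCat.coe_comp, Set.range_comp, Scheme.Opens.range_ι]
      exact Set.image_preimage_subset _ _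
    obtain ⟨i'⟩ := restrict_iso_freeMod_of_range_subset E r i
      ((hV.fromSpec ⁻¹ᵁ U).ι ≫ hV.fromSpec) hrange
    exact ⟨((restrictFunctorComp (hV.fromSpec ⁻¹ᵁ U).ι hV.fromSpec).app E).symm ≪≫ i'⟩
  haveI : IsIso (E.restrict hV.fromSpec).fromTildeΓ := inferInstance
  have hT : FlatMod.IsFinLocFree (tilde (Γmod (E.restrict hV.fromSpec))) := by
    intro q
    obtain ⟨D, n, hqD, ⟨i⟩⟩ := hG q
    exact ⟨D, n, hqD,
      ⟨(restrictFunctor D.ι).mapIso (asIso (E.restrict hV.fromSpec).fromTildeΓ) ≪≫ i⟩⟩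
  obtain ⟨hfin, hproj⟩ := (Groth.Agent.S12451.main (Γmod (E.restrict hV.fromSpec))).mp hT
  haveI := hfin
  haveI := hproj
  -- the primes of the points of `Z`
  have hinj : Function.Injective (fun q : PrimeSpectrum Γ(Y, V) => hV.fromSpec q) :=
    hV.fromSpec.isOpenEmbedding.injective
  have hPfin : {q : PrimeSpectrum Γ(Y, V) | hV.fromSpec q ∈ Z}.Finite := hZ.preimage hinj.injOn
  have hPne : {q : PrimeSpectrum Γ(Y, V) | hV.fromSpec q ∈ Z}.Nonempty := by
    obtain ⟨z, hz⟩ := hZne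
    obtain ⟨q, hq⟩ := exists_fromSpec_eq hV (hZV hz)
    refine ⟨q, ?_⟩
    show hV.fromSpec q ∈ Z
    rw [hq]
    exact hz
  have hrank : ∀ q ∈ {q : PrimeSpectrum Γ(Y, V) | hV.fromSpec q ∈ Z},
      Module.rankAtStalk (Γmod (E.restrict hV.fromSpec)) q = r := by
    intro q _
    obtain ⟨U, hxU, ⟨i⟩⟩ := hE (hV.fromSpec q)
    haveI : q.asIdeal.IsPrime := q.2
    have h1 := finrank_stalk_of_restrict_iso E r i (hV.fromSpec q) hxU
    have h2 := (stalkSemiEquiv E hV q).finrank_eq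
    show Module.finrank (Localization.AtPrime q.asIdeal)
      (LocalizedModule q.asIdeal.primeCompl (Γmod (E.restrict hV.fromSpec))) = r
    rw [h2, h1]
  obtain ⟨f, hf, hfree⟩ := exists_mem_avoid_free hPfin hPne (Γmod (E.restrict hV.fromSpec)) r hrank
  haveI := hfree
  obtain ⟨n, ⟨i⟩⟩ := exists_restrict_iso_freeMod_of_away_free E hV f
  have hZU : Z ⊆ (hV.fromSpec ''ᵁ (basicOpenS f) : Y.Opens) := by
    intro z hz
    obtain ⟨q, hq⟩ := exists_fromSpec_eq hV (hZV hz)
    have hqP : hV.fromSpec q ∈ Z := by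
      rw [hq]
      exact hz
    rw [← hq]
    exact ⟨q, hf q hqP, rfl⟩
  have hUV : (hV.fromSpec ''ᵁ (basicOpenS f) : Y.Opens) ≤ V := by
    rintro _ ⟨q, -, rfl⟩
    have h : hV.fromSpec q ∈ Set.range hV.fromSpec := ⟨q, rfl⟩
    rw [hV.range_fromSpec] at h
    exact h
  obtain ⟨z, hz⟩ := hZne
  have hn : n = r := by
    obtain ⟨U', hxU', ⟨i'⟩⟩ := hE z
    rw [← finrank_stalk_of_restrict_iso E n i z (hZU hz),
      finrank_stalk_of_restrict_iso E r i' z hxU']
  subst hn
  exact ⟨_, hZU, hUV, ⟨i⟩⟩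


/-- Let Y be a scheme, E a locally free O_Y-module of rank r, and Z a finite set of points of Y
contained in an affine open V. Then there is an open neighbourhood U ⊆ V of Z on which E is free of
rank r. -/
theorem result (Y : Scheme.{u}) (r : ℕ) (E : Y.Modules) (hE : FlatMod.IsFinLocFreeOfRank r E)
    (Z : Set Y) (hZ : Z.Finite) (V : Y.Opens) (hV : IsAffineOpen V) (hZV : Z ⊆ V) :
    ∃ U : Y.Opens, Z ⊆ U ∧ U ≤ V ∧ Nonempty (E.restrict U.ι ≅ FlatMod.freeMod (U : Scheme.{u}) r) := by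
  exact main Y r E hE Z hZ V hV hZV

end Groth.Agent.S2356
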