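import Groth.Statements.S4809
import Mathlib
import Groth.Agent.Lib.helper4.Rat9

set_option autoImplicit false
universe u
open CategoryTheory AlgebraicGeometry
open Lim8

namespace Groth.Agent.S4809

section Helpers
open IsLocalRing Groth.Agent.H4Rat

/-- a section through each point -/
theorem exists_section {X Y : Scheme.{u}} [IsIntegral X] [IsIntegral Y]
    (hN : ∀ y : Y, IsIntegrallyClosed (Y.presheaf.stalk y)) (f : X ⟶ Y)
    [LocallyOfFiniteType f] (hK : Spec Y.functionField ⟶ X)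
    (hKf : hK ≫ f = Y.fromSpecStalk (genericPoint Y))
    (hKpt : hK (closedPoint Y.functionField) = genericPoint X) (x : X) (hqf : f.QuasiFiniteAt x) :
    ∃ (V₁ : Y.Opens) (hV₁ : f x ∈ V₁) (g₁ : V₁.toScheme ⟶ X), g₁ ≫ f = V₁.ι ∧
      g₁ ⟨f x, hV₁⟩ = x ∧
      (∀ hξ : genericPoint Y ∈ V₁, V₁.fromSpecStalkOfMem (genericPoint Y) hξ ≫ g₁ = hK) ∧
      genericPoint X ∈ Set.range g₁ := by
  have := hN (f x)
  have hsp : hK (closedPoint Y.functionField) ⤳ x := by
    rw [hKpt]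
    exact Groth.Agent.H4FF.genericPoint_specializes x
  obtain ⟨V₁, hV₁, g₁, h1, h2, h3⟩ := exists_section_of_quasiFiniteAt f hK hKf x hsp hqf
  refine ⟨V₁, hV₁, g₁, h1, h2, h3, ?_⟩
  have hξ : genericPoint Y ∈ V₁ :=
    (Groth.Agent.H4FF.genericPoint_specializes (f x)).mem_open V₁.isOpen hV₁
  refine ⟨V₁.fromSpecStalkOfMem (genericPoint Y) hξ (closedPoint Y.functionField), ?_⟩
  rw [← Scheme.Hom.comp_apply, h3 hξ, hKpt]

theorem main {X Y : Scheme.{u}} [IsIntegral X] [IsIntegral Y]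
    (hN : ∀ y : Y, IsIntegrallyClosed (Y.presheaf.stalk y)) (f : X ⟶ Y) [LocallyQuasiFinite f]
    [LocallyOfFiniteType f] (hgen : f (genericPoint X) = genericPoint Y)
    (hbir : IsIso (f.stalkMap (genericPoint X))) :
    IsLocalIso f ∧ (IsSeparated f → IsOpenImmersion f) := by
  obtain ⟨hK, hKf, hKpt⟩ := exists_generic_lift f hgen hbir
  have hloc : ∀ x : X, ∃ U : X.Opens, x ∈ U ∧ IsOpenImmersion (U.ι ≫ f) := by
    intro x
    obtain ⟨V₁, hV₁, g₁, h1, h2, -, h4⟩ :=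
      exists_section hN f hK hKf hKpt x (f.quasiFiniteAt x)
    obtain ⟨U, hU, hUo⟩ := exists_isOpenImmersion_of_section f V₁ g₁ h1 h4
    refine ⟨U, ?_, hUo⟩
    change x ∈ (U : Set X)
    rw [hU]
    exact ⟨_, h2⟩
  refine ⟨⟨hloc⟩, fun hsep => ?_⟩
  apply isOpenImmersion_of_local_of_injective f hloc
  intro x₁ x₂ h12
  obtain ⟨V₁, hV₁, g₁, h1, h2, h3, -⟩ :=
    exists_section hN f hK hKf hKpt x₁ (f.quasiFiniteAt x₁)
  obtain ⟨V₂, hV₂, g₂, h1', h2', h3', -⟩ :=
    exists_section hN f hK hKf hKpt x₂ (f.quasiFiniteAt x₂)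
  have hξ : genericPoint Y ∈ V₁ ⊓ V₂ :=
    ⟨(Groth.Agent.H4FF.genericPoint_specializes (f x₁)).mem_open V₁.isOpen hV₁,
      (Groth.Agent.H4FF.genericPoint_specializes (f x₂)).mem_open V₂.isOpen hV₂⟩
  have hag : Y.homOfLE (inf_le_left : V₁ ⊓ V₂ ≤ V₁) ≫ g₁ =
      Y.homOfLE (inf_le_right : V₁ ⊓ V₂ ≤ V₂) ≫ g₂ := by
    refine ext_of_isDominant_of_isSeparated f ?_
      ((V₁ ⊓ V₂).fromSpecStalkOfMem (genericPoint Y) hξ) ?_
    · rw [Category.assoc, Category.assoc, h1, h1', Scheme.homOfLE_ι, Scheme.homOfLE_ι]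
    · rw [fromSpecStalkOfMem_homOfLE_assoc, fromSpecStalkOfMem_homOfLE_assoc, h3 hξ.1, h3' hξ.2]
  have hmem : f x₁ ∈ V₁ ⊓ V₂ := ⟨hV₁, h12 ▸ hV₂⟩
  have e1 : g₁ ⟨f x₁, hV₁⟩ = (Y.homOfLE (inf_le_left : V₁ ⊓ V₂ ≤ V₁) ≫ g₁) ⟨f x₁, hmem⟩ := by
    rw [Scheme.Hom.comp_apply, homOfLE_mk]
  have e2 : g₂ ⟨f x₂, hV₂⟩ = (Y.homOfLE (inf_le_right : V₁ ⊓ V₂ ≤ V₂) ≫ g₂) ⟨f x₁, hmem⟩ := by
    rw [Scheme.Hom.comp_apply, homOfLE_mk]
    congr 2
    exact h12.symm
  rw [← h2, ← h2', e1, e2, hag]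

end Helpers


/-- Let Y be an integral normal scheme (every local ring integrally closed), X an integral scheme, and f
: X ⟶ Y a locally quasi-finite morphism (locally of finite type with discrete fibres) which is
birational: f maps the generic point of X to that of Y and its stalk map at the generic point of X,
the induced homomorphism of function fields, is an isomorphism. Then f is a local isomorphism, and f
is an open immersion as soon as it is separated. -/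
theorem result {X Y : Scheme.{u}} [IsIntegral X] [IsIntegral Y]
    (hN : ∀ y : Y, IsIntegrallyClosed (Y.presheaf.stalk y)) (f : X ⟶ Y) [LocallyQuasiFinite f]
    [LocallyOfFiniteType f] (hgen : f (genericPoint X) = genericPoint Y)
    (hbir : IsIso (f.stalkMap (genericPoint X))) :
    IsLocalIso f ∧ (IsSeparated f → IsOpenImmersion f) := by
  exact main hN f hgen hbir

end Groth.Agent.S4809
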