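import Groth.Statements.S2454
import Mathlib
import Groth.Agent.S2451
import Groth.Agent.Lib.helper14.FSProj
import Groth.Agent.Lib.helper14.FProj


set_option autoImplicit false
universe u
open EGA41

namespace H14S2454

open IsLocalRing

theorem main {A B : Type u} [CommRing A] [IsLocalRing A] [CommRing B] [IsLocalRing B]
    [Algebra A B] [IsLocalHom (algebraMap A B)] (h : EGA41.IsCohenAlgebra A B) :
    EGA41.IsFormallySmoothAdic A (maximalIdeal A) B (maximalIdeal B) := by
  classical
  obtain ⟨hA, hB, hcomp, hflat, hm, hGR⟩ := h
  haveI := hflat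
  apply H14.FSProj.of_quotient (maximalIdeal A) (maximalIdeal B)
  · intro n P Q _ _ _ _ hP hQ f hf v hv
    exact H14.FProj.formallyProjective_of_flat (maximalIdeal B) hm.symm n P Q hP hQ f hf v hv
  · have hFS : Algebra.FormallySmooth (ResidueField A) (ResidueField B) :=
      Groth.Agent.S2451.result.mpr hGR
    letI alg0 : Algebra (A ⧸ maximalIdeal A) (B ⧸ maximalIdeal B) :=
      inferInstanceAs (Algebra (ResidueField A) (ResidueField B))
    haveI hFS' : Algebra.FormallySmooth (A ⧸ maximalIdeal A) (B ⧸ maximalIdeal B) := hFS
    let e₀ : (B ⧸ maximalIdeal B) ≃+* (B ⧸ (maximalIdeal A).map (algebraMap A B)) :=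
      Ideal.quotEquivOfEq hm.symm
    let e : (B ⧸ maximalIdeal B) ≃ₐ[A ⧸ maximalIdeal A]
        (B ⧸ (maximalIdeal A).map (algebraMap A B)) :=
      { e₀ with
        commutes' := by
          intro r
          obtain ⟨a, rfl⟩ := Ideal.Quotient.mk_surjective r
          rfl }
    haveI : Algebra.FormallySmooth (A ⧸ maximalIdeal A)
        (B ⧸ (maximalIdeal A).map (algebraMap A B)) := Algebra.FormallySmooth.of_equiv e
    intro C _ _ J hJ _ u _
    exact Algebra.FormallySmooth.exists_lift J hJ u

end H14S2454

namespace Groth.Agent.S2454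

open IsLocalRing in
/-- Let A → B be a local homomorphism of Noetherian local rings making B a Cohen A-algebra. Then B, with
its adic topology, is formally smooth over A with its adic topology. -/
theorem result {A B : Type u} [CommRing A] [IsLocalRing A] [CommRing B] [IsLocalRing B]
    [Algebra A B] [IsLocalHom (algebraMap A B)] (h : EGA41.IsCohenAlgebra A B) :
    EGA41.IsFormallySmoothAdic A (maximalIdeal A) B (maximalIdeal B) := by
  exact H14S2454.main h

end Groth.Agent.S2454
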