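import Groth.Statements.S2457
import Mathlib
import Groth.Agent.Lib.helper14.CohenSmooth
import Groth.Agent.S2456


set_option autoImplicit false
universe u
open EGA41

namespace H14S2457

open IsLocalRing

theorem profile {W : Type u} [CommRing W] [IsLocalRing W] (hW : EGA41.IsCohenRingEGA W) :
    ∃ p : ℕ, maximalIdeal W = Ideal.span {(p : W)} ∧ IsNoetherianRing W ∧
      IsAdicComplete (maximalIdeal W) W ∧ IsDomain W ∧
      CharP (ResidueField W) p ∧ (∀ n : ℕ, n ≠ 0 → (n : W) ≠ 0) ∧
      (∀ x : W, x ≠ 0 → ∃ (n : ℕ) (c : Wˣ), x = c * (p : W) ^ n) := by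
  classical
  rcases hW with ⟨hfield, hchar⟩ | hcohen
  · haveI := hchar
    letI : Field W := hfield.toField
    have h0 : maximalIdeal W = ⊥ := IsLocalRing.isField_iff_maximalIdeal_eq.mp hfield
    refine ⟨0, ?_, inferInstance, ?_, inferInstance, ?_, ?_, ?_⟩
    · rw [h0, Nat.cast_zero]
      exact (Ideal.span_singleton_eq_bot.mpr rfl).symm
    · rw [h0]; infer_instance
    · haveI : CharZero (ResidueField W) :=
        charZero_of_injective_ringHom (f := residue W) (RingHom.injective _)
      exact CharP.ofCharZero _
    · intro n hn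
      exact Nat.cast_ne_zero.mpr hn
    · intro x hx
      exact ⟨0, Units.mk0 x hx, by simp⟩
  · obtain ⟨hdom, hdvr, hcomp, p, hp, hm⟩ := hcohen
    haveI := hdom
    haveI := hdvr
    refine ⟨p, hm, inferInstance, hcomp, inferInstance, ?_, ?_, ?_⟩
    · have h0 : ((p : ℕ) : ResidueField W) = 0 := by
        have : ((p : ℕ) : ResidueField W) = residue W (p : W) := by rw [map_natCast]
        rw [this, IsLocalRing.residue_eq_zero_iff, hm]
        exact Ideal.mem_span_singleton_self _
      exact ringChar.of_eq (CharP.ringChar_of_prime_eq_zero hp h0)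
    · exact H14.CohenSmooth.natCast_ne_zero hp hm
    · intro x hx
      have hirr : Irreducible (p : W) :=
        (IsDiscreteValuationRing.irreducible_iff_uniformizer _).mpr hm
      obtain ⟨n, c, hc⟩ := IsDiscreteValuationRing.eq_unit_mul_pow_irreducible hx hirr
      exact ⟨n, c, hc⟩

theorem main {W W' : Type u} [CommRing W] [IsLocalRing W] [CommRing W'] [IsLocalRing W']
    (hW : EGA41.IsCohenRingEGA W) (hW' : EGA41.IsCohenRingEGA W')
    (u : ResidueField W ≃+* ResidueField W') :
    ∃ v : W ≃+* W', ∀ x : W, residue W' (v x) = u (residue W x) := by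
  classical
  obtain ⟨p, hm, hnoeth, hcomp, hdom, hchar, hcast, hfact⟩ := profile hW
  obtain ⟨p', hm', hnoeth', hcomp', hdom', hchar', hcast', hfact'⟩ := profile hW'
  have hpp : p = p' := by
    haveI : CharP (ResidueField W') p :=
      charP_of_injective_ringHom (f := (u : ResidueField W →+* ResidueField W')) u.injective p
    exact CharP.eq (ResidueField W') inferInstance hchar'
  subst hpp
  let u' : W →+* W' ⧸ maximalIdeal W' :=
    (u : ResidueField W →+* ResidueField W').comp (residue W)
  have hu' : ∀ x, u' x = u (residue W x) := fun x => rfl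
  haveI : IsLocalHom u' := by
    constructor
    intro x hx
    have h1 : IsUnit (u (residue W x)) := hx
    have h2 : IsUnit (residue W x) := by
      have := h1.map (u.symm : ResidueField W' →+* ResidueField W)
      simpa using this
    exact (IsLocalRing.residue_ne_zero_iff_isUnit x).mp h2.ne_zero
  haveI : IsLocalRing (W' ⧸ maximalIdeal W') := inferInstanceAs (IsLocalRing (ResidueField W'))
  obtain ⟨v, hvloc, hv⟩ := H14S2456.main hW (maximalIdeal W')
    (Ideal.IsMaximal.ne_top inferInstance) u'
  have hv' : ∀ x, residue W' (v x) = u (residue W x) := fun x => by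
    have := RingHom.congr_fun hv x
    exact this
  haveI := hdom'
  have hmap : (maximalIdeal W).map v = maximalIdeal W' := by
    rw [hm, hm', Ideal.map_span, Set.image_singleton, map_natCast]
  haveI : IsPrecomplete (maximalIdeal W) W := hcomp.toIsPrecomplete
  haveI : IsHausdorff ((maximalIdeal W).map v) W' := by rw [hmap]; exact hcomp'.toIsHausdorff
  have hsurj : Function.Surjective v := by
    apply surjective_of_mk_map_comp_surjective v (I := maximalIdeal W)
    intro y
    obtain ⟨y', rfl⟩ := Ideal.Quotient.mk_surjective y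
    obtain ⟨z, hz⟩ := u.surjective (residue W' y')
    obtain ⟨x, rfl⟩ := IsLocalRing.residue_surjective z
    refine ⟨x, ?_⟩
    change Ideal.Quotient.mk ((maximalIdeal W).map v) (v x) = Ideal.Quotient.mk _ y'
    rw [Ideal.Quotient.eq, hmap, ← Ideal.Quotient.eq]
    exact (hv' x).trans hz
  have hinj : Function.Injective v := by
    rw [injective_iff_map_eq_zero]
    intro x hx
    by_contra hx0
    obtain ⟨n, c, hc⟩ := hfact x hx0
    rw [hc, map_mul, map_pow, map_natCast] at hx
    have hcu : IsUnit (v c) := c.isUnit.map v
    have hpn : ((p : W')) ^ n = 0 := by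
      rcases mul_eq_zero.mp hx with h | h
      · exact absurd h hcu.ne_zero
      · exact h
    rcases Nat.eq_zero_or_pos n with hn | hn
    · subst hn; rw [pow_zero] at hpn; exact one_ne_zero hpn
    · have hp0 : (p : W') = 0 := (pow_eq_zero_iff hn.ne').mp hpn
      have hpnat : p ≠ 0 := by
        rintro rfl
        apply hx0
        rw [hc, Nat.cast_zero, zero_pow hn.ne', mul_zero]
      exact hcast' p hpnat hp0
  exact ⟨RingEquiv.ofBijective v ⟨hinj, hsurj⟩, hv'⟩

end H14S2457

namespace Groth.Agent.S2457

open IsLocalRing in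
/-- Let W and W' be Cohen rings with residue fields K and K' and u : K ≅ K' an isomorphism. Then u is
induced by some isomorphism v : W ≅ W'. -/
theorem result {W W' : Type u} [CommRing W] [IsLocalRing W] [CommRing W'] [IsLocalRing W']
    (hW : EGA41.IsCohenRingEGA W) (hW' : EGA41.IsCohenRingEGA W') (u : ResidueField W ≃+* ResidueField W') :
    ∃ v : W ≃+* W', ∀ x : W, residue W' (v x) = u (residue W x) := by
  exact H14S2457.main hW hW' u

end Groth.Agent.S2457
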