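import Groth.Statements.S2458
import Mathlib
import Groth.Agent.Lib.helper19.PSComplete
import Groth.Agent.Lib.helper14.FSRegular
import Groth.Agent.Lib.helper14.CohenExistC
import Groth.Agent.Lib.helper14.CoeffField
import Groth.Agent.Lib.helper14.PSFinite3
import Groth.Agent.Lib.helper20.RegQuot4


set_option autoImplicit false
universe u
open EGA41

namespace H14S2458

open IsLocalRing MvPowerSeries

/-- linear algebra: extend a nonzero vector to a basis -/
theorem linalg {K V : Type u} [Field K] [AddCommGroup V] [Module K V] [Module.Finite K V]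
    (w : V) (hw : w ≠ 0) :
    ∃ (n : ℕ) (c : Fin n → V),
      (∀ y : V, ∃ (α : K) (αi : Fin n → K), y = α • w + ∑ i, αi i • c i) ∧
      (∀ (α : K) (αi : Fin n → K), α • w + ∑ i, αi i • c i = 0 → α = 0 ∧ ∀ i, αi i = 0) := by
  classical
  obtain ⟨N, hN⟩ := Submodule.exists_isCompl (Submodule.span K {w})
  let n := Module.finrank K N
  let c : Module.Basis (Fin n) K N := Module.finBasis K N
  refine ⟨n, fun i => (c i : V), ?_, ?_⟩
  · intro y
    have hy : y ∈ Submodule.span K {w} ⊔ N := by
      rw [hN.sup_eq_top]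
      exact Submodule.mem_top
    obtain ⟨y1, hy1, y2, hy2, rfl⟩ := Submodule.mem_sup.mp hy
    obtain ⟨α, rfl⟩ := Submodule.mem_span_singleton.mp hy1
    refine ⟨α, fun i => c.repr ⟨y2, hy2⟩ i, ?_⟩
    congr 1
    have h1 := congrArg Subtype.val (c.sum_repr ⟨y2, hy2⟩)
    simp only [Submodule.coe_sum, Submodule.coe_smul] at h1
    exact h1.symm
  · intro α αi h0
    have h1 : α • w = -∑ i, αi i • (c i : V) := eq_neg_of_add_eq_zero_left h0
    have h2 : α • w ∈ N := by
      rw [h1]
      exact N.neg_mem (N.sum_mem fun i _ => N.smul_mem _ (c i).2)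
    have h3 : α • w ∈ Submodule.span K {w} :=
      Submodule.smul_mem _ _ (Submodule.mem_span_singleton_self w)
    have h4 : α • w ∈ Submodule.span K {w} ⊓ N := ⟨h3, h2⟩
    rw [hN.inf_eq_bot, Submodule.mem_bot] at h4
    have hα : α = 0 := by
      rcases smul_eq_zero.mp h4 with h | h
      · exact h
      · exact absurd h hw
    refine ⟨hα, ?_⟩
    rw [hα, zero_smul, zero_add] at h0
    have h5 : ∑ i, αi i • c i = 0 := by
      apply Subtype.ext
      simp only [Submodule.coe_sum, Submodule.coe_smul, ZeroMemClass.coe_zero]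
      exact h0
    exact fun i => (Fintype.linearIndependent_iff.mp c.linearIndependent) αi h5 i

theorem degree_eq_one {n : ℕ} (ν : Fin n →₀ ℕ) (h : ν.degree = 1) :
    ∃ i, ν = Finsupp.single i 1 := by
  classical
  have hne : ν ≠ 0 := by
    rintro rfl
    simp at h
  obtain ⟨i, hi⟩ := Finsupp.ne_iff.mp hne
  have hi' : 1 ≤ ν i := Nat.one_le_iff_ne_zero.mpr (by simpa using hi)
  have hle : Finsupp.single i 1 ≤ ν := by
    intro j
    by_cases hj : j = i
    · subst hj
      simpa using hi'
    · rw [Finsupp.single_apply, if_neg (fun h => hj h.symm)]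
      exact Nat.zero_le _
  have hsum : ν - Finsupp.single i 1 + Finsupp.single i 1 = ν := tsub_add_cancel_of_le hle
  have hdeg : (ν - Finsupp.single i 1).degree + 1 = 1 := by
    have h1 := congrArg Finsupp.degree hsum
    rw [map_add, Finsupp.degree_single, h] at h1
    exact h1
  have h0 : ν - Finsupp.single i 1 = 0 := by
    rw [← Finsupp.degree_eq_zero_iff]
    omega
  refine ⟨i, ?_⟩
  rw [← hsum, h0, zero_add]

/-- subtracting the constant and linear parts of a power series leaves an element of `𝔫²` -/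
theorem rest_mem {Λ : Type u} [CommRing Λ] [IsLocalRing Λ] (n : ℕ)
    (x : MvPowerSeries (Fin n) Λ) :
    x - C (coeff 0 x) - ∑ i, C (coeff (Finsupp.single i 1) x) * X i ∈
      maximalIdeal (MvPowerSeries (Fin n) Λ) ^ 2 := by
  classical
  rw [Groth.Agent.Lib.helper19.PSC.pow_eq_W, Groth.Agent.Lib.helper19.PSC.mem_W]
  intro ν
  rcases Nat.lt_or_ge ν.degree 2 with hlt | hge
  · have hcases : ν.degree = 0 ∨ ν.degree = 1 := by omega
    rcases hcases with hd | hd
    · have hν : ν = 0 := (Finsupp.degree_eq_zero_iff ν).mp hd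
      subst hν
      have : coeff 0 (x - C (coeff 0 x) - ∑ i, C (coeff (Finsupp.single i 1) x) * X i) = 0 := by
        rw [map_sub, map_sub, map_sum]
        simp [coeff_zero_eq_constantCoeff]
      rw [this]
      exact Ideal.zero_mem _
    · obtain ⟨j, rfl⟩ := degree_eq_one ν hd
      have : coeff (Finsupp.single j 1)
          (x - C (coeff 0 x) - ∑ i, C (coeff (Finsupp.single i 1) x) * X i) = 0 := by
        rw [map_sub, map_sub, map_sum]
        have h1 : coeff (Finsupp.single j 1) (C (coeff 0 x) : MvPowerSeries (Fin n) Λ) = 0 := by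
          rw [coeff_C, if_neg]
          intro h0
          have := congrArg Finsupp.degree h0
          simp at this
        have h2 : ∀ i, coeff (Finsupp.single j 1)
            (C (coeff (Finsupp.single i 1) x) * X i : MvPowerSeries (Fin n) Λ) =
            if i = j then coeff (Finsupp.single i 1) x else 0 := by
          intro i
          rw [coeff_C_mul, coeff_X]
          by_cases hij : i = j
          · subst hij
            simp
          · rw [if_neg hij, if_neg, mul_zero]
            intro h0
            exact hij ((Finsupp.single_left_injective one_ne_zero) h0).symm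
        rw [h1, Finset.sum_congr rfl (fun i _ => h2 i)]
        simp
      rw [this]
      exact Ideal.zero_mem _
  · rw [Nat.sub_eq_zero_of_le hge, pow_zero, Ideal.one_eq_top]
    exact Submodule.mem_top


/-- a copy of the residue field -/
def KF (R : Type u) [CommRing R] [IsLocalRing R] : Type u := ResidueField R

noncomputable instance (R : Type u) [CommRing R] [IsLocalRing R] : Field (KF R) :=
  inferInstanceAs (Field (ResidueField R))

/-- the equal characteristic case -/
theorem equal {A : Type u} [CommRing A] [IsLocalRing A] [IsArtinianRing A]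
    (h : maximalIdeal A ^ 2 = ⊥) (σ : ResidueField A →+* A) (hσ : ∀ x, residue A (σ x) = x) :
    ∃ (B : Type u) (_ : CommRing B) (_ : IsRegularLocalRing B),
      Nonempty (A ≃+* B ⧸ IsLocalRing.maximalIdeal B ^ 2) := by
  classical
  let σ' : KF A →+* A := σ
  letI : Algebra (KF A) A := σ'.toAlgebra
  have hk : Function.Bijective (algebraMap (KF A) (ResidueField A)) := by
    have h1 : ∀ x : KF A, algebraMap (KF A) (ResidueField A) x = x := fun x => hσ x
    constructor
    · intro x y hxy
      rw [h1, h1] at hxy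
      exact hxy
    · intro y
      exact ⟨y, h1 y⟩
  obtain ⟨d, ψ, hψ, hker⟩ := H14.FSReg.exists_psi hk
  haveI : IsLocalHom ψ.toRingHom := IsLocalHom.of_surjective _ hψ
  have hle : maximalIdeal (MvPowerSeries (Fin d) (KF A)) ^ 2 ≤ RingHom.ker ψ.toRingHom := by
    have h1 : (maximalIdeal (MvPowerSeries (Fin d) (KF A))).map ψ.toRingHom ≤ maximalIdeal A := by
      rw [Ideal.map_le_iff_le_comap]
      intro x hx
      rw [Ideal.mem_comap, mem_maximalIdeal, mem_nonunits_iff]
      intro hu
      exact hx (isUnit_of_map_unit ψ.toRingHom x hu)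
    rw [RingHom.ker_eq_comap_bot, ← Ideal.map_le_iff_le_comap, Ideal.map_pow, ← h]
    exact Ideal.pow_right_mono h1 2
  have heq : RingHom.ker ψ.toRingHom = maximalIdeal (MvPowerSeries (Fin d) (KF A)) ^ 2 :=
    le_antisymm hker hle
  refine ⟨MvPowerSeries (Fin d) (KF A), inferInstance,
    Groth.Agent.Lib.helper19.isRegularLocalRing_mvPowerSeries (KF A) d, ⟨?_⟩⟩
  exact (RingHom.quotientKerEquivOfSurjective (f := ψ.toRingHom) hψ).symm.trans
    (Ideal.quotEquivOfEq heq)


/-- the mixed characteristic case -/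
theorem mixed {A : Type u} [CommRing A] [IsLocalRing A] [IsArtinianRing A]
    (h : maximalIdeal A ^ 2 = ⊥) (p : ℕ) [Fact p.Prime] [CharP (ResidueField A) p]
    (hpA : (p : A) ≠ 0) :
    ∃ (B : Type u) (_ : CommRing B) (_ : IsRegularLocalRing B),
      Nonempty (A ≃+* B ⧸ IsLocalRing.maximalIdeal B ^ 2) := by
  classical
  obtain ⟨Λ, _, _, hΛ, ⟨e⟩⟩ := H14.CohenExist.exists_cohen p (ResidueField A)
  let u : Λ →+* A ⧸ maximalIdeal A := (e : ResidueField Λ →+* ResidueField A).comp (residue Λ)
  have hu : ∀ x ∈ maximalIdeal Λ, u x = 0 := by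
    intro x hx
    change e (residue Λ x) = 0
    rw [(residue_eq_zero_iff x).mpr hx, map_zero]
  obtain ⟨v, hv⟩ := H14.CoeffField.cohen_lift hΛ u hu
  have hrv : ∀ a, residue A (v a) = e (residue Λ a) := fun a => RingHom.congr_fun hv a
  have hres : Function.Surjective ((residue A).comp v) := by
    have : (residue A).comp v = u := hv
    rw [this]
    exact e.surjective.comp (residue_surjective)
  have hkerv : ∀ a : Λ, residue A (v a) = 0 → a ∈ maximalIdeal Λ := by
    intro a ha
    rw [hrv, EmbeddingLike.map_eq_zero_iff] at ha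
    exact (residue_eq_zero_iff a).mp ha
  obtain ⟨hdom, hdvr, hcomp, q, hq, hmq⟩ := id hΛ
  have hqp : q = p := by
    have h1 : ((q : Λ)) ∈ maximalIdeal Λ := by
      rw [hmq]
      exact Ideal.subset_span rfl
    have h2 : u (q : Λ) = 0 := hu _ h1
    rw [map_natCast] at h2
    have h3 : ((q : ℕ) : ResidueField A) = 0 := h2
    rw [CharP.cast_eq_zero_iff (ResidueField A) p] at h3
    exact ((Nat.prime_dvd_prime_iff_eq (Fact.out : p.Prime) hq).mp h3).symm
  subst hqp
  have hvq : v ((q : ℕ) : Λ) = ((q : ℕ) : A) := map_natCast v q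
  have hqm : ((q : ℕ) : A) ∈ maximalIdeal A := by
    rw [← residue_eq_zero_iff, map_natCast]
    exact CharP.cast_eq_zero _ q
  -- the cotangent space
  obtain ⟨m, hm⟩ : ∃ m : Ideal A, m = maximalIdeal A := ⟨_, rfl⟩
  let qm : maximalIdeal A := ⟨((q : ℕ) : A), hqm⟩
  let pbar : CotangentSpace A := (maximalIdeal A).toCotangent qm
  have hpbar : pbar ≠ 0 := by
    intro h0
    rw [Ideal.toCotangent_eq_zero, h] at h0
    exact hpA h0
  obtain ⟨n, c, hspan, hind⟩ := linalg (K := ResidueField A) pbar hpbar
  choose t ht using fun i => Ideal.toCotangent_surjective (maximalIdeal A) (c i)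
  have hsmul : ∀ (r : A) (X : maximalIdeal A),
      (maximalIdeal A).toCotangent (r • X) = residue A r • (maximalIdeal A).toCotangent X := by
    intro r X
    rw [map_smul]
    exact (IsScalarTower.algebraMap_smul (ResidueField A) r
      ((maximalIdeal A).toCotangent X)).symm
  let Φ : Λ → (Fin n → Λ) → maximalIdeal A := fun b bi => v b • qm + ∑ i, v (bi i) • t i
  have hΦ : ∀ b bi, (maximalIdeal A).toCotangent (Φ b bi) =
      residue A (v b) • pbar + ∑ i, residue A (v (bi i)) • c i := by
    intro b bi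
    simp only [Φ, map_add, map_sum, hsmul, ht]
    rfl
  have hΦval : ∀ b bi, ((Φ b bi : maximalIdeal A) : A) =
      v b * ((q : ℕ) : A) + ∑ i, v (bi i) * (t i : A) := by
    intro b bi
    simp [Φ, qm]
  have hS : ∀ x ∈ maximalIdeal A, ∃ (b : Λ) (bi : Fin n → Λ),
      x = v b * ((q : ℕ) : A) + ∑ i, v (bi i) * (t i : A) := by
    intro x hx
    obtain ⟨α, αi, hα⟩ := hspan ((maximalIdeal A).toCotangent ⟨x, hx⟩)
    obtain ⟨b, hb⟩ := hres α
    choose bi hbi using fun i => hres (αi i)
    refine ⟨b, bi, ?_⟩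
    have h1 : (maximalIdeal A).toCotangent (⟨x, hx⟩ - Φ b bi) = 0 := by
      rw [map_sub, hΦ, hα]
      simp only [RingHom.comp_apply] at hb hbi
      simp only [hb, hbi, sub_self]
    rw [Ideal.toCotangent_eq_zero, h] at h1
    have h2 : x - ((Φ b bi : maximalIdeal A) : A) = 0 := h1
    rw [← hΦval]
    exact sub_eq_zero.mp h2
  have hI : ∀ (b : Λ) (bi : Fin n → Λ),
      v b * ((q : ℕ) : A) + ∑ i, v (bi i) * (t i : A) = 0 →
      b ∈ maximalIdeal Λ ∧ ∀ i, bi i ∈ maximalIdeal Λ := by
    intro b bi h0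
    have h1 : Φ b bi = 0 := Subtype.ext (by rw [hΦval]; exact h0)
    have h2 := hΦ b bi
    rw [h1, map_zero] at h2
    obtain ⟨h3, h4⟩ := hind _ _ h2.symm
    exact ⟨hkerv b h3, fun i => hkerv _ (h4 i)⟩
  -- the map
  let t' : Fin n → A := fun i => (t i : A)
  have ht'm : ∀ i, t' i ∈ maximalIdeal A := fun i => (t i).2
  obtain ⟨f, hC, hX⟩ := H14.PSFin.exists_eval (maximalIdeal A) n t' ht'm v
  have hmW := H14.PSFin.maximalIdeal_mvPowerSeries_eq_insert ((q : ℕ) : Λ) hmq n
  have hfm : (maximalIdeal (MvPowerSeries (Fin n) Λ)).map f ≤ maximalIdeal A := by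
    rw [hmW, Ideal.map_span, Ideal.span_le]
    rintro _ ⟨y, (rfl | ⟨i, rfl⟩), rfl⟩
    · rw [hC, hvq]
      exact hqm
    · rw [hX]
      exact ht'm i
  have hsq : maximalIdeal (MvPowerSeries (Fin n) Λ) ^ 2 ≤ RingHom.ker f := by
    rw [RingHom.ker_eq_comap_bot, ← Ideal.map_le_iff_le_comap, Ideal.map_pow, ← h]
    exact Ideal.pow_right_mono hfm 2
  have hfx : ∀ x : MvPowerSeries (Fin n) Λ,
      f x = v (coeff 0 x) + ∑ i, v (coeff (Finsupp.single i 1) x) * t' i := by
    intro x
    have h1 : f (x - C (coeff 0 x) - ∑ i, C (coeff (Finsupp.single i 1) x) * X i) = 0 :=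
      hsq (rest_mem n x)
    rw [map_sub, map_sub, map_sum, hC] at h1
    simp only [map_mul, hC, hX] at h1
    rw [sub_sub, sub_eq_zero] at h1
    exact h1
  have hsurj : Function.Surjective f := by
    intro y
    obtain ⟨a, ha⟩ := hres (residue A y)
    have hym : y - v a ∈ maximalIdeal A := by
      rw [← residue_eq_zero_iff, map_sub, sub_eq_zero]
      exact ha.symm
    obtain ⟨b, bi, hb⟩ := hS _ hym
    refine ⟨C a + C b * C ((q : ℕ) : Λ) + ∑ i, C (bi i) * X i, ?_⟩
    rw [map_add, map_add, map_mul, map_sum, hC, hC, hC, hvq]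
    simp only [map_mul, hC, hX]
    rw [add_assoc, ← hb]
    ring
  have hker : RingHom.ker f ≤ maximalIdeal (MvPowerSeries (Fin n) Λ) ^ 2 := by
    intro x hx
    have h0 : f x = 0 := hx
    rw [hfx] at h0
    have ha : coeff 0 x ∈ maximalIdeal Λ := by
      apply hkerv
      have h1 := congrArg (residue A) h0
      rw [map_add, map_sum, map_zero] at h1
      have h2 : ∀ i, residue A (v (coeff (Finsupp.single i 1) x) * t' i) = 0 := fun i => by
        rw [map_mul, (residue_eq_zero_iff _).mpr (ht'm i), mul_zero]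
      rw [Finset.sum_eq_zero (fun i _ => h2 i), add_zero] at h1
      exact h1
    rw [hmq, Ideal.mem_span_singleton'] at ha
    obtain ⟨a', ha'⟩ := ha
    rw [← ha', map_mul, hvq] at h0
    obtain ⟨h3, h4⟩ := hI a' (fun i => coeff (Finsupp.single i 1) x) h0
    have hx_eq : x = (x - C (coeff 0 x) - ∑ i, C (coeff (Finsupp.single i 1) x) * X i) +
        C a' * C ((q : ℕ) : Λ) + ∑ i, C (coeff (Finsupp.single i 1) x) * X i := by
      rw [← map_mul, ha']
      ring
    rw [hx_eq]
    have hCm : ∀ a ∈ maximalIdeal Λ,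
        (C a : MvPowerSeries (Fin n) Λ) ∈ maximalIdeal (MvPowerSeries (Fin n) Λ) := by
      intro a ha
      rw [mem_maximalIdeal, mem_nonunits_iff, MvPowerSeries.isUnit_iff_constantCoeff,
        constantCoeff_C]
      exact ha
    have hXm : ∀ i, (X i : MvPowerSeries (Fin n) Λ) ∈
        maximalIdeal (MvPowerSeries (Fin n) Λ) := by
      intro i
      rw [mem_maximalIdeal, mem_nonunits_iff, MvPowerSeries.isUnit_iff_constantCoeff,
        constantCoeff_X]
      exact not_isUnit_zero
    refine Ideal.add_mem _ (Ideal.add_mem _ (rest_mem n x) ?_) (Ideal.sum_mem _ fun i _ => ?_)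
    · rw [pow_two]
      exact Ideal.mul_mem_mul (hCm _ h3)
        (hCm _ (by rw [hmq]; exact Ideal.subset_span rfl))
    · rw [pow_two]
      exact Ideal.mul_mem_mul (hCm _ (h4 i)) (hXm i)
  have heq : RingHom.ker f = maximalIdeal (MvPowerSeries (Fin n) Λ) ^ 2 :=
    le_antisymm hker hsq
  haveI : IsRegularRing Λ := inferInstance
  haveI := Groth.Agent.Lib.helper20.RegQuot.isRegularRing_mvPowerSeries (A := Λ) n
  refine ⟨MvPowerSeries (Fin n) Λ, inferInstance,
    IsRegularLocalRing.of_isRegularRing_of_isLocalRing _, ⟨?_⟩⟩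
  exact (RingHom.quotientKerEquivOfSurjective hsurj).symm.trans (Ideal.quotEquivOfEq heq)

theorem main {A : Type u} [CommRing A] [IsLocalRing A] [IsArtinianRing A]
    (h : maximalIdeal A ^ 2 = ⊥) :
    ∃ (B : Type u) (_ : CommRing B) (_ : IsRegularLocalRing B),
      Nonempty (A ≃+* B ⧸ IsLocalRing.maximalIdeal B ^ 2) := by
  classical
  obtain ⟨p, hp⟩ := CharP.exists (ResidueField A)
  rcases CharP.char_is_prime_or_zero (ResidueField A) p with hprime | h0
  · haveI : Fact p.Prime := ⟨hprime⟩
    by_cases hpA : (p : A) = 0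
    · haveI : CharP A p := (CharP.charP_iff_prime_eq_zero hprime).mpr hpA
      let φ : ULift.{u} (ZMod p) →+* A :=
        (ZMod.castHom (dvd_refl p) A).comp
          (ULift.ringEquiv : ULift.{u} (ZMod p) ≃+* ZMod p).toRingHom
      letI : Algebra (ULift.{u} (ZMod p)) A := φ.toAlgebra
      obtain ⟨σ, hσ⟩ := H14.CoeffField.exists_section A (ULift.{u} (ZMod p))
      exact equal h σ hσ
    · exact mixed h p hpA
  · subst h0
    haveI : CharZero (ResidueField A) := CharP.charP_to_charZero _
    obtain ⟨σ, hσ⟩ := H14.CoeffField.exists_section_of_charZero A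
    exact equal h σ hσ

end H14S2458

namespace Groth.Agent.S2458

open IsLocalRing in
/-- Let A be an Artinian local ring whose maximal ideal 𝔪 satisfies 𝔪² = 0. Then there is a regular
local ring B with maximal ideal 𝔫 such that A ≅ B/𝔫². -/
theorem result {A : Type u} [CommRing A] [IsLocalRing A] [IsArtinianRing A]
    (h : maximalIdeal A ^ 2 = ⊥) :
    ∃ (B : Type u) (_ : CommRing B) (_ : IsRegularLocalRing B), Nonempty (A ≃+* B ⧸ IsLocalRing.maximalIdeal B ^ 2) := by
  exact H14S2458.main h

end Groth.Agent.S2458
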