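import Groth.Statements.S2459
import Mathlib
import Groth.Agent.Lib.helper14.CohenExistC
import Groth.Agent.Lib.helper14.CoeffField


set_option autoImplicit false
universe u
open EGA41

namespace H14S2459

open IsLocalRing

theorem forward {A : Type u} [CommRing A] [IsLocalRing A]
    (p : ℕ) [CharP (ResidueField A) p]
    (W : Type u) [CommRing W] (I : Ideal W) (hW : EGA41.IsCohenRingEGA W) (e : A ≃+* W ⧸ I) :
    maximalIdeal A = Ideal.span {(p : A)} := by
  classical
  let ψ : W →+* A := (e.symm : W ⧸ I →+* A).comp (Ideal.Quotient.mk I)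
  have hψsurj : Function.Surjective ψ := e.symm.surjective.comp Ideal.Quotient.mk_surjective
  rcases hW with ⟨hfield, hchar⟩ | hcohen
  · letI := hfield.toField
    haveI := hchar
    have hinj : Function.Injective ((residue A).comp ψ) := RingHom.injective _
    haveI : CharZero (ResidueField A) := charZero_of_injective_ringHom hinj
    have hp0 : p = 0 := CharP.eq (ResidueField A) inferInstance (CharP.ofCharZero _)
    subst hp0
    have hAfield : IsField A := by
      refine ⟨⟨0, 1, zero_ne_one⟩, mul_comm, ?_⟩
      intro a ha
      obtain ⟨w, rfl⟩ := hψsurj a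
      have hw : w ≠ 0 := by rintro rfl; exact ha (map_zero ψ)
      exact ⟨ψ w⁻¹, by rw [← map_mul, mul_inv_cancel₀ hw, map_one]⟩
    rw [Nat.cast_zero, Ideal.span_singleton_eq_bot.mpr rfl]
    exact IsLocalRing.isField_iff_maximalIdeal_eq.mp hAfield
  · obtain ⟨hdom, hdvr, -, q, hq, hm⟩ := hcohen
    haveI := hdom
    haveI := hdvr
    have hker : RingHom.ker ψ ≤ maximalIdeal W := by
      apply IsLocalRing.le_maximalIdeal
      intro htop
      have : (1 : W) ∈ RingHom.ker ψ := by rw [htop]; trivial
      rw [RingHom.mem_ker, map_one] at this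
      exact one_ne_zero this
    have hqm : (q : A) ∈ maximalIdeal A := by
      rw [mem_maximalIdeal, mem_nonunits_iff]
      intro hu
      obtain ⟨b, hb⟩ := hu.exists_right_inv
      obtain ⟨w, rfl⟩ := hψsurj b
      have h1 : (q : W) * w - 1 ∈ RingHom.ker ψ := by
        rw [RingHom.mem_ker, map_sub, map_mul, map_natCast, hb, map_one, sub_self]
      have h2 : (q : W) * w ∈ maximalIdeal W := by
        rw [hm]
        exact Ideal.mul_mem_right _ _ (Ideal.mem_span_singleton_self _)
      have h3 : (1 : W) ∈ maximalIdeal W := by
        have := sub_mem h2 (hker h1)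
        simpa using this
      exact (maximalIdeal.isMaximal W).ne_top ((Ideal.eq_top_iff_one _).mpr h3)
    have hpq : p = q := by
      have h1 : ((q : ℕ) : ResidueField A) = 0 := by
        have := (residue_eq_zero_iff (q : A)).mpr hqm
        rwa [map_natCast] at this
      have h2 : p ∣ q := (CharP.cast_eq_zero_iff (ResidueField A) p q).mp h1
      rcases (Nat.dvd_prime hq).mp h2 with h | h
      · exact absurd h (CharP.char_ne_one (ResidueField A) p)
      · exact h
    subst hpq
    apply le_antisymm
    · intro x hx
      obtain ⟨w, rfl⟩ := hψsurj x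
      have hw : w ∈ maximalIdeal W := by
        rw [mem_maximalIdeal, mem_nonunits_iff]
        intro hu
        exact hx (hu.map ψ)
      rw [hm, Ideal.mem_span_singleton] at hw
      obtain ⟨c, rfl⟩ := hw
      rw [map_mul, map_natCast]
      exact Ideal.mul_mem_right _ _ (Ideal.mem_span_singleton_self _)
    · rw [Ideal.span_le, Set.singleton_subset_iff]
      exact hqm

theorem backward {A : Type u} [CommRing A] [IsLocalRing A] [IsArtinianRing A]
    (p : ℕ) [CharP (ResidueField A) p] (h : maximalIdeal A = Ideal.span {(p : A)}) :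
    ∃ (W : Type u) (_ : CommRing W) (I : Ideal W), EGA41.IsCohenRingEGA W ∧
      Nonempty (A ≃+* W ⧸ I) := by
  classical
  rcases CharP.char_is_prime_or_zero (ResidueField A) p with hprime | h0
  · haveI : Fact p.Prime := ⟨hprime⟩
    obtain ⟨Λ, _, _, hΛ, ⟨e⟩⟩ := H14.CohenExist.exists_cohen p (ResidueField A)
    let u : Λ →+* A ⧸ maximalIdeal A := (e : ResidueField Λ →+* ResidueField A).comp (residue Λ)
    have hu : ∀ x ∈ maximalIdeal Λ, u x = 0 := by
      intro x hx
      change e (residue Λ x) = 0
      rw [(residue_eq_zero_iff x).mpr hx, map_zero]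
    obtain ⟨v, hv⟩ := H14.CoeffField.cohen_lift hΛ u hu
    have hΛ' := hΛ
    obtain ⟨hdom, hdvr, hcompl, q, hq, hmq⟩ := hΛ'
    haveI := hcompl
    have hqp : p = q := by
      have h1 : ((q : ℕ) : ResidueField A) = 0 := by
        have hq1 : (q : Λ) ∈ maximalIdeal Λ := by
          rw [hmq]; exact Ideal.mem_span_singleton_self _
        have := hu _ hq1
        change e (residue Λ (q : Λ)) = 0 at this
        rwa [map_natCast, map_natCast] at this
      have h2 : p ∣ q := (CharP.cast_eq_zero_iff (ResidueField A) p q).mp h1
      rcases (Nat.dvd_prime hq).mp h2 with h | h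
      · exact absurd h (CharP.char_ne_one (ResidueField A) p)
      · exact h
    subst hqp
    have hmap : (maximalIdeal Λ).map v = maximalIdeal A := by
      rw [hmq, Ideal.map_span, Set.image_singleton, map_natCast, h]
    haveI : IsHausdorff ((maximalIdeal Λ).map v) A := by
      rw [hmap]; infer_instance
    have hvsurj : Function.Surjective v := by
      apply surjective_of_mk_map_comp_surjective (I := maximalIdeal Λ) v
      intro y
      obtain ⟨a, rfl⟩ := Ideal.Quotient.mk_surjective y
      obtain ⟨l, hl⟩ := e.surjective (residue A a)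
      obtain ⟨l', rfl⟩ := residue_surjective l
      refine ⟨l', ?_⟩
      rw [RingHom.comp_apply, Ideal.Quotient.eq, hmap, ← Ideal.Quotient.eq]
      have := congrArg (fun φ => φ l') hv
      change Ideal.Quotient.mk (maximalIdeal A) (v l') = e (residue Λ l') at this
      rw [this, hl]
      rfl
    exact ⟨Λ, inferInstance, RingHom.ker v, Or.inr hΛ,
      ⟨(RingHom.quotientKerEquivOfSurjective hvsurj).symm⟩⟩
  · subst h0
    rw [Nat.cast_zero, Ideal.span_singleton_eq_bot.mpr rfl] at h
    have hAfield : IsField A := IsLocalRing.isField_iff_maximalIdeal_eq.mpr h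
    haveI : CharZero (ResidueField A) := CharP.charP_to_charZero _
    haveI : CharZero A := by
      refine ⟨fun a b hab => ?_⟩
      have := congrArg (residue A) hab
      rw [map_natCast, map_natCast] at this
      exact_mod_cast this
    exact ⟨A, inferInstance, ⊥, Or.inl ⟨hAfield, inferInstance⟩,
      ⟨(RingEquiv.quotientBot A).symm⟩⟩

end H14S2459

namespace Groth.Agent.S2459

open IsLocalRing in
/-- Let A be an Artinian local ring with maximal ideal 𝔪 and residue field of characteristic p (p = 0
allowed). Then A is isomorphic to a quotient of a Cohen ring if and only if 𝔪 is generated by p·1. -/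
theorem result {A : Type u} [CommRing A] [IsLocalRing A] [IsArtinianRing A]
    (p : ℕ) [CharP (ResidueField A) p] :
    (∃ (W : Type u) (_ : CommRing W) (I : Ideal W), EGA41.IsCohenRingEGA W ∧ Nonempty (A ≃+* W ⧸ I)) ↔
      maximalIdeal A = Ideal.span {(p : A)} := by
  constructor
  · rintro ⟨W, _, I, hW, ⟨e⟩⟩
    exact H14S2459.forward p W I hW e
  · intro h
    exact H14S2459.backward p h

end Groth.Agent.S2459
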