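import Groth.Statements.S2461
import Mathlib
import Groth.Agent.S9318


set_option autoImplicit false
universe u
open EGA41

namespace Groth.Agent.S2461

/-- Let A carry the 𝔞-adic topology and let B be a Noetherian A-algebra with the 𝔟-adic topology. Then B
is formally smooth over A if and only if the 𝔟-adic completion of B, with the adic topology of the
extended ideal, is formally smooth over A. -/
theorem result {A B : Type u} [CommRing A] (𝔞 : Ideal A) [CommRing B] [IsNoetherianRing B] [Algebra A B] (𝔟 : Ideal B) :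
    EGA41.IsFormallySmoothAdic A 𝔞 B 𝔟 ↔
      EGA41.IsFormallySmoothAdic A 𝔞 (AdicCompletion 𝔟 B) (𝔟.map (algebraMap B (AdicCompletion 𝔟 B))) := by
  classical
  have h𝔟 : 𝔟.FG := IsNoetherian.noetherian 𝔟
  constructor
  · -- (⇒)
    intro hS C _ _ J hJ hC ψ hψ
    obtain ⟨k, hk⟩ := hψ
    obtain ⟨N, hN⟩ := hJ
    let ι : B →ₐ[A] AdicCompletion 𝔟 B := IsScalarTower.toAlgHom A B (AdicCompletion 𝔟 B)
    have hι : ∀ s, ι s = algebraMap B (AdicCompletion 𝔟 B) s := fun s => rfl
    have hk' : ∀ x ∈ 𝔟 ^ k, (ψ.comp ι) x = 0 := by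
      intro x hx
      apply hk
      rw [← Ideal.map_pow]
      exact Ideal.mem_map_of_mem _ hx
    obtain ⟨χ', hχ'⟩ := hS C J ⟨N, hN⟩ hC (ψ.comp ι) ⟨k, hk'⟩
    have hχJ : ∀ s ∈ 𝔟 ^ k, χ' s ∈ J := by
      intro s hs
      have := congrArg (fun g => g s) hχ'
      simp only [AlgHom.comp_apply] at this
      have h2 : (Ideal.Quotient.mkₐ A J) (χ' s) = 0 := by
        rw [this]; exact hk' s hs
      simpa [Ideal.Quotient.eq_zero_iff_mem] using h2
    have hχ0 : ∀ s ∈ 𝔟 ^ (k * N), χ' s = 0 := by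
      intro s hs
      have h1 : (𝔟 ^ k) ≤ J.comap χ'.toRingHom := fun x hx => hχJ x hx
      have h2 : (𝔟 ^ k) ^ N ≤ (J ^ N).comap χ'.toRingHom :=
        (Ideal.pow_right_mono h1 N).trans (Ideal.le_comap_pow _ N)
      rw [pow_mul] at hs
      have := h2 hs
      rw [hN] at this
      simpa using this
    set M := k * N with hM
    let χbar : B ⧸ 𝔟 ^ M →+* C :=
      Ideal.Quotient.lift (𝔟 ^ M) χ'.toRingHom hχ0
    let χr : AdicCompletion 𝔟 B →+* C := χbar.comp (AdicCompletion.evalₐ 𝔟 M).toRingHom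
    have hχr : ∀ s : B, χr (algebraMap B _ s) = χ' s := by
      intro s
      change χbar (AdicCompletion.evalₐ 𝔟 M (algebraMap B _ s)) = _
      rw [AlgHom.commutes]
      simp [χbar]
    let χ : AdicCompletion 𝔟 B →ₐ[A] C :=
      { χr with
        commutes' := by
          intro r
          change χr (algebraMap A (AdicCompletion 𝔟 B) r) = _
          rw [IsScalarTower.algebraMap_apply A B (AdicCompletion 𝔟 B), hχr]
          exact χ'.commutes r }
    refine ⟨χ, ?_⟩
    ext z
    -- approximate `z` modulo a high power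
    obtain ⟨s, hs⟩ := Ideal.Quotient.mk_surjective (AdicCompletion.evalₐ 𝔟 (M + k) z)
    have hw : AdicCompletion.evalₐ 𝔟 (M + k) (z - algebraMap B _ s) = 0 := by
      rw [map_sub, AlgHom.commutes, ← hs]
      simp
    have hw' := H14S9318.mem_of_evalₐ_eq_zero 𝔟 h𝔟 (M + k) _ hw
    have hwk : z - algebraMap B _ s ∈ (𝔟.map (algebraMap B (AdicCompletion 𝔟 B))) ^ k :=
      Ideal.pow_le_pow_right (Nat.le_add_left k M) hw'
    have hwM : z - algebraMap B _ s ∈ (𝔟.map (algebraMap B (AdicCompletion 𝔟 B))) ^ M :=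
      Ideal.pow_le_pow_right (Nat.le_add_right M k) hw'
    have h1 : ψ z = ψ (algebraMap B _ s) := by
      have := hk _ hwk
      rw [map_sub, sub_eq_zero] at this
      exact this
    have h2 : χ z = χ' s := by
      have h3 : χr (z - algebraMap B _ s) = 0 := by
        change χbar (AdicCompletion.evalₐ 𝔟 M (z - algebraMap B _ s)) = 0
        rw [H14S9318.evalₐ_eq_zero_of_mem 𝔟 M _ hwM, map_zero]
      rw [map_sub, sub_eq_zero, hχr] at h3
      exact h3
    simp only [AlgHom.comp_apply]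
    rw [h2, h1]
    have := congrArg (fun g => g s) hχ'
    simp only [AlgHom.comp_apply] at this
    exact this
  · -- (⇐)
    intro hS C _ _ J hJ hC ψ hψ
    obtain ⟨k, hk⟩ := hψ
    let ι : B →ₐ[A] AdicCompletion 𝔟 B := IsScalarTower.toAlgHom A B (AdicCompletion 𝔟 B)
    let ψbar : B ⧸ 𝔟 ^ k →+* C ⧸ J := Ideal.Quotient.lift (𝔟 ^ k) ψ.toRingHom hk
    let ψr : AdicCompletion 𝔟 B →+* C ⧸ J := ψbar.comp (AdicCompletion.evalₐ 𝔟 k).toRingHom
    have hψr : ∀ s : B, ψr (algebraMap B _ s) = ψ s := by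
      intro s
      change ψbar (AdicCompletion.evalₐ 𝔟 k (algebraMap B _ s)) = _
      rw [AlgHom.commutes]
      simp [ψbar]
    let ψh : AdicCompletion 𝔟 B →ₐ[A] C ⧸ J :=
      { ψr with
        commutes' := by
          intro r
          change ψr (algebraMap A (AdicCompletion 𝔟 B) r) = _
          rw [IsScalarTower.algebraMap_apply A B (AdicCompletion 𝔟 B), hψr]
          exact ψ.commutes r }
    have hψh : ∀ x ∈ (𝔟.map (algebraMap B (AdicCompletion 𝔟 B))) ^ k, ψh x = 0 := by
      intro x hx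
      change ψbar (AdicCompletion.evalₐ 𝔟 k x) = 0
      rw [H14S9318.evalₐ_eq_zero_of_mem 𝔟 k x hx, map_zero]
    obtain ⟨χh, hχh⟩ := hS C J hJ hC ψh ⟨k, hψh⟩
    refine ⟨χh.comp ι, ?_⟩
    ext s
    have := congrArg (fun g => g (ι s)) hχh
    simp only [AlgHom.comp_apply] at this ⊢
    rw [this]
    exact hψr s

end Groth.Agent.S2461
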