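import Groth.Statements.S2470
import Groth.Agent.Lib.helper17.RegLocalHom

set_option autoImplicit false
universe u
open EGA41

namespace Groth.Agent.S2470

open IsLocalRing in
/-- Let A → B be a local homomorphism of Noetherian local rings with maximal ideals 𝔪, 𝔫 and residue
fields k, k', and let B₀ = B/𝔪B be the closed fibre. The following are equivalent: (a) B is regular
and the canonical map (𝔪/𝔪²) ⊗_k k' → 𝔫/𝔫² is injective — stated here through dimensions, as
rank_{k'} 𝔫/𝔫² = rank_k 𝔪/𝔪² + rank_{k'} of the cotangent space of B₀, which is equivalent since the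
cokernel of that map is the cotangent space of B₀; (c) B and B₀ are regular and B is flat over A;
(d) A and B₀ are regular and B is flat over A; (e) A and B₀ are regular and dim B = dim A + dim B₀.
(Condition (b) of the source, on regular systems of parameters, is not stated.) -/
theorem result {A B : Type u} [CommRing A] [IsLocalRing A] [IsNoetherianRing A] [CommRing B] [IsLocalRing B] [IsNoetherianRing B]
    [Algebra A B] [IsLocalHom (algebraMap A B)] [IsLocalRing (B ⧸ (maximalIdeal A).map (algebraMap A B))] :
    [IsRegularLocalRing B ∧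
       Module.finrank (ResidueField B) (CotangentSpace B) =
         Module.finrank (ResidueField A) (CotangentSpace A) +
           Module.finrank (ResidueField (B ⧸ (maximalIdeal A).map (algebraMap A B))) (CotangentSpace (B ⧸ (maximalIdeal A).map (algebraMap A B))),
     IsRegularLocalRing B ∧ IsRegularLocalRing (B ⧸ (maximalIdeal A).map (algebraMap A B)) ∧ Module.Flat A B,
     IsRegularLocalRing A ∧ IsRegularLocalRing (B ⧸ (maximalIdeal A).map (algebraMap A B)) ∧ Module.Flat A B,
     IsRegularLocalRing A ∧ IsRegularLocalRing (B ⧸ (maximalIdeal A).map (algebraMap A B)) ∧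
       ringKrullDim B = ringKrullDim A + ringKrullDim (B ⧸ (maximalIdeal A).map (algebraMap A B))].TFAE := by
  have eA := IsLocalRing.spanFinrank_maximalIdeal_eq_finrank_cotangentSpace A
  have eB := IsLocalRing.spanFinrank_maximalIdeal_eq_finrank_cotangentSpace B
  have e0 := IsLocalRing.spanFinrank_maximalIdeal_eq_finrank_cotangentSpace
    (B ⧸ (maximalIdeal A).map (algebraMap A B))
  tfae_have 1 → 4 := by
    rintro ⟨h1, h2⟩
    exact Groth.Agent.Lib.helper17.RegLocalHom.one_imp_four A B h1 (by rw [eA, eB, e0]; exact h2)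
  tfae_have 4 → 3 := by
    rintro ⟨hA, h0, hdim⟩
    exact ⟨hA, h0, (Groth.Agent.Lib.helper17.RegLocalHom.four_imp A B hA h0 hdim).2⟩
  tfae_have 3 → 2 := by
    rintro ⟨hA, h0, hflat⟩
    exact ⟨Groth.Agent.Lib.helper17.RegLocalHom.three_imp A B hA h0 hflat, h0, hflat⟩
  tfae_have 2 → 3 := by
    rintro ⟨hB, h0, hflat⟩
    exact ⟨Groth.Agent.Lib.helper17.RegLocalHom.two_imp A B hB hflat, h0, hflat⟩
  tfae_have 3 → 1 := by
    rintro ⟨hA, h0, hflat⟩
    refine ⟨Groth.Agent.Lib.helper17.RegLocalHom.three_imp A B hA h0 hflat, ?_⟩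
    have := Groth.Agent.Lib.helper17.RegLocalHom.three_imp_one A B hA h0 hflat
    rw [eA, eB, e0] at this
    exact this
  tfae_finish

end Groth.Agent.S2470
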