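import Groth.Statements.S2476
import Groth.Agent.Lib.helper14.OmegaHatC
import Groth.Agent.Lib.helper14.OmegaHatF


set_option autoImplicit false
universe u
open EGA41

open TensorProduct IsLocalRing

namespace Groth.Agent.S2476

open IsLocalRing in
/-- Let k₀ be a field and A a complete Noetherian local k₀-algebra, formally smooth over k₀ for the adic
topology, whose residue field K is a finitely generated extension of k₀. Then the 𝔪-adic completion
Ω̂_{A/k₀} of Ω_{A/k₀} is a free A-module of rank dim A + trdeg_{k₀} K. -/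
theorem result {k₀ A : Type u} [Field k₀] [CommRing A] [IsLocalRing A] [IsNoetherianRing A] [Algebra k₀ A]
    [IsAdicComplete (maximalIdeal A) A] (hfs : CAlgX.IsAdicFormallySmooth k₀ A (maximalIdeal A))
    [Algebra.EssFiniteType k₀ (ResidueField A)] :
    Module.Finite A (AdicCompletion (maximalIdeal A) (Ω[A⁄k₀])) ∧ Module.Free A (AdicCompletion (maximalIdeal A) (Ω[A⁄k₀])) ∧
      (Module.finrank A (AdicCompletion (maximalIdeal A) (Ω[A⁄k₀])) : WithBot ℕ∞) =
        ringKrullDim A + (Cardinal.toNat (Algebra.trdeg k₀ (ResidueField A)) : WithBot ℕ∞) := by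
  haveI hZ : Module.Finite (ResidueField A) ((ResidueField A) ⊗[A] Ω[A⁄k₀]) :=
    H14.OmegaHat.finite_residue_tensor
  obtain ⟨hfin, hfree, hrank⟩ := H14.OmegaHat.free_completion hfs
  refine ⟨hfin, hfree, ?_⟩
  obtain ⟨m, hm1, hm2⟩ := H14.OmegaHat.finrank_residue_tensor hfs
  have hreg : IsRegularLocalRing A := ((H14.FSJac.fs_iff).1 hfs).1
  have hdim := (IsRegularLocalRing.iff_finrank_cotangentSpace A).1 hreg
  rw [hrank, hm2, hm1, Cardinal.toNat_natCast, ← hdim]
  push_cast
  rfl

end Groth.Agent.S2476
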