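import Groth.Statements.S2477
import Mathlib
import Groth.Agent.Lib.helper19.PSComplete
import Groth.Agent.Lib.helper19.SmoothBase


set_option autoImplicit false
universe u
open EGA41

namespace H14S2477

open IsLocalRing MvPowerSeries

theorem main (k : Type u) [Field k] (r : ℕ) :
    Nonempty (AdicCompletion (maximalIdeal (MvPowerSeries (Fin r) k))
        (Ω[MvPowerSeries (Fin r) k⁄k]) ≃ₗ[MvPowerSeries (Fin r) k]
      (Fin r → MvPowerSeries (Fin r) k)) := by
  classical
  haveI : IsAdicComplete (maximalIdeal k) k := by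
    rw [IsLocalRing.maximalIdeal_eq_bot]
    infer_instance
  haveI hcomp : IsAdicComplete (maximalIdeal (MvPowerSeries (Fin r) k))
      (MvPowerSeries (Fin r) k) :=
    Groth.Agent.Lib.helper19.PSC.isAdicComplete
  let φ : (Fin r → MvPowerSeries (Fin r) k) →ₗ[MvPowerSeries (Fin r) k]
      Ω[MvPowerSeries (Fin r) k⁄k] :=
    Fintype.linearCombination (MvPowerSeries (Fin r) k)
      (fun i => KaehlerDifferential.D k (MvPowerSeries (Fin r) k) (X i))
  let ψ : Ω[MvPowerSeries (Fin r) k⁄k] →ₗ[MvPowerSeries (Fin r) k]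
      (Fin r → MvPowerSeries (Fin r) k) :=
    LinearMap.pi (fun i => (pderiv k i).liftKaehlerDifferential)
  have hφ : ∀ a : Fin r → MvPowerSeries (Fin r) k,
      φ a = ∑ i, a i • KaehlerDifferential.D k (MvPowerSeries (Fin r) k) (X i) := by
    intro a
    simp [φ, Fintype.linearCombination_apply]
  have hψφ : ψ ∘ₗ φ = LinearMap.id := by
    apply LinearMap.ext
    intro a
    funext i
    rw [LinearMap.comp_apply, hφ, LinearMap.id_apply]
    change (pderiv k i).liftKaehlerDifferential _ = a i
    rw [map_sum]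
    simp only [map_smul, Derivation.liftKaehlerDifferential_comp_D, pderiv_X]
    simp only [smul_eq_mul, Pi.single_apply, mul_ite, mul_one, mul_zero]
    rw [Finset.sum_ite_eq' Finset.univ i (fun j => a j)]
    simp
  have hN : LinearMap.range φ ⊔ (maximalIdeal (MvPowerSeries (Fin r) k) • ⊤ :
      Submodule (MvPowerSeries (Fin r) k) (Ω[MvPowerSeries (Fin r) k⁄k])) = ⊤ := by
    rw [eq_top_iff]
    refine (KaehlerDifferential.span_range_derivation k (MvPowerSeries (Fin r) k)).ge.trans ?_
    rw [Submodule.span_le]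
    rintro _ ⟨f, rfl⟩
    have h0 := Groth.Agent.Lib.helper19.SmoothBase.mem_span_X_of_constantCoeff_eq_zero
      (f - C (constantCoeff f)) (by rw [map_sub, constantCoeff_C, sub_self])
    obtain ⟨g, hg⟩ := (Submodule.mem_span_range_iff_exists_fun _).mp h0
    have hf : f = algebraMap k (MvPowerSeries (Fin r) k) (constantCoeff f) + ∑ i, g i * X i := by
      have : ∑ i, g i * X i = f - C (constantCoeff f) := by
        rw [← hg]
        rfl
      rw [this, MvPowerSeries.algebraMap_apply, Algebra.algebraMap_self, RingHom.id_apply]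
      ring
    have hD : KaehlerDifferential.D k (MvPowerSeries (Fin r) k) f =
        φ g + ∑ i, (X i : MvPowerSeries (Fin r) k) •
          KaehlerDifferential.D k (MvPowerSeries (Fin r) k) (g i) := by
      conv_lhs => rw [hf]
      rw [map_add, Derivation.map_algebraMap, zero_add, map_sum, hφ, ← Finset.sum_add_distrib]
      refine Finset.sum_congr rfl fun i _ => ?_
      rw [Derivation.leibniz]
    rw [SetLike.mem_coe, hD]
    refine Submodule.add_mem _ (Submodule.mem_sup_left ⟨g, rfl⟩) (Submodule.mem_sup_right ?_)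
    refine Submodule.sum_mem _ fun i _ => ?_
    refine Submodule.smul_mem_smul ?_ Submodule.mem_top
    rw [mem_maximalIdeal, mem_nonunits_iff, MvPowerSeries.isUnit_iff_constantCoeff,
      constantCoeff_X]
    exact not_isUnit_zero
  have hsurj : Function.Surjective
      (Submodule.mkQ (maximalIdeal (MvPowerSeries (Fin r) k) • ⊤ :
        Submodule (MvPowerSeries (Fin r) k) (Ω[MvPowerSeries (Fin r) k⁄k])) ∘ₗ φ) := by
    intro y
    obtain ⟨ω, rfl⟩ := Submodule.mkQ_surjective _ y
    have hω : ω ∈ LinearMap.range φ ⊔ (maximalIdeal (MvPowerSeries (Fin r) k) • ⊤ :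
        Submodule (MvPowerSeries (Fin r) k) (Ω[MvPowerSeries (Fin r) k⁄k])) := by
      rw [hN]
      exact Submodule.mem_top
    obtain ⟨_, ⟨a, rfl⟩, z, hz, rfl⟩ := Submodule.mem_sup.mp hω
    refine ⟨a, ?_⟩
    rw [LinearMap.comp_apply, map_add, Submodule.mkQ_apply _ z,
      (Submodule.Quotient.mk_eq_zero _).mpr hz, add_zero]
  have hΦsurj := AdicCompletion.map_surjective_of_mkQ_comp_surjective hsurj
  have hΨΦ : AdicCompletion.map (maximalIdeal (MvPowerSeries (Fin r) k)) ψ ∘ₗ
      AdicCompletion.map (maximalIdeal (MvPowerSeries (Fin r) k)) φ = LinearMap.id := by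
    rw [AdicCompletion.map_comp, hψφ, AdicCompletion.map_id]
  have hΦinj : Function.Injective
      (AdicCompletion.map (maximalIdeal (MvPowerSeries (Fin r) k)) φ) := by
    intro x y hxy
    have := congrArg (AdicCompletion.map (maximalIdeal (MvPowerSeries (Fin r) k)) ψ) hxy
    rw [← LinearMap.comp_apply, ← LinearMap.comp_apply, hΨΦ] at this
    exact this
  let e₁ := LinearEquiv.ofBijective
    (AdicCompletion.map (maximalIdeal (MvPowerSeries (Fin r) k)) φ) ⟨hΦinj, hΦsurj⟩
  exact ⟨((e₁.restrictScalars (MvPowerSeries (Fin r) k)).symm).trans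
    (((AdicCompletion.piEquivFin (maximalIdeal (MvPowerSeries (Fin r) k)) r).restrictScalars
      (MvPowerSeries (Fin r) k)).trans
      (LinearEquiv.piCongrRight (fun _ =>
        (AdicCompletion.ofLinearEquiv (maximalIdeal (MvPowerSeries (Fin r) k))
          (MvPowerSeries (Fin r) k)).symm)))⟩

end H14S2477

namespace Groth.Agent.S2477

open IsLocalRing in
/-- Let k be a field and A = k[[T_1, …, T_r]] with its usual k-algebra structure. Then the adic
completion Ω̂_{A/k} of Ω_{A/k} is a free A-module of rank r. -/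
theorem result (k : Type u) [Field k] (r : ℕ) :
    Module.Finite (MvPowerSeries (Fin r) k) (AdicCompletion (maximalIdeal (MvPowerSeries (Fin r) k)) (Ω[MvPowerSeries (Fin r) k⁄k])) ∧
    Module.Free (MvPowerSeries (Fin r) k) (AdicCompletion (maximalIdeal (MvPowerSeries (Fin r) k)) (Ω[MvPowerSeries (Fin r) k⁄k])) ∧
      Module.finrank (MvPowerSeries (Fin r) k) (AdicCompletion (maximalIdeal (MvPowerSeries (Fin r) k)) (Ω[MvPowerSeries (Fin r) k⁄k])) = r := by
  obtain ⟨e⟩ := H14S2477.main k r
  refine ⟨Module.Finite.equiv e.symm, Module.Free.of_equiv e.symm, ?_⟩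
  rw [LinearEquiv.finrank_eq e, Module.finrank_fin_fun]

end Groth.Agent.S2477
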