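import Groth.Statements.S2482
import Mathlib
import Groth.Agent.S2454
import Groth.Agent.S4542


set_option autoImplicit false
universe u
open EGA41

namespace H14S2482

open IsLocalRing

theorem main {A B B' : Type u} [CommRing A] [IsDomain A] [IsDiscreteValuationRing A]
    [IsAdicComplete (maximalIdeal A) A]
    [CommRing B] [IsDomain B] [IsDiscreteValuationRing B] [IsAdicComplete (maximalIdeal B) B]
    [CommRing B'] [IsDomain B'] [IsDiscreteValuationRing B'] [IsAdicComplete (maximalIdeal B') B']
    (u : A →+* B) [IsLocalHom u] (hu : (maximalIdeal A).map u = maximalIdeal B)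
    (hsep : letI := (ResidueField.map u).toAlgebra;
      Algebra.IsGeometricallyReduced (ResidueField A) (ResidueField B))
    (u' : A →+* B') [IsLocalHom u'] (hu' : (maximalIdeal A).map u' = maximalIdeal B')
    (σ : ResidueField B ≃+* ResidueField B')
    (hσ : (σ : ResidueField B →+* ResidueField B').comp (ResidueField.map u) = ResidueField.map u') :
    ∃ w : B ≃+* B', (w : B →+* B').comp u = u' ∧
      ∀ b : B, residue B' (w b) = σ (residue B b) := by
  classical
  letI algB : Algebra A B := u.toAlgebra
  letI algB' : Algebra A B' := u'.toAlgebra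
  haveI : IsLocalHom (algebraMap A B) := ‹IsLocalHom u›
  haveI : IsLocalHom (algebraMap A B') := ‹IsLocalHom u'›
  obtain ⟨π, hπ⟩ := IsDiscreteValuationRing.exists_irreducible A
  have hmA : maximalIdeal A = Ideal.span {π} := hπ.maximalIdeal_eq
  have hmB : maximalIdeal B = Ideal.span {u π} := by
    rw [← hu, hmA, Ideal.map_span, Set.image_singleton]
  have hmB' : maximalIdeal B' = Ideal.span {u' π} := by
    rw [← hu', hmA, Ideal.map_span, Set.image_singleton]
  have huπ : Irreducible (u π) := (IsDiscreteValuationRing.irreducible_iff_uniformizer _).mpr hmB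
  have hu'π : u' π ≠ 0 := by
    intro h0
    rw [h0] at hmB'
    exact IsDiscreteValuationRing.not_a_field B'
      (hmB'.trans (Ideal.span_singleton_eq_bot.mpr rfl))
  have hunz : ∀ a : A, a ≠ 0 → u a ≠ 0 := by
    intro a ha
    obtain ⟨n, c, rfl⟩ := IsDiscreteValuationRing.eq_unit_mul_pow_irreducible ha hπ
    rw [map_mul, map_pow]
    exact mul_ne_zero ((c.isUnit.map u).ne_zero) (pow_ne_zero _ huπ.ne_zero)
  have hflat : Module.Flat A B := by
    rw [IsDedekindDomain.flat_iff_torsion_eq_bot, eq_bot_iff]
    intro b hb
    rw [Submodule.mem_torsion_iff] at hb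
    obtain ⟨a, ha⟩ := hb
    rw [Submodule.mem_bot]
    have h1 : u (a : A) * b = 0 := by
      rw [← ha]
      exact (Algebra.smul_def (a : A) b).symm
    rcases mul_eq_zero.mp h1 with h | h
    · exact absurd h (hunz _ (nonZeroDivisors.ne_zero a.2))
    · exact h
  have halg : (ResidueField.map u).toAlgebra =
      (ResidueField.instAlgebra : Algebra (ResidueField A) (ResidueField B)) := by
    apply Algebra.algebra_ext
    intro r
    obtain ⟨a, rfl⟩ := residue_surjective r
    rfl
  have hsep' : @Algebra.IsGeometricallyReduced (ResidueField A) (ResidueField B) _ _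
      ResidueField.instAlgebra := halg ▸ hsep
  have hcohen : EGA41.IsCohenAlgebra A B :=
    ⟨inferInstance, inferInstance, inferInstance, hflat, hu, hsep'⟩
  have hfs := Groth.Agent.S2454.result hcohen
  let u₀ : B →ₐ[A] B' ⧸ maximalIdeal B' :=
    { (σ : ResidueField B →+* ResidueField B').comp (residue B) with
      commutes' := fun a => by
        change σ (residue B (u a)) = residue B' (u' a)
        have := RingHom.congr_fun hσ (residue A a)
        rw [RingHom.comp_apply, ResidueField.map_residue, ResidueField.map_residue] at this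
        exact this }
  have hu₀ : ∀ b, u₀ b = σ (residue B b) := fun b => rfl
  haveI : IsHausdorff ((maximalIdeal B').map (Ideal.Quotient.mk (maximalIdeal B')))
      (B' ⧸ maximalIdeal B') := by
    rw [Ideal.map_quotient_self]
    infer_instance
  obtain ⟨v, -, hv⟩ := Groth.Agent.S4542.result (maximalIdeal A) (maximalIdeal B) (maximalIdeal B')
    hfs ⟨1, by rw [pow_one]; exact hu'.le⟩ (maximalIdeal B') ⟨1, by rw [pow_one]⟩ u₀
    ⟨1, by
      rw [pow_one, Ideal.map_le_iff_le_comap]
      intro x hx
      rw [Ideal.mem_comap]
      have : u₀ x = 0 := by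
        rw [hu₀, (residue_eq_zero_iff x).mpr hx, map_zero]
        rfl
      change u₀ x ∈ _
      rw [this]
      exact Ideal.zero_mem _⟩
  have hvres : ∀ b, residue B' (v b) = σ (residue B b) := by
    intro b
    have := AlgHom.congr_fun hv b
    exact this
  have hvu : ∀ a, v (u a) = u' a := fun a => v.commutes a
  have hmap : (maximalIdeal B).map v.toRingHom = maximalIdeal B' := by
    rw [hmB, hmB', Ideal.map_span, Set.image_singleton]
    congr 2
    exact hvu π
  have hsurj : Function.Surjective v.toRingHom := by
    haveI : IsHausdorff ((maximalIdeal B).map v.toRingHom) B' := by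
      rw [hmap]
      infer_instance
    apply surjective_of_mk_map_comp_surjective (I := maximalIdeal B) v.toRingHom
    intro y
    obtain ⟨b', rfl⟩ := Ideal.Quotient.mk_surjective y
    obtain ⟨b, hb⟩ := residue_surjective (σ.symm (residue B' b'))
    refine ⟨b, ?_⟩
    rw [RingHom.comp_apply, Ideal.Quotient.eq, hmap]
    rw [← residue_eq_zero_iff, map_sub, sub_eq_zero]
    change residue B' (v b) = _
    rw [hvres, hb, RingEquiv.apply_symm_apply]
  have hinj : Function.Injective v.toRingHom := by
    rw [injective_iff_map_eq_zero]
    intro b hb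
    by_contra hb0
    obtain ⟨n, c, rfl⟩ := IsDiscreteValuationRing.eq_unit_mul_pow_irreducible hb0 huπ
    rw [map_mul, map_pow] at hb
    have h1 : v.toRingHom (u π) = u' π := hvu π
    rw [h1] at hb
    exact mul_ne_zero ((c.isUnit.map v.toRingHom).ne_zero) (pow_ne_zero _ hu'π) hb
  refine ⟨RingEquiv.ofBijective v.toRingHom ⟨hinj, hsurj⟩, ?_, ?_⟩
  · ext a
    exact hvu a
  · intro b
    exact hvres b

end H14S2482

namespace Groth.Agent.S2482

open IsLocalRing in
/-- (a) ⟹ (b): let A, B be complete discrete valuation rings and u : A → B a ring homomorphism with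
u(𝔪_A)B = 𝔪_B, such that the residue field L of B is separable over the residue field K of A. Then
for every complete discrete valuation ring B', every homomorphism u' : A → B' with u'(𝔪_A)B' =
𝔪_{B'} and every isomorphism σ of residue fields L ≅ L' compatible with the maps from K, there is an
isomorphism w : B ≅ B' with u' = w ∘ u inducing σ on residue fields. -/
theorem result {A B B' : Type u} [CommRing A] [IsDomain A] [IsDiscreteValuationRing A] [IsAdicComplete (maximalIdeal A) A]
    [CommRing B] [IsDomain B] [IsDiscreteValuationRing B] [IsAdicComplete (maximalIdeal B) B]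
    [CommRing B'] [IsDomain B'] [IsDiscreteValuationRing B'] [IsAdicComplete (maximalIdeal B') B']
    (u : A →+* B) [IsLocalHom u] (hu : (maximalIdeal A).map u = maximalIdeal B)
    (hsep : letI := (ResidueField.map u).toAlgebra; Algebra.IsGeometricallyReduced (ResidueField A) (ResidueField B))
    (u' : A →+* B') [IsLocalHom u'] (hu' : (maximalIdeal A).map u' = maximalIdeal B')
    (σ : ResidueField B ≃+* ResidueField B') (hσ : (σ : ResidueField B →+* ResidueField B').comp (ResidueField.map u) = ResidueField.map u') :
    ∃ w : B ≃+* B', (w : B →+* B').comp u = u' ∧ ∀ b : B, residue B' (w b) = σ (residue B b) := by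
  exact H14S2482.main u hu hsep u' hu' σ hσ

end Groth.Agent.S2482
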