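import Groth.Statements.S2483
import Mathlib
import Groth.Agent.Lib.helper14.FieldLift


set_option autoImplicit false
universe u
open EGA41

namespace H14S2483

open IsLocalRing

theorem der_eq_zero {K M : Type*} [Field K] [AddCommGroup M] [Module K M]
    (hΩ : Subsingleton (Ω[K⁄ℤ])) (d : Derivation ℤ K M) (x : K) : d x = 0 := by
  rw [← Derivation.liftKaehlerDifferential_comp_D d x,
    Subsingleton.elim (KaehlerDifferential.D ℤ K x) 0, map_zero]

theorem unique_of_subsingleton {C : Type u} [CommRing C] [IsLocalRing C] [IsNoetherianRing C]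
    [IsAdicComplete (maximalIdeal C) C]
    (u : ResidueField C →+* C) (hu : ∀ x, residue C (u x) = x)
    (hΩ : Subsingleton (Ω[ResidueField C⁄ℤ]))
    (v : ResidueField C →+* C) (hv : ∀ x, residue C (v x) = x) : v = u := by
  classical
  have key : ∀ n : ℕ, ∀ x, v x - u x ∈ maximalIdeal C ^ (n + 1) := by
    intro n
    induction n with
    | zero =>
      intro x
      rw [zero_add, pow_one, ← IsLocalRing.residue_eq_zero_iff, map_sub, hv, hu, sub_self]
    | succ n ih =>
      intro x
      -- the square-zero situation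
      let B := C ⧸ maximalIdeal C ^ (n + 1 + 1)
      let I : Ideal B := (maximalIdeal C ^ (n + 1)).map (Ideal.Quotient.mk _)
      have hI : I ^ 2 = ⊥ := by
        rw [← Ideal.map_pow, eq_bot_iff]
        refine (Ideal.map_mono ?_).trans (le_of_eq (Ideal.map_quotient_self _))
        rw [← pow_mul]
        exact Ideal.pow_le_pow_right (by omega)
      letI : Algebra (ResidueField C) B := ((Ideal.Quotient.mk _).comp u).toAlgebra
      haveI : @IsScalarTower ℤ (ResidueField C) B Algebra.toSMul Algebra.toSMul Algebra.toSMul :=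
        IsScalarTower.of_algebraMap_eq' (Subsingleton.elim _ _)
      haveI : @IsScalarTower ℤ (ResidueField C) (B ⧸ I) Algebra.toSMul Algebra.toSMul
          Algebra.toSMul :=
        IsScalarTower.of_algebraMap_eq' (Subsingleton.elim _ _)
      let f : ResidueField C →ₐ[ℤ] B := ((Ideal.Quotient.mk _).comp v).toIntAlgHom
      have e : (Ideal.Quotient.mkₐ ℤ I).comp f = IsScalarTower.toAlgHom ℤ (ResidueField C) (B ⧸ I) := by
        ext y
        change Ideal.Quotient.mk I (Ideal.Quotient.mk _ (v y)) =
          Ideal.Quotient.mk I (Ideal.Quotient.mk _ (u y))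
        rw [Ideal.Quotient.eq, ← map_sub]
        exact Ideal.mem_map_of_mem _ (ih y)
      let d := derivationToSquareZeroOfLift I hI f e
      have hd0 : d x = 0 := by
        rw [← Derivation.liftKaehlerDifferential_comp_D d x,
          Subsingleton.elim (KaehlerDifferential.D ℤ (ResidueField C) x) 0, map_zero]
      have hd : (d x : B) = 0 := by rw [hd0]; rfl
      rw [derivationToSquareZeroOfLift_apply] at hd
      have hd' : Ideal.Quotient.mk (maximalIdeal C ^ (n + 1 + 1)) (v x) -
          Ideal.Quotient.mk (maximalIdeal C ^ (n + 1 + 1)) (u x) = 0 := hd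
      rw [← map_sub, Ideal.Quotient.eq_zero_iff_mem] at hd'
      exact hd'
  ext x
  have h0 : v x - u x = 0 := by
    apply IsHausdorff.haus (inferInstance : IsHausdorff (maximalIdeal C) C)
    intro n
    rw [SModEq.zero, smul_eq_mul, Ideal.mul_top]
    exact Ideal.pow_le_pow_right (Nat.le_succ n) (key n x)
  exact sub_eq_zero.mp h0

theorem exists_other_section {C : Type u} [CommRing C] [IsLocalRing C] [IsNoetherianRing C]
    [IsAdicComplete (maximalIdeal C) C] (hm : maximalIdeal C ≠ ⊥)
    (u : ResidueField C →+* C) (hu : ∀ x, residue C (u x) = x)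
    (hΩ : ¬ Subsingleton (Ω[ResidueField C⁄ℤ])) :
    ∃ v : ResidueField C →+* C, (∀ x, residue C (v x) = x) ∧ v ≠ u := by
  classical
  rw [not_subsingleton_iff_nontrivial] at hΩ
  obtain ⟨ω, hω⟩ := exists_ne (0 : Ω[ResidueField C⁄ℤ])
  obtain ⟨ℓ, hℓ⟩ : ∃ ℓ : Module.Dual (ResidueField C) (Ω[ResidueField C⁄ℤ]), ℓ ω ≠ 0 := by
    by_contra hall
    push Not at hall
    exact hω ((Module.forall_dual_apply_eq_zero_iff (ResidueField C) ω).mp hall)
  let D : ResidueField C → ResidueField C := fun x => ℓ (KaehlerDifferential.D ℤ (ResidueField C) x)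
  have hDℓ : ∀ x, D x = ℓ (KaehlerDifferential.D ℤ (ResidueField C) x) := fun x => rfl
  have hDmul : ∀ x y, D (x * y) = x * D y + y * D x := by
    intro x y
    rw [hDℓ, hDℓ, hDℓ, Derivation.leibniz, map_add, map_smul, map_smul, smul_eq_mul, smul_eq_mul]
  have hDadd : ∀ x y, D (x + y) = D x + D y := by
    intro x y
    rw [hDℓ, hDℓ, hDℓ, map_add, map_add]
  have hD1 : D 1 = 0 := by rw [hDℓ, Derivation.map_one_eq_zero, map_zero]
  have hD0 : D 0 = 0 := by rw [hDℓ, map_zero, map_zero]
  obtain ⟨x₀, hx₀⟩ : ∃ x, D x ≠ 0 := by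
    by_contra hall
    push Not at hall
    apply hℓ
    have hspan : ω ∈ Submodule.span (ResidueField C)
        (Set.range (KaehlerDifferential.D ℤ (ResidueField C))) := by
      rw [KaehlerDifferential.span_range_derivation]; trivial
    refine Submodule.span_induction ?_ ?_ ?_ ?_ hspan
    · rintro _ ⟨x, rfl⟩; rw [← hDℓ]; exact hall x
    · exact map_zero ℓ
    · intro a b _ _ ha hb; rw [map_add, ha, hb, add_zero]
    · intro c a _ ha; rw [map_smul, ha, smul_zero]
  obtain ⟨t, ht, ht2⟩ : ∃ t ∈ maximalIdeal C, t ∉ maximalIdeal C ^ 2 := by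
    by_contra hall
    push Not at hall
    apply hm
    have hle : maximalIdeal C ≤ maximalIdeal C • maximalIdeal C := by
      intro t ht; rw [smul_eq_mul, ← pow_two]; exact hall t ht
    exact Submodule.eq_bot_of_le_smul_of_le_jacobson_bot (maximalIdeal C) (maximalIdeal C)
      (IsNoetherian.noetherian _) hle (IsLocalRing.maximalIdeal_le_jacobson _)
  let v₂ : ResidueField C →+* C ⧸ maximalIdeal C ^ 2 :=
    { toFun := fun x => Ideal.Quotient.mk _ (u x + t * u (D x))
      map_one' := by rw [hD1]; simp
      map_mul' := fun x y => by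
        rw [← map_mul, Ideal.Quotient.eq]
        rw [hDmul]
        have : u (x * y) + t * u (x * D y + y * D x) - (u x + t * u (D x)) * (u y + t * u (D y)) =
            -(t * t) * (u (D x) * u (D y)) := by
          simp only [map_mul, map_add]; ring
        rw [this, pow_two]
        exact Ideal.mul_mem_right _ _ (neg_mem (Ideal.mul_mem_mul ht ht))
      map_zero' := by rw [hD0]; simp
      map_add' := fun x y => by
        rw [← map_add, hDadd]; congr 1; simp only [map_add]; ring }
  have hv₂ : ∀ x, v₂ x = Ideal.Quotient.mk _ (u x + t * u (D x)) := fun x => rfl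
  have hne : maximalIdeal C ^ 2 ≠ ⊤ := by
    intro h
    have : maximalIdeal C = ⊤ := top_le_iff.mp (h ▸ Ideal.pow_le_self two_ne_zero)
    exact (maximalIdeal.isMaximal C).ne_top this
  obtain ⟨v, hv⟩ := H14.FieldLift.field_lift (maximalIdeal C ^ 2) hne v₂ u
  have h1 : ∀ x, v x - (u x + t * u (D x)) ∈ maximalIdeal C ^ 2 := fun x =>
    Ideal.Quotient.eq.mp (RingHom.congr_fun hv x)
  refine ⟨v, fun x => ?_, ?_⟩
  · have h2 : v x - (u x + t * u (D x)) ∈ maximalIdeal C := Ideal.pow_le_self two_ne_zero (h1 x)
    rw [← IsLocalRing.residue_eq_zero_iff, map_sub, sub_eq_zero] at h2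
    rw [h2, map_add, map_mul, hu, (IsLocalRing.residue_eq_zero_iff t).mpr ht, zero_mul, add_zero]
  · intro heq
    have h3 := h1 x₀
    rw [heq] at h3
    have h4 : t * u (D x₀) ∈ maximalIdeal C ^ 2 := by
      have : u x₀ - (u x₀ + t * u (D x₀)) = -(t * u (D x₀)) := by ring
      rw [this] at h3
      exact neg_mem_iff.mp h3
    have hunit : IsUnit (u (D x₀)) := by
      rw [← IsLocalRing.residue_ne_zero_iff_isUnit, hu]
      exact hx₀
    obtain ⟨w, hw⟩ := hunit
    apply ht2
    have : t = t * u (D x₀) * ((w⁻¹ : Cˣ) : C) := by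
      rw [← hw, mul_assoc, Units.mul_inv, mul_one]
    rw [this]
    exact Ideal.mul_mem_right _ _ h4

theorem main {C : Type u} [CommRing C] [IsLocalRing C] [IsNoetherianRing C]
    [IsAdicComplete (maximalIdeal C) C]
    (hm : maximalIdeal C ≠ ⊥) (u : ResidueField C →+* C) (hu : ∀ x, residue C (u x) = x) :
    (∀ v : ResidueField C →+* C, (∀ x, residue C (v x) = x) → v = u) ↔
      Subsingleton (Ω[ResidueField C⁄ℤ]) := by
  constructor
  · intro huniq
    by_contra hΩ
    obtain ⟨v, hv, hne⟩ := exists_other_section hm u hu hΩ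
    exact hne (huniq v hv)
  · intro hΩ v hv
    exact unique_of_subsingleton u hu hΩ v hv

end H14S2483

namespace Groth.Agent.S2483

open IsLocalRing in
/-- Let C be a complete Noetherian local ring with maximal ideal 𝔍 ≠ 0 and residue field K, and u : K →
C a ring homomorphism which is a section of the residue map. Then u is the only such section if and
only if Ω_{K/ℤ} = 0. -/
theorem result {C : Type u} [CommRing C] [IsLocalRing C] [IsNoetherianRing C] [IsAdicComplete (maximalIdeal C) C]
    (hm : maximalIdeal C ≠ ⊥) (u : ResidueField C →+* C) (hu : ∀ x, residue C (u x) = x) :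
    (∀ v : ResidueField C →+* C, (∀ x, residue C (v x) = x) → v = u) ↔ Subsingleton (Ω[ResidueField C⁄ℤ]) := by
  exact H14S2483.main hm u hu

end Groth.Agent.S2483
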