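import Groth.Statements.S2485
import Mathlib

set_option autoImplicit false
universe u
open EGA41

namespace Groth.Agent.S2485

open scoped TensorProduct

/-- Let p be a prime and A → B a ring homomorphism making B an A-algebra of finite type, with B of
characteristic p, such that for some s ≥ 0 every p^s-th power of an element of B lies in the image
of A. If Ω_{B/A} = 0 then A → B is surjective. -/
theorem result (p : ℕ) [Fact p.Prime] {A B : Type u} [CommRing A] [CommRing B] [Algebra A B] [CharP B p]
    [Algebra.FiniteType A B] (s : ℕ) (hpow : ∀ b : B, b ^ p ^ s ∈ Set.range (algebraMap A B)) [Subsingleton (Ω[B⁄A])] :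
    Function.Surjective (algebraMap A B) := by
  classical
  -- `B` is integral over `A`
  have hint : Algebra.IsIntegral A B := by
    refine ⟨fun b => ?_⟩
    obtain ⟨a, ha⟩ := hpow b
    refine ⟨Polynomial.X ^ p ^ s - Polynomial.C a,
      Polynomial.monic_X_pow_sub_C a (pow_ne_zero _ (Fact.out : p.Prime).ne_zero), ?_⟩
    simp [ha]
  have hfin : Module.Finite A B := Algebra.IsIntegral.finite
  rw [← Algebra.isEpi_iff_surjective_algebraMap_of_finite, Algebra.isEpi_iff_forall_one_tmul_eq]
  -- the kernel of the multiplication map is generated by an idempotent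
  obtain ⟨e, he, hsp⟩ : ∃ e, IsIdempotentElem e ∧
      KaehlerDifferential.ideal A B = Ideal.span {e} :=
    (Ideal.isIdempotentElem_iff_of_fg _ (KaehlerDifferential.ideal_fg A B)).mp <|
      (Ideal.cotangent_subsingleton_iff _).mp <| inferInstanceAs <| Subsingleton Ω[B⁄A]
  -- characteristic `p` on the tensor product
  have hinj : Function.Injective (Algebra.TensorProduct.includeLeftRingHom :
      B →+* B ⊗[A] B) := by
    intro x y hxy
    have := congrArg (Algebra.TensorProduct.lmul' (S := B) A) hxy
    simpa using this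
  have hchar : CharP (B ⊗[A] B) p := charP_of_injective_ringHom hinj p
  -- all generators are nilpotent
  have hnil : KaehlerDifferential.ideal A B ≤ nilradical (B ⊗[A] B) := by
    rw [← KaehlerDifferential.span_range_eq_ideal, Ideal.span_le]
    rintro _ ⟨b, rfl⟩
    refine ⟨p ^ s, ?_⟩
    obtain ⟨a, ha⟩ := hpow b
    rw [sub_pow_char_pow, Algebra.TensorProduct.tmul_pow, Algebra.TensorProduct.tmul_pow,
      one_pow, ← ha, Algebra.algebraMap_eq_smul_one, TensorProduct.smul_tmul, sub_self]
    exact zero_mem _
  have he0 : e = 0 := by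
    have h1 : e ∈ nilradical (B ⊗[A] B) :=
      hnil (hsp ▸ Ideal.mem_span_singleton_self e)
    obtain ⟨k, hk⟩ := h1
    rcases Nat.eq_zero_or_pos k with rfl | hkpos
    · rw [pow_zero] at hk
      rw [← mul_one e, hk, mul_zero]
    · rw [he.pow_eq hkpos.ne'] at hk
      exact hk
  intro b
  have h2 : (1 : B) ⊗ₜ[A] b - b ⊗ₜ[A] (1 : B) ∈ KaehlerDifferential.ideal A B :=
    KaehlerDifferential.one_smul_sub_smul_one_mem_ideal A b
  rw [hsp, he0, Ideal.span_singleton_eq_bot.mpr rfl, Ideal.mem_bot, sub_eq_zero] at h2
  exact h2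

end Groth.Agent.S2485
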