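import Groth.Statements.S2572
import Mathlib
import Groth.Agent.S2516
import Groth.Agent.Lib.helper5.RegLoc

set_option autoImplicit false
open CategoryTheory AlgebraicGeometry
universe u
open EGA43

namespace Groth.Agent.S2572

section Helpers


open AlgebraicGeometry CategoryTheory Limits TopologicalSpace

lemma universallyOpen_of_comp_surjective {X Y Z : Scheme.{u}} (r : Z ⟶ X) (g : X ⟶ Y)
    [Surjective r] [UniversallyOpen (r ≫ g)] : UniversallyOpen g := by
  refine ⟨fun X' Y' i₁ i₂ g' H => ?_⟩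
  have H1 : IsPullback (pullback.snd r i₁) (pullback.fst r i₁) i₁ r :=
    (IsPullback.of_hasPullback r i₁).flip
  have H2 := H1.paste_horiz H
  have hopen : IsOpenMap (pullback.snd r i₁ ≫ g') :=
    UniversallyOpen.universally_isOpenMap _ _ _ H2
  have hs : Function.Surjective (pullback.snd r i₁) :=
    (inferInstance : Surjective (pullback.snd r i₁)).surj
  intro V hV
  have : g' '' V = (pullback.snd r i₁ ≫ g') '' ((pullback.snd r i₁) ⁻¹' V) := by
    rw [Scheme.Hom.comp_base, TopCat.coe_comp, Set.image_comp, Set.image_preimage_eq _ hs]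
  rw [this]
  exact hopen _ (hV.preimage (pullback.snd r i₁).continuous)

lemma isClosed_sUnion_irreducibleComponents {X : Scheme.{u}} [IsLocallyNoetherian X]
    (S : Set (Set X)) (hS : S ⊆ irreducibleComponents X) : IsClosed (⋃₀ S) := by
  have hcov : IsOpenCover (fun W : X.affineOpens => W.1) := iSup_affineOpens_eq_top X
  rw [hcov.isClosed_iff_coe_preimage]
  intro W
  haveI : IsNoetherianRing Γ(X, W.1) := IsLocallyNoetherian.component_noetherian W
  haveI : NoetherianSpace W.1 := noetherianSpace_of_isAffineOpen W.1 W.2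
  have hfin : (irreducibleComponents W.1).Finite := NoetherianSpace.finite_irreducibleComponents
  have heq : (Subtype.val ⁻¹' ⋃₀ S : Set W.1) =
      ⋃₀ {T | T ∈ irreducibleComponents W.1 ∧ ∃ Z ∈ S, T = Subtype.val ⁻¹' Z} := by
    ext x
    constructor
    · rintro ⟨Z, hZ, hx⟩
      refine ⟨Subtype.val ⁻¹' Z, ⟨?_, Z, hZ, rfl⟩, hx⟩
      exact preimage_mem_irreducibleComponents (hS hZ) (W.1.2.isOpenEmbedding_subtypeVal)
        ⟨x.1, hx, x, rfl⟩
    · rintro ⟨T, ⟨-, Z, hZ, rfl⟩, hx⟩
      exact ⟨Z, hZ, hx⟩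
  have key : IsClosed (Subtype.val ⁻¹' ⋃₀ S : Set W.1) := by
    rw [heq, Set.sUnion_eq_biUnion]
    exact (hfin.subset (fun T hT => hT.1)).isClosed_biUnion
      fun T hT => isClosed_of_mem_irreducibleComponents T hT.1
  exact key


theorem main {X Y : Scheme.{u}} [IsLocallyNoetherian Y] [IrreducibleSpace Y]
    (hY : ∀ y : Y, IsRegularLocalRing (Y.presheaf.stalk y) ∧ ringKrullDim (Y.presheaf.stalk y) ≤ 1)
    (f : X ⟶ Y) [LocallyOfFiniteType f] (y : Y)
    (h : ∀ Z ∈ irreducibleComponents (X : Type u), (Z ∩ f.base ⁻¹' {y}).Nonempty →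
      Dense (f.base '' Z)) :
    ∃ U : X.Opens, f.base ⁻¹' {y} ⊆ (U : Set X) ∧ UniversallyOpen (U.ι ≫ f) := by
  haveI : ∀ y : Y, _root_.IsReduced (Y.presheaf.stalk y) := fun y => by
    haveI := (hY y).1
    haveI := Groth.Agent.H5.RegLoc.isDomain (Y.presheaf.stalk y)
    infer_instance
  haveI : IsReduced Y := isReduced_of_isReduced_stalk Y
  haveI : IsIntegral Y := isIntegral_of_irreducibleSpace_of_isReduced Y
  haveI : IsLocallyNoetherian X := LocallyOfFiniteType.isLocallyNoetherian f
  let S : Set (Set X) := {Z | Z ∈ irreducibleComponents X ∧ ¬ (Z ∩ f.base ⁻¹' {y}).Nonempty}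
  have hB : IsClosed (⋃₀ S) := isClosed_sUnion_irreducibleComponents S (fun Z hZ => hZ.1)
  let U : X.Opens := ⟨(⋃₀ S)ᶜ, hB.isOpen_compl⟩
  refine ⟨U, ?_, ?_⟩
  · rintro x hx ⟨Z, hZ, hxZ⟩
    exact hZ.2 ⟨x, hxZ, hx⟩
  have hgen : ∀ x : X, x ∈ U → ∃ ξ : X, ξ ⤳ x ∧ f ξ = genericPoint Y := by
    intro x hx
    have hZ := irreducibleComponent_mem_irreducibleComponents x
    have hmeet : (irreducibleComponent x ∩ f.base ⁻¹' {y}).Nonempty := by
      by_contra hne
      exact hx ⟨_, ⟨hZ, hne⟩, mem_irreducibleComponent⟩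
    have hdense := h _ hZ hmeet
    have hirr : IsIrreducible (irreducibleComponent x) := isIrreducible_irreducibleComponent
    have hcl : IsClosed (irreducibleComponent x) := isClosed_irreducibleComponent
    have hξ := hirr.isGenericPoint_genericPoint hcl
    refine ⟨hirr.genericPoint, hξ.specializes mem_irreducibleComponent, ?_⟩
    refine ((genericPoint_spec Y).eq ?_).symm
    rw [isGenericPoint_def, ← Set.univ_subset_iff, ← hdense.closure_eq]
    refine closure_minimal ?_ isClosed_closure
    rintro _ ⟨z, hz, rfl⟩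
    exact specializes_iff_mem_closure.mp ((hξ.specializes hz).map f.continuous)
  haveI : QuasiCompact (Y.fromSpecResidueField (genericPoint Y)) := inferInstance
  haveI : QuasiCompact ((U.ι ≫ f).fiberι (genericPoint Y)) := by
    show QuasiCompact (pullback.fst (U.ι ≫ f) (Y.fromSpecResidueField (genericPoint Y)))
    infer_instance
  have hg : ∀ x, ((U.ι ≫ f).fiberι (genericPoint Y) ≫ (U.ι ≫ f)) x = genericPoint Y := by
    intro x
    rw [Scheme.Hom.fiber_fac]
    have hx : ((U.ι ≫ f).fiberToSpecResidueField (genericPoint Y) ≫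
        Y.fromSpecResidueField (genericPoint Y)) x ∈
        Set.range (Y.fromSpecResidueField (genericPoint Y)) :=
      ⟨((U.ι ≫ f).fiberToSpecResidueField (genericPoint Y)) x, rfl⟩
    rw [Scheme.range_fromSpecResidueField] at hx
    exact hx
  haveI hflat : Flat (((U.ι ≫ f).fiberι (genericPoint Y)).imageι ≫ (U.ι ≫ f)) :=
    Groth.Agent.S2516.flat_image hY _ _ hg
  haveI : LocallyOfFiniteType (((U.ι ≫ f).fiberι (genericPoint Y)).imageι ≫ (U.ι ≫ f)) :=
    inferInstance
  haveI : LocallyOfFinitePresentation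
      (((U.ι ≫ f).fiberι (genericPoint Y)).imageι ≫ (U.ι ≫ f)) :=
    LocallyOfFinitePresentation.iff_locallyOfFiniteType.mpr inferInstance
  haveI : UniversallyOpen (((U.ι ≫ f).fiberι (genericPoint Y)).imageι ≫ (U.ι ≫ f)) :=
    inferInstance
  haveI : Surjective ((U.ι ≫ f).fiberι (genericPoint Y)).imageι := by
    refine ⟨fun x => ?_⟩
    have hr : Set.range ((U.ι ≫ f).fiberι (genericPoint Y)).imageι =
        closure (Set.range ((U.ι ≫ f).fiberι (genericPoint Y))) := by
      rw [Scheme.IdealSheafData.range_subschemeι, Scheme.Hom.support_ker]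
    have hx : x ∈ Set.range ((U.ι ≫ f).fiberι (genericPoint Y)).imageι := by
      rw [hr, Scheme.Hom.range_fiberι]
      obtain ⟨ξ, hξ, hfξ⟩ := hgen x.1 x.2
      have hξU : ξ ∈ U := hξ.mem_open U.2 x.2
      let ξ' : (U : Scheme) := ⟨ξ, hξU⟩
      have hsp : ξ' ⤳ x := (subtype_specializes_iff _ _).mpr hξ
      have hmem : ξ' ∈ (U.ι ≫ f) ⁻¹' {genericPoint Y} := hfξ
      exact closure_mono (Set.singleton_subset_iff.mpr hmem) (specializes_iff_mem_closure.mp hsp)
    exact hx
  exact universallyOpen_of_comp_surjective ((U.ι ≫ f).fiberι (genericPoint Y)).imageι (U.ι ≫ f)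

end Helpers


/-- Let Y be an irreducible locally Noetherian scheme whose local rings are regular of dimension at most
one, f : X ⟶ Y locally of finite type, and y a point of Y. If every irreducible component of X
meeting the fibre over y has dense image in Y, then there is an open subset U of X containing that
fibre such that the restriction of f to U is universally open. -/
theorem result {X Y : Scheme.{u}} [IsLocallyNoetherian Y]
    [IrreducibleSpace Y]
    (hY : ∀ y : Y, IsRegularLocalRing (Y.presheaf.stalk y) ∧ ringKrullDim (Y.presheaf.stalk y) ≤ 1)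
    (f : X ⟶ Y) [LocallyOfFiniteType f] (y : Y)
    (h : ∀ Z ∈ irreducibleComponents (X : Type u), (Z ∩ f.base ⁻¹' {y}).Nonempty → Dense (f.base '' Z)) :
    ∃ U : X.Opens, f.base ⁻¹' {y} ⊆ (U : Set X) ∧ UniversallyOpen (U.ι ≫ f) := by
  exact main hY f y h

end Groth.Agent.S2572
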