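import Groth.Statements.S2574
import Mathlib
import Groth.Agent.Lib.helper24.NilFlat2
import Groth.Agent.Lib.helper24.PiFlat

set_option autoImplicit false
open TensorProduct
universe u
open EGA43

namespace Groth.Agent.S2574

open Groth.Agent.Lib.helper24 in

/-- Let A be a Noetherian ring, J a nilpotent ideal of A and M an A-module. Then M is flat over A if and
only if (A/J) ⊗_A M is flat over A/J and, for every associated prime p of A, the localization M_p is
flat over A_p. -/
theorem result {A : Type u} [CommRing A] [IsNoetherianRing A]
    (J : Ideal A) (hJ : IsNilpotent J) (M : Type u) [AddCommGroup M] [Module A M] :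
    Module.Flat A M ↔
      Module.Flat (A ⧸ J) ((A ⧸ J) ⊗[A] M) ∧
        ∀ p : associatedPrimes A A,
          haveI : p.1.IsPrime := IsAssociatedPrime.isPrime p.2
          Module.Flat (Localization.AtPrime p.1) (LocalizedModule p.1.primeCompl M) := by
  classical
  constructor
  · intro h
    exact ⟨inferInstance, fun p => by
      haveI : p.1.IsPrime := IsAssociatedPrime.isPrime p.2
      infer_instance⟩
  · rintro ⟨h1, h2⟩
    haveI hprime : ∀ p : associatedPrimes A A, p.1.IsPrime := fun p => IsAssociatedPrime.isPrime p.2
    letI : Fintype ↥(associatedPrimes A A) := (associatedPrimes.finite A A).fintype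
    let B : ↥(associatedPrimes A A) → Type u := fun p => Localization.AtPrime p.1
    letI : ∀ p, CommRing (B p) := fun p => inferInstanceAs (CommRing (Localization.AtPrime p.1))
    letI : ∀ p, Algebra A (B p) := fun p => inferInstanceAs (Algebra A (Localization.AtPrime p.1))
    have hinj : Function.Injective (algebraMap A (Π p, B p)) := by
      rw [injective_iff_map_eq_zero]
      intro a ha
      by_contra hne
      obtain ⟨Q, hQ, hle⟩ := exists_le_isAssociatedPrime_of_isNoetherianRing A a hne
      have h0 : algebraMap A (B ⟨Q, hQ⟩) a = 0 := congrFun ha ⟨Q, hQ⟩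
      haveI : Q.IsPrime := hQ.isPrime
      obtain ⟨s, hs⟩ := (IsLocalization.map_eq_zero_iff Q.primeCompl (Localization.AtPrime Q) a).mp h0
      have : (s : A) ∈ (⊥ : Submodule A A).colon {a} := by
        rw [Submodule.mem_colon_singleton]
        exact hs
      exact s.2 (hle this)
    letI := PiFlat.evalAlg B
    haveI : Module.Flat (Π p, B p) ((Π p, B p) ⊗[A] M) := by
      refine PiFlat.flat_pi B _ fun p => ?_
      haveI : IsScalarTower A (Π p, B p) (B p) := IsScalarTower.of_algebraMap_eq (fun a => rfl)
      haveI : Module.Flat (B p) (B p ⊗[A] M) := by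
        haveI := h2 p
        exact Module.Flat.of_linearEquiv
          (IsLocalizedModule.isBaseChange p.1.primeCompl (Localization.AtPrime p.1)
            (LocalizedModule.mkLinearMap p.1.primeCompl M)).equiv
      exact NilFlat.flat_baseChange_baseChange A (Π p, B p) (B p) M
    exact NilFlat.flat_of_injective hinj J hJ M

end Groth.Agent.S2574
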