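import Groth.Statements.S6278
import Mathlib
import Groth.Prelude.Def_EGA4b

set_option autoImplicit false
universe u
open CAlg

namespace Groth.Agent.S6278

/-- A normal ring R (all localizations at primes are integrally closed domains) is integrally closed in
its total ring of fractions. -/
theorem result (R : Type u) [CommRing R] (hR : EGA4.IsNormalRing R) : IsIntegrallyClosedIn R (FractionRing R) := by
  classical
  rw [isIntegrallyClosedIn_iff]
  refine ⟨IsLocalization.injective _ le_rfl, ?_⟩
  intro x hx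
  obtain ⟨b, c, rfl⟩ := IsLocalization.exists_mk'_eq (nonZeroDivisors R) x
  -- the ideal of denominators
  let D : Ideal R :=
    { carrier := {r | ∃ a, algebraMap R (FractionRing R) r * IsLocalization.mk' (FractionRing R) b c =
        algebraMap R (FractionRing R) a}
      add_mem' := by
        rintro r₁ r₂ ⟨a₁, h₁⟩ ⟨a₂, h₂⟩
        exact ⟨a₁ + a₂, by rw [map_add, add_mul, h₁, h₂, map_add]⟩
      zero_mem' := ⟨0, by simp⟩
      smul_mem' := by
        rintro s r ⟨a, h⟩
        exact ⟨s * a, by rw [smul_eq_mul, map_mul, mul_assoc, h, map_mul]⟩ }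
  by_contra hcon
  have hD : D ≠ ⊤ := by
    intro hD
    have : (1 : R) ∈ D := by rw [hD]; trivial
    obtain ⟨a, ha⟩ := this
    rw [map_one, one_mul] at ha
    exact hcon ⟨a, ha.symm⟩
  obtain ⟨p, hp, hDp⟩ := Ideal.exists_le_maximal D hD
  have hpp : p.IsPrime := hp.isPrime
  obtain ⟨hdom, hic⟩ := hR p
  -- the map Frac R → Frac R_p
  obtain ⟨Rp, _, _, _, hdom', hic'⟩ : ∃ (Rp : Type u) (_ : CommRing Rp) (_ : Algebra R Rp)
      (_ : IsLocalization.AtPrime Rp p), IsDomain Rp ∧ IsIntegrallyClosed Rp :=
    ⟨Localization.AtPrime p, inferInstance, inferInstance, inferInstance, hdom, hic⟩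
  obtain ⟨g, hg⟩ : ∃ g : R →+* Rp, g = algebraMap R Rp := ⟨_, rfl⟩
  have hy : nonZeroDivisors R ≤ (nonZeroDivisors Rp).comap g := by
    intro r hr
    rw [hg]
    exact IsLocalization.map_nonZeroDivisors_le p.primeCompl Rp ⟨r, hr, rfl⟩
  obtain ⟨ψ, hψdef⟩ : ∃ ψ : FractionRing R →+* FractionRing Rp,
      ψ = IsLocalization.map (FractionRing Rp) g hy := ⟨_, rfl⟩
  have hψ : (algebraMap Rp (FractionRing Rp)).comp g = ψ.comp (algebraMap R (FractionRing R)) := by
    rw [hψdef]
    exact (IsLocalization.map_comp hy).symm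
  have hint : IsIntegral Rp (ψ (IsLocalization.mk' (FractionRing R) b c)) :=
    IsIntegral.map_of_comp_eq g ψ hψ hx
  obtain ⟨y', hy'⟩ := IsIntegrallyClosed.isIntegral_iff.mp hint
  have hψmk : ψ (IsLocalization.mk' (FractionRing R) b c) =
      IsLocalization.mk' (FractionRing Rp) (g b) (⟨g c, hy c.2⟩ : nonZeroDivisors Rp) := by
    rw [hψdef]; exact IsLocalization.map_mk' hy b c
  rw [hψmk, IsLocalization.eq_mk'_iff_mul_eq, ← map_mul] at hy'
  have h1 : y' * g c = g b := IsFractionRing.injective Rp (FractionRing Rp) hy'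
  obtain ⟨a, s, rfl⟩ := IsLocalization.exists_mk'_eq p.primeCompl y'
  subst hg
  have h2 : algebraMap R Rp a * algebraMap R Rp c = algebraMap R Rp b * algebraMap R Rp s := by
    have := congrArg (fun z => z * algebraMap R Rp s) h1
    beta_reduce at this
    rw [← this]
    have h3 : IsLocalization.mk' Rp a s * algebraMap R Rp s = algebraMap R Rp a :=
      IsLocalization.mk'_spec Rp a s
    calc algebraMap R Rp a * algebraMap R Rp c
        = (IsLocalization.mk' Rp a s * algebraMap R Rp s) * algebraMap R Rp c := by rw [h3]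
      _ = IsLocalization.mk' Rp a s * algebraMap R Rp c * algebraMap R Rp s := by ring
  rw [← map_mul, ← map_mul] at h2
  obtain ⟨t, ht⟩ := (IsLocalization.eq_iff_exists p.primeCompl Rp).mp h2
  have hts : (t : R) * s ∈ D := by
    refine ⟨t * a, ?_⟩
    rw [IsLocalization.mul_mk'_eq_mk'_of_mul, IsLocalization.mk'_eq_iff_eq_mul, ← map_mul]
    congr 1
    calc (t : R) * s * b = t * (b * s) := by ring
      _ = t * (a * c) := by rw [← ht]
      _ = t * a * c := by ring
  have := hDp hts
  rcases hpp.mem_or_mem this with h | h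
  · exact t.2 h
  · exact s.2 h

end Groth.Agent.S6278
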