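import Groth.Statements.S2909
import Mathlib
import Groth.Agent.S13596
import Groth.Agent.S2908
import Groth.Agent.S2914
import Groth.Agent.S2925
import Groth.Agent.S13606
import Groth.Agent.S12059
-- import your own Groth.Agent.* helpers here

set_option autoImplicit false
open CategoryTheory CategoryTheory.Limits AlgebraicGeometry
universe u
open SGA1

namespace Groth.Agent.S2909

open CategoryTheory CategoryTheory.Limits AlgebraicGeometry Opposite TopologicalSpace
open Groth.Agent.S13596 Groth.Agent.S2908 Groth.Agent.S2914 Groth.Agent.S2925 Groth.Agent.S13606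
  Groth.Agent.S12059

namespace H5S2909

variable {X Y : Scheme.{u}} {G : Type u} [Group G] (ρ : G →* Aut X) (p : X ⟶ Y)

/-- the restricted action on `p⁻¹U`. -/
theorem exists_res (inv : ∀ g : G, (ρ g).hom ≫ p = p) (U : Y.Opens) :
    ∃ ρU : G →* Aut (p ⁻¹ᵁ U).toScheme,
      ∀ g : G, (ρU g).hom ≫ (p ⁻¹ᵁ U).ι = (p ⁻¹ᵁ U).ι ≫ (ρ g).hom := by
  let r : G → ((p ⁻¹ᵁ U).toScheme ⟶ (p ⁻¹ᵁ U).toScheme) := fun g =>
    (ρ g).hom.resLE (p ⁻¹ᵁ U) (p ⁻¹ᵁ U) (SGA1.preimage_le_of_inv ρ p inv g U)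
  have hr : ∀ g, r g ≫ (p ⁻¹ᵁ U).ι = (p ⁻¹ᵁ U).ι ≫ (ρ g).hom := fun g =>
    Scheme.Hom.resLE_comp_ι _ _
  have hmul : ∀ g h : G, r (g * h) = r h ≫ r g := by
    intro g h
    rw [← cancel_mono (p ⁻¹ᵁ U).ι, hr, Category.assoc, hr, ← Category.assoc, hr, Category.assoc]
    congr 1
    rw [map_mul]; rfl
  have hone : r 1 = 𝟙 _ := by
    rw [← cancel_mono (p ⁻¹ᵁ U).ι, hr, Category.id_comp, map_one]
    exact Category.comp_id _
  let e : G → Aut (p ⁻¹ᵁ U).toScheme := fun g =>
    { hom := r g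
      inv := r g⁻¹
      hom_inv_id := by rw [← hmul, inv_mul_cancel, hone]
      inv_hom_id := by rw [← hmul, mul_inv_cancel, hone] }
  refine ⟨MonoidHom.mk' e (fun g h => ?_), fun g => hr g⟩
  apply Iso.ext
  exact hmul g h

variable [Finite G]

/-- a quotient of an affine scheme by a finite group is affine. -/
theorem isAffine_of_isQuot [IsAffine X] (hp : SGA1.IsQuot ρ p) : IsAffine Y := by
  let π := Y.toSpecΓ
  have hinv'' : ∀ g : G, (ρ g).hom ≫ p ≫ π = p ≫ π := by
    intro g
    rw [← Category.assoc, hp.inv g]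
  have hπiso : IsIso π.appTop := by
    rw [Scheme.toSpecΓ_appTop]; infer_instance
  have hπbij : Function.Bijective π.appTop.hom :=
    (ConcreteCategory.isIso_iff_bijective π.appTop).mp hπiso
  have htop : ∀ (g : G) (a : Γ(X, ⊤)), (H5S13596.σ ρ p hp.inv ⊤ g).hom a = (ρ g).hom.appTop.hom a := by
    intro g a
    have e : H5S13596.σ ρ p hp.inv ⊤ g = (ρ g).hom.appTop := by
      rw [H5S13596.σ, Scheme.Hom.appTop, Scheme.Hom.app_eq_appLE]
      rfl
    exact congrArg (fun f => f.hom a) e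
  have hp'' : SGA1.IsQuot ρ (p ≫ π) := by
    refine H5S12059.affine_case ρ (p ≫ π) hinv'' inferInstance ?_ ?_
    · rw [Scheme.Hom.comp_appTop]
      intro x y hxy
      apply hπbij.1
      apply hp.injective ⊤
      exact hxy
    · intro a ha
      have h1 : (a : Γ(X, p ⁻¹ᵁ ⊤)) ∈ Set.range (p.app ⊤).hom :=
        (hp.range_iff ⊤ a).mpr (fun g => (htop g a).trans (ha g))
      obtain ⟨b, hb⟩ := h1
      obtain ⟨c, hc⟩ := hπbij.2 b
      refine ⟨c, ?_⟩
      rw [Scheme.Hom.comp_appTop]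
      change (p.app ⊤).hom (π.appTop.hom c) = a
      rw [hc, hb]
  obtain ⟨hs, -, -⟩ := H5S2908.main ρ p hp
  obtain ⟨hs'', -, -⟩ := H5S2908.main ρ (p ≫ π) hp''
  obtain ⟨π', hπ', -⟩ := H5S2925.main ρ (p ≫ π) hp'' Y p hp.inv
  have h1 : π ≫ π' = 𝟙 Y := by
    apply H5S2914.epi_of_surj_inj p hs hp.injective
    rw [← Category.assoc, hπ', Category.comp_id]
  have h2 : π' ≫ π = 𝟙 _ := by
    apply H5S2914.epi_of_surj_inj (p ≫ π) hs'' hp''.injective
    rw [← Category.assoc, hπ', Category.comp_id]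
  exact ⟨⟨π', h1, h2⟩⟩

theorem part1 {Z : Scheme.{u}} (hp : SGA1.IsQuot ρ p) (f : X ⟶ Z) (q : Y ⟶ Z) (hq : p ≫ q = f) :
    IsAffineHom f ↔ IsAffineHom q := by
  subst hq
  constructor
  · intro hf
    refine ⟨fun U hU => ?_⟩
    have hXU : IsAffineOpen (p ⁻¹ᵁ (q ⁻¹ᵁ U)) := hf.isAffine_preimage U hU
    obtain ⟨ρU, hρU⟩ := exists_res ρ p hp.inv (q ⁻¹ᵁ U)
    have hpU := H5S13606.main ρ p hp (q ⁻¹ᵁ U) ρU hρU
    haveI : IsAffine (p ⁻¹ᵁ (q ⁻¹ᵁ U)).toScheme := hXU
    exact isAffine_of_isQuot ρU (p ∣_ (q ⁻¹ᵁ U)) hpU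
  · intro hq'
    haveI := hp.affine
    infer_instance

theorem part2 {Z : Scheme.{u}} (hp : SGA1.IsQuot ρ p) (f : X ⟶ Z) (q : Y ⟶ Z) (hq : p ≫ q = f) :
    IsSeparated f ↔ IsSeparated q := by
  constructor
  · intro hf
    haveI : IsIntegralHom p := H5S13596.main ρ p hp
    have hs : Function.Surjective p.base := (H5S2908.main ρ p hp).1
    let m := pullback.map f f q q p p (𝟙 Z) ((Category.comp_id _).trans hq.symm)
      ((Category.comp_id _).trans hq.symm)
    have hm : UniversallyClosed m :=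
      MorphismProperty.pullbackMap (P := @UniversallyClosed) inferInstance inferInstance hq.symm hq.symm
    have hcomm : pullback.diagonal f ≫ m = p ≫ pullback.diagonal q := by
      apply pullback.hom_ext
      · simp only [m, Category.assoc, pullback.lift_fst, pullback.diagonal_fst, Category.comp_id]
        rw [← Category.assoc, pullback.diagonal_fst, Category.id_comp]
      · simp only [m, Category.assoc, pullback.lift_snd, pullback.diagonal_snd, Category.comp_id]
        rw [← Category.assoc, pullback.diagonal_snd, Category.id_comp]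
    have hrange : Set.range (pullback.diagonal q).base =
        m.base '' Set.range (pullback.diagonal f).base := by
      ext w
      constructor
      · rintro ⟨y, rfl⟩
        obtain ⟨x, rfl⟩ := hs y
        refine ⟨(pullback.diagonal f).base x, ⟨x, rfl⟩, ?_⟩
        rw [← Scheme.Hom.comp_apply, hcomm, Scheme.Hom.comp_apply]
      · rintro ⟨_, ⟨x, rfl⟩, rfl⟩
        refine ⟨p.base x, ?_⟩
        rw [← Scheme.Hom.comp_apply, ← hcomm, Scheme.Hom.comp_apply]
    have hcl : IsClosed (Set.range (pullback.diagonal q).base) := by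
      rw [hrange]
      exact m.isClosedMap _ (pullback.diagonal f).isClosedEmbedding.isClosed_range
    exact ⟨IsClosedImmersion.of_isPreimmersion _ hcl⟩
  · intro hq'
    haveI := hp.affine
    haveI : IsSeparated p := IsSeparated.of_isAffineHom p
    subst hq
    infer_instance

theorem part3 {Z : Scheme.{u}} (hp : SGA1.IsQuot ρ p) (f : X ⟶ Z) (q : Y ⟶ Z) (hq : p ≫ q = f)
    (hf : LocallyOfFiniteType f) : IsFinite p := by
  subst hq
  haveI : IsIntegralHom p := H5S13596.main ρ p hp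
  haveI : LocallyOfFiniteType p := locallyOfFiniteType_of_comp p q
  exact (IsFinite.iff_isIntegralHom_and_locallyOfFiniteType p).mpr ⟨inferInstance, inferInstance⟩

/-- Artin–Tate in ring-hom form. -/
lemma artin_tate {R B A : Type u} [CommRing R] [CommRing B] [CommRing A] [IsNoetherianRing R]
    (β : R →+* B) (φ : B →+* A) (hα : (φ.comp β).FiniteType) (hφi : Function.Injective φ)
    (hφint : φ.IsIntegral) : β.FiniteType := by
  letI := β.toAlgebra
  letI := φ.toAlgebra
  letI : Algebra R A := (φ.comp β).toAlgebra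
  haveI : IsScalarTower R B A := IsScalarTower.of_algebraMap_eq (fun _ => rfl)
  haveI hRA : Algebra.FiniteType R A := hα
  haveI : Algebra.IsIntegral B A := ⟨hφint⟩
  haveI : Algebra.FiniteType B A := Algebra.FiniteType.of_restrictScalars_finiteType R B A
  haveI : Module.Finite B A := Algebra.IsIntegral.finite
  have := fg_of_fg_of_fg R B A hRA.out Module.Finite.fg_top hφi
  exact ⟨this⟩

theorem part4 {Z : Scheme.{u}} (hp : SGA1.IsQuot ρ p) (f : X ⟶ Z) (q : Y ⟶ Z) (hq : p ≫ q = f)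
    (hZ : IsLocallyNoetherian Z) (hf : LocallyOfFiniteType f) (hqc : QuasiCompact f) :
    LocallyOfFiniteType q ∧ QuasiCompact q := by
  subst hq
  have hs : Function.Surjective p.base := (H5S2908.main ρ p hp).1
  have hpa : IsAffineHom p := hp.affine
  constructor
  · rw [HasRingHomProperty.iff_appLE (P := @LocallyOfFiniteType)]
    intro U V e
    haveI : IsNoetherianRing Γ(Z, U.1) := IsLocallyNoetherian.component_noetherian U
    have hV : IsAffineOpen (p ⁻¹ᵁ V.1) := V.2.preimage p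
    have e' : p ⁻¹ᵁ V.1 ≤ (p ≫ q) ⁻¹ᵁ U.1 := p.preimage_mono e
    have hα : ((p ≫ q).appLE U.1 (p ⁻¹ᵁ V.1) e').hom.FiniteType :=
      HasRingHomProperty.appLE (P := @LocallyOfFiniteType) (p ≫ q) hf U ⟨_, hV⟩ e'
    have hcomp : (p ≫ q).appLE U.1 (p ⁻¹ᵁ V.1) e' = q.appLE U.1 V.1 e ≫ p.app V.1 := by
      rw [Scheme.Hom.app_eq_appLE, Scheme.Hom.appLE_comp_appLE]
    rw [hcomp] at hα
    exact artin_tate (q.appLE U.1 V.1 e).hom (p.app V.1).hom hα (hp.injective V.1)
      (H5S13596.isIntegral_app ρ p hp V.1)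
  · rw [quasiCompact_iff_forall_isAffineOpen]
    intro U hU
    have hc : IsCompact ((p ≫ q) ⁻¹ᵁ U : Set X) := (p ≫ q).isCompact_preimage hU.isCompact
    have heq : (q ⁻¹ᵁ U : Set Y) = p.base '' ((p ≫ q) ⁻¹ᵁ U : Set X) := by
      ext y
      constructor
      · intro hy
        obtain ⟨x, rfl⟩ := hs y
        exact ⟨x, hy, rfl⟩
      · rintro ⟨x, hx, rfl⟩
        exact hx
    rw [heq]
    exact hc.image p.continuous

theorem main {Z : Scheme.{u}} (hp : SGA1.IsQuot ρ p) (f : X ⟶ Z) (q : Y ⟶ Z) (hq : p ≫ q = f)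
    (hρ : ∀ g : G, (ρ g).hom ≫ f = f) :
    (IsAffineHom f ↔ IsAffineHom q) ∧ (IsSeparated f ↔ IsSeparated q) ∧
    (LocallyOfFiniteType f → IsFinite p) ∧
    (IsLocallyNoetherian Z → LocallyOfFiniteType f → QuasiCompact f →
      LocallyOfFiniteType q ∧ QuasiCompact q) :=
  ⟨part1 ρ p hp f q hq, part2 ρ p hp f q hq, part3 ρ p hp f q hq, part4 ρ p hp f q hq⟩

end H5S2909

/-- Let a finite group G act on a scheme X by automorphisms over a scheme Z (structure morphism f), and
let p : X ⟶ Y be a quotient of X by G with Y ⟶ Z the induced morphism q (so p ≫ q = f). Then X is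
affine over Z iff Y is, X is separated over Z iff Y is; if f is locally of finite type then p is
finite; and if moreover Z is locally Noetherian and f quasi-compact then q is of finite type
(locally of finite type and quasi-compact). -/
theorem result {X Y Z : Scheme.{u}} {G : Type u} [Group G] [Finite G] (ρ : G →* Aut X)
    (p : X ⟶ Y) (hp : SGA1.IsQuot ρ p) (f : X ⟶ Z) (q : Y ⟶ Z) (hq : p ≫ q = f) (hρ : ∀ g : G, (ρ g).hom ≫ f = f) :
    (IsAffineHom f ↔ IsAffineHom q) ∧ (IsSeparated f ↔ IsSeparated q) ∧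
    (LocallyOfFiniteType f → IsFinite p) ∧
    (IsLocallyNoetherian Z → LocallyOfFiniteType f → QuasiCompact f → LocallyOfFiniteType q ∧ QuasiCompact q) := by
  exact H5S2909.main ρ p hp f q hq hρ

end Groth.Agent.S2909
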