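import Groth.Statements.S2913


set_option autoImplicit false
open CategoryTheory CategoryTheory.Limits AlgebraicGeometry Opposite
universe u
open SGA1

namespace Groth.Agent.S2913

/-- Let g : S' ⟶ S be a surjective morphism of schemes such that for every open U of S the map O_S(U) →
O_{S'}(g⁻¹U) is injective. Then g is an epimorphism in the category of schemes. -/
theorem result {S' S : Scheme.{u}} (g : S' ⟶ S) [Surjective g]
    (hinj : ∀ U : S.Opens, Function.Injective (g.app U).hom) : Epi g := by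
  constructor
  intro T a b hab
  have hbase : a.base = b.base := by
    ext x
    obtain ⟨y, rfl⟩ := g.surjective x
    have h1 : (g ≫ a) y = (g ≫ b) y := by rw [hab]
    simpa using h1
  refine Scheme.Hom.ext hbase ?_
  intro U
  have hle : b ⁻¹ᵁ U ≤ a ⁻¹ᵁ U := by
    intro x hx
    change a.base x ∈ U
    rw [hbase]
    exact hx
  have hmono : Mono (g.appLE (b ⁻¹ᵁ U) (g ⁻¹ᵁ (b ⁻¹ᵁ U)) le_rfl) := by
    rw [← Scheme.Hom.app_eq_appLE]
    exact ConcreteCategory.mono_of_injective _ (hinj (b ⁻¹ᵁ U))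
  have hcongr : ∀ (c d : S' ⟶ T) (_ : c = d) (W : S'.Opens) (e : W ≤ c ⁻¹ᵁ U)
      (e' : W ≤ d ⁻¹ᵁ U), c.appLE U W e = d.appLE U W e' := by
    intro c d h W e e'
    subst h
    rfl
  have h1 : a.app U ≫ S.presheaf.map (eqToHom congr((TopologicalSpace.Opens.map
      $hbase.symm).obj U)).op = a.appLE U (b ⁻¹ᵁ U) hle := by
    rw [Scheme.Hom.app_eq_appLE, Scheme.Hom.appLE_map]
  rw [h1, Scheme.Hom.app_eq_appLE (f := b),
    ← cancel_mono (g.appLE (b ⁻¹ᵁ U) (g ⁻¹ᵁ (b ⁻¹ᵁ U)) le_rfl),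
    Scheme.Hom.appLE_comp_appLE, Scheme.Hom.appLE_comp_appLE]
  exact hcongr _ _ hab _ _ _

end Groth.Agent.S2913
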