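import Groth.Statements.S2917
import Mathlib

set_option autoImplicit false
open CategoryTheory CategoryTheory.Limits AlgebraicGeometry Opposite
universe u
open SGA1

namespace Groth.Agent.S2917

open Limits MorphismProperty

lemma bc_comp {C : Type*} [Category C] (P : MorphismProperty C) [P.IsStableUnderBaseChange]
    {X Y T T' P0 P1 : C} {f : X ⟶ Y} {h : T ⟶ Y} {h' : T' ⟶ T}
    {a : P1 ⟶ X} {b : P1 ⟶ T'} {a0 : P0 ⟶ X} {b0 : P0 ⟶ T}
    (sq : IsPullback a b f (h' ≫ h)) (sq0 : IsPullback a0 b0 f h) (hP : P b0) : P b := by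
  have hw : a ≫ f = (b ≫ h') ≫ h := by rw [sq.w, Category.assoc]
  have sq' : IsPullback (sq0.lift a (b ≫ h') hw) b b0 h' := by
    refine IsPullback.of_right ?_ (sq0.lift_snd _ _ _) sq0
    rw [sq0.lift_fst]
    exact sq
  exact MorphismProperty.of_isPullback sq' hP

instance : (SGA1.UnivSubmersive.{u}).IsStableUnderBaseChange := by
  unfold SGA1.UnivSubmersive; infer_instance

lemma quot_of_univSubmersive {X Y : Scheme.{u}} {h : X ⟶ Y} (hh : SGA1.UnivSubmersive h) :
    Topology.IsQuotientMap h.base :=
  hh _ _ _ IsPullback.of_id_snd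

lemma isOpenMap_desc {X Y X' Y' : Scheme.{u}} {pX : X' ⟶ X} {f' : X' ⟶ Y'} {f : X ⟶ Y} {h : Y' ⟶ Y}
    (sq : IsPullback pX f' f h) (hq : Topology.IsQuotientMap h.base) (hf' : IsOpenMap f'.base) :
    IsOpenMap f.base := by
  intro U hU
  rw [← hq.isOpen_preimage, ← Scheme.image_preimage_eq_of_isPullback sq]
  exact hf' _ (hU.preimage pX.continuous)

lemma isClosedMap_desc {X Y X' Y' : Scheme.{u}} {pX : X' ⟶ X} {f' : X' ⟶ Y'} {f : X ⟶ Y}
    {h : Y' ⟶ Y}
    (sq : IsPullback pX f' f h) (hq : Topology.IsQuotientMap h.base) (hf' : IsClosedMap f'.base) :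
    IsClosedMap f.base := by
  intro U hU
  rw [← hq.isClosed_preimage, ← Scheme.image_preimage_eq_of_isPullback sq]
  exact hf' _ (hU.preimage pX.continuous)

lemma univ_desc (T : ∀ {α β : Type u} [TopologicalSpace α] [TopologicalSpace β], (α → β) → Prop)
    (hT : ∀ {X Y X' Y' : Scheme.{u}} {pX : X' ⟶ X} {f' : X' ⟶ Y'} {f : X ⟶ Y} {h : Y' ⟶ Y},
      IsPullback pX f' f h → Topology.IsQuotientMap h.base → T f'.base → T f.base)
    {X Y X' Y' : Scheme.{u}} {pX : X' ⟶ X} {f' : X' ⟶ Y'} {f : X ⟶ Y} {h : Y' ⟶ Y}
    (sq : IsPullback pX f' f h) (hh : SGA1.UnivSubmersive h)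
    (hf' : universally (topologically T) f') : universally (topologically T) f := by
  intro T₁ T₀ i₁ i₂ fT sqT
  have hq : Topology.IsQuotientMap (pullback.fst i₂ h).base :=
    quot_of_univSubmersive (MorphismProperty.pullback_fst _ _ hh)
  have sqF := IsPullback.of_hasPullback fT (pullback.fst i₂ h)
  have big := sqF.paste_horiz sqT.flip
  rw [pullback.condition] at big
  have h1 : universally (topologically T) (pullback.snd fT (pullback.fst i₂ h)) :=
    bc_comp _ big sq hf'
  have h2 : T (pullback.snd fT (pullback.fst i₂ h)).base := h1 _ _ _ IsPullback.of_id_snd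
  exact hT sqF hq h2

/-- closed range -/
def ClRange : MorphismProperty Scheme.{u} := fun _ _ f => IsClosed (Set.range f.base)

instance : (ClRange.{u}).RespectsIso := by
  apply MorphismProperty.RespectsIso.mk
  · intro X Y Z e f hf
    change IsClosed (Set.range (e.hom ≫ f).base)
    have : Set.range (e.hom ≫ f).base = Set.range f.base := by
      rw [Scheme.Hom.comp_base, TopCat.coe_comp, Set.range_comp,
        Set.range_eq_univ.2 e.hom.surjective, Set.image_univ]
    rw [this]; exact hf
  · intro X Y Z e f hf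
    change IsClosed (Set.range (f ≫ e.hom).base)
    have : Set.range (f ≫ e.hom).base = e.hom.base '' Set.range f.base := by
      rw [Scheme.Hom.comp_base, TopCat.coe_comp, Set.range_comp]
    rw [this]
    exact e.hom.homeomorph.isClosedMap _ hf

instance : (ClRange.{u}).DescendsAlong SGA1.UnivSubmersive.{u} where
  of_isPullback {A X Y Z fst snd f g} sq hf hfst := by
    have hq := quot_of_univSubmersive hf
    change IsClosed (Set.range g.base)
    rw [← hq.isClosed_preimage, ← Set.image_univ,
      ← Scheme.image_preimage_eq_of_isPullback sq.flip, Set.preimage_univ, Set.image_univ]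
    exact hfst

lemma sep_desc {X Y X' Y' : Scheme.{u}} {pX : X' ⟶ X} {f' : X' ⟶ Y'} {f : X ⟶ Y} {h : Y' ⟶ Y}
    (sq : IsPullback pX f' f h) (hh : SGA1.UnivSubmersive h) (hf' : IsSeparated f') :
    IsSeparated f := by
  have h1 : ClRange.diagonal f' := (pullback.diagonal f').isClosedEmbedding.isClosed_range
  have h2 : ClRange.diagonal f :=
    MorphismProperty.of_isPullback_of_descendsAlong (P := ClRange.diagonal)
      (Q := SGA1.UnivSubmersive) sq.flip hh h1
  exact ⟨IsClosedImmersion.of_isPreimmersion (pullback.diagonal f) h2⟩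

theorem result' {S' S X Y : Scheme.{u}} (g : S' ⟶ S) (hg : SGA1.UnivSubmersive g)
    (f : X ⟶ Y) (q : Y ⟶ S) :
    (IsOpenMap (pullback.map (f ≫ q) g q g f (𝟙 S') (𝟙 S) (Category.comp_id _) ((Category.comp_id _).trans (Category.id_comp _).symm)).base → IsOpenMap f.base) ∧
    (IsClosedMap (pullback.map (f ≫ q) g q g f (𝟙 S') (𝟙 S) (Category.comp_id _) ((Category.comp_id _).trans (Category.id_comp _).symm)).base → IsClosedMap f.base) ∧
    (UniversallyOpen (pullback.map (f ≫ q) g q g f (𝟙 S') (𝟙 S) (Category.comp_id _) ((Category.comp_id _).trans (Category.id_comp _).symm)) → UniversallyOpen f) ∧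
    (UniversallyClosed (pullback.map (f ≫ q) g q g f (𝟙 S') (𝟙 S) (Category.comp_id _) ((Category.comp_id _).trans (Category.id_comp _).symm)) → UniversallyClosed f) ∧
    (IsSeparated (pullback.map (f ≫ q) g q g f (𝟙 S') (𝟙 S) (Category.comp_id _) ((Category.comp_id _).trans (Category.id_comp _).symm)) → IsSeparated f) ∧
    (QuasiCompact g → LocallyOfFiniteType f →
      IsProper (pullback.map (f ≫ q) g q g f (𝟙 S') (𝟙 S) (Category.comp_id _) ((Category.comp_id _).trans (Category.id_comp _).symm)) → IsProper f) := by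
  set F' := pullback.map (f ≫ q) g q g f (𝟙 S') (𝟙 S) (Category.comp_id _)
    ((Category.comp_id _).trans (Category.id_comp _).symm) with hF'
  have hF1 : F' ≫ pullback.snd q g = pullback.snd (f ≫ q) g := by
    rw [hF']; exact (pullback.lift_snd _ _ _).trans (Category.comp_id _)
  have hF2 : F' ≫ pullback.fst q g = pullback.fst (f ≫ q) g ≫ f := by
    rw [hF']; exact pullback.lift_fst _ _ _
  have sq : IsPullback (pullback.fst (f ≫ q) g) F' f (pullback.fst q g) := by
    refine IsPullback.of_bot ?_ hF2.symm (IsPullback.of_hasPullback q g)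
    rw [hF1]
    exact IsPullback.of_hasPullback (f ≫ q) g
  have hh : SGA1.UnivSubmersive (pullback.fst q g) := MorphismProperty.pullback_fst _ _ hg
  have hq := quot_of_univSubmersive hh
  have h3 : UniversallyOpen F' → UniversallyOpen f := fun h =>
    ⟨univ_desc @IsOpenMap (fun sq hq h => isOpenMap_desc sq hq h) sq hh h.universally_isOpenMap⟩
  have h4 : UniversallyClosed F' → UniversallyClosed f := fun h =>
    ⟨univ_desc @IsClosedMap (fun sq hq h => isClosedMap_desc sq hq h) sq hh
      h.universally_isClosedMap⟩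
  have h5 : IsSeparated F' → IsSeparated f := sep_desc sq hh
  refine ⟨isOpenMap_desc sq hq, isClosedMap_desc sq hq, h3, h4, h5, fun _ hlft hp => ?_⟩
  exact { toIsSeparated := h5 hp.toIsSeparated
          toUniversallyClosed := h4 hp.toUniversallyClosed
          toLocallyOfFiniteType := hlft }

/-- Let g : S' ⟶ S be universally submersive, f : X ⟶ Y a morphism of S-schemes (Y ⟶ S the structure
map) and f' its base change along S' ⟶ S, realised as X ×_S S' ⟶ Y ×_S S'. If f' is open (resp.
closed) then so is f; if f' is universally open (resp. universally closed, resp. separated) then so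
is f; and if moreover g is quasi-compact and f locally of finite type, then f is proper as soon as
f' is. -/
theorem result {S' S X Y : Scheme.{u}} (g : S' ⟶ S) (hg : SGA1.UnivSubmersive g)
    (f : X ⟶ Y) (q : Y ⟶ S) :
    (IsOpenMap (pullback.map (f ≫ q) g q g f (𝟙 S') (𝟙 S) (Category.comp_id _) ((Category.comp_id _).trans (Category.id_comp _).symm)).base → IsOpenMap f.base) ∧
    (IsClosedMap (pullback.map (f ≫ q) g q g f (𝟙 S') (𝟙 S) (Category.comp_id _) ((Category.comp_id _).trans (Category.id_comp _).symm)).base → IsClosedMap f.base) ∧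
    (UniversallyOpen (pullback.map (f ≫ q) g q g f (𝟙 S') (𝟙 S) (Category.comp_id _) ((Category.comp_id _).trans (Category.id_comp _).symm)) → UniversallyOpen f) ∧
    (UniversallyClosed (pullback.map (f ≫ q) g q g f (𝟙 S') (𝟙 S) (Category.comp_id _) ((Category.comp_id _).trans (Category.id_comp _).symm)) → UniversallyClosed f) ∧
    (IsSeparated (pullback.map (f ≫ q) g q g f (𝟙 S') (𝟙 S) (Category.comp_id _) ((Category.comp_id _).trans (Category.id_comp _).symm)) → IsSeparated f) ∧
    (QuasiCompact g → LocallyOfFiniteType f →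
      IsProper (pullback.map (f ≫ q) g q g f (𝟙 S') (𝟙 S) (Category.comp_id _) ((Category.comp_id _).trans (Category.id_comp _).symm)) → IsProper f) := by
  exact result' g hg f q

end Groth.Agent.S2917
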