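import Groth.Statements.S2965


set_option autoImplicit false
universe u
open SGA3t2b

namespace Groth.Agent.S2965

open Polynomial in
/-- Implication (iv) ⇒ (i) (global form, finite free module): let u be an endomorphism of a finite free
module M over a commutative ring A whose characteristic polynomial is X^r · Q with Q(0) invertible.
Then M is the direct sum of two u-stable submodules M', M'' such that u is nilpotent on M' and
bijective on M''. -/
theorem result {A : Type u} [CommRing A] {M : Type u} [AddCommGroup M] [Module A M]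
    [Module.Free A M] [Module.Finite A M] (u : M →ₗ[A] M) (r : ℕ) (Q : A[X]) (hQ : IsUnit (Q.coeff 0))
    (h : u.charpoly = X ^ r * Q) :
    ∃ M' M'' : Submodule A M, IsCompl M' M'' ∧ (∀ x ∈ M', u x ∈ M') ∧ (∀ x ∈ M'', u x ∈ M'') ∧
      (∃ n : ℕ, ∀ x ∈ M', (u ^ n) x = 0) ∧ Set.BijOn u M'' M'' := by
  classical
  obtain ⟨c, hc⟩ := hQ.exists_left_inv
  have hQd : Q.divX * Polynomial.X + Polynomial.C (Q.coeff 0) = Q := Polynomial.divX_mul_X_add Q
  have hcopX : IsCoprime (Polynomial.X : Polynomial A) Q := by
    refine ⟨-(Polynomial.C c * Q.divX), Polynomial.C c, ?_⟩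
    have : Polynomial.C c * Polynomial.C (Q.coeff 0) = 1 := by
      rw [← Polynomial.C_mul, hc, Polynomial.C_1]
    calc -(Polynomial.C c * Q.divX) * Polynomial.X + Polynomial.C c * Q
        = -(Polynomial.C c * Q.divX) * Polynomial.X +
            Polynomial.C c * (Q.divX * Polynomial.X + Polynomial.C (Q.coeff 0)) := by rw [hQd]
      _ = 1 := by linear_combination this
  have hcop : IsCoprime ((Polynomial.X : Polynomial A) ^ r) Q := hcopX.pow_left
  have hcomm : ∀ (p q : Polynomial A) (x : M),
      Polynomial.aeval u p (Polynomial.aeval u q x) = Polynomial.aeval u q (Polynomial.aeval u p x) := by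
    intro p q x
    rw [← Module.End.mul_apply, ← Module.End.mul_apply, ← Polynomial.aeval_mul,
      ← Polynomial.aeval_mul, mul_comm]
  have hu : ∀ x, Polynomial.aeval u (Polynomial.X : Polynomial A) x = u x := by
    intro x; rw [Polynomial.aeval_X]
  have hstab : ∀ (p q : Polynomial A) (x : M), x ∈ LinearMap.ker (Polynomial.aeval u p) →
      Polynomial.aeval u q x ∈ LinearMap.ker (Polynomial.aeval u p) := by
    intro p q x hx
    rw [LinearMap.mem_ker] at hx ⊢
    rw [hcomm, hx, map_zero]
  have hQu : ∀ x : M, Polynomial.aeval u Q x =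
      u (Polynomial.aeval u Q.divX x) + (Q.coeff 0) • x := by
    intro x
    have hQd' : Polynomial.aeval u Q = Polynomial.aeval u (Q.divX * Polynomial.X +
        Polynomial.C (Q.coeff 0)) := by rw [hQd]
    rw [hQd', map_add, Polynomial.aeval_mul, LinearMap.add_apply, Module.End.mul_apply, Polynomial.aeval_C,
      Module.algebraMap_end_apply, ← hu, hcomm, hu]
  refine ⟨LinearMap.ker (Polynomial.aeval u ((Polynomial.X : Polynomial A) ^ r)),
    LinearMap.ker (Polynomial.aeval u Q), ⟨?_, ?_⟩, ?_, ?_, ?_, ?_⟩
  · exact Polynomial.disjoint_ker_aeval_of_isCoprime u hcop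
  · rw [codisjoint_iff, Polynomial.sup_ker_aeval_eq_ker_aeval_mul_of_coprime u hcop, ← h,
      LinearMap.aeval_self_charpoly, LinearMap.ker_zero]
  · intro x hx
    rw [← hu]
    exact hstab _ _ x hx
  · intro x hx
    rw [← hu]
    exact hstab _ _ x hx
  · refine ⟨r, fun x hx => ?_⟩
    rw [LinearMap.mem_ker, Polynomial.aeval_X_pow] at hx
    exact hx
  · refine ⟨?_, ?_, ?_⟩
    · intro x hx
      rw [← hu]
      exact hstab _ _ x hx
    · intro x hx y hy hxy
      have hz : x - y ∈ LinearMap.ker (Polynomial.aeval u Q) := Submodule.sub_mem _ hx hy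
      have huz : u (x - y) = 0 := by rw [map_sub, hxy, sub_self]
      rw [LinearMap.mem_ker, hQu, ← hu, ← hcomm, hu, huz, map_zero, zero_add] at hz
      have : x - y = 0 := by
        have h1 : c • ((Q.coeff 0) • (x - y)) = 0 := by rw [hz, smul_zero]
        rwa [smul_smul, hc, one_smul] at h1
      exact sub_eq_zero.mp this
    · intro y hy
      refine ⟨-(c • Polynomial.aeval u Q.divX y), ?_, ?_⟩
      · exact Submodule.neg_mem _ (Submodule.smul_mem _ _ (hstab _ _ y hy))
      · have hy' : Polynomial.aeval u Q y = 0 := hy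
        rw [hQu] at hy'
        have h1 : u (Polynomial.aeval u Q.divX y) = -((Q.coeff 0) • y) := eq_neg_of_add_eq_zero_left hy'
        rw [map_neg, map_smul, h1, smul_neg, neg_neg, smul_smul, hc, one_smul]

end Groth.Agent.S2965
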