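import Groth.Statements.S2966
import Groth.Agent.Lib.helper12.Prim
import Groth.Prelude.Def_GLin2
import Groth.Prelude.Def_ComodSub

set_option autoImplicit false
universe u
open scoped TensorProduct
open SGA3t2b

namespace Groth.Agent.S2966

open TensorProduct Groth.Agent.H12Prim Groth.Agent.H12Comod

section aux
variable {k : Type u} [Field k] {A B : Type u} [CommRing A] [CommRing B] [HopfAlgebra k A]
  [HopfAlgebra k B]

lemma map_map_rTensor_subtype (φ : A →ₐc[k] B) (W : Submodule k A) (t : W ⊗[k] A) :
    TensorProduct.map (φ : A →ₗ[k] B) (φ : A →ₗ[k] B) (W.subtype.rTensor A t) =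
      TensorProduct.map ((φ : A →ₗ[k] B) ∘ₗ W.subtype) (φ : A →ₗ[k] B) t := by
  induction t using TensorProduct.induction_on with
  | zero => simp
  | add x y hx hy => simp only [map_add, hx, hy]
  | tmul w a => simp

lemma comul_map_sub (φ : A →ₐc[k] B) (W : Submodule k A)
    (hW : HopfRep.IsSubcomod (k := k) (A := A) W) (w : W) :
    CoalgebraStruct.comul (R := k) (φ (w : A)) =
      TensorProduct.map ((φ : A →ₗ[k] B) ∘ₗ W.subtype) (φ : A →ₗ[k] B)
        ((ComodSub.Comod.restr (HopfRep.Comod.regular k A) W hW).coact w) := by
  rw [← map_map_rTensor_subtype, ComodSub.restr_coact_coe]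
  exact (CoalgHomClass.map_comp_comul_apply φ (w : A)).symm

end aux

/-- In Hopf-algebra form (with unipotent taken in the representation-theoretic sense: affine and every
non-zero finite-dimensional representation has a non-zero fixed vector): let k be a field, A_M the
coordinate Hopf algebra of an affine k-group M of finite type which is of multiplicative type in the
sense that it becomes diagonalisable over an algebraic closure of k, and A_U that of a unipotent
affine k-group U of finite type. Then (i) every homomorphism M -> U and (ii) every homomorphism U ->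
M is trivial: every bialgebra map A_U -> A_M, resp. A_M -> A_U, factors through the counit. -/
theorem result {k : Type u} [Field k] {AM AU : Type u} [CommRing AM] [CommRing AU]
    [HopfAlgebra k AM] [HopfAlgebra k AU] [Algebra.FiniteType k AM] [Algebra.FiniteType k AU]
    (hM : HopfRep.IsDiagonalizable (AlgebraicClosure k) (AlgebraicClosure k ⊗[k] AM)) (hU : HopfRep.IsUnipotent k AU) :
    (∀ φ : AU →ₐc[k] AM, SGA3t2b.IsTrivialBialgHom φ) ∧ (∀ ψ : AM →ₐc[k] AU, SGA3t2b.IsTrivialBialgHom ψ) := by
  classical
  refine ⟨?_, ?_⟩
  · intro φ a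
    obtain ⟨W, hfin, haW, hW⟩ := exists_finite_subcomod (k := k) (C := AU) (V := AU) a
    letI cW : HopfRep.Comod k AU W := ComodSub.Comod.restr (HopfRep.Comod.regular k AU) W hW
    haveI := hfin
    have key := eq_counit_smul_one (k := k) (A := AU) (B := AM) hU W
      ((φ : AU →ₗ[k] AM) ∘ₗ W.subtype) (φ : AU →ₗ[k] AM) (map_one φ)
      (fun w => comul_map_sub φ W hW w)
      (fun v c hp => eq_zero_of_isPrim_of_isDiagonalizable (AlgebraicClosure k) hM hp)
    have h := key ⟨a, haW⟩
    simp only [LinearMap.comp_apply, Submodule.subtype_apply] at h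
    have h2 : CoalgebraStruct.counit (R := k) (φ a) = CoalgebraStruct.counit (R := k) a :=
      CoalgHomClass.counit_comp_apply φ a
    rw [Algebra.algebraMap_eq_smul_one, ← h2]
    exact h
  · intro ψ a
    obtain ⟨W, hfin, haW, hW⟩ := exists_finite_subcomod (k := k) (C := AM) (V := AM) a
    let cW : HopfRep.Comod k AM W := ComodSub.Comod.restr (HopfRep.Comod.regular k AM) W hW
    letI cW' : HopfRep.Comod k AU W := GLin.comodAlong ψ cW
    haveI := hfin
    have h1 : ∀ w : W, CoalgebraStruct.comul (R := k) (((ψ : AM →ₗ[k] AU) ∘ₗ W.subtype) w) =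
        TensorProduct.map ((ψ : AM →ₗ[k] AU) ∘ₗ W.subtype) (LinearMap.id : AU →ₗ[k] AU)
          (cW'.coact w) := by
      intro w
      have := comul_map_sub ψ W hW w
      simp only [LinearMap.comp_apply, Submodule.subtype_apply]
      refine this.trans ?_
      show _ = TensorProduct.map _ _ (TensorProduct.map LinearMap.id (ψ : AM →ₗ[k] AU) (cW.coact w))
      generalize cW.coact w = t
      induction t using TensorProduct.induction_on with
      | zero => simp
      | add x y hx hy => simp only [map_add, hx, hy]
      | tmul w a => simp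
    have h3 : ∀ (v : W) (c : k), IsPrim k (((ψ : AM →ₗ[k] AU) ∘ₗ W.subtype) v - c • (1 : AU)) →
        ((ψ : AM →ₗ[k] AU) ∘ₗ W.subtype) v - c • (1 : AU) = 0 := by
      intro v c hp
      set x' := ((ψ : AM →ₗ[k] AU) ∘ₗ W.subtype) v - c • (1 : AU) with hx'
      have hb : x' = ψ ((v : AM) - c • 1) := by
        rw [hx', map_sub, map_smul, map_one]
        rfl
      apply eq_zero_of_tmul_eq_zero (k := k) (AlgebraicClosure k)
      apply eq_zero_of_isPrim_of_mem_span (K := AlgebraicClosure k)
      · let ψK : AlgebraicClosure k ⊗[k] AM →ₐc[AlgebraicClosure k] AlgebraicClosure k ⊗[k] AU :=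
          Bialgebra.TensorProduct.map (BialgHom.id (AlgebraicClosure k) (AlgebraicClosure k)) ψ
        have h5 : ((1 : AlgebraicClosure k) ⊗ₜ[k] x' : AlgebraicClosure k ⊗[k] AU) =
            ψK ((1 : AlgebraicClosure k) ⊗ₜ[k] ((v : AM) - c • 1)) := by
          rw [hb]
          rfl
        rw [h5]
        have hmem : ((1 : AlgebraicClosure k) ⊗ₜ[k] ((v : AM) - c • 1) :
            AlgebraicClosure k ⊗[k] AM) ∈
            Submodule.span (AlgebraicClosure k)
              {a : AlgebraicClosure k ⊗[k] AM | IsGroupLikeElem (AlgebraicClosure k) a} := by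
          have : Submodule.span (AlgebraicClosure k)
              {a : AlgebraicClosure k ⊗[k] AM | IsGroupLikeElem (AlgebraicClosure k) a} = ⊤ := hM
          rw [this]; trivial
        generalize ((1 : AlgebraicClosure k) ⊗ₜ[k] ((v : AM) - c • 1) :
            AlgebraicClosure k ⊗[k] AM) = z at hmem
        induction hmem using Submodule.span_induction with
        | mem g hg =>
          exact Submodule.subset_span (IsGroupLikeElem.map ψK hg)
        | zero => rw [map_zero]; exact Submodule.zero_mem _
        | add y z _ _ hy hz => rw [map_add]; exact Submodule.add_mem _ hy hz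
        | smul r y _ hy => rw [map_smul]; exact Submodule.smul_mem _ _ hy
      · exact isPrim_baseChange (AlgebraicClosure k) hp
    have key := eq_counit_smul_one (k := k) (A := AU) (B := AU) hU W
      ((ψ : AM →ₗ[k] AU) ∘ₗ W.subtype) (LinearMap.id : AU →ₗ[k] AU) rfl h1 h3
    have h := key ⟨a, haW⟩
    simp only [LinearMap.comp_apply, Submodule.subtype_apply] at h
    have h2 : CoalgebraStruct.counit (R := k) (ψ a) = CoalgebraStruct.counit (R := k) a :=
      CoalgHomClass.counit_comp_apply ψ a
    rw [Algebra.algebraMap_eq_smul_one, ← h2]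
    exact h

end Groth.Agent.S2966
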