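import Groth.Statements.S2967


set_option autoImplicit false
universe u
open SGA3t2b

namespace Groth.Agent.S2967

/-- A commutative p-Lie algebra over a field k of characteristic p is recorded as a k-vector space g
together with its p-th power map φ, which is additive and Frobenius-semilinear. Let g be
finite-dimensional and non-zero, and assume every element of g is killed by some iterate of φ (g is
unipotent). Then the k-subspace of g spanned by the image φ(g) is a proper subspace. -/
theorem result {k : Type u} [Field k] (p : ℕ) [Fact p.Prime] [CharP k p]
    {V : Type u} [AddCommGroup V] [Module k V] [FiniteDimensional k V] [Nontrivial V]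
    (φ : V →ₛₗ[frobenius k p] V) (hφ : ∀ x : V, ∃ n : ℕ, φ^[n] x = 0) :
    Submodule.span k (Set.range φ) ≠ ⊤ := by
  classical
  have hadd : ∀ n x y, φ^[n] (x + y) = φ^[n] x + φ^[n] y := by
    intro n
    induction n with
    | zero => intro x y; rfl
    | succ n ih =>
      intro x y
      rw [Function.iterate_succ_apply, Function.iterate_succ_apply, Function.iterate_succ_apply,
        map_add, ih]
  have hzero : ∀ n, φ^[n] 0 = 0 := by
    intro n
    induction n with
    | zero => rfl
    | succ n ih => rw [Function.iterate_succ_apply, map_zero, ih]
  have hsmul : ∀ n (c : k) x, φ^[n] (c • x) = (c ^ p ^ n) • φ^[n] x := by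
    intro n
    induction n with
    | zero => intro c x; simp
    | succ n ih =>
      intro c x
      rw [Function.iterate_succ_apply, Function.iterate_succ_apply, map_smulₛₗ, ih, frobenius_def,
        ← pow_mul, pow_succ']
  intro htop
  have hspan : ∀ n, Submodule.span k (Set.range φ^[n]) = ⊤ := by
    intro n
    induction n with
    | zero => simp
    | succ n ih =>
      rw [eq_top_iff, ← ih, Submodule.span_le]
      rintro _ ⟨x, rfl⟩
      have hx : x ∈ Submodule.span k (Set.range φ) := htop ▸ Submodule.mem_top
      induction hx using Submodule.span_induction with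
      | mem y hy =>
        obtain ⟨z, rfl⟩ := hy
        exact Submodule.subset_span ⟨z, by rw [Function.iterate_succ_apply]⟩
      | zero => rw [hzero]; exact Submodule.zero_mem _
      | add y z _ _ hy hz => rw [hadd]; exact Submodule.add_mem _ hy hz
      | smul c y _ hy => rw [hsmul]; exact Submodule.smul_mem _ _ hy
  let b := Module.finBasis k V
  choose n hn using fun i => hφ (b i)
  set N := Finset.univ.sup n with hN
  have hb : ∀ i, φ^[N] (b i) = 0 := by
    intro i
    have hle : n i ≤ N := Finset.le_sup (Finset.mem_univ i)
    rw [← Nat.sub_add_cancel hle, Function.iterate_add_apply, hn, hzero]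
  have hall : ∀ x, φ^[N] x = 0 := by
    intro x
    have hx : x ∈ Submodule.span k (Set.range b) := by rw [b.span_eq]; exact Submodule.mem_top
    induction hx using Submodule.span_induction with
    | mem y hy => obtain ⟨i, rfl⟩ := hy; exact hb i
    | zero => exact hzero N
    | add y z _ _ hy hz => rw [hadd, hy, hz, add_zero]
    | smul c y _ hy => rw [hsmul, hy, smul_zero]
  obtain ⟨v, hv⟩ := exists_ne (0 : V)
  have hvmem : v ∈ Submodule.span k (Set.range φ^[N]) := by rw [hspan N]; exact Submodule.mem_top
  have hle : Submodule.span k (Set.range φ^[N]) ≤ ⊥ := by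
    rw [Submodule.span_le]
    rintro _ ⟨x, rfl⟩
    rw [hall x]
    exact Submodule.zero_mem _
  exact hv ((Submodule.mem_bot k).mp (hle hvmem))

end Groth.Agent.S2967
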