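import Groth.Statements.S2978


set_option autoImplicit false
universe u
open SGA3b

namespace Groth.Agent.S2978

/-- Let A be a Noetherian ring, M a set and a : M × M → A a family vanishing off the diagonal which is a
finite sum of decomposable families: a(m, m') = Σ_i b_i(m) c_i(m') for finitely many b_i, c_i : M →
A. Then a has finite support. -/
theorem result (A : Type u) [CommRing A] [IsNoetherianRing A] (M : Type u)
    (a : M × M → A) (hdiag : ∀ m m', m ≠ m' → a (m, m') = 0)
    (ι : Type u) [Fintype ι] (b c : ι → M → A) (hdec : ∀ m m', a (m, m') = ∑ i, b i m * c i m') :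
    Set.Finite {p : M × M | a p ≠ 0} := by
  classical
  rcases isEmpty_or_nonempty M with hM | hM
  · exact Set.toFinite _
  let B : M → (ι → A) := fun m i => b i m
  let φ : M → ((ι → A) →ₗ[A] A) := fun m' => ∑ i, (c i m') • LinearMap.proj i
  have hφ : ∀ m m', φ m' (B m) = a (m, m') := by
    intro m m'
    simp only [φ, B, hdec, LinearMap.sum_apply, LinearMap.smul_apply, LinearMap.proj_apply,
      smul_eq_mul]
    exact Finset.sum_congr rfl fun i _ => mul_comm _ _
  have hfg : (Submodule.span A (Set.range B)).FG := IsNoetherian.noetherian _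
  obtain ⟨s', hs's, hs'⟩ := (Submodule.fg_span_iff_fg_span_finset_subset _).mp hfg
  have hex : ∀ v ∈ (s' : Set (ι → A)), ∃ m, B m = v := fun v hv => hs's hv
  choose! g hg using hex
  refine Set.Finite.subset ((s'.image g).finite_toSet.image (fun m => (m, m))) ?_
  rintro ⟨m, m'⟩ hp
  change a (m, m') ≠ 0 at hp
  by_cases hmm : m = m'
  · subst hmm
    by_contra hnot
    have hmS : m ∉ s'.image g := fun h => hnot ⟨m, h, rfl⟩
    have hle : Submodule.span A (s' : Set (ι → A)) ≤ LinearMap.ker (φ m) := by
      rw [Submodule.span_le]
      intro v hv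
      have hne : g v ≠ m := by
        rintro rfl
        exact hmS (Finset.mem_image_of_mem g hv)
      rw [SetLike.mem_coe, LinearMap.mem_ker, ← hg v hv, hφ]
      exact hdiag _ _ hne
    have hmem : B m ∈ Submodule.span A (Set.range B) := Submodule.subset_span ⟨m, rfl⟩
    rw [hs'] at hmem
    have := hle hmem
    rw [LinearMap.mem_ker, hφ] at this
    exact hp this
  · exact absurd (hdiag m m' hmm) hp

end Groth.Agent.S2978
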