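import Groth.Statements.S3015
import Groth.Agent.Lib.helper29.ArtinOpen
import Mathlib

set_option autoImplicit false
universe u
open CategoryTheory MonoidalCategory CartesianMonoidalCategory MonObj GrpObj AlgebraicGeometry TensorProduct
open SGA3

namespace Groth.Agent.S3015

open Limits
open Groth.Agent.Lib.helper29.ArtinOpen

set_option linter.style.haveILetI false in
theorem main (A : Type u) [CommRing A] [IsArtinianRing A] [IsLocalRing A]
    (G : Over (Spec (CommRingCat.of A))) [GrpObj G]
    (U V : G.left.Opens) (hU : Dense (U : Set G.left)) (hV : Dense (V : Set G.left)) :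
    μ[G].left '' ((fst G G).left ⁻¹' (U : Set G.left) ∩ (snd G G).left ⁻¹' (V : Set G.left)) = Set.univ := by
  rw [Set.eq_univ_iff_forall]
  intro x
  let T : Over (Spec (CommRingCat.of A)) := Over.mk (G.left.fromSpecResidueField x ≫ G.hom)
  let xt : T ⟶ G := Over.homMk (G.left.fromSpecResidueField x) rfl
  let ψ : T ⊗ G ⟶ G := (snd T G)⁻¹ * (fst T G ≫ xt)
  let Γ : T ⊗ G ⟶ G ⊗ G := lift (snd T G) ψ
  have hΓμ : Γ ≫ μ[G] = fst T G ≫ xt := by
    rw [← Hom.mul_def]
    simp [ψ]
  let α : T ⊗ G ⟶ T ⊗ G := lift (fst T G) ψ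
  let β : T ⊗ G ⟶ T ⊗ G := lift (fst T G) ((fst T G ≫ xt) * (snd T G)⁻¹)
  have hαβ : α ≫ β = 𝟙 _ := by
    apply CartesianMonoidalCategory.hom_ext
    · simp [α, β]
    · simp [α, β, ψ, MonObj.comp_mul, GrpObj.comp_inv]
  have hβα : β ≫ α = 𝟙 _ := by
    apply CartesianMonoidalCategory.hom_ext
    · simp [α, β]
    · simp [α, β, ψ, MonObj.comp_mul, GrpObj.comp_inv]
  have hψ : ψ = α ≫ snd T G := by simp [α]
  haveI : UniversallyOpen T.hom := univOpen_artin A T.hom
  have hopen_snd : IsOpenMap (snd T G).left.base := by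
    rw [Over.snd_left]
    exact (pullback.snd T.hom G.hom).isOpenMap
  have hopen_α : IsOpenMap α.left.base := by
    haveI : IsIso α := ⟨β, hαβ, hβα⟩
    haveI : IsIso α.left := (Over.forget _).map_isIso α
    exact α.left.isOpenMap
  have hopen_ψ : IsOpenMap ψ.left.base := by
    rw [hψ, Over.comp_left, Scheme.Hom.comp_base]
    exact hopen_snd.comp hopen_α
  have hd1 : Dense ((snd T G).left.base ⁻¹' (U : Set G.left)) := hU.preimage hopen_snd
  have hd2 : Dense (ψ.left.base ⁻¹' (V : Set G.left)) := hV.preimage hopen_ψ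
  have ho2 : IsOpen (ψ.left.base ⁻¹' (V : Set G.left)) := V.isOpen.preimage ψ.left.continuous
  have hd := hd1.inter_of_isOpen_right hd2 ho2
  -- nonempty
  haveI : Surjective T.hom := by
    constructor
    intro y
    exact ⟨IsLocalRing.closedPoint _, Subsingleton.elim _ _⟩
  haveI : Surjective (pullback.snd T.hom G.hom) := inferInstance
  obtain ⟨w₀, -⟩ := (pullback.snd T.hom G.hom).surjective x
  haveI : Nonempty ↥(T ⊗ G).left := ⟨w₀⟩
  obtain ⟨w, hw1, hw2⟩ := hd.nonempty
  refine ⟨Γ.left.base w, ⟨?_, ?_⟩, ?_⟩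
  · show (fst G G).left.base (Γ.left.base w) ∈ (U : Set G.left)
    rw [← Scheme.Hom.comp_apply, ← Over.comp_left]
    have : Γ ≫ fst G G = snd T G := by simp [Γ]
    rw [this]; exact hw1
  · show (snd G G).left.base (Γ.left.base w) ∈ (V : Set G.left)
    rw [← Scheme.Hom.comp_apply, ← Over.comp_left]
    have : Γ ≫ snd G G = ψ := by simp [Γ]
    rw [this]; exact hw2
  · rw [← Scheme.Hom.comp_apply, ← Over.comp_left, hΓμ, Over.comp_left, Scheme.Hom.comp_apply]
    exact Scheme.fromSpecResidueField_apply _ _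

theorem result' (A : Type u) [CommRing A] [IsArtinianRing A] [IsLocalRing A]
    (G : Over (Spec (CommRingCat.of A))) [GrpObj G]
    (U V : G.left.Opens) (hU : Dense (U : Set G.left)) (hV : Dense (V : Set G.left)) (g : G.left) :
    ∃ z : ↥(G ⊗ G).left, (fst G G).left.base z ∈ U ∧ (snd G G).left.base z ∈ V ∧
      μ[G].left.base z = g := by
  have h := main A G U V hU hV
  have hg : g ∈ μ[G].left '' ((fst G G).left ⁻¹' (U : Set G.left) ∩ (snd G G).left ⁻¹' (V : Set G.left)) := by
    rw [h]; trivial
  obtain ⟨z, ⟨h1, h2⟩, h3⟩ := hg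
  exact ⟨z, h1, h2, h3⟩

/-- Let A be a local artinian ring, G a group scheme over A, and U, V dense open subsets of G. Then U ·
V, the image of U ×_A V under the multiplication, is the whole underlying space of G: every point of
G is the product of a point of G ×_A G whose two projections lie in U and V. -/
theorem result (A : Type u) [CommRing A] [IsArtinianRing A] [IsLocalRing A]
    (G : Over (Spec (CommRingCat.of A))) [GrpObj G] (U V : G.left.Opens)
    (hU : Dense (U : Set G.left)) (hV : Dense (V : Set G.left)) (g : G.left) :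
    ∃ z : ↥(G ⊗ G).left, (fst G G).left.base z ∈ U ∧ (snd G G).left.base z ∈ V ∧ μ[G].left.base z = g := by
  exact result' A G U V hU hV g

end Groth.Agent.S3015
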