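import Groth.Statements.S3020
import Mathlib
import Groth.Agent.S0352
-- import your own Groth.Agent.* helpers here

set_option autoImplicit false
universe u
open CategoryTheory MonoidalCategory CartesianMonoidalCategory MonObj GrpObj AlgebraicGeometry TensorProduct
open SGA3

namespace Groth.Agent.S3020

open CategoryTheory MonoidalCategory CartesianMonoidalCategory MonObj AlgebraicGeometry CategoryTheory.Limits

namespace H5S3020

/-! ### scheme level -/

theorem gi_inj {X X' Y : Scheme.{u}} (f : X ⟶ X') [IsIso f.appTop] [IsAffine Y] (u v : X' ⟶ Y)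
    (h : f ≫ u = f ≫ v) : u = v := by
  apply ext_of_isAffine
  have := congrArg Scheme.Hom.appTop h
  rw [Scheme.Hom.comp_appTop, Scheme.Hom.comp_appTop] at this
  exact (cancel_mono f.appTop).1 this

theorem gi_ex {X X' Y : Scheme.{u}} (f : X ⟶ X') [IsIso f.appTop] [IsAffine Y] (w : X ⟶ Y) :
    ∃ u : X' ⟶ Y, f ≫ u = w := by
  refine ⟨X'.toSpecΓ ≫ Spec.map (inv f.appTop) ≫ Spec.map w.appTop ≫ inv Y.toSpecΓ, ?_⟩
  rw [← Category.assoc, Scheme.toSpecΓ_naturality, Category.assoc, ← Spec.map_comp_assoc,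
    IsIso.inv_hom_id, Spec.map_id, Category.id_comp, ← Category.assoc, ← Scheme.toSpecΓ_naturality,
    Category.assoc, IsIso.hom_inv_id, Category.comp_id]


/-! ### over a field -/

variable {k : Type u} [Field k]


def GI {X X' : Over (Spec (CommRingCat.of k))} (f : X ⟶ X') : Prop := IsIso f.left.appTop

def Q (X : Over (Spec (CommRingCat.of k))) : Prop := QuasiCompact X.hom ∧ QuasiSeparated X.hom

theorem GI.comp {X X' X'' : Over (Spec (CommRingCat.of k))} {f : X ⟶ X'} {g : X' ⟶ X''} (hf : GI f) (hg : GI g) :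
    GI (f ≫ g) := by
  unfold GI at *
  rw [Over.comp_left, Scheme.Hom.comp_appTop]
  infer_instance

theorem ov_inj {X X' Y : Over (Spec (CommRingCat.of k))} {f : X ⟶ X'} (hf : GI f) [IsAffine Y.left] (u v : X' ⟶ Y)
    (h : f ≫ u = f ≫ v) : u = v := by
  haveI : IsIso f.left.appTop := hf
  apply Over.OverMorphism.ext
  apply gi_inj f.left
  rw [← Over.comp_left, ← Over.comp_left, h]

theorem ov_ex {X X' Y : Over (Spec (CommRingCat.of k))} {f : X ⟶ X'} (hf : GI f) [IsAffine Y.left] (w : X ⟶ Y) :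
    ∃ u : X' ⟶ Y, f ≫ u = w := by
  haveI : IsIso f.left.appTop := hf
  obtain ⟨u, hu⟩ := gi_ex f.left w.left
  refine ⟨Over.homMk u ?_, ?_⟩
  · apply gi_inj f.left
    rw [← Category.assoc, hu, Over.w, Over.w]
  · apply Over.OverMorphism.ext
    simpa using hu

theorem Q.tensor {X W : Over (Spec (CommRingCat.of k))} (hX : Q X) (hW : Q W) : Q (X ⊗ W) := by
  obtain ⟨h1, h2⟩ := hX
  obtain ⟨h3, h4⟩ := hW
  have e : (X ⊗ W).hom = pullback.fst X.hom W.hom ≫ X.hom := rfl
  constructor
  · rw [e]; infer_instance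
  · rw [e]; infer_instance

theorem Q.unit : Q (𝟙_ (Over (Spec (CommRingCat.of k)))) := by
  have e : (𝟙_ (Over (Spec (CommRingCat.of k)))).hom = 𝟙 _ := rfl
  constructor
  · rw [e]; infer_instance
  · rw [e]; infer_instance

theorem Q.of_affine (X : Over (Spec (CommRingCat.of k))) [IsAffine X.left] : Q X := by
  constructor <;> infer_instance

/-- Künneth as a pushout square of global sections -/
theorem kunneth_po {X W : Over (Spec (CommRingCat.of k))} (hX : Q X) (hW : Q W) :
    IsPushout X.hom.appTop W.hom.appTop (fst X W).left.appTop (snd X W).left.appTop := by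
  obtain ⟨h1, h2⟩ := hX
  obtain ⟨h3, h4⟩ := hW
  haveI : CompactSpace X.left := QuasiCompact.compactSpace_of_compactSpace X.hom
  haveI : QuasiSeparatedSpace X.left := quasiSeparatedSpace_of_quasiSeparated X.hom
  haveI : CompactSpace W.left := QuasiCompact.compactSpace_of_compactSpace W.hom
  haveI : QuasiSeparatedSpace W.left := quasiSeparatedSpace_of_quasiSeparated W.hom
  have H := IsPullback.of_hasPullback X.hom W.hom
  have hUST : (⊤ : W.left.Opens) ≤ W.hom ⁻¹ᵁ ⊤ := le_top
  have hUSX : (⊤ : X.left.Opens) ≤ X.hom ⁻¹ᵁ ⊤ := le_top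
  have hUY : (⊤ : (pullback X.hom W.hom).Opens) =
      pullback.fst X.hom W.hom ⁻¹ᵁ ⊤ ⊓ pullback.snd X.hom W.hom ⁻¹ᵁ ⊤ := by simp
  haveI : Flat W.hom := inferInstance
  have hiX : (X.hom.appLE ⊤ ⊤ hUSX).hom.Flat :=
    RingHom.Flat.of_isField (isField_of_isIntegral_of_subsingleton _) _
  have hiso := isIso_pushoutSection_of_isCompact_of_flat_right_of_ringHomFlat H hUST hUSX hUY
    (isAffineOpen_top _) isCompact_univ isQuasiSeparated_univ isCompact_univ isQuasiSeparated_univ hiX
  have hpo := (isIso_pushoutSection_iff H hUST hUSX hUY).1 hiso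
  have key : ∀ {A B : Scheme.{u}} (f : A ⟶ B) (e : (⊤ : A.Opens) ≤ f ⁻¹ᵁ ⊤),
      f.appLE ⊤ ⊤ e = f.appTop := by
    intro A B f e
    simp [Scheme.Hom.appLE, Scheme.Hom.appTop]
  rw [key, key, key, key] at hpo
  exact hpo


theorem GI.whiskerRight {X X' : Over (Spec (CommRingCat.of k))} {f : X ⟶ X'} (hf : GI f) (hX : Q X) (hX' : Q X')
    {W : Over (Spec (CommRingCat.of k))} (hW : Q W) : GI (f ▷ W) := by
  haveI : IsIso f.left.appTop := hf
  have t := kunneth_po hX' hW
  have s := kunneth_po hX hW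
  have e1 : X.hom.appTop = X'.hom.appTop ≫ f.left.appTop := by
    rw [← Scheme.Hom.comp_appTop, Over.w]
  have e2 : (snd X W).left.appTop = (snd X' W).left.appTop ≫ (f ▷ W).left.appTop := by
    rw [← Scheme.Hom.comp_appTop, ← Over.comp_left, whiskerRight_snd]
  have e3 : f.left.appTop ≫ (fst X W).left.appTop =
      (fst X' W).left.appTop ≫ (f ▷ W).left.appTop := by
    rw [← Scheme.Hom.comp_appTop, ← Scheme.Hom.comp_appTop, ← Over.comp_left, ← Over.comp_left,
      whiskerRight_fst]
  rw [e1, e2] at s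
  exact (s.of_left e3 t).isIso_inr_of_isIso

theorem GI.whiskerLeft {X X' : Over (Spec (CommRingCat.of k))} {f : X ⟶ X'} (hf : GI f) (hX : Q X) (hX' : Q X')
    {W : Over (Spec (CommRingCat.of k))} (hW : Q W) : GI (W ◁ f) := by
  haveI : IsIso f.left.appTop := hf
  have t := (kunneth_po hW hX').flip
  have s := (kunneth_po hW hX).flip
  have e1 : X.hom.appTop = X'.hom.appTop ≫ f.left.appTop := by
    rw [← Scheme.Hom.comp_appTop, Over.w]
  have e2 : (fst W X).left.appTop = (fst W X').left.appTop ≫ (W ◁ f).left.appTop := by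
    rw [← Scheme.Hom.comp_appTop, ← Over.comp_left, whiskerLeft_fst]
  have e3 : f.left.appTop ≫ (snd W X).left.appTop =
      (snd W X').left.appTop ≫ (W ◁ f).left.appTop := by
    rw [← Scheme.Hom.comp_appTop, ← Scheme.Hom.comp_appTop, ← Over.comp_left, ← Over.comp_left,
      whiskerLeft_snd]
  rw [e1, e2] at s
  exact (s.of_left e3 t).isIso_inr_of_isIso

theorem GI.tensor {X X' Y Y' : Over (Spec (CommRingCat.of k))} {f : X ⟶ X'} {g : Y ⟶ Y'} (hf : GI f) (hg : GI g)
    (hX : Q X) (hX' : Q X') (hY : Q Y) (hY' : Q Y') : GI (f ⊗ₘ g) := by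
  rw [MonoidalCategory.tensorHom_def]
  exact (hf.whiskerRight hX hX' hY).comp (hg.whiskerLeft hY hY' hX')


section monoidal
variable {C : Type*} [Category C] [MonoidalCategory C]

theorem assoc_l {G H : C} (e : G ⟶ H) (m : H ⊗ H ⟶ H) (mu : G ⊗ G ⟶ G)
    (h : (e ⊗ₘ e) ≫ m = mu ≫ e) :
    ((e ⊗ₘ e) ⊗ₘ e) ≫ (m ▷ H) ≫ m = (mu ▷ G) ≫ mu ≫ e := by
  have h1 : (mu ⊗ₘ 𝟙 G) ≫ (e ⊗ₘ e) = (mu ≫ e) ⊗ₘ e := by
    rw [tensorHom_comp_tensorHom, Category.id_comp]
  rw [← tensorHom_id, ← tensorHom_id, tensorHom_comp_tensorHom_assoc, h, Category.comp_id, ← h1,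
    Category.assoc, h]

theorem assoc_r {G H : C} (e : G ⟶ H) (m : H ⊗ H ⟶ H) (mu : G ⊗ G ⟶ G)
    (h : (e ⊗ₘ e) ≫ m = mu ≫ e) :
    ((e ⊗ₘ e) ⊗ₘ e) ≫ (α_ H H H).hom ≫ (H ◁ m) ≫ m = (α_ G G G).hom ≫ (G ◁ mu) ≫ mu ≫ e := by
  have h1 : (𝟙 G ⊗ₘ mu) ≫ (e ⊗ₘ e) = e ⊗ₘ (mu ≫ e) := by
    rw [tensorHom_comp_tensorHom, Category.id_comp]
  rw [← id_tensorHom, ← id_tensorHom, MonoidalCategory.associator_naturality_assoc,
    tensorHom_comp_tensorHom_assoc, h, Category.comp_id, ← h1, Category.assoc, h]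

end monoidal

section grp
open GrpObj

variable {G H : Over (Spec (CommRingCat.of k))} [GrpObj G] [IsAffine H.left] (e : G ⟶ H) (he : GI e) (hG : Q G)

noncomputable def mulH : H ⊗ H ⟶ H :=
  (ov_ex (he.tensor he hG (Q.of_affine H) hG (Q.of_affine H)) (μ[G] ≫ e)).choose

theorem mulH_spec : (e ⊗ₘ e) ≫ mulH e he hG = μ[G] ≫ e :=
  (ov_ex (he.tensor he hG (Q.of_affine H) hG (Q.of_affine H)) (μ[G] ≫ e)).choose_spec

noncomputable def invH : H ⟶ H := (ov_ex he (ι[G] ≫ e)).choose

theorem invH_spec : e ≫ invH e he = ι[G] ≫ e := (ov_ex he (ι[G] ≫ e)).choose_spec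

@[instance_reducible]
noncomputable def grpH : GrpObj H where
  one := η[G] ≫ e
  mul := mulH e he hG
  one_mul := by
    apply ov_inj (he.whiskerLeft hG (Q.of_affine H) Q.unit)
    rw [whisker_exchange_assoc, comp_whiskerRight_assoc, ← MonoidalCategory.tensorHom_def_assoc,
      mulH_spec, MonObj.one_mul_assoc, leftUnitor_naturality]
  mul_one := by
    apply ov_inj (he.whiskerRight hG (Q.of_affine H) Q.unit)
    rw [← whisker_exchange_assoc, MonoidalCategory.whiskerLeft_comp_assoc,
      ← MonoidalCategory.tensorHom_def'_assoc,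
      mulH_spec, MonObj.mul_one_assoc, rightUnitor_naturality]
  mul_assoc := by
    have hHH : Q (H ⊗ H) := (Q.of_affine H).tensor (Q.of_affine H)
    apply ov_inj ((he.tensor he hG (Q.of_affine H) hG (Q.of_affine H)).tensor he
      (hG.tensor hG) hHH hG (Q.of_affine H))
    rw [assoc_l e _ _ (mulH_spec e he hG), assoc_r e _ _ (mulH_spec e he hG), MonObj.mul_assoc_assoc]
  inv := invH e he
  left_inv := by
    apply ov_inj he
    have hs := mulH_spec e he hG
    have hi := invH_spec e he
    generalize mulH e he hG = m at hs ⊢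
    generalize invH e he = i at hi ⊢
    have h1 : lift ι[G] (𝟙 G) ≫ (e ⊗ₘ e) = lift (ι[G] ≫ e) e := by
      rw [lift_map, Category.id_comp]
    rw [comp_lift_assoc, hi, Category.comp_id, ← h1, Category.assoc, hs, GrpObj.left_inv_assoc,
      ← Category.assoc e, toUnit_unique (e ≫ toUnit H) (toUnit G)]
  right_inv := by
    apply ov_inj he
    have hs := mulH_spec e he hG
    have hi := invH_spec e he
    generalize mulH e he hG = m at hs ⊢
    generalize invH e he = i at hi ⊢
    have h1 : lift (𝟙 G) ι[G] ≫ (e ⊗ₘ e) = lift e (ι[G] ≫ e) := by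
      rw [lift_map, Category.id_comp]
    rw [comp_lift_assoc, hi, Category.comp_id, ← h1, Category.assoc, hs, GrpObj.right_inv_assoc,
      ← Category.assoc e, toUnit_unique (e ≫ toUnit H) (toUnit G)]

end grp

noncomputable abbrev aff (G : Over (Spec (CommRingCat.of k))) : Over (Spec (CommRingCat.of k)) :=
  Over.mk (Spec.map G.hom.appTop ≫ inv (Spec (CommRingCat.of k)).toSpecΓ)

instance (G : Over (Spec (CommRingCat.of k))) : IsAffine (aff G).left :=
  inferInstanceAs (IsAffine (Spec _))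

noncomputable def eta (G : Over (Spec (CommRingCat.of k))) : G ⟶ aff G :=
  Over.homMk G.left.toSpecΓ (by
    simp only [aff, Over.mk_hom]
    rw [← Category.assoc, ← Scheme.toSpecΓ_naturality, Category.assoc, IsIso.hom_inv_id,
      Category.comp_id])

theorem eta_left (G : Over (Spec (CommRingCat.of k))) : (eta G).left = G.left.toSpecΓ := rfl

theorem main (k : Type u) [Field k] (G : Over (Spec (CommRingCat.of k))) [GrpObj G]
    [QuasiCompact G.hom] [G.left.IsQuasiAffine] : IsAffine G.left := by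
  obtain ⟨H, hH⟩ : ∃ H : Over (Spec (CommRingCat.of k)), H = aff G := ⟨_, rfl⟩
  obtain ⟨e, hel⟩ : ∃ e : G ⟶ aff G, e.left = G.left.toSpecΓ := ⟨eta G, rfl⟩
  have he : GI e := by
    unfold GI
    rw [hel, Scheme.toSpecΓ_appTop]
    infer_instance
  haveI : QuasiSeparatedSpace G.left := inferInstance
  have hG : Q G := ⟨inferInstance, inferInstance⟩
  letI : GrpObj (aff G) := grpH e he hG
  haveI : IsMonHom e := ⟨rfl, (mulH_spec e he hG).symm⟩
  haveI : IsOpenImmersion e.left := by rw [hel]; infer_instance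
  have hopen : IsOpen (Set.range e.left) := e.left.isOpenEmbedding.isOpen_range
  have hclosed := Groth.Agent.S0352.result k G (aff G) e hopen
  haveI : CompactSpace G.left := QuasiCompact.compactSpace_of_compactSpace G.hom
  haveI : IsDominant e.left := by rw [hel]; infer_instance
  have hdense : DenseRange e.left := e.left.denseRange
  have hsurj : Function.Surjective e.left := by
    rw [← Set.range_eq_univ, ← hclosed.closure_eq]
    exact hdense.closure_range
  haveI : Surjective e.left := ⟨hsurj⟩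
  haveI : IsIso e.left := (isIso_iff_isOpenImmersion_and_surjective e.left).2 ⟨inferInstance, inferInstance⟩
  exact IsAffine.of_isIso e.left

end H5S3020

/-- Let G be a group scheme of finite type over a field k whose underlying scheme is quasi-affine (a
quasi-compact open subscheme of an affine scheme). Then G is affine. -/
theorem result (k : Type u) [Field k] (G : Over (Spec (CommRingCat.of k))) [GrpObj G]
    [LocallyOfFiniteType G.hom] [QuasiCompact G.hom] [G.left.IsQuasiAffine] : IsAffine G.left := by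
  exact H5S3020.main k G

end Groth.Agent.S3020
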