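import Groth.Statements.S3042
import Mathlib
import Groth.Agent.Lib.helper22.UnramFibre

set_option autoImplicit false
universe u
open CategoryTheory MonoidalCategory CartesianMonoidalCategory MonObj GrpObj AlgebraicGeometry TensorProduct
open SGA3

namespace Groth.Agent.S3042

section Helpers

open AlgebraicGeometry CategoryTheory Limits MorphismProperty

theorem univInj_of_fibres {X Y : Scheme.{u}} (f : X ⟶ Y)
    (H : ∀ y : Y, Mono (f.fiberToSpecResidueField y)) : UniversallyInjective f := by
  have := (tfae_universallyInjective f).out 0 1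
  rw [this]
  intro K _ g₁ g₂ h
  replace h : g₁ ≫ f = g₂ ≫ f := h
  let ψ := Y.descResidueField (Scheme.stalkClosedPointTo (g₁ ≫ f))
  have hψ : Spec.map ψ ≫ Y.fromSpecResidueField _ = g₁ ≫ f :=
    Scheme.descResidueField_stalkClosedPointTo_fromSpecResidueField K Y (g₁ ≫ f)
  let g₁' : Spec (.of K) ⟶ f.fiber _ := pullback.lift g₁ (Spec.map ψ) hψ.symm
  let g₂' : Spec (.of K) ⟶ f.fiber _ := pullback.lift g₂ (Spec.map ψ) (by rw [← h, hψ])
  haveI := H ((g₁ ≫ f) (IsLocalRing.closedPoint K))
  have e : g₁' = g₂' := by
    rw [← cancel_mono (f.fiberToSpecResidueField _)]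
    exact (pullback.lift_snd _ _ _).trans (pullback.lift_snd _ _ _).symm
  have := congr($e ≫ f.fiberι _)
  exact (pullback.lift_fst _ _ _).symm.trans (this.trans (pullback.lift_fst _ _ _))

theorem main (X Y : Scheme.{u}) (f : X ⟶ Y) [LocallyOfFiniteType f] :
    Mono f ↔ ∀ y : Y, Mono (f.fiberToSpecResidueField y) := by
  constructor
  · intro h y
    exact pullback.snd_of_mono
  · intro H
    haveI : FormallyUnramified f := by
      apply Groth.Agent.H22.UnramFibre.formallyUnramified_of_jointly_surjective
      intro x
      refine ⟨Spec (Y.residueField (f x)), Y.fromSpecResidueField (f x), ?_, ?_⟩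
      · have := f.range_fiberι (f x)
        rw [Scheme.Hom.fiberι] at this
        exact (Set.ext_iff.mp this x).mpr rfl
      · haveI := H (f x)
        exact (inferInstance : FormallyUnramified (f.fiberToSpecResidueField (f x)))
    haveI := univInj_of_fibres f H
    haveI : Surjective (pullback.diagonal f) :=
      (UniversallyInjective.iff_diagonal f).mp inferInstance
    haveI : IsIso (pullback.diagonal f) :=
      (isIso_iff_isOpenImmersion_and_surjective _).mpr ⟨inferInstance, inferInstance⟩
    exact (pullback.isIso_diagonal_iff f).mp this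

end Helpers

/-- Let f : X → Y be a morphism of schemes locally of finite type. Then f is a monomorphism if and only
if, for every point y of Y, the fibre X_y → Spec κ(y) is a monomorphism. -/
theorem result (X Y : Scheme.{u}) (f : X ⟶ Y) [LocallyOfFiniteType f] :
    Mono f ↔ ∀ y : Y, Mono (f.fiberToSpecResidueField y) := by
  exact main X Y f

end Groth.Agent.S3042
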