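import Groth.Statements.S3043
import Mathlib

set_option autoImplicit false
universe u
open CategoryTheory MonoidalCategory CartesianMonoidalCategory MonObj GrpObj AlgebraicGeometry TensorProduct
open SGA3

namespace Groth.Agent.S3043

section Helpers

open CategoryTheory CategoryTheory.Limits AlgebraicGeometry

lemma isAffineHom_of_section {X S : Scheme.{u}} (π : X ⟶ S) (ε : S ⟶ X) (hε : ε ≫ π = 𝟙 S)
    (hinj : Function.Injective π.base) : IsAffineHom π := by
  have h1 : ∀ s, π.base (ε.base s) = s := fun s => by
    have := congrArg (fun k => k.base s) hε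
    simpa using this
  have h2 : ∀ x, ε.base (π.base x) = x := fun x => hinj (h1 _)
  have hh : IsHomeomorph π.base := by
    refine ⟨π.continuous, ?_, hinj, fun s => ⟨ε.base s, h1 s⟩⟩
    intro U hU
    have : π.base '' U = ε.base ⁻¹' U := by
      ext s
      constructor
      · rintro ⟨x, hx, rfl⟩
        simpa [h2] using hx
      · intro hs
        exact ⟨ε.base s, hs, h1 s⟩
    rw [this]
    exact hU.preimage ε.continuous
  exact isAffineHom_of_isInducing π hh.isInducing hh.isClosedEmbedding.isClosed_range

lemma affine_case {X S : Scheme.{u}} [IsAffine S] (π : X ⟶ S) (ε : S ⟶ X) (hε : ε ≫ π = 𝟙 S)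
    (hinj : Function.Injective π.base) : IsIntegralHom π := by
  have h1 : ∀ s, π.base (ε.base s) = s := fun s => by
    have := congrArg (fun k => k.base s) hε
    simpa using this
  have h2 : ∀ x, ε.base (π.base x) = x := fun x => hinj (h1 _)
  have : IsAffineHom π := isAffineHom_of_section π ε hε hinj
  have hX : IsAffine X := isAffine_of_isAffineHom π
  rw [HasAffineProperty.iff_of_isAffine (P := @IsIntegralHom)]
  refine ⟨hX, ?_⟩
  have hcomp : ∀ r, ε.appTop (π.appTop r) = r := fun r => by
    have := congrArg (fun k => k.appTop r) hε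
    simpa using this
  suffices key : ∀ a : Γ(X, ⊤), (π.appTop.hom).IsIntegralElem a from key
  intro a
  letI := (π.appTop).hom.toAlgebra
  change IsIntegral Γ(S, ⊤) a
  have hj : IsNilpotent (a - π.appTop (ε.appTop a)) := by
    rw [Scheme.isNilpotent_iff_basicOpen_eq_bot]
    have hz : ε.appTop (a - π.appTop (ε.appTop a)) = 0 := by
      rw [map_sub, hcomp, sub_self]
    have h3 := Scheme.preimage_basicOpen_top ε (a - π.appTop (ε.appTop a))
    rw [hz, Scheme.basicOpen_zero] at h3
    ext x
    simp only [TopologicalSpace.Opens.coe_bot, Set.mem_empty_iff_false, iff_false]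
    intro hx
    have : ε.base (π.base x) ∈ X.basicOpen (a - π.appTop (ε.appTop a)) := by rw [h2]; exact hx
    have : π.base x ∈ ε ⁻¹ᵁ X.basicOpen (a - π.appTop (ε.appTop a)) := this
    rw [h3] at this
    exact this
  have : a = algebraMap Γ(S, ⊤) Γ(X, ⊤) (ε.appTop a) + (a - π.appTop (ε.appTop a)) := by
    change a = π.appTop (ε.appTop a) + _
    ring
  rw [this]
  refine IsIntegral.add isIntegral_algebraMap ?_
  obtain ⟨n, hn⟩ := hj
  rcases Nat.eq_zero_or_pos n with rfl | hpos
  · rw [pow_zero] at hn
    have : Subsingleton Γ(X, ⊤) := subsingleton_of_zero_eq_one hn.symm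
    rw [Subsingleton.elim (a - _) 0]
    exact isIntegral_zero
  · exact IsIntegral.of_pow hpos (hn ▸ isIntegral_zero)

theorem main (X S : Scheme.{u}) (π : X ⟶ S) (ε : S ⟶ X) (hε : ε ≫ π = 𝟙 S)
    (hinj : Function.Injective π.base) : IsIntegralHom π := by
  rw [IsZariskiLocalAtTarget.iff_of_iSup_eq_top (P := @IsIntegralHom)
    (fun i : S.affineOpens => i.1) (iSup_affineOpens_eq_top S)]
  intro U
  have : IsAffine (U.1 : Scheme) := U.2
  have hle : U.1 ≤ ε ⁻¹ᵁ (π ⁻¹ᵁ U.1) := by
    intro s hs
    change π.base (ε.base s) ∈ U.1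
    have := congrArg (fun k => k.base s) hε
    simp only [Scheme.Hom.comp_base, TopCat.hom_comp, ContinuousMap.comp_apply,
      Scheme.Hom.id_base, TopCat.hom_id, ContinuousMap.id_apply] at this
    rw [this]; exact hs
  refine affine_case (π ∣_ U.1) (ε.resLE (π ⁻¹ᵁ U.1) U.1 hle) ?_ ?_
  · rw [← cancel_mono U.1.ι]
    rw [Category.assoc, morphismRestrict_ι, Scheme.Hom.resLE_comp_ι_assoc, hε]
    simp
  · intro x y hxy
    have hc := morphismRestrict_ι π U.1
    have e1 := congrArg (fun k => k.base x) hc
    have e2 := congrArg (fun k => k.base y) hc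
    simp only [Scheme.Hom.comp_base, TopCat.hom_comp, ContinuousMap.comp_apply] at e1 e2
    rw [hxy, e2] at e1
    exact (π ⁻¹ᵁ U.1).ι.injective (hinj e1.symm)

end Helpers

/-- Let π : X → S be a morphism of schemes admitting a section ε (ε followed by π is the identity). If π
is injective on underlying points, then π is an integral morphism. -/
theorem result (X S : Scheme.{u}) (π : X ⟶ S) (ε : S ⟶ X) (hε : ε ≫ π = 𝟙 S)
    (hinj : Function.Injective π.base) : IsIntegralHom π := by
  exact main X S π ε hε hinj

end Groth.Agent.S3043
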