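import Groth.Statements.S3045
import Mathlib
import Groth.Agent.Lib.helper5.Conv3

set_option autoImplicit false
universe u
open TensorProduct
open SGA3

namespace Groth.Agent.S3045

/-- Let A be a commutative Hopf algebra over a commutative ring k (the coordinate ring of an affine
group G = Spec A) and φ, ψ two k[ε]-valued points of G reducing to the unit point modulo ε (tangent
vectors at the identity). Then for every a ∈ A the ε-component of the product point φ · ψ at a — the
product of points being convolution, formed here as the triple convolution of φ, ψ and the unit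
point — is the sum of the ε-components of φ(a) and ψ(a): on tangent vectors at the identity the
group law of G induces addition. -/
theorem result (k : Type u) [CommRing k] (A : Type u) [CommRing A] [HopfAlgebra k A]
    (φ ψ : LieHopf.LiePts k A) (a : A) :
    TrivSqZeroExt.snd (Dyn.conv3 k A φ.1 ψ.1 ((Algebra.ofId k (DualNumber k)).comp (Bialgebra.counitAlgHom k A)) a) =
      LieHopf.LiePts.tangent k A φ a + LieHopf.LiePts.tangent k A ψ a := by
  classical
  rw [Groth.Agent.H5.Conv3.conv3_apply, Groth.Agent.H5.Conv3.unit_eq_one, mul_one,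
    (Coalgebra.Repr.arbitrary k a).convMul_apply]
  set 𝓡 := Coalgebra.Repr.arbitrary k a
  -- the linear maps `snd ∘ φ`, `snd ∘ ψ`
  let tφ : A →ₗ[k] k := (TrivSqZeroExt.sndHom k k) ∘ₗ φ.1.toLinearMap
  let tψ : A →ₗ[k] k := (TrivSqZeroExt.sndHom k k) ∘ₗ ψ.1.toLinearMap
  have h1 : ∑ i ∈ 𝓡.index, Coalgebra.counit (R := k) (𝓡.left i) • 𝓡.right i = a :=
    Coalgebra.sum_counit_smul 𝓡
  have h2 : ∑ i ∈ 𝓡.index, Coalgebra.counit (R := k) (𝓡.right i) • 𝓡.left i = a := by
    have := congrArg (TensorProduct.lift ((LinearMap.lsmul k A).flip)) (Coalgebra.sum_tmul_counit_eq 𝓡)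
    simpa only [map_sum, TensorProduct.lift.tmul, LinearMap.flip_apply, LinearMap.lsmul_apply,
      one_smul] using this
  have e1 : tψ a = ∑ i ∈ 𝓡.index, Coalgebra.counit (R := k) (𝓡.left i) * tψ (𝓡.right i) := by
    conv_lhs => rw [← h1]
    simp only [map_sum, map_smul, smul_eq_mul]
  have e2 : tφ a = ∑ i ∈ 𝓡.index, tφ (𝓡.left i) * Coalgebra.counit (R := k) (𝓡.right i) := by
    conv_lhs => rw [← h2]
    simp only [map_sum, map_smul, smul_eq_mul, mul_comm]
  show _ = tφ a + tψ a
  rw [e1, e2, TrivSqZeroExt.snd_sum, ← Finset.sum_add_distrib]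
  refine Finset.sum_congr rfl fun i _ => ?_
  have hφ := φ.2 (𝓡.left i)
  have hψ := ψ.2 (𝓡.right i)
  simp only [Bialgebra.counitAlgHom_apply] at hφ hψ
  show TrivSqZeroExt.snd (φ.1 (𝓡.left i) * ψ.1 (𝓡.right i)) = _
  rw [TrivSqZeroExt.snd_mul, hφ, hψ]
  show _ = TrivSqZeroExt.snd (φ.1 (𝓡.left i)) * _ + _ * TrivSqZeroExt.snd (ψ.1 (𝓡.right i))
  simp only [smul_eq_mul, MulOpposite.smul_eq_mul_unop, MulOpposite.unop_op]
  ring

end Groth.Agent.S3045
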