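import Groth.Statements.S3046
import Mathlib
import Groth.Agent.Lib.helper5.LieConv

set_option autoImplicit false
universe u
open TensorProduct
open SGA3

namespace Groth.Agent.S3046

/-- Let A be a commutative Hopf algebra over a commutative ring k, D and E two ε-derivations A → k
(tangent vectors at the identity of G = Spec A), R a commutative k-algebra and t, t' ∈ R with t² = 0
= t'². Let x = e + tD and y = e + t'E be the corresponding R-points of G. Then the commutator x y
x⁻¹ y⁻¹ (product of points; the inverse of a point is its composite with the antipode) is the point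
a ↦ ε(a) + [D, E](a) · t t', where [D, E] = D ⋆ E − E ⋆ D is the convolution commutator. -/
theorem result (k : Type u) [CommRing k] (A : Type u) [CommRing A] [HopfAlgebra k A]
    (D E : LieHopf.Lie k A) (R : Type u) [CommRing R] [Algebra k R] (t t' : R) (ht : t * t = 0) (ht' : t' * t' = 0)
    (a : A) :
    Dyn.conv3 k A
        (Dyn.conv3 k A (LieHopf.ptOfLie D R t ht) (LieHopf.ptOfLie E R t' ht')
          ((LieHopf.ptOfLie D R t ht).comp (HopfAlgebra.antipodeAlgHom k A)))
        ((LieHopf.ptOfLie E R t' ht').comp (HopfAlgebra.antipodeAlgHom k A))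
        ((Algebra.ofId k R).comp (Bialgebra.counitAlgHom k A)) a =
      algebraMap k R (Bialgebra.counitAlgHom k A a) + algebraMap k R (LieHopf.bracketLin D E a) * (t * t') := by
  classical
  rw [Groth.Agent.H5.Conv3.conv3_apply, Groth.Agent.H5.Conv3.unit_eq_one, mul_one]
  have inner : ∀ f g h : A →ₐ[k] R, WithConv.toConv (Dyn.conv3 k A f g h).toLinearMap =
      (WithConv.toConv f.toLinearMap * WithConv.toConv g.toLinearMap *
        WithConv.toConv h.toLinearMap : WithConv (A →ₗ[k] R)) := by
    intro f g h
    ext b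
    exact Groth.Agent.H5.Conv3.conv3_apply k A f g h b
  rw [inner, Groth.Agent.H5.LieConv.ptOfLie_eq, Groth.Agent.H5.LieConv.ptOfLie_eq,
    Groth.Agent.H5.LieConv.ptOfLie_inv_eq, Groth.Agent.H5.LieConv.ptOfLie_inv_eq,
    Groth.Agent.H5.LieConv.comm_formula t t' ht ht']
  have hbr : LieHopf.bracketLin D E a =
      LieHopf.conv (LieHopf.dlin D) (LieHopf.dlin E) a -
        LieHopf.conv (LieHopf.dlin E) (LieHopf.dlin D) a := rfl
  rw [hbr, map_sub]
  show algebraMap k R (Coalgebra.counit a) +
      (t * t') • ((Groth.Agent.H5.LieConv.dR R D * Groth.Agent.H5.LieConv.dR R E) a -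
        (Groth.Agent.H5.LieConv.dR R E * Groth.Agent.H5.LieConv.dR R D) a) = _
  rw [Groth.Agent.H5.LieConv.dR_mul_apply, Groth.Agent.H5.LieConv.dR_mul_apply, smul_eq_mul,
    Bialgebra.counitAlgHom_apply]
  ring

end Groth.Agent.S3046
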