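import Groth.Statements.S3076
import Mathlib
import Groth.Agent.Lib.helper23.TF4

set_option autoImplicit false
open CategoryTheory CategoryTheory.Limits Opposite
universe u
open ToposFin

namespace Groth.Agent.S3076

/-- For a topos of sheaves of sets on a small site admitting a generating family of quasi-compact
objects: let g : Y -> Z and let (f_i : X_i -> Y) be a jointly epimorphic family of quasi-compact
morphisms. If every g o f_i is quasi-separated then g is quasi-separated; if moreover the family is
finite and every g o f_i is coherent, then g is coherent. -/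
theorem result {C : Type u} [SmallCategory C] {J : GrothendieckTopology C} (hE : ToposFin.HasQCGenerators J) {Y Z : ToposFin.Sh J}
    (g : Y ⟶ Z) :
    (∀ {ι : Type u} (X : ι → ToposFin.Sh J) (f : ∀ i, X i ⟶ Y), Epi (Sigma.desc f) →
      (∀ i, ToposFin.IsQCHom (f i)) → (∀ i, ToposFin.IsQSHom (f i ≫ g)) → ToposFin.IsQSHom g) ∧
    (∀ {n : ℕ} (X : Fin n → ToposFin.Sh J) (f : ∀ k, X k ⟶ Y), Epi (Sigma.desc f) →
      (∀ k, ToposFin.IsQCHom (f k)) → (∀ k, ToposFin.IsCohHom (f k ≫ g)) → ToposFin.IsCohHom g) := by
  refine ⟨fun {ι} X f hf hqc hqs =>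
    Lib.helper23.TF.isQSHom_of_cover_source hE g X f ((Lib.helper23.TF.jepi_iff_epi f).2 hf) hqc hqs,
    fun {n} X f hf hqc hcoh => ⟨?_, ?_⟩⟩
  · exact Lib.helper23.TF.isQCHom_of_finite_cover_source g f ((Lib.helper23.TF.jepi_iff_epi f).2 hf)
      (fun k => (hcoh k).1)
  · -- reindex along `ULift (Fin n)` to obtain a `Type u`-indexed family
    have hf' : Lib.helper23.TF.JEpi (fun k : ULift.{u} (Fin n) => f k.down) :=
      Lib.helper23.TF.JEpi.reindex ((Lib.helper23.TF.jepi_iff_epi f).2 hf) ULift.down
        ULift.down_surjective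
    exact Lib.helper23.TF.isQSHom_of_cover_source hE g (fun k : ULift.{u} (Fin n) => X k.down)
      (fun k => f k.down) hf' (fun k => hqc k.down) (fun k => (hcoh k.down).2)

end Groth.Agent.S3076
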