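import Groth.Statements.S6159
import Mathlib
import Groth.Agent.Lib.helper23.SC20

set_option autoImplicit false
universe u
open CategoryTheory
open SGA4

namespace Groth.Agent.S6159

open CategoryTheory.Limits in
/-- Sheaf topoi on small sites (C, J), (D, K), each with its canonical topology: a functor f from
sheaves of sets on C to sheaves of sets on D commutes with all u-small colimits if and only if it is
continuous, i.e. composition with f carries every sheaf of sets for the canonical topology of the
target to a sheaf for the canonical topology of the source. (Continuity is Mathlib's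
`Functor.IsContinuous`: on these large sites it tests sheaves with values in the next universe,
`Type (u+1)`, which is the source's choice of a larger universe for the test sheaves; the hom
universe is u. The equivalence of both conditions with f being a left adjoint is a separate result,
not stated here.) -/
theorem result {C D : Type u} [SmallCategory C] [SmallCategory D]
    (J : GrothendieckTopology C) (K : GrothendieckTopology D) (f : Sheaf J (Type u) ⥤ Sheaf K (Type u)) :
    PreservesColimitsOfSize.{u, u} f ↔
      f.IsContinuous.{u} (Sheaf.canonicalTopology (Sheaf J (Type u))) (Sheaf.canonicalTopology (Sheaf K (Type u))) := by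
  constructor
  · intro hf
    constructor
    intro G
    have h1 : PreservesLimitsOfSize.{u, u} G.obj :=
      Groth.Agent.Lib.helper23.CanSh.preserves_of_turns
        (Groth.Agent.Lib.helper23.CanSh.turns_of_isSheaf
          ((isSheaf_iff_isSheaf_of_type _ _).1 G.property))
    have h2 : PreservesLimitsOfSize.{u, u} f.op := Limits.preservesLimitsOfSize_op f
    have h3 : PreservesLimitsOfSize.{u, u} (f.op ⋙ G.obj) := inferInstance
    exact Groth.Agent.Lib.helper23.CanSh.isSheaf_of_turns
      Groth.Agent.Lib.helper23.CanSh.turns_of_preserves
  · intro hf
    have hTurn : ∀ Z : Sheaf K (Type u),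
        Groth.Agent.Lib.helper23.CanSh.Turns (f.op ⋙ yoneda.obj Z ⋙ uliftFunctor.{u + 1}) := by
      intro Z
      have h1 : PreservesLimitsOfSize.{u, u} (yoneda.obj Z ⋙ uliftFunctor.{u + 1}) := inferInstance
      have h2 : Presieve.IsSheaf (Sheaf.canonicalTopology (Sheaf K (Type u)))
          (yoneda.obj Z ⋙ uliftFunctor.{u + 1}) :=
        Groth.Agent.Lib.helper23.CanSh.isSheaf_of_turns
          Groth.Agent.Lib.helper23.CanSh.turns_of_preserves
      have h3 := hf.op_comp_isSheaf_of_types
        ⟨yoneda.obj Z ⋙ uliftFunctor.{u + 1}, (isSheaf_iff_isSheaf_of_type _ _).2 h2⟩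
      exact Groth.Agent.Lib.helper23.CanSh.turns_of_isSheaf h3
    constructor
    intro I _
    constructor
    intro D
    constructor
    intro c hc
    refine ⟨Limits.IsColimit.ofExistsUnique (fun s' => ?_)⟩
    obtain ⟨t, ht, htu⟩ := hTurn s'.pt I D c hc (fun k => ULift.up (s'.ι.app k)) (by
      intro k k' m
      show ULift.up (f.map (D.map m) ≫ s'.ι.app k') = ULift.up (s'.ι.app k)
      congr 1
      exact s'.w m)
    refine ⟨t.down, fun k => congrArg ULift.down (ht k), fun d hd => ?_⟩
    have := htu (ULift.up d) (fun k => by
      show ULift.up (f.map (c.ι.app k) ≫ d) = ULift.up (s'.ι.app k)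
      congr 1
      exact hd k)
    exact congrArg ULift.down this

end Groth.Agent.S6159
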