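import Groth.Statements.S3082
import Mathlib
import Groth.Agent.Lib.helper23.TF13

set_option autoImplicit false
universe u
open CategoryTheory Opposite Groth.Agent.Lib.helper23
open SGA4

namespace Groth.Agent.S3082

/-- Let (C, J) be a small site and G a set of objects of C such that each object of C has a covering
family whose members all lie in G. Then the sheafifications of the presheaves represented by the
members of G form a detecting family in the category Sh(C, J) of set-valued sheaves on (C, J): any
morphism of sheaves that is bijective on sections over each member of G is an isomorphism. -/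
theorem result {C : Type u} [SmallCategory C] (J : GrothendieckTopology C) (G : Set C)
    (hG : ∀ X : C, ∃ (ι : Type u) (Y : ι → C) (f : ∀ i, Y i ⟶ X), Sieve.ofArrows Y f ∈ J X ∧ ∀ i, Y i ∈ G) :
    (ObjectProperty.ofObj fun X : G => (presheafToSheaf J (Type u)).obj (yoneda.obj (X : C))).IsDetecting := by
  intro A B f hf
  have hGbij : ∀ X : C, X ∈ G → Function.Bijective (TF.sec f (op X)) := by
    intro X hX
    have hP : (ObjectProperty.ofObj fun X : G => (presheafToSheaf J (Type u)).obj
        (yoneda.obj (X : C))) (ToposFin.eps J X) :=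
      ObjectProperty.ofObj_apply (fun X : G => (presheafToSheaf J (Type u)).obj
        (yoneda.obj (X : C))) (⟨X, hX⟩ : G)
    constructor
    · intro a a' haa
      have h1 : TF.ofSection J a ≫ f = TF.ofSection J a' ≫ f := by
        apply TF.eps_hom_ext
        rw [TF.sec_comp, TF.sec_comp, TF.ofSection_can, TF.ofSection_can]
        simpa using haa
      obtain ⟨h', -, huniq⟩ := hf _ hP (TF.ofSection J a ≫ f)
      have e1 := huniq (TF.ofSection J a) rfl
      have e2 := huniq (TF.ofSection J a') h1.symm
      have e3 : TF.ofSection J a = TF.ofSection J a' := e1.trans e2.symm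
      have e4 := congrArg (fun k => TF.sec k (op X) (TF.can J (𝟙 X))) e3
      simp only [TF.ofSection_can] at e4
      simpa using e4
    · intro b
      obtain ⟨h', hh', -⟩ := hf _ hP (TF.ofSection J b)
      refine ⟨TF.sec h' (op X) (TF.can J (𝟙 X)), ?_⟩
      rw [← TF.sec_comp, hh', TF.ofSection_can]
      simp
  have hinj : ∀ V : Cᵒᵖ, Function.Injective (TF.sec f V) := by
    rintro ⟨U⟩ a a' haa
    obtain ⟨ι, Y, g, hcov, hY⟩ := hG U
    refine ((TF.presieve_isSheaf A).isSeparated _ hcov).ext ?_
    rintro V v ⟨W, w, _, ⟨i⟩, rfl⟩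
    have h1 : A.obj.map (g i).op a = A.obj.map (g i).op a' := by
      apply (hGbij _ (hY i)).1
      rw [TF.sec_map, TF.sec_map, haa]
    rw [op_comp, Functor.map_comp_apply, Functor.map_comp_apply, h1]
  apply TF.isIso_of_bijective_sections
  rintro ⟨U⟩
  refine ⟨hinj _, fun b => ?_⟩
  obtain ⟨ι, Y, g, hcov, hY⟩ := hG U
  have hex : ∀ ⦃V : C⦄ (v : V ⟶ U), (Sieve.ofArrows Y g) v →
      ∃ x : A.obj.obj (op V), TF.sec f (op V) x = B.obj.map v.op b := by
    rintro V v ⟨W, w, _, ⟨i⟩, rfl⟩
    obtain ⟨a, ha⟩ := (hGbij _ (hY i)).2 (B.obj.map (g i).op b)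
    refine ⟨A.obj.map w.op a, ?_⟩
    rw [TF.sec_map, ha, op_comp, Functor.map_comp_apply]
  let x : Presieve.FamilyOfElements A.obj (Sieve.ofArrows Y g).arrows :=
    fun V v hv => (hex v hv).choose
  have hx : x.Compatible := by
    rw [Presieve.compatible_iff_sieveCompatible]
    intro V V' v r hv
    apply hinj
    rw [TF.sec_map]
    show TF.sec f _ (hex (r ≫ v) ((Sieve.ofArrows Y g).downward_closed hv r)).choose =
      B.obj.map r.op (TF.sec f _ (hex v hv).choose)
    rw [(hex (r ≫ v) ((Sieve.ofArrows Y g).downward_closed hv r)).choose_spec,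
      (hex v hv).choose_spec, op_comp, Functor.map_comp_apply]
  have hsh := (TF.presieve_isSheaf A) _ hcov
  refine ⟨hsh.amalgamate x hx, ?_⟩
  refine ((TF.presieve_isSheaf B).isSeparated _ hcov).ext ?_
  intro V v hv
  rw [← TF.sec_map, hsh.valid_glue hx v hv]
  exact (hex v hv).choose_spec

end Groth.Agent.S3082
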