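import Groth.Statements.S3088
import Groth.Agent.Lib.helper18.CechFCHomotopy

set_option autoImplicit false
universe u
open CategoryTheory
open CohSite

namespace Groth.Agent.S3088

open CategoryTheory.Limits in
/-- With A = Z: let C be a u-small category with fibre products, 𝒰 and 𝒰' two families of objects over U
(formal coproducts in the over category) and f, g : 𝒰 -> 𝒰' two refinement morphisms. Then for every
presheaf of abelian groups M and every q, the maps induced by f and g on the q-th Cech cohomology
groups (from that of 𝒰' to that of 𝒰) coincide. -/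
theorem result {C : Type u} [SmallCategory C] [HasPullbacks C] (M : Cᵒᵖ ⥤ AddCommGrpCat.{u})
    {U : C} {𝒰 𝒰' : FormalCoproduct.{u} (Over U)} (f g : 𝒰 ⟶ 𝒰') (q : ℕ) :
    HomologicalComplex.homologyMap (CohCx.cechRefine M f) q = HomologicalComplex.homologyMap (CohCx.cechRefine M g) q := by
  exact (Groth.Agent.H18.CechFCHomotopy.cochainHomotopy
    (Groth.Agent.H18.CechFCHomotopy.homotopy f g)
    ((FormalCoproduct.evalOp.{u} (Over U) AddCommGrpCat.{u}).obj
      ((Over.forget U).op ⋙ M))).homologyMap_eq q

end Groth.Agent.S3088
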