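import Groth.Statements.S3129
import Groth.Agent.Lib.helper13.GaussJacobi

set_option autoImplicit false
open BigOperators
open SGA4h

namespace Groth.Agent.S3129

/-- Let F be a finite field with q elements, N ≥ 1, χ₀, …, χ_N multiplicative characters of F with
values in a domain, not all trivial and with product 1, and Ψ a nontrivial additive character of F.
Put τ(χ, Ψ) = −Σ_{x ∈ F} Ψ(x) χ⁻¹(x) and J(χ) = (−1)^{N−1} Σ χ₁⁻¹(x₁) ⋯ χ_N⁻¹(x_N), the sum over x₁,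
…, x_N ∈ F^* with x₁ + ⋯ + x_N = −1. Then q · J(χ) = τ(χ₀, Ψ) ⋯ τ(χ_N, Ψ). -/
theorem result (F : Type) [Field F] [Fintype F] [DecidableEq F] (R : Type) [CommRing R] [IsDomain R]
    (N : ℕ) (hN : 1 ≤ N) (χ : Fin (N + 1) → MulChar F R) (hprod : ∏ i, χ i = 1) (hnt : ∃ i, χ i ≠ 1)
    (Ψ : AddChar F R) (hΨ : Ψ ≠ 1) :
    (Fintype.card F : R) * ((-1) ^ (N - 1) *
        ∑ x ∈ (Finset.univ : Finset (Fin N → Fˣ)).filter (fun x => ∑ i, ((x i : Fˣ) : F) = -1),
          ∏ i : Fin N, (χ i.succ)⁻¹ ((x i : Fˣ) : F)) =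
      ∏ i : Fin (N + 1), (-(∑ y : F, Ψ y * (χ i)⁻¹ y)) := by
  have hprod' : ∏ i, (χ i)⁻¹ = 1 := by
    rw [Finset.prod_inv_distrib, hprod, inv_one]
  have hnt' : ∃ i : Fin N, (χ i.succ)⁻¹ ≠ 1 := by
    by_contra hcon
    push Not at hcon
    have hall : ∀ i : Fin N, χ i.succ = 1 := fun i => inv_eq_one.mp (hcon i)
    have h0 : χ 0 = 1 := by
      have := hprod
      rw [Fin.prod_univ_succ, Finset.prod_eq_one (fun i _ => hall i), mul_one] at this
      exact this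
    obtain ⟨i, hi⟩ := hnt
    refine hi ?_
    refine Fin.cases h0 hall i
  have hcore := Groth.Agent.Lib.helper13.GJ.core N (fun i => (χ i)⁻¹) hprod' hnt' Ψ hΨ
  have hunits := Groth.Agent.Lib.helper13.GJ.units_sum_eq_T (fun i : Fin N => (χ i.succ)⁻¹) (-1)
  rw [hunits, Finset.prod_neg, ← hcore]
  have hsign : ((-1 : R)) ^ (Finset.univ : Finset (Fin (N + 1))).card = (-1) ^ (N - 1) := by
    rw [Finset.card_univ, Fintype.card_fin]
    obtain ⟨m, rfl⟩ : ∃ m, N = m + 1 := ⟨N - 1, by omega⟩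
    rw [Nat.add_sub_cancel, pow_succ, pow_succ]
    ring
  rw [hsign]
  ring

end Groth.Agent.S3129
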