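import Groth.Statements.S3194
import Mathlib
import Groth.Agent.Lib.helper28.KZeroLib

set_option autoImplicit false
universe u
open CategoryTheory
open SGA6

namespace Groth.Agent.S3194

open Groth.Agent.Lib.helper28.KZeroLib

/-- Let A be a principal ideal domain and K_•(Spec A) = K₀ of the category of finitely generated
A-modules (free abelian group on finitely generated modules modulo short exact sequences). The
homomorphism ℤ ⟶ K_•(Spec A) sending k to k·[A] is bijective. -/
theorem result (A : Type u) [CommRing A] [IsDomain A] [IsPrincipalIdealRing A] :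
    Function.Bijective (fun k : ℤ => k • KZero.clSub (fun M : ModuleCat.{u} A => Module.Finite A M) (ModuleCat.of A A)) := by
  classical
  obtain ⟨P, hPdef⟩ : ∃ P : ObjectProperty (ModuleCat.{u} A),
      P = fun M : ModuleCat.{u} A => Module.Finite A M := ⟨_, rfl⟩
  rw [← hPdef]
  have hP : ∀ M : ModuleCat.{u} A, P M ↔ Module.Finite A M := by
    intro M; rw [hPdef]
  have hP' : ∀ (X : Type u) [AddCommGroup X] [Module A X] [Module.Finite A X], P (ModuleCat.of A X) := by
    intro X _ _ h; exact (hP _).mpr h
  have hφ : ∀ (S : ShortComplex (ModuleCat.{u} A)) (h₁ : P S.X₁) (h₂ : P S.X₂) (h₃ : P S.X₃),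
      S.ShortExact → (fun M : Subtype P => (Module.finrank A M.1 : ℤ)) ⟨S.X₂, h₂⟩ =
        (fun M : Subtype P => (Module.finrank A M.1 : ℤ)) ⟨S.X₁, h₁⟩ +
          (fun M : Subtype P => (Module.finrank A M.1 : ℤ)) ⟨S.X₃, h₃⟩ := by
    intro S h1 h2 h3 hS
    simp only
    have f2 : Module.Finite A S.X₂ := (hP _).mp h2
    have hinj := (ModuleCat.mono_iff_injective _).mp hS.mono_f
    have hsurj := (ModuleCat.epi_iff_surjective _).mp hS.epi_g
    have hex := (ShortComplex.ShortExact.moduleCat_exact_iff_function_exact S).mp hS.exact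
    have hker : LinearMap.ker S.g.hom = LinearMap.range S.f.hom := (LinearMap.exact_iff.mp hex)
    have e1 : Module.finrank A S.X₁ = Module.finrank A (LinearMap.ker S.g.hom) := by
      rw [hker]
      exact (LinearEquiv.ofInjective S.f.hom hinj).finrank_eq
    have e3 : Module.finrank A S.X₃ = Module.finrank A (S.X₂ ⧸ LinearMap.ker S.g.hom) :=
      (LinearMap.quotKerEquivOfSurjective S.g.hom hsurj).finrank_eq.symm
    have := Submodule.finrank_quotient_add_finrank (LinearMap.ker S.g.hom)
    rw [e1, e3, ← this]
    push_cast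
    ring
  let e0 : KZero.K0sub P →+ ℤ := lift P (fun M : Subtype P => (Module.finrank A M.1 : ℤ)) hφ
  have hPA : P (ModuleCat.of A A) := hP' A
  have hP0 : P (ModuleCat.of A PUnit.{u + 1}) := hP' _
  have he0A : e0 (KZero.clSub P (ModuleCat.of A A)) = 1 := by
    simp only [e0]
    rw [lift_cl P _ hφ _ hPA]
    simp only
    have : Module.finrank A (ModuleCat.of A A) = 1 := Module.finrank_self A
    rw [this]; rfl
  -- cyclic modules
  have hcyc : ∀ I : Ideal A, ∃ k : ℤ, KZero.clSub P (ModuleCat.of A (A ⧸ I)) =
      k • KZero.clSub P (ModuleCat.of A A) := by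
    intro I
    obtain ⟨a, rfl⟩ := (IsPrincipalIdealRing.principal I).principal
    by_cases ha : a = 0
    · subst ha
      refine ⟨1, ?_⟩
      rw [one_smul]
      have hbot : (Submodule.span A {(0 : A)} : Submodule A A) = ⊥ := by simp
      exact cl_iso' P (Submodule.quotEquivOfEqBot _ hbot) (hP' _) hPA hP0
    · refine ⟨0, ?_⟩
      rw [zero_smul]
      have h := cl_ses' P (LinearMap.toSpanSingleton A A a) (Submodule.span A {a}).mkQ
        (by
          intro x y hxy
          simp only [LinearMap.toSpanSingleton_apply, smul_eq_mul] at hxy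
          exact mul_right_cancel₀ ha hxy)
        (Submodule.mkQ_surjective _)
        (by
          rw [LinearMap.exact_iff, Submodule.ker_mkQ, LinearMap.range_toSpanSingleton])
        hPA hPA (hP' _)
      exact left_eq_add.mp h
  -- modules generated by n elements
  have hgenn : ∀ n : ℕ, ∀ (M : Type u) [AddCommGroup M] [Module A M] (v : Fin n → M),
      Submodule.span A (Set.range v) = ⊤ →
      ∃ k : ℤ, KZero.clSub P (ModuleCat.of A M) = k • KZero.clSub P (ModuleCat.of A A) := by
    intro n
    induction n with
    | zero =>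
      intro M _ _ v hv
      have : Subsingleton M := by
        rw [← Submodule.subsingleton_iff A, ← subsingleton_iff_bot_eq_top, ← hv]
        simp
      have hfin : Module.Finite A M := inferInstance
      exact ⟨0, by rw [zero_smul]; exact cl_zero' P (hP' M)⟩
    | succ n ih =>
      intro M _ _ v hv
      have hfin : Module.Finite A M := ⟨⟨Finset.univ.image v, by simpa using hv⟩⟩
      obtain ⟨N, hN⟩ : ∃ N : Submodule A M, N = LinearMap.range (LinearMap.toSpanSingleton A M (v 0)) :=
        ⟨_, rfl⟩
      have hv0 : v 0 ∈ N := by rw [hN]; exact ⟨1, by simp⟩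
      have hses := cl_ses' P N.subtype N.mkQ (Submodule.subtype_injective _)
        (Submodule.mkQ_surjective _) (by rw [LinearMap.exact_iff]; simp) (hP' _) (hP' _) (hP' _)
      -- N is cyclic
      obtain ⟨k1, hk1⟩ := hcyc (LinearMap.ker (LinearMap.toSpanSingleton A M (v 0)))
      have hN' : KZero.clSub P (ModuleCat.of A N) =
          KZero.clSub P (ModuleCat.of A (A ⧸ LinearMap.ker (LinearMap.toSpanSingleton A M (v 0)))) := by
        subst hN
        exact (cl_iso' P (LinearMap.quotKerEquivRange (LinearMap.toSpanSingleton A M (v 0)))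
          (hP' _) (hP' _) hP0).symm
      -- M/N generated by n elements
      obtain ⟨k2, hk2⟩ := ih (M ⧸ N) (fun i => N.mkQ (v i.succ)) (by
        rw [eq_top_iff]
        rintro x -
        obtain ⟨y, rfl⟩ := Submodule.mkQ_surjective N x
        have hy : y ∈ Submodule.span A (Set.range v) := by rw [hv]; trivial
        induction hy using Submodule.span_induction with
        | mem z hz =>
          obtain ⟨i, rfl⟩ := hz
          refine Fin.cases ?_ (fun j => ?_) i
          · have : N.mkQ (v 0) = 0 := by simpa using hv0
            rw [this]; exact zero_mem _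
          · exact Submodule.subset_span ⟨j, rfl⟩
        | zero => rw [map_zero]; exact zero_mem _
        | add a b _ _ ha hb => rw [map_add]; exact add_mem ha hb
        | smul c a _ ha => rw [map_smul]; exact Submodule.smul_mem _ _ ha)
      refine ⟨k1 + k2, ?_⟩
      rw [hses, hN', hk1, hk2, add_smul]
  have hgen : ∀ x : KZero.K0sub P, ∃ k : ℤ, x = k • KZero.clSub P (ModuleCat.of A A) := by
    intro x
    have hx := exists_rep P x
    induction hx using AddSubgroup.closure_induction with
    | mem y hy =>
      obtain ⟨M, rfl⟩ := hy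
      have hfin : Module.Finite A M.1 := (hP _).mp M.2
      obtain ⟨n, v, hv⟩ := Module.Finite.exists_fin (R := A) (M := M.1)
      exact hgenn n M.1 v hv
    | zero => exact ⟨0, by simp⟩
    | add a b _ _ ha hb =>
      obtain ⟨k1, rfl⟩ := ha
      obtain ⟨k2, rfl⟩ := hb
      exact ⟨k1 + k2, by rw [add_smul]⟩
    | neg a _ ha =>
      obtain ⟨k1, rfl⟩ := ha
      exact ⟨-k1, by rw [neg_smul]⟩
  constructor
  · intro k k' h
    simp only at h
    have := congrArg e0 h
    rwa [map_zsmul, map_zsmul, he0A, smul_eq_mul, smul_eq_mul, mul_one, mul_one] at this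
  · intro x
    obtain ⟨k, rfl⟩ := hgen x
    exact ⟨k, rfl⟩

end Groth.Agent.S3194
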