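import Groth.Statements.S3201
import Mathlib
import Groth.Agent.Lib.helper2.KZeroEuler
-- import your own Groth.Agent.* helpers here

set_option autoImplicit false
universe w v u
open CategoryTheory CategoryTheory.Limits
open SGA6

namespace Groth.Agent.S3201

/-- Let C be an abelian category (with a derived category) and P a thick ('épaisse') class of objects of
C: a full subcategory closed under isomorphisms, containing zero, and closed under kernels,
cokernels and extensions. Let K₀(P) be the free abelian group on the objects of P modulo the short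
exact sequences of C with terms in P, and D^b_P(C) the full triangulated subcategory of D(C) on
bounded objects all of whose cohomology objects lie in P. Then the homomorphism K₀(P) → K₀(D^b_P(C))
induced by X ↦ X[0] is an isomorphism: there is an isomorphism of groups carrying the class of each
X in P to the class of X placed in degree 0. -/
theorem result {C : Type u} [Category.{v} C] [Abelian C] [HasDerivedCategory.{w} C]
    (P : ObjectProperty C) [P.IsClosedUnderIsomorphisms] [P.ContainsZero] [P.IsClosedUnderKernels] [P.IsClosedUnderCokernels] [P.IsClosedUnderExtensions] :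
    ∃ φ : KZero.K0sub P ≃+ KZero.K0tr (fun K : DerivedCategory C =>
        (∀ i : ℤ, P ((DerivedCategory.homologyFunctor C i).obj K)) ∧ ∃ a b : ℤ, (DerivedCategory.TStructure.t (C := C)).IsGE K a ∧ (DerivedCategory.TStructure.t (C := C)).IsLE K b),
      ∀ X : C, P X → φ (KZero.clSub P X) =
        KZero.clTr (fun K : DerivedCategory C => (∀ i : ℤ, P ((DerivedCategory.homologyFunctor C i).obj K)) ∧ ∃ a b : ℤ, (DerivedCategory.TStructure.t (C := C)).IsGE K a ∧ (DerivedCategory.TStructure.t (C := C)).IsLE K b)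
          ((DerivedCategory.singleFunctor C 0).obj X) := by
  classical
  change ∃ φ : KZero.K0sub P ≃+ KZero.K0tr (Groth.Agent.Lib.helper2.KZeroEuler.QP P),
    ∀ X : C, P X → φ (KZero.clSub P X) =
      KZero.clTr (Groth.Agent.Lib.helper2.KZeroEuler.QP P) ((DerivedCategory.singleFunctor C 0).obj X)
  -- additivity of the class functions
  have hc : Groth.Agent.Lib.helper2.KZeroEuler.IsAdditive P (KZero.clSub P) := by
    intro S hS h₁ h₂ h₃
    have h0 : (QuotientAddGroup.mk (FreeAbelianGroup.of ⟨S.X₂, h₂⟩ -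
        FreeAbelianGroup.of ⟨S.X₁, h₁⟩ - FreeAbelianGroup.of ⟨S.X₃, h₃⟩) : KZero.K0sub P) = 0 :=
      (QuotientAddGroup.eq_zero_iff _).2 (AddSubgroup.subset_closure ⟨S, h₁, h₂, h₃, hS, rfl⟩)
    rw [QuotientAddGroup.mk_sub, QuotientAddGroup.mk_sub, sub_sub, sub_eq_zero] at h0
    simp only [KZero.clSub, dif_pos h₁, dif_pos h₂, dif_pos h₃]
    exact h0
  have hd : Groth.Agent.Lib.helper2.KZeroEuler.IsTriAdditive
      (Groth.Agent.Lib.helper2.KZeroEuler.QP P)
      (KZero.clTr (Groth.Agent.Lib.helper2.KZeroEuler.QP P)) := by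
    intro T hT h₁ h₂ h₃
    have h0 : (QuotientAddGroup.mk (FreeAbelianGroup.of ⟨T.obj₂, h₂⟩ -
        FreeAbelianGroup.of ⟨T.obj₁, h₁⟩ - FreeAbelianGroup.of ⟨T.obj₃, h₃⟩) :
        KZero.K0tr (Groth.Agent.Lib.helper2.KZeroEuler.QP P)) = 0 :=
      (QuotientAddGroup.eq_zero_iff _).2 (AddSubgroup.subset_closure ⟨T, h₁, h₂, h₃, hT, rfl⟩)
    rw [QuotientAddGroup.mk_sub, QuotientAddGroup.mk_sub, sub_sub, sub_eq_zero] at h0
    simp only [KZero.clTr, dif_pos h₁, dif_pos h₂, dif_pos h₃]
    exact h0
  -- the map `φ`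
  let φ₀ : FreeAbelianGroup (Subtype P) →+ KZero.K0tr (Groth.Agent.Lib.helper2.KZeroEuler.QP P) :=
    FreeAbelianGroup.lift (fun X : Subtype P =>
      KZero.clTr (Groth.Agent.Lib.helper2.KZeroEuler.QP P)
        ((DerivedCategory.singleFunctor C 0).obj X.1))
  have hφ₀ : KZero.relSub P ≤ φ₀.ker := by
    refine (AddSubgroup.closure_le _).2 ?_
    rintro x ⟨S, h₁, h₂, h₃, hS, rfl⟩
    change φ₀ _ = 0
    simp only [map_sub, φ₀, FreeAbelianGroup.lift_apply_of]
    have := hd _ hS.singleTriangle_distinguished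
      (Groth.Agent.Lib.helper2.KZeroEuler.QP_single 0 h₁)
      (Groth.Agent.Lib.helper2.KZeroEuler.QP_single 0 h₂)
      (Groth.Agent.Lib.helper2.KZeroEuler.QP_single 0 h₃)
    change KZero.clTr _ ((DerivedCategory.singleFunctor C 0).obj S.X₂) =
      KZero.clTr _ ((DerivedCategory.singleFunctor C 0).obj S.X₁) +
      KZero.clTr _ ((DerivedCategory.singleFunctor C 0).obj S.X₃) at this
    rw [this]
    abel
  let φ : KZero.K0sub P →+ KZero.K0tr (Groth.Agent.Lib.helper2.KZeroEuler.QP P) :=
    QuotientAddGroup.lift (KZero.relSub P) φ₀ hφ₀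
  have hφ : ∀ (X : C) (hX : P X), φ (KZero.clSub P X) =
      KZero.clTr (Groth.Agent.Lib.helper2.KZeroEuler.QP P)
        ((DerivedCategory.singleFunctor C 0).obj X) := by
    intro X hX
    simp only [KZero.clSub, dif_pos hX]
    change φ₀ (FreeAbelianGroup.of ⟨X, hX⟩) = _
    simp only [φ₀, FreeAbelianGroup.lift_apply_of]
  -- the map `ψ`
  let ψ₀ : FreeAbelianGroup (Subtype (Groth.Agent.Lib.helper2.KZeroEuler.QP P)) →+ KZero.K0sub P :=
    FreeAbelianGroup.lift (fun K : Subtype (Groth.Agent.Lib.helper2.KZeroEuler.QP P) =>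
      Groth.Agent.Lib.helper2.KZeroEuler.chi (KZero.clSub P) K.1)
  have hψ₀ : KZero.relTr (Groth.Agent.Lib.helper2.KZeroEuler.QP P) ≤ ψ₀.ker := by
    refine (AddSubgroup.closure_le _).2 ?_
    rintro x ⟨T, h₁, h₂, h₃, hT, rfl⟩
    change ψ₀ _ = 0
    simp only [map_sub, ψ₀, FreeAbelianGroup.lift_apply_of]
    obtain ⟨hP₁, a₁, b₁, ha₁, hb₁⟩ := h₁
    obtain ⟨hP₂, a₂, b₂, ha₂, hb₂⟩ := h₂
    obtain ⟨hP₃, a₃, b₃, ha₃, hb₃⟩ := h₃
    have := Groth.Agent.Lib.helper2.KZeroEuler.chi_additive hc T hT hP₁ hP₂ hP₃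
      (min a₁ a₃) (max b₁ b₃)
      (fun n hn => by
        obtain hn | hn := hn
        · exact DerivedCategory.isZero_of_isGE T.obj₁ a₁ n (lt_of_lt_of_le hn (min_le_left _ _))
        · exact DerivedCategory.isZero_of_isLE T.obj₁ b₁ n (lt_of_le_of_lt (le_max_left _ _) hn))
      (fun n hn => by
        obtain hn | hn := hn
        · exact DerivedCategory.isZero_of_isGE T.obj₃ a₃ n (lt_of_lt_of_le hn (min_le_right _ _))
        · exact DerivedCategory.isZero_of_isLE T.obj₃ b₃ n (lt_of_le_of_lt (le_max_right _ _) hn))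
    rw [this]
    abel
  let ψ : KZero.K0tr (Groth.Agent.Lib.helper2.KZeroEuler.QP P) →+ KZero.K0sub P :=
    QuotientAddGroup.lift (KZero.relTr (Groth.Agent.Lib.helper2.KZeroEuler.QP P)) ψ₀ hψ₀
  -- `ψ ∘ φ = id`
  have hψφ : ∀ x, ψ (φ x) = x := by
    intro x
    induction x using QuotientAddGroup.induction_on with
    | H z =>
      induction z using FreeAbelianGroup.induction_on with
      | zero => simp
      | of X =>
        have h1 : (QuotientAddGroup.mk (FreeAbelianGroup.of X) : KZero.K0sub P) =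
            KZero.clSub P X.1 := by
          simp only [KZero.clSub, dif_pos X.2]
        rw [h1, hφ X.1 X.2]
        simp only [KZero.clTr, dif_pos (Groth.Agent.Lib.helper2.KZeroEuler.QP_single 0 X.2)]
        change ψ₀ (FreeAbelianGroup.of _) = _
        simp only [ψ₀, FreeAbelianGroup.lift_apply_of]
        exact Groth.Agent.Lib.helper2.KZeroEuler.chi_single hc X.2
      | neg X ih =>
        rw [QuotientAddGroup.mk_neg, map_neg, map_neg, ih]
      | add x y hx hy =>
        rw [QuotientAddGroup.mk_add, map_add, map_add, hx, hy]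
  -- surjectivity of `φ`
  have hsurj : Function.Surjective φ := by
    intro y
    induction y using QuotientAddGroup.induction_on with
    | H z =>
      induction z using FreeAbelianGroup.induction_on with
      | zero => exact ⟨0, map_zero _⟩
      | of K =>
        have h1 : (QuotientAddGroup.mk (FreeAbelianGroup.of K) :
            KZero.K0tr (Groth.Agent.Lib.helper2.KZeroEuler.QP P)) =
            KZero.clTr (Groth.Agent.Lib.helper2.KZeroEuler.QP P) K.1 := by
          simp only [KZero.clTr, dif_pos K.2]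
        rw [h1]
        have := Groth.Agent.Lib.helper2.KZeroEuler.d_mem_of_devissage hd φ.range
          (fun X hX => ⟨KZero.clSub P X, hφ X hX⟩) K.1 K.2
        exact this
      | neg X ih =>
        obtain ⟨x, hx⟩ := ih
        exact ⟨-x, by rw [map_neg, hx, QuotientAddGroup.mk_neg]⟩
      | add x y hx hy =>
        obtain ⟨x', hx'⟩ := hx
        obtain ⟨y', hy'⟩ := hy
        exact ⟨x' + y', by rw [map_add, hx', hy', QuotientAddGroup.mk_add]⟩
  have hinj : Function.Injective φ := Function.LeftInverse.injective hψφ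
  exact ⟨AddEquiv.ofBijective φ ⟨hinj, hsurj⟩, fun X hX => hφ X hX⟩

end Groth.Agent.S3201
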