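import Groth.Statements.S3206
import Groth.Agent.Lib.helper13.Morse4

set_option autoImplicit false
open SGA7

namespace Groth.Agent.S3206

/-- Let k be a field and f a formal power series in n variables over k without constant term whose
partial derivatives ∂f/∂x_1, …, ∂f/∂x_n generate the maximal ideal of k[[x_1, …, x_n]]. Then there
are power series ε_1, …, ε_n with no terms of degree < 2 and a quadratic form q such that f = q(x_1
+ ε_1, …, x_n + ε_n). -/
theorem result (k : Type) [Field k] (n : ℕ) (f : MvPowerSeries (Fin n) k)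
    (hf0 : MvPowerSeries.constantCoeff f = 0)
    (hJ : Ideal.span (Set.range fun i : Fin n => MvPowerSeries.pderiv k i f) = IsLocalRing.maximalIdeal (MvPowerSeries (Fin n) k)) :
    ∃ (ε : Fin n → MvPowerSeries (Fin n) k) (_ : ∀ i (m : Fin n →₀ ℕ), m.degree < 2 → MvPowerSeries.coeff m (ε i) = 0)
      (q : MvPolynomial (Fin n) k) (_ : q.IsHomogeneous 2)
      (_ : MvPowerSeries.HasSubst (fun i : Fin n => MvPowerSeries.X i + ε i)),
      f = MvPowerSeries.subst (fun i : Fin n => MvPowerSeries.X i + ε i) (q : MvPowerSeries (Fin n) k) := by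
  obtain ⟨ε, q, hε, hq, hfq⟩ := Groth.Agent.Lib.helper13.Morse.morse f hf0 hJ
  refine ⟨ε, hε, q, hq, ?_, ?_⟩
  · apply MvPowerSeries.hasSubst_of_constantCoeff_zero
    intro i
    rw [map_add, MvPowerSeries.constantCoeff_X, zero_add]
    exact (Groth.Agent.Lib.helper13.Morse.ordGE_one_iff _).mp ((hε i).mono (by norm_num))
  · rw [MvPowerSeries.subst_coe]
    exact hfq

end Groth.Agent.S3206
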