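import Groth.Statements.S3214
import Mathlib

set_option autoImplicit false
open Polynomial
universe u
open SGA7II

namespace Groth.Agent.S3214aux
open Polynomial

theorem vieta (a : ℕ) :
    (∏ i : Fin a, (X - C (MvPolynomial.X i)) : (MvPolynomial (Fin a) ℤ)[X]) =
      ∑ j ∈ Finset.range (a + 1),
        (-1) ^ j * (C (MvPolynomial.esymm (Fin a) ℤ j) * X ^ (a - j)) := by
  let s := Finset.univ.val.map fun i : Fin a => (MvPolynomial.X i : MvPolynomial (Fin a) ℤ)
  have hcard : Multiset.card s = a := by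
    rw [Multiset.card_map]; simp
  have h := Multiset.prod_X_sub_X_eq_sum_esymm s
  rw [hcard] at h
  simp_rw [MvPolynomial.esymm_eq_multiset_esymm (Fin a) ℤ]
  rw [← h, Finset.prod_eq_multiset_prod]
  simp_rw [s, Multiset.map_map, Function.comp_apply]

theorem main (a : ℕ) (ha : 0 < a) :
    let P : (MvPolynomial (Fin a) ℤ)[X] := ∏ i : Fin a, (X - C (MvPolynomial.X i))
    let coef : ℤ → MvPolynomial (Fin a) ℤ := fun j =>
      if j < 0 then 0 else ((X : (MvPolynomial (Fin a) ℤ)[X]) ^ (a - 1 + j.toNat) %ₘ P).coeff (a - 1)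
    coef 0 = 1 ∧ ∀ j : ℕ, 0 < j →
      (∑ i ∈ Finset.range (a + 1), (-1 : MvPolynomial (Fin a) ℤ) ^ i * MvPolynomial.esymm (Fin a) ℤ i *
        coef ((j : ℤ) - i)) = 0 := by
  intro P coef
  have hPmonic : P.Monic := monic_prod_of_monic _ _ (fun i _ => monic_X_sub_C _)
  have hPdeg : P.natDegree = a := by
    rw [natDegree_prod_of_monic _ _ (fun i _ => monic_X_sub_C _)]
    simp
  have hsmall : ∀ k : ℕ, k < a → (X : (MvPolynomial (Fin a) ℤ)[X]) ^ k %ₘ P = X ^ k := by
    intro k hk
    rw [modByMonic_eq_self_iff hPmonic]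
    rw [degree_X_pow, degree_eq_natDegree hPmonic.ne_zero, hPdeg]
    exact_mod_cast hk
  refine ⟨?_, ?_⟩
  · show (if (0 : ℤ) < 0 then 0 else
      ((X : (MvPolynomial (Fin a) ℤ)[X]) ^ (a - 1 + (0 : ℤ).toNat) %ₘ P).coeff (a - 1)) = 1
    rw [if_neg (lt_irrefl _)]
    simp only [Int.toNat_zero, add_zero]
    rw [hsmall (a - 1) (by omega), coeff_X_pow, if_pos rfl]
  · intro j hj
    -- G = X^(j-1) * P
    have hG : ((X : (MvPolynomial (Fin a) ℤ)[X]) ^ (j - 1) * P) %ₘ P = 0 := by
      rw [modByMonic_eq_zero_iff_dvd hPmonic]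
      exact dvd_mul_left _ _
    have hexp : (X : (MvPolynomial (Fin a) ℤ)[X]) ^ (j - 1) * P =
        ∑ i ∈ Finset.range (a + 1),
          ((-1 : MvPolynomial (Fin a) ℤ) ^ i * MvPolynomial.esymm (Fin a) ℤ i) •
            (X : (MvPolynomial (Fin a) ℤ)[X]) ^ (a - i + (j - 1)) := by
      show _ * (∏ i : Fin a, (X - C (MvPolynomial.X i)) : (MvPolynomial (Fin a) ℤ)[X]) = _
      rw [vieta, Finset.mul_sum]
      refine Finset.sum_congr rfl fun i _ => ?_
      rw [smul_eq_C_mul, map_mul, map_pow, map_neg, map_one, pow_add]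
      ring
    have hlin : ((X : (MvPolynomial (Fin a) ℤ)[X]) ^ (j - 1) * P) %ₘ P =
        ∑ i ∈ Finset.range (a + 1),
          ((-1 : MvPolynomial (Fin a) ℤ) ^ i * MvPolynomial.esymm (Fin a) ℤ i) •
            ((X : (MvPolynomial (Fin a) ℤ)[X]) ^ (a - i + (j - 1)) %ₘ P) := by
      rw [hexp]
      have := map_sum (modByMonicHom P) (fun i => ((-1 : MvPolynomial (Fin a) ℤ) ^ i *
        MvPolynomial.esymm (Fin a) ℤ i) • (X : (MvPolynomial (Fin a) ℤ)[X]) ^ (a - i + (j - 1)))
        (Finset.range (a + 1))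
      simp only [modByMonicHom_apply, map_smul] at this
      simpa [smul_modByMonic] using this
    rw [hG] at hlin
    have hcoeff := congrArg (fun f => f.coeff (a - 1)) hlin
    simp only [coeff_zero, finsetSum_coeff, coeff_smul, smul_eq_mul] at hcoeff
    rw [hcoeff]
    refine Finset.sum_congr rfl fun i hi => ?_
    rw [Finset.mem_range] at hi
    congr 1
    show (if (j : ℤ) - i < 0 then 0 else
      ((X : (MvPolynomial (Fin a) ℤ)[X]) ^ (a - 1 + ((j : ℤ) - i).toNat) %ₘ P).coeff (a - 1)) = _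
    by_cases hij : (j : ℤ) - i < 0
    · rw [if_pos hij]
      have hlt : a - i + (j - 1) < a - 1 := by omega
      rw [hsmall _ (by omega), coeff_X_pow, if_neg (by omega)]
    · rw [if_neg hij]
      have : a - 1 + ((j : ℤ) - i).toNat = a - i + (j - 1) := by omega
      rw [this]

end Groth.Agent.S3214aux

namespace Groth.Agent.S3214

/-- In the recursive form established in its proof: let A = Z[X_1, ..., X_a] (a >= 1), P = prod_i (T -
X_i) in A[T] and S_i the i-th elementary symmetric function. Writing a_j for the coefficient of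
T^{a-1} in the remainder of T^{a-1+j} modulo P, one has a_0 = 1 and sum_{i=0}^{a} (-1)^i S_i a_{j-i}
= 0 for every j > 0 (with a_m = 0 for m < 0); equivalently sum_j (-1)^j a_j is the inverse of sum_i
S_i. (The source works in formal power series; the identity involves only polynomials.) -/
theorem result (a : ℕ) (ha : 0 < a) :
    let P : (MvPolynomial (Fin a) ℤ)[X] := ∏ i : Fin a, (X - C (MvPolynomial.X i))
    let coef : ℤ → MvPolynomial (Fin a) ℤ := fun j =>
      if j < 0 then 0 else ((X : (MvPolynomial (Fin a) ℤ)[X]) ^ (a - 1 + j.toNat) %ₘ P).coeff (a - 1)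
    coef 0 = 1 ∧ ∀ j : ℕ, 0 < j →
      (∑ i ∈ Finset.range (a + 1), (-1 : MvPolynomial (Fin a) ℤ) ^ i * MvPolynomial.esymm (Fin a) ℤ i *
        coef ((j : ℤ) - i)) = 0 := by
  exact Groth.Agent.S3214aux.main a ha

end Groth.Agent.S3214
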