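import Groth.Statements.S3248
import Mathlib
import Groth.Agent.Lib.helper17.CSA
-- import your own Groth.Agent.* helpers here

set_option autoImplicit false
universe u
open TensorProduct
open Dix

namespace Groth.Agent.S3248

namespace H5S3248
open TensorProduct

variable (k : Type*) [Field k] (A : Type*) [Ring A] [Algebra k A]
  (L : Type*) [CommRing L] [Algebra k L] (ι : L →ₐ[k] A) [Module L A]
  (hmod : ∀ (l : L) (a : A), l • a = a * ι l)

include hmod in
theorem tower : IsScalarTower k L A := ⟨fun c l a => by
  rw [hmod, hmod, map_smul, mul_smul_comm]⟩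

include hmod in
theorem smulComm : SMulCommClass L k A := ⟨fun l c a => by
  rw [hmod, hmod, smul_mul_assoc]⟩

/-- left multiplication as an `L`-linear endomorphism. -/
noncomputable def mulL [IsScalarTower k L A] [SMulCommClass L k A]
    (hmod : ∀ (l : L) (a : A), l • a = a * ι l) : A →ₐ[k] Module.End L A where
  toFun a :=
    { toFun := fun y => a * y
      map_add' := fun x y => mul_add a x y
      map_smul' := fun l y => by simp only [RingHom.id_apply, hmod, mul_assoc] }
  map_one' := by ext y; simp
  map_mul' a b := by ext y; simp [mul_assoc]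
  map_zero' := by ext y; simp
  map_add' a b := by ext y; simp [add_mul]
  commutes' c := by
    ext y
    simp [Algebra.algebraMap_eq_smul_one]

variable [IsScalarTower k L A] [SMulCommClass L k A]

@[simp] lemma mulL_apply (a y : A) : mulL k A L ι hmod a y = a * y := rfl

/-- the comparison map. -/
noncomputable def Φ : L ⊗[k] A →ₐ[L] Module.End L A :=
  Algebra.TensorProduct.lift (Algebra.ofId L (Module.End L A)) (mulL k A L ι hmod)
    (fun _ _ => Algebra.commutes _ _)

lemma Φ_tmul (l : L) (a y : A) : Φ k A L ι hmod (l ⊗ₜ a) y = a * y * ι l := by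
  unfold Φ
  rw [Algebra.TensorProduct.lift_tmul]
  simp [Algebra.ofId_apply, Algebra.algebraMap_eq_smul_one, hmod]

omit [Module L A] [IsScalarTower k L A] [SMulCommClass L k A] in
lemma baseChange_pure (b c : A) (x : L ⊗[k] A) :
    (AlgHom.mulLeftRight k A (b ⊗ₜ MulOpposite.op c)).baseChange L x =
      ((1 : L) ⊗ₜ[k] b) * x * ((1 : L) ⊗ₜ[k] c) := by
  induction x using TensorProduct.induction_on with
  | zero => simp
  | tmul l a =>
    rw [LinearMap.baseChange_tmul, AlgHom.mulLeftRight_apply]
    simp [Algebra.TensorProduct.tmul_mul_tmul, mul_assoc]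
  | add x y hx hy => rw [map_add, hx, hy, mul_add, add_mul]

lemma ker_stable (t : A ⊗[k] Aᵐᵒᵖ) (x : L ⊗[k] A) (hx : Φ k A L ι hmod x = 0) :
    Φ k A L ι hmod ((AlgHom.mulLeftRight k A t).baseChange L x) = 0 := by
  induction t using TensorProduct.induction_on with
  | zero => simp
  | tmul b c =>
    obtain ⟨c, rfl⟩ := MulOpposite.op_surjective c
    rw [baseChange_pure, map_mul, map_mul, hx, mul_zero, zero_mul]
  | add s t hs ht =>
    rw [map_add, LinearMap.baseChange_add, LinearMap.add_apply, map_add, hs, ht, add_zero]

theorem Φ_injective [Algebra.IsCentral k A] [IsSimpleRing A] [FiniteDimensional k A]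
    (hι : Function.Injective ι) : Function.Injective (Φ k A L ι hmod) := by
  classical
  rw [injective_iff_map_eq_zero]
  intro x hx
  let b := Module.finBasis k A
  let B := Algebra.TensorProduct.basis L b
  apply B.repr.injective
  ext i₀
  rw [map_zero, Finsupp.zero_apply]
  let f : A →ₗ[k] A := b.constr k (fun i => if i = i₀ then (1 : A) else 0)
  obtain ⟨t, ht⟩ := Groth.Agent.Lib.helper17.CSA.mulLeftRight_surjective k A f
  have h1 := ker_stable k A L ι hmod t x hx
  rw [ht] at h1
  have h2 : f.baseChange L x = (B.repr x i₀) ⊗ₜ[k] (1 : A) := by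
    conv_lhs => rw [← B.sum_repr x]
    rw [map_sum]
    rw [Finset.sum_eq_single i₀]
    · rw [map_smul, Algebra.TensorProduct.basis_apply, LinearMap.baseChange_tmul]
      simp only [f, Module.Basis.constr_basis, if_true]
      rw [TensorProduct.smul_tmul', smul_eq_mul, mul_one]
    · intro i _ hi
      rw [map_smul, Algebra.TensorProduct.basis_apply, LinearMap.baseChange_tmul]
      simp only [f, Module.Basis.constr_basis, if_neg hi]
      rw [tmul_zero, smul_zero]
    · intro h; exact absurd (Finset.mem_univ _) h
  rw [h2] at h1
  have h3 := congrArg (fun g => g (1 : A)) h1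
  simp only [Φ_tmul, LinearMap.zero_apply, mul_one, one_mul] at h3
  exact (map_eq_zero_iff ι hι).mp h3

include hmod in
theorem main [Algebra.IsCentral k A] [IsSimpleRing A] [FiniteDimensional k A]
    (hι : Function.Injective ι) [Module.Free L A] (r : ℕ)
    (hA : Module.finrank k A = r ^ 2) (hrank : Module.finrank L A = r) :
    Nonempty ((L ⊗[k] A) ≃ₐ[L] Matrix (Fin r) (Fin r) L) := by
  classical
  have : Module.Finite L A := Module.Finite.of_restrictScalars_finite k L A
  have : FiniteDimensional k L := FiniteDimensional.of_injective ι.toLinearMap hι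
  have : Nontrivial L := ι.toRingHom.domain_nontrivial
  let bL : Module.Basis (Fin r) L A := Module.finBasisOfFinrankEq L A hrank
  let e : Module.End L A ≃ₐ[L] Matrix (Fin r) (Fin r) L := algEquivMatrix bL
  let Ψ : L ⊗[k] A →ₐ[L] Matrix (Fin r) (Fin r) L := (e : Module.End L A →ₐ[L] _).comp (Φ k A L ι hmod)
  have hinj : Function.Injective Ψ := e.injective.comp (Φ_injective k A L ι hmod hι)
  have hfr : Module.finrank k (L ⊗[k] A) = Module.finrank k (Matrix (Fin r) (Fin r) L) := by
    rw [Module.finrank_tensorProduct, Module.finrank_matrix, hA]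
    simp only [Fintype.card_fin]
    ring
  have hsurj : Function.Surjective Ψ :=
    (LinearMap.injective_iff_surjective_of_finrank_eq_finrank
      (f := Ψ.toLinearMap.restrictScalars k) hfr).mp hinj
  exact ⟨AlgEquiv.ofBijective Ψ ⟨hinj, hsurj⟩⟩

end H5S3248

/-- Stated for a commutative subalgebra: let A be a central simple algebra of dimension r² over a field
k and L a commutative k-algebra embedded in A by an injective k-algebra homomorphism ι, such that A
is free of rank r for the right L-module structure a · l = a ι(l) (given here as a module structure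
together with that compatibility). Then L ⊗_k A is isomorphic as an L-algebra to the matrix algebra
M_r(L). (Only the existence of an isomorphism is stated; the text names the map a ⊗ l ↦ (y ↦ a y
l).) -/
theorem result (k : Type u) [Field k] (A : Type u) [Ring A] [Algebra k A] [Algebra.IsCentral k A] [IsSimpleRing A] [FiniteDimensional k A] (L : Type u) [CommRing L] [Algebra k L] (ι : L →ₐ[k] A) (hι : Function.Injective ι) [Module L A] (hmod : ∀ (l : L) (a : A), l • a = a * ι l) [Module.Free L A] (r : ℕ) (hr : 0 < r) (hA : Module.finrank k A = r ^ 2) (hrank : Module.finrank L A = r) : Nonempty ((L ⊗[k] A) ≃ₐ[L] Matrix (Fin r) (Fin r) L) := by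
  haveI := H5S3248.tower k A L ι hmod
  haveI := H5S3248.smulComm k A L ι hmod
  exact H5S3248.main k A L ι hmod hι r hA hrank

end Groth.Agent.S3248
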