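import Groth.Statements.S5237
import Mathlib
import Groth.Prelude.Def_NonAbH2
import Groth.Prelude.Def_ChGrp
import Groth.Agent.S18859
import Groth.Agent.S18977
import Groth.Agent.S8718
-- import your own Groth.Agent.* helpers here

set_option autoImplicit false
open CategoryTheory CategoryTheory.Limits AlgebraicGeometry MonoidalCategory
universe u
open RedSub

namespace Groth.Agent.S5237

open CategoryTheory CategoryTheory.Limits AlgebraicGeometry

namespace H5S5237

open MonoidalCategory CartesianMonoidalCategory MonObj Groth.Agent.S18859 Groth.Agent.S18977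
  Groth.Agent.S8718

variable {S : Scheme.{u}}

/-- descent of a homomorphism along a homomorphism with fpqc-local sections -/
theorem desc_hom {G Q K : Over S} [GrpObj G] [GrpObj Q] [GrpObj K] (q : G ⟶ Q) [IsMonHom q]
    (hloc : NonAbH1.IsLocallyTrivialFor Scheme.fpqcPrecoverage (Over.mk q.left : Over Q.left))
    (f : G ⟶ K) [IsMonHom f]
    (hx : ∀ {W : Over S} (p₁ p₂ : W ⟶ G), p₁ ≫ q = p₂ ≫ q → p₁ ≫ f = p₂ ≫ f) :
    ∃ g : Q ⟶ K, IsMonHom g ∧ q ≫ g = f ∧ ∀ g' : Q ⟶ K, q ≫ g' = f → g' = g := by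
  obtain ⟨g, hg, hgu⟩ := H5S8718.desc_over q hloc f hx
  refine ⟨g, ⟨?_, ?_⟩, hg, fun g' hg' => hgu g' hg'⟩
  · rw [← IsMonHom.one_hom (f := q), Category.assoc, hg, IsMonHom.one_hom]
  · apply H5S8718.epi_of_loc (Q ◁ q) (H5S8718.loc_whiskerLeft q Q hloc)
    apply H5S8718.epi_of_loc (q ▷ G) (H5S8718.loc_whiskerRight q G hloc)
    apply AlgGrp.Action.hom_ext_lift₂
    intro T a b
    have e1 : lift a b ≫ (q ▷ G) ≫ (Q ◁ q) = lift (a ≫ q) (b ≫ q) := by
      rw [lift_whiskerRight_assoc, lift_whiskerLeft]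
    rw [reassoc_of% e1, reassoc_of% e1,
      ← Category.assoc, ← Hom.mul_def, ← MonObj.mul_comp, Category.assoc, hg, MonObj.mul_comp,
      lift_map_assoc, ← Hom.mul_def, Category.assoc, Category.assoc, hg]

theorem main {H G Q K : Over S}
    [GrpObj H] [GrpObj G] [GrpObj Q] [GrpObj K]
    (i : H ⟶ G) [IsMonHom i]
    (q : G ⟶ Q) [IsMonHom q] (hq : RedSub.IsQuotient i q)
    (f : G ⟶ K) [IsMonHom f] (hf : i ≫ f = 1) :
    ∃! g : Q ⟶ K, q ≫ g = f ∧ IsMonHom g := by
  obtain ⟨hs, hfl, hfp, hsq⟩ := hq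
  haveI := hs
  haveI := hfl
  haveI := hfp
  have hloc : NonAbH1.IsLocallyTrivialFor Scheme.fpqcPrecoverage (Over.mk q.left : Over Q.left) := by
    refine ⟨Presieve.singleton q.left,
      Scheme.fppfPrecoverage_le_fpqcPrecoverage _ q.left.singleton_mem_fppfPrecoverage, ?_⟩
    rintro _ _ ⟨⟩
    exact ⟨𝟙 _, Category.id_comp _⟩
  obtain ⟨g, hgm, hg, hgu⟩ := desc_hom q hloc f (fun p₁ p₂ hp => by
    obtain ⟨h, hh, -⟩ := H5S8718.kerTr i q hsq p₁ p₂ hp
    rw [← hh, MonObj.mul_comp, Category.assoc, hf, MonObj.comp_one, _root_.mul_one])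
  exact ⟨g, ⟨hg, hgm⟩, fun g' hg' => hgu g' hg'.1⟩

end H5S5237

open MonObj GrpObj CartesianMonoidalCategory in
/-- For group schemes and the fppf topology: if `q : G ⟶ Q = G/H` is the fppf quotient of `G` by a
normal subgroup `H`, with its group structure, then a homomorphism `G ⟶ K` that kills `H` factors
uniquely through `q`, and the factorisation is a homomorphism. -/
theorem result {S : Scheme.{u}} {H G Q K : Over S}
    [GrpObj H] [GrpObj G] [GrpObj Q] [GrpObj K]
    (i : H ⟶ G) [IsMonHom i] [Mono i] (hn : AlgGrp.IsNormalHom i)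
    (q : G ⟶ Q) [IsMonHom q] (hq : RedSub.IsQuotient i q)
    (f : G ⟶ K) [IsMonHom f] (hf : i ≫ f = 1) :
    ∃! g : Q ⟶ K, q ≫ g = f ∧ IsMonHom g := by
  exact H5S5237.main i q hq f hf

end Groth.Agent.S5237
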