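import Groth.Statements.S3287


set_option autoImplicit false
universe u
open Finset
open LambdaRing

namespace Groth.Agent.S3287

/-- For a line element u (positive of augmentation one) of a λ-ring with positive structure, ψ^j(u) =
u^j for every j. -/
theorem result (K : Type u) [CommRing K] [LambdaRing.LambdaOps K] (P : LambdaRing.PosStructure K) (u : K) (hu : P.IsLine u) (j : ℕ) :
    LambdaRing.adams P j u = u ^ j := by
  classical
  obtain ⟨hpos, haug⟩ := hu
  have hlam : ∀ i : ℕ, 2 ≤ i → LambdaRing.LambdaOps.lam i u = 0 := by
    intro i hi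
    apply P.lam_eq_zero u hpos i
    rw [haug]
    exact_mod_cast hi
  set L : PowerSeries K := PowerSeries.rescale (-1 : K) (LambdaRing.lamSeries u) with hLdef
  have hL : L = 1 - PowerSeries.C u * PowerSeries.X := by
    ext n
    rw [hLdef, PowerSeries.coeff_rescale, LambdaRing.lamSeries, PowerSeries.coeff_mk, map_sub,
      PowerSeries.coeff_one, PowerSeries.coeff_C_mul, PowerSeries.coeff_X]
    rcases n with _ | _ | n
    · simp [LambdaRing.LambdaOps.lam_zero]
    · simp [LambdaRing.LambdaOps.lam_one]
    · rw [hlam (n + 2) (by omega)]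
      simp
  set G : PowerSeries K := PowerSeries.mk fun n => u ^ n with hG
  have hXG : G = 1 + PowerSeries.X * PowerSeries.C u * G := by
    ext n
    rcases n with _ | n
    · simp [hG, mul_assoc]
    · rw [map_add, mul_assoc, PowerSeries.coeff_succ_X_mul, PowerSeries.coeff_C_mul, hG,
        PowerSeries.coeff_mk, PowerSeries.coeff_mk, PowerSeries.coeff_one]
      simp [pow_succ']
  have hLG : L * G = 1 := by
    rw [hL]
    calc (1 - PowerSeries.C u * PowerSeries.X) * G
        = G - PowerSeries.X * PowerSeries.C u * G := by ring
      _ = 1 := by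
        conv_lhs => lhs; rw [hXG]
        ring
  have hLconst : PowerSeries.constantCoeff L = ((1 : Kˣ) : K) := by
    rw [hL]; simp
  have hinv : L.invOfUnit 1 = G := by
    have h1 : L * L.invOfUnit 1 = 1 := PowerSeries.mul_invOfUnit L 1 hLconst
    calc L.invOfUnit 1 = (L * G) * L.invOfUnit 1 := by rw [hLG, one_mul]
      _ = G * (L * L.invOfUnit 1) := by ring
      _ = G := by rw [h1, mul_one]
  have hder : PowerSeries.derivative K L = -PowerSeries.C u := by
    rw [hL]
    simp
  have hser : LambdaRing.adamsSeries P u = G := by
    rw [LambdaRing.adamsSeries, ← hLdef, hder, hinv, haug]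
    conv_rhs => rw [hXG]
    simp only [Int.cast_one, map_one]
    ring
  rw [LambdaRing.adams, hser, hG, PowerSeries.coeff_mk]

end Groth.Agent.S3287
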