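import Groth.Statements.S3296
-- import your own Groth.Agent.* helpers here
import Groth.Agent.Lib.helper6.AdamsEigen

set_option autoImplicit false
universe u
open Finset
open TensorProduct
open LambdaRing

namespace Groth.Agent.S3296

/-- Let K be a λ-ring with positive structure having the splitting property, whose γ-filtration
satisfies F^(d+1) K = 0. For j ≥ 2 let Ψ_j be the ℚ-linear endomorphism of ℚ ⊗ K induced by ψ^j.
Then ℚ ⊗ K is the sum of the eigenspaces of Ψ_j for the eigenvalues j^m, 0 ≤ m ≤ d, and the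
eigenspace for j^m does not depend on j. -/
theorem result (K : Type u) [CommRing K] [LambdaRing.LambdaOps K] (P : LambdaRing.PosStructure K) (hK : LambdaRing.HasSplitting K P) (d : ℕ)
    (hd : LambdaRing.gammaFiltration P (d + 1) = ⊥)
    (j l : ℕ) (hj : 2 ≤ j) (hl : 2 ≤ l)
    (Ψj Ψl : ℚ ⊗[ℤ] K →ₗ[ℚ] ℚ ⊗[ℤ] K)
    (hΨj : ∀ x : K, Ψj (1 ⊗ₜ[ℤ] x) = 1 ⊗ₜ[ℤ] LambdaRing.adams P j x)
    (hΨl : ∀ x : K, Ψl (1 ⊗ₜ[ℤ] x) = 1 ⊗ₜ[ℤ] LambdaRing.adams P l x) :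
    (⨆ m ∈ range (d + 1), Module.End.eigenspace Ψj ((j : ℚ) ^ m)) = ⊤ ∧
    ∀ m : ℕ, Module.End.eigenspace Ψj ((j : ℚ) ^ m) = Module.End.eigenspace Ψl ((l : ℚ) ^ m) := by
  have hSj := Groth.Agent.Lib.helper6.AdamsEigen.setup P hK d hd j hj Ψj hΨj
  have hSl := Groth.Agent.Lib.helper6.AdamsEigen.setup P hK d hd l hl Ψl hΨl
  refine ⟨hSj.iSup_eq_top, fun m => le_antisymm ?_ ?_⟩
  · exact hSj.eigenspace_le_of_commute (Φ := Ψl) (c' := fun n => (l : ℚ) ^ n)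
      (Groth.Agent.Lib.helper6.AdamsEigen.commute_of_adams P hK j l Ψj Ψl hΨj hΨl) hSl.step m
  · exact hSl.eigenspace_le_of_commute (Φ := Ψj) (c' := fun n => (j : ℚ) ^ n)
      (Groth.Agent.Lib.helper6.AdamsEigen.commute_of_adams P hK l j Ψl Ψj hΨl hΨj) hSj.step m

end Groth.Agent.S3296
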