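import Groth.Statements.S3350


set_option autoImplicit false
open Finset
open Models Models.NumericalType

namespace Groth.Agent.S3350

/-- Classification of proper subgraphs with two vertices: Let T be a numerical type on n > 2 indices and
i ≠ j two (-2)-indices (g = 0 and a_ii = -2 w_i, a_jj = -2 w_j) with a_ij > 0. Then, after possibly
exchanging i and j, one of the following holds with w = w_i: (A2) w_j = w, a_ij = w, 2 m_i ≥ m_j and
2 m_j ≥ m_i; (B2) w_j = 2w, a_ij = 2w, m_i ≥ m_j and 2 m_j ≥ m_i; (G2) w_j = 3w, a_ij = 3w, 2 m_i ≥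
3 m_j and 2 m_j ≥ m_i. -/
theorem result {n : ℕ} (T : Models.NumericalType n) (hn : 2 < n) (i j : Fin n)
    (hij : i ≠ j) (hi : T.IsMinusTwo i) (hj : T.IsMinusTwo j) (hpos : 0 < T.a i j) :
    ∃ i' j' : Fin n, ((i' = i ∧ j' = j) ∨ (i' = j ∧ j' = i)) ∧
      ((T.w j' = T.w i' ∧ T.a i' j' = T.w i' ∧ T.m j' ≤ 2 * T.m i' ∧ T.m i' ≤ 2 * T.m j') ∨
        (T.w j' = 2 * T.w i' ∧ T.a i' j' = 2 * T.w i' ∧ T.m j' ≤ T.m i' ∧ T.m i' ≤ 2 * T.m j') ∨
        (T.w j' = 3 * T.w i' ∧ T.a i' j' = 3 * T.w i' ∧ 3 * T.m j' ≤ 2 * T.m i' ∧ T.m i' ≤ 2 * T.m j')) := by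
  classical
  obtain ⟨hgi, haii⟩ := hi
  obtain ⟨hgj, hajj⟩ := hj
  have hsym : T.a j i = T.a i j := T.symm.apply i j
  have hmi := T.m_pos i
  have hmj := T.m_pos j
  have hwi := T.w_pos i
  have hwj := T.w_pos j
  -- the two rows of `a • m = 0`
  have hrow : ∀ s t : Fin n, s ≠ t →
      T.a s s * T.m s + (T.a s t * T.m t + ∑ k ∈ (univ.erase s).erase t, T.a s k * T.m k) = 0 := by
    intro s t hst
    have h := congrFun T.mulVec_m s
    simp only [Matrix.mulVec, dotProduct, Pi.zero_apply] at h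
    rw [← h, Finset.add_sum_erase (univ.erase s) (fun k => T.a s k * T.m k)
      (mem_erase.mpr ⟨hst.symm, mem_univ t⟩),
      Finset.add_sum_erase univ (fun k => T.a s k * T.m k) (mem_univ s)]
  have hterm : ∀ s t : Fin n, ∀ k ∈ (univ.erase s).erase t, 0 ≤ T.a s k * T.m k := by
    intro s t k hk
    have hks : k ≠ s := (mem_erase.mp (mem_erase.mp hk).2).1
    exact mul_nonneg (T.offDiag_nonneg s k hks.symm) (T.m_pos k).le
  have hRnn : ∀ s t : Fin n, 0 ≤ ∑ k ∈ (univ.erase s).erase t, T.a s k * T.m k :=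
    fun s t => Finset.sum_nonneg (hterm s t)
  have hRzero : ∀ s t : Fin n, (∑ k ∈ (univ.erase s).erase t, T.a s k * T.m k) = 0 →
      ∀ k, k ≠ s → k ≠ t → T.a s k = 0 := by
    intro s t h0 k hks hkt
    have hk : k ∈ (univ.erase s).erase t := mem_erase.mpr ⟨hkt, mem_erase.mpr ⟨hks, mem_univ k⟩⟩
    have := (Finset.sum_eq_zero_iff_of_nonneg (hterm s t)).mp h0 k hk
    rcases mul_eq_zero.mp this with h | h
    · exact h
    · exact absurd h (T.m_pos k).ne'
  set Ri := ∑ k ∈ (univ.erase i).erase j, T.a i k * T.m k with hRi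
  set Rj := ∑ k ∈ (univ.erase j).erase i, T.a j k * T.m k with hRj
  have hrowi := hrow i j hij
  have hrowj := hrow j i hij.symm
  rw [← hRi] at hrowi
  rw [← hRj] at hrowj
  have hRi0 : 0 ≤ Ri := hRnn i j
  have hRj0 : 0 ≤ Rj := hRnn j i
  obtain ⟨p, hp⟩ := T.w_dvd i j
  obtain ⟨q, hq⟩ := T.w_dvd j i
  rw [hsym] at hq hrowj
  rw [haii] at hrowi
  rw [hajj] at hrowj
  have hppos : 0 < p := by
    by_contra hneg
    have : p ≤ 0 := by omega
    nlinarith
  have hqpos : 0 < q := by
    by_contra hneg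
    have : q ≤ 0 := by omega
    nlinarith
  have hpm : p * T.m j ≤ 2 * T.m i := by
    have h1 : T.w i * (p * T.m j - 2 * T.m i) = -Ri := by rw [hp] at hrowi; linarith
    by_contra hneg
    have : 0 < p * T.m j - 2 * T.m i := by omega
    nlinarith
  have hqm : q * T.m i ≤ 2 * T.m j := by
    have h1 : T.w j * (q * T.m i - 2 * T.m j) = -Rj := by rw [hq] at hrowj; linarith
    by_contra hneg
    have : 0 < q * T.m i - 2 * T.m j := by omega
    nlinarith
  have hpq4 : p * q ≤ 4 := by
    have h1 : (p * T.m j) * (q * T.m i) ≤ (2 * T.m i) * (2 * T.m j) :=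
      mul_le_mul hpm hqm (by positivity) (by positivity)
    have h2 : 0 < T.m i * T.m j := mul_pos hmi hmj
    by_contra hneg
    have : 5 ≤ p * q := by omega
    nlinarith
  have hpq3 : p * q ≠ 4 := by
    intro h4
    have h2 : 0 < T.m i * T.m j := mul_pos hmi hmj
    have hpm' : p * T.m j = 2 * T.m i := by
      by_contra hne
      have hlt : p * T.m j < 2 * T.m i := lt_of_le_of_ne hpm hne
      have : (p * T.m j) * (q * T.m i) < (2 * T.m i) * (2 * T.m j) :=
        mul_lt_mul hlt hqm (by positivity) (by positivity)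
      have h5 : (p * T.m j) * (q * T.m i) = (p * q) * (T.m i * T.m j) := by ring
      rw [h5, h4] at this
      nlinarith
    have hqm' : q * T.m i = 2 * T.m j := by
      by_contra hne
      have hlt : q * T.m i < 2 * T.m j := lt_of_le_of_ne hqm hne
      have : (q * T.m i) * (p * T.m j) < (2 * T.m j) * (2 * T.m i) :=
        mul_lt_mul hlt hpm (by positivity) (by positivity)
      have h5 : (q * T.m i) * (p * T.m j) = (p * q) * (T.m i * T.m j) := by ring
      rw [h5, h4] at this
      nlinarith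
    have hRi00 : Ri = 0 := by
      have h1 : T.w i * (p * T.m j - 2 * T.m i) = -Ri := by rw [hp] at hrowi; linarith
      rw [hpm'] at h1
      simpa using h1.symm
    have hRj00 : Rj = 0 := by
      have h1 : T.w j * (q * T.m i - 2 * T.m j) = -Rj := by rw [hq] at hrowj; linarith
      rw [hqm'] at h1
      simpa using h1.symm
    have hzi := hRzero i j hRi00
    have hzj := hRzero j i hRj00
    have hIne : ({i, j} : Finset (Fin n)).Nonempty := ⟨i, by simp⟩
    have hIuniv : ({i, j} : Finset (Fin n)) ≠ univ := by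
      intro h
      have hc := congrArg Finset.card h
      rw [Finset.card_pair hij, Finset.card_univ, Fintype.card_fin] at hc
      omega
    obtain ⟨x, hx, y, hy, hxy⟩ := T.connected _ hIne hIuniv
    have hyi : y ≠ i := fun h => hy (by simp [h])
    have hyj : y ≠ j := fun h => hy (by simp [h])
    rcases Finset.mem_insert.mp hx with rfl | hx'
    · exact hxy (hzi y hyi hyj)
    · rw [Finset.mem_singleton] at hx'
      subst hx'
      exact hxy (hzj y hyj hyi)
  have hp4 : p ≤ 4 := by nlinarith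
  have hq4 : q ≤ 4 := by nlinarith
  have haji : T.a j i = T.w j * q := by rw [hsym]; exact hq
  interval_cases p <;> interval_cases q <;>
    first
    | (exfalso; omega)
    | exact ⟨i, j, Or.inl ⟨rfl, rfl⟩, Or.inl ⟨by linarith, by linarith, by linarith, by linarith⟩⟩
    | exact ⟨i, j, Or.inl ⟨rfl, rfl⟩, Or.inr (Or.inl ⟨by linarith, by linarith, by linarith, by linarith⟩)⟩
    | exact ⟨i, j, Or.inl ⟨rfl, rfl⟩, Or.inr (Or.inr ⟨by linarith, by linarith, by linarith, by linarith⟩)⟩
    | exact ⟨j, i, Or.inr ⟨rfl, rfl⟩, Or.inr (Or.inl ⟨by linarith, by linarith, by linarith, by linarith⟩)⟩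
    | exact ⟨j, i, Or.inr ⟨rfl, rfl⟩, Or.inr (Or.inr ⟨by linarith, by linarith, by linarith, by linarith⟩)⟩

end Groth.Agent.S3350
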