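import Groth.Statements.S3404
import Mathlib

set_option autoImplicit false
open CategoryTheory AlgebraicGeometry
universe u
open EGA41

namespace Groth.Agent.S3404


theorem algA {A B : Type u} [CommRing A] [CommRing B] (φ : A →+* B)
    (q : Ideal B) [q.IsPrime] (p : Ideal A) [p.IsPrime]
    (h : ∀ s : B, s ∉ q → ∃ q'' : Ideal B, q''.IsPrime ∧ s ∉ q'' ∧ q''.comap φ = p) :
    ∃ q' : Ideal B, q'.IsPrime ∧ q' ≤ q ∧ q'.comap φ = p := by
  classical
  let M : Submonoid B := q.primeCompl ⊔ p.primeCompl.map φ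
  have hdisj : Disjoint ((p.map φ : Ideal B) : Set B) (M : Set B) := by
    rw [Set.disjoint_left]
    intro b hb hbM
    obtain ⟨s, hs, t, ht, rfl⟩ := Submonoid.mem_sup.mp hbM
    obtain ⟨a, ha, rfl⟩ := ht
    obtain ⟨q'', hq'', hsq'', hcomap⟩ := h s hs
    have hle : p.map φ ≤ q'' := by
      rw [Ideal.map_le_iff_le_comap, hcomap]
    have h1 : s * φ a ∈ q'' := hle hb
    rcases hq''.mem_or_mem h1 with h2 | h2
    · exact hsq'' h2
    · have : a ∈ q''.comap φ := h2
      rw [hcomap] at this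
      exact ha this
  obtain ⟨q', hq', hle, hd⟩ := Ideal.exists_le_prime_disjoint _ _ hdisj
  refine ⟨q', hq', ?_, ?_⟩
  · intro b hb
    by_contra hbq
    exact Set.disjoint_left.mp hd hb (Submonoid.mem_sup_left (S := q.primeCompl) hbq)
  · apply le_antisymm
    · intro a ha
      by_contra hap
      exact Set.disjoint_left.mp hd (show φ a ∈ q' from ha)
        (Submonoid.mem_sup_right (Submonoid.mem_map_of_mem _ hap))
    · rw [← Ideal.map_le_iff_le_comap]; exact hle

theorem algB {A B : Type u} [CommRing A] [CommRing B] (φ : A →+* B) (hφ : φ.FinitePresentation)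
    (q : PrimeSpectrum B)
    (h : ∀ p' : PrimeSpectrum A, p' ≤ PrimeSpectrum.comap φ q →
      ∃ q' : PrimeSpectrum B, PrimeSpectrum.comap φ q' = p') :
    Set.range (PrimeSpectrum.comap φ) ∈ nhds (PrimeSpectrum.comap φ q) := by
  classical
  have hE : Topology.IsConstructible (Set.range (PrimeSpectrum.comap φ)) :=
    PrimeSpectrum.isConstructible_range_comap hφ
  obtain ⟨S, _, g, hg⟩ := PrimeSpectrum.exists_range_eq_of_isConstructible hE.compl
  set P := PrimeSpectrum.comap φ q with hP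
  have hzero : (0 : S) ∈ P.asIdeal.primeCompl.map g := by
    by_contra h0
    have hdisj : Disjoint (((⊥ : Ideal S) : Ideal S) : Set S)
        ((P.asIdeal.primeCompl.map g : Submonoid S) : Set S) := by
      rw [Set.disjoint_left]
      intro b hb hbM
      have : b = 0 := hb
      subst this
      exact h0 hbM
    obtain ⟨Q, hQ, -, hd⟩ := Ideal.exists_le_prime_disjoint _ _ hdisj
    let Q' : PrimeSpectrum S := ⟨Q, hQ⟩
    have hle : PrimeSpectrum.comap g Q' ≤ P := by
      intro a ha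
      by_contra haP
      exact Set.disjoint_left.mp hd (show g a ∈ Q from ha) (Submonoid.mem_map_of_mem _ haP)
    obtain ⟨q', hq'⟩ := h _ hle
    have h1 : PrimeSpectrum.comap g Q' ∈ (Set.range (PrimeSpectrum.comap φ))ᶜ := by
      rw [← hg]; exact ⟨Q', rfl⟩
    exact h1 ⟨q', hq'⟩
  obtain ⟨a, ha, hga⟩ := hzero
  have hsub : (PrimeSpectrum.basicOpen a : Set (PrimeSpectrum A)) ⊆
      Set.range (PrimeSpectrum.comap φ) := by
    intro p' hp'
    by_contra hnot
    have : p' ∈ Set.range (PrimeSpectrum.comap g) := by rw [hg]; exact hnot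
    obtain ⟨Q', rfl⟩ := this
    apply hp'
    show g a ∈ Q'.asIdeal
    rw [hga]; exact Q'.asIdeal.zero_mem
  exact Filter.mem_of_superset ((PrimeSpectrum.basicOpen a).isOpen.mem_nhds ha) hsub

/-- Let f : X ⟶ Y be a morphism of schemes, x a point of X and y = f x. If f is open at x then every
generization of y is the image of a generization of x; when f is locally of finite presentation the
converse holds. -/
theorem result {X Y : Scheme.{u}} (f : X ⟶ Y) (x : X) :
    (EGA43.IsOpenAt f.base x → ∀ y' : Y, y' ⤳ f.base x → ∃ x' : X, x' ⤳ x ∧ f.base x' = y') ∧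
    (LocallyOfFinitePresentation f →
      ((EGA43.IsOpenAt f.base x) ↔ ∀ y' : Y, y' ⤳ f.base x → ∃ x' : X, x' ⤳ x ∧ f.base x' = y')) := by
  classical
  -- common chart setup
  have chart : ∀ (U₀ : Set X), U₀ ∈ nhds x → ∃ (A B : CommRingCat.{u}) (φ : A ⟶ B)
      (a : Spec B ⟶ X) (b : Spec A ⟶ Y) (_ : IsOpenImmersion a) (_ : IsOpenImmersion b)
      (qx : Spec B), Spec.map φ ≫ b = a ≫ f ∧ a.base qx = x ∧ Set.range a.base ⊆ U₀ ∧
      (LocallyOfFinitePresentation f → φ.hom.FinitePresentation) := by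
    intro U₀ hU₀
    obtain ⟨_, ⟨V, hV, rfl⟩, hyV, -⟩ := (Y.isBasis_affineOpens).exists_subset_of_mem_open
      (Set.mem_univ (f.base x)) isOpen_univ
    obtain ⟨W, hWU, hWo, hxW⟩ := mem_nhds_iff.mp hU₀
    have hopen : IsOpen (W ∩ (f ⁻¹ᵁ V : Set X)) := hWo.inter (f ⁻¹ᵁ V).isOpen
    obtain ⟨_, ⟨U, hU, rfl⟩, hxU, hUsub⟩ := (X.isBasis_affineOpens).exists_subset_of_mem_open
      (show x ∈ W ∩ (f ⁻¹ᵁ V : Set X) from ⟨hxW, hyV⟩) hopen
    have hV' : IsAffineOpen V := hV
    have hU' : IsAffineOpen U := hU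
    have e : U ≤ f ⁻¹ᵁ V := fun z hz => (hUsub hz).2
    have hxU' : x ∈ Set.range hU'.fromSpec.base := by
      rw [hU'.range_fromSpec]; exact hxU
    obtain ⟨qx, hqx⟩ := hxU'
    refine ⟨_, _, f.appLE V U e, hU'.fromSpec, hV'.fromSpec, inferInstance, inferInstance, qx,
      IsAffineOpen.SpecMap_appLE_fromSpec f hV' hU' e, hqx, ?_, ?_⟩
    · rw [hU'.range_fromSpec]
      exact fun z hz => hWU (hUsub hz).1
    · intro hfp
      exact HasRingHomProperty.appLE (P := @LocallyOfFinitePresentation) f hfp ⟨V, hV'⟩ ⟨U, hU'⟩ e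
  have dir1 : EGA43.IsOpenAt f.base x → ∀ y' : Y, y' ⤳ f.base x →
      ∃ x' : X, x' ⤳ x ∧ f.base x' = y' := by
    intro hopen y' hy'
    obtain ⟨A, B, φ, a, b, ha, hb, qx, hcomm, hqx, -, -⟩ := chart Set.univ Filter.univ_mem
    have hcomm' : ∀ z : Spec B, b.base ((Spec.map φ).base z) = f.base (a.base z) := by
      intro z
      have := congrArg (fun g => g.base z) hcomm
      simpa using this
    have hfx : f.base x = b.base ((Spec.map φ).base qx) := by rw [hcomm', hqx]
    have hy'b : y' ∈ Set.range b.base := by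
      have : f.base x ∈ Set.range b.base := ⟨_, hfx.symm⟩
      exact hy'.mem_open b.isOpenEmbedding.isOpen_range this
    obtain ⟨p', hp'⟩ := hy'b
    have key : ∀ s : B, s ∉ qx.asIdeal → ∃ q'' : Ideal B, q''.IsPrime ∧ s ∉ q'' ∧
        q''.comap φ.hom = p'.asIdeal := by
      intro s hs
      have hnb : a.base '' (PrimeSpectrum.basicOpen s : Set (PrimeSpectrum B)) ∈ nhds x := by
        rw [← hqx]
        exact a.isOpenEmbedding.isOpenMap.image_mem_nhds
          ((PrimeSpectrum.basicOpen s).isOpen.mem_nhds hs)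
      have h1 := hopen _ hnb
      have h2 : y' ∈ f.base '' (a.base '' (PrimeSpectrum.basicOpen s : Set (PrimeSpectrum B))) :=
        mem_of_mem_nhds (hy' h1)
      obtain ⟨_, ⟨q'', hq''s, rfl⟩, hq''⟩ := h2
      refine ⟨q''.asIdeal, q''.isPrime, hq''s, ?_⟩
      have h3 : b.base ((Spec.map φ).base q'') = b.base p' := by
        rw [hcomm', hq'', hp']
      have h4 := b.isOpenEmbedding.injective h3
      rw [← h4]; rfl
    obtain ⟨q', hq', hle, hcomap⟩ := algA φ.hom qx.asIdeal p'.asIdeal key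
    let Q' : Spec B := ⟨q', hq'⟩
    refine ⟨a.base Q', ?_, ?_⟩
    · rw [← hqx]
      apply Specializes.map _ a.base.hom.continuous
      exact (PrimeSpectrum.le_iff_specializes Q' qx).mp hle
    · rw [← hcomm', ← hp']
      congr 1
      apply PrimeSpectrum.ext
      exact hcomap
  refine ⟨dir1, fun hfp => ⟨dir1, ?_⟩⟩
  intro hlift U₀ hU₀
  obtain ⟨A, B, φ, a, b, ha, hb, qx, hcomm, hqx, hsub, hφ⟩ := chart U₀ hU₀
  have hcomm' : ∀ z : Spec B, b.base ((Spec.map φ).base z) = f.base (a.base z) := by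
    intro z
    have := congrArg (fun g => g.base z) hcomm
    simpa using this
  have hfx : f.base x = b.base ((Spec.map φ).base qx) := by rw [hcomm', hqx]
  have hB := algB φ.hom (hφ hfp) qx ?_
  · have h1 : b.base '' (Set.range (PrimeSpectrum.comap φ.hom)) ∈ nhds (f.base x) := by
      rw [hfx]
      exact b.isOpenEmbedding.isOpenMap.image_mem_nhds hB
    refine Filter.mem_of_superset h1 ?_
    rintro _ ⟨_, ⟨z, rfl⟩, rfl⟩
    refine ⟨a.base z, hsub ⟨z, rfl⟩, ?_⟩
    exact (hcomm' z).symm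
  · intro p' hp'
    have hspec : b.base p' ⤳ f.base x := by
      rw [hfx]
      apply Specializes.map _ b.base.hom.continuous
      exact (PrimeSpectrum.le_iff_specializes p' _).mp hp'
    obtain ⟨x', hx'x, hfx'⟩ := hlift _ hspec
    have hx'a : x' ∈ Set.range a.base :=
      hx'x.mem_open a.isOpenEmbedding.isOpen_range ⟨qx, hqx⟩
    obtain ⟨q', rfl⟩ := hx'a
    refine ⟨q', ?_⟩
    apply b.isOpenEmbedding.injective
    show b.base ((Spec.map φ).base q') = b.base p'
    rw [hcomm', hfx']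

end Groth.Agent.S3404
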