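import Groth.Statements.S3406
import Mathlib
import Groth.Agent.Lib.helper5.SDim

set_option autoImplicit false
universe u
open EGA41

namespace Groth.Agent.S3406

/-- The equality s(M) = dim(M): let A be a Noetherian ring with finitely many maximal ideals, r its
Jacobson radical and M a nonzero finitely generated A-module. Then the dimension of M (the Krull
dimension of its support) is the least n for which there are elements x_1, …, x_n of r such that
M/(x_1 M + ⋯ + x_n M) has finite length. -/
theorem result (A : Type u) [CommRing A] [IsNoetherianRing A]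
    [Finite (MaximalSpectrum A)] (M : Type u) [AddCommGroup M] [Module A M] [Module.Finite A M] [Nontrivial M] :
    Module.supportDim A M =
      sInf {k : WithBot ℕ∞ | ∃ (n : ℕ) (x : Fin n → A), k = n ∧ (∀ i, x i ∈ Ring.jacobson A) ∧
        IsFiniteLength A (M ⧸ (Ideal.span (Set.range x) • (⊤ : Submodule A M)))} := by
  apply le_antisymm
  · refine le_sInf ?_
    rintro k ⟨n, x, rfl, hx, hfl⟩
    exact Groth.Agent.H5.SDim.supportDim_le_of_isFiniteLength n M x hx hfl
  · rcases eq_or_ne (Module.supportDim A M) ⊤ with h | h
    · rw [h]; exact le_top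
    · have hbot : Module.supportDim A M ≠ ⊥ := Module.supportDim_ne_bot_of_nontrivial A M
      obtain ⟨e, he⟩ := WithBot.ne_bot_iff_exists.mp hbot
      have hetop : e ≠ ⊤ := by
        rintro rfl
        exact h he.symm
      obtain ⟨d, rfl⟩ := ENat.ne_top_iff_exists.mp hetop
      have hd : Module.supportDim A M ≤ (d : ℕ) := by rw [← he]; rfl
      obtain ⟨n, x, hn, hx, hfl⟩ := Groth.Agent.H5.SDim.exists_of_supportDim_le d M hd
      have hmem : ((n : ℕ) : WithBot ℕ∞) ∈ {k : WithBot ℕ∞ | ∃ (n : ℕ) (x : Fin n → A), k = n ∧
          (∀ i, x i ∈ Ring.jacobson A) ∧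
          IsFiniteLength A (M ⧸ (Ideal.span (Set.range x) • (⊤ : Submodule A M)))} :=
        ⟨n, x, rfl, hx, hfl⟩
      refine (sInf_le hmem).trans ?_
      rw [← he]
      exact_mod_cast hn

end Groth.Agent.S3406
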