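import Groth.Statements.S3417
import Mathlib
import Groth.Agent.Lib.helper7.DVRFib2
import Groth.Agent.S0421

set_option autoImplicit false
open CategoryTheory AlgebraicGeometry
universe u
open EGA43

namespace Groth.Agent.S3417

/-- Let A be a discrete valuation ring, Y = Spec A with closed point a and generic point b, and f : X ⟶
Y a morphism locally of finite type which is open (as a map of spaces). If X is connected and the
fibre over a is a reduced scheme, then the fibre over b is connected. (Stated with 'preconnected',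
which also covers the empty case; a is the closed point and b the point specialising to every
point.) -/
theorem result (A : Type u) [CommRing A] [IsDomain A]
    [IsDiscreteValuationRing A] {X : Scheme.{u}} (f : X ⟶ Spec (CommRingCat.of A)) [LocallyOfFiniteType f]
    (hopen : IsOpenMap f.base) [PreconnectedSpace X]
    (a b : ↥(Spec (CommRingCat.of A))) (ha : IsClosed ({a} : Set ↥(Spec (CommRingCat.of A))))
    (hb : ∀ z : ↥(Spec (CommRingCat.of A)), b ⤳ z)
    (hred : AlgebraicGeometry.IsReduced (f.fiber a)) :
    PreconnectedSpace ↥(f.fiber b) := by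
  obtain ⟨ϖ, hϖ⟩ := IsDiscreteValuationRing.exists_irreducible A
  have haeq : a = IsLocalRing.closedPoint A := by
    have h1 : (a : PrimeSpectrum A).asIdeal.IsMaximal :=
      (PrimeSpectrum.isClosed_singleton_iff_isMaximal a).1 ha
    exact PrimeSpectrum.ext (IsLocalRing.eq_maximalIdeal h1)
  subst haeq
  have hbeq : b = (⟨⊥, Ideal.isPrime_bot⟩ : PrimeSpectrum A) := by
    let b' : PrimeSpectrum A := b
    have h1 : b' ⤳ (⟨⊥, Ideal.isPrime_bot⟩ : PrimeSpectrum A) := hb _
    have h2 : b' ≤ ⟨⊥, Ideal.isPrime_bot⟩ := (PrimeSpectrum.le_iff_specializes b' _).2 h1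
    have h3 : b'.asIdeal ≤ ⊥ := h2
    exact PrimeSpectrum.ext (le_bot_iff.1 h3)
  subst hbeq
  set η : PrimeSpectrum A := ⟨⊥, Ideal.isPrime_bot⟩ with hη
  haveI := hred
  set G : Set X := f ⁻¹' {η} with hG
  have hbo : ({η} : Set ↥(Spec (CommRingCat.of A))) =
      (PrimeSpectrum.basicOpen ϖ : Set (PrimeSpectrum A)) :=
    (Groth.Agent.S0421.basicOpen_uniformizer ϖ hϖ).symm
  have hGopen : IsOpen G := by
    rw [hG, hbo]
    exact (PrimeSpectrum.basicOpen ϖ).2.preimage f.continuous
  have hdense : closure G = Set.univ := by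
    rw [← dense_iff_closure_eq, dense_iff_inter_open]
    intro W hW hWne
    obtain ⟨x, hx⟩ := hWne
    have h1 : IsOpen (f '' W) := hopen W hW
    have h2 : f x ∈ f '' W := ⟨x, hx, rfl⟩
    have h3 : η ∈ f '' W := (hb (f x)).mem_open h1 h2
    obtain ⟨x', hx'W, hx'⟩ := h3
    exact ⟨x', hx'W, hx'⟩
  suffices _root_.IsPreconnected G by
    haveI : PreconnectedSpace G := isPreconnected_iff_preconnectedSpace.1 this
    constructor
    have h := (isPreconnected_univ (α := G)).image (f.fiberHomeo η).symm
      (f.fiberHomeo η).symm.continuous.continuousOn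
    rwa [Set.image_univ, (f.fiberHomeo η).symm.surjective.range_eq] at h
  rw [isPreconnected_iff_subset_of_disjoint]
  intro u v hu hv huv hdisj
  have key : Disjoint (closure (G ∩ u)) (closure (G ∩ v)) := by
    rw [Set.disjoint_left]
    intro x hx1 hx2
    obtain ⟨_, ⟨W, hW, rfl⟩, hxW, -⟩ :=
      X.isBasis_affineOpens.exists_subset_of_mem_open (Set.mem_univ x) isOpen_univ
    set j := hW.fromSpec with hj
    obtain ⟨ψ, hψ⟩ := Spec.map_surjective (j ≫ f)
    algebraize [ψ.hom]
    set t := algebraMap A Γ(X, W) ϖ with ht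
    have hrad : (Ideal.span {t}).IsRadical := by
      have h2 := Groth.Agent.Lib.helper7.DVRFib.isRadical_map_maximalIdeal f Γ(X, W) j hψ.symm
      rwa [hϖ.maximalIdeal_eq, Ideal.map_span, Set.image_singleton] at h2
    have hpreG : j ⁻¹' G = (PrimeSpectrum.basicOpen t : Set (PrimeSpectrum Γ(X, W))) := by
      have h3 : j ⁻¹' G = (Spec.map ψ) ⁻¹' {η} := by
        rw [hψ, hG]; rfl
      rw [h3, hbo]
      exact congrArg (fun U : TopologicalSpace.Opens (PrimeSpectrum Γ(X, W)) =>
        (U : Set (PrimeSpectrum Γ(X, W)))) (PrimeSpectrum.comap_basicOpen ψ.hom ϖ)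
    have hdW : Dense (PrimeSpectrum.basicOpen t : Set (PrimeSpectrum Γ(X, W))) := by
      rw [← hpreG]
      have h4 := j.isOpenEmbedding.isOpenMap.preimage_closure_eq_closure_preimage j.continuous G
      rw [dense_iff_closure_eq]
      refine h4.symm.trans ?_
      rw [hdense]; rfl
    have hd := Groth.Agent.Lib.helper7.DVRFib.disjoint_closure_of_basicOpen_eq_union_of_dense t hdW
      hrad (j ⁻¹' (G ∩ u)) (j ⁻¹' (G ∩ v))
      ((hGopen.inter hu).preimage j.continuous)
      ((hGopen.inter hv).preimage j.continuous)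
      (by
        rw [Set.disjoint_left]
        rintro p ⟨hp1, hp2⟩ ⟨-, hp3⟩
        have : j p ∈ G ∩ (u ∩ v) := ⟨hp1, hp2, hp3⟩
        rw [hdisj] at this
        exact this)
      (by
        rw [← Set.preimage_union, ← Set.inter_union_distrib_left, Set.inter_eq_left.2 huv]
        exact hpreG)
    have hxr : x ∈ Set.range j := by rw [hj, hW.range_fromSpec]; exact hxW
    obtain ⟨x', hx'⟩ := hxr
    have hc1 : x' ∈ closure (j ⁻¹' (G ∩ u)) := by
      rw [← j.isOpenEmbedding.isOpenMap.preimage_closure_eq_closure_preimage j.continuous]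
      show j x' ∈ closure (G ∩ u)
      rw [hx']; exact hx1
    have hc2 : x' ∈ closure (j ⁻¹' (G ∩ v)) := by
      rw [← j.isOpenEmbedding.isOpenMap.preimage_closure_eq_closure_preimage j.continuous]
      show j x' ∈ closure (G ∩ v)
      rw [hx']; exact hx2
    exact Set.disjoint_left.1 hd hc1 hc2
  have hcover : closure (G ∩ u) ∪ closure (G ∩ v) = Set.univ := by
    rw [← closure_union, ← Set.inter_union_distrib_left, Set.inter_eq_left.2 huv, hdense]
  have hX : _root_.IsPreconnected (Set.univ : Set X) := isPreconnected_univ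
  rw [isPreconnected_iff_subset_of_disjoint_closed] at hX
  rcases hX _ _ isClosed_closure isClosed_closure hcover.ge
    (by rw [key.inter_eq]; simp) with h | h
  · left
    intro x hx
    rcases huv hx with hxu | hxv
    · exact hxu
    · exfalso
      have h2 : x ∈ closure (G ∩ v) := subset_closure ⟨hx, hxv⟩
      exact Set.disjoint_left.1 key (h (Set.mem_univ x)) h2
  · right
    intro x hx
    rcases huv hx with hxu | hxv
    · exfalso
      have h2 : x ∈ closure (G ∩ u) := subset_closure ⟨hx, hxu⟩
      exact Set.disjoint_left.1 key h2 (h (Set.mem_univ x))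
    · exact hxv

end Groth.Agent.S3417
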