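import Groth.Statements.S3429
import Mathlib
import Groth.Agent.Lib.helper7.QuasiFlat3

set_option autoImplicit false
open CategoryTheory AlgebraicGeometry
universe u
open EGA42

namespace Groth.Agent.S3429

/-- A morphism of schemes which is quasi-flat (some quasi-coherent module of finite type on the source,
flat over the base, has support the whole source) and locally of finite presentation is universally
open. -/
theorem result {X Y : Scheme.{u}} (f : X ⟶ Y)
    (hf : FDesc.IsQuasiFlat f) [LocallyOfFinitePresentation f] : UniversallyOpen f := by
  refine ⟨fun X' Y' i₁ i₂ f' sq => ?_⟩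
  haveI : AlgebraicGeometry.LocallyOfFinitePresentation f' :=
    CategoryTheory.MorphismProperty.of_isPullback sq.flip inferInstance
  refine AlgebraicGeometry.isOpenMap_of_generalizingMap f' ?_
  have hfst : sq.isoPullback.hom ≫ CategoryTheory.Limits.pullback.fst i₂ f = f' :=
    sq.isoPullback_hom_fst
  have hgen := Groth.Agent.Lib.helper7.QuasiFlat.generalizingMap_pullback_fst_of_isQuasiFlat i₂ f hf
  have hiso : GeneralizingMap sq.isoPullback.hom :=
    sq.isoPullback.hom.homeomorph.isOpenEmbedding.generalizingMap
  have hcomp := hiso.comp hgen
  have heq : ⇑f' = ⇑(CategoryTheory.Limits.pullback.fst i₂ f) ∘ ⇑sq.isoPullback.hom := by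
    funext w
    exact (congrArg (fun φ => φ.base w) hfst).symm
  rw [heq]
  exact hcomp

end Groth.Agent.S3429
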