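import Groth.Statements.S3431
import Mathlib
import Groth.Agent.S4861
import Groth.Agent.Lib.helper20.PrimeFin

set_option autoImplicit false
universe u
open EGA43

namespace Groth.Agent.S3431

/-- Let A be a Noetherian ring. Then A is a Jacobson ring if and only if there is no prime ideal p of A
such that A/p is semi-local (finitely many maximal ideals) of Krull dimension 1. -/
theorem result (A : Type u) [CommRing A] [IsNoetherianRing A] :
    IsJacobsonRing A ↔
      ∀ (p : Ideal A) [p.IsPrime], ¬ (Finite (MaximalSpectrum (A ⧸ p)) ∧ ringKrullDim (A ⧸ p) = 1) := by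
  classical
  constructor
  · intro hJ p hp ⟨hfin, hdim⟩
    haveI : IsJacobsonRing (A ⧸ p) :=
      isJacobsonRing_of_surjective ⟨Ideal.Quotient.mk p, Ideal.Quotient.mk_surjective⟩
    have hnf : ¬ IsField (A ⧸ p) := fun hf => by
      rw [ringKrullDim_eq_zero_of_isField hf] at hdim
      exact zero_ne_one hdim
    haveI := Fintype.ofFinite (MaximalSpectrum (A ⧸ p))
    have hJ0 : (∏ m : MaximalSpectrum (A ⧸ p), m.asIdeal) ≠ ⊥ := by
      rw [← Ideal.zero_eq_bot, Finset.prod_ne_zero_iff]
      intro m _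
      rw [Ideal.zero_eq_bot]
      exact Ring.ne_bot_of_isMaximal_of_not_isField m.isMaximal hnf
    apply hJ0
    rw [eq_bot_iff]
    have hjac : (⊥ : Ideal (A ⧸ p)).jacobson = ⊥ :=
      (isJacobsonRing_iff_prime_eq.1 inferInstance) ⊥ Ideal.isPrime_bot
    rw [← hjac]
    intro x hx
    rw [Ideal.jacobson, Ideal.mem_sInf]
    rintro J ⟨_, hJmax⟩
    exact ((Ideal.prod_le_inf).trans (Finset.inf_le
      (f := fun m : MaximalSpectrum (A ⧸ p) => m.asIdeal) (b := ⟨J, hJmax⟩)
      (Finset.mem_univ _))) hx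
  · intro h
    rw [isJacobsonRing_iff_prime_eq]
    by_contra hcon
    push_neg at hcon
    have hS : ({P : Ideal A | P.IsPrime ∧ Ideal.jacobson P ≠ P} : Set (Ideal A)).Nonempty := by
      obtain ⟨P, hP, hne⟩ := hcon
      exact ⟨P, hP, hne⟩
    obtain ⟨P, ⟨hPprime, hPjac⟩, hPmax⟩ : ∃ P : Ideal A,
        (P.IsPrime ∧ Ideal.jacobson P ≠ P) ∧
        ∀ I : Ideal A, (I.IsPrime ∧ Ideal.jacobson I ≠ I) → ¬ P < I :=
      set_has_maximal_iff_noetherian.2 (inferInstance : IsNoetherian A A) _ hS
    haveI := hPprime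
    have hlt : P < P.jacobson := lt_of_le_of_ne Ideal.le_jacobson (Ne.symm hPjac)
    obtain ⟨f, hfJ, hfP⟩ := SetLike.exists_of_lt hlt
    have hfQ : ∀ Q : Ideal A, Q.IsPrime → P < Q → f ∈ Q := by
      intro Q hQ hPQ
      have hQj : Q.jacobson = Q := by
        by_contra hne
        exact hPmax Q ⟨hQ, hne⟩ hPQ
      rw [← hQj]
      exact Ideal.jacobson_mono hPQ.le hfJ
    have hPnm : ¬ P.IsMaximal := fun hm => hPjac (Ideal.jacobson_eq_self_of_isMaximal)
    have hfinset :=
      Groth.Agent.Lib.helper20.PrimeFin.finite_primes_ge_of_forall_mem P f hfP hfQ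
    have hfinD : Finite (PrimeSpectrum (A ⧸ P)) := by
      have hinj : Function.Injective (PrimeSpectrum.comap (Ideal.Quotient.mk P)) :=
        PrimeSpectrum.comap_injective_of_surjective _ Ideal.Quotient.mk_surjective
      have hpre : (PrimeSpectrum.comap (Ideal.Quotient.mk P)) ⁻¹'
          {q : PrimeSpectrum A | P ≤ q.asIdeal} = Set.univ := by
        ext q
        simp only [Set.mem_preimage, Set.mem_setOf_eq, Set.mem_univ, iff_true]
        intro x hx
        show Ideal.Quotient.mk P x ∈ q.asIdeal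
        rw [Ideal.Quotient.eq_zero_iff_mem.2 hx]
        exact Ideal.zero_mem _
      have h1 := hfinset.preimage (hinj.injOn)
      rw [hpre] at h1
      exact Set.finite_univ_iff.1 h1
    obtain ⟨hfm, hdimle⟩ := ((Groth.Agent.S4861.result (A ⧸ P)).out 1 2).1 hfinD
    have hnf : ¬ IsField (A ⧸ P) := fun hf => hPnm (Ideal.Quotient.maximal_of_isField P hf)
    have hdim1 : ringKrullDim (A ⧸ P) = 1 := by
      refine le_antisymm hdimle ?_
      obtain ⟨m, hm⟩ := Ideal.exists_maximal (A ⧸ P)
      haveI := hm.isPrime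
      have hm0 : m ≠ ⊥ := Ring.ne_bot_of_isMaximal_of_not_isField hm hnf
      have h1 := Ideal.height_strict_mono_of_isPrime_of_isPrime (bot_lt_iff_ne_bot.2 hm0)
      have h2 : (1 : ℕ∞) ≤ m.height := Order.one_le_iff_pos.2 (lt_of_le_of_lt zero_le h1)
      have h3 : (m.height : WithBot ℕ∞) ≤ ringKrullDim (A ⧸ P) :=
        Ideal.height_le_ringKrullDim_of_ne_top hm.ne_top
      exact le_trans (by exact_mod_cast h2) h3
    exact h P ⟨hfm, hdim1⟩

end Groth.Agent.S3431
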