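import Groth.Statements.S3432
import Mathlib
import Groth.Agent.Lib.helper7.Jac3

set_option autoImplicit false
open CategoryTheory AlgebraicGeometry
universe u
open EGA43

namespace Groth.Agent.S3432

open Groth.Agent.Lib.helper7.Jac Topology TopologicalSpace Set

/-- Let X be a locally Noetherian scheme and Y a closed subset of X such that every nonempty closed
subset of X meets Y. Then the open subscheme X ∖ Y (equivalently, the subspace X ∖ Y) is a Jacobson
space. -/
theorem result (X : Scheme.{u}) [IsLocallyNoetherian X] (Y : Set X)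
    (hY : IsClosed Y) (hmeet : ∀ Z : Set X, IsClosed Z → Z.Nonempty → (Z ∩ Y).Nonempty) :
    JacobsonSpace ↥(Yᶜ) := by
  rw [jacobsonSpace_iff_locallyClosed]
  intro Z' hne hlc
  have hemb : IsOpenEmbedding (Subtype.val : ↥(Yᶜ) → X) :=
    hY.isOpen_compl.isOpenEmbedding_subtypeVal
  have hZ : IsLocallyClosed (Subtype.val '' Z' : Set X) :=
    hlc.image hemb.isInducing (by
      rw [Subtype.range_coe]
      exact hY.isOpen_compl.isLocallyClosed)
  obtain ⟨z, ⟨z', hz'Z, rfl⟩, hzlc⟩ := exists_isLocallyClosed_singleton hZ (hne.image _)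
  refine ⟨z', hz'Z, ?_⟩
  change IsClosed ({z'} : Set ↥(Yᶜ))
  have : ({z'} : Set ↥(Yᶜ)) = Subtype.val ⁻¹' closure ({(z' : X)} : Set X) := by
    ext t
    simp only [mem_singleton_iff, mem_preimage]
    constructor
    · rintro rfl
      exact subset_closure (mem_singleton _)
    · intro ht
      by_contra hne'
      have hne'' : (t : X) ≠ (z' : X) := fun h => hne' (Subtype.ext h)
      have hcl := isClosed_singleton_of_mem_closure hzlc ht hne''
      obtain ⟨y, hy1, hy2⟩ := hmeet {(t : X)} hcl (singleton_nonempty _)
      rw [mem_singleton_iff] at hy1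
      rw [hy1] at hy2
      exact t.2 hy2
  rw [this]
  exact isClosed_closure.preimage continuous_subtype_val

end Groth.Agent.S3432
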