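import Groth.Statements.S3433
import Mathlib
import Groth.Agent.S9832

set_option autoImplicit false
universe u
open EGA43

namespace Groth.Agent.S3433

/-- Let A be a Noetherian local ring with maximal ideal m and let Y be the punctured spectrum Spec A ∖
{m}. Then Y is a Jacobson space, and a point p of Y is closed in Y if and only if dim A/p = 1. -/
theorem result (A : Type u) [CommRing A] [IsNoetherianRing A] [IsLocalRing A] :
    JacobsonSpace ↥({IsLocalRing.closedPoint A}ᶜ : Set (PrimeSpectrum A)) ∧
      ∀ p : ↥({IsLocalRing.closedPoint A}ᶜ : Set (PrimeSpectrum A)),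
        IsClosed ({p} : Set ↥({IsLocalRing.closedPoint A}ᶜ : Set (PrimeSpectrum A))) ↔
          ringKrullDim (A ⧸ p.1.asIdeal) = 1 := by
  classical
  have hset : ({IsLocalRing.closedPoint A}ᶜ : Set (PrimeSpectrum A)) =
      (PrimeSpectrum.zeroLocus ((IsLocalRing.maximalIdeal A : Ideal A) : Set A))ᶜ := by
    congr 1
    ext x
    rw [Set.mem_singleton_iff, PrimeSpectrum.mem_zeroLocus]
    constructor
    · rintro rfl
      exact le_rfl
    · intro h
      apply PrimeSpectrum.ext
      exact le_antisymm (IsLocalRing.le_maximalIdeal x.isPrime.ne_top) h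
  constructor
  · rw [hset]
    exact Groth.Agent.S9832.result A _ (IsLocalRing.jacobson_eq_maximalIdeal ⊥ bot_ne_top).ge
  · rintro ⟨p, hp⟩
    have hpm : p.asIdeal ≠ IsLocalRing.maximalIdeal A := fun h => hp (PrimeSpectrum.ext h)
    have hplt : p.asIdeal < IsLocalRing.maximalIdeal A :=
      lt_of_le_of_ne (IsLocalRing.le_maximalIdeal p.isPrime.ne_top) hpm
    haveI := p.isPrime
    have hsurj : Function.Surjective (Ideal.Quotient.mk p.asIdeal) := Ideal.Quotient.mk_surjective
    have hker : RingHom.ker (Ideal.Quotient.mk p.asIdeal) = p.asIdeal := Ideal.mk_ker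
    have hcm : ∀ B : Ideal A, p.asIdeal ≤ B →
        (B.map (Ideal.Quotient.mk p.asIdeal)).comap (Ideal.Quotient.mk p.asIdeal) = B := by
      intro B hB
      rw [Ideal.comap_map_of_surjective _ hsurj, ← RingHom.ker_eq_comap_bot, hker]
      exact sup_eq_left.2 hB
    haveI : Nontrivial (A ⧸ p.asIdeal) := Ideal.Quotient.nontrivial_iff.2 p.isPrime.ne_top
    haveI : IsLocalRing (A ⧸ p.asIdeal) :=
      IsLocalRing.of_surjective' (Ideal.Quotient.mk p.asIdeal) hsurj
    have hmapmax : ((IsLocalRing.maximalIdeal A).map (Ideal.Quotient.mk p.asIdeal)).IsMaximal := by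
      refine (Ideal.map_eq_top_or_isMaximal_of_surjective _ hsurj
        (IsLocalRing.maximalIdeal.isMaximal A)).resolve_left ?_
      intro htop
      have h1 := hcm (IsLocalRing.maximalIdeal A) hplt.le
      rw [htop, Ideal.comap_top] at h1
      exact (IsLocalRing.maximalIdeal.isMaximal A).ne_top h1.symm
    have hmax : IsLocalRing.maximalIdeal (A ⧸ p.asIdeal) =
        (IsLocalRing.maximalIdeal A).map (Ideal.Quotient.mk p.asIdeal) :=
      (IsLocalRing.eq_maximalIdeal hmapmax).symm
    haveI : ((IsLocalRing.maximalIdeal A).map (Ideal.Quotient.mk p.asIdeal)).IsPrime :=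
      hmapmax.isPrime
    have hdim : ringKrullDim (A ⧸ p.asIdeal) =
        (((IsLocalRing.maximalIdeal A).map (Ideal.Quotient.mk p.asIdeal)).height : WithBot ℕ∞) := by
      rw [← IsLocalRing.maximalIdeal_height_eq_ringKrullDim, hmax]
    have hlt1 : (⊥ : Ideal (A ⧸ p.asIdeal)) <
        (IsLocalRing.maximalIdeal A).map (Ideal.Quotient.mk p.asIdeal) := by
      rw [bot_lt_iff_ne_bot, Ne, Ideal.map_eq_bot_iff_le_ker, hker]
      exact not_le_of_gt hplt
    have hge : 1 ≤ ((IsLocalRing.maximalIdeal A).map (Ideal.Quotient.mk p.asIdeal)).height :=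
      Order.one_le_iff_pos.2
        (lt_of_le_of_lt zero_le (Ideal.height_strict_mono_of_isPrime_of_isPrime hlt1))
    have hcl : IsClosed ({⟨p, hp⟩} : Set ↥({IsLocalRing.closedPoint A}ᶜ : Set (PrimeSpectrum A))) ↔
        ∀ Q : Ideal A, Q.IsPrime → p.asIdeal ≤ Q → Q ≠ IsLocalRing.maximalIdeal A →
          Q = p.asIdeal := by
      rw [Topology.IsInducing.subtypeVal.isClosed_iff]
      constructor
      · rintro ⟨C', hC', hpre⟩ Q hQ hpQ hQm
        have hpC : p ∈ C' := by
          have h1 : (⟨p, hp⟩ : ↥({IsLocalRing.closedPoint A}ᶜ : Set (PrimeSpectrum A))) ∈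
              Subtype.val ⁻¹' C' := by
            rw [hpre]
            exact Set.mem_singleton _
          exact h1
        have hQC : (⟨Q, hQ⟩ : PrimeSpectrum A) ∈ C' :=
          ((PrimeSpectrum.le_iff_specializes p ⟨Q, hQ⟩).1 hpQ).mem_closed hC' hpC
        have hQY : (⟨Q, hQ⟩ : PrimeSpectrum A) ∈
            ({IsLocalRing.closedPoint A}ᶜ : Set (PrimeSpectrum A)) := by
          intro h
          exact hQm (congrArg PrimeSpectrum.asIdeal h)
        have h2 : (⟨⟨Q, hQ⟩, hQY⟩ : ↥({IsLocalRing.closedPoint A}ᶜ : Set (PrimeSpectrum A))) ∈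
            Subtype.val ⁻¹' C' := hQC
        rw [hpre, Set.mem_singleton_iff, Subtype.mk.injEq] at h2
        exact congrArg PrimeSpectrum.asIdeal h2
      · intro hall
        refine ⟨PrimeSpectrum.zeroLocus (p.asIdeal : Set A),
          PrimeSpectrum.isClosed_zeroLocus _, ?_⟩
        ext ⟨x, hxY⟩
        simp only [Set.mem_preimage, PrimeSpectrum.mem_zeroLocus, Set.mem_singleton_iff,
          Subtype.mk.injEq]
        constructor
        · intro hpx
          exact PrimeSpectrum.ext
            (hall x.asIdeal x.isPrime hpx (fun h => hxY (PrimeSpectrum.ext h)))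
        · intro hx
          rw [hx]
    rw [hcl, hdim]
    constructor
    · intro hall
      have hle : ((IsLocalRing.maximalIdeal A).map (Ideal.Quotient.mk p.asIdeal)).height ≤
          ((1 : ℕ) : ℕ∞) := by
        rw [Ideal.height_le_iff]
        intro q' hq' hq'lt
        haveI := hq'
        have hcq : (q'.comap (Ideal.Quotient.mk p.asIdeal)).IsPrime := Ideal.comap_isPrime _ _
        have hpq : p.asIdeal ≤ q'.comap (Ideal.Quotient.mk p.asIdeal) := by
          intro y hy
          rw [Ideal.mem_comap, Ideal.Quotient.eq_zero_iff_mem.2 hy]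
          exact Ideal.zero_mem _
        have hne : q'.comap (Ideal.Quotient.mk p.asIdeal) ≠ IsLocalRing.maximalIdeal A := by
          intro h
          have h3 : q' = (IsLocalRing.maximalIdeal A).map (Ideal.Quotient.mk p.asIdeal) := by
            rw [← h, Ideal.map_comap_of_surjective _ hsurj]
          exact hq'lt.ne h3
        have h4 := hall _ hcq hpq hne
        have hq'bot : q' = ⊥ := by
          rw [← Ideal.map_comap_of_surjective _ hsurj q', h4, Ideal.map_quotient_self]
        rw [hq'bot, Ideal.height_bot]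
        norm_num
      have h5 : ((IsLocalRing.maximalIdeal A).map (Ideal.Quotient.mk p.asIdeal)).height = 1 :=
        le_antisymm (by simpa using hle) hge
      rw [h5]
      rfl
    · intro hdim1 Q hQ hpQ hQm
      have hdim1' : ((IsLocalRing.maximalIdeal A).map (Ideal.Quotient.mk p.asIdeal)).height = 1 :=
        WithBot.coe_eq_one.1 hdim1
      by_contra hne
      haveI := hQ
      have hpltQ : p.asIdeal < Q := lt_of_le_of_ne hpQ (Ne.symm hne)
      have hQltm : Q < IsLocalRing.maximalIdeal A :=
        lt_of_le_of_ne (IsLocalRing.le_maximalIdeal hQ.ne_top) hQm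
      haveI : (Q.map (Ideal.Quotient.mk p.asIdeal)).IsPrime :=
        Ideal.map_isPrime_of_surjective hsurj (by rw [hker]; exact hpQ)
      have hl1 : (⊥ : Ideal (A ⧸ p.asIdeal)) < Q.map (Ideal.Quotient.mk p.asIdeal) := by
        rw [bot_lt_iff_ne_bot, Ne, Ideal.map_eq_bot_iff_le_ker, hker]
        exact not_le_of_gt hpltQ
      have hl2 : Q.map (Ideal.Quotient.mk p.asIdeal) <
          (IsLocalRing.maximalIdeal A).map (Ideal.Quotient.mk p.asIdeal) := by
        refine lt_of_le_of_ne (Ideal.map_mono hQltm.le) (fun heq2 => hQltm.ne ?_)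
        rw [← hcm Q hpQ, ← hcm (IsLocalRing.maximalIdeal A) hplt.le, heq2]
      have h1 := Ideal.height_strict_mono_of_isPrime_of_isPrime hl1
      have h2 := Ideal.height_strict_mono_of_isPrime_of_isPrime hl2
      rw [hdim1'] at h2
      rw [ENat.lt_one_iff_eq_zero] at h2
      rw [h2] at h1
      exact not_lt_of_ge zero_le h1

end Groth.Agent.S3433
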