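import Groth.Statements.S3435
import Mathlib

set_option autoImplicit false
universe u
open EGA41

namespace Groth.Agent.S3435

open TensorProduct in
/-- Let Λ → A → B → C be ring homomorphisms. The homomorphism Ω_{B/Λ} ⊗_B C → Ω_{B/A} ⊗_B C maps the
imperfection module Υ_{C/B/Λ} (the kernel of Ω_{B/Λ} ⊗_B C → Ω_{C/Λ}) onto the imperfection module
Υ_{C/B/A} (the kernel of Ω_{B/A} ⊗_B C → Ω_{C/A}): every element of Υ_{C/B/A} is the image of some
element of Υ_{C/B/Λ}. -/
theorem result (Λ A B C : Type u) [CommRing Λ] [CommRing A] [CommRing B] [CommRing C]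
    [Algebra Λ A] [Algebra Λ B] [Algebra Λ C] [Algebra A B] [Algebra A C] [Algebra B C]
    [IsScalarTower Λ A B] [IsScalarTower Λ A C] [IsScalarTower Λ B C] [IsScalarTower A B C] :
    ∀ ω ∈ EGA41.imperfection A B C, ∃ η ∈ EGA41.imperfection Λ B C,
      (KaehlerDifferential.map Λ A B B).baseChange C η = ω := by
  classical
  intro ω hω
  have hω' : KaehlerDifferential.mapBaseChange A B C ω = 0 := hω
  -- Step 1: lift ω
  have hsurj : Function.Surjective ((KaehlerDifferential.map Λ A B B).baseChange C) := by
    rw [LinearMap.baseChange_eq_ltensor]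
    exact LinearMap.lTensor_surjective C (KaehlerDifferential.map_surjective Λ A B)
  obtain ⟨η₀, hη₀⟩ := hsurj ω
  -- Step 2: the commutative square
  have hsq : ∀ η : TensorProduct B C (Ω[B⁄Λ]),
      KaehlerDifferential.map Λ A C C (KaehlerDifferential.mapBaseChange Λ B C η) =
        KaehlerDifferential.mapBaseChange A B C ((KaehlerDifferential.map Λ A B B).baseChange C η) := by
    intro η
    induction η using TensorProduct.induction_on with
    | zero => simp
    | add x y hx hy => rw [map_add, map_add, hx, hy, map_add, map_add]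
    | tmul c x =>
      rw [KaehlerDifferential.mapBaseChange_tmul, LinearMap.baseChange_tmul,
        KaehlerDifferential.mapBaseChange_tmul, map_smul]
      congr 1
      have hx : x ∈ Submodule.span B (Set.range (KaehlerDifferential.D Λ B)) := by
        rw [KaehlerDifferential.span_range_derivation]; exact Submodule.mem_top
      induction hx using Submodule.span_induction with
      | mem y hy =>
        obtain ⟨b, rfl⟩ := hy
        simp
      | zero => simp
      | add y z _ _ hy hz => rw [map_add, map_add, hy, hz, map_add, map_add]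
      | smul b y _ hy =>
        rw [map_smul (KaehlerDifferential.map Λ Λ B C), map_smul (KaehlerDifferential.map Λ A B B),
          map_smul (KaehlerDifferential.map A A B C), LinearMap.map_smul_of_tower, hy]
  -- Step 3: exactness
  have hζ : KaehlerDifferential.map Λ A C C (KaehlerDifferential.mapBaseChange Λ B C η₀) = 0 := by
    rw [hsq, hη₀, hω']
  obtain ⟨θ, hθ⟩ := (KaehlerDifferential.exact_mapBaseChange_map Λ A C _).mp hζ
  -- Step 4: push θ into C ⊗_B Ω_{B/Λ}
  have hkey : ∀ θ : TensorProduct A C (Ω[A⁄Λ]), ∃ η₁ : TensorProduct B C (Ω[B⁄Λ]),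
      KaehlerDifferential.mapBaseChange Λ B C η₁ = KaehlerDifferential.mapBaseChange Λ A C θ ∧
      (KaehlerDifferential.map Λ A B B).baseChange C η₁ = 0 := by
    intro θ
    induction θ using TensorProduct.induction_on with
    | zero => exact ⟨0, by simp, by simp⟩
    | add x y hx hy =>
      obtain ⟨η₁, h1, h2⟩ := hx
      obtain ⟨η₂, h3, h4⟩ := hy
      exact ⟨η₁ + η₂, by rw [map_add, map_add, h1, h3], by rw [map_add, h2, h4, add_zero]⟩
    | tmul c x =>
      have hx : x ∈ Submodule.span A (Set.range (KaehlerDifferential.D Λ A)) := by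
        rw [KaehlerDifferential.span_range_derivation]; exact Submodule.mem_top
      induction hx using Submodule.span_induction generalizing c with
      | mem y hy =>
        obtain ⟨a, rfl⟩ := hy
        refine ⟨c ⊗ₜ[B] KaehlerDifferential.D Λ B (algebraMap A B a), ?_, ?_⟩
        · rw [KaehlerDifferential.mapBaseChange_tmul, KaehlerDifferential.mapBaseChange_tmul,
            KaehlerDifferential.map_D, KaehlerDifferential.map_D,
            ← IsScalarTower.algebraMap_apply A B C]
        · rw [LinearMap.baseChange_tmul, KaehlerDifferential.map_D, Algebra.algebraMap_self,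
            RingHom.id_apply, Derivation.map_algebraMap, TensorProduct.tmul_zero]
      | zero => exact ⟨0, by simp, by simp⟩
      | add y z _ _ hy hz =>
        obtain ⟨η₁, h1, h2⟩ := hy c
        obtain ⟨η₂, h3, h4⟩ := hz c
        refine ⟨η₁ + η₂, ?_, ?_⟩
        · rw [TensorProduct.tmul_add, map_add, map_add, h1, h3]
        · rw [map_add, h2, h4, add_zero]
      | smul a y _ hy =>
        obtain ⟨η₁, h1, h2⟩ := hy (a • c)
        refine ⟨η₁, ?_, h2⟩
        rw [h1, TensorProduct.smul_tmul]
  obtain ⟨η₁, h1, h2⟩ := hkey θ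
  refine ⟨η₀ - η₁, ?_, ?_⟩
  · change KaehlerDifferential.mapBaseChange Λ B C (η₀ - η₁) = 0
    rw [map_sub, h1, hθ, sub_self]
  · rw [map_sub, hη₀, h2, sub_zero]

end Groth.Agent.S3435
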