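import Groth.Statements.S6787
import Mathlib
-- import your own Groth.Agent.* helpers here

set_option autoImplicit false
open CategoryTheory CategoryTheory.Limits
universe u
open HomAlg3

namespace Groth.Agent.S6787

section helpers
open Opposite
namespace H5S6787

section basic
variable (X : ℕᵒᵖ ⥤ AddCommGrpCat.{u})

/-- transition map as additive map -/
def T {n m : ℕ} (h : n ≤ m) : X.obj (op m) →+ X.obj (op n) := (X.map (homOfLE h).op).hom

lemma T_T {n m l : ℕ} (h1 : n ≤ m) (h2 : m ≤ l) (z : X.obj (op l)) :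
    T X h1 (T X h2 z) = T X (h1.trans h2) z := by
  unfold T
  have : (homOfLE (h1.trans h2)).op = (homOfLE h2).op ≫ (homOfLE h1).op := Subsingleton.elim _ _
  rw [this, X.map_comp]
  rfl

lemma T_refl {n : ℕ} (z : X.obj (op n)) : T X (le_refl n) z = z := by
  unfold T
  have : (homOfLE (le_refl n)).op = 𝟙 (op n) := Subsingleton.elim _ _
  rw [this, X.map_id]
  rfl

variable {X} in
lemma T_nat {Y : ℕᵒᵖ ⥤ AddCommGrpCat.{u}} (a : X ⟶ Y) {n m : ℕ} (h : n ≤ m) (z : X.obj (op m)) :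
    (a.app (op n)).hom (T X h z) = T Y h ((a.app (op m)).hom z) := by
  unfold T
  have h2 := congrArg (fun g => g.hom z) (a.naturality (homOfLE h).op)
  simpa using h2

/-- Mittag-Leffler in elementary terms -/
def MLnat : Prop := ∀ i : ℕ, ∃ (j : ℕ) (hij : i ≤ j), ∀ (k : ℕ) (hjk : j ≤ k) (y : X.obj (op j)),
  ∃ z : X.obj (op k), T X (hij.trans hjk) z = T X hij y

lemma ML_iff : (X ⋙ forget AddCommGrpCat).IsMittagLeffler ↔ MLnat X := by
  constructor
  · intro h i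
    obtain ⟨j, f, hf⟩ := h (op i)
    have hij : i ≤ j.unop := leOfHom f.unop
    refine ⟨j.unop, hij, fun k hjk y => ?_⟩
    have hf' := hf (homOfLE (hij.trans hjk)).op
    have hfeq : f = (homOfLE hij).op := Subsingleton.elim _ _
    subst hfeq
    obtain ⟨z, hz⟩ := hf' ⟨y, rfl⟩
    exact ⟨z, hz⟩
  · intro h j
    obtain ⟨j', hij, hj'⟩ := h j.unop
    refine ⟨op j', (homOfLE hij).op, fun k g => ?_⟩
    rintro _ ⟨y, rfl⟩
    have hik : j.unop ≤ k.unop := leOfHom g.unop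
    obtain ⟨z, hz⟩ := hj' (max k.unop j') (le_max_right _ _) y
    refine ⟨T X (le_max_left k.unop j') z, ?_⟩
    have hg : g = (homOfLE hik).op := Subsingleton.elim _ _
    subst hg
    show T X hik (T X (le_max_left k.unop j') z) = T X hij y
    rw [T_T, ← hz]

end basic


section main
variable {A B C : ℕᵒᵖ ⥤ AddCommGrpCat.{u}} (a : A ⟶ B) (b : B ⟶ C)
  (ha : ∀ i, Function.Injective (a.app i).hom) (hb : ∀ i, Function.Surjective (b.app i).hom)
  (hex : ∀ i, (b.app i).hom.ker = (a.app i).hom.range)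

include hb hex in
lemma ML_ext (hA : MLnat A) (hC : MLnat C) : MLnat B := by
  intro i
  obtain ⟨j, hij, hj⟩ := hA i
  obtain ⟨j', hjj', hj'⟩ := hC j
  refine ⟨j', hij.trans hjj', fun k hk y => ?_⟩
  -- image of y in C_{j'}
  obtain ⟨ζ, hζ⟩ := hj' k hk ((b.app (op j')).hom y)
  obtain ⟨y', hy'⟩ := hb (op k) ζ
  -- difference in B_j lies in A_j
  have hker : T B (hjj'.trans hk) y' - T B hjj' y ∈ (b.app (op j)).hom.ker := by
    rw [AddMonoidHom.mem_ker, map_sub, T_nat b, T_nat b, hy', hζ, sub_self]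
  rw [hex] at hker
  obtain ⟨w, hw⟩ := hker
  obtain ⟨v, hv⟩ := hj k (hjj'.trans hk) w
  refine ⟨y' - (a.app (op k)).hom v, ?_⟩
  rw [map_sub, ← T_nat a, hv, T_nat a, hw, map_sub, T_T, T_T, sub_sub_cancel]

include ha hex in
lemma ML_sub (hB : MLnat B) (i0 : ℕ)
    (hC : ∀ k : ℕ, ∃ (k' : ℕ) (hk : k ≤ k') (h0 : i0 ≤ k'), ∀ ζ : C.obj (op k'),
      T C h0 ζ = 0 → T C hk ζ = 0) : MLnat A := by
  -- first for indices `i ≥ i0`
  have key : ∀ i : ℕ, i0 ≤ i → ∃ (j : ℕ) (hij : i ≤ j), ∀ (k : ℕ) (hjk : j ≤ k) (y : A.obj (op j)),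
      ∃ z : A.obj (op k), T A (hij.trans hjk) z = T A hij y := by
    intro i hi
    obtain ⟨j, hij, hj⟩ := hB i
    refine ⟨j, hij, fun k hjk w => ?_⟩
    obtain ⟨k', hk, h0, hk'⟩ := hC k
    obtain ⟨y, hy⟩ := hj k' (hjk.trans hk) ((a.app (op j)).hom w)
    -- b y dies in C_i hence in C_{i0}
    have hbi : T C ((hij.trans hjk).trans hk) ((b.app (op k')).hom y) = 0 := by
      rw [← T_nat b, hy, ← T_nat a]
      have : (a.app (op i)).hom (T A hij w) ∈ (b.app (op i)).hom.ker := by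
        rw [hex]; exact ⟨_, rfl⟩
      exact this
    have hb0 : T C h0 ((b.app (op k')).hom y) = 0 := by
      have := congrArg (T C hi) hbi
      rw [T_T, map_zero] at this
      exact this
    have hbk : T C hk ((b.app (op k')).hom y) = 0 := hk' _ hb0
    have hker : T B hk y ∈ (b.app (op k)).hom.ker := by
      rw [AddMonoidHom.mem_ker, T_nat b, hbk]
    rw [hex] at hker
    obtain ⟨z, hz⟩ := hker
    refine ⟨z, ?_⟩
    apply ha (op i)
    rw [T_nat a, hz, T_T, hy, T_nat a]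
  intro i
  obtain ⟨j, hij, hj⟩ := key (max i i0) (le_max_right _ _)
  refine ⟨j, (le_max_left i i0).trans hij, fun k hjk y => ?_⟩
  obtain ⟨z, hz⟩ := hj k hjk y
  refine ⟨z, ?_⟩
  have := congrArg (T A (le_max_left i i0)) hz
  rw [T_T, T_T] at this
  exact this

end main


section ess
variable {C : ℕᵒᵖ ⥤ AddCommGrpCat.{u}} {C₀ : AddCommGrpCat.{u}}
  (c : (Functor.const ℕᵒᵖ).obj C₀ ⟶ C)

lemma c_nat {n m : ℕ} (h : n ≤ m) (t : C₀) :
    T C h ((c.app (op m)).hom t) = (c.app (op n)).hom t := by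
  unfold T
  have h2 := congrArg (fun g => g.hom t) (c.naturality (homOfLE h).op)
  simpa using h2.symm

lemma tr_eq {i j k : ℕ} (hi : i ≤ k) (hj : j ≤ k) (s : C.obj (op i) ⟶ C₀)
    (h : ARSys.tr C hj = ARSys.tr C hi ≫ s ≫ c.app (op j)) (y : C.obj (op k)) :
    T C hj y = (c.app (op j)).hom (s.hom (T C hi y)) := by
  have h2 := congrArg (fun g => g.hom y) h
  exact h2

include c in
lemma MLnat_of_ess (h : DerCA.IsEssConstant C C₀ c) : MLnat C := by
  obtain ⟨i, s, -, hs⟩ := h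
  intro j
  obtain ⟨k, hi, hj, heq⟩ := hs j
  refine ⟨k, hj, fun k2 hk2 y => ?_⟩
  refine ⟨(c.app (op k2)).hom (s.hom (T C hi y)), ?_⟩
  rw [c_nat, tr_eq c hi hj s heq]

include c in
lemma ker_of_ess (h : DerCA.IsEssConstant C C₀ c) : ∃ i0 : ℕ,
    ∀ k : ℕ, ∃ (k' : ℕ) (hk : k ≤ k') (h0 : i0 ≤ k'), ∀ ζ : C.obj (op k'),
      T C h0 ζ = 0 → T C hk ζ = 0 := by
  obtain ⟨i, s, -, hs⟩ := h
  refine ⟨i, fun k => ?_⟩
  obtain ⟨k', hi, hj, heq⟩ := hs k
  refine ⟨k', hj, hi, fun ζ hζ => ?_⟩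
  rw [tr_eq c hi hj s heq, hζ, map_zero, map_zero]

end ess

end H5S6787

end helpers

/-- Take inverse systems `(A_i)`, `(B_i)`, `(C_i)` of abelian groups over `ℕ`, with morphisms of systems
`(A_i) ⟶ (B_i) ⟶ (C_i)` that give a short exact sequence at every index, and suppose `(C_i)` is
essentially constant. Then `(A_i)` is Mittag-Leffler if and only if `(B_i)` is. -/
theorem result {A B C : ℕᵒᵖ ⥤ AddCommGrpCat.{u}} (a : A ⟶ B) (b : B ⟶ C) (ha : ∀ i, Function.Injective (a.app i).hom) (hb : ∀ i, Function.Surjective (b.app i).hom) (hex : ∀ i, (b.app i).hom.ker = (a.app i).hom.range) (hC : ∃ (C₀ : AddCommGrpCat.{u}) (c : (Functor.const ℕᵒᵖ).obj C₀ ⟶ C), DerCA.IsEssConstant C C₀ c) : (A ⋙ forget AddCommGrpCat).IsMittagLeffler ↔ (B ⋙ forget AddCommGrpCat).IsMittagLeffler := by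
  obtain ⟨C₀, c0, hc0⟩ := hC
  rw [H5S6787.ML_iff, H5S6787.ML_iff]
  constructor
  · intro hA
    exact H5S6787.ML_ext a b hb hex hA (H5S6787.MLnat_of_ess c0 hc0)
  · intro hB
    obtain ⟨i0, hi0⟩ := H5S6787.ker_of_ess c0 hc0
    exact H5S6787.ML_sub a b ha hex hB i0 hi0

end Groth.Agent.S6787
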