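import Groth.Statements.S3532
import Mathlib
import Groth.Agent.S6787
-- import your own Groth.Agent.* helpers here

set_option autoImplicit false
universe u
open HomAlg3

namespace Groth.Agent.S3532

section helpers
open CategoryTheory Opposite
namespace H5S3532
open Groth.Agent.S6787.H5S6787

variable (F : ℕᵒᵖ ⥤ AddCommGrpCat.{u})

/-- images stabilise at index `p` -/
def Stable (p : ℕ) : Prop :=
  ∃ (j : ℕ) (hpj : p ≤ j), ∀ (k : ℕ) (hjk : j ≤ k), (T F (hpj.trans hjk)).range = (T F hpj).range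

lemma range_anti {p j k : ℕ} (hpj : p ≤ j) (hjk : j ≤ k) :
    (T F (hpj.trans hjk)).range ≤ (T F hpj).range := by
  rintro _ ⟨z, rfl⟩
  exact ⟨T F hjk z, T_T F hpj hjk z⟩

lemma MLnat_iff : MLnat F ↔ ∀ p, Stable F p := by
  constructor
  · intro h p
    obtain ⟨j, hpj, hj⟩ := h p
    refine ⟨j, hpj, fun k hjk => le_antisymm (range_anti F hpj hjk) ?_⟩
    rintro _ ⟨y, rfl⟩
    obtain ⟨z, hz⟩ := hj k hjk y
    exact ⟨z, hz⟩
  · intro h p
    obtain ⟨j, hpj, hj⟩ := h p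
    refine ⟨j, hpj, fun k hjk y => ?_⟩
    have : T F hpj y ∈ (T F (hpj.trans hjk)).range := by rw [hj k hjk]; exact ⟨y, rfl⟩
    obtain ⟨z, hz⟩ := this
    exact ⟨z, hz⟩

lemma stable_succ (p : ℕ) (hp : Stable F p)
    (hc : ∃ k₀ : ℕ, ∃ h₀ : p + 1 ≤ k₀, ∀ (k : ℕ) (hk : k₀ ≤ k),
          (T F (h₀.trans hk)).range ⊓ (T F (Nat.le_succ p)).ker =
            (T F h₀).range ⊓ (T F (Nat.le_succ p)).ker) : Stable F (p + 1) := by
  obtain ⟨j1, hpj1, hj1⟩ := hp
  obtain ⟨k₀, h₀, hk₀⟩ := hc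
  have hj : p + 1 ≤ max j1 k₀ := h₀.trans (le_max_right _ _)
  refine ⟨max j1 k₀, hj, fun k hjk => le_antisymm (range_anti F hj hjk) ?_⟩
  rintro _ ⟨y, rfl⟩
  have hj1j : j1 ≤ max j1 k₀ := le_max_left _ _
  have hk0j : k₀ ≤ max j1 k₀ := le_max_right _ _
  -- image in F_p
  have h1 : T F (Nat.le_succ p) (T F hj y) ∈ (T F (hpj1.trans (hj1j.trans hjk))).range := by
    rw [hj1 k (hj1j.trans hjk), ← hj1 _ hj1j]
    exact ⟨y, (T_T F (Nat.le_succ p) hj y).symm⟩
  obtain ⟨z, hz⟩ := h1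
  have hzz : T F (Nat.le_succ p) (T F (hj.trans hjk) z) = T F (Nat.le_succ p) (T F hj y) := by
    rw [T_T]; exact hz
  have hdiff : T F hj y - T F (hj.trans hjk) z ∈
      (T F (h₀.trans (hk0j.trans hjk))).range ⊓ (T F (Nat.le_succ p)).ker := by
    rw [hk₀ k (hk0j.trans hjk), ← hk₀ _ hk0j]
    refine ⟨⟨y - T F hjk z, ?_⟩, ?_⟩
    · rw [map_sub, T_T]
    · show T F hj y - T F (hj.trans hjk) z ∈ (T F (Nat.le_succ p)).ker
      rw [AddMonoidHom.mem_ker, map_sub, hzz, sub_self]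
  have hx' : T F (hj.trans hjk) z ∈ (T F (hj.trans hjk)).range := ⟨z, rfl⟩
  have := add_mem hdiff.1 hx'
  rwa [sub_add_cancel] at this

end H5S3532

end helpers

open CategoryTheory in
/-- Category of abelian groups, system indexed by the natural numbers: Let (A_k)_{k ≥ 0} be an inverse
system of abelian groups. For p ≤ k write Im_k(A_p) for the image of A_k → A_p, and K_p for the
kernel of A_p → A_{p-1} (K_0 = A_0). Then (A_k) satisfies the Mittag-Leffler condition (for each p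
the subgroups Im_k(A_p) are eventually constant in k) if and only if for each p the subgroups
Im_k(A_p) ∩ K_p are eventually constant in k. -/
theorem result (F : ℕᵒᵖ ⥤ AddCommGrpCat.{u}) :
    (F ⋙ forget AddCommGrpCat).IsMittagLeffler ↔
      ((∃ k₀ : ℕ, ∀ (k : ℕ) (hk : k₀ ≤ k),
          (F.map (homOfLE (Nat.zero_le k)).op).hom.range = (F.map (homOfLE (Nat.zero_le k₀)).op).hom.range) ∧
        ∀ p : ℕ, ∃ k₀ : ℕ, ∃ h₀ : p + 1 ≤ k₀, ∀ (k : ℕ) (hk : k₀ ≤ k),
          (F.map (homOfLE (h₀.trans hk)).op).hom.range ⊓ (F.map (homOfLE (Nat.le_succ p)).op).hom.ker =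
            (F.map (homOfLE h₀).op).hom.range ⊓ (F.map (homOfLE (Nat.le_succ p)).op).hom.ker) := by
  rw [Groth.Agent.S6787.H5S6787.ML_iff, H5S3532.MLnat_iff]
  constructor
  · intro h
    refine ⟨?_, fun p => ?_⟩
    · obtain ⟨j, hj0, hj⟩ := h 0
      exact ⟨j, fun k hk => hj k hk⟩
    · obtain ⟨j, hpj, hj⟩ := h (p + 1)
      refine ⟨j, hpj, fun k hk => ?_⟩
      have := hj k hk
      show (Groth.Agent.S6787.H5S6787.T F (hpj.trans hk)).range ⊓ _ =
        (Groth.Agent.S6787.H5S6787.T F hpj).range ⊓ _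
      rw [this]
  · rintro ⟨⟨k₀, h0⟩, hs⟩ p
    induction p with
    | zero => exact ⟨k₀, Nat.zero_le _, fun k hk => h0 k hk⟩
    | succ p ih => exact H5S3532.stable_succ F p ih (hs p)

end Groth.Agent.S3532
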