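import Groth.Statements.S3544
import Mathlib

set_option autoImplicit false
universe u
open HomAlg3

namespace Groth.Agent.S3544

section helpers

open CategoryTheory CategoryTheory.Limits

variable (A : Type u) [Ring A]

/-- integer-valued length -/
noncomputable def len (M : Type u) [AddCommGroup M] [Module A M] : ℤ :=
  ((Module.length A M).toNat : ℤ)

variable {A}

lemma len_eq_of_equiv {M N : Type u} [AddCommGroup M] [Module A M] [AddCommGroup N] [Module A N]
    (e : M ≃ₗ[A] N) : len A M = len A N := by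
  unfold len
  rw [e.length_eq]

lemma len_eq_zero (M : Type u) [AddCommGroup M] [Module A M] [Subsingleton M] : len A M = 0 := by
  unfold len
  rw [Module.length_eq_zero]
  rfl

lemma len_add_of_exact {N M P : Type u} [AddCommGroup N] [Module A N] [AddCommGroup M]
    [Module A M] [AddCommGroup P] [Module A P] (f : N →ₗ[A] M) (g : M →ₗ[A] P)
    (hf : Function.Injective f) (hg : Function.Surjective g) (H : Function.Exact f g)
    (hM : IsFiniteLength A M) : len A M = len A N + len A P := by
  have h := Module.length_eq_add_of_exact f g hf hg H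
  have hN : Module.length A N ≠ ⊤ := Module.length_ne_top_iff.2 (hM.of_injective hf)
  have hP : Module.length A P ≠ ⊤ := Module.length_ne_top_iff.2 (hM.of_surjective hg)
  unfold len
  rw [h, ENat.toNat_add hN hP]
  push_cast
  rfl

/-- the three-term length formula -/
lemma len_three {M₁ M₂ M₃ : Type u} [AddCommGroup M₁] [Module A M₁] [AddCommGroup M₂]
    [Module A M₂] [AddCommGroup M₃] [Module A M₃] (f : M₁ →ₗ[A] M₂) (g : M₂ →ₗ[A] M₃)
    (f' : M₁ →ₗ[A] LinearMap.ker g) (hf' : ∀ x, (f' x : M₂) = f x) (hM : IsFiniteLength A M₂) :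
    len A M₂ = len A (LinearMap.range f) + len A (LinearMap.ker g ⧸ LinearMap.range f') +
      len A (LinearMap.range g) := by
  have hK : IsFiniteLength A (LinearMap.ker g) :=
    hM.of_injective (f := (LinearMap.ker g).subtype) (Submodule.subtype_injective _)
  have e1 := len_add_of_exact (LinearMap.ker g).subtype g.rangeRestrict
    (Submodule.subtype_injective _) g.surjective_rangeRestrict
    (by rw [LinearMap.exact_iff, LinearMap.ker_rangeRestrict, Submodule.range_subtype]) hM
  have e2 := len_add_of_exact (LinearMap.range f').subtype (LinearMap.range f').mkQ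
    (Submodule.subtype_injective _) (Submodule.mkQ_surjective _)
    (LinearMap.exact_subtype_mkQ _) hK
  have e3 : len A (LinearMap.range f') = len A (LinearMap.range f) := by
    have hrange : LinearMap.range f = (LinearMap.range f').map (LinearMap.ker g).subtype := by
      ext y
      constructor
      · rintro ⟨x, rfl⟩
        exact ⟨f' x, ⟨x, rfl⟩, hf' x⟩
      · rintro ⟨_, ⟨x, rfl⟩, rfl⟩
        exact ⟨x, (hf' x).symm⟩
    rw [hrange]
    exact len_eq_of_equiv
      (Submodule.equivMapOfInjective _ (Submodule.subtype_injective _) _)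
  rw [e1, e2, e3]

/-- the sign `(-1)^{p+q}` -/
def sgn (x : ℤ × ℤ) : ℤ := (((x.1 + x.2).negOnePow : ℤˣ) : ℤ)

lemma sgn_add (x d : ℤ × ℤ) (hd : d.1 + d.2 = 1) : sgn (x + d) = - sgn x := by
  unfold sgn
  have h : (x + d).1 + (x + d).2 = (x.1 + x.2) + 1 := by
    simp only [Prod.fst_add, Prod.snd_add]
    omega
  rw [h, Int.negOnePow_succ]
  simp

lemma sum_shift (s : Finset (ℤ × ℤ)) (d : ℤ × ℤ) (hd : d.1 + d.2 = 1) (b : ℤ × ℤ → ℤ)
    (hb1 : ∀ x, x ∉ s → b x = 0) (hb2 : ∀ x, x - d ∉ s → b x = 0) :
    ∑ x ∈ s, sgn x * b (x + d) = - ∑ x ∈ s, sgn x * b x := by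
  classical
  let e : (ℤ × ℤ) ↪ (ℤ × ℤ) := ⟨fun x => x + d, add_left_injective d⟩
  have h1 : ∑ x ∈ s, sgn x * b (x + d) = - ∑ y ∈ s.map e, sgn y * b y := by
    rw [Finset.sum_map, ← Finset.sum_neg_distrib]
    refine Finset.sum_congr rfl (fun x _ => ?_)
    change sgn x * b (x + d) = -(sgn (x + d) * b (x + d))
    rw [sgn_add x d hd]
    ring
  have h2 : ∑ y ∈ s.map e, sgn y * b y = ∑ y ∈ s ∩ s.map e, sgn y * b y := by
    symm
    apply Finset.sum_subset Finset.inter_subset_right
    intro y hy hny
    have : y ∉ s := fun h => hny (Finset.mem_inter.2 ⟨h, hy⟩)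
    rw [hb1 y this, mul_zero]
  have h3 : ∑ y ∈ s, sgn y * b y = ∑ y ∈ s ∩ s.map e, sgn y * b y := by
    symm
    apply Finset.sum_subset Finset.inter_subset_left
    intro y hy hny
    have : y - d ∉ s := by
      intro h
      apply hny
      refine Finset.mem_inter.2 ⟨hy, Finset.mem_map.2 ⟨y - d, h, ?_⟩⟩
      change y - d + d = y
      exact sub_add_cancel y d
    rw [hb2 y this, mul_zero]
  rw [h1, h2, ← h3]

variable (d : ℤ × ℤ) (K : HomologicalComplex (ModuleCat.{u} A) (ComplexShape.up' d))

/-- the length of the image of the incoming differential -/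
noncomputable def bb (x : ℤ × ℤ) : ℤ := len A (LinearMap.range (K.d (x - d) x).hom)

lemma bb_congr (x y z : ℤ × ℤ) (h : y = z) :
    len A (LinearMap.range (K.d y x).hom) = len A (LinearMap.range (K.d z x).hom) := by
  subst h
  rfl

lemma homology_iso (x : ℤ × ℤ) :
    Nonempty (K.homology x ≅ (K.sc' (x - d) x (x + d)).moduleCatLeftHomologyData.H) := by
  have hprev : (ComplexShape.up' d).prev x = x - d :=
    (ComplexShape.up' d).prev_eq' (sub_add_cancel x d)
  have hnext : (ComplexShape.up' d).next x = x + d := (ComplexShape.up' d).next_eq' rfl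
  exact ⟨K.homologyIsoSc' (x - d) x (x + d) hprev hnext ≪≫
    (K.sc' (x - d) x (x + d)).moduleCatHomologyIso⟩

lemma len_X (x : ℤ × ℤ) (hfin : IsFiniteLength A (K.X x)) :
    len A (K.X x) = bb d K x + len A (K.homology x) + bb d K (x + d) := by
  obtain ⟨eH⟩ := homology_iso d K x
  have h3 := len_three (A := A) (K.sc' (x - d) x (x + d)).f.hom (K.sc' (x - d) x (x + d)).g.hom
    (K.sc' (x - d) x (x + d)).moduleCatToCycles (fun y => rfl) hfin
  have hH : len A (K.homology x) =
      len A (LinearMap.ker (K.sc' (x - d) x (x + d)).g.hom ⧸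
        LinearMap.range (K.sc' (x - d) x (x + d)).moduleCatToCycles) :=
    len_eq_of_equiv eH.toLinearEquiv
  have hb : len A (LinearMap.range (K.sc' (x - d) x (x + d)).g.hom) = bb d K (x + d) :=
    bb_congr d K (x + d) x (x + d - d) (add_sub_cancel_right x d).symm
  rw [hH, ← hb]
  exact h3

lemma finiteLength_homology (x : ℤ × ℤ) (hfin : IsFiniteLength A (K.X x)) :
    IsFiniteLength A (K.homology x) := by
  obtain ⟨eH⟩ := homology_iso d K x
  have hK : IsFiniteLength A (LinearMap.ker (K.sc' (x - d) x (x + d)).g.hom) :=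
    IsFiniteLength.of_injective (f := (LinearMap.ker (K.sc' (x - d) x (x + d)).g.hom).subtype)
      hfin (Submodule.subtype_injective _)
  have hQ : IsFiniteLength A (LinearMap.ker (K.sc' (x - d) x (x + d)).g.hom ⧸
      LinearMap.range (K.sc' (x - d) x (x + d)).moduleCatToCycles) :=
    hK.of_surjective
      (f := (LinearMap.range (K.sc' (x - d) x (x + d)).moduleCatToCycles).mkQ)
      (Submodule.mkQ_surjective _)
  exact IsFiniteLength.of_injective (f := eH.toLinearEquiv.toLinearMap) hQ
    eH.toLinearEquiv.injective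

lemma euler (s : Finset (ℤ × ℤ)) (hd : d.1 + d.2 = 1)
    (h0 : ∀ x, x ∉ s → IsZero (K.X x)) (hfin : ∀ x, IsFiniteLength A (K.X x)) :
    ∑ x ∈ s, sgn x * len A (K.X x) = ∑ x ∈ s, sgn x * len A (K.homology x) := by
  have hsub : ∀ x, IsZero (K.X x) → Subsingleton (K.X x) :=
    fun x h => ModuleCat.subsingleton_of_isZero h
  have hb1 : ∀ x, x ∉ s → bb d K x = 0 := by
    intro x hx
    haveI := hsub x (h0 x hx)
    haveI : Subsingleton (LinearMap.range (K.d (x - d) x).hom) :=
      ⟨fun a b => Subtype.ext (Subsingleton.elim _ _)⟩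
    exact len_eq_zero _
  have hb2 : ∀ x, x - d ∉ s → bb d K x = 0 := by
    intro x hx
    haveI := hsub (x - d) (h0 _ hx)
    haveI : Subsingleton (LinearMap.range (K.d (x - d) x).hom) := by
      constructor
      rintro ⟨_, a, rfl⟩ ⟨_, b, rfl⟩
      exact Subtype.ext (by rw [Subsingleton.elim a b])
    exact len_eq_zero _
  have hshift := sum_shift s d hd (bb d K) hb1 hb2
  calc ∑ x ∈ s, sgn x * len A (K.X x)
      = ∑ x ∈ s, (sgn x * bb d K x + sgn x * len A (K.homology x) +
          sgn x * bb d K (x + d)) := by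
        refine Finset.sum_congr rfl (fun x _ => ?_)
        rw [len_X d K x (hfin x)]
        ring
    _ = ∑ x ∈ s, sgn x * bb d K x + ∑ x ∈ s, sgn x * len A (K.homology x) +
          ∑ x ∈ s, sgn x * bb d K (x + d) := by
        rw [Finset.sum_add_distrib, Finset.sum_add_distrib]
    _ = ∑ x ∈ s, sgn x * len A (K.homology x) := by
        rw [hshift]
        ring

end helpers

open CategoryTheory CategoryTheory.Limits in
/-- Let E be a cohomological spectral sequence of modules over a ring A, starting at page 2, such that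
the E₂ terms have finite length and only finitely many of them (all inside the finite set s of
bidegrees) are nonzero. Then for every r ≥ 2 the Euler–Poincaré characteristic of page r, the
alternating sum over s of (-1)^{p+q} times the length of E_r^{pq}, equals that of page 2. -/
theorem result {A : Type u} [Ring A]
    (E : E₂CohomologicalSpectralSequence (ModuleCat.{u} A)) (s : Finset (ℤ × ℤ))
    (hs : ∀ pq : ℤ × ℤ, pq ∉ s → IsZero ((E.page 2).X pq))
    (hfl : ∀ pq : ℤ × ℤ, IsFiniteLength A ((E.page 2).X pq)) (r : ℤ) (hr : 2 ≤ r) :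
    (s.sum fun pq => (((pq.1 + pq.2).negOnePow : ℤˣ) : ℤ) * ((Module.length A ((E.page r hr).X pq)).toNat : ℤ)) =
      s.sum fun pq => (((pq.1 + pq.2).negOnePow : ℤˣ) : ℤ) * ((Module.length A ((E.page 2).X pq)).toNat : ℤ) := by
  have key : ∀ (r : ℤ) (hr : 2 ≤ r),
      (∀ pq, pq ∉ s → IsZero ((E.page r hr).X pq)) ∧
      (∀ pq, IsFiniteLength A ((E.page r hr).X pq)) ∧
      (∑ pq ∈ s, sgn pq * len A ((E.page r hr).X pq) =
        ∑ pq ∈ s, sgn pq * len A ((E.page 2).X pq)) := by
    intro r hr
    induction r, hr using Int.le_induction with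
    | base => exact ⟨hs, hfl, rfl⟩
    | succ r hr ih =>
      obtain ⟨h0, hfin, hsum⟩ := ih
      have eX : ∀ pq, (E.page r hr).homology pq ≅ (E.page (r + 1) (hr.trans (by omega))).X pq :=
        fun pq => E.iso r (r + 1) pq rfl hr
      refine ⟨?_, ?_, ?_⟩
      · intro pq hpq
        exact (((E.page r hr).sc pq).isZero_homology_of_isZero_X₂ (h0 pq hpq)).of_iso (eX pq).symm
      · intro pq
        exact (finiteLength_homology (r, 1 - r) (E.page r hr) pq (hfin pq)).of_injective
          (f := (eX pq).symm.toLinearEquiv.toLinearMap) (eX pq).symm.toLinearEquiv.injective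
      · rw [← hsum, euler (r, 1 - r) (E.page r hr) s (by show r + (1 - r) = 1; omega) h0 hfin]
        refine Finset.sum_congr rfl (fun pq _ => ?_)
        rw [len_eq_of_equiv (eX pq).toLinearEquiv]
  exact (key r hr).2.2

end Groth.Agent.S3544
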