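import Groth.Statements.S3549
import Mathlib

set_option autoImplicit false
universe u
open CategoryTheory CategoryTheory.Limits AlgebraicGeometry
open EGA2

namespace Groth.Agent.S3549

section Aux
open DirectSum
variable {R A : Type u} [CommRing R] [CommRing A] [Algebra R A] (𝒜 : ℕ → Submodule R A)
  [GradedAlgebra 𝒜]
variable {M : Type u} [AddCommGroup M] [Module R M] [Module A M]
  (ℳ : ℕ → Submodule R M) [DirectSum.Decomposition ℳ] [SetLike.GradedSMul 𝒜 ℳ]

/-- the annihilator of a homogeneous element is a homogeneous ideal -/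
theorem ann_homog {j : ℕ} {w : M} (hw : w ∈ ℳ j) (u : A) (hu : u • w = 0) (i : ℕ) :
    (decompose 𝒜 u i : A) • w = 0 := by
  classical
  have h1 : (decompose ℳ (u • w) (i + j) : M) = (decompose 𝒜 u i : A) • w := by
    conv_lhs => rw [← sum_support_decompose 𝒜 u, Finset.sum_smul]
    rw [decompose_sum, DFinsupp.finsetSum_apply, AddSubmonoidClass.coe_finsetSum]
    have hterm : ∀ i' : ℕ, ((decompose ℳ ((decompose 𝒜 u i' : A) • w)) (i + j) : M) =
        if i' = i then (decompose 𝒜 u i' : A) • w else 0 := by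
      intro i'
      have hmem : (decompose 𝒜 u i' : A) • w ∈ ℳ (i' + j) := by
        have := SetLike.GradedSMul.smul_mem (A := 𝒜) (B := ℳ) (decompose 𝒜 u i').2 hw
        simpa [vadd_eq_add] using this
      split_ifs with h
      · subst h
        exact decompose_of_mem_same ℳ hmem
      · have : i' + j ≠ i + j := by omega
        exact decompose_of_mem_ne ℳ hmem this
    simp only [hterm]
    rw [Finset.sum_ite_eq']
    split_ifs with h
    · rfl
    · rw [DFinsupp.notMem_support_iff] at h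
      rw [h]
      simp
  rw [← h1, hu, decompose_zero]
  rfl

theorem exists_pow_smul_eq_zero {j : ℕ} {w : M} (hw : w ∈ ℳ j) {e : ℕ} (he : 0 < e) {t : A}
    (ht : t ∈ 𝒜 e)
    (hpt : ∀ x : ProjectiveSpectrum 𝒜, t ∉ x.asHomogeneousIdeal →
      ∃ u : A, u ∉ x.asHomogeneousIdeal ∧ u • w = 0) :
    ∃ k : ℕ, t ^ k • w = 0 := by
  classical
  let J : Ideal A := LinearMap.ker (LinearMap.toSpanSingleton A M w)
  have hJ : ∀ u, u ∈ J ↔ u • w = 0 := fun u => by
    rw [LinearMap.mem_ker, LinearMap.toSpanSingleton_apply]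
  by_contra hcon
  push Not at hcon
  have htrad : t ∉ J.radical := by
    rintro ⟨k, hk⟩
    exact hcon k ((hJ _).mp hk)
  rw [Ideal.radical_eq_sInf, Ideal.mem_sInf] at htrad
  push Not at htrad
  obtain ⟨P, ⟨hJP, hP⟩, htP⟩ := htrad
  have hcore_le : (P.homogeneousCore 𝒜).toIdeal ≤ P := Ideal.toIdeal_homogeneousCore_le 𝒜 P
  have htcore : t ∉ (P.homogeneousCore 𝒜).toIdeal := fun h => htP (hcore_le h)
  let x : ProjectiveSpectrum 𝒜 :=
    ⟨P.homogeneousCore 𝒜, hP.homogeneousCore, fun hle => htcore (hle (by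
      change t ∈ HomogeneousIdeal.irrelevant 𝒜
      rw [HomogeneousIdeal.mem_irrelevant_iff, GradedRing.proj_apply]
      exact decompose_of_mem_ne 𝒜 ht (by omega)))⟩
  obtain ⟨u, hux, huw⟩ := hpt x htcore
  apply hux
  change u ∈ (P.homogeneousCore 𝒜).toIdeal
  rw [← sum_support_decompose 𝒜 u]
  refine Ideal.sum_mem _ fun i _ => ?_
  apply Ideal.mem_homogeneousCore_of_homogeneous_of_mem ⟨i, (decompose 𝒜 u i).2⟩
  apply hJP
  rw [hJ]
  exact ann_homog 𝒜 ℳ hw u huw i

theorem mk_mem_tildeAt {j : ℕ} (x : ProjectiveSpectrum 𝒜) (w : ℳ j) (s : 𝒜 j)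
    (hs : s.1 ∉ x.asHomogeneousIdeal) :
    LocalizedModule.mk w.1 ⟨s.1, hs⟩ ∈ GrTilde.tildeAt 𝒜 ℳ 0 x :=
  Submodule.subset_span ⟨j, j, w, s, hs, by simp, rfl⟩

end Aux

/-- Let S be a graded ring whose irrelevant ideal S_+ is generated by the degree-one elements, M a
graded S-module and X = Proj S. If the O_X-module M~ is zero, then for every z in M and every
homogeneous f of positive degree some power of f annihilates z. -/
theorem result {R A : Type u} [CommRing R] [CommRing A] [Algebra R A] (𝒜 : ℕ → Submodule R A) [GradedAlgebra 𝒜]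
    (hgen : (HomogeneousIdeal.irrelevant 𝒜).toIdeal = Ideal.span (𝒜 1 : Set A))
    {M : Type u} [AddCommGroup M] [Module R M] [Module A M] [IsScalarTower R A M] (ℳ : ℕ → Submodule R M) [DirectSum.Decomposition ℳ] [SetLike.GradedSMul 𝒜 ℳ]
    (h : IsZero (GrTilde.tilde 𝒜 ℳ 0)) (z : M) (d : ℕ) (f : A) (hd : 0 < d) (hf : f ∈ 𝒜 d) :
    ∃ k : ℕ, f ^ k • z = 0 := by
  classical
  have hsec : ∀ (U : (Proj 𝒜).Opens) (s : Γ(GrTilde.tilde 𝒜 ℳ 0, U)), s = 0 := by
    intro U s
    have e := h.eq_of_src (𝟙 _) 0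
    have e2 := congrArg (fun φ => (Scheme.Modules.Hom.app φ U).hom s) e
    simpa using e2
  -- homogeneous case
  have hhom : ∀ (i : ℕ) (z : M), z ∈ ℳ i → ∃ k : ℕ, f ^ k • z = 0 := by
    intro i z hz
    apply exists_pow_smul_eq_zero 𝒜 ℳ hz hd hf
    intro x hfx
    obtain ⟨y, hy1, hyx⟩ : ∃ y ∈ 𝒜 1, y ∉ x.asHomogeneousIdeal := by
      by_contra hcon
      push Not at hcon
      apply x.not_irrelevant_le
      intro y hy
      have hy' : y ∈ (HomogeneousIdeal.irrelevant 𝒜).toIdeal := hy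
      rw [hgen] at hy'
      have hle : Ideal.span (𝒜 1 : Set A) ≤ x.asHomogeneousIdeal.toIdeal :=
        Ideal.span_le.mpr fun z hz => hcon z hz
      exact hle hy'
    have hid : i ≤ i * d := Nat.le_mul_of_pos_right i hd
    set N := i * d - i with hN
    have hw : y ^ N • z ∈ ℳ (i * d) := by
      have h1 : y ^ N ∈ 𝒜 N := by
        have := SetLike.pow_mem_graded N hy1
        simpa using this
      have := SetLike.GradedSMul.smul_mem (A := 𝒜) (B := ℳ) h1 hz
      have e : N + i = i * d := by omega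
      rw [← e]
      simpa [vadd_eq_add] using this
    have hfi : f ^ i ∈ 𝒜 (i * d) := by
      have := SetLike.pow_mem_graded i hf
      simpa using this
    have hnin : ∀ x' : ProjectiveSpectrum.basicOpen 𝒜 f, f ^ i ∉ x'.1.asHomogeneousIdeal :=
      fun x' hmem => x'.2 (x'.1.isPrime.mem_of_pow_mem i hmem)
    let s : GrTilde.sect 𝒜 ℳ 0 (Opposite.op (ProjectiveSpectrum.basicOpen 𝒜 f)) :=
      ⟨fun x' => ⟨LocalizedModule.mk (y ^ N • z) ⟨f ^ i, hnin x'⟩,
        mk_mem_tildeAt 𝒜 ℳ x'.1 ⟨y ^ N • z, hw⟩ ⟨f ^ i, hfi⟩ (hnin x')⟩,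
       fun x' => ⟨ProjectiveSpectrum.basicOpen 𝒜 f, x'.2, 𝟙 _, i * d, i * d, ⟨y ^ N • z, hw⟩,
        ⟨f ^ i, hfi⟩, hnin, Or.inl (by simp), fun _ => rfl⟩⟩
    have hs0 : s = 0 := hsec (ProjectiveSpectrum.basicOpen 𝒜 f) s
    have hval := congrArg (fun t : GrTilde.sect 𝒜 ℳ 0
      (Opposite.op (ProjectiveSpectrum.basicOpen 𝒜 f)) => (t.1 ⟨x, hfx⟩).1) hs0
    change LocalizedModule.mk (y ^ N • z) ⟨f ^ i, hnin ⟨x, hfx⟩⟩ = 0 at hval
    rw [← LocalizedModule.zero_mk (1 : x.asHomogeneousIdeal.toIdeal.primeCompl),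
      LocalizedModule.mk_eq] at hval
    obtain ⟨⟨u', hu'⟩, hu'w⟩ := hval
    simp only [Submonoid.smul_def, smul_zero, one_smul] at hu'w
    refine ⟨u' * y ^ N, ?_, ?_⟩
    · intro hmem
      rcases x.isPrime.mem_or_mem hmem with h1 | h1
      · exact hu' h1
      · exact hyx (x.isPrime.mem_of_pow_mem N h1)
    · rw [mul_smul]; exact hu'w
  -- general case
  choose k hk using fun i => hhom i (DirectSum.decompose ℳ z i) (DirectSum.decompose ℳ z i).2
  obtain ⟨K, hK⟩ : ∃ K, ∀ i ∈ (DirectSum.decompose ℳ z).support, k i ≤ K :=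
    ⟨∑ i ∈ (DirectSum.decompose ℳ z).support, k i, fun i hi =>
      Finset.single_le_sum (f := k) (fun _ _ => Nat.zero_le _) hi⟩
  refine ⟨K, ?_⟩
  have hz : z = ∑ i ∈ (DirectSum.decompose ℳ z).support, (DirectSum.decompose ℳ z i : M) :=
    (DirectSum.sum_support_decompose ℳ z).symm
  rw [hz, Finset.smul_sum]
  refine Finset.sum_eq_zero fun i hi => ?_
  obtain ⟨c, hc⟩ := Nat.exists_eq_add_of_le (hK i hi)
  rw [hc, add_comm, pow_add, mul_smul, hk i, smul_zero]

end Groth.Agent.S3549
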