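import Groth.Statements.S3547
import Mathlib
import Groth.Agent.S3549

set_option autoImplicit false
universe u
open CategoryTheory CategoryTheory.Limits AlgebraicGeometry
open EGA2

namespace Groth.Agent.S3547

section Aux
open DirectSum
variable {R A : Type u} [CommRing R] [CommRing A] [Algebra R A] (𝒜 : ℕ → Submodule R A)
  [GradedAlgebra 𝒜]
variable {M : Type u} [AddCommGroup M] [Module R M] [Module A M] [IsScalarTower R A M]
  (ℳ : ℕ → Submodule R M) [DirectSum.Decomposition ℳ] [SetLike.GradedSMul 𝒜 ℳ]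

omit [IsScalarTower R A M] [DirectSum.Decomposition ℳ] [SetLike.GradedSMul 𝒜 ℳ] in
theorem mk_mem_tildeAt' (n : ℤ) {i j : ℕ} (x : ProjectiveSpectrum 𝒜) (m : ℳ i) (s : 𝒜 j)
    (hs : s.1 ∉ x.asHomogeneousIdeal) (h : (i : ℤ) = j + n ∨ m.1 = 0) :
    LocalizedModule.mk m.1 ⟨s.1, hs⟩ ∈ GrTilde.tildeAt 𝒜 ℳ n x := by
  rcases h with h | h
  · exact Submodule.subset_span ⟨i, j, m, s, hs, h, rfl⟩
  · rw [h, LocalizedModule.zero_mk]
    exact Submodule.zero_mem _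

omit [IsScalarTower R A M] [DirectSum.Decomposition ℳ] [GradedAlgebra 𝒜] in
theorem smul_mem_graded' {i j : ℕ} {a : A} {m : M} (ha : a ∈ 𝒜 i) (hm : m ∈ ℳ j) :
    a • m ∈ ℳ (i + j) := by
  have := SetLike.GradedSMul.smul_mem (A := 𝒜) (B := ℳ) ha hm
  simpa [vadd_eq_add] using this

omit [IsScalarTower R A M] [DirectSum.Decomposition ℳ] in
theorem frac_form (n : ℤ) (x : ProjectiveSpectrum 𝒜) (t : GrTilde.LocMod 𝒜 (M := M) x)
    (ht : t ∈ GrTilde.tildeAt 𝒜 ℳ n x) :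
    ∃ (i j : ℕ) (m : ℳ i) (s : 𝒜 j) (hs : s.1 ∉ x.asHomogeneousIdeal),
      ((i : ℤ) = j + n ∨ m.1 = 0) ∧ t = LocalizedModule.mk m.1 ⟨s.1, hs⟩ := by
  unfold GrTilde.tildeAt at ht
  induction ht using Submodule.span_induction with
  | mem t ht =>
    obtain ⟨i, j, m, s, hs, hij, rfl⟩ := ht
    exact ⟨i, j, m, s, hs, Or.inl hij, rfl⟩
  | zero =>
    exact ⟨0, 0, 0, ⟨1, SetLike.GradedOne.one_mem⟩,
      fun h => x.isPrime.ne_top ((Ideal.eq_top_iff_one _).mpr h), Or.inr rfl,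
      (LocalizedModule.zero_mk _).symm⟩
  | add t₁ t₂ _ _ h₁ h₂ =>
    obtain ⟨i, j, m, s, hs, hij, rfl⟩ := h₁
    obtain ⟨i', j', m', s', hs', hij', rfl⟩ := h₂
    have hss : s.1 * s'.1 ∉ x.asHomogeneousIdeal := fun h =>
      (x.isPrime.mem_or_mem h).elim hs hs'
    have hsum : LocalizedModule.mk m.1 (⟨s.1, hs⟩ : x.asHomogeneousIdeal.toIdeal.primeCompl) +
        LocalizedModule.mk m'.1 (⟨s'.1, hs'⟩ : x.asHomogeneousIdeal.toIdeal.primeCompl) =
        LocalizedModule.mk (s'.1 • m.1 + s.1 • m'.1)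
          (⟨s.1 * s'.1, hss⟩ : x.asHomogeneousIdeal.toIdeal.primeCompl) := by
      rw [LocalizedModule.mk_add_mk]
      rfl
    rw [hsum]
    rcases hij with hij | hm0
    · rcases hij' with hij' | hm0'
      · have e : j + i' = j' + i := by omega
        refine ⟨j' + i, j + j', ⟨s'.1 • m.1 + s.1 • m'.1, ?_⟩,
          ⟨s.1 * s'.1, SetLike.mul_mem_graded s.2 s'.2⟩, hss, Or.inl (by push_cast; omega), rfl⟩
        exact add_mem (smul_mem_graded' 𝒜 ℳ s'.2 m.2) (e ▸ smul_mem_graded' 𝒜 ℳ s.2 m'.2)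
      · refine ⟨j' + i, j + j', ⟨s'.1 • m.1 + s.1 • m'.1, ?_⟩,
          ⟨s.1 * s'.1, SetLike.mul_mem_graded s.2 s'.2⟩, hss, Or.inl (by push_cast; omega), rfl⟩
        rw [hm0', smul_zero, add_zero]
        exact smul_mem_graded' 𝒜 ℳ s'.2 m.2
    · refine ⟨j + i', j + j', ⟨s'.1 • m.1 + s.1 • m'.1, ?_⟩,
        ⟨s.1 * s'.1, SetLike.mul_mem_graded s.2 s'.2⟩, hss, ?_, rfl⟩
      · rw [hm0, smul_zero, zero_add]
        exact smul_mem_graded' 𝒜 ℳ s.2 m'.2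
      · rcases hij' with hij' | hm0'
        · exact Or.inl (by push_cast; omega)
        · exact Or.inr (show s'.1 • m.1 + s.1 • m'.1 = 0 by
            rw [hm0, hm0', smul_zero, smul_zero, add_zero])
  | smul c t _ h₁ =>
    obtain ⟨i, j, m, s, hs, hij, rfl⟩ := h₁
    obtain ⟨⟨dg, ⟨a, ha⟩, ⟨b, hb⟩, hbx⟩, rfl⟩ := HomogeneousLocalization.mk_surjective c
    have hbs : b * s.1 ∉ x.asHomogeneousIdeal := fun h =>
      (x.isPrime.mem_or_mem h).elim hbx hs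
    refine ⟨dg + i, dg + j, ⟨a • m.1, smul_mem_graded' 𝒜 ℳ ha m.2⟩,
      ⟨b * s.1, SetLike.mul_mem_graded hb s.2⟩, hbs, ?_, ?_⟩
    · rcases hij with hij | hm0
      · exact Or.inl (by push_cast; omega)
      · exact Or.inr (show a • m.1 = 0 by rw [hm0, smul_zero])
    · rw [GrTilde.a0_smul_def, HomogeneousLocalization.val_mk, LocalizedModule.mk_smul_mk]
      rfl

omit [IsScalarTower R A M] in
theorem exists_homog_ann (n : ℤ) (x : ProjectiveSpectrum 𝒜) {i j i' j' : ℕ} (a : ℳ i) (s : 𝒜 j)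
    (b : ℳ i') (t : 𝒜 j') (ha : (i : ℤ) = j + n ∨ a.1 = 0) (hb : (i' : ℤ) = j' + n ∨ b.1 = 0)
    (hs : s.1 ∉ x.asHomogeneousIdeal) (ht : t.1 ∉ x.asHomogeneousIdeal)
    (heq : (LocalizedModule.mk a.1 ⟨s.1, hs⟩ : GrTilde.LocMod 𝒜 (M := M) x) =
      LocalizedModule.mk b.1 ⟨t.1, ht⟩) :
    ∃ c : A, c ∉ x.asHomogeneousIdeal ∧ c • t.1 • a.1 = c • s.1 • b.1 := by
  classical
  obtain ⟨⟨u, hu⟩, hu'⟩ := LocalizedModule.mk_eq.mp heq
  simp only [Submonoid.smul_def] at hu'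
  have hδ : ∃ D, t.1 • a.1 - s.1 • b.1 ∈ ℳ D := by
    rcases ha with ha | ha
    · rcases hb with hb | hb
      · have e : j + i' = j' + i := by omega
        exact ⟨j' + i, sub_mem (smul_mem_graded' 𝒜 ℳ t.2 a.2)
          (e ▸ smul_mem_graded' 𝒜 ℳ s.2 b.2)⟩
      · refine ⟨j' + i, ?_⟩
        rw [hb, smul_zero, sub_zero]
        exact smul_mem_graded' 𝒜 ℳ t.2 a.2
    · refine ⟨j + i', ?_⟩
      rw [ha, smul_zero, zero_sub]
      exact neg_mem (smul_mem_graded' 𝒜 ℳ s.2 b.2)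
  obtain ⟨D, hD⟩ := hδ
  have huδ : u • (t.1 • a.1 - s.1 • b.1) = 0 := by
    rw [smul_sub, hu', sub_self]
  obtain ⟨k, hk⟩ : ∃ k, (decompose 𝒜 u k : A) ∉ x.asHomogeneousIdeal := by
    by_contra hcon
    push Not at hcon
    apply hu
    change u ∈ x.asHomogeneousIdeal.toIdeal
    rw [← sum_support_decompose 𝒜 u]
    exact Ideal.sum_mem _ fun k _ => hcon k
  refine ⟨(decompose 𝒜 u k : A), hk, ?_⟩
  have := Groth.Agent.S3549.ann_homog 𝒜 ℳ hD u huδ k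
  rw [smul_sub, sub_eq_zero] at this
  exact this

end Aux

open TopologicalSpace in

/-- Let S be a graded ring, M a graded S-module, X = Proj S and p a point of X. The stalk of M(n)~ at p
is the module of fractions m/f in M_p with m, f homogeneous, f not in p and deg m = deg f + n:
precisely, evaluation at p is a bijection from the stalk at p of the sheaf of local sections of
M(n)~ onto that module of fractions. -/
theorem result {R A : Type u} [CommRing R] [CommRing A] [Algebra R A] (𝒜 : ℕ → Submodule R A) [GradedAlgebra 𝒜]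
    {M : Type u} [AddCommGroup M] [Module R M] [Module A M] [IsScalarTower R A M] (ℳ : ℕ → Submodule R M) [DirectSum.Decomposition ℳ] [SetLike.GradedSMul 𝒜 ℳ] (n : ℤ)
    (p : ProjectiveSpectrum 𝒜) :
    Function.Bijective (TopCat.stalkToFiber (GrTilde.isLocFrac 𝒜 ℳ n) p) := by
  constructor
  · apply TopCat.stalkToFiber_injective
    intro U V fU hU fV hV e
    rcases hU ⟨p, U.2⟩ with ⟨U', mU, iU, i, j, a, s, nins, ha, wa⟩
    rcases hV ⟨p, V.2⟩ with ⟨V', mV, iV, i', j', b, t, nint, hb, wb⟩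
    have e1 : (LocalizedModule.mk a.1 ⟨s.1, nins ⟨p, mU⟩⟩ : GrTilde.LocMod 𝒜 (M := M) p) =
        LocalizedModule.mk b.1 ⟨t.1, nint ⟨p, mV⟩⟩ := by
      rw [← wa ⟨p, mU⟩, ← wb ⟨p, mV⟩]
      exact congrArg Subtype.val e
    obtain ⟨c, hcp, hc⟩ := exists_homog_ann 𝒜 ℳ n p a s b t ha hb _ _ e1
    use ⟨(U' ⊓ V') ⊓ ProjectiveSpectrum.basicOpen 𝒜 c, ⟨⟨mU, mV⟩, hcp⟩⟩
    refine ⟨?_, ?_, ?_⟩
    · change (U' ⊓ V') ⊓ ProjectiveSpectrum.basicOpen 𝒜 c ⟶ U.val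
      exact Opens.infLELeft _ _ ≫ Opens.infLELeft _ _ ≫ iU
    · change (U' ⊓ V') ⊓ ProjectiveSpectrum.basicOpen 𝒜 c ⟶ V.val
      exact Opens.infLELeft _ _ ≫ Opens.infLERight _ _ ≫ iV
    · intro w
      apply Subtype.ext
      have h1 := wa ⟨w.1, w.2.1.1⟩
      have h2 := wb ⟨w.1, w.2.1.2⟩
      refine h1.trans (Eq.trans ?_ h2.symm)
      rw [LocalizedModule.mk_eq]
      exact ⟨⟨c, w.2.2⟩, hc⟩
  · apply TopCat.stalkToFiber_surjective
    intro t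
    obtain ⟨i, j, m, s, hs, hij, ht⟩ := frac_form 𝒜 ℳ n p t.1 t.2
    refine ⟨⟨ProjectiveSpectrum.basicOpen 𝒜 s.1, hs⟩,
      fun y => ⟨LocalizedModule.mk m.1 ⟨s.1, y.2⟩, mk_mem_tildeAt' 𝒜 ℳ n y.1 m s y.2 hij⟩, ?_, ?_⟩
    · intro y
      exact ⟨ProjectiveSpectrum.basicOpen 𝒜 s.1, y.2, 𝟙 _, i, j, m, s, fun y => y.2, hij,
        fun _ => rfl⟩
    · exact Subtype.ext ht.symm

end Groth.Agent.S3547
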