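import Groth.Statements.S3548
import Mathlib

set_option autoImplicit false
universe u
open CategoryTheory CategoryTheory.Limits AlgebraicGeometry
open EGA2

namespace Groth.Agent.S3548

theorem eq_of_eq_bot' {R M : Type*} [Semiring R] [AddCommMonoid M] [Module R M]
    (N : Submodule R M) (hN : N = ⊥) (a b : N) : a = b := by
  subst hN
  apply Subtype.ext
  rw [(Submodule.mem_bot _).mp a.2, (Submodule.mem_bot _).mp b.2]

section Aux
variable {R A : Type u} [CommRing R] [CommRing A] [Algebra R A] (𝒜 : ℕ → Submodule R A)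
  [GradedAlgebra 𝒜]

theorem exists_homog_notMem (x : ProjectiveSpectrum 𝒜) :
    ∃ (i : ℕ) (f : A), 0 < i ∧ f ∈ 𝒜 i ∧ f ∉ x.asHomogeneousIdeal := by
  classical
  by_contra hcon
  push Not at hcon
  apply x.not_irrelevant_le
  intro z hz
  have hz' : z ∈ HomogeneousIdeal.irrelevant 𝒜 := hz
  rw [HomogeneousIdeal.mem_irrelevant_iff, GradedRing.proj_apply] at hz'
  rw [← DirectSum.sum_support_decompose 𝒜 z]
  refine Ideal.sum_mem _ fun c _ => ?_
  by_cases hc0 : c = 0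
  · subst hc0
    rw [hz']
    exact Ideal.zero_mem _
  · exact hcon c _ (Nat.pos_iff_ne_zero.mpr hc0) (DirectSum.decompose 𝒜 z c).2

variable {M : Type u} [AddCommGroup M] [Module R M] [Module A M]
  (ℳ : ℕ → Submodule R M)

theorem tildeAt_eq_bot (h : ∀ (z : M) (d : ℕ) (f : A), 0 < d → f ∈ 𝒜 d → ∃ k : ℕ, f ^ k • z = 0)
    (n : ℤ) (x : ProjectiveSpectrum 𝒜) : GrTilde.tildeAt 𝒜 ℳ n x = ⊥ := by
  rw [eq_bot_iff]
  unfold GrTilde.tildeAt
  rw [Submodule.span_le]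
  rintro q ⟨i, j, m, s, hs, -, rfl⟩
  obtain ⟨d, f, hd, hf, hfx⟩ := exists_homog_notMem 𝒜 x
  obtain ⟨k, hk⟩ := h m.1 d f hd hf
  have hfk : f ^ k ∈ x.asHomogeneousIdeal.toIdeal.primeCompl := fun hmem =>
    hfx (x.isPrime.mem_of_pow_mem k hmem)
  change LocalizedModule.mk m.1 ⟨s.1, hs⟩ = 0
  rw [← LocalizedModule.zero_mk (1 : x.asHomogeneousIdeal.toIdeal.primeCompl), LocalizedModule.mk_eq]
  refine ⟨⟨f ^ k, hfk⟩, ?_⟩
  simp only [Submonoid.smul_def, smul_zero, one_smul]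
  exact hk

theorem sect_eq_zero [IsScalarTower R A M] [DirectSum.Decomposition ℳ] [SetLike.GradedSMul 𝒜 ℳ]
    (h : ∀ (z : M) (d : ℕ) (f : A), 0 < d → f ∈ 𝒜 d → ∃ k : ℕ, f ^ k • z = 0)
    (n : ℤ) (V : (TopologicalSpace.Opens (ProjectiveSpectrum.top 𝒜))ᵒᵖ)
    (t : GrTilde.sect 𝒜 ℳ n V) : t = 0 := by
  apply Subtype.ext
  funext x
  let y : ProjectiveSpectrum 𝒜 := x.1
  have hb := tildeAt_eq_bot 𝒜 ℳ h n y
  exact eq_of_eq_bot' (GrTilde.tildeAt 𝒜 ℳ n y) hb _ _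

end Aux

/-- Let S be a graded ring, M a graded S-module and X = Proj S. If for every z in M and every
homogeneous f of positive degree some power of f annihilates z, then the O_X-module M~ is zero. -/
theorem result {R A : Type u} [CommRing R] [CommRing A] [Algebra R A] (𝒜 : ℕ → Submodule R A) [GradedAlgebra 𝒜]
    {M : Type u} [AddCommGroup M] [Module R M] [Module A M] [IsScalarTower R A M] (ℳ : ℕ → Submodule R M) [DirectSum.Decomposition ℳ] [SetLike.GradedSMul 𝒜 ℳ]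
    (h : ∀ (z : M) (d : ℕ) (f : A), 0 < d → f ∈ 𝒜 d → ∃ k : ℕ, f ^ k • z = 0) :
    IsZero (GrTilde.tilde 𝒜 ℳ 0) := by
  rw [IsZero.iff_id_eq_zero]
  ext U s
  have hs : s = 0 := sect_eq_zero 𝒜 ℳ h 0 (Opposite.op U) s
  rw [hs, map_zero, map_zero]

end Groth.Agent.S3548
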