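import Groth.Statements.S3553
import Mathlib.RingTheory.GradedAlgebra.Radical
-- import your own Groth.Agent.* helpers here

set_option autoImplicit false
universe u
open CategoryTheory CategoryTheory.Limits AlgebraicGeometry
open EGA2

namespace Groth.Agent.S3553

/-- In the case where the induced morphism is defined on all of Proj S: let φ : S' → S be a homomorphism
of graded rings such that S_+ is contained in the ideal generated by φ(S'_+), and suppose every
element of the kernel of φ is nilpotent. Then the induced morphism from Proj S to Proj S' has dense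
image. -/
theorem result {R A : Type u} [CommRing R] [CommRing A] [Algebra R A] (𝒜 : ℕ → Submodule R A) [GradedAlgebra 𝒜]
    {B : Type u} [CommRing B] [Algebra R B] (ℬ : ℕ → Submodule R B) [GradedAlgebra ℬ]
    (φ : 𝒜 →+*ᵍ ℬ) (hφ : HomogeneousIdeal.irrelevant ℬ ≤ (HomogeneousIdeal.irrelevant 𝒜).map φ)
    (hker : ∀ a : A, φ a = 0 → IsNilpotent a) :
    DenseRange (Proj.map φ hφ).base := by
  rw [DenseRange, dense_iff_inter_open]
  rintro U hU ⟨x, hxU⟩
  -- shrink to a basic open
  obtain ⟨_, ⟨a, rfl⟩, hxa, haU⟩ :=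
    (ProjectiveSpectrum.isTopologicalBasis_basic_opens 𝒜).exists_subset_of_mem_open hxU hU
  have hx : ¬ (HomogeneousIdeal.irrelevant 𝒜).toIdeal ≤ x.asHomogeneousIdeal.toIdeal :=
    x.not_irrelevant_le
  rw [HomogeneousIdeal.irrelevant_eq_span, Ideal.span_le, Set.not_subset] at hx
  obtain ⟨s, hs, hsx⟩ := hx
  simp only [Set.mem_iUnion, SetLike.mem_coe, exists_prop] at hs
  obtain ⟨i, hi, hsi⟩ := hs
  have hxa' : a ∉ x.asHomogeneousIdeal.toIdeal := hxa
  -- a * s is not in x, hence not nilpotent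
  have has : a * s ∉ x.asHomogeneousIdeal.toIdeal := by
    intro h
    rcases x.isPrime.mem_or_mem h with h | h
    · exact hxa' h
    · exact hsx h
  have hnil : ¬ IsNilpotent (φ (a * s)) := by
    rintro ⟨n, hn⟩
    rw [← map_pow] at hn
    obtain ⟨m, hm⟩ := hker _ hn
    rw [← pow_mul] at hm
    exact has (x.isPrime.mem_of_pow_mem _ (hm ▸ zero_mem _))
  -- find a prime of B not containing φ (a * s)
  have : φ (a * s) ∉ nilradical B := fun h => hnil (mem_nilradical.mp h)
  rw [nilradical_eq_sInf, Ideal.mem_sInf] at this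
  push Not at this
  obtain ⟨q, hq, hqas⟩ := this
  have hq' : q.IsPrime := hq
  -- homogeneous core
  have hcore : (q.homogeneousCore ℬ).toIdeal.IsPrime := hq'.homogeneousCore
  have hcle : (q.homogeneousCore ℬ).toIdeal ≤ q := Ideal.toIdeal_homogeneousCore_le ℬ q
  have hφs : φ s ∈ (HomogeneousIdeal.irrelevant ℬ).toIdeal :=
    HomogeneousIdeal.mem_irrelevant_of_mem ℬ hi (φ.map_mem hsi)
  have hφas : φ (a * s) ∉ (q.homogeneousCore ℬ).toIdeal := fun h => hqas (hcle h)
  have hφa : φ a ∉ (q.homogeneousCore ℬ).toIdeal := by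
    intro h
    apply hφas
    rw [map_mul]
    exact Ideal.mul_mem_right _ _ h
  have hφs' : φ s ∉ (q.homogeneousCore ℬ).toIdeal := by
    intro h
    apply hφas
    rw [map_mul]
    exact Ideal.mul_mem_left _ _ h
  let y : Proj ℬ := (⟨q.homogeneousCore ℬ, hcore, fun hle => hφs' (hle hφs)⟩ : ProjectiveSpectrum ℬ)
  refine ⟨(Proj.map φ hφ).base y, haU ?_, ⟨y, rfl⟩⟩
  exact (ProjectiveSpectrum.mem_basicOpen 𝒜 a
    (ProjectiveSpectrum.comap φ hφ (⟨q.homogeneousCore ℬ, hcore, fun hle => hφs' (hle hφs)⟩ :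
      ProjectiveSpectrum ℬ))).mpr hφa

end Groth.Agent.S3553
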