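import Groth.Statements.S3554
import Mathlib
import Groth.Agent.Lib.helper27.ProjBC

set_option autoImplicit false
universe u
open CategoryTheory CategoryTheory.Limits AlgebraicGeometry
open EGA2

namespace Groth.Agent.S3554aux
open CategoryTheory CategoryTheory.Limits AlgebraicGeometry HomogeneousLocalization
open Groth.Agent.Lib.helper27

variable {R R' A B : Type u} [CommRing R'] [CommRing R] [Algebra R' R]
    [CommRing B] [Algebra R' B] (ℬ : ℕ → Submodule R' B) [GradedAlgebra ℬ]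
    [CommRing A] [Algebra R A] [Algebra R' A] [IsScalarTower R' R A] (𝒜 : ℕ → Submodule R A)
    [GradedAlgebra 𝒜]
    [Algebra B A] [IsScalarTower R' B A] [Algebra.IsPushout R' R B A]
    (φ : ℬ →+*ᵍ 𝒜) (hφA : ∀ b : B, φ b = algebraMap B A b)
    (hφ : HomogeneousIdeal.irrelevant 𝒜 ≤ (HomogeneousIdeal.irrelevant ℬ).map φ)

include hφA in
theorem chart {k : ℕ} (hk : 0 < k) (f : B) (hf : f ∈ ℬ k) :
    IsPullback (Spec.map (CommRingCat.ofHom (Away.map φ f)))
      (Proj.awayι 𝒜 (φ f) (φ.2 hf) hk ≫ Proj.toSpecZero 𝒜 ≫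
        Spec.map (CommRingCat.ofHom (algebraMap R (𝒜 0))))
      (Proj.awayι ℬ f hf hk ≫ Proj.toSpecZero ℬ ≫
        Spec.map (CommRingCat.ofHom (algebraMap R' (ℬ 0))))
      (Spec.map (CommRingCat.ofHom (algebraMap R' R))) := by
  have h := (isPullback_SpecMap_of_isPushout _ _ _ _
    (ProjBC.isPushout_away ℬ 𝒜 φ hφA f hf)).flip
  have e1 : Proj.awayι 𝒜 (φ f) (φ.2 hf) hk ≫ Proj.toSpecZero 𝒜 ≫
      Spec.map (CommRingCat.ofHom (algebraMap R (𝒜 0))) =
      Spec.map (CommRingCat.ofHom (ProjBC.βhom 𝒜 (φ f))) := by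
    rw [← Category.assoc, Proj.awayι_toSpecZero, ← Spec.map_comp]; rfl
  have e2 : Proj.awayι ℬ f hf hk ≫ Proj.toSpecZero ℬ ≫
      Spec.map (CommRingCat.ofHom (algebraMap R' (ℬ 0))) =
      Spec.map (CommRingCat.ofHom (ProjBC.βhom ℬ f)) := by
    rw [← Category.assoc, Proj.awayι_toSpecZero, ← Spec.map_comp]; rfl
  rw [e1, e2]
  exact h

include hφA in
theorem main :
    IsPullback (Proj.map φ hφ)
      (Proj.toSpecZero 𝒜 ≫ Spec.map (CommRingCat.ofHom (algebraMap R (𝒜 0))))
      (Proj.toSpecZero ℬ ≫ Spec.map (CommRingCat.ofHom (algebraMap R' (ℬ 0))))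
      (Spec.map (CommRingCat.ofHom (algebraMap R' R))) := by
  refine Scheme.isPullback_of_openCover _ _ _ _ (Proj.affineOpenCover ℬ).openCover fun i => ?_
  obtain ⟨k, ⟨f, hf⟩⟩ := i
  have hk : 0 < (k : ℕ) := k.2
  have comm := Proj.awayι_comp_map φ hφ hk f hf
  have pre : Proj.map φ hφ ⁻¹ᵁ (Proj.awayι ℬ f hf hk).opensRange =
      (Proj.awayι 𝒜 (φ f) (φ.2 hf) hk).opensRange := by
    rw [Proj.opensRange_awayι, Proj.opensRange_awayι, Proj.map_preimage_basicOpen]
  have hp := IsOpenImmersion.isPullback (Spec.map (CommRingCat.ofHom (Away.map φ f)))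
    (Proj.awayι 𝒜 (φ f) (φ.2 hf) hk) (Proj.awayι ℬ f hf hk) (Proj.map φ hφ) comm pre
  have hc := chart ℬ 𝒜 φ hφA hk f hf
  refine IsPullback.of_iso hc hp.flip.isoPullback (Iso.refl _) (Iso.refl _) (Iso.refl _) ?_ ?_ ?_ ?_
  · exact (Category.comp_id _).trans hp.flip.isoPullback_hom_snd.symm
  · exact (Category.comp_id _).trans
      ((congrArg (fun t => t ≫ (Proj.toSpecZero 𝒜 ≫
        Spec.map (CommRingCat.ofHom (algebraMap R (𝒜 0))))) hp.flip.isoPullback_hom_fst.symm).trans
        (Category.assoc _ _ _))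
  · exact (Category.comp_id _).trans (Category.id_comp _).symm
  · exact (Category.comp_id _).trans (Category.id_comp _).symm

end Groth.Agent.S3554aux

namespace Groth.Agent.S3554

/-- Let A' → A be a ring homomorphism, S' a graded A'-algebra and S = S' ⊗_{A'} A with the induced
grading (here: any graded A-algebra S with a graded homomorphism S' → S exhibiting S as the base
change of S'). Then the square formed by Proj S → Proj S', the structure morphisms to Spec A and
Spec A', and Spec A → Spec A' is cartesian. -/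
theorem result {R R' A B : Type u} [CommRing R'] [CommRing R] [Algebra R' R]
    [CommRing B] [Algebra R' B] (ℬ : ℕ → Submodule R' B) [GradedAlgebra ℬ]
    [CommRing A] [Algebra R A] [Algebra R' A] [IsScalarTower R' R A] (𝒜 : ℕ → Submodule R A) [GradedAlgebra 𝒜]
    [Algebra B A] [IsScalarTower R' B A] [Algebra.IsPushout R' R B A]
    (φ : ℬ →+*ᵍ 𝒜) (hφA : ∀ b : B, φ b = algebraMap B A b)
    (hφ : HomogeneousIdeal.irrelevant 𝒜 ≤ (HomogeneousIdeal.irrelevant ℬ).map φ) :
    IsPullback (Proj.map φ hφ)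
      (Proj.toSpecZero 𝒜 ≫ Spec.map (CommRingCat.ofHom (algebraMap R (𝒜 0))))
      (Proj.toSpecZero ℬ ≫ Spec.map (CommRingCat.ofHom (algebraMap R' (ℬ 0))))
      (Spec.map (CommRingCat.ofHom (algebraMap R' R))) := by
  exact S3554aux.main ℬ 𝒜 φ hφA hφ

end Groth.Agent.S3554
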