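import Groth.Statements.S3555
import Mathlib

set_option autoImplicit false
universe u
open CategoryTheory CategoryTheory.Limits AlgebraicGeometry
open EGA2

namespace Groth.Agent.S3555

section Aux
variable {R A : Type u} [CommRing R] [CommRing A] [Algebra R A] (𝒜 : ℕ → Submodule R A)
  [GradedAlgebra 𝒜]

theorem span_globalOf_eq_top {d : ℕ} (f : 𝒜 d) (p : ProjectiveSpectrum 𝒜)
    (hf : (f : A) ∉ p.asHomogeneousIdeal) :
    Submodule.span (Twist.A0 𝒜 p) {(Twist.globalOf 𝒜 f).1 ⟨p, trivial⟩} = ⊤ := by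
  rw [eq_top_iff]
  rintro ⟨q, hq⟩ -
  have key : ∀ (q : Twist.Loc 𝒜 p) (hq : q ∈ Twist.twistAt 𝒜 (d : ℤ) p),
      (⟨q, hq⟩ : Twist.twistAt 𝒜 (d : ℤ) p) ∈
        Submodule.span (Twist.A0 𝒜 p) {(Twist.globalOf 𝒜 f).1 ⟨p, trivial⟩} := by
    intro q hq
    induction hq using Submodule.span_induction with
    | mem q hq =>
      obtain ⟨i, j, a, s, hs, hij, rfl⟩ := hq
      have hsf : (s : A) * f ∉ p.asHomogeneousIdeal := fun h =>
        (p.isPrime.mem_or_mem h).elim hs hf
      have hdeg : j + d = i := by exact_mod_cast hij.symm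
      let c : Twist.A0 𝒜 p := HomogeneousLocalization.mk
        ⟨i, a, ⟨(s : A) * f, hdeg ▸ SetLike.mul_mem_graded s.2 f.2⟩, hsf⟩
      have hc : (⟨Localization.mk a.1 ⟨s.1, hs⟩, Submodule.subset_span ⟨i, j, a, s, hs, hij, rfl⟩⟩ :
          Twist.twistAt 𝒜 (d : ℤ) p) = c • (Twist.globalOf 𝒜 f).1 ⟨p, trivial⟩ := by
        apply Subtype.ext
        rw [Twist.coe_smul_val]
        change Localization.mk a.1 ⟨s.1, hs⟩ =
          Localization.mk (a : A) ⟨(s : A) * f, hsf⟩ * Localization.mk (f : A) ⟨1, _⟩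
        rw [Localization.mk_mul, Localization.mk_eq_mk_iff, Localization.r_iff_exists]
        refine ⟨1, ?_⟩
        simp only [Submonoid.coe_mul, Submonoid.coe_one]
        ring
      rw [hc]
      exact Submodule.smul_mem _ c (Submodule.subset_span rfl)
    | zero => exact Submodule.zero_mem _
    | add x y hx hy h1 h2 => exact Submodule.add_mem _ h1 h2
    | smul c x hx h1 => exact Submodule.smul_mem _ c h1
  exact key q hq

theorem notMem_of_span_eq_top {d : ℕ} (f : 𝒜 d) (p : ProjectiveSpectrum 𝒜)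
    {i j : ℕ} (a : 𝒜 i) (b : 𝒜 j) (hij : (i : ℤ) = j + d)
    (ha : (a : A) ∉ p.asHomogeneousIdeal) (hb : (b : A) ∉ p.asHomogeneousIdeal)
    (h : Submodule.span (Twist.A0 𝒜 p) {(Twist.globalOf 𝒜 f).1 ⟨p, trivial⟩} = ⊤) :
    (f : A) ∉ p.asHomogeneousIdeal := by
  intro hf
  let q₀ : Twist.twistAt 𝒜 (d : ℤ) p := ⟨Localization.mk a.1 ⟨b.1, hb⟩,
    Submodule.subset_span ⟨i, j, a, b, hb, hij, rfl⟩⟩
  have hq₀ : q₀ ∈ Submodule.span (Twist.A0 𝒜 p) {(Twist.globalOf 𝒜 f).1 ⟨p, trivial⟩} := by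
    rw [h]; trivial
  obtain ⟨c, hc⟩ := Submodule.mem_span_singleton.mp hq₀
  have hval := congrArg Subtype.val hc
  rw [Twist.coe_smul_val] at hval
  change c.val * Localization.mk (f : A) ⟨1, _⟩ = Localization.mk a.1 ⟨b.1, hb⟩ at hval
  have h1 : Localization.mk (f : A) (⟨1, fun h => p.isPrime.ne_top ((Ideal.eq_top_iff_one _).mpr h)⟩ :
      p.asHomogeneousIdeal.toIdeal.primeCompl) ∈
      IsLocalRing.maximalIdeal (Localization.AtPrime p.asHomogeneousIdeal.toIdeal) := by
    rw [Localization.mk_eq_mk', IsLocalization.AtPrime.mk'_mem_maximal_iff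
      (Localization.AtPrime p.asHomogeneousIdeal.toIdeal) p.asHomogeneousIdeal.toIdeal]
    exact hf
  have h2 : Localization.mk a.1 (⟨b.1, hb⟩ : p.asHomogeneousIdeal.toIdeal.primeCompl) ∈
      IsLocalRing.maximalIdeal (Localization.AtPrime p.asHomogeneousIdeal.toIdeal) := by
    rw [← hval]
    exact Ideal.mul_mem_left _ _ h1
  rw [Localization.mk_eq_mk', IsLocalization.AtPrime.mk'_mem_maximal_iff
      (Localization.AtPrime p.asHomogeneousIdeal.toIdeal) p.asHomogeneousIdeal.toIdeal] at h2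
  exact ha h2

end Aux

/-- Let S be a graded ring whose irrelevant ideal S_+ is generated by the degree-one elements, X = Proj
S, and f homogeneous of degree d > 0. Then D_+(f) is the set of points p of X at which the global
section f/1 of O_X(d) does not vanish, i.e. at which its value generates the module of degree-d
fractions at p. -/
theorem result {R A : Type u} [CommRing R] [CommRing A] [Algebra R A] (𝒜 : ℕ → Submodule R A) [GradedAlgebra 𝒜]
    (hgen : (HomogeneousIdeal.irrelevant 𝒜).toIdeal = Ideal.span (𝒜 1 : Set A))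
    {d : ℕ} (hd : 0 < d) (f : 𝒜 d) (p : ProjectiveSpectrum 𝒜) :
    p ∈ ProjectiveSpectrum.basicOpen 𝒜 (f : A) ↔
      Submodule.span (Twist.A0 𝒜 p) {(Twist.globalOf 𝒜 f).1 ⟨p, trivial⟩} = ⊤ := by
  rw [ProjectiveSpectrum.mem_basicOpen]
  constructor
  · exact span_globalOf_eq_top 𝒜 f p
  · intro h
    obtain ⟨x, hx1, hxp⟩ : ∃ x ∈ 𝒜 1, x ∉ p.asHomogeneousIdeal := by
      by_contra hcon
      push Not at hcon
      apply p.not_irrelevant_le
      intro y hy
      have hy' : y ∈ (HomogeneousIdeal.irrelevant 𝒜).toIdeal := hy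
      rw [hgen] at hy'
      have hle : Ideal.span (𝒜 1 : Set A) ≤ p.asHomogeneousIdeal.toIdeal :=
        Ideal.span_le.mpr fun z hz => hcon z hz
      exact hle hy'
    have hxd : x ^ d ∈ 𝒜 d := by
      have := SetLike.pow_mem_graded d hx1
      simpa using this
    have hxdp : x ^ d ∉ p.asHomogeneousIdeal := fun hmem => hxp (p.isPrime.mem_of_pow_mem d hmem)
    have h1p : (1 : A) ∉ p.asHomogeneousIdeal := fun hmem =>
      p.isPrime.ne_top ((Ideal.eq_top_iff_one _).mpr hmem)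
    exact notMem_of_span_eq_top 𝒜 f p (i := d) (j := 0) ⟨x ^ d, hxd⟩
      ⟨1, SetLike.GradedOne.one_mem⟩ (by simp) hxdp h1p h

end Groth.Agent.S3555
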