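import Groth.Statements.S3556
-- import your own Groth.Agent.* helpers here

set_option autoImplicit false
universe u
open CategoryTheory CategoryTheory.Limits AlgebraicGeometry
open EGA2

namespace Groth.Agent.S3556

/-- Let S be a graded ring which is essentially reduced, i.e. its irrelevant ideal S_+ contains no
nonzero nilpotent element. Then Proj S is a reduced scheme. -/
theorem result {R A : Type u} [CommRing R] [CommRing A] [Algebra R A] (𝒜 : ℕ → Submodule R A) [GradedAlgebra 𝒜]
    (hred : ∀ f ∈ (HomogeneousIdeal.irrelevant 𝒜).toIdeal, IsNilpotent f → f = 0) :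
    AlgebraicGeometry.IsReduced (Proj 𝒜) := by
  have key : ∀ (d : ℕ) (hd : 0 < d) (f : A) (hf : f ∈ 𝒜 d),
      _root_.IsReduced (HomogeneousLocalization.Away 𝒜 f) := by
    intro d hd f hf
    constructor
    rintro x ⟨k, hk⟩
    obtain ⟨n, a, ha, rfl⟩ := HomogeneousLocalization.Away.mk_surjective 𝒜 hf x
    have hfirr : f ∈ (HomogeneousIdeal.irrelevant 𝒜).toIdeal :=
      HomogeneousIdeal.mem_irrelevant_of_mem 𝒜 hd hf
    -- f^m * a^k = 0 for some m
    have h1 : (Localization.mk a ⟨f ^ n, n, rfl⟩ : Localization (Submonoid.powers f)) ^ k = 0 := by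
      have := congrArg HomogeneousLocalization.val hk
      rw [HomogeneousLocalization.val_pow, HomogeneousLocalization.Away.val_mk,
        HomogeneousLocalization.val_zero] at this
      exact this
    rw [Localization.mk_pow, Localization.mk_eq_mk', IsLocalization.mk'_eq_zero_iff] at h1
    obtain ⟨⟨_, m, rfl⟩, hm⟩ := h1
    -- f * a is nilpotent
    have hnil : IsNilpotent (f * a) := by
      refine ⟨m + k, ?_⟩
      rw [mul_pow, pow_add f m k, pow_add a m k]
      calc f ^ m * f ^ k * (a ^ m * a ^ k) = (f ^ m * a ^ k) * (f ^ k * a ^ m) := by ring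
        _ = 0 := by rw [hm, zero_mul]
    have hfa : f * a = 0 := hred _ (Ideal.mul_mem_right a _ hfirr) hnil
    apply HomogeneousLocalization.val_injective
    rw [HomogeneousLocalization.Away.val_mk, HomogeneousLocalization.val_zero,
      Localization.mk_eq_mk', IsLocalization.mk'_eq_zero_iff]
    exact ⟨⟨f, 1, pow_one f⟩, hfa⟩
  have : ∀ i, IsReduced ((Proj.affineOpenCover 𝒜).openCover.X i) := by
    intro i
    have := key i.1.1 i.1.2 i.2.1 i.2.2
    change IsReduced (Spec (CommRingCat.of (HomogeneousLocalization.Away 𝒜 i.2.1)))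
    infer_instance
  exact IsReduced.of_openCover _ (Proj.affineOpenCover 𝒜).openCover

end Groth.Agent.S3556
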