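import Groth.Statements.S3578
-- import your own Groth.Agent.* helpers here

set_option autoImplicit false
universe u

open EGA2

namespace Groth.Agent.S3578

/-- Via the correspondence between closed subsets of Proj S and radical graded ideals of S_+: let S be a
graded ring and Z a closed subset of Proj S, with J = S_+ ∩ (vanishing ideal of Z). Then Z is
irreducible if and only if J is a prime ideal of the ring-without-unit S_+: J ≠ S_+ and a product of
two elements of S_+ lies in J only if one factor does. -/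
theorem result {R A : Type u} [CommRing R] [CommRing A] [Algebra R A] (𝒜 : ℕ → Submodule R A) [GradedAlgebra 𝒜]
    (Z : Set (ProjectiveSpectrum 𝒜)) (hZ : IsClosed Z) :
    IsIrreducible Z ↔
      (¬ (HomogeneousIdeal.irrelevant 𝒜).toIdeal ≤ (ProjectiveSpectrum.vanishingIdeal Z).toIdeal ∧
        ∀ f ∈ (HomogeneousIdeal.irrelevant 𝒜).toIdeal, ∀ g ∈ (HomogeneousIdeal.irrelevant 𝒜).toIdeal,
          f * g ∈ (ProjectiveSpectrum.vanishingIdeal Z).toIdeal →
            f ∈ (ProjectiveSpectrum.vanishingIdeal Z).toIdeal ∨ g ∈ (ProjectiveSpectrum.vanishingIdeal Z).toIdeal) := by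
  have memJ : ∀ f : A, f ∈ (ProjectiveSpectrum.vanishingIdeal Z).toIdeal ↔
      ∀ x : ProjectiveSpectrum 𝒜, x ∈ Z → f ∈ x.asHomogeneousIdeal := fun f =>
    ProjectiveSpectrum.mem_vanishingIdeal Z f
  constructor
  · rintro ⟨⟨x, hx⟩, hpre⟩
    refine ⟨?_, ?_⟩
    · intro hle
      refine x.not_irrelevant_le ?_
      intro f hf
      exact (memJ f).mp (hle hf) x hx
    · intro f _ g _ hfg
      by_contra! hcon
      obtain ⟨hf, hg⟩ := hcon
      rw [memJ] at hf hg
      push Not at hf hg
      obtain ⟨y, hyZ, hy⟩ := hf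
      obtain ⟨z, hzZ, hz⟩ := hg
      obtain ⟨w, hwZ, hwf, hwg⟩ := hpre (ProjectiveSpectrum.basicOpen 𝒜 f : Set _)
        (ProjectiveSpectrum.basicOpen 𝒜 g : Set _)
        (ProjectiveSpectrum.isOpen_basicOpen 𝒜) (ProjectiveSpectrum.isOpen_basicOpen 𝒜)
        ⟨y, hyZ, hy⟩ ⟨z, hzZ, hz⟩
      have h1 : f * g ∈ w.asHomogeneousIdeal := (memJ _).mp hfg w hwZ
      rcases w.isPrime.mem_or_mem h1 with h | h
      · exact hwf h
      · exact hwg h
  · rintro ⟨hne, hprime⟩
    have hnonempty : Z.Nonempty := by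
      by_contra hemp
      rw [Set.not_nonempty_iff_eq_empty] at hemp
      apply hne
      intro f _
      rw [memJ]
      intro x hx
      rw [hemp] at hx
      exact absurd hx (Set.notMem_empty x)
    refine ⟨hnonempty, ?_⟩
    -- key: shrink an open nhd to a basic open of an element of the irrelevant ideal
    have key : ∀ (U : Set (ProjectiveSpectrum 𝒜)), IsOpen U → (Z ∩ U).Nonempty →
        ∃ f ∈ (HomogeneousIdeal.irrelevant 𝒜).toIdeal,
          f ∉ (ProjectiveSpectrum.vanishingIdeal Z).toIdeal ∧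
          (ProjectiveSpectrum.basicOpen 𝒜 f : Set (ProjectiveSpectrum 𝒜)) ⊆ U := by
      rintro U hU ⟨x, hxZ, hxU⟩
      obtain ⟨_, ⟨a, rfl⟩, hxa, haU⟩ :=
        (ProjectiveSpectrum.isTopologicalBasis_basic_opens 𝒜).exists_subset_of_mem_open hxU hU
      have hx' : ¬ (HomogeneousIdeal.irrelevant 𝒜).toIdeal ≤ x.asHomogeneousIdeal.toIdeal :=
        x.not_irrelevant_le
      rw [SetLike.not_le_iff_exists] at hx'
      obtain ⟨s, hs, hsx⟩ := hx'
      refine ⟨a * s, Ideal.mul_mem_left _ a hs, ?_, ?_⟩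
      · intro h
        have := (memJ _).mp h x hxZ
        rcases x.isPrime.mem_or_mem this with h | h
        · exact hxa h
        · exact hsx h
      · refine subset_trans ?_ haU
        exact ProjectiveSpectrum.basicOpen_mul_le_left 𝒜 a s
    intro U V hU hV hZU hZV
    obtain ⟨f, hf, hfJ, hfU⟩ := key U hU hZU
    obtain ⟨g, hg, hgJ, hgV⟩ := key V hV hZV
    have hfg : f * g ∉ (ProjectiveSpectrum.vanishingIdeal Z).toIdeal := by
      intro h
      rcases hprime f hf g hg h with h | h
      · exact hfJ h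
      · exact hgJ h
    rw [memJ] at hfg
    push Not at hfg
    obtain ⟨w, hwZ, hw⟩ := hfg
    refine ⟨w, hwZ, hfU ?_, hgV ?_⟩
    · intro h
      exact hw (Ideal.mul_mem_right g _ h)
    · intro h
      exact hw (Ideal.mul_mem_left _ f h)

end Groth.Agent.S3578
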