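import Groth.Statements.S3557
import Groth.Agent.S3556
import Groth.Agent.S3578
import Mathlib.RingTheory.GradedAlgebra.Radical
-- import your own Groth.Agent.* helpers here

set_option autoImplicit false
universe u
open CategoryTheory CategoryTheory.Limits AlgebraicGeometry
open EGA2

namespace Groth.Agent.S3557

/-- Let S be a graded ring which is essentially reduced (S_+ contains no nonzero nilpotent). Then Proj S
is an integral scheme if and only if S is essentially integral, i.e. S_+ is nonzero and the product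
of two nonzero elements of S_+ is nonzero. -/
theorem result {R A : Type u} [CommRing R] [CommRing A] [Algebra R A] (𝒜 : ℕ → Submodule R A) [GradedAlgebra 𝒜]
    (hred : ∀ f ∈ (HomogeneousIdeal.irrelevant 𝒜).toIdeal, IsNilpotent f → f = 0) :
    AlgebraicGeometry.IsIntegral (Proj 𝒜) ↔
      ((∃ f ∈ (HomogeneousIdeal.irrelevant 𝒜).toIdeal, f ≠ 0) ∧
        ∀ f ∈ (HomogeneousIdeal.irrelevant 𝒜).toIdeal, ∀ g ∈ (HomogeneousIdeal.irrelevant 𝒜).toIdeal,
          f * g = 0 → f = 0 ∨ g = 0) := by
  have hR : AlgebraicGeometry.IsReduced (Proj 𝒜) := Groth.Agent.S3556.result 𝒜 hred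
  rw [isIntegral_iff_irreducibleSpace_and_isReduced, and_iff_left hR]
  -- membership in the vanishing ideal of univ for elements of the irrelevant ideal
  have hJ : ∀ f ∈ (HomogeneousIdeal.irrelevant 𝒜).toIdeal,
      (f ∈ (ProjectiveSpectrum.vanishingIdeal (Set.univ : Set (ProjectiveSpectrum 𝒜))).toIdeal ↔ f = 0) := by
    intro f hf
    constructor
    · intro hfJ
      apply hred f hf
      have hI : (⊥ : Ideal A).IsHomogeneous 𝒜 := Ideal.IsHomogeneous.bot 𝒜
      have : f ∈ (⊥ : Ideal A).radical := by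
        rw [hI.radical_eq]
        refine Ideal.mem_sInf.mpr ?_
        rintro J ⟨hJh, -, hJp⟩
        by_cases hirr : (HomogeneousIdeal.irrelevant 𝒜).toIdeal ≤ J
        · exact hirr hf
        · exact (ProjectiveSpectrum.mem_vanishingIdeal _ f).mp hfJ
            (⟨⟨J, hJh⟩, hJp, hirr⟩ : ProjectiveSpectrum 𝒜) (Set.mem_univ _)
      exact mem_nilradical.mp this
    · rintro rfl
      exact zero_mem _
  have h78 := Groth.Agent.S3578.result 𝒜 (Set.univ : Set (ProjectiveSpectrum 𝒜)) isClosed_univ
  have hirr : IrreducibleSpace ↥(Proj 𝒜) ↔ IsIrreducible (Set.univ : Set (ProjectiveSpectrum 𝒜)) :=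
    irreducibleSpace_def (ProjectiveSpectrum 𝒜)
  rw [hirr, h78]
  constructor
  · rintro ⟨h1, h2⟩
    refine ⟨?_, ?_⟩
    · rw [SetLike.not_le_iff_exists] at h1
      obtain ⟨f, hf, hfJ⟩ := h1
      exact ⟨f, hf, fun h0 => hfJ ((hJ f hf).mpr h0)⟩
    · intro f hf g hg hfg
      have := h2 f hf g hg ((hJ _ (Ideal.mul_mem_right g _ hf)).mpr hfg)
      rcases this with h | h
      · exact Or.inl ((hJ f hf).mp h)
      · exact Or.inr ((hJ g hg).mp h)
  · rintro ⟨⟨f, hf, hf0⟩, h2⟩
    refine ⟨?_, ?_⟩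
    · intro hle
      exact hf0 ((hJ f hf).mp (hle hf))
    · intro f hf g hg hfg
      have := h2 f hf g hg ((hJ _ (Ideal.mul_mem_right g _ hf)).mp hfg)
      rcases this with h | h
      · exact Or.inl ((hJ f hf).mpr h)
      · exact Or.inr ((hJ g hg).mpr h)

end Groth.Agent.S3557
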