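import Groth.Statements.S3558
import Mathlib.RingTheory.GradedAlgebra.Radical
-- import your own Groth.Agent.* helpers here

set_option autoImplicit false
universe u
open CategoryTheory CategoryTheory.Limits AlgebraicGeometry
open EGA2

namespace Groth.Agent.S3558

/-- For a graded ring S, Proj S is empty if and only if every element of the irrelevant ideal S_+ is
nilpotent. -/
theorem result {R A : Type u} [CommRing R] [CommRing A] [Algebra R A] (𝒜 : ℕ → Submodule R A) [GradedAlgebra 𝒜] :
    IsEmpty (Proj 𝒜) ↔ ∀ f ∈ (HomogeneousIdeal.irrelevant 𝒜).toIdeal, IsNilpotent f := by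
  have hI : (⊥ : Ideal A).IsHomogeneous 𝒜 := Ideal.IsHomogeneous.bot 𝒜
  constructor
  · intro hemp f hfirr
    have : f ∈ (⊥ : Ideal A).radical := by
      rw [hI.radical_eq]
      refine Ideal.mem_sInf.mpr ?_
      rintro J ⟨hJh, -, hJp⟩
      by_contra hfJ
      have hirr : ¬ (HomogeneousIdeal.irrelevant 𝒜).toIdeal ≤ J := fun h => hfJ (h hfirr)
      let x : Proj 𝒜 := (⟨⟨J, hJh⟩, hJp, hirr⟩ : ProjectiveSpectrum 𝒜)
      exact hemp.false x
    exact mem_nilradical.mp this
  · intro h
    constructor
    intro (x : ProjectiveSpectrum 𝒜)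
    refine x.not_irrelevant_le ?_
    intro f hf
    obtain ⟨n, hn⟩ := h f hf
    have : f ^ n ∈ x.asHomogeneousIdeal.toIdeal := by
      rw [hn]; exact zero_mem _
    exact x.isPrime.mem_of_pow_mem n this

end Groth.Agent.S3558
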