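import Groth.Statements.S3560
import Groth.Agent.S3558
import Mathlib.RingTheory.Nilpotent.Lemmas
import Mathlib.RingTheory.Noetherian.Nilpotent
-- import your own Groth.Agent.* helpers here

set_option autoImplicit false
universe u
open CategoryTheory CategoryTheory.Limits AlgebraicGeometry
open EGA2

namespace Groth.Agent.S3560

/-- Let S be a graded ring whose irrelevant ideal S_+ is finitely generated. Then Proj S is empty if and
only if there is n such that S_k = 0 for all k ≥ n. -/
theorem result {R A : Type u} [CommRing R] [CommRing A] [Algebra R A] (𝒜 : ℕ → Submodule R A) [GradedAlgebra 𝒜]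
    (hfg : (HomogeneousIdeal.irrelevant 𝒜).toIdeal.FG) :
    IsEmpty (Proj 𝒜) ↔ ∃ n : ℕ, ∀ k : ℕ, n ≤ k → 𝒜 k = ⊥ := by
  classical
  rw [Groth.Agent.S3558.result 𝒜]
  set I := (HomogeneousIdeal.irrelevant 𝒜).toIdeal with hI
  constructor
  · intro hnil
    have hle : I ≤ nilradical A := fun f hf => mem_nilradical.mpr (hnil f hf)
    obtain ⟨N, hN⟩ := hfg.isNilpotent_iff_le_nilradical.mpr hle
    obtain ⟨s, hs⟩ := hfg
    -- bound on the degrees of components of generators
    let D : ℕ := s.sup (fun t => (DirectSum.decompose 𝒜 t).support.sup id)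
    -- the family of homogeneous generators
    let v : (↥s × Fin (D + 1)) → A := fun p => (DirectSum.decompose 𝒜 (p.1 : A) p.2 : A)
    have hvmem : ∀ p, v p ∈ 𝒜 p.2 := fun p => SetLike.coe_mem _
    have hsI : ∀ t ∈ s, t ∈ I := fun t ht => hs ▸ Ideal.subset_span ht
    have hv0 : ∀ p : (↥s × Fin (D + 1)), (p.2 : ℕ) = 0 → v p = 0 := by
      intro p hp
      have := (HomogeneousIdeal.mem_irrelevant_iff 𝒜 _).mp (hsI p.1 p.1.2)
      change (DirectSum.decompose 𝒜 (p.1 : A) (p.2 : ℕ) : A) = 0
      rw [hp]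
      exact this
    have hvI : ∀ p, v p ∈ I := by
      intro p
      by_cases hp : (p.2 : ℕ) = 0
      · rw [hv0 p hp]; exact zero_mem _
      · exact HomogeneousIdeal.mem_irrelevant_of_mem 𝒜 (Nat.pos_of_ne_zero hp) (hvmem p)
    have hspan : I ≤ Ideal.span (Set.range v) := by
      rw [← hs, Ideal.span_le]
      intro t ht
      rw [SetLike.mem_coe, ← DirectSum.sum_support_decompose 𝒜 t]
      refine Ideal.sum_mem _ fun i hi => ?_
      have hiD : i ≤ D := by
        have h1 : i ≤ (DirectSum.decompose 𝒜 t).support.sup id := Finset.le_sup (f := id) hi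
        exact h1.trans (Finset.le_sup (f := fun t => (DirectSum.decompose 𝒜 t).support.sup id) ht)
      exact Ideal.subset_span ⟨(⟨⟨t, ht⟩, ⟨i, Nat.lt_succ_of_le hiD⟩⟩ : ↥s × Fin (D + 1)), rfl⟩
    -- main claim
    have claim : ∀ j k : ℕ, j * D < k → ∀ x ∈ 𝒜 k, x ∈ I ^ (j + 1) := by
      intro j
      induction j with
      | zero =>
        intro k hk x hx
        rw [zero_add, pow_one]
        exact HomogeneousIdeal.mem_irrelevant_of_mem 𝒜 (by omega) hx
      | succ j ih =>
        intro k hk x hx
        have hxI : x ∈ I := HomogeneousIdeal.mem_irrelevant_of_mem 𝒜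
          (lt_of_le_of_lt (Nat.zero_le _) hk) hx
        obtain ⟨c, hc⟩ := (Ideal.mem_span_range_iff_exists_fun).mp (hspan hxI)
        have hx' : x = ∑ p, (DirectSum.decompose 𝒜 (c p) (k - p.2) : A) * v p := by
          conv_lhs => rw [← DirectSum.decompose_of_mem_same 𝒜 hx, ← hc]
          rw [DirectSum.decompose_sum, DFinsupp.finsetSum_apply, AddSubmonoidClass.coe_finsetSum]
          refine Finset.sum_congr rfl fun p _ => ?_
          have hpk : (p.2 : ℕ) ≤ k := by
            have : (p.2 : ℕ) ≤ D := Nat.lt_succ_iff.mp p.2.2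
            nlinarith
          exact DirectSum.coe_decompose_mul_of_right_mem_of_le 𝒜 (hvmem p) hpk
        rw [hx', pow_succ]
        refine Ideal.sum_mem _ fun p _ => ?_
        by_cases hp : (p.2 : ℕ) = 0
        · rw [hv0 p hp, mul_zero]; exact zero_mem _
        · refine Ideal.mul_mem_mul ?_ (hvI p)
          refine ih (k - p.2) ?_ _ (SetLike.coe_mem _)
          have : (p.2 : ℕ) ≤ D := Nat.lt_succ_iff.mp p.2.2
          have h2 : (j + 1) * D = j * D + D := by ring
          omega
    refine ⟨N * D + 1, fun k hk => ?_⟩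
    rw [eq_bot_iff]
    intro x hx
    have h1 : x ∈ I ^ (N + 1) := claim N k (by omega) x hx
    have h2 : I ^ (N + 1) ≤ I ^ N := Ideal.pow_le_pow_right (Nat.le_succ N)
    have h3 := h2 h1
    rw [hN] at h3
    exact (Submodule.mem_bot R).mpr ((Submodule.mem_bot A).mp h3)
  · rintro ⟨n, hn⟩ f hf
    rw [← mem_nilradical, ← DirectSum.sum_support_decompose 𝒜 f]
    refine Ideal.sum_mem _ fun i _ => ?_
    rw [mem_nilradical]
    by_cases hi : i = 0
    · subst hi
      have := (HomogeneousIdeal.mem_irrelevant_iff 𝒜 _).mp hf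
      have h0 : (DirectSum.decompose 𝒜 f 0 : A) = 0 := this
      rw [h0]
      exact IsNilpotent.zero
    · refine ⟨n, ?_⟩
      have hmem : (DirectSum.decompose 𝒜 f i : A) ^ n ∈ 𝒜 (n • i) :=
        SetLike.pow_mem_graded n (SetLike.coe_mem _)
      have hle : n ≤ n • i := by
        rw [smul_eq_mul]
        exact Nat.le_mul_of_pos_right n (Nat.pos_of_ne_zero hi)
      rw [hn _ hle] at hmem
      exact (Submodule.mem_bot R).mp hmem

end Groth.Agent.S3560
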