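import Groth.Statements.S3562
import Mathlib
import Groth.Agent.S3548
import Groth.Agent.S3549

set_option autoImplicit false
universe u
open CategoryTheory CategoryTheory.Limits AlgebraicGeometry
open EGA2

namespace Groth.Agent.S3562

section Aux
open DirectSum
variable {R A : Type u} [CommRing R] [CommRing A] [Algebra R A] (𝒜 : ℕ → Submodule R A)
  [GradedAlgebra 𝒜]
variable {M : Type u} [AddCommGroup M] [Module R M] [Module A M]
  (ℳ : ℕ → Submodule R M) [DirectSum.Decomposition ℳ] [SetLike.GradedSMul 𝒜 ℳ]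

theorem coe_decompose_smul_nat' {j : ℕ} {w : M} (hw : w ∈ ℳ j) (u : A) (i : ℕ) :
    (decompose ℳ (u • w) (i + j) : M) = (decompose 𝒜 u i : A) • w := by
  classical
  conv_lhs => rw [← sum_support_decompose 𝒜 u, Finset.sum_smul]
  rw [decompose_sum, DFinsupp.finsetSum_apply, AddSubmonoidClass.coe_finsetSum]
  have hterm : ∀ i' : ℕ, ((decompose ℳ ((decompose 𝒜 u i' : A) • w)) (i + j) : M) =
      if i' = i then (decompose 𝒜 u i' : A) • w else 0 := by
    intro i'
    have hmem : (decompose 𝒜 u i' : A) • w ∈ ℳ (i' + j) := by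
      have := SetLike.GradedSMul.smul_mem (A := 𝒜) (B := ℳ) (decompose 𝒜 u i').2 hw
      simpa [vadd_eq_add] using this
    split_ifs with h
    · subst h
      exact decompose_of_mem_same ℳ hmem
    · have : i' + j ≠ i + j := by omega
      exact decompose_of_mem_ne ℳ hmem this
  simp only [hterm]
  rw [Finset.sum_ite_eq']
  split_ifs with h
  · rfl
  · rw [DFinsupp.notMem_support_iff] at h
    rw [h]
    simp

omit [Module R M] in
theorem kill_of_large {q : ℕ} (y : Fin q → A) (hy : ∀ j, y j ∈ 𝒜 1)
    (hspan : (HomogeneousIdeal.irrelevant 𝒜).toIdeal = Ideal.span (Set.range y))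
    (w : M) (e₀ : ℕ) (he : ∀ j, y j ^ e₀ • w = 0) :
    ∀ (D : ℕ) (β : Fin q → ℕ), q * e₀ + 1 ≤ D + ∑ j, β j → ∀ a ∈ 𝒜 D,
      a • (∏ j, y j ^ β j) • w = 0 := by
  classical
  intro D
  induction D with
  | zero =>
    intro β hβ a _
    obtain ⟨j, hj⟩ : ∃ j, e₀ ≤ β j := by
      by_contra hcon
      push Not at hcon
      have : ∑ j, β j ≤ ∑ _j : Fin q, e₀ := Finset.sum_le_sum fun j _ => (hcon j).le
      simp at this
      omega
    have h1 : (∏ j, y j ^ β j) • w = 0 := by
      rw [← Finset.mul_prod_erase Finset.univ _ (Finset.mem_univ j),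
        ← pow_sub_mul_pow (y j) hj, mul_comm, mul_smul, mul_smul, he j, smul_zero, smul_zero]
    rw [h1, smul_zero]
  | succ D ih =>
    intro β hβ a ha
    have ha_irr : a ∈ (HomogeneousIdeal.irrelevant 𝒜).toIdeal := by
      change a ∈ HomogeneousIdeal.irrelevant 𝒜
      rw [HomogeneousIdeal.mem_irrelevant_iff, GradedRing.proj_apply]
      exact decompose_of_mem_ne 𝒜 ha (by omega)
    rw [hspan, Ideal.mem_span_range_iff_exists_fun] at ha_irr
    obtain ⟨b, hb⟩ := ha_irr
    have ha2 : a = ∑ j, (decompose 𝒜 (b j) D : A) * y j := by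
      have h1 : a = (decompose 𝒜 a (D + 1) : A) := (decompose_of_mem_same 𝒜 ha).symm
      rw [h1, ← hb, decompose_sum, DFinsupp.finsetSum_apply, AddSubmonoidClass.coe_finsetSum]
      refine Finset.sum_congr rfl fun j _ => ?_
      exact coe_decompose_mul_add_of_right_mem 𝒜 (hy j)
    rw [ha2, Finset.sum_smul]
    refine Finset.sum_eq_zero fun j _ => ?_
    set β' : Fin q → ℕ := β + Pi.single j 1 with hβ'
    have h2 : y j * ∏ i, y i ^ β i = ∏ i, y i ^ β' i := by
      simp only [hβ', Pi.add_apply, pow_add, Finset.prod_mul_distrib]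
      rw [mul_comm]
      congr 1
      rw [Finset.prod_eq_single j]
      · simp
      · intro i _ hij
        simp [Pi.single_apply, hij]
      · intro h; exact absurd (Finset.mem_univ j) h
    rw [mul_smul, ← mul_smul (y j), h2]
    apply ih
    · have : ∑ i, β' i = ∑ i, β i + 1 := by
        simp [hβ', Finset.sum_add_distrib]
      omega
    · exact (decompose 𝒜 (b j) D).2

end Aux

open DirectSum in

/-- Let S be a graded ring whose irrelevant ideal S_+ is finitely generated and generated by the
degree-one elements, and M a graded S-module satisfying (TF) (some tail of M generates a finitely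
generated submodule). Then M~ = 0 on Proj S if and only if M satisfies (TN): M_k = 0 for all
sufficiently large k. (The published statement assumes only that S_+ is finitely generated; the
statement then fails when S_+ has no system of degree-one generators, e.g. S = k[t] with t of degree
2 and M = S shifted into odd degrees, whose M~ vanishes although no M_k does. Stated here with S_+
generated by degree-one elements, where the published proof applies.) -/
theorem result {R A : Type u} [CommRing R] [CommRing A] [Algebra R A] (𝒜 : ℕ → Submodule R A) [GradedAlgebra 𝒜]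
    (hfg : (HomogeneousIdeal.irrelevant 𝒜).toIdeal.FG)
    (hgen : (HomogeneousIdeal.irrelevant 𝒜).toIdeal = Ideal.span (𝒜 1 : Set A))
    {M : Type u} [AddCommGroup M] [Module R M] [Module A M] [IsScalarTower R A M] (ℳ : ℕ → Submodule R M) [DirectSum.Decomposition ℳ] [SetLike.GradedSMul 𝒜 ℳ]
    (hTF : ∃ n : ℕ, (Submodule.span A (⋃ k ∈ Set.Ici n, (ℳ k : Set M))).FG) :
    IsZero (GrTilde.tilde 𝒜 ℳ 0) ↔ ∃ n : ℕ, ∀ k : ℕ, n ≤ k → ℳ k = ⊥ := by
  classical
  constructor
  · intro hZ
    have htors := fun z d f hd hf => Groth.Agent.S3549.result 𝒜 hgen ℳ hZ z d f hd hf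
    have hfg' : (Ideal.span (𝒜 1 : Set A)).FG := hgen ▸ hfg
    obtain ⟨s', hs', hspan'⟩ := (Submodule.fg_span_iff_fg_span_finset_subset _).1 hfg'
    let ey := s'.equivFin
    let y : Fin s'.card → A := fun j => ((ey.symm j : s') : A)
    have hy : ∀ j, y j ∈ 𝒜 1 := fun j => hs' (ey.symm j).2
    have hrange : Set.range y = (s' : Set A) := by
      ext v
      constructor
      · rintro ⟨j, rfl⟩; exact (ey.symm j).2
      · intro h; exact ⟨ey ⟨v, h⟩, by simp [y]⟩
    have hspan : (HomogeneousIdeal.irrelevant 𝒜).toIdeal = Ideal.span (Set.range y) := by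
      rw [hrange, hgen]; exact hspan'
    obtain ⟨n, hn⟩ := hTF
    obtain ⟨t', ht', htspan⟩ := (Submodule.fg_span_iff_fg_span_finset_subset _).1 hn
    let ez := t'.equivFin
    let z : Fin t'.card → M := fun l => ((ez.symm l : t') : M)
    have hz : ∀ l, ∃ k, z l ∈ ℳ k := by
      intro l
      have := ht' (ez.symm l).2
      simp only [Set.mem_iUnion] at this
      obtain ⟨k, _, hk⟩ := this
      exact ⟨k, hk⟩
    choose dg hdg using hz
    have hrz : Set.range z = (t' : Set M) := by
      ext v
      constructor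
      · rintro ⟨j, rfl⟩; exact (ez.symm j).2
      · intro h; exact ⟨ez ⟨v, h⟩, by simp [z]⟩
    have hkill : ∀ l j, ∃ e, y j ^ e • z l = 0 := fun l j => htors (z l) 1 (y j) one_pos (hy j)
    choose e he using hkill
    set e₀ := ∑ l, ∑ j, e l j with he₀def
    have he₀ : ∀ l j, y j ^ e₀ • z l = 0 := by
      intro l j
      have hle : e l j ≤ e₀ :=
        (Finset.single_le_sum (f := fun j => e l j) (fun _ _ => Nat.zero_le _)
          (Finset.mem_univ j)).trans
        (Finset.single_le_sum (f := fun l => ∑ j, e l j) (fun _ _ => Nat.zero_le _)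
          (Finset.mem_univ l))
      obtain ⟨c, hc⟩ := Nat.exists_eq_add_of_le hle
      rw [hc, add_comm, pow_add, mul_smul, he, smul_zero]
    refine ⟨n + (∑ l, dg l) + s'.card * e₀ + 1, fun k hk => ?_⟩
    rw [eq_bot_iff]
    intro m hm
    rw [Submodule.mem_bot]
    have hmN : m ∈ Submodule.span A (⋃ k ∈ Set.Ici n, (ℳ k : Set M)) :=
      Submodule.subset_span (Set.mem_biUnion (show k ∈ Set.Ici n by
        simp only [Set.mem_Ici]; omega) hm)
    rw [htspan, ← hrz, Submodule.mem_span_range_iff_exists_fun] at hmN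
    obtain ⟨a, ha⟩ := hmN
    have hdgle : ∀ l, dg l ≤ ∑ l, dg l := fun l =>
      Finset.single_le_sum (f := dg) (fun _ _ => Nat.zero_le _) (Finset.mem_univ l)
    have hm2 : m = ∑ l, (decompose 𝒜 (a l) (k - dg l) : A) • z l := by
      have h1 : m = (decompose ℳ m k : M) := (decompose_of_mem_same ℳ hm).symm
      rw [h1, ← ha, decompose_sum, DFinsupp.finsetSum_apply, AddSubmonoidClass.coe_finsetSum]
      refine Finset.sum_congr rfl fun l _ => ?_
      have hkl : k = (k - dg l) + dg l := by have := hdgle l; omega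
      conv_lhs => rw [hkl]
      exact coe_decompose_smul_nat' 𝒜 ℳ (hdg l) (a l) (k - dg l)
    rw [hm2]
    refine Finset.sum_eq_zero fun l _ => ?_
    have := kill_of_large 𝒜 y hy hspan (z l) e₀ (he₀ l) (k - dg l) 0
      (by have := hdgle l; simp only [Pi.zero_apply, Finset.sum_const_zero]; omega) _
      (decompose 𝒜 (a l) (k - dg l)).2
    simpa using this
  · rintro ⟨n₀, hn₀⟩
    apply Groth.Agent.S3548.result 𝒜 ℳ
    intro z d f hd hf
    refine ⟨n₀, ?_⟩
    have hz : z = ∑ i ∈ (decompose ℳ z).support, (decompose ℳ z i : M) :=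
      (sum_support_decompose ℳ z).symm
    rw [hz, Finset.smul_sum]
    refine Finset.sum_eq_zero fun i _ => ?_
    have hmem : f ^ n₀ • (decompose ℳ z i : M) ∈ ℳ (n₀ * d + i) := by
      have h1 : f ^ n₀ ∈ 𝒜 (n₀ * d) := by
        have := SetLike.pow_mem_graded n₀ hf
        simpa using this
      have := SetLike.GradedSMul.smul_mem (A := 𝒜) (B := ℳ) h1 (decompose ℳ z i).2
      simpa [vadd_eq_add] using this
    have hb := hn₀ (n₀ * d + i) (by nlinarith)
    rw [hb, Submodule.mem_bot] at hmem
    exact hmem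

end Groth.Agent.S3562
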