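import Groth.Statements.S3563
-- import your own Groth.Agent.* helpers here

set_option autoImplicit false
universe u
open CategoryTheory CategoryTheory.Limits AlgebraicGeometry
open EGA2

namespace Groth.Agent.S3563

/-- Let φ : S → S' be a surjective homomorphism of graded rings (graded algebras over a base ring R).
Then the induced morphism Proj S' → Proj S is defined everywhere and is a closed immersion. The
hypothesis that the irrelevant ideal of S' is contained in the extension of the irrelevant ideal of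
S, needed to define the morphism on all of Proj S', is carried explicitly; it follows from
surjectivity. This is the case of a surjective φ; the published statement is more general. -/
theorem result {R A : Type u} [CommRing R] [CommRing A] [Algebra R A] (𝒜 : ℕ → Submodule R A) [GradedAlgebra 𝒜]
    {B : Type u} [CommRing B] [Algebra R B] (ℬ : ℕ → Submodule R B) [GradedAlgebra ℬ]
    (φ : 𝒜 →+*ᵍ ℬ) (hsurj : Function.Surjective φ)
    (hφ : HomogeneousIdeal.irrelevant ℬ ≤ (HomogeneousIdeal.irrelevant 𝒜).map φ) :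
    IsClosedImmersion (Proj.map φ hφ) := by
  classical
  -- surjectivity in each degree
  have hdeg : ∀ (k : ℕ) (b : B), b ∈ ℬ k → ∃ a ∈ 𝒜 k, φ a = b := by
    intro k b hb
    obtain ⟨a', rfl⟩ := hsurj b
    refine ⟨DirectSum.decompose 𝒜 a' k, SetLike.coe_mem _, ?_⟩
    rw [GradedRingHom.map_directSumDecompose, DirectSum.decompose_of_mem_same ℬ hb]
  -- the affine cover by basic opens
  let ι := Σ i : PNat, 𝒜 i
  let U : ι → (Proj 𝒜).affineOpens := fun s =>
    ⟨Proj.basicOpen 𝒜 s.2.1, Proj.isAffineOpen_basicOpen 𝒜 _ s.2.2 s.1.2⟩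
  have hU : ⨆ i, (U i : (Proj 𝒜).Opens) = ⊤ := by
    refine top_le_iff.mp fun x _ ↦ TopologicalSpace.Opens.mem_iSup.mpr ?_
    have hx : ¬ (HomogeneousIdeal.irrelevant 𝒜).toIdeal ≤ x.asHomogeneousIdeal.toIdeal :=
      x.not_irrelevant_le
    rw [HomogeneousIdeal.irrelevant_eq_span, Ideal.span_le, Set.not_subset] at hx
    obtain ⟨s, hs, hsx⟩ := hx
    simp only [Set.mem_iUnion, SetLike.mem_coe, exists_prop] at hs
    obtain ⟨i, hi, hsi⟩ := hs
    exact ⟨⟨⟨i, hi⟩, ⟨s, hsi⟩⟩, (Proj.mem_basicOpen 𝒜 s x).mpr hsx⟩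
  rw [HasAffineProperty.iff_of_iSup_eq_top (P := @IsClosedImmersion) U hU]
  rintro ⟨⟨i, hi⟩, ⟨s, hsi⟩⟩
  refine ⟨?_, ?_⟩
  · exact Proj.isAffineOpen_basicOpen ℬ (φ s) (φ.map_mem hsi) hi
  · -- surjectivity on global sections
    have hiso1 : IsIso (Proj.awayToSection 𝒜 s) :=
      (Proj.basicOpenIsoAway 𝒜 s hsi hi).isIso_hom
    have hiso2 : IsIso (Proj.awayToSection ℬ (φ s)) :=
      (Proj.basicOpenIsoAway ℬ (φ s) (φ.map_mem hsi) hi).isIso_hom
    have hmapsurj : Function.Surjective (HomogeneousLocalization.Away.map φ s) := by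
      intro z
      obtain ⟨n, b, hb, rfl⟩ := HomogeneousLocalization.Away.mk_surjective ℬ (φ.map_mem hsi) z
      obtain ⟨a, ha, rfl⟩ := hdeg _ b hb
      exact ⟨HomogeneousLocalization.Away.mk 𝒜 hsi n a ha, by simp⟩
    have hcomm := Proj.awayToSection_comp_appLE φ hφ hsi
    have hsurjLE : Function.Surjective
        (Scheme.Hom.appLE (Proj.map φ hφ) (Proj.basicOpen 𝒜 s) (Proj.basicOpen ℬ (φ s)) (by rfl)) := by
      have h1 : Scheme.Hom.appLE (Proj.map φ hφ) (Proj.basicOpen 𝒜 s) (Proj.basicOpen ℬ (φ s)) (by rfl) =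
          inv (Proj.awayToSection 𝒜 s) ≫
            CommRingCat.ofHom (HomogeneousLocalization.Away.map φ s) ≫ Proj.awayToSection ℬ (φ s) := by
        rw [← hcomm, IsIso.inv_hom_id_assoc]
      rw [h1]
      simp only [CommRingCat.hom_comp, RingHom.coe_comp]
      refine Function.Surjective.comp (Function.Surjective.comp ?_ ?_) ?_
      · exact (ConcreteCategory.bijective_of_isIso (Proj.awayToSection ℬ (φ s))).2
      · exact hmapsurj
      · exact (ConcreteCategory.bijective_of_isIso (inv (Proj.awayToSection 𝒜 s))).2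
    change Function.Surjective ((Proj.map φ hφ ∣_ Proj.basicOpen 𝒜 s).app ⊤)
    rw [morphismRestrict_app']
    refine (Scheme.Hom.appLE_congr (f := Proj.map φ hφ) (U := Proj.basicOpen 𝒜 s)
        (V := Proj.basicOpen ℬ (φ s)) (by rfl) ?_ ?_
        (fun f => Function.Surjective f)).mp hsurjLE
    · simp
    · simp

end Groth.Agent.S3563
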