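import Groth.Statements.S3570
import Mathlib

set_option autoImplicit false
universe u
open CategoryTheory CategoryTheory.Limits AlgebraicGeometry
open EGA2

namespace Groth.Agent.S3570

/-- Let f : X → S and g : Y → S be affine morphisms and h : Y → X an S-morphism. Then h is an
isomorphism if and only if A(h) : f_*O_X → g_*O_Y is an isomorphism (of presheaves of rings on S). -/
theorem result {X Y S : Scheme.{u}} (f : X ⟶ S) [IsAffineHom f] (g : Y ⟶ S)
    [IsAffineHom g] (h : Y ⟶ X) (w : h ≫ f = g) :
    IsIso h ↔ IsIso (AffAlg.algHom f g h w) := by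
  subst w
  constructor
  · intro hiso
    haveI : ∀ U : (TopologicalSpace.Opens X)ᵒᵖ, IsIso (h.c.app U) := by
      intro U
      show IsIso (h.app U.unop)
      infer_instance
    haveI : IsIso h.c := NatIso.isIso_of_isIso_app h.c
    unfold AffAlg.algHom
    infer_instance
  · intro hiso
    let U : S.affineOpens → X.affineOpens := fun V => ⟨f ⁻¹ᵁ V.1, V.2.preimage f⟩
    have hU : ⨆ V, ((U V : X.affineOpens) : X.Opens) = ⊤ := by
      rw [eq_top_iff]
      intro x _
      obtain ⟨V, hV, hxV, -⟩ := exists_isAffineOpen_mem_and_subset (x := f x) (U := ⊤) trivial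
      exact TopologicalSpace.Opens.mem_iSup.mpr ⟨⟨V, hV⟩, hxV⟩
    rw [← MorphismProperty.isomorphisms.iff,
      HasAffineProperty.iff_of_iSup_eq_top (P := MorphismProperty.isomorphisms Scheme) U hU]
    intro V
    refine ⟨?_, ?_⟩
    · show IsAffineOpen (h ⁻¹ᵁ f ⁻¹ᵁ V.1)
      exact V.2.preimage (h ≫ f)
    · have key : ∀ (W W' : X.Opens), W = W' → IsIso (h.app W) → IsIso (h.app W') := by
        intro W W' e; subst e; exact id
      have h1 : IsIso (h.app (f ⁻¹ᵁ V.1)) := by
        have h1 : IsIso ((AffAlg.algHom f (h ≫ f) h rfl).app (Opposite.op V.1)) := inferInstance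
        have h1' : ∀ (w : h ≫ f = h ≫ f),
            (AffAlg.algHom f (h ≫ f) h w).app (Opposite.op V.1) = h.app (f ⁻¹ᵁ V.1) := by
          intro w
          unfold AffAlg.algHom
          rw [NatTrans.comp_app, eqToHom_app]
          exact Category.comp_id _
        rw [h1'] at h1
        exact h1
      haveI h2 : IsIso (h.app ((U V).1.ι ''ᵁ ⊤)) :=
        key (f ⁻¹ᵁ V.1) _ (U V).1.ι_image_top.symm h1
      have h3 : IsIso (h.app ((U V).1.ι ''ᵁ ⊤) ≫
          Y.presheaf.map (eqToHom (image_morphismRestrict_preimage h (U V).1 ⊤)).op) :=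
        inferInstance
      rw [morphismRestrict_appTop]
      exact h3

end Groth.Agent.S3570
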