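import Groth.Statements.S3574
import Mathlib

set_option autoImplicit false
universe u
open CategoryTheory CategoryTheory.Limits AlgebraicGeometry
open EGA2

namespace Groth.Agent.S3574aux
open CategoryTheory CategoryTheory.Limits AlgebraicGeometry Opposite TopologicalSpace
open scoped HomogeneousIdeal
open HomogeneousLocalization

variable {R A : Type u} [CommRing R] [CommRing A] [Algebra R A] {𝒜 : ℕ → Submodule R A} [GradedAlgebra 𝒜]

/-- the localization map `A_f → A_x` for `x = f * g`. -/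
noncomputable def locMap {f g x : A} (hx : x = f * g) : Localization.Away f →+* Localization.Away x :=
  Localization.awayLift (algebraMap A _) _
    (isUnit_of_dvd_unit (map_dvd _ ⟨_, hx⟩) (IsLocalization.Away.algebraMap_isUnit x))

theorem locMap_comp {f g x : A} (hx : x = f * g) :
    (locMap hx).comp (algebraMap A (Localization.Away f)) = algebraMap A (Localization.Away x) := by
  unfold locMap Localization.awayLift
  exact IsLocalization.Away.lift_comp f _

theorem ring_sq {e : ℕ} {f g x : A} (hg : g ∈ 𝒜 e) (hx : x = f * g) :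
    (locMap hx).comp (algebraMap (Away 𝒜 f) (Localization.Away f)) =
      (algebraMap (Away 𝒜 x) (Localization.Away x)).comp (awayMap 𝒜 hg hx) := by
  ext a
  exact (val_awayMap 𝒜 hg hx a).symm

theorem chart_ι {d : ℕ} {f : A} (hf : f ∈ 𝒜 d) (hd : 0 < d) :
    Cone.chart hf hd ≫ (Cone.pointed 𝒜).ι =
      Spec.map (CommRingCat.ofHom (algebraMap A (Localization.Away f))) :=
  IsOpenImmersion.lift_fac _ _ _

instance (f : A) : IsOpenImmersion (Spec.map (CommRingCat.ofHom (algebraMap A (Localization.Away f)))) :=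
  IsOpenImmersion.of_isLocalization f

instance {d : ℕ} {f : A} (hf : f ∈ 𝒜 d) (hd : 0 < d) : IsOpenImmersion (Cone.chart hf hd) := by
  have : IsOpenImmersion (Cone.chart hf hd ≫ (Cone.pointed 𝒜).ι) := by
    rw [chart_ι]; infer_instance
  exact IsOpenImmersion.of_comp _ (Cone.pointed 𝒜).ι

/-- index type of charts -/
structure J (𝒜 : ℕ → Submodule R A) where
  d : ℕ
  f : A
  hd : 0 < d
  hf : f ∈ 𝒜 d

/-- the chart maps to `Proj 𝒜`. -/
noncomputable abbrev gmap (j : J 𝒜) :
    Spec (CommRingCat.of (Localization.Away j.f)) ⟶ Proj 𝒜 :=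
  Spec.map (CommRingCat.ofHom (algebraMap (Away 𝒜 j.f) (Localization.Away j.f))) ≫
    Proj.awayι 𝒜 j.f j.hf j.hd

theorem key_N {d e : ℕ} {f g x : A} (hd : 0 < d) (hf : f ∈ 𝒜 d) (hg : g ∈ 𝒜 e) (hx : x = f * g) :
    Spec.map (CommRingCat.ofHom (locMap hx)) ≫
      Spec.map (CommRingCat.ofHom (algebraMap (Away 𝒜 f) (Localization.Away f))) ≫
        Proj.awayι 𝒜 f hf hd =
    Spec.map (CommRingCat.ofHom (algebraMap (Away 𝒜 x) (Localization.Away x))) ≫
      Proj.awayι 𝒜 x (hx ▸ SetLike.mul_mem_graded hf hg) (hd.trans_le (d.le_add_right e)) := by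
  rw [← Proj.SpecMap_awayMap_awayι 𝒜 hf hd hg hx, ← Spec.map_comp_assoc, ← Spec.map_comp_assoc,
    ← CommRingCat.ofHom_comp, ← CommRingCat.ofHom_comp, ring_sq hg hx]

theorem mem_range_chart {d : ℕ} {f : A} (hf : f ∈ 𝒜 d) (hd : 0 < d)
    (x : (Cone.pointed 𝒜 : Scheme.{u}))
    (hx : f ∉ ((Cone.pointed 𝒜).ι.base x).asIdeal) : x ∈ Set.range (Cone.chart hf hd).base := by
  have h1 : (Cone.pointed 𝒜).ι.base x ∈
      Set.range (Spec.map (CommRingCat.ofHom (algebraMap A (Localization.Away f)))).base := by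
    have := PrimeSpectrum.localization_away_comap_range (Localization.Away f) f
    change (Cone.pointed 𝒜).ι.base x ∈ Set.range (PrimeSpectrum.comap (algebraMap A (Localization.Away f)))
    rw [this]
    exact hx
  obtain ⟨w, hw⟩ := h1
  refine ⟨w, ?_⟩
  apply (Cone.pointed 𝒜).ι.isOpenEmbedding.injective
  rw [← hw, ← chart_ι hf hd]
  rfl

/-- the open cover of the pointed cone by the standard charts. -/
noncomputable def cover : (Cone.pointed 𝒜 : Scheme.{u}).OpenCover :=
  Scheme.Cover.mkOfCovers (J 𝒜) (fun j => Spec (CommRingCat.of (Localization.Away j.f)))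
    (fun j => Cone.chart j.hf j.hd) (fun x => by
      have hx : (Cone.pointed 𝒜).ι.base x ∈ Cone.pointed 𝒜 := x.2
      have h2 : ¬ (HomogeneousIdeal.irrelevant 𝒜).toIdeal ≤ ((Cone.pointed 𝒜).ι.base x).asIdeal := by
        intro hle
        exact hx ((PrimeSpectrum.mem_zeroLocus _ _).mpr hle)
      rw [HomogeneousIdeal.toIdeal_irrelevant_le] at h2
      push Not at h2
      obtain ⟨e, he, hnle⟩ := h2
      obtain ⟨f, hf, hfx⟩ := SetLike.not_le_iff_exists.mp hnle
      obtain ⟨w, hw⟩ := mem_range_chart (𝒜 := 𝒜) (f := f) hf he x hfx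
      exact ⟨⟨e, f, he, hf⟩, w, hw⟩)

theorem awayι_congr {m m' : ℕ} (h : m = m') {x : A} (hx : x ∈ 𝒜 m) (hm : 0 < m) (hx' : x ∈ 𝒜 m')
    (hm' : 0 < m') : Proj.awayι 𝒜 x hx hm = Proj.awayι 𝒜 x hx' hm' := by
  subst h; rfl

theorem compat (i j : J 𝒜) :
    pullback.fst (Cone.chart i.hf i.hd) (Cone.chart j.hf j.hd) ≫ gmap i =
      pullback.snd (Cone.chart i.hf i.hd) (Cone.chart j.hf j.hd) ≫ gmap j := by
  -- the iso P ≅ Spec A_{fg}
  have hrange : Set.range (pullback.fst (Cone.chart i.hf i.hd) (Cone.chart j.hf j.hd) ≫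
        Cone.chart i.hf i.hd ≫ (Cone.pointed 𝒜).ι).base =
      Set.range (Spec.map (CommRingCat.ofHom (algebraMap A (Localization.Away (i.f * j.f))))).base := by
    have r1 := IsOpenImmersion.range_pullback_to_base_of_left (Cone.chart i.hf i.hd) (Cone.chart j.hf j.hd)
    have hr : ∀ (k : J 𝒜), (Cone.pointed 𝒜).ι.base '' Set.range (Cone.chart k.hf k.hd).base =
        (PrimeSpectrum.basicOpen k.f : Set (PrimeSpectrum A)) := by
      intro k
      rw [← Set.range_comp, ← PrimeSpectrum.localization_away_comap_range (Localization.Away k.f) k.f]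
      have := congrArg (fun g => Set.range g.base) (chart_ι k.hf k.hd)
      simp only [Scheme.Hom.comp_base, TopCat.hom_comp, ContinuousMap.coe_comp] at this
      exact this
    have e1 : Set.range (pullback.fst (Cone.chart i.hf i.hd) (Cone.chart j.hf j.hd) ≫
        Cone.chart i.hf i.hd ≫ (Cone.pointed 𝒜).ι).base =
        (Cone.pointed 𝒜).ι.base '' Set.range (pullback.fst (Cone.chart i.hf i.hd) (Cone.chart j.hf j.hd) ≫
        Cone.chart i.hf i.hd).base := by
      rw [← Set.range_comp, ← Category.assoc]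
      rfl
    rw [e1, r1, Set.image_inter (Cone.pointed 𝒜).ι.isOpenEmbedding.injective, hr i, hr j]
    have := PrimeSpectrum.localization_away_comap_range (Localization.Away (i.f * j.f)) (i.f * j.f)
    change _ = Set.range (PrimeSpectrum.comap (algebraMap A (Localization.Away (i.f * j.f))))
    rw [this, PrimeSpectrum.basicOpen_mul]
    rfl
  let e := IsOpenImmersion.isoOfRangeEq (pullback.fst (Cone.chart i.hf i.hd) (Cone.chart j.hf j.hd) ≫
        Cone.chart i.hf i.hd ≫ (Cone.pointed 𝒜).ι)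
      (Spec.map (CommRingCat.ofHom (algebraMap A (Localization.Away (i.f * j.f))))) hrange
  have he : e.hom ≫ Spec.map (CommRingCat.ofHom (algebraMap A (Localization.Away (i.f * j.f)))) =
      pullback.fst (Cone.chart i.hf i.hd) (Cone.chart j.hf j.hd) ≫
        Cone.chart i.hf i.hd ≫ (Cone.pointed 𝒜).ι := IsOpenImmersion.isoOfRangeEq_hom_fac ..
  have h1 : pullback.fst (Cone.chart i.hf i.hd) (Cone.chart j.hf j.hd) =
      e.hom ≫ Spec.map (CommRingCat.ofHom (locMap (f := i.f) (g := j.f) rfl)) := by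
    rw [← cancel_mono (Cone.chart i.hf i.hd ≫ (Cone.pointed 𝒜).ι), ← he, Category.assoc, chart_ι,
      ← Spec.map_comp, ← CommRingCat.ofHom_comp, locMap_comp]
  have h2 : pullback.snd (Cone.chart i.hf i.hd) (Cone.chart j.hf j.hd) =
      e.hom ≫ Spec.map (CommRingCat.ofHom (locMap (f := j.f) (g := i.f) (mul_comm i.f j.f))) := by
    rw [← cancel_mono (Cone.chart j.hf j.hd ≫ (Cone.pointed 𝒜).ι), ← pullback.condition_assoc, ← he,
      Category.assoc, chart_ι,
      ← Spec.map_comp, ← CommRingCat.ofHom_comp, locMap_comp]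
  rw [h1, h2, Category.assoc, Category.assoc]
  congr 1
  rw [gmap, gmap]
  have k1 := key_N i.hd i.hf j.hf (rfl : i.f * j.f = i.f * j.f)
  have k2 := key_N j.hd j.hf i.hf (mul_comm i.f j.f)
  rw [k1, k2]
  congr 1

theorem main :
    ∃! π : (Cone.pointed 𝒜 : Scheme.{u}) ⟶ Proj 𝒜,
      ∀ (d : ℕ) (f : A) (hd : 0 < d) (hf : f ∈ 𝒜 d),
        Cone.chart hf hd ≫ π =
          Spec.map (CommRingCat.ofHom (algebraMap (HomogeneousLocalization.Away 𝒜 f) (Localization.Away f))) ≫
            Proj.awayι 𝒜 f hf hd := by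
  refine ⟨(cover (𝒜 := 𝒜)).glueMorphisms gmap compat, ?_, ?_⟩
  · intro d f hd hf
    exact (cover (𝒜 := 𝒜)).ι_glueMorphisms gmap compat ⟨d, f, hd, hf⟩
  · intro q hq
    refine (cover (𝒜 := 𝒜)).hom_ext _ _ fun j => ?_
    rw [Scheme.Cover.ι_glueMorphisms]
    exact hq j.d j.f j.hd j.hf

end Groth.Agent.S3574aux

namespace Groth.Agent.S3574

/-- Let S be an ℕ-graded algebra over a ring, C = Spec S its affine cone, E = C − V(S_+) the pointed
affine cone and X = Proj S. Then there is exactly one morphism π : E → X (the canonical retraction)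
whose restriction to each chart Spec S_f of E, for f homogeneous of positive degree, is the
composite Spec S_f → Spec S_(f) ≅ D_+(f) ⊆ X induced by the inclusion S_(f) → S_f. The published
statement is not limited to an affine base. -/
theorem result {R A : Type u} [CommRing R] [CommRing A] [Algebra R A] (𝒜 : ℕ → Submodule R A) [GradedAlgebra 𝒜] :
    ∃! π : (Cone.pointed 𝒜 : Scheme.{u}) ⟶ Proj 𝒜,
      ∀ (d : ℕ) (f : A) (hd : 0 < d) (hf : f ∈ 𝒜 d),
        Cone.chart hf hd ≫ π =
          Spec.map (CommRingCat.ofHom (algebraMap (HomogeneousLocalization.Away 𝒜 f) (Localization.Away f))) ≫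
            Proj.awayι 𝒜 f hf hd := by
  exact Groth.Agent.S3574aux.main

end Groth.Agent.S3574
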