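import Groth.Statements.S3575
import Mathlib
import Groth.Agent.S3574

set_option autoImplicit false
universe u
open CategoryTheory CategoryTheory.Limits AlgebraicGeometry
open EGA2

namespace Groth.Agent.S3575aux
open CategoryTheory CategoryTheory.Limits AlgebraicGeometry Opposite TopologicalSpace
open scoped HomogeneousIdeal
open HomogeneousLocalization
open Groth.Agent.S3574aux

variable {R A : Type u} [CommRing R] [CommRing A] [Algebra R A] {𝒜 : ℕ → Submodule R A} [GradedAlgebra 𝒜]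

theorem exists_chart (y : (Cone.pointed 𝒜 : Scheme.{u})) :
    ∃ (j : J 𝒜) (w : Spec (CommRingCat.of (Localization.Away j.f))),
      (Cone.chart j.hf j.hd).base w = y := by
  have hx : (Cone.pointed 𝒜).ι.base y ∈ Cone.pointed 𝒜 := y.2
  have h2 : ¬ (HomogeneousIdeal.irrelevant 𝒜).toIdeal ≤ ((Cone.pointed 𝒜).ι.base y).asIdeal := by
    intro hle
    exact hx ((PrimeSpectrum.mem_zeroLocus _ _).mpr hle)
  rw [HomogeneousIdeal.toIdeal_irrelevant_le] at h2
  push Not at h2
  obtain ⟨e, he, hnle⟩ := h2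
  obtain ⟨f, hf, hfx⟩ := SetLike.not_le_iff_exists.mp hnle
  obtain ⟨w, hw⟩ := mem_range_chart (𝒜 := 𝒜) (f := f) hf he y hfx
  exact ⟨⟨e, f, he, hf⟩, w, hw⟩

theorem ι_chart_base (j : J 𝒜) (w : Spec (CommRingCat.of (Localization.Away j.f))) :
    (Cone.pointed 𝒜).ι.base ((Cone.chart j.hf j.hd).base w) =
      (Spec.map (CommRingCat.ofHom (algebraMap A (Localization.Away j.f)))).base w := by
  have := congrArg (fun g => g.base w) (chart_ι j.hf j.hd)
  simpa using this

theorem mem_chart_iff (j : J 𝒜) (w : Spec (CommRingCat.of (Localization.Away j.f))) (a : A) :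
    a ∈ ((Cone.pointed 𝒜).ι.base ((Cone.chart j.hf j.hd).base w)).asIdeal ↔
      algebraMap A (Localization.Away j.f) a ∈ w.asIdeal := by
  rw [ι_chart_base]
  rfl

theorem opensRange_chart {d : ℕ} {f : A} (hd : 0 < d) (hf : f ∈ 𝒜 d) :
    (Cone.chart hf hd).opensRange = (Cone.pointed 𝒜).ι ⁻¹ᵁ Cone.coneOpen f := by
  ext y
  constructor
  · rintro ⟨w, rfl⟩
    change f ∉ ((Cone.pointed 𝒜).ι.base ((Cone.chart hf hd).base w)).asIdeal
    rw [mem_chart_iff ⟨d, f, hd, hf⟩ w f]
    intro h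
    exact w.isPrime.ne_top (Ideal.eq_top_of_isUnit_mem _ h (IsLocalization.Away.algebraMap_isUnit f))
  · intro h
    exact mem_range_chart hf hd y h

section
variable (π : (Cone.pointed 𝒜 : Scheme.{u}) ⟶ Proj 𝒜)
    (hπ : ∀ (d : ℕ) (f : A) (hd : 0 < d) (hf : f ∈ 𝒜 d),
        Cone.chart hf hd ≫ π =
          Spec.map (CommRingCat.ofHom (algebraMap (HomogeneousLocalization.Away 𝒜 f) (Localization.Away f))) ≫
            Proj.awayι 𝒜 f hf hd)
include hπ

theorem π_chart_base (j : J 𝒜) (w : Spec (CommRingCat.of (Localization.Away j.f))) :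
    π.base ((Cone.chart j.hf j.hd).base w) =
      (Proj.awayι 𝒜 j.f j.hf j.hd).base
        ((Spec.map (CommRingCat.ofHom (algebraMap (Away 𝒜 j.f) (Localization.Away j.f)))).base w) := by
  have := congrArg (fun g => g.base w) (hπ j.d j.f j.hd j.hf)
  simpa using this

theorem mem_preimage_iff {d : ℕ} {f : A} (hd : 0 < d) (hf : f ∈ 𝒜 d)
    (y : (Cone.pointed 𝒜 : Scheme.{u})) :
    π.base y ∈ Proj.basicOpen 𝒜 f ↔ f ∉ ((Cone.pointed 𝒜).ι.base y).asIdeal := by
  obtain ⟨j, w, rfl⟩ := exists_chart y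
  rw [π_chart_base π hπ, mem_chart_iff]
  have h1 := Proj.awayι_preimage_basicOpen 𝒜 j.hf j.hd hf hd
  have e1 : (Proj.awayι 𝒜 j.f j.hf j.hd).base
        ((Spec.map (CommRingCat.ofHom (algebraMap (Away 𝒜 j.f) (Localization.Away j.f)))).base w) ∈
      Proj.basicOpen 𝒜 f ↔
      (algebraMap (Away 𝒜 j.f) (Localization.Away j.f)
        (HomogeneousLocalization.Away.isLocalizationElem j.hf hf)) ∉ w.asIdeal := by
    change ((Spec.map (CommRingCat.ofHom (algebraMap (Away 𝒜 j.f) (Localization.Away j.f)))).base w) ∈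
        (Proj.awayι 𝒜 j.f j.hf j.hd) ⁻¹ᵁ Proj.basicOpen 𝒜 f ↔ _
    exact (iff_of_eq (congrArg (fun O : (Spec (CommRingCat.of
      (HomogeneousLocalization.Away 𝒜 j.f))).Opens =>
      ((Spec.map (CommRingCat.ofHom (algebraMap (Away 𝒜 j.f) (Localization.Away j.f)))).base w) ∈ O) h1)).trans
      Iff.rfl
  rw [e1, not_iff_not]
  have hw : w.asIdeal.IsPrime := w.isPrime
  rw [HomogeneousLocalization.algebraMap_apply, Away.isLocalizationElem, Away.val_mk,
    Localization.mk_eq_mk', IsLocalization.mk'_mem_iff, map_pow]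
  constructor
  · intro h
    exact hw.mem_of_pow_mem _ h
  · intro h
    exact Ideal.pow_mem_of_mem _ h _ j.hd

theorem preimage_eq {d : ℕ} {f : A} (hd : 0 < d) (hf : f ∈ 𝒜 d) :
    π ⁻¹ᵁ Proj.basicOpen 𝒜 f = (Cone.pointed 𝒜).ι ⁻¹ᵁ Cone.coneOpen f := by
  ext y
  exact mem_preimage_iff π hπ hd hf y

theorem homog_mem_iff {n : ℕ} {a : A} (ha : a ∈ 𝒜 n) (y : (Cone.pointed 𝒜 : Scheme.{u})) :
    a ∈ (π.base y).asHomogeneousIdeal ↔ a ∈ ((Cone.pointed 𝒜).ι.base y).asIdeal := by
  obtain ⟨j, w, hw⟩ := exists_chart y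
  -- g := j.f ∉ P
  have hgP : j.f ∉ ((Cone.pointed 𝒜).ι.base y).asIdeal := by
    rw [← hw, mem_chart_iff]
    intro h
    exact w.isPrime.ne_top (Ideal.eq_top_of_isUnit_mem _ h (IsLocalization.Away.algebraMap_isUnit j.f))
  have hgx : j.f ∉ (π.base y).asHomogeneousIdeal := by
    have := (mem_preimage_iff π hπ j.hd j.hf y).mpr hgP
    exact this
  have hag : a * j.f ∈ 𝒜 (n + j.d) := SetLike.mul_mem_graded ha j.hf
  have hpos : 0 < n + j.d := by have := j.hd; omega
  have key := mem_preimage_iff π hπ hpos hag y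
  have key' : a * j.f ∈ (π.base y).asHomogeneousIdeal ↔
      a * j.f ∈ ((Cone.pointed 𝒜).ι.base y).asIdeal := by
    rw [← not_iff_not]; exact key
  have hP : ((Cone.pointed 𝒜).ι.base y).asIdeal.IsPrime := ((Cone.pointed 𝒜).ι.base y).isPrime
  have hx : (π.base y).asHomogeneousIdeal.toIdeal.IsPrime := (π.base y).isPrime
  constructor
  · intro h
    have h1 : a * j.f ∈ ((Cone.pointed 𝒜).ι.base y).asIdeal :=
      key'.mp (Ideal.mul_mem_right _ _ h)
    exact (hP.mem_or_mem h1).resolve_right hgP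
  · intro h
    have h1 : a * j.f ∈ (π.base y).asHomogeneousIdeal :=
      key'.mpr (Ideal.mul_mem_right _ _ h)
    exact (hx.mem_or_mem h1).resolve_right hgx

theorem core_eq (y : (Cone.pointed 𝒜 : Scheme.{u})) :
    (π.base y).asHomogeneousIdeal = (((Cone.pointed 𝒜).ι.base y).asIdeal).homogeneousCore 𝒜 := by
  apply le_antisymm
  · rw [← (Ideal.homogeneousCore.gc 𝒜).le_iff_le]
    intro z hz
    classical
    rw [← DirectSum.sum_support_decompose 𝒜 z]
    refine Ideal.sum_mem _ fun i _ => ?_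
    have hzi : (DirectSum.decompose 𝒜 z i : A) ∈ (π.base y).asHomogeneousIdeal :=
      (π.base y).asHomogeneousIdeal.isHomogeneous i hz
    exact (homog_mem_iff π hπ (SetLike.coe_mem _) y).mp hzi
  · change ((((Cone.pointed 𝒜).ι.base y).asIdeal).homogeneousCore 𝒜).toIdeal ≤
      (π.base y).asHomogeneousIdeal.toIdeal
    change Ideal.homogeneousCore' 𝒜 _ ≤ _
    unfold Ideal.homogeneousCore'
    rw [Ideal.span_le]
    rintro _ ⟨⟨a, n, ha⟩, hmem, rfl⟩
    exact (homog_mem_iff π hπ ha y).mpr hmem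

theorem surj : Surjective π := by
  refine ⟨fun x => ?_⟩
  have hmem : (⟨x.asHomogeneousIdeal.toIdeal, x.isPrime⟩ : PrimeSpectrum A) ∈ Cone.pointed 𝒜 := by
    intro hle
    exact x.not_irrelevant_le ((PrimeSpectrum.mem_zeroLocus _ _).mp hle)
  refine ⟨⟨_, hmem⟩, ?_⟩
  apply ProjectiveSpectrum.ext
  rw [core_eq π hπ]
  exact HomogeneousIdeal.toIdeal_homogeneousCore_eq_self _

theorem affine : IsAffineHom π := by
  refine isAffineHom_of_forall_exists_isAffineOpen _ fun x => ?_
  have h1 := x.not_irrelevant_le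
  rw [HomogeneousIdeal.irrelevant_le] at h1
  push Not at h1
  obtain ⟨e, he, hnle⟩ := h1
  obtain ⟨f, hf, hfx⟩ := SetLike.not_le_iff_exists.mp hnle
  refine ⟨Proj.basicOpen 𝒜 f, hfx, Proj.isAffineOpen_basicOpen 𝒜 f hf he, ?_⟩
  rw [preimage_eq π hπ he hf, ← opensRange_chart he hf]
  exact isAffineOpen_opensRange _

theorem main :
    IsAffineHom π ∧ Surjective π ∧
      (∀ (d : ℕ) (f : A), 0 < d → f ∈ 𝒜 d →
        π ⁻¹ᵁ Proj.basicOpen 𝒜 f = (Cone.pointed 𝒜).ι ⁻¹ᵁ Cone.coneOpen f) ∧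
      ∀ p : (Cone.pointed 𝒜 : Scheme.{u}),
        (π.base p).asHomogeneousIdeal = (((Cone.pointed 𝒜).ι.base p).asIdeal).homogeneousCore 𝒜 :=
  ⟨affine π hπ, surj π hπ, fun _ _ hd hf => preimage_eq π hπ hd hf, core_eq π hπ⟩

end

end Groth.Agent.S3575aux

namespace Groth.Agent.S3575

/-- Let S be a commutative ℕ-graded R-algebra, E the pointed affine cone (the open complement of the
vertex V(S_+) in Spec S) and X = Proj S, and let π : E → X be the canonical retraction,
characterised (hypothesis hπ) by its agreement on each chart Spec S_f → E, f homogeneous of positive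
degree, with Spec of S_(f) → S_f followed by the standard open immersion Spec S_(f) → X. Then π is
an affine and surjective morphism; the inverse image under π of D_+(f) is the open D(f) ∩ E = D(f)
of E for every homogeneous f of positive degree; and π sends a point of E, a prime p of S not
containing S_+, to the homogeneous prime whose homogeneous elements are those of p. -/
theorem result {R A : Type u} [CommRing R] [CommRing A] [Algebra R A] (𝒜 : ℕ → Submodule R A) [GradedAlgebra 𝒜]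
    (π : (Cone.pointed 𝒜 : Scheme.{u}) ⟶ Proj 𝒜)
    (hπ : ∀ (d : ℕ) (f : A) (hd : 0 < d) (hf : f ∈ 𝒜 d),
        Cone.chart hf hd ≫ π =
          Spec.map (CommRingCat.ofHom (algebraMap (HomogeneousLocalization.Away 𝒜 f) (Localization.Away f))) ≫
            Proj.awayι 𝒜 f hf hd) :
    IsAffineHom π ∧ Surjective π ∧
      (∀ (d : ℕ) (f : A), 0 < d → f ∈ 𝒜 d →
        π ⁻¹ᵁ Proj.basicOpen 𝒜 f = (Cone.pointed 𝒜).ι ⁻¹ᵁ Cone.coneOpen f) ∧
      ∀ p : (Cone.pointed 𝒜 : Scheme.{u}),
        (π.base p).asHomogeneousIdeal = (((Cone.pointed 𝒜).ι.base p).asIdeal).homogeneousCore 𝒜 := by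
  exact Groth.Agent.S3575aux.main π hπ

end Groth.Agent.S3575
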