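import Groth.Statements.S3580
import Mathlib
import Groth.Agent.Lib.helper27.ProjQMap

set_option autoImplicit false
universe u
open CategoryTheory CategoryTheory.Limits AlgebraicGeometry
open EGA2

namespace Groth.Agent.S3580aux
open CategoryTheory CategoryTheory.Limits AlgebraicGeometry Opposite TopologicalSpace
open scoped HomogeneousIdeal
open HomogeneousLocalization
open Groth.Agent.Lib.helper27

section ring
variable {R A : Type u} [CommRing R] [CommRing A] [Algebra R A] {𝒜 : ℕ → Submodule R A}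
    {B : Type u} [CommRing B] [Algebra R B] {ℬ : ℕ → Submodule R B}
    (d : ℕ) (hd : 0 < d) (φ : B →ₐ[R] A) (hφ : Function.Injective φ)
    (hdeg : ∀ n : ℕ, Submodule.map φ.toLinearMap (ℬ n) = 𝒜 (n * d))

include hdeg in
theorem φ_mem {n : ℕ} {b : B} (hb : b ∈ ℬ n) : φ b ∈ 𝒜 (n * d) :=
  (hdeg n).le (Submodule.mem_map_of_mem hb)

include hdeg in
theorem exists_of_mem {n : ℕ} {a : A} (ha : a ∈ 𝒜 (n * d)) : ∃ b ∈ ℬ n, φ b = a := by
  rw [← hdeg n] at ha
  obtain ⟨b, hb, rfl⟩ := ha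
  exact ⟨b, hb, rfl⟩

variable [GradedAlgebra 𝒜] [GradedAlgebra ℬ]

/-- the auxiliary map `B_(g) → A_{φ g}`. -/
noncomputable def ψ (g : B) : Away ℬ g →+* Localization.Away (φ g) :=
  (Localization.awayMap φ.toRingHom g).comp (algebraMap (Away ℬ g) (Localization.Away g))

theorem ψ_mk {n : ℕ} {g : B} (hg : g ∈ ℬ n) (k : ℕ) (b : B) (hb : b ∈ ℬ (k • n)) :
    ψ (ℬ := ℬ) φ g (Away.mk ℬ hg k b hb) =
      Localization.mk (φ b) (⟨φ g ^ k, k, rfl⟩ : Submonoid.powers (φ g)) := by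
  rw [ψ, RingHom.comp_apply, HomogeneousLocalization.algebraMap_apply, Away.val_mk,
    Localization.mk_eq_mk', Localization.awayMap, IsLocalization.Away.map, IsLocalization.map_mk',
    Localization.mk_eq_mk']
  congr 1
  exact Subtype.ext (map_pow φ g k)

include hdeg in
theorem range_ψ_subset {n : ℕ} {g : B} (hg : g ∈ ℬ n) :
    Set.range (ψ (ℬ := ℬ) φ g) ⊆ Set.range (HomogeneousLocalization.val (𝒜 := 𝒜) (x := Submonoid.powers (φ g))) := by
  rintro _ ⟨z, rfl⟩
  obtain ⟨k, b, hb, rfl⟩ := Away.mk_surjective ℬ hg z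
  have hb' : φ b ∈ 𝒜 (k • (n * d)) := by
    have := φ_mem d φ hdeg hb
    rw [smul_eq_mul] at this
    rwa [smul_eq_mul, ← mul_assoc]
  refine ⟨Away.mk 𝒜 (φ_mem d φ hdeg hg) k (φ b) hb', ?_⟩
  rw [Away.val_mk, ψ_mk φ hg]

/-- the map `B_(g) → A_(φ g)`. -/
noncomputable def θ {n : ℕ} {g : B} (hg : g ∈ ℬ n) : Away ℬ g →+* Away 𝒜 (φ g) := by
  let e := RingEquiv.ofLeftInverse (f := algebraMap (Away 𝒜 (φ g)) (Localization.Away (φ g)))
    (h := (val_injective _).hasLeftInverse.choose_spec)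
  refine RingHom.comp (e.symm.toRingHom.comp (Subring.inclusion ?_)) (ψ (ℬ := ℬ) φ g).rangeRestrict
  exact range_ψ_subset d φ hdeg hg

theorem val_θ {n : ℕ} {g : B} (hg : g ∈ ℬ n) (z : Away ℬ g) :
    (θ d φ hdeg hg z).val = ψ (ℬ := ℬ) φ g z := by
  let e := RingEquiv.ofLeftInverse (f := algebraMap (Away 𝒜 (φ g)) (Localization.Away (φ g)))
    (h := (val_injective _).hasLeftInverse.choose_spec)
  dsimp [θ]
  convert_to! (e (e.symm ⟨ψ (ℬ := ℬ) φ g z, range_ψ_subset d φ hdeg hg ⟨_, rfl⟩⟩)).1 = _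
  rw [e.apply_symm_apply]

theorem θ_mk {n : ℕ} {g : B} (hg : g ∈ ℬ n) (k : ℕ) (b : B) (hb : b ∈ ℬ (k • n))
    (hb' : φ b ∈ 𝒜 (k • (n * d))) :
    θ d φ hdeg hg (Away.mk ℬ hg k b hb) = Away.mk 𝒜 (φ_mem d φ hdeg hg) k (φ b) hb' := by
  apply val_injective
  rw [val_θ, ψ_mk φ hg, Away.val_mk]

include hφ in
theorem θ_injective {n : ℕ} {g : B} (hg : g ∈ ℬ n) : Function.Injective (θ d φ hdeg hg) := by
  intro z z' h
  have h' := congrArg HomogeneousLocalization.val h
  rw [val_θ, val_θ, ψ, RingHom.comp_apply, RingHom.comp_apply] at h'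
  have hinj : Function.Injective (Localization.awayMap φ.toRingHom g) := by
    rw [Localization.awayMap_injective_iff]
    intro a ha
    refine ⟨0, ?_⟩
    have : a = 0 := hφ (ha.trans (map_zero φ).symm)
    rw [this, mul_zero]
  exact val_injective _ (hinj h')

include hdeg in
theorem θ_surjective {n : ℕ} {g : B} (hg : g ∈ ℬ n) : Function.Surjective (θ d φ hdeg hg) := by
  intro z
  obtain ⟨k, a, ha, rfl⟩ := Away.mk_surjective 𝒜 (φ_mem d φ hdeg hg) z
  have ha' : a ∈ 𝒜 ((k • n) * d) := by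
    rw [smul_eq_mul] at ha ⊢
    rwa [mul_assoc]
  obtain ⟨b, hb, rfl⟩ := exists_of_mem d φ hdeg ha'
  exact ⟨Away.mk ℬ hg k b hb, θ_mk d φ hdeg hg k b hb ha⟩

theorem loc_sq {g g' x : B} (hx : x = g * g') (hx' : φ x = φ g * φ g') :
    (Localization.awayMap φ.toRingHom x).comp
      (Localization.awayLift (algebraMap B (Localization.Away x)) g
        (isUnit_of_dvd_unit (map_dvd _ ⟨_, hx⟩) (IsLocalization.Away.algebraMap_isUnit x))) =
    (Localization.awayLift (algebraMap A (Localization.Away (φ x))) (φ g)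
        (isUnit_of_dvd_unit (map_dvd _ ⟨_, hx'⟩) (IsLocalization.Away.algebraMap_isUnit (φ x)))).comp
      (Localization.awayMap φ.toRingHom g) := by
  apply IsLocalization.ringHom_ext (Submonoid.powers g)
  ext b
  simp only [RingHom.comp_apply, Localization.awayLift, Localization.awayMap,
    IsLocalization.Away.lift_eq, IsLocalization.Away.map, IsLocalization.map_eq]
  simp

theorem θ_natural {n n' : ℕ} {g g' x : B} (hg : g ∈ ℬ n) (hg' : g' ∈ ℬ n') (hx : x = g * g')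
    (hxm : x ∈ ℬ (n + n')) (hx' : φ x = φ g * φ g') :
    (θ d φ hdeg hxm).comp (awayMap ℬ hg' hx) =
      (awayMap 𝒜 (φ_mem d φ hdeg hg') hx').comp (θ d φ hdeg hg) := by
  ext z
  rw [RingHom.comp_apply, RingHom.comp_apply, val_θ, val_awayMap, val_θ, ψ, ψ, RingHom.comp_apply,
    RingHom.comp_apply, HomogeneousLocalization.algebraMap_apply, HomogeneousLocalization.algebraMap_apply,
    val_awayMap]
  exact congrArg (fun F => F z.val) (loc_sq φ hx hx')

end ring

section geom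
variable {R A : Type u} [CommRing R] [CommRing A] [Algebra R A] {𝒜 : ℕ → Submodule R A} [GradedAlgebra 𝒜]
    {B : Type u} [CommRing B] [Algebra R B] {ℬ : ℕ → Submodule R B} [GradedAlgebra ℬ]
    (d : ℕ) (hd : 0 < d) (φ : B →ₐ[R] A) (hφ : Function.Injective φ)
    (hdeg : ∀ n : ℕ, Submodule.map φ.toLinearMap (ℬ n) = 𝒜 (n * d))

/-- index type of charts -/
structure J (ℬ : ℕ → Submodule R B) where
  n : ℕ
  g : B
  hn : 0 < n
  hg : g ∈ ℬ n

/-- the chart maps to `Proj ℬ`. -/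
noncomputable abbrev gmap (j : J ℬ) : Spec (CommRingCat.of (Away 𝒜 (φ j.g))) ⟶ Proj ℬ :=
  Spec.map (CommRingCat.ofHom (θ d φ hdeg j.hg)) ≫ Proj.awayι ℬ j.g j.hg j.hn

/-- the charts of `Proj 𝒜`. -/
noncomputable abbrev amap (j : J ℬ) : Spec (CommRingCat.of (Away 𝒜 (φ j.g))) ⟶ Proj 𝒜 :=
  Proj.awayι 𝒜 (φ j.g) (φ_mem d φ hdeg j.hg) (Nat.mul_pos j.hn hd)

theorem awayι_congr {m m' : ℕ} (h : m = m') {x : B} (hx : x ∈ ℬ m) (hm : 0 < m) (hx' : x ∈ ℬ m')
    (hm' : 0 < m') : Proj.awayι ℬ x hx hm = Proj.awayι ℬ x hx' hm' := by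
  subst h; rfl

theorem key_N {n n' m : ℕ} {g g' x : B} (hn : 0 < n) (hg : g ∈ ℬ n) (hg' : g' ∈ ℬ n')
    (hx : x = g * g') (hm : m = n + n') (hxm : x ∈ ℬ m) (hmpos : 0 < m)
    (hx' : φ x = φ g * φ g') :
    Spec.map (CommRingCat.ofHom (awayMap 𝒜 (φ_mem d φ hdeg hg') hx')) ≫
      Spec.map (CommRingCat.ofHom (θ d φ hdeg hg)) ≫ Proj.awayι ℬ g hg hn =
    Spec.map (CommRingCat.ofHom (θ d φ hdeg hxm)) ≫ Proj.awayι ℬ x hxm hmpos := by
  subst hm
  rw [← Proj.SpecMap_awayMap_awayι ℬ hg hn hg' hx, ← Spec.map_comp_assoc, ← Spec.map_comp_assoc,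
    ← CommRingCat.ofHom_comp, ← CommRingCat.ofHom_comp, θ_natural d φ hdeg hg hg' hx hxm hx']

include hdeg in
theorem exists_chart (x : Proj 𝒜) : ∃ j : J ℬ, x ∈ Proj.basicOpen 𝒜 (φ j.g) := by
  have h1 := x.not_irrelevant_le
  rw [HomogeneousIdeal.irrelevant_le] at h1
  push Not at h1
  obtain ⟨e, he, hnle⟩ := h1
  obtain ⟨f, hf0, hfx⟩ := SetLike.not_le_iff_exists.mp hnle
  have hf : f ∈ 𝒜 e := hf0
  have hfd : f ^ d ∈ 𝒜 (e * d) := by
    have := SetLike.pow_mem_graded d hf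
    rwa [smul_eq_mul, mul_comm] at this
  obtain ⟨g, hg, hφg⟩ := exists_of_mem d φ hdeg hfd
  refine ⟨⟨e, g, he, hg⟩, ?_⟩
  rw [Proj.mem_basicOpen]
  change φ g ∉ _
  rw [hφg]
  intro hmem
  exact hfx (x.isPrime.mem_of_pow_mem _ hmem)

/-- the open cover of `Proj 𝒜` by the `D₊(φ g)`. -/
noncomputable def cover : (Proj 𝒜).OpenCover :=
  Scheme.Cover.mkOfCovers (J ℬ) (fun j => Spec (CommRingCat.of (Away 𝒜 (φ j.g))))
    (fun j => amap d hd φ hdeg j) (fun x => by
      obtain ⟨j, hj⟩ := exists_chart d φ hdeg x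
      have : x ∈ (amap d hd φ hdeg j).opensRange := by
        rw [Proj.opensRange_awayι]; exact hj
      obtain ⟨w, hw⟩ := this
      exact ⟨j, w, hw⟩)

theorem compat (i j : J ℬ) :
    pullback.fst (amap d hd φ hdeg i) (amap d hd φ hdeg j) ≫ gmap d φ hdeg i =
      pullback.snd (amap d hd φ hdeg i) (amap d hd φ hdeg j) ≫ gmap d φ hdeg j := by
  have hx' : φ (i.g * j.g) = φ i.g * φ j.g := map_mul φ _ _
  have l1 := Proj.pullbackAwayιIso_hom_SpecMap_awayMap_left 𝒜 (φ_mem d φ hdeg i.hg)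
    (Nat.mul_pos i.hn hd) (φ_mem d φ hdeg j.hg) (Nat.mul_pos j.hn hd) hx'
  have l2 := Proj.pullbackAwayιIso_hom_SpecMap_awayMap_right 𝒜 (φ_mem d φ hdeg i.hg)
    (Nat.mul_pos i.hn hd) (φ_mem d φ hdeg j.hg) (Nat.mul_pos j.hn hd) hx'
  rw [← l1, ← l2, Category.assoc, Category.assoc]
  congr 1
  have hxm : i.g * j.g ∈ ℬ (i.n + j.n) := SetLike.mul_mem_graded i.hg j.hg
  have hpos : 0 < i.n + j.n := Nat.add_pos_left i.hn _
  have k1 := key_N d φ hdeg i.hn i.hg j.hg rfl rfl hxm hpos hx'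
  have k2 := key_N d φ hdeg j.hn j.hg i.hg (mul_comm i.g j.g) (Nat.add_comm _ _) hxm hpos
    (hx'.trans (mul_comm _ _))
  rw [gmap, gmap, k1, k2]

/-- the glued morphism. -/
noncomputable def e₀ : Proj 𝒜 ⟶ Proj ℬ :=
  (cover d hd φ hdeg).glueMorphisms (gmap d φ hdeg) (compat d hd φ hdeg)

theorem amap_e₀ (j : J ℬ) : amap d hd φ hdeg j ≫ e₀ d hd φ hdeg = gmap d φ hdeg j :=
  (cover d hd φ hdeg).ι_glueMorphisms (gmap d φ hdeg) (compat d hd φ hdeg) j

theorem e₀_amap_base (j : J ℬ) (w : Spec (CommRingCat.of (Away 𝒜 (φ j.g)))) :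
    (e₀ d hd φ hdeg).base ((amap d hd φ hdeg j).base w) =
      (Proj.awayι ℬ j.g j.hg j.hn).base
        ((Spec.map (CommRingCat.ofHom (θ d φ hdeg j.hg))).base w) := by
  have := congrArg (fun k => k.base w) (amap_e₀ d hd φ hdeg j)
  simp only [Scheme.Hom.comp_base, TopCat.hom_comp, ContinuousMap.comp_apply] at this
  exact this

theorem elem_eq (j' j : J ℬ) :
    Away.isLocalizationElem (φ_mem d φ hdeg j'.hg) (φ_mem d φ hdeg j.hg) =
      (θ d φ hdeg j'.hg (Away.isLocalizationElem j'.hg j.hg)) ^ d := by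
  apply val_injective
  rw [HomogeneousLocalization.val_pow, val_θ, Away.isLocalizationElem, Away.isLocalizationElem,
    ψ_mk φ j'.hg, Away.val_mk, Localization.mk_pow]
  congr 1
  · rw [map_pow, ← pow_mul]
  · apply Subtype.ext
    change φ j'.g ^ (j.n * d) = (φ j'.g ^ j.n) ^ d
    rw [← pow_mul]

include hd in
theorem mem_preimage_iff (j : J ℬ) (x : Proj 𝒜) :
    (e₀ d hd φ hdeg).base x ∈ Proj.basicOpen ℬ j.g ↔ x ∈ Proj.basicOpen 𝒜 (φ j.g) := by
  obtain ⟨j', hj'⟩ := exists_chart d φ hdeg x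
  have hx : x ∈ (amap d hd φ hdeg j').opensRange := by
    rw [Proj.opensRange_awayι]; exact hj'
  obtain ⟨w, rfl⟩ := hx
  rw [e₀_amap_base]
  have h1 := Proj.awayι_preimage_basicOpen ℬ j'.hg j'.hn j.hg j.hn
  have h2 := Proj.awayι_preimage_basicOpen 𝒜 (φ_mem d φ hdeg j'.hg) (Nat.mul_pos j'.hn hd)
    (φ_mem d φ hdeg j.hg) (Nat.mul_pos j.hn hd)
  have e1 : (Proj.awayι ℬ j'.g j'.hg j'.hn).base
        ((Spec.map (CommRingCat.ofHom (θ d φ hdeg j'.hg))).base w) ∈ Proj.basicOpen ℬ j.g ↔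
      θ d φ hdeg j'.hg (Away.isLocalizationElem j'.hg j.hg) ∉ w.asIdeal := by
    change ((Spec.map (CommRingCat.ofHom (θ d φ hdeg j'.hg))).base w) ∈
        (Proj.awayι ℬ j'.g j'.hg j'.hn) ⁻¹ᵁ Proj.basicOpen ℬ j.g ↔ _
    exact (iff_of_eq (congrArg (fun O : (Spec (CommRingCat.of (Away ℬ j'.g))).Opens =>
      ((Spec.map (CommRingCat.ofHom (θ d φ hdeg j'.hg))).base w) ∈ O) h1)).trans Iff.rfl
  have e2 : (amap d hd φ hdeg j').base w ∈ Proj.basicOpen 𝒜 (φ j.g) ↔
      Away.isLocalizationElem (φ_mem d φ hdeg j'.hg) (φ_mem d φ hdeg j.hg) ∉ w.asIdeal := by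
    change w ∈ (amap d hd φ hdeg j') ⁻¹ᵁ Proj.basicOpen 𝒜 (φ j.g) ↔ _
    exact (iff_of_eq (congrArg (fun O : (Spec (CommRingCat.of (Away 𝒜 (φ j'.g)))).Opens =>
      w ∈ O) h2)).trans Iff.rfl
  rw [e1, e2, elem_eq, not_iff_not]
  have hw : w.asIdeal.IsPrime := w.isPrime
  constructor
  · intro h
    exact Ideal.pow_mem_of_mem _ h _ hd
  · intro h
    exact hw.mem_of_pow_mem _ h

include hφ in
theorem isIso_e₀ : IsIso (e₀ d hd φ hdeg) := by
  change MorphismProperty.isomorphisms Scheme.{u} _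
  refine ProjQMap.of_charts (MorphismProperty.isomorphisms Scheme.{u}) (e₀ d hd φ hdeg) (ι := J ℬ)
    (fun j => Spec (CommRingCat.of (Away ℬ j.g))) (fun j => Spec (CommRingCat.of (Away 𝒜 (φ j.g))))
    (fun j => Proj.awayι ℬ j.g j.hg j.hn) (fun j => inferInstance)
    (fun j => amap d hd φ hdeg j) (fun j => inferInstance)
    (fun j => Spec.map (CommRingCat.ofHom (θ d φ hdeg j.hg))) ?_ (fun j => amap_e₀ d hd φ hdeg j) ?_ ?_
  · intro x
    have h1 := x.not_irrelevant_le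
    rw [HomogeneousIdeal.irrelevant_le] at h1
    push Not at h1
    obtain ⟨e, he, hnle⟩ := h1
    obtain ⟨f, hf, hfx⟩ := SetLike.not_le_iff_exists.mp hnle
    refine ⟨⟨e, f, he, hf⟩, ?_⟩
    have : x ∈ (Proj.awayι ℬ f hf he).opensRange := by
      rw [Proj.opensRange_awayι, Proj.mem_basicOpen]; exact hfx
    exact this
  · intro j
    ext x
    have h1 : x ∈ (e₀ d hd φ hdeg) ⁻¹ᵁ (Proj.awayι ℬ j.g j.hg j.hn).opensRange ↔
        (e₀ d hd φ hdeg).base x ∈ Proj.basicOpen ℬ j.g := by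
      rw [Proj.opensRange_awayι]; rfl
    have h2 : x ∈ (amap d hd φ hdeg j).opensRange ↔ x ∈ Proj.basicOpen 𝒜 (φ j.g) := by
      rw [Proj.opensRange_awayι]
    exact (h1.trans (mem_preimage_iff d hd φ hdeg j x)).trans h2.symm
  · intro j
    change IsIso (Spec.map (CommRingCat.ofHom (θ d φ hdeg j.hg)))
    have hb : Function.Bijective (θ d φ hdeg j.hg) :=
      ⟨θ_injective d φ hφ hdeg j.hg, θ_surjective d φ hdeg j.hg⟩
    have : IsIso (CommRingCat.ofHom (θ d φ hdeg j.hg)) :=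
      (ConcreteCategory.isIso_iff_bijective _).mpr hb
    infer_instance

include hd hdeg in
theorem decompose_φ (z : B) (i : ℕ) :
    (DirectSum.decompose 𝒜 (φ z) (i * d) : A) = φ (DirectSum.decompose ℬ z i : B) := by
  classical
  conv_lhs => rw [← DirectSum.sum_support_decompose ℬ z]
  rw [map_sum, DirectSum.decompose_sum, DFinsupp.finset_sum_apply, AddSubmonoidClass.coe_finset_sum]
  by_cases hi : i ∈ (DirectSum.decompose ℬ z).support
  · rw [Finset.sum_eq_single_of_mem i hi]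
    · exact DirectSum.decompose_of_mem_same 𝒜 (φ_mem d φ hdeg (SetLike.coe_mem _))
    · intro j _ hji
      exact DirectSum.decompose_of_mem_ne 𝒜 (φ_mem d φ hdeg (SetLike.coe_mem _))
        (fun h => hji (Nat.eq_of_mul_eq_mul_right hd h))
  · have hz : (DirectSum.decompose ℬ z i : B) = 0 := by
      rw [DFinsupp.mem_support_iff, not_not] at hi
      rw [hi]; rfl
    rw [hz, map_zero]
    refine Finset.sum_eq_zero fun j hj => ?_
    refine DirectSum.decompose_of_mem_ne 𝒜 (φ_mem d φ hdeg (SetLike.coe_mem _)) (fun h => ?_)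
    have : j = i := Nat.eq_of_mul_eq_mul_right hd h
    exact hi (this ▸ hj)

include hd in
theorem homog_pos_mem_iff (p : Proj 𝒜) {m : ℕ} (hm : 0 < m) {b : B} (hb : b ∈ ℬ m) :
    b ∈ ((e₀ d hd φ hdeg).base p).asHomogeneousIdeal ↔ φ b ∈ p.asHomogeneousIdeal := by
  have := mem_preimage_iff d hd φ hdeg ⟨m, b, hm, hb⟩ p
  rw [Proj.mem_basicOpen, Proj.mem_basicOpen] at this
  exact not_iff_not.mp this

include hd in
theorem homog_mem_iff (p : Proj 𝒜) {m : ℕ} {b : B} (hb : b ∈ ℬ m) :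
    b ∈ ((e₀ d hd φ hdeg).base p).asHomogeneousIdeal ↔ φ b ∈ p.asHomogeneousIdeal := by
  obtain ⟨j, hj⟩ := exists_chart d φ hdeg p
  rw [Proj.mem_basicOpen] at hj
  have hj' : j.g ∉ ((e₀ d hd φ hdeg).base p).asHomogeneousIdeal := fun h =>
    hj ((homog_pos_mem_iff d hd φ hdeg p j.hn j.hg).mp h)
  have hbg : b * j.g ∈ ℬ (m + j.n) := SetLike.mul_mem_graded hb j.hg
  have hpos : 0 < m + j.n := Nat.add_pos_right _ j.hn
  have key := homog_pos_mem_iff d hd φ hdeg p hpos hbg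
  rw [map_mul] at key
  have hp : p.asHomogeneousIdeal.toIdeal.IsPrime := p.isPrime
  have hq : ((e₀ d hd φ hdeg).base p).asHomogeneousIdeal.toIdeal.IsPrime :=
    ((e₀ d hd φ hdeg).base p).isPrime
  constructor
  · intro h
    have h1 : φ b * φ j.g ∈ p.asHomogeneousIdeal.toIdeal := key.mp (Ideal.mul_mem_right _ _ h)
    exact (hp.mem_or_mem h1).resolve_right hj
  · intro h
    have h1 : b * j.g ∈ ((e₀ d hd φ hdeg).base p).asHomogeneousIdeal.toIdeal :=
      key.mpr (Ideal.mul_mem_right _ _ h)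
    exact (hq.mem_or_mem h1).resolve_right hj'

include hd in
theorem point_formula (p : Proj 𝒜) :
    ((e₀ d hd φ hdeg).base p).asHomogeneousIdeal.toIdeal =
      Ideal.comap φ p.asHomogeneousIdeal.toIdeal := by
  classical
  ext z
  rw [Ideal.mem_comap]
  constructor
  · intro hz
    rw [← DirectSum.sum_support_decompose ℬ z, map_sum]
    refine Ideal.sum_mem _ fun i _ => ?_
    have hzi : (DirectSum.decompose ℬ z i : B) ∈ ((e₀ d hd φ hdeg).base p).asHomogeneousIdeal :=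
      ((e₀ d hd φ hdeg).base p).asHomogeneousIdeal.isHomogeneous i hz
    exact (homog_mem_iff d hd φ hdeg p (SetLike.coe_mem _)).mp hzi
  · intro hz
    rw [← DirectSum.sum_support_decompose ℬ z]
    refine Ideal.sum_mem _ fun i _ => ?_
    apply (homog_mem_iff d hd φ hdeg p (SetLike.coe_mem _)).mpr
    rw [← decompose_φ d hd φ hdeg z i]
    exact p.asHomogeneousIdeal.isHomogeneous (i * d) hz

include hφ in
theorem main :
    ∃ e : Proj 𝒜 ≅ Proj ℬ,
      (∀ p : Proj 𝒜, (e.hom.base p).asHomogeneousIdeal.toIdeal =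
        Ideal.comap φ p.asHomogeneousIdeal.toIdeal) ∧
      ∀ (n : ℕ) (g : B) (hn : 0 < n) (hg : g ∈ ℬ n)
        (θ' : CommRingCat.of (HomogeneousLocalization.Away ℬ g) ⟶
          CommRingCat.of (HomogeneousLocalization.Away 𝒜 (φ g))),
        (algebraMap (HomogeneousLocalization.Away 𝒜 (φ g)) (Localization.Away (φ g))).comp θ'.hom =
          (Localization.awayMap φ.toRingHom g).comp
            (algebraMap (HomogeneousLocalization.Away ℬ g) (Localization.Away g)) →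
        Proj.awayι 𝒜 (φ g) ((hdeg n).le (Submodule.mem_map_of_mem hg)) (Nat.mul_pos hn hd) ≫ e.hom =
          Spec.map θ' ≫ Proj.awayι ℬ g hg hn := by
  have := isIso_e₀ d hd φ hφ hdeg
  refine ⟨asIso (e₀ d hd φ hdeg), fun p => point_formula d hd φ hdeg p, ?_⟩
  intro n g hn hg θ' hθ'
  have h1 : θ' = CommRingCat.ofHom (θ d φ hdeg hg) := by
    apply CommRingCat.hom_ext
    refine RingHom.ext fun z => val_injective _ ?_
    have h2 := congrArg (fun F => F z) hθ'
    simp only [RingHom.comp_apply, HomogeneousLocalization.algebraMap_apply] at h2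
    rw [CommRingCat.hom_ofHom, val_θ, ψ, RingHom.comp_apply, HomogeneousLocalization.algebraMap_apply]
    exact h2
  rw [h1]
  exact amap_e₀ d hd φ hdeg ⟨n, g, hn, hg⟩

end geom

end Groth.Agent.S3580aux

namespace Groth.Agent.S3580

/-- Let S be a graded ring, d > 0, and S^{(d)} the graded ring with S^{(d)}_n = S_{nd} (here: any graded
ring S' with an injective algebra homomorphism φ : S' → S carrying S'_n onto S_{nd} for every n).
Then there is an isomorphism of schemes Proj S ≅ Proj S^{(d)} sending a homogeneous prime p to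
φ⁻¹(p), and which over each standard open D_+(g), g ∈ S'_n with n > 0, is induced by the ring
isomorphism S'_(g) ≅ S_(φ g), b/g^k ↦ φ(b)/φ(g)^k; precisely: for every ring map θ : S'_(g) → S_(φ
g) compatible with b/g^k ↦ φ(b)/φ(g)^k inside the localizations, the composite of Spec S_(φ g) →
Proj S with the isomorphism equals Spec θ followed by Spec S'_(g) → Proj S'. -/
theorem result {R A : Type u} [CommRing R] [CommRing A] [Algebra R A] (𝒜 : ℕ → Submodule R A) [GradedAlgebra 𝒜]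
    {B : Type u} [CommRing B] [Algebra R B] (ℬ : ℕ → Submodule R B) [GradedAlgebra ℬ]
    (d : ℕ) (hd : 0 < d) (φ : B →ₐ[R] A) (hφ : Function.Injective φ)
    (hdeg : ∀ n : ℕ, Submodule.map φ.toLinearMap (ℬ n) = 𝒜 (n * d)) :
    ∃ e : Proj 𝒜 ≅ Proj ℬ,
      (∀ p : Proj 𝒜, (e.hom.base p).asHomogeneousIdeal.toIdeal = Ideal.comap φ p.asHomogeneousIdeal.toIdeal) ∧
      ∀ (n : ℕ) (g : B) (hn : 0 < n) (hg : g ∈ ℬ n)
        (θ : CommRingCat.of (HomogeneousLocalization.Away ℬ g) ⟶ CommRingCat.of (HomogeneousLocalization.Away 𝒜 (φ g))),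
        (algebraMap (HomogeneousLocalization.Away 𝒜 (φ g)) (Localization.Away (φ g))).comp θ.hom =
          (Localization.awayMap φ.toRingHom g).comp
            (algebraMap (HomogeneousLocalization.Away ℬ g) (Localization.Away g)) →
        Proj.awayι 𝒜 (φ g) ((hdeg n).le (Submodule.mem_map_of_mem hg)) (Nat.mul_pos hn hd) ≫ e.hom =
          Spec.map θ ≫ Proj.awayι ℬ g hg hn := by
  exact Groth.Agent.S3580aux.main d hd φ hφ hdeg

end Groth.Agent.S3580
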