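import Groth.Statements.S3581
import Mathlib

set_option autoImplicit false
universe u
open CategoryTheory CategoryTheory.Limits AlgebraicGeometry
open EGA2

namespace Groth.Agent.S3581aux
open CategoryTheory CategoryTheory.Limits AlgebraicGeometry HomogeneousLocalization MvPolynomial

lemma hom1 {R : Type u} [CommRing R] (n : ℕ) (a : MvPolynomial (Fin 1) R) (h : a.IsHomogeneous n) :
    a = monomial (Finsupp.single 0 n) (coeff (Finsupp.single 0 n) a) := by
  ext d
  rw [coeff_monomial]
  split_ifs with hd
  · rw [hd]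
  · by_contra hne
    apply hd
    have h1 := h hne
    refine Finsupp.ext fun i => ?_
    have hi : i = 0 := Subsingleton.elim _ _
    subst hi
    simp only [Finsupp.single_eq_same]
    rw [← h1]
    simp [Finsupp.weight, Finsupp.linearCombination, Finsupp.sum_fintype]

variable (R : Type u) [CommRing R]

/-- The map `R → (R[T]_T)₀`. -/
noncomputable abbrev g : R →+* Away (CohB1.polyGrading 0 R) (X 0 : MvPolynomial (Fin 1) R) :=
  (fromZeroRingHom (CohB1.polyGrading 0 R) (Submonoid.powers (X 0 : MvPolynomial (Fin 1) R))).comp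
      (algebraMap R (CohB1.polyGrading 0 R 0))

lemma g_val (c : R) : (g R c).val =
    algebraMap (MvPolynomial (Fin 1) R) (Localization.Away (X 0 : MvPolynomial (Fin 1) R)) (C c) := by
  simp only [g, RingHom.coe_comp, Function.comp_apply, fromZeroRingHom, RingHom.coe_mk,
    MonoidHom.coe_mk, OneHom.coe_mk, val_mk]
  rw [← Localization.mk_one_eq_algebraMap]
  rfl

lemma g_surjective : Function.Surjective (g R) := by
  intro x
  have f_deg : (X 0 : MvPolynomial (Fin 1) R) ∈ CohB1.polyGrading 0 R 1 := isHomogeneous_X R 0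
  obtain ⟨n, a, ha, rfl⟩ := Away.mk_surjective (CohB1.polyGrading 0 R) f_deg x
  have ha' : a.IsHomogeneous n := by simpa using ha
  refine ⟨coeff (Finsupp.single 0 n) a, ?_⟩
  apply HomogeneousLocalization.val_injective
  rw [g_val, Away.val_mk, ← Localization.mk_one_eq_algebraMap, Localization.mk_eq_mk_iff,
    Localization.r_iff_exists]
  refine ⟨1, ?_⟩
  conv_rhs => rw [hom1 n a ha']
  simp only [OneMemClass.coe_one, one_mul]
  rw [monomial_eq]
  simp [mul_comm]


/-- Evaluation at `T = 1`, extended to `(R[T]_T)₀`. -/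
noncomputable def ρ : Away (CohB1.polyGrading 0 R) (X 0 : MvPolynomial (Fin 1) R) →+* R :=
  (IsLocalization.Away.lift (S := Localization.Away (X 0 : MvPolynomial (Fin 1) R))
    (X 0 : MvPolynomial (Fin 1) R) (g := MvPolynomial.eval (fun _ => (1 : R)))
    (by simp)).comp
    (algebraMap (Away (CohB1.polyGrading 0 R) (X 0 : MvPolynomial (Fin 1) R))
      (Localization.Away (X 0 : MvPolynomial (Fin 1) R)))

lemma ρ_g (c : R) : ρ R (g R c) = c := by
  simp only [ρ, RingHom.coe_comp, Function.comp_apply]
  rw [HomogeneousLocalization.algebraMap_apply]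
  have := g_val R c
  simp only [g, RingHom.coe_comp, Function.comp_apply] at this
  rw [this, IsLocalization.Away.lift_eq]
  simp

lemma ρ_bijective : Function.Bijective (ρ R) := by
  constructor
  · intro x y hxy
    obtain ⟨a, rfl⟩ := g_surjective R x
    obtain ⟨b, rfl⟩ := g_surjective R y
    rw [ρ_g, ρ_g] at hxy
    rw [hxy]
  · intro c
    exact ⟨g R c, ρ_g R c⟩

lemma basicOpen_X_eq_top :
    Proj.basicOpen (CohB1.polyGrading 0 R) (X 0 : MvPolynomial (Fin 1) R) = ⊤ := by
  have := Proj.iSup_basicOpen_eq_top' (CohB1.polyGrading 0 R)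
    (fun _ : Unit => (X 0 : MvPolynomial (Fin 1) R)) (fun _ => ⟨1, isHomogeneous_X R 0⟩) ?_
  · simpa using this
  · rw [eq_top_iff]
    rintro x -
    induction x using MvPolynomial.induction_on with
    | C a =>
      exact Subalgebra.algebraMap_mem _
        (⟨C a, isHomogeneous_C _ a⟩ : CohB1.polyGrading 0 R 0)
    | add p q hp hq => exact add_mem hp hq
    | mul_X p i hp =>
      refine mul_mem hp (Algebra.subset_adjoin ⟨(), ?_⟩)
      have : i = 0 := Subsingleton.elim _ _
      rw [this]

lemma isIso_awayι : IsIso (Proj.awayι (CohB1.polyGrading 0 R) (X 0 : MvPolynomial (Fin 1) R)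
    (isHomogeneous_X R 0) Nat.one_pos) := by
  apply isIso_of_isOpenImmersion_of_opensRange_eq_top
  rw [Proj.opensRange_awayι, basicOpen_X_eq_top]

lemma main' : IsIso (Proj.toSpecZero (CohB1.polyGrading 0 R) ≫
    Spec.map (CommRingCat.ofHom (algebraMap R (CohB1.polyGrading 0 R 0)))) := by
  have h1 : IsIso (Spec.map (CommRingCat.ofHom (ρ R))) := by
    have : IsIso (CommRingCat.ofHom (ρ R)) :=
      (ConcreteCategory.isIso_iff_bijective _).mpr (ρ_bijective R)
    infer_instance
  have h2 := isIso_awayι R
  have h3 : (Spec.map (CommRingCat.ofHom (ρ R)) ≫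
      Proj.awayι (CohB1.polyGrading 0 R) (X 0 : MvPolynomial (Fin 1) R)
        (isHomogeneous_X R 0) Nat.one_pos) ≫
      (Proj.toSpecZero (CohB1.polyGrading 0 R) ≫
        Spec.map (CommRingCat.ofHom (algebraMap R (CohB1.polyGrading 0 R 0)))) = 𝟙 _ := by
    rw [Category.assoc, Proj.awayι_toSpecZero_assoc, ← Spec.map_comp,
      ← Spec.map_comp, ← CommRingCat.ofHom_comp, ← CommRingCat.ofHom_comp]
    have : (ρ R).comp ((fromZeroRingHom (CohB1.polyGrading 0 R)
        (Submonoid.powers (X 0 : MvPolynomial (Fin 1) R))).comp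
        (algebraMap R (CohB1.polyGrading 0 R 0))) = RingHom.id R := by
      ext c
      exact ρ_g R c
    rw [this]
    simp
  have h4 : IsIso ((Spec.map (CommRingCat.ofHom (ρ R)) ≫
      Proj.awayι (CohB1.polyGrading 0 R) (X 0 : MvPolynomial (Fin 1) R)
        (isHomogeneous_X R 0) Nat.one_pos) ≫
      (Proj.toSpecZero (CohB1.polyGrading 0 R) ≫
        Spec.map (CommRingCat.ofHom (algebraMap R (CohB1.polyGrading 0 R 0))))) := by
    rw [h3]; infer_instance
  exact IsIso.of_isIso_comp_left (Spec.map (CommRingCat.ofHom (ρ R)) ≫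
      Proj.awayι (CohB1.polyGrading 0 R) (X 0 : MvPolynomial (Fin 1) R)
        (isHomogeneous_X R 0) Nat.one_pos) _

lemma main : IsIso (CohB1.ProjSpace.toSpec 0 R) := main' R

end Groth.Agent.S3581aux

namespace Groth.Agent.S3581

/-- Over an affine base Spec A, Proj of the graded polynomial algebra A[T] (T of degree one) is
identified with Spec A by its structure morphism: the structure morphism from projective 0-space
over A to Spec A is an isomorphism. -/
theorem result (A : Type u) [CommRing A] :
    IsIso (CohB1.ProjSpace.toSpec 0 A) := by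
  exact S3581aux.main A

end Groth.Agent.S3581
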