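import Groth.Statements.S3582
import Mathlib

set_option autoImplicit false
universe u
open CategoryTheory CategoryTheory.Limits AlgebraicGeometry
open EGA2

namespace Groth.Agent.S3582aux
open CategoryTheory CategoryTheory.Limits AlgebraicGeometry HomogeneousLocalization

/-- The structure morphism of projective space over a ring has a section. -/
lemma exists_section' (r : ℕ) (R : Type u) [CommRing R] :
    ∃ σ : Spec (CommRingCat.of R) ⟶ Proj (CohB1.polyGrading r R),
      σ ≫ (Proj.toSpecZero (CohB1.polyGrading r R) ≫
        Spec.map (CommRingCat.ofHom (algebraMap R (CohB1.polyGrading r R 0)))) = 𝟙 _ := by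
  let f : MvPolynomial (Fin (r + 1)) R := MvPolynomial.X 0
  have f_deg : f ∈ CohB1.polyGrading r R 1 := MvPolynomial.isHomogeneous_X R 0
  let ev : MvPolynomial (Fin (r + 1)) R →+* R := MvPolynomial.eval (fun _ => 1)
  have hu : IsUnit (ev f) := by simp [ev, f]
  let ρ' : Localization.Away f →+* R := IsLocalization.Away.lift f hu
  let ρ : Away (CohB1.polyGrading r R) f →+* R :=
    ρ'.comp (algebraMap (Away (CohB1.polyGrading r R) f) (Localization.Away f))
  refine ⟨Spec.map (CommRingCat.ofHom ρ) ≫
    Proj.awayι (CohB1.polyGrading r R) f f_deg Nat.one_pos, ?_⟩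
  rw [Category.assoc, Proj.awayι_toSpecZero_assoc, ← Spec.map_comp,
    ← Spec.map_comp, ← CommRingCat.ofHom_comp, ← CommRingCat.ofHom_comp]
  have : ρ.comp ((fromZeroRingHom (CohB1.polyGrading r R) (Submonoid.powers f)).comp
      (algebraMap R (CohB1.polyGrading r R 0))) = RingHom.id R := by
    ext a
    simp only [RingHom.coe_comp, Function.comp_apply, RingHom.id_apply, ρ]
    rw [HomogeneousLocalization.algebraMap_apply]
    have : (fromZeroRingHom (CohB1.polyGrading r R) (Submonoid.powers f)
        (algebraMap R (CohB1.polyGrading r R 0) a)).val =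
        algebraMap (MvPolynomial (Fin (r + 1)) R) (Localization.Away f) (MvPolynomial.C a) := by
      simp only [fromZeroRingHom, RingHom.coe_mk, MonoidHom.coe_mk, OneHom.coe_mk, val_mk]
      rw [← Localization.mk_one_eq_algebraMap]
      rfl
    rw [this]
    simp only [ρ', IsLocalization.Away.lift_eq]
    simp [ev]
  rw [this]
  simp


lemma exists_section (r : ℕ) (R : Type u) [CommRing R] :
    ∃ σ : Spec (CommRingCat.of R) ⟶ CohB1.ProjSpace r R, σ ≫ CohB1.ProjSpace.toSpec r R = 𝟙 _ :=
  exists_section' r R

lemma surjective_toSpec (r : ℕ) (R : Type u) [CommRing R] :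
    Surjective (CohB1.ProjSpace.toSpec r R) := by
  obtain ⟨σ, hσ⟩ := exists_section r R
  refine ⟨fun s => ⟨σ s, ?_⟩⟩
  rw [← Scheme.Hom.comp_apply, hσ]
  rfl

lemma main (r : ℕ) (Y : Scheme.{u}) : Surjective (CohB1.ProjSpaceOver.toBase r Y) := by
  have := surjective_toSpec r (ULift.{u} ℤ)
  unfold CohB1.ProjSpaceOver.toBase
  exact MorphismProperty.pullback_snd (P := @Surjective) _ _ this

end Groth.Agent.S3582aux

namespace Groth.Agent.S3582

/-- For every scheme Y and every r ≥ 0 the structure morphism from projective r-space over Y to Y is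
surjective. -/
theorem result (r : ℕ) (Y : Scheme.{u}) :
    Surjective (CohB1.ProjSpaceOver.toBase r Y) := by
  exact S3582aux.main r Y

end Groth.Agent.S3582
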