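import Groth.Statements.S3583
import Mathlib

set_option autoImplicit false
universe u
open CategoryTheory AlgebraicGeometry Opposite
open EGA2

namespace Groth.Agent.S3583

/-- In the form stated after its proof: let f : X → S and f' : X' → S be affine morphisms and h : X' → X
an S-morphism such that the O_S-algebra homomorphism A(h) : f_*O_X → f'_*O_{X'} is surjective (as a
map of quasi-coherent O_S-modules, i.e. on sections over every affine open of S). Then h is a closed
immersion. -/
theorem result {X X' S : Scheme.{u}} (f : X ⟶ S) [IsAffineHom f]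
    (f' : X' ⟶ S) [IsAffineHom f'] (h : X' ⟶ X) (w : h ≫ f = f')
    (hsurj : ∀ U : S.affineOpens, Function.Surjective ((AffAlg.algHom f f' h w).app (op U.1)).hom) :
    IsClosedImmersion h := by
  subst w
  let U : S.affineOpens → X.affineOpens := fun V => ⟨f ⁻¹ᵁ V.1, V.2.preimage f⟩
  have hU : ⨆ V, ((U V : X.affineOpens) : X.Opens) = ⊤ := by
    rw [eq_top_iff]
    intro x _
    obtain ⟨V, hV, hxV, -⟩ := exists_isAffineOpen_mem_and_subset (x := f x) (U := ⊤) trivial
    exact TopologicalSpace.Opens.mem_iSup.mpr ⟨⟨V, hV⟩, hxV⟩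
  rw [HasAffineProperty.iff_of_iSup_eq_top (P := @IsClosedImmersion) U hU]
  intro V
  refine ⟨?_, ?_⟩
  · show IsAffineOpen (h ⁻¹ᵁ f ⁻¹ᵁ V.1)
    exact V.2.preimage (h ≫ f)
  · have key : ∀ (W W' : X.Opens), W = W' → Function.Surjective (h.app W).hom →
        Function.Surjective (h.app W').hom := by
      intro W W' e; subst e; exact id
    have h1 : Function.Surjective (h.app (f ⁻¹ᵁ V.1)).hom := by
      have h1 := hsurj V
      have h1' : ∀ (w : h ≫ f = h ≫ f),
          (AffAlg.algHom f (h ≫ f) h w).app (op V.1) = h.app (f ⁻¹ᵁ V.1) := by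
        intro w
        unfold AffAlg.algHom
        rw [NatTrans.comp_app, eqToHom_app]
        exact Category.comp_id _
      rw [h1'] at h1
      exact h1
    have h2 : Function.Surjective (h.app ((U V).1.ι ''ᵁ ⊤)).hom :=
      key (f ⁻¹ᵁ V.1) _ (U V).1.ι_image_top.symm h1
    have h3 : Function.Surjective (h.app ((U V).1.ι ''ᵁ ⊤) ≫
        X'.presheaf.map (eqToHom (image_morphismRestrict_preimage h (U V).1 ⊤)).op).hom := by
      rw [CommRingCat.hom_comp, RingHom.coe_comp]
      exact Function.Surjective.comp
        (ConcreteCategory.bijective_of_isIso (X'.presheaf.map (eqToHom _).op)).2 h2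
    rw [morphismRestrict_appTop]
    exact h3

end Groth.Agent.S3583
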