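import Groth.Statements.S3587
import Mathlib

set_option autoImplicit false
universe u
open CategoryTheory AlgebraicGeometry Opposite TopologicalSpace
open EGA2

namespace Groth.Agent.S3587

theorem comp_smul_eq_zero {R A : Type u} [CommRing R] [CommRing A] [Algebra R A]
    (𝒜 : ℕ → Submodule R A) [GradedAlgebra 𝒜]
    {M : Type u} [AddCommGroup M] [Module R M] [Module A M] [IsScalarTower R A M]
    (ℳ : ℕ → Submodule R M) [DirectSum.Decomposition ℳ] [SetLike.GradedSMul 𝒜 ℳ] {i : ℕ} {m : M}
    (hm : m ∈ ℳ i) {a : A} (ha : a • m = 0) (j : ℕ) :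
    (DirectSum.decompose 𝒜 a j : A) • m = 0 := by
  classical
  have hsum : a • m =
      ∑ l ∈ (DirectSum.decompose 𝒜 a).support, (DirectSum.decompose 𝒜 a l : A) • m := by
    conv_lhs => rw [← DirectSum.sum_support_decompose 𝒜 a]
    rw [Finset.sum_smul]
  have hmem : ∀ l, (DirectSum.decompose 𝒜 a l : A) • m ∈ ℳ (l + i) := fun l => by
    have := SetLike.GradedSMul.smul_mem (A := 𝒜) (B := ℳ) (DirectSum.decompose 𝒜 a l).2 hm
    simpa [vadd_eq_add] using this
  have h0 : (DirectSum.decompose ℳ (a • m) (j + i) : M) = (DirectSum.decompose 𝒜 a j : A) • m := by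
    rw [hsum, DirectSum.decompose_sum, DFinsupp.finset_sum_apply, AddSubmonoidClass.coe_finset_sum]
    by_cases hj : j ∈ (DirectSum.decompose 𝒜 a).support
    · rw [Finset.sum_eq_single j]
      · exact DirectSum.decompose_of_mem_same ℳ (hmem j)
      · intro l _ hl
        exact DirectSum.decompose_of_mem_ne ℳ (hmem l) (by omega)
      · intro h; exact absurd hj h
    · have h1 : (DirectSum.decompose 𝒜 a j : A) = 0 := by
        simpa [DFinsupp.mem_support_iff] using hj
      rw [h1, zero_smul]
      apply Finset.sum_eq_zero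
      intro l hl
      refine DirectSum.decompose_of_mem_ne ℳ (hmem l) ?_
      intro h
      have : l = j := by omega
      subst this
      exact hj hl
  rw [← h0, ha, DirectSum.decompose_zero]
  rfl

/-- Let S be a graded ring, M a graded S-module, f a homogeneous element of degree d > 0 and m a
homogeneous element of M. If the fraction m/f^k vanishes in the localized module M_x for every point
x of D_+(f), then f^N m = 0 for some N (so m/f^k = 0 in M_(f)); this is the injectivity half of the
identification of the sections of M~ over D_+(f) with M_(f). -/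
theorem result {R A : Type u} [CommRing R] [CommRing A] [Algebra R A] (𝒜 : ℕ → Submodule R A) [GradedAlgebra 𝒜]
    {M : Type u} [AddCommGroup M] [Module R M] [Module A M] [IsScalarTower R A M] (ℳ : ℕ → Submodule R M) [DirectSum.Decomposition ℳ] [SetLike.GradedSMul 𝒜 ℳ] {d : ℕ} (hd : 0 < d) {f : A} (hf : f ∈ 𝒜 d) (k i : ℕ) (m : ℳ i)
    (h : ∀ x : ProjectiveSpectrum.basicOpen 𝒜 f,
      (LocalizedModule.mk m.1 ⟨f ^ k, fun h => (ProjectiveSpectrum.mem_basicOpen 𝒜 f x.1).mp x.2
        (x.1.isPrime.mem_of_pow_mem k h)⟩ : GrTilde.LocMod 𝒜 (M := M) x.1) = 0) :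
    ∃ N : ℕ, f ^ N • m.1 = 0 := by
  classical
  let I : Ideal A := (Submodule.span A {m.1}).annihilator
  have hI : I.IsHomogeneous 𝒜 := by
    intro j a ha
    rw [Submodule.mem_annihilator_span_singleton] at ha ⊢
    exact comp_smul_eq_zero 𝒜 ℳ m.2 ha j
  by_contra hcon
  push Not at hcon
  have hf_rad : f ∉ I.radical := by
    rintro ⟨N, hN⟩
    exact hcon N ((Submodule.mem_annihilator_span_singleton _ _).mp hN)
  rw [hI.radical_eq, Submodule.mem_sInf] at hf_rad
  push Not at hf_rad
  obtain ⟨J, ⟨hJh, hIJ, hJp⟩, hfJ⟩ := hf_rad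
  have hfirr : f ∈ HomogeneousIdeal.irrelevant 𝒜 := by
    rw [HomogeneousIdeal.mem_irrelevant_iff, GradedRing.proj_apply,
      DirectSum.decompose_of_mem_ne 𝒜 hf (by omega)]
  let x : ProjectiveSpectrum 𝒜 := ⟨⟨J, hJh⟩, hJp, fun hle => hfJ (hle hfirr)⟩
  have hx : x ∈ ProjectiveSpectrum.basicOpen 𝒜 f := (ProjectiveSpectrum.mem_basicOpen 𝒜 f x).mpr hfJ
  have h1 := h ⟨x, hx⟩
  rw [← LocalizedModule.zero_mk (1 : x.asHomogeneousIdeal.toIdeal.primeCompl),
    LocalizedModule.mk_eq] at h1
  obtain ⟨u, hu⟩ := h1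
  rw [smul_zero, smul_zero, one_smul] at hu
  have huI : (u : A) ∈ I := by
    rw [Submodule.mem_annihilator_span_singleton]
    exact hu
  exact u.2 (hIJ huI)

end Groth.Agent.S3587
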