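import Groth.Statements.S3588
import Groth.Agent.S3556
import Groth.Agent.S3563
-- import your own Groth.Agent.* helpers here

set_option autoImplicit false
universe u
open CategoryTheory CategoryTheory.Limits AlgebraicGeometry
open EGA2

namespace Groth.Agent.S3588

/-- Let S be a graded ring, N_+ the set of nilpotent elements of S_+ (an ideal of S), and S → S/N_+ the
quotient (here: any surjective homomorphism of graded rings φ : S → S' whose kernel is N_+). Then
the induced morphism Proj S' → Proj S is a closed immersion which is a homeomorphism of the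
underlying spaces, and Proj S' is reduced; thus Proj S' is the reduced closed subscheme (Proj
S)_red. -/
theorem result {R A : Type u} [CommRing R] [CommRing A] [Algebra R A] (𝒜 : ℕ → Submodule R A) [GradedAlgebra 𝒜]
    {B : Type u} [CommRing B] [Algebra R B] (ℬ : ℕ → Submodule R B) [GradedAlgebra ℬ]
    (φ : 𝒜 →+*ᵍ ℬ) (hsurj : Function.Surjective φ)
    (hker : ∀ a : A, φ a = 0 ↔ a ∈ (HomogeneousIdeal.irrelevant 𝒜).toIdeal ∧ IsNilpotent a)
    (hφ : HomogeneousIdeal.irrelevant ℬ ≤ (HomogeneousIdeal.irrelevant 𝒜).map φ) :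
    IsClosedImmersion (Proj.map φ hφ) ∧ IsHomeomorph (Proj.map φ hφ).base ∧
      AlgebraicGeometry.IsReduced (Proj ℬ) := by
  classical
  have hci : IsClosedImmersion (Proj.map φ hφ) := Groth.Agent.S3563.result 𝒜 ℬ φ hsurj hφ
  refine ⟨hci, ?_, ?_⟩
  · rw [isHomeomorph_iff_isEmbedding_surjective]
    refine ⟨(Proj.map φ hφ).isClosedEmbedding.isEmbedding, ?_⟩
    intro (p : ProjectiveSpectrum 𝒜)
    have hkerle : RingHom.ker φ ≤ p.asHomogeneousIdeal.toIdeal := by
      intro a ha
      obtain ⟨-, n, hn⟩ := (hker a).mp ha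
      exact p.isPrime.mem_of_pow_mem n (hn ▸ zero_mem _)
    have hprime : (p.asHomogeneousIdeal.map φ).toIdeal.IsPrime :=
      Ideal.map_isPrime_of_surjective (f := φ) hsurj hkerle
    have hcomap : (p.asHomogeneousIdeal.map φ).toIdeal.comap φ =
        p.asHomogeneousIdeal.toIdeal := by
      rw [HomogeneousIdeal.toIdeal_map, Ideal.comap_map_of_surjective φ hsurj]
      exact sup_eq_left.mpr hkerle
    have hrel : ¬ HomogeneousIdeal.irrelevant ℬ ≤ p.asHomogeneousIdeal.map φ := by
      intro hle
      apply p.not_irrelevant_le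
      intro a ha
      have h1 : φ a ∈ (HomogeneousIdeal.irrelevant ℬ).toIdeal := by
        change a ∈ HomogeneousIdeal.irrelevant 𝒜 at ha
        change φ a ∈ HomogeneousIdeal.irrelevant ℬ
        rw [HomogeneousIdeal.mem_irrelevant_iff] at ha ⊢
        rw [GradedRing.proj_apply, ← GradedRingHom.map_directSumDecompose, ← GradedRing.proj_apply,
          ha, map_zero]
      have h2 : φ a ∈ (p.asHomogeneousIdeal.map φ).toIdeal := hle h1
      have h3 : a ∈ (p.asHomogeneousIdeal.map φ).toIdeal.comap φ := h2
      rwa [hcomap] at h3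
    refine ⟨(⟨p.asHomogeneousIdeal.map φ, hprime, hrel⟩ : ProjectiveSpectrum ℬ), ?_⟩
    apply ProjectiveSpectrum.ext
    apply HomogeneousIdeal.toIdeal_injective
    exact hcomap
  · apply Groth.Agent.S3556.result ℬ
    intro b hb hbnil
    -- lift b to an element of the irrelevant ideal of A
    obtain ⟨a', rfl⟩ := hsurj b
    set a := a' - (DirectSum.decompose 𝒜 a' 0 : A) with ha
    have hφa : φ a = φ a' := by
      rw [ha, map_sub, GradedRingHom.map_directSumDecompose]
      have : (DirectSum.decompose ℬ (φ a') 0 : B) = 0 :=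
        (HomogeneousIdeal.mem_irrelevant_iff ℬ _).mp hb
      rw [this, sub_zero]
    have hairr : a ∈ (HomogeneousIdeal.irrelevant 𝒜).toIdeal := by
      change a ∈ HomogeneousIdeal.irrelevant 𝒜
      rw [HomogeneousIdeal.mem_irrelevant_iff, GradedRing.proj_apply, ha, DirectSum.decompose_sub,
        DirectSum.sub_apply, AddSubgroupClass.coe_sub, DirectSum.decompose_coe,
        DirectSum.of_eq_same, sub_self]
    obtain ⟨n, hn⟩ := hbnil
    have h1 : φ (a ^ n) = 0 := by rw [map_pow, hφa, hn]
    obtain ⟨-, m, hm⟩ := (hker _).mp h1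
    have hanil : IsNilpotent a := ⟨n * m, by rw [pow_mul]; exact hm⟩
    rw [← hφa]
    exact (hker a).mpr ⟨hairr, hanil⟩

end Groth.Agent.S3588
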