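import Groth.Statements.S3593
import Mathlib

set_option autoImplicit false
universe u
open CategoryTheory CategoryTheory.Limits AlgebraicGeometry
open EGA2

namespace Groth.Agent.S3593
open Polynomial

section helpers



section
variable {R A : Type u} [CommRing R] [CommRing A] [Algebra R A] (𝒜 : ℕ → Submodule R A)
  [GradedAlgebra 𝒜]
  {B : Type u} [CommRing B] [Algebra R B] (ℬ : ℕ → Submodule R B) [GradedAlgebra ℬ]
  [Algebra A B] [IsScalarTower R A B]
  (hφ : ∀ (n : ℕ) (a : A), a ∈ 𝒜 n → algebraMap A B a ∈ ℬ n)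
  (z : B) (hz : z ∈ ℬ 1)

include hφ hz in
theorem mem_mul_pow {m k : ℕ} {a : A} (ha : a ∈ 𝒜 m) : algebraMap A B a * z ^ k ∈ ℬ (m + k) := by
  have h1 : z ^ k ∈ ℬ (k • 1) := SetLike.pow_mem_graded k hz
  rw [smul_eq_mul, mul_one] at h1
  exact SetLike.mul_mem_graded (hφ m a ha) h1

include hφ hz in
/-- projection formula -/
theorem proj_mul_pow (a : A) (k n : ℕ) :
    GradedRing.proj ℬ n (algebraMap A B a * z ^ k) =
      if k ≤ n then algebraMap A B (GradedRing.proj 𝒜 (n - k) a) * z ^ k else 0 := by
  induction a using DirectSum.Decomposition.inductionOn 𝒜 with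
  | zero => simp
  | @homogeneous m a =>
    obtain ⟨a, ha⟩ := a
    simp only
    have h1 := mem_mul_pow 𝒜 ℬ hφ z hz (m := m) (k := k) ha
    rw [GradedRing.proj_apply, GradedRing.proj_apply]
    by_cases hkn : k ≤ n
    · rw [if_pos hkn]
      by_cases hm : m = n - k
      · have : m + k = n := by omega
        rw [this] at h1
        rw [DirectSum.decompose_of_mem_same ℬ h1, ← hm, DirectSum.decompose_of_mem_same 𝒜 ha]
      · have hne : m + k ≠ n := by omega
        rw [DirectSum.decompose_of_mem_ne ℬ h1 hne, DirectSum.decompose_of_mem_ne 𝒜 ha hm,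
          map_zero, zero_mul]
    · rw [if_neg hkn]
      have hne : m + k ≠ n := by omega
      rw [DirectSum.decompose_of_mem_ne ℬ h1 hne]
  | add a b iha ihb =>
    rw [map_add, add_mul, map_add, iha, ihb]
    by_cases hkn : k ≤ n
    · rw [if_pos hkn, if_pos hkn, if_pos hkn, map_add, map_add, add_mul]
    · rw [if_neg hkn, if_neg hkn, if_neg hkn, add_zero]

/-- the homogeneous part of degree `n` of a polynomial in `z` -/
noncomputable def hpart (n : ℕ) (p : A[X]) : A[X] :=
  ∑ k ∈ Finset.range (n + 1), monomial k (GradedRing.proj 𝒜 (n - k) (p.coeff k))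

include hφ hz in
theorem proj_aeval (n : ℕ) (p : A[X]) :
    GradedRing.proj ℬ n (aeval z p) = aeval z (hpart 𝒜 n p) := by
  induction p using Polynomial.induction_on' with
  | add p q hp hq =>
    rw [map_add, map_add, hp, hq, hpart, hpart, hpart, ← map_add, ← Finset.sum_add_distrib]
    congr 1
    refine Finset.sum_congr rfl fun k _ => ?_
    rw [coeff_add, map_add, map_add]
  | monomial k a =>
    rw [aeval_monomial, proj_mul_pow 𝒜 ℬ hφ z hz, hpart, map_sum]
    by_cases hkn : k ≤ n
    · rw [if_pos hkn, Finset.sum_eq_single k]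
      · rw [aeval_monomial, coeff_monomial, if_pos rfl]
      · intro j _ hjk
        rw [coeff_monomial, if_neg (Ne.symm hjk), map_zero, map_zero, map_zero]
      · intro h
        exact absurd (Finset.mem_range.2 (by omega)) h
    · rw [if_neg hkn]
      symm
      refine Finset.sum_eq_zero fun j hj => ?_
      rw [Finset.mem_range] at hj
      rw [coeff_monomial, if_neg (by omega), map_zero, map_zero, map_zero]


variable (hbij : Function.Bijective (aeval (R := A) z))

/-- evaluation `z ↦ 1` -/
noncomputable def ev : B →+* A :=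
  ((aeval (1 : A) : A[X] →ₐ[A] A) : A[X] →+* A).comp
    ((RingEquiv.ofBijective (aeval (R := A) z) hbij).symm : B →+* A[X])

theorem ev_aeval (p : A[X]) : ev z hbij (aeval z p) = aeval (1 : A) p := by
  have h : (RingEquiv.ofBijective (aeval (R := A) z) hbij).symm (aeval z p) = p :=
    RingEquiv.symm_apply_apply _ p
  change aeval (1 : A) ((RingEquiv.ofBijective (aeval (R := A) z) hbij).symm (aeval z p)) = _
  rw [h]

theorem ev_z : ev z hbij z = 1 := by
  have := ev_aeval z hbij X
  rwa [aeval_X, aeval_X] at this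

theorem ev_alg (a : A) : ev z hbij (algebraMap A B a) = a := by
  have := ev_aeval z hbij (C a)
  rwa [aeval_C, aeval_C, Algebra.algebraMap_self_apply] at this

include hφ hz in
theorem ev_inj_on (n : ℕ) (b : B) (hb : b ∈ ℬ n) (h0 : ev z hbij b = 0) : b = 0 := by
  obtain ⟨p, rfl⟩ := hbij.2 b
  have h1 : aeval z p = aeval z (hpart 𝒜 n p) := by
    rw [← proj_aeval 𝒜 ℬ hφ z hz, GradedRing.proj_apply, DirectSum.decompose_of_mem_same ℬ hb]
  rw [h1] at h0 ⊢
  rw [ev_aeval] at h0
  have h2 : ∀ j ∈ Finset.range (n + 1), GradedRing.proj 𝒜 (n - j) (p.coeff j) = 0 := by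
    intro j hj
    have h3 := congrArg (GradedRing.proj 𝒜 (n - j)) h0
    rw [hpart, map_sum, map_sum, map_zero, Finset.sum_eq_single j] at h3
    · rw [aeval_monomial, one_pow, mul_one, Algebra.algebraMap_self_apply] at h3
      have hmem : GradedRing.proj 𝒜 (n - j) (p.coeff j) ∈ 𝒜 (n - j) := by
        rw [GradedRing.proj_apply]; exact SetLike.coe_mem _
      rw [GradedRing.proj_apply 𝒜 (n - j) (GradedRing.proj 𝒜 (n - j) (p.coeff j)),
        DirectSum.decompose_of_mem_same 𝒜 hmem] at h3
      exact h3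
    · intro k hk hkj
      rw [Finset.mem_range] at hk hj
      rw [aeval_monomial, one_pow, mul_one, Algebra.algebraMap_self_apply]
      have hmem : GradedRing.proj 𝒜 (n - k) (p.coeff k) ∈ 𝒜 (n - k) := by
        rw [GradedRing.proj_apply]; exact SetLike.coe_mem _
      rw [GradedRing.proj_apply 𝒜 (n - j) (GradedRing.proj 𝒜 (n - k) (p.coeff k)),
        DirectSum.decompose_of_mem_ne 𝒜 hmem (by omega)]
    · intro h; exact absurd hj h
  rw [hpart, Finset.sum_eq_zero (fun k hk => by rw [h2 k hk, map_zero]), map_zero]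

noncomputable def psi0 : Localization.Away z →+* A :=
  IsLocalization.Away.lift z (g := ev z hbij)
    (by rw [ev_z]; exact isUnit_one)

theorem psi0_alg (x : B) : psi0 z hbij (algebraMap _ _ x) = ev z hbij x := by
  rw [psi0, IsLocalization.Away.lift_eq]

theorem psi0_mk (x : B) (m : ℕ) :
    psi0 z hbij (Localization.mk x (⟨z ^ m, ⟨m, rfl⟩⟩ : Submonoid.powers z)) = ev z hbij x := by
  have h1 : Localization.mk x (⟨z ^ m, ⟨m, rfl⟩⟩ : Submonoid.powers z) *
      algebraMap B (Localization.Away z) (z ^ m) = algebraMap _ _ x := by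
    rw [Localization.mk_eq_mk']
    exact IsLocalization.mk'_spec _ x (⟨z ^ m, ⟨m, rfl⟩⟩ : Submonoid.powers z)
  have h2 := congrArg (psi0 z hbij) h1
  rw [map_mul, psi0_alg, psi0_alg, map_pow, ev_z, one_pow, mul_one] at h2
  exact h2

noncomputable def psi : HomogeneousLocalization.Away ℬ z →+* A :=
  (psi0 z hbij).comp (algebraMap _ _)

theorem psi_mk (m : ℕ) (x : B) (hx : x ∈ ℬ (m • 1)) :
    psi ℬ z hbij (HomogeneousLocalization.Away.mk _ hz m x hx) = ev z hbij x := by
  rw [psi, RingHom.comp_apply, HomogeneousLocalization.algebraMap_apply,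
    HomogeneousLocalization.Away.val_mk]
  exact psi0_mk z hbij x m

include hφ hz in
theorem psi_inj : Function.Injective (psi ℬ z hbij) := by
  rw [injective_iff_map_eq_zero]
  intro x hx
  obtain ⟨m, b, hb, rfl⟩ := HomogeneousLocalization.Away.mk_surjective _ hz x
  rw [psi_mk] at hx
  have hb' : b ∈ ℬ m := by simpa using hb
  have hb0 := ev_inj_on 𝒜 ℬ hφ z hz hbij m b hb' hx
  subst hb0
  apply HomogeneousLocalization.val_injective
  rw [HomogeneousLocalization.Away.val_mk, HomogeneousLocalization.val_zero,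
    Localization.mk_zero]

include hφ in
theorem psi_hom (m : ℕ) (a : A) (ha : a ∈ 𝒜 m) :
    psi ℬ z hbij (HomogeneousLocalization.Away.mk _ hz m (algebraMap A B a)
      (by simpa using hφ m a ha)) = a := by
  rw [psi_mk, ev_alg]

include hφ hz in
theorem psi_surj : Function.Surjective (psi ℬ z hbij) := by
  intro a
  induction a using DirectSum.Decomposition.inductionOn 𝒜 with
  | zero => exact ⟨0, map_zero _⟩
  | @homogeneous m a => exact ⟨_, psi_hom 𝒜 ℬ hφ z hz hbij m a a.2⟩
  | add a b iha ihb =>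
    obtain ⟨x, rfl⟩ := iha
    obtain ⟨y, rfl⟩ := ihb
    exact ⟨x + y, map_add _ _ _⟩

end



end helpers

/-- Let S be a graded R-algebra, Ŝ a graded R-algebra with a graded homomorphism φ : S → Ŝ making Ŝ an
S-algebra, and z an element of Ŝ of degree one such that the S-algebra map S[X] → Ŝ, X ↦ z, is
bijective (so Ŝ = S[z] with z in degree one, the graded ring of the projective cone of S). Then
there is a ring isomorphism S ≅ Ŝ_(z) onto the degree-zero localization at z, sending a homogeneous
a of degree n to φ(a)/z^n. (This is the isomorphism that identifies the affine cone Spec S with the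
open D_+(z) of the projective cone Proj Ŝ; that identification itself is not asserted here.) -/
theorem result {R A : Type u} [CommRing R] [CommRing A] [Algebra R A] (𝒜 : ℕ → Submodule R A) [GradedAlgebra 𝒜]
    {B : Type u} [CommRing B] [Algebra R B] (ℬ : ℕ → Submodule R B) [GradedAlgebra ℬ]
    [Algebra A B] [IsScalarTower R A B] (φ : 𝒜 →+*ᵍ ℬ) (hφ : ∀ a : A, φ a = algebraMap A B a)
    (z : B) (hz : z ∈ ℬ 1) (hhat : Function.Bijective (Polynomial.aeval (R := A) z)) :
    ∃ θ : A ≃+* HomogeneousLocalization.Away ℬ z,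
      ∀ (n : ℕ) (a : A), a ∈ 𝒜 n → (θ a).val = Localization.mk (φ a) ⟨z ^ n, pow_mem (Submonoid.mem_powers z) n⟩ := by
  have hφ' : ∀ (n : ℕ) (a : A), a ∈ 𝒜 n → algebraMap A B a ∈ ℬ n := by
    intro n a ha
    rw [← hφ a]
    exact φ.map_mem ha
  let e := RingEquiv.ofBijective (psi ℬ z hhat) ⟨psi_inj 𝒜 ℬ hφ' z hz hhat, psi_surj 𝒜 ℬ hφ' z hz hhat⟩
  refine ⟨e.symm, fun n a ha => ?_⟩
  have h1 : e.symm a = HomogeneousLocalization.Away.mk _ hz n (algebraMap A B a)
      (by simpa using hφ' n a ha) := by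
    rw [RingEquiv.symm_apply_eq]
    exact (psi_hom 𝒜 ℬ hφ' z hz hhat n a ha).symm
  rw [h1, HomogeneousLocalization.Away.val_mk, hφ a]

end Groth.Agent.S3593
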