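import Groth.Statements.S3594
import Mathlib
-- import your own Groth.Agent.* helpers here

set_option autoImplicit false
universe u
open CategoryTheory CategoryTheory.Limits AlgebraicGeometry
open EGA2

namespace Groth.Agent.S3594

section helpers
open scoped HomogeneousIdeal
namespace H5S3594

section proj
variable {R A B : Type u} [CommRing R] [CommRing A] [Algebra R A]
    (𝒜 : ℕ → Submodule R A) [GradedAlgebra 𝒜]
    [CommRing B] [Algebra R B] (ℬ : ℕ → Submodule R B) [GradedAlgebra ℬ]
    (ψ : ℬ →+*ᵍ 𝒜) (hψ : HomogeneousIdeal.irrelevant 𝒜 ≤ (HomogeneousIdeal.irrelevant ℬ).map ψ)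
    (hsurj : Function.Surjective ψ)

include hsurj in
theorem range_comap : Set.range (ProjectiveSpectrum.comap ψ hψ) =
    {𝔮 : ProjectiveSpectrum ℬ | RingHom.ker ψ.toRingHom ≤ 𝔮.asHomogeneousIdeal.toIdeal} := by
  ext 𝔮
  constructor
  · rintro ⟨𝔭, rfl⟩
    intro t ht
    have ht0 : ψ t = 0 := ht
    show ψ t ∈ 𝔭.asHomogeneousIdeal.toIdeal
    rw [ht0]
    exact Ideal.zero_mem _
  · intro hk
    have hk' : RingHom.ker ψ.toRingHom ≤ 𝔮.asHomogeneousIdeal.toIdeal := hk
    have hprime : 𝔮.asHomogeneousIdeal.toIdeal.IsPrime := 𝔮.isPrime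
    have hsurj' : Function.Surjective ψ.toRingHom := hsurj
    have hcm : (𝔮.asHomogeneousIdeal.toIdeal.map ψ.toRingHom).comap ψ.toRingHom =
        𝔮.asHomogeneousIdeal.toIdeal := by
      rw [Ideal.comap_map_of_surjective' _ hsurj']
      exact sup_eq_left.mpr hk'
    refine ⟨⟨𝔮.asHomogeneousIdeal.map ψ, ?_, ?_⟩, ?_⟩
    · exact Ideal.map_isPrime_of_surjective hsurj' hk'
    · intro hle
      apply 𝔮.not_irrelevant_le
      intro t ht
      have h1 : ψ t ∈ (HomogeneousIdeal.irrelevant 𝒜) := by
        rw [HomogeneousIdeal.mem_irrelevant_iff] at ht ⊢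
        rw [GradedRing.proj_apply] at ht ⊢
        rw [← ψ.map_directSumDecompose, ht, map_zero]
      have h2 : ψ t ∈ (𝔮.asHomogeneousIdeal.map ψ) := hle h1
      have h3 : t ∈ (𝔮.asHomogeneousIdeal.toIdeal.map ψ.toRingHom).comap ψ.toRingHom := h2
      rw [hcm] at h3
      exact h3
    · apply ProjectiveSpectrum.ext
      apply HomogeneousIdeal.ext
      exact hcm

end proj

section cone
variable {A B : Type u} [CommRing A] [CommRing B] [Algebra A B]
  (z : B) (hhat : Function.Bijective (Polynomial.aeval (R := A) z))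
  (ψ : B →+* A) (hψφ : ∀ a : A, ψ (algebraMap A B a) = a) (hψz : ψ z = 0)

include hψφ hψz in
lemma ψ_aeval (p : Polynomial A) : ψ (Polynomial.aeval z p) = p.coeff 0 := by
  induction p using Polynomial.induction_on' with
  | add p q hp hq => rw [map_add, map_add, hp, hq, Polynomial.coeff_add]
  | monomial n a =>
    rw [Polynomial.aeval_monomial, map_mul, map_pow, hψφ, hψz, Polynomial.coeff_monomial]
    by_cases hn : n = 0
    · subst hn; simp
    · rw [if_neg hn, zero_pow hn, mul_zero]

include hhat hψφ hψz in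
lemma ker_eq : RingHom.ker ψ = Ideal.span {z} := by
  apply le_antisymm
  · intro b hb
    obtain ⟨p, rfl⟩ := hhat.2 b
    have h0 : p.coeff 0 = 0 := by
      rw [← ψ_aeval z ψ hψφ hψz p]; exact hb
    have hp : Polynomial.X * p.divX = p := by
      have := Polynomial.divX_mul_X_add p
      rw [h0, map_zero, add_zero, mul_comm] at this
      exact this
    rw [← hp, map_mul, Polynomial.aeval_X]
    exact Ideal.mul_mem_right _ _ (Ideal.mem_span_singleton_self z)
  · rw [Ideal.span_le, Set.singleton_subset_iff]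
    exact hψz

end cone

end H5S3594

end helpers

/-- The closed immersion at infinity of a projective cone: let S be a graded R-algebra and Ŝ a graded
R-algebra over S such that the structure map φ : S → Ŝ is a graded homomorphism and Ŝ = S[z] is the
polynomial algebra on an element z of degree one (evaluation at z is a bijection S[T] → Ŝ); let ψ :
Ŝ → S be a graded homomorphism retracting φ and killing z, with S₊ contained in the ideal generated
by ψ(Ŝ₊) so that j = Proj(ψ) : X = Proj S → Ĉ = Proj Ŝ is defined (it is the canonical closed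
immersion). Then the image of j is exactly the complement of the open subset D₊(z) of Proj Ŝ (which
is the affine cone C = Spec S). -/
theorem result {R A : Type u} [CommRing R] [CommRing A] [Algebra R A] (𝒜 : ℕ → Submodule R A) [GradedAlgebra 𝒜]
    {B : Type u} [CommRing B] [Algebra R B] (ℬ : ℕ → Submodule R B) [GradedAlgebra ℬ]
    [Algebra A B] [IsScalarTower R A B] (φ : 𝒜 →+*ᵍ ℬ) (hφ : ∀ a : A, φ a = algebraMap A B a)
    (z : B) (hz : z ∈ ℬ 1) (hhat : Function.Bijective (Polynomial.aeval (R := A) z))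
    (ψ : ℬ →+*ᵍ 𝒜) (hψφ : ∀ a : A, ψ (φ a) = a) (hψz : ψ z = 0)
    (hψ : HomogeneousIdeal.irrelevant 𝒜 ≤ (HomogeneousIdeal.irrelevant ℬ).map ψ) :
    Set.range (Proj.map ψ hψ).base = ((Proj.basicOpen ℬ z : Set (Proj ℬ)))ᶜ := by
  have hsurj : Function.Surjective ψ := fun a => ⟨φ a, hψφ a⟩
  have hker : RingHom.ker ψ.toRingHom = Ideal.span {z} :=
    H5S3594.ker_eq z hhat ψ.toRingHom (fun a => by rw [← hφ a]; exact hψφ a) hψz
  have hrange := H5S3594.range_comap 𝒜 ℬ ψ hψ hsurj
  show Set.range (ProjectiveSpectrum.comap ψ hψ) = _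
  rw [hrange, hker]
  ext 𝔮
  simp only [Set.mem_setOf_eq, Set.mem_compl_iff, SetLike.mem_coe]
  rw [Ideal.span_le, Set.singleton_subset_iff]
  constructor
  · intro h1 h2
    exact (Proj.mem_basicOpen ℬ z 𝔮).mp h2 h1
  · intro h1
    by_contra h2
    exact h1 ((Proj.mem_basicOpen ℬ z 𝔮).mpr h2)

end Groth.Agent.S3594
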