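import Groth.Statements.S3596
import Mathlib
import Groth.Agent.Lib.helper27.ProjQMap

set_option autoImplicit false
universe u
open CategoryTheory CategoryTheory.Limits AlgebraicGeometry
open EGA2

namespace Groth.Agent.S3596aux
open CategoryTheory CategoryTheory.Limits AlgebraicGeometry Opposite TopologicalSpace
open scoped HomogeneousIdeal
open Groth.Agent.Lib.helper27.ProjQMap

variable {R A : Type u} [CommRing R] [CommRing A] [Algebra R A] (𝒜 : ℕ → Submodule R A) [GradedAlgebra 𝒜]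
    {B : Type u} [CommRing B] [Algebra R B] (ℬ : ℕ → Submodule R B) [GradedAlgebra ℬ] (φ : 𝒜 →+*ᵍ ℬ)

theorem chart_ι {d : ℕ} {f : A} (hf : f ∈ 𝒜 d) (hd : 0 < d) :
    PCone.chart φ hf hd ≫ (PCone.dom φ).ι = Proj.awayι ℬ (φ f) (φ.2 hf) hd :=
  IsOpenImmersion.lift_fac _ _ _

instance {d : ℕ} {f : A} (hf : f ∈ 𝒜 d) (hd : 0 < d) : IsOpenImmersion (PCone.chart φ hf hd) := by
  have : IsOpenImmersion (PCone.chart φ hf hd ≫ (PCone.dom φ).ι) := by
    rw [chart_ι]; infer_instance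
  exact IsOpenImmersion.of_comp _ (PCone.dom φ).ι

theorem mem_range_chart {d : ℕ} {f : A} (hf : f ∈ 𝒜 d) (hd : 0 < d) (x : (PCone.dom φ : Scheme.{u}))
    (hx : (PCone.dom φ).ι.base x ∈ Proj.basicOpen ℬ (φ f)) :
    ∃ w, (PCone.chart φ hf hd).base w = x := by
  rw [← Proj.opensRange_awayι ℬ (φ f) (φ.2 hf) hd] at hx
  obtain ⟨w, hw⟩ := hx
  refine ⟨w, ?_⟩
  apply (PCone.dom φ).ι.isOpenEmbedding.injective
  rw [← hw]
  exact congrArg (fun m => m.base w) (chart_ι 𝒜 ℬ φ hf hd)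

theorem main
    (p : (PCone.dom φ : Scheme.{u}) ⟶ Proj 𝒜) (hp : ∀ (d : ℕ) (f : A) (hd : 0 < d) (hf : f ∈ 𝒜 d),
        PCone.chart φ hf hd ≫ p =
          Spec.map (CommRingCat.ofHom (HomogeneousLocalization.Away.map φ f)) ≫ Proj.awayι 𝒜 f hf hd) :
    IsAffineHom p := by
  refine isAffineHom_of_forall_exists_isAffineOpen p fun y => ?_
  obtain ⟨d, f, hd, hf, hmem⟩ := exists_basicOpen' (GradedRingHom.id 𝒜) 0
    (fun k _ y hy => ⟨y, hy, rfl⟩) y
  rw [GradedRingHom.id_apply] at hmem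
  refine ⟨Proj.basicOpen 𝒜 f, hmem, Proj.isAffineOpen_basicOpen 𝒜 f hf hd, ?_⟩
  have key : p ⁻¹ᵁ Proj.basicOpen 𝒜 f = (PCone.chart φ hf hd).opensRange := by
    ext x
    constructor
    · intro hx
      have hx' : p.base x ∈ Proj.basicOpen 𝒜 f := hx
      -- x lies in some chart
      have hxdom : (PCone.dom φ).ι.base x ∈
          ⨆ f : {f : A // ∃ d : ℕ, 0 < d ∧ f ∈ 𝒜 d}, Proj.basicOpen ℬ (φ f.1) := x.2
      rw [Opens.mem_iSup] at hxdom
      obtain ⟨⟨f₂, d₂, hd₂, hf₂⟩, hx₂⟩ := hxdom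
      obtain ⟨w, hw⟩ := mem_range_chart 𝒜 ℬ φ hf₂ hd₂ x hx₂
      have e1 := congrArg (fun m => m.base w) (hp d₂ f₂ hd₂ hf₂)
      have e2 : p.base x = (Proj.awayι 𝒜 f₂ hf₂ hd₂).base
          ((Spec.map (CommRingCat.ofHom (HomogeneousLocalization.Away.map φ f₂))).base w) := by
        rw [← hw]; exact e1
      rw [e2] at hx'
      have e3 := (mem_basicOpen_iff' φ hd hd₂ f f₂ hf hf₂ w).mp hx'
      have e4 : (PCone.dom φ).ι.base x = (Proj.awayι ℬ (φ f₂) (φ.2 hf₂) hd₂).base w := by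
        rw [← hw]
        exact congrArg (fun m => m.base w) (chart_ι 𝒜 ℬ φ hf₂ hd₂)
      obtain ⟨w', hw'⟩ := mem_range_chart 𝒜 ℬ φ hf hd x (by rw [e4]; exact e3)
      exact ⟨w', hw'⟩
    · rintro ⟨w, rfl⟩
      have e1 := congrArg (fun m => m.base w) (hp d f hd hf)
      change p.base ((PCone.chart φ hf hd).base w) ∈ Proj.basicOpen 𝒜 f
      rw [show p.base ((PCone.chart φ hf hd).base w) = _ from e1,
        ← Proj.opensRange_awayι 𝒜 f hf hd]
      exact ⟨_, rfl⟩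
  rw [key]
  exact isAffineOpen_opensRange _

end Groth.Agent.S3596aux

namespace Groth.Agent.S3596

/-- For a homomorphism of graded rings φ : S' → S, the induced morphism p : G(φ) → Proj S'
(characterised on the charts as in the previous result) is affine. -/
theorem result {R A : Type u} [CommRing R] [CommRing A] [Algebra R A] (𝒜 : ℕ → Submodule R A) [GradedAlgebra 𝒜]
    {B : Type u} [CommRing B] [Algebra R B] (ℬ : ℕ → Submodule R B) [GradedAlgebra ℬ] (φ : 𝒜 →+*ᵍ ℬ)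
    (p : (PCone.dom φ : Scheme.{u}) ⟶ Proj 𝒜) (hp : ∀ (d : ℕ) (f : A) (hd : 0 < d) (hf : f ∈ 𝒜 d),
        PCone.chart φ hf hd ≫ p =
          Spec.map (CommRingCat.ofHom (HomogeneousLocalization.Away.map φ f)) ≫ Proj.awayι 𝒜 f hf hd) :
    IsAffineHom p := by
  exact Groth.Agent.S3596aux.main 𝒜 ℬ φ p hp

end Groth.Agent.S3596
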