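import Groth.Statements.S3595
import Mathlib
import Groth.Agent.S3596

set_option autoImplicit false
universe u
open CategoryTheory CategoryTheory.Limits AlgebraicGeometry
open EGA2

namespace Groth.Agent.S3595aux
open CategoryTheory CategoryTheory.Limits AlgebraicGeometry Opposite TopologicalSpace
open scoped HomogeneousIdeal
open HomogeneousLocalization

section ring
variable {A B σ τ : Type u} [CommRing A] [CommRing B] [SetLike σ A] [AddSubgroupClass σ A]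
  [SetLike τ B] [AddSubgroupClass τ B] {𝒜 : ℕ → σ} {ℬ : ℕ → τ}
  [GradedRing 𝒜] [GradedRing ℬ] (φ : 𝒜 →+*ᵍ ℬ)

/-- naturality of `awayMap` with respect to graded ring homomorphisms. -/
theorem awayMap_natural {d e : ℕ} {f g x : A} (hf : f ∈ 𝒜 d) (hg : g ∈ 𝒜 e) (hx : x = f * g)
    (hx' : φ x = φ f * φ g) :
    (awayMap ℬ (GradedFunLike.map_mem φ hg) hx').comp (Away.map φ f) =
      (Away.map φ x).comp (awayMap 𝒜 hg hx) := by
  ext z
  obtain ⟨n, a, ha, rfl⟩ := z.mk_surjective _ hf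
  simp only [RingHom.comp_apply, Away.map_mk, awayMap_mk, Away.val_mk, map_mul, map_pow]

end ring

section geom
variable {R A : Type u} [CommRing R] [CommRing A] [Algebra R A] (𝒜 : ℕ → Submodule R A) [GradedAlgebra 𝒜]
    {B : Type u} [CommRing B] [Algebra R B] (ℬ : ℕ → Submodule R B) [GradedAlgebra ℬ] (φ : 𝒜 →+*ᵍ ℬ)

open Groth.Agent.S3596aux

/-- index type of charts -/
structure J where
  d : ℕ
  f : A
  hd : 0 < d
  hf : f ∈ 𝒜 d

variable {𝒜}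

/-- the chart maps to `Proj 𝒜`. -/
noncomputable abbrev gmap (j : J 𝒜) :
    Spec (CommRingCat.of (Away ℬ (φ j.f))) ⟶ Proj 𝒜 :=
  Spec.map (CommRingCat.ofHom (Away.map φ j.f)) ≫ Proj.awayι 𝒜 j.f j.hf j.hd

theorem key_N {d e : ℕ} {f g x : A} (hd : 0 < d) (hf : f ∈ 𝒜 d) (hg : g ∈ 𝒜 e) (hx : x = f * g)
    (hx' : φ x = φ f * φ g) :
    Spec.map (CommRingCat.ofHom (awayMap ℬ (GradedFunLike.map_mem φ hg) hx')) ≫
      Spec.map (CommRingCat.ofHom (Away.map φ f)) ≫ Proj.awayι 𝒜 f hf hd =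
    Spec.map (CommRingCat.ofHom (Away.map φ x)) ≫
      Proj.awayι 𝒜 x (hx ▸ SetLike.mul_mem_graded hf hg) (hd.trans_le (d.le_add_right e)) := by
  rw [← Proj.SpecMap_awayMap_awayι 𝒜 hf hd hg hx, ← Spec.map_comp_assoc, ← Spec.map_comp_assoc,
    ← CommRingCat.ofHom_comp, ← CommRingCat.ofHom_comp, awayMap_natural φ hf hg hx hx']

/-- the open cover of `dom φ` by the standard charts. -/
noncomputable def cover : (PCone.dom φ : Scheme.{u}).OpenCover :=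
  Scheme.Cover.mkOfCovers (J 𝒜) (fun j => Spec (CommRingCat.of (Away ℬ (φ j.f))))
    (fun j => PCone.chart φ j.hf j.hd) (fun x => by
      have hxdom : (PCone.dom φ).ι.base x ∈
          ⨆ f : {f : A // ∃ d : ℕ, 0 < d ∧ f ∈ 𝒜 d}, Proj.basicOpen ℬ (φ f.1) := x.2
      rw [Opens.mem_iSup] at hxdom
      obtain ⟨⟨f₂, d₂, hd₂, hf₂⟩, hx₂⟩ := hxdom
      obtain ⟨w, hw⟩ := mem_range_chart 𝒜 ℬ φ hf₂ hd₂ x hx₂
      exact ⟨⟨d₂, f₂, hd₂, hf₂⟩, w, hw⟩)

omit [GradedAlgebra ℬ] in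
theorem awayι_congr {m m' : ℕ} (h : m = m') {x : A} (hx : x ∈ 𝒜 m) (hm : 0 < m) (hx' : x ∈ 𝒜 m')
    (hm' : 0 < m') : Proj.awayι 𝒜 x hx hm = Proj.awayι 𝒜 x hx' hm' := by
  subst h; rfl

theorem compat (i j : J 𝒜) :
    pullback.fst (PCone.chart φ i.hf i.hd) (PCone.chart φ j.hf j.hd) ≫ gmap ℬ φ i =
      pullback.snd (PCone.chart φ i.hf i.hd) (PCone.chart φ j.hf j.hd) ≫ gmap ℬ φ j := by
  have hfi : φ i.f ∈ ℬ i.d := GradedFunLike.map_mem φ i.hf
  have hfj : φ j.f ∈ ℬ j.d := GradedFunLike.map_mem φ j.hf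
  have ci : PCone.chart φ i.hf i.hd ≫ (PCone.dom φ).ι = Proj.awayι ℬ (φ i.f) hfi i.hd :=
    chart_ι 𝒜 ℬ φ i.hf i.hd
  have cj : PCone.chart φ j.hf j.hd ≫ (PCone.dom φ).ι = Proj.awayι ℬ (φ j.f) hfj j.hd :=
    chart_ι 𝒜 ℬ φ j.hf j.hd
  let e : pullback (PCone.chart φ i.hf i.hd) (PCone.chart φ j.hf j.hd) ⟶
      pullback (Proj.awayι ℬ (φ i.f) hfi i.hd) (Proj.awayι ℬ (φ j.f) hfj j.hd) :=
    pullback.map _ _ _ _ (𝟙 _) (𝟙 _) (PCone.dom φ).ι
      (by rw [Category.id_comp, ci]) (by rw [Category.id_comp, cj])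
  have h1 : pullback.fst (PCone.chart φ i.hf i.hd) (PCone.chart φ j.hf j.hd) =
      e ≫ pullback.fst _ _ := ((pullback.lift_fst _ _ _).trans (Category.comp_id _)).symm
  have h2 : pullback.snd (PCone.chart φ i.hf i.hd) (PCone.chart φ j.hf j.hd) =
      e ≫ pullback.snd _ _ := ((pullback.lift_snd _ _ _).trans (Category.comp_id _)).symm
  rw [h1, h2, Category.assoc, Category.assoc]
  congr 1
  have hx' : φ (i.f * j.f) = φ i.f * φ j.f := map_mul φ _ _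
  have l1 := Proj.pullbackAwayιIso_hom_SpecMap_awayMap_left ℬ hfi i.hd hfj j.hd hx'
  have l2 := Proj.pullbackAwayιIso_hom_SpecMap_awayMap_right ℬ hfi i.hd hfj j.hd hx'
  rw [← l1, ← l2, Category.assoc, Category.assoc]
  congr 1
  rw [gmap, gmap]
  have k1 := key_N ℬ φ i.hd i.hf j.hf rfl hx'
  have k2 := key_N ℬ φ j.hd j.hf i.hf (mul_comm i.f j.f) (hx'.trans (mul_comm _ _))
  rw [k1, k2]
  congr 1

theorem main :
    ∃! p : (PCone.dom φ : Scheme.{u}) ⟶ Proj 𝒜,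
      ∀ (d : ℕ) (f : A) (hd : 0 < d) (hf : f ∈ 𝒜 d),
        PCone.chart φ hf hd ≫ p =
          Spec.map (CommRingCat.ofHom (Away.map φ f)) ≫ Proj.awayι 𝒜 f hf hd := by
  refine ⟨(cover ℬ φ).glueMorphisms (gmap ℬ φ) (compat ℬ φ), ?_, ?_⟩
  · intro d f hd hf
    exact (cover ℬ φ).ι_glueMorphisms (gmap ℬ φ) (compat ℬ φ) ⟨d, f, hd, hf⟩
  · intro q hq
    refine (cover ℬ φ).hom_ext _ _ fun j => ?_
    rw [Scheme.Cover.ι_glueMorphisms]
    exact hq j.d j.f j.hd j.hf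

end geom

end Groth.Agent.S3595aux

namespace Groth.Agent.S3595

/-- Let φ : S′ → S be a homomorphism of graded rings and G(φ) ⊆ Proj S the open union of the basic opens
D_+(φ(f′)) for f′ ∈ S′ homogeneous of positive degree. There is exactly one morphism p : G(φ) → Proj
S′ whose restriction to each chart Spec S_(φ(f′)) of G(φ) is Spec of the induced map S′_(f′) →
S_(φ(f′)) followed by Spec S′_(f′) ≅ D_+(f′) ⊆ Proj S′. -/
theorem result {R A : Type u} [CommRing R] [CommRing A] [Algebra R A] (𝒜 : ℕ → Submodule R A) [GradedAlgebra 𝒜]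
    {B : Type u} [CommRing B] [Algebra R B] (ℬ : ℕ → Submodule R B) [GradedAlgebra ℬ] (φ : 𝒜 →+*ᵍ ℬ) :
    ∃! p : (PCone.dom φ : Scheme.{u}) ⟶ Proj 𝒜,
      ∀ (d : ℕ) (f : A) (hd : 0 < d) (hf : f ∈ 𝒜 d),
        PCone.chart φ hf hd ≫ p =
          Spec.map (CommRingCat.ofHom (HomogeneousLocalization.Away.map φ f)) ≫ Proj.awayι 𝒜 f hf hd := by
  exact Groth.Agent.S3595aux.main ℬ φ

end Groth.Agent.S3595
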