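import Groth.Statements.S3597
import Mathlib
import Groth.Agent.S3596

set_option autoImplicit false
universe u
open CategoryTheory CategoryTheory.Limits AlgebraicGeometry
open EGA2

namespace Groth.Agent.S3597aux
open CategoryTheory CategoryTheory.Limits AlgebraicGeometry Opposite TopologicalSpace
open scoped HomogeneousIdeal
open HomogeneousLocalization
open Groth.Agent.S3596aux

variable {R A : Type u} [CommRing R] [CommRing A] [Algebra R A] (𝒜 : ℕ → Submodule R A) [GradedAlgebra 𝒜]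
    {B : Type u} [CommRing B] [Algebra R B] (ℬ : ℕ → Submodule R B) [GradedAlgebra ℬ]

theorem map_eq_id (χ : 𝒜 →+*ᵍ 𝒜) (hχ : χ = GradedRingHom.id 𝒜)
    (h : HomogeneousIdeal.irrelevant 𝒜 ≤ (HomogeneousIdeal.irrelevant 𝒜).map χ) :
    Proj.map χ h = 𝟙 (Proj 𝒜) := by
  subst hχ
  exact Proj.map_id

variable {𝒜 ℬ}

theorem main (φ : 𝒜 →+*ᵍ ℬ)
    (ψ : ℬ →+*ᵍ 𝒜) (hψφ : ∀ a : A, ψ (φ a) = a)
    (hψ : HomogeneousIdeal.irrelevant 𝒜 ≤ (HomogeneousIdeal.irrelevant ℬ).map ψ)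
    (p : (PCone.dom φ : Scheme.{u}) ⟶ Proj 𝒜) (hp : ∀ (d : ℕ) (f : A) (hd : 0 < d) (hf : f ∈ 𝒜 d),
        PCone.chart φ hf hd ≫ p =
          Spec.map (CommRingCat.ofHom (HomogeneousLocalization.Away.map φ f)) ≫ Proj.awayι 𝒜 f hf hd) :
    Surjective p ∧ ∃ j : Proj 𝒜 ⟶ (PCone.dom φ : Scheme.{u}),
      j ≫ (PCone.dom φ).ι = Proj.map ψ hψ ∧ j ≫ p = 𝟙 (Proj 𝒜) := by
  have hχ : ψ.comp φ = GradedRingHom.id 𝒜 := GradedRingHom.ext fun a => hψφ a
  have hcomp : HomogeneousIdeal.irrelevant 𝒜 ≤ (HomogeneousIdeal.irrelevant 𝒜).map (ψ.comp φ) := by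
    rw [hχ]; simp
  -- the lift
  have hrange : Set.range (Proj.map ψ hψ).base ⊆ Set.range (PCone.dom φ).ι.base := by
    rw [Scheme.Opens.range_ι]
    rintro _ ⟨x, rfl⟩
    -- x ∈ D₊(f) for some f
    have h1 := x.not_irrelevant_le
    rw [HomogeneousIdeal.irrelevant_le] at h1
    push Not at h1
    obtain ⟨e, he, hnle⟩ := h1
    obtain ⟨f, hf, hfx⟩ := SetLike.not_le_iff_exists.mp hnle
    refine Opens.mem_iSup.mpr ⟨⟨f, e, he, hf⟩, ?_⟩
    change x ∈ (Proj.map ψ hψ) ⁻¹ᵁ Proj.basicOpen ℬ (φ f)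
    rw [Proj.map_preimage_basicOpen, Proj.mem_basicOpen, hψφ]
    exact hfx
  let j : Proj 𝒜 ⟶ (PCone.dom φ : Scheme.{u}) :=
    IsOpenImmersion.lift (PCone.dom φ).ι (Proj.map ψ hψ) hrange
  have hj : j ≫ (PCone.dom φ).ι = Proj.map ψ hψ := IsOpenImmersion.lift_fac _ _ _
  have hjp : j ≫ p = 𝟙 (Proj 𝒜) := by
    refine (Proj.mapAffineOpenCover (ψ.comp φ) hcomp).openCover.hom_ext _ _ fun s => ?_
    obtain ⟨⟨d, hd⟩, f, hf0⟩ := s
    have hf : f ∈ 𝒜 d := hf0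
    change Proj.awayι 𝒜 (ψ (φ f)) _ _ ≫ j ≫ p = Proj.awayι 𝒜 (ψ (φ f)) _ _ ≫ 𝟙 _
    have hφf : φ f ∈ ℬ d := GradedFunLike.map_mem φ hf
    have e1 : Proj.awayι 𝒜 (ψ (φ f)) (GradedFunLike.map_mem ψ hφf) hd ≫ j =
        Spec.map (CommRingCat.ofHom (Away.map ψ (φ f))) ≫ PCone.chart φ hf hd := by
      rw [← cancel_mono (PCone.dom φ).ι, Category.assoc, hj, Category.assoc, chart_ι]
      exact Proj.awayι_comp_map ψ hψ hd (φ f) hφf
    have e2 : Proj.awayι 𝒜 ((ψ.comp φ) f) (GradedFunLike.map_mem (ψ.comp φ) hf) hd ≫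
        Proj.map (ψ.comp φ) hcomp = _ := Proj.awayι_comp_map (ψ.comp φ) hcomp hd f hf
    rw [map_eq_id 𝒜 _ hχ] at e2
    have e3 : Spec.map (CommRingCat.ofHom (Away.map ψ (φ f))) ≫
        Spec.map (CommRingCat.ofHom (Away.map φ f)) =
        Spec.map (CommRingCat.ofHom (Away.map (ψ.comp φ) f)) := by
      rw [← Spec.map_comp, ← CommRingCat.ofHom_comp, Away.map_comp]
      rfl
    rw [← Category.assoc]
    erw [e1]
    rw [Category.assoc, hp d f hd hf, ← Category.assoc, e3]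
    exact e2.symm
  refine ⟨⟨fun x => ⟨j.base x, ?_⟩⟩, j, hj, hjp⟩
  have := congrArg (fun g => g.base x) hjp
  simpa using this

end Groth.Agent.S3597aux

namespace Groth.Agent.S3597

/-- Let S be a graded algebra over a ring and Ŝ = S[z] the graded S-algebra obtained by adjoining a
variable z in degree 1 (an S-algebra with an element z of degree 1 such that S[T] → Ŝ, T ↦ z, is
bijective), with φ : S → Ŝ the graded structure map and ψ : Ŝ → S the graded retraction with ψ ∘ φ =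
id and ψ(z) = 0 (the irrelevant-ideal containment needed to define Proj(ψ) on all of X = Proj S
carried as a hypothesis). Let Ê ⊆ Ĉ = Proj Ŝ be the pointed projective cone, the open union of the
D_+(φ f) for f ∈ S homogeneous of positive degree, and p : Ê → X a morphism which on each chart
D_+(φ f) = Spec Ŝ_{(φ f)} is induced by S_{(f)} → Ŝ_{(φ f)} (the canonical retraction). Then p is
surjective, and the closed immersion j = Proj(ψ) : X → Ĉ factors through Ê with p ∘ j = id_X. -/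
theorem result {R A : Type u} [CommRing R] [CommRing A] [Algebra R A] (𝒜 : ℕ → Submodule R A) [GradedAlgebra 𝒜]
    {B : Type u} [CommRing B] [Algebra R B] (ℬ : ℕ → Submodule R B) [GradedAlgebra ℬ]
    [Algebra A B] [IsScalarTower R A B] (φ : 𝒜 →+*ᵍ ℬ) (hφ : ∀ a : A, φ a = algebraMap A B a)
    (z : B) (hz : z ∈ ℬ 1) (hhat : Function.Bijective (Polynomial.aeval (R := A) z))
    (ψ : ℬ →+*ᵍ 𝒜) (hψφ : ∀ a : A, ψ (φ a) = a) (hψz : ψ z = 0)
    (hψ : HomogeneousIdeal.irrelevant 𝒜 ≤ (HomogeneousIdeal.irrelevant ℬ).map ψ)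
    (p : (PCone.dom φ : Scheme.{u}) ⟶ Proj 𝒜) (hp : ∀ (d : ℕ) (f : A) (hd : 0 < d) (hf : f ∈ 𝒜 d),
        PCone.chart φ hf hd ≫ p =
          Spec.map (CommRingCat.ofHom (HomogeneousLocalization.Away.map φ f)) ≫ Proj.awayι 𝒜 f hf hd) :
    Surjective p ∧ ∃ j : Proj 𝒜 ⟶ (PCone.dom φ : Scheme.{u}), j ≫ (PCone.dom φ).ι = Proj.map ψ hψ ∧ j ≫ p = 𝟙 (Proj 𝒜) := by
  exact Groth.Agent.S3597aux.main φ ψ hψφ hψ p hp

end Groth.Agent.S3597
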