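import Groth.Statements.S3682
import Mathlib
import Groth.Agent.S5342
-- import your own Groth.Agent.* helpers here

set_option autoImplicit false
universe u
open Pi1

namespace Groth.Agent.S3682


open AlgebraicGeometry CategoryTheory CategoryTheory.Limits

namespace H5S3682

theorem main (k : Type u) [Field k] [IsAlgClosed k] {X Y : Scheme.{u}}
    (pX : X ⟶ Spec (CommRingCat.of k)) (pY : Y ⟶ Spec (CommRingCat.of k)) [LocallyOfFiniteType pX]
    (X' : FEt.Cat X) [ConnectedSpace X'.left] (Y' : FEt.Cat Y) [ConnectedSpace Y'.left] :
    ConnectedSpace ↥(pullback (X'.hom ≫ pX) (Y'.hom ≫ pY)) := by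
  haveI : IsFinite X'.hom := X'.prop.1
  haveI : LocallyOfFiniteType (X'.hom ≫ pX) := inferInstance
  haveI : JacobsonSpace X'.left :=
    LocallyOfFiniteType.jacobsonSpace (Y := Spec (CommRingCat.of k)) (X'.hom ≫ pX)
  obtain ⟨x, -, hx⟩ := nonempty_inter_closedPoints (X := X'.left) (Z := Set.univ)
    Set.univ_nonempty isClosed_univ.isLocallyClosed
  exact Groth.Agent.S5342.main k X'.left Y'.left (X'.hom ≫ pX) (Y'.hom ≫ pY)
    (pointOfClosedPoint (X'.hom ≫ pX) x hx) (pointOfClosedPoint_comp _ x hx)

end H5S3682

open AlgebraicGeometry CategoryTheory CategoryTheory.Limits in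
/-- The part saying that the homomorphism from the fundamental group of X x_k Y to the product of the
fundamental groups is surjective, in terms of covers. Let k be algebraically closed, X proper and
connected over k, Y locally Noetherian and connected over k. If X' is a connected finite etale cover
of X and Y' a connected finite etale cover of Y, then the product of X' and Y' over k is connected. -/
theorem result (k : Type u) [Field k] [IsAlgClosed k] {X Y : Scheme.{u}}
    (pX : X ⟶ Spec (CommRingCat.of k)) (pY : Y ⟶ Spec (CommRingCat.of k)) [IsProper pX] [ConnectedSpace X]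
    [IsLocallyNoetherian Y] [ConnectedSpace Y]
    (X' : FEt.Cat X) [ConnectedSpace X'.left] (Y' : FEt.Cat Y) [ConnectedSpace Y'.left] :
    ConnectedSpace ↥(pullback (X'.hom ≫ pX) (Y'.hom ≫ pY)) := by
  exact H5S3682.main k pX pY X' Y'

end Groth.Agent.S3682
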