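import Groth.Statements.S3694
import Mathlib.AlgebraicGeometry.Morphisms.FlatMono
import Mathlib.AlgebraicGeometry.Morphisms.IsIso
-- import your own Groth.Agent.* helpers here

set_option autoImplicit false
universe u
open SGA1

namespace Groth.Agent.S3694

open AlgebraicGeometry CategoryTheory CategoryTheory.Limits in
/-- A morphism which is etale and universally injective (radicial) is an open immersion. (The converse
is immediate.) -/
theorem result {X Y : Scheme.{u}} (f : X ⟶ Y) [Etale f] [UniversallyInjective f] :
    IsOpenImmersion f := by
  have hsurj : Surjective (pullback.diagonal f) :=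
    (UniversallyInjective.iff_diagonal f).mp inferInstance
  have hopen : IsOpenImmersion (pullback.diagonal f) := inferInstance
  have hiso : IsIso (pullback.diagonal f) :=
    (isIso_iff_isOpenImmersion_and_surjective _).mpr ⟨hopen, hsurj⟩
  have hmono : Mono f := by
    constructor
    intro Z g h hgh
    have h1 : pullback.lift g h hgh ≫ pullback.fst f f = g := pullback.lift_fst _ _ _
    have h2 : pullback.lift g h hgh ≫ pullback.snd f f = h := pullback.lift_snd _ _ _
    have h3 : pullback.fst f f = pullback.snd f f := by
      have e1 : pullback.diagonal f ≫ pullback.fst f f = pullback.diagonal f ≫ pullback.snd f f := by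
        simp
      exact (cancel_epi (pullback.diagonal f)).mp e1
    calc g = pullback.lift g h hgh ≫ pullback.fst f f := h1.symm
      _ = pullback.lift g h hgh ≫ pullback.snd f f := by rw [h3]
      _ = h := h2
  exact IsOpenImmersion.of_flat_of_mono f

end Groth.Agent.S3694
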