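import Groth.Statements.S3707
import Mathlib
import Groth.Agent.Lib.helper22.UnramEq

set_option autoImplicit false
universe u
open SGA1

namespace Groth.Agent.S3707

section Helpers

open CategoryTheory CategoryTheory.Limits AlgebraicGeometry

theorem eq_of_surjective_equalizing {X Y S T : Scheme.{u}} (q : Y ⟶ S) [FormallyUnramified q]
    [LocallyOfFiniteType q] (u v : X ⟶ Y) (w : u ≫ q = v ≫ q) (t : T ⟶ X) [Surjective t]
    (ht : t ≫ u = t ≫ v) : u = v := by
  obtain ⟨U, hU, huniv, -⟩ := Groth.Agent.H22.UnramEq.exists_agreement_open q u v w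
  have hUtop : U = ⊤ := by
    ext x
    simp only [TopologicalSpace.Opens.coe_top, Set.mem_univ, iff_true]
    obtain ⟨z, rfl⟩ := t.surjective x
    exact huniv t ht ⟨z, rfl⟩
  subst hUtop
  have h1 := congrArg (fun φ => X.topIso.inv ≫ φ) hU
  simpa [Scheme.toIso_inv_ι_assoc] using h1

theorem main {S S' X Y : Scheme.{u}} (g : S' ⟶ S) [Surjective g] (p : X ⟶ S) (q : Y ⟶ S)
    [FormallyUnramified q] [LocallyOfFiniteType q] (u v : X ⟶ Y) (hu : p ≫ 𝟙 S = u ≫ q)
    (hv : p ≫ 𝟙 S = v ≫ q)
    (h : pullback.map p g q g u (𝟙 S') (𝟙 S) hu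
        ((Category.comp_id _).trans (Category.id_comp _).symm) =
      pullback.map p g q g v (𝟙 S') (𝟙 S) hv
        ((Category.comp_id _).trans (Category.id_comp _).symm)) : u = v := by
  refine eq_of_surjective_equalizing q u v (hu.symm.trans hv) (pullback.fst p g) ?_
  have h1 : pullback.map p g q g u (𝟙 S') (𝟙 S) hu
      ((Category.comp_id _).trans (Category.id_comp _).symm) ≫ pullback.fst q g =
      pullback.fst p g ≫ u := pullback.lift_fst _ _ _
  have h2 : pullback.map p g q g v (𝟙 S') (𝟙 S) hv
      ((Category.comp_id _).trans (Category.id_comp _).symm) ≫ pullback.fst q g =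
      pullback.fst p g ≫ v := pullback.lift_fst _ _ _
  rw [← h1, ← h2, h]

end Helpers

open AlgebraicGeometry CategoryTheory CategoryTheory.Limits in
/-- Let g : S' -> S be a surjective morphism of schemes, X and Y schemes over S with Y unramified over S
(formally unramified and locally of finite type), and X', Y' their base changes to S'. Then the map
sending an S-morphism X -> Y to the induced S'-morphism X' -> Y' is injective. -/
theorem result {S S' X Y : Scheme.{u}} (g : S' ⟶ S) [Surjective g]
    (p : X ⟶ S) (q : Y ⟶ S) [FormallyUnramified q] [LocallyOfFiniteType q]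
    (u v : X ⟶ Y) (hu : p ≫ 𝟙 S = u ≫ q) (hv : p ≫ 𝟙 S = v ≫ q)
    (h : pullback.map p g q g u (𝟙 S') (𝟙 S) hu ((Category.comp_id _).trans (Category.id_comp _).symm) =
      pullback.map p g q g v (𝟙 S') (𝟙 S) hv ((Category.comp_id _).trans (Category.id_comp _).symm)) :
    u = v := by
  exact main g p q u v hu hv h

end Groth.Agent.S3707
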