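import Groth.Statements.S3731
import Mathlib
import Groth.Agent.Lib.helper2.ChainZero
-- import your own Groth.Agent.* helpers here

set_option autoImplicit false
universe u v
open CategoryTheory CategoryTheory.Limits
attribute [local instance] HasDerivedCategory.standard
open EtDl

namespace Groth.Agent.S3731

/-- Let A be an abelian category, k ≥ 0, and K_0 -> K_1 -> ... -> K_{2k} a chain of 2k morphisms in the
derived category of A such that every K_i has H^p(K_i) = 0 for p outside [0, k] and every morphism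
K_i -> K_{i+1} induces the zero map on H^p for all p < k. Let π : K_0 -> H^k(K_0)[-k] be the
morphism to the top cohomology object placed in degree k that induces the identity on H^k. Then the
composite K_0 -> K_{2k} factors through π. -/
theorem result {A : Type u} [Category.{v} A] [Abelian A] (k : ℕ)
    (K : ComposableArrows (DerivedCategory A) (2 * k))
    (hK : ∀ (i : ℕ) (hi : i ≤ 2 * k) (p : ℤ), p < 0 ∨ (k : ℤ) < p →
      IsZero ((DerivedCategory.homologyFunctor A p).obj (K.obj' i)))
    (hf : ∀ (i : ℕ) (hi : i < 2 * k) (p : ℤ), p < (k : ℤ) →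
      (DerivedCategory.homologyFunctor A p).map (K.map' i (i + 1)) = 0)
    (π : K.obj' 0 ⟶ (DerivedCategory.singleFunctor A (k : ℤ)).obj
      ((DerivedCategory.homologyFunctor A (k : ℤ)).obj (K.obj' 0)))
    (hπ : (DerivedCategory.homologyFunctor A (k : ℤ)).map π ≫
      (DerivedCategory.singleFunctorCompHomologyFunctorIso A (k : ℤ)).hom.app
        ((DerivedCategory.homologyFunctor A (k : ℤ)).obj (K.obj' 0)) = 𝟙 _) :
    ∃ φ : (DerivedCategory.singleFunctor A (k : ℤ)).obj
        ((DerivedCategory.homologyFunctor A (k : ℤ)).obj (K.obj' 0)) ⟶ K.obj' (2 * k),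
      K.map' 0 (2 * k) = π ≫ φ := by
  -- boundedness of the objects
  have hGE : ∀ (i : ℕ) (hi : i ≤ 2 * k), (K.obj' i).IsGE 0 := fun i hi => by
    rw [DerivedCategory.isGE_iff]
    intro p hp
    exact hK i hi p (Or.inl hp)
  have hLE : ∀ (i : ℕ) (hi : i ≤ 2 * k), (K.obj' i).IsLE (k : ℤ) := fun i hi => by
    rw [DerivedCategory.isLE_iff]
    intro p hp
    exact hK i hi p (Or.inr hp)
  -- transported form of `hf`
  have hf' : ∀ (i : ℕ) (hi : i < 2 * k) (x y : Fin (2 * k + 1)) (hx : x.val = i)
      (hy : y.val = i + 1) (h : x ⟶ y) (p : ℤ), p < (k : ℤ) →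
      (DerivedCategory.homologyFunctor A p).map (K.map h) = 0 := by
    intro i hi x y hx hy h p hp
    obtain ⟨x, hx'⟩ := x
    obtain ⟨y, hy'⟩ := y
    simp only at hx hy
    subst hx hy
    have := hf x hi p hp
    exact (congrArg (fun q => (DerivedCategory.homologyFunctor A p).map (K.map q))
      (Subsingleton.elim h _)).trans this
  -- the truncated chain
  let m : ℕ → Fin (2 * k + 1) := fun i => ⟨min i (2 * k), by lia⟩
  have hm : Monotone m := fun i j h => by
    simp only [m, Fin.mk_le_mk]
    exact min_le_min_right _ h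
  let G : ℕ ⥤ DerivedCategory A := hm.functor ⋙ K ⋙
    (DerivedCategory.TStructure.t (C := A)).truncLT (k : ℤ)
  have hG : G.map (homOfLE (Nat.zero_le k)) = 0 := by
    refine Groth.Agent.Lib.helper2.ChainZero.map_eq_zero k 0 ((k : ℤ) - 1) (by lia) G ?_ ?_ ?_
    · intro i hi
      have := hGE (min i (2 * k)) (min_le_right _ _)
      change (DerivedCategory.TStructure.t (C := A)).IsGE
        (((DerivedCategory.TStructure.t (C := A)).truncLT (k : ℤ)).obj
          (K.obj' (min i (2 * k)))) 0
      infer_instance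
    · intro i hi
      change (DerivedCategory.TStructure.t (C := A)).IsLE
        (((DerivedCategory.TStructure.t (C := A)).truncLT (k : ℤ)).obj
          (K.obj' (min i (2 * k)))) ((k : ℤ) - 1)
      infer_instance
    · intro i hi p
      change (DerivedCategory.homologyFunctor A p).map
        (((DerivedCategory.TStructure.t (C := A)).truncLT (k : ℤ)).map
          (K.map (hm.functor.map (homOfLE (Nat.le_succ i))))) = 0
      apply Groth.Agent.Lib.helper2.ChainZero.homology_map_truncLT_eq_zero
      intro q hq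
      exact hf' i (by lia) _ _ (show min i (2 * k) = i by lia)
        (show min (i + 1) (2 * k) = i + 1 by lia) _ q hq
  -- the composite kills the truncation
  have gen : ∀ (x y : Fin (2 * k + 1)) (u : x ⟶ y),
      ((DerivedCategory.TStructure.t (C := A)).truncLT (k : ℤ)).map (K.map u) = 0 →
      ∀ (hx : x = ⟨0, by lia⟩) (v : y ⟶ ⟨2 * k, by lia⟩),
      ((DerivedCategory.TStructure.t (C := A)).truncLTι (k : ℤ)).app (K.obj' 0) ≫
        K.map' 0 (2 * k) = 0 := by
    intro x y u hu hx v
    subst hx
    have h1 : K.map' 0 (2 * k) = K.map u ≫ K.map v := by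
      rw [← Functor.map_comp]
      exact congrArg K.map (Subsingleton.elim _ _)
    have nat := ((DerivedCategory.TStructure.t (C := A)).truncLTι (k : ℤ)).naturality (K.map u)
    change _ = _ ≫ K.map u at nat
    rw [h1, ← Category.assoc]
    change (((DerivedCategory.TStructure.t (C := A)).truncLTι (k : ℤ)).app _ ≫ K.map u) ≫ _ = 0
    rw [← nat, hu, zero_comp, zero_comp]
  have h0 : ((DerivedCategory.TStructure.t (C := A)).truncLTι (k : ℤ)).app (K.obj' 0) ≫
      K.map' 0 (2 * k) = 0 :=
    gen (m 0) (m k) (hm.functor.map (homOfLE (Nat.zero_le k))) hG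
      (Fin.ext (by simp [m])) (homOfLE (by simp only [m, Fin.mk_le_mk]; lia))
  -- factor through the truncation `τ_{≥ k}`
  have hT := (DerivedCategory.TStructure.t (C := A)).triangleLTGE_distinguished (k : ℤ) (K.obj' 0)
  obtain ⟨φ', hφ'⟩ := Pretriangulated.Triangle.yoneda_exact₂ _ hT (K.map' 0 (2 * k)) h0
  have hπ0 : ((DerivedCategory.TStructure.t (C := A)).truncLTι (k : ℤ)).app (K.obj' 0) ≫ π = 0 := by
    have : (DerivedCategory.TStructure.t (C := A)).IsLE
      (((DerivedCategory.TStructure.t (C := A)).truncLT (k : ℤ)).obj (K.obj' 0)) ((k : ℤ) - 1) :=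
      inferInstance
    have : (DerivedCategory.TStructure.t (C := A)).IsGE
      ((DerivedCategory.singleFunctor A (k : ℤ)).obj
        ((DerivedCategory.homologyFunctor A (k : ℤ)).obj (K.obj' 0))) (k : ℤ) := inferInstance
    exact (DerivedCategory.TStructure.t (C := A)).zero _ ((k : ℤ) - 1) (k : ℤ) (by lia)
  obtain ⟨θ, hθ⟩ := Pretriangulated.Triangle.yoneda_exact₂ _ hT π hπ0
  change K.map' 0 (2 * k) =
    ((DerivedCategory.TStructure.t (C := A)).truncGEπ (k : ℤ)).app (K.obj' 0) ≫ φ' at hφ'
  change π = ((DerivedCategory.TStructure.t (C := A)).truncGEπ (k : ℤ)).app (K.obj' 0) ≫ θ at hθ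
  have hθiso : IsIso θ := by
    rw [DerivedCategory.isIso_iff]
    intro n
    have i0 := hLE 0 (Nat.zero_le _)
    have i1 : (DerivedCategory.TStructure.t (C := A)).IsGE
      (((DerivedCategory.TStructure.t (C := A)).truncGE (k : ℤ)).obj (K.obj' 0 (Nat.zero_le _))) (k : ℤ) :=
      inferInstance
    have i2 : (DerivedCategory.TStructure.t (C := A)).IsLE
      (((DerivedCategory.TStructure.t (C := A)).truncGE (k : ℤ)).obj (K.obj' 0 (Nat.zero_le _))) (k : ℤ) :=
      inferInstance
    have i3 : (DerivedCategory.TStructure.t (C := A)).IsGE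
      ((DerivedCategory.singleFunctor A (k : ℤ)).obj
        ((DerivedCategory.homologyFunctor A (k : ℤ)).obj (K.obj' 0 (Nat.zero_le _)))) (k : ℤ) := inferInstance
    have i4 : (DerivedCategory.TStructure.t (C := A)).IsLE
      ((DerivedCategory.singleFunctor A (k : ℤ)).obj
        ((DerivedCategory.homologyFunctor A (k : ℤ)).obj (K.obj' 0 (Nat.zero_le _)))) (k : ℤ) := inferInstance
    obtain hn | rfl | hn := lt_trichotomy n (k : ℤ)
    · have z1 := DerivedCategory.isZero_of_isGE
        (((DerivedCategory.TStructure.t (C := A)).truncGE (k : ℤ)).obj (K.obj' 0 (Nat.zero_le _))) (k : ℤ) n hn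
      have z2 := DerivedCategory.isZero_of_isGE
        ((DerivedCategory.singleFunctor A (k : ℤ)).obj
          ((DerivedCategory.homologyFunctor A (k : ℤ)).obj (K.obj' 0 (Nat.zero_le _)))) (k : ℤ) n hn
      exact ⟨⟨0, z1.eq_of_src _ _, z2.eq_of_src _ _⟩⟩
    · have e1 := Groth.Agent.Lib.helper2.DerTrunc.isIso_homology_map_truncGEπ (K.obj' 0 (Nat.zero_le _))
        (k : ℤ) (k : ℤ) le_rfl
      have e2 : IsIso ((DerivedCategory.homologyFunctor A (k : ℤ)).map π) := by
        have h3 : (DerivedCategory.homologyFunctor A (k : ℤ)).map π =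
            inv ((DerivedCategory.singleFunctorCompHomologyFunctorIso A (k : ℤ)).hom.app
              ((DerivedCategory.homologyFunctor A (k : ℤ)).obj (K.obj' 0 (Nat.zero_le _)))) := by
          rw [← cancel_mono ((DerivedCategory.singleFunctorCompHomologyFunctorIso A (k : ℤ)).hom.app
              ((DerivedCategory.homologyFunctor A (k : ℤ)).obj (K.obj' 0 (Nat.zero_le _)))), hπ, IsIso.inv_hom_id]
        rw [h3]
        infer_instance
      have e3 : (DerivedCategory.homologyFunctor A (k : ℤ)).map
          (((DerivedCategory.TStructure.t (C := A)).truncGEπ (k : ℤ)).app (K.obj' 0 (Nat.zero_le _))) ≫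
          (DerivedCategory.homologyFunctor A (k : ℤ)).map θ =
          (DerivedCategory.homologyFunctor A (k : ℤ)).map π := by
        rw [← Functor.map_comp, ← hθ]
      exact @IsIso.of_isIso_fac_left _ _ _ _ _ _ _ _ e1 e2 e3
    · have z1 := DerivedCategory.isZero_of_isLE
        (((DerivedCategory.TStructure.t (C := A)).truncGE (k : ℤ)).obj (K.obj' 0 (Nat.zero_le _))) (k : ℤ) n hn
      have z2 := DerivedCategory.isZero_of_isLE
        ((DerivedCategory.singleFunctor A (k : ℤ)).obj
          ((DerivedCategory.homologyFunctor A (k : ℤ)).obj (K.obj' 0 (Nat.zero_le _)))) (k : ℤ) n hn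
      exact ⟨⟨0, z1.eq_of_src _ _, z2.eq_of_src _ _⟩⟩
  refine ⟨inv θ ≫ φ', ?_⟩
  rw [hφ', hθ, Category.assoc]
  congr 1
  exact (IsIso.hom_inv_id_assoc θ φ').symm

end Groth.Agent.S3731
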