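import Groth.Statements.S3791
import Groth.Agent.Lib.helper6.LambdaBasic
-- import your own Groth.Agent.* helpers here

set_option autoImplicit false
universe v u
open CategoryTheory CategoryTheory.Limits AlgebraicGeometry
attribute [local instance] HasDerivedCategory.standard
open KRR

namespace Groth.Agent.S3791

open Groth.Agent.Lib.helper6.LambdaBasic in
/-- Let K be a λ-ring with positive structure P and u an ample line element (for every x, u^n x is a
positive element minus a natural number for all large n). Then for every line element v, the element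
v - 1 is nilpotent. -/
theorem result (K : Type v) [CommRing K] [LambdaRing.LambdaOps K] (P : LambdaRing.PosStructure K)
    (u : K) (hu : KRR.IsAmpleElt P u) (w : K) (hw : P.IsLine w) : IsNilpotent (w - 1) := by
  obtain ⟨huline, hamp⟩ := hu
  -- for a line element v, u^n * v - 1 is nilpotent for large n
  have key : ∀ v : K, P.IsLine v → ∃ n₀ : ℕ, ∀ n : ℕ, n₀ ≤ n → IsNilpotent (u ^ n * v - 1) := by
    intro v hv
    obtain ⟨n₀, hn₀⟩ := hamp (-v)
    refine ⟨n₀, fun n hn => ?_⟩
    obtain ⟨e, m, he, hem⟩ := hn₀ n hn
    have hline : P.IsLine (u ^ n * v) := isLine_mul P (isLine_pow P huline n) hv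
    have hsum : e + u ^ n * v = (m : K) := by
      have : u ^ n * v = (m : K) - e := by
        have h1 : u ^ n * -v = -(u ^ n * v) := by ring
        rw [h1] at hem
        have h2 : u ^ n * v = -(e - (m : K)) := by rw [← hem]; ring
        rw [h2]; ring
      rw [this]; ring
    exact ⟨m, sub_one_pow_eq_zero P he hline m hsum⟩
  obtain ⟨n₁, hn₁⟩ := key w hw
  obtain ⟨n₂, hn₂⟩ := key 1 (isLine_one P)
  set n := max n₁ n₂ with hn
  have h1 : IsNilpotent (u ^ n * w - 1) := hn₁ n (le_max_left _ _)
  have h2 : IsNilpotent (u ^ n * 1 - 1) := hn₂ n (le_max_right _ _)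
  have h3 : IsNilpotent (u ^ n * (w - 1)) := by
    have : u ^ n * (w - 1) = (u ^ n * w - 1) - (u ^ n * 1 - 1) := by ring
    rw [this]
    exact (Commute.all _ _).isNilpotent_sub h1 h2
  obtain ⟨k, hk⟩ := h3
  refine ⟨k, ?_⟩
  rw [mul_pow] at hk
  have hunit : IsUnit ((u ^ n) ^ k) := ((isUnit_of_isLine P huline).pow n).pow k
  exact (hunit.mul_right_eq_zero).mp hk

end Groth.Agent.S3791
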