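import Groth.Statements.S3792
-- import your own Groth.Agent.* helpers here
import Groth.Agent.Lib.helper6.Split

set_option autoImplicit false
universe v u
open CategoryTheory CategoryTheory.Limits AlgebraicGeometry
attribute [local instance] HasDerivedCategory.standard
open KRR

namespace Groth.Agent.S3792

/-- Let K be a λ-ring with positive structure having the splitting property, e a positive element and j
≥ 1. Then ψ^j(λ_{-1}(e)) = λ_{-1}(e) · θ^j(e), where λ_{-1}(e) = Σ_{i ≤ ε(e)} (-1)^i λ^i(e), ψ^j is
the Adams operation and θ^j(e) is Bott's cannibalistic class (the universal polynomial in the λ^i(e)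
which is Π (1 + u_i + ⋯ + u_i^{j-1}) on a splitting e = Σ u_i). -/
theorem result (K : Type v) [CommRing K] [LambdaRing.LambdaOps K] (P : LambdaRing.PosStructure K) (hK : LambdaRing.HasSplitting K P) (e : K) (he : e ∈ P.pos) (j : ℕ) (hj : 1 ≤ j) :
    LambdaRing.adams P j (KRR.lamAlt P e) = KRR.lamAlt P e * KRR.bott P j e := by
  obtain ⟨L', hL', f, hf, u, hu, hsum⟩ := Groth.Agent.Lib.helper6.Split.exists_split_fin P hK e he
  apply hf.injective
  rw [Groth.Agent.H5.Adams.map_adams hf, map_mul, Groth.Agent.Lib.helper6.Split.map_lamAlt hf,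
    Groth.Agent.Lib.helper6.Split.map_bott hf, ← hsum,
    Groth.Agent.Lib.helper6.Split.lamAlt_sum_fin _ u hu,
    Groth.Agent.Lib.helper6.Split.bott_sum_fin _ u hu, ← Finset.prod_mul_distrib]
  have h1 : LambdaRing.adams L'.posStr j (∏ i, (1 - u i)) =
      ∏ i, LambdaRing.adams L'.posStr j (1 - u i) :=
    map_prod (Groth.Agent.H5.Adams.adamsRingHom L'.posStr hL' j) _ _
  rw [h1]
  refine Finset.prod_congr rfl fun i _ => ?_
  rw [Groth.Agent.H5.Adams.adams_sub, Groth.Agent.H5.Adams.adams_one,
    Groth.Agent.H5.Adams.adams_of_isLine _ _ (hu i)]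
  exact (mul_neg_geom_sum (u i) j).symm

end Groth.Agent.S3792
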