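import Groth.Statements.S3795
-- import your own Groth.Agent.* helpers here
import Groth.Agent.Lib.helper6.AdamsGr

set_option autoImplicit false
universe v u
open CategoryTheory CategoryTheory.Limits AlgebraicGeometry
attribute [local instance] HasDerivedCategory.standard
open KRR

namespace Groth.Agent.S3795

/-- Let K be a λ-ring with positive structure having the splitting property, j ≥ 2, n ≥ 0 and x ∈ K. If
ψ^j(x) - j^n x lies in ℚF^{n+1} (some positive multiple lies in F^{n+1}, γ-filtration), then x lies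
in ℚF^n (some positive multiple of x lies in F^n). -/
theorem result (K : Type v) [CommRing K] [LambdaRing.LambdaOps K] (P : LambdaRing.PosStructure K) (hK : LambdaRing.HasSplitting K P) (j : ℕ) (hj : 2 ≤ j) (n : ℕ) (x : K)
    (hx : ∃ N : ℕ, 1 ≤ N ∧ (N : K) * (LambdaRing.adams P j x - (j : K) ^ n * x) ∈ LambdaRing.gammaFiltration P (n + 1)) :
    ∃ N : ℕ, 1 ≤ N ∧ (N : K) * x ∈ LambdaRing.gammaFiltration P n := by
  classical
  obtain ⟨N₀, hN₀, hx⟩ := hx
  have key : ∀ m : ℕ, m ≤ n → ∃ N : ℕ, 1 ≤ N ∧ (N : K) * x ∈ LambdaRing.gammaFiltration P m := by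
    intro m
    induction m with
    | zero =>
      intro _
      exact ⟨1, le_refl 1, Groth.Agent.Lib.helper6.GammaFil.mem_zero P _⟩
    | succ m ih =>
      intro hm
      obtain ⟨N, hN, hNx⟩ := ih (by omega)
      have h1 := Groth.Agent.Lib.helper6.AdamsGr.adams_sub_pow_mul_mem P hK j m _ hNx
      rw [Groth.Agent.H5.Adams.adams_mul P hK, Groth.Agent.Lib.helper6.AdamsGr.adams_natCast P hK] at h1
      have h2 : (N₀ : K) * (LambdaRing.adams P j x - (j : K) ^ n * x) ∈
          LambdaRing.gammaFiltration P (m + 1) :=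
        Groth.Agent.Lib.helper6.GammaFil.gammaFiltration_antitone P (by omega) hx
      have hle : j ^ m ≤ j ^ n := Nat.pow_le_pow_right (by omega) (by omega)
      have hlt : j ^ m < j ^ n := Nat.pow_lt_pow_right (by omega) (by omega)
      refine ⟨N * N₀ * (j ^ n - j ^ m), ?_, ?_⟩
      · have : 1 ≤ j ^ n - j ^ m := by omega
        exact Nat.mul_pos (Nat.mul_pos hN hN₀) this
      · have h3 := sub_mem (Groth.Agent.Lib.helper6.GammaFil.mul_mem_left P (N₀ : K) h1)
          (Groth.Agent.Lib.helper6.GammaFil.mul_mem_left P (N : K) h2)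
        have e : ((N * N₀ * (j ^ n - j ^ m) : ℕ) : K) * x =
            (N₀ : K) * ((N : K) * LambdaRing.adams P j x - (j : K) ^ m * ((N : K) * x)) -
              (N : K) * ((N₀ : K) * (LambdaRing.adams P j x - (j : K) ^ n * x)) := by
          rw [Nat.cast_mul, Nat.cast_mul, Nat.cast_sub hle, Nat.cast_pow, Nat.cast_pow]
          ring
        rw [e]
        exact h3
  exact key n (le_refl n)

end Groth.Agent.S3795
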