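import Groth.Statements.S3808
-- import your own Groth.Agent.* helpers here
import Groth.Agent.Lib.helper6.PP

set_option autoImplicit false
universe u
open scoped TensorProduct
open PP16

namespace Groth.Agent.S3808

/-- Let A → B be a ring map, R a multiplicative subset of A, S one of B containing the image of R, and
A' = R⁻¹A, B' = S⁻¹B with the induced map A' → B'. Then the canonical map P^n_{B'/A} → P^n_{B'/A'}
is bijective. -/
theorem result (n : ℕ) (A B A' B' : Type u) [CommRing A] [CommRing B] [Algebra A B]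
    [CommRing A'] [CommRing B'] [Algebra A A'] [Algebra B B'] [Algebra A' B'] [Algebra A B']
    [IsScalarTower A A' B'] [IsScalarTower A B B'] (R : Submonoid A) (S : Submonoid B) [IsLocalization R A']
    [IsLocalization S B'] (hRS : ∀ r ∈ R, algebraMap A B r ∈ S) :
    Function.Bijective (PP16.map n A B' A' B') := by
  have hB : Function.Surjective (algebraMap B' B') := fun x => ⟨x, rfl⟩
  have hker : RingHom.ker (PP16.tensorMap A B' A' B') = ⊥ := by
    rw [Groth.Agent.H6.PP.ker_tensorMap_tower A A' B', eq_bot_iff,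
      ← KaehlerDifferential.span_range_eq_ideal, Ideal.map_span, Ideal.span_le]
    rintro _ ⟨_, ⟨a', rfl⟩, rfl⟩
    change PP16.tensorMap A A' A B' ((1 : A') ⊗ₜ[A] a' - a' ⊗ₜ[A] (1 : A')) = 0
    rw [map_sub, PP16.tensorMap_tmul, PP16.tensorMap_tmul, map_one, sub_eq_zero]
    obtain ⟨⟨a, r⟩, h⟩ := IsLocalization.surj R a'
    simp only at h
    have hu : IsUnit (algebraMap A B' r) := by
      rw [IsScalarTower.algebraMap_apply A B B']
      exact IsLocalization.map_units B' (⟨algebraMap A B r, hRS r r.2⟩ : S)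
    obtain ⟨u, hu⟩ := hu
    have h1 : algebraMap A' B' a' * (u : B') = algebraMap A B' a := by
      rw [hu, IsScalarTower.algebraMap_apply A A' B', IsScalarTower.algebraMap_apply A A' B',
        ← map_mul, h]
    have h2 : algebraMap A' B' a' = a • ((u⁻¹ : B'ˣ) : B') := by
      rw [Algebra.smul_def, ← h1, mul_assoc, Units.mul_inv, mul_one]
    have h3 : (r : A) • ((u⁻¹ : B'ˣ) : B') = 1 := by
      rw [Algebra.smul_def, ← hu, Units.mul_inv]
    calc (1 : B') ⊗ₜ[A] (algebraMap A' B' a')
        = (1 : B') ⊗ₜ[A] (a • ((u⁻¹ : B'ˣ) : B')) := by rw [← h2]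
      _ = (a • (1 : B')) ⊗ₜ[A] ((u⁻¹ : B'ˣ) : B') := by rw [TensorProduct.smul_tmul]
      _ = ((r : A) • algebraMap A' B' a') ⊗ₜ[A] ((u⁻¹ : B'ˣ) : B') := by
          congr 1
          rw [Algebra.smul_def, mul_one, ← h1, Algebra.smul_def, hu, mul_comm]
      _ = (algebraMap A' B' a') ⊗ₜ[A] ((r : A) • ((u⁻¹ : B'ˣ) : B')) := by rw [TensorProduct.smul_tmul]
      _ = (algebraMap A' B' a') ⊗ₜ[A] (1 : B') := by rw [h3]
  refine ⟨?_, Groth.Agent.H6.PP.map_surjective n A B' A' B' hB⟩
  rw [injective_iff_map_eq_zero]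
  intro x hx
  have : x ∈ RingHom.ker (PP16.map n A B' A' B') := hx
  rw [Groth.Agent.H6.PP.ker_map n A B' A' B' hB, hker, Ideal.map_bot] at this
  exact this

end Groth.Agent.S3808
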