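import Groth.Statements.S3809
-- import your own Groth.Agent.* helpers here
import Groth.Agent.Lib.helper6.PP

set_option autoImplicit false
universe u
open scoped TensorProduct
open PP16

namespace Groth.Agent.S3809

/-- Let A → B → C be ring maps. Then the canonical map P^n_{C/A} → P^n_{C/B} is surjective, and its
kernel is the ideal generated by the image, under the canonical map P^n_{B/A} → P^n_{C/A}, of the
augmentation ideal of P^n_{B/A}. -/
theorem result (n : ℕ) (A B C : Type u) [CommRing A] [CommRing B] [CommRing C]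
    [Algebra A B] [Algebra B C] [Algebra A C] [IsScalarTower A B C] :
    Function.Surjective (PP16.map n A C B C) ∧
      RingHom.ker (PP16.map n A C B C) = (PP16.augIdeal n A B).map (PP16.map n A B A C) := by
  have hB : Function.Surjective (algebraMap C C) := fun x => ⟨x, rfl⟩
  refine ⟨Groth.Agent.H6.PP.map_surjective n A C B C hB, ?_⟩
  rw [Groth.Agent.H6.PP.ker_map n A C B C hB, Groth.Agent.H6.PP.ker_tensorMap_tower A B C]
  unfold PP16.augIdeal
  have e1 : Ideal.map (Ideal.Quotient.mk (KaehlerDifferential.ideal A C ^ (n + 1)))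
      (Ideal.map (PP16.tensorMap A B A C) (KaehlerDifferential.ideal A B)) =
      Ideal.map ((Ideal.Quotient.mk (KaehlerDifferential.ideal A C ^ (n + 1))).comp
        (PP16.tensorMap A B A C : B ⊗[A] B →+* C ⊗[A] C)) (KaehlerDifferential.ideal A B) := by
    change Ideal.map _ (Ideal.map ((PP16.tensorMap A B A C : B ⊗[A] B →ₐ[A] C ⊗[A] C) :
      B ⊗[A] B →+* C ⊗[A] C) _) = _
    rw [Ideal.map_map]
  have e2 : Ideal.map (PP16.map n A B A C)
      (Ideal.map (Ideal.Quotient.mk (KaehlerDifferential.ideal A B ^ (n + 1)))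
        (KaehlerDifferential.ideal A B)) =
      Ideal.map (((PP16.map n A B A C : PP16.P n A B →ₐ[A] PP16.P n A C) :
        PP16.P n A B →+* PP16.P n A C).comp
        (Ideal.Quotient.mk (KaehlerDifferential.ideal A B ^ (n + 1)))) (KaehlerDifferential.ideal A B) := by
    change Ideal.map ((PP16.map n A B A C : PP16.P n A B →ₐ[A] PP16.P n A C) :
        PP16.P n A B →+* PP16.P n A C) _ = _
    rw [Ideal.map_map]
  rw [e1, e2]
  rfl

end Groth.Agent.S3809
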