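import Groth.Statements.S3811
-- import your own Groth.Agent.* helpers here
import Groth.Agent.Lib.helper6.PP

set_option autoImplicit false
universe u
open scoped TensorProduct
open PP16

namespace Groth.Agent.S3811

/-- Let B be an A-algebra with an A-algebra retraction g : B → A, and K the kernel of g. The composite
of d^n : B → P^n_{B/A} with the projection P^n_{B/A} → P^n_{B/A} / K P^n_{B/A} (base change of
P^n_{B/A} along g) is surjective with kernel K^(n+1); thus P^n_{B/A} ⊗_B A is identified with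
B/K^(n+1), the class of d^n t corresponding to the class of t. -/
theorem result (n : ℕ) (A B : Type u) [CommRing A] [CommRing B] [Algebra A B]
    (g : B →ₐ[A] A) :
    Function.Surjective ((Ideal.Quotient.mk ((RingHom.ker g).map (algebraMap B (PP16.P n A B)))).comp
        (PP16.dn n A B).toRingHom) ∧
      RingHom.ker ((Ideal.Quotient.mk ((RingHom.ker g).map (algebraMap B (PP16.P n A B)))).comp
        (PP16.dn n A B).toRingHom) = RingHom.ker g ^ (n + 1) := by
  obtain ⟨K, hK⟩ : ∃ K : Ideal B, K = RingHom.ker g := ⟨_, rfl⟩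
  rw [← hK]
  have hgK : ∀ b : B, b - algebraMap A B (g b) ∈ K := by
    intro b
    rw [hK, RingHom.mem_ker, map_sub, AlgHom.commutes]
    simp
  let I := KaehlerDifferential.ideal A B
  let θ : B ⊗[A] B →ₐ[A] B := Algebra.TensorProduct.lift ((Algebra.ofId A B).comp g) (AlgHom.id A B)
    (fun _ _ => Commute.all _ _)
  have hθ : ∀ b b' : B, θ (b ⊗ₜ[A] b') = algebraMap A B (g b) * b' := by
    intro b b'
    simp [θ, Algebra.TensorProduct.lift_tmul, Algebra.ofId_apply]
  have hθI : I.map θ ≤ K := by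
    change Ideal.map θ (KaehlerDifferential.ideal A B) ≤ K
    rw [← KaehlerDifferential.span_range_eq_ideal, Ideal.map_span, Ideal.span_le]
    rintro _ ⟨_, ⟨b, rfl⟩, rfl⟩
    change θ ((1 : B) ⊗ₜ[A] b - b ⊗ₜ[A] (1 : B)) ∈ K
    rw [map_sub, hθ, hθ, map_one, map_one, one_mul, mul_one]
    exact hgK b
  have hθK : (K.map (Algebra.TensorProduct.includeLeft : B →ₐ[A] B ⊗[A] B)).map θ ≤ ⊥ := by
    rw [Ideal.map_le_iff_le_comap, Ideal.map_le_iff_le_comap]
    intro k hk
    rw [Ideal.mem_comap, Ideal.mem_comap, Ideal.mem_bot]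
    change θ (k ⊗ₜ[A] (1 : B)) = 0
    rw [hθ, mul_one]
    rw [hK, RingHom.mem_ker] at hk
    rw [hk, map_zero]
  obtain ⟨J, hJ⟩ : ∃ J : Ideal (PP16.P n A B), J = K.map (algebraMap B (PP16.P n A B)) := ⟨_, rfl⟩
  rw [← hJ]
  obtain ⟨ψ, hψ⟩ : ∃ ψ : B →+* (PP16.P n A B ⧸ J),
      ψ = (Ideal.Quotient.mk J).comp (PP16.dn n A B).toRingHom := ⟨_, rfl⟩
  rw [← hψ]
  have hψ' : ∀ b : B, ψ b = Ideal.Quotient.mk J (Ideal.Quotient.mk (I ^ (n + 1)) ((1 : B) ⊗ₜ[A] b)) := by
    intro b; rw [hψ]; rfl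
  have hkey : ∀ x : B ⊗[A] B, Ideal.Quotient.mk J (Ideal.Quotient.mk (I ^ (n + 1)) x) = ψ (θ x) := by
    intro x
    induction x using TensorProduct.induction_on with
    | zero => simp
    | tmul b b' =>
      rw [hθ, hψ', Ideal.Quotient.eq, ← map_sub]
      have h1 : b ⊗ₜ[A] b' - (1 : B) ⊗ₜ[A] ((algebraMap A B) (g b) * b') =
          ((b - algebraMap A B (g b)) ⊗ₜ[A] (1 : B)) * ((1 : B) ⊗ₜ[A] b') := by
        rw [Algebra.TensorProduct.tmul_mul_tmul, mul_one, one_mul, TensorProduct.sub_tmul,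
          ← Algebra.smul_def, TensorProduct.tmul_smul, TensorProduct.smul_tmul',
          Algebra.algebraMap_eq_smul_one]
      rw [h1, map_mul, hJ]
      exact Ideal.mul_mem_right _ _ (Ideal.mem_map_of_mem _ (hgK b))
    | add x y hx hy => rw [map_add, map_add, map_add, map_add, hx, hy]
  constructor
  · intro y
    obtain ⟨z, rfl⟩ := Ideal.Quotient.mk_surjective y
    obtain ⟨x, rfl⟩ := Ideal.Quotient.mk_surjective z
    exact ⟨θ x, (hkey x).symm⟩
  · apply le_antisymm
    · intro b hb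
      rw [RingHom.mem_ker, hψ', Ideal.Quotient.eq_zero_iff_mem, hJ] at hb
      -- pull back to the tensor product
      have h2 : (1 : B) ⊗ₜ[A] b ∈ I ^ (n + 1) ⊔
          K.map (Algebra.TensorProduct.includeLeft : B →ₐ[A] B ⊗[A] B) := by
        have h3 : Ideal.map (algebraMap B (PP16.P n A B)) K =
            Ideal.map (Ideal.Quotient.mk (I ^ (n + 1)))
              (K.map (Algebra.TensorProduct.includeLeft : B →ₐ[A] B ⊗[A] B)) := by
          change _ = Ideal.map (Ideal.Quotient.mk (I ^ (n + 1)))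
            (K.map ((Algebra.TensorProduct.includeLeft : B →ₐ[A] B ⊗[A] B) : B →+* B ⊗[A] B))
          rw [Ideal.map_map]; rfl
        rw [h3, Ideal.mem_map_iff_of_surjective _ Ideal.Quotient.mk_surjective] at hb
        obtain ⟨z, hz, hzb⟩ := hb
        have : (1 : B) ⊗ₜ[A] b - z ∈ I ^ (n + 1) := by
          rw [← Ideal.Quotient.eq]; exact hzb.symm
        have h4 : (1 : B) ⊗ₜ[A] b = ((1 : B) ⊗ₜ[A] b - z) + z := by ring
        rw [h4]
        exact Submodule.add_mem_sup this hz
      have h5 : θ ((1 : B) ⊗ₜ[A] b) ∈ (I ^ (n + 1) ⊔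
          K.map (Algebra.TensorProduct.includeLeft : B →ₐ[A] B ⊗[A] B)).map θ :=
        Ideal.mem_map_of_mem _ h2
      rw [hθ, map_one, map_one, one_mul, Ideal.map_sup, Ideal.map_pow] at h5
      have h6 : Ideal.map θ I ^ (n + 1) ⊔ Ideal.map θ (Ideal.map
          (Algebra.TensorProduct.includeLeft : B →ₐ[A] B ⊗[A] B) K) ≤ K ^ (n + 1) := by
        refine sup_le (Ideal.pow_right_mono hθI _) (hθK.trans bot_le)
      exact h6 h5
    · have h7 : K.map ψ ≤ (I.map (Ideal.Quotient.mk (I ^ (n + 1)))).map (Ideal.Quotient.mk J) := by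
        rw [Ideal.map_le_iff_le_comap]
        intro k hk
        rw [Ideal.mem_comap, hψ']
        have h8 : (1 : B) ⊗ₜ[A] k = ((1 : B) ⊗ₜ[A] k - k ⊗ₜ[A] (1 : B)) + k ⊗ₜ[A] (1 : B) := by ring
        rw [h8, map_add, map_add]
        have h9 : Ideal.Quotient.mk J (Ideal.Quotient.mk (I ^ (n + 1)) (k ⊗ₜ[A] (1 : B))) = 0 := by
          rw [Ideal.Quotient.eq_zero_iff_mem, hJ]
          exact Ideal.mem_map_of_mem (algebraMap B (PP16.P n A B)) hk
        rw [h9, add_zero]
        exact Ideal.mem_map_of_mem _ (Ideal.mem_map_of_mem _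
          (KaehlerDifferential.one_smul_sub_smul_one_mem_ideal A k))
      have h10 : (K ^ (n + 1)).map ψ ≤ ⊥ := by
        have e := Ideal.map_pow ψ K (n + 1)
        rw [e]
        refine (Ideal.pow_right_mono h7 _).trans ?_
        have e2 := Ideal.map_pow (Ideal.Quotient.mk J)
          (Ideal.map (Ideal.Quotient.mk (I ^ (n + 1))) I) (n + 1)
        have e3 := Ideal.map_pow (Ideal.Quotient.mk (I ^ (n + 1))) I (n + 1)
        rw [← e2, ← e3, Ideal.map_quotient_self, Ideal.map_bot]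
      rw [Ideal.map_le_iff_le_comap] at h10
      exact h10

end Groth.Agent.S3811
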