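import Groth.Statements.S3812
-- import your own Groth.Agent.* helpers here
import Groth.Agent.Lib.helper6.PP
import Mathlib.RingTheory.MvPolynomial.Ideal

set_option autoImplicit false
universe u
open scoped TensorProduct
open PP16

namespace Groth.Agent.S3812

/-- Let B = A[T_i] be a polynomial algebra. There is an isomorphism of B-algebras from P^n_{B/A} onto
B[U_i]/(U)^(n+1), where (U) is the ideal generated by the new indeterminates, sending the principal
part d^n T_i to the class of T_i + U_i for every i (so d^n F(T) goes to the class of F(T + U)). -/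
theorem result (n : ℕ) (A : Type u) [CommRing A] (σ : Type u) :
    ∃ e : PP16.P n A (MvPolynomial σ A) ≃ₐ[MvPolynomial σ A]
        (MvPolynomial σ (MvPolynomial σ A) ⧸
          Ideal.span (Set.range (MvPolynomial.X : σ → MvPolynomial σ (MvPolynomial σ A))) ^ (n + 1)),
      ∀ i : σ, e (PP16.dn n A (MvPolynomial σ A) (MvPolynomial.X i)) =
        Ideal.Quotient.mk _ (MvPolynomial.C (MvPolynomial.X i : MvPolynomial σ A) +
          (MvPolynomial.X i : MvPolynomial σ (MvPolynomial σ A))) := by
  classical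
  let fR : MvPolynomial σ A →ₐ[A] MvPolynomial σ (MvPolynomial σ A) :=
    MvPolynomial.aeval (fun i => MvPolynomial.C (MvPolynomial.X i : MvPolynomial σ A) +
      (MvPolynomial.X i : MvPolynomial σ (MvPolynomial σ A)))
  let φ : MvPolynomial σ A ⊗[A] MvPolynomial σ A →ₐ[MvPolynomial σ A]
      MvPolynomial σ (MvPolynomial σ A) :=
    Algebra.TensorProduct.lift (Algebra.ofId (MvPolynomial σ A) (MvPolynomial σ (MvPolynomial σ A)))
      fR (fun _ _ => Commute.all _ _)
  let ψ : MvPolynomial σ (MvPolynomial σ A) →ₐ[MvPolynomial σ A]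
      MvPolynomial σ A ⊗[A] MvPolynomial σ A :=
    MvPolynomial.aeval (fun i => (1 : MvPolynomial σ A) ⊗ₜ[A] (MvPolynomial.X i : MvPolynomial σ A) -
      (MvPolynomial.X i : MvPolynomial σ A) ⊗ₜ[A] (1 : MvPolynomial σ A))
  have hφ : ∀ b c : MvPolynomial σ A, φ (b ⊗ₜ[A] c) = MvPolynomial.C b * fR c := by
    intro b c
    simp [φ, Algebra.TensorProduct.lift_tmul, Algebra.ofId_apply, MvPolynomial.algebraMap_eq]
  have hφψ : φ.comp ψ = AlgHom.id (MvPolynomial σ A) (MvPolynomial σ (MvPolynomial σ A)) := by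
    apply MvPolynomial.algHom_ext
    intro i
    simp only [AlgHom.comp_apply, AlgHom.id_apply, ψ, MvPolynomial.aeval_X, map_sub, hφ]
    simp [fR]
  have hψφ : ψ.comp φ = AlgHom.id (MvPolynomial σ A) (MvPolynomial σ A ⊗[A] MvPolynomial σ A) := by
    apply Algebra.TensorProduct.ext
    · ext
    · apply MvPolynomial.algHom_ext
      intro i
      simp only [AlgHom.comp_apply, AlgHom.id_apply, AlgHom.coe_restrictScalars',
        Algebra.TensorProduct.includeRight_apply, hφ]
      simp [fR, ψ]
  let Φ : (MvPolynomial σ A ⊗[A] MvPolynomial σ A) ≃ₐ[MvPolynomial σ A]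
      MvPolynomial σ (MvPolynomial σ A) := AlgEquiv.ofAlgHom φ ψ hφψ hψφ
  have hΦ : ∀ x, Φ x = φ x := fun x => rfl
  have hcc : ∀ b : MvPolynomial σ A, MvPolynomial.constantCoeff (fR b) = b := by
    intro b
    have h1 : ((MvPolynomial.aeval (fun _ : σ => (0 : MvPolynomial σ A)) :
        MvPolynomial σ (MvPolynomial σ A) →ₐ[MvPolynomial σ A] MvPolynomial σ A).restrictScalars A).comp fR =
        AlgHom.id A (MvPolynomial σ A) := by
      apply MvPolynomial.algHom_ext
      intro i
      simp [fR]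
    have h2 := DFunLike.congr_fun h1 b
    simp only [AlgHom.comp_apply, AlgHom.coe_restrictScalars', AlgHom.id_apply] at h2
    have h3 := MvPolynomial.aeval_zero (S₁ := MvPolynomial σ A) (fR b)
    rw [Algebra.algebraMap_self, RingHom.id_apply] at h3
    rw [← h3]
    exact h2
  have hI : (Ideal.span (Set.range (MvPolynomial.X : σ → MvPolynomial σ (MvPolynomial σ A)))) =
      (KaehlerDifferential.ideal A (MvPolynomial σ A)).map
        (Φ : (MvPolynomial σ A ⊗[A] MvPolynomial σ A) →+* MvPolynomial σ (MvPolynomial σ A)) := by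
    apply le_antisymm
    · rw [Ideal.span_le]
      rintro _ ⟨i, rfl⟩
      have h1 : (MvPolynomial.X i : MvPolynomial σ (MvPolynomial σ A)) =
          Φ ((1 : MvPolynomial σ A) ⊗ₜ[A] (MvPolynomial.X i : MvPolynomial σ A) -
            (MvPolynomial.X i : MvPolynomial σ A) ⊗ₜ[A] (1 : MvPolynomial σ A)) := by
        rw [hΦ, map_sub, hφ, hφ]
        simp [fR]
      rw [h1]
      exact Ideal.mem_map_of_mem _ (KaehlerDifferential.one_smul_sub_smul_one_mem_ideal A _)
    · rw [← KaehlerDifferential.span_range_eq_ideal, Ideal.map_span, Ideal.span_le]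
      rintro _ ⟨_, ⟨b, rfl⟩, rfl⟩
      change Φ ((1 : MvPolynomial σ A) ⊗ₜ[A] b - b ⊗ₜ[A] (1 : MvPolynomial σ A)) ∈ _
      rw [hΦ, map_sub, hφ, hφ, map_one, map_one, one_mul, mul_one]
      have h2 := (MvPolynomial.mem_pow_idealOfVars_iff' 1 (fR b - MvPolynomial.C b)).mpr (by
        intro x hx
        rw [Nat.lt_one_iff, Finsupp.degree_eq_zero_iff] at hx
        subst hx
        rw [MvPolynomial.coeff_sub, MvPolynomial.coeff_zero_C, sub_eq_zero]
        exact hcc b)
      rw [pow_one] at h2
      exact h2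
  have hpow : (Ideal.span (Set.range (MvPolynomial.X : σ → MvPolynomial σ (MvPolynomial σ A)))) ^ (n + 1) =
      ((KaehlerDifferential.ideal A (MvPolynomial σ A)) ^ (n + 1)).map
        (Φ : (MvPolynomial σ A ⊗[A] MvPolynomial σ A) →+* MvPolynomial σ (MvPolynomial σ A)) := by
    rw [Ideal.map_pow, hI]
  refine ⟨Ideal.quotientEquivAlg _ _ Φ hpow, ?_⟩
  intro i
  change Ideal.Quotient.mk _ (Φ ((1 : MvPolynomial σ A) ⊗ₜ[A] (MvPolynomial.X i : MvPolynomial σ A))) = _
  rw [hΦ, hφ]
  simp [fR]

end Groth.Agent.S3812
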