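import Groth.Statements.S3814
import Mathlib.RingTheory.Finiteness.NilpotentKer
import Mathlib.RingTheory.Finiteness.ModuleFinitePresentation
import Mathlib.RingTheory.FiniteStability
import Mathlib.RingTheory.EssentialFiniteness
-- import your own Groth.Agent.* helpers here

set_option autoImplicit false
universe u
open scoped TensorProduct
open PP16

namespace Groth.Agent.S3814

/-- If B is an A-algebra of finite presentation, then for every n the B-module P^n_{B/A} of principal
parts of order n is of finite presentation. -/
theorem result (n : ℕ) (A B : Type u) [CommRing A] [CommRing B]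
    [Algebra A B] [Algebra.FinitePresentation A B] :
    Module.FinitePresentation B (PP16.P n A B) := by
  have hfg : (KaehlerDifferential.ideal A B).FG := KaehlerDifferential.ideal_fg A B
  have hfgpow : (KaehlerDifferential.ideal A B ^ (n + 1)).FG := hfg.pow
  -- finitely presented as an algebra
  have h1 : Algebra.FinitePresentation B (B ⊗[A] B) := inferInstance
  have h2 : Algebra.FinitePresentation B (PP16.P n A B) :=
    Algebra.FinitePresentation.quotient hfgpow
  -- finite as a module
  have h3 : Module.Finite B (PP16.P n A B) := by
    let f : PP16.P n A B →ₐ[B] B :=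
      Ideal.Quotient.liftₐ _ (Algebra.TensorProduct.lmul'' (S := B) A) (by
        intro x hx
        have hle : KaehlerDifferential.ideal A B ^ (n + 1) ≤ KaehlerDifferential.ideal A B :=
          Ideal.pow_le_self (Nat.succ_ne_zero n)
        exact (RingHom.mem_ker).mp (hle hx))
    have hfmk : ∀ x : B ⊗[A] B, f (Ideal.Quotient.mk _ x) = Algebra.TensorProduct.lmul' (S := B) A x :=
      fun x => rfl
    have hf₁ : Function.Surjective f := by
      intro b
      refine ⟨Ideal.Quotient.mk _ (b ⊗ₜ[A] 1), ?_⟩
      rw [hfmk]; simp
    have hker : RingHom.ker f = (KaehlerDifferential.ideal A B).map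
        (Ideal.Quotient.mk (KaehlerDifferential.ideal A B ^ (n + 1))) := by
      ext x
      obtain ⟨y, rfl⟩ := Ideal.Quotient.mk_surjective x
      rw [RingHom.mem_ker, hfmk]
      constructor
      · intro h
        exact Ideal.mem_map_of_mem _ ((RingHom.mem_ker).mpr h)
      · intro h
        rw [Ideal.mem_map_iff_of_surjective _ Ideal.Quotient.mk_surjective] at h
        obtain ⟨z, hz, hzy⟩ := h
        have : z - y ∈ KaehlerDifferential.ideal A B ^ (n + 1) := by
          rw [← Ideal.Quotient.eq]; exact hzy
        have hle : KaehlerDifferential.ideal A B ^ (n + 1) ≤ KaehlerDifferential.ideal A B :=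
          Ideal.pow_le_self (Nat.succ_ne_zero n)
        have hy : y ∈ KaehlerDifferential.ideal A B := by
          have := Ideal.sub_mem _ hz (hle this)
          simpa using this
        exact (RingHom.mem_ker).mp hy
    have hf₂ : RingHom.ker f ≤ nilradical (PP16.P n A B) := by
      rw [hker]
      intro x hx
      rw [mem_nilradical]
      refine ⟨n + 1, ?_⟩
      have : x ^ (n + 1) ∈ ((KaehlerDifferential.ideal A B).map
        (Ideal.Quotient.mk (KaehlerDifferential.ideal A B ^ (n + 1)))) ^ (n + 1) :=
        Ideal.pow_mem_pow hx _
      rw [← Ideal.map_pow] at this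
      rw [Ideal.map_quotient_self] at this
      simpa using this
    have hf₃ : (RingHom.ker f).FG := by
      rw [hker]
      exact hfg.map _
    exact Module.finite_of_surjective_of_ker_le_nilradical f hf₁ hf₂ hf₃
  exact Module.FinitePresentation.of_finite_of_finitePresentation _ _

end Groth.Agent.S3814
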