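import Groth.Statements.S3828
import Groth.Agent.Lib.helper26.RegSeqC

set_option autoImplicit false
universe u
open QReg16

namespace Groth.Agent.S3828

theorem mem_of_forall_mem_sup_pow {A : Type u} [CommRing A] [IsNoetherianRing A] (R K : Ideal A)
    (hrad : R ≤ (⊥ : Ideal A).jacobson) (x : A) (hx : ∀ N : ℕ, x ∈ K ⊔ R ^ N) : x ∈ K := by
  have h1 : (⨅ i : ℕ, R ^ i • ⊤ : Submodule A (A ⧸ K)) = ⊥ :=
    Ideal.iInf_pow_smul_eq_bot_of_le_jacobson R hrad
  have h2 : (Ideal.Quotient.mk K x : A ⧸ K) ∈ (⨅ i : ℕ, R ^ i • ⊤ : Submodule A (A ⧸ K)) := by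
    rw [Submodule.mem_iInf]
    intro N
    obtain ⟨k, hk, z, hz, hkz⟩ := Submodule.mem_sup.1 (hx N)
    have : (Ideal.Quotient.mk K x : A ⧸ K) = z • (Ideal.Quotient.mk K 1 : A ⧸ K) := by
      rw [← hkz, map_add, Ideal.Quotient.eq_zero_iff_mem.2 hk, zero_add]
      show _ = Ideal.Quotient.mk K (z • 1)
      rw [smul_eq_mul, mul_one]
    rw [this]
    exact Submodule.smul_mem_smul hz Submodule.mem_top
  rw [h1, Submodule.mem_bot] at h2
  exact Ideal.Quotient.eq_zero_iff_mem.1 h2

/-- Let A be a Noetherian ring, J an ideal of A, and f_1, …, f_r elements of A forming a weakly regular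
sequence on A/J (each f_i a nonzerodivisor on A/(J + (f_1, …, f_{i−1}))) and generating an ideal R
contained in the Jacobson radical of A; put Q = J + R. Then J ∩ Rⁿ = J·Rⁿ for every n > 0, and J ∩
Q² = J·Q (equivalently, the canonical map J/JQ → Q/Q² is injective). -/
theorem result {A : Type u} [CommRing A] [IsNoetherianRing A] (J : Ideal A)
    {r : ℕ} (f : Fin r → A) (hf : RingTheory.Sequence.IsWeaklyRegular (A ⧸ J) (List.ofFn f))
    (hrad : Ideal.span (Set.range f) ≤ (⊥ : Ideal A).jacobson) :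
    (∀ n : ℕ, 0 < n → J ⊓ Ideal.span (Set.range f) ^ n = J * Ideal.span (Set.range f) ^ n) ∧
      J ⊓ (J ⊔ Ideal.span (Set.range f)) ^ 2 = J * (J ⊔ Ideal.span (Set.range f)) := by
  have hWR := Groth.Agent.Lib.helper26.RegSeqC.WR_quot_of_isWeaklyRegular J f hf
  set R := Ideal.span (Set.range f) with hR
  have h1 : ∀ n : ℕ, J ⊓ R ^ n = J * R ^ n := by
    intro n
    apply le_antisymm
    · intro x hx
      apply mem_of_forall_mem_sup_pow R (J * R ^ n) hrad x
      intro N
      rcases le_total N n with hNn | hnN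
      · exact Ideal.mem_sup_right (Ideal.pow_le_pow_right hNn hx.2)
      · have := Groth.Agent.Lib.helper26.RegSeqC.inf_pow_eq J f hWR n N hnN
        rw [← hR] at this
        rw [this] at hx
        have hle : J * R ^ n ⊔ J ⊓ R ^ N ≤ J * R ^ n ⊔ R ^ N :=
          sup_le le_sup_left (le_sup_of_le_right inf_le_right)
        exact hle hx
    · exact le_inf Ideal.mul_le_left Ideal.mul_le_right
  refine ⟨fun n _ => h1 n, ?_⟩
  apply le_antisymm
  · rintro x ⟨hxJ, hxQ⟩
    have hQ : (J ⊔ R) ^ 2 ≤ J * (J ⊔ R) ⊔ R ^ 2 := by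
      rw [pow_two, Ideal.sup_mul, pow_two]
      refine sup_le le_sup_left ?_
      rw [Ideal.mul_sup]
      refine sup_le ?_ le_sup_right
      rw [mul_comm]
      exact le_sup_of_le_left (Ideal.mul_mono_right le_sup_right)
    obtain ⟨y, hy, z, hz, hyz⟩ := Submodule.mem_sup.1 (hQ hxQ)
    have hzJ : z ∈ J := by
      have : z = x - y := by rw [← hyz]; ring
      rw [this]
      exact J.sub_mem hxJ (Ideal.mul_le_left hy)
    have hz' : z ∈ J * R ^ 2 := by
      rw [← h1 2]; exact ⟨hzJ, hz⟩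
    have hz'' : z ∈ J * (J ⊔ R) :=
      Ideal.mul_mono_right ((Ideal.pow_le_self two_ne_zero).trans le_sup_right) hz'
    rw [← hyz]
    exact Ideal.add_mem _ hy hz''
  · exact le_inf Ideal.mul_le_left ((Ideal.mul_mono_left le_sup_left).trans (by rw [pow_two]))

end Groth.Agent.S3828
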