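import Groth.Statements.S3830
-- import your own Groth.Agent.* helpers here
import Groth.Agent.Lib.helper6.QFPoly
import Mathlib.RingTheory.Unramified.LocalStructure
import Mathlib.RingTheory.Smooth.Flat

set_option autoImplicit false
universe u
open Unram17

namespace Groth.Agent.S3830

/-- b) implies a) (affine pointwise form): let B be an A-algebra of finite presentation and q a prime of
B. If B is smooth over A at q and quasi-finite over A at q, then B is étale over A at q. -/
theorem result (A B : Type u) [CommRing A] [CommRing B] [Algebra A B]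
    [Algebra.FinitePresentation A B] (q : Ideal B) [q.IsPrime] [Algebra.QuasiFiniteAt A q]
    (h : Algebra.IsSmoothAt A q) : Algebra.IsEtaleAt A q := by
  haveI := h
  obtain ⟨f, hfq, n, alg, tower, hstd⟩ :=
    Algebra.IsSmoothAt.exists_isStandardEtale_mvPolynomial (R := A) (p := q)
  haveI hP : (q.map (algebraMap B (Localization.Away f))).IsPrime :=
    IsLocalization.isPrime_of_isPrime_disjoint (.powers f) _ _ ‹_›
      ((Ideal.disjoint_powers_iff_notMem_of_isPrime _).mpr hfq)
  have hcomap : q = (q.map (algebraMap B (Localization.Away f))).comap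
      ((IsScalarTower.toAlgHom A B (Localization.Away f) : B →ₐ[A] Localization.Away f) :
        B →+* Localization.Away f) :=
    (IsLocalization.comap_map_of_isPrime_disjoint (.powers f) _ ‹_›
      ((Ideal.disjoint_powers_iff_notMem_of_isPrime _).mpr hfq)).symm
  have hQF : Algebra.QuasiFiniteAt A (q.map (algebraMap B (Localization.Away f))) :=
    Algebra.QuasiFiniteAt.of_surjectiveOnStalks q (IsScalarTower.toAlgHom A B (Localization.Away f))
      (RingHom.surjectiveOnStalks_of_isLocalization (.powers f) _) _ hcomap
  cases n with
  | succ m =>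
    exact absurd hQF (Groth.Agent.H6.QFPoly.not_quasiFiniteAt_of_flat_mvPolynomial m _)
  | zero =>
    haveI : Algebra.Etale A (MvPolynomial (Fin 0) A) :=
      Algebra.Etale.of_equiv (MvPolynomial.isEmptyAlgEquiv A (Fin 0)).symm
    haveI : Algebra.Etale A (Localization.Away f) :=
      Algebra.Etale.comp A (MvPolynomial (Fin 0) A) (Localization.Away f)
    have h1 : (↑(PrimeSpectrum.basicOpen f) : Set (PrimeSpectrum B)) ⊆ Algebra.etaleLocus A B :=
      Algebra.basicOpen_subset_etaleLocus_iff_etale.mpr inferInstance
    exact h1 (show (⟨q, inferInstance⟩ : PrimeSpectrum B) ∈ PrimeSpectrum.basicOpen f from hfq)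

end Groth.Agent.S3830
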