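import Groth.Statements.S3833
import Mathlib

set_option autoImplicit false
universe u
open CategoryTheory CategoryTheory.Limits AlgebraicGeometry TopologicalSpace
open Rat20

namespace Groth.Agent.S3833

/-- Stated for a global section, the case of a section over an open subset U being the same statement
for the open subscheme U: let X be a scheme and s a global section of O_X which is regular in the
sense that its germ at every point x is a non-zero-divisor of the local ring O_{X,x} (on an affine
scheme this is the same as being a non-zero-divisor of Γ(X, O_X), but not in general). Then the open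
subset X_s where s is invertible is schematically dense in X. -/
theorem result (X : Scheme.{u}) (s : Γ(X, ⊤))
    (hs : ∀ x : ↥X, (X.presheaf.germ ⊤ x trivial s) ∈ nonZeroDivisors ↑(X.presheaf.stalk x)) :
    CInt.IsSchematicallyDense (X.basicOpen s) := by
  intro V a b hab
  rw [← sub_eq_zero] at hab ⊢
  rw [← map_sub] at hab
  generalize a - b = c at hab ⊢
  apply TopCat.Presheaf.section_ext X.sheaf V
  intro x hx
  show X.presheaf.germ V x hx c = X.presheaf.germ V x hx 0
  rw [map_zero]
  obtain ⟨W, hW, hxW, hWV⟩ := exists_isAffineOpen_mem_and_subset (x := x) (U := V) hx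
  let sW : Γ(X, W) := X.presheaf.map (homOfLE (le_top : W ≤ ⊤)).op s
  let cW : Γ(X, W) := X.presheaf.map (homOfLE hWV).op c
  have hle : X.basicOpen sW ≤ V ⊓ X.basicOpen s := by
    rw [Scheme.basicOpen_res]; exact inf_le_inf_right _ hWV
  have H : X.presheaf.map (homOfLE (X.basicOpen_le sW)).op cW = 0 := by
    have h1 : X.presheaf.map (homOfLE (X.basicOpen_le sW)).op cW =
        X.presheaf.map (homOfLE hle).op
          (X.presheaf.map (homOfLE (inf_le_left : V ⊓ X.basicOpen s ≤ V)).op c) := by
      simp only [cW, ← CommRingCat.comp_apply, ← Functor.map_comp]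
      rfl
    rw [h1, hab, map_zero]
  obtain ⟨n, hn⟩ := exists_pow_mul_eq_zero_of_res_basicOpen_eq_zero_of_isAffineOpen X hW cW sW H
  have hgerm := congrArg (X.presheaf.germ W x hxW) hn
  rw [map_mul, map_pow, map_zero] at hgerm
  have h2 : X.presheaf.germ W x hxW sW = X.presheaf.germ ⊤ x trivial s :=
    TopCat.Presheaf.germ_res_apply X.presheaf (homOfLE (le_top : W ≤ ⊤)) x hxW s
  have h3 : X.presheaf.germ W x hxW cW = X.presheaf.germ V x hx c :=
    TopCat.Presheaf.germ_res_apply X.presheaf (homOfLE hWV) x hxW c
  rw [h2, h3] at hgerm
  exact (mul_left_mem_nonZeroDivisors_eq_zero_iff (pow_mem (hs x) n)).mp hgerm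

end Groth.Agent.S3833
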