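import Groth.Statements.S3842
import Mathlib
-- import your own Groth.Agent.* helpers here

set_option autoImplicit false
universe u
open CategoryTheory CategoryTheory.Limits AlgebraicGeometry TopologicalSpace
open Rat20

namespace Groth.Agent.S3842

namespace H5S3842
open AlgebraicGeometry CategoryTheory TopologicalSpace Opposite

lemma comp_meets_dense {X : Type*} [TopologicalSpace X]
    (hfin : ∀ x : X, ∃ W : Set X, IsOpen W ∧ x ∈ W ∧
      {Z ∈ irreducibleComponents X | (Z ∩ W).Nonempty}.Finite)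
    (V : Set X) (hV : Dense V) (Z : Set X) (hZ : Z ∈ irreducibleComponents X) :
    (V ∩ Z).Nonempty := by
  classical
  obtain ⟨z, hz⟩ := hZ.1.nonempty
  obtain ⟨W, hWo, hzW, hfinW⟩ := hfin z
  let t : Finset (Set X) := (hfinW.toFinset).erase Z
  have ht : ∀ Z'' ∈ t, Z'' ≠ Z ∧ Z'' ∈ irreducibleComponents X ∧ (Z'' ∩ W).Nonempty := by
    intro Z'' h
    have h' := Finset.mem_erase.1 h
    exact ⟨h'.1, (Set.Finite.mem_toFinset hfinW).1 h'.2⟩
  have hclosed : IsClosed (⋃₀ (t : Set (Set X))) := by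
    rw [Set.sUnion_eq_biUnion]
    exact t.finite_toSet.isClosed_biUnion
      (fun Z'' h => isClosed_of_mem_irreducibleComponents _ (ht Z'' h).2.1)
  have hns : ¬ (Z ∩ W ⊆ ⋃₀ (t : Set (Set X))) := by
    intro hsub
    have hZsub : Z ⊆ ⋃₀ (t : Set (Set X)) :=
      (subset_closure_inter_of_isPreirreducible_of_isOpen hZ.1.isPreirreducible hWo
        ⟨z, hz, hzW⟩).trans (closure_minimal hsub hclosed)
    obtain ⟨Z'', hZ''t, hZZ''⟩ := (isIrreducible_iff_sUnion_isClosed.1 hZ.1) t
      (fun Z'' h => isClosed_of_mem_irreducibleComponents _ (ht Z'' h).2.1) hZsub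
    have h1 := ht Z'' hZ''t
    exact h1.1 (subset_antisymm (hZ.2 h1.2.1.1 hZZ'') hZZ'')
  obtain ⟨y, ⟨hyZ, hyW⟩, hyt⟩ := Set.not_subset.1 hns
  obtain ⟨v, hvO, hvV⟩ := hV.inter_open_nonempty (W \ ⋃₀ (t : Set (Set X)))
    (hWo.sdiff hclosed) ⟨y, hyW, hyt⟩
  refine ⟨v, hvV, ?_⟩
  by_contra hvZ
  apply hvO.2
  refine ⟨irreducibleComponent v, ?_, mem_irreducibleComponent⟩
  rw [Finset.mem_coe, Finset.mem_erase]
  refine ⟨fun h => hvZ (h ▸ mem_irreducibleComponent), ?_⟩
  rw [Set.Finite.mem_toFinset]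
  exact ⟨irreducibleComponent_mem_irreducibleComponents v, v, mem_irreducibleComponent, hvO.1⟩

lemma top_dense {X : Scheme.{u}} (V : X.Opens) (hV : CInt.IsSchematicallyDense V) :
    Dense (V : Set X) := by
  rw [dense_iff_inter_open]
  intro U hU hne
  by_contra hcon
  rw [Set.not_nonempty_iff_eq_empty] at hcon
  let W : X.Opens := ⟨U, hU⟩
  have hWV : W ⊓ V = ⊥ := by
    ext x
    simp only [Opens.coe_inf, Opens.coe_bot]
    rw [← hcon]
    rfl
  have hsub : Subsingleton Γ(X, W ⊓ V) := by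
    rw [hWV]
    infer_instance
  have hsub2 : Subsingleton Γ(X, W) := (hV W).subsingleton
  obtain ⟨x, hx⟩ := hne
  have h1 : (1 : Γ(X, W)) = 0 := Subsingleton.elim _ _
  have h2 := congrArg (X.presheaf.germ W x hx).hom h1
  rw [map_one, map_zero] at h2
  exact one_ne_zero h2

theorem main {X X' : Scheme.{u}} (f : X' ⟶ X) [IsReduced X']
    (hfin : ∀ x : ↥X, ∃ W : X.Opens, x ∈ W ∧
      {Z ∈ irreducibleComponents ↥X | (Z ∩ (W : Set ↥X)).Nonempty}.Finite)
    (hdom : ∀ Z' ∈ irreducibleComponents ↥X', closure (f '' Z') ∈ irreducibleComponents ↥X)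
    (V : X.Opens) (hV : CInt.IsSchematicallyDense V) : CInt.IsSchematicallyDense (f ⁻¹ᵁ V) := by
  have hVd := top_dense V hV
  -- f⁻¹V is dense
  have hdense : ∀ B : X'.Opens, B ⊓ f ⁻¹ᵁ V = ⊥ → B = ⊥ := by
    intro B hB
    by_contra hne
    obtain ⟨x, hx⟩ : ∃ x, x ∈ B := by
      by_contra h
      push Not at h
      apply hne
      ext y
      simp only [Opens.coe_bot, Set.mem_empty_iff_false, iff_false]
      exact h y
    have hZ' := irreducibleComponent_mem_irreducibleComponents x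
    obtain ⟨v, hvV, hvZ⟩ := comp_meets_dense
      (fun x => by
        obtain ⟨W, hxW, hW⟩ := hfin x
        exact ⟨W, W.isOpen, hxW, hW⟩) (V : Set X) hVd _ (hdom _ hZ')
    -- V meets closure (f '' Z') hence f '' Z'
    obtain ⟨w, hw1, hw2⟩ := mem_closure_iff.1 hvZ (V : Set X) V.isOpen hvV
    obtain ⟨x', hx'Z, rfl⟩ := hw2
    -- irreducibility of Z'
    obtain ⟨y, hyZ, hyB, hyV⟩ := hZ'.1.isPreirreducible (B : Set X') ((f ⁻¹ᵁ V : X'.Opens) : Set X')
      B.isOpen (f ⁻¹ᵁ V).isOpen ⟨x, mem_irreducibleComponent, hx⟩ ⟨x', hx'Z, hw1⟩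
    have : y ∈ B ⊓ f ⁻¹ᵁ V := ⟨hyB, hyV⟩
    rw [hB] at this
    exact this
  intro V'
  rw [injective_iff_map_eq_zero]
  intro s hs
  apply AlgebraicGeometry.eq_zero_of_basicOpen_eq_bot
  apply hdense
  have h1 := X'.basicOpen_res s (homOfLE (inf_le_left : V' ⊓ f ⁻¹ᵁ V ≤ V')).op
  rw [hs, Scheme.basicOpen_zero] at h1
  rw [eq_bot_iff]
  intro y hy
  have : y ∈ (V' ⊓ f ⁻¹ᵁ V) ⊓ X'.basicOpen s := ⟨⟨X'.basicOpen_le s hy.1, hy.2⟩, hy.1⟩
  rw [← h1] at this
  exact this

end H5S3842

/-- For the open subset U = X; the general case is the same statement over the open subscheme U: let f :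
X' → X be a morphism of schemes with X' reduced, suppose the irreducible components of X form a
locally finite family and that every irreducible component of X' dominates an irreducible component
of X (the closure of its image is an irreducible component of X). Then for every schematically dense
open subset V of X, the preimage f⁻¹(V) is schematically dense in X'. -/
theorem result {X X' : Scheme.{u}} (f : X' ⟶ X) [IsReduced X']
    (hfin : ∀ x : ↥X, ∃ W : X.Opens, x ∈ W ∧ {Z ∈ irreducibleComponents ↥X | (Z ∩ (W : Set ↥X)).Nonempty}.Finite)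
    (hdom : ∀ Z' ∈ irreducibleComponents ↥X', closure (f '' Z') ∈ irreducibleComponents ↥X)
    (V : X.Opens) (hV : CInt.IsSchematicallyDense V) : CInt.IsSchematicallyDense (f ⁻¹ᵁ V) := by
  exact H5S3842.main f hfin hdom V hV

end Groth.Agent.S3842
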