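import Groth.Statements.S3844
import Mathlib
-- import your own Groth.Agent.* helpers here

set_option autoImplicit false
universe u
open CategoryTheory CategoryTheory.Limits AlgebraicGeometry TopologicalSpace
open Rat20

namespace Groth.Agent.S3844

namespace H5S3844
open TensorProduct AlgebraicGeometry CategoryTheory TopologicalSpace Opposite

lemma res_zero_iff {X : Scheme.{u}} {U : X.Opens} (hU : IsAffineOpen U) (x f : Γ(X, U)) :
    X.presheaf.map (homOfLE (X.basicOpen_le f)).op x = 0 ↔ ∃ n : ℕ, f ^ n * x = 0 := by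
  haveI := hU.isLocalization_basicOpen f
  have := IsLocalization.map_eq_zero_iff (Submonoid.powers f) Γ(X, X.basicOpen f) x
  rw [RingHom.algebraMap_toAlgebra] at this
  refine this.trans ⟨?_, ?_⟩
  · rintro ⟨⟨_, n, rfl⟩, h⟩
    exact ⟨n, h⟩
  · rintro ⟨n, h⟩
    exact ⟨⟨_, n, rfl⟩, h⟩

lemma finite_cover {X : Scheme.{u}} [IsLocallyNoetherian X] (V W : X.Opens) (hW : IsAffineOpen W) :
    ∃ t : Finset Γ(X, W), (∀ a ∈ t, X.basicOpen a ≤ V) ∧ W ⊓ V ≤ ⨆ a : t, X.basicOpen a.1 := by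
  haveI : IsNoetherianRing Γ(X, W) := IsLocallyNoetherian.component_noetherian ⟨W, hW⟩
  haveI : NoetherianSpace W := noetherianSpace_of_isAffineOpen W hW
  have hc : IsCompact ((W ⊓ V : X.Opens) : Set X) := by
    have h1 := (NoetherianSpace.isCompact (Subtype.val ⁻¹' (V : Set X) : Set W)).image
      continuous_subtype_val
    have h2 : ((W ⊓ V : X.Opens) : Set X) =
        Subtype.val '' (Subtype.val ⁻¹' (V : Set X) : Set W) := by
      apply Set.ext
      intro x
      constructor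
      · rintro ⟨hxW, hxV⟩
        exact ⟨⟨x, hxW⟩, hxV, rfl⟩
      · rintro ⟨⟨y, hyW⟩, hyV, rfl⟩
        exact ⟨hyW, hyV⟩
    rw [h2]
    exact h1
  have hex : ∀ x : (W ⊓ V : X.Opens), ∃ a : Γ(X, W), X.basicOpen a ≤ V ∧ x.1 ∈ X.basicOpen a := by
    intro x
    exact hW.exists_basicOpen_le (V := V) ⟨x.1, x.2.2⟩ x.2.1
  choose a ha1 ha2 using hex
  obtain ⟨t, ht⟩ := hc.elim_finite_subcover (fun x => ((X.basicOpen (a x) : X.Opens) : Set X))
    (fun x => (X.basicOpen (a x)).isOpen) (fun x hx => Set.mem_iUnion.2 ⟨⟨x, hx⟩, ha2 ⟨x, hx⟩⟩)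
  classical
  refine ⟨t.image a, ?_, ?_⟩
  · intro b hb
    obtain ⟨x, -, rfl⟩ := Finset.mem_image.1 hb
    exact ha1 x
  · intro x hx
    obtain ⟨i, hi⟩ := Set.mem_iUnion.1 (ht hx)
    obtain ⟨hit, hi⟩ := Set.mem_iUnion.1 hi
    exact Opens.mem_iSup.2 ⟨⟨a i, Finset.mem_image.2 ⟨i, hit, rfl⟩⟩, hi⟩

lemma alg_core {A B : Type*} [CommRing A] [CommRing B] [Algebra A B] [Module.Flat A B]
    {ι : Type*} [Finite ι] (a : ι → A)
    (hinj : ∀ x : A, (∀ i, ∃ n : ℕ, a i ^ n * x = 0) → x = 0) (b : B)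
    (hb : ∀ i, ∃ n : ℕ, algebraMap A B (a i) ^ n * b = 0) : b = 0 := by
  classical
  have := Fintype.ofFinite ι
  choose n hn using hb
  let ψ : A →ₗ[A] (ι → A) := LinearMap.pi (fun i => (a i ^ n i) • LinearMap.id)
  have hψ : Function.Injective ψ := by
    rw [injective_iff_map_eq_zero]
    intro x hx
    apply hinj
    intro i
    refine ⟨n i, ?_⟩
    have := congrFun hx i
    simpa [ψ] using this
  have h1 := Module.Flat.lTensor_preserves_injective_linearMap (M := B) ψ hψ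
  have h2 : (ψ.lTensor B) (b ⊗ₜ[A] (1 : A)) = 0 := by
    apply (TensorProduct.piScalarRight A A B ι).injective
    rw [map_zero, LinearMap.lTensor_tmul]
    ext i
    simp only [TensorProduct.piScalarRight_apply, TensorProduct.piScalarRightHom_tmul, Pi.zero_apply]
    have : ψ 1 i = a i ^ n i := by simp [ψ]
    rw [this, Algebra.smul_def, map_pow]
    exact hn i
  have h3 : b ⊗ₜ[A] (1 : A) = 0 := h1 (by rw [h2, map_zero])
  have := congrArg (TensorProduct.rid A B) h3
  simpa using this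


lemma affine_case {X X' : Scheme.{u}} (f : X' ⟶ X) [Flat f] [IsLocallyNoetherian X] (V : X.Opens)
    (hV : CInt.IsSchematicallyDense V) (W : X.Opens) (hW : IsAffineOpen W) (V'' : X'.Opens)
    (hV'' : IsAffineOpen V'') (e : V'' ≤ f ⁻¹ᵁ W) (s : Γ(X', V''))
    (hs : X'.presheaf.map (homOfLE (inf_le_left : V'' ⊓ f ⁻¹ᵁ V ≤ V'')).op s = 0) : s = 0 := by
  obtain ⟨t, ht1, ht2⟩ := finite_cover V W hW
  have hflat : (f.appLE W V'' e).hom.Flat :=
    HasRingHomProperty.appLE (P := @Flat) f inferInstance ⟨W, hW⟩ ⟨V'', hV''⟩ e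
  letI := (f.appLE W V'' e).hom.toAlgebra
  haveI : Module.Flat Γ(X, W) Γ(X', V'') := hflat
  refine alg_core (A := Γ(X, W)) (B := Γ(X', V'')) (ι := t) (fun a => a.1) ?_ s ?_
  · intro x hx
    apply hV W
    rw [map_zero]
    refine X.sheaf.eq_of_locally_eq' (fun a : t => X.basicOpen a.1) (W ⊓ V)
      (fun a => homOfLE (le_inf (X.basicOpen_le _) (ht1 a.1 a.2))) ht2 _ _ ?_
    intro a
    refine Eq.trans ?_ (map_zero (X.presheaf.map _).hom).symm
    have := (res_zero_iff hW x a.1).2 (hx a)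
    rw [← this]
    change (X.presheaf.map _ ≫ X.presheaf.map _) x = _
    rw [← Functor.map_comp]
    rfl
  · intro a
    rw [RingHom.algebraMap_toAlgebra]
    apply (res_zero_iff hV'' s (f.appLE W V'' e a.1)).1
    have hle : X'.basicOpen (f.appLE W V'' e a.1) ≤ V'' ⊓ f ⁻¹ᵁ V := by
      rw [Scheme.basicOpen_appLE]
      exact inf_le_inf_left _ (f.preimage_mono (ht1 a.1 a.2))
    have := congrArg (X'.presheaf.map (homOfLE hle).op) hs
    rw [map_zero] at this
    rw [← this]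
    change _ = (X'.presheaf.map _ ≫ X'.presheaf.map _) s
    rw [← Functor.map_comp]
    rfl

theorem main {X X' : Scheme.{u}} (f : X' ⟶ X) [Flat f] [IsLocallyNoetherian X] (V : X.Opens)
    (hV : CInt.IsSchematicallyDense V) : CInt.IsSchematicallyDense (f ⁻¹ᵁ V) := by
  intro V'
  rw [injective_iff_map_eq_zero]
  intro s hs
  have hex : ∀ x : V', ∃ (V'' : X'.Opens) (W : X.Opens), IsAffineOpen V'' ∧ IsAffineOpen W ∧
      x.1 ∈ V'' ∧ V'' ≤ V' ∧ V'' ≤ f ⁻¹ᵁ W := by
    intro x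
    obtain ⟨W, hW, hxW, -⟩ := Opens.isBasis_iff_nbhd.1 X.isBasis_affineOpens
      (U := ⊤) (x := f.base x.1) trivial
    obtain ⟨V'', hV'', hx, hle⟩ := Opens.isBasis_iff_nbhd.1 X'.isBasis_affineOpens
      (U := V' ⊓ f ⁻¹ᵁ W) (x := x.1) ⟨x.2, hxW⟩
    exact ⟨V'', W, hV'', hW, hx, hle.trans inf_le_left, hle.trans inf_le_right⟩
  choose V'' W h1 h2 h3 h4 h5 using hex
  refine X'.sheaf.eq_of_locally_eq' V'' V' (fun x => homOfLE (h4 x))
    (fun x hx => Opens.mem_iSup.2 ⟨⟨x, hx⟩, h3 _⟩) _ _ ?_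
  intro x
  refine Eq.trans ?_ (map_zero (X'.presheaf.map _).hom).symm
  apply affine_case f V hV (W x) (h2 x) (V'' x) (h1 x) (h5 x)
  have := congrArg (X'.presheaf.map (homOfLE (inf_le_inf_right _ (h4 x)) :
    V'' x ⊓ f ⁻¹ᵁ V ⟶ V' ⊓ f ⁻¹ᵁ V).op) hs
  rw [map_zero] at this
  rw [← this]
  change (X'.presheaf.map _ ≫ X'.presheaf.map _) s = (X'.presheaf.map _ ≫ X'.presheaf.map _) s
  rw [← Functor.map_comp, ← Functor.map_comp]
  rfl

end H5S3844

/-- For the open subset U = X: let f : X' → X be flat with X locally Noetherian. Then for every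
schematically dense open subset V of X, the preimage f⁻¹(V) is schematically dense in X'. -/
theorem result {X X' : Scheme.{u}} (f : X' ⟶ X) [Flat f]
    [IsLocallyNoetherian X] (V : X.Opens) (hV : CInt.IsSchematicallyDense V) :
    CInt.IsSchematicallyDense (f ⁻¹ᵁ V) := by
  exact H5S3844.main f V hV

end Groth.Agent.S3844
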