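import Groth.Statements.S3846
import Mathlib
import Groth.Agent.Lib.helper22.UnramFibre

set_option autoImplicit false
universe u
open CategoryTheory CategoryTheory.Limits AlgebraicGeometry TopologicalSpace
open Unram17

namespace Groth.Agent.S3846

section Helpers

open Groth.Agent.H22.UnramFibre in
theorem isOpenImmersion_of_comp_unramified {A B C : Scheme.{u}} (γ : A ⟶ B) (p : B ⟶ C)
    [FormallyUnramified p] [LocallyOfFiniteType p] [IsOpenImmersion (γ ≫ p)] :
    IsOpenImmersion γ := by
  haveI : MorphismProperty.HasOfPostcompProperty @IsOpenImmersion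
      (@LocallyOfFiniteType ⊓ @FormallyUnramified) := by
    rw [MorphismProperty.hasOfPostcompProperty_iff_le_diagonal]
    intro X Y f ⟨hft, hfu⟩
    exact inferInstanceAs <| IsOpenImmersion (pullback.diagonal f)
  exact MorphismProperty.of_postcomp (W := @IsOpenImmersion)
    (W' := @LocallyOfFiniteType ⊓ @FormallyUnramified) γ p ⟨‹_›, ‹_›⟩ ‹_›

theorem forward {X Y : Scheme.{u}} (f : X ⟶ Y) [LocallyOfFiniteType f] (x : ↥X)
    (U : X.Opens) (hxU : x ∈ U) [FormallyUnramified (U.ι ≫ f)]
    (Y' : Scheme.{u}) (g : Y' ⟶ Y) (s' : Y' ⟶ pullback f g)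
    (hs' : s' ≫ pullback.snd f g = 𝟙 Y') (y' : ↥Y') (hy' : pullback.fst f g (s' y') = x) :
    SchLoc.IsLocalIsoAt s' y' := by
  let U' : (pullback f g).Opens := pullback.fst f g ⁻¹ᵁ U
  have hpb : IsPullback (pullback.fst f g ∣_ U) (U'.ι ≫ pullback.snd f g) (U.ι ≫ f) g :=
    (isPullback_morphismRestrict (pullback.fst f g) U).paste_vert
      (IsPullback.of_hasPullback f g)
  haveI : FormallyUnramified (U'.ι ≫ pullback.snd f g) :=
    MorphismProperty.of_isPullback (P := @FormallyUnramified) hpb inferInstance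
  let t : (s' ⁻¹ᵁ U').toScheme ⟶ U'.toScheme := s' ∣_ U'
  have ht : t ≫ U'.ι = (s' ⁻¹ᵁ U').ι ≫ s' := morphismRestrict_ι s' U'
  haveI : IsOpenImmersion (t ≫ U'.ι ≫ pullback.snd f g) := by
    rw [← Category.assoc, ht, Category.assoc, hs', Category.comp_id]
    infer_instance
  haveI : IsOpenImmersion t := isOpenImmersion_of_comp_unramified t (U'.ι ≫ pullback.snd f g)
  refine ⟨s' ⁻¹ᵁ U', ?_, ?_⟩
  · change pullback.fst f g (s' y') ∈ U
    rw [hy']
    exact hxU
  · rw [← ht]
    infer_instance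

open Groth.Agent.H22.UnramFibre in
theorem backward {X Y : Scheme.{u}} (f : X ⟶ Y) [LocallyOfFiniteType f] (x : ↥X)
    (H : ∀ (Y' : Scheme.{u}) (g : Y' ⟶ Y) (s' : Y' ⟶ pullback f g),
      s' ≫ pullback.snd f g = 𝟙 Y' →
        ∀ y' : ↥Y', pullback.fst f g (s' y') = x → SchLoc.IsLocalIsoAt s' y') :
    ∃ U : X.Opens, x ∈ U ∧ FormallyUnramified (U.ι ≫ f) := by
  suffices Hγ : ∀ γ : Spec (CommRingCat.of (DualNumber (X.residueField x))) ⟶ X,
      dualClosedPt (X.residueField x) ≫ γ = X.fromSpecResidueField x →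
      γ ≫ f = dualRetract (X.residueField x) ≫ X.fromSpecResidueField x ≫ f →
      γ = dualRetract (X.residueField x) ≫ X.fromSpecResidueField x by
    obtain ⟨U, hσU, hU⟩ := exists_open_formallyUnramified_of_dualNumber_lifts f
      (X.residueField x) (X.fromSpecResidueField x) Hγ
    exact ⟨U, hσU ⟨default, Scheme.fromSpecResidueField_apply _ _⟩, hU⟩
  intro γ hcγ hγf
  let g : Spec (CommRingCat.of (DualNumber (X.residueField x))) ⟶ Y :=
    dualRetract (X.residueField x) ≫ X.fromSpecResidueField x ≫ f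
  let s₁ : Spec (CommRingCat.of (DualNumber (X.residueField x))) ⟶ pullback f g :=
    pullback.lift γ (𝟙 _) (by rw [Category.id_comp]; exact hγf)
  let s₂ : Spec (CommRingCat.of (DualNumber (X.residueField x))) ⟶ pullback f g :=
    pullback.lift (dualRetract (X.residueField x) ≫ X.fromSpecResidueField x) (𝟙 _)
      (by rw [Category.id_comp, Category.assoc])
  have hs₁ : s₁ ≫ pullback.snd f g = 𝟙 _ := pullback.lift_snd _ _ _
  have hs₂ : s₂ ≫ pullback.snd f g = 𝟙 _ := pullback.lift_snd _ _ _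
  have hs₁f : s₁ ≫ pullback.fst f g = γ := pullback.lift_fst _ _ _
  have hs₂f : s₂ ≫ pullback.fst f g =
      dualRetract (X.residueField x) ≫ X.fromSpecResidueField x := pullback.lift_fst _ _ _
  let y' : Spec (CommRingCat.of (DualNumber (X.residueField x))) :=
    dualClosedPt (X.residueField x) default
  have hall : ∀ p, p = y' := fun p => by
    obtain ⟨p', rfl⟩ := dualClosedPt_surjective (X.residueField x) p
    rw [Subsingleton.elim p' default]
  have hc12 : dualClosedPt (X.residueField x) ≫ s₁ = dualClosedPt (X.residueField x) ≫ s₂ := by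
    apply pullback.hom_ext
    · rw [Category.assoc, Category.assoc, hs₁f, hs₂f, hcγ, ← Category.assoc,
        dualClosedPt_retract, Category.id_comp]
    · rw [Category.assoc, Category.assoc, hs₁, hs₂]
  have h1 : pullback.fst f g (s₁ y') = x := by
    change (dualClosedPt (X.residueField x) ≫ s₁ ≫ pullback.fst f g) default = x
    rw [hs₁f, hcγ]
    exact Scheme.fromSpecResidueField_apply _ _
  have h2 : pullback.fst f g (s₂ y') = x := by
    change (dualClosedPt (X.residueField x) ≫ s₂ ≫ pullback.fst f g) default = x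
    rw [hs₂f, ← Category.assoc, dualClosedPt_retract, Category.id_comp]
    exact Scheme.fromSpecResidueField_apply _ _
  have hoi : ∀ s : Spec (CommRingCat.of (DualNumber (X.residueField x))) ⟶ pullback f g,
      SchLoc.IsLocalIsoAt s y' → IsOpenImmersion s := by
    rintro s ⟨V, hyV, hV⟩
    have hVtop : V = ⊤ := by
      ext p
      simp only [Opens.coe_top, Set.mem_univ, iff_true]
      rw [hall p]
      exact hyV
    subst hVtop
    have hs : s = (Scheme.topIso _).inv ≫ (⊤ : (Spec (CommRingCat.of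
        (DualNumber (X.residueField x)))).Opens).ι ≫ s := by
      rw [Scheme.toIso_inv_ι_assoc]
    rw [hs]
    infer_instance
  haveI := hoi s₁ (H _ g s₁ hs₁ y' h1)
  haveI := hoi s₂ (H _ g s₂ hs₂ y' h2)
  have hr : Set.range s₂ ⊆ Set.range s₁ := by
    rintro _ ⟨p, rfl⟩
    refine ⟨p, ?_⟩
    rw [hall p]
    exact congr($hc12 default)
  have h3 : IsOpenImmersion.lift s₁ s₂ hr ≫ s₁ = s₂ := IsOpenImmersion.lift_fac _ _ _
  have h4 : IsOpenImmersion.lift s₁ s₂ hr = 𝟙 _ := by
    calc IsOpenImmersion.lift s₁ s₂ hr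
        = IsOpenImmersion.lift s₁ s₂ hr ≫ s₁ ≫ pullback.snd f g := by
          rw [hs₁, Category.comp_id]
      _ = s₂ ≫ pullback.snd f g := by rw [← Category.assoc, h3]
      _ = 𝟙 _ := hs₂
  have h12 : s₁ = s₂ := by rw [← h3, h4, Category.id_comp]
  rw [← hs₁f, h12, hs₂f]

theorem main {X Y : Scheme.{u}} (f : X ⟶ Y) [LocallyOfFinitePresentation f]
    (x : ↥X) :
    (∃ U : X.Opens, x ∈ U ∧ FormallyUnramified (U.ι ≫ f)) ↔
      ∀ (Y' : Scheme.{u}) (g : Y' ⟶ Y) (s' : Y' ⟶ pullback f g), s' ≫ pullback.snd f g = 𝟙 Y' →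
        ∀ y' : ↥Y', pullback.fst f g (s' y') = x → SchLoc.IsLocalIsoAt s' y' := by
  constructor
  · rintro ⟨U, hxU, hU⟩ Y' g s' hs' y' hy'
    exact forward f x U hxU Y' g s' hs' y' hy'
  · exact backward f x

end Helpers

/-- a) iff b''): let f : X → Y be locally of finite presentation and x a point of X. Then f is
unramified on some open neighbourhood of x if and only if, for every base change g : Y' → Y and
every section s' of X ×_Y Y' → Y', s' is a local isomorphism at every point y' of Y' such that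
s'(y') lies over x. -/
theorem result {X Y : Scheme.{u}} (f : X ⟶ Y) [LocallyOfFinitePresentation f]
    (x : ↥X) :
    (∃ U : X.Opens, x ∈ U ∧ FormallyUnramified (U.ι ≫ f)) ↔
      ∀ (Y' : Scheme.{u}) (g : Y' ⟶ Y) (s' : Y' ⟶ pullback f g), s' ≫ pullback.snd f g = 𝟙 Y' →
        ∀ y' : ↥Y', pullback.fst f g (s' y') = x → SchLoc.IsLocalIsoAt s' y' := by
  exact main f x

end Groth.Agent.S3846
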