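import Groth.Statements.S3848
import Mathlib
import Groth.Agent.Lib.helper4.Rat4
import Groth.Agent.Lib.helper4.Glue2

set_option autoImplicit false
universe u
open CategoryTheory CategoryTheory.Limits AlgebraicGeometry TopologicalSpace
open Rat20

namespace Groth.Agent.S3848

section Helpers
open IsLocalRing Groth.Agent.H4Rat Groth.Agent.H4Glue

theorem exists_integral_affine_nhd {X : Scheme.{u}} [IsLocallyNoetherian X] (x : X)
    [IsDomain (X.presheaf.stalk x)] :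
    ∃ U₀ : X.Opens, IsAffineOpen U₀ ∧ x ∈ U₀ ∧ IsIntegral U₀.toScheme := by
  obtain ⟨U₀, hxU₀, haff, hinj⟩ := (inferInstance : X.IsGermInjectiveAt x).cond
  refine ⟨U₀, haff, hxU₀, ?_⟩
  have hdom : IsDomain Γ(X, U₀) := hinj.isDomain (X.presheaf.germ U₀ x hxU₀).hom
  have : IsAffine U₀.toScheme := haff
  have : Nonempty U₀.toScheme := ⟨⟨x, hxU₀⟩⟩
  have : IsDomain Γ(U₀.toScheme, ⊤) :=
    (U₀.topIso.commRingCatIsoToRingEquiv).toMulEquiv.isDomain_iff.2 hdom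
  exact isIntegral_of_isAffine_of_isDomain _

theorem forward {X Y : Scheme.{u}} (q : Y ⟶ X) (U : X.Opens) (h : (U : Scheme.{u}) ⟶ Y)
    (x : X) (y₀ : Y)
    (H : ∃ (U' : X.Opens) (hUU' : U ≤ U') (hxU' : x ∈ U') (h' : (U' : Scheme.{u}) ⟶ Y),
        h' ≫ q = U'.ι ∧ X.homOfLE hUU' ≫ h' = h ∧ h' ⟨x, hxU'⟩ = y₀)
    (R : Type u) [CommRing R] [IsDomain R] [IsDiscreteValuationRing R]
    (u : Spec (CommRingCat.of R) ⟶ X) (hu : u (closedPoint R) = x)
    (ub : Spec (CommRingCat.of (FractionRing R)) ⟶ (U : Scheme.{u}))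
    (hub : ub ≫ U.ι = Spec.map (CommRingCat.ofHom (algebraMap R (FractionRing R))) ≫ u) :
    ∃ h₁ : Spec (CommRingCat.of R) ⟶ Y, h₁ ≫ q = u ∧ h₁ (closedPoint R) = y₀ ∧
      Spec.map (CommRingCat.ofHom (algebraMap R (FractionRing R))) ≫ h₁ = ub ≫ h := by
  obtain ⟨U', hUU', hxU', h', hq, hres, hval⟩ := H
  have hrange : Set.range u ⊆ Set.range U'.ι := by
    rintro _ ⟨z, rfl⟩
    rw [Scheme.Opens.range_ι]
    have : u z ⤳ u (closedPoint R) :=
      (IsLocalRing.specializes_closedPoint (R := R) z).map u.continuous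
    rw [hu] at this
    exact this.mem_open U'.isOpen hxU'
  let u' : Spec (CommRingCat.of R) ⟶ U'.toScheme := IsOpenImmersion.lift U'.ι u hrange
  have hu' : u' ≫ U'.ι = u := IsOpenImmersion.lift_fac _ _ _
  refine ⟨u' ≫ h', ?_, ?_, ?_⟩
  · rw [Category.assoc, hq, hu']
  · have : u' (closedPoint R) = ⟨x, hxU'⟩ := by
      apply Subtype.ext
      change U'.ι (u' (closedPoint R)) = x
      rw [← Scheme.Hom.comp_apply, hu', hu]
    rw [Scheme.Hom.comp_apply, this, hval]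
  · rw [← hres, ← Category.assoc, ← Category.assoc]
    congr 1
    rw [← cancel_mono U'.ι, Category.assoc, Category.assoc, hu', Scheme.homOfLE_ι, hub]

theorem backward {X Y : Scheme.{u}} [IsLocallyNoetherian X] (q : Y ⟶ X)
    [LocallyOfFiniteType q] (U : X.Opens) (hU : Dense (U : Set ↥X)) (h : (U : Scheme.{u}) ⟶ Y)
    (hh : h ≫ q = U.ι) (x : ↥X) (hxU : x ∉ U) [IsDomain ↑(X.presheaf.stalk x)]
    (hx : IsIntegrallyClosed ↑(X.presheaf.stalk x)) (y₀ : ↥Y) (hy₀ : q y₀ = x)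
    (H : ∀ (R : Type u) [CommRing R] [IsDomain R] [IsDiscreteValuationRing R]
        (u : Spec (CommRingCat.of R) ⟶ X), u (IsLocalRing.closedPoint R) = x →
        ∀ ub : Spec (CommRingCat.of (FractionRing R)) ⟶ (U : Scheme.{u}),
          ub ≫ U.ι = Spec.map (CommRingCat.ofHom (algebraMap R (FractionRing R))) ≫ u →
          ∃ h₁ : Spec (CommRingCat.of R) ⟶ Y, h₁ ≫ q = u ∧ h₁ (IsLocalRing.closedPoint R) = y₀ ∧
            Spec.map (CommRingCat.ofHom (algebraMap R (FractionRing R))) ≫ h₁ = ub ≫ h) :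
    ∃ (U' : X.Opens) (hUU' : U ≤ U') (hxU' : x ∈ U') (h' : (U' : Scheme.{u}) ⟶ Y),
        h' ≫ q = U'.ι ∧ X.homOfLE hUU' ≫ h' = h ∧ h' ⟨x, hxU'⟩ = y₀ := by
  obtain ⟨U₀, haff, hxU₀, hint⟩ := exists_integral_affine_nhd x
  have : IsAffine U₀.toScheme := haff
  let ι₀ : U₀.toScheme ⟶ X := U₀.ι
  let V : U₀.toScheme.Opens := ι₀ ⁻¹ᵁ U
  let h₀ : V.toScheme ⟶ Y := (ι₀ ∣_ U) ≫ h
  let x₀ : U₀.toScheme := ⟨x, hxU₀⟩
  have hh₀ : h₀ ≫ q = V.ι ≫ ι₀ := by rw [Category.assoc, hh, morphismRestrict_ι]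
  have hξ : genericPoint U₀.toScheme ∈ V := by
    obtain ⟨z, hzU₀, hzU⟩ := hU.inter_open_nonempty U₀ U₀.isOpen ⟨x, hxU₀⟩
    exact ((genericPoint_spec U₀.toScheme).mem_open_set_iff V.isOpen).2
      ⟨⟨z, hzU₀⟩, trivial, hzU⟩
  have hx₀ : x₀ ∉ V := hxU
  have hic : IsIntegrallyClosed (U₀.toScheme.presheaf.stalk x₀) :=
    IsIntegrallyClosed.of_equiv (U₀.stalkIso x₀).symm.commRingCatIsoToRingEquiv
  have hy₀' : q y₀ = ι₀ x₀ := hy₀
  have HD : DvrHyp ι₀ q V h₀ x₀ y₀ := by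
    intro R _ _ _ u₀ hu₀ ub₀ hub₀
    obtain ⟨h₁, h1, h2, h3⟩ := H R (u₀ ≫ ι₀) (by rw [Scheme.Hom.comp_apply, hu₀]; rfl)
      (ub₀ ≫ (ι₀ ∣_ U))
      (by rw [Category.assoc, morphismRestrict_ι, ← Category.assoc, hub₀, Category.assoc])
    exact ⟨h₁, h1, h2, by rw [h3, Category.assoc]⟩
  obtain ⟨V', hxV', g', hg'q, hg'x, hagree⟩ := exists_extension_at HD hh₀ hξ hx₀ hy₀'
  let Ux : X.Opens := ι₀ ''ᵁ V'
  let gx : Ux.toScheme ⟶ Y := (ι₀.isoImage V').inv ≫ g'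
  have hxUx : x ∈ Ux := ⟨x₀, hxV', rfl⟩
  have hgxq : gx ≫ q = Ux.ι := by
    rw [Category.assoc, hg'q, Scheme.Hom.isoImage_inv_ι]
  have hgxx : gx ⟨x, hxUx⟩ = y₀ := by
    have : (ι₀.isoImage V').inv ⟨x, hxUx⟩ = ⟨x₀, hxV'⟩ := by
      apply Subtype.ext
      apply Subtype.ext
      change (ι₀) ((V'.ι) ((ι₀.isoImage V').inv ⟨x, hxUx⟩)) = x
      rw [← Scheme.Hom.comp_apply, ← Scheme.Hom.comp_apply, Scheme.Hom.isoImage_inv_ι]
      rfl
    rw [Scheme.Hom.comp_apply, this, hg'x]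
  -- agreement on `U ⊓ Ux`
  let T : U₀.toScheme.Opens := V ⊓ V'
  have hrange : Set.range (T.ι ≫ ι₀) ⊆ Set.range (U ⊓ Ux).ι := by
    rintro _ ⟨⟨t, ht⟩, rfl⟩
    rw [Scheme.Opens.range_ι]
    exact ⟨ht.1, ⟨t, ht.2, rfl⟩⟩
  let κ : T.toScheme ⟶ (U ⊓ Ux).toScheme := IsOpenImmersion.lift (U ⊓ Ux).ι (T.ι ≫ ι₀) hrange
  have hκ : κ ≫ (U ⊓ Ux).ι = T.ι ≫ ι₀ := IsOpenImmersion.lift_fac _ _ _
  have hκoi : IsOpenImmersion κ := by
    have : IsOpenImmersion (κ ≫ (U ⊓ Ux).ι) := by rw [hκ]; infer_instance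
    exact IsOpenImmersion.of_comp κ (U ⊓ Ux).ι
  have hκsurj : Function.Surjective κ := by
    rintro ⟨z, hzU, ⟨v, hvV', rfl⟩⟩
    refine ⟨⟨v, hzU, hvV'⟩, ?_⟩
    apply Subtype.ext
    change (U ⊓ Ux).ι (κ ⟨v, _⟩) = _
    rw [← Scheme.Hom.comp_apply, hκ]
    rfl
  have hκiso : IsIso κ := by
    apply isIso_of_isOpenImmersion_of_opensRange_eq_top
    apply TopologicalSpace.Opens.ext
    rw [Scheme.Hom.coe_opensRange]
    exact hκsurj.range_eq
  have hag : X.homOfLE (inf_le_left : U ⊓ Ux ≤ U) ≫ h =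
      X.homOfLE (inf_le_right : U ⊓ Ux ≤ Ux) ≫ gx := by
    rw [← cancel_epi κ]
    have e1 : κ ≫ X.homOfLE (inf_le_left : U ⊓ Ux ≤ U) =
        U₀.toScheme.homOfLE (inf_le_left : T ≤ V) ≫ (ι₀ ∣_ U) := by
      rw [← cancel_mono U.ι, Category.assoc, Category.assoc, Scheme.homOfLE_ι, hκ,
        morphismRestrict_ι, Scheme.homOfLE_ι_assoc]
    have e2 : κ ≫ X.homOfLE (inf_le_right : U ⊓ Ux ≤ Ux) =
        U₀.toScheme.homOfLE (inf_le_right : T ≤ V') ≫ (ι₀.isoImage V').hom := by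
      rw [← cancel_mono Ux.ι, Category.assoc, Category.assoc, Scheme.homOfLE_ι, hκ,
        Scheme.Hom.isoImage_hom_ι, Scheme.homOfLE_ι_assoc]
    rw [← Category.assoc, e1, ← Category.assoc, e2, Category.assoc, Category.assoc,
      Iso.hom_inv_id_assoc]
    exact hagree.symm
  obtain ⟨U', h₁, h₂, ψ, hψ1, hψ2, hψ3⟩ := glue_two U Ux h gx hag
  refine ⟨U', h₁, h₂ hxUx, ψ, ?_, hψ1, ?_⟩
  · have := hψ3 X q (𝟙 X) (by rw [hh, Category.comp_id]) (by rw [hgxq, Category.comp_id])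
    rw [this, Category.comp_id]
  · have : (⟨x, h₂ hxUx⟩ : U') = X.homOfLE h₂ ⟨x, hxUx⟩ := (homOfLE_mk h₂ x hxUx).symm
    rw [this, ← Scheme.Hom.comp_apply, hψ2, hgxx]

end Helpers


/-- In the case S = X (valuative criterion for a rational map to be defined at a point): let X be a
locally Noetherian scheme, q : Y → X a morphism locally of finite type, U a dense open subset of X,
h : U → Y a section of q over U, x a point of X outside U whose local ring is an integrally closed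
domain, and y₀ a point of Y over x with trivial residue field extension (an X-morphism Spec k(x) →
Y). Then h extends to a section h' of q over an open subset U' containing U and x with h'(x) = y₀ if
and only if: for every discrete valuation ring R and every morphism u : Spec R → X sending the
closed point to x and the generic point into U, there is a morphism h₁ : Spec R → Y over X sending
the closed point to y₀ and agreeing with h at the generic point. -/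
theorem result {X Y : Scheme.{u}} [IsLocallyNoetherian X] (q : Y ⟶ X)
    [LocallyOfFiniteType q] (U : X.Opens) (hU : Dense (U : Set ↥X)) (h : (U : Scheme.{u}) ⟶ Y)
    (hh : h ≫ q = U.ι) (x : ↥X) (hxU : x ∉ U) [IsDomain ↑(X.presheaf.stalk x)]
    (hx : IsIntegrallyClosed ↑(X.presheaf.stalk x)) (y₀ : ↥Y) (hy₀ : q y₀ = x)
    (hk : Function.Bijective (q.residueFieldMap y₀)) :
    (∃ (U' : X.Opens) (hUU' : U ≤ U') (hxU' : x ∈ U') (h' : (U' : Scheme.{u}) ⟶ Y),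
        h' ≫ q = U'.ι ∧ X.homOfLE hUU' ≫ h' = h ∧ h' ⟨x, hxU'⟩ = y₀) ↔
      ∀ (R : Type u) [CommRing R] [IsDomain R] [IsDiscreteValuationRing R]
        (u : Spec (CommRingCat.of R) ⟶ X), u (IsLocalRing.closedPoint R) = x →
        ∀ ub : Spec (CommRingCat.of (FractionRing R)) ⟶ (U : Scheme.{u}),
          ub ≫ U.ι = Spec.map (CommRingCat.ofHom (algebraMap R (FractionRing R))) ≫ u →
          ∃ h₁ : Spec (CommRingCat.of R) ⟶ Y, h₁ ≫ q = u ∧ h₁ (IsLocalRing.closedPoint R) = y₀ ∧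
            Spec.map (CommRingCat.ofHom (algebraMap R (FractionRing R))) ≫ h₁ = ub ≫ h := by
  constructor
  · intro H R _ _ _ u hu ub hub
    exact forward q U h x y₀ H R u hu ub hub
  · intro H
    exact backward q U hU h hh x hxU hx y₀ hy₀ H

end Groth.Agent.S3848
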