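import Groth.Statements.S3849
import Mathlib
import Groth.Agent.Lib.helper4.Rat5
import Groth.Agent.Lib.helper4.Rat6

set_option autoImplicit false
universe u
open CategoryTheory CategoryTheory.Limits AlgebraicGeometry TopologicalSpace
open Rat20

namespace Groth.Agent.S3849

section Helpers
open IsLocalRing Groth.Agent.H4Rat Groth.Agent.H4Glue

theorem forward {X Y : Scheme.{u}} (q : Y ⟶ X) (U : X.Opens) (h : (U : Scheme.{u}) ⟶ Y)
    (x : X)
    (H : ∃ (U' : X.Opens) (hUU' : U ≤ U') (h' : (U' : Scheme.{u}) ⟶ Y),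
        x ∈ U' ∧ h' ≫ q = U'.ι ∧ X.homOfLE hUU' ≫ h' = h)
    (R : Type u) [CommRing R] [IsDomain R] [IsDiscreteValuationRing R]
    (u : Spec (CommRingCat.of R) ⟶ X) (hu : u (closedPoint R) = x)
    (ub : Spec (CommRingCat.of (FractionRing R)) ⟶ (U : Scheme.{u}))
    (hub : ub ≫ U.ι = Spec.map (CommRingCat.ofHom (algebraMap R (FractionRing R))) ≫ u) :
    ∃ h₁ : Spec (CommRingCat.of R) ⟶ Y, h₁ ≫ q = u ∧
      Spec.map (CommRingCat.ofHom (algebraMap R (FractionRing R))) ≫ h₁ = ub ≫ h := by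
  obtain ⟨U', hUU', h', hxU', hq, hres⟩ := H
  have hrange : Set.range u ⊆ Set.range U'.ι := by
    rintro _ ⟨z, rfl⟩
    rw [Scheme.Opens.range_ι]
    have : u z ⤳ u (closedPoint R) :=
      (IsLocalRing.specializes_closedPoint (R := R) z).map u.continuous
    rw [hu] at this
    exact this.mem_open U'.isOpen hxU'
  let u' : Spec (CommRingCat.of R) ⟶ U'.toScheme := IsOpenImmersion.lift U'.ι u hrange
  have hu' : u' ≫ U'.ι = u := IsOpenImmersion.lift_fac _ _ _
  refine ⟨u' ≫ h', ?_, ?_⟩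
  · rw [Category.assoc, hq, hu']
  · rw [← hres, ← Category.assoc, ← Category.assoc]
    congr 1
    rw [← cancel_mono U'.ι, Category.assoc, Category.assoc, hu', Scheme.homOfLE_ι, hub]

theorem backward {X Y : Scheme.{u}} [IsLocallyNoetherian X] (q : Y ⟶ X)
    [LocallyOfFiniteType q] [IsSeparated q] [LocallyQuasiFinite q] (U : X.Opens)
    (hU : Dense (U : Set ↥X))
    (h : (U : Scheme.{u}) ⟶ Y) (hh : h ≫ q = U.ι) (x : ↥X)
    [IsDomain ↑(X.presheaf.stalk x)]
    (hx : IsIntegrallyClosed ↑(X.presheaf.stalk x))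
    (R : Type u) [CommRing R] [IsDomain R] [IsDiscreteValuationRing R]
    (u : Spec (CommRingCat.of R) ⟶ X)
    (ub : Spec (CommRingCat.of (FractionRing R)) ⟶ (U : Scheme.{u}))
    (h₁ : Spec (CommRingCat.of R) ⟶ Y)
    (hu : u (IsLocalRing.closedPoint R) = x)
    (hub : ub ≫ U.ι = Spec.map (CommRingCat.ofHom (algebraMap R (FractionRing R))) ≫ u)
    (h₁q : h₁ ≫ q = u)
    (h₁g : Spec.map (CommRingCat.ofHom (algebraMap R (FractionRing R))) ≫ h₁ = ub ≫ h) :
    ∃ (U' : X.Opens) (hUU' : U ≤ U') (h' : (U' : Scheme.{u}) ⟶ Y),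
        x ∈ U' ∧ h' ≫ q = U'.ι ∧ X.homOfLE hUU' ≫ h' = h := by
  obtain ⟨U₀, haff, hxU₀, hint⟩ := exists_integral_affine_nhd x
  have : IsAffine U₀.toScheme := haff
  let YW : Y.Opens := q ⁻¹ᵁ U₀
  let qW : YW.toScheme ⟶ U₀.toScheme := q ∣_ U₀
  let V : U₀.toScheme.Opens := U₀.ι ⁻¹ᵁ U
  have hr : Set.range ((U₀.ι ∣_ U) ≫ h) ⊆ Set.range YW.ι := by
    rintro _ ⟨v, rfl⟩
    rw [Scheme.Opens.range_ι]
    change q (((U₀.ι ∣_ U) ≫ h) v) ∈ U₀
    rw [← Scheme.Hom.comp_apply, Category.assoc, hh, morphismRestrict_ι]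
    exact (v.1).2
  let h₀ : V.toScheme ⟶ YW.toScheme := IsOpenImmersion.lift YW.ι ((U₀.ι ∣_ U) ≫ h) hr
  have hh₀ι : h₀ ≫ YW.ι = (U₀.ι ∣_ U) ≫ h := IsOpenImmersion.lift_fac _ _ _
  have hh₀ : h₀ ≫ qW = V.ι := by
    rw [← cancel_mono U₀.ι, Category.assoc, morphismRestrict_ι, ← Category.assoc, hh₀ι,
      Category.assoc, hh, morphismRestrict_ι]
  have hξ := genericPoint_mem_of_dense U hU U₀
  let y₀ : Y := h₁ (closedPoint R)
  have hqy₀ : q y₀ = x := by rw [← Scheme.Hom.comp_apply, h₁q, hu]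
  have hy₀YW : y₀ ∈ YW := by
    change q y₀ ∈ U₀
    rw [hqy₀]
    exact hxU₀
  let y₀' : YW.toScheme := ⟨y₀, hy₀YW⟩
  have hqW : qW y₀' = ⟨x, hxU₀⟩ := by
    apply Subtype.ext
    change U₀.ι (qW y₀') = x
    rw [← Scheme.Hom.comp_apply, morphismRestrict_ι, Scheme.Hom.comp_apply]
    exact hqy₀
  have hic : IsIntegrallyClosed (U₀.toScheme.presheaf.stalk (qW y₀')) := by
    rw [hqW]
    exact IsIntegrallyClosed.of_equiv (U₀.stalkIso ⟨x, hxU₀⟩).symm.commRingCatIsoToRingEquiv
  have hsp : (V.fromSpecStalkOfMem (genericPoint U₀.toScheme) hξ ≫ h₀)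
      (closedPoint U₀.toScheme.functionField) ⤳ y₀' := by
    rw [Scheme.Hom.comp_apply, fromSpecStalkOfMem_closedPoint]
    rw [← YW.ι.isOpenEmbedding.isInducing.specializes_iff]
    have e1 : YW.ι (h₀ ⟨genericPoint U₀.toScheme, hξ⟩) =
        h ((U₀.ι ∣_ U) ⟨genericPoint U₀.toScheme, hξ⟩) := by
      rw [← Scheme.Hom.comp_apply, hh₀ι, Scheme.Hom.comp_apply]
    have e2 : YW.ι y₀' = y₀ := rfl
    rw [e1, e2]
    -- the generic point of the DVR
    let am : CommRingCat.of R ⟶ CommRingCat.of (FractionRing R) :=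
      CommRingCat.ofHom (algebraMap R (FractionRing R))
    let η : Spec (CommRingCat.of (FractionRing R)) := closedPoint (FractionRing R)
    have e3 : h (ub η) ⤳ y₀ := by
      have : h (ub η) = h₁ (Spec.map am η) := by
        rw [← Scheme.Hom.comp_apply, ← Scheme.Hom.comp_apply, h₁g]
      rw [this]
      exact (IsLocalRing.specializes_closedPoint (R := R) _).map h₁.continuous
    refine Specializes.trans ?_ e3
    refine Specializes.map ?_ h.continuous
    rw [← U.ι.isOpenEmbedding.isInducing.specializes_iff]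
    have e4 : U.ι ((U₀.ι ∣_ U) ⟨genericPoint U₀.toScheme, hξ⟩) =
        U₀.ι (genericPoint U₀.toScheme) := by
      rw [← Scheme.Hom.comp_apply, morphismRestrict_ι, Scheme.Hom.comp_apply]
      rfl
    have e5 : U.ι (ub η) = u (Spec.map am η) := by
      rw [← Scheme.Hom.comp_apply, hub, Scheme.Hom.comp_apply]
    rw [e4, e5]
    have hp : u (Spec.map am η) ∈ U₀ := by
      have : u (Spec.map am η) ⤳ u (closedPoint R) :=
        (IsLocalRing.specializes_closedPoint (R := R) _).map u.continuous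
      rw [hu] at this
      exact this.mem_open U₀.isOpen hxU₀
    have : genericPoint U₀.toScheme ⤳ (⟨u (Spec.map am η), hp⟩ : U₀.toScheme) :=
      Groth.Agent.H4FF.genericPoint_specializes _
    exact this.map U₀.ι.continuous
  have hqf : qW.QuasiFiniteAt y₀' := Scheme.Hom.quasiFiniteAt qW y₀'
  obtain ⟨φ, hφc, hφg, hφq⟩ :=
    exists_local_section_of_quasiFiniteAt qW V h₀ hh₀ hξ y₀' hsp hqf
  obtain ⟨V', hxV', g', hg'q, -, hagree⟩ :=
    exists_extension_of_local_section qW V h₀ hh₀ hξ (qW y₀') φ hφg hφq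
  obtain ⟨U', hUU', hV', h', h'q, h'res, -⟩ := glue_extension q U h hh U₀ V' (g' ≫ YW.ι)
    (by rw [Category.assoc, ← morphismRestrict_ι, ← Category.assoc, hg'q])
    (by rw [← Category.assoc, hagree, Category.assoc, hh₀ι])
  refine ⟨U', hUU', h', hV' ⟨qW y₀', hxV', ?_⟩, h'q, h'res⟩
  rw [hqW]
  rfl

end Helpers


/-- In the case S = X (sections of q : Y → X): let X be a locally Noetherian scheme, q : Y → X
separated, locally of finite type and locally quasi-finite, U a dense open subset of X, h : U → Y a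
section of q over U, and x a point of X outside U whose local ring is an integrally closed domain.
Then h extends to a section of q over an open subset containing U and x if and only if there exist a
discrete valuation ring R, a morphism u : Spec R → X sending the closed point to x and the generic
point into U, and a morphism Spec R → Y over X agreeing with h at the generic point. -/
theorem result {X Y : Scheme.{u}} [IsLocallyNoetherian X] (q : Y ⟶ X)
    [LocallyOfFiniteType q] [IsSeparated q] [LocallyQuasiFinite q] (U : X.Opens) (hU : Dense (U : Set ↥X))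
    (h : (U : Scheme.{u}) ⟶ Y) (hh : h ≫ q = U.ι) (x : ↥X) (hxU : x ∉ U) [IsDomain ↑(X.presheaf.stalk x)]
    (hx : IsIntegrallyClosed ↑(X.presheaf.stalk x)) :
    (∃ (U' : X.Opens) (hUU' : U ≤ U') (h' : (U' : Scheme.{u}) ⟶ Y),
        x ∈ U' ∧ h' ≫ q = U'.ι ∧ X.homOfLE hUU' ≫ h' = h) ↔
      ∃ (R : Type u) (_ : CommRing R) (_ : IsDomain R) (_ : IsDiscreteValuationRing R)
        (u : Spec (CommRingCat.of R) ⟶ X) (ub : Spec (CommRingCat.of (FractionRing R)) ⟶ (U : Scheme.{u}))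
        (h₁ : Spec (CommRingCat.of R) ⟶ Y),
        u (IsLocalRing.closedPoint R) = x ∧
          ub ≫ U.ι = Spec.map (CommRingCat.ofHom (algebraMap R (FractionRing R))) ≫ u ∧
          h₁ ≫ q = u ∧ Spec.map (CommRingCat.ofHom (algebraMap R (FractionRing R))) ≫ h₁ = ub ≫ h := by
  constructor
  · intro H
    obtain ⟨R, i1, i2, i3, u, ub, hu, hub⟩ := Groth.Agent.H4Rat.exists_dvr_point U hU x hxU
    obtain ⟨h₁, h1, h2⟩ := forward q U h x H R u hu ub hub
    exact ⟨R, i1, i2, i3, u, ub, h₁, hu, hub, h1, h2⟩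
  · rintro ⟨R, i1, i2, i3, u, ub, h₁, hu, hub, h1, h2⟩
    exact backward q U hU h hh x hx R u ub h₁ hu hub h1 h2

end Groth.Agent.S3849
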