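import Groth.Statements.S3852
-- import your own Groth.Agent.* helpers here
import Mathlib

set_option autoImplicit false
universe u
open FCompl

namespace Groth.Agent.S3852

open AlgebraicGeometry in
/-- Second assertion; stated for quasi-coherent ideal sheaves, with the condition on supports as an
inclusion, which is what the proof uses: Let X be a Noetherian scheme and I, J ideal sheaves such
that the zero locus of J is contained in the zero locus of I. Then I^n ≤ J for some n ≥ 1. -/
theorem result
    (X : Scheme.{u}) [IsNoetherian X] (I J : X.IdealSheafData)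
    (h : (J.support : Set X) ⊆ I.support) :
    ∃ n : ℕ, I ^ (n + 1) ≤ J := by
  have hIJ : I ≤ J.radical := by
    calc I ≤ I.radical := Scheme.IdealSheafData.le_radical _
      _ = Scheme.IdealSheafData.vanishingIdeal I.support :=
          Scheme.IdealSheafData.vanishingIdeal_support.symm
      _ ≤ Scheme.IdealSheafData.vanishingIdeal J.support :=
          Scheme.IdealSheafData.vanishingIdeal_antimono (show J.support ≤ I.support from h)
      _ = J.radical := Scheme.IdealSheafData.vanishingIdeal_support
  obtain ⟨s, hs, hs'⟩ := (isCompact_iff_finite_and_eq_biUnion_affineOpens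
    (U := (⊤ : X.Opens))).mp (by simpa using isCompact_univ)
  have key : ∀ U : X.affineOpens, ∃ n : ℕ, (I.ideal U) ^ n ≤ J.ideal U := by
    intro U
    have : IsNoetherianRing Γ(X, U.1) := IsLocallyNoetherian.component_noetherian U
    apply Ideal.exists_pow_le_of_le_radical_of_fg
    · have := hIJ U
      simpa using this
    · exact IsNoetherian.noetherian _
  choose n hn using key
  have hsf : Fintype s := hs.fintype
  refine ⟨Finset.univ.sup (fun i : s => n i.1), ?_⟩
  refine Scheme.IdealSheafData.le_of_iSup_eq_top (fun i : s => i.1) ?_ ?_
  · rw [hs']
    rw [iSup_subtype]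
  · intro i
    rw [Scheme.IdealSheafData.ideal_pow, Pi.pow_apply]
    refine le_trans (Ideal.pow_le_pow_right ?_) (hn i.1)
    exact le_trans (Finset.le_sup (f := fun i : s => n i.1) (Finset.mem_univ i)) (Nat.le_succ _)

end Groth.Agent.S3852
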