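import Groth.Statements.S3854
-- import your own Groth.Agent.* helpers here
import Groth.Agent.Lib.helper6.FormalSys

set_option autoImplicit false
universe u
open FCompl

namespace Groth.Agent.S3854

open AlgebraicGeometry CategoryTheory Groth.Agent.Lib.helper6 in
theorem pow_succ_le_pow_one {X : Scheme.{u}} (𝓘 : X.IdealSheafData) (n : ℕ) :
    𝓘 ^ (n + 1) ≤ 𝓘 ^ (0 + 1) :=
  pow_le_pow_of_le_one bot_le le_top (Nat.succ_le_succ (Nat.zero_le n))

open AlgebraicGeometry CategoryTheory Groth.Agent.Lib.helper6 in
theorem toX_eq {X : Scheme.{u}} (𝓘 : X.IdealSheafData) (n : ℕ) :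
    (FSch.completionAlong X 𝓘).toX n =
      Scheme.IdealSheafData.inclusion (pow_succ_le_pow_one 𝓘 n) := by
  induction n with
  | zero => exact (Scheme.IdealSheafData.inclusion_id _).symm
  | succ n ih =>
    change (FSch.completionAlong X 𝓘).toX n ≫ (FSch.completionAlong X 𝓘).ι n = _
    rw [ih]
    exact Scheme.IdealSheafData.inclusion_comp _ _

open AlgebraicGeometry in
/-- The completion along a closed subset, presented as the system of closed subschemes cut out by the
powers of an ideal sheaf: Let X be a locally Noetherian scheme and I an ideal sheaf on X. The closed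
subschemes defined by I, I^2, I^3, ... with their inclusions form a locally Noetherian adic formal
system: each inclusion is a surjective closed immersion, the kernel ideal of the n-th inclusion is
the (n+1)-st power of the kernel ideal of the composite inclusion from level 0, and every level is
locally Noetherian. -/
theorem result (X : Scheme.{u}) [IsLocallyNoetherian X]
    (𝓘 : X.IdealSheafData) : (FSch.completionAlong X 𝓘).IsLocNoethFormal := by
  refine ⟨fun n => ⟨?_, ?_⟩, fun n => ?_, fun n => ?_⟩
  · exact Groth.Agent.Lib.helper6.isClosedImmersion_inclusion _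
  · apply Groth.Agent.Lib.helper6.inclusion_surjective
    rw [Scheme.IdealSheafData.support_pow_succ, Scheme.IdealSheafData.support_pow_succ]
  · rw [toX_eq]
    change (Scheme.IdealSheafData.inclusion _).ker = (Scheme.IdealSheafData.inclusion _).ker ^ (n + 1)
    rw [Groth.Agent.Lib.helper6.ker_inclusion, Groth.Agent.Lib.helper6.ker_inclusion,
      Groth.Agent.Lib.helper6.comap_pow, zero_add, pow_one]
  · change IsLocallyNoetherian (𝓘 ^ (n + 1)).subscheme
    exact LocallyOfFiniteType.isLocallyNoetherian (𝓘 ^ (n + 1)).subschemeι

end Groth.Agent.S3854
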