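import Groth.Statements.S3873
-- import your own Groth.Agent.* helpers here
import Mathlib

set_option autoImplicit false
universe u
open FCompl

namespace Groth.Agent.S3873

open AlgebraicGeometry CategoryTheory Limits in
theorem comap_ker_specMap_mk (A B : Type u) [CommRing A] [CommRing B] [Algebra B A] (𝔟 : Ideal B) :
    ((Spec.map (CommRingCat.ofHom (Ideal.Quotient.mk 𝔟))).ker).comap
      (Spec.map (CommRingCat.ofHom (algebraMap B A))) =
    (Spec.map (CommRingCat.ofHom (Ideal.Quotient.mk (𝔟.map (algebraMap B A))))).ker := by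
  have hci : IsClosedImmersion (Spec.map (CommRingCat.ofHom (Ideal.Quotient.mk 𝔟))) :=
    IsClosedImmersion.spec_of_surjective _ Ideal.Quotient.mk_surjective
  rw [← Scheme.IdealSheafData.ker_fst_of_isClosedImmersion]
  have h1 : pullback.fst (Spec.map (CommRingCat.ofHom (algebraMap B A)))
      (Spec.map (CommRingCat.ofHom (Ideal.Quotient.mk 𝔟))) =
      (pullbackSpecIso B A (B ⧸ 𝔟)).hom ≫
        Spec.map (CommRingCat.ofHom Algebra.TensorProduct.includeLeftRingHom) :=
    (pullbackSpecIso_hom_fst B A (B ⧸ 𝔟)).symm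
  rw [h1, Scheme.Hom.ker_comp_of_isIso]
  let e : (A ⧸ 𝔟.map (algebraMap B A)) ≃+* TensorProduct B A (B ⧸ 𝔟) :=
    (Algebra.TensorProduct.quotIdealMapEquivTensorQuot A 𝔟).toRingEquiv
  have h2 : (Algebra.TensorProduct.includeLeftRingHom : A →+* TensorProduct B A (B ⧸ 𝔟)) =
      e.toRingHom.comp (Ideal.Quotient.mk (𝔟.map (algebraMap B A))) := by
    ext a
    simp [e]
  rw [h2, CommRingCat.ofHom_comp, Spec.map_comp]
  have : IsIso (Spec.map (CommRingCat.ofHom e.toRingHom)) := by
    have : IsIso (CommRingCat.ofHom e.toRingHom) := (RingEquiv.toCommRingCatIso e).isIso_hom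
    infer_instance
  rw [Scheme.Hom.ker_comp_of_isIso]

open AlgebraicGeometry in
/-- Its content on the affine schemes underlying the formal spectra: the inverse image ideal of b^Δ is
(bA)^Δ, read on Spec: For a ring homomorphism φ : B -> A and an ideal b of B, the inverse image
along Spec(φ) of the ideal sheaf of b on Spec B is the ideal sheaf on Spec A of the ideal generated
by φ(b). -/
theorem result (A B : Type u) [CommRing A] [CommRing B] (φ : B →+* A) (𝔟 : Ideal B) :
    (FSch.idealSpec B 𝔟).comap (Spec.map (CommRingCat.ofHom φ)) = FSch.idealSpec A (𝔟.map φ) := by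
  algebraize [φ]
  exact comap_ker_specMap_mk A B 𝔟

end Groth.Agent.S3873
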