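import Groth.Statements.S3867
-- import your own Groth.Agent.* helpers here
import Groth.Agent.Lib.helper6.FormalSys
import Groth.Agent.S3873

set_option autoImplicit false
universe u
open FCompl

namespace Groth.Agent.S3867

open AlgebraicGeometry CategoryTheory in
/-- The kernel ideal sheaf of `Spec` of a ring map, evaluated on the whole affine scheme. -/
theorem ker_specMap_ideal_top {R R' : Type u} [CommRing R] [CommRing R'] (f : R →+* R') :
    ((Spec.map (CommRingCat.ofHom f)).ker).ideal ⟨⊤, isAffineOpen_top _⟩ =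
      (RingHom.ker f).comap (Scheme.ΓSpecIso (CommRingCat.of R)).hom.hom := by
  rw [Scheme.Hom.ker_apply]
  have h := Scheme.ΓSpecIso_naturality (CommRingCat.ofHom f)
  have h2 : RingHom.ker ((Spec.map (CommRingCat.ofHom f)).app ⊤).hom =
      RingHom.ker ((Spec.map (CommRingCat.ofHom f)).appTop ≫
        (Scheme.ΓSpecIso (CommRingCat.of R')).hom).hom := by
    rw [CommRingCat.hom_comp]
    exact (RingHom.ker_equiv_comp _
      (Scheme.ΓSpecIso (CommRingCat.of R')).commRingCatIsoToRingEquiv).symm
  rw [h2, h, CommRingCat.hom_comp, RingHom.comap_ker]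
  rfl

open AlgebraicGeometry CategoryTheory in
theorem idealSpec_injective (R : Type u) [CommRing R] {𝔞 𝔞' : Ideal R}
    (h : FSch.idealSpec R 𝔞 = FSch.idealSpec R 𝔞') : 𝔞 = 𝔞' := by
  have h1 := congrArg (fun K : (Spec (CommRingCat.of R)).IdealSheafData =>
    K.ideal ⟨⊤, isAffineOpen_top _⟩) h
  simp only [FSch.idealSpec] at h1
  rw [ker_specMap_ideal_top, ker_specMap_ideal_top, Ideal.mk_ker, Ideal.mk_ker] at h1
  refine Ideal.comap_injective_of_surjective _ ?_ h1
  exact (ConcreteCategory.bijective_of_isIso (Scheme.ΓSpecIso (CommRingCat.of R)).hom).2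

open AlgebraicGeometry CategoryTheory in
/-- The kernel ideal sheaf of `Spec` of a surjective ring map is the ideal sheaf of its kernel. -/
theorem ker_specMap_of_surjective {R R' : Type u} [CommRing R] [CommRing R'] (f : R →+* R')
    (hf : Function.Surjective f) :
    (Spec.map (CommRingCat.ofHom f)).ker = FSch.idealSpec R (RingHom.ker f) := by
  let e : (R ⧸ RingHom.ker f) ≃+* R' := RingHom.quotientKerEquivOfSurjective hf
  have h2 : f = e.toRingHom.comp (Ideal.Quotient.mk (RingHom.ker f)) := by
    ext a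
    simp [e]
  have : IsIso (Spec.map (CommRingCat.ofHom e.toRingHom)) := by
    have : IsIso (CommRingCat.ofHom e.toRingHom) := (RingEquiv.toCommRingCatIso e).isIso_hom
    infer_instance
  conv_lhs => rw [h2, CommRingCat.ofHom_comp, Spec.map_comp, Scheme.Hom.ker_comp_of_isIso]
  rfl

open AlgebraicGeometry CategoryTheory in
/-- The level-`n` square of `spfMap` is cartesian iff the ideals match. -/
theorem level_iff (A B : Type u) [CommRing A] [CommRing B]
    (I : Ideal A) (K : Ideal B) (φ : B →+* A) (h : K ≤ I.comap φ) (n : ℕ) :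
    IsPullback
      (Spec.map (CommRingCat.ofHom (Ideal.Quotient.factor
        (Ideal.pow_le_pow_right (Nat.le_succ (n + 1))) : A ⧸ I ^ (n + 2) →+* A ⧸ I ^ (n + 1))))
      (Spec.map (CommRingCat.ofHom (FSch.quotPowMap I K φ h n)))
      (Spec.map (CommRingCat.ofHom (FSch.quotPowMap I K φ h (n + 1))))
      (Spec.map (CommRingCat.ofHom (Ideal.Quotient.factor
        (Ideal.pow_le_pow_right (Nat.le_succ (n + 1))) : B ⧸ K ^ (n + 2) →+* B ⧸ K ^ (n + 1)))) ↔
    (K ^ (n + 1)).map φ ⊔ I ^ (n + 2) = I ^ (n + 1) := by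
  have hA : Function.Surjective (Ideal.Quotient.factor (Ideal.pow_le_pow_right (Nat.le_succ (n + 1))) :
      A ⧸ I ^ (n + 2) →+* A ⧸ I ^ (n + 1)) := Ideal.Quotient.factor_surjective _
  have hB : Function.Surjective (Ideal.Quotient.factor (Ideal.pow_le_pow_right (Nat.le_succ (n + 1))) :
      B ⧸ K ^ (n + 2) →+* B ⧸ K ^ (n + 1)) := Ideal.Quotient.factor_surjective _
  have ciA : IsClosedImmersion (Spec.map (CommRingCat.ofHom (Ideal.Quotient.factor
        (Ideal.pow_le_pow_right (Nat.le_succ (n + 1))) : A ⧸ I ^ (n + 2) →+* A ⧸ I ^ (n + 1)))) :=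
    IsClosedImmersion.spec_of_surjective (CommRingCat.ofHom _) hA
  have ciB : IsClosedImmersion (Spec.map (CommRingCat.ofHom (Ideal.Quotient.factor
        (Ideal.pow_le_pow_right (Nat.le_succ (n + 1))) : B ⧸ K ^ (n + 2) →+* B ⧸ K ^ (n + 1)))) :=
    IsClosedImmersion.spec_of_surjective (CommRingCat.ofHom _) hB
  have kA := ker_specMap_of_surjective _ hA
  have kB := ker_specMap_of_surjective _ hB
  rw [Ideal.Quotient.factor_ker] at kA kB
  have h4 : (FSch.quotPowMap I K φ h (n + 1)).comp (Ideal.Quotient.mk (K ^ (n + 2))) =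
      (Ideal.Quotient.mk (I ^ (n + 2))).comp φ := by
    ext b; rfl
  have hle : I ^ (n + 1) ⊔ I ^ (n + 2) = I ^ (n + 1) :=
    sup_eq_left.mpr (Ideal.pow_le_pow_right (Nat.le_succ (n + 1)))
  have key : ((Spec.map (CommRingCat.ofHom (Ideal.Quotient.factor
        (Ideal.pow_le_pow_right (Nat.le_succ (n + 1))) : B ⧸ K ^ (n + 2) →+* B ⧸ K ^ (n + 1)))).ker.comap
        (Spec.map (CommRingCat.ofHom (FSch.quotPowMap I K φ h (n + 1)))) =
      (Spec.map (CommRingCat.ofHom (Ideal.Quotient.factor
        (Ideal.pow_le_pow_right (Nat.le_succ (n + 1))) : A ⧸ I ^ (n + 2) →+* A ⧸ I ^ (n + 1)))).ker) ↔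
      (K ^ (n + 1)).map φ ⊔ I ^ (n + 2) = I ^ (n + 1) := by
    rw [kA, kB, Groth.Agent.S3873.result, Ideal.map_map, h4, ← Ideal.map_map]
    constructor
    · intro hh
      have h3 := idealSpec_injective _ hh
      rw [Ideal.map_eq_iff_sup_ker_eq_of_surjective _
        Ideal.Quotient.mk_surjective, Ideal.mk_ker] at h3
      rw [h3, hle]
    · intro hh
      congr 1
      rw [Ideal.map_eq_iff_sup_ker_eq_of_surjective _
        Ideal.Quotient.mk_surjective, Ideal.mk_ker, hh, hle]
  constructor
  · intro hp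
    exact key.mp (Groth.Agent.Lib.helper6.ker_eq_comap_of_isPullback hp).symm
  · intro hh
    refine isPullback_of_isClosedImmersion _ _ _ _ ?_ (key.mpr hh)
    exact ((FSch.spfMap I K φ h : FSch.Hom _ _).comm n).symm

open AlgebraicGeometry in
/-- Formal spectra are presented as the systems Spec(A/I^(n+1)) and Spec(B/K^(n+1)), a morphism of
systems being adic when all its squares are cartesian. Let A be a Noetherian ring, complete and
separated for the I-adic topology of an ideal I, K an ideal of a ring B and φ : B → A a ring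
homomorphism with φ(K) ⊆ I. Then the induced morphism Spf(A) → Spf(B) is adic if and only if the
ideal of A generated by φ(K) is I. -/
theorem result (A B : Type u) [CommRing A] [CommRing B] [IsNoetherianRing A]
    (I : Ideal A) (K : Ideal B) [IsAdicComplete I A] (φ : B →+* A) (h : K ≤ I.comap φ) :
    FSch.IsAdicHom (FSch.spfMap I K φ h) ↔ K.map φ = I := by
  constructor
  · intro hadic
    have h0 := (level_iff A B I K φ h 0).mp (hadic 0)
    simp only [zero_add, pow_one] at h0
    apply le_antisymm (Ideal.map_le_iff_le_comap.mpr h)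
    refine Submodule.le_of_le_smul_of_le_jacobson_bot (I := I) (IsNoetherian.noetherian _)
      (IsAdicComplete.le_jacobson_bot I) ?_
    rw [smul_eq_mul, ← pow_two, h0]
  · intro hKI n
    refine (level_iff A B I K φ h n).mpr ?_
    rw [Ideal.map_pow, hKI]
    exact sup_eq_left.mpr (Ideal.pow_le_pow_right (Nat.le_succ (n + 1)))

end Groth.Agent.S3867
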