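import Groth.Statements.S3855
-- import your own Groth.Agent.* helpers here
import Groth.Agent.S3867

set_option autoImplicit false
universe u
open FCompl

namespace Groth.Agent.S3855

open AlgebraicGeometry CategoryTheory in
theorem idealSpec_pow (R : Type u) [CommRing R] (𝔠 : Ideal R) (m : ℕ) :
    FSch.idealSpec R (𝔠 ^ m) = (FSch.idealSpec R 𝔠) ^ m := by
  apply Scheme.IdealSheafData.ext_of_isAffine
  rw [Scheme.IdealSheafData.ideal_pow, Pi.pow_apply]
  simp only [FSch.idealSpec]
  rw [Groth.Agent.S3867.ker_specMap_ideal_top, Groth.Agent.S3867.ker_specMap_ideal_top,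
    Ideal.mk_ker, Ideal.mk_ker]
  let e := (Scheme.ΓSpecIso (CommRingCat.of R)).commRingCatIsoToRingEquiv
  change Ideal.comap e (𝔠 ^ m) = (Ideal.comap e 𝔠) ^ m
  rw [← Ideal.map_symm, ← Ideal.map_symm, Ideal.map_pow]

open AlgebraicGeometry CategoryTheory in
theorem toX_eq (A : Type u) [CommRing A] (J : Ideal A) (n : ℕ) :
    (FSch.spf A J).toX n = Spec.map (CommRingCat.ofHom (Ideal.Quotient.factor
      (Ideal.pow_le_pow_right (Nat.succ_le_succ (Nat.zero_le n))) :
        A ⧸ J ^ (n + 1) →+* A ⧸ J ^ (0 + 1))) := by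
  induction n with
  | zero =>
    change 𝟙 _ = _
    rw [Ideal.Quotient.factor_eq]
    exact (Spec.map_id _).symm
  | succ n ih =>
    change (FSch.spf A J).toX n ≫ CohB1.specQuotTrans J n = _
    rw [ih]
    change Spec.map _ ≫ Spec.map _ = _
    rw [← Spec.map_comp, ← CommRingCat.ofHom_comp, Ideal.Quotient.factor_comp]

open AlgebraicGeometry CategoryTheory in
theorem surj_aux (A : Type u) [CommRing A] (J : Ideal A) (n : ℕ) (hle : J ^ (n + 2) ≤ J ^ (n + 1)) :
    Function.Surjective (Spec.map (CommRingCat.ofHom (Ideal.Quotient.factor hle :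
      A ⧸ J ^ (n + 2) →+* A ⧸ J ^ (n + 1)))).base := by
  rw [← Set.range_eq_univ]
  change Set.range (PrimeSpectrum.comap (Ideal.Quotient.factor hle)) = Set.univ
  rw [_root_.range_comap_of_surjective _ _ (Ideal.Quotient.factor_surjective _),
    Ideal.Quotient.factor_ker]
  rw [Set.eq_univ_iff_forall]
  intro p
  rw [PrimeSpectrum.mem_zeroLocus]
  intro x hx
  apply p.2.mem_of_pow_mem 2
  have : x ^ 2 ∈ (Ideal.map (Ideal.Quotient.mk (J ^ (n + 2))) (J ^ (n + 1))) ^ 2 :=
    Ideal.pow_mem_pow hx 2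
  rw [← Ideal.map_pow, ← pow_mul] at this
  have h0 : Ideal.map (Ideal.Quotient.mk (J ^ (n + 2))) (J ^ ((n + 1) * 2)) = ⊥ := by
    rw [Ideal.map_eq_bot_iff_le_ker, Ideal.mk_ker]
    exact Ideal.pow_le_pow_right (by omega)
  rw [h0] at this
  rw [Ideal.mem_bot.mp this]
  exact p.asIdeal.zero_mem

open AlgebraicGeometry CategoryTheory in
theorem adic_aux (A : Type u) [CommRing A] (J : Ideal A) (n : ℕ) (hle : J ^ (n + 2) ≤ J ^ (n + 1))
    (hle0 : J ^ (n + 2) ≤ J ^ (0 + 1)) :
    (Spec.map (CommRingCat.ofHom (Ideal.Quotient.factor hle :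
      A ⧸ J ^ (n + 2) →+* A ⧸ J ^ (n + 1)))).ker =
    (Spec.map (CommRingCat.ofHom (Ideal.Quotient.factor hle0 :
      A ⧸ J ^ (n + 2) →+* A ⧸ J ^ (0 + 1)))).ker ^ (n + 1) := by
  rw [Groth.Agent.S3867.ker_specMap_of_surjective _ (Ideal.Quotient.factor_surjective hle),
    Groth.Agent.S3867.ker_specMap_of_surjective _ (Ideal.Quotient.factor_surjective hle0),
    Ideal.Quotient.factor_ker, Ideal.Quotient.factor_ker, ← idealSpec_pow, ← Ideal.map_pow,
    zero_add, pow_one]

open AlgebraicGeometry in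
/-- Sufficiency (the formal spectrum presented as the system Spec(A/J) -> Spec(A/J^2) -> ...). For a
Noetherian ring A and an ideal J this system is a locally Noetherian adic formal system: the
transition maps are surjective closed immersions, the kernel ideal of Spec(A/J^(n+1)) ->
Spec(A/J^(n+2)) is the (n+1)-st power of that of Spec(A/J) -> Spec(A/J^(n+2)), and every level is
locally Noetherian. -/
theorem result (A : Type u) [CommRing A] [IsNoetherianRing A] (J : Ideal A) :
    (FSch.spf A J).IsLocNoethFormal := by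
  refine ⟨fun n => ⟨?_, ?_⟩, fun n => ?_, fun n => ?_⟩
  · exact IsClosedImmersion.spec_of_surjective (CommRingCat.ofHom _)
      (Ideal.Quotient.factor_surjective (Ideal.pow_le_pow_right (Nat.le_succ (n + 1))))
  · exact surj_aux A J n _
  · rw [toX_eq]
    exact adic_aux A J n _ _
  · change IsLocallyNoetherian (Spec (CommRingCat.of (A ⧸ J ^ (n + 1))))
    infer_instance

end Groth.Agent.S3855
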