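import Groth.Statements.S3858
-- import your own Groth.Agent.* helpers here
import Groth.Agent.Lib.helper6.FormalSys

set_option autoImplicit false
universe u
open FCompl

namespace Groth.Agent.S3858

open AlgebraicGeometry CategoryTheory CategoryTheory.Limits in
theorem adic_snd {𝔛 𝔖 𝔖' : FSch.Sys.{u}} (f : 𝔛 ⟶ 𝔖) (g : 𝔖' ⟶ 𝔖) (hf : FSch.IsAdicHom f) :
    FSch.IsAdicHom (FSch.pullbackSnd f g) := by
  intro n
  have h1 : IsPullback (pullback.snd ((f : FSch.Hom 𝔛 𝔖).app n) ((g : FSch.Hom 𝔖' 𝔖).app n))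
      (pullback.fst _ _) ((g : FSch.Hom 𝔖' 𝔖).app n) ((f : FSch.Hom 𝔛 𝔖).app n) :=
    (IsPullback.of_hasPullback _ _).flip
  have h2 := (hf n).flip
  have h3 := h1.paste_vert h2
  have h4 : IsPullback (pullback.snd ((f : FSch.Hom 𝔛 𝔖).app (n + 1)) ((g : FSch.Hom 𝔖' 𝔖).app (n + 1)))
      (pullback.fst _ _) ((g : FSch.Hom 𝔖' 𝔖).app (n + 1)) ((f : FSch.Hom 𝔛 𝔖).app (n + 1)) :=
    (IsPullback.of_hasPullback _ _).flip
  have e1 : pullback.fst ((f : FSch.Hom 𝔛 𝔖).app n) ((g : FSch.Hom 𝔖' 𝔖).app n) ≫ 𝔛.ι n =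
      (FSch.pullbackSys f g).ι n ≫ pullback.fst _ _ := (pullback.lift_fst _ _ _).symm
  have e2 : (g : FSch.Hom 𝔖' 𝔖).app n ≫ 𝔖.ι n = 𝔖'.ι n ≫ (g : FSch.Hom 𝔖' 𝔖).app (n + 1) :=
    (g : FSch.Hom 𝔖' 𝔖).comm n
  rw [e1, e2] at h3
  refine (IsPullback.of_bot h3 ?_ h4).flip
  exact (pullback.lift_snd _ _ _).symm

open AlgebraicGeometry in
/-- Formal schemes are presented as systems of thickenings (X_n)_n and fibre products of systems are
taken levelwise. Let X → S be an adic morphism of systems (every square X_n → X_(n+1), S_n → S_(n+1)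
is cartesian) whose level-0 morphism X_0 → S_0 is locally of finite type, and S' → S a morphism from
a locally Noetherian adic formal system S'. Then the levelwise fibre product (X_n ×_(S_n) S'_n)_n is
a locally Noetherian adic formal system, its projection to S' is adic, and the level-0 projection
X_0 ×_(S_0) S'_0 → S'_0 is locally of finite type. The published statement concerns the fibre
product of formal schemes, which the levelwise fibre product presents because X is adic over S, and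
also assumes X and S locally Noetherian, which is not assumed here. -/
theorem result {𝔛 𝔖 𝔖' : FSch.Sys.{u}} (f : 𝔛 ⟶ 𝔖) (g : 𝔖' ⟶ 𝔖)
    (h𝔖' : 𝔖'.IsLocNoethFormal) (hf : FSch.IsAdicHom f) [LocallyOfFiniteType ((f : FSch.Hom 𝔛 𝔖).app 0)] :
    (FSch.pullbackSys f g).IsLocNoethFormal ∧ FSch.IsAdicHom (FSch.pullbackSnd f g) ∧
      LocallyOfFiniteType ((FSch.pullbackSnd f g : FSch.Hom _ _).app 0) := by
  have hadic := adic_snd f g hf
  have hft : LocallyOfFiniteType ((FSch.pullbackSnd f g : FSch.Hom _ _).app 0) :=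
    inferInstanceAs (LocallyOfFiniteType (CategoryTheory.Limits.pullback.snd
      ((f : FSch.Hom 𝔛 𝔖).app 0) ((g : FSch.Hom 𝔖' 𝔖).app 0)))
  have := h𝔖'.2.2 0
  have : IsLocallyNoetherian ((FSch.pullbackSys f g).X 0) :=
    LocallyOfFiniteType.isLocallyNoetherian ((FSch.pullbackSnd f g : FSch.Hom _ _).app 0)
  exact ⟨Groth.Agent.Lib.helper6.isLocNoethFormal_of_isAdicHom _ h𝔖' hadic, hadic, hft⟩

end Groth.Agent.S3858
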