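import Groth.Statements.S3859
-- import your own Groth.Agent.* helpers here
import Mathlib

set_option autoImplicit false
universe u
open FCompl

namespace Groth.Agent.S3859

open AlgebraicGeometry CategoryTheory CategoryTheory.Limits in
theorem comm_aux {𝔛 𝔜 𝔖 𝔚 : FSch.Sys.{u}} (f : FSch.Hom 𝔛 𝔖) (g : FSch.Hom 𝔜 𝔖)
    (a : FSch.Hom 𝔚 𝔛) (b : FSch.Hom 𝔚 𝔜) (hab : ∀ n, a.app n ≫ f.app n = b.app n ≫ g.app n) (n : ℕ) :
    pullback.lift (a.app n) (b.app n) (hab n) ≫
      pullback.map (f.app n) (g.app n) (f.app (n + 1)) (g.app (n + 1)) (𝔛.ι n) (𝔜.ι n) (𝔖.ι n)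
        (f.comm n) (g.comm n) =
    𝔚.ι n ≫ pullback.lift (a.app (n + 1)) (b.app (n + 1)) (hab (n + 1)) := by
  apply pullback.hom_ext
  · rw [Category.assoc, Category.assoc, pullback.lift_fst, pullback.lift_fst_assoc, pullback.lift_fst]
    exact a.comm n
  · rw [Category.assoc, Category.assoc, pullback.lift_snd, pullback.lift_snd_assoc, pullback.lift_snd]
    exact b.comm n

open AlgebraicGeometry CategoryTheory CategoryTheory.Limits in
/-- The lift into the levelwise fibre product. -/
noncomputable def liftSys {𝔛 𝔜 𝔖 𝔚 : FSch.Sys.{u}} (f : 𝔛 ⟶ 𝔖) (g : 𝔜 ⟶ 𝔖)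
    (a : 𝔚 ⟶ 𝔛) (b : 𝔚 ⟶ 𝔜) (hab : a ≫ f = b ≫ g) : 𝔚 ⟶ FSch.pullbackSys f g :=
  ⟨fun n => pullback.lift ((a : FSch.Hom _ _).app n) ((b : FSch.Hom _ _).app n)
      (congrArg (fun φ : FSch.Hom 𝔚 𝔖 => φ.app n) hab),
    fun n => comm_aux f g a b (fun n => congrArg (fun φ : FSch.Hom 𝔚 𝔖 => φ.app n) hab) n⟩

open AlgebraicGeometry in
open CategoryTheory in
/-- In the presentation by systems of thickenings: For morphisms of systems X -> S and Y -> S, the
levelwise fibre product with its two projections is a fibre product in the category of systems; it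
presents the fibre product of formal schemes when one factor is adic over the base, and otherwise
only up to cofinality of the levels. -/
theorem result {𝔛 𝔜 𝔖 : FSch.Sys.{u}} (f : 𝔛 ⟶ 𝔖) (g : 𝔜 ⟶ 𝔖) :
    IsPullback (FSch.pullbackFst f g) (FSch.pullbackSnd f g) f g := by
  refine ⟨⟨?_⟩, ⟨Limits.PullbackCone.IsLimit.mk _ (fun s => liftSys f g s.fst s.snd s.condition)
    ?_ ?_ ?_⟩⟩
  · apply FSch.Hom.ext
    funext n
    exact Limits.pullback.condition
  · intro s
    apply FSch.Hom.ext
    funext n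
    exact Limits.pullback.lift_fst _ _ _
  · intro s
    apply FSch.Hom.ext
    funext n
    exact Limits.pullback.lift_snd _ _ _
  · intro s m h1 h2
    apply FSch.Hom.ext
    funext n
    apply Limits.pullback.hom_ext
    · have := congrArg (fun φ : FSch.Hom _ _ => φ.app n) h1
      refine Eq.trans this ?_
      exact (Limits.pullback.lift_fst _ _ _).symm
    · have := congrArg (fun φ : FSch.Hom _ _ => φ.app n) h2
      refine Eq.trans this ?_
      exact (Limits.pullback.lift_snd _ _ _).symm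

end Groth.Agent.S3859
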