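import Groth.Statements.S3860
-- import your own Groth.Agent.* helpers here
import Mathlib

set_option autoImplicit false
universe u
open FCompl

namespace Groth.Agent.S3860

open AlgebraicGeometry CategoryTheory in
theorem spfMap_injective (A B : Type u) [CommRing A] [CommRing B] (I : Ideal A) (K : Ideal B)
    [IsAdicComplete I A] :
    Function.Injective (fun φ : {φ : B →+* A // K ≤ I.comap φ} ↦ FSch.spfMap I K φ.1 φ.2) := by
  rintro ⟨φ, hφ⟩ ⟨ψ, hψ⟩ h
  apply Subtype.ext
  change φ = ψ
  have hn : ∀ n, FSch.quotPowMap I K φ hφ n = FSch.quotPowMap I K ψ hψ n := by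
    intro n
    have h1 : (FSch.spfMap I K φ hφ : FSch.Hom _ _).app n = (FSch.spfMap I K ψ hψ : FSch.Hom _ _).app n :=
      congrArg (fun F : FSch.Hom _ _ => F.app n) h
    rw [FSch.spfMap_app, FSch.spfMap_app] at h1
    have h2 := Spec.map_injective h1
    exact congrArg CommRingCat.Hom.hom h2
  apply DFunLike.coe_injective
  apply IsHausdorff.StrictMono.funext' I (a := fun n => n + 1) (strictMono_id.add_const 1)
  intro n b
  have := congrArg (fun f => f (Ideal.Quotient.mk _ b)) (hn n)
  simpa [FSch.quotPowMap] using this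

open AlgebraicGeometry CategoryTheory in
theorem spfMap_surjective (A B : Type u) [CommRing A] [CommRing B] (I : Ideal A) (K : Ideal B)
    [IsAdicComplete I A] :
    Function.Surjective (fun φ : {φ : B →+* A // K ≤ I.comap φ} ↦ FSch.spfMap I K φ.1 φ.2) := by
  intro F
  let F' : FSch.Hom (FSch.spf A I) (FSch.spf B K) := F
  let ψ : ∀ n, (B ⧸ K ^ (n + 1)) →+* (A ⧸ I ^ (n + 1)) := fun n => (Spec.preimage (F'.app n)).hom
  have hψ : ∀ n, Spec.map (CommRingCat.ofHom (ψ n)) = F'.app n := fun n => Spec.map_preimage _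
  have hcomm : ∀ n, (ψ n).comp (Ideal.Quotient.factor (Ideal.pow_le_pow_right (Nat.le_succ (n + 1)))) =
      (Ideal.Quotient.factor (Ideal.pow_le_pow_right (Nat.le_succ (n + 1)))).comp (ψ (n + 1)) := by
    intro n
    have h1 := F'.comm n
    rw [← hψ n, ← hψ (n + 1)] at h1
    change Spec.map _ ≫ Spec.map _ = Spec.map _ ≫ Spec.map _ at h1
    rw [← Spec.map_comp, ← Spec.map_comp] at h1
    have h2 := Spec.map_injective h1
    exact congrArg CommRingCat.Hom.hom h2
  let f : ∀ n, B →+* A ⧸ I ^ (n + 1) := fun n => (ψ n).comp (Ideal.Quotient.mk (K ^ (n + 1)))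
  have ha : StrictMono (fun n : ℕ => n + 1) := strictMono_id.add_const 1
  have hf : ∀ {m : ℕ}, (Ideal.Quotient.factorPow I (ha.monotone m.le_succ)).comp (f (m + 1)) = f m := by
    intro m
    ext b
    have := congrArg (fun g => g (Ideal.Quotient.mk _ b)) (hcomm m)
    simpa [f, Ideal.Quotient.factorPow] using this.symm
  let φ : B →+* A := IsAdicComplete.StrictMono.liftRingHom I ha f hf
  have hφmk : ∀ n b, Ideal.Quotient.mk (I ^ (n + 1)) (φ b) = ψ n (Ideal.Quotient.mk _ b) := by
    intro n b
    exact IsAdicComplete.StrictMono.mk_liftRingHom I ha f hf b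
  have hK : K ≤ I.comap φ := by
    intro b hb
    rw [Ideal.mem_comap]
    have h0 := hφmk 0 b
    have hb' : (Ideal.Quotient.mk (K ^ (0 + 1))) b = 0 := by
      rw [Ideal.Quotient.eq_zero_iff_mem]; simpa using hb
    rw [hb', map_zero, Ideal.Quotient.eq_zero_iff_mem] at h0
    simpa using h0
  refine ⟨⟨φ, hK⟩, ?_⟩
  apply FSch.Hom.ext
  funext n
  change (FSch.spfMap I K φ hK : FSch.Hom _ _).app n = F'.app n
  rw [FSch.spfMap_app, ← hψ n]
  congr 2
  apply Ideal.Quotient.ringHom_ext
  ext b
  simpa [FSch.quotPowMap] using hφmk n b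

open AlgebraicGeometry in
/-- (Affine adic case; the formal spectra presented as the systems Spec(A/I^(n+1)) and Spec(B/K^(n+1)).)
Let I be an ideal of a ring A which is complete and separated for the I-adic topology, and K an
ideal of a ring B. Then φ ↦ (Spec of the induced maps B/K^(n+1) -> A/I^(n+1)) is a bijection from
the ring homomorphisms φ : B -> A with φ(K) ⊆ I onto the morphisms of systems from Spf(A) to Spf(B),
i.e. the compatible families of morphisms Spec(A/I^(n+1)) -> Spec(B/K^(n+1)). -/
theorem result (A B : Type u) [CommRing A] [CommRing B] (I : Ideal A) (K : Ideal B)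
    [IsAdicComplete I A] :
    Function.Bijective (fun φ : {φ : B →+* A // K ≤ I.comap φ} ↦ FSch.spfMap I K φ.1 φ.2) :=
  ⟨spfMap_injective A B I K, spfMap_surjective A B I K⟩

end Groth.Agent.S3860
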