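import Groth.Statements.S3861
-- import your own Groth.Agent.* helpers here
import Groth.Agent.Lib.helper6.IdealComap

set_option autoImplicit false
universe u
open FCompl

namespace Groth.Agent.S3861

open AlgebraicGeometry in
/-- For a morphism of schemes f : X -> Y and quasi-coherent ideal sheaves K₁, K₂ on Y, the inverse image
ideal sheaf of K₁K₂ is the product of the inverse image ideal sheaves of K₁ and K₂. -/
theorem result {X Y : Scheme.{u}} (f : X ⟶ Y) (K₁ K₂ : Y.IdealSheafData) :
    (K₁ * K₂).comap f = K₁.comap f * K₂.comap f := by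
  choose U V hxU hUV using Groth.Agent.Lib.helper6.exists_affineOpens_le_preimage f
  refine Scheme.IdealSheafData.ext_of_iSup_eq_top U ?_ ?_
  · rw [eq_top_iff]
    intro x _
    exact TopologicalSpace.Opens.mem_iSup.mpr ⟨x, hxU x⟩
  · intro x
    rw [Scheme.IdealSheafData.ideal_mul, Pi.mul_apply,
      Groth.Agent.Lib.helper6.comap_ideal_of_le f _ (U x) (V x) (hUV x),
      Groth.Agent.Lib.helper6.comap_ideal_of_le f _ (U x) (V x) (hUV x),
      Groth.Agent.Lib.helper6.comap_ideal_of_le f _ (U x) (V x) (hUV x),
      Scheme.IdealSheafData.ideal_mul, Pi.mul_apply, Ideal.map_mul]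

end Groth.Agent.S3861
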