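import Groth.Statements.S3862
-- import your own Groth.Agent.* helpers here
import Groth.Agent.Lib.helper6.IdealComap

set_option autoImplicit false
universe u
open FCompl

namespace Groth.Agent.S3862

open AlgebraicGeometry CategoryTheory in
theorem general_isPullback {X Y : Scheme.{u}} (f : X ⟶ Y) (I : X.IdealSheafData)
    (J : Y.IdealSheafData) (hIJ : J.comap f = I) :
    IsPullback I.subschemeι
      (Scheme.IdealSheafData.subschemeMap I J f
        (Scheme.IdealSheafData.le_map_iff_comap_le.mpr hIJ.le)) f J.subschemeι := by
  refine isPullback_of_isClosedImmersion _ _ _ _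
    (Scheme.IdealSheafData.subschemeMap_subschemeι _ _ _ _).symm ?_
  rw [Scheme.IdealSheafData.ker_subschemeι, Scheme.IdealSheafData.ker_subschemeι]
  exact hIJ

open AlgebraicGeometry CategoryTheory in
theorem level_isPullback {X Y : Scheme.{u}} (f : X ⟶ Y) (𝓚 : Y.IdealSheafData)
    (h : FSch.PowCompat f (𝓚.comap f) 𝓚) (n : ℕ) :
    IsPullback (FSch.completionToX X (𝓚.comap f) n)
        ((FSch.completionMap f (𝓚.comap f) 𝓚 h : FSch.Hom _ _).app n) f (FSch.completionToX Y 𝓚 n) :=
  general_isPullback f _ _ (Groth.Agent.Lib.helper6.comap_pow f 𝓚 (n + 1))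

open AlgebraicGeometry in
open CategoryTheory in
/-- Completions are presented by the closed subschemes cut out by the powers of an ideal sheaf 𝓚 on Y
and by the powers of its inverse image ideal on X. For a morphism of schemes f : X → Y, the
completion X̂ of X along the inverse image ideal is X ×_Y Ŷ: at every level n the square formed by
the inclusion X'_n → X, the completed morphism X'_n → Y'_n, f and the inclusion Y'_n → Y is
cartesian, and the completed morphism X̂ → Ŷ is adic (each square X'_n → X'_(n+1), Y'_n → Y'_(n+1)
is cartesian). The compatibility of f with the powers of the two ideals (the inverse image of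
𝓚^(n+1) is contained in the (n+1)-st power of the inverse image ideal of 𝓚), needed to define the
completed morphism, holds for inverse image ideals and is carried as the hypothesis h. -/
theorem result {X Y : Scheme.{u}} (f : X ⟶ Y) (𝓚 : Y.IdealSheafData)
    (h : FSch.PowCompat f (𝓚.comap f) 𝓚) :
    (∀ n : ℕ, IsPullback (FSch.completionToX X (𝓚.comap f) n)
        ((FSch.completionMap f (𝓚.comap f) 𝓚 h : FSch.Hom _ _).app n) f (FSch.completionToX Y 𝓚 n)) ∧
      FSch.IsAdicHom (FSch.completionMap f (𝓚.comap f) 𝓚 h) := by
  refine ⟨level_isPullback f 𝓚 h, fun n => ?_⟩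
  have h1 := level_isPullback f 𝓚 h n
  have h2 := level_isPullback f 𝓚 h (n + 1)
  refine IsPullback.of_right ?_ ((FSch.completionMap f (𝓚.comap f) 𝓚 h).comm n).symm h2
  convert h1 using 1
  · simp [FSch.completionAlong, FSch.completionToX]
  · simp [FSch.completionAlong, FSch.completionToX]

end Groth.Agent.S3862
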