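import Groth.Statements.S3865
-- import your own Groth.Agent.* helpers here
import Groth.Agent.Lib.helper6.FormalSys

set_option autoImplicit false
universe u
open FCompl

namespace Groth.Agent.S3865

open AlgebraicGeometry in
/-- A formal scheme is presented as a system of thickenings (X_n)_n, and a coherent ideal of it as a
family of ideal sheaves A_n on the levels X_n, each A_n equal to the inverse image ideal of A_(n+1)
under X_n → X_(n+1). Let (X_n) be a locally Noetherian adic formal system and (A_n) such a family.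
Then the closed subschemes Y_n cut out by the A_n, with the induced transition maps, form a locally
Noetherian adic formal system, and its inclusion into (X_n) is adic: every square Y_n → Y_(n+1), X_n
→ X_(n+1) is cartesian. -/
theorem result (𝔛 : FSch.Sys.{u}) (h𝔛 : 𝔛.IsLocNoethFormal)
    (𝒜 : ∀ n, (𝔛.X n).IdealSheafData) (h : ∀ n, (𝒜 (n + 1)).comap (𝔛.ι n) = 𝒜 n) :
    (FSch.subSys 𝔛 𝒜 (fun n ↦ (h n).le)).IsLocNoethFormal ∧
      FSch.IsAdicHom (FSch.subSysι 𝔛 𝒜 (fun n ↦ (h n).le)) := by
  have hadic : FSch.IsAdicHom (FSch.subSysι 𝔛 𝒜 (fun n ↦ (h n).le)) := fun n =>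
    (Groth.Agent.Lib.helper6.subscheme_isPullback (𝔛.ι n) (𝒜 n) (𝒜 (n + 1)) (h n)).flip
  refine ⟨⟨?_, ?_, fun n => ?_⟩, hadic⟩
  · exact Groth.Agent.Lib.helper6.isFormal_of_isAdicHom _ hadic h𝔛.1
  · exact Groth.Agent.Lib.helper6.isAdic_of_isAdicHom _ hadic h𝔛.1 h𝔛.2.1
  · have := h𝔛.2.2 n
    change IsLocallyNoetherian (𝒜 n).subscheme
    exact LocallyOfFiniteType.isLocallyNoetherian (𝒜 n).subschemeι

end Groth.Agent.S3865
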