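import Groth.Statements.S3869
import Mathlib
import Groth.Agent.Lib.helper24.AdicUnit

set_option autoImplicit false
universe u
open FCompl

namespace Groth.Agent.S3869

section Aux
open Groth.Agent.Lib.helper24

variable (A : Type u) [CommRing A] (J : Ideal A) (𝔭 : Ideal A) [𝔭.IsPrime]

theorem Kp_le (hJ : J ≤ 𝔭) : J.map (algebraMap A (Localization.AtPrime 𝔭)) ≤
    IsLocalRing.maximalIdeal (Localization.AtPrime 𝔭) := by
  rw [Ideal.map_le_iff_le_comap]
  intro a ha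
  rw [Ideal.mem_comap]
  exact (IsLocalization.AtPrime.to_map_mem_maximal_iff _ 𝔭 a).mpr (hJ ha)

theorem isUnit_algebraMap_of_dvd (f g : A) (h : f ∣ g) :
    IsUnit (algebraMap A (Localization.Away g) f) := by
  obtain ⟨c, rfl⟩ := h
  have := IsLocalization.Away.algebraMap_isUnit (S := Localization.Away (f * c)) (f * c)
  rw [map_mul] at this
  exact isUnit_of_mul_isUnit_left this

/-- `A_f → A_g` for `f ∣ g`. -/
noncomputable def awayMap (f g : A) (h : f ∣ g) : Localization.Away f →+* Localization.Away g :=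
  IsLocalization.Away.lift f (g := algebraMap A (Localization.Away g))
    (isUnit_algebraMap_of_dvd A f g h)

theorem awayMap_algebraMap (f g : A) (h : f ∣ g) (a : A) :
    awayMap A f g h (algebraMap A _ a) = algebraMap A _ a :=
  IsLocalization.Away.lift_eq _ _ _

theorem awayToAtPrime_algebraMap (f : A) (hf : f ∉ 𝔭) (a : A) :
    FSch.awayToAtPrime A 𝔭 f hf (algebraMap A _ a) = algebraMap A _ a :=
  IsLocalization.Away.lift_eq _ _ _

theorem map_awayMap_le (f g : A) (h : f ∣ g) :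
    (J.map (algebraMap A (Localization.Away f))).map (awayMap A f g h) ≤
      J.map (algebraMap A (Localization.Away g)) := by
  rw [Ideal.map_map]
  apply le_of_eq
  congr 1
  ext a
  simp [awayMap_algebraMap]

/-- `A_{f} → A_{g}` for `f ∣ g`. -/
noncomputable def cAwayMap (f g : A) (h : f ∣ g) : FSch.cAway A J f →+* FSch.cAway A J g :=
  FSch.complMap _ _ (awayMap A f g h) (map_awayMap_le A J f g h)

theorem awayToAtPrime_comp_awayMap (f g : A) (h : f ∣ g) (hf : f ∉ 𝔭) (hg : g ∉ 𝔭) :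
    (FSch.awayToAtPrime A 𝔭 g hg).comp (awayMap A f g h) = FSch.awayToAtPrime A 𝔭 f hf := by
  apply IsLocalization.ringHom_ext (Submonoid.powers f)
  ext a
  simp [awayMap_algebraMap, awayToAtPrime_algebraMap]

theorem complMap_congr {S T : Type u} [CommRing S] [CommRing T] (I : Ideal S) (K : Ideal T)
    (g g' : S →+* T) (hgg : g = g') (h : I.map g ≤ K) (h' : I.map g' ≤ K) :
    FSch.complMap I K g h = FSch.complMap I K g' h' := by
  subst hgg; rfl

theorem cAwayToAtPrime_cAwayMap (f g : A) (h : f ∣ g) (hf : f ∉ 𝔭) (hg : g ∉ 𝔭)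
    (y : FSch.cAway A J f) :
    FSch.cAwayToAtPrime A J 𝔭 g hg (cAwayMap A J f g h y) = FSch.cAwayToAtPrime A J 𝔭 f hf y := by
  unfold FSch.cAwayToAtPrime cAwayMap
  rw [AdicUnit.complMap_comp (h₃ := by
    rw [awayToAtPrime_comp_awayMap A 𝔭 f g h hf hg]; exact FSch.map_awayToAtPrime_le A J 𝔭 f hf)]
  rw [complMap_congr _ _ _ _ (awayToAtPrime_comp_awayMap A 𝔭 f g h hf hg) _
    (FSch.map_awayToAtPrime_le A J 𝔭 f hf)]

theorem mem_stalkSubring_iff (x : FSch.cAtPrime A J 𝔭) :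
    x ∈ FSch.stalkSubring A J 𝔭 ↔
      ∃ (f : A) (hf : f ∉ 𝔭) (y : FSch.cAway A J f), FSch.cAwayToAtPrime A J 𝔭 f hf y = x := by
  unfold FSch.stalkSubring
  haveI : Nonempty {f : A // f ∉ 𝔭} :=
    ⟨⟨1, (Ideal.ne_top_iff_one 𝔭).mp (Ideal.IsPrime.ne_top inferInstance)⟩⟩
  rw [Subring.mem_iSup_of_directed]
  · constructor
    · rintro ⟨⟨f, hf⟩, y, hy⟩
      exact ⟨f, hf, y, hy⟩
    · rintro ⟨f, hf, y, hy⟩
      exact ⟨⟨f, hf⟩, y, hy⟩
  · rintro ⟨f₁, hf₁⟩ ⟨f₂, hf₂⟩
    have hg : f₁ * f₂ ∉ 𝔭 := 𝔭.primeCompl.mul_mem hf₁ hf₂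
    refine ⟨⟨f₁ * f₂, hg⟩, ?_, ?_⟩
    · rintro _ ⟨y, rfl⟩
      exact ⟨cAwayMap A J f₁ (f₁ * f₂) (Dvd.intro _ rfl) y,
        cAwayToAtPrime_cAwayMap A J 𝔭 f₁ (f₁ * f₂) _ hf₁ hg y⟩
    · rintro _ ⟨y, rfl⟩
      exact ⟨cAwayMap A J f₂ (f₁ * f₂) (Dvd.intro_left _ rfl) y,
        cAwayToAtPrime_cAwayMap A J 𝔭 f₂ (f₁ * f₂) _ hf₂ hg y⟩

theorem exists_inv (hJ : J ≤ 𝔭) (f : A) (hf : f ∉ 𝔭) (y : FSch.cAway A J f)
    (hu : IsUnit (FSch.cAwayToAtPrime A J 𝔭 f hf y)) :
    ∃ (g : A) (hg : g ∉ 𝔭) (w : FSch.cAway A J g),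
      FSch.cAwayToAtPrime A J 𝔭 f hf y * FSch.cAwayToAtPrime A J 𝔭 g hg w = 1 := by
  obtain ⟨b, hb⟩ := Ideal.Quotient.mk_surjective
    (AdicCompletion.evalₐ (J.map (algebraMap A (Localization.Away f))) 1 y)
  have h1 := AdicUnit.evalₐ_complMap_of_eq (J.map (algebraMap A (Localization.Away f)))
    (J.map (algebraMap A (Localization.AtPrime 𝔭))) (FSch.awayToAtPrime A 𝔭 f hf)
    (FSch.map_awayToAtPrime_le A J 𝔭 f hf) 1 y b hb.symm
  have h2 : IsUnit (Ideal.Quotient.mk ((J.map (algebraMap A (Localization.AtPrime 𝔭))) ^ 1)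
      (FSch.awayToAtPrime A 𝔭 f hf b)) := by
    rw [← h1]
    exact hu.map _
  have h3 : IsUnit (FSch.awayToAtPrime A 𝔭 f hf b) :=
    (AdicUnit.isUnit_mk_one_iff _ (Kp_le A J 𝔭 hJ) _).mp h2
  obtain ⟨⟨a, s⟩, hs⟩ := IsLocalization.mk'_surjective (Submonoid.powers f) b
  have hbs : b * algebraMap A (Localization.Away f) s = algebraMap A _ a := by
    rw [← hs]; exact IsLocalization.mk'_spec _ _ _
  have h4 : FSch.awayToAtPrime A 𝔭 f hf b * algebraMap A (Localization.AtPrime 𝔭) s =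
      algebraMap A (Localization.AtPrime 𝔭) a := by
    have := congrArg (FSch.awayToAtPrime A 𝔭 f hf) hbs
    rwa [map_mul, awayToAtPrime_algebraMap, awayToAtPrime_algebraMap] at this
  obtain ⟨k, hk⟩ := s.2
  have hsp : (s : A) ∈ 𝔭.primeCompl := by
    rw [← hk]; exact 𝔭.primeCompl.pow_mem hf k
  have hsu : IsUnit (algebraMap A (Localization.AtPrime 𝔭) (s : A)) :=
    IsLocalization.map_units (Localization.AtPrime 𝔭) ⟨(s : A), hsp⟩
  have hau : IsUnit (algebraMap A (Localization.AtPrime 𝔭) a) := h4 ▸ h3.mul hsu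
  have ha : a ∉ 𝔭 := (IsLocalization.AtPrime.isUnit_to_map_iff (Localization.AtPrime 𝔭) 𝔭 a).mp hau
  have hg : f * a ∉ 𝔭 := 𝔭.primeCompl.mul_mem hf ha
  have hdvd : f ∣ f * a := Dvd.intro a rfl
  have h5 := AdicUnit.evalₐ_complMap_of_eq (J.map (algebraMap A (Localization.Away f)))
    (J.map (algebraMap A (Localization.Away (f * a)))) (awayMap A f (f * a) hdvd)
    (map_awayMap_le A J f (f * a) hdvd) 1 y b hb.symm
  have h6 : awayMap A f (f * a) hdvd b * algebraMap A (Localization.Away (f * a)) s =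
      algebraMap A (Localization.Away (f * a)) a := by
    have := congrArg (awayMap A f (f * a) hdvd) hbs
    rwa [map_mul, awayMap_algebraMap, awayMap_algebraMap] at this
  have hau' : IsUnit (algebraMap A (Localization.Away (f * a)) a) :=
    isUnit_algebraMap_of_dvd A a (f * a) (Dvd.intro_left f rfl)
  have h7 : IsUnit (awayMap A f (f * a) hdvd b) := by
    have : IsUnit (awayMap A f (f * a) hdvd b * algebraMap A (Localization.Away (f * a)) s) :=
      h6 ▸ hau'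
    exact isUnit_of_mul_isUnit_left this
  have h8 : IsUnit (cAwayMap A J f (f * a) hdvd y) := by
    rw [AdicUnit.isUnit_iff_isUnit_evalₐ_one]
    unfold cAwayMap
    rw [h5]
    exact h7.map _
  obtain ⟨w, hw⟩ := h8.exists_right_inv
  refine ⟨f * a, hg, w, ?_⟩
  rw [← cAwayToAtPrime_cAwayMap A J 𝔭 f (f * a) hdvd hf hg y, ← map_mul, hw, map_one]

end Aux

/-- For a ring A, an ideal J and a prime ideal 𝔭, let A{S⁻¹}, S = A ∖ 𝔭, be the completion of A_𝔭 for
the topology defined by the extension of J, and for f ∉ 𝔭 let A_{f} be the completion of A_f for the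
topology defined by the extension of J. Consider the subring A_{S} of A{S⁻¹} generated by the images
of all the A_{f}, f ∉ 𝔭 (when A is adic Noetherian and 𝔭 is open, this is the inductive limit of the
A_{f}, i.e. the stalk at 𝔭 of the structure sheaf of Spf(A) as a plain ring). If J ⊆ 𝔭, then A_{S}
is a local ring and its inclusion into A{S⁻¹} is a local homomorphism. -/
theorem result (A : Type u) [CommRing A] (J : Ideal A) (𝔭 : Ideal A) [𝔭.IsPrime]
    (hJ : J ≤ 𝔭) :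
    IsLocalRing (FSch.stalkSubring A J 𝔭) ∧ IsLocalHom (FSch.stalkSubring A J 𝔭).subtype := by
  have hloc : IsLocalHom (FSch.stalkSubring A J 𝔭).subtype := by
    constructor
    intro x hx
    obtain ⟨f, hf, y, hy⟩ := (mem_stalkSubring_iff A J 𝔭 x.1).mp x.2
    have hu : IsUnit (FSch.cAwayToAtPrime A J 𝔭 f hf y) := by
      rw [hy]; exact hx
    obtain ⟨g, hg, w, hw⟩ := exists_inv A J 𝔭 hJ f hf y hu
    refine IsUnit.of_mul_eq_one ⟨FSch.cAwayToAtPrime A J 𝔭 g hg w,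
      (mem_stalkSubring_iff A J 𝔭 _).mpr ⟨g, hg, w, rfl⟩⟩ ?_
    apply Subtype.ext
    rw [Subring.coe_mul, Subring.coe_one, ← hy]
    exact hw
  haveI := hloc
  haveI : IsLocalRing (FSch.cAtPrime A J 𝔭) :=
    Groth.Agent.Lib.helper24.AdicUnit.isLocalRing _ (Kp_le A J 𝔭 hJ)
  exact ⟨RingHom.domain_isLocalRing (FSch.stalkSubring A J 𝔭).subtype, hloc⟩

end Groth.Agent.S3869
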