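import Groth.Statements.S4358
import Mathlib
import Groth.Agent.Lib.helper24.AdicUnit
import Groth.Agent.Lib.helper24.FlatUnion
import Groth.Agent.S3869
import Groth.Agent.S3874
import Groth.Agent.S0543

set_option autoImplicit false
universe u
open FCompl

namespace Groth.Agent.S4358

section Aux
open Groth.Agent.Lib.helper24 Groth.Agent.S3869

variable (A : Type u) [CommRing A] (J : Ideal A) (𝔭 : Ideal A) [𝔭.IsPrime]

theorem cAwayToAtPrime_algebraMap (f : A) (hf : f ∉ 𝔭) (a : A) :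
    FSch.cAwayToAtPrime A J 𝔭 f hf (algebraMap A (FSch.cAway A J f) a) =
      algebraMap A (FSch.cAtPrime A J 𝔭) a := by
  unfold FSch.cAwayToAtPrime
  rw [AdicCompletion.algebraMap_apply, AdicUnit.complMap_of, awayToAtPrime_algebraMap,
    AdicCompletion.algebraMap_apply]

theorem cAwayMap_algebraMap (f g : A) (h : f ∣ g) (a : A) :
    cAwayMap A J f g h (algebraMap A (FSch.cAway A J f) a) =
      algebraMap A (FSch.cAway A J g) a := by
  unfold cAwayMap
  rw [AdicCompletion.algebraMap_apply, AdicUnit.complMap_of, awayMap_algebraMap,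
    AdicCompletion.algebraMap_apply]

theorem exists_isUnit_cAwayMap (hJ : J ≤ 𝔭) (f : A) (hf : f ∉ 𝔭) (y : FSch.cAway A J f)
    (hu : IsUnit (FSch.cAwayToAtPrime A J 𝔭 f hf y)) :
    ∃ (a : A) (_ : a ∉ 𝔭), IsUnit (cAwayMap A J f (f * a) (Dvd.intro a rfl) y) := by
  obtain ⟨b, hb⟩ := Ideal.Quotient.mk_surjective
    (AdicCompletion.evalₐ (J.map (algebraMap A (Localization.Away f))) 1 y)
  have h1 := AdicUnit.evalₐ_complMap_of_eq (J.map (algebraMap A (Localization.Away f)))
    (J.map (algebraMap A (Localization.AtPrime 𝔭))) (FSch.awayToAtPrime A 𝔭 f hf)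
    (FSch.map_awayToAtPrime_le A J 𝔭 f hf) 1 y b hb.symm
  have h2 : IsUnit (Ideal.Quotient.mk ((J.map (algebraMap A (Localization.AtPrime 𝔭))) ^ 1)
      (FSch.awayToAtPrime A 𝔭 f hf b)) := by
    rw [← h1]
    exact hu.map _
  have h3 : IsUnit (FSch.awayToAtPrime A 𝔭 f hf b) :=
    (AdicUnit.isUnit_mk_one_iff _ (Kp_le A J 𝔭 hJ) _).mp h2
  obtain ⟨⟨a, s⟩, hs⟩ := IsLocalization.mk'_surjective (Submonoid.powers f) b
  have hbs : b * algebraMap A (Localization.Away f) s = algebraMap A _ a := by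
    rw [← hs]; exact IsLocalization.mk'_spec _ _ _
  have h4 : FSch.awayToAtPrime A 𝔭 f hf b * algebraMap A (Localization.AtPrime 𝔭) s =
      algebraMap A (Localization.AtPrime 𝔭) a := by
    have := congrArg (FSch.awayToAtPrime A 𝔭 f hf) hbs
    rwa [map_mul, awayToAtPrime_algebraMap, awayToAtPrime_algebraMap] at this
  obtain ⟨k, hk⟩ := s.2
  have hsp : (s : A) ∈ 𝔭.primeCompl := by
    rw [← hk]; exact 𝔭.primeCompl.pow_mem hf k
  have hsu : IsUnit (algebraMap A (Localization.AtPrime 𝔭) (s : A)) :=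
    IsLocalization.map_units (Localization.AtPrime 𝔭) ⟨(s : A), hsp⟩
  have hau : IsUnit (algebraMap A (Localization.AtPrime 𝔭) a) := h4 ▸ h3.mul hsu
  have ha : a ∉ 𝔭 := (IsLocalization.AtPrime.isUnit_to_map_iff (Localization.AtPrime 𝔭) 𝔭 a).mp hau
  have hdvd : f ∣ f * a := Dvd.intro a rfl
  have h5 := AdicUnit.evalₐ_complMap_of_eq (J.map (algebraMap A (Localization.Away f)))
    (J.map (algebraMap A (Localization.Away (f * a)))) (awayMap A f (f * a) hdvd)
    (map_awayMap_le A J f (f * a) hdvd) 1 y b hb.symm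
  have h6 : awayMap A f (f * a) hdvd b * algebraMap A (Localization.Away (f * a)) s =
      algebraMap A (Localization.Away (f * a)) a := by
    have := congrArg (awayMap A f (f * a) hdvd) hbs
    rwa [map_mul, awayMap_algebraMap, awayMap_algebraMap] at this
  have hau' : IsUnit (algebraMap A (Localization.Away (f * a)) a) :=
    isUnit_algebraMap_of_dvd A a (f * a) (Dvd.intro_left f rfl)
  have h7 : IsUnit (awayMap A f (f * a) hdvd b) := by
    have : IsUnit (awayMap A f (f * a) hdvd b * algebraMap A (Localization.Away (f * a)) s) :=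
      h6 ▸ hau'
    exact isUnit_of_mul_isUnit_left this
  refine ⟨a, ha, ?_⟩
  rw [AdicUnit.isUnit_iff_isUnit_evalₐ_one]
  unfold cAwayMap
  rw [h5]
  exact h7.map _

/-- Step A1: an element killed in the completed local ring is killed modulo `J^n` after
multiplying by some `s ∉ 𝔭`. -/
theorem exists_smul_mem_ker_evalₐ (f : A) (hf : f ∉ 𝔭) (w : FSch.cAway A J f)
    (hw : FSch.cAwayToAtPrime A J 𝔭 f hf w = 0) (n : ℕ) :
    ∃ s : A, s ∉ 𝔭 ∧ AdicCompletion.evalₐ (J.map (algebraMap A (Localization.Away f))) n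
      (algebraMap A (FSch.cAway A J f) s * w) = 0 := by
  obtain ⟨b, hb⟩ := Ideal.Quotient.mk_surjective
    (AdicCompletion.evalₐ (J.map (algebraMap A (Localization.Away f))) n w)
  have h1 := AdicUnit.evalₐ_complMap_of_eq (J.map (algebraMap A (Localization.Away f)))
    (J.map (algebraMap A (Localization.AtPrime 𝔭))) (FSch.awayToAtPrime A 𝔭 f hf)
    (FSch.map_awayToAtPrime_le A J 𝔭 f hf) n w b hb.symm
  have hw' : FSch.complMap _ _ (FSch.awayToAtPrime A 𝔭 f hf)
      (FSch.map_awayToAtPrime_le A J 𝔭 f hf) w = 0 := hw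
  rw [hw', map_zero] at h1
  have h2 : FSch.awayToAtPrime A 𝔭 f hf b ∈
      (J.map (algebraMap A (Localization.AtPrime 𝔭))) ^ n :=
    Ideal.Quotient.eq_zero_iff_mem.mp h1.symm
  rw [← Ideal.map_pow] at h2
  obtain ⟨⟨⟨j, hj⟩, m⟩, hjm⟩ :=
    (IsLocalization.mem_map_algebraMap_iff 𝔭.primeCompl (Localization.AtPrime 𝔭)).mp h2
  simp only at hjm
  obtain ⟨⟨a0, s0⟩, hs0⟩ := IsLocalization.mk'_surjective (Submonoid.powers f) b
  have hbs : b * algebraMap A (Localization.Away f) s0 = algebraMap A _ a0 := by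
    rw [← hs0]; exact IsLocalization.mk'_spec _ _ _
  have h4 : FSch.awayToAtPrime A 𝔭 f hf b * algebraMap A (Localization.AtPrime 𝔭) s0 =
      algebraMap A (Localization.AtPrime 𝔭) a0 := by
    have := congrArg (FSch.awayToAtPrime A 𝔭 f hf) hbs
    rwa [map_mul, awayToAtPrime_algebraMap, awayToAtPrime_algebraMap] at this
  have h5 : algebraMap A (Localization.AtPrime 𝔭) (a0 * m) =
      algebraMap A (Localization.AtPrime 𝔭) (j * s0) := by
    rw [map_mul, map_mul, ← h4, ← hjm]; ring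
  obtain ⟨m', hm'⟩ := (IsLocalization.eq_iff_exists 𝔭.primeCompl (Localization.AtPrime 𝔭)).mp h5
  refine ⟨m' * m, 𝔭.primeCompl.mul_mem m'.2 m.2, ?_⟩
  rw [map_mul, AdicCompletion.algebraMap_apply, AdicCompletion.evalₐ_of, ← hb, ← map_mul,
    Ideal.Quotient.eq_zero_iff_mem]
  have hs0u : IsUnit (algebraMap A (Localization.Away f) (s0 : A)) :=
    IsLocalization.map_units _ s0
  have h6 : algebraMap A (Localization.Away f) (m' * m) * b =
      algebraMap A (Localization.Away f) (m' * j) := by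
    apply hs0u.mul_left_injective
    simp only
    rw [mul_assoc, hbs, ← map_mul, ← map_mul]
    congr 1
    linear_combination hm'
  rw [h6, ← Ideal.map_pow]
  exact Ideal.mem_map_of_mem _ (Ideal.mul_mem_left _ _ hj)

/-- Step A: an element of `A_{f}` killed in the completed local ring dies in some `A_{fa}`. -/
theorem exists_cAwayMap_eq_zero [IsNoetherianRing A] (hJ : J ≤ 𝔭) (f : A) (hf : f ∉ 𝔭)
    (w : FSch.cAway A J f) (hw : FSch.cAwayToAtPrime A J 𝔭 f hf w = 0) :
    ∃ (a : A) (_ : a ∉ 𝔭), cAwayMap A J f (f * a) (Dvd.intro a rfl) w = 0 := by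
  haveI : IsNoetherianRing (FSch.cAway A J f) := Groth.Agent.S0543.result _ _
  haveI : IsLocalRing (FSch.cAtPrime A J 𝔭) := AdicUnit.isLocalRing _ (Kp_le A J 𝔭 hJ)
  -- the prime `𝔮`
  let θ := FSch.cAwayToAtPrime A J 𝔭 f hf
  let 𝔮 : Ideal (FSch.cAway A J f) := (IsLocalRing.maximalIdeal (FSch.cAtPrime A J 𝔭)).comap θ
  haveI : 𝔮.IsPrime := Ideal.comap_isPrime θ _
  let L := Localization.AtPrime 𝔮
  let 𝔍 : Ideal (FSch.cAway A J f) := J.map (algebraMap A (FSch.cAway A J f))
  have hKfg : (J.map (algebraMap A (Localization.Away f))).FG :=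
    Ideal.FG.map (IsNoetherian.noetherian J) _
  have hker : ∀ n, RingHom.ker (AdicCompletion.evalₐ
      (J.map (algebraMap A (Localization.Away f))) n).toRingHom = 𝔍 ^ n := by
    intro n
    rw [Groth.Agent.S3874.ker_evalₐ_eq _ hKfg n]
    congr 1
    rw [Ideal.map_map]
    rfl
  -- units of the completed local ring coming from `A ∖ 𝔭`
  have hunit : ∀ s : A, s ∉ 𝔭 → IsUnit (algebraMap A (FSch.cAtPrime A J 𝔭) s) := by
    intro s hs
    rw [AdicCompletion.algebraMap_apply]
    have h1 : IsUnit (algebraMap A (Localization.AtPrime 𝔭) s) :=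
      IsLocalization.map_units (Localization.AtPrime 𝔭) (⟨s, hs⟩ : 𝔭.primeCompl)
    have h2 : AdicCompletion.of (J.map (algebraMap A (Localization.AtPrime 𝔭)))
        (Localization.AtPrime 𝔭) (algebraMap A (Localization.AtPrime 𝔭) s) =
        algebraMap (Localization.AtPrime 𝔭) (FSch.cAtPrime A J 𝔭)
          (algebraMap A (Localization.AtPrime 𝔭) s) := rfl
    rw [h2]
    exact h1.map _
  have hnotq : ∀ s : A, s ∉ 𝔭 → algebraMap A (FSch.cAway A J f) s ∉ 𝔮 := by
    intro s hs hmem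
    have h1 : θ (algebraMap A (FSch.cAway A J f) s) ∈
        IsLocalRing.maximalIdeal (FSch.cAtPrime A J 𝔭) := hmem
    rw [cAwayToAtPrime_algebraMap] at h1
    exact (IsLocalRing.mem_maximalIdeal _).mp h1 (hunit s hs)
  -- `𝔍 ≤ 𝔮`
  have hJq : 𝔍 ≤ 𝔮 := by
    rw [Ideal.map_le_iff_le_comap]
    intro j hj
    rw [Ideal.mem_comap]
    show θ (algebraMap A (FSch.cAway A J f) j) ∈ IsLocalRing.maximalIdeal (FSch.cAtPrime A J 𝔭)
    rw [cAwayToAtPrime_algebraMap, IsLocalRing.mem_maximalIdeal, mem_nonunits_iff]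
    intro hu
    have h1 := hu.map (AdicCompletion.evalₐ (J.map (algebraMap A (Localization.AtPrime 𝔭))) 1)
    rw [AdicCompletion.algebraMap_apply, AdicCompletion.evalₐ_of] at h1
    have h2 := (AdicUnit.isUnit_mk_one_iff _ (Kp_le A J 𝔭 hJ) _).mp h1
    exact (IsLocalization.AtPrime.isUnit_to_map_iff (Localization.AtPrime 𝔭) 𝔭 j).mp h2 (hJ hj)
  -- the image of `w` in `L` lies in every power of `𝔍 L`
  have hIL : 𝔍.map (algebraMap (FSch.cAway A J f) L) ≠ ⊤ := by
    have h1 : 𝔍.map (algebraMap (FSch.cAway A J f) L) ≤ IsLocalRing.maximalIdeal L := by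
      rw [← IsLocalization.AtPrime.map_eq_maximalIdeal 𝔮 L]
      exact Ideal.map_mono hJq
    exact ne_top_of_le_ne_top (IsLocalRing.maximalIdeal.isMaximal L).ne_top h1
  have hmemn : ∀ n, algebraMap (FSch.cAway A J f) L w ∈
      (𝔍.map (algebraMap (FSch.cAway A J f) L)) ^ n := by
    intro n
    obtain ⟨s, hs, hsw⟩ := exists_smul_mem_ker_evalₐ A J 𝔭 f hf w hw n
    have h1 : algebraMap A (FSch.cAway A J f) s * w ∈ 𝔍 ^ n := by
      rw [← hker n]; exact hsw
    have h2 : algebraMap (FSch.cAway A J f) L (algebraMap A (FSch.cAway A J f) s * w) ∈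
        (𝔍.map (algebraMap (FSch.cAway A J f) L)) ^ n := by
      rw [← Ideal.map_pow]; exact Ideal.mem_map_of_mem _ h1
    rw [map_mul] at h2
    have hu : IsUnit (algebraMap (FSch.cAway A J f) L (algebraMap A (FSch.cAway A J f) s)) :=
      IsLocalization.map_units L (⟨_, hnotq s hs⟩ : 𝔮.primeCompl)
    exact (Ideal.unit_mul_mem_iff_mem _ hu).mp h2
  have hzero : algebraMap (FSch.cAway A J f) L w = 0 := by
    have h1 : algebraMap (FSch.cAway A J f) L w ∈
        ⨅ n, (𝔍.map (algebraMap (FSch.cAway A J f) L)) ^ n := by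
      rw [Ideal.mem_iInf]; exact hmemn
    rw [Ideal.iInf_pow_eq_bot_of_isLocalRing _ hIL] at h1
    exact h1
  obtain ⟨⟨t, ht⟩, htw⟩ := (IsLocalization.map_eq_zero_iff 𝔮.primeCompl L w).mp hzero
  simp only at htw
  have htu : IsUnit (θ t) := by
    by_contra hnu
    exact ht ((IsLocalRing.mem_maximalIdeal _).mpr hnu)
  obtain ⟨a, ha, hau⟩ := exists_isUnit_cAwayMap A J 𝔭 hJ f hf t htu
  refine ⟨a, ha, ?_⟩
  have h1 : cAwayMap A J f (f * a) (Dvd.intro a rfl) t *
      cAwayMap A J f (f * a) (Dvd.intro a rfl) w = 0 := by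
    rw [← map_mul, htw, map_zero]
  exact (hau.mul_right_eq_zero).mp h1

end Aux

/-- Affine content (the completion of X = Spec A along V(J) has as stalk ring at an open prime 𝔭 the
ring A_{S}, S = A ∖ 𝔭, realised here as the union of the images of the completed rings A_{f}, f ∉ 𝔭,
inside the completed local ring A{S⁻¹}; flatness of the canonical morphism of ringed spaces from the
completion to X is flatness of A_{S} over the local ring of X at 𝔭, equivalently over A). For A
Noetherian and J ⊆ 𝔭, the canonical ring map A → A_{S} is flat; the hypothesis h records that A →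
A{S⁻¹} takes values in A_{S}, which always holds. -/
theorem result
    (A : Type u) [CommRing A] [IsNoetherianRing A] (J 𝔭 : Ideal A) [𝔭.IsPrime] (hJ : J ≤ 𝔭)
    (h : ∀ a : A, ((algebraMap (Localization.AtPrime 𝔭) (FSch.cAtPrime A J 𝔭)).comp
      (algebraMap A (Localization.AtPrime 𝔭))) a ∈ FSch.stalkSubring A J 𝔭) :
    (((algebraMap (Localization.AtPrime 𝔭) (FSch.cAtPrime A J 𝔭)).comp
      (algebraMap A (Localization.AtPrime 𝔭))).codRestrict (FSch.stalkSubring A J 𝔭) h).Flat := by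
  unfold RingHom.Flat
  letI : Algebra A (FSch.stalkSubring A J 𝔭) :=
    (((algebraMap (Localization.AtPrime 𝔭) (FSch.cAtPrime A J 𝔭)).comp
      (algebraMap A (Localization.AtPrime 𝔭))).codRestrict (FSch.stalkSubring A J 𝔭) h).toAlgebra
  have halg : ∀ a : A, ((algebraMap A (FSch.stalkSubring A J 𝔭) a : FSch.stalkSubring A J 𝔭) :
      FSch.cAtPrime A J 𝔭) = algebraMap A (FSch.cAtPrime A J 𝔭) a := fun a => rfl
  -- the linear maps `θ_f`
  let θ : ∀ i : {f : A // f ∉ 𝔭}, FSch.cAway A J i.1 →ₗ[A] FSch.stalkSubring A J 𝔭 := fun i =>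
    { toFun := fun y => ⟨FSch.cAwayToAtPrime A J 𝔭 i.1 i.2 y,
        (Groth.Agent.S3869.mem_stalkSubring_iff A J 𝔭 _).mpr ⟨i.1, i.2, y, rfl⟩⟩
      map_add' := fun x y => by
        apply Subtype.ext
        simp only [map_add]
        rfl
      map_smul' := fun a y => by
        apply Subtype.ext
        show FSch.cAwayToAtPrime A J 𝔭 i.1 i.2 (a • y) =
          algebraMap A (FSch.cAtPrime A J 𝔭) a * FSch.cAwayToAtPrime A J 𝔭 i.1 i.2 y
        rw [Algebra.smul_def, map_mul, cAwayToAtPrime_algebraMap] }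
  -- the linear transition maps
  let τ : ∀ (i : {f : A // f ∉ 𝔭}) (g : A) (hd : i.1 ∣ g),
      FSch.cAway A J i.1 →ₗ[A] FSch.cAway A J g := fun i g hd =>
    { toFun := Groth.Agent.S3869.cAwayMap A J i.1 g hd
      map_add' := map_add _
      map_smul' := fun a y => by
        rw [Algebra.smul_def, map_mul, cAwayMap_algebraMap, RingHom.id_apply, Algebra.smul_def] }
  have hθτ : ∀ (i : {f : A // f ∉ 𝔭}) (g : A) (hd : i.1 ∣ g) (hg : g ∉ 𝔭),
      θ ⟨g, hg⟩ ∘ₗ τ i g hd = θ i := by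
    intro i g hd hg
    apply LinearMap.ext
    intro y
    apply Subtype.ext
    exact Groth.Agent.S3869.cAwayToAtPrime_cAwayMap A J 𝔭 i.1 g hd i.2 hg y
  refine Groth.Agent.Lib.helper24.FlatUnion.flat_of_directed
    (fun i : {f : A // f ∉ 𝔭} => FSch.cAway A J i.1) (FSch.stalkSubring A J 𝔭) θ ?_ ?_ ?_ ?_
  · -- directed
    intro i j
    have hg : i.1 * j.1 ∉ 𝔭 := 𝔭.primeCompl.mul_mem i.2 j.2
    exact ⟨⟨i.1 * j.1, hg⟩, τ i _ (Dvd.intro _ rfl), τ j _ (Dvd.intro_left _ rfl),
      hθτ i _ _ hg, hθτ j _ _ hg⟩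
  · -- jointly surjective
    intro x
    obtain ⟨f, hf, y, hy⟩ := (Groth.Agent.S3869.mem_stalkSubring_iff A J 𝔭 x.1).mp x.2
    exact ⟨⟨f, hf⟩, y, Subtype.ext hy⟩
  · -- kernels die
    intro i w hw
    have hw' : FSch.cAwayToAtPrime A J 𝔭 i.1 i.2 w = 0 := congrArg Subtype.val hw
    obtain ⟨a, ha, h0⟩ := exists_cAwayMap_eq_zero A J 𝔭 hJ i.1 i.2 w hw'
    have hg : i.1 * a ∉ 𝔭 := 𝔭.primeCompl.mul_mem i.2 ha
    exact ⟨⟨i.1 * a, hg⟩, τ i _ (Dvd.intro a rfl), hθτ i _ _ hg, h0⟩
  · -- flatness of `A_{f}`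
    intro i
    haveI : IsScalarTower A (Localization.Away i.1) (FSch.cAway A J i.1) :=
      IsScalarTower.of_algebraMap_eq (fun a => rfl)
    exact Module.Flat.trans A (Localization.Away i.1) (FSch.cAway A J i.1)

end Groth.Agent.S4358
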