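import Groth.Statements.S3871
import Mathlib
import Groth.Agent.Lib.helper24.AdicUnit
import Groth.Agent.Lib.helper24.FlatUnion2
import Groth.Agent.Lib.helper21.FlatCrit
import Groth.Agent.Lib.helper21.LocalCrit
import Groth.Agent.S3869
import Groth.Agent.S3874
import Groth.Agent.S4358
import Groth.Agent.S0543

set_option autoImplicit false
universe u
open FCompl

namespace Groth.Agent.S3871

section Aux
open Groth.Agent.Lib.helper24 Groth.Agent.S3869 Groth.Agent.S4358 TensorProduct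

variable (A : Type u) [CommRing A] (J : Ideal A) (𝔭 : Ideal A) [𝔭.IsPrime]

/-- generalisation of `exists_smul_mem_ker_evalₐ`: only the `n`-th level is assumed to vanish -/
theorem exists_smul_mem_ker_evalₐ' (f : A) (hf : f ∉ 𝔭) (w : FSch.cAway A J f) (n : ℕ)
    (hw : AdicCompletion.evalₐ (J.map (algebraMap A (Localization.AtPrime 𝔭))) n
      (FSch.cAwayToAtPrime A J 𝔭 f hf w) = 0) :
    ∃ s : A, s ∉ 𝔭 ∧ AdicCompletion.evalₐ (J.map (algebraMap A (Localization.Away f))) n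
      (algebraMap A (FSch.cAway A J f) s * w) = 0 := by
  obtain ⟨b, hb⟩ := Ideal.Quotient.mk_surjective
    (AdicCompletion.evalₐ (J.map (algebraMap A (Localization.Away f))) n w)
  have h1 := AdicUnit.evalₐ_complMap_of_eq (J.map (algebraMap A (Localization.Away f)))
    (J.map (algebraMap A (Localization.AtPrime 𝔭))) (FSch.awayToAtPrime A 𝔭 f hf)
    (FSch.map_awayToAtPrime_le A J 𝔭 f hf) n w b hb.symm
  have hw' : AdicCompletion.evalₐ (J.map (algebraMap A (Localization.AtPrime 𝔭))) n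
      (FSch.complMap _ _ (FSch.awayToAtPrime A 𝔭 f hf)
      (FSch.map_awayToAtPrime_le A J 𝔭 f hf) w) = 0 := hw
  rw [hw'] at h1
  have h2 : FSch.awayToAtPrime A 𝔭 f hf b ∈
      (J.map (algebraMap A (Localization.AtPrime 𝔭))) ^ n :=
    Ideal.Quotient.eq_zero_iff_mem.mp h1.symm
  rw [← Ideal.map_pow] at h2
  obtain ⟨⟨⟨j, hj⟩, m⟩, hjm⟩ :=
    (IsLocalization.mem_map_algebraMap_iff 𝔭.primeCompl (Localization.AtPrime 𝔭)).mp h2
  simp only at hjm
  obtain ⟨⟨a0, s0⟩, hs0⟩ := IsLocalization.mk'_surjective (Submonoid.powers f) b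
  have hbs : b * algebraMap A (Localization.Away f) s0 = algebraMap A _ a0 := by
    rw [← hs0]; exact IsLocalization.mk'_spec _ _ _
  have h4 : FSch.awayToAtPrime A 𝔭 f hf b * algebraMap A (Localization.AtPrime 𝔭) s0 =
      algebraMap A (Localization.AtPrime 𝔭) a0 := by
    have := congrArg (FSch.awayToAtPrime A 𝔭 f hf) hbs
    rwa [map_mul, awayToAtPrime_algebraMap, awayToAtPrime_algebraMap] at this
  have h5 : algebraMap A (Localization.AtPrime 𝔭) (a0 * m) =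
      algebraMap A (Localization.AtPrime 𝔭) (j * s0) := by
    rw [map_mul, map_mul, ← h4, ← hjm]; ring
  obtain ⟨m', hm'⟩ := (IsLocalization.eq_iff_exists 𝔭.primeCompl (Localization.AtPrime 𝔭)).mp h5
  refine ⟨m' * m, 𝔭.primeCompl.mul_mem m'.2 m.2, ?_⟩
  rw [map_mul, AdicCompletion.algebraMap_apply, AdicCompletion.evalₐ_of, ← hb, ← map_mul,
    Ideal.Quotient.eq_zero_iff_mem]
  have hs0u : IsUnit (algebraMap A (Localization.Away f) (s0 : A)) :=
    IsLocalization.map_units _ s0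
  have h6 : algebraMap A (Localization.Away f) (m' * m) * b =
      algebraMap A (Localization.Away f) (m' * j) := by
    apply hs0u.mul_left_injective
    simp only
    rw [mul_assoc, hbs, ← map_mul, ← map_mul]
    congr 1
    linear_combination hm'
  rw [h6, ← Ideal.map_pow]
  exact Ideal.mem_map_of_mem _ (Ideal.mul_mem_left _ _ hj)

/-- kernel of `evalₐ` on the completed local ring in terms of `J` -/
theorem ker_evalₐ_cAtPrime [IsNoetherianRing A] (n : ℕ) :
    RingHom.ker (AdicCompletion.evalₐ (J.map (algebraMap A (Localization.AtPrime 𝔭))) n).toRingHom =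
      (J.map (algebraMap A (FSch.cAtPrime A J 𝔭))) ^ n := by
  have hKfg : (J.map (algebraMap A (Localization.AtPrime 𝔭))).FG :=
    Ideal.FG.map (IsNoetherian.noetherian J) _
  rw [Groth.Agent.S3874.ker_evalₐ_eq _ hKfg n]
  congr 1
  rw [Ideal.map_map]
  rfl

theorem ker_evalₐ_cAway [IsNoetherianRing A] (f : A) (n : ℕ) :
    RingHom.ker (AdicCompletion.evalₐ (J.map (algebraMap A (Localization.Away f))) n).toRingHom =
      (J.map (algebraMap A (FSch.cAway A J f))) ^ n := by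
  have hKfg : (J.map (algebraMap A (Localization.Away f))).FG :=
    Ideal.FG.map (IsNoetherian.noetherian J) _
  rw [Groth.Agent.S3874.ker_evalₐ_eq _ hKfg n]
  congr 1
  rw [Ideal.map_map]
  rfl

theorem map_cAwayToAtPrime (f : A) (hf : f ∉ 𝔭) :
    (J.map (algebraMap A (FSch.cAway A J f))).map (FSch.cAwayToAtPrime A J 𝔭 f hf) =
      J.map (algebraMap A (FSch.cAtPrime A J 𝔭)) := by
  rw [Ideal.map_map]
  congr 1
  apply RingHom.ext
  intro a
  exact cAwayToAtPrime_algebraMap A J 𝔭 f hf a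

theorem isUnit_algebraMap_cAtPrime (s : A) (hs : s ∉ 𝔭) :
    IsUnit (algebraMap A (FSch.cAtPrime A J 𝔭) s) := by
  rw [AdicCompletion.algebraMap_apply]
  have h1 : IsUnit (algebraMap A (Localization.AtPrime 𝔭) s) :=
    IsLocalization.map_units (Localization.AtPrime 𝔭) (⟨s, hs⟩ : 𝔭.primeCompl)
  have h2 : AdicCompletion.of (J.map (algebraMap A (Localization.AtPrime 𝔭)))
      (Localization.AtPrime 𝔭) (algebraMap A (Localization.AtPrime 𝔭) s) =
      algebraMap (Localization.AtPrime 𝔭) (FSch.cAtPrime A J 𝔭)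
        (algebraMap A (Localization.AtPrime 𝔭) s) := rfl
  rw [h2]
  exact h1.map _

theorem isLocalization_quot_tensor [IsNoetherianRing A] (f : A) (hf : f ∉ 𝔭) (n : ℕ) :
    letI : Algebra (FSch.cAway A J f) (FSch.cAtPrime A J 𝔭) :=
      (FSch.cAwayToAtPrime A J 𝔭 f hf).toAlgebra
    IsLocalization (Submonoid.map ((Ideal.Quotient.mk
        ((J.map (algebraMap A (FSch.cAway A J f))) ^ n)).comp (algebraMap A (FSch.cAway A J f)))
          𝔭.primeCompl)
      ((FSch.cAway A J f ⧸ (J.map (algebraMap A (FSch.cAway A J f))) ^ n) ⊗[FSch.cAway A J f]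
        FSch.cAtPrime A J 𝔭) := by
  letI alg : Algebra (FSch.cAway A J f) (FSch.cAtPrime A J 𝔭) :=
    (FSch.cAwayToAtPrime A J 𝔭 f hf).toAlgebra
  set θ := FSch.cAwayToAtPrime A J 𝔭 f hf with hθ
  set 𝔍 := J.map (algebraMap A (FSch.cAway A J f)) with h𝔍
  have halg : ∀ d : FSch.cAway A J f, algebraMap (FSch.cAway A J f) (FSch.cAtPrime A J 𝔭) d = θ d :=
    fun d => rfl
  -- (F1)
  have F1 : ∀ (d : FSch.cAway A J f) (c : FSch.cAtPrime A J 𝔭)
      (q : FSch.cAway A J f ⧸ 𝔍 ^ n),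
      ((Ideal.Quotient.mk (𝔍 ^ n) d * q) ⊗ₜ[FSch.cAway A J f] c) = q ⊗ₜ[FSch.cAway A J f] (θ d * c) := by
    intro d c q
    have e1 : Ideal.Quotient.mk (𝔍 ^ n) d * q = d • q := by
      rw [Algebra.smul_def]; rfl
    have e2 : θ d * c = d • c := by
      rw [Algebra.smul_def, halg]
    rw [e1, e2, TensorProduct.smul_tmul]
  -- (F3)
  have F3 : ∀ x : FSch.cAtPrime A J 𝔭,
      ((1 : FSch.cAway A J f ⧸ 𝔍 ^ n) ⊗ₜ[FSch.cAway A J f] x = 0) ↔
        AdicCompletion.evalₐ (J.map (algebraMap A (Localization.AtPrime 𝔭))) n x = 0 := by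
    intro x
    rw [Groth.Agent.H21.one_tmul_eq_zero_iff, Ideal.smul_top_eq_map]
    have e1 : (𝔍 ^ n).map (algebraMap (FSch.cAway A J f) (FSch.cAtPrime A J 𝔭)) =
        RingHom.ker (AdicCompletion.evalₐ
          (J.map (algebraMap A (Localization.AtPrime 𝔭))) n).toRingHom := by
      rw [ker_evalₐ_cAtPrime, Ideal.map_pow]
      congr 1
      exact map_cAwayToAtPrime A J 𝔭 f hf
    rw [e1]
    rfl
  have F2 : ∀ q : FSch.cAway A J f ⧸ 𝔍 ^ n,
      algebraMap (FSch.cAway A J f ⧸ 𝔍 ^ n)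
        ((FSch.cAway A J f ⧸ 𝔍 ^ n) ⊗[FSch.cAway A J f] FSch.cAtPrime A J 𝔭) q = q ⊗ₜ 1 := by
    intro q
    rw [Algebra.TensorProduct.algebraMap_apply]
    rfl
  -- image of `a : A`
  have F4 : ∀ a : A, ((Ideal.Quotient.mk (𝔍 ^ n)) (algebraMap A (FSch.cAway A J f) a)) ⊗ₜ[FSch.cAway A J f]
      (1 : FSch.cAtPrime A J 𝔭) = 1 ⊗ₜ algebraMap A (FSch.cAtPrime A J 𝔭) a := by
    intro a
    have := F1 (algebraMap A (FSch.cAway A J f) a) 1 1
    rw [mul_one, mul_one, hθ, cAwayToAtPrime_algebraMap] at this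
    exact this
  rw [isLocalization_iff]
  refine ⟨?_, ?_, ?_⟩
  · rintro ⟨_, s, hs, rfl⟩
    rw [F2]
    simp only [RingHom.coe_comp, Function.comp_apply]
    rw [F4]
    exact (isUnit_algebraMap_cAtPrime A J 𝔭 s hs).map
      (Algebra.TensorProduct.includeRight (R := FSch.cAway A J f)
        (A := FSch.cAway A J f ⧸ 𝔍 ^ n) (B := FSch.cAtPrime A J 𝔭))
  · intro z
    obtain ⟨c, rfl⟩ := Groth.Agent.H21.exists_one_tmul (𝔍 ^ n) z
    obtain ⟨c₀, hc₀⟩ := Ideal.Quotient.mk_surjective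
      (AdicCompletion.evalₐ (J.map (algebraMap A (Localization.AtPrime 𝔭))) n c)
    obtain ⟨⟨a, s⟩, hs⟩ := IsLocalization.mk'_surjective 𝔭.primeCompl c₀
    have hcs : c₀ * algebraMap A (Localization.AtPrime 𝔭) s = algebraMap A _ a := by
      rw [← hs]; exact IsLocalization.mk'_spec _ _ _
    refine ⟨(((Ideal.Quotient.mk (𝔍 ^ n)).comp (algebraMap A (FSch.cAway A J f))) a,
      ⟨_, s.1, s.2, rfl⟩), ?_⟩
    simp only [RingHom.coe_comp, Function.comp_apply]
    rw [F2, F2, F4, Algebra.TensorProduct.tmul_mul_tmul, one_mul, F4]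
    rw [← sub_eq_zero, ← TensorProduct.tmul_sub, F3, map_sub, map_mul,
      AdicCompletion.algebraMap_apply, AdicCompletion.algebraMap_apply,
      AdicCompletion.evalₐ_of, AdicCompletion.evalₐ_of, ← hc₀, ← map_mul, ← map_sub,
      hcs, sub_self, map_zero]
  · intro q₁ q₂ hq
    obtain ⟨d₁, rfl⟩ := Ideal.Quotient.mk_surjective q₁
    obtain ⟨d₂, rfl⟩ := Ideal.Quotient.mk_surjective q₂
    rw [F2, F2] at hq
    have e1 := F1 d₁ 1 1
    have e2 := F1 d₂ 1 1
    rw [mul_one, mul_one] at e1 e2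
    rw [e1, e2, ← sub_eq_zero, ← TensorProduct.tmul_sub, ← map_sub, F3] at hq
    obtain ⟨s, hs, hsd⟩ := exists_smul_mem_ker_evalₐ' A J 𝔭 f hf (d₁ - d₂) n hq
    have h1 : algebraMap A (FSch.cAway A J f) s * (d₁ - d₂) ∈ 𝔍 ^ n := by
      rw [h𝔍, ← ker_evalₐ_cAway A J f n]; exact hsd
    refine ⟨⟨_, s, hs, rfl⟩, ?_⟩
    simp only [RingHom.coe_comp, Function.comp_apply]
    rw [← map_mul, ← map_mul, Ideal.Quotient.eq, ← mul_sub]
    exact h1

theorem map_le_maximalIdeal (hJ : J ≤ 𝔭) [IsLocalRing (FSch.cAtPrime A J 𝔭)] :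
    J.map (algebraMap A (FSch.cAtPrime A J 𝔭)) ≤
      IsLocalRing.maximalIdeal (FSch.cAtPrime A J 𝔭) := by
  rw [Ideal.map_le_iff_le_comap]
  intro j hj
  rw [Ideal.mem_comap, IsLocalRing.mem_maximalIdeal, mem_nonunits_iff]
  intro hu
  have h1 := hu.map (AdicCompletion.evalₐ (J.map (algebraMap A (Localization.AtPrime 𝔭))) 1)
  rw [AdicCompletion.algebraMap_apply, AdicCompletion.evalₐ_of] at h1
  have h2 := (AdicUnit.isUnit_mk_one_iff _ (Kp_le A J 𝔭 hJ) _).mp h1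
  exact (IsLocalization.AtPrime.isUnit_to_map_iff (Localization.AtPrime 𝔭) 𝔭 j).mp h2 (hJ hj)

/-- the completed local ring is flat over each `A_{f}` -/
theorem flat_over_cAway [IsNoetherianRing A] (hJ : J ≤ 𝔭) (f : A) (hf : f ∉ 𝔭) :
    letI : Algebra (FSch.cAway A J f) (FSch.cAtPrime A J 𝔭) :=
      (FSch.cAwayToAtPrime A J 𝔭 f hf).toAlgebra
    Module.Flat (FSch.cAway A J f) (FSch.cAtPrime A J 𝔭) := by
  letI alg : Algebra (FSch.cAway A J f) (FSch.cAtPrime A J 𝔭) :=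
    (FSch.cAwayToAtPrime A J 𝔭 f hf).toAlgebra
  haveI : IsNoetherianRing (FSch.cAway A J f) := Groth.Agent.S0543.result _ _
  haveI : IsNoetherianRing (FSch.cAtPrime A J 𝔭) := Groth.Agent.S0543.result _ _
  haveI : IsLocalRing (FSch.cAtPrime A J 𝔭) := AdicUnit.isLocalRing _ (Kp_le A J 𝔭 hJ)
  refine Groth.Agent.H21.flat_of_flat_baseChange_quot_pow (B := FSch.cAway A J f)
    (A := FSch.cAtPrime A J 𝔭) (J.map (algebraMap A (FSch.cAway A J f))) ?_
    (FSch.cAtPrime A J 𝔭) ?_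
  · have e : (J.map (algebraMap A (FSch.cAway A J f))).map
        (algebraMap (FSch.cAway A J f) (FSch.cAtPrime A J 𝔭)) =
        J.map (algebraMap A (FSch.cAtPrime A J 𝔭)) := map_cAwayToAtPrime A J 𝔭 f hf
    rw [e, IsLocalRing.jacobson_eq_maximalIdeal ⊥ bot_ne_top]
    exact map_le_maximalIdeal A J 𝔭 hJ
  · intro n _
    haveI := isLocalization_quot_tensor A J 𝔭 f hf n
    exact IsLocalization.flat _ (Submonoid.map ((Ideal.Quotient.mk
        ((J.map (algebraMap A (FSch.cAway A J f))) ^ n)).comp (algebraMap A (FSch.cAway A J f)))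
          𝔭.primeCompl)

/-- the completed local ring is flat over the stalk ring -/
theorem flat_over_stalkSubring [IsNoetherianRing A] (hJ : J ≤ 𝔭) :
    Module.Flat (FSch.stalkSubring A J 𝔭) (FSch.cAtPrime A J 𝔭) := by
  haveI : Nonempty {f : A // f ∉ 𝔭} :=
    ⟨⟨1, (Ideal.ne_top_iff_one 𝔭).mp (Ideal.IsPrime.ne_top inferInstance)⟩⟩
  let θ' : ∀ i : {f : A // f ∉ 𝔭}, FSch.cAway A J i.1 →+* FSch.stalkSubring A J 𝔭 := fun i =>
    (FSch.cAwayToAtPrime A J 𝔭 i.1 i.2).codRestrict (FSch.stalkSubring A J 𝔭) (fun y =>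
      (mem_stalkSubring_iff A J 𝔭 _).mpr ⟨i.1, i.2, y, rfl⟩)
  have hθτ : ∀ (i : {f : A // f ∉ 𝔭}) (g : A) (hd : i.1 ∣ g) (hg : g ∉ 𝔭),
      (θ' ⟨g, hg⟩).comp (cAwayMap A J i.1 g hd) = θ' i := by
    intro i g hd hg
    apply RingHom.ext
    intro y
    apply Subtype.ext
    exact cAwayToAtPrime_cAwayMap A J 𝔭 i.1 g hd i.2 hg y
  refine FlatUnion2.flat_of_directed_rings (FSch.cAtPrime A J 𝔭)
    (fun i : {f : A // f ∉ 𝔭} => FSch.cAway A J i.1) θ' ?_ ?_ ?_
  · intro x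
    obtain ⟨f, hf, y, hy⟩ := (mem_stalkSubring_iff A J 𝔭 x.1).mp x.2
    exact ⟨⟨f, hf⟩, y, Subtype.ext hy⟩
  · intro i j
    have hg : i.1 * j.1 ∉ 𝔭 := 𝔭.primeCompl.mul_mem i.2 j.2
    exact ⟨⟨i.1 * j.1, hg⟩, cAwayMap A J i.1 _ (Dvd.intro _ rfl),
      cAwayMap A J j.1 _ (Dvd.intro_left _ rfl), hθτ i _ _ hg, hθτ j _ _ hg⟩
  · intro i
    exact ⟨((FSch.cAwayToAtPrime A J 𝔭 i.1 i.2).toAlgebra).toModule, fun d m => rfl,
      flat_over_cAway A J 𝔭 hJ i.1 i.2⟩

end Aux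

/-- Let A be a ring, J an ideal of A and 𝔭 a prime ideal of A, S = A ∖ 𝔭. Write A{S⁻¹} for the
completion of A_𝔭 for the J-adic topology, A_{f} for the completion of A_f for the J-adic topology,
and A_{S} for the subring of A{S⁻¹} which is the union of the images of the A_{f}, f ∉ 𝔭. If A is
Noetherian and J ⊆ 𝔭, then A{S⁻¹} is a faithfully flat module over A_{S}. -/
theorem result (A : Type u) [CommRing A] [IsNoetherianRing A]
    (J : Ideal A) (𝔭 : Ideal A) [𝔭.IsPrime] (hJ : J ≤ 𝔭) :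
    Module.FaithfullyFlat (FSch.stalkSubring A J 𝔭) (FSch.cAtPrime A J 𝔭) := by
  obtain ⟨hloc, hhom⟩ := Groth.Agent.S3869.result A J 𝔭 hJ
  haveI := hloc
  haveI : IsLocalRing (FSch.cAtPrime A J 𝔭) :=
    Groth.Agent.Lib.helper24.AdicUnit.isLocalRing _ (Groth.Agent.S3869.Kp_le A J 𝔭 hJ)
  haveI : Module.Flat (FSch.stalkSubring A J 𝔭) (FSch.cAtPrime A J 𝔭) :=
    flat_over_stalkSubring A J 𝔭 hJ
  haveI : IsLocalHom (algebraMap (FSch.stalkSubring A J 𝔭) (FSch.cAtPrime A J 𝔭)) := hhom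
  exact Module.FaithfullyFlat.of_flat_of_isLocalHom

end Groth.Agent.S3871
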