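import Groth.Statements.S3872
import Mathlib
import Groth.Agent.Lib.helper24.AdicUnit
import Groth.Agent.S3869

set_option autoImplicit false
universe u
open FCompl

namespace Groth.Agent.S3872

section Aux
open Groth.Agent.Lib.helper24 Groth.Agent.S3869

variable (A : Type u) [CommRing A] (J : Ideal A) (𝔭 : Ideal A) [𝔭.IsPrime]

/-- every element of `A_𝔭` comes from some `A_s`, `s ∉ 𝔭` -/
theorem exists_awayToAtPrime_eq (c : Localization.AtPrime 𝔭) :
    ∃ (s : A) (hs : s ∉ 𝔭) (b : Localization.Away s), FSch.awayToAtPrime A 𝔭 s hs b = c := by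
  obtain ⟨⟨a, s⟩, hs⟩ := IsLocalization.mk'_surjective 𝔭.primeCompl c
  refine ⟨s.1, s.2, IsLocalization.mk' (Localization.Away s.1) a
    (⟨s.1, Submonoid.mem_powers _⟩ : Submonoid.powers s.1), ?_⟩
  have hsu : IsUnit (algebraMap A (Localization.AtPrime 𝔭) (s : A)) :=
    IsLocalization.map_units (Localization.AtPrime 𝔭) s
  apply hsu.mul_left_injective
  have h1 : c * algebraMap A (Localization.AtPrime 𝔭) s = algebraMap A _ a := by
    rw [← hs]; exact IsLocalization.mk'_spec _ _ _
  have h2 : IsLocalization.mk' (Localization.Away s.1) a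
      (⟨s.1, Submonoid.mem_powers _⟩ : Submonoid.powers s.1) *
      algebraMap A (Localization.Away s.1) s.1 = algebraMap A _ a :=
    IsLocalization.mk'_spec _ _ _
  have h3 := congrArg (FSch.awayToAtPrime A 𝔭 s.1 s.2) h2
  rw [map_mul, awayToAtPrime_algebraMap, awayToAtPrime_algebraMap] at h3
  simp only
  rw [h3, h1]

theorem algebraMap_mem_stalkSubring (c : Localization.AtPrime 𝔭) :
    algebraMap (Localization.AtPrime 𝔭) (FSch.cAtPrime A J 𝔭) c ∈ FSch.stalkSubring A J 𝔭 := by
  obtain ⟨s, hs, b, rfl⟩ := exists_awayToAtPrime_eq A 𝔭 c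
  rw [mem_stalkSubring_iff]
  refine ⟨s, hs, AdicCompletion.of _ _ b, ?_⟩
  unfold FSch.cAwayToAtPrime
  rw [AdicUnit.complMap_of]
  rfl

end Aux

/-- For a ring A, an ideal J and a prime ideal 𝔭 with J ⊆ 𝔭, let A{S⁻¹}, S = A ∖ 𝔭, be the completion of
A_𝔭 for the topology defined by the extension of J, and A_{S} the subring of A{S⁻¹} generated by the
images of the completed localizations A_{f}, f ∉ 𝔭 (the stalk ring of Spf(A) at 𝔭). Given that A_{S}
and A{S⁻¹} are local rings and that the inclusion A_{S} → A{S⁻¹} and the canonical map A_𝔭 → A{S⁻¹}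
are local homomorphisms (all four are carried here as instance hypotheses; the two about A_{S} are
stated separately), both maps induce bijections on residue fields; so the residue field of A_{S} is
the residue field κ(𝔭) of A_𝔭. -/
theorem result (A : Type u) [CommRing A] (J : Ideal A) (𝔭 : Ideal A)
    [𝔭.IsPrime] (hJ : J ≤ 𝔭) [IsLocalRing (FSch.stalkSubring A J 𝔭)] [IsLocalRing (FSch.cAtPrime A J 𝔭)]
    [IsLocalHom (FSch.stalkSubring A J 𝔭).subtype]
    [IsLocalHom (algebraMap (Localization.AtPrime 𝔭) (FSch.cAtPrime A J 𝔭))] :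
    Function.Bijective (IsLocalRing.ResidueField.map (FSch.stalkSubring A J 𝔭).subtype) ∧
      Function.Bijective
        (IsLocalRing.ResidueField.map (algebraMap (Localization.AtPrime 𝔭) (FSch.cAtPrime A J 𝔭))) := by
  -- every element of the completion is congruent to an element of `A_𝔭` mod the maximal ideal
  have key : ∀ z : FSch.cAtPrime A J 𝔭, ∃ c : Localization.AtPrime 𝔭,
      IsLocalRing.residue _ z = IsLocalRing.residue _
        (algebraMap (Localization.AtPrime 𝔭) (FSch.cAtPrime A J 𝔭) c) := by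
    intro z
    obtain ⟨c, hc⟩ := Ideal.Quotient.mk_surjective
      (AdicCompletion.evalₐ (J.map (algebraMap A (Localization.AtPrime 𝔭))) 1 z)
    refine ⟨c, ?_⟩
    rw [← sub_eq_zero, ← map_sub, IsLocalRing.residue_eq_zero_iff, IsLocalRing.mem_maximalIdeal,
      mem_nonunits_iff]
    intro hu
    have h1 := hu.map (AdicCompletion.evalₐ (J.map (algebraMap A (Localization.AtPrime 𝔭))) 1)
    rw [map_sub, AdicCompletion.algebraMap_apply, Algebra.algebraMap_self, RingHom.id_apply,
      AdicCompletion.evalₐ_of, ← hc, sub_self] at h1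
    have hK1 : (J.map (algebraMap A (Localization.AtPrime 𝔭))) ^ 1 ≠ ⊤ := by
      rw [pow_one]
      exact ne_top_of_le_ne_top (IsLocalRing.maximalIdeal.isMaximal _).ne_top
        (Groth.Agent.S3869.Kp_le A J 𝔭 hJ)
    haveI : Nontrivial (Localization.AtPrime 𝔭 ⧸ (J.map (algebraMap A (Localization.AtPrime 𝔭))) ^ 1) :=
      Ideal.Quotient.nontrivial_iff.mpr hK1
    exact not_isUnit_zero h1
  refine ⟨⟨RingHom.injective _, ?_⟩, ⟨RingHom.injective _, ?_⟩⟩
  · intro r
    obtain ⟨z, rfl⟩ := IsLocalRing.residue_surjective r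
    obtain ⟨c, hc⟩ := key z
    refine ⟨IsLocalRing.residue _ ⟨_, algebraMap_mem_stalkSubring A J 𝔭 c⟩, ?_⟩
    rw [IsLocalRing.ResidueField.map_residue, hc]
    rfl
  · intro r
    obtain ⟨z, rfl⟩ := IsLocalRing.residue_surjective r
    obtain ⟨c, hc⟩ := key z
    refine ⟨IsLocalRing.residue _ c, ?_⟩
    rw [IsLocalRing.ResidueField.map_residue, hc]

end Groth.Agent.S3872
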