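import Groth.Statements.S3875
-- import your own Groth.Agent.* helpers here
import Groth.Agent.Lib.helper6.FormalSys

set_option autoImplicit false
universe u
open FCompl

namespace Groth.Agent.S3875

open AlgebraicGeometry CategoryTheory CategoryTheory.Limits Groth.Agent.Lib.helper6 in
theorem level {X Y S : Scheme.{u}} (g : X ⟶ S) (h : Y ⟶ S)
    (R : X.IdealSheafData) (J : S.IdealSheafData) (P : (pullback g h).IdealSheafData)
    (Q : Y.IdealSheafData)
    (hP : R.comap (pullback.fst g h) = P) (hQ : J.comap h = Q)
    (hg : J ≤ R.map g) (hq : Q ≤ P.map (pullback.snd g h)) :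
    IsPullback
      (Scheme.IdealSheafData.subschemeMap P R (pullback.fst g h)
        (Scheme.IdealSheafData.le_map_iff_comap_le.mpr hP.le))
      (Scheme.IdealSheafData.subschemeMap P Q (pullback.snd g h) hq)
      (Scheme.IdealSheafData.subschemeMap R J g hg)
      (Scheme.IdealSheafData.subschemeMap Q J h
        (Scheme.IdealSheafData.le_map_iff_comap_le.mpr hQ.le)) := by
  have hA := subscheme_isPullback (pullback.fst g h) P R hP
  have hB := subscheme_isPullback h Q J hQ
  have hC := (IsPullback.of_hasPullback g h).flip
  have hout := hA.paste_horiz hC
  have e1 : P.subschemeι ≫ pullback.snd g h =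
      Scheme.IdealSheafData.subschemeMap P Q (pullback.snd g h) hq ≫ Q.subschemeι :=
    (Scheme.IdealSheafData.subschemeMap_subschemeι _ _ _ _).symm
  have e2 : R.subschemeι ≫ g = Scheme.IdealSheafData.subschemeMap R J g hg ≫ J.subschemeι :=
    (Scheme.IdealSheafData.subschemeMap_subschemeι _ _ _ _).symm
  rw [e1, e2] at hout
  refine (IsPullback.of_right hout ?_ hB).flip
  rw [← cancel_mono J.subschemeι]
  simp only [Category.assoc, Scheme.IdealSheafData.subschemeMap_subschemeι,
    Scheme.IdealSheafData.subschemeMap_subschemeι_assoc, pullback.condition]

open AlgebraicGeometry in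
open CategoryTheory in
open CategoryTheory.Limits in
/-- Let g : X → S and h : Y → S be morphisms of schemes, R an ideal sheaf on X and J an ideal sheaf on
S, and consider the completions of S along J, of X along R, of Y along the inverse image of J under
h, and of X x_S Y along the inverse image of R under the first projection (completions presented by
the subschemes of the powers of these ideal sheaves); this is the case where the closed subset of Y
is the full preimage of that of S. The four compatibility hypotheses between the powers of the ideal
sheaves (for g, for h, and for the two projections of X x_S Y): for each n, the inverse image of the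
(n+1)-st power of the target ideal sheaf is contained in the (n+1)-st power of the source ideal
sheaf. These are hypotheses, carried as data for the completed morphisms; the published statement
assumes the schemes locally Noetherian, which this identity does not need. Then the square of
completed morphisms from the completion of X x_S Y along the preimage of the closed subset of X, to
the completions of X and of Y, over the completion of S, is cartesian in the category of systems. -/
theorem result {X Y S : Scheme.{u}} (g : X ⟶ S) (h : Y ⟶ S)
    (𝓡 : X.IdealSheafData) (𝓙 : S.IdealSheafData)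
    (hg : FSch.PowCompat g 𝓡 𝓙) (hh : FSch.PowCompat h (𝓙.comap h) 𝓙)
    (hp : FSch.PowCompat (pullback.fst g h) (𝓡.comap (pullback.fst g h)) 𝓡)
    (hq : FSch.PowCompat (pullback.snd g h) (𝓡.comap (pullback.fst g h)) (𝓙.comap h)) :
    IsPullback (FSch.completionMap (pullback.fst g h) (𝓡.comap (pullback.fst g h)) 𝓡 hp)
      (FSch.completionMap (pullback.snd g h) (𝓡.comap (pullback.fst g h)) (𝓙.comap h) hq)
      (FSch.completionMap g 𝓡 𝓙 hg) (FSch.completionMap h (𝓙.comap h) 𝓙 hh) := by
  apply Groth.Agent.Lib.helper6.sys_isPullback_of_levelwise
  intro n
  exact level g h (𝓡 ^ (n + 1)) (𝓙 ^ (n + 1)) _ _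
    (Groth.Agent.Lib.helper6.comap_pow _ 𝓡 (n + 1))
    (Groth.Agent.Lib.helper6.comap_pow _ 𝓙 (n + 1))
    (Scheme.IdealSheafData.le_map_iff_comap_le.mpr (hg n))
    (Scheme.IdealSheafData.le_map_iff_comap_le.mpr (hq n))

end Groth.Agent.S3875
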