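import Mathlib
import Groth.Agent.Lib.helper10.TorsLib
import Groth.Statements.S3894

set_option autoImplicit false
universe u
open CategoryTheory CategoryTheory.Limits Opposite
open Tors

namespace Groth.Agent.S3894

/-- A torsor P under an abelian sheaf G is trivial, i.e. equivariantly isomorphic to G acting on itself
by translations, if and only if P has a global section (a morphism from the final sheaf of sets). -/
theorem result {C : Type u} [SmallCategory C] {J : GrothendieckTopology C}
    {G : Sheaf J AddCommGrpCat.{u}} (T : Tors.Torsor G) : T.IsTrivial ↔ T.HasSection := by
  exact ⟨Groth.Agent.Lib.helper10.TorsLib.hasSection_of_isTrivial T,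
    Groth.Agent.Lib.helper10.TorsLib.isTrivial_of_hasSection T⟩

end Groth.Agent.S3894
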