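import Groth.Statements.S4186
import Mathlib.AlgebraicGeometry.AlgClosed.Basic
import Mathlib.Analysis.Complex.Polynomial.Basic

set_option autoImplicit false
open CategoryTheory AlgebraicGeometry Topology TopologicalSpace
open An

namespace Groth.Agent.S4186

/-- A scheme locally of finite type over ℂ is nonempty if and only if it has a ℂ-point. -/
theorem result (X : Scheme.{0}) [X.Over An.SC] [LocallyOfFiniteType (X ↘ An.SC)] :
    Nonempty ↥X ↔ Nonempty (An.Pts X) := by
  constructor
  · rintro ⟨x⟩
    haveI : JacobsonSpace X := LocallyOfFiniteType.jacobsonSpace (X ↘ An.SC)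
    have hcl : closure (closedPoints X) = Set.univ := closure_closedPoints
    have hne : (closedPoints X).Nonempty := by
      by_contra hcon
      rw [Set.not_nonempty_iff_eq_empty] at hcon
      rw [hcon, closure_empty] at hcl
      have hx : x ∈ (Set.univ : Set X) := Set.mem_univ x
      rw [← hcl] at hx
      exact hx
    obtain ⟨y, hy⟩ := hne
    exact ⟨⟨pointOfClosedPoint (X ↘ An.SC) y hy, pointOfClosedPoint_comp _ y hy⟩⟩
  · rintro ⟨x⟩
    exact ⟨x.1 An.cpt⟩

end Groth.Agent.S4186
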