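import Groth.Statements.S4243
import Mathlib

set_option autoImplicit false
open SGA4h

namespace Groth.Agent.S4243

/-- Let k be a finite field with q elements and P a nonzero homogeneous polynomial of degree d in r+1
variables over k. If P vanishes at every point of k^{r+1} (that is, the hypersurface P = 0 in
projective r-space passes through every rational point), then d ≥ q + 1. -/
theorem result (k : Type) [Field k] [Fintype k] (r d : ℕ)
    (P : MvPolynomial (Fin (r + 1)) k) (hP : P.IsHomogeneous d) (hP0 : P ≠ 0)
    (hvan : ∀ x : Fin (r + 1) → k, MvPolynomial.eval x P = 0) :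
    Fintype.card k + 1 ≤ d := by
  classical
  by_contra hlt
  have hdq : d ≤ Fintype.card k := by omega
  have hnot : P ∉ MvPolynomial.restrictDegree (Fin (r + 1)) k (Fintype.card k - 1) :=
    fun hmem => hP0 (MvPolynomial.eq_zero_of_eval_eq_zero (Fin (r + 1)) k P hvan hmem)
  rw [MvPolynomial.mem_restrictDegree] at hnot
  push Not at hnot
  obtain ⟨m, hm, i, hmi⟩ := hnot
  have hcard : 1 < Fintype.card k := Fintype.one_lt_card
  have hsum : d = ∑ j ∈ m.support, m j := hP.degree_eq_sum_deg_support hm
  have hmi' : Fintype.card k ≤ m i := by omega
  have hi_supp : i ∈ m.support := by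
    rw [Finsupp.mem_support_iff]; omega
  have hle : m i ≤ d := by
    rw [hsum]; exact Finset.single_le_sum (f := fun j => m j) (fun _ _ => Nat.zero_le _) hi_supp
  have hmid : m i = d := by omega
  -- all other exponents vanish
  have hother : ∀ j, j ≠ i → m j = 0 := by
    intro j hji
    by_contra hj
    have hj_supp : j ∈ m.support := Finsupp.mem_support_iff.mpr hj
    have h2 : m i + m j ≤ ∑ l ∈ m.support, m l := by
      have hsub : ({i, j} : Finset (Fin (r + 1))) ⊆ m.support := by
        intro l hl
        simp only [Finset.mem_insert, Finset.mem_singleton] at hl
        rcases hl with rfl | rfl <;> assumption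
      have := Finset.sum_le_sum_of_subset (f := fun l => m l) hsub
      rwa [Finset.sum_pair (Ne.symm hji)] at this
    have : 0 < m j := Nat.pos_of_ne_zero hj
    omega
  -- evaluate at the basis vector
  have hev := hvan (Pi.single i 1)
  rw [MvPolynomial.eval_eq'] at hev
  have hterm : ∀ s ∈ P.support, s ≠ m →
      MvPolynomial.coeff s P * ∏ j, (Pi.single i (1 : k) : Fin (r + 1) → k) j ^ s j = 0 := by
    intro s hs hsm
    -- there is j ≠ i with s j ≠ 0
    have hsd : d = ∑ j ∈ s.support, s j := hP.degree_eq_sum_deg_support hs
    have hex : ∃ j, j ≠ i ∧ s j ≠ 0 := by
      by_contra hcon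
      push Not at hcon
      apply hsm
      ext j
      by_cases hji : j = i
      · subst hji
        have : ∑ l ∈ s.support, s l = s j := by
          by_cases hsj : s j = 0
          · have hemp : s.support = ∅ := by
              ext l
              simp only [Finsupp.mem_support_iff, Finset.notMem_empty, iff_false, not_not]
              by_cases hl : l = j
              · subst hl; exact hsj
              · exact hcon l hl
            rw [hemp, Finset.sum_empty, hsj]
          · have hsing : s.support = {j} := by
              ext l
              simp only [Finsupp.mem_support_iff, Finset.mem_singleton]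
              constructor
              · intro hl
                by_contra hlj
                exact hl (hcon l hlj)
              · rintro rfl; exact hsj
            rw [hsing, Finset.sum_singleton]
        omega
      · rw [hcon j hji, hother j hji]
    obtain ⟨j, hji, hsj⟩ := hex
    rw [Finset.prod_eq_zero (Finset.mem_univ j), mul_zero]
    rw [Pi.single_eq_of_ne hji, zero_pow hsj]
  rw [Finset.sum_eq_single_of_mem m hm hterm] at hev
  have hprod : ∏ j, (Pi.single i (1 : k) : Fin (r + 1) → k) j ^ m j = 1 := by
    apply Finset.prod_eq_one
    intro j _
    by_cases hji : j = i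
    · subst hji; simp
    · rw [hother j hji, pow_zero]
  rw [hprod, mul_one] at hev
  exact (MvPolynomial.mem_support_iff.mp hm) hev

end Groth.Agent.S4243
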