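import Groth.Statements.S4307
import Groth.Agent.Lib.helper17.AnHol

set_option autoImplicit false
open CategoryTheory AlgebraicGeometry Topology TopologicalSpace
open An

namespace Groth.Agent.S4307

/-- A sanity check of the definition of holomorphic functions: for an open set U of complex points of
affine n-space over ℂ and g : U → ℂ, g is holomorphic (satisfies the local predicate An.holPred of
the prelude) if and only if g = G ∘ (coordinates) for some G : ℂ^n → ℂ complex-differentiable on the
image of U in ℂ^n. -/
theorem result (n : ℕ) (U : TopologicalSpace.Opens (An.Pts (𝔸(Fin n; An.SC))))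
    (g : U → ℂ) :
    (An.holPred (𝔸(Fin n; An.SC))).pred g ↔
      ∃ G : (Fin n → ℂ) → ℂ,
        DifferentiableOn ℂ G ((fun (x : An.Pts (𝔸(Fin n; An.SC))) (i : Fin n) =>
          x.evTop (AffineSpace.coord An.SC i)) '' (U : Set (An.Pts (𝔸(Fin n; An.SC))))) ∧
        ∀ x : U, g x = G (fun i => (x : An.Pts (𝔸(Fin n; An.SC))).evTop (AffineSpace.coord An.SC i)) := by
  have hbij := Groth.Agent.Lib.helper17.AnAffineSpace.bijective_eval₂Hom n
  let e : An.Pts (𝔸(Fin n; An.SC)) ≃ₜ (Fin n → ℂ) :=
    IsHomeomorph.homeomorph _ (Groth.Agent.Lib.helper17.AnAffineSpace.isHomeomorph n)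
  have he : ∀ x, e x = Groth.Agent.Lib.helper17.AnAffine.Ψ (AffineSpace.coord An.SC) x :=
    fun x => rfl
  constructor
  · intro hg
    exact Groth.Agent.Lib.helper17.AnHol.exists_of_holPred (AffineSpace.coord An.SC)
      hbij.surjective e he U g hg
  · rintro ⟨G, hG, hgG⟩
    exact Groth.Agent.Lib.helper17.AnHol.holPred_of_exists (AffineSpace.coord An.SC) e he U g G
      hG hgG

end Groth.Agent.S4307
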