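import Groth.Statements.S4337
import Mathlib
import Groth.Agent.Lib.helper7.Admissible

set_option autoImplicit false
universe u
open LinTop

namespace Groth.Agent.S4337

/-- Let A be an admissible ring, J an ideal of definition, and u : M -> N a homomorphism of A-modules
with N of finite type. Then u is surjective if and only if u tensored with A/J is surjective. -/
theorem result
    (A : Type u) [CommRing A] [UniformSpace A] [IsUniformAddGroup A] [IsTopologicalRing A]
    (hA : LinTop.IsAdmissible A) (J : Ideal A) (hJ : LinTop.IsIdealOfDefinition A J)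
    (M N : Type u) [AddCommGroup M] [Module A M] [AddCommGroup N] [Module A N] [Module.Finite A N]
    (u : M →ₗ[A] N) :
    Function.Surjective u ↔ Function.Surjective (u.rTensor (A ⧸ J)) := by
  have hjac := Groth.Agent.Lib.helper7.le_jacobson_bot_of_isIdealOfDefinition A hA J hJ
  constructor
  · intro h
    exact LinearMap.rTensor_surjective _ h
  · intro h
    rw [← LinearMap.range_eq_top, eq_top_iff]
    apply Submodule.le_of_le_smul_of_le_jacobson_bot Module.Finite.fg_top hjac
    intro n _
    -- n ⊗ 1 is in the image of u ⊗ id
    obtain ⟨t, ht⟩ := h (TensorProduct.tmul A n (1 : A ⧸ J))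
    obtain ⟨q, rfl⟩ := (TensorProduct.tensorQuotEquivQuotSMul M J).symm.surjective t
    obtain ⟨m, rfl⟩ := Submodule.Quotient.mk_surjective _ q
    rw [TensorProduct.tensorQuotEquivQuotSMul_symm_mk, LinearMap.rTensor_tmul,
      ← TensorProduct.tensorQuotEquivQuotSMul_symm_mk J (u m),
      ← TensorProduct.tensorQuotEquivQuotSMul_symm_mk J n] at ht
    have h2 := (TensorProduct.tensorQuotEquivQuotSMul N J).symm.injective ht
    rw [Submodule.Quotient.eq] at h2
    have : n = u m + (-(u m - n)) := by abel
    rw [this]
    exact Submodule.add_mem_sup (LinearMap.mem_range_self u m)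
      (neg_mem (by simpa using h2))

end Groth.Agent.S4337
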