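import Groth.Statements.S4340
import Groth.Agent.Lib.helper9.QcohLoc

set_option autoImplicit false
universe u
open QCohSup

namespace Groth.Agent.S4340

open AlgebraicGeometry CategoryTheory Opposite TopologicalSpace
  Groth.Agent.Lib.helper9.QcohLoc in
set_option backward.isDefEq.respectTransparency false in
lemma main (X : Scheme.{u}) [CompactSpace X] (f : Γ(X, ⊤)) (F : X.Modules) [F.IsQuasicoherent]
    (s : Γ(F, ⊤)) (hs : F.presheaf.map (homOfLE (le_top : X.basicOpen f ≤ ⊤)).op s = 0) :
    ∃ n : ℕ, 0 < n ∧ f ^ n • s = 0 := by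
  classical
  obtain ⟨T, hT⟩ : ∃ T : Finset X.affineOpens,
      (Set.univ : Set X) ⊆ ⋃ U ∈ T, ((U : X.Opens) : Set X) := by
    have hcov : (Set.univ : Set X) ⊆ ⋃ U : X.affineOpens, ((U : X.Opens) : Set X) := by
      intro x _
      obtain ⟨U, hU, hxU, -⟩ := exists_isAffineOpen_mem_and_subset (x := x) (U := ⊤) trivial
      exact Set.mem_iUnion.mpr ⟨⟨U, hU⟩, hxU⟩
    exact isCompact_univ.elim_finite_subcover
      (fun U : X.affineOpens => ((U : X.Opens) : Set X)) (fun U => (U : X.Opens).isOpen) hcov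
  have key : ∀ U : X.affineOpens, ∃ n : ℕ,
      (X.presheaf.map (homOfLE (le_top : (U : X.Opens) ≤ ⊤)).op f) ^ n •
        F.presheaf.map (homOfLE (le_top : (U : X.Opens) ≤ ⊤)).op s = 0 := by
    intro U
    refine exists_pow_smul_eq_zero F U.2 (X.presheaf.map (homOfLE le_top).op f)
      ((U : X.Opens) ⊓ X.basicOpen f) ?_ inf_le_left _ ?_
    · exact (Scheme.basicOpen_res X f (homOfLE le_top).op).symm
    · rw [Groth.Agent.Lib.helper9.ZC.map_map_op F (homOfLE le_top) (homOfLE inf_le_left)
        (homOfLE (inf_le_right.trans le_top)) s,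
        ← Groth.Agent.Lib.helper9.ZC.map_map_op F (homOfLE (le_top : X.basicOpen f ≤ ⊤))
          (homOfLE inf_le_right) _ s, hs, map_zero]
  choose n hn using key
  refine ⟨T.sup n + 1, Nat.succ_pos _, ?_⟩
  apply Groth.Agent.Lib.helper9.ZC.eq_zero_of_germ_eq_zero F ⊤
  intro x hx
  obtain ⟨U, hUT, hxU⟩ : ∃ U ∈ T, x ∈ (U : X.Opens) := by
    have h := hT (Set.mem_univ x)
    simpa using h
  refine (Groth.Agent.Lib.helper9.ZC.germ_res F (le_top : (U : X.Opens) ≤ ⊤) x hxU _).symm.trans ?_
  have h0 : Groth.Agent.Lib.helper9.ZC.res F (le_top : (U : X.Opens) ≤ ⊤)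
      (f ^ (T.sup n + 1) • s) = 0 := by
    show F.presheaf.map (homOfLE le_top).op (f ^ (T.sup n + 1) • s) = 0
    rw [Scheme.Modules.map_smul, map_pow]
    have hle : n U ≤ T.sup n + 1 := (Finset.le_sup hUT).trans (Nat.le_succ _)
    obtain ⟨k, hk⟩ := Nat.exists_eq_add_of_le hle
    rw [hk, pow_add, mul_comm, mul_smul, hn U, smul_zero]
  rw [h0, map_zero]


open AlgebraicGeometry in
open CategoryTheory in
open Opposite in
/-- Case of the trivial invertible sheaf. Let X be a quasi-compact scheme, f a global section of O_X, F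
a quasi-coherent O_X-module and s a global section of F that restricts to zero on X_f. Then f^n s =
0 for some n > 0. (The published statement assumes X with Noetherian underlying space, or separated
and quasi-compact; for this part only quasi-compactness is used.) -/
theorem result
    (X : Scheme.{u}) [CompactSpace X] (f : Γ(X, ⊤)) (F : X.Modules) [Coh.IsQCoh F]
    (s : F.val.obj (op ⊤))
    (hs : (F.val.map (homOfLE (le_top : X.basicOpen f ≤ ⊤)).op).hom s = 0) :
    ∃ n : ℕ, 0 < n ∧ (show X.ringCatSheaf.obj.obj (op ⊤) from f) ^ n • s = 0 := by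
  haveI : F.IsQuasicoherent := ‹Coh.IsQCoh F›
  exact main X f F s hs

end Groth.Agent.S4340
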