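import Groth.Statements.S4341
import Groth.Agent.Lib.helper9.PushQC
import Groth.Agent.Lib.helper9.ZC4

set_option autoImplicit false
universe u
open QCohSup

namespace Groth.Agent.S4341

open AlgebraicGeometry CategoryTheory Opposite TopologicalSpace
  Groth.Agent.Lib.helper9.QcohLoc Groth.Agent.Lib.helper9.AffSect
  Groth.Agent.Lib.helper9.PushQC Groth.Agent.Lib.helper9 in
set_option backward.isDefEq.respectTransparency false in
lemma main (X : Scheme.{u}) [CompactSpace X] [QuasiSeparatedSpace X] (f : Γ(X, ⊤))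
    (F : X.Modules) [F.IsQuasicoherent] (t : Γ(F, X.basicOpen f)) :
    ∃ n : ℕ, 0 < n ∧ ∃ s : Γ(F, ⊤),
      F.presheaf.map (homOfLE (le_top : X.basicOpen f ≤ ⊤)).op s =
        (X.presheaf.map (homOfLE (le_top : X.basicOpen f ≤ ⊤)).op f) ^ n • t := by
  classical
  obtain ⟨T, hT⟩ : ∃ T : Finset X.affineOpens,
      (Set.univ : Set X) ⊆ ⋃ U ∈ T, ((U : X.Opens) : Set X) := by
    have hcov : (Set.univ : Set X) ⊆ ⋃ U : X.affineOpens, ((U : X.Opens) : Set X) := by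
      intro x _
      obtain ⟨U, hU, hxU, -⟩ := exists_isAffineOpen_mem_and_subset (x := x) (U := ⊤) trivial
      exact Set.mem_iUnion.mpr ⟨⟨U, hU⟩, hxU⟩
    exact isCompact_univ.elim_finite_subcover
      (fun U : X.affineOpens => ((U : X.Opens) : Set X)) (fun U => (U : X.Opens).isOpen) hcov
  have hTx : ∀ x : X, ∃ U ∈ T, x ∈ (U : X.Opens) := by
    intro x
    have h := hT (Set.mem_univ x)
    simpa using h
  have hV : ∀ U : X.Opens, U ⊓ X.basicOpen f =
      X.basicOpen (X.presheaf.map (homOfLE (le_top : U ≤ ⊤)).op f) :=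
    fun U => (Scheme.basicOpen_res X f (homOfLE le_top).op).symm
  have key1 : ∀ U : X.affineOpens, ∃ n : ℕ, ∀ k, n ≤ k → ∃ σ : Γ(F, U.1),
      F.presheaf.map (homOfLE (inf_le_left : U.1 ⊓ X.basicOpen f ≤ U.1)).op σ =
        (X.presheaf.map (homOfLE (le_top : U.1 ⊓ X.basicOpen f ≤ ⊤)).op f) ^ k •
          F.presheaf.map (homOfLE (inf_le_right : U.1 ⊓ X.basicOpen f ≤
            X.basicOpen f)).op t := by
    intro U
    obtain ⟨n, σ₀, hσ₀⟩ := exists_pow_smul_eq_res F U.2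
      (X.presheaf.map (homOfLE (le_top : U.1 ≤ ⊤)).op f)
      (U.1 ⊓ X.basicOpen f) (hV U.1) inf_le_left
      (F.presheaf.map (homOfLE (inf_le_right : U.1 ⊓ X.basicOpen f ≤ X.basicOpen f)).op t)
    refine ⟨n, fun k hk => ?_⟩
    obtain ⟨d, rfl⟩ := Nat.exists_eq_add_of_le hk
    refine ⟨(X.presheaf.map (homOfLE (le_top : U.1 ≤ ⊤)).op f) ^ d • σ₀, ?_⟩
    rw [res_smul, hσ₀, map_pow, ringMap_map, smul_smul, ← pow_add, add_comm d n]
  choose n1 hn1 using key1
  have key1' : ∀ U : ↥T, ∃ σ : Γ(F, U.1.1),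
      F.presheaf.map (homOfLE (inf_le_left : U.1.1 ⊓ X.basicOpen f ≤ U.1.1)).op σ =
        (X.presheaf.map (homOfLE (le_top : U.1.1 ⊓ X.basicOpen f ≤ ⊤)).op f) ^ (T.sup n1) •
          F.presheaf.map (homOfLE (inf_le_right : U.1.1 ⊓ X.basicOpen f ≤
            X.basicOpen f)).op t :=
    fun U => hn1 U.1 (T.sup n1) (Finset.le_sup U.2)
  choose σ hσ using key1'
  have hE : ∀ (U : ↥T) (W : X.Opens) (hWU : W ≤ U.1.1) (hWf : W ≤ X.basicOpen f),
      F.presheaf.map (homOfLE hWU).op (σ U) =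
        (X.presheaf.map (homOfLE (le_top : W ≤ ⊤)).op f) ^ (T.sup n1) •
          F.presheaf.map (homOfLE hWf).op t := by
    intro U W hWU hWf
    have hW' : W ≤ U.1.1 ⊓ X.basicOpen f := le_inf hWU hWf
    rw [← ZC.map_map_op F (homOfLE (inf_le_left : U.1.1 ⊓ X.basicOpen f ≤ U.1.1))
      (homOfLE hW') (homOfLE hWU) (σ U), hσ U, res_smul, map_pow, ringMap_map,
      ZC.map_map_op F (homOfLE inf_le_right) (homOfLE hW') (homOfLE hWf) t]
  have hcomp : ∀ U U' : ↥T, IsCompact ((U.1.1 ⊓ U'.1.1 : X.Opens) : Set X) := fun U U' =>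
    QuasiSeparatedSpace.inter_isCompact _ _ U.1.1.isOpen U.1.2.isCompact U'.1.1.isOpen
      U'.1.2.isCompact
  have key2 : ∀ U U' : ↥T, ∃ m : ℕ,
      (X.presheaf.map (homOfLE (le_top : U.1.1 ⊓ U'.1.1 ≤ ⊤)).op f) ^ m •
        (F.presheaf.map (homOfLE (inf_le_left : U.1.1 ⊓ U'.1.1 ≤ U.1.1)).op (σ U) -
         F.presheaf.map (homOfLE (inf_le_right : U.1.1 ⊓ U'.1.1 ≤ U'.1.1)).op (σ U')) = 0 := by
    intro U U'
    refine exists_pow_smul_eq_zero_of_isCompact F (U.1.1 ⊓ U'.1.1) (hcomp U U')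
      (X.presheaf.map (homOfLE (le_top : U.1.1 ⊓ U'.1.1 ≤ ⊤)).op f)
      (U.1.1 ⊓ U'.1.1 ⊓ X.basicOpen f) (hV _) inf_le_left _ ?_
    rw [map_sub,
      ZC.map_map_op F (homOfLE (inf_le_left : U.1.1 ⊓ U'.1.1 ≤ U.1.1))
        (homOfLE (inf_le_left : U.1.1 ⊓ U'.1.1 ⊓ X.basicOpen f ≤ U.1.1 ⊓ U'.1.1))
        (homOfLE (inf_le_left.trans inf_le_left)) (σ U),
      ZC.map_map_op F (homOfLE (inf_le_right : U.1.1 ⊓ U'.1.1 ≤ U'.1.1))
        (homOfLE (inf_le_left : U.1.1 ⊓ U'.1.1 ⊓ X.basicOpen f ≤ U.1.1 ⊓ U'.1.1))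
        (homOfLE (inf_le_left.trans inf_le_right)) (σ U'),
      hE U (U.1.1 ⊓ U'.1.1 ⊓ X.basicOpen f) (inf_le_left.trans inf_le_left) inf_le_right,
      hE U' (U.1.1 ⊓ U'.1.1 ⊓ X.basicOpen f) (inf_le_left.trans inf_le_right) inf_le_right,
      sub_self]
  choose m hm using key2
  have hmle : ∀ U U' : ↥T, m U U' ≤ Finset.univ.sup (fun p : ↥T × ↥T => m p.1 p.2) :=
    fun U U' => Finset.le_sup (f := fun p : ↥T × ↥T => m p.1 p.2) (Finset.mem_univ (U, U'))
  have hcompat : ∀ U U' : ↥T,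
      ZC.res F (inf_le_left : U.1.1 ⊓ U'.1.1 ≤ U.1.1)
        ((X.presheaf.map (homOfLE (le_top : U.1.1 ≤ ⊤)).op f) ^
          (Finset.univ.sup (fun p : ↥T × ↥T => m p.1 p.2) + 1) • σ U) =
      ZC.res F (inf_le_right : U.1.1 ⊓ U'.1.1 ≤ U'.1.1)
        ((X.presheaf.map (homOfLE (le_top : U'.1.1 ≤ ⊤)).op f) ^
          (Finset.univ.sup (fun p : ↥T × ↥T => m p.1 p.2) + 1) • σ U') := by
    intro U U'
    show F.presheaf.map (homOfLE inf_le_left).op _ = F.presheaf.map (homOfLE inf_le_right).op _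
    rw [res_smul, res_smul, map_pow, map_pow, ringMap_map, ringMap_map, ← sub_eq_zero,
      ← smul_sub]
    obtain ⟨d, hd⟩ := Nat.exists_eq_add_of_le ((hmle U U').trans (Nat.le_add_right _ 1))
    rw [hd, pow_add, mul_comm, mul_smul, hm U U', smul_zero]
  have hcover : (⊤ : X.Opens) ≤ ⨆ U : ↥T, U.1.1 := by
    intro x _
    obtain ⟨U, hUT, hxU⟩ := hTx x
    exact Opens.mem_iSup.mpr ⟨⟨U, hUT⟩, hxU⟩
  obtain ⟨s, hs⟩ := ZC.exists_glue F (fun U : ↥T => U.1.1) ⊤ (fun _ => le_top) hcover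
    (fun U => (X.presheaf.map (homOfLE (le_top : U.1.1 ≤ ⊤)).op f) ^
      (Finset.univ.sup (fun p : ↥T × ↥T => m p.1 p.2) + 1) • σ U) hcompat
  refine ⟨(Finset.univ.sup (fun p : ↥T × ↥T => m p.1 p.2) + 1) + T.sup n1, by omega, s, ?_⟩
  apply ZC.eq_of_germ_eq F
  intro x hx
  obtain ⟨U, hUT, hxU⟩ := hTx x
  have hxW : x ∈ U.1 ⊓ X.basicOpen f := ⟨hxU, hx⟩
  refine (ZC.germ_res F (inf_le_right : U.1 ⊓ X.basicOpen f ≤ X.basicOpen f) x hxW _).symm.trans
    (Eq.trans ?_ (ZC.germ_res F (inf_le_right : U.1 ⊓ X.basicOpen f ≤ X.basicOpen f) x hxW _))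
  refine congrArg (fun z => F.presheaf.germ (U.1 ⊓ X.basicOpen f) x hxW z) ?_
  show F.presheaf.map (homOfLE inf_le_right).op (F.presheaf.map (homOfLE le_top).op s) =
    F.presheaf.map (homOfLE inf_le_right).op (_ • t)
  have hsU : F.presheaf.map (homOfLE (le_top : U.1 ≤ ⊤)).op s =
      (X.presheaf.map (homOfLE (le_top : U.1 ≤ ⊤)).op f) ^
        (Finset.univ.sup (fun p : ↥T × ↥T => m p.1 p.2) + 1) • σ ⟨U, hUT⟩ := hs ⟨U, hUT⟩
  rw [ZC.map_map_op F (homOfLE (le_top : X.basicOpen f ≤ ⊤))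
      (homOfLE (inf_le_right : U.1 ⊓ X.basicOpen f ≤ X.basicOpen f))
      (homOfLE (le_top : U.1 ⊓ X.basicOpen f ≤ ⊤)) s,
    ← ZC.map_map_op F (homOfLE (le_top : U.1 ≤ ⊤))
      (homOfLE (inf_le_left : U.1 ⊓ X.basicOpen f ≤ U.1))
      (homOfLE (le_top : U.1 ⊓ X.basicOpen f ≤ ⊤)) s,
    hsU, res_smul, map_pow, ringMap_map,
    hE ⟨U, hUT⟩ (U.1 ⊓ X.basicOpen f) inf_le_left inf_le_right, res_smul, map_pow,
    ringMap_map, smul_smul, ← pow_add]


open AlgebraicGeometry in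
open CategoryTheory in
open Opposite in
/-- Case of the trivial invertible sheaf. Let X be a quasi-compact quasi-separated scheme, f a global
section of O_X, F a quasi-coherent O_X-module and t a section of F over X_f. Then there is an n > 0
such that f^n t is the restriction of a global section of F. (The published statement assumes X with
Noetherian underlying space, or separated and quasi-compact; both are quasi-compact quasi-separated,
which is what the argument uses: a finite affine cover with quasi-compact pairwise intersections.) -/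
theorem result
    (X : Scheme.{u}) [CompactSpace X] [QuasiSeparatedSpace X] (f : Γ(X, ⊤))
    (F : X.Modules) [Coh.IsQCoh F] (t : F.val.obj (op (X.basicOpen f))) :
    ∃ n : ℕ, 0 < n ∧ ∃ s : F.val.obj (op ⊤),
      (F.val.map (homOfLE (le_top : X.basicOpen f ≤ ⊤)).op).hom s =
        (show X.ringCatSheaf.obj.obj (op (X.basicOpen f)) from
          X.presheaf.map (homOfLE (le_top : X.basicOpen f ≤ ⊤)).op f) ^ n • t := by
  haveI : F.IsQuasicoherent := ‹Coh.IsQCoh F›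
  obtain ⟨n, hn, s, hs⟩ := main X f F t
  exact ⟨n, hn, s, hs⟩

end Groth.Agent.S4341
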