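import Groth.Statements.S4344
import Mathlib

set_option autoImplicit false
universe u
open RatMapD

namespace Groth.Agent.S4344

section Aux

open AlgebraicGeometry CategoryTheory Scheme

variable {S X Y : Scheme.{u}} [X.Over S] [Y.Over S]

/-- The domains of the `S`-representatives of `f`. -/
def domSet (S : Scheme.{u}) {X Y : Scheme.{u}} [X.Over S] [Y.Over S] (f : X ⤏ Y) : Set X.Opens :=
  {U | ∃ g : X.PartialMap Y, g.IsOver S ∧ g.toRationalMap = f ∧ g.domain = U}

/-- The largest open on which an `S`-representative is defined. -/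
def domS (S : Scheme.{u}) {X Y : Scheme.{u}} [X.Over S] [Y.Over S] (f : X ⤏ Y) : X.Opens :=
  sSup (domSet S f)

lemma dense_domS (f : X ⤏ Y) [f.IsOver S] : Dense (X := X) (domS S f) := by
  obtain ⟨g, hg, rfl⟩ := f.exists_partialMap_over S
  have hle : g.domain ≤ domS S g.toRationalMap :=
    le_sSup (show g.domain ∈ domSet S g.toRationalMap from ⟨g, hg, rfl, rfl⟩)
  exact g.dense_domain.mono hle

set_option backward.isDefEq.respectTransparency false in
/-- The open cover of `domS f` by the domains of the `S`-representatives. -/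
noncomputable def coverS (S : Scheme.{u}) {X Y : Scheme.{u}} [X.Over S] [Y.Over S] (f : X ⤏ Y) :
    (domS S f).toScheme.OpenCover where
  I₀ := domSet S f
  X U := U.1.toScheme
  f U := X.homOfLE (le_sSup U.2)
  mem₀ := by
    rw [presieve₀_mem_precoverage_iff]
    refine ⟨fun x ↦ ?_, inferInstance⟩
    use ⟨_, (TopologicalSpace.Opens.mem_sSup.mp x.2).choose_spec.1⟩
    exact ⟨⟨x.1, (TopologicalSpace.Opens.mem_sSup.mp x.2).choose_spec.2⟩, Subtype.ext (by simp)⟩

/-- the chosen representative for an index -/
noncomputable def rep (S : Scheme.{u}) {X Y : Scheme.{u}} [X.Over S] [Y.Over S] (f : X ⤏ Y)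
    (x : domSet S f) : X.PartialMap Y := x.2.choose

lemma rep_isOver (f : X ⤏ Y) (x : domSet S f) : (rep S f x).IsOver S := x.2.choose_spec.1
lemma rep_toRationalMap (f : X ⤏ Y) (x : domSet S f) : (rep S f x).toRationalMap = f :=
  x.2.choose_spec.2.1
lemma rep_domain (f : X ⤏ Y) (x : domSet S f) : (rep S f x).domain = x.1 :=
  x.2.choose_spec.2.2

set_option backward.isDefEq.respectTransparency false in
/-- The glued partial map. -/
noncomputable def gluedS [IsReduced X] [IsSeparated (Y ↘ S)] (f : X ⤏ Y) [f.IsOver S] :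
    X.PartialMap Y := by
  refine ⟨domS S f, dense_domS f, (coverS S f).glueMorphisms
    (fun x ↦ (X.isoOfEq (rep_domain f x)).inv ≫ (rep S f x).hom) ?_⟩
  intro x y
  have hg₁ (x) : (rep S f x).toRationalMap = f := rep_toRationalMap f x
  have hg₂ (x) : (rep S f x).domain = x.1 := rep_domain f x
  haveI := rep_isOver f x
  haveI := rep_isOver f y
  refine (cancel_epi (isPullback_opens_inf_le (le_sSup x.2) (le_sSup y.2)).isoPullback.hom).mp ?_
  simp only [coverS, IsPullback.isoPullback_hom_fst_assoc,
    IsPullback.isoPullback_hom_snd_assoc]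
  simp_rw [← cancel_epi (X.isoOfEq congr($(hg₂ x) ⊓ $(hg₂ y))).hom, ← Category.assoc]
  convert! (PartialMap.equiv_iff_of_isSeparated (S := S) (f := rep S f x) (g := rep S f y)).mp ?_ using 1
  · congr 1; simp [← cancel_mono (Opens.ι _)]
  · congr 1; simp [← cancel_mono (Opens.ι _)]
  · rw [← PartialMap.toRationalMap_eq_iff, hg₁, hg₁]

lemma gluedS_domain [IsReduced X] [IsSeparated (Y ↘ S)] (f : X ⤏ Y) [f.IsOver S] :
    (gluedS (S := S) f).domain = domS S f := rfl

set_option backward.defeqAttrib.useBackward true in
set_option backward.isDefEq.respectTransparency false in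
lemma homOfLE_gluedS_hom [IsReduced X] [IsSeparated (Y ↘ S)] (f : X ⤏ Y) [f.IsOver S]
    (x : domSet S f) :
    X.homOfLE (show x.1 ≤ (gluedS (S := S) f).domain from le_sSup x.2) ≫ (gluedS (S := S) f).hom =
      (X.isoOfEq (rep_domain f x)).inv ≫ (rep S f x).hom := by
  dsimp only [gluedS]
  exact (coverS S f).ι_glueMorphisms _ _ x

set_option backward.defeqAttrib.useBackward true in
set_option backward.isDefEq.respectTransparency false in
lemma gluedS_isOver [IsReduced X] [IsSeparated (Y ↘ S)] (f : X ⤏ Y) [f.IsOver S] :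
    (gluedS (S := S) f).IsOver S := by
  constructor
  refine (coverS S f).hom_ext _ _ (fun x => ?_)
  have h1 := homOfLE_gluedS_hom f x
  have h2 : (rep S f x).hom ≫ (Y ↘ S) = (rep S f x).domain.ι ≫ (X ↘ S) := by
    haveI := rep_isOver f x
    exact CategoryTheory.comp_over (rep S f x).hom S
  have hle : (x.1 : X.Opens) ≤ (gluedS (S := S) f).domain := le_sSup x.2
  change X.homOfLE hle ≫ (gluedS (S := S) f).hom ≫ (Y ↘ S) =
    X.homOfLE hle ≫ (gluedS (S := S) f).domain.ι ≫ (X ↘ S)
  rw [← Category.assoc, h1, Category.assoc, h2, ← Category.assoc, Scheme.isoOfEq_inv_ι,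
    ← Category.assoc, Scheme.homOfLE_ι]

end Aux

open AlgebraicGeometry in
open CategoryTheory in
/-- Let X be a reduced S-scheme, Y an S-scheme separated over S and f an S-rational map from X to Y.
There is a representative g of f which is an S-morphism and of which every S-morphism representing f
is a restriction; in particular g is the unique S-morphism of the class of f defined on the largest
open where some S-representative is defined. (The published statement speaks of the domain of
definition among all representatives; over a base that is not separated that domain can be larger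
than the one on which an S-representative exists, and this row takes the latter.) -/
theorem result
    (S X Y : Scheme.{u}) [X.Over S] [Y.Over S] [IsReduced X] [IsSeparated (Y ↘ S)]
    (f : X ⤏ Y) [f.IsOver S] :
    ∃ g : X.PartialMap Y, g.IsOver S ∧ g.toRationalMap = f ∧
      ∀ h : X.PartialMap Y, h.IsOver S → h.toRationalMap = f →
        ∃ hle : h.domain ≤ g.domain, h = g.restrict h.domain h.dense_domain hle := by
  classical
  have key : ∀ h : X.PartialMap Y, h.IsOver S → h.toRationalMap = f →
      ∃ hle : h.domain ≤ (gluedS (S := S) f).domain,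
        h = (gluedS (S := S) f).restrict h.domain h.dense_domain hle := by
    intro h hS hf
    have hmem : h.domain ∈ domSet S f := ⟨h, hS, hf, rfl⟩
    have hle : h.domain ≤ (gluedS (S := S) f).domain := le_sSup hmem
    refine ⟨hle, ?_⟩
    haveI := rep_isOver f ⟨h.domain, hmem⟩
    haveI := hS
    have hrep : rep S f ⟨h.domain, hmem⟩ = h :=
      (Scheme.PartialMap.equiv_iff_of_domain_eq_of_isSeparated (S := S)
        (rep_domain f ⟨h.domain, hmem⟩)).mp
        (Scheme.PartialMap.toRationalMap_eq_iff.mp
          ((rep_toRationalMap f ⟨h.domain, hmem⟩).trans hf.symm))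
    have h1 : X.homOfLE hle ≫ (gluedS (S := S) f).hom =
        (X.isoOfEq (rep_domain f ⟨h.domain, hmem⟩)).inv ≫ (rep S f ⟨h.domain, hmem⟩).hom :=
      homOfLE_gluedS_hom f ⟨h.domain, hmem⟩
    obtain ⟨e, he⟩ := (Scheme.PartialMap.ext_iff _ _).mp hrep.symm
    have h2 : h.hom = X.homOfLE hle ≫ (gluedS (S := S) f).hom := by
      rw [h1, he]
      rfl
    refine Scheme.PartialMap.ext _ _ (by simp) ?_
    change h.hom = (X.isoOfEq (rfl : h.domain = h.domain)).hom ≫
      (X.homOfLE hle ≫ (gluedS (S := S) f).hom)
    rw [Scheme.isoOfEq_rfl, Iso.refl_hom, Category.id_comp]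
    exact h2
  obtain ⟨g₀, hg₀S, hg₀⟩ := f.exists_partialMap_over S
  obtain ⟨hle₀, hres₀⟩ := key g₀ hg₀S hg₀
  refine ⟨gluedS (S := S) f, ?_, ?_, key⟩
  · exact gluedS_isOver f
  · calc (gluedS (S := S) f).toRationalMap
        = ((gluedS (S := S) f).restrict g₀.domain g₀.dense_domain hle₀).toRationalMap :=
          (Scheme.PartialMap.restrict_toRationalMap _ _ _ _).symm
      _ = g₀.toRationalMap := by rw [← hres₀]
      _ = f := hg₀

end Groth.Agent.S4344
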