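import Groth.Statements.S4345
import Mathlib

set_option autoImplicit false
universe u
open SchLoc

namespace Groth.Agent.S4345

section Helpers

open LocalSubring

variable {K : Type u} [Field K]

theorem ofPrime_congr (A : Subring K) (P P' : Ideal A) [P.IsPrime] [P'.IsPrime] (h : P = P') :
    ofPrime A P = ofPrime A P' := by
  subst h; rfl

theorem isUnit_ofPrime_iff (A : Subring K) (P : Ideal A) [P.IsPrime] (a : A) :
    IsUnit (Subring.inclusion (le_ofPrime A P) a) ↔ a ∉ P :=
  IsLocalization.AtPrime.isUnit_to_map_iff (ofPrime A P).toSubring P a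

theorem comap_maximalIdeal_ofPrime (A : Subring K) (P : Ideal A) [P.IsPrime] :
    (IsLocalRing.maximalIdeal (ofPrime A P).toSubring).comap (Subring.inclusion (le_ofPrime A P)) = P := by
  ext a
  rw [Ideal.mem_comap, IsLocalRing.mem_maximalIdeal, mem_nonunits_iff, isUnit_ofPrime_iff, not_not]

theorem mem_ofPrime_iff (A : Subring K) (P : Ideal A) [P.IsPrime] (x : K) :
    x ∈ (ofPrime A P).toSubring ↔ ∃ a s : A, s ∉ P ∧ x * s = a := by
  constructor
  · intro hx
    obtain ⟨⟨a, ⟨s, hs⟩⟩, h⟩ := IsLocalization.surj P.primeCompl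
      (⟨x, hx⟩ : (ofPrime A P).toSubring)
    exact ⟨a, s, hs, congrArg Subtype.val h⟩
  · rintro ⟨a, s, hs, h⟩
    have hu := (isUnit_ofPrime_iff A P s).2 hs
    obtain ⟨t, ht⟩ := hu.exists_right_inv
    have ht' : (s : K) * (t : K) = 1 := congrArg Subtype.val ht
    have hx : x = (a : K) * (t : K) := by
      rw [← h, mul_assoc, ht', mul_one]
    rw [hx]
    exact Subring.mul_mem _ (le_ofPrime A P a.2) t.2

theorem ofPrime_le (A : Subring K) (Q : LocalSubring K) (h : A ≤ Q.toSubring) :
    ofPrime A ((IsLocalRing.maximalIdeal Q.toSubring).comap (Subring.inclusion h)) ≤ Q := by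
  have hle : (ofPrime A ((IsLocalRing.maximalIdeal Q.toSubring).comap
      (Subring.inclusion h))).toSubring ≤ Q.toSubring := by
    intro x hx
    obtain ⟨a, s, hs, hxs⟩ := (mem_ofPrime_iff A _ x).1 hx
    have hs' : IsUnit (Subring.inclusion h s) := by
      by_contra hns
      exact hs hns
    obtain ⟨t, ht⟩ := hs'.exists_right_inv
    have ht' : (s : K) * (t : K) = 1 := congrArg Subtype.val ht
    have hx' : x = (a : K) * (t : K) := by
      rw [← hxs, mul_assoc, ht', mul_one]
    rw [hx']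
    exact Subring.mul_mem _ (h a.2) t.2
  refine ⟨hle, ⟨fun x hx => ?_⟩⟩
  obtain ⟨x, hxmem⟩ := x
  obtain ⟨a, s, hs, hxs⟩ := (mem_ofPrime_iff A _ x).1 hxmem
  have hs' : IsUnit (Subring.inclusion h s) := by
    by_contra hns
    exact hs hns
  -- `a` is a unit in `Q`
  have ha : IsUnit (Subring.inclusion h a) := by
    have : Subring.inclusion h a = Subring.inclusion hle ⟨x, hxmem⟩ * Subring.inclusion h s :=
      Subtype.ext hxs.symm
    rw [this]
    exact hx.mul hs'
  have ha' : a ∉ (IsLocalRing.maximalIdeal Q.toSubring).comap (Subring.inclusion h) := by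
    intro hmem
    exact hmem ha
  have hau := (isUnit_ofPrime_iff A _ a).2 ha'
  have hsu := (isUnit_ofPrime_iff A _ s).2 hs
  have : (⟨x, hxmem⟩ : (ofPrime A ((IsLocalRing.maximalIdeal Q.toSubring).comap
      (Subring.inclusion h))).toSubring) * Subring.inclusion (le_ofPrime A _) s =
      Subring.inclusion (le_ofPrime A _) a := Subtype.ext hxs
  have h2 : IsUnit ((⟨x, hxmem⟩ : (ofPrime A ((IsLocalRing.maximalIdeal Q.toSubring).comap
      (Subring.inclusion h))).toSubring) * Subring.inclusion (le_ofPrime A _) s) := by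
    rw [this]; exact hau
  exact isUnit_of_mul_isUnit_left h2

theorem of_ofPrime_le (A : Subring K) (P : Ideal A) [P.IsPrime] (Q : LocalSubring K)
    (hPQ : ofPrime A P ≤ Q) :
    ∃ h : A ≤ Q.toSubring, (IsLocalRing.maximalIdeal Q.toSubring).comap (Subring.inclusion h) = P := by
  obtain ⟨hle, hloc⟩ := hPQ
  refine ⟨(le_ofPrime A P).trans hle, ?_⟩
  ext a
  rw [Ideal.mem_comap, IsLocalRing.mem_maximalIdeal, mem_nonunits_iff, ← not_iff_not, not_not,
    ← isUnit_ofPrime_iff A P a]
  constructor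
  · intro hu
    exact hloc.map_nonunit (Subring.inclusion (le_ofPrime A P) a) hu
  · intro hu
    exact hu.map (Subring.inclusion hle)

theorem eq_of_le_of_toSubring_le {D Q : LocalSubring K} (h : D ≤ Q)
    (h' : Q.toSubring ≤ D.toSubring) : D = Q :=
  toSubring_injective (le_antisymm h.1 h')


theorem main (R : Type u) [Field R] (A B : Subring R) :
    [ ∀ (Q : LocalSubring R) (hA : A ≤ Q.toSubring) (hB : B ≤ Q.toSubring),
        LocalSubring.ofPrime A ((IsLocalRing.maximalIdeal Q.toSubring).comap (Subring.inclusion hA)) =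
          LocalSubring.ofPrime B ((IsLocalRing.maximalIdeal Q.toSubring).comap (Subring.inclusion hB)),
      ∀ r : PrimeSpectrum ↥(A ⊔ B),
        LocalSubring.ofPrime A (r.asIdeal.comap (Subring.inclusion (le_sup_left : A ≤ A ⊔ B))) =
          LocalSubring.ofPrime B (r.asIdeal.comap (Subring.inclusion (le_sup_right : B ≤ A ⊔ B))),
      ∀ (p : PrimeSpectrum A) (q : PrimeSpectrum B),
        (∃ Q : LocalSubring R, LocalSubring.ofPrime A p.asIdeal ≤ Q ∧ LocalSubring.ofPrime B q.asIdeal ≤ Q) →
          LocalSubring.ofPrime A p.asIdeal = LocalSubring.ofPrime B q.asIdeal,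
      Set.range (fun p : PrimeSpectrum A ↦ LocalSubring.ofPrime A p.asIdeal) ∩
          Set.range (fun q : PrimeSpectrum B ↦ LocalSubring.ofPrime B q.asIdeal) =
        Set.range (fun r : PrimeSpectrum ↥(A ⊔ B) ↦ LocalSubring.ofPrime (A ⊔ B) r.asIdeal) ].TFAE := by
  -- general facts relating `A`, `B`, `C = A ⊔ B`
  have keyA : ∀ r : PrimeSpectrum ↥(A ⊔ B),
      ofPrime A (r.asIdeal.comap (Subring.inclusion (le_sup_left : A ≤ A ⊔ B))) ≤
        ofPrime (A ⊔ B) r.asIdeal := by
    intro r
    have h1 := ofPrime_le A (ofPrime (A ⊔ B) r.asIdeal)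
      ((le_sup_left : A ≤ A ⊔ B).trans (le_ofPrime (A ⊔ B) r.asIdeal))
    have h2 : (IsLocalRing.maximalIdeal (ofPrime (A ⊔ B) r.asIdeal).toSubring).comap
        (Subring.inclusion ((le_sup_left : A ≤ A ⊔ B).trans (le_ofPrime (A ⊔ B) r.asIdeal))) =
        r.asIdeal.comap (Subring.inclusion (le_sup_left : A ≤ A ⊔ B)) := by
      conv_rhs => rw [← comap_maximalIdeal_ofPrime (A ⊔ B) r.asIdeal]
      rfl
    rw [ofPrime_congr A _ _ h2] at h1
    exact h1
  have keyB : ∀ r : PrimeSpectrum ↥(A ⊔ B),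
      ofPrime B (r.asIdeal.comap (Subring.inclusion (le_sup_right : B ≤ A ⊔ B))) ≤
        ofPrime (A ⊔ B) r.asIdeal := by
    intro r
    have h1 := ofPrime_le B (ofPrime (A ⊔ B) r.asIdeal)
      ((le_sup_right : B ≤ A ⊔ B).trans (le_ofPrime (A ⊔ B) r.asIdeal))
    have h2 : (IsLocalRing.maximalIdeal (ofPrime (A ⊔ B) r.asIdeal).toSubring).comap
        (Subring.inclusion ((le_sup_right : B ≤ A ⊔ B).trans (le_ofPrime (A ⊔ B) r.asIdeal))) =
        r.asIdeal.comap (Subring.inclusion (le_sup_right : B ≤ A ⊔ B)) := by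
      conv_rhs => rw [← comap_maximalIdeal_ofPrime (A ⊔ B) r.asIdeal]
      rfl
    rw [ofPrime_congr B _ _ h2] at h1
    exact h1
  tfae_have 1 → 2 := by
    intro h1 r
    have hA : A ≤ (ofPrime (A ⊔ B) r.asIdeal).toSubring :=
      (le_sup_left : A ≤ A ⊔ B).trans (le_ofPrime (A ⊔ B) r.asIdeal)
    have hB : B ≤ (ofPrime (A ⊔ B) r.asIdeal).toSubring :=
      (le_sup_right : B ≤ A ⊔ B).trans (le_ofPrime (A ⊔ B) r.asIdeal)
    have := h1 (ofPrime (A ⊔ B) r.asIdeal) hA hB
    have h2 : (IsLocalRing.maximalIdeal (ofPrime (A ⊔ B) r.asIdeal).toSubring).comap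
        (Subring.inclusion hA) = r.asIdeal.comap (Subring.inclusion (le_sup_left : A ≤ A ⊔ B)) := by
      conv_rhs => rw [← comap_maximalIdeal_ofPrime (A ⊔ B) r.asIdeal]
      rfl
    have h3 : (IsLocalRing.maximalIdeal (ofPrime (A ⊔ B) r.asIdeal).toSubring).comap
        (Subring.inclusion hB) = r.asIdeal.comap (Subring.inclusion (le_sup_right : B ≤ A ⊔ B)) := by
      conv_rhs => rw [← comap_maximalIdeal_ofPrime (A ⊔ B) r.asIdeal]
      rfl
    rw [← ofPrime_congr A _ _ h2, ← ofPrime_congr B _ _ h3]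
    exact this
  tfae_have 2 → 1 := by
    intro h2 Q hA hB
    have hC : A ⊔ B ≤ Q.toSubring := sup_le hA hB
    exact h2 ⟨(IsLocalRing.maximalIdeal Q.toSubring).comap (Subring.inclusion hC), inferInstance⟩
  tfae_have 1 → 3 := by
    rintro h1 p q ⟨Q, hpQ, hqQ⟩
    obtain ⟨hA, hAeq⟩ := of_ofPrime_le A p.asIdeal Q hpQ
    obtain ⟨hB, hBeq⟩ := of_ofPrime_le B q.asIdeal Q hqQ
    rw [← ofPrime_congr A _ _ hAeq, ← ofPrime_congr B _ _ hBeq]
    exact h1 Q hA hB
  tfae_have 3 → 1 := by
    intro h3 Q hA hB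
    exact h3 ⟨(IsLocalRing.maximalIdeal Q.toSubring).comap (Subring.inclusion hA), inferInstance⟩
      ⟨(IsLocalRing.maximalIdeal Q.toSubring).comap (Subring.inclusion hB), inferInstance⟩
      ⟨Q, ofPrime_le A Q hA, ofPrime_le B Q hB⟩
  tfae_have 2 → 4 := by
    intro h2
    apply Set.Subset.antisymm
    · rintro D ⟨⟨p, hp⟩, ⟨q, hq⟩⟩
      simp only at hp hq
      -- `D` contains `A` and `B`
      have hAD : A ≤ D.toSubring := hp ▸ le_ofPrime A p.asIdeal
      have hBD : B ≤ D.toSubring := hq ▸ le_ofPrime B q.asIdeal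
      have hCD : A ⊔ B ≤ D.toSubring := sup_le hAD hBD
      let r : PrimeSpectrum ↥(A ⊔ B) :=
        ⟨(IsLocalRing.maximalIdeal D.toSubring).comap (Subring.inclusion hCD), inferInstance⟩
      refine ⟨r, ?_⟩
      simp only
      have hle : ofPrime (A ⊔ B) r.asIdeal ≤ D := ofPrime_le (A ⊔ B) D hCD
      apply eq_of_le_of_toSubring_le hle
      -- `D = A_p ⊆ C_r`
      intro x hx
      rw [← hp] at hx
      obtain ⟨a, s, hs, hxs⟩ := (mem_ofPrime_iff A p.asIdeal x).1 hx
      rw [mem_ofPrime_iff]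
      refine ⟨Subring.inclusion (le_sup_left : A ≤ A ⊔ B) a,
        Subring.inclusion (le_sup_left : A ≤ A ⊔ B) s, ?_, hxs⟩
      -- `s ∉ r`
      intro hsr
      have hsD : (Subring.inclusion hAD s) ∈ IsLocalRing.maximalIdeal D.toSubring := hsr
      obtain ⟨hA', hAeq⟩ := of_ofPrime_le A p.asIdeal D (hp ▸ le_refl _)
      apply hs
      rw [← hAeq]
      exact hsD
    · rintro D ⟨r, hr⟩
      simp only at hr
      refine ⟨⟨⟨r.asIdeal.comap (Subring.inclusion (le_sup_left : A ≤ A ⊔ B)), inferInstance⟩, ?_⟩,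
        ⟨⟨r.asIdeal.comap (Subring.inclusion (le_sup_right : B ≤ A ⊔ B)), inferInstance⟩, ?_⟩⟩
      · show ofPrime A (r.asIdeal.comap (Subring.inclusion (le_sup_left : A ≤ A ⊔ B))) = D
        rw [← hr]
        apply eq_of_le_of_toSubring_le (keyA r)
        -- `C_r ⊆ D' := A_{r ∩ A}`, which contains `A`, `B`, hence `C`
        set D' := ofPrime A (r.asIdeal.comap (Subring.inclusion (le_sup_left : A ≤ A ⊔ B))) with hD'
        have hAD : A ≤ D'.toSubring := le_ofPrime A _
        have hBD : B ≤ D'.toSubring := by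
          rw [hD', h2 r]; exact le_ofPrime B _
        have hCD : A ⊔ B ≤ D'.toSubring := sup_le hAD hBD
        intro x hx
        obtain ⟨c, s, hs, hxs⟩ := (mem_ofPrime_iff (A ⊔ B) r.asIdeal x).1 hx
        -- `s` is a unit in `C_r`, hence in `D'` by domination
        have hsu : IsUnit (Subring.inclusion (le_ofPrime (A ⊔ B) r.asIdeal) s) :=
          (isUnit_ofPrime_iff (A ⊔ B) r.asIdeal s).2 hs
        have hdom := keyA r
        obtain ⟨hle, hloc⟩ := hdom
        have hsu' : IsUnit (Subring.inclusion hCD s) := by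
          apply hloc.map_nonunit
          exact hsu
        obtain ⟨t, ht⟩ := hsu'.exists_right_inv
        have ht' : (s : R) * (t : R) = 1 := congrArg Subtype.val ht
        have hx' : x = (c : R) * (t : R) := by
          rw [← hxs, mul_assoc, ht', mul_one]
        rw [hx']
        exact Subring.mul_mem _ (hCD c.2) t.2
      · show ofPrime B (r.asIdeal.comap (Subring.inclusion (le_sup_right : B ≤ A ⊔ B))) = D
        rw [← hr]
        apply eq_of_le_of_toSubring_le (keyB r)
        set D' := ofPrime B (r.asIdeal.comap (Subring.inclusion (le_sup_right : B ≤ A ⊔ B))) with hD'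
        have hBD : B ≤ D'.toSubring := le_ofPrime B _
        have hAD : A ≤ D'.toSubring := by
          rw [hD', ← h2 r]; exact le_ofPrime A _
        have hCD : A ⊔ B ≤ D'.toSubring := sup_le hAD hBD
        intro x hx
        obtain ⟨c, s, hs, hxs⟩ := (mem_ofPrime_iff (A ⊔ B) r.asIdeal x).1 hx
        have hsu : IsUnit (Subring.inclusion (le_ofPrime (A ⊔ B) r.asIdeal) s) :=
          (isUnit_ofPrime_iff (A ⊔ B) r.asIdeal s).2 hs
        have hdom := keyB r
        obtain ⟨hle, hloc⟩ := hdom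
        have hsu' : IsUnit (Subring.inclusion hCD s) := by
          apply hloc.map_nonunit
          exact hsu
        obtain ⟨t, ht⟩ := hsu'.exists_right_inv
        have ht' : (s : R) * (t : R) = 1 := congrArg Subtype.val ht
        have hx' : x = (c : R) * (t : R) := by
          rw [← hxs, mul_assoc, ht', mul_one]
        rw [hx']
        exact Subring.mul_mem _ (hCD c.2) t.2
  tfae_have 4 → 2 := by
    intro h4 r
    have hmem : ofPrime (A ⊔ B) r.asIdeal ∈
        Set.range (fun r : PrimeSpectrum ↥(A ⊔ B) ↦ LocalSubring.ofPrime (A ⊔ B) r.asIdeal) :=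
      ⟨r, rfl⟩
    rw [← h4] at hmem
    obtain ⟨⟨p, hp⟩, ⟨q, hq⟩⟩ := hmem
    simp only at hp hq
    -- `p = r ∩ A`
    have hpA : ofPrime A p.asIdeal =
        ofPrime A (r.asIdeal.comap (Subring.inclusion (le_sup_left : A ≤ A ⊔ B))) := by
      obtain ⟨hA', hAeq⟩ := of_ofPrime_le A p.asIdeal (ofPrime (A ⊔ B) r.asIdeal) (hp ▸ le_refl _)
      apply ofPrime_congr
      rw [← hAeq]
      conv_rhs => rw [← comap_maximalIdeal_ofPrime (A ⊔ B) r.asIdeal]
      rfl
    have hqB : ofPrime B q.asIdeal =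
        ofPrime B (r.asIdeal.comap (Subring.inclusion (le_sup_right : B ≤ A ⊔ B))) := by
      obtain ⟨hB', hBeq⟩ := of_ofPrime_le B q.asIdeal (ofPrime (A ⊔ B) r.asIdeal) (hq ▸ le_refl _)
      apply ofPrime_congr
      rw [← hBeq]
      conv_rhs => rw [← comap_maximalIdeal_ofPrime (A ⊔ B) r.asIdeal]
      rfl
    rw [← hpA, ← hqB, hp, hq]
  tfae_finish


end Helpers


/-- Let A and B be subrings of a field R, C the subring generated by A and B, and for a subring E let
L(E) be the set of local subrings E_p of R, p a prime ideal of E. The following are equivalent: (i)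
for every local subring Q of R containing A and B, the localizations of A and of B at the traces of
the maximal ideal of Q coincide; (ii) for every prime ideal r of C the localizations of A and B at
the traces of r coincide; (iii) two members of L(A) and L(B) dominated by a common local subring of
R are equal; (iv) the intersection of L(A) and L(B) is L(C). -/
theorem result
    (R : Type u) [Field R] (A B : Subring R) :
    [ ∀ (Q : LocalSubring R) (hA : A ≤ Q.toSubring) (hB : B ≤ Q.toSubring),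
        LocalSubring.ofPrime A ((IsLocalRing.maximalIdeal Q.toSubring).comap (Subring.inclusion hA)) =
          LocalSubring.ofPrime B ((IsLocalRing.maximalIdeal Q.toSubring).comap (Subring.inclusion hB)),
      ∀ r : PrimeSpectrum ↥(A ⊔ B),
        LocalSubring.ofPrime A (r.asIdeal.comap (Subring.inclusion (le_sup_left : A ≤ A ⊔ B))) =
          LocalSubring.ofPrime B (r.asIdeal.comap (Subring.inclusion (le_sup_right : B ≤ A ⊔ B))),
      ∀ (p : PrimeSpectrum A) (q : PrimeSpectrum B),
        (∃ Q : LocalSubring R, LocalSubring.ofPrime A p.asIdeal ≤ Q ∧ LocalSubring.ofPrime B q.asIdeal ≤ Q) →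
          LocalSubring.ofPrime A p.asIdeal = LocalSubring.ofPrime B q.asIdeal,
      Set.range (fun p : PrimeSpectrum A ↦ LocalSubring.ofPrime A p.asIdeal) ∩
          Set.range (fun q : PrimeSpectrum B ↦ LocalSubring.ofPrime B q.asIdeal) =
        Set.range (fun r : PrimeSpectrum ↥(A ⊔ B) ↦ LocalSubring.ofPrime (A ⊔ B) r.asIdeal) ].TFAE := by
  exact main R A B

end Groth.Agent.S4345
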