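import Groth.Statements.S4347
import Mathlib
import Groth.Agent.S0543
import Groth.Agent.Lib.helper21.FlatCrit
import Groth.Agent.Lib.helper21.LocalCrit
import Groth.Agent.Lib.helper21.Mat225

set_option autoImplicit false
universe u
open AdicRing

namespace Groth.Agent.S4347

namespace S4347aux
open TensorProduct Function


/-- Lemma T. -/
theorem flat_quot_tensor {P R : Type u} [CommRing P] [CommRing R] [Algebra P R] (𝔠 : Ideal R)
    (hs : Surjective (algebraMap P (R ⧸ 𝔠))) (𝔟 : Ideal P) (h𝔠 : 𝔠 = 𝔟.map (algebraMap P R))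
    (X : Type u) [AddCommGroup X] [Module R X] [Module P X] [IsScalarTower P R X]
    [Module.Flat P X] : Module.Flat (R ⧸ 𝔠) ((R ⧸ 𝔠) ⊗[R] X) := by
  haveI : Module.Flat (R ⧸ 𝔠) ((R ⧸ 𝔠) ⊗[P] X) := inferInstance
  let θ : (R ⧸ 𝔠) ⊗[P] X →ₗ[R ⧸ 𝔠] (R ⧸ 𝔠) ⊗[R] X :=
    TensorProduct.mapOfCompatibleSMul R P (R ⧸ 𝔠) (R ⧸ 𝔠) X
  have hθ : ∀ q x, θ (q ⊗ₜ[P] x) = q ⊗ₜ[R] x := fun q x => rfl
  have hform : ∀ t : (R ⧸ 𝔠) ⊗[P] X, ∃ x : X, t = (1 : R ⧸ 𝔠) ⊗ₜ[P] x := by
    intro t
    induction t using TensorProduct.induction_on with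
    | zero => exact ⟨0, (tmul_zero _ _).symm⟩
    | add a b ha hb =>
      obtain ⟨x, rfl⟩ := ha
      obtain ⟨y, rfl⟩ := hb
      exact ⟨x + y, (tmul_add _ _ _).symm⟩
    | tmul q x =>
      obtain ⟨p, rfl⟩ := hs q
      refine ⟨p • x, ?_⟩
      rw [tmul_smul, smul_tmul', Algebra.algebraMap_eq_smul_one]
  have hbij : Bijective θ := by
    constructor
    · rw [injective_iff_map_eq_zero]
      intro t ht
      obtain ⟨x, rfl⟩ := hform t
      rw [hθ, Groth.Agent.H21.one_tmul_eq_zero_iff, h𝔠] at ht
      have hx := Groth.Agent.H21.mem_smul_of_mem_map_smul (R := P) (S := R) 𝔟 ht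
      refine Submodule.smul_induction_on
        (p := fun x : X => (1 : R ⧸ 𝔠) ⊗ₜ[P] x = 0) hx ?_ ?_
      · intro b hb y _
        rw [tmul_smul, smul_tmul', Algebra.smul_def, mul_one]
        have : algebraMap P (R ⧸ 𝔠) b = 0 := by
          rw [IsScalarTower.algebraMap_apply P R (R ⧸ 𝔠), Ideal.Quotient.algebraMap_eq,
            Ideal.Quotient.eq_zero_iff_mem, h𝔠]
          exact Ideal.mem_map_of_mem _ hb
        rw [this, zero_tmul]
      · intro y z hy hz
        rw [tmul_add, hy, hz, add_zero]
    · intro t
      induction t using TensorProduct.induction_on with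
      | zero => exact ⟨0, map_zero _⟩
      | add a b ha hb =>
        obtain ⟨x, rfl⟩ := ha
        obtain ⟨y, rfl⟩ := hb
        exact ⟨x + y, map_add _ _ _⟩
      | tmul q x => exact ⟨q ⊗ₜ[P] x, rfl⟩
  exact Module.Flat.of_linearEquiv (LinearEquiv.ofBijective θ hbij).symm


theorem mem_map_pow_of_evalₐ_eq_zero {R : Type u} [CommRing R] (I : Ideal R) (hI : I.FG) (n : ℕ)
    (x : AdicCompletion I R) (hx : AdicCompletion.evalₐ I n x = 0) :
    x ∈ (I.map (algebraMap R (AdicCompletion I R))) ^ n := by
  have h1 : AdicCompletion.eval I R n x = 0 := by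
    rw [← AdicCompletion.factor_evalₐ_eq_eval I x (le_of_eq (Ideal.mul_top _).symm), hx, map_zero]
  have h2 : x ∈ (I ^ n • ⊤ : Submodule R (AdicCompletion I R)) := by
    rw [AdicCompletion.pow_smul_top_eq_ker_eval hI]
    exact h1
  rw [Ideal.smul_top_eq_map] at h2
  rw [← Ideal.map_pow]
  exact h2

theorem surjective_algebraMap_quot {R : Type u} [CommRing R] (I : Ideal R) (hI : I.FG) (n : ℕ) :
    Surjective (algebraMap R
      (AdicCompletion I R ⧸ (I.map (algebraMap R (AdicCompletion I R))) ^ n)) := by
  intro y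
  obtain ⟨ŷ, rfl⟩ := Ideal.Quotient.mk_surjective y
  obtain ⟨b, hb⟩ := Ideal.Quotient.mk_surjective (AdicCompletion.evalₐ I n ŷ)
  refine ⟨b, ?_⟩
  rw [IsScalarTower.algebraMap_apply R (AdicCompletion I R), Ideal.Quotient.algebraMap_eq,
    Ideal.Quotient.eq]
  apply mem_map_pow_of_evalₐ_eq_zero I hI n
  rw [map_sub, AdicCompletion.algebraMap_apply, AdicCompletion.evalₐ_of, Algebra.algebraMap_self,
    RingHom.id_apply, hb, sub_self]

theorem evalₐ_complMap {S T : Type u} [CommRing S] [CommRing T] (I : Ideal S) (K : Ideal T)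
    (g : S →+* T) (h : I.map g ≤ K) (n : ℕ) (x : AdicCompletion I S) :
    AdicCompletion.evalₐ K n (FSch.complMap I K g h x) =
      Ideal.quotientMap (K ^ n) g (FSch.pow_le_comap_pow_of_map_le I K g h n)
        (AdicCompletion.evalₐ I n x) := by
  unfold FSch.complMap
  rw [AdicCompletion.evalₐ_liftRingHom]
  · rfl
  · intro m n hle
    apply RingHom.ext
    intro x
    obtain ⟨y, rfl⟩ := AdicCompletion.mk_surjective I S x
    simp only [RingHom.coe_comp, Function.comp_apply, AlgHom.toRingHom_eq_coe,
      AlgHom.coe_toRingHom, AdicCompletion.evalₐ_mk, Ideal.quotientMap_mk,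
      Ideal.Quotient.factorPow, Ideal.Quotient.factor_mk]
    rw [Ideal.Quotient.eq]
    have hy := y.2 hle
    rw [SModEq.sub_mem] at hy
    simp only [smul_eq_mul, Ideal.mul_top] at hy
    rw [← map_sub]
    have hy' : (y : ℕ → S) n - (y : ℕ → S) m ∈ I ^ m := by
      rw [← neg_sub]; exact (I ^ m).neg_mem hy
    exact FSch.pow_le_comap_pow_of_map_le I K g h m hy'

theorem main {B' B : Type u} [CommRing B'] [CommRing B] [IsNoetherianRing B']
    [IsNoetherianRing B] (I' : Ideal B') (K : Ideal B) (g : B' →+* B) (hflat : g.Flat)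
    (hmap : I'.map g = K) (h : I'.map g ≤ K) : (FSch.complMap I' K g h).Flat := by
  obtain ⟨ĝ, hĝ⟩ : ∃ ĝ, ĝ = FSch.complMap I' K g h := ⟨_, rfl⟩
  rw [← hĝ]
  letI algg : Algebra B' B := g.toAlgebra
  haveI : Module.Flat B' B := hflat
  letI algĝ : Algebra (AdicCompletion I' B') (AdicCompletion K B) := ĝ.toAlgebra
  have hcomm : ∀ b, ĝ (AdicCompletion.of I' B' b) = AdicCompletion.of K B (g b) := by
    intro b
    apply AdicCompletion.ext_evalₐ
    intro n
    rw [hĝ]
    rw [evalₐ_complMap]
    simp
  haveI tower : IsScalarTower B' (AdicCompletion I' B') (AdicCompletion K B) :=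
    IsScalarTower.of_algebraMap_eq (fun b => (hcomm b).symm)
  haveI : IsScalarTower B' B (AdicCompletion K B) := IsScalarTower.of_algebraMap_eq (fun b => rfl)
  haveI : Module.Flat B' (AdicCompletion K B) := Module.Flat.trans B' B (AdicCompletion K B)
  haveI : IsNoetherianRing (AdicCompletion I' B') := Groth.Agent.S0543.result B' I'
  haveI : IsNoetherianRing (AdicCompletion K B) := Groth.Agent.S0543.result B K
  have fgI : I'.FG := (isNoetherianRing_iff_ideal_fg B').mp inferInstance I'
  have fgK : K.FG := (isNoetherianRing_iff_ideal_fg B).mp inferInstance K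
  show Module.Flat (AdicCompletion I' B') (AdicCompletion K B)
  obtain ⟨𝔞, h𝔞⟩ : ∃ 𝔞 : Ideal (AdicCompletion I' B'),
    𝔞 = I'.map (algebraMap B' (AdicCompletion I' B')) := ⟨_, rfl⟩
  have hrad : 𝔞.map (algebraMap (AdicCompletion I' B') (AdicCompletion K B)) ≤
      Ideal.jacobson ⊥ := by
    have h1 : 𝔞.map (algebraMap (AdicCompletion I' B') (AdicCompletion K B)) =
        K.map (algebraMap B (AdicCompletion K B)) := by
      have hc : (algebraMap (AdicCompletion I' B') (AdicCompletion K B)).comp
          (algebraMap B' (AdicCompletion I' B')) =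
          (algebraMap B (AdicCompletion K B)).comp g := RingHom.ext hcomm
      rw [h𝔞, Ideal.map_map, hc, ← Ideal.map_map, hmap]
    rw [h1]
    haveI := AdicCompletion.isAdicComplete_self K fgK
    exact IsAdicComplete.le_jacobson_bot _
  refine Groth.Agent.H21.flat_of_flat_baseChange_quot_pow 𝔞 hrad (AdicCompletion K B) ?_
  intro n hn
  rw [h𝔞]
  exact flat_quot_tensor (P := B') (R := AdicCompletion I' B')
    ((I'.map (algebraMap B' (AdicCompletion I' B'))) ^ n)
    (surjective_algebraMap_quot I' fgI n) (I' ^ n) (by rw [Ideal.map_pow]) (AdicCompletion K B)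

end S4347aux

/-- The completed ring of fractions of A with denominators in a multiplicative subset being the J-adic
completion of the localization of A at that subset: Let A be a Noetherian ring with the J-adic
topology and S' a multiplicative subset contained in the multiplicative subset S. Then the canonical
map from the completed ring of fractions of A with denominators in S' to the one with denominators
in S is flat. (The published statement assumes A adic, i.e. also separated and complete; that is not
needed for this assertion.) -/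
theorem result
    (A : Type u) [CommRing A] [IsNoetherianRing A] (J : Ideal A) (S' S : Submonoid A) (hS : S' ≤ S)
    (g : Localization S' →+* Localization S)
    (hg : g.comp (algebraMap A (Localization S')) = algebraMap A (Localization S))
    (hJ : (J.map (algebraMap A (Localization S'))).map g ≤ J.map (algebraMap A (Localization S))) :
    (FSch.complMap (J.map (algebraMap A (Localization S'))) (J.map (algebraMap A (Localization S)))
      g hJ).Flat := by
  haveI : IsNoetherianRing (Localization S') := IsLocalization.isNoetherianRing S' _ inferInstance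
  haveI : IsNoetherianRing (Localization S) := IsLocalization.isNoetherianRing S _ inferInstance
  refine S4347aux.main _ _ g ?_ ?_ hJ
  · letI := g.toAlgebra
    haveI : IsScalarTower A (Localization S') (Localization S) :=
      IsScalarTower.of_algebraMap_eq (fun a => (RingHom.congr_fun hg a).symm)
    haveI := IsLocalization.isLocalization_of_submonoid_le (Localization S') (Localization S) S' S hS
    exact IsLocalization.flat (Localization S) (S.map (algebraMap A (Localization S')))
  · rw [Ideal.map_map, hg]

end Groth.Agent.S4347
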