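import Groth.Statements.S4348
import Groth.Agent.Lib.helper9.PushQCQS
import Groth.Agent.Lib.helper9.QcohLocal

set_option autoImplicit false
universe u
open QCohSup

namespace Groth.Agent.S4348

open CategoryTheory CategoryTheory.Limits AlgebraicGeometry in
/-- the pullback of a monomorphism `a` along `η` is the kernel of `η ≫ cokernel.π a`. -/
noncomputable def pullbackIsoKernel {X : Scheme.{u}} {A B F : X.Modules} (a : A ⟶ B) [Mono a]
    (η : F ⟶ B) : pullback a η ≅ kernel (η ≫ cokernel.π a) where
  hom := kernel.lift _ (pullback.snd a η) (by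
    rw [← Category.assoc, ← pullback.condition, Category.assoc, cokernel.condition, comp_zero])
  inv := pullback.lift (Abelian.monoLift a (kernel.ι (η ≫ cokernel.π a) ≫ η)
      (by rw [Category.assoc, kernel.condition])) (kernel.ι _) (by rw [Abelian.monoLift_comp])
  hom_inv_id := by
    apply pullback.hom_ext
    · rw [Category.assoc, pullback.lift_fst, Category.id_comp, ← cancel_mono a, Category.assoc,
        Abelian.monoLift_comp, ← Category.assoc, kernel.lift_ι, pullback.condition]
    · rw [Category.assoc, pullback.lift_snd, kernel.lift_ι, Category.id_comp]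
  inv_hom_id := by
    rw [← cancel_mono (kernel.ι _), Category.assoc, kernel.lift_ι, pullback.lift_snd,
      Category.id_comp]

open CategoryTheory CategoryTheory.Limits AlgebraicGeometry in
set_option backward.isDefEq.respectTransparency false in
lemma main {X : Scheme.{u}} (U : X.Opens) [QuasiCompact U.ι] (F : X.Modules) [F.IsQuasicoherent]
    (G : (U : Scheme.{u}).Modules) [G.IsQuasicoherent]
    (i : G ⟶ (Scheme.Modules.pullback U.ι).obj F) [Mono i] :
    (pullback ((Scheme.Modules.pushforward U.ι).map i)
      ((Scheme.Modules.pullbackPushforwardAdjunction U.ι).unit.app F)).IsQuasicoherent := by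
  haveI h1 : ((Scheme.Modules.restrictFunctor U.ι).obj F).IsQuasicoherent :=
    inferInstanceAs (F.restrict U.ι).IsQuasicoherent
  haveI h2 : ((Scheme.Modules.pullback U.ι).obj F).IsQuasicoherent :=
    (SheafOfModules.isQuasicoherent (U : Scheme.{u}).ringCatSheaf).prop_of_iso
      ((Scheme.Modules.restrictFunctorIsoPullback U.ι).app F) h1
  haveI h3 : ((Scheme.Modules.pushforward U.ι).obj G).IsQuasicoherent :=
    Groth.Agent.Lib.helper9.PushQCQS.isQuasicoherent_pushforward_qcqs U.ι G
  haveI h4 : ((Scheme.Modules.pushforward U.ι).obj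
      ((Scheme.Modules.pullback U.ι).obj F)).IsQuasicoherent :=
    Groth.Agent.Lib.helper9.PushQCQS.isQuasicoherent_pushforward_qcqs U.ι _
  let a : (Scheme.Modules.pushforward U.ι).obj G ⟶
      (Scheme.Modules.pushforward U.ι).obj ((Scheme.Modules.pullback U.ι).obj F) :=
    (Scheme.Modules.pushforward U.ι).map i
  haveI : Mono a := inferInstanceAs (Mono ((Scheme.Modules.pushforward U.ι).map i))
  let η : F ⟶ (Scheme.Modules.pushforward U.ι).obj ((Scheme.Modules.pullback U.ι).obj F) :=
    (Scheme.Modules.pullbackPushforwardAdjunction U.ι).unit.app F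
  haveI h5 : (cokernel a).IsQuasicoherent :=
    Groth.Agent.Lib.helper9.QcohLocal.isQuasicoherent_cokernel a
  haveI h6 : (kernel (η ≫ cokernel.π a)).IsQuasicoherent :=
    Groth.Agent.Lib.helper9.QcohLocal.isQuasicoherent_kernel _
  exact (SheafOfModules.isQuasicoherent X.ringCatSheaf).prop_of_iso
    (pullbackIsoKernel a η).symm h6


open AlgebraicGeometry in
open CategoryTheory in
open CategoryTheory.Limits in
/-- Let X be a scheme and U an open subscheme such that the inclusion j : U -> X is quasi-compact. For a
quasi-coherent O_X-module F and a quasi-coherent submodule G of F|U, the canonical extension of G to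
X (the preimage of j_*(G) under F -> j_*(F|U), here the fibre product in the category of
O_X-modules) is quasi-coherent. -/
theorem result
    {X : Scheme.{u}} (U : X.Opens) [QuasiCompact U.ι] (F : X.Modules) [Coh.IsQCoh F]
    (G : (U : Scheme.{u}).Modules) [Coh.IsQCoh G]
    (i : G ⟶ (Scheme.Modules.pullback U.ι).obj F) [Mono i] :
    Coh.IsQCoh (pullback ((Scheme.Modules.pushforward U.ι).map i)
      ((Scheme.Modules.pullbackPushforwardAdjunction U.ι).unit.app F)) := by
  haveI : F.IsQuasicoherent := ‹Coh.IsQCoh F›
  haveI : G.IsQuasicoherent := ‹Coh.IsQCoh G›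
  exact main U F G i

end Groth.Agent.S4348
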