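import Groth.Statements.S4349
import Mathlib
import Groth.Agent.Lib.helper4.RatFunLemmas

set_option autoImplicit false
universe u
open RatFun

namespace Groth.Agent.S4349

open AlgebraicGeometry in
/-- Second assertion (in the form: sections over a dense open inject into the ring of rational
functions). Let X be a reduced scheme and V a dense open subset of X. The canonical map from the
sections of O_X over V to the ring R(X) of rational functions on X is injective. (The published
statement also assumes X locally integral or locally Noetherian; that hypothesis serves the
quasi-coherence of the sheaf of rational functions and is not needed here.) -/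
theorem result (X : Scheme.{u}) [IsReduced X]
    (V : X.Opens) (hV : Dense (V : Set X)) :
    Function.Injective (RatFun.toRing X V hV) := by
  rw [injective_iff_map_eq_zero]
  intro s hs
  have hs' : RatFun.toRing X V hV s = RatFun.toRing X V hV 0 := by rw [hs, map_zero]
  obtain ⟨W, hW, hWV, hres⟩ := H4RatFun.exists_res_eq_of_toRing_eq X hV s 0 hs'
  rw [map_zero] at hres
  have h1 : X.basicOpen (X.presheaf.map (CategoryTheory.homOfLE hWV).op s) = ⊥ := by
    rw [hres]; exact Scheme.basicOpen_zero X W
  rw [Scheme.basicOpen_res] at h1
  have h2 : X.basicOpen s = ⊥ := by
    by_contra hne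
    have hne' : ((X.basicOpen s : X.Opens) : Set X).Nonempty := by
      rw [Set.nonempty_iff_ne_empty]
      intro h
      exact hne (TopologicalSpace.Opens.ext h)
    obtain ⟨x, hxs, hxW⟩ := hW.inter_open_nonempty _ (X.basicOpen s).isOpen hne'
    have : x ∈ W ⊓ X.basicOpen s := ⟨hxW, hxs⟩
    rw [h1] at this
    exact this
  exact (basicOpen_eq_bot_iff s).1 h2

end Groth.Agent.S4349
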