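import Groth.Statements.S4362
import Mathlib

set_option autoImplicit false
universe u
open FinCond

namespace Groth.Agent.S4362

open AlgebraicGeometry in
open CategoryTheory in
/-- If X is a Noetherian scheme, every increasing sequence of quasi-coherent sheaves of ideals of the
structure sheaf is eventually constant; equivalently the ordered set of quasi-coherent ideal sheaves
of X is well-founded for the reverse order. (On a locally Noetherian scheme quasi-coherent and
coherent ideal sheaves coincide.) -/
theorem result
    (X : Scheme.{u}) [IsNoetherian X] : WellFoundedGT X.IdealSheafData := by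
  -- a finite affine cover
  obtain ⟨s, hs⟩ := isCompact_univ.elim_finite_subcover (fun U : X.affineOpens => (U.1 : Set X))
    (fun U => U.1.isOpen) (by
      intro x _
      have : x ∈ (⨆ U : X.affineOpens, U.1 : X.Opens) := by
        rw [iSup_affineOpens_eq_top X]; trivial
      obtain ⟨U, hU⟩ := TopologicalSpace.Opens.mem_iSup.mp this
      exact Set.mem_iUnion.mpr ⟨U, hU⟩)
  have hcov : ⨆ i : s, (i.1 : X.affineOpens).1 = ⊤ := by
    rw [eq_top_iff]
    intro x _
    have := hs (Set.mem_univ x)
    simp only [Set.mem_iUnion, exists_prop] at this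
    obtain ⟨U, hU, hxU⟩ := this
    exact TopologicalSpace.Opens.mem_iSup.mpr ⟨⟨U, hU⟩, hxU⟩
  have hN : ∀ i : s, IsNoetherianRing Γ(X, (i.1 : X.affineOpens).1) := fun i =>
    IsLocallyNoetherian.component_noetherian i.1
  let φ : X.IdealSheafData → ∀ i : s, (Ideal Γ(X, (i.1 : X.affineOpens).1))ᵒᵈ :=
    fun I i => OrderDual.toDual (I.ideal i.1)
  have hanti : Antitone φ := fun I J hIJ i => OrderDual.toDual_le_toDual.mpr (hIJ i.1)
  have hinj : Function.Injective φ := by
    intro I J hIJ
    refine Scheme.IdealSheafData.ext_of_iSup_eq_top (fun i : s => i.1) hcov fun i => ?_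
    exact OrderDual.toDual.injective (congrFun hIJ i)
  have hsa : StrictAnti φ := hanti.strictAnti_of_injective hinj
  exact hsa.wellFoundedGT

end Groth.Agent.S4362
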