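import Groth.Statements.S4363
import Groth.Agent.Lib.helper11.LimSep

set_option autoImplicit false
universe u v
open RedSep

namespace Groth.Agent.S4363

open AlgebraicGeometry CategoryTheory in
lemma closure_transport {A B C A' B' C' : Type u} [CommRing A] [CommRing B] [CommRing C]
    [CommRing A'] [CommRing B'] [CommRing C']
    (a : A →+* C) (b : B →+* C) (a' : A' →+* C') (b' : B' →+* C') (φ : C →+* C')
    (u' : A →+* A') (v' : B →+* B') (hφ : Function.Surjective φ)
    (ha : φ.comp a = a'.comp u') (hb : φ.comp b = b'.comp v')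
    (h : Subring.closure (Set.range a ∪ Set.range b) = ⊤) :
    Subring.closure (Set.range a' ∪ Set.range b') = ⊤ := by
  rw [eq_top_iff]
  intro z _
  obtain ⟨w, rfl⟩ := hφ z
  have hle : Subring.closure (Set.range a ∪ Set.range b) ≤
      (Subring.closure (Set.range a' ∪ Set.range b')).comap φ := by
    refine Subring.closure_le.mpr ?_
    rintro _ (⟨x, rfl⟩ | ⟨y, rfl⟩)
    · change φ (a x) ∈ Subring.closure (Set.range a' ∪ Set.range b')
      have := congrArg (fun g => g x) ha
      simp only [RingHom.comp_apply] at this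
      rw [this]
      exact Subring.subset_closure (Or.inl ⟨_, rfl⟩)
    · change φ (b y) ∈ Subring.closure (Set.range a' ∪ Set.range b')
      have := congrArg (fun g => g y) hb
      simp only [RingHom.comp_apply] at this
      rw [this]
      exact Subring.subset_closure (Or.inr ⟨_, rfl⟩)
  exact hle (by rw [h]; trivial)

set_option backward.defeqAttrib.useBackward true in
set_option backward.isDefEq.respectTransparency false in
open AlgebraicGeometry CategoryTheory in
lemma sq_topIso {X : Scheme.{u}} {W V : X.Opens} (e : W ≤ V) :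
    (X.homOfLE e).appTop ≫ W.topIso.hom = V.topIso.hom ≫ X.presheaf.map (homOfLE e).op := by
  rw [Scheme.homOfLE_appTop]
  simp only [Scheme.Opens.topIso_hom]
  erw [← Functor.map_comp, ← Functor.map_comp]
  rfl

open AlgebraicGeometry in
open CategoryTheory in
/-- Let Y be an affine scheme, f : X -> Y a morphism and (U i) a cover of X by affine open subschemes.
Then f is separated if and only if, for every pair of indices i, j, the intersection of U i and U j
is an affine open and its ring of sections is generated, as a ring, by the images of the rings of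
sections of U i and of U j under the restriction maps. -/
theorem result
    {X Y : Scheme.{u}} [IsAffine Y] (f : X ⟶ Y) {ι : Type v} (U : ι → X.Opens)
    (hU : ∀ i, IsAffineOpen (U i)) (hcov : ⨆ i, U i = ⊤) :
    IsSeparated f ↔ ∀ i j, IsAffineOpen (U i ⊓ U j) ∧
      Subring.closure (Set.range (X.presheaf.map (homOfLE (inf_le_left : U i ⊓ U j ≤ U i)).op).hom ∪
        Set.range (X.presheaf.map (homOfLE (inf_le_right : U i ⊓ U j ≤ U j)).op).hom) = ⊤ := by
  have hUaff : ∀ i, IsAffine (U i).toScheme := hU
  constructor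
  · intro hf i j
    obtain ⟨haff, hgen⟩ := Groth.Agent.Lib.helper11.LimSep.gen_of_isSeparated f (U i).ι (U j).ι
      (X.homOfLE inf_le_left) (X.homOfLE inf_le_right) (isPullback_opens_inf (U i) (U j))
    refine ⟨haff, ?_⟩
    refine closure_transport (X.homOfLE (inf_le_left : U i ⊓ U j ≤ U i)).appTop.hom
      (X.homOfLE (inf_le_right : U i ⊓ U j ≤ U j)).appTop.hom _ _
      (U i ⊓ U j).topIso.hom.hom (U i).topIso.hom.hom (U j).topIso.hom.hom ?_ ?_ ?_ hgen
    · exact (ConcreteCategory.bijective_of_isIso (U i ⊓ U j).topIso.hom).2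
    · have := congrArg CommRingCat.Hom.hom (sq_topIso (inf_le_left : U i ⊓ U j ≤ U i))
      simpa only [CommRingCat.hom_comp] using this
    · have := congrArg CommRingCat.Hom.hom (sq_topIso (inf_le_right : U i ⊓ U j ≤ U j))
      simpa only [CommRingCat.hom_comp] using this
  · intro H
    have hcov' : TopologicalSpace.IsOpenCover (fun a : ↥(Set.range U) => (a.1 : X.Opens)) := by
      show ⨆ a : ↥(Set.range U), (a.1 : X.Opens) = ⊤
      rw [eq_top_iff, ← hcov]
      exact iSup_le fun i => le_iSup (fun a : ↥(Set.range U) => (a.1 : X.Opens)) ⟨U i, i, rfl⟩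
    have haff' : ∀ a : ↥(Set.range U), IsAffine (a.1 : X.Opens).toScheme := by
      rintro ⟨_, i, rfl⟩; exact hU i
    refine Groth.Agent.Lib.helper11.LimSep.isSeparated_of_gen f
      (fun a : ↥(Set.range U) => (a.1 : X.Opens)) hcov' ?_
    rintro ⟨_, i, rfl⟩ ⟨_, j, rfl⟩
    obtain ⟨haff, hgen⟩ := H i j
    refine ⟨_, X.homOfLE inf_le_left, X.homOfLE inf_le_right, isPullback_opens_inf _ _, haff, ?_⟩
    refine closure_transport _ _ (X.homOfLE (inf_le_left : U i ⊓ U j ≤ U i)).appTop.hom
      (X.homOfLE (inf_le_right : U i ⊓ U j ≤ U j)).appTop.hom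
      (U i ⊓ U j).topIso.inv.hom (U i).topIso.inv.hom (U j).topIso.inv.hom ?_ ?_ ?_ hgen
    · exact (ConcreteCategory.bijective_of_isIso (U i ⊓ U j).topIso.inv).2
    · have h1 : X.presheaf.map (homOfLE (inf_le_left : U i ⊓ U j ≤ U i)).op ≫
          (U i ⊓ U j).topIso.inv = (U i).topIso.inv ≫
          (X.homOfLE (inf_le_left : U i ⊓ U j ≤ U i)).appTop := by
        rw [Iso.comp_inv_eq, Category.assoc, sq_topIso, Iso.inv_hom_id_assoc]
      have := congrArg CommRingCat.Hom.hom h1
      simpa only [CommRingCat.hom_comp] using this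
    · have h1 : X.presheaf.map (homOfLE (inf_le_right : U i ⊓ U j ≤ U j)).op ≫
          (U i ⊓ U j).topIso.inv = (U j).topIso.inv ≫
          (X.homOfLE (inf_le_right : U i ⊓ U j ≤ U j)).appTop := by
        rw [Iso.comp_inv_eq, Category.assoc, sq_topIso, Iso.inv_hom_id_assoc]
      have := congrArg CommRingCat.Hom.hom h1
      simpa only [CommRingCat.hom_comp] using this

end Groth.Agent.S4363
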