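import Groth.Statements.S4365
import Mathlib

set_option autoImplicit false
universe u
open FinCond

namespace Groth.Agent.S4365

section Aux
open CategoryTheory CategoryTheory.Limits AlgebraicGeometry TensorProduct

/-- A finitely generated field extension embeds in an algebraically closed extension of infinite
transcendence degree. -/
theorem exists_algHom (K L Ω : Type u) [Field K] [Field L] [Field Ω] [IsAlgClosed Ω] [Algebra K L]
    [Algebra K Ω] [Algebra.EssFiniteType K L] (t : ℕ → Ω) (ht : AlgebraicIndependent K t) :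
    Nonempty (L →ₐ[K] Ω) := by
  obtain ⟨s, hs⟩ := exists_isTranscendenceBasis K L
  haveI : Finite s := finite_of_isTranscendenceBasis hs
  obtain ⟨n, ⟨e⟩⟩ := Finite.exists_equiv_fin s
  have hx : AlgebraicIndependent K (fun i : s => t (e i)) :=
    ht.comp (fun i : s => ((e i : Fin n) : ℕ)) (fun a b hab => e.injective (Fin.ext hab))
  have hb : AlgebraicIndependent K ((↑) : s → L) := hs.1
  let φ₀ : IntermediateField.adjoin K (Set.range ((↑) : s → L)) →ₐ[K] Ω :=
    (IsFractionRing.liftAlgHom (algebraicIndependent_iff_injective_aeval.2 hx)).comp hb.reprField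
  letI : Algebra (IntermediateField.adjoin K (Set.range ((↑) : s → L))) Ω := φ₀.toRingHom.toAlgebra
  haveI : IsScalarTower K (IntermediateField.adjoin K (Set.range ((↑) : s → L))) Ω :=
    IsScalarTower.of_algebraMap_eq (fun x => (φ₀.commutes x).symm)
  haveI : Algebra.IsAlgebraic (IntermediateField.adjoin K (Set.range ((↑) : s → L))) L :=
    hs.isAlgebraic_field
  exact ⟨(IsAlgClosed.lift (R := IntermediateField.adjoin K (Set.range ((↑) : s → L))) (S := L)
    (M := Ω)).restrictScalars K⟩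

/-- Nullstellensatz: a nonempty scheme locally of finite type over an algebraically closed field
has a rational point. -/
theorem exists_section (Ω : Type u) [Field Ω] [IsAlgClosed Ω] {P : Scheme.{u}}
    (q : P ⟶ Spec (CommRingCat.of Ω)) [LocallyOfFiniteType q] [Nonempty P] :
    ∃ s : Spec (CommRingCat.of Ω) ⟶ P, s ≫ q = 𝟙 _ := by
  obtain ⟨p₀⟩ := ‹Nonempty P›
  obtain ⟨_, ⟨U, hU : IsAffineOpen U, rfl⟩, hpU, -⟩ :=
    (P.isBasis_affineOpens).exists_subset_of_mem_open (Set.mem_univ p₀) isOpen_univ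
  obtain ⟨φ, hφ⟩ := Spec.map_surjective (hU.fromSpec ≫ q)
  have hft : φ.hom.FiniteType := by
    haveI : LocallyOfFiniteType (hU.fromSpec ≫ q) := inferInstance
    rw [← hφ] at this
    exact (HasRingHomProperty.Spec_iff (P := @LocallyOfFiniteType)).1 this
  letI : Algebra Ω Γ(P, U) := φ.hom.toAlgebra
  haveI : Algebra.FiniteType Ω Γ(P, U) := hft
  haveI : Nontrivial Γ(P, U) := by
    have := hU.primeIdealOf ⟨p₀, hpU⟩
    exact (PrimeSpectrum.nonempty_iff_nontrivial.1 ⟨this⟩)
  obtain ⟨𝔪, h𝔪⟩ := Ideal.exists_maximal Γ(P, U)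
  letI : Field (Γ(P, U) ⧸ 𝔪) := Ideal.Quotient.field 𝔪
  haveI : Module.Finite Ω (Γ(P, U) ⧸ 𝔪) := finite_of_finite_type_of_isJacobsonRing Ω _
  have hbij : Function.Bijective (algebraMap Ω (Γ(P, U) ⧸ 𝔪)) :=
    IsAlgClosed.algebraMap_bijective_of_isIntegral
  let e : Ω ≃+* (Γ(P, U) ⧸ 𝔪) := RingEquiv.ofBijective (algebraMap Ω (Γ(P, U) ⧸ 𝔪)) hbij
  let ρ : Γ(P, U) →+* Ω := e.symm.toRingHom.comp (Ideal.Quotient.mk 𝔪)
  refine ⟨Spec.map (CommRingCat.ofHom ρ) ≫ hU.fromSpec, ?_⟩
  rw [Category.assoc, ← hφ, ← Spec.map_comp]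
  have : φ ≫ CommRingCat.ofHom ρ = 𝟙 _ := by
    ext a
    show e.symm (Ideal.Quotient.mk 𝔪 (φ.hom a)) = a
    rw [RingEquiv.symm_apply_eq]
    rfl
  rw [this, Spec.map_id]

theorem surj_of_lift (K Ω : Type u) [Field K] [Field Ω] [IsAlgClosed Ω] [Algebra K Ω]
    (t : ℕ → Ω) (ht : AlgebraicIndependent K t)
    {X Y : Scheme.{u}} (pY : Y ⟶ Spec (CommRingCat.of K))
    [LocallyOfFiniteType pY] (f : X ⟶ Y)
    (h : ∀ y : Spec (CommRingCat.of Ω) ⟶ Y,
      y ≫ pY = Spec.map (CommRingCat.ofHom (algebraMap K Ω)) →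
        ∃ x : Spec (CommRingCat.of Ω) ⟶ X, x ≫ f = y) : Surjective f := by
  rw [surjective_iff]
  intro y₀
  obtain ⟨_, ⟨U, hU : IsAffineOpen U, rfl⟩, hyU, -⟩ :=
    (Y.isBasis_affineOpens).exists_subset_of_mem_open (Set.mem_univ y₀) isOpen_univ
  obtain ⟨φ, hφ⟩ := Spec.map_surjective (hU.fromSpec ≫ pY)
  have hft : φ.hom.FiniteType := by
    haveI : LocallyOfFiniteType (hU.fromSpec ≫ pY) := inferInstance
    rw [← hφ] at this
    exact (HasRingHomProperty.Spec_iff (P := @LocallyOfFiniteType)).1 this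
  letI : Algebra K Γ(Y, U) := φ.hom.toAlgebra
  haveI : Algebra.FiniteType K Γ(Y, U) := hft
  set 𝔭 := hU.primeIdealOf ⟨y₀, hyU⟩ with h𝔭
  letI : Algebra K 𝔭.asIdeal.ResidueField :=
    ((algebraMap Γ(Y, U) 𝔭.asIdeal.ResidueField).comp (algebraMap K Γ(Y, U))).toAlgebra
  haveI : IsScalarTower K Γ(Y, U) 𝔭.asIdeal.ResidueField := .of_algebraMap_eq fun _ => rfl
  haveI : Algebra.EssFiniteType K 𝔭.asIdeal.ResidueField := .comp K Γ(Y, U) _
  obtain ⟨σ⟩ := exists_algHom K 𝔭.asIdeal.ResidueField Ω t ht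
  let ρ : Γ(Y, U) →+* Ω := σ.toRingHom.comp (algebraMap Γ(Y, U) 𝔭.asIdeal.ResidueField)
  let y : Spec (CommRingCat.of Ω) ⟶ Y := Spec.map (CommRingCat.ofHom ρ) ≫ hU.fromSpec
  have hy : y ≫ pY = Spec.map (CommRingCat.ofHom (algebraMap K Ω)) := by
    rw [Category.assoc, ← hφ, ← Spec.map_comp]
    congr 1
    ext a
    show σ (algebraMap Γ(Y, U) 𝔭.asIdeal.ResidueField (φ.hom a)) = algebraMap K Ω a
    exact σ.commutes a
  obtain ⟨x, hx⟩ := h y hy
  let pt : Spec (CommRingCat.of Ω) := ⟨⊥, Ideal.isPrime_bot⟩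
  refine ⟨x pt, ?_⟩
  rw [← Scheme.Hom.comp_apply, hx]
  show hU.fromSpec (Spec.map (CommRingCat.ofHom ρ) pt) = y₀
  have : Spec.map (CommRingCat.ofHom ρ) pt = 𝔭 := by
    apply PrimeSpectrum.ext
    show Ideal.comap ρ ⊥ = 𝔭.asIdeal
    ext a
    rw [Ideal.mem_comap, Ideal.mem_bot]
    show σ (algebraMap Γ(Y, U) 𝔭.asIdeal.ResidueField a) = 0 ↔ _
    rw [map_eq_zero_iff σ σ.toRingHom.injective, Ideal.algebraMap_residueField_eq_zero]
  rw [this]
  exact hU.fromSpec_primeIdealOf ⟨y₀, hyU⟩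

theorem main
    (K Ω : Type u) [Field K] [Field Ω] [IsAlgClosed Ω] [Algebra K Ω]
    (t : ℕ → Ω) (ht : AlgebraicIndependent K t)
    {X Y : Scheme.{u}} (pX : X ⟶ Spec (CommRingCat.of K)) (pY : Y ⟶ Spec (CommRingCat.of K))
    [LocallyOfFiniteType pX] [LocallyOfFiniteType pY] (f : X ⟶ Y) (hf : f ≫ pY = pX) :
    Surjective f ↔ ∀ y : Spec (CommRingCat.of Ω) ⟶ Y,
      y ≫ pY = Spec.map (CommRingCat.ofHom (algebraMap K Ω)) →
        ∃ x : Spec (CommRingCat.of Ω) ⟶ X, x ≫ f = y := by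
  constructor
  · intro hs y _
    haveI : LocallyOfFiniteType f := by
      haveI : LocallyOfFiniteType (f ≫ pY) := by rw [hf]; infer_instance
      exact locallyOfFiniteType_of_comp f pY
    haveI : Nonempty ↥(pullback f y) := by
      obtain ⟨a, -⟩ := (pullback.snd f y).surjective (⟨⊥, Ideal.isPrime_bot⟩ : Spec (CommRingCat.of Ω))
      exact ⟨a⟩
    obtain ⟨s, hs⟩ := exists_section Ω (pullback.snd f y)
    refine ⟨s ≫ pullback.fst f y, ?_⟩
    rw [Category.assoc, pullback.condition, ← Category.assoc, hs, Category.id_comp]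
  · intro h
    exact surj_of_lift K Ω t ht pY f h

end Aux

open AlgebraicGeometry in
open CategoryTheory in
/-- Let K be a field, X and Y schemes locally of finite type over K, f : X -> Y a K-morphism and Ω an
algebraically closed extension field of K of infinite transcendence degree over K (there is an
algebraically independent sequence in Ω). Then f is surjective if and only if the map it induces
from the K-points of X with values in Ω to those of Y is surjective, i.e. every K-morphism Spec Ω ->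
Y factors through f. (The published proposition assumes X and Y of finite type over K, and a later
remark of the same text extends it to X and Y locally of finite type over K, the form stated here.) -/
theorem result
    (K Ω : Type u) [Field K] [Field Ω] [IsAlgClosed Ω] [Algebra K Ω]
    (t : ℕ → Ω) (ht : AlgebraicIndependent K t)
    {X Y : Scheme.{u}} (pX : X ⟶ Spec (CommRingCat.of K)) (pY : Y ⟶ Spec (CommRingCat.of K))
    [LocallyOfFiniteType pX] [LocallyOfFiniteType pY] (f : X ⟶ Y) (hf : f ≫ pY = pX) :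
    Surjective f ↔ ∀ y : Spec (CommRingCat.of Ω) ⟶ Y,
      y ≫ pY = Spec.map (CommRingCat.ofHom (algebraMap K Ω)) →
        ∃ x : Spec (CommRingCat.of Ω) ⟶ X, x ≫ f = y := by
  exact main K Ω t ht pX pY f hf

end Groth.Agent.S4365
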