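import Groth.Statements.S4366
-- import your own Groth.Agent.* helpers here
import Mathlib
import Groth.Agent.Lib.helper7.StalkBC

set_option autoImplicit false
universe u
open SchMor

namespace Groth.Agent.S4366

open AlgebraicGeometry in
open CategoryTheory in
open CategoryTheory.Limits in
/-- Let f : X -> Y be a morphism, y a point of Y and Z = Spec O_{Y,y} the local scheme of Y at y with
its canonical morphism to Y. Then the projection p : X x_Y Z -> X induces isomorphisms on all local
rings: for every point t of X x_Y Z the homomorphism O_{X, p t} -> O_{X x_Y Z, t} is bijective. (The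
published statement also asserts that p is a homeomorphism onto the preimage of Z; that part is not
stated here.) -/
theorem result
    {X Y : Scheme.{u}} (f : X ⟶ Y) (y : Y) (t : ↑(pullback f (Y.fromSpecStalk y))) :
    IsIso ((pullback.fst f (Y.fromSpecStalk y)).stalkMap t) := by
  have : Flat (Y.fromSpecStalk y) := Groth.Agent.Lib.helper7.StalkBC.flat_fromSpecStalk Y y
  have : Flat (pullback.fst f (Y.fromSpecStalk y)) := inferInstance
  have : IsPreimmersion (pullback.fst f (Y.fromSpecStalk y)) := inferInstance
  have hb := Groth.Agent.Lib.helper7.StalkBC.bijective_stalkMap (pullback.fst f (Y.fromSpecStalk y)) t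
  exact (ConcreteCategory.isIso_iff_bijective _).2 hb

end Groth.Agent.S4366
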