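import Groth.Statements.S4368
import Mathlib

set_option autoImplicit false
universe u
open RedSep

namespace Groth.Agent.S4368

open AlgebraicGeometry in
open CategoryTheory in
/-- Let X be a scheme and I a quasi-coherent sheaf of ideals of O_X whose support is all of X, so that
the closed subscheme it defines has underlying space X. Then that closed subscheme is reduced if and
only if I is the nilradical of O_X. In particular the closed subscheme defined by the nilradical is
the unique reduced closed subscheme of X with underlying space X (and, the support condition being
equivalent to I being contained in the nilradical, the smallest one). -/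
theorem result
    (X : Scheme.{u}) (I : X.IdealSheafData) (hI : I.support = ⊤) :
    IsReduced I.subscheme ↔ I = X.nilradical := by
  have hle : I ≤ X.nilradical := by
    rw [← Scheme.IdealSheafData.vanishingIdeal_top,
      ← Scheme.IdealSheafData.le_support_iff_le_vanishingIdeal, hI]
  constructor
  · intro hred
    refine le_antisymm hle ?_
    intro U s hs
    rw [← I.ker_subschemeι_app U, RingHom.mem_ker]
    have hs' : IsNilpotent s := by
      have : s ∈ (⊥ : Ideal Γ(X, U.1)).radical := hs
      simpa [← mem_nilradical, nilradical] using this
    exact (hs'.map (I.subschemeι.app U).hom).eq_zero
  · rintro rfl
    have : ∀ U, IsReduced (X.nilradical.subschemeCover.openCover.X U) := by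
      intro U
      show IsReduced (Spec (.of (Γ(X, U.1) ⧸ X.nilradical.ideal U)))
      have : _root_.IsReduced (Γ(X, U.1) ⧸ X.nilradical.ideal U) := by
        have h : (X.nilradical.ideal U).IsRadical := by
          show ((⊥ : Ideal Γ(X, U.1)).radical).IsRadical
          exact Ideal.radical_isRadical _
        exact (Ideal.isRadical_iff_quotient_reduced _).mp h
      infer_instance
    exact IsReduced.of_openCover _ X.nilradical.subschemeCover.openCover

end Groth.Agent.S4368
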