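import Groth.Statements.S4369
import Mathlib

set_option autoImplicit false
universe u
open AffSch

namespace Groth.Agent.S4369

/-- Let φ : A' -> A be a ring homomorphism such that every f in A can be written f = h φ(f') with h
invertible in A (this holds in particular when φ is surjective). Then the associated continuous map
Spec A -> Spec A' is a homeomorphism onto its image. -/
theorem result
    {A' A : Type u} [CommRing A'] [CommRing A] (φ : A' →+* A)
    (h : ∀ f : A, ∃ (u : Aˣ) (f' : A'), f = (u : A) * φ f') :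
    Topology.IsEmbedding (PrimeSpectrum.comap φ) := by
  refine ⟨⟨TopologicalSpace.ext_isClosed fun Z ↦ ?_⟩, ?_⟩
  · simp_rw [isClosed_induced_iff, PrimeSpectrum.isClosed_iff_zeroLocus,
      @eq_comm _ _ (PrimeSpectrum.zeroLocus _), exists_exists_eq_and,
      PrimeSpectrum.preimage_comap_zeroLocus]
    constructor
    · rintro ⟨s, rfl⟩
      refine ⟨{f' : A' | ∃ f ∈ s, ∃ u : Aˣ, f = (u : A) * φ f'}, ?_⟩
      ext p
      rw [PrimeSpectrum.mem_zeroLocus, PrimeSpectrum.mem_zeroLocus]
      constructor
      · intro hp f hf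
        obtain ⟨u, f', hfu⟩ := h f
        show f ∈ p.asIdeal
        rw [hfu]
        exact Ideal.mul_mem_left _ _ (hp ⟨f', ⟨f, hf, u, hfu⟩, rfl⟩)
      · rintro hp _ ⟨f', ⟨f, hf, u, hfu⟩, rfl⟩
        have h1 : φ f' = (↑u⁻¹ : A) * f := by rw [hfu, ← mul_assoc, Units.inv_mul, one_mul]
        show φ f' ∈ p.asIdeal
        rw [h1]
        exact Ideal.mul_mem_left _ _ (hp hf)
    · rintro ⟨s, rfl⟩
      exact ⟨_, rfl⟩
  · intro p q hpq
    have key : ∀ p q : PrimeSpectrum A, PrimeSpectrum.comap φ p = PrimeSpectrum.comap φ q →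
        p.asIdeal ≤ q.asIdeal := by
      intro p q hpq f hf
      obtain ⟨u, f', hfu⟩ := h f
      have h1 : φ f' = (↑u⁻¹ : A) * f := by rw [hfu, ← mul_assoc, Units.inv_mul, one_mul]
      have h2 : f' ∈ (PrimeSpectrum.comap φ p).asIdeal := by
        show φ f' ∈ p.asIdeal
        rw [h1]; exact Ideal.mul_mem_left _ _ hf
      rw [hpq] at h2
      rw [hfu]
      exact Ideal.mul_mem_left _ _ h2
    exact PrimeSpectrum.ext (le_antisymm (key p q hpq) (key q p hpq.symm))

end Groth.Agent.S4369
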