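import Groth.Statements.S4372
import Mathlib
import Groth.Agent.S4367

set_option autoImplicit false
universe u
open RedSep

namespace Groth.Agent.S4372

open AlgebraicGeometry in
open CategoryTheory in
/-- Let h : Z -> X be an immersion with Z reduced (a reduced subscheme of X), and let W be the reduced
closed subscheme of X whose underlying space is the closure of h(Z). Then Z is an open subscheme of
W: h factors as an open immersion Z -> W followed by the closed immersion W -> X. Stated as the
existence of such a factorization through a reduced scheme W closed-immersed onto the closure of the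
image. -/
theorem result
    {Z X : Scheme.{u}} (h : Z ⟶ X) [IsImmersion h] [IsReduced Z] :
    ∃ (W : Scheme.{u}) (j : Z ⟶ W) (i : W ⟶ X), IsOpenImmersion j ∧ IsClosedImmersion i ∧
      IsReduced W ∧ Set.range i = closure (Set.range h) ∧ j ≫ i = h := by
  classical
  let T : TopologicalSpace.Closeds X := ⟨closure (Set.range h), isClosed_closure⟩
  let I : X.IdealSheafData := Scheme.IdealSheafData.vanishingIdeal T
  have hrange : Set.range I.subschemeι = closure (Set.range h) := by
    rw [Scheme.IdealSheafData.range_subschemeι]
    exact Scheme.IdealSheafData.coe_support_vanishingIdeal T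
  have hred : IsReduced I.subscheme := by
    have : ∀ U, IsReduced (I.subschemeCover.openCover.X U) := by
      intro U
      show IsReduced (Spec (.of (Γ(X, U.1) ⧸ I.ideal U)))
      have : _root_.IsReduced (Γ(X, U.1) ⧸ I.ideal U) := by
        have h : (I.ideal U).IsRadical := by
          show (PrimeSpectrum.vanishingIdeal _).IsRadical
          exact PrimeSpectrum.isRadical_vanishingIdeal _
        exact (Ideal.isRadical_iff_quotient_reduced _).mp h
      infer_instance
    exact IsReduced.of_openCover _ I.subschemeCover.openCover
  obtain ⟨j, hj⟩ := Groth.Agent.S4367.result h I.subschemeι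
    (by rw [hrange]; exact subset_closure)
  refine ⟨I.subscheme, j, I.subschemeι, ?_, inferInstance, hred, hrange, hj⟩
  -- the open immersion part
  let U := h.coborderRange
  let l : Z ⟶ Limits.pullback I.subschemeι U.ι :=
    Limits.pullback.lift j h.liftCoborder (by rw [hj, h.liftCoborder_ι])
  have hl1 : l ≫ Limits.pullback.fst I.subschemeι U.ι = j := Limits.pullback.lift_fst _ _ _
  have hl2 : l ≫ Limits.pullback.snd I.subschemeι U.ι = h.liftCoborder :=
    Limits.pullback.lift_snd _ _ _
  have : IsReduced (Limits.pullback I.subschemeι U.ι) :=
    isReduced_of_isOpenImmersion (Limits.pullback.fst I.subschemeι U.ι)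
  have : IsClosedImmersion (l ≫ Limits.pullback.snd I.subschemeι U.ι) := by
    rw [hl2]; infer_instance
  have : IsClosedImmersion l :=
    IsClosedImmersion.of_comp_isClosedImmersion l (Limits.pullback.snd I.subschemeι U.ι)
  have : Surjective l := by
    constructor
    intro p
    have hp : U.ι (Limits.pullback.snd I.subschemeι U.ι p) ∈ Set.range h := by
      rw [← closure_inter_coborder (s := Set.range h)]
      refine ⟨?_, (Limits.pullback.snd I.subschemeι U.ι p).2⟩
      rw [← hrange]
      refine ⟨Limits.pullback.fst I.subschemeι U.ι p, ?_⟩
      rw [← Scheme.Hom.comp_apply, ← Scheme.Hom.comp_apply, Limits.pullback.condition]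
    obtain ⟨z, hz⟩ := hp
    refine ⟨z, ?_⟩
    apply (Limits.pullback.snd I.subschemeι U.ι).isClosedEmbedding.injective
    apply U.ι.isOpenEmbedding.injective
    rw [← hz]
    show (l ≫ Limits.pullback.snd I.subschemeι U.ι ≫ U.ι) z = h z
    rw [← Category.assoc, hl2, h.liftCoborder_ι]
  have : IsIso l := isIso_of_isClosedImmersion_of_surjective l
  rw [← hl1]
  infer_instance

end Groth.Agent.S4372
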