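import Groth.Statements.S4378
import Groth.Agent.Lib.helper11.LimOpenMap

set_option autoImplicit false
universe u
open CategoryTheory CategoryTheory.Limits AlgebraicGeometry
open EGA2

namespace Groth.Agent.S4378

/-- The base change of a closed map along a preimmersion is closed. -/
lemma isClosedMap_of_isPullback_of_isPreimmersion {P X Z Z' : Scheme.{u}} {u : P ⟶ X}
    {v : P ⟶ Z'} {F : X ⟶ Z} {a : Z' ⟶ Z} (h : IsPullback u v F a) [IsPreimmersion a]
    (hF : IsClosedMap F) : IsClosedMap v := by
  haveI : IsPreimmersion u := MorphismProperty.of_isPullback h.flip ‹_›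
  intro W hW
  obtain ⟨W₁, hW₁, rfl⟩ := u.isEmbedding.isInducing.isClosed_iff.mp hW
  rw [Groth.Agent.Lib.helper11.LimOpenMap.image_preimage_of_isPullback h]
  exact (hF _ hW₁).preimage a.continuous

/-- Let q : Y → S be separated and of finite type, and f : X → Y a morphism such that X is also
separated and of finite type over S through f ≫ q. Then f is proper if and only if for every scheme
S' over S the morphism X ×_S S' → Y ×_S S' induced by f is closed (as a map of topological spaces). -/
theorem result {X Y S : Scheme.{u}} (q : Y ⟶ S) (f : X ⟶ Y)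
    [IsSeparated q] [LocallyOfFiniteType q] [QuasiCompact q]
    [IsSeparated (f ≫ q)] [LocallyOfFiniteType (f ≫ q)] [QuasiCompact (f ≫ q)] :
    IsProper f ↔ ∀ (S' : Scheme.{u}) (g : S' ⟶ S),
      IsClosedMap (pullback.map (f ≫ q) g q g f (𝟙 S') (𝟙 S) (Category.comp_id (f ≫ q))
        ((Category.comp_id g).trans (Category.id_comp g).symm)).base := by
  have claim1 : ∀ {S' : Scheme.{u}} (g : S' ⟶ S),
      IsPullback (pullback.map (f ≫ q) g q g f (𝟙 S') (𝟙 S) (Category.comp_id (f ≫ q))
        ((Category.comp_id g).trans (Category.id_comp g).symm)) (pullback.fst (f ≫ q) g)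
        (pullback.fst q g) f := by
    intro S' g
    refine IsPullback.of_right ?_ (pullback.lift_fst _ _ _) (IsPullback.of_hasPullback q g).flip
    have : pullback.map (f ≫ q) g q g f (𝟙 S') (𝟙 S) (Category.comp_id (f ≫ q))
        ((Category.comp_id g).trans (Category.id_comp g).symm) ≫ pullback.snd q g =
        pullback.snd (f ≫ q) g := by
      rw [pullback.lift_snd, Category.comp_id]
    rw [this]
    exact (IsPullback.of_hasPullback (f ≫ q) g).flip
  constructor
  · intro hf S' g
    haveI : UniversallyClosed (pullback.map (f ≫ q) g q g f (𝟙 S') (𝟙 S)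
        (Category.comp_id (f ≫ q)) ((Category.comp_id g).trans (Category.id_comp g).symm)) :=
      MorphismProperty.of_isPullback (P := @UniversallyClosed) (claim1 g).flip inferInstance
    exact Scheme.Hom.isClosedMap _
  · intro H
    haveI : IsSeparated f := IsSeparated.of_comp f q
    haveI : LocallyOfFiniteType f := locallyOfFiniteType_of_comp f q
    haveI : UniversallyClosed f := by
      refine ⟨MorphismProperty.universally_mk' _ _ fun {T} g' _ => ?_⟩
      show IsClosedMap (pullback.fst g' f)
      let g : T ⟶ S := g' ≫ q
      let Γ : T ⟶ pullback q g := pullback.lift g' (𝟙 T) (by simp [g])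
      have hΓ1 : Γ ≫ pullback.fst q g = g' := pullback.lift_fst _ _ _
      have hΓ2 : Γ ≫ pullback.snd q g = 𝟙 T := pullback.lift_snd _ _ _
      haveI : IsClosedImmersion (Γ ≫ pullback.snd q g) := by rw [hΓ2]; infer_instance
      haveI : IsClosedImmersion Γ := IsClosedImmersion.of_comp Γ (pullback.snd q g)
      let F := pullback.map (f ≫ q) g q g f (𝟙 T) (𝟙 S) (Category.comp_id (f ≫ q))
        ((Category.comp_id g).trans (Category.id_comp g).symm)
      have hF1 : F ≫ pullback.fst q g = pullback.fst (f ≫ q) g ≫ f := pullback.lift_fst _ _ _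
      have hF2 : F ≫ pullback.snd q g = pullback.snd (f ≫ q) g := by
        show pullback.map _ _ _ _ _ _ _ _ _ ≫ _ = _
        rw [pullback.lift_snd, Category.comp_id]
      let top : pullback g' f ⟶ pullback (f ≫ q) g :=
        pullback.lift (pullback.snd g' f) (pullback.fst g' f) (by
          rw [← Category.assoc, ← pullback.condition, Category.assoc])
      have htop1 : top ≫ pullback.fst (f ≫ q) g = pullback.snd g' f := pullback.lift_fst _ _ _
      have htop2 : top ≫ pullback.snd (f ≫ q) g = pullback.fst g' f := pullback.lift_snd _ _ _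
      have hp : top ≫ F = pullback.fst g' f ≫ Γ := by
        apply pullback.hom_ext
        · rw [Category.assoc, hF1, reassoc_of% htop1, Category.assoc, hΓ1, pullback.condition]
        · rw [Category.assoc, hF2, htop2, Category.assoc, hΓ2, Category.comp_id]
      have hsq : IsPullback top (pullback.fst g' f) F Γ := by
        refine IsPullback.of_right ?_ hp (claim1 g).flip
        rw [htop1, hΓ1]
        exact (IsPullback.of_hasPullback g' f).flip
      exact isClosedMap_of_isPullback_of_isPreimmersion hsq (H T g)
    exact { }

end Groth.Agent.S4378
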