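import Groth.Statements.S9224
import Groth.Agent.Lib.helper11.FibreNhd
import Groth.Agent.Lib.helper11.LfpConv

set_option autoImplicit false
universe u
open CategoryTheory CategoryTheory.Limits AlgebraicGeometry
open Lim

namespace Groth.Agent.S9224

open Groth.Agent.Lib.helper28.FPColim Groth.Agent.Lib.helper11.LfpConv
  Groth.Agent.Lib.helper11 in
/-- Let f : X → S be a quasi-compact morphism, g : T → S a morphism, t a point of T and Z a closed
subset of X_T = X ×_S T which does not meet the fibre of X_T → T over t. Then there exist an affine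
open neighbourhood V of t in T, an affine scheme T' with a morphism b : T' → S locally of finite
presentation, a morphism a : V → T' whose composite with b is the restriction of g, and a closed
subset Z' of X_{T'} = X ×_S T' which does not meet the fibre over t' = a(t), such that the induced
morphism X_V → X_{T'} maps every point of X_V lying over Z (under X_V → X_T) into Z'. The morphisms
X_V → X_T and X_V → X_{T'} are the canonical ones, characterised by their projections. -/
theorem result {X S T : Scheme.{u}} (f : X ⟶ S) [QuasiCompact f] (g : T ⟶ S) (t : T)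
    (Z : Set ↥(pullback f g)) (hZ : IsClosed Z) (hZt : ∀ z ∈ Z, (pullback.snd f g).base z ≠ t) :
    ∃ (V : T.Opens) (ht : t ∈ V) (T' : Scheme.{u}) (b : T' ⟶ S) (a : (V : Scheme.{u}) ⟶ T')
      (n : pullback f (V.ι ≫ g) ⟶ pullback f g) (m : pullback f (V.ι ≫ g) ⟶ pullback f b)
      (Z' : Set ↥(pullback f b)),
      IsAffineOpen V ∧ IsAffine T' ∧ LocallyOfFinitePresentation b ∧ a ≫ b = V.ι ≫ g ∧
      n ≫ pullback.fst f g = pullback.fst f (V.ι ≫ g) ∧ n ≫ pullback.snd f g = pullback.snd f (V.ι ≫ g) ≫ V.ι ∧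
      m ≫ pullback.fst f b = pullback.fst f (V.ι ≫ g) ∧ m ≫ pullback.snd f b = pullback.snd f (V.ι ≫ g) ≫ a ∧
      IsClosed Z' ∧ (∀ z' ∈ Z', (pullback.snd f b).base z' ≠ a.base ⟨t, ht⟩) ∧
      ∀ z : ↥(pullback f (V.ι ≫ g)), n.base z ∈ Z → m.base z ∈ Z' := by
  have hex : ∃ (U : S.Opens) (V : T.Opens), IsAffineOpen U ∧ IsAffineOpen V ∧ t ∈ V ∧
      V ≤ g ⁻¹ᵁ U := by
    obtain ⟨_, ⟨U, hU, rfl⟩, hgU, -⟩ := S.isBasis_affineOpens.exists_subset_of_mem_open
      (Set.mem_univ (g t)) isOpen_univ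
    obtain ⟨_, ⟨V, hV, rfl⟩, htV, hVU⟩ := T.isBasis_affineOpens.exists_subset_of_mem_open
      (show t ∈ ((g ⁻¹ᵁ U : T.Opens) : Set T) from hgU) (g ⁻¹ᵁ U).2
    exact ⟨U, V, hU, hV, htV, hVU⟩
  obtain ⟨U, V, hU, hV, htV, hVU⟩ := hex
  letI : Algebra Γ(S, U) Γ(T, V) := (g.appLE U V hVU).hom.toAlgebra
  let iU : Spec Γ(S, U) ⟶ S := hU.fromSpec
  let p : Spec (CommRingCat.of Γ(T, V)) ⟶ S :=
    Spec.map (CommRingCat.ofHom (algebraMap Γ(S, U) Γ(T, V))) ≫ iU
  have hsq : hV.fromSpec ≫ g = p :=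
    (IsAffineOpen.SpecMap_appLE_fromSpec g hU hV hVU).symm
  have hfac : V.ι ≫ g = hV.isoSpec.hom ≫ p := by
    rw [← hsq, ← Category.assoc, IsAffineOpen.isoSpec_hom_fromSpec]
  -- the system
  let E := DS Γ(S, U) Γ(T, V)
  let τ : ∀ j, E.obj j ⟶ S := fun j => (tS Γ(S, U) Γ(T, V) iU).app j
  have hτ : ∀ {j k : (Idx Γ(S, U) Γ(T, V))ᵒᵖ} (φ : j ⟶ k), E.map φ ≫ τ k = τ j := by
    intro j k φ
    have := (tS Γ(S, U) Γ(T, V) iU).naturality φ
    dsimp only [Functor.const_obj_obj, Functor.const_obj_map] at this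
    rw [Category.comp_id] at this
    exact this
  let cE := cS Γ(S, U) Γ(T, V)
  have hcE : IsLimit cE := hcS Γ(S, U) Γ(T, V)
  have hp : ∀ j, cE.π.app j ≫ τ j = p := fun j => cS_tS Γ(S, U) Γ(T, V) iU j
  -- comparison with `X ×_S T`
  let θ : pullback p f ⟶ pullback f g :=
    pullback.lift (pullback.snd p f) (pullback.fst p f ≫ hV.fromSpec) (by
      rw [Category.assoc, hsq, pullback.condition])
  have hθ2 : θ ≫ pullback.snd f g = pullback.fst p f ≫ hV.fromSpec := pullback.lift_snd _ _ _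
  have hθ1 : θ ≫ pullback.fst f g = pullback.snd p f := pullback.lift_fst _ _ _
  let tB : cE.pt := hV.isoSpec.hom ⟨t, htV⟩
  have htB : hV.fromSpec tB = t := by
    show hV.fromSpec (hV.isoSpec.hom ⟨t, htV⟩) = t
    rw [← Scheme.Hom.comp_apply, IsAffineOpen.isoSpec_hom_fromSpec]
    rfl
  let O : Set ↥(pullback p f) := (θ ⁻¹' Z)ᶜ
  have hO : IsOpen O := (hZ.preimage θ.continuous).isOpen_compl
  have hF : (pullback.fst p f) ⁻¹' {tB} ⊆ O := by
    intro z hz hzZ
    have hz' : pullback.fst p f z = tB := hz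
    refine hZt (θ z) hzZ ?_
    show (pullback.snd f g) (θ z) = t
    rw [← Scheme.Hom.comp_apply, hθ2, Scheme.Hom.comp_apply, hz', htB]
  obtain ⟨j, W, hW, hWfib, hWO'⟩ := FibreNhd.exists_stage_nhd E τ hτ cE hcE p hp f tB O hO hF
  let πj : pullback p f ⟶ pullback (τ j) f := (LimPB.cX E τ hτ cE p hp f).π.app j
  let cj : Spec (CommRingCat.of Γ(T, V)) ⟶ E.obj j := cE.π.app j
  have hcj : cj ≫ τ j = p := hp j
  have hπ1 : πj ≫ pullback.fst (τ j) f = pullback.fst p f ≫ cj := LimPB.π_fst E τ hτ cE p hp f j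
  have hπ2 : πj ≫ pullback.snd (τ j) f = pullback.snd p f := LimPB.π_snd E τ hτ cE p hp f j
  have hWO : ∀ z : ↥(pullback p f), πj z ∈ W → z ∈ O := fun z hz => hWO' z hz
  let a : (V : Scheme.{u}) ⟶ E.obj j := hV.isoSpec.hom ≫ cj
  have hab : a ≫ τ j = V.ι ≫ g := by
    show (hV.isoSpec.hom ≫ cj) ≫ τ j = V.ι ≫ g
    rw [Category.assoc, hcj, hfac]
  let n : pullback f (V.ι ≫ g) ⟶ pullback f g :=
    pullback.lift (pullback.fst _ _) (pullback.snd _ _ ≫ V.ι) (by
      rw [Category.assoc, pullback.condition])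
  let m : pullback f (V.ι ≫ g) ⟶ pullback f (τ j) :=
    pullback.lift (pullback.fst _ _) (pullback.snd _ _ ≫ a) (by
      rw [Category.assoc, hab, pullback.condition])
  let ρ : pullback f (V.ι ≫ g) ⟶ pullback p f :=
    pullback.lift (pullback.snd _ _ ≫ hV.isoSpec.hom) (pullback.fst _ _) (by
      rw [Category.assoc, ← hfac, pullback.condition])
  have hρθ : ρ ≫ θ = n := by
    apply pullback.hom_ext
    · rw [Category.assoc, hθ1, pullback.lift_snd, pullback.lift_fst]
    · rw [Category.assoc, hθ2, pullback.lift_snd, pullback.lift_fst_assoc, Category.assoc,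
        IsAffineOpen.isoSpec_hom_fromSpec]
  have hmρ : m ≫ (pullbackSymmetry f (τ j)).hom = ρ ≫ πj := by
    apply pullback.hom_ext
    · rw [Category.assoc, pullbackSymmetry_hom_comp_fst, pullback.lift_snd, Category.assoc,
        hπ1, pullback.lift_fst_assoc, Category.assoc]
    · rw [Category.assoc, pullbackSymmetry_hom_comp_snd, pullback.lift_fst, Category.assoc,
        hπ2, pullback.lift_snd]
  let Z' : Set ↥(pullback f (τ j)) := (pullbackSymmetry f (τ j)).hom ⁻¹' Wᶜ
  have hZ' : IsClosed Z' := hW.isClosed_compl.preimage (pullbackSymmetry f (τ j)).hom.continuous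
  haveI : LocallyOfFinitePresentation (τ j) := by
    show LocallyOfFinitePresentation (Spec.map ((DD Γ(S, U) Γ(T, V)).obj j.unop).hom ≫ iU)
    haveI : LocallyOfFinitePresentation (Spec.map ((DD Γ(S, U) Γ(T, V)).obj j.unop).hom) :=
      (HasRingHomProperty.Spec_iff (P := @LocallyOfFinitePresentation)).mpr
        (DD_fp Γ(S, U) Γ(T, V) j.unop)
    infer_instance
  refine ⟨V, htV, E.obj j, τ j, a, n, m, Z', hV, inferInstance, inferInstance, hab,
    pullback.lift_fst _ _ _, pullback.lift_snd _ _ _, pullback.lift_fst _ _ _,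
    pullback.lift_snd _ _ _, hZ', ?_, ?_⟩
  · intro z' hz' hsnd
    apply hz'
    apply hWfib
    show ((pullbackSymmetry f (τ j)).hom ≫ pullback.fst (τ j) f) z' = cE.π.app j tB
    rw [pullbackSymmetry_hom_comp_fst]
    exact hsnd
  · intro z hz hW'
    have h1 : (pullbackSymmetry f (τ j)).hom (m z) ∈ W := hW'
    have h2 : πj (ρ z) ∈ W := by
      have : (m ≫ (pullbackSymmetry f (τ j)).hom) z = (ρ ≫ πj) z := by rw [hmρ]
      exact this ▸ h1
    have h3 : ρ z ∈ O := hWO _ h2
    apply h3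
    show θ (ρ z) ∈ Z
    have : (ρ ≫ θ) z = n z := by rw [hρθ]
    exact this ▸ hz

end Groth.Agent.S9224
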