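import Groth.Statements.S9205
import Groth.Agent.S9224
import Groth.Agent.Lib.helper11.UClosedAff

set_option autoImplicit false
universe u
open CategoryTheory CategoryTheory.Limits AlgebraicGeometry
open Lim

namespace Groth.Agent.S9205

/-- Key step: if all base changes along morphisms locally of finite presentation are closed, then
all base changes are closed. -/
theorem isClosedMap_snd_of_lfp {X S : Scheme.{u}} (f : X ⟶ S) [QuasiCompact f]
    (H : ∀ (S' : Scheme.{u}) (g : S' ⟶ S), LocallyOfFinitePresentation g →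
      IsClosedMap (pullback.snd f g).base) {T : Scheme.{u}} (g : T ⟶ S) :
    IsClosedMap (pullback.snd f g) := by
  intro Z hZ
  rw [← isOpen_compl_iff, isOpen_iff_forall_mem_open]
  intro t ht
  have hZt : ∀ z ∈ Z, (pullback.snd f g).base z ≠ t := fun z hz h => ht ⟨z, hz, h⟩
  obtain ⟨V, htV, T', b, a, n, m, Z', hV, hT', hb, hab, hn1, hn2, hm1, hm2, hZ', hZ't, hnm⟩ :=
    Groth.Agent.S9224.result f g t Z hZ hZt
  have hcl : IsClosed ((pullback.snd f b) '' Z') := H T' b hb Z' hZ'
  let W' : Set T' := ((pullback.snd f b) '' Z')ᶜ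
  have hW' : IsOpen W' := hcl.isOpen_compl
  have haW' : a ⟨t, htV⟩ ∈ W' := by
    rintro ⟨z', hz', h⟩
    exact hZ't z' hz' h
  refine ⟨V.ι '' (a ⁻¹' W'), ?_, V.ι.isOpenEmbedding.isOpenMap _ (hW'.preimage a.continuous),
    ⟨⟨t, htV⟩, haW', rfl⟩⟩
  rintro _ ⟨v, hv, rfl⟩ ⟨z, hz, hzv⟩
  -- lift `z` to `X_V`
  have hsq : IsPullback n (pullback.snd f (V.ι ≫ g)) (pullback.snd f g) V.ι := by
    refine IsPullback.of_right ?_ hn2 (IsPullback.of_hasPullback f g)
    rw [hn1]
    exact IsPullback.of_hasPullback f (V.ι ≫ g)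
  obtain ⟨w, hw1, hw2⟩ := Scheme.Pullback.exists_preimage_pullback (f := pullback.snd f g)
    (g := V.ι) z v hzv
  let zV : ↥(pullback f (V.ι ≫ g)) := hsq.isoPullback.inv w
  have hzV1 : n zV = z := by
    show (hsq.isoPullback.inv ≫ n) w = z
    rw [hsq.isoPullback_inv_fst]
    exact hw1
  have hzV2 : pullback.snd f (V.ι ≫ g) zV = v := by
    show (hsq.isoPullback.inv ≫ pullback.snd f (V.ι ≫ g)) w = v
    rw [hsq.isoPullback_inv_snd]
    exact hw2
  have hmz : m zV ∈ Z' := hnm zV (by rw [show n.base zV = z from hzV1]; exact hz)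
  apply hv
  refine ⟨m zV, hmz, ?_⟩
  show (m ≫ pullback.snd f b) zV = a v
  rw [hm2, Scheme.Hom.comp_apply, hzV2]

/-- Let f : X → S be a quasi-compact morphism of schemes. Then: f is universally closed if and only if,
whenever g : S' → S is a morphism locally of finite presentation, the projection X ×_S S' → S' is a
closed map; and f is universally closed if and only if for every natural number n the base change X
×_S A^n_S → A^n_S to affine n-space over S is closed. -/
theorem result {X S : Scheme.{u}} (f : X ⟶ S) [QuasiCompact f] :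
    (UniversallyClosed f ↔ ∀ (S' : Scheme.{u}) (g : S' ⟶ S), LocallyOfFinitePresentation g →
        IsClosedMap (pullback.snd f g).base) ∧
      (UniversallyClosed f ↔ ∀ n : ℕ, IsClosedMap (pullback.snd f (𝔸(ULift.{u} (Fin n); S) ↘ S)).base) := by
  have key : (∀ (S' : Scheme.{u}) (g : S' ⟶ S), LocallyOfFinitePresentation g →
      IsClosedMap (pullback.snd f g).base) → UniversallyClosed f := by
    intro H
    refine ⟨MorphismProperty.universally_mk' _ _ fun {T} g _ => ?_⟩
    have h1 := isClosedMap_snd_of_lfp f H g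
    have : pullback.fst g f = (pullbackSymmetry g f).hom ≫ pullback.snd f g :=
      (pullbackSymmetry_hom_comp_snd _ _).symm
    show IsClosedMap (pullback.fst g f)
    rw [this]
    simp only [Scheme.Hom.comp_base, TopCat.hom_comp, ContinuousMap.coe_comp]
    exact h1.comp (pullbackSymmetry g f).hom.homeomorph.isClosedMap
  refine ⟨⟨fun hf S' g _ => (pullback.snd f g).isClosedMap, key⟩,
    ⟨fun hf n => (pullback.snd f _).isClosedMap, fun H => key ?_⟩⟩
  intro S' g hg
  exact Groth.Agent.Lib.helper11.UClosedAff.isClosedMap_snd_of_locallyOfFiniteType f H g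

end Groth.Agent.S9205
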