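import Groth.Statements.S4395
import Mathlib

set_option autoImplicit false
universe u
open EGA2

namespace Groth.Agent.S4395

section Aux
open DirectSum
variable {R A : Type*} [CommRing R] [CommRing A] [Algebra R A] (𝒜 : ℕ → Submodule R A) [GradedAlgebra 𝒜]
    (n₀ : ℕ) (p : ℕ → AddSubgroup A)
    (H1 : ∀ m n : ℕ, n₀ ≤ n → ∀ a ∈ 𝒜 m, ∀ b ∈ p n, a * b ∈ p (m + n))
    (d : ℕ) (hd : n₀ ≤ d) (f : A) (hf : f ∈ 𝒜 d)

/-- The ideal `{x | ∀ m, f * x_m ∈ p (d + m)}`. -/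
def I : Ideal A where
  carrier := {x | ∀ m, f * (decompose 𝒜 x m : A) ∈ p (d + m)}
  zero_mem' := by
    intro m
    simp
  add_mem' := by
    intro x y hx hy m
    rw [decompose_add, DirectSum.add_apply, AddMemClass.coe_add, mul_add]
    exact (p (d + m)).add_mem (hx m) (hy m)
  smul_mem' := by
    intro a x hx
    rw [smul_eq_mul]
    induction a using DirectSum.Decomposition.inductionOn 𝒜 with
    | zero => intro m; simp
    | homogeneous a =>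
      rename_i k
      intro m
      by_cases hkm : k ≤ m
      · rw [DirectSum.coe_decompose_mul_of_left_mem_of_le 𝒜 a.2 hkm]
        have h1 := H1 k (d + (m - k)) (hd.trans (Nat.le_add_right _ _)) a a.2 _ (hx (m - k))
        have : k + (d + (m - k)) = d + m := by omega
        rw [this] at h1
        convert h1 using 1
        ring
      · rw [DirectSum.coe_decompose_mul_of_left_mem_of_not_le 𝒜 a.2 hkm]
        simp
    | add a b ha hb =>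
      intro m
      rw [add_mul, decompose_add, DirectSum.add_apply, AddMemClass.coe_add, mul_add]
      exact (p (d + m)).add_mem (ha m) (hb m)

theorem mem_I_iff (x : A) : x ∈ I 𝒜 n₀ p H1 d hd f ↔ ∀ m, f * (decompose 𝒜 x m : A) ∈ p (d + m) :=
  Iff.rfl

theorem mem_I_of_mem {m : ℕ} {x : A} (hx : x ∈ 𝒜 m) :
    x ∈ I 𝒜 n₀ p H1 d hd f ↔ f * x ∈ p (d + m) := by
  rw [mem_I_iff]
  constructor
  · intro h
    have := h m
    rwa [DirectSum.decompose_of_mem_same 𝒜 hx] at this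
  · intro h k
    by_cases hk : k = m
    · subst hk
      rwa [DirectSum.decompose_of_mem_same 𝒜 hx]
    · rw [DirectSum.decompose_of_mem_ne 𝒜 hx (Ne.symm hk)]
      simp

theorem I_isHomogeneous : (I 𝒜 n₀ p H1 d hd f).IsHomogeneous 𝒜 := by
  intro i x hx
  rw [mem_I_of_mem 𝒜 n₀ p H1 d hd f (SetLike.coe_mem _)]
  exact hx i


omit H1 hd hf in
theorem exists_homogeneous_not_mem (𝔭 : HomogeneousIdeal 𝒜)
    (h : ¬ HomogeneousIdeal.irrelevant 𝒜 ≤ 𝔭) : ∃ i : ℕ, 0 < i ∧ ∃ g ∈ 𝒜 i, g ∉ 𝔭.toIdeal := by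
  by_contra hcon
  push_neg at hcon
  apply h
  intro x hx
  rw [← HomogeneousIdeal.mem_iff, 𝔭.isHomogeneous.mem_iff]
  intro i
  rcases Nat.eq_zero_or_pos i with rfl | hi
  · have : (decompose 𝒜 x 0 : A) = 0 := (HomogeneousIdeal.mem_irrelevant_iff 𝒜 x).mp hx
    rw [this]
    exact zero_mem _
  · exact hcon i hi _ (SetLike.coe_mem _)

omit H1 hd hf in
theorem le_of_tails (𝔭 𝔮 : HomogeneousIdeal 𝒜) (h𝔮 : 𝔮.toIdeal.IsPrime)
    (hi𝔮 : ¬ HomogeneousIdeal.irrelevant 𝒜 ≤ 𝔮)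
    (ht𝔭 : ∀ n : ℕ, n₀ ≤ n → (𝔭.toIdeal : Set A) ∩ 𝒜 n = p n)
    (ht𝔮 : ∀ n : ℕ, n₀ ≤ n → (𝔮.toIdeal : Set A) ∩ 𝒜 n = p n) :
    𝔭.toIdeal ≤ 𝔮.toIdeal := by
  intro x hx
  rw [𝔮.isHomogeneous.mem_iff]
  intro i
  have hxi : (decompose 𝒜 x i : A) ∈ 𝔭.toIdeal := 𝔭.isHomogeneous i hx
  obtain ⟨j, hj, g, hg, hg𝔮⟩ := exists_homogeneous_not_mem 𝒜 𝔮 hi𝔮
  have hgn : g ^ n₀ ∈ 𝒜 (n₀ * j) := by
    have := SetLike.pow_mem_graded n₀ hg
    simpa [smul_eq_mul] using this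
  have h1 : g ^ n₀ * (decompose 𝒜 x i : A) ∈ (𝔭.toIdeal : Set A) ∩ 𝒜 (n₀ * j + i) :=
    ⟨𝔭.toIdeal.mul_mem_left _ hxi, SetLike.mul_mem_graded hgn (SetLike.coe_mem _)⟩
  have hidx : n₀ ≤ n₀ * j + i := (Nat.le_mul_of_pos_right _ hj).trans (Nat.le_add_right _ _)
  rw [ht𝔭 _ hidx, ← ht𝔮 _ hidx] at h1
  rcases h𝔮.mem_or_mem h1.1 with h | h
  · exact absurd (h𝔮.mem_of_pow_mem _ h) hg𝔮
  · exact h

end Aux

/-- Let S be a ring graded in nonnegative degrees, n₀ > 0 an integer and, for every n ≥ n₀, p_n an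
additive subgroup of S_n. Then there is a graded prime ideal p of S not containing S_+ with p ∩ S_n
= p_n for all n ≥ n₀ if and only if: (1) S_m p_n ⊆ p_{m+n} for all m ≥ 0 and n ≥ n₀; (2) for m ≥ n₀,
n ≥ n₀, f ∈ S_m, g ∈ S_n, fg ∈ p_{m+n} implies f ∈ p_m or g ∈ p_n; (3) p_n ≠ S_n for at least one n
≥ n₀. Moreover such a graded prime ideal is unique. -/
theorem result {R A : Type u} [CommRing R] [CommRing A] [Algebra R A] (𝒜 : ℕ → Submodule R A) [GradedAlgebra 𝒜]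
    (n₀ : ℕ) (hn₀ : 0 < n₀) (p : ℕ → AddSubgroup A) (hp : ∀ n : ℕ, n₀ ≤ n → (p n : Set A) ⊆ 𝒜 n) :
    ((∃ 𝔭 : HomogeneousIdeal 𝒜, 𝔭.toIdeal.IsPrime ∧ ¬ HomogeneousIdeal.irrelevant 𝒜 ≤ 𝔭 ∧
        ∀ n : ℕ, n₀ ≤ n → (𝔭.toIdeal : Set A) ∩ 𝒜 n = p n) ↔
      ((∀ m n : ℕ, n₀ ≤ n → ∀ a ∈ 𝒜 m, ∀ b ∈ p n, a * b ∈ p (m + n)) ∧
        (∀ m n : ℕ, n₀ ≤ m → n₀ ≤ n → ∀ f ∈ 𝒜 m, ∀ g ∈ 𝒜 n, f * g ∈ p (m + n) → f ∈ p m ∨ g ∈ p n) ∧
        ∃ n : ℕ, n₀ ≤ n ∧ (p n : Set A) ≠ 𝒜 n)) ∧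
    ∀ 𝔭 𝔮 : HomogeneousIdeal 𝒜, 𝔭.toIdeal.IsPrime → 𝔮.toIdeal.IsPrime →
      ¬ HomogeneousIdeal.irrelevant 𝒜 ≤ 𝔭 → ¬ HomogeneousIdeal.irrelevant 𝒜 ≤ 𝔮 →
      (∀ n : ℕ, n₀ ≤ n → (𝔭.toIdeal : Set A) ∩ 𝒜 n = p n) → (∀ n : ℕ, n₀ ≤ n → (𝔮.toIdeal : Set A) ∩ 𝒜 n = p n) →
      𝔭 = 𝔮 := by
  classical
  constructor
  · constructor
    · rintro ⟨𝔭, hprime, hirr, htail⟩
      refine ⟨?_, ?_, ?_⟩
      · intro m n hn a ha b hb
        have hb' : b ∈ (𝔭.toIdeal : Set A) ∩ 𝒜 n := by rw [htail n hn]; exact hb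
        have : a * b ∈ (𝔭.toIdeal : Set A) ∩ 𝒜 (m + n) :=
          ⟨𝔭.toIdeal.mul_mem_left a hb'.1, SetLike.mul_mem_graded ha hb'.2⟩
        rw [htail (m + n) (by omega)] at this
        exact this
      · intro m n hm hn f hf g hg hfg
        have hfg' : f * g ∈ (𝔭.toIdeal : Set A) ∩ 𝒜 (m + n) := by
          rw [htail _ (by omega)]; exact hfg
        rcases hprime.mem_or_mem hfg'.1 with h | h
        · left
          have : f ∈ (𝔭.toIdeal : Set A) ∩ 𝒜 m := ⟨h, hf⟩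
          rw [htail m hm] at this
          exact this
        · right
          have : g ∈ (𝔭.toIdeal : Set A) ∩ 𝒜 n := ⟨h, hg⟩
          rw [htail n hn] at this
          exact this
      · obtain ⟨i, hi, g, hg, hgp⟩ := exists_homogeneous_not_mem 𝒜 𝔭 hirr
        have hidx : n₀ ≤ n₀ * i := Nat.le_mul_of_pos_right _ hi
        refine ⟨n₀ * i, hidx, ?_⟩
        intro heq
        have hgn : g ^ n₀ ∈ 𝒜 (n₀ * i) := by
          have := SetLike.pow_mem_graded n₀ hg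
          simpa [smul_eq_mul] using this
        have h1 : g ^ n₀ ∈ (p (n₀ * i) : Set A) := by rw [heq]; exact hgn
        rw [← htail _ hidx] at h1
        exact hgp (hprime.mem_of_pow_mem _ h1.1)
    · rintro ⟨H1, H2, n, hn, hne⟩
      obtain ⟨f, hf, hfp⟩ : ∃ f ∈ 𝒜 n, f ∉ p n := by
        by_contra hcon
        push_neg at hcon
        exact hne (Set.Subset.antisymm (hp n hn) (fun x hx => hcon x hx))
      have hmem : ∀ {m : ℕ} {x : A}, x ∈ 𝒜 m → (x ∈ I 𝒜 n₀ p H1 n hn f ↔ f * x ∈ p (n + m)) :=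
        fun hx => mem_I_of_mem 𝒜 n₀ p H1 n hn f hx
      have hhom := I_isHomogeneous 𝒜 n₀ p H1 n hn f
      have hfI : f ∉ I 𝒜 n₀ p H1 n hn f := by
        rw [hmem hf]
        intro h
        rcases H2 n n hn hn f hf f hf h with h | h <;> exact hfp h
      have hn0 : n ≠ 0 := by omega
      refine ⟨⟨I 𝒜 n₀ p H1 n hn f, hhom⟩, ?_, ?_, ?_⟩
      · show (I 𝒜 n₀ p H1 n hn f).IsPrime
        refine hhom.isPrime_of_homogeneous_mem_or_mem (fun h => hfI (h ▸ Submodule.mem_top)) ?_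
        rintro x y ⟨m, hx⟩ ⟨k, hy⟩ hxy
        have h1 := (hmem (SetLike.mul_mem_graded hx hy)).mp hxy
        have h2 := H1 n (n + (m + k)) (hn.trans (Nat.le_add_right _ _)) f hf _ h1
        have e : f * (f * (x * y)) = (f * x) * (f * y) := by ring
        have idx : n + (n + (m + k)) = (n + m) + (n + k) := by omega
        rw [e, idx] at h2
        rcases H2 (n + m) (n + k) (hn.trans (Nat.le_add_right _ _)) (hn.trans (Nat.le_add_right _ _))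
          (f * x) (SetLike.mul_mem_graded hf hx) (f * y) (SetLike.mul_mem_graded hf hy) h2 with h | h
        · exact Or.inl ((hmem hx).mpr h)
        · exact Or.inr ((hmem hy).mpr h)
      · intro hle
        apply hfI
        have : f ∈ HomogeneousIdeal.irrelevant 𝒜 := by
          rw [HomogeneousIdeal.mem_irrelevant_iff]
          show (DirectSum.decompose 𝒜 f 0 : A) = 0
          rw [DirectSum.decompose_of_mem_ne 𝒜 hf hn0]
        exact hle this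
      · intro m hm
        ext x
        constructor
        · rintro ⟨hxI, hxm⟩
          have h1 := (hmem hxm).mp hxI
          rcases H2 n m hn hm f hf x hxm h1 with h | h
          · exact absurd h hfp
          · exact h
        · intro hx
          have hxm : x ∈ 𝒜 m := hp m hm hx
          exact ⟨(hmem hxm).mpr (H1 n m hm f hf x hx), hxm⟩
  · intro 𝔭 𝔮 h𝔭 h𝔮 hi𝔭 hi𝔮 ht𝔭 ht𝔮
    apply HomogeneousIdeal.toIdeal_injective
    exact le_antisymm (le_of_tails 𝒜 n₀ p 𝔭 𝔮 h𝔮 hi𝔮 ht𝔭 ht𝔮)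
      (le_of_tails 𝒜 n₀ p 𝔮 𝔭 h𝔭 hi𝔭 ht𝔮 ht𝔭)

end Groth.Agent.S4395
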