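import Groth.Statements.S4396
import Mathlib

set_option autoImplicit false
universe u
open AlgebraicGeometry
open EGA2

namespace Groth.Agent.S4396

section Aux
open DirectSum
variable {R A : Type*} [CommRing R] [CommRing A] [Algebra R A] (𝒜 : ℕ → Submodule R A) [GradedAlgebra 𝒜]
    {B : Type*} [CommRing B] [Algebra R B] (ℬ : ℕ → Submodule R B) [GradedAlgebra ℬ]
    (d : ℕ) (φ : B →ₐ[R] A)
    (hdeg : ∀ n : ℕ, Submodule.map φ.toLinearMap (ℬ n) = 𝒜 (n * d)) (f' : B) (hf' : f' ∈ ℬ 1)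

include hdeg in
theorem map_mem (n : ℕ) (x : B) (hx : x ∈ ℬ n) : φ x ∈ 𝒜 (n • d) := by
  rw [smul_eq_mul, ← hdeg n]
  exact ⟨x, hx, rfl⟩

include hdeg hf' in
theorem hf : φ f' ∈ 𝒜 d := by
  have := map_mem 𝒜 ℬ d φ hdeg 1 f' hf'
  simpa using this

/-- component maps -/
noncomputable def comp (n : ℕ) : ℬ n →+ HomogeneousLocalization.Away 𝒜 (φ f') where
  toFun x := HomogeneousLocalization.Away.mk 𝒜 (hf 𝒜 ℬ d φ hdeg f' hf') n (φ x)
    (map_mem 𝒜 ℬ d φ hdeg n x x.2)
  map_zero' := by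
    apply HomogeneousLocalization.val_injective
    rw [HomogeneousLocalization.Away.val_mk]
    simp [Localization.mk_zero]
  map_add' x y := by
    apply HomogeneousLocalization.val_injective
    rw [HomogeneousLocalization.val_add]
    simp only [HomogeneousLocalization.Away.val_mk]
    rw [Localization.add_mk_self]
    simp

theorem comp_val (n : ℕ) (x : ℬ n) :
    (comp 𝒜 ℬ d φ hdeg f' hf' n x).val =
      Localization.mk (φ x) ⟨φ f' ^ n, pow_mem (Submonoid.mem_powers (φ f')) n⟩ :=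
  HomogeneousLocalization.Away.val_mk 𝒜 n (hf 𝒜 ℬ d φ hdeg f' hf') _ _

noncomputable def psiDS : (⨁ i, ℬ i) →+* HomogeneousLocalization.Away 𝒜 (φ f') :=
  DirectSum.toSemiring (comp 𝒜 ℬ d φ hdeg f' hf')
    (by
      apply HomogeneousLocalization.val_injective
      rw [comp_val, HomogeneousLocalization.val_one]
      show Localization.mk (φ (1 : B)) _ = 1
      simp)
    (by
      intro i j ai aj
      apply HomogeneousLocalization.val_injective
      rw [HomogeneousLocalization.val_mul, comp_val, comp_val, comp_val, Localization.mk_mul]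
      show Localization.mk (φ ((ai : B) * (aj : B))) _ = _
      rw [map_mul]
      congr 1
      ext
      simp [pow_add])


noncomputable def psi : B →+* HomogeneousLocalization.Away 𝒜 (φ f') :=
  (psiDS 𝒜 ℬ d φ hdeg f' hf').comp (DirectSum.decomposeRingEquiv ℬ).toRingHom

theorem psi_of_mem (n : ℕ) (x : B) (hx : x ∈ ℬ n) :
    psi 𝒜 ℬ d φ hdeg f' hf' x = comp 𝒜 ℬ d φ hdeg f' hf' n ⟨x, hx⟩ := by
  show psiDS 𝒜 ℬ d φ hdeg f' hf' (DirectSum.decompose ℬ x) = _
  rw [DirectSum.decompose_of_mem ℬ hx]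
  exact DirectSum.toSemiring_of _ _ _ _ _

theorem psi_val_of_mem (n : ℕ) (x : B) (hx : x ∈ ℬ n) :
    (psi 𝒜 ℬ d φ hdeg f' hf' x).val =
      Localization.mk (φ x) ⟨φ f' ^ n, pow_mem (Submonoid.mem_powers (φ f')) n⟩ := by
  rw [psi_of_mem 𝒜 ℬ d φ hdeg f' hf' n x hx, comp_val]

theorem psi_f' : psi 𝒜 ℬ d φ hdeg f' hf' f' = 1 := by
  apply HomogeneousLocalization.val_injective
  rw [psi_val_of_mem 𝒜 ℬ d φ hdeg f' hf' 1 f' hf', HomogeneousLocalization.val_one]
  convert Localization.mk_self (⟨φ f', Submonoid.mem_powers _⟩ : Submonoid.powers (φ f')) using 2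
  simp

theorem psi_sub_one : psi 𝒜 ℬ d φ hdeg f' hf' (f' - 1) = 0 := by
  rw [map_sub, psi_f', map_one, sub_self]

theorem sub_one_dvd_pow_sub_one (k : ℕ) : f' - 1 ∣ f' ^ k - 1 := by
  simpa using sub_dvd_pow_sub_pow f' 1 k

include hdeg hf' in
theorem psi_ker (hφ : Function.Injective φ) (x : B) (hx : psi 𝒜 ℬ d φ hdeg f' hf' x = 0) :
    x ∈ Ideal.span {f' - 1} := by
  classical
  set I := Ideal.span {f' - 1} with hI
  have hpow : ∀ k : ℕ, f' ^ k - 1 ∈ I := fun k =>
    Ideal.mem_span_singleton.mpr (sub_one_dvd_pow_sub_one f' k)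
  -- homogenize
  set supp := (DirectSum.decompose ℬ x).support with hsupp
  set N := supp.sup id with hN
  set y : B := ∑ n ∈ supp, (DirectSum.decompose ℬ x n : B) * f' ^ (N - n) with hy
  have hxy : x - y ∈ I := by
    have hx' : x = ∑ n ∈ supp, (DirectSum.decompose ℬ x n : B) :=
      (DirectSum.sum_support_decompose ℬ x).symm
    have : x - y = ∑ n ∈ supp, (DirectSum.decompose ℬ x n : B) * (-(f' ^ (N - n) - 1)) := by
      conv_lhs => rw [hx']
      rw [hy, ← Finset.sum_sub_distrib]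
      refine Finset.sum_congr rfl fun n _ => ?_
      ring
    rw [this]
    exact Ideal.sum_mem _ fun n _ => Ideal.mul_mem_left _ _ (neg_mem (hpow _))
  have hyN : y ∈ ℬ N := by
    refine Submodule.sum_mem _ fun n hn => ?_
    have hle : n ≤ N := Finset.le_sup (f := id) hn
    have h1 : (DirectSum.decompose ℬ x n : B) * f' ^ (N - n) ∈ ℬ (n + (N - n) • 1) :=
      SetLike.mul_mem_graded (SetLike.coe_mem _) (SetLike.pow_mem_graded _ hf')
    have : n + (N - n) • 1 = N := by simp; omega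
    rwa [this] at h1
  have hψker : ∀ z ∈ I, psi 𝒜 ℬ d φ hdeg f' hf' z = 0 := by
    intro z hz
    obtain ⟨w, rfl⟩ := Ideal.mem_span_singleton.mp hz
    rw [map_mul, psi_sub_one, zero_mul]
  have hψy : psi 𝒜 ℬ d φ hdeg f' hf' y = 0 := by
    have := hψker _ hxy
    rw [map_sub, hx, zero_sub, neg_eq_zero] at this
    exact this
  have hval := psi_val_of_mem 𝒜 ℬ d φ hdeg f' hf' N y hyN
  rw [hψy, HomogeneousLocalization.val_zero] at hval
  have := hval.symm
  rw [Localization.mk_eq_mk', IsLocalization.mk'_eq_zero_iff] at this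
  obtain ⟨⟨_, k, rfl⟩, hk⟩ := this
  have hk' : φ (f' ^ k * y) = 0 := by rw [map_mul, map_pow]; exact hk
  have hk'' : f' ^ k * y = 0 := hφ (by rw [hk', map_zero])
  have hyI : y ∈ I := by
    have : y = -((f' ^ k - 1) * y) := by
      have : (f' ^ k - 1) * y = f' ^ k * y - y := by ring
      rw [this, hk'']; ring
    rw [this]
    exact neg_mem (Ideal.mul_mem_right _ _ (hpow k))
  have : x = (x - y) + y := by ring
  rw [this]
  exact I.add_mem hxy hyI


end Aux

/-- Let S be a ring graded in nonnegative degrees, d > 0, and S^{(d)} the graded ring whose degree-n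
part is S_{nd} (given here as any graded ring S' with an injective algebra homomorphism φ : S' → S
carrying S'_n onto S_{nd} for every n); let f' ∈ S'_1, with image f = φ(f') ∈ S_d. Then there is a
ring isomorphism between the degree-zero homogeneous localization S_(f) and the quotient S'/(f' -
1)S', whose inverse sends the class of an element x of S'_n to the fraction φ(x)/f^n. (The module
part of the published statement is not stated here.) -/
theorem result {R A : Type u} [CommRing R] [CommRing A] [Algebra R A] (𝒜 : ℕ → Submodule R A) [GradedAlgebra 𝒜]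
    {B : Type u} [CommRing B] [Algebra R B] (ℬ : ℕ → Submodule R B) [GradedAlgebra ℬ]
    (d : ℕ) (hd : 0 < d) (φ : B →ₐ[R] A) (hφ : Function.Injective φ)
    (hdeg : ∀ n : ℕ, Submodule.map φ.toLinearMap (ℬ n) = 𝒜 (n * d)) (f' : B) (hf' : f' ∈ ℬ 1) :
    ∃ e : HomogeneousLocalization.Away 𝒜 (φ f') ≃+* B ⧸ Ideal.span {f' - 1},
      ∀ (n : ℕ) (x : B), x ∈ ℬ n →
        (e.symm (Ideal.Quotient.mk (Ideal.span {f' - 1}) x)).val =
          Localization.mk (φ x) ⟨φ f' ^ n, pow_mem (Submonoid.mem_powers (φ f')) n⟩ := by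
  classical
  have hker : ∀ a ∈ Ideal.span {f' - 1}, psi 𝒜 ℬ d φ hdeg f' hf' a = 0 := by
    intro z hz
    obtain ⟨w, rfl⟩ := Ideal.mem_span_singleton.mp hz
    rw [map_mul, psi_sub_one, zero_mul]
  let ψbar := Ideal.Quotient.lift (Ideal.span {f' - 1}) (psi 𝒜 ℬ d φ hdeg f' hf') hker
  have hinj : Function.Injective ψbar := by
    rw [injective_iff_map_eq_zero]
    intro z hz
    obtain ⟨x, rfl⟩ := Ideal.Quotient.mk_surjective z
    rw [Ideal.Quotient.lift_mk] at hz
    exact Ideal.Quotient.eq_zero_iff_mem.mpr (psi_ker 𝒜 ℬ d φ hdeg f' hf' hφ x hz)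
  have hsurj : Function.Surjective ψbar := by
    intro z
    obtain ⟨n, a, ha, rfl⟩ := HomogeneousLocalization.Away.mk_surjective 𝒜
      (hf 𝒜 ℬ d φ hdeg f' hf') z
    obtain ⟨x, hx, hxa⟩ : ∃ x ∈ ℬ n, φ x = a := by
      have := ha
      rw [smul_eq_mul, ← hdeg n] at this
      exact this
    subst hxa
    refine ⟨Ideal.Quotient.mk _ x, ?_⟩
    show psi 𝒜 ℬ d φ hdeg f' hf' x = _
    rw [psi_of_mem 𝒜 ℬ d φ hdeg f' hf' n x hx]
    rfl
  refine ⟨(RingEquiv.ofBijective ψbar ⟨hinj, hsurj⟩).symm, ?_⟩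
  intro n x hx
  rw [RingEquiv.symm_symm]
  show (psi 𝒜 ℬ d φ hdeg f' hf' x).val = _
  exact psi_val_of_mem 𝒜 ℬ d φ hdeg f' hf' n x hx

end Groth.Agent.S4396
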