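import Groth.Statements.S8310
import Mathlib
import Groth.Agent.Lib.helper5.Natural3
-- import your own Groth.Agent.* helpers here

set_option autoImplicit false
universe u
open CategoryTheory AlgebraicGeometry
open scoped HomogeneousIdeal
open EGA2

namespace Groth.Agent.S8310

namespace H5S8310
open Groth.Agent.H5.Natural

variable {R A B C : Type u} [CommRing R] [CommRing A] [Algebra R A]
    (𝒜 : ℕ → Submodule R A) [GradedAlgebra 𝒜] [CommRing B] [Algebra R B] (ℬ : ℕ → Submodule R B) [GradedAlgebra ℬ]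
    (φ : B →ₐ[R] Polynomial A) (hφ : Function.Injective φ)
    (hdeg : ∀ n : ℕ, Submodule.map φ.toLinearMap (ℬ n) =
      Submodule.map ((Polynomial.monomial n : A →ₗ[A] Polynomial A).restrictScalars R) (⨆ (m : ℕ) (_ : n ≤ m), 𝒜 m))
    [CommRing C] [Algebra R C] (𝒞 : ℕ → Submodule R C) [GradedAlgebra 𝒞]
    (π : ℬ →+*ᵍ 𝒞) (hπ : Function.Surjective π)
    (hker : RingHom.ker π.toRingHom =
      Ideal.span (⇑φ ⁻¹' (⇑(Polynomial.C : A →+* Polynomial A) '' ((HomogeneousIdeal.irrelevant 𝒜).toIdeal : Set A))))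
    (ρ : 𝒞 →+*ᵍ 𝒜) (hρ : ∀ (n : ℕ) (b : B), b ∈ ℬ n → ρ (π b) = GradedRing.proj 𝒜 n ((φ b).coeff n))

include hdeg hρ in
lemma ρ_surj : Function.Surjective ρ := by
  classical
  intro a
  have hmem : ∀ n, ∀ x ∈ 𝒜 n, x ∈ ρ.toRingHom.range := by
    intro n x hx
    obtain ⟨b, hb, hbφ⟩ := exists_preimage 𝒜 ℬ φ hdeg n x (le_Age 𝒜 le_rfl hx)
    refine ⟨π b, ?_⟩
    show ρ (π b) = x
    rw [hρ n b hb, hbφ, Polynomial.coeff_monomial, if_pos rfl, proj_of_mem 𝒜 hx]
  have : a ∈ ρ.toRingHom.range := by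
    rw [← DirectSum.sum_support_decompose 𝒜 a]
    exact sum_mem fun n _ => hmem n _ (SetLike.coe_mem _)
  obtain ⟨c, hc⟩ := this
  exact ⟨c, hc⟩

include hπ in
lemma π_homog_surj (n : ℕ) (t : C) (ht : t ∈ 𝒞 n) : ∃ b ∈ ℬ n, π b = t := by
  obtain ⟨b', hb'⟩ := hπ t
  refine ⟨(DirectSum.decompose ℬ b' n : B), SetLike.coe_mem _, ?_⟩
  rw [π.map_directSumDecompose, hb', DirectSum.decompose_of_mem_same 𝒞 ht]

include hφ hdeg hker in
lemma nilp_homog (n m : ℕ) (hnm : n < m) (a : A) (ha : a ∈ 𝒜 m) (b : B)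
    (hb : φ b = Polynomial.monomial n a) : (π b) ^ m = 0 := by
  have hpow : a ^ (m - 1) ∈ 𝒜 ((m - 1) * m) := by
    have := SetLike.pow_mem_graded (m - 1) ha
    rwa [smul_eq_mul] at this
  have hle : n * m ≤ (m - 1) * m := Nat.mul_le_mul_right m (by omega)
  obtain ⟨b', -, hb'⟩ := exists_preimage 𝒜 ℬ φ hdeg (n * m) (a ^ (m - 1)) (le_Age 𝒜 hle hpow)
  obtain ⟨c, -, hc⟩ := exists_preimage 𝒜 ℬ φ hdeg 0 a (by rw [Age_zero]; trivial)
  have hbm : b ^ m = c * b' := by
    apply hφ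
    rw [map_pow, map_mul, hb, hb', hc, Polynomial.monomial_pow, Polynomial.monomial_mul_monomial,
      zero_add, ← pow_succ']
    congr 2
    omega
  have hcker : c ∈ RingHom.ker π.toRingHom := by
    rw [hker]
    apply Ideal.subset_span
    refine ⟨a, mem_irrelevant_of_mem 𝒜 (by omega) ha, ?_⟩
    rw [hc]; rfl
  have hπc : π c = 0 := hcker
  rw [← map_pow, hbm, map_mul, hπc, zero_mul]


omit [GradedAlgebra ℬ] [GradedAlgebra 𝒞] in
lemma decompose_eq_zero_of_mem_Age (n m : ℕ) (hmn : m < n) (a : A) (ha : a ∈ Age 𝒜 n) :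
    (DirectSum.decompose 𝒜 a m : A) = 0 := by
  refine Age_induction 𝒜 (motive := fun a => (DirectSum.decompose 𝒜 a m : A) = 0) ha ?_ ?_ ?_
  · intro k hk y hy
    exact DirectSum.decompose_of_mem_ne 𝒜 hy (by omega)
  · simp
  · intro y z hy hz
    simp [DirectSum.decompose_add, hy, hz]

include hφ hdeg hker hπ hρ in
lemma ker_nilp (n : ℕ) (t : C) (ht : t ∈ 𝒞 n) (hρt : ρ t = 0) : IsNilpotent t := by
  classical
  obtain ⟨b, hb, rfl⟩ := π_homog_surj ℬ 𝒞 π hπ n t ht
  obtain ⟨a, ha, hba⟩ := exists_image 𝒜 ℬ φ hdeg n b hb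
  have hn0 : (DirectSum.decompose 𝒜 a n : A) = 0 := by
    have := hρ n b hb
    rw [hρt, hba, Polynomial.coeff_monomial, if_pos rfl, GradedRing.proj_apply] at this
    exact this.symm
  -- homogeneous pieces
  have hpiece : ∀ m : ℕ, ∃ bm : B, φ bm = Polynomial.monomial n (DirectSum.decompose 𝒜 a m : A) ∧
      IsNilpotent (π bm) := by
    intro m
    rcases lt_trichotomy m n with h | h | h
    · refine ⟨0, ?_, ?_⟩
      · rw [decompose_eq_zero_of_mem_Age 𝒜 n m h a ha]; simp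
      · rw [map_zero]; exact IsNilpotent.zero
    · refine ⟨0, ?_, ?_⟩
      · rw [h, hn0]; simp
      · rw [map_zero]; exact IsNilpotent.zero
    · obtain ⟨bm, -, hbm⟩ := exists_preimage 𝒜 ℬ φ hdeg n (DirectSum.decompose 𝒜 a m : A)
        (le_Age 𝒜 h.le (SetLike.coe_mem _))
      exact ⟨bm, hbm, m, nilp_homog 𝒜 ℬ φ hφ hdeg 𝒞 π hker n m h _ (SetLike.coe_mem _) bm hbm⟩
  choose bm hbm hnil using hpiece
  have hsum : b = ∑ m ∈ (DirectSum.decompose 𝒜 a).support, bm m := by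
    apply hφ
    rw [map_sum, hba]
    simp_rw [hbm]
    rw [← map_sum, DirectSum.sum_support_decompose 𝒜 a]
  rw [hsum, map_sum]
  exact isNilpotent_sum fun m _ => hnil m


section proj
variable {R A C : Type u} [CommRing R] [CommRing A] [Algebra R A]
    (𝒜 : ℕ → Submodule R A) [GradedAlgebra 𝒜]
    [CommRing C] [Algebra R C] (𝒞 : ℕ → Submodule R C) [GradedAlgebra 𝒞]
    (ρ : 𝒞 →+*ᵍ 𝒜) (hirr : HomogeneousIdeal.irrelevant 𝒜 ≤ (HomogeneousIdeal.irrelevant 𝒞).map ρ)
    (hsurj : Function.Surjective ρ)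
    (hnil : ∀ (n : ℕ) (t : C), t ∈ 𝒞 n → ρ t = 0 → IsNilpotent t)

include hnil in
lemma ker_le (𝔮 : ProjectiveSpectrum 𝒞) :
    RingHom.ker ρ.toRingHom ≤ 𝔮.asHomogeneousIdeal.toIdeal := by
  classical
  intro t ht
  have ht0 : ρ t = 0 := ht
  rw [← DirectSum.sum_support_decompose 𝒞 t]
  refine Ideal.sum_mem _ fun n _ => ?_
  have h0 : ρ (DirectSum.decompose 𝒞 t n : C) = 0 := by
    rw [ρ.map_directSumDecompose, ht0]
    simp
  obtain ⟨k, hk⟩ := hnil n _ (SetLike.coe_mem _) h0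
  have hprime : 𝔮.asHomogeneousIdeal.toIdeal.IsPrime := 𝔮.isPrime
  exact hprime.mem_of_pow_mem k (hk ▸ Ideal.zero_mem _)

include hsurj hnil in
theorem comap_bijective : Function.Bijective (ProjectiveSpectrum.comap ρ hirr) := by
  constructor
  · intro p q hpq
    have h1 : (ProjectiveSpectrum.comap ρ hirr p).asHomogeneousIdeal =
        (ProjectiveSpectrum.comap ρ hirr q).asHomogeneousIdeal := by rw [hpq]
    have h2 : ∀ c : C, ρ c ∈ p.asHomogeneousIdeal ↔ ρ c ∈ q.asHomogeneousIdeal := by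
      intro c
      have := SetLike.ext_iff.mp h1 c
      exact this
    apply ProjectiveSpectrum.ext
    apply HomogeneousIdeal.ext
    ext a
    obtain ⟨c, rfl⟩ := hsurj a
    exact h2 c
  · intro 𝔮
    have hk := ker_le 𝒜 𝒞 ρ hnil 𝔮
    have hprime : 𝔮.asHomogeneousIdeal.toIdeal.IsPrime := 𝔮.isPrime
    have hsurj' : Function.Surjective ρ.toRingHom := hsurj
    have hcm : (𝔮.asHomogeneousIdeal.toIdeal.map ρ.toRingHom).comap ρ.toRingHom =
        𝔮.asHomogeneousIdeal.toIdeal := by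
      rw [Ideal.comap_map_of_surjective' _ hsurj']
      exact sup_eq_left.mpr hk
    refine ⟨⟨𝔮.asHomogeneousIdeal.map ρ, ?_, ?_⟩, ?_⟩
    · exact Ideal.map_isPrime_of_surjective hsurj' hk
    · intro hle
      apply 𝔮.not_irrelevant_le
      intro t ht
      -- `t` in the irrelevant ideal of `𝒞`
      have h1 : ρ t ∈ (HomogeneousIdeal.irrelevant 𝒜) := by
        rw [HomogeneousIdeal.mem_irrelevant_iff] at ht ⊢
        rw [GradedRing.proj_apply] at ht ⊢
        rw [← ρ.map_directSumDecompose, ht, map_zero]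
      have h2 : ρ t ∈ (𝔮.asHomogeneousIdeal.map ρ) := hle h1
      have h3 : t ∈ (𝔮.asHomogeneousIdeal.toIdeal.map ρ.toRingHom).comap ρ.toRingHom := h2
      rw [hcm] at h3
      exact h3
    · apply ProjectiveSpectrum.ext
      apply HomogeneousIdeal.ext
      exact hcm

end proj

end H5S8310


/-- Let S be a positively graded ring (an ℕ-graded R-algebra), S♮ the graded ring with S♮_n = S_[n] =
⊕_{m ≥ n} S_m (presented as a graded ring S' with an injective algebra homomorphism φ : S' → S[X]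
carrying S'_n onto S_[n]·X^n), and T = S♮ ⊗_S S_0 = ⊕_n S_[n]/S_+S_[n] (presented as a graded ring
with a surjective graded homomorphism π : S' → T whose kernel is the ideal generated by the elements
of S' corresponding to the constants in S_+); let ρ : T → S be the surjective graded homomorphism
sending the class of a ∈ S_[n] (in degree n) to the degree-n component of a, and Proj S → Proj T the
morphism it induces (a closed immersion, ρ being surjective). Then this morphism Proj S → Proj T is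
bijective. -/
theorem result {R A B C : Type u} [CommRing R] [CommRing A] [Algebra R A]
    (𝒜 : ℕ → Submodule R A) [GradedAlgebra 𝒜] [CommRing B] [Algebra R B] (ℬ : ℕ → Submodule R B) [GradedAlgebra ℬ]
    (φ : B →ₐ[R] Polynomial A) (hφ : Function.Injective φ)
    (hdeg : ∀ n : ℕ, Submodule.map φ.toLinearMap (ℬ n) =
      Submodule.map ((Polynomial.monomial n : A →ₗ[A] Polynomial A).restrictScalars R) (⨆ (m : ℕ) (_ : n ≤ m), 𝒜 m))
    [CommRing C] [Algebra R C] (𝒞 : ℕ → Submodule R C) [GradedAlgebra 𝒞]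
    (π : ℬ →+*ᵍ 𝒞) (hπ : Function.Surjective π)
    (hker : RingHom.ker π.toRingHom =
      Ideal.span (⇑φ ⁻¹' (⇑(Polynomial.C : A →+* Polynomial A) '' ((HomogeneousIdeal.irrelevant 𝒜).toIdeal : Set A))))
    (ρ : 𝒞 →+*ᵍ 𝒜) (hρ : ∀ (n : ℕ) (b : B), b ∈ ℬ n → ρ (π b) = GradedRing.proj 𝒜 n ((φ b).coeff n))
    (hirr : HomogeneousIdeal.irrelevant 𝒜 ≤ (HomogeneousIdeal.irrelevant 𝒞).map ρ) :
    Function.Bijective (Proj.map ρ hirr).base := by
  have hsurj := H5S8310.ρ_surj 𝒜 ℬ φ hdeg 𝒞 π ρ hρ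
  have hnil := H5S8310.ker_nilp 𝒜 ℬ φ hφ hdeg 𝒞 π hπ hker ρ hρ
  exact H5S8310.comap_bijective 𝒜 𝒞 ρ hirr hsurj hnil

end Groth.Agent.S8310
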