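import Groth.Statements.S8311
import Mathlib
import Groth.Agent.Lib.helper5.Natural3
import Groth.Agent.S8310
-- import your own Groth.Agent.* helpers here

set_option autoImplicit false
universe u
open CategoryTheory AlgebraicGeometry
open scoped HomogeneousIdeal
open EGA2

namespace Groth.Agent.S8311

section helpers
open CategoryTheory.Limits
namespace H5S8311
open Groth.Agent.H5.Natural Groth.Agent.S8310

variable {R A B C : Type u} [CommRing R] [CommRing A] [Algebra R A]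
    (𝒜 : ℕ → Submodule R A) [GradedAlgebra 𝒜] [CommRing B] [Algebra R B] (ℬ : ℕ → Submodule R B) [GradedAlgebra ℬ]
    (φ : B →ₐ[R] Polynomial A) (hφ : Function.Injective φ)
    (hdeg : ∀ n : ℕ, Submodule.map φ.toLinearMap (ℬ n) =
      Submodule.map ((Polynomial.monomial n : A →ₗ[A] Polynomial A).restrictScalars R) (⨆ (m : ℕ) (_ : n ≤ m), 𝒜 m))
    [CommRing C] [Algebra R C] (𝒞 : ℕ → Submodule R C) [GradedAlgebra 𝒞]
    (π : ℬ →+*ᵍ 𝒞) (hπ : Function.Surjective π)
    (hker : RingHom.ker π.toRingHom =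
      Ideal.span (⇑φ ⁻¹' (⇑(Polynomial.C : A →+* Polynomial A) '' ((HomogeneousIdeal.irrelevant 𝒜).toIdeal : Set A))))
    (ρ : 𝒞 →+*ᵍ 𝒜) (hρ : ∀ (n : ℕ) (b : B), b ∈ ℬ n → ρ (π b) = GradedRing.proj 𝒜 n ((φ b).coeff n))

omit [GradedAlgebra 𝒜] in
lemma graded_le_mul (n₀ : ℕ) (hgen : ∀ n : ℕ, n₀ ≤ n → 𝒜 (n + 1) = 𝒜 1 * 𝒜 n) [GradedAlgebra 𝒜]
    (n : ℕ) (hn : n₀ ≤ n) (j : ℕ) (hj : 1 ≤ j) : 𝒜 (n + j) ≤ 𝒜 j * 𝒜 n := by
  induction j, hj using Nat.le_induction with
  | base => exact (hgen n hn).le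
  | succ j hj ih =>
    have : 𝒜 (n + (j + 1)) = 𝒜 1 * 𝒜 (n + j) := by
      rw [← add_assoc]; exact hgen (n + j) (by omega)
    rw [this]
    calc 𝒜 1 * 𝒜 (n + j) ≤ 𝒜 1 * (𝒜 j * 𝒜 n) := mul_le_mul' le_rfl ih
      _ = (𝒜 1 * 𝒜 j) * 𝒜 n := (mul_assoc _ _ _).symm
      _ ≤ 𝒜 (j + 1) * 𝒜 n := by
        refine mul_le_mul' ?_ le_rfl
        rw [add_comm j 1]
        exact mul_le_graded 𝒜 1 j

include hdeg hker in
/-- products `u v` with `u` of positive degree and `v ∈ S_n` die in `T_n` -/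
lemma mul_dies (n j : ℕ) (hj : 1 ≤ j) (a : A) (ha : a ∈ 𝒜 j * 𝒜 n) :
    ∃ b : B, φ b = Polynomial.monomial n a ∧ π b = 0 := by
  refine Submodule.mul_induction_on
    (C := fun a => ∃ b : B, φ b = Polynomial.monomial n a ∧ π b = 0) ha ?_ ?_
  · intro u hu v hv
    obtain ⟨c, -, hc⟩ := exists_preimage 𝒜 ℬ φ hdeg 0 u (by rw [Age_zero]; trivial)
    obtain ⟨b', -, hb'⟩ := exists_preimage 𝒜 ℬ φ hdeg n v (le_Age 𝒜 le_rfl hv)
    have hcker : c ∈ RingHom.ker π.toRingHom := by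
      rw [hker]
      apply Ideal.subset_span
      refine ⟨u, mem_irrelevant_of_mem 𝒜 hj hu, ?_⟩
      rw [hc]; rfl
    have hπc : π c = 0 := hcker
    refine ⟨c * b', ?_, ?_⟩
    · rw [map_mul, hc, hb', Polynomial.monomial_mul_monomial, zero_add]
    · rw [map_mul, hπc, zero_mul]
  · intro x y hx hy
    obtain ⟨b1, h1, h1'⟩ := hx
    obtain ⟨b2, h2, h2'⟩ := hy
    exact ⟨b1 + b2, by rw [map_add, h1, h2, map_add], by rw [map_add, h1', h2', add_zero]⟩


include hφ hdeg hker hπ hρ in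
lemma ρ_inj_high (n₀ : ℕ) (hgen : ∀ n : ℕ, n₀ ≤ n → 𝒜 (n + 1) = 𝒜 1 * 𝒜 n)
    (n : ℕ) (hn : n₀ ≤ n) (t : C) (ht : t ∈ 𝒞 n) (hρt : ρ t = 0) : t = 0 := by
  classical
  obtain ⟨b, hb, rfl⟩ := H5S8310.π_homog_surj ℬ 𝒞 π hπ n t ht
  obtain ⟨a, ha, hba⟩ := exists_image 𝒜 ℬ φ hdeg n b hb
  have hn0 : (DirectSum.decompose 𝒜 a n : A) = 0 := by
    have := hρ n b hb
    rw [hρt, hba, Polynomial.coeff_monomial, if_pos rfl, GradedRing.proj_apply] at this
    exact this.symm
  have hpiece : ∀ m : ℕ, ∃ bm : B, φ bm = Polynomial.monomial n (DirectSum.decompose 𝒜 a m : A) ∧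
      π bm = 0 := by
    intro m
    rcases lt_trichotomy m n with h | h | h
    · refine ⟨0, ?_, map_zero _⟩
      rw [H5S8310.decompose_eq_zero_of_mem_Age 𝒜 n m h a ha]; simp
    · refine ⟨0, ?_, map_zero _⟩
      rw [h, hn0]; simp
    · have hm : m = n + (m - n) := by omega
      have hmem : (DirectSum.decompose 𝒜 a m : A) ∈ 𝒜 (m - n) * 𝒜 n := by
        apply graded_le_mul 𝒜 n₀ hgen n hn (m - n) (by omega)
        rw [← hm]
        exact SetLike.coe_mem _
      exact mul_dies 𝒜 ℬ φ hdeg 𝒞 π hker n (m - n) (by omega) _ hmem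
  choose bm hbm hzero using hpiece
  have hsum : b = ∑ m ∈ (DirectSum.decompose 𝒜 a).support, bm m := by
    apply hφ
    rw [map_sum, hba]
    simp_rw [hbm]
    rw [← map_sum, DirectSum.sum_support_decompose 𝒜 a]
  rw [hsum, map_sum]
  exact Finset.sum_eq_zero fun m _ => hzero m


section away
variable {R A C : Type u} [CommRing R] [CommRing A] [Algebra R A]
    (𝒜 : ℕ → Submodule R A) [GradedAlgebra 𝒜]
    [CommRing C] [Algebra R C] (𝒞 : ℕ → Submodule R C) [GradedAlgebra 𝒞]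
    (ρ : 𝒞 →+*ᵍ 𝒜)
    (hsurj : Function.Surjective ρ) (n₀ : ℕ)
    (hinj : ∀ (n : ℕ), n₀ ≤ n → ∀ t : C, t ∈ 𝒞 n → ρ t = 0 → t = 0)

include hsurj in
lemma homog_surj (n : ℕ) (a : A) (ha : a ∈ 𝒜 n) : ∃ c ∈ 𝒞 n, ρ c = a := by
  obtain ⟨c', hc'⟩ := hsurj a
  refine ⟨(DirectSum.decompose 𝒞 c' n : C), SetLike.coe_mem _, ?_⟩
  rw [ρ.map_directSumDecompose, hc', DirectSum.decompose_of_mem_same 𝒜 ha]

include hsurj hinj in
lemma away_map_bijective (d : ℕ) (hd : 0 < d) (s : C) (hs : s ∈ 𝒞 d) :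
    Function.Bijective (HomogeneousLocalization.Away.map ρ s) := by
  constructor
  · rw [injective_iff_map_eq_zero]
    intro x hx
    obtain ⟨n, c, hc, rfl⟩ := HomogeneousLocalization.Away.mk_surjective 𝒞 hs x
    rw [HomogeneousLocalization.Away.map_mk] at hx
    have hx' := congrArg HomogeneousLocalization.val hx
    rw [HomogeneousLocalization.Away.val_mk, HomogeneousLocalization.val_zero,
      Localization.mk_eq_mk'_apply, IsLocalization.mk'_eq_zero_iff] at hx'
    obtain ⟨⟨_, k, rfl⟩, hk⟩ := hx'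
    -- enlarge the exponent so that the degree is at least `n₀`
    have hdeg : s ^ (k + n₀) * c ∈ 𝒞 ((k + n₀) • d + n • d) :=
      SetLike.mul_mem_graded (SetLike.pow_mem_graded _ hs) hc
    have hzero : s ^ (k + n₀) * c = 0 := by
      refine hinj _ ?_ _ hdeg ?_
      · simp only [smul_eq_mul]
        nlinarith
      · have hk' : (ρ s) ^ k * ρ c = 0 := hk
        rw [map_mul, map_pow, pow_add, mul_assoc, mul_comm ((ρ s) ^ n₀), ← mul_assoc, hk', zero_mul]
    apply HomogeneousLocalization.val_injective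
    rw [HomogeneousLocalization.Away.val_mk, HomogeneousLocalization.val_zero,
      Localization.mk_eq_mk'_apply, IsLocalization.mk'_eq_zero_iff]
    exact ⟨⟨s ^ (k + n₀), k + n₀, rfl⟩, hzero⟩
  · intro y
    obtain ⟨n, a, ha, rfl⟩ := HomogeneousLocalization.Away.mk_surjective 𝒜 (ρ.map_mem hs) y
    obtain ⟨c, hc, rfl⟩ := homog_surj 𝒜 𝒞 ρ hsurj (n • d) a ha
    exact ⟨HomogeneousLocalization.Away.mk 𝒞 hs n c hc, HomogeneousLocalization.Away.map_mk ..⟩

end away


section scheme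
variable {R A C : Type u} [CommRing R] [CommRing A] [Algebra R A]
    (𝒜 : ℕ → Submodule R A) [GradedAlgebra 𝒜]
    [CommRing C] [Algebra R C] (𝒞 : ℕ → Submodule R C) [GradedAlgebra 𝒞]
    (ρ : 𝒞 →+*ᵍ 𝒜) (hirr : HomogeneousIdeal.irrelevant 𝒜 ≤ (HomogeneousIdeal.irrelevant 𝒞).map ρ)

theorem isIso_map
    (hbij : ∀ (d : ℕ) (_ : 0 < d) (s : C) (_ : s ∈ 𝒞 d),
      Function.Bijective (HomogeneousLocalization.Away.map ρ s)) :
    IsIso (Proj.map ρ hirr) := by
  have key : MorphismProperty.isomorphisms Scheme (Proj.map ρ hirr) := by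
    apply IsZariskiLocalAtTarget.of_openCover (P := MorphismProperty.isomorphisms Scheme)
      (Proj.affineOpenCover 𝒞).openCover
    intro i
    obtain ⟨⟨d, hd⟩, ⟨s, hs⟩⟩ := i
    have hiso : IsIso (Spec.map (CommRingCat.ofHom (HomogeneousLocalization.Away.map ρ s))) := by
      have : IsIso (CommRingCat.ofHom (HomogeneousLocalization.Away.map ρ s)) :=
        (ConcreteCategory.isIso_iff_bijective _).mpr (hbij d hd s hs)
      infer_instance
    have hpb : IsPullback (Spec.map (CommRingCat.ofHom (HomogeneousLocalization.Away.map ρ s)))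
        (Proj.awayι 𝒜 (ρ s) (ρ.2 hs) hd) (Proj.awayι 𝒞 s hs hd) (Proj.map ρ hirr) := by
      apply IsOpenImmersion.isPullback
      · exact Proj.awayι_comp_map ρ hirr hd s hs
      · rw [Proj.opensRange_awayι, Proj.opensRange_awayι, Proj.map_preimage_basicOpen]
    show IsIso (pullback.snd (Proj.map ρ hirr) (Proj.awayι 𝒞 s hs hd))
    have heq : pullback.snd (Proj.map ρ hirr) (Proj.awayι 𝒞 s hs hd) =
        hpb.flip.isoPullback.inv ≫
          Spec.map (CommRingCat.ofHom (HomogeneousLocalization.Away.map ρ s)) := by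
      rw [Iso.eq_inv_comp]
      exact hpb.flip.isoPullback_hom_snd
    rw [heq]
    infer_instance
  exact key

end scheme

end H5S8311

end helpers

/-- Let S be a positively graded ring (an ℕ-graded R-algebra), S♮ the graded ring with S♮_n = S_[n] =
⊕_{m ≥ n} S_m (presented as a graded ring S' with an injective algebra homomorphism φ : S' → S[X]
carrying S'_n onto S_[n]·X^n), and T = S♮ ⊗_S S_0 = ⊕_n S_[n]/S_+S_[n] (presented as a graded ring
with a surjective graded homomorphism π : S' → T whose kernel is the ideal generated by the elements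
of S' corresponding to the constants in S_+); let ρ : T → S be the surjective graded homomorphism
sending the class of a ∈ S_[n] (in degree n) to the degree-n component of a, and Proj S → Proj T the
morphism it induces (a closed immersion, ρ being surjective). If there is n₀ such that S_{n+1} = S_1
S_n for every n ≥ n₀ (products of graded pieces as submodules), then the morphism Proj S → Proj T is
an isomorphism. (The published statement also asserts the converse when S is Noetherian; that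
converse is not correct as published: for S = k[y] with y of degree 2 the morphism is an isomorphism
of one-point schemes Spec k while S_{2m} ≠ S_1 S_{2m−1} = 0 for all m, so only the direct
implication is stated here.) -/
theorem result {R A B C : Type u} [CommRing R] [CommRing A] [Algebra R A]
    (𝒜 : ℕ → Submodule R A) [GradedAlgebra 𝒜] [CommRing B] [Algebra R B] (ℬ : ℕ → Submodule R B) [GradedAlgebra ℬ]
    (φ : B →ₐ[R] Polynomial A) (hφ : Function.Injective φ)
    (hdeg : ∀ n : ℕ, Submodule.map φ.toLinearMap (ℬ n) =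
      Submodule.map ((Polynomial.monomial n : A →ₗ[A] Polynomial A).restrictScalars R) (⨆ (m : ℕ) (_ : n ≤ m), 𝒜 m))
    [CommRing C] [Algebra R C] (𝒞 : ℕ → Submodule R C) [GradedAlgebra 𝒞]
    (π : ℬ →+*ᵍ 𝒞) (hπ : Function.Surjective π)
    (hker : RingHom.ker π.toRingHom =
      Ideal.span (⇑φ ⁻¹' (⇑(Polynomial.C : A →+* Polynomial A) '' ((HomogeneousIdeal.irrelevant 𝒜).toIdeal : Set A))))
    (ρ : 𝒞 →+*ᵍ 𝒜) (hρ : ∀ (n : ℕ) (b : B), b ∈ ℬ n → ρ (π b) = GradedRing.proj 𝒜 n ((φ b).coeff n))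
    (hirr : HomogeneousIdeal.irrelevant 𝒜 ≤ (HomogeneousIdeal.irrelevant 𝒞).map ρ)
    (hgen : ∃ n₀ : ℕ, ∀ n : ℕ, n₀ ≤ n → 𝒜 (n + 1) = 𝒜 1 * 𝒜 n) :
    IsIso (Proj.map ρ hirr) := by
  obtain ⟨n₀, hgen⟩ := hgen
  have hsurj := Groth.Agent.S8310.H5S8310.ρ_surj 𝒜 ℬ φ hdeg 𝒞 π ρ hρ
  have hinj := H5S8311.ρ_inj_high 𝒜 ℬ φ hφ hdeg 𝒞 π hπ hker ρ hρ n₀ hgen
  exact H5S8311.isIso_map 𝒜 𝒞 ρ hirr
    (fun d hd s hs => H5S8311.away_map_bijective 𝒜 𝒞 ρ hsurj n₀ hinj d hd s hs)

end Groth.Agent.S8311
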