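import Groth.Statements.S4398
import Mathlib
import Groth.Agent.S8311
-- import your own Groth.Agent.* helpers here

set_option autoImplicit false
universe u
open AlgebraicGeometry
open EGA2

namespace Groth.Agent.S4398

namespace H5S4398

variable {R A C : Type u} [CommRing R] [CommRing A] [Algebra R A]
    (𝒜 : ℕ → Submodule R A) [GradedAlgebra 𝒜]
    [CommRing C] [Algebra R C] (𝒞 : ℕ → Submodule R C) [GradedAlgebra 𝒞]
    (ρ : 𝒞 →+*ᵍ 𝒜)
    (hsurj : ∀ (n : ℕ), 1 ≤ n → ∀ a : A, a ∈ 𝒜 n → ∃ c ∈ 𝒞 n, ρ c = a)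
    (hinj : ∀ (n : ℕ), 1 ≤ n → ∀ t : C, t ∈ 𝒞 n → ρ t = 0 → t = 0)

include hsurj hinj in
lemma away_map_bijective (d : ℕ) (hd : 0 < d) (s : C) (hs : s ∈ 𝒞 d) :
    Function.Bijective (HomogeneousLocalization.Away.map ρ s) := by
  constructor
  · rw [injective_iff_map_eq_zero]
    intro x hx
    obtain ⟨n, c, hc, rfl⟩ := HomogeneousLocalization.Away.mk_surjective 𝒞 hs x
    rw [HomogeneousLocalization.Away.map_mk] at hx
    have hx' := congrArg HomogeneousLocalization.val hx
    rw [HomogeneousLocalization.Away.val_mk, HomogeneousLocalization.val_zero,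
      Localization.mk_eq_mk'_apply, IsLocalization.mk'_eq_zero_iff] at hx'
    obtain ⟨⟨_, k, rfl⟩, hk⟩ := hx'
    have hdeg : s ^ (k + 1) * c ∈ 𝒞 ((k + 1) • d + n • d) :=
      SetLike.mul_mem_graded (SetLike.pow_mem_graded _ hs) hc
    have hzero : s ^ (k + 1) * c = 0 := by
      refine hinj _ ?_ _ hdeg ?_
      · simp only [smul_eq_mul]
        nlinarith
      · have hk' : (ρ s) ^ k * ρ c = 0 := hk
        rw [map_mul, map_pow, pow_add, mul_assoc, mul_comm ((ρ s) ^ 1), ← mul_assoc, hk', zero_mul]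
    apply HomogeneousLocalization.val_injective
    rw [HomogeneousLocalization.Away.val_mk, HomogeneousLocalization.val_zero,
      Localization.mk_eq_mk'_apply, IsLocalization.mk'_eq_zero_iff]
    exact ⟨⟨s ^ (k + 1), k + 1, rfl⟩, hzero⟩
  · intro y
    obtain ⟨n, a, ha, rfl⟩ := HomogeneousLocalization.Away.mk_surjective 𝒜 (ρ.map_mem hs) y
    have ha' : a * ρ s ∈ 𝒜 ((n + 1) • d) := by
      have := SetLike.mul_mem_graded ha (ρ.map_mem hs)
      rw [add_smul, one_smul]
      exact this
    obtain ⟨c, hc, hca⟩ := hsurj ((n + 1) • d) (by simp only [smul_eq_mul]; nlinarith) _ ha'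
    refine ⟨HomogeneousLocalization.Away.mk 𝒞 hs (n + 1) c hc, ?_⟩
    rw [HomogeneousLocalization.Away.map_mk]
    apply HomogeneousLocalization.val_injective
    rw [HomogeneousLocalization.Away.val_mk, HomogeneousLocalization.Away.val_mk,
      Localization.mk_eq_mk_iff, Localization.r_iff_exists]
    refine ⟨1, ?_⟩
    simp only [OneMemClass.coe_one, one_mul, hca]
    show ρ s ^ n * (a * ρ s) = ρ s ^ (n + 1) * a
    ring

end H5S4398


/-- Let φ : S' → S be a homomorphism of rings graded in nonnegative degrees which maps S'_n bijectively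
onto S_n for every n > 0, so that S_+ lies in the ideal generated by φ(S'_+) (stated as a hypothesis
because the induced morphism is built from it). Then the induced morphism Proj S → Proj S' is an
isomorphism of schemes. (The published statement treats the cases S'_0 = ℤ and S'_0 = A with S'_n =
S_n for n > 0; this row allows any graded φ that is bijective in positive degrees.) -/
theorem result {R A : Type u} [CommRing R] [CommRing A] [Algebra R A] (𝒜 : ℕ → Submodule R A) [GradedAlgebra 𝒜]
    {B : Type u} [CommRing B] [Algebra R B] (ℬ : ℕ → Submodule R B) [GradedAlgebra ℬ]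
    (φ : ℬ →+*ᵍ 𝒜) (hbij : ∀ n : ℕ, 0 < n → Set.BijOn φ (ℬ n) (𝒜 n))
    (hφ : HomogeneousIdeal.irrelevant 𝒜 ≤ (HomogeneousIdeal.irrelevant ℬ).map φ) :
    CategoryTheory.IsIso (Proj.map φ hφ) := by
  refine Groth.Agent.S8311.H5S8311.isIso_map 𝒜 ℬ φ hφ (fun d hd s hs =>
    H5S4398.away_map_bijective 𝒜 ℬ φ ?_ ?_ d hd s hs)
  · intro n hn a ha
    obtain ⟨c, hc, hca⟩ := (hbij n hn).surjOn ha
    exact ⟨c, hc, hca⟩
  · intro n hn t ht h0
    exact (hbij n hn).injOn ht (zero_mem _) (by rw [h0, map_zero])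

end Groth.Agent.S4398
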