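import Groth.Statements.S4399
import Mathlib
import Groth.Agent.Lib.helper24.TwistTriv2

set_option autoImplicit false
universe u
open CategoryTheory CategoryTheory.Limits AlgebraicGeometry
open EGA2

namespace Groth.Agent.S4399



/-- Let S be a ring graded in nonnegative degrees, X = Proj S, d > 0, and U the union of the opens
D_+(f) for f running through S_d. Then for every integer n the restriction of the twisting sheaf
O_X(nd) to U is an invertible O_U-module. -/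
theorem result {R A : Type u} [CommRing R] [CommRing A] [Algebra R A] (𝒜 : ℕ → Submodule R A) [GradedAlgebra 𝒜]
    (d : ℕ) (hd : 0 < d) (n : ℤ) :
    PicF.IsInvertible ((Twist.twist 𝒜 (n * d)).restrict (⨆ f : 𝒜 d, Proj.basicOpen 𝒜 (f : A)).ι) := by
  obtain ⟨Y, hY⟩ : ∃ Y : (Proj 𝒜).Opens, Y = ⨆ f : 𝒜 d, Proj.basicOpen 𝒜 (f : A) := ⟨_, rfl⟩
  rw [← hY]
  intro y
  have hy : (y.1 : Proj 𝒜) ∈ ⨆ f : 𝒜 d, Proj.basicOpen 𝒜 (f : A) := hY ▸ y.2
  rw [TopologicalSpace.Opens.mem_iSup] at hy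
  obtain ⟨f, hyf⟩ := hy
  let U : (Y : Scheme).Opens := Y.ι ⁻¹ᵁ (Proj.basicOpen 𝒜 (f : A))
  refine ⟨U, hyf, ?_⟩
  have hfa : ∀ k : ℕ, (f : A) ^ k ∈ 𝒜 (k * d) := fun k => by
    have := SetLike.pow_mem_graded k f.2
    rw [smul_eq_mul] at this
    exact this
  have hnot : ∀ (k : ℕ) (z : (U : Scheme)),
      (f : A) ^ k ∉ ((U.ι ≫ Y.ι) z : ProjectiveSpectrum 𝒜).asHomogeneousIdeal := by
    intro k z hmem
    have hz : (Y.ι (U.ι z) : Proj 𝒜) ∈ Proj.basicOpen 𝒜 (f : A) := z.2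
    refine (ProjectiveSpectrum.mem_basicOpen 𝒜 (f : A) _).mp hz ?_
    exact (Y.ι (U.ι z) : ProjectiveSpectrum 𝒜).isPrime.mem_of_pow_mem k hmem
  have hdeg : (((n.toNat * d : ℕ) : ℤ)) = (((-n).toNat * d : ℕ) : ℤ) + n * d := by
    have h1 : ((n.toNat : ℤ)) - ((-n).toNat : ℤ) = n := Int.toNat_sub_toNat_neg n
    have h2 : (n.toNat : ℤ) = (-n).toNat + n := by omega
    push_cast
    rw [h2]
    ring
  obtain ⟨e⟩ := Groth.Agent.Lib.helper24.TwistTriv.twist_restrict_iso_of_isOpenImmersion 𝒜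
    (U.ι ≫ Y.ι) (n * d) (hfa n.toNat) (hfa (-n).toNat) hdeg (hnot _) (hnot _)
  exact ⟨((Scheme.Modules.restrictFunctorComp U.ι Y.ι).app (Twist.twist 𝒜 (n * d))).symm ≪≫ e⟩

end Groth.Agent.S4399
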