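import Groth.Statements.S4404
import Mathlib

set_option autoImplicit false
universe u
open EGA2

namespace Groth.Agent.S4404

/-- (a) ⇔ (b): let S be a ring graded in nonnegative degrees and E a subset of the irrelevant ideal S_+.
Then V_+(E) is the whole of Proj S if and only if every element of E is nilpotent. -/
theorem result {R A : Type u} [CommRing R] [CommRing A] [Algebra R A] (𝒜 : ℕ → Submodule R A) [GradedAlgebra 𝒜]
    (E : Set A) (hE : E ⊆ (HomogeneousIdeal.irrelevant 𝒜).toIdeal) :
    ProjectiveSpectrum.zeroLocus 𝒜 E = Set.univ ↔ ∀ e ∈ E, IsNilpotent e := by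
  constructor
  · intro huniv e he
    have hmem : e ∈ (⊥ : Ideal A).radical := by
      rw [(Ideal.IsHomogeneous.bot 𝒜).radical_eq]
      rw [Ideal.mem_sInf]
      rintro J ⟨hJh, -, hJp⟩
      by_cases hirr : HomogeneousIdeal.irrelevant 𝒜 ≤ (⟨J, hJh⟩ : HomogeneousIdeal 𝒜)
      · exact hirr (hE he)
      · let x : ProjectiveSpectrum 𝒜 := ⟨⟨J, hJh⟩, hJp, hirr⟩
        have hx : x ∈ ProjectiveSpectrum.zeroLocus 𝒜 E := by rw [huniv]; trivial
        exact hx he
    exact hmem
  · intro hnil
    ext x
    simp only [Set.mem_univ, iff_true, ProjectiveSpectrum.mem_zeroLocus]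
    intro e he
    obtain ⟨n, hn⟩ := hnil e he
    have : e ^ n ∈ x.asHomogeneousIdeal.toIdeal := by rw [hn]; exact Ideal.zero_mem _
    exact x.isPrime.mem_of_pow_mem n this

end Groth.Agent.S4404
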