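import Groth.Statements.S4405
import Mathlib

set_option autoImplicit false
universe u
open EGA2

namespace Groth.Agent.S4405

/-- Let S be a ring graded in nonnegative degrees and E any subset of the irrelevant ideal S_+. Then the
intersection of S_+ with the vanishing ideal of the closed subset V_+(E) of Proj S equals the
intersection of S_+ with the radical of the graded ideal generated by E (the smallest homogeneous
ideal containing E). -/
theorem result {R A : Type u} [CommRing R] [CommRing A] [Algebra R A] (𝒜 : ℕ → Submodule R A) [GradedAlgebra 𝒜]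
    (E : Set A) (hE : E ⊆ (HomogeneousIdeal.irrelevant 𝒜).toIdeal) :
    (HomogeneousIdeal.irrelevant 𝒜).toIdeal ⊓
        (ProjectiveSpectrum.vanishingIdeal (ProjectiveSpectrum.zeroLocus 𝒜 E)).toIdeal =
      (HomogeneousIdeal.irrelevant 𝒜).toIdeal ⊓ (Ideal.homogeneousHull 𝒜 (Ideal.span E)).toIdeal.radical := by
  ext x
  simp only [Ideal.mem_inf]
  refine and_congr_right fun hx => ?_
  rw [(Ideal.homogeneousHull 𝒜 (Ideal.span E)).isHomogeneous.radical_eq, Ideal.mem_sInf]
  constructor
  · intro hv J hJ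
    obtain ⟨hJh, hJle, hJp⟩ := hJ
    by_cases hirr : HomogeneousIdeal.irrelevant 𝒜 ≤ (⟨J, hJh⟩ : HomogeneousIdeal 𝒜)
    · exact hirr hx
    · let y : ProjectiveSpectrum 𝒜 := ⟨⟨J, hJh⟩, hJp, hirr⟩
      have hy : y ∈ ProjectiveSpectrum.zeroLocus 𝒜 E := by
        intro e he
        exact hJle (Ideal.le_toIdeal_homogeneousHull 𝒜 _ (Ideal.subset_span he))
      exact (ProjectiveSpectrum.mem_vanishingIdeal _ _).mp hv y hy
  · intro h
    refine (ProjectiveSpectrum.mem_vanishingIdeal _ _).mpr fun y hy => ?_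
    refine h ⟨y.asHomogeneousIdeal.isHomogeneous, ?_, y.isPrime⟩
    have h1 : Ideal.homogeneousHull 𝒜 (Ideal.span E) ≤ y.asHomogeneousIdeal :=
      (Ideal.homogeneousHull.gc 𝒜 _ _).mpr (Ideal.span_le.mpr hy)
    exact h1

end Groth.Agent.S4405
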