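import Groth.Statements.S4407
import Groth.Agent.Lib.helper9.PushQCQS
import Mathlib.AlgebraicGeometry.QuasiAffine

set_option autoImplicit false
universe u
open CategoryTheory CategoryTheory.Limits AlgebraicGeometry
open EGA2

namespace Groth.Agent.S4407

open CategoryTheory CategoryTheory.Limits AlgebraicGeometry Scheme.Modules in
set_option backward.isDefEq.respectTransparency false in
lemma exists_epi_free {R : CommRingCat.{u}} {X : Scheme.{u}} (j : X ⟶ Spec R) [IsOpenImmersion j]
    [QuasiCompact j] (F : X.Modules) [F.IsQuasicoherent] :
    ∃ (ι : Type u) (p : (SheafOfModules.free ι : X.Modules) ⟶ F), Epi p := by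
  haveI hG : ((pushforward j).obj F).IsQuasicoherent :=
    Groth.Agent.Lib.helper9.PushQCQS.isQuasicoherent_pushforward_qcqs j F
  haveI : IsIso ((pushforward j).obj F).fromTildeΓ := inferInstance
  let N : ModuleCat.{u} R :=
    (modulesSpecToSheaf.obj ((pushforward j).obj F)).presheaf.obj (.op ⊤)
  let P : (tilde N).Presentation :=
    presentationTilde.{u} N .univ (by simp) _ (Submodule.span_eq _)
  haveI : Epi P.generators.π := P.generators.epi
  let p1 : (SheafOfModules.free P.generators.I : (Spec R).Modules) ⟶ (pushforward j).obj F :=
    P.generators.π ≫ ((pushforward j).obj F).fromTildeΓ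
  haveI : Epi p1 := epi_comp _ _
  haveI : PreservesColimitsOfSize.{u, u} (restrictFunctor j) :=
    (restrictAdjunction j).leftAdjoint_preservesColimits
  haveI : Epi ((restrictFunctor j).map p1) := inferInstance
  let e1 : (SheafOfModules.free P.generators.I : X.Modules) ≅
      (restrictFunctor j).obj (SheafOfModules.free P.generators.I) :=
    SheafOfModules.mapFreeIso (restrictFunctor j) P.generators.I (restrictUnitIso j).symm
  refine ⟨P.generators.I,
    e1.hom ≫ (restrictFunctor j).map p1 ≫ ((restrictFunctorAdjCounitIso j).app F).hom, ?_⟩
  haveI : Epi ((restrictFunctor j).map p1 ≫ ((restrictFunctorAdjCounitIso j).app F).hom) :=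
    epi_comp _ _
  exact epi_comp _ _

open CategoryTheory CategoryTheory.Limits AlgebraicGeometry Scheme.Modules in
set_option backward.isDefEq.respectTransparency false in
lemma main (X : Scheme.{u}) [X.IsQuasiAffine] (F : X.Modules)
    (hF : Coh.IsQCoh F) : Curv2.IsGloballyGenerated F := by
  haveI : F.IsQuasicoherent := hF
  exact exists_epi_free X.toSpecΓ F


/-- (a) ⇒ (e): let X be a quasi-affine scheme. Then every quasi-coherent O_X-module is generated by its
global sections (it is a quotient of a free O_X-module on some index set). -/
theorem result (X : Scheme.{u}) [X.IsQuasiAffine] (F : X.Modules)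
    (hF : Coh.IsQCoh F) : Curv2.IsGloballyGenerated F := by
  exact main X F hF

end Groth.Agent.S4407
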