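import Groth.Statements.S8259
import Mathlib

set_option autoImplicit false
universe u
open CategoryTheory CategoryTheory.Limits AlgebraicGeometry Opposite TopologicalSpace
open scoped HomogeneousIdeal
open EGA2

namespace Groth.Agent.S8259aux
open CategoryTheory CategoryTheory.Limits AlgebraicGeometry Opposite TopologicalSpace
open scoped HomogeneousIdeal

/-- generic: a property local at the target, stable under composition, holding for
open immersions, can be checked by `(p⁻¹U).ι ≫ p` over affine opens if `P.of_comp`-like cancellation. -/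
theorem isSeparated_of_forall_affine {P Y : Scheme.{u}} (p : P ⟶ Y)
    (h : ∀ (U : Y.Opens), IsAffineOpen U → IsSeparated ((p ⁻¹ᵁ U).ι ≫ p)) : IsSeparated p := by
  rw [IsZariskiLocalAtTarget.iff_of_iSup_eq_top (P := @IsSeparated)
    (fun i : Y.affineOpens => (i : Y.Opens)) (iSup_affineOpens_eq_top Y)]
  intro i
  have h1 := h i.1 i.2
  rw [← morphismRestrict_ι] at h1
  exact IsSeparated.of_comp (p ∣_ i.1) (i.1 : Y.Opens).ι

theorem chart_sep {Y P : Scheme.{u}} (𝒮 : RelProj.QCGrAlg Y) (p : P ⟶ Y)
    (chart : ∀ (U : Y.Opens) (hU : IsAffineOpen U), (((p ⁻¹ᵁ U : P.Opens) : Scheme.{u}) ≅ Proj (𝒮.deg U hU)))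
    (hP : RelProj.IsRelProj 𝒮 p chart) : IsSeparated p := by
  apply isSeparated_of_forall_affine
  intro U hU
  rw [← hP.chart_over U hU]
  infer_instance

end Groth.Agent.S8259aux

namespace Groth.Agent.S8259

/-- The relative homogeneous spectrum Proj(𝒮) of a quasi-coherent positively graded O_Y-algebra 𝒮 is
separated over Y. -/
theorem result {Y P : Scheme.{u}} (𝒮 : RelProj.QCGrAlg Y) (p : P ⟶ Y)
    (chart : ∀ (U : Y.Opens) (hU : IsAffineOpen U), (((p ⁻¹ᵁ U : P.Opens) : Scheme.{u}) ≅ Proj (𝒮.deg U hU)))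
    (hP : RelProj.IsRelProj 𝒮 p chart) : IsSeparated p := by
  exact Groth.Agent.S8259aux.chart_sep 𝒮 p chart hP

end Groth.Agent.S8259
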