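import Groth.Statements.S4431
import Mathlib

set_option autoImplicit false
universe u
open EGA2

namespace Groth.Agent.S4431

open TensorProduct in
/-- Let A be an integral domain with fraction field K, E a finitely generated torsion-free A-module and
u an endomorphism of E whose characteristic-polynomial coefficients (those of u ⊗ 1 on K ⊗_A E) all
lie in A. If the determinant of u is the image of a unit of A, then u is an automorphism of E. -/
theorem result (A : Type u) [CommRing A] [IsDomain A] (K : Type u) [Field K]
    [Algebra A K] [IsFractionRing A K] (E : Type u) [AddCommGroup E] [Module A E] [Module.Finite A E]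
    [Module.IsTorsionFree A E]
    (u : E →ₗ[A] E) (hcoeff : ∀ i : ℕ, ((u.baseChange K).charpoly).coeff i ∈ (algebraMap A K).range)
    (a : A) (ha : algebraMap A K a = LinearMap.det (u.baseChange K)) (hunit : IsUnit a) :
    Function.Bijective u := by
  classical
  -- injectivity of E → K ⊗ E
  have hloc : IsLocalizedModule (nonZeroDivisors A) (TensorProduct.mk A K E 1) :=
    (isLocalizedModule_iff_isBaseChange (nonZeroDivisors A) K _).mpr
      (TensorProduct.isBaseChange A E K)
  have hinjE : ∀ x : E, (1 : K) ⊗ₜ[A] x = 0 → x = 0 := by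
    intro x hx
    have h1 : TensorProduct.mk A K E 1 x = 0 := hx
    rw [IsLocalizedModule.eq_zero_iff (nonZeroDivisors A)] at h1
    obtain ⟨c, hc⟩ := h1
    have hc0 : (c : A) ≠ 0 := nonZeroDivisors.ne_zero c.2
    exact (smul_eq_zero_iff_right hc0).mp hc
  -- lift the characteristic polynomial
  set χ := (u.baseChange K).charpoly with hχ
  have hlift : χ ∈ Polynomial.lifts (algebraMap A K) := by
    rw [Polynomial.lifts_iff_coeff_lifts]
    intro n
    obtain ⟨c, hc⟩ := hcoeff n
    exact ⟨c, hc⟩
  obtain ⟨P, hP⟩ := (Polynomial.mem_lifts χ).mp hlift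
  have hCH : Polynomial.aeval (u.baseChange K) χ = 0 := LinearMap.aeval_self_charpoly _
  have hPK : (Polynomial.aeval u P).baseChange K = 0 := by
    have h1 := Polynomial.aeval_algHom_apply (Module.End.baseChangeHom A K E) u P
    have h2 : Polynomial.aeval (u.baseChange K) P = 0 := by
      rw [← Polynomial.aeval_map_algebraMap K, hP]; exact hCH
    have h3 : Module.End.baseChangeHom A K E u = u.baseChange K := rfl
    rw [h3, h2] at h1
    exact h1.symm
  have hPu : Polynomial.aeval u P = 0 := by
    ext x
    apply hinjE
    have := LinearMap.congr_fun hPK ((1 : K) ⊗ₜ[A] x)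
    simpa using this
  -- constant coefficient
  have hc0 : algebraMap A K (P.coeff 0) = (-1) ^ Module.finrank K (TensorProduct A K E) * algebraMap A K a := by
    rw [ha, LinearMap.det_eq_sign_charpoly_coeff, ← hχ, ← hP, Polynomial.coeff_map, ← mul_assoc,
      ← pow_add, ← two_mul, pow_mul]
    simp
  have hunitc : IsUnit (P.coeff 0) := by
    have h1 : P.coeff 0 = (-1) ^ Module.finrank K (TensorProduct A K E) * a := by
      apply IsFractionRing.injective A K
      rw [hc0]; simp
    rw [h1]
    exact (IsUnit.pow _ (isUnit_one.neg)).mul hunit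
  -- P = divX P * X + C (P.coeff 0)
  have hdecomp := Polynomial.divX_mul_X_add P
  have h5 : Polynomial.aeval u P.divX * u + algebraMap A (Module.End A E) (P.coeff 0) = 0 := by
    have := congrArg (Polynomial.aeval u) hdecomp
    rw [map_add, map_mul, Polynomial.aeval_X, Polynomial.aeval_C, hPu] at this
    exact this
  obtain ⟨c, hc⟩ := hunitc
  have hcomm : Polynomial.aeval u P.divX * u = u * Polynomial.aeval u P.divX := by
    have hcomm' : Commute (Polynomial.aeval u P.divX) (Polynomial.aeval u Polynomial.X) :=
      (Commute.all P.divX Polynomial.X).map (Polynomial.aeval u)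
    rw [Polynomial.aeval_X] at hcomm'
    exact hcomm'.eq
  have h6 : u * Polynomial.aeval u P.divX = algebraMap A (Module.End A E) (-(c : A)) := by
    rw [← hcomm, hc, map_neg]; exact eq_neg_of_add_eq_zero_left h5
  set β := algebraMap A (Module.End A E) (-(↑c⁻¹ : A)) with hβ
  have h7 : β * algebraMap A (Module.End A E) (-(c : A)) = 1 := by
    rw [hβ, ← map_mul]; simp
  have hunitu : IsUnit u := by
    refine ⟨⟨u, β * Polynomial.aeval u P.divX, ?_, ?_⟩, rfl⟩
    · calc u * (β * Polynomial.aeval u P.divX) = β * (u * Polynomial.aeval u P.divX) := by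
            rw [← mul_assoc, ← mul_assoc, (Algebra.commutes (-(↑c⁻¹ : A)) u).symm]
        _ = 1 := by rw [h6, h7]
    · calc β * Polynomial.aeval u P.divX * u = β * (u * Polynomial.aeval u P.divX) := by
            rw [mul_assoc, hcomm]
        _ = 1 := by rw [h6, h7]
  exact (Module.End.isUnit_iff u).mp hunitu

end Groth.Agent.S4431
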