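import Groth.Statements.S4435
import Mathlib

set_option autoImplicit false
universe u
open CategoryTheory CategoryTheory.Limits AlgebraicGeometry
open EGA2

namespace Groth.Agent.S4435aux
open CategoryTheory CategoryTheory.Limits AlgebraicGeometry Opposite TopologicalSpace
open scoped nonZeroDivisors

theorem map_genericPoint {X S : Scheme.{u}} [IrreducibleSpace X] [IrreducibleSpace S] (f : X ⟶ S)
    [IsDominant f] : f.base (genericPoint X) = genericPoint S := by
  apply ((genericPoint_spec S).eq _).symm
  have := (genericPoint_spec X).image f.continuous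
  rwa [Set.image_univ, f.denseRange.closure_eq] at this

theorem core {X S : Scheme.{u}} [IsIntegral X] [IsIntegral S] (f : X ⟶ S) [IsDominant f]
    (y : S) (hy : y = genericPoint S)
    (ψ : S.presheaf.stalk y ⟶ X.presheaf.stalk (genericPoint X))
    (hψ : ∀ (U : S.Opens) (hyU : y ∈ U) (hη : genericPoint X ∈ f ⁻¹ᵁ U),
      S.presheaf.germ U y hyU ≫ ψ = f.app U ≫ X.presheaf.germ (f ⁻¹ᵁ U) (genericPoint X) hη) :
    (IsIntegralHom f → ψ.hom.IsIntegral) ∧ (IsFinite f → ψ.hom.Finite) := by
  subst hy
  obtain ⟨U, hU, hyU⟩ : ∃ U : S.Opens, IsAffineOpen U ∧ genericPoint S ∈ U := by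
    obtain ⟨_, ⟨U, hU, rfl⟩, hxU, -⟩ :=
      S.isBasis_affineOpens.exists_subset_of_mem_open (Set.mem_univ (genericPoint S)) isOpen_univ
    exact ⟨U, hU, hxU⟩
  have hη : genericPoint X ∈ f ⁻¹ᵁ U := by
    change f.base (genericPoint X) ∈ U
    rw [map_genericPoint f]
    exact hyU
  haveI : Nonempty U := ⟨⟨_, hyU⟩⟩
  haveI : Nonempty (f ⁻¹ᵁ U) := ⟨⟨_, hη⟩⟩
  have key : ∀ [IsAffineHom f], (f.app U).hom.IsIntegral →
      ψ.hom.IsIntegral ∧ ((f.app U).hom.Finite → ψ.hom.Finite) := by
    intro _ hint
    have hV : IsAffineOpen (f ⁻¹ᵁ U) := hU.preimage f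
    letI : Algebra Γ(S, U) Γ(X, f ⁻¹ᵁ U) := (f.app U).hom.toAlgebra
    letI : Algebra S.functionField X.functionField := ψ.hom.toAlgebra
    letI : Algebra Γ(S, U) X.functionField :=
      ((algebraMap Γ(X, f ⁻¹ᵁ U) X.functionField).comp (algebraMap Γ(S, U) Γ(X, f ⁻¹ᵁ U))).toAlgebra
    haveI : IsScalarTower Γ(S, U) Γ(X, f ⁻¹ᵁ U) X.functionField :=
      IsScalarTower.of_algebraMap_eq' rfl
    haveI : IsScalarTower Γ(S, U) S.functionField X.functionField := by
      apply IsScalarTower.of_algebraMap_eq'
      have := congrArg (fun t => t.hom) (hψ U hyU hη)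
      exact this.symm
    haveI := functionField_isFractionRing_of_isAffineOpen X (f ⁻¹ᵁ U) hV
    haveI := functionField_isFractionRing_of_isAffineOpen S U hU
    haveI : Algebra.IsIntegral Γ(S, U) Γ(X, f ⁻¹ᵁ U) := ⟨hint⟩
    haveI : IsDomain Γ(S, U) := inferInstance
    haveI : IsDomain Γ(X, f ⁻¹ᵁ U) := inferInstance
    have halg : Algebra.IsAlgebraic S.functionField X.functionField :=
      isAlgebraic_of_isFractionRing Γ(S, U) Γ(X, f ⁻¹ᵁ U) S.functionField X.functionField
    refine ⟨?_, ?_⟩
    · intro x
      exact (halg.isAlgebraic x).isIntegral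
    · intro hfin
      haveI : Module.Finite Γ(S, U) Γ(X, f ⁻¹ᵁ U) := hfin
      haveI : IsSchemeTheoreticallyDominant f := IsSchemeTheoreticallyDominant.of_isDominant f
      have hinj : Function.Injective (algebraMap Γ(S, U) Γ(X, f ⁻¹ᵁ U)) := f.app_injective U
      haveI : FaithfulSMul Γ(S, U) Γ(X, f ⁻¹ᵁ U) :=
        (faithfulSMul_iff_algebraMap_injective _ _).mpr hinj
      haveI : Algebra.IsAlgebraic Γ(S, U) Γ(X, f ⁻¹ᵁ U) := inferInstance
      haveI : IsLocalization (Algebra.algebraMapSubmonoid Γ(X, f ⁻¹ᵁ U) Γ(S, U)⁰) X.functionField :=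
        inferInstance
      exact Module.Finite.of_isLocalization Γ(S, U) Γ(X, f ⁻¹ᵁ U) Γ(S, U)⁰
  constructor
  · intro h
    exact (key (f.isIntegral_app U hU)).1
  · intro h
    have hint : (f.app U).hom.IsIntegral := (f.finite_app U hU).to_isIntegral
    exact (key hint).2 (f.finite_app U hU)

theorem main {X S : Scheme.{u}} [IsIntegral X] [IsIntegral S]
    (f : X ⟶ S) [IsDominant f] :
    (IsIntegralHom f → (f.stalkMap (genericPoint X)).hom.IsIntegral) ∧
      (IsFinite f → (f.stalkMap (genericPoint X)).hom.Finite) := by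
  refine core f (f.base (genericPoint X)) (map_genericPoint f) (f.stalkMap (genericPoint X)) ?_
  intro U hyU hη
  exact f.germ_stalkMap U (genericPoint X) hη

end Groth.Agent.S4435aux

namespace Groth.Agent.S4435

/-- Let X, S be integral schemes and f : X ⟶ S a dominant morphism. If f is integral, the field of
rational functions of X is algebraic over that of S; if f is finite, it is a finite extension. Here
the extension is given by the stalk map of f at the generic point of X, whose source is the local
ring of S at the generic point of S (f being dominant), i.e. the function field of S. -/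
theorem result {X S : Scheme.{u}} [IsIntegral X] [IsIntegral S]
    (f : X ⟶ S) [IsDominant f] :
    (IsIntegralHom f → (f.stalkMap (genericPoint X)).hom.IsIntegral) ∧
      (IsFinite f → (f.stalkMap (genericPoint X)).hom.Finite) := by
  exact Groth.Agent.S4435aux.main f

end Groth.Agent.S4435
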