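import Groth.Statements.S5985
import Mathlib
import Groth.Agent.Lib.helper3.EtNbhd8
-- import your own Groth.Agent.* helpers here

set_option autoImplicit false
universe u
open CategoryTheory AlgebraicGeometry
open Unram

namespace Groth.Agent.S5985

/-- Let f : X ⟶ Y be separated and locally of finite type, and y a point of Y whose fibre f⁻¹(y) is
finite (hence discrete). Then there are an étale morphism g : Y' ⟶ Y, a point y' of Y' with g(y') =
y inducing an isomorphism of residue fields κ(y) ≅ κ(y'), and two complementary open subschemes V, W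
of X' = X ×_Y Y' such that V ⟶ Y' is finite and W contains no point of X' lying over y'. -/
theorem result {X Y : Scheme.{u}} (f : X ⟶ Y)
    [LocallyOfFiniteType f] [IsSeparated f] (y : Y) (hfin : (f ⁻¹' {y}).Finite) :
    ∃ (Y' : Scheme.{u}) (g : Y' ⟶ Y) (y' : Y'), Etale g ∧ g y' = y ∧
      IsIso (g.residueFieldMap y') ∧
      ∃ (V W : (Limits.pullback f g).Opens), IsCompl V W ∧
        IsFinite (V.ι ≫ Limits.pullback.snd f g) ∧
        ∀ x : ↥(Limits.pullback f g), Limits.pullback.snd f g x = y' → x ∈ V := by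
  haveI : Finite ↥(f ⁻¹' {y}) := hfin.to_subtype
  let e : ↥(f ⁻¹' {y}) ≃ Fin (Nat.card ↥(f ⁻¹' {y})) := Finite.equivFin _
  let x : Fin (Nat.card ↥(f ⁻¹' {y})) → X := fun k => (e.symm k).1
  have hinj : Function.Injective x := Subtype.val_injective.comp e.symm.injective
  have hs : ∀ k, f (x k) = y := fun k => (e.symm k).2
  have hcov : ∀ z : X, f z = y → ∃ k, x k = z := fun z hz => ⟨e ⟨z, hz⟩, by
    show (e.symm (e ⟨z, hz⟩)).1 = z
    rw [Equiv.symm_apply_apply]⟩
  have hq : ∀ k, f.QuasiFiniteAt (x k) := by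
    intro k
    rw [Scheme.Hom.quasiFiniteAt_iff_isOpen_singleton_asFiber]
    have h1 : (f ⁻¹' {f (x k)}).Finite := by rw [hs k]; exact hfin
    haveI : Finite ↥(f ⁻¹' {f (x k)}) := h1.to_subtype
    haveI : Finite ↥(f.fiber (f (x k))) := Finite.of_equiv _ (f.fiberHomeo (f (x k))).toEquiv.symm
    exact isOpen_discrete _
  obtain ⟨U, g, u, hg, hgu, hres, H⟩ :=
    Groth.Agent.Lib.helper3.EtNbhd.mainR (f := f) y (fun x₀ => f.QuasiFiniteAt x₀)
      (by
        intro x₀ hx₀ hq₀
        obtain ⟨U, g, u, hg, hgu, hres, V, v, hvV, hfinV, hsnd, hfst, hresv, huniq, huniq2, -⟩ :=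
          Groth.Agent.Lib.helper3.QFLoc.chart f x₀ hq₀
        exact ⟨U, g, u, hg, hgu.trans hx₀, hres, fun _ => V, fun _ => v,
          fun _ => ⟨hvV, hfinV, hsnd, huniq, hfst, hresv, huniq2⟩⟩)
      _ x hs hq
  haveI := hg
  obtain ⟨U', g', u', hg', hgu', hres', V, W, hVW, hVfin, hpts⟩ :=
    Groth.Agent.Lib.helper3.EtNbhd.finitePart f y x hinj hcov g u hgu hres H
  exact ⟨U', g', u', hg', hgu',
    (ConcreteCategory.isIso_iff_bijective _).mpr
      ⟨(g'.residueFieldMap u').hom.injective, hres'⟩, V, W, hVW, hVfin, hpts⟩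

end Groth.Agent.S5985
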