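import Groth.Statements.S4437
import Mathlib
import Groth.Agent.S5985
import Groth.Agent.Lib.helper3.HensSec2
-- import your own Groth.Agent.* helpers here

set_option autoImplicit false
universe u
open CategoryTheory CategoryTheory.Limits AlgebraicGeometry
open EGA2

namespace Groth.Agent.S4437

/-- Let A be a complete Noetherian local ring and f : X ⟶ Spec A a separated quasi-finite morphism (of
finite type with discrete fibres). Then X splits as a disjoint sum of two open subschemes, one
finite over Spec A and containing the fibre over the closed point, the other not meeting that fibre: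
there is an open and closed U ⊆ X, finite over Spec A, containing every point lying over the closed
point. -/
theorem result (A : Type u) [CommRing A] [IsLocalRing A]
    [IsNoetherianRing A] [IsAdicComplete (IsLocalRing.maximalIdeal A) A] (X : Scheme.{u})
    (f : X ⟶ Spec (CommRingCat.of A)) [LocallyOfFiniteType f] [QuasiCompact f] [IsSeparated f] [LocallyQuasiFinite f] :
    ∃ U : X.Opens, IsClosed (U : Set X) ∧ IsFinite (U.ι ≫ f) ∧
      ∀ x : X, f.base x = IsLocalRing.closedPoint A → x ∈ U := by
  have hfin : (f ⁻¹' {IsLocalRing.closedPoint A}).Finite :=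
    f.finite_preimage_singleton (IsLocalRing.closedPoint A)
  obtain ⟨Y', g, y', hg, hgy, hres, V, W, hVW, hVfin, hpts⟩ :=
    Groth.Agent.S5985.result f (IsLocalRing.closedPoint A) hfin
  haveI := hg
  have hres' : Function.Surjective (g.residueFieldMap y') :=
    (ConcreteCategory.bijective_of_isIso (g.residueFieldMap y')).surjective
  obtain ⟨σ, hσ, hσy⟩ := Groth.Agent.Lib.helper3.HensSec.exists_section_scheme g y' hgy hres'
  let τ : X ⟶ pullback f g := pullback.lift (𝟙 X) (f ≫ σ) (by rw [Category.id_comp, Category.assoc, hσ, Category.comp_id])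
  have hτ1 : τ ≫ pullback.fst f g = 𝟙 X := pullback.lift_fst _ _ _
  have hτ2 : τ ≫ pullback.snd f g = f ≫ σ := pullback.lift_snd _ _ _
  have sq : IsPullback τ f (pullback.snd f g) σ := by
    refine IsPullback.of_right ?_ hτ2 (IsPullback.of_hasPullback f g)
    rw [hτ1, hσ]
    exact IsPullback.id_horiz f
  refine ⟨τ ⁻¹ᵁ V, ?_, ?_, ?_⟩
  · have hc : ((τ ⁻¹ᵁ V : X.Opens) : Set X) = ((τ ⁻¹ᵁ W : X.Opens) : Set X)ᶜ := by
      ext x
      constructor
      · intro hx hx'
        exact (disjoint_iff_inf_le.mp hVW.disjoint) ⟨hx, hx'⟩
      · intro hx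
        have : τ x ∈ V ⊔ W := (codisjoint_iff_le_sup.mp hVW.codisjoint) (by trivial)
        rcases this with h | h
        · exact h
        · exact (hx h).elim
    rw [hc]
    exact (τ ⁻¹ᵁ W).2.isClosed_compl
  · have sqV := isPullback_morphismRestrict τ V
    exact MorphismProperty.of_isPullback (P := @IsFinite) (sqV.paste_vert sq) hVfin
  · intro x hx
    show τ x ∈ V
    apply hpts
    rw [← Scheme.Hom.comp_apply, hτ2, Scheme.Hom.comp_apply]
    have : f x = IsLocalRing.closedPoint A := hx
    rw [this, hσy]

end Groth.Agent.S4437
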