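import Groth.Statements.S4442
import Mathlib
import Groth.Agent.Lib.helper7.DimSch4

set_option autoImplicit false
universe u
open CategoryTheory CategoryTheory.Limits AlgebraicGeometry
attribute [local instance] Curv2.resAlgebra
open EGA2

namespace Groth.Agent.S4442

/-- (a) ⇔ (b): let X be a scheme of finite type over a field k. The residue fields of the generic points
of the irreducible components of X all have transcendence degree one over k if and only if the local
ring of X at every closed point has dimension one. (The published statement has a third equivalent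
condition: the irreducible closed subsets of X other than the irreducible components are exactly the
closed points of X. This row states only the equivalence of the first two.) -/
theorem result (k : Type u) [Field k] (X : Scheme.{u})
    [X.Over (Spec (CommRingCat.of k))] [LocallyOfFiniteType (X ↘ (Spec (CommRingCat.of k)))]
    [QuasiCompact (X ↘ (Spec (CommRingCat.of k)))] :
    (∀ x : X, closure ({x} : Set X) ∈ irreducibleComponents (X : Type u) → Algebra.trdeg k (X.residueField x) = 1) ↔
      ∀ x : X, IsClosed ({x} : Set X) → ringKrullDim (X.presheaf.stalk x) = 1 := by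
  constructor
  · intro h x hx
    obtain ⟨ξ, n, hξx, hgen, htr, hdim⟩ :=
      Groth.Agent.Lib.helper7.DimSch.exists_generic_trdeg_eq_of_isClosed k X x hx
    have h1 := h ξ ((Groth.Agent.Lib.helper7.DimSch.closure_mem_irreducibleComponents_iff ξ).mpr hgen)
    rw [htr] at h1
    have hn : n = 1 := by exact_mod_cast h1
    rw [hdim, hn]
    rfl
  · intro h ξ hξ
    have hgen := (Groth.Agent.Lib.helper7.DimSch.closure_mem_irreducibleComponents_iff ξ).mp hξ
    obtain ⟨_, ⟨W, hW, rfl⟩, hξW, -⟩ :=
      X.isBasis_affineOpens.exists_subset_of_mem_open (Set.mem_univ ξ) isOpen_univ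
    obtain ⟨n, h1, -⟩ := Groth.Agent.Lib.helper7.DimSch.exists_trdeg_residueField_eq k X hW ξ hξW
    have hb : ringKrullDim (X.presheaf.stalk ξ) = ((0 : ℕ) : WithBot ℕ∞) := by
      rw [Groth.Agent.Lib.helper7.DimSch.ringKrullDim_stalk_eq_zero_of_forall_generization X ξ hgen]
      rfl
    obtain ⟨U, hξU, hU⟩ :=
      Groth.Agent.Lib.helper7.DimSch.exists_open_forall_stalk_le k X ξ n 0 h1 hb
    obtain ⟨y, hyU, hyc, hy⟩ :=
      Groth.Agent.Lib.helper7.DimSch.exists_isClosed_stalk_ge k X ξ n 0 h1 hb U hξU
    have h2 := le_antisymm (hU y hyU) hy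
    rw [h y hyc] at h2
    have hn : n = 1 := by
      have : ((1 : ℕ) : WithBot ℕ∞) = ((n + 0 : ℕ) : WithBot ℕ∞) := by
        rw [← h2]; rfl
      have := WithBot.coe_injective this
      have := Nat.cast_injective (R := ℕ∞) this
      omega
    rw [h1, hn]
    rfl

end Groth.Agent.S4442
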