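import Groth.Statements.S4451
import Mathlib
import Groth.Agent.S2247
import Groth.Agent.Lib.lead.Restore.H4Curve1
import Groth.Agent.Lib.helper4.FFCenter1

set_option autoImplicit false
universe u
open CategoryTheory CategoryTheory.Limits AlgebraicGeometry
attribute [local instance] Curv2.stalkAlgebra
open EGA2

namespace Groth.Agent.S4451

section Helpers
open Groth.Agent.H4FF IsLocalRing

/-- A Noetherian normal local domain of dimension at most one is a valuation ring. -/
theorem valuationRing_of_normal_dim_le_one (R : Type u) [CommRing R] [IsLocalRing R]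
    [IsNoetherianRing R] [IsDomain R] [IsIntegrallyClosed R] (h : ringKrullDim R ≤ 1) :
    ValuationRing R := by
  have h1 : Ring.KrullDimLE 1 R := by
    rw [Ring.krullDimLE_iff]
    exact_mod_cast h
  have h2 := Ring.krullDimLE_one_iff_of_noZeroDivisors.mp h1
  have h3 : IsIntegrallyClosed R ∧ ∀ P : Ideal R, P ≠ ⊥ → P.IsPrime → P = maximalIdeal R :=
    ⟨inferInstance, fun P hP hP' => eq_maximalIdeal (h2 P hP hP')⟩
  exact ((tfae_of_isNoetherianRing_of_isLocalRing_of_isDomain (R := R)).out 3 1).mp h3

theorem struct_eq (k : Type u) [Field k] (X : Scheme.{u}) [X.Over (Spec (CommRingCat.of k))]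
    (x : X) :
    X.fromSpecStalk x ≫ (X ↘ Spec (CommRingCat.of k)) =
      Spec.map (CommRingCat.ofHom (Curv2.stalkMap k X x)) := by
  have h1 : (X ↘ Spec (CommRingCat.of k)) = X.toSpecΓ ≫
      Spec.map ((Scheme.ΓSpecIso (CommRingCat.of k)).inv ≫
        (X ↘ Spec (CommRingCat.of k)).appTop) := by
    rw [Spec.map_comp, ← Scheme.toSpecΓ_naturality_assoc, toSpecΓ_SpecMap_ΓSpecIso_inv,
      Category.comp_id]
  rw [h1, ← Category.assoc, Scheme.fromSpecStalk_toSpecΓ, ← Spec.map_comp]
  rfl

/-- The valuation subring given by a local ring which is a valuation ring. -/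
noncomputable def stalkVal {X : Scheme.{u}} [IsIntegral X] (x : X)
    [ValuationRing (X.presheaf.stalk x)] : ValuationSubring X.functionField :=
  ⟨(algebraMap (X.presheaf.stalk x) X.functionField).range,
    ValuationRing.isInteger_or_isInteger (X.presheaf.stalk x)⟩

theorem dominates_ne_generic {X : Scheme.{u}} [IsIntegral X]
    (R : ValuationSubring X.functionField) (hR : R ≠ ⊤) (x : X) (hd : Dominates R x) :
    x ≠ genericPoint X := by
  intro hx
  subst hx
  apply hR
  rw [eq_top_iff]
  intro t _
  have h2 : X.presheaf.stalkSpecializes
      (Groth.Agent.H4FF.genericPoint_specializes (genericPoint X)) = 𝟙 _ :=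
    TopCat.Presheaf.stalkSpecializes_refl _ _
  have h1 := hd.1 t
  rw [Groth.Agent.H4FF.algebraMap_eq (genericPoint X), h2] at h1
  exact h1

theorem main (k : Type u) [Field k] (X : Scheme.{u})
    [X.Over (Spec (CommRingCat.of k))] [IsProper (X ↘ (Spec (CommRingCat.of k)))] [IsIntegral X]
    (hX : ∀ x : X, IsClosed ({x} : Set X) → ringKrullDim (X.presheaf.stalk x) = 1)
    (hnorm : Pi1.IsNormalScheme X) :
    (∀ x : X, x ≠ genericPoint X → ∃ R : ValuationSubring X.functionField, R ≠ ⊤ ∧
        (R : Set X.functionField) =
          Set.range (algebraMap (X.presheaf.stalk x) X.functionField)) ∧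
      ∀ R : ValuationSubring X.functionField, R ≠ ⊤ →
        (∀ c : k, algebraMap k X.functionField c ∈ R) →
        ∃! x : X, (R : Set X.functionField) =
          Set.range (algebraMap (X.presheaf.stalk x) X.functionField) := by
  have hN : IsLocallyNoetherian X :=
    LocallyOfFiniteType.isLocallyNoetherian (X ↘ (Spec (CommRingCat.of k)))
  have hC : CompactSpace X :=
    (quasiCompact_iff_compactSpace (X ↘ (Spec (CommRingCat.of k)))).mp inferInstance
  have hS : X.IsSeparated := (HasAffineProperty.iff_of_isAffine (P := @IsSeparated)).mp
    (inferInstance : IsSeparated (X ↘ (Spec (CommRingCat.of k))))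
  have hdim := Groth.Agent.H4Curve.ringKrullDim_stalk_le_one hX
  have hval : ∀ x : X, ValuationRing (X.presheaf.stalk x) := fun x => by
    have := (hnorm x).2
    exact valuationRing_of_normal_dim_le_one _ (hdim x)
  have hgen : ∀ x : X, (∀ t : X.functionField,
      t ∈ (algebraMap (X.presheaf.stalk x) X.functionField).range) → x = genericPoint X := by
    intro x hx
    have h1 : x ⤳ genericPoint X :=
      (Groth.Agent.S2247.result X (genericPoint X) x).mpr (fun t _ => hx t)
    exact (h1.antisymm (Groth.Agent.H4FF.genericPoint_specializes x)).eq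
  have part1 : ∀ x : X, x ≠ genericPoint X → ∃ R : ValuationSubring X.functionField, R ≠ ⊤ ∧
      (R : Set X.functionField) =
        Set.range (algebraMap (X.presheaf.stalk x) X.functionField) := by
    intro x hx
    have := hval x
    refine ⟨stalkVal x, ?_, ?_⟩
    · intro htop
      apply hx
      apply hgen
      intro t
      have : t ∈ stalkVal x := by rw [htop]; trivial
      exact this
    · ext t
      rfl
  refine ⟨part1, ?_⟩
  intro R hR hk
  -- the centre of `R`
  let ψ : k →+* R := (algebraMap k X.functionField).codRestrict R.toSubring hk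
  let l₀ : Spec (CommRingCat.of R) ⟶ Spec (CommRingCat.of k) := Spec.map (CommRingCat.ofHom ψ)
  have h0 : genIncl R ≫ l₀ =
      X.fromSpecStalk (genericPoint X) ≫ (X ↘ (Spec (CommRingCat.of k))) := by
    rw [struct_eq, ← Spec.map_comp]
    rfl
  have hE : ValuativeCriterion.Existence (X ↘ (Spec (CommRingCat.of k))) := by
    have h := UniversallyClosed.eq_valuativeCriterion
    have h2 : (ValuativeCriterion.Existence ⊓ @QuasiCompact : MorphismProperty Scheme.{u})
        (X ↘ (Spec (CommRingCat.of k))) := by
      rw [← h]; infer_instance
    exact h2.1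
  let Sq : ValuativeCommSq (X ↘ (Spec (CommRingCat.of k))) :=
    { R := R
      K := X.functionField
      i₁ := X.fromSpecStalk (genericPoint X)
      i₂ := l₀
      commSq := ⟨h0.symm⟩ }
  obtain ⟨⟨l⟩⟩ := hE Sq
  have hdom : Dominates R (l.l (closedPoint R)) := dominates_of_lift R l.l l.fac_left
  generalize l.l (closedPoint R) = x at hdom
  have hxne := dominates_ne_generic R hR x hdom
  have := hval x
  have hRx : (R : Set X.functionField) =
      Set.range (algebraMap (X.presheaf.stalk x) X.functionField) := by
    apply Set.Subset.antisymm
    · intro t ht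
      by_contra hnot
      rcases ValuationRing.isInteger_or_isInteger (X.presheaf.stalk x) t with ⟨a, ha⟩ | ⟨a, ha⟩
      · exact hnot ⟨a, ha⟩
      · have ht0 : t ≠ 0 := by
          rintro rfl
          exact hnot ⟨0, map_zero _⟩
        have ham : a ∈ maximalIdeal (X.presheaf.stalk x) := by
          rw [mem_maximalIdeal]
          intro hu
          obtain ⟨u, rfl⟩ := hu
          apply hnot
          refine ⟨↑u⁻¹, ?_⟩
          have h1 : algebraMap (X.presheaf.stalk x) X.functionField (↑u⁻¹) *
              algebraMap (X.presheaf.stalk x) X.functionField (↑u) = 1 := by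
            rw [← map_mul]
            simp
          rw [ha] at h1
          exact (eq_inv_of_mul_eq_one_left h1).trans (inv_inv t)
        have h1 := hdom.2 a ham
        rw [ha, map_inv₀] at h1
        have h2 : R.valuation t ≤ 1 := (R.valuation_le_one_iff t).mpr ht
        have h3 : R.valuation t ≠ 0 := (R.valuation.ne_zero_iff).mpr ht0
        have h4 : (1 : _) < R.valuation t := by
          by_contra hle
          push Not at hle
          have : 1 ≤ (R.valuation t)⁻¹ := (one_le_inv₀ (zero_lt_iff.mpr h3)).mpr hle
          exact absurd h1 (not_lt.mpr this)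
        exact absurd h2 (not_le.mpr h4)
    · rintro _ ⟨a, rfl⟩
      exact hdom.1 a
  refine ⟨x, hRx, ?_⟩
  intro x' hx'
  have hset : Set.range (algebraMap (X.presheaf.stalk x') X.functionField) =
      Set.range (algebraMap (X.presheaf.stalk x) X.functionField) := hx'.symm.trans hRx
  have h1 : x' ⤳ x := (Groth.Agent.S2247.result X x x').mpr (fun t ht => by
    have : t ∈ Set.range (algebraMap (X.presheaf.stalk x) X.functionField) := ht
    rw [← hset] at this
    exact this)
  have h2 : x ⤳ x' := (Groth.Agent.S2247.result X x' x).mpr (fun t ht => by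
    have : t ∈ Set.range (algebraMap (X.presheaf.stalk x') X.functionField) := ht
    rw [hset] at this
    exact this)
  exact (h1.antisymm h2).eq

end Helpers


/-- Let X be a normal, complete, irreducible algebraic curve over a field k with field of rational
functions K. The set of local rings of X, as subrings of K, consists of K itself (at the generic
point) and of the valuation rings of K containing k (and distinct from K): every non-generic point
has such a valuation ring as local ring, and every such valuation ring is the local ring of exactly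
one point. -/
theorem result (k : Type u) [Field k] (X : Scheme.{u})
    [X.Over (Spec (CommRingCat.of k))] [IsProper (X ↘ (Spec (CommRingCat.of k)))] [IsIntegral X]
    (hX : ∀ x : X, IsClosed ({x} : Set X) → ringKrullDim (X.presheaf.stalk x) = 1) (hnorm : Pi1.IsNormalScheme X) :
    (∀ x : X, x ≠ genericPoint X → ∃ R : ValuationSubring X.functionField, R ≠ ⊤ ∧
        (R : Set X.functionField) = Set.range (algebraMap (X.presheaf.stalk x) X.functionField)) ∧
      ∀ R : ValuationSubring X.functionField, R ≠ ⊤ → (∀ c : k, algebraMap k X.functionField c ∈ R) →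
        ∃! x : X, (R : Set X.functionField) = Set.range (algebraMap (X.presheaf.stalk x) X.functionField) := by
  exact main k X hX hnorm

end Groth.Agent.S4451
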