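import Groth.Statements.S4469
import Mathlib

set_option autoImplicit false
universe u
open CAlg

namespace Groth.Agent.S4469

/-- Let A be an integrally closed Noetherian local domain with field of fractions K, B an A-algebra of
finite type which is a domain with the same field of fractions (A → B → K compatible with A → K),
and 𝔫 a maximal ideal of B lying over the maximal ideal 𝔪 of A and minimal among the prime ideals of
B lying over 𝔪. Then B = A: the structure map A → B is bijective. -/
theorem result (A B K : Type u) [CommRing A]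
    [IsDomain A] [IsNoetherianRing A] [IsLocalRing A] [IsIntegrallyClosed A] [CommRing B] [IsDomain B]
    [Field K] [Algebra A B] [Algebra B K] [Algebra A K] [IsScalarTower A B K] [IsFractionRing A K]
    [IsFractionRing B K] [Algebra.FiniteType A B] (n : Ideal B) [n.IsMaximal]
    (hn : n.comap (algebraMap A B) = IsLocalRing.maximalIdeal A)
    (hmin : ∀ q : Ideal B, q.IsPrime → q.comap (algebraMap A B) = IsLocalRing.maximalIdeal A → q ≤ n → q = n) :
    Function.Bijective (algebraMap A B) := by
  classical
  let q : PrimeSpectrum B := ⟨n, inferInstance⟩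
  -- Step 1: B is quasi-finite over A at n
  have hQF : Algebra.QuasiFiniteAt A q.asIdeal := by
    apply Algebra.QuasiFiniteAt.of_isOpen_singleton_fiber q
    let p := q.comap (algebraMap A B)
    let e := PrimeSpectrum.preimageHomeomorphFiber A B p
    rw [← e.isOpen_image, Set.image_singleton]
    have hft : Algebra.FiniteType p.asIdeal.ResidueField (p.asIdeal.Fiber B) := inferInstance
    have : IsNoetherianRing (p.asIdeal.Fiber B) :=
      Algebra.FiniteType.isNoetherianRing p.asIdeal.ResidueField _
    have : IsJacobsonRing (p.asIdeal.Fiber B) :=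
      isJacobsonRing_of_finiteType (A := p.asIdeal.ResidueField)
    let x : ↥(PrimeSpectrum.comap (algebraMap A B) ⁻¹' {p}) := ⟨q, rfl⟩
    change IsOpen {e x}
    have key : IsClosed {e x} ∧ StableUnderGeneralization {e x} → IsOpen {e x} :=
      ((PrimeSpectrum.isOpen_singleton_tfae_of_isNoetherian_of_isJacobsonRing
      (e x)).out 2 0).mp
    refine key ⟨?_, ?_⟩
    · rw [← Set.image_singleton, e.isClosed_image]
      have hcl : IsClosed ({q} : Set (PrimeSpectrum B)) :=
        (PrimeSpectrum.isClosed_singleton_iff_isMaximal q).mpr (inferInstanceAs n.IsMaximal)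
      have hpre := hcl.preimage (continuous_subtype_val
        (p := fun z => z ∈ PrimeSpectrum.comap (algebraMap A B) ⁻¹' {p}))
      convert hpre using 1
      ext z
      simp only [Set.mem_singleton_iff, Set.mem_preimage, Subtype.ext_iff]
      exact Iff.rfl
    · intro y z hzy hy
      rw [Set.mem_singleton_iff] at hy ⊢
      subst hy
      have h1 : e.symm z ⤳ e.symm (e x) := hzy.map e.symm.continuous
      rw [e.symm_apply_apply] at h1
      have h2 : (e.symm z).1 ⤳ q := h1.map continuous_subtype_val
      rw [← PrimeSpectrum.le_iff_specializes] at h2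
      have h3 : (e.symm z).1.asIdeal.comap (algebraMap A B) = IsLocalRing.maximalIdeal A := by
        have := (e.symm z).2
        rw [Set.mem_preimage, Set.mem_singleton_iff] at this
        have h4 := congrArg PrimeSpectrum.asIdeal this
        simpa [p, q, hn] using h4
      have h5 := hmin (e.symm z).1.asIdeal inferInstance h3 h2
      have h6 : e.symm z = x := Subtype.ext (PrimeSpectrum.ext h5)
      rw [← h6, e.apply_symm_apply]
  -- Step 2: Zariski's main theorem
  obtain ⟨S', hS', r, hrn, hbij⟩ :=
    Algebra.QuasiFiniteAt.exists_fg_and_exists_notMem_and_awayMap_bijective (R := A) q.asIdeal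
  -- Step 3: S' is the image of A
  have hS'A : ∀ s ∈ S', ∃ a : A, algebraMap A B a = s := by
    intro s hs
    have hi : IsIntegral A s := IsIntegral.of_mem_of_fg S' hS' s hs
    have hi' : IsIntegral A (algebraMap B K s) := by
      have := hi.map (IsScalarTower.toAlgHom A B K)
      simpa using this
    obtain ⟨a, ha⟩ := (IsIntegrallyClosed.isIntegral_iff (R := A) (K := K)).mp hi'
    refine ⟨a, IsFractionRing.injective B K ?_⟩
    rw [← ha, ← IsScalarTower.algebraMap_apply]
  obtain ⟨a, ha⟩ := hS'A r.1 r.2
  have ham : a ∉ IsLocalRing.maximalIdeal A := by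
    intro h
    rw [← hn] at h
    apply hrn
    rw [← ha]
    exact h
  have hau : IsUnit a := by
    by_contra h
    exact ham ((IsLocalRing.mem_maximalIdeal a).mpr h)
  have hru : IsUnit (r.1 : B) := ha ▸ hau.map (algebraMap A B)
  refine ⟨?_, ?_⟩
  · have hinj : Function.Injective (algebraMap A K) := IsFractionRing.injective A K
    rw [IsScalarTower.algebraMap_eq A B K] at hinj
    exact Function.Injective.of_comp hinj
  · intro b
    obtain ⟨s, k, hsk⟩ := (Localization.awayMap_surjective_iff.mp hbij.2) b
    have hsk' : (s : B) = (r.1 : B) ^ k * b := by simpa using hsk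
    obtain ⟨c, hc⟩ := hS'A s.1 s.2
    obtain ⟨u, hu⟩ := hau
    refine ⟨(↑(u⁻¹ ^ k) : A) * c, ?_⟩
    have hrk : (r.1 : B) ^ k * algebraMap A B (↑(u⁻¹ ^ k) : A) = 1 := by
      rw [← ha, ← hu, ← map_pow, ← map_mul, ← Units.val_pow_eq_pow_val, ← Units.val_mul]
      simp
    calc algebraMap A B ((↑(u⁻¹ ^ k) : A) * c)
        = algebraMap A B (↑(u⁻¹ ^ k) : A) * ((r.1 : B) ^ k * b) := by
          rw [map_mul, hc, hsk']
      _ = ((r.1 : B) ^ k * algebraMap A B (↑(u⁻¹ ^ k) : A)) * b := by ring
      _ = b := by rw [hrk, one_mul]

end Groth.Agent.S4469
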