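import Groth.Statements.S4486
import Mathlib
import Groth.Agent.Lib.helper4.GenFree

set_option autoImplicit false
universe u
open FlatCx

namespace Groth.Agent.S4486

open CategoryTheory CategoryTheory.Limits in
/-- For the homological functor T_p(M) = H_p(P ⊗_A M) of a chain complex P of flat modules over a
commutative ring A, which commutes with filtered colimits. Let A be a domain and suppose P_i = 0 for
i < i₀ and that every T_n(A) is a finitely presented A-module. Then for every integer N there is a
nonzero f ∈ A such that, for every p ≤ N, the functor of A_f-modules N ↦ H_p(P_f ⊗_{A_f} N), where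
P_f = P ⊗_A A_f, takes injections to injections and surjections to surjections. -/
theorem result {A : Type u} [CommRing A] [IsDomain A]
    (P : ChainComplex (ModuleCat.{u} A) ℤ) (hP : ∀ i, Module.Flat A (P.X i)) (i₀ : ℤ)
    (hb : ∀ i < i₀, IsZero (P.X i))
    (hfp : ∀ n : ℤ, Module.FinitePresentation A (CohIII.T P n (ModuleCat.of A A))) (N : ℤ) :
    ∃ f : A, f ≠ 0 ∧ ∀ p ≤ N,
      (CohIII.TFun (CohIII.bcCx (algebraMap A (Localization.Away f)) P) p).PreservesMonomorphisms ∧
        (CohIII.TFun (CohIII.bcCx (algebraMap A (Localization.Away f)) P) p).PreservesEpimorphisms := by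
  have hfp' : ∀ n : ℤ, Module.FinitePresentation A (P.homology n) := fun n =>
    have := hfp n
    Module.FinitePresentation.of_equiv (Groth.Agent.H4FlatCx.TUnitIso P n).toLinearEquiv
  obtain ⟨f, hf0, hf⟩ := Groth.Agent.H4GenFree.exists_ne_zero_projective (Finset.Icc i₀ N)
    (fun n => P.homology n) hfp'
  refine ⟨f, hf0, ?_⟩
  have hflat : Module.Flat A (Localization.Away f) :=
    IsLocalization.flat (Localization.Away f) (Submonoid.powers f)
  apply Groth.Agent.H4GenFree.exact_bcCx_of_flat P hP i₀ hb N
  intro n h1 h2
  have hpr := hf n (Finset.mem_Icc.2 ⟨h1, h2⟩)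
  exact @Module.Flat.of_projective _ _ _ _ _ hpr

end Groth.Agent.S4486
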