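import Groth.Statements.S4489
import Mathlib
import Groth.Agent.Lib.helper4.FlatCx4

set_option autoImplicit false
universe u
open FlatCx

namespace Groth.Agent.S4489

section Helpers
open CategoryTheory CategoryTheory.Limits CohIII Groth.Agent.H4FlatCx

theorem flat_of_injective_dedekind {A : Type u} [CommRing A] [IsDedekindDomain A]
    {M N : Type u} [AddCommGroup M] [AddCommGroup N] [Module A M] [Module A N] [Module.Flat A N]
    (f : M →ₗ[A] N) (hf : Function.Injective f) : Module.Flat A M := by
  have : Module.IsTorsionFree A M :=
    Function.Injective.moduleIsTorsionFree f hf (fun r m => map_smul f r m)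
  infer_instance

theorem flat_opcycles_iff_flat_homology {A : Type u} [CommRing A] [IsDedekindDomain A]
    {ι : Type} {c : ComplexShape ι}
    (K : HomologicalComplex (ModuleCat.{u} A) c) (j k : ι) (hjk : c.next j = k)
    [Module.Flat A (K.X k)] : Module.Flat A (K.opcycles j) ↔ Module.Flat A (K.homology j) := by
  constructor
  · intro h
    exact flat_of_injective_dedekind (K.homologyι j).hom (homologyι_injective K j)
  · intro h
    have : Module.Flat A (LinearMap.range (K.fromOpcycles j k).hom) :=
      flat_of_injective_dedekind (LinearMap.range (K.fromOpcycles j k).hom).subtype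
        (Submodule.subtype_injective _)
    apply Groth.Agent.H4FlatSES.flat_of_flat_of_flat_middle (K.homologyι j).hom
      (K.fromOpcycles j k).hom.rangeRestrict (homologyι_injective K j)
      (K.fromOpcycles j k).hom.surjective_rangeRestrict
    intro w
    rw [← exact_homologyι_fromOpcycles K j k hjk w]
    constructor
    · intro h
      have := congrArg Subtype.val h
      simpa using this
    · intro h
      apply Subtype.ext
      simpa using h

theorem main {A : Type u} [CommRing A] [IsDedekindDomain A]
    (P : ChainComplex (ModuleCat.{u} A) ℤ) (hP : ∀ i, Module.Flat A (P.X i)) (p q : ℤ) (hpq : q + 1 = p) :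
    ((CohIII.TFun P p).PreservesMonomorphisms ↔ Module.Flat A (P.homology p)) ∧
      (((CohIII.TFun P p).PreservesMonomorphisms ∧ (CohIII.TFun P p).PreservesEpimorphisms) ↔
        (Module.Flat A (P.homology p) ∧ Module.Flat A (P.homology q))) := by
  have hmono_iff : ∀ q : ℤ, (TFun P q).PreservesMonomorphisms ↔ Module.Flat A (P.homology q) := by
    intro q
    have := hP (q - 1)
    exact (preservesMono_iff_flat_opcycles P (q + 1) q (by simp) (q - 1) (by simp) (hP (q - 1))).trans
      (flat_opcycles_iff_flat_homology P q (q - 1) (by simp))
  refine ⟨hmono_iff p, ?_⟩
  rw [preservesEpi_iff_preservesMono P hP p q hpq, hmono_iff, hmono_iff]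

end Helpers


open CategoryTheory CategoryTheory.Limits in
/-- For the homological functor T_p(M) = H_p(P ⊗_A M) of a chain complex P of flat modules, stated over
a Dedekind domain A. (The published statement allows A to be a finite product of Dedekind domains,
that is, a Noetherian regular ring of dimension at most 1; this row takes A a Dedekind domain.) Then
T_p takes injections to injections if and only if H_p(P) is a flat A-module; and, with q + 1 = p,
T_p takes injections to injections and surjections to surjections if and only if H_p(P) and H_q(P)
are both flat. -/
theorem result {A : Type u} [CommRing A] [IsDedekindDomain A]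
    (P : ChainComplex (ModuleCat.{u} A) ℤ) (hP : ∀ i, Module.Flat A (P.X i)) (p q : ℤ) (hpq : q + 1 = p) :
    ((CohIII.TFun P p).PreservesMonomorphisms ↔ Module.Flat A (P.homology p)) ∧
      (((CohIII.TFun P p).PreservesMonomorphisms ∧ (CohIII.TFun P p).PreservesEpimorphisms) ↔
        (Module.Flat A (P.homology p) ∧ Module.Flat A (P.homology q))) := by
  exact main P hP p q hpq

end Groth.Agent.S4489
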