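import Groth.Statements.S4491
import Mathlib
import Groth.Agent.Lib.helper4.FlatCx2

set_option autoImplicit false
universe u
open FlatCx

namespace Groth.Agent.S4491

open CategoryTheory CategoryTheory.Limits in
/-- For the homological functor T_i(M) = H_i(P ⊗_A M) of a chain complex P of flat modules over a
commutative ring A. Let q + 1 = p and suppose T_p takes surjections to surjections. If
multiplication by f ∈ A is injective on an A-module M, then multiplication by f is injective on
T_q(M). In particular, when A is a domain, T_q(A) is torsion-free. -/
theorem result {A : Type u} [CommRing A]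
    (P : ChainComplex (ModuleCat.{u} A) ℤ) (hP : ∀ i, Module.Flat A (P.X i)) (p q : ℤ) (hpq : q + 1 = p)
    (hex : (CohIII.TFun P p).PreservesEpimorphisms) :
    (∀ (M : ModuleCat.{u} A) (f : A), Function.Injective (fun x : M => f • x) →
        Function.Injective (fun y : CohIII.T P q M => f • y)) ∧
      (IsDomain A → NoZeroSMulDivisors A (CohIII.T P q (ModuleCat.of A A))) := by
  have hmono : (CohIII.TFun P q).PreservesMonomorphisms :=
    (Groth.Agent.H4FlatCx.preservesEpi_iff_preservesMono P hP p q hpq).1 hex
  refine ⟨fun M f hf => Groth.Agent.H4FlatCx.smul_injective_of_preservesMono P q hmono M f hf, ?_⟩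
  intro hdom
  refine ⟨fun {c x} h => ?_⟩
  by_cases hc : c = 0
  · exact Or.inl hc
  · right
    have hinj : Function.Injective (fun x : (ModuleCat.of A A) => c • x) := by
      intro a b hab
      exact mul_left_cancel₀ hc hab
    have := Groth.Agent.H4FlatCx.smul_injective_of_preservesMono P q hmono (ModuleCat.of A A) c hinj
    apply this
    simp only [smul_zero]
    exact h

end Groth.Agent.S4491
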