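import Groth.Statements.S4507
import Mathlib

set_option autoImplicit false
universe u
open FlatCx

namespace Groth.Agent.S4507

open CategoryTheory CategoryTheory.Limits

section Helpers

variable {A : Type u} [CommRing A] (S : Submonoid A)

/-- objects: elements of `S`; morphisms `s ⟶ s'`: elements `t` with `s * t = s'`. -/
structure SCat : Type u where
  val : S

instance : Category.{u} (SCat S) where
  Hom s s' := {t : A // (s.val : A) * t = (s'.val : A)}
  id s := ⟨1, mul_one _⟩
  comp f g := ⟨f.1 * g.1, by rw [← mul_assoc, f.2, g.2]⟩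
  id_comp f := Subtype.ext (one_mul _)
  comp_id f := Subtype.ext (mul_one _)
  assoc f g h := Subtype.ext (mul_assoc _ _ _)

instance : IsFilteredOrEmpty (SCat S) where
  cocone_objs s s' := ⟨⟨s.val * s'.val⟩, ⟨(s'.val : A), by push_cast; ring⟩,
    ⟨(s.val : A), by push_cast; ring⟩, trivial⟩
  cocone_maps s s' f g := ⟨⟨s'.val * s.val⟩, ⟨(s.val : A), by push_cast; ring⟩, Subtype.ext (by
    show f.1 * (s.val : A) = g.1 * (s.val : A)
    rw [mul_comm f.1, f.2, mul_comm g.1, g.2])⟩

instance : IsFiltered (SCat S) where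
  nonempty := ⟨⟨1⟩⟩

variable (M : ModuleCat.{u} A)

/-- the constant diagram on `M` with transition maps multiplication by `t`. -/
noncomputable def diag : SCat S ⥤ ModuleCat.{u} A where
  obj _ := M
  map f := f.1 • 𝟙 M
  map_id s := one_smul _ _
  map_comp f g := by
    show (f.1 * g.1) • 𝟙 M = (f.1 • 𝟙 M) ≫ (g.1 • 𝟙 M)
    rw [Linear.smul_comp, Category.id_comp, smul_smul]

/-- `m ↦ m / s`. -/
noncomputable def kmap (s : S) : (M : Type u) →ₗ[A] LocalizedModule S M where
  toFun m := LocalizedModule.mk m s
  map_add' m m' := by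
    rw [LocalizedModule.mk_add_mk, ← smul_add, LocalizedModule.mk_cancel_common_left]
  map_smul' a m := by
    rw [RingHom.id_apply, LocalizedModule.smul'_mk]

noncomputable def cocone : Cocone (diag S M) where
  pt := ModuleCat.of A (LocalizedModule S M)
  ι :=
    { app := fun s => ModuleCat.ofHom (kmap S M s.val)
      naturality := fun s s' f => by
        ext m
        show LocalizedModule.mk (f.1 • m) s'.val = LocalizedModule.mk m s.val
        rw [LocalizedModule.mk_eq]
        refine ⟨1, ?_⟩
        rw [one_smul, one_smul, Submonoid.smul_def, Submonoid.smul_def, smul_smul, f.2] }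

noncomputable def isColimitCocone : IsColimit (cocone S M) := by
  apply isColimitOfReflects (forget (ModuleCat.{u} A))
  apply Types.FilteredColimit.isColimitOf
  · intro x
    obtain ⟨m, s, rfl⟩ : ∃ (m : M) (s : S), x = LocalizedModule.mk m s := by
      induction x using LocalizedModule.induction_on with
      | h m s => exact ⟨m, s, rfl⟩
    exact ⟨⟨s⟩, m, rfl⟩
  · intro i j (xi : M) (xj : M) h
    have h' : LocalizedModule.mk (xi : M) i.val = LocalizedModule.mk (xj : M) j.val := h
    rw [LocalizedModule.mk_eq] at h'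
    obtain ⟨u, hu⟩ := h'
    refine ⟨⟨i.val * j.val * u⟩, ⟨(j.val : A) * u, by push_cast; ring⟩,
      ⟨(i.val : A) * u, by push_cast; ring⟩, ?_⟩
    show ((j.val : A) * (u : A)) • xi = ((i.val : A) * (u : A)) • xj
    simp only [Submonoid.smul_def, smul_smul] at hu
    rw [mul_comm (j.val : A), mul_comm (i.val : A)]
    exact hu

end Helpers

open CategoryTheory CategoryTheory.Limits in
/-- The isomorphism T(S⁻¹M) ≅ S⁻¹T(M). Let A be a commutative ring, T an additive A-linear endofunctor
of the category of A-modules which preserves filtered colimits, S a multiplicative subset of A and M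
an A-module. Then the A-linear map T(M) → T(S⁻¹M), image under T of the localization map M → S⁻¹M,
is a localization of T(M) at S (so T(S⁻¹M) is canonically S⁻¹T(M), as an S⁻¹A-module). -/
theorem result {A : Type u} [CommRing A]
    (T : ModuleCat.{u} A ⥤ ModuleCat.{u} A) [T.Additive] [T.Linear A]
    (hT : ∀ (J : Type u) [SmallCategory J] [IsFiltered J], PreservesColimitsOfShape J T)
    (S : Submonoid A) (M : ModuleCat.{u} A) :
    IsLocalizedModule S (T.map (ModuleCat.ofHom (LocalizedModule.mkLinearMap S M) :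
      M ⟶ ModuleCat.of A (LocalizedModule S M))).hom := by
  classical
  have := hT (SCat S)
  have hc : IsColimit (cocone S M) := isColimitCocone S M
  have hTc : IsColimit (T.mapCocone (cocone S M)) := isColimitOfPreserves T hc
  have hf : (ModuleCat.ofHom (LocalizedModule.mkLinearMap S M) :
      M ⟶ ModuleCat.of A (LocalizedModule S M)) = (cocone S M).ι.app ⟨1⟩ := by
    ext m
    rfl
  rw [hf]
  have hrel : ∀ s : S, T.map ((cocone S M).ι.app ⟨1⟩) =
      (s : A) • T.map ((cocone S M).ι.app ⟨s⟩) := by
    intro s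
    have h1 : (diag S M).map (⟨(s : A), by simp⟩ : (⟨1⟩ : SCat S) ⟶ ⟨s⟩) ≫
        (cocone S M).ι.app ⟨s⟩ = (cocone S M).ι.app ⟨1⟩ := (cocone S M).w _
    rw [← h1]
    show T.map (((s : A) • 𝟙 M) ≫ (cocone S M).ι.app ⟨s⟩) = _
    rw [Linear.smul_comp, Category.id_comp, T.map_smul]
    rfl
  refine ⟨?_, ?_, ?_⟩
  · intro s
    rw [Module.End.isUnit_iff]
    let N : ModuleCat.{u} A := ModuleCat.of A (LocalizedModule S M)
    let γ : N ⟶ N := ModuleCat.ofHom (LocalizedModule.divBy s)
    have hγ : γ ≫ ((s : A) • 𝟙 N) = 𝟙 N := by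
      ext p
      show (s : A) • LocalizedModule.divBy s p = p
      have := LocalizedModule.mul_by_divBy s p
      rwa [Module.algebraMap_end_apply] at this
    have hγ' : T.map γ ≫ ((s : A) • 𝟙 (T.obj N)) = 𝟙 (T.obj N) := by
      rw [← T.map_id, ← T.map_smul, ← T.map_comp, hγ]
    have key2 : ∀ y : T.obj N, (s : A) • (T.map γ).hom y = y := fun y => by
      have := congrArg (fun φ => φ.hom y) hγ'
      simpa using this
    have key1 : ∀ y : T.obj N, (T.map γ).hom ((s : A) • y) = y := fun y => by
      rw [map_smul, key2]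
    constructor
    · intro y y' h
      rw [Module.algebraMap_end_apply, Module.algebraMap_end_apply] at h
      have := congrArg (T.map γ).hom h
      rwa [key1, key1] at this
    · intro y
      exact ⟨(T.map γ).hom y, by rw [Module.algebraMap_end_apply]; exact key2 y⟩
  · intro y
    obtain ⟨j, x, hx⟩ := Concrete.isColimit_exists_rep (diag S M ⋙ T) hTc y
    refine ⟨(x, j.val), ?_⟩
    show j.val • y = (T.map ((cocone S M).ι.app ⟨1⟩)).hom x
    have e : (T.map ((cocone S M).ι.app ⟨1⟩)).hom x =
        (j.val : A) • (T.map ((cocone S M).ι.app ⟨j.val⟩)).hom x := by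
      rw [hrel j.val]
      rfl
    rw [e, ← hx, Submonoid.smul_def]
    rfl
  · intro x₁ x₂ h
    obtain ⟨k, f, g, hfg⟩ := Concrete.isColimit_exists_of_rep_eq (diag S M ⋙ T) hTc
      (i := ⟨1⟩) (j := ⟨1⟩) x₁ x₂ h
    have hfk : f.1 = (k.val : A) := by simpa using f.2
    have hgk : g.1 = (k.val : A) := by simpa using g.2
    have hmap : ∀ (t : (⟨1⟩ : SCat S) ⟶ k) (x : T.obj M),
        (T.map ((diag S M).map t)).hom x = t.1 • x := by
      intro t x
      have : T.map ((diag S M).map t) = t.1 • 𝟙 (T.obj M) := by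
        show T.map (t.1 • 𝟙 M) = _
        rw [T.map_smul, T.map_id]
      rw [this]
      rfl
    have hfg' : (T.map ((diag S M).map f)).hom x₁ = (T.map ((diag S M).map g)).hom x₂ := hfg
    rw [hmap f x₁, hmap g x₂, hfk, hgk] at hfg'
    exact ⟨k.val, by rw [Submonoid.smul_def, Submonoid.smul_def]; exact hfg'⟩

end Groth.Agent.S4507
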