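import Groth.Statements.S4493
import Groth.Agent.S4507
import Mathlib

set_option autoImplicit false
set_option linter.style.haveILetI false
universe u
open FlatCx

namespace Groth.Agent.S4493

open CategoryTheory CategoryTheory.Limits

section Helpers

variable {A : Type u} [CommRing A]
  (T : ModuleCat.{u} A ⥤ ModuleCat.{u} A) [T.Additive] [T.Linear A]
  (hT : ∀ (J : Type u) [SmallCategory J] [IsFiltered J], PreservesColimitsOfShape J T)
  (S : Submonoid A)

include hT in
/-- General form of S4507: `T` sends localization maps to localization maps. -/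
theorem isLocalizedModule_map {X N : ModuleCat.{u} A} (ℓ : X ⟶ N)
    [IsLocalizedModule S ℓ.hom] : IsLocalizedModule S (T.map ℓ).hom := by
  let e : LocalizedModule S X ≃ₗ[A] N := IsLocalizedModule.iso S ℓ.hom
  let k : X ⟶ ModuleCat.of A (LocalizedModule S X) :=
    ModuleCat.ofHom (LocalizedModule.mkLinearMap S X)
  let i : ModuleCat.of A (LocalizedModule S X) ≅ N := e.toModuleIso
  have hk : IsLocalizedModule S (T.map k).hom := Groth.Agent.S4507.result T hT S X
  have hℓ : ℓ = k ≫ i.hom := by
    ext x
    show ℓ.hom x = e (LocalizedModule.mkLinearMap S X x)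
    simp [e]
  rw [hℓ, T.map_comp]
  exact (IsLocalizedModule.of_linearEquiv S (T.map k).hom (T.mapIso i).toLinearEquiv :
    IsLocalizedModule S ((T.mapIso i).toLinearEquiv.toLinearMap ∘ₗ (T.map k).hom))

/-- the functor `X ↦ T (X_S)`. -/
noncomputable abbrev G : ModuleCat.{u} A ⥤ ModuleCat.{u} A :=
  ModuleCat.localizedModuleFunctor S ⋙
    (ModuleCat.restrictScalars (algebraMap A (Localization S)) ⋙ T)

/-- `X → X_S` as a morphism of `A`-modules. -/
noncomputable def etaApp (X : ModuleCat.{u} A) :
    X ⟶ (ModuleCat.restrictScalars (algebraMap A (Localization S))).obj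
      ((ModuleCat.localizedModuleFunctor S).obj X) :=
  ModuleCat.ofHom (X := (X : Type u))
    (Y := (((ModuleCat.restrictScalars (algebraMap A (Localization S))).obj
      ((ModuleCat.localizedModuleFunctor S).obj X) : ModuleCat.{u} A) : Type u))
    { toFun := fun x => X.localizedModuleMkLinearMap S x
      map_add' := fun x y => map_add _ x y
      map_smul' := fun a x => by
        show X.localizedModuleMkLinearMap S (a • x) =
          algebraMap A (Localization S) a •
            (X.localizedModuleMkLinearMap S x : X.localizedModule S)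
        rw [map_smul, algebraMap_smul] }

instance etaApp_isLocalizedModule (X : ModuleCat.{u} A) :
    IsLocalizedModule S (etaApp S X).hom := by
  let e : (X.localizedModule S) ≃ₗ[A]
      ((ModuleCat.restrictScalars (algebraMap A (Localization S))).obj
        ((ModuleCat.localizedModuleFunctor S).obj X)) :=
    { toFun := id
      invFun := id
      map_add' := fun _ _ => rfl
      map_smul' := fun a y => (algebraMap_smul (Localization S) a y).symm
      left_inv := fun _ => rfl
      right_inv := fun _ => rfl }
  have h : (etaApp S X).hom = e.toLinearMap ∘ₗ X.localizedModuleMkLinearMap S :=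
    LinearMap.ext fun _ => rfl
  rw [h]
  exact IsLocalizedModule.of_linearEquiv S (X.localizedModuleMkLinearMap S) e

lemma etaApp_naturality {X Y : ModuleCat.{u} A} (f : X ⟶ Y) :
    f ≫ etaApp S Y = etaApp S X ≫
      (ModuleCat.restrictScalars (algebraMap A (Localization S))).map
        ((ModuleCat.localizedModuleFunctor S).map f) := by
  ext x
  show Y.localizedModuleMkLinearMap S (f.hom x) =
    IsLocalizedModule.mapExtendScalars S (X.localizedModuleMkLinearMap S)
      (Y.localizedModuleMkLinearMap S) (Localization S) f.hom (X.localizedModuleMkLinearMap S x)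
  rw [IsLocalizedModule.mapExtendScalars_apply_apply, IsLocalizedModule.map_apply]

/-- `T X → T (X_S)`. -/
noncomputable def tauApp (X : ModuleCat.{u} A) : T.obj X ⟶ (G T S).obj X :=
  T.map (etaApp S X)

include hT in
lemma tauApp_isLocalizedModule (X : ModuleCat.{u} A) :
    IsLocalizedModule S (tauApp T S X).hom :=
  isLocalizedModule_map T hT S (etaApp S X)

lemma tauApp_naturality {X Y : ModuleCat.{u} A} (f : X ⟶ Y) :
    T.map f ≫ tauApp T S Y = tauApp T S X ≫ (G T S).map f := by
  show T.map f ≫ T.map (etaApp S Y) = T.map (etaApp S X) ≫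
    T.map ((ModuleCat.restrictScalars (algebraMap A (Localization S))).map
        ((ModuleCat.localizedModuleFunctor S).map f))
  rw [← T.map_comp, ← T.map_comp, etaApp_naturality]

include hT in
lemma map_eq {X Y : ModuleCat.{u} A} (f : X ⟶ Y) :
    haveI := tauApp_isLocalizedModule T hT S X
    haveI := tauApp_isLocalizedModule T hT S Y
    IsLocalizedModule.map S (tauApp T S X).hom (tauApp T S Y).hom (T.map f).hom =
      ((G T S).map f).hom := by
  haveI := tauApp_isLocalizedModule T hT S X
  haveI := tauApp_isLocalizedModule T hT S Y
  apply IsLocalizedModule.linearMap_ext S (tauApp T S X).hom (tauApp T S Y).hom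
  rw [IsLocalizedModule.map_comp]
  exact congrArg ModuleCat.Hom.hom (tauApp_naturality T S f)

end Helpers

open CategoryTheory CategoryTheory.Limits in
/-- Let A be a commutative ring and T an additive A-linear endofunctor of the category of A-modules
which preserves filtered colimits. For a maximal ideal m write T_m for T precomposed with
restriction of scalars along A → A_m (a functor from A_m-modules to A-modules). If T_m is left exact
for every maximal ideal m then T is left exact, and if T_m is right exact for every maximal ideal m
then T is right exact (exactness meaning preservation of finite limits, resp. finite colimits). -/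
theorem result {A : Type u} [CommRing A]
    (T : ModuleCat.{u} A ⥤ ModuleCat.{u} A) [T.Additive] [T.Linear A]
    (hT : ∀ (J : Type u) [SmallCategory J] [IsFiltered J], PreservesColimitsOfShape J T) :
    ((∀ (m : Ideal A) [m.IsMaximal],
        PreservesFiniteLimits (ModuleCat.restrictScalars (algebraMap A (Localization.AtPrime m)) ⋙ T)) →
      PreservesFiniteLimits T) ∧
    ((∀ (m : Ideal A) [m.IsMaximal],
        PreservesFiniteColimits (ModuleCat.restrictScalars (algebraMap A (Localization.AtPrime m)) ⋙ T)) →
      PreservesFiniteColimits T) := by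
  have hloc : ∀ (P : Ideal A) [P.IsMaximal] (X : ModuleCat.{u} A),
      IsLocalizedModule P.primeCompl (tauApp T P.primeCompl X).hom :=
    fun P _ X => tauApp_isLocalizedModule T hT P.primeCompl X
  constructor
  · intro h
    apply ((Functor.preservesFiniteLimits_tfae T).out 0 3).mp
    intro Sc hSc
    have key : ∀ (m : Ideal A) [m.IsMaximal], (Sc.map (G T m.primeCompl)).Exact ∧
        Mono ((G T m.primeCompl).map Sc.f) := by
      intro m _
      haveI := h m
      haveI : PreservesFiniteLimits (G T m.primeCompl) := by
        unfold G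
        infer_instance
      have h30 := (Functor.preservesFiniteLimits_tfae (G T m.primeCompl)).out 3 0
      exact h30.mp this Sc hSc
    haveI h1 : ∀ (P : Ideal A) [P.IsMaximal], IsLocalizedModule P.primeCompl
        (tauApp T P.primeCompl Sc.X₁).hom := fun P _ => hloc P _
    haveI h2 : ∀ (P : Ideal A) [P.IsMaximal], IsLocalizedModule P.primeCompl
        (tauApp T P.primeCompl Sc.X₂).hom := fun P _ => hloc P _
    haveI h3 : ∀ (P : Ideal A) [P.IsMaximal], IsLocalizedModule P.primeCompl
        (tauApp T P.primeCompl Sc.X₃).hom := fun P _ => hloc P _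
    constructor
    · rw [ShortComplex.ShortExact.moduleCat_exact_iff_function_exact]
      refine @exact_of_isLocalized_maximal A _ _ _ _ _ _ _ _ _ _
        (fun (m : Ideal A) _ => ((G T m.primeCompl).obj Sc.X₁ : Type u)) _ _
        (fun (m : Ideal A) _ => (tauApp T m.primeCompl Sc.X₁).hom) h1
        (fun (m : Ideal A) _ => ((G T m.primeCompl).obj Sc.X₂ : Type u)) _ _
        (fun (m : Ideal A) _ => (tauApp T m.primeCompl Sc.X₂).hom) h2
        (fun (m : Ideal A) _ => ((G T m.primeCompl).obj Sc.X₃ : Type u)) _ _
        (fun (m : Ideal A) _ => (tauApp T m.primeCompl Sc.X₃).hom) h3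
        (T.map Sc.f).hom (T.map Sc.g).hom ?_
      intro J _
      have e1 := map_eq T hT J.primeCompl Sc.f
      have e2 := map_eq T hT J.primeCompl Sc.g
      rw [e1, e2]
      exact (ShortComplex.ShortExact.moduleCat_exact_iff_function_exact _).mp (key J).1
    · rw [ModuleCat.mono_iff_injective]
      refine @injective_of_isLocalized_maximal A _ _ _ _ _ _ _
        (fun (m : Ideal A) _ => ((G T m.primeCompl).obj Sc.X₁ : Type u)) _ _
        (fun (m : Ideal A) _ => (tauApp T m.primeCompl Sc.X₁).hom) h1
        (fun (m : Ideal A) _ => ((G T m.primeCompl).obj Sc.X₂ : Type u)) _ _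
        (fun (m : Ideal A) _ => (tauApp T m.primeCompl Sc.X₂).hom) h2
        (T.map Sc.f).hom ?_
      intro J _
      have e1 := map_eq T hT J.primeCompl Sc.f
      rw [e1]
      exact (ModuleCat.mono_iff_injective _).mp (key J).2
  · intro h
    apply ((Functor.preservesFiniteColimits_tfae T).out 0 3).mp
    intro Sc hSc
    have key : ∀ (m : Ideal A) [m.IsMaximal], (Sc.map (G T m.primeCompl)).Exact ∧
        Epi ((G T m.primeCompl).map Sc.g) := by
      intro m _
      haveI := h m
      haveI : PreservesFiniteColimits (G T m.primeCompl) := by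
        unfold G
        infer_instance
      have h30 := (Functor.preservesFiniteColimits_tfae (G T m.primeCompl)).out 3 0
      exact h30.mp this Sc hSc
    haveI h1 : ∀ (P : Ideal A) [P.IsMaximal], IsLocalizedModule P.primeCompl
        (tauApp T P.primeCompl Sc.X₁).hom := fun P _ => hloc P _
    haveI h2 : ∀ (P : Ideal A) [P.IsMaximal], IsLocalizedModule P.primeCompl
        (tauApp T P.primeCompl Sc.X₂).hom := fun P _ => hloc P _
    haveI h3 : ∀ (P : Ideal A) [P.IsMaximal], IsLocalizedModule P.primeCompl
        (tauApp T P.primeCompl Sc.X₃).hom := fun P _ => hloc P _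
    constructor
    · rw [ShortComplex.ShortExact.moduleCat_exact_iff_function_exact]
      refine @exact_of_isLocalized_maximal A _ _ _ _ _ _ _ _ _ _
        (fun (m : Ideal A) _ => ((G T m.primeCompl).obj Sc.X₁ : Type u)) _ _
        (fun (m : Ideal A) _ => (tauApp T m.primeCompl Sc.X₁).hom) h1
        (fun (m : Ideal A) _ => ((G T m.primeCompl).obj Sc.X₂ : Type u)) _ _
        (fun (m : Ideal A) _ => (tauApp T m.primeCompl Sc.X₂).hom) h2
        (fun (m : Ideal A) _ => ((G T m.primeCompl).obj Sc.X₃ : Type u)) _ _
        (fun (m : Ideal A) _ => (tauApp T m.primeCompl Sc.X₃).hom) h3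
        (T.map Sc.f).hom (T.map Sc.g).hom ?_
      intro J _
      have e1 := map_eq T hT J.primeCompl Sc.f
      have e2 := map_eq T hT J.primeCompl Sc.g
      rw [e1, e2]
      exact (ShortComplex.ShortExact.moduleCat_exact_iff_function_exact _).mp (key J).1
    · rw [ModuleCat.epi_iff_surjective]
      refine @surjective_of_isLocalized_maximal A _ _ _ _ _ _ _
        (fun (m : Ideal A) _ => ((G T m.primeCompl).obj Sc.X₂ : Type u)) _ _
        (fun (m : Ideal A) _ => (tauApp T m.primeCompl Sc.X₂).hom) h2
        (fun (m : Ideal A) _ => ((G T m.primeCompl).obj Sc.X₃ : Type u)) _ _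
        (fun (m : Ideal A) _ => (tauApp T m.primeCompl Sc.X₃).hom) h3
        (T.map Sc.g).hom ?_
      intro J _
      have e2 := map_eq T hT J.primeCompl Sc.g
      rw [e2]
      exact (ModuleCat.epi_iff_surjective _).mp (key J).2

end Groth.Agent.S4493
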