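import Groth.Statements.S4495
import Mathlib

set_option autoImplicit false
universe u
open FlatCx

namespace Groth.Agent.S4495

open CategoryTheory AlgebraicGeometry Opposite TopologicalSpace in
section
theorem fwd (Z : LocallyRingedSpace.{u}) [PreconnectedSpace Z]
    (e : Z.presheaf.obj (op ⊤)) (he : IsIdempotentElem e) : e = 0 ∨ e = 1 := by
  let X := Z.toRingedSpace
  -- every idempotent unit is one
  have hunit1 : ∀ a : Z.presheaf.obj (op ⊤), IsIdempotentElem a → IsUnit a → a = 1 := by
    intro a ha hu
    have h1 := ha.eq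
    obtain ⟨b, hb⟩ := hu.exists_right_inv
    calc a = a * (a * b) := by rw [hb, mul_one]
      _ = (a * a) * b := by rw [mul_assoc]
      _ = a * b := by rw [h1]
      _ = 1 := hb
  have hcl : IsClopen ((X.basicOpen e : Opens X) : Set X) := by
    refine ⟨?_, (X.basicOpen e).2⟩
    have : ((X.basicOpen e : Opens X) : Set X)ᶜ = ((X.basicOpen (1 - e) : Opens X) : Set X) := by
      ext x
      simp only [Set.mem_compl_iff, SetLike.mem_coe]
      rw [X.mem_top_basicOpen, X.mem_top_basicOpen, map_sub, map_one]
      have hid : IsIdempotentElem (X.presheaf.Γgerm x e) := by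
        have := congrArg (X.presheaf.Γgerm x) he.eq
        rwa [map_mul] at this
      constructor
      · intro h
        exact (IsLocalRing.isUnit_or_isUnit_one_sub_self _).resolve_left h
      · intro h1 h2
        have : X.presheaf.Γgerm x e * (1 - X.presheaf.Γgerm x e) = 0 := by
          rw [mul_sub, mul_one, hid.eq, sub_self]
        have h3 := h2.mul h1
        rw [this] at h3
        exact not_isUnit_zero h3
    rw [← isOpen_compl_iff, this]
    exact (X.basicOpen (1 - e)).2
  have hpc : PreconnectedSpace X := ‹PreconnectedSpace Z›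
  rcases isClopen_iff.mp hcl with h | h
  · -- basicOpen e = ∅, so 1 - e is a unit
    left
    have hu : IsUnit (1 - e) := by
      apply X.isUnit_of_isUnit_germ ⊤
      intro x hx
      have hx' : x ∉ ((X.basicOpen e : Opens X) : Set X) := by rw [h]; exact Set.notMem_empty x
      simp only [SetLike.mem_coe] at hx'
      rw [X.mem_basicOpen e x hx] at hx'
      rw [map_sub, map_one]
      exact (IsLocalRing.isUnit_or_isUnit_one_sub_self _).resolve_left hx'
    have := hunit1 (1 - e) he.one_sub hu
    exact sub_eq_self.mp this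
  · right
    have hu : IsUnit e := by
      apply X.isUnit_of_isUnit_germ ⊤
      intro x hx
      have hx' : x ∈ ((X.basicOpen e : Opens X) : Set X) := by rw [h]; exact Set.mem_univ x
      simp only [SetLike.mem_coe] at hx'
      exact (X.mem_basicOpen e x hx).mp hx'
    exact hunit1 e he hu

open CategoryTheory AlgebraicGeometry Opposite TopologicalSpace in
theorem bwd (Z : LocallyRingedSpace.{u})
    (H : ∀ e : Z.presheaf.obj (op ⊤), IsIdempotentElem e → e = 0 ∨ e = 1) :
    PreconnectedSpace Z := by
  rw [preconnectedSpace_iff_clopen]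
  intro s hs
  let X := Z.toRingedSpace
  let F := X.sheaf
  let U : Opens X := ⟨s, hs.2⟩
  let V : Opens X := ⟨sᶜ, hs.1.isOpen_compl⟩
  have hUV : U ⊓ V = ⊥ := by
    ext x
    simp [U, V]
  have hcov : (⊤ : Opens X) ≤ U ⊔ V := by
    intro x _
    by_cases hx : x ∈ s
    · exact Or.inl hx
    · exact Or.inr hx
  -- sections over an open set are equal if the open set is empty
  have hempty : ∀ (W : Opens X) (hW : W = ⊥) (a b : X.presheaf.obj (op W)), a = b := by
    intro W hW a b
    apply TopCat.Presheaf.section_ext F W
    intro x hx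
    rw [hW] at hx
    exact absurd hx (Set.notMem_empty x)
  -- nonempty open sets have nontrivial rings of sections
  have hne : ∀ (W : Opens X), (1 : X.presheaf.obj (op W)) = 0 → W = ⊥ := by
    intro W h10
    ext x
    simp only [Opens.coe_bot, Set.mem_empty_iff_false, iff_false, SetLike.mem_coe]
    intro hx
    have := congrArg (X.presheaf.germ W x hx) h10
    rw [map_one, map_zero] at this
    exact one_ne_zero this
  -- glue
  let p : (F.1.obj (op U)) × (F.1.obj (op V)) := (1, 0)
  have hp : p ∈ RingHom.eqLocus
      (RingHom.comp (F.obj.map (homOfLE inf_le_left : U ⊓ V ⟶ U).op).hom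
        (RingHom.fst (F.obj.obj <| op U) (F.obj.obj <| op V)))
      (RingHom.comp (F.obj.map (homOfLE inf_le_right : U ⊓ V ⟶ V).op).hom
        (RingHom.snd (F.obj.obj <| op U) (F.obj.obj <| op V))) :=
    hempty (U ⊓ V) hUV _ _
  let gl : F.1.obj (op (U ⊔ V)) := (F.objSupIsoProdEqLocus U V).inv ⟨p, hp⟩
  have hglU : F.1.map (homOfLE le_sup_left).op gl = 1 :=
    F.objSupIsoProdEqLocus_inv_fst U V ⟨p, hp⟩
  have hglV : F.1.map (homOfLE le_sup_right).op gl = 0 :=
    F.objSupIsoProdEqLocus_inv_snd U V ⟨p, hp⟩
  let e : Z.presheaf.obj (op ⊤) := F.1.map (homOfLE hcov).op gl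
  have heU : F.1.map (homOfLE (le_top : U ≤ ⊤)).op e = 1 := by
    simp only [e]
    rw [← ConcreteCategory.comp_apply, ← F.1.map_comp]
    exact hglU
  have heV : F.1.map (homOfLE (le_top : V ≤ ⊤)).op e = 0 := by
    simp only [e]
    rw [← ConcreteCategory.comp_apply, ← F.1.map_comp]
    exact hglV
  have hmul : ∀ {W W' : Opens X} (i : W ⟶ W') (a b : F.1.obj (op W')),
      F.1.map i.op (a * b) = F.1.map i.op a * F.1.map i.op b :=
    fun i a b => map_mul (F.1.map i.op).hom a b
  have hidem : IsIdempotentElem e := by
    apply F.eq_of_locally_eq₂ (homOfLE (le_top : U ≤ ⊤)) (homOfLE (le_top : V ≤ ⊤)) hcov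
    · refine (hmul (homOfLE (le_top : U ≤ ⊤)) e e).trans ?_
      rw [heU, mul_one]
    · refine (hmul (homOfLE (le_top : V ≤ ⊤)) e e).trans ?_
      rw [heV, mul_zero]
  rcases H e hidem with h0 | h1
  · left
    have : (1 : X.presheaf.obj (op U)) = 0 := by
      have h3 : F.1.map (homOfLE (le_top : U ≤ ⊤)).op e = 0 := by
        rw [h0]; exact map_zero (F.1.map (homOfLE (le_top : U ≤ ⊤)).op).hom
      exact heU.symm.trans h3
    have := hne U this
    exact congrArg (fun W : Opens X => (W : Set X)) this
  · right
    have : (1 : X.presheaf.obj (op V)) = 0 := by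
      have h3 : F.1.map (homOfLE (le_top : V ≤ ⊤)).op e = 1 := by
        rw [h1]; exact map_one (F.1.map (homOfLE (le_top : V ≤ ⊤)).op).hom
      exact h3.symm.trans heV
    have := hne V this
    have h2 : sᶜ = ∅ := congrArg (fun W : Opens X => (W : Set X)) this
    exact Set.compl_empty_iff.mp h2

end


open CategoryTheory AlgebraicGeometry Opposite in
/-- A locally ringed space Z is connected, in the sense that it is not the disjoint union of two
nonempty open subsets (the empty space being allowed), if and only if every idempotent of the ring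
of global sections Γ(Z, O_Z) is 0 or 1 (equivalently, Γ(Z, O_Z) is not isomorphic to a product of
two nonzero rings). -/
theorem result (Z : LocallyRingedSpace.{u}) :
    PreconnectedSpace Z ↔
      ∀ e : Z.presheaf.obj (op ⊤), IsIdempotentElem e → e = 0 ∨ e = 1 := by
  exact ⟨fun h e he => @fwd Z h e he, fun h => bwd Z h⟩

end Groth.Agent.S4495
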