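import Groth.Statements.S4501
import Mathlib
import Groth.Agent.Lib.helper4.FlatCx11

set_option autoImplicit false
universe u
open FlatCx

namespace Groth.Agent.S4501

section Helpers
open CategoryTheory Limits CohIII TensorProduct Groth.Agent.H4FlatCx

variable {A : Type u} [CommRing A]

theorem flat_tensor_atPrime_iff (W : Type u) [AddCommGroup W] [Module A W] [Module.Finite A W]
    (y : PrimeSpectrum A) :
    Module.Flat (Localization.AtPrime y.asIdeal) (Localization.AtPrime y.asIdeal ⊗[A] W) ↔
      y ∈ Module.freeLocus A W := by
  rw [Module.mem_freeLocus_iff_tensor y (Localization.AtPrime y.asIdeal)]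
  constructor
  · intro h
    exact Module.free_of_flat_of_isLocalRing
  · intro h
    exact Module.Flat.of_free

theorem bot_mem_freeLocus [IsDomain A] (W : Type u) [AddCommGroup W] [Module A W] :
    (⟨⊥, Ideal.isPrime_bot⟩ : PrimeSpectrum A) ∈ Module.freeLocus A W := by
  rw [Module.mem_freeLocus]
  have hmax : IsLocalRing.maximalIdeal (Localization.AtPrime (⊥ : Ideal A)) = ⊥ := by
    rw [← Localization.AtPrime.map_eq_maximalIdeal, Ideal.map_bot]
  have hF : IsField (Localization.AtPrime (⊥ : Ideal A)) :=
    IsLocalRing.isField_iff_maximalIdeal_eq.2 hmax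
  let _ : Field (Localization.AtPrime (⊥ : Ideal A)) := hF.toField
  exact Module.Free.of_divisionRing _ _

end Helpers


open CategoryTheory CategoryTheory.Limits in
/-- The case of finitely generated flat terms. Let A be a Noetherian domain, P a chain complex of
finitely generated flat A-modules, and for a prime y of A let P_y be the base change of P to the
local ring A_y. Then the set U of points y of Spec A such that the functor N ↦ H_p(P_y ⊗_{A_y} N) on
A_y-modules takes injections to injections and surjections to surjections is open and nonempty (it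
contains the generic point). -/
theorem result {A : Type u} [CommRing A] [IsNoetherianRing A] [IsDomain A]
    (P : ChainComplex (ModuleCat.{u} A) ℤ) (hP : ∀ i, Module.Finite A (P.X i) ∧ Module.Flat A (P.X i))
    (p : ℤ) :
    IsOpen {y : PrimeSpectrum A |
        (CohIII.TFun (CohIII.bcCx (algebraMap A (Localization.AtPrime y.asIdeal)) P) p).PreservesMonomorphisms ∧
          (CohIII.TFun (CohIII.bcCx (algebraMap A (Localization.AtPrime y.asIdeal)) P) p).PreservesEpimorphisms} ∧
      {y : PrimeSpectrum A |
        (CohIII.TFun (CohIII.bcCx (algebraMap A (Localization.AtPrime y.asIdeal)) P) p).PreservesMonomorphisms ∧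
          (CohIII.TFun (CohIII.bcCx (algebraMap A (Localization.AtPrime y.asIdeal)) P) p).PreservesEpimorphisms}.Nonempty := by
  have hfl : ∀ i, Module.Flat A (P.X i) := fun i => (hP i).2
  have := (hP p).1
  have := (hP (p - 1)).1
  have f1 : Module.Finite A (P.opcycles p) := Groth.Agent.H4FlatCx.finite_opcycles P p
  have f2 : Module.Finite A (P.opcycles (p - 1)) := Groth.Agent.H4FlatCx.finite_opcycles P (p - 1)
  have fp1 : Module.FinitePresentation A (P.opcycles p) := Module.finitePresentation_of_finite A _
  have fp2 : Module.FinitePresentation A (P.opcycles (p - 1)) :=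
    Module.finitePresentation_of_finite A _
  have hset : {y : PrimeSpectrum A |
        (CohIII.TFun (CohIII.bcCx (algebraMap A (Localization.AtPrime y.asIdeal)) P) p).PreservesMonomorphisms ∧
          (CohIII.TFun (CohIII.bcCx (algebraMap A (Localization.AtPrime y.asIdeal)) P) p).PreservesEpimorphisms} =
      Module.freeLocus A (P.opcycles p) ∩ Module.freeLocus A (P.opcycles (p - 1)) := by
    ext y
    simp only [Set.mem_ofPred_eq, Set.mem_inter_iff]
    rw [Groth.Agent.H4FlatCx.preservesMono_bcCx_iff P hfl p, Groth.Agent.H4FlatCx.preservesEpi_bcCx_iff P hfl p,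
      flat_tensor_atPrime_iff, flat_tensor_atPrime_iff]
  rw [hset]
  refine ⟨Module.isOpen_freeLocus.inter Module.isOpen_freeLocus, ⟨⟨⊥, Ideal.isPrime_bot⟩, ?_, ?_⟩⟩
  · exact bot_mem_freeLocus _
  · exact bot_mem_freeLocus _

end Groth.Agent.S4501
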