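import Groth.Statements.S4511
import Mathlib
import Groth.Agent.Lib.helper14.FSRegular
import Groth.Agent.Lib.helper14.CoeffField


set_option autoImplicit false
universe u
open EGA41

namespace H14S4511

open IsLocalRing

theorem moreover (A : Type u) [CommRing A] [IsLocalRing A] [IsNoetherianRing A]
    [IsAdicComplete (maximalIdeal A) A] (p : ℕ) [CharP (ResidueField A) p] (hp0 : (p : A) = 0) :
    ∃ (K : Type u) (_ : Field K) (n : ℕ) (f : MvPowerSeries (Fin n) K →+* A),
      Function.Surjective f ∧ RingHom.ker f ≤ maximalIdeal (MvPowerSeries (Fin n) K) ^ 2 := by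
  classical
  obtain ⟨σ, hσ⟩ : ∃ σ : ResidueField A →+* A, ∀ x, residue A (σ x) = x := by
    rcases CharP.char_is_prime_or_zero (ResidueField A) p with hprime | h0
    · haveI : Fact p.Prime := ⟨hprime⟩
      have h1 : ringChar A ∣ p := ringChar.dvd hp0
      have h2 : ringChar A = p :=
        ((Nat.dvd_prime hprime).mp h1).resolve_left (CharP.ringChar_ne_one)
      haveI : CharP A p := h2 ▸ ringChar.charP A
      letI : Algebra (ULift.{u} (ZMod p)) A :=
        ((ZMod.castHom (dvd_refl p) A).comp
          (ULift.ringEquiv : ULift.{u} (ZMod p) ≃+* ZMod p).toRingHom).toAlgebra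
      exact H14.CoeffField.exists_section A (ULift.{u} (ZMod p))
    · subst h0
      haveI : CharZero (ResidueField A) := CharP.charP_to_charZero _
      exact H14.CoeffField.exists_section_of_charZero A
  let σ' : H14.FSReg.KF A →+* A := σ
  letI : Algebra (H14.FSReg.KF A) A := σ'.toAlgebra
  have hk : Function.Bijective (algebraMap (H14.FSReg.KF A) (ResidueField A)) := by
    have h1 : ∀ x : H14.FSReg.KF A, algebraMap (H14.FSReg.KF A) (ResidueField A) x = x :=
      fun x => hσ x
    constructor
    · intro x y hxy
      rw [h1, h1] at hxy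
      exact hxy
    · intro y
      exact ⟨y, h1 y⟩
  obtain ⟨d, ψ, hsurj, hker⟩ := H14.FSReg.exists_psi hk
  exact ⟨H14.FSReg.KF A, inferInstance, d, ψ.toRingHom, hsurj, hker⟩

theorem main (A : Type u) [CommRing A] [IsLocalRing A] [IsNoetherianRing A]
    [IsAdicComplete (maximalIdeal A) A] (p : ℕ) [CharP (ResidueField A) p] :
    [∃ (K : Type u) (_ : Field K), Nonempty (K →+* A),
     (p : A) = 0,
     ∃ (K : Type u) (_ : Field K) (n : ℕ) (f : MvPowerSeries (Fin n) K →+* A), Function.Surjective f].TFAE := by
  tfae_have 1 → 2 := by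
    rintro ⟨K, _, ⟨φ⟩⟩
    have hinj : Function.Injective ((residue A).comp φ) := RingHom.injective _
    haveI : CharP K p := RingHom.charP _ hinj p
    rw [← map_natCast φ, CharP.cast_eq_zero, map_zero]
  tfae_have 2 → 3 := by
    intro h
    obtain ⟨K, hK, n, f, hf, -⟩ := moreover A p h
    exact ⟨K, hK, n, f, hf⟩
  tfae_have 3 → 1 := by
    rintro ⟨K, hK, n, f, -⟩
    exact ⟨K, hK, ⟨f.comp MvPowerSeries.C⟩⟩
  tfae_finish

end H14S4511

namespace Groth.Agent.S4511

open IsLocalRing in
/-- Let A be a complete Noetherian local ring whose residue field has characteristic p (p = 0 allowed).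
The following are equivalent: (a) A contains a field, i.e. there is a ring homomorphism from a field
into A; (b) p·1 = 0 in A; (c) A is isomorphic to a quotient of a power series ring K[[T_1, …, T_n]]
over a field K. Moreover, when they hold, the surjection in (c) may be chosen with kernel contained
in the square of the maximal ideal of K[[T_1, …, T_n]]. -/
theorem result (A : Type u) [CommRing A] [IsLocalRing A] [IsNoetherianRing A]
    [IsAdicComplete (maximalIdeal A) A] (p : ℕ) [CharP (ResidueField A) p] :
    [∃ (K : Type u) (_ : Field K), Nonempty (K →+* A),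
     (p : A) = 0,
     ∃ (K : Type u) (_ : Field K) (n : ℕ) (f : MvPowerSeries (Fin n) K →+* A), Function.Surjective f].TFAE ∧
    ((p : A) = 0 → ∃ (K : Type u) (_ : Field K) (n : ℕ) (f : MvPowerSeries (Fin n) K →+* A),
      Function.Surjective f ∧ RingHom.ker f ≤ maximalIdeal (MvPowerSeries (Fin n) K) ^ 2) := by
  exact ⟨H14S4511.main A p, H14S4511.moreover A p⟩

end Groth.Agent.S4511
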