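import Groth.Statements.S4515
import Mathlib

set_option autoImplicit false
universe u
open EGA41

namespace Groth.Agent.S4515

/-- Let A be a ring, J an ideal of A, and M, N two A-modules which are Hausdorff for the J-adic
topology; suppose moreover that N is J-adically complete and M is flat. Let u : N → M be A-linear.
If the induced map N/JN → M/JM is bijective (surjectivity and injectivity written out below), then u
is bijective. -/
theorem result {A : Type u} [CommRing A] (J : Ideal A)
    {M N : Type u} [AddCommGroup M] [Module A M] [AddCommGroup N] [Module A N]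
    [IsHausdorff J M] [IsAdicComplete J N] [Module.Flat A M] (u : N →ₗ[A] M)
    (hsurj : ∀ m : M, ∃ n : N, m - u n ∈ (J • ⊤ : Submodule A M))
    (hinj : ∀ n : N, u n ∈ (J • ⊤ : Submodule A M) → n ∈ (J • ⊤ : Submodule A N)) :
    Function.Bijective u := by
  classical
  have hs : Function.Surjective u := by
    apply surjective_of_mkQ_comp_surjective (I := J)
    intro y
    obtain ⟨m, rfl⟩ := Submodule.mkQ_surjective _ y
    obtain ⟨n, hn⟩ := hsurj m
    refine ⟨n, ?_⟩
    simp only [LinearMap.comp_apply, Submodule.mkQ_apply]
    rw [eq_comm, Submodule.Quotient.eq]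
    exact hn
  refine ⟨?_, hs⟩
  have hK : LinearMap.ker u ≤ J • LinearMap.ker u := by
    intro k hk
    have hk0 : u k = 0 := hk
    have hkJ : k ∈ (J • ⊤ : Submodule A N) := hinj k (by rw [hk0]; exact zero_mem _)
    have hk2 : k ∈ J • Submodule.span A (Set.range (id : N → N)) := by simpa using hkJ
    rw [Submodule.mem_ideal_smul_span_iff_exists_sum] at hk2
    obtain ⟨a, ha, hsum⟩ := hk2
    have hrel : ∑ i : a.support, a i • u i = 0 := by
      rw [Finset.sum_coe_sort a.support (fun i => a i • u i), ← hk0, ← hsum, Finsupp.sum, map_sum]
      simp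
    obtain ⟨k', b, y, hy, hb⟩ := Module.Flat.isTrivialRelation_of_sum_smul_eq_zero hrel
    beta_reduce at hy hb
    choose n' hn' using fun j => hs (y j)
    have hki : ∀ i : a.support, (i : N) - ∑ j, b i j • n' j ∈ LinearMap.ker u := by
      intro i
      rw [LinearMap.mem_ker, map_sub, map_sum, hy i, sub_eq_zero]
      simp [hn']
    have hkeq : k = ∑ i : a.support, a i • ((i : N) - ∑ j, b i j • n' j) := by
      simp only [smul_sub, Finset.sum_sub_distrib]
      have h1 : ∑ i : a.support, a i • (i : N) = k := by
        rw [Finset.sum_coe_sort a.support (fun i => a i • i), ← hsum, Finsupp.sum]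
        simp
      have h2 : ∑ i : a.support, a i • ∑ j, b i j • n' j = 0 := by
        simp only [Finset.smul_sum, smul_smul]
        rw [Finset.sum_comm]
        apply Finset.sum_eq_zero
        intro j _
        rw [← Finset.sum_smul, hb j, zero_smul]
      rw [h1, h2, sub_zero]
    rw [hkeq]
    exact Submodule.sum_mem _ fun i _ => Submodule.smul_mem_smul (ha i) (hki i)
  have hKn : ∀ n : ℕ, LinearMap.ker u ≤ (J ^ n • ⊤ : Submodule A N) := by
    intro n
    induction n with
    | zero => simp
    | succ n ih =>
      refine hK.trans ?_
      rw [pow_succ', mul_smul]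
      exact Submodule.smul_mono le_rfl ih
  rw [← LinearMap.ker_eq_bot, eq_bot_iff]
  intro k hk
  have : IsHausdorff J N := inferInstance
  rw [Submodule.mem_bot]
  apply IsHausdorff.haus this
  intro n
  rw [SModEq.zero]
  exact hKn n hk

end Groth.Agent.S4515
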