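import Groth.Statements.S4517
import Mathlib

set_option autoImplicit false
universe u
open EGA41

namespace Groth.Agent.S4517

open TensorProduct in
/-- Let p be a prime, B an A-algebra of characteristic p, and suppose there is s ≥ 0 such that b^(p^s)
lies in the image of A for every b ∈ B. Then the kernel of the multiplication map B ⊗_A B → B is a
nil ideal. -/
theorem result (p : ℕ) [Fact p.Prime] {A B : Type u}
    [CommRing A] [CommRing B] [Algebra A B] [CharP B p] (s : ℕ)
    (hpow : ∀ b : B, b ^ p ^ s ∈ Set.range (algebraMap A B)) :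
    ∀ x ∈ KaehlerDifferential.ideal A B, IsNilpotent x := by
  intro x hx
  have hp : p.Prime := Fact.out
  have hp0 : ((p : ℕ) : TensorProduct A B B) = 0 := by
    have h1 : ((p : ℕ) : B) = 0 := CharP.cast_eq_zero B p
    have h2 := congrArg (algebraMap B (TensorProduct A B B)) h1
    rw [map_natCast, map_zero] at h2
    exact h2
  rw [← KaehlerDifferential.span_range_eq_ideal] at hx
  have hle : Ideal.span (Set.range fun s : B => (1 : B) ⊗ₜ[A] s - s ⊗ₜ[A] (1 : B)) ≤
      nilradical (TensorProduct A B B) := by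
    rw [Ideal.span_le]
    rintro _ ⟨b, rfl⟩
    rw [SetLike.mem_coe, mem_nilradical]
    refine ⟨p ^ s, ?_⟩
    obtain ⟨a, ha⟩ := hpow b
    obtain ⟨r, hr⟩ := exists_add_pow_prime_pow_eq hp
      ((1 : B) ⊗ₜ[A] b - b ⊗ₜ[A] (1 : B)) (b ⊗ₜ[A] (1 : B)) s
    rw [sub_add_cancel, hp0] at hr
    simp only [zero_mul, add_zero, Algebra.TensorProduct.tmul_pow, one_pow] at hr
    rw [← ha] at hr
    have h3 : (1 : B) ⊗ₜ[A] (algebraMap A B a) = (algebraMap A B a) ⊗ₜ[A] (1 : B) := by
      rw [Algebra.algebraMap_eq_smul_one, TensorProduct.tmul_smul, TensorProduct.smul_tmul']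
    rw [h3] at hr
    exact (right_eq_add.mp hr)
  exact mem_nilradical.mp (hle hx)

end Groth.Agent.S4517
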