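import Groth.Statements.S4524
import Mathlib

set_option autoImplicit false
universe u
open EGA41

namespace Groth.Agent.S4524

/-- Let k be a field of characteristic 0 and K an extension of k. Then Ω_{K/k} = 0 if and only if K is
an algebraic extension of k. -/
theorem result {k K : Type u} [Field k] [CharZero k] [Field K] [Algebra k K] :
    Subsingleton (Ω[K⁄k]) ↔ Algebra.IsAlgebraic k K := by
  classical
  constructor
  · intro hsub
    obtain ⟨ι, x, hx⟩ := exists_isTranscendenceBasis' k K
    rw [← hx.isEmpty_iff_isAlgebraic]
    -- the polynomial ring on the transcendence basis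
    let S := MvPolynomial ι k
    let φ : S →ₐ[k] K := MvPolynomial.aeval x
    have hφ : Function.Injective φ := hx.1
    let _ : Algebra S K := φ.toRingHom.toAlgebra
    have hST : IsScalarTower k S K := IsScalarTower.of_algebraMap_eq fun r => by
      change algebraMap k K r = φ (algebraMap k S r)
      rw [AlgHom.commutes]
    have hfaith : FaithfulSMul S K := (faithfulSMul_iff_algebraMap_injective S K).mpr hφ
    let L := FractionRing S
    let _ : Algebra L K := FractionRing.liftAlgebra S K
    have hSLK : IsScalarTower S L K := FractionRing.isScalarTower_liftAlgebra S K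
    -- K is algebraic over S
    have halgS : Algebra.IsAlgebraic S K := by
      have h1 : Algebra.IsAlgebraic (Algebra.adjoin k (Set.range x)) K := hx.isAlgebraic
      have hrange : ∀ s : S, φ s ∈ Algebra.adjoin k (Set.range x) := by
        intro s
        rw [Algebra.adjoin_range_eq_range_aeval]
        exact ⟨s, rfl⟩
      let f : S →+* Algebra.adjoin k (Set.range x) :=
        (φ.codRestrict (Algebra.adjoin k (Set.range x)) hrange).toRingHom
      have hf : Function.Surjective f := by
        rintro ⟨y, hy⟩
        rw [Algebra.adjoin_range_eq_range_aeval] at hy
        obtain ⟨s, rfl⟩ := hy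
        exact ⟨s, rfl⟩
      exact Algebra.IsAlgebraic.of_ringHom_of_comp_eq (S := Algebra.adjoin k (Set.range x))
        (B := K) f (RingHom.id K) hf Function.injective_id (by ext s <;> rfl)
    have halgL : Algebra.IsAlgebraic L K :=
      Algebra.IsAlgebraic.extendScalars (R := S) (S := L) (A := K) (IsFractionRing.injective S L)
    have hchar : CharZero L :=
      charZero_of_injective_algebraMap (R := k) (A := L)
        ((IsFractionRing.injective S L).comp (MvPolynomial.C_injective ι k))
    have hsepL : Algebra.IsSeparable L K := Algebra.IsAlgebraic.isSeparable_of_perfectField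
    have het1 : Algebra.FormallyEtale L K := Algebra.FormallyEtale.of_isSeparable L K
    have het2 : Algebra.FormallyEtale S L :=
      Algebra.FormallyEtale.of_isLocalization (nonZeroDivisors S)
    have het : Algebra.FormallyEtale S K := Algebra.FormallyEtale.comp S L K
    let e := KaehlerDifferential.tensorKaehlerEquivOfFormallyEtale k S K
    let b : Module.Basis ι K (TensorProduct S K (Ω[S⁄k])) :=
      (KaehlerDifferential.mvPolynomialBasis k ι).baseChange K
    refine ⟨fun i => ?_⟩
    have h0 : e (b i) = 0 := Subsingleton.elim _ _
    have : b i = 0 := by
      rw [← e.map_eq_zero_iff]; exact h0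
    exact b.ne_zero i this
  · intro halg
    have hsep : Algebra.IsSeparable k K := Algebra.IsAlgebraic.isSeparable_of_perfectField
    have hunr : Algebra.FormallyUnramified k K := Algebra.FormallyUnramified.of_isSeparable k K
    infer_instance

end Groth.Agent.S4524
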