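import Groth.Statements.S4558
import Mathlib


set_option autoImplicit false
universe u
open EGA41

namespace H14S4558

open TensorProduct

theorem main {A B : Type u} [CommRing A] [CommRing B] [Algebra A B] (𝔫 : Ideal B)
    [IsAdicComplete 𝔫 B] [Module.Finite (B ⧸ 𝔫) (Ω[B ⧸ 𝔫⁄A])] [Module.Finite (B ⧸ 𝔫) 𝔫.Cotangent] :
    Module.Finite B (AdicCompletion 𝔫 (Ω[B⁄A])) := by
  classical
  have hsurj : Function.Surjective (algebraMap B (B ⧸ 𝔫)) := Ideal.Quotient.mk_surjective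
  haveI : Module.Finite B (B ⧸ 𝔫) := Module.Finite.of_surjective (Algebra.linearMap B (B ⧸ 𝔫)) hsurj
  haveI hcot : Module.Finite B 𝔫.Cotangent := Module.Finite.trans (B ⧸ 𝔫) 𝔫.Cotangent
  haveI hΩ₀ : Module.Finite B (Ω[B ⧸ 𝔫⁄A]) := Module.Finite.trans (B ⧸ 𝔫) (Ω[B ⧸ 𝔫⁄A])
  have hK : RingHom.ker (algebraMap B (B ⧸ 𝔫)) = 𝔫 := by
    rw [Ideal.Quotient.algebraMap_eq, Ideal.mk_ker]
  haveI hcotK : Module.Finite B (RingHom.ker (algebraMap B (B ⧸ 𝔫))).Cotangent := by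
    rw [hK]
    exact hcot
  -- the tensor product is finite
  have hex := KaehlerDifferential.exact_kerCotangentToTensor_mapBaseChange A B (B ⧸ 𝔫) hsurj
  have hsur := KaehlerDifferential.mapBaseChange_surjective A B (B ⧸ 𝔫) hsurj
  haveI hT : Module.Finite B ((B ⧸ 𝔫) ⊗[B] Ω[B⁄A]) := by
    let g : (B ⧸ 𝔫) ⊗[B] Ω[B⁄A] →ₗ[B] Ω[B ⧸ 𝔫⁄A] :=
      (KaehlerDifferential.mapBaseChange A B (B ⧸ 𝔫)).restrictScalars B
    let f := KaehlerDifferential.kerCotangentToTensor A B (B ⧸ 𝔫)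
    have hgsur : Function.Surjective g := hsur
    have hker : LinearMap.ker g = LinearMap.range f := by
      ext x
      rw [LinearMap.mem_ker, LinearMap.mem_range]
      exact hex x
    haveI : Module.Finite B (LinearMap.ker g) := by
      rw [hker]
      exact Module.Finite.range f
    haveI : Module.Finite B (((B ⧸ 𝔫) ⊗[B] Ω[B⁄A]) ⧸ LinearMap.ker g) :=
      Module.Finite.equiv (g.quotKerEquivOfSurjective hgsur).symm
    exact Module.Finite.of_submodule_quotient (LinearMap.ker g)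
  haveI hQ : Module.Finite B (Ω[B⁄A] ⧸ (𝔫 • ⊤ : Submodule B (Ω[B⁄A]))) :=
    Module.Finite.equiv (TensorProduct.quotTensorEquivQuotSMul (Ω[B⁄A]) 𝔫)
  obtain ⟨n, s, hs⟩ := Module.Finite.exists_fin (R := B)
    (M := Ω[B⁄A] ⧸ (𝔫 • ⊤ : Submodule B (Ω[B⁄A])))
  choose x hx using fun i => Submodule.mkQ_surjective (𝔫 • ⊤ : Submodule B (Ω[B⁄A])) (s i)
  let φ : (Fin n → B) →ₗ[B] Ω[B⁄A] := Fintype.linearCombination B x
  have hφsurj : Function.Surjective
      (Submodule.mkQ (𝔫 • ⊤ : Submodule B (Ω[B⁄A])) ∘ₗ φ) := by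
    rw [← LinearMap.range_eq_top, LinearMap.range_comp, Fintype.range_linearCombination,
      Submodule.map_span, ← Set.range_comp]
    have : (⇑(Submodule.mkQ (𝔫 • ⊤ : Submodule B (Ω[B⁄A]))) ∘ x) = s := funext hx
    rw [this, hs]
  have hΦ := AdicCompletion.map_surjective_of_mkQ_comp_surjective hφsurj
  let e : AdicCompletion 𝔫 (Fin n → B) ≃ₗ[B] (Fin n → B) :=
    ((AdicCompletion.piEquivFin 𝔫 n).restrictScalars B).trans
      (LinearEquiv.piCongrRight (fun _ => (AdicCompletion.ofLinearEquiv 𝔫 B).symm))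
  haveI : Module.Finite B (AdicCompletion 𝔫 (Fin n → B)) := Module.Finite.equiv e.symm
  exact Module.Finite.of_surjective ((AdicCompletion.map 𝔫 φ).restrictScalars B) hΦ

end H14S4558

namespace Groth.Agent.S4558

/-- Let A be a discrete ring, B an adic topological A-algebra with ideal of definition 𝔫 (B separated
and complete for the 𝔫-adic topology) and B₀ = B/𝔫. If Ω_{B₀/A} and 𝔫/𝔫² are B₀-modules of finite
type, then Ω̂_{B/A}, the 𝔫-adic completion of Ω_{B/A}, is a B-module of finite type. -/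
theorem result {A B : Type u} [CommRing A] [CommRing B] [Algebra A B] (𝔫 : Ideal B)
    [IsAdicComplete 𝔫 B] [Module.Finite (B ⧸ 𝔫) (Ω[B ⧸ 𝔫⁄A])] [Module.Finite (B ⧸ 𝔫) 𝔫.Cotangent] :
    Module.Finite B (AdicCompletion 𝔫 (Ω[B⁄A])) := by
  exact H14S4558.main 𝔫

end Groth.Agent.S4558
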