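import Groth.Statements.S4529
import Mathlib

set_option autoImplicit false
universe u
open EGA41

namespace Groth.Agent.S4529

/-- Let A be a ring, M, N two A-modules with N projective, u : M → N a homomorphism and J an ideal of A;
suppose either (i) J is nilpotent, or (ii) J is contained in the Jacobson radical of A and M is of
finite type. Then u is left invertible if and only if the induced map u₀ : M/JM → N/JN is left
invertible. (A left inverse of u₀ composed with N → N/JN is an A-linear map v : N → M/JM with v ∘ u
the projection, and conversely; the right-hand side is written in that form.) -/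
theorem result {A : Type u} [CommRing A] {M N : Type u} [AddCommGroup M] [Module A M]
    [AddCommGroup N] [Module A N] [Module.Projective A N] (u : M →ₗ[A] N) (J : Ideal A)
    (hJ : IsNilpotent J ∨ (J ≤ (⊥ : Ideal A).jacobson ∧ Module.Finite A M)) :
    (∃ w : N →ₗ[A] M, w ∘ₗ u = LinearMap.id) ↔
      ∃ v : N →ₗ[A] M ⧸ (J • ⊤ : Submodule A M), v ∘ₗ u = (J • ⊤ : Submodule A M).mkQ := by
  constructor
  · rintro ⟨w, hw⟩
    exact ⟨(J • ⊤ : Submodule A M).mkQ ∘ₗ w, by rw [LinearMap.comp_assoc, hw, LinearMap.comp_id]⟩
  · rintro ⟨v, hv⟩
    obtain ⟨w₀, hw₀⟩ := Module.projective_lifting_property (J • ⊤ : Submodule A M).mkQ v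
      (Submodule.mkQ_surjective _)
    set φ : M →ₗ[A] M := w₀ ∘ₗ u with hφ
    have hφm : ∀ m, φ m - m ∈ (J • ⊤ : Submodule A M) := by
      intro m
      rw [← Submodule.Quotient.eq]
      have h1 := LinearMap.congr_fun hv m
      have h2 := LinearMap.congr_fun hw₀ (u m)
      simp only [LinearMap.comp_apply, Submodule.mkQ_apply] at h1 h2
      rw [hφ, LinearMap.comp_apply, h2, h1]
    have hbij : Function.Bijective φ := by
      rcases hJ with hnil | ⟨hjac, hfin⟩
      · -- nilpotent case
        obtain ⟨n, hn⟩ := hnil
        have hδ : ∀ k : ℕ, ∀ m : M, ((φ - 1) ^ k) m ∈ (J ^ k • ⊤ : Submodule A M) := by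
          intro k
          induction k with
          | zero => intro m; simp
          | succ k ih =>
            intro m
            rw [pow_succ' (φ - 1) k, Module.End.mul_apply]
            have hm := ih m
            generalize ((φ - 1) ^ k) m = x at hm
            rw [pow_succ J k, mul_smul]
            refine Submodule.smul_induction_on hm ?_ ?_
            · intro a ha y _
              rw [map_smul]
              refine Submodule.smul_mem_smul ha ?_
              have := hφm y
              simpa using this
            · intro x y hx hy
              rw [map_add]; exact add_mem hx hy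
        have hnil' : IsNilpotent (φ - 1) := by
          refine ⟨n, ?_⟩
          ext m
          have := hδ n m
          rw [hn] at this
          simpa using this
        have hu : IsUnit (1 + (φ - 1)) := hnil'.isUnit_one_add
        rw [add_sub_cancel] at hu
        exact (Module.End.isUnit_iff φ).mp hu
      · have hsurj : Function.Surjective φ := by
          rw [← LinearMap.range_eq_top, eq_top_iff]
          apply Submodule.le_of_le_smul_of_le_jacobson_bot (Module.Finite.fg_top) hjac
          intro m _
          have : m = φ m + (-(φ m - m)) := by abel
          rw [this]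
          exact Submodule.add_mem_sup (LinearMap.mem_range_self φ m) (neg_mem (hφm m))
        exact OrzechProperty.bijective_of_surjective_endomorphism φ hsurj
    let e := LinearEquiv.ofBijective φ hbij
    refine ⟨e.symm.toLinearMap ∘ₗ w₀, ?_⟩
    ext m
    simp only [LinearMap.comp_apply, LinearEquiv.coe_coe, LinearMap.id_apply]
    rw [LinearEquiv.symm_apply_eq]
    rfl

end Groth.Agent.S4529
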