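import Groth.Statements.S4531
import Mathlib
import Groth.Agent.S4530
-- import your own Groth.Agent.* helpers here

set_option autoImplicit false
universe u
open EGA41

namespace Groth.Agent.S4531

namespace H5S4531
open TensorProduct
open Groth.Agent.S4530

section
variable {A : Type u} [CommRing A] {M N : Type u} [AddCommGroup M] [Module A M]
    [Module.Finite A M] [AddCommGroup N] [Module A N] [Module.Projective A N] (u : M →ₗ[A] N)

/-- gluing -/
theorem glue (h : ∀ (m : Ideal A) [m.IsMaximal], Function.Injective (u.lTensor m.ResidueField)) :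
    ∃ w : N →ₗ[A] M, w ∘ₗ u = LinearMap.id := by
  classical
  let ι := {m : Ideal A // m.IsMaximal}
  have hK : ∀ i : ι, ∃ g : A, g ∉ i.1 ∧ ∃ w : N →ₗ[A] M, w ∘ₗ u = g • LinearMap.id := by
    intro i
    haveI := i.2
    exact H5S4530.keyK u i.1 (h i.1)
  choose g hg w hw using hK
  have htop : Ideal.span (Set.range g) = ⊤ := by
    by_contra hne
    obtain ⟨m, hm, hle⟩ := Ideal.exists_le_maximal _ hne
    exact hg ⟨m, hm⟩ (hle (Ideal.subset_span ⟨⟨m, hm⟩, rfl⟩))
  have h1 : (1 : A) ∈ Ideal.span (Set.range g) := by rw [htop]; trivial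
  rw [Ideal.span, Finsupp.mem_span_range_iff_exists_finsupp] at h1
  obtain ⟨c, hc⟩ := h1
  refine ⟨c.sum (fun i a => a • w i), ?_⟩
  ext x
  simp only [LinearMap.comp_apply, LinearMap.id_apply]
  rw [Finsupp.sum, LinearMap.sum_apply]
  have h2 : ∀ i, (c i • w i) (u x) = (c i • g i) • x := by
    intro i
    have := congrArg (fun f => f x) (hw i)
    simp only [LinearMap.comp_apply, LinearMap.smul_apply, LinearMap.id_apply] at this
    rw [LinearMap.smul_apply, this, smul_smul]
    rfl
  simp only [h2]
  rw [← Finset.sum_smul]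
  have : ∑ i ∈ c.support, c i • g i = 1 := hc
  rw [this, one_smul]

theorem part1 :
    ((∃ w : N →ₗ[A] M, w ∘ₗ u = LinearMap.id) ↔
      ∀ (m : Ideal A) [m.IsMaximal],
        ∃ w : LocalizedModule m.primeCompl N →ₗ[A] LocalizedModule m.primeCompl M,
          w ∘ₗ LocalizedModule.map m.primeCompl u = LinearMap.id) := by
  constructor
  · rintro ⟨w, hw⟩ m _
    exact H5S4530.leftInv_localized u m.primeCompl 1 (Submonoid.one_mem _) w (by rw [hw, one_smul])
  · intro h
    apply glue u
    intro m _
    exact H5S4530.injective_of_leftInv_localized u m m.primeCompl (fun s hs => hs) (h m)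

theorem part2 (A' : Type u) [CommRing A'] [Algebra A A'] [Module.FaithfullyFlat A A'] :
      (∃ w : N →ₗ[A] M, w ∘ₗ u = LinearMap.id) ↔
        ∃ w : A' ⊗[A] N →ₗ[A'] A' ⊗[A] M, w ∘ₗ u.baseChange A' = LinearMap.id := by
  constructor
  · rintro ⟨w, hw⟩
    refine ⟨w.baseChange A', ?_⟩
    rw [← LinearMap.baseChange_comp, hw, LinearMap.baseChange_id]
  · rintro ⟨w', hw'⟩
    apply glue u
    intro m _
    -- retraction of k → k ⊗ A'
    have hinj : Function.Injective (Algebra.linearMap m.ResidueField (m.ResidueField ⊗[A] A')) :=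
      (algebraMap m.ResidueField (m.ResidueField ⊗[A] A')).injective
    obtain ⟨r, hr⟩ := LinearMap.exists_leftInverse_of_injective
      (Algebra.linearMap m.ResidueField (m.ResidueField ⊗[A] A')) (LinearMap.ker_eq_bot.mpr hinj)
    have hr' : ∀ c : m.ResidueField, r (c ⊗ₜ[A] (1 : A')) = c := by
      intro c
      have := congrArg (fun f => f c) hr
      simpa [Algebra.TensorProduct.algebraMap_apply] using this
    -- ρ_M : k ⊗ (A' ⊗ M) → k ⊗ M
    let ρ : m.ResidueField ⊗[A] (A' ⊗[A] M) →ₗ[A] m.ResidueField ⊗[A] M :=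
      (r.restrictScalars A).rTensor M ∘ₗ (TensorProduct.assoc A m.ResidueField A' M).symm.toLinearMap
    let ιM : M →ₗ[A] A' ⊗[A] M := TensorProduct.mk A A' M 1
    let ιN : N →ₗ[A] A' ⊗[A] N := TensorProduct.mk A A' N 1
    have hρ : ρ ∘ₗ ιM.lTensor m.ResidueField = LinearMap.id := by
      apply TensorProduct.ext'
      intro c x
      simp [ρ, ιM, hr']
    have hcomm : (u.baseChange A').restrictScalars A ∘ₗ ιM = ιN ∘ₗ u := by
      ext x
      simp [ιM, ιN]
    have hw'' : (w'.restrictScalars A) ∘ₗ ((u.baseChange A').restrictScalars A) = LinearMap.id := by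
      refine LinearMap.ext fun x => ?_
      have := congrArg (fun f => f x) hw'
      simpa using this
    intro x y hxy
    have e1 : ∀ z, ρ (((w'.restrictScalars A).lTensor m.ResidueField)
        ((((u.baseChange A').restrictScalars A).lTensor m.ResidueField)
          ((ιM.lTensor m.ResidueField) z))) = z := by
      intro z
      rw [← LinearMap.comp_apply ((w'.restrictScalars A).lTensor m.ResidueField),
        ← LinearMap.lTensor_comp, hw'', LinearMap.lTensor_id, LinearMap.id_apply]
      exact congrArg (fun f => f z) hρ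
    have e2 : ∀ z, (((u.baseChange A').restrictScalars A).lTensor m.ResidueField)
          ((ιM.lTensor m.ResidueField) z) =
        (ιN.lTensor m.ResidueField) ((u.lTensor m.ResidueField) z) := by
      intro z
      rw [← LinearMap.comp_apply, ← LinearMap.lTensor_comp, hcomm, LinearMap.lTensor_comp,
        LinearMap.comp_apply]
    rw [← e1 x, ← e1 y, e2, e2, hxy]

end
end H5S4531

open TensorProduct in
/-- Let A be a ring, M an A-module of finite type, N a projective A-module and u : M → N a homomorphism.
(i) u is left invertible if and only if u_𝔪 : M_𝔪 → N_𝔪 is left invertible for every maximal ideal 𝔪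
of A. (ii) If A' is an A-algebra which is a faithfully flat A-module, u is left invertible if and
only if u ⊗ 1 : M ⊗_A A' → N ⊗_A A' is left invertible (as an A'-linear map). -/
theorem result {A : Type u} [CommRing A] {M N : Type u} [AddCommGroup M] [Module A M]
    [Module.Finite A M] [AddCommGroup N] [Module A N] [Module.Projective A N] (u : M →ₗ[A] N) :
    ((∃ w : N →ₗ[A] M, w ∘ₗ u = LinearMap.id) ↔
      ∀ (m : Ideal A) [m.IsMaximal],
        ∃ w : LocalizedModule m.primeCompl N →ₗ[A] LocalizedModule m.primeCompl M,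
          w ∘ₗ LocalizedModule.map m.primeCompl u = LinearMap.id) ∧
    ∀ (A' : Type u) [CommRing A'] [Algebra A A'] [Module.FaithfullyFlat A A'],
      (∃ w : N →ₗ[A] M, w ∘ₗ u = LinearMap.id) ↔
        ∃ w : A' ⊗[A] N →ₗ[A'] A' ⊗[A] M, w ∘ₗ u.baseChange A' = LinearMap.id := by
  exact ⟨H5S4531.part1 u, fun A' _ _ _ => H5S4531.part2 u A'⟩

end Groth.Agent.S4531
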