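import Groth.Statements.S4533
import Mathlib
import Groth.Agent.Lib.helper14.FSAdic
import Groth.Agent.Lib.helper14.AdicFSPowerSeries


set_option autoImplicit false
universe u
open EGA41

namespace Groth.Agent.S4533

/-- Let A carry the 𝔞-adic topology and let B = A[[T_1, …, T_n]] carry the product topology, i.e. the
adic topology of the ideal 𝔞B + (T_1, …, T_n) (the kernel of the constant-coefficient map added to
the extension of 𝔞). Then B is a formally smooth A-algebra for these topologies. (The published
statement allows any linearly topologized base ring and any set of indeterminates with the product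
topology; this row takes an adic base and finitely many indeterminates, where the product topology
is adic.) -/
theorem result (A : Type u) [CommRing A] (𝔞 : Ideal A) (n : ℕ) :
    EGA41.IsFormallySmoothAdic A 𝔞 (MvPowerSeries (Fin n) A)
      (𝔞.map (MvPowerSeries.C : A →+* MvPowerSeries (Fin n) A) ⊔
        RingHom.ker (MvPowerSeries.constantCoeff : MvPowerSeries (Fin n) A →+* A)) := by
  classical
  have h1 : CAlgX.IsAdicFormallySmooth A (MvPowerSeries (Fin n) A)
      (RingHom.ker (MvPowerSeries.constantCoeff : MvPowerSeries (Fin n) A →+* A)) :=
    H14.AFS.mvPowerSeries (R := A) (K := A) (Fin n) _ (fun i => by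
      rw [RingHom.mem_ker]; simp)
  have h2 := (H14.FSAdic.isAdicFormallySmooth_iff _).mp h1
  exact H14.FSAdic.mono bot_le le_sup_right h2

end Groth.Agent.S4533
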