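import Groth.Statements.S4534
import Mathlib


set_option autoImplicit false
universe u
open EGA41

namespace Groth.Agent.S4534

/-- Let A → B → C be continuous homomorphisms of adic rings (A with the 𝔞-adic, B the 𝔟-adic, C the
𝔠-adic topology; continuity: a power of 𝔞 maps into 𝔟 and a power of 𝔟 into 𝔠). If B is formally
smooth over A and C formally smooth over B, then C is formally smooth over A. -/
theorem result {A B C : Type u} [CommRing A] [CommRing B] [CommRing C] [Algebra A B] [Algebra B C]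
    [Algebra A C] [IsScalarTower A B C] (𝔞 : Ideal A) (𝔟 : Ideal B) (𝔠 : Ideal C)
    (hAB : ∃ k : ℕ, (𝔞 ^ k).map (algebraMap A B) ≤ 𝔟) (hBC : ∃ k : ℕ, (𝔟 ^ k).map (algebraMap B C) ≤ 𝔠)
    (hB : EGA41.IsFormallySmoothAdic A 𝔞 B 𝔟) (hC : EGA41.IsFormallySmoothAdic B 𝔟 C 𝔠) :
    EGA41.IsFormallySmoothAdic A 𝔞 C 𝔠 := by
  classical
  intro D _ _ J hJ hD u hu
  obtain ⟨l, hl⟩ := hu
  obtain ⟨m, hm⟩ := hBC
  obtain ⟨N, hN⟩ := hJ
  let ι : B →ₐ[A] C := IsScalarTower.toAlgHom A B C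
  -- step 1: lift on `B`
  have hkill : ∀ x ∈ 𝔟 ^ (m * l), (u.comp ι) x = 0 := by
    intro x hx
    apply hl
    have h1 : algebraMap B C x ∈ (𝔟 ^ (m * l)).map (algebraMap B C) := Ideal.mem_map_of_mem _ hx
    rw [pow_mul, Ideal.map_pow] at h1
    exact Ideal.pow_right_mono hm l h1
  obtain ⟨w, hw⟩ := hB D J ⟨N, hN⟩ hD (u.comp ι) ⟨m * l, hkill⟩
  have hw' : ∀ b, Ideal.Quotient.mk J (w b) = u (algebraMap B C b) := by
    intro b
    have := congrArg (fun φ => φ b) hw
    simp only [AlgHom.comp_apply, Ideal.Quotient.mkₐ_eq_mk] at this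
    exact this
  -- step 2: `D` as a `B`-algebra
  letI algBD : Algebra B D := w.toRingHom.toAlgebra
  haveI : IsScalarTower A B D := IsScalarTower.of_algebraMap_eq (fun a => (w.commutes a).symm)
  have halg : ∀ b, algebraMap B D b = w b := fun b => rfl
  have hDB : ∃ k : ℕ, (𝔟 ^ k).map (algebraMap B D) = ⊥ := by
    refine ⟨m * l * N, ?_⟩
    rw [eq_bot_iff, Ideal.map_le_iff_le_comap]
    have h1 : 𝔟 ^ (m * l) ≤ J.comap (algebraMap B D) := by
      intro x hx
      rw [Ideal.mem_comap, halg, ← Ideal.Quotient.eq_zero_iff_mem, hw']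
      exact hkill x hx
    have h2 : (𝔟 ^ (m * l)) ^ N ≤ (J ^ N).comap (algebraMap B D) :=
      (Ideal.pow_right_mono h1 N).trans (Ideal.le_comap_pow _ N)
    rw [pow_mul]
    rw [hN] at h2
    exact h2
  let uB : C →ₐ[B] D ⧸ J :=
    { u.toRingHom with
      commutes' := fun b => by
        change u (algebraMap B C b) = Ideal.Quotient.mk J (algebraMap B D b)
        rw [halg, hw'] }
  obtain ⟨v, hv⟩ := hC D J ⟨N, hN⟩ hDB uB ⟨l, hl⟩
  refine ⟨v.restrictScalars A, ?_⟩
  ext x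
  have := congrArg (fun φ => φ x) hv
  simp only [AlgHom.comp_apply, Ideal.Quotient.mkₐ_eq_mk] at this
  exact this

end Groth.Agent.S4534
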