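import Groth.Statements.S4535
import Mathlib


set_option autoImplicit false
universe u
open EGA41

namespace Groth.Agent.S4535

open TensorProduct in
/-- Let B (𝔟-adic) be formally smooth over A (𝔞-adic) and let A' (𝔞'-adic) be a topological A-algebra (a
power of 𝔞 maps into 𝔞'). Then the A'-algebra A' ⊗_A B, with the tensor product topology, i.e. the
adic topology of the ideal generated by the images of 𝔞' and 𝔟, is formally smooth over A'. -/
theorem result {A B A' : Type u} [CommRing A] [CommRing B] [CommRing A'] [Algebra A B] [Algebra A A']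
    (𝔞 : Ideal A) (𝔟 : Ideal B) (𝔞' : Ideal A') (hAA' : ∃ k : ℕ, (𝔞 ^ k).map (algebraMap A A') ≤ 𝔞')
    (hB : EGA41.IsFormallySmoothAdic A 𝔞 B 𝔟) :
    EGA41.IsFormallySmoothAdic A' 𝔞' (A' ⊗[A] B)
      (𝔞'.map (algebraMap A' (A' ⊗[A] B)) ⊔
        𝔟.map (Algebra.TensorProduct.includeRight : B →ₐ[A] A' ⊗[A] B).toRingHom) := by
  classical
  intro D _ _ J hJ hD u hu
  obtain ⟨l, hl⟩ := hu
  obtain ⟨c, hc⟩ := hAA'
  obtain ⟨k, hk⟩ := hD
  letI : Algebra A D := Algebra.compHom D (algebraMap A A')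
  haveI : IsScalarTower A A' D := IsScalarTower.of_algebraMap_eq (fun r => rfl)
  haveI : IsScalarTower A A' (D ⧸ J) := IsScalarTower.of_algebraMap_eq (fun r => rfl)
  have hDA : ∃ k : ℕ, (𝔞 ^ k).map (algebraMap A D) = ⊥ := by
    refine ⟨c * k, ?_⟩
    have h1 : (𝔞 ^ (c * k)).map (algebraMap A D) =
        ((𝔞 ^ (c * k)).map (algebraMap A A')).map (algebraMap A' D) := by
      rw [Ideal.map_map, ← IsScalarTower.algebraMap_eq]
    rw [eq_bot_iff, ← hk, h1, pow_mul, Ideal.map_pow]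
    exact Ideal.map_mono (Ideal.pow_right_mono hc k)
  let ιB : B →ₐ[A] A' ⊗[A] B := Algebra.TensorProduct.includeRight
  let u0 : B →ₐ[A] D ⧸ J := (u.restrictScalars A).comp ιB
  have hu0 : ∀ x ∈ 𝔟 ^ l, u0 x = 0 := by
    intro x hx
    apply hl
    have h1 : ιB x ∈ (𝔟 ^ l).map ιB.toRingHom := Ideal.mem_map_of_mem _ hx
    rw [Ideal.map_pow] at h1
    exact Ideal.pow_right_mono le_sup_right l h1
  obtain ⟨w, hw⟩ := hB D J hJ hDA u0 ⟨l, hu0⟩
  let v : A' ⊗[A] B →ₐ[A'] D :=
    Algebra.TensorProduct.lift (Algebra.ofId A' D) w (fun _ _ => Commute.all _ _)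
  refine ⟨v, ?_⟩
  apply Algebra.TensorProduct.ext
  · ext
  · ext b
    have := congrArg (fun φ => φ b) hw
    simp only [AlgHom.comp_apply, Ideal.Quotient.mkₐ_eq_mk] at this
    simp only [AlgHom.comp_apply, AlgHom.restrictScalars_apply, Ideal.Quotient.mkₐ_eq_mk]
    have hv : v (Algebra.TensorProduct.includeRight b) = w b := by
      simp [v]
    rw [hv, this]
    rfl

end Groth.Agent.S4535
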