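import Groth.Statements.S4536
import Mathlib


set_option autoImplicit false
universe u
open EGA41

namespace Groth.Agent.S4536

/-- Let A carry the 𝔞-adic and B the 𝔟-adic topology, A → B being continuous (a power of 𝔞 maps into 𝔟).
Then B is formally smooth over A if and only if for every n the (A/𝔞ⁿ)-algebra B/𝔞ⁿB, with the adic
topology of the image of 𝔟, is formally smooth over the discrete ring A/𝔞ⁿ. -/
theorem result {A B : Type u} [CommRing A] [CommRing B] [Algebra A B]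
    (𝔞 : Ideal A) (𝔟 : Ideal B) (hAB : ∃ k : ℕ, (𝔞 ^ k).map (algebraMap A B) ≤ 𝔟) :
    EGA41.IsFormallySmoothAdic A 𝔞 B 𝔟 ↔
      ∀ n : ℕ, EGA41.IsFormallySmoothAdic (A ⧸ 𝔞 ^ n) ⊥ (B ⧸ (𝔞 ^ n).map (algebraMap A B))
        (𝔟.map (Ideal.Quotient.mk ((𝔞 ^ n).map (algebraMap A B)))) := by
  classical
  constructor
  · -- (⇒)
    intro h n D _ _ J hJ _ u hu
    obtain ⟨l, hl⟩ := hu
    let Bn := B ⧸ (𝔞 ^ n).map (algebraMap A B)
    letI : Algebra A D := Algebra.compHom D (algebraMap A (A ⧸ (𝔞 ^ n)))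
    haveI : IsScalarTower A (A ⧸ (𝔞 ^ n)) D := IsScalarTower.of_algebraMap_eq (fun r => rfl)
    haveI : IsScalarTower A (A ⧸ (𝔞 ^ n)) (D ⧸ J) := IsScalarTower.of_algebraMap_eq (fun r => rfl)
    have hDA : ∃ k : ℕ, (𝔞 ^ k).map (algebraMap A D) = ⊥ := by
      refine ⟨n, ?_⟩
      rw [eq_bot_iff, Ideal.map_le_iff_le_comap]
      intro a ha
      rw [Ideal.mem_comap, Ideal.mem_bot, IsScalarTower.algebraMap_apply A (A ⧸ (𝔞 ^ n)) D]
      have : algebraMap A (A ⧸ (𝔞 ^ n)) a = 0 := Ideal.Quotient.eq_zero_iff_mem.mpr ha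
      rw [this, map_zero]
    let π : B →ₐ[A] Bn := Ideal.Quotient.mkₐ A _
    let u0 : B →ₐ[A] D ⧸ J := (u.restrictScalars A).comp π
    have hu0 : ∀ x ∈ 𝔟 ^ l, u0 x = 0 := by
      intro x hx
      apply hl
      have h1 : π x ∈ (𝔟 ^ l).map (Ideal.Quotient.mk ((𝔞 ^ n).map (algebraMap A B))) :=
        Ideal.mem_map_of_mem _ hx
      exact (Ideal.map_pow (Ideal.Quotient.mk ((𝔞 ^ n).map (algebraMap A B))) 𝔟 l).le h1
    obtain ⟨w, hw⟩ := h D J hJ hDA u0 ⟨l, hu0⟩
    have hwkill : ∀ x ∈ (𝔞 ^ n).map (algebraMap A B), w x = 0 := by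
      intro x hx
      have hle : (𝔞 ^ n).map (algebraMap A B) ≤ RingHom.ker w.toRingHom := by
        rw [Ideal.map_le_iff_le_comap]
        intro a ha
        rw [Ideal.mem_comap, RingHom.mem_ker]
        change w (algebraMap A B a) = 0
        rw [w.commutes, IsScalarTower.algebraMap_apply A (A ⧸ (𝔞 ^ n)) D]
        have : algebraMap A (A ⧸ (𝔞 ^ n)) a = 0 := Ideal.Quotient.eq_zero_iff_mem.mpr ha
        rw [this, map_zero]
      exact hle hx
    let v0 : Bn →+* D := Ideal.Quotient.lift _ w.toRingHom hwkill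
    have hv0 : ∀ b : B, v0 (Ideal.Quotient.mk _ b) = w b := fun b => rfl
    let v : Bn →ₐ[A ⧸ (𝔞 ^ n)] D :=
      { v0 with
        commutes' := by
          intro r
          obtain ⟨a, rfl⟩ := Ideal.Quotient.mk_surjective r
          change v0 (Ideal.Quotient.mk _ (algebraMap A B a)) = _
          rw [hv0, w.commutes]
          rfl }
    refine ⟨v, ?_⟩
    ext x
    obtain ⟨b, rfl⟩ := Ideal.Quotient.mk_surjective x
    have := congrArg (fun φ => φ b) hw
    simp only [AlgHom.comp_apply, Ideal.Quotient.mkₐ_eq_mk] at this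
    simp only [AlgHom.comp_apply, Ideal.Quotient.mkₐ_eq_mk]
    change Ideal.Quotient.mk J (v0 (Ideal.Quotient.mk _ b)) = _
    rw [hv0, this]
    rfl
  · -- (⇐)
    intro h D _ _ J hJ hD u hu
    obtain ⟨l, hl⟩ := hu
    obtain ⟨k, hk⟩ := hD
    let Bk := B ⧸ (𝔞 ^ k).map (algebraMap A B)
    have hIkill : ∀ a ∈ (𝔞 ^ k), algebraMap A D a = 0 := by
      intro a ha
      have : algebraMap A D a ∈ (𝔞 ^ k).map (algebraMap A D) := Ideal.mem_map_of_mem _ ha
      rw [hk] at this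
      simpa using this
    letI : Algebra (A ⧸ (𝔞 ^ k)) D := (Ideal.Quotient.lift (𝔞 ^ k) (algebraMap A D) hIkill).toAlgebra
    haveI : IsScalarTower A (A ⧸ (𝔞 ^ k)) D := IsScalarTower.of_algebraMap_eq (fun r => rfl)
    haveI : IsScalarTower A (A ⧸ (𝔞 ^ k)) (D ⧸ J) := IsScalarTower.of_algebraMap_eq (fun r => rfl)
    have hukill : ∀ x ∈ (𝔞 ^ k).map (algebraMap A B), u x = 0 := by
      intro x hx
      have hle : (𝔞 ^ k).map (algebraMap A B) ≤ RingHom.ker u.toRingHom := by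
        rw [Ideal.map_le_iff_le_comap]
        intro a ha
        rw [Ideal.mem_comap, RingHom.mem_ker]
        change u (algebraMap A B a) = 0
        rw [u.commutes]
        change Ideal.Quotient.mk J (algebraMap A D a) = 0
        rw [hIkill a ha, map_zero]
      exact hle hx
    let u0 : Bk →+* D ⧸ J := Ideal.Quotient.lift _ u.toRingHom hukill
    have hu0 : ∀ b : B, u0 (Ideal.Quotient.mk _ b) = u b := fun b => rfl
    let uk : Bk →ₐ[A ⧸ (𝔞 ^ k)] D ⧸ J :=
      { u0 with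
        commutes' := by
          intro r
          obtain ⟨a, rfl⟩ := Ideal.Quotient.mk_surjective r
          change u0 (Ideal.Quotient.mk _ (algebraMap A B a)) = _
          rw [hu0, u.commutes]
          rfl }
    have huk : ∀ x ∈ (𝔟.map (Ideal.Quotient.mk ((𝔞 ^ k).map (algebraMap A B)))) ^ l, uk x = 0 := by
      intro x hx
      replace hx := (Ideal.map_pow (Ideal.Quotient.mk ((𝔞 ^ k).map (algebraMap A B))) 𝔟 l).ge hx
      have hle : (𝔟 ^ l).map (Ideal.Quotient.mk ((𝔞 ^ k).map (algebraMap A B))) ≤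
          RingHom.ker uk.toRingHom := by
        rw [Ideal.map_le_iff_le_comap]
        intro b hb
        rw [Ideal.mem_comap, RingHom.mem_ker]
        change u0 (Ideal.Quotient.mk _ b) = 0
        rw [hu0]
        exact hl b hb
      exact hle hx
    obtain ⟨vk, hvk⟩ := h k D J hJ ⟨1, by simp⟩ uk ⟨l, huk⟩
    let π : B →ₐ[A] Bk := Ideal.Quotient.mkₐ A _
    refine ⟨(vk.restrictScalars A).comp π, ?_⟩
    ext b
    have := congrArg (fun φ => φ (π b)) hvk
    simp only [AlgHom.comp_apply, Ideal.Quotient.mkₐ_eq_mk] at this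
    simp only [AlgHom.comp_apply, Ideal.Quotient.mkₐ_eq_mk, AlgHom.restrictScalars_apply]
    rw [this]
    rfl

end Groth.Agent.S4536
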