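import Groth.Statements.S4539
import Groth.Agent.Lib.helper21.LC63


set_option autoImplicit false
universe u
open EGA41



namespace Groth.Agent.S4539H

open IsLocalRing TensorProduct

/-- Every field extension of a perfect field is geometrically reduced (separable).
(copied from helper7's GeomRed3) -/
theorem isGeometricallyReduced_of_perfectField (Ω L : Type*) [Field Ω] [Field L] [Algebra Ω L]
    [PerfectField Ω] : Algebra.IsGeometricallyReduced Ω L := by
  rw [Algebra.isGeometricallyReduced_field_iff]
  haveI : _root_.IsReduced (L ⊗[Ω] AlgebraicClosure Ω) := by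
    refine IsReduced.tensorProduct_of_flat_of_forall_fg fun E hE => ?_
    haveI : Algebra.FiniteType Ω E := (Subalgebra.fg_iff_finiteType E).1 hE
    haveI : Algebra.IsIntegral Ω E :=
      Algebra.IsIntegral.of_injective E.val Subtype.val_injective
    have hEf : IsField E := isField_of_isIntegral_of_isField' (R := Ω) (Field.toIsField Ω)
    letI : Field E := hEf.toField
    haveI : Algebra.IsAlgebraic Ω E := inferInstance
    haveI : Algebra.IsSeparable Ω E := inferInstance
    haveI : Algebra.FormallyUnramified Ω E := Algebra.FormallyUnramified.of_isSeparable Ω E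
    haveI : Algebra.FormallyUnramified L (L ⊗[Ω] E) := inferInstance
    haveI : Algebra.EssFiniteType L (L ⊗[Ω] E) := inferInstance
    exact Algebra.FormallyUnramified.isReduced_of_field L (L ⊗[Ω] E)
  exact isReduced_of_injective (Algebra.TensorProduct.comm Ω (AlgebraicClosure Ω) L).toAlgHom
    (AlgEquiv.injective _)

variable (p : ℕ) [hp : (Ideal.span {(p : ℤ)}).IsPrime]

local notation "PP" => Localization.AtPrime (Ideal.span {(p : ℤ)})

theorem maximalIdeal_P : maximalIdeal PP = Ideal.span {(p : PP)} := by
  rw [← Localization.AtPrime.map_eq_maximalIdeal, Ideal.map_span, Set.image_singleton]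
  simp

theorem map_maximalIdeal {A : Type*} [CommRing A] [Algebra PP A] :
    (maximalIdeal PP).map (algebraMap PP A) = Ideal.span {(p : A)} := by
  rw [maximalIdeal_P, Ideal.map_span, Set.image_singleton, map_natCast]

theorem injective_int : Function.Injective (algebraMap ℤ PP) :=
  IsLocalization.injective (M := (Ideal.span {(p : ℤ)}).primeCompl) PP
    (Ideal.primeCompl_le_nonZeroDivisors _)

instance : CharZero PP := charZero_of_injective_algebraMap (injective_int p)

theorem prime_of_ne_zero (hp0 : p ≠ 0) : p.Prime := by
  have h1 : Prime (p : ℤ) :=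
    (Ideal.span_singleton_prime (by exact_mod_cast hp0)).mp hp
  exact Nat.prime_iff_prime_int.mpr h1

theorem forward {A : Type} [CommRing A] [IsLocalRing A] [CharP (ResidueField A) p]
    [Algebra PP A] [IsLocalHom (algebraMap PP A)]
    (h : EGA41.IsCohenAlgebra PP A) : EGA41.IsCohenRingEGA A := by
  obtain ⟨hPn, hAn, hcomp, hflat, hmax, hred⟩ := h
  rw [map_maximalIdeal] at hmax
  by_cases hp0 : p = 0
  · left
    have hbot : maximalIdeal A = ⊥ := by
      rw [← hmax, hp0]
      simp
    refine ⟨IsLocalRing.isField_iff_maximalIdeal_eq.mpr hbot, ?_⟩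
    haveI : CharP (ResidueField A) 0 := hp0 ▸ (inferInstance : CharP (ResidueField A) p)
    haveI : CharZero (ResidueField A) := CharP.charP_to_charZero _
    exact (residue A).charZero
  · right
    have hprime : p.Prime := prime_of_ne_zero p hp0
    have hregP : IsSMulRegular PP (p : PP) := by
      have hne : (p : PP) ≠ 0 := by exact_mod_cast hp0
      intro a b hab
      exact mul_left_cancel₀ hne (by simpa [smul_eq_mul] using hab)
    have hreg : IsSMulRegular A (p : A) := by
      have := IsSMulRegular.of_flat (S := A) hregP
      rwa [map_natCast] at this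
    obtain ⟨hd, hdvr⟩ := Groth.Agent.H21.LC.dvr_of_maximalIdeal_eq_span_regular A (p : A)
      hmax.symm hreg
    exact ⟨hd, hdvr, hcomp, p, hprime, hmax.symm⟩

theorem perfectField_residue : PerfectField (ResidueField PP) := by
  by_cases hp0 : p = 0
  · haveI : CharZero (ResidueField PP) := by
      have hbot : maximalIdeal PP = ⊥ := by
        have h0 : (p : PP) = 0 := by
          have := congrArg (fun n : ℕ => (n : PP)) hp0
          simpa using this
        rw [maximalIdeal_P, h0]
        simp
      have hinj : Function.Injective (residue PP) := by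
        rw [injective_iff_map_eq_zero]
        intro a ha
        rw [residue_eq_zero_iff, hbot] at ha
        simpa using ha
      exact charZero_of_injective_ringHom hinj
    exact PerfectField.ofCharZero
  · haveI : NeZero p := ⟨hp0⟩
    haveI : Finite (ℤ ⧸ Ideal.span {(p : ℤ)}) :=
      Finite.of_equiv _ (Int.quotientSpanNatEquivZMod p).symm.toEquiv
    haveI : Finite (Ideal.span {(p : ℤ)}).ResidueField := inferInstance
    exact PerfectField.ofFinite

theorem injective_algebraMap_of_charZero {A : Type*} [CommRing A] [CharZero A] [Algebra PP A] :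
    Function.Injective (algebraMap PP A) := by
  rw [injective_iff_map_eq_zero]
  intro x hx
  obtain ⟨a, s, rfl⟩ := IsLocalization.exists_mk'_eq (Ideal.span {(p : ℤ)}).primeCompl x
  have h1 : algebraMap PP A (algebraMap ℤ PP a) = 0 := by
    rw [← IsLocalization.mk'_spec PP a s, map_mul, hx, zero_mul]
  rw [eq_intCast (algebraMap ℤ PP) a, map_intCast] at h1
  have h2 : a = 0 := by exact_mod_cast h1
  rw [h2, IsLocalization.mk'_zero]

theorem flat_of_charZero {A : Type*} [CommRing A] [IsDomain A] [CharZero A] [Algebra PP A] :
    Module.Flat PP A := by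
  rw [IsDedekindDomain.flat_iff_torsion_eq_bot, eq_bot_iff]
  intro a ha
  rw [Submodule.mem_torsion_iff] at ha
  obtain ⟨⟨r, hr⟩, h⟩ := ha
  have hr0 : r ≠ 0 := nonZeroDivisors.ne_zero hr
  have h1 : algebraMap PP A r * a = 0 := by
    rw [← Algebra.smul_def]
    exact h
  have h2 : algebraMap PP A r ≠ 0 := by
    intro h0
    exact hr0 (injective_algebraMap_of_charZero p (by rw [h0, map_zero]))
  rcases mul_eq_zero.mp h1 with h3 | h3
  · exact absurd h3 h2
  · rw [h3]
    exact Submodule.zero_mem _

theorem backward {A : Type} [CommRing A] [IsLocalRing A] [CharP (ResidueField A) p]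
    [Algebra PP A] [IsLocalHom (algebraMap PP A)]
    (h : EGA41.IsCohenRingEGA A) : EGA41.IsCohenAlgebra PP A := by
  haveI := perfectField_residue p
  have hgeom : Algebra.IsGeometricallyReduced (ResidueField PP) (ResidueField A) :=
    isGeometricallyReduced_of_perfectField _ _
  rcases h with ⟨hf, hc⟩ | ⟨hd, hdvr, hcomp, p', hp', hmax⟩
  · haveI := hc
    haveI : IsDomain A := hf.isDomain
    have hbot : maximalIdeal A = ⊥ := isField_iff_maximalIdeal_eq.mp hf
    have hp0 : (p : A) = 0 := by
      have h1 : residue A (p : A) = 0 := by
        rw [map_natCast]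
        exact CharP.cast_eq_zero _ p
      rw [residue_eq_zero_iff, hbot] at h1
      simpa using h1
    refine ⟨inferInstance, ?_, ?_, flat_of_charZero p, ?_, hgeom⟩
    · letI := hf.toField
      infer_instance
    · rw [hbot]
      infer_instance
    · rw [map_maximalIdeal, hp0, hbot]
      simp
  · haveI := hd
    haveI := hdvr
    have h1 : ((p' : ℕ) : ResidueField A) = 0 := by
      have : (p' : A) ∈ maximalIdeal A := by
        rw [hmax]
        exact Ideal.mem_span_singleton_self _
      rw [← map_natCast (residue A), residue_eq_zero_iff]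
      exact this
    have h2 : p ∣ p' := (CharP.cast_eq_zero_iff (ResidueField A) p p').mp h1
    have hp1 : p ≠ 1 := CharP.char_ne_one (ResidueField A) p
    have hpp : p = p' := ((Nat.dvd_prime hp').mp h2).resolve_left hp1
    haveI : CharZero A := by
      obtain ⟨ℓ, hℓ⟩ := CharP.exists A
      rcases CharP.char_is_prime_or_zero A ℓ with hℓp | hℓ0
      · exfalso
        have h3 : (ℓ : A) = 0 := CharP.cast_eq_zero A ℓ
        have h4 : ((ℓ : ℕ) : ResidueField A) = 0 := by
          rw [← map_natCast (residue A), h3, map_zero]
        have h5 : p ∣ ℓ := (CharP.cast_eq_zero_iff (ResidueField A) p ℓ).mp h4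
        have h6 : p = ℓ := (Nat.prime_dvd_prime_iff_eq (hpp ▸ hp') hℓp).mp h5
        have h7 : (p' : A) = 0 := by
          rw [← hpp, h6]
          exact h3
        apply IsDiscreteValuationRing.not_a_field A
        rw [hmax, h7]
        simp
      · rw [hℓ0] at hℓ
        exact CharP.charP_to_charZero A
    refine ⟨inferInstance, inferInstance, hcomp, flat_of_charZero p, ?_, hgeom⟩
    rw [map_maximalIdeal, hmax, hpp]

end Groth.Agent.S4539H

namespace Groth.Agent.S4539

open IsLocalRing in
/-- Let A be a local ring with residue characteristic p (p = 0 or a prime), P the prime local ring ℤ_(p)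
(ℚ if p = 0) and P → A its unique local homomorphism. Then A is a Cohen ring, i.e. a Cohen P-algebra
— Noetherian and complete, flat over P, with pA its maximal ideal (and residue field separable over
the prime field) — if and only if A is a field of characteristic 0 or a complete discrete valuation
ring of residue characteristic > 0 whose maximal ideal is generated by p·1. -/
theorem result (p : ℕ) [hp : (Ideal.span {(p : ℤ)}).IsPrime]
    {A : Type} [CommRing A] [IsLocalRing A] [CharP (ResidueField A) p]
    [Algebra (Localization.AtPrime (Ideal.span {(p : ℤ)})) A]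
    [IsLocalHom (algebraMap (Localization.AtPrime (Ideal.span {(p : ℤ)})) A)] :
    EGA41.IsCohenAlgebra (Localization.AtPrime (Ideal.span {(p : ℤ)})) A ↔ EGA41.IsCohenRingEGA A := by
  exact ⟨Groth.Agent.S4539H.forward p, Groth.Agent.S4539H.backward p⟩

end Groth.Agent.S4539
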