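import Groth.Statements.S4544
import Mathlib
import Groth.Agent.Lib.helper14.FSAdicLift


set_option autoImplicit false
universe u
open EGA41

namespace H14S4544
open TensorProduct TrivSqZeroExt

theorem main {A B : Type u} [CommRing A] [CommRing B] [Algebra A B]
    (𝔞 : Ideal A) (𝔟 : Ideal B) (hAB : ∃ k : ℕ, (𝔞 ^ k).map (algebraMap A B) ≤ 𝔟)
    (h : EGA41.IsFormallySmoothAdic A 𝔞 B 𝔟) (𝔄 : Ideal B) (h𝔄 : ∃ n : ℕ, 𝔟 ^ n ≤ 𝔄) :
    Module.Projective (B ⧸ 𝔄) ((B ⧸ 𝔄) ⊗[B] Ω[B⁄A]) := by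
  classical
  obtain ⟨k0, hk0⟩ := hAB
  obtain ⟨n, hn⟩ := h𝔄
  refine Module.Projective.of_lifting_property'' fun f hf => ?_
  -- the surjection of trivial square-zero extensions
  let p : TrivSqZeroExt (B ⧸ 𝔄) ((B ⧸ 𝔄) ⊗[B] Ω[B⁄A] →₀ (B ⧸ 𝔄)) →ₐ[A]
      TrivSqZeroExt (B ⧸ 𝔄) ((B ⧸ 𝔄) ⊗[B] Ω[B⁄A]) :=
    (TrivSqZeroExt.map f).restrictScalars A
  have hpfst : ∀ x, (p x).fst = x.fst := fun x => TrivSqZeroExt.fst_map f x
  have hpsnd : ∀ x, (p x).snd = f x.snd := fun x => TrivSqZeroExt.snd_map f x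
  have hp : Function.Surjective p := by
    intro y
    obtain ⟨m, hm⟩ := hf y.snd
    refine ⟨inl y.fst + inr m, ?_⟩
    ext
    · rw [hpfst]; simp
    · rw [hpsnd]; simp [hm]
  have hker : (RingHom.ker p.toRingHom) ^ 2 = ⊥ := by
    rw [eq_bot_iff, pow_two, Ideal.mul_le]
    intro x hx y hy
    have hx1 : x.fst = 0 := by
      have : p x = 0 := hx
      rw [← hpfst, this]; rfl
    have hy1 : y.fst = 0 := by
      have : p y = 0 := hy
      rw [← hpfst, this]; rfl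
    rw [Ideal.mem_bot]
    ext
    · simp [hx1]
    · simp [hx1, hy1]
  -- the ring is discrete
  have hC : ∃ k : ℕ, (𝔞 ^ k).map
      (algebraMap A (TrivSqZeroExt (B ⧸ 𝔄) ((B ⧸ 𝔄) ⊗[B] Ω[B⁄A] →₀ (B ⧸ 𝔄)))) = ⊥ := by
    refine ⟨k0 * n, ?_⟩
    rw [eq_bot_iff, Ideal.map_le_iff_le_comap]
    intro a ha
    rw [Ideal.mem_comap, Ideal.mem_bot]
    have h1 : algebraMap A B a ∈ 𝔄 := by
      apply hn
      have h2 : algebraMap A B a ∈ ((𝔞 ^ k0) ^ n).map (algebraMap A B) := by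
        rw [← pow_mul]; exact Ideal.mem_map_of_mem _ ha
      rw [Ideal.map_pow] at h2
      exact Ideal.pow_right_mono hk0 n h2
    have h3 : algebraMap A (B ⧸ 𝔄) a = 0 := by
      rw [IsScalarTower.algebraMap_apply A B (B ⧸ 𝔄)]
      exact Ideal.Quotient.eq_zero_iff_mem.mpr h1
    rw [TrivSqZeroExt.algebraMap_eq_inl', h3, inl_zero]
  -- the map `u`
  let D0 : B →ₗ[A] (B ⧸ 𝔄) ⊗[B] Ω[B⁄A] :=
    ((TensorProduct.mk B (B ⧸ 𝔄) Ω[B⁄A] 1).restrictScalars A).comp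
      (KaehlerDifferential.D A B).toLinearMap
  have hD0 : ∀ b, D0 b = 1 ⊗ₜ KaehlerDifferential.D A B b := fun b => rfl
  have hD0mul : ∀ x y, D0 (x * y) = Ideal.Quotient.mk 𝔄 x • D0 y + Ideal.Quotient.mk 𝔄 y • D0 x := by
    intro x y
    rw [hD0, hD0, hD0, Derivation.leibniz, TensorProduct.tmul_add, TensorProduct.tmul_smul,
      TensorProduct.tmul_smul, TensorProduct.smul_tmul', TensorProduct.smul_tmul',
      TensorProduct.smul_tmul', TensorProduct.smul_tmul']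
    simp [Algebra.smul_def]
  let u : B →ₐ[A] TrivSqZeroExt (B ⧸ 𝔄) ((B ⧸ 𝔄) ⊗[B] Ω[B⁄A]) :=
    { toFun := fun b => inl (Ideal.Quotient.mk 𝔄 b) + inr (D0 b)
      map_one' := by
        have h1 : D0 1 = 0 := by rw [hD0]; simp
        ext <;> simp [h1]
      map_mul' := fun x y => by
        ext
        · simp
        · simp [hD0mul x y, add_comm]
      map_zero' := by ext <;> simp
      map_add' := fun x y => by
        ext
        · simp
        · simp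
      commutes' := fun a => by
        have h1 : D0 (algebraMap A B a) = 0 := by rw [hD0]; simp
        rw [TrivSqZeroExt.algebraMap_eq_inl']
        ext
        · simp
        · simp [h1] }
  have hu1 : ∀ b, (u b).fst = Ideal.Quotient.mk 𝔄 b := fun b => by
    change (inl (Ideal.Quotient.mk 𝔄 b) + inr (D0 b)).fst = _
    simp
  have hu2 : ∀ b, (u b).snd = D0 b := fun b => by
    change (inl (Ideal.Quotient.mk 𝔄 b) + inr (D0 b)).snd = _
    simp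
  -- `u` is continuous
  have hukill : ∀ x ∈ 𝔟 ^ (n + n), u x = 0 := by
    intro x hx
    have hx2 : x ∈ 𝔄 * 𝔄 := by
      rw [pow_add] at hx
      exact Ideal.mul_mono hn hn hx
    have hxA : x ∈ 𝔄 := Ideal.mul_le_left hx2
    have hD0x : D0 x = 0 := by
      refine Submodule.mul_induction_on hx2 (fun a ha b hb => ?_) (fun a b ha hb => ?_)
      · rw [hD0mul, Ideal.Quotient.eq_zero_iff_mem.mpr ha, Ideal.Quotient.eq_zero_iff_mem.mpr hb,
          zero_smul, zero_smul, add_zero]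
      · rw [map_add, ha, hb, add_zero]
    ext
    · rw [hu1, Ideal.Quotient.eq_zero_iff_mem.mpr hxA]; rfl
    · rw [hu2, hD0x]; rfl
  obtain ⟨v, hv⟩ := H14.FSAdic.lift_of_surjective h p hp ⟨2, hker⟩ hC u ⟨n + n, hukill⟩
  have hv' : ∀ b, p (v b) = u b := fun b => congrArg (fun φ => φ b) hv
  have hv1 : ∀ b, (v b).fst = Ideal.Quotient.mk 𝔄 b := fun b => by
    rw [← hpfst, hv', hu1]
  have hv2 : ∀ b, f (v b).snd = D0 b := fun b => by
    rw [← hpsnd, hv', hu2]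
  -- the derivation `b ↦ (v b).snd`
  let Dv : Derivation A B ((B ⧸ 𝔄) ⊗[B] Ω[B⁄A] →₀ (B ⧸ 𝔄)) :=
    Derivation.mk' ((TrivSqZeroExt.sndHom (B ⧸ 𝔄) _).restrictScalars A ∘ₗ v.toLinearMap) (by
      intro a b
      change (v (a * b)).snd = a • (v b).snd + b • (v a).snd
      rw [map_mul, TrivSqZeroExt.snd_mul, hv1, hv1]
      simp only [op_smul_eq_smul]
      rfl)
  have hDv : ∀ b, Dv b = (v b).snd := fun b => rfl
  let g0 : Ω[B⁄A] →ₗ[B] ((B ⧸ 𝔄) ⊗[B] Ω[B⁄A] →₀ (B ⧸ 𝔄)) := Dv.liftKaehlerDifferential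
  have hg0 : ∀ b, g0 (KaehlerDifferential.D A B b) = (v b).snd := fun b => by
    rw [← hDv]; exact Derivation.liftKaehlerDifferential_comp_D Dv b
  let g : (B ⧸ 𝔄) ⊗[B] Ω[B⁄A] →ₗ[B ⧸ 𝔄] ((B ⧸ 𝔄) ⊗[B] Ω[B⁄A] →₀ (B ⧸ 𝔄)) :=
    LinearMap.liftBaseChange (B ⧸ 𝔄) g0
  refine ⟨g, ?_⟩
  apply TensorProduct.AlgebraTensorModule.curry_injective
  apply LinearMap.ext_ring
  apply Derivation.liftKaehlerDifferential_unique
  ext b
  change f (g ((1 : B ⧸ 𝔄) ⊗ₜ[B] KaehlerDifferential.D A B b)) =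
    (1 : B ⧸ 𝔄) ⊗ₜ[B] KaehlerDifferential.D A B b
  have h1 : g ((1 : B ⧸ 𝔄) ⊗ₜ[B] KaehlerDifferential.D A B b) =
      (1 : B ⧸ 𝔄) • g0 (KaehlerDifferential.D A B b) :=
    LinearMap.liftBaseChange_tmul _ _ _ _
  rw [h1, one_smul, hg0, hv2, hD0]

end H14S4544

namespace Groth.Agent.S4544

open TensorProduct in
/-- Let B (𝔟-adic) be a formally smooth topological A-algebra over A (𝔞-adic), the structure map being
continuous (a power of 𝔞 maps into 𝔟); squares of open ideals of B are then open. For every open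
ideal 𝔄 of B (an ideal containing a power of 𝔟), Ω_{B/A} ⊗_B (B/𝔄) = Ω_{B/A}/𝔄Ω_{B/A} is a
projective (B/𝔄)-module. -/
theorem result {A B : Type u} [CommRing A] [CommRing B] [Algebra A B]
    (𝔞 : Ideal A) (𝔟 : Ideal B) (hAB : ∃ k : ℕ, (𝔞 ^ k).map (algebraMap A B) ≤ 𝔟)
    (h : EGA41.IsFormallySmoothAdic A 𝔞 B 𝔟) (𝔄 : Ideal B) (h𝔄 : ∃ n : ℕ, 𝔟 ^ n ≤ 𝔄) :
    Module.Projective (B ⧸ 𝔄) ((B ⧸ 𝔄) ⊗[B] Ω[B⁄A]) := by
  exact H14S4544.main 𝔞 𝔟 hAB h 𝔄 h𝔄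

end Groth.Agent.S4544
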