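import Groth.Statements.S4543
import Mathlib
import Groth.Agent.S4542


set_option autoImplicit false
universe u
open EGA41

namespace H14S4543

/-- for a surjection onto a flat module, `ker ∩ J B ⊆ J ker` -/
lemma mem_smul_ker_of_flat {A B B' : Type*} [CommRing A] [CommRing B] [CommRing B'] [Algebra A B]
    [Algebra A B'] [Module.Flat A B'] (v : B →ₐ[A] B') (hv : Function.Surjective v) (J : Ideal A)
    (x : B) (hx : v x = 0) (hxJ : x ∈ J • (⊤ : Submodule A B)) :
    x ∈ J • (LinearMap.ker v.toLinearMap : Submodule A B) := by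
  classical
  have hspan : (⊤ : Submodule A B) = Submodule.span A (Set.range (id : B → B)) := by simp
  rw [hspan, Submodule.mem_ideal_smul_span_iff_exists_sum] at hxJ
  obtain ⟨a, ha, rfl⟩ := hxJ
  let ι := ↥a.support
  let f : ι → A := fun i => a i.1
  let xB : ι → B := fun i => i.1
  have hsum : (a.sum fun i c => c • id i) = ∑ i : ι, f i • xB i := by
    rw [Finsupp.sum, ← Finset.sum_coe_sort]
    rfl
  rw [hsum] at hx ⊢
  have hrel : ∑ i : ι, f i • v (xB i) = 0 := by
    rw [← hx, map_sum]
    exact Finset.sum_congr rfl (fun i _ => (map_smul v _ _).symm)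
  obtain ⟨k, c, z, hz1, hz2⟩ := Module.Flat.isTrivialRelation_of_sum_smul_eq_zero (R := A) (M := B') (f := f)
    (x := fun i => v (xB i)) hrel
  choose w hw using (fun j => hv (z j))
  let n : ι → B := fun i => xB i - ∑ j, c i j • w j
  have hn : ∀ i, n i ∈ LinearMap.ker v.toLinearMap := by
    intro i
    rw [LinearMap.mem_ker]
    change v (xB i - ∑ j, c i j • w j) = 0
    have hz1' : v (xB i) = ∑ j, c i j • z j := hz1 i
    rw [map_sub, hz1', map_sum, sub_eq_zero]
    exact Finset.sum_congr rfl (fun j _ => by rw [map_smul, hw])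
  have hdecomp : ∑ i : ι, f i • xB i = ∑ i : ι, f i • n i := by
    have h1 : ∀ i, f i • xB i = f i • n i + ∑ j, (f i * c i j) • w j := by
      intro i
      change _ = f i • (xB i - ∑ j, c i j • w j) + _
      rw [smul_sub, Finset.smul_sum]
      simp only [mul_smul]
      abel
    rw [Finset.sum_congr rfl (fun i _ => h1 i), Finset.sum_add_distrib, Finset.sum_comm]
    have h2 : ∀ j, ∑ i : ι, (f i * c i j) • w j = 0 := by
      intro j
      rw [← Finset.sum_smul, hz2 j, zero_smul]
    rw [Finset.sum_congr rfl (fun j _ => h2 j), Finset.sum_const_zero, add_zero]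
  rw [hdecomp]
  exact Submodule.sum_mem _ (fun i _ => Submodule.smul_mem_smul (ha _) (hn i))

end H14S4543

namespace H14S4543
open IsLocalRing

theorem main {A B B' : Type u} [CommRing A] [IsNoetherianRing A] (J : Ideal A)
    [CommRing B] [IsLocalRing B] [IsNoetherianRing B] [Algebra A B]
    [CommRing B'] [IsLocalRing B'] [IsNoetherianRing B'] [Algebra A B']
    (hB : J.map (algebraMap A B) ≤ maximalIdeal B)
    [IsAdicComplete (J.map (algebraMap A B)) B] [IsAdicComplete (J.map (algebraMap A B')) B']
    (hfs : EGA41.IsFormallySmoothAdic A J B (J.map (algebraMap A B))) [Module.Flat A B']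
    (u₀ : (B ⧸ J.map (algebraMap A B)) ≃ₐ[A ⧸ J] (B' ⧸ J.map (algebraMap A B'))) :
    ∃ u : B ≃ₐ[A] B', ∀ b : B,
      Ideal.Quotient.mk (J.map (algebraMap A B')) (u b) =
        u₀ (Ideal.Quotient.mk (J.map (algebraMap A B)) b) := by
  classical
  let JB : Ideal B := J.map (algebraMap A B)
  let JB' : Ideal B' := J.map (algebraMap A B')
  let u1 : B →ₐ[A] B' ⧸ JB' :=
    ((u₀.restrictScalars A : (B ⧸ JB) ≃ₐ[A] (B' ⧸ JB')) : (B ⧸ JB) →ₐ[A] (B' ⧸ JB')).comp
      (Ideal.Quotient.mkₐ A JB)
  have hu1 : ∀ b, u1 b = u₀ (Ideal.Quotient.mk JB b) := fun b => rfl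
  haveI : IsHausdorff (JB'.map (Ideal.Quotient.mk JB')) (B' ⧸ JB') := by
    rw [Ideal.map_quotient_self]
    infer_instance
  have hu1kill : ∃ k : ℕ, (JB ^ k).map u1.toRingHom ≤ JB'.map (Ideal.Quotient.mk JB') := by
    refine ⟨1, ?_⟩
    rw [pow_one, Ideal.map_le_iff_le_comap]
    intro x hx
    rw [Ideal.mem_comap]
    change u1 x ∈ _
    rw [hu1, Ideal.Quotient.eq_zero_iff_mem.mpr hx, map_zero]
    exact Ideal.zero_mem _
  obtain ⟨v, -, hv⟩ := Groth.Agent.S4542.result J JB JB' hfs ⟨1, by rw [pow_one]⟩ JB'
    ⟨1, by rw [pow_one]⟩ u1 hu1kill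
  have hv' : ∀ b, Ideal.Quotient.mk JB' (v b) = u₀ (Ideal.Quotient.mk JB b) := by
    intro b
    have := congrArg (fun φ => φ b) hv
    simp only [AlgHom.comp_apply, Ideal.Quotient.mkₐ_eq_mk] at this
    rw [this, hu1]
  have hmapv : JB.map v.toRingHom = JB' := by
    change (J.map (algebraMap A B)).map v.toRingHom = J.map (algebraMap A B')
    rw [Ideal.map_map]
    congr 1
    exact v.comp_algebraMap
  -- surjectivity
  have hsurj : Function.Surjective v := by
    haveI : IsHausdorff (JB.map v.toRingHom) B' := by
      rw [hmapv]; infer_instance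
    apply surjective_of_mk_map_comp_surjective (I := JB) v.toRingHom
    intro y
    obtain ⟨b', rfl⟩ := Ideal.Quotient.mk_surjective y
    obtain ⟨x, hx⟩ := u₀.surjective (Ideal.Quotient.mk JB' b')
    obtain ⟨b, rfl⟩ := Ideal.Quotient.mk_surjective x
    refine ⟨b, ?_⟩
    rw [← hv' b, Ideal.Quotient.eq] at hx
    simp only [RingHom.comp_apply]
    rw [Ideal.Quotient.eq, hmapv]
    exact hx
  -- injectivity
  have hker_le : ∀ x, v x = 0 → x ∈ JB := by
    intro x hx
    have h1 : u₀ (Ideal.Quotient.mk JB x) = 0 := by rw [← hv', hx, map_zero]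
    have h2 : Ideal.Quotient.mk JB x = 0 := by
      rwa [map_eq_zero_iff u₀ u₀.injective] at h1
    exact Ideal.Quotient.eq_zero_iff_mem.mp h2
  have hinj : Function.Injective v := by
    rw [injective_iff_map_eq_zero]
    let N : Ideal B := RingHom.ker v.toRingHom
    have hN : N ≤ JB * N := by
      intro x hx
      have hx0 : v x = 0 := hx
      have hxJ : x ∈ J • (⊤ : Submodule A B) := by
        rw [Ideal.smul_top_eq_map]
        exact hker_le x hx0
      have h1 := mem_smul_ker_of_flat v hsurj J x hx0 hxJ
      refine Submodule.smul_induction_on h1 ?_ ?_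
      · intro a ha n hn
        rw [Algebra.smul_def]
        have hn' : n ∈ N := by
          rw [LinearMap.mem_ker] at hn
          exact hn
        exact Ideal.mul_mem_mul (Ideal.mem_map_of_mem _ ha) hn'
      · intro y z hy hz
        exact add_mem hy hz
    have hbot : N = ⊥ := Submodule.eq_bot_of_le_smul_of_le_jacobson_bot JB N
      (IsNoetherian.noetherian N) hN (hB.trans (maximalIdeal_le_jacobson _))
    intro x hx
    have : x ∈ N := hx
    rw [hbot] at this
    simpa using this
  refine ⟨AlgEquiv.ofBijective v ⟨hinj, hsurj⟩, fun b => ?_⟩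
  exact hv' b

end H14S4543

namespace Groth.Agent.S4543

open IsLocalRing in
/-- Let A be a Noetherian ring, J an ideal of A, B and B' two A-algebras which are Noetherian local
rings, the structure maps being continuous for the J-adic topology on A (JB and JB' lie in the
maximal ideals); suppose B and B' are complete for the J-adic topologies, B is a formally smooth
A-algebra for the J-adic topology on A and the JB-adic topology on B (nilpotent test ideals, test
algebras killed by a power of J, test maps killing a power of JB), and B' is a flat A-module. Then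
every (A/J)-algebra isomorphism u₀ : B/JB ≅ B'/JB' comes from an A-algebra isomorphism u : B ≅ B' by
passing to quotients. (B is taken formally smooth for the JB-adic topology, the topology along which
the argument lifts B → B'/JB' to B'; read with the convention that a local ring carries the adic
topology of its maximal ideal, the published hypothesis would be formal smoothness for the
maximal-ideal topology on B, a weaker condition when JB is strictly smaller than the maximal ideal,
and that reading is not what the argument establishes.) -/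
theorem result {A B B' : Type u} [CommRing A] [IsNoetherianRing A] (J : Ideal A)
    [CommRing B] [IsLocalRing B] [IsNoetherianRing B] [Algebra A B]
    [CommRing B'] [IsLocalRing B'] [IsNoetherianRing B'] [Algebra A B']
    (hB : J.map (algebraMap A B) ≤ maximalIdeal B) (hB' : J.map (algebraMap A B') ≤ maximalIdeal B')
    [IsAdicComplete (J.map (algebraMap A B)) B] [IsAdicComplete (J.map (algebraMap A B')) B']
    (hfs : EGA41.IsFormallySmoothAdic A J B (J.map (algebraMap A B))) [Module.Flat A B']
    (u₀ : (B ⧸ J.map (algebraMap A B)) ≃ₐ[A ⧸ J] (B' ⧸ J.map (algebraMap A B'))) :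
    ∃ u : B ≃ₐ[A] B', ∀ b : B,
      Ideal.Quotient.mk (J.map (algebraMap A B')) (u b) = u₀ (Ideal.Quotient.mk (J.map (algebraMap A B)) b) := by
  exact H14S4543.main J hB hfs u₀

end Groth.Agent.S4543
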