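import Groth.Statements.S4547
import Mathlib
-- import your own Groth.Agent.* helpers here

set_option autoImplicit false
universe u
open EGA41

namespace Groth.Agent.S4547

namespace H5S4547
open TensorProduct IsLocalRing

section
variable {A : Type u} [CommRing A] [IsLocalRing A] {M N : Type u}
    [AddCommGroup M] [Module A M] [Module.Finite A M] [AddCommGroup N] [Module A N]
    [Module.Projective A N] (u : M →ₗ[A] N)

theorem core (m : ℕ) (x : Fin m → M) (hx : Submodule.span A (Set.range x) = ⊤)
    (hli : LinearIndependent (ResidueField A) (fun i => (1 : ResidueField A) ⊗ₜ[A] u (x i))) :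
    (∃ w : N →ₗ[A] M, w ∘ₗ u = LinearMap.id) ∧ ∃ b : Module.Basis (Fin m) A M, ∀ i, b i = x i := by
  classical
  obtain ⟨gk, hgk⟩ := LinearMap.exists_leftInverse_of_injective
    (Fintype.linearCombination (ResidueField A) (fun i => (1 : ResidueField A) ⊗ₜ[A] u (x i)))
    (LinearMap.ker_eq_bot.mpr hli.fintypeLinearCombination_injective)
  have hgk' : ∀ j, gk ((1 : ResidueField A) ⊗ₜ[A] u (x j)) = Pi.single j 1 := by
    intro j
    have := congrArg (fun f => f (Pi.single j 1)) hgk
    simpa [Fintype.linearCombination_apply_single] using this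
  -- lift
  let f : (Fin m → A) →ₗ[A] (Fin m → ResidueField A) :=
    (Algebra.linearMap A (ResidueField A)).compLeft (Fin m)
  have hf : Function.Surjective f := by
    intro y
    choose a ha using fun i => IsLocalRing.residue_surjective (y i)
    exact ⟨a, funext ha⟩
  obtain ⟨ψ, hψ⟩ := Module.projective_lifting_property f
    ((gk.restrictScalars A) ∘ₗ (TensorProduct.mk A (ResidueField A) N 1)) hf
  have hψ' : ∀ n i, residue A (ψ n i) = gk ((1 : ResidueField A) ⊗ₜ[A] n) i := by
    intro n i
    have := congrArg (fun g => g n i) hψ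
    simpa [f] using this
  let X : (Fin m → A) →ₗ[A] M := Fintype.linearCombination A x
  have hXsurj : Function.Surjective X := by
    rw [← LinearMap.range_eq_top, Fintype.range_linearCombination, hx]
  let T : (Fin m → A) →ₗ[A] (Fin m → A) := ψ ∘ₗ u ∘ₗ X
  have hTmat : (LinearMap.toMatrix' T).map (residue A) = 1 := by
    ext i j
    rw [Matrix.map_apply, LinearMap.toMatrix'_apply]
    change residue A (ψ (u (X (Pi.single j 1))) i) = _
    rw [show X (Pi.single j 1) = x j by simp [X, Fintype.linearCombination_apply_single], hψ', hgk']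
    simp [Matrix.one_apply, Pi.single_apply, eq_comm]
  have hdet : IsUnit (LinearMap.det T) := by
    rw [← LinearMap.det_toMatrix']
    have h1 : residue A (LinearMap.toMatrix' T).det = 1 := by
      rw [RingHom.map_det, RingHom.mapMatrix_apply, hTmat, Matrix.det_one]
    by_contra hnu
    have : (LinearMap.toMatrix' T).det ∈ maximalIdeal A := (IsLocalRing.mem_maximalIdeal _).mpr hnu
    rw [← IsLocalRing.residue_eq_zero_iff] at this
    rw [this] at h1
    exact zero_ne_one h1
  have hTunit : IsUnit T := (LinearMap.isUnit_iff_isUnit_det T).mpr hdet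
  have hTbij : Function.Bijective T := (Module.End.isUnit_iff T).mp hTunit
  have hXinj : Function.Injective X := by
    intro a b hab
    apply hTbij.1
    change ψ (u (X a)) = ψ (u (X b))
    rw [hab]
  refine ⟨?_, ?_⟩
  · obtain ⟨Tinv, hTinv⟩ := hTunit
    refine ⟨X ∘ₗ (↑(Tinv⁻¹) : Module.End A (Fin m → A)) ∘ₗ ψ, ?_⟩
    ext y
    obtain ⟨z, rfl⟩ := hXsurj y
    simp only [LinearMap.comp_apply, LinearMap.id_apply]
    have h2 : ψ (u (X z)) = (Tinv : Module.End A (Fin m → A)) z := by rw [hTinv]; rfl
    rw [h2]
    have h3 : (↑(Tinv⁻¹) : Module.End A (Fin m → A)) ((Tinv : Module.End A (Fin m → A)) z) = z := by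
      rw [← Module.End.mul_apply, Units.inv_mul, Module.End.one_apply]
    rw [h3]
  · have hli' : LinearIndependent A x :=
      linearIndependent_iff_injective_fintypeLinearCombination.mpr hXinj
    exact ⟨Module.Basis.mk hli' hx.ge, fun i => Module.Basis.mk_apply _ _ i⟩

theorem main :
    ((∃ w : N →ₗ[A] M, w ∘ₗ u = LinearMap.id) ↔
      ∃ (m : ℕ) (x : Fin m → M), Submodule.span A (Set.range x) = ⊤ ∧
        LinearIndependent (ResidueField A) (fun i => (1 : ResidueField A) ⊗ₜ[A] u (x i))) ∧
    ∀ (m : ℕ) (x : Fin m → M), Submodule.span A (Set.range x) = ⊤ →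
      LinearIndependent (ResidueField A) (fun i => (1 : ResidueField A) ⊗ₜ[A] u (x i)) →
        ∃ b : Module.Basis (Fin m) A M, ∀ i, b i = x i := by
  refine ⟨⟨?_, ?_⟩, fun m x hx hli => (core u m x hx hli).2⟩
  · rintro ⟨w, hw⟩
    haveI : Module.Projective A M := Module.Projective.of_split u w hw
    haveI : Module.Free A M := Module.free_of_flat_of_isLocalRing
    let b := Module.finBasis A M
    refine ⟨_, b, b.span_eq, ?_⟩
    have h1 : LinearMap.ker (u.baseChange (ResidueField A)) = ⊥ := by
      rw [LinearMap.ker_eq_bot]
      apply Function.LeftInverse.injective (g := w.baseChange (ResidueField A))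
      intro z
      rw [← LinearMap.comp_apply, ← LinearMap.baseChange_comp, hw, LinearMap.baseChange_id,
        LinearMap.id_apply]
    have h2 := (b.baseChange (ResidueField A)).linearIndependent.map' (u.baseChange (ResidueField A)) h1
    have heq : (fun i => (1 : ResidueField A) ⊗ₜ[A] u (b i)) =
        (u.baseChange (ResidueField A)) ∘ (b.baseChange (ResidueField A)) := by
      funext i
      simp [Module.Basis.baseChange_apply]
    rw [heq]
    exact h2
  · rintro ⟨m, x, hx, hli⟩
    exact (core u m x hx hli).1

end
end H5S4547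

open IsLocalRing TensorProduct in
/-- Let A be a local ring with residue field k, M an A-module of finite type, N a projective A-module
and u : M → N a homomorphism. Then u is left invertible if and only if there is a finite system of
generators (x_i) of M such that the elements 1 ⊗ u(x_i) of k ⊗_A N are linearly independent over k;
and such a system (x_i) is then a basis of M. -/
theorem result {A : Type u} [CommRing A] [IsLocalRing A] {M N : Type u}
    [AddCommGroup M] [Module A M] [Module.Finite A M] [AddCommGroup N] [Module A N] [Module.Projective A N]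
    (u : M →ₗ[A] N) :
    ((∃ w : N →ₗ[A] M, w ∘ₗ u = LinearMap.id) ↔
      ∃ (m : ℕ) (x : Fin m → M), Submodule.span A (Set.range x) = ⊤ ∧
        LinearIndependent (ResidueField A) (fun i => (1 : ResidueField A) ⊗ₜ[A] u (x i))) ∧
    ∀ (m : ℕ) (x : Fin m → M), Submodule.span A (Set.range x) = ⊤ →
      LinearIndependent (ResidueField A) (fun i => (1 : ResidueField A) ⊗ₜ[A] u (x i)) →
        ∃ b : Module.Basis (Fin m) A M, ∀ i, b i = x i := by
  exact H5S4547.main u

end Groth.Agent.S4547
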