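import Groth.Statements.S4550
import Mathlib

set_option autoImplicit false
universe u
open EGA41

namespace Groth.Agent.S4550

section aux

open MvPowerSeries

variable {k : Type u} [Field k] {r : ℕ}

/-- power series with coefficients in a subfield, as a subring -/
def coeffSubring (E : Subfield k) : Subring (MvPowerSeries (Fin r) k) where
  carrier := {f | ∀ n, MvPowerSeries.coeff n f ∈ E}
  mul_mem' := by
    intro a b ha hb n
    classical
    rw [MvPowerSeries.coeff_mul]
    exact Subfield.sum_mem _ fun x _ => E.mul_mem (ha _) (hb _)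
  one_mem' := by
    intro n
    classical
    rw [MvPowerSeries.coeff_one]
    split_ifs
    · exact E.one_mem
    · exact E.zero_mem
  add_mem' := by
    intro a b ha hb n
    rw [map_add]
    exact E.add_mem (ha n) (hb n)
  zero_mem' := by
    intro n
    rw [map_zero]
    exact E.zero_mem
  neg_mem' := by
    intro a ha n
    rw [map_neg]
    exact E.neg_mem (ha n)

lemma mem_coeffSubring {E : Subfield k} {f : MvPowerSeries (Fin r) k} :
    f ∈ coeffSubring (r := r) E ↔ ∀ n, MvPowerSeries.coeff n f ∈ E := Iff.rfl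

lemma coeffSubring_mono {E E' : Subfield k} (h : E ≤ E') :
    coeffSubring (r := r) E ≤ coeffSubring E' := fun _ hf n => h (hf n)

/-- the subfield of fractions generated by power series with coefficients in `E` -/
lemma mem_closure_iff' (E : Subfield k) (x : FractionRing (MvPowerSeries (Fin r) k)) :
    x ∈ Subfield.closure (algebraMap (MvPowerSeries (Fin r) k)
        (FractionRing (MvPowerSeries (Fin r) k)) '' {f | ∀ n, MvPowerSeries.coeff n f ∈ E}) ↔
      ∃ a ∈ coeffSubring (r := r) E, ∃ b ∈ coeffSubring (r := r) E,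
        algebraMap (MvPowerSeries (Fin r) k) (FractionRing (MvPowerSeries (Fin r) k)) a /
          algebraMap (MvPowerSeries (Fin r) k) (FractionRing (MvPowerSeries (Fin r) k)) b = x := by
  have hS : ({f | ∀ n, MvPowerSeries.coeff n f ∈ E} : Set (MvPowerSeries (Fin r) k))
      = (coeffSubring (r := r) E : Set (MvPowerSeries (Fin r) k)) := rfl
  rw [Subfield.mem_closure_iff, hS, ← RingHom.map_closure, Subring.closure_eq]
  constructor
  · rintro ⟨y, ⟨a, ha, rfl⟩, z, ⟨b, hb, rfl⟩, rfl⟩
    exact ⟨a, ha, b, hb, rfl⟩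
  · rintro ⟨a, ha, b, hb, rfl⟩
    exact ⟨_, ⟨a, ha, rfl⟩, _, ⟨b, hb, rfl⟩, rfl⟩

/-- Frobenius: `g ^ (p ^ e)` has coefficients that are `p ^ e`-th powers -/
lemma pow_mem_coeffSubring (E : Subfield k) (e : ℕ)
    (hq : ∀ x : k, x ^ ringExpChar k ^ e ∈ E) (g : MvPowerSeries (Fin r) k) :
    g ^ ringExpChar k ^ e ∈ coeffSubring (r := r) E := by
  intro n
  have hp : ringExpChar k ≠ 0 := expChar_ne_zero k (ringExpChar k)
  rw [← MvPowerSeries.map_iterateFrobenius_expand (ringExpChar k) hp g e, MvPowerSeries.coeff_map,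
    iterateFrobenius_def]
  exact hq _

/-- descent: a power series lying in the fraction field of `E⟦X⟧` has coefficients in `E` -/
lemma mem_coeffSubring_of_mul (E : Subfield k) (y a b : MvPowerSeries (Fin r) k)
    (ha : a ∈ coeffSubring (r := r) E) (hb : b ∈ coeffSubring (r := r) E) (hb0 : b ≠ 0)
    (h : y * b = a) : y ∈ coeffSubring (r := r) E := by
  classical
  intro m₀
  by_contra hc
  set c := MvPowerSeries.coeff m₀ y with hcdef
  let P : Submodule E k := Submodule.span E {(1 : k)}
  have hcP : c ∉ P := by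
    intro hmem
    obtain ⟨s, hs⟩ := Submodule.mem_span_singleton.mp hmem
    apply hc
    have h1 : (s • (1 : k)) = (s : k) := by
      rw [Algebra.smul_def, mul_one]; rfl
    rw [← hs, h1]
    exact s.2
  obtain ⟨f, hfc, hfP⟩ := Submodule.exists_dual_map_eq_bot_of_notMem hcP inferInstance
  have hf1 : f 1 = 0 := by
    have : f 1 ∈ P.map f := ⟨1, Submodule.subset_span rfl, rfl⟩
    rw [hfP] at this
    exact (Submodule.mem_bot E).mp this
  have hfE : ∀ (s : k) (hs : s ∈ E) (x : k), ((f (s * x) : E) : k) = s * ((f x : E) : k) := by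
    intro s hs x
    have : s * x = (⟨s, hs⟩ : E) • x := by
      rw [Algebra.smul_def]; rfl
    rw [this, map_smul, smul_eq_mul, Subfield.coe_mul]
  let Λ : MvPowerSeries (Fin r) k → MvPowerSeries (Fin r) k :=
    fun g => fun m => ((f (MvPowerSeries.coeff m g) : E) : k)
  have hΛc : ∀ g m, MvPowerSeries.coeff m (Λ g) = ((f (MvPowerSeries.coeff m g) : E) : k) :=
    fun g m => rfl
  have hΛmul : Λ (y * b) = Λ y * b := by
    ext m
    rw [hΛc, MvPowerSeries.coeff_mul, MvPowerSeries.coeff_mul, map_sum,
      AddSubmonoidClass.coe_finset_sum]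
    apply Finset.sum_congr rfl
    intro x _
    rw [hΛc, mul_comm, hfE _ (hb x.2), mul_comm]
  have hΛa : Λ a = 0 := by
    ext m
    rw [hΛc, map_zero]
    have := hfE _ (ha m) 1
    rw [mul_one, hf1] at this
    rw [this]
    simp
  rw [h, hΛa] at hΛmul
  have hΛy : Λ y = 0 := by
    rcases mul_eq_zero.mp hΛmul.symm with h0 | h0
    · exact h0
    · exact absurd h0 hb0
  have := congrArg (MvPowerSeries.coeff m₀) hΛy
  rw [hΛc, map_zero] at this
  apply hfc
  exact_mod_cast this

end aux


/-- Let k be a field, (k_α) a decreasing filtered family of subfields of k with intersection k₀, and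
suppose there is a power q of the characteristic exponent of k with k^q ⊆ k₀. Then, inside k((T_1,
…, T_r)), one has ⋂_α k_α((T_1, …, T_r)) = k₀((T_1, …, T_r)); here F((T)) is the subfield of the
fraction field of k[[T]] generated by the power series with all coefficients in F. -/
theorem result {k : Type u} [Field k] {ι : Type u} [Nonempty ι] (F : ι → Subfield k)
    (hdir : ∀ a b : ι, ∃ c, F c ≤ F a ⊓ F b) (e : ℕ) (hq : ∀ x : k, x ^ ringExpChar k ^ e ∈ ⨅ i, F i) (r : ℕ) :
    (⨅ i, Subfield.closure (algebraMap (MvPowerSeries (Fin r) k) (FractionRing (MvPowerSeries (Fin r) k)) ''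
        {f | ∀ n, MvPowerSeries.coeff n f ∈ F i})) =
      Subfield.closure (algebraMap (MvPowerSeries (Fin r) k) (FractionRing (MvPowerSeries (Fin r) k)) ''
        {f | ∀ n, MvPowerSeries.coeff n f ∈ ⨅ i, F i}) := by
  set A := MvPowerSeries (Fin r) k with hA
  set φ := algebraMap A (FractionRing A) with hφ
  have hφinj : Function.Injective φ := IsFractionRing.injective A (FractionRing A)
  apply le_antisymm
  · intro x hx
    rw [Subfield.mem_iInf] at hx
    obtain ⟨i₀⟩ := ‹Nonempty ι›
    obtain ⟨f, hf, g, hg, hfg⟩ := (mem_closure_iff' (F i₀) x).mp (hx i₀)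
    by_cases hg0 : g = 0
    · rw [hg0, map_zero, div_zero] at hfg
      rw [← hfg]
      exact Subfield.zero_mem _
    set q := ringExpChar k ^ e with hqdef
    have hq1 : 1 ≤ q := Nat.one_le_pow _ _ (Nat.pos_of_ne_zero (expChar_ne_zero k (ringExpChar k)))
    set b := g ^ q with hb
    have hbk : b ∈ coeffSubring (r := r) (⨅ i, F i) := pow_mem_coeffSubring _ e hq g
    have hb0 : b ≠ 0 := pow_ne_zero _ hg0
    set y := f * g ^ (q - 1) with hy
    have hxy : x = φ y / φ b := by
      have hφg : φ g ≠ 0 := by
        intro h0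
        exact hg0 (hφinj (by rw [h0, map_zero]))
      rw [← hfg, hy, hb, map_mul, map_pow, map_pow]
      have : φ g ^ q = φ g * φ g ^ (q - 1) := by rw [← pow_succ', Nat.sub_add_cancel hq1]
      rw [this, mul_div_mul_right _ _ (pow_ne_zero _ hφg)]
    have hyk : y ∈ coeffSubring (r := r) (⨅ i, F i) := by
      intro n
      rw [Subfield.mem_iInf]
      intro i
      have hbi : b ∈ coeffSubring (r := r) (F i) := coeffSubring_mono (iInf_le F i) hbk
      have hyi : φ y ∈ Subfield.closure (φ '' {f | ∀ n, MvPowerSeries.coeff n f ∈ F i}) := by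
        have h1 : φ y = x * φ b := by
          rw [hxy]
          have hφb : φ b ≠ 0 := by
            intro h0
            exact hb0 (hφinj (by rw [h0, map_zero]))
          rw [div_mul_cancel₀ _ hφb]
        rw [h1]
        exact Subfield.mul_mem _ (hx i) (Subfield.subset_closure ⟨b, hbi, rfl⟩)
      obtain ⟨a', ha', b', hb', hab⟩ := (mem_closure_iff' (F i) (φ y)).mp hyi
      by_cases hb'0 : b' = 0
      · rw [hb'0, map_zero, div_zero] at hab
        have : y = 0 := hφinj (by rw [← hab, map_zero])
        rw [this, map_zero]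
        exact Subfield.zero_mem _
      · have hφb' : φ b' ≠ 0 := by
          intro h0
          exact hb'0 (hφinj (by rw [h0, map_zero]))
        have hmul : y * b' = a' := by
          apply hφinj
          rw [map_mul, ← hab, div_mul_cancel₀ _ hφb']
        exact mem_coeffSubring_of_mul (F i) y a' b' ha' hb' hb'0 hmul n
    rw [hxy]
    exact Subfield.div_mem _ (Subfield.subset_closure ⟨y, hyk, rfl⟩)
      (Subfield.subset_closure ⟨b, hbk, rfl⟩)
  · apply le_iInf
    intro i
    apply Subfield.closure_mono
    apply Set.image_mono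
    intro f hf n
    exact (iInf_le F i) (hf n)

end Groth.Agent.S4550
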