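import Groth.Statements.S4552
import Mathlib

set_option autoImplicit false
universe u
open EGA41

namespace Groth.Agent.S4552

/-- For the 𝔞-adic topology on A and the deduced topology on M: the topological A-module M is formally
projective (for every open ideal 𝔞ⁿ, every pair of (A/𝔞ⁿ)-modules P, Q, every surjection P → Q and
every continuous A-linear map M → Q — here automatically continuous — there is a continuous A-linear
lift M → P) if and only if it is strictly formally projective, i.e. M/𝔞ⁿM is a projective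
(A/𝔞ⁿ)-module for every n. -/
theorem result {A : Type u} [CommRing A] (𝔞 : Ideal A) (M : Type u)
    [AddCommGroup M] [Module A M] :
    (∀ (n : ℕ) (P Q : Type u) [AddCommGroup P] [Module A P] [AddCommGroup Q] [Module A Q],
      (∀ a ∈ 𝔞 ^ n, ∀ y : P, a • y = 0) → (∀ a ∈ 𝔞 ^ n, ∀ y : Q, a • y = 0) →
      ∀ f : P →ₗ[A] Q, Function.Surjective f → ∀ v : M →ₗ[A] Q, ∃ w : M →ₗ[A] P, f ∘ₗ w = v) ↔
    ∀ n : ℕ, Module.Projective (A ⧸ 𝔞 ^ n) (M ⧸ (𝔞 ^ n • ⊤ : Submodule A M)) := by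
  have hsurj : ∀ n : ℕ, Function.Surjective (algebraMap A (A ⧸ 𝔞 ^ n)) :=
    fun n => Ideal.Quotient.mk_surjective
  constructor
  · intro H n
    refine Module.Projective.of_lifting_property'' fun f hf => ?_
    -- the free module, as an `A`-module killed by `𝔞 ^ n`
    have hP : ∀ a ∈ 𝔞 ^ n, ∀ y : ((M ⧸ (𝔞 ^ n • ⊤ : Submodule A M)) →₀ (A ⧸ 𝔞 ^ n)), a • y = 0 := by
      intro a ha y
      rw [← algebraMap_smul (A ⧸ 𝔞 ^ n) a y, Ideal.Quotient.algebraMap_eq,
        Ideal.Quotient.eq_zero_iff_mem.mpr ha, zero_smul]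
    have hQ : ∀ a ∈ 𝔞 ^ n, ∀ y : (M ⧸ (𝔞 ^ n • ⊤ : Submodule A M)), a • y = 0 := by
      intro a ha y
      obtain ⟨m, rfl⟩ := Submodule.Quotient.mk_surjective _ y
      rw [← Submodule.Quotient.mk_smul, Submodule.Quotient.mk_eq_zero]
      exact Submodule.smul_mem_smul ha trivial
    obtain ⟨w, hw⟩ := H n _ _ hP hQ (f.restrictScalars A) hf (𝔞 ^ n • ⊤ : Submodule A M).mkQ
    have hker : (𝔞 ^ n • ⊤ : Submodule A M) ≤ LinearMap.ker w := by
      rw [Submodule.smul_le]
      intro a ha m _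
      rw [LinearMap.mem_ker, map_smul]
      exact hP a ha _
    let wbar : (M ⧸ (𝔞 ^ n • ⊤ : Submodule A M)) →ₗ[A]
        ((M ⧸ (𝔞 ^ n • ⊤ : Submodule A M)) →₀ (A ⧸ 𝔞 ^ n)) :=
      (𝔞 ^ n • ⊤ : Submodule A M).liftQ w hker
    refine ⟨wbar.extendScalarsOfSurjective (hsurj n), ?_⟩
    ext y
    obtain ⟨m, rfl⟩ := Submodule.Quotient.mk_surjective _ y
    have := LinearMap.congr_fun hw m
    simpa [wbar] using this
  · intro H n P Q _ _ _ _ hP hQ f hf v
    have hP' : Module.IsTorsionBySet A P (𝔞 ^ n : Ideal A) := by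
      intro y a
      exact hP a.1 a.2 y
    have hQ' : Module.IsTorsionBySet A Q (𝔞 ^ n : Ideal A) := by
      intro y a
      exact hQ a.1 a.2 y
    let _ : Module (A ⧸ 𝔞 ^ n) P := hP'.module
    let _ : Module (A ⧸ 𝔞 ^ n) Q := hQ'.module
    have hproj := H n
    have hker : (𝔞 ^ n • ⊤ : Submodule A M) ≤ LinearMap.ker v := by
      rw [Submodule.smul_le]
      intro a ha m _
      rw [LinearMap.mem_ker, map_smul]
      exact hQ a ha _
    let vbar : (M ⧸ (𝔞 ^ n • ⊤ : Submodule A M)) →ₗ[A] Q :=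
      (𝔞 ^ n • ⊤ : Submodule A M).liftQ v hker
    obtain ⟨h, hh⟩ := Module.projective_lifting_property
      (f.extendScalarsOfSurjective (hsurj n)) (vbar.extendScalarsOfSurjective (hsurj n)) hf
    refine ⟨(h.restrictScalars A) ∘ₗ (𝔞 ^ n • ⊤ : Submodule A M).mkQ, ?_⟩
    ext m
    have := LinearMap.congr_fun hh (Submodule.Quotient.mk m)
    simpa [vbar] using this

end Groth.Agent.S4552
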