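import Groth.Statements.S4553
import Mathlib
import Groth.Agent.Lib.helper14.FSProj


set_option autoImplicit false
universe u
open EGA41

namespace H14S4553

theorem to_quotient {A B : Type u} [CommRing A] [CommRing B] [Algebra A B]
    (𝔞 : Ideal A) (𝔟 : Ideal B) (h : EGA41.IsFormallySmoothAdic A 𝔞 B 𝔟) :
    EGA41.IsFormallySmoothAdic (A ⧸ 𝔞) ⊥ (B ⧸ 𝔞.map (algebraMap A B))
        (𝔟.map (Ideal.Quotient.mk (𝔞.map (algebraMap A B)))) := by
  classical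
  intro D _ _ J hJ _ u hu
  obtain ⟨l, hl⟩ := hu
  letI : Algebra A D := Algebra.compHom D (algebraMap A (A ⧸ 𝔞))
  haveI : IsScalarTower A (A ⧸ 𝔞) D := IsScalarTower.of_algebraMap_eq (fun r => rfl)
  haveI : IsScalarTower A (A ⧸ 𝔞) (D ⧸ J) := IsScalarTower.of_algebraMap_eq (fun r => rfl)
  have hDA : ∃ k : ℕ, (𝔞 ^ k).map (algebraMap A D) = ⊥ := by
    refine ⟨1, ?_⟩
    rw [eq_bot_iff, Ideal.map_le_iff_le_comap, pow_one]
    intro a ha
    rw [Ideal.mem_comap, Ideal.mem_bot, IsScalarTower.algebraMap_apply A (A ⧸ 𝔞) D]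
    have : algebraMap A (A ⧸ 𝔞) a = 0 := Ideal.Quotient.eq_zero_iff_mem.mpr ha
    rw [this, map_zero]
  let π : B →ₐ[A] (B ⧸ 𝔞.map (algebraMap A B)) := Ideal.Quotient.mkₐ A _
  let u0 : B →ₐ[A] D ⧸ J := (u.restrictScalars A).comp π
  have hu0 : ∀ x ∈ 𝔟 ^ l, u0 x = 0 := by
    intro x hx
    apply hl
    have h1 : π x ∈ (𝔟 ^ l).map (Ideal.Quotient.mk (𝔞.map (algebraMap A B))) :=
      Ideal.mem_map_of_mem _ hx
    exact (Ideal.map_pow (Ideal.Quotient.mk (𝔞.map (algebraMap A B))) 𝔟 l).le h1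
  obtain ⟨w, hw⟩ := h D J hJ hDA u0 ⟨l, hu0⟩
  have hwkill : ∀ x ∈ 𝔞.map (algebraMap A B), w x = 0 := by
    intro x hx
    have hle : 𝔞.map (algebraMap A B) ≤ RingHom.ker w.toRingHom := by
      rw [Ideal.map_le_iff_le_comap]
      intro a ha
      rw [Ideal.mem_comap, RingHom.mem_ker]
      change w (algebraMap A B a) = 0
      rw [w.commutes, IsScalarTower.algebraMap_apply A (A ⧸ 𝔞) D]
      have : algebraMap A (A ⧸ 𝔞) a = 0 := Ideal.Quotient.eq_zero_iff_mem.mpr ha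
      rw [this, map_zero]
    exact hle hx
  let v0 : (B ⧸ 𝔞.map (algebraMap A B)) →+* D := Ideal.Quotient.lift _ w.toRingHom hwkill
  have hv0 : ∀ b : B, v0 (Ideal.Quotient.mk _ b) = w b := fun b => rfl
  let v : (B ⧸ 𝔞.map (algebraMap A B)) →ₐ[A ⧸ 𝔞] D :=
    { v0 with
      commutes' := by
        intro r
        obtain ⟨a, rfl⟩ := Ideal.Quotient.mk_surjective r
        change v0 (Ideal.Quotient.mk _ (algebraMap A B a)) = _
        rw [hv0, w.commutes]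
        rfl }
  refine ⟨v, ?_⟩
  ext x
  obtain ⟨b, rfl⟩ := Ideal.Quotient.mk_surjective x
  have := congrArg (fun φ => φ b) hw
  simp only [AlgHom.comp_apply, Ideal.Quotient.mkₐ_eq_mk] at this
  simp only [AlgHom.comp_apply, Ideal.Quotient.mkₐ_eq_mk]
  change Ideal.Quotient.mk J (v0 (Ideal.Quotient.mk _ b)) = _
  rw [hv0, this]
  rfl

end H14S4553

namespace Groth.Agent.S4553

/-- Let A be 𝔞-adic (a preadmissible ring with ideal of definition 𝔞), B a topological A-algebra for the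
𝔟-adic topology (a power of 𝔞 maps into 𝔟) which is a formally projective topological A-module, and
put A₀ = A/𝔞, B₀ = B/𝔞B with the quotient topologies (A₀ discrete). Then B is a formally smooth
A-algebra if and only if B₀ is a formally smooth A₀-algebra. -/
theorem result {A B : Type u} [CommRing A] [CommRing B] [Algebra A B]
    (𝔞 : Ideal A) (𝔟 : Ideal B) (hAB : ∃ k : ℕ, (𝔞 ^ k).map (algebraMap A B) ≤ 𝔟)
    (hproj : ∀ (n : ℕ) (P Q : Type u) [AddCommGroup P] [Module A P] [AddCommGroup Q] [Module A Q],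
      (∀ a ∈ 𝔞 ^ n, ∀ y : P, a • y = 0) → (∀ a ∈ 𝔞 ^ n, ∀ y : Q, a • y = 0) →
      ∀ f : P →ₗ[A] Q, Function.Surjective f → ∀ v : B →ₗ[A] Q, (∃ m : ℕ, ∀ x ∈ 𝔟 ^ m, v x = 0) →
        ∃ w : B →ₗ[A] P, (∃ m : ℕ, ∀ x ∈ 𝔟 ^ m, w x = 0) ∧ f ∘ₗ w = v) :
    EGA41.IsFormallySmoothAdic A 𝔞 B 𝔟 ↔
      EGA41.IsFormallySmoothAdic (A ⧸ 𝔞) ⊥ (B ⧸ 𝔞.map (algebraMap A B))
        (𝔟.map (Ideal.Quotient.mk (𝔞.map (algebraMap A B)))) := by
  exact ⟨H14S4553.to_quotient 𝔞 𝔟, H14.FSProj.of_quotient 𝔞 𝔟 hproj⟩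

end Groth.Agent.S4553
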