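import Groth.Statements.S4556
import Mathlib

set_option autoImplicit false
universe u
open EGA41

namespace Groth.Agent.S4556

/-- Let B be a formally smooth A-algebra, E and E' two A-algebras, R (resp. R') a nilpotent ideal of E
(resp. E'), f : E → E' a surjective A-algebra homomorphism with f(R) = R', and f' : E/R → E'/R' the
induced homomorphism. Let u : B → E/R be an A-algebra homomorphism and v' : B → E' an A-algebra
homomorphism through which f' ∘ u factors (v' followed by E' → E'/R' equals f' ∘ u). Then there is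
an A-algebra homomorphism v : B → E with f ∘ v = v'. (The published statement assumes only f(R) ⊆
R'; in that form it fails for B = ℚ[x, x⁻¹], E = ℚ[t], E' = ℚ[t]/(t²), R = 0, R' = (t), u : x ↦ 1
and v' : x ↦ 1 + t, since any v sends x to a unit of ℚ[t], a constant; the argument identifies R'
with the image of R, and that equality is assumed here.) -/
theorem result {A B E E' : Type u} [CommRing A] [CommRing B] [Algebra A B]
    [Algebra.FormallySmooth A B] [CommRing E] [CommRing E'] [Algebra A E] [Algebra A E']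
    (R : Ideal E) (R' : Ideal E') (hR : IsNilpotent R) (hR' : IsNilpotent R')
    (f : E →ₐ[A] E') (hf : Function.Surjective f) (hfR : R.map f.toRingHom = R')
    (u : B →ₐ[A] E ⧸ R) (v' : B →ₐ[A] E')
    (huv : (Ideal.Quotient.mkₐ A R').comp v' =
      (Ideal.quotientMapₐ R' f (fun x hx => hfR.le (Ideal.mem_map_of_mem f.toRingHom hx))).comp u) :
    ∃ v : B →ₐ[A] E, f.comp v = v' := by
  classical
  let f' := Ideal.quotientMapₐ R' f (fun x hx => hfR.le (Ideal.mem_map_of_mem f.toRingHom hx))
  let φ₁ : (E' × (E ⧸ R)) →ₐ[A] (E' ⧸ R') :=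
    (Ideal.Quotient.mkₐ A R').comp (AlgHom.fst A E' (E ⧸ R))
  let φ₂ : (E' × (E ⧸ R)) →ₐ[A] (E' ⧸ R') := f'.comp (AlgHom.snd A E' (E ⧸ R))
  let P := AlgHom.equalizer φ₁ φ₂
  have hgmem : ∀ e : E, (AlgHom.prod f (Ideal.Quotient.mkₐ A R)) e ∈ P := by
    intro e
    rw [AlgHom.mem_equalizer]
    simp [φ₁, φ₂, f']
  let g : E →ₐ[A] P := AlgHom.codRestrict (AlgHom.prod f (Ideal.Quotient.mkₐ A R)) P hgmem
  have hwmem : ∀ b : B, (AlgHom.prod v' u) b ∈ P := by
    intro b
    rw [AlgHom.mem_equalizer]
    have := AlgHom.congr_fun huv b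
    simpa [φ₁, φ₂, f'] using this
  let w : B →ₐ[A] P := AlgHom.codRestrict (AlgHom.prod v' u) P hwmem
  have hg : Function.Surjective g := by
    rintro ⟨⟨e', ebar⟩, hmem⟩
    obtain ⟨e, rfl⟩ := Ideal.Quotient.mk_surjective ebar
    rw [AlgHom.mem_equalizer] at hmem
    have h1 : Ideal.Quotient.mk R' e' = Ideal.Quotient.mk R' (f e) := by
      simpa [φ₁, φ₂, f'] using hmem
    have h2 : f e - e' ∈ R' := by
      rw [← Ideal.Quotient.eq]; exact h1.symm
    rw [← hfR] at h2
    have h3 : f e - e' ∈ Ideal.map f R := h2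
    rw [Ideal.mem_map_iff_of_surjective f hf] at h3
    obtain ⟨r, hr, hre⟩ := h3
    refine ⟨e - r, ?_⟩
    apply Subtype.ext
    apply Prod.ext
    · change f (e - r) = e'
      rw [map_sub, hre]; ring
    · change Ideal.Quotient.mk R (e - r) = Ideal.Quotient.mk R e
      rw [Ideal.Quotient.eq]; simpa using R.neg_mem hr
  have hker : IsNilpotent (RingHom.ker (g : E →+* P)) := by
    obtain ⟨n, hn⟩ := hR
    refine ⟨n, ?_⟩
    rw [Ideal.zero_eq_bot, ← le_bot_iff, ← Ideal.zero_eq_bot, ← hn]
    apply Ideal.pow_right_mono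
    intro x hx
    rw [RingHom.mem_ker] at hx
    have h2 : (g x : E' × (E ⧸ R)).2 = 0 := by
      have := congrArg (fun y : P => (y : E' × (E ⧸ R)).2) hx
      simpa using this
    have h3 : Ideal.Quotient.mk R x = 0 := h2
    exact Ideal.Quotient.eq_zero_iff_mem.mp h3
  refine ⟨Algebra.FormallySmooth.liftOfSurjective w g hg hker, ?_⟩
  ext b
  have := Algebra.FormallySmooth.liftOfSurjective_apply w g hg hker b
  exact congrArg (fun y : P => (y : E' × (E ⧸ R)).1) this

end Groth.Agent.S4556
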