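import Groth.Statements.S4559
import Mathlib

set_option autoImplicit false
universe u
open EGA41

namespace Groth.Agent.S4559

namespace S4559aux

open KaehlerDifferential TensorProduct

/-- if `B/K` is formally unramified over `A`, `K ≤ I`, and `dx ∈ IΩ` for `x ∈ K`,
then `Ω[B/A] = I • Ω[B/A]`. -/
theorem smul_top_eq_top {A B : Type u} [CommRing A] [CommRing B] [Algebra A B] (K I : Ideal B)
    (hKI : K ≤ I)
    (h : Subsingleton (Ω[B ⧸ K⁄A]))
    (hd : ∀ x ∈ K, D A B x ∈ I • (⊤ : Submodule B (Ω[B⁄A]))) :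
    I • (⊤ : Submodule B (Ω[B⁄A])) = ⊤ := by
  have hsurj : Function.Surjective (algebraMap B (B ⧸ K)) := Ideal.Quotient.mk_surjective
  rw [eq_top_iff]
  intro ω _
  have hy : mapBaseChange A B (B ⧸ K) ((1 : B ⧸ K) ⊗ₜ[B] ω) = 0 := Subsingleton.elim _ _
  obtain ⟨c, hc⟩ := (exact_kerCotangentToTensor_mapBaseChange A B (B ⧸ K) hsurj _).1 hy
  obtain ⟨x, rfl⟩ := Ideal.toCotangent_surjective _ c
  rw [kerCotangentToTensor_toCotangent] at hc
  have hx : x.1 ∈ K := Ideal.Quotient.eq_zero_iff_mem.1 (RingHom.mem_ker.1 x.2)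
  have h0 : (1 : B ⧸ K) ⊗ₜ[B] (ω - D A B x.1) = 0 := by
    rw [tmul_sub, hc, sub_self]
  have h3 := congrArg (TensorProduct.quotTensorEquivQuotSMul (Ω[B⁄A]) K) h0
  have h4 : ω - D A B x.1 ∈ K • (⊤ : Submodule B (Ω[B⁄A])) := by
    rw [← Submodule.Quotient.mk_eq_zero]
    exact ((TensorProduct.quotTensorEquivQuotSMul_mk_one_tmul _ _).symm.trans h3).trans (map_zero _)
  have h5 : ω - D A B x.1 ∈ I • (⊤ : Submodule B (Ω[B⁄A])) :=
    Submodule.smul_mono_left hKI h4
  have := Submodule.add_mem _ h5 (hd x.1 hx)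
  rwa [sub_add_cancel] at this

theorem pow_smul_top_eq_top {B M : Type*} [CommRing B] [AddCommGroup M] [Module B M] (I : Ideal B)
    (h : I • (⊤ : Submodule B M) = ⊤) (k : ℕ) : I ^ k • (⊤ : Submodule B M) = ⊤ := by
  induction k with
  | zero => rw [pow_zero, Ideal.one_eq_top, Submodule.top_smul]
  | succ k ih => rw [pow_succ, mul_smul, h, ih]

theorem subsingleton_adicCompletion_iff {B M : Type*} [CommRing B] [AddCommGroup M] [Module B M]
    (I : Ideal B) : Subsingleton (AdicCompletion I M) ↔ I • (⊤ : Submodule B M) = ⊤ := by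
  constructor
  · intro h
    rw [eq_top_iff]
    intro m _
    have h1 : AdicCompletion.eval I M 1 (AdicCompletion.of I M m) = 0 := by
      rw [Subsingleton.elim (AdicCompletion.of I M m) 0, map_zero]
    rw [AdicCompletion.eval_of, Submodule.mkQ_apply, Submodule.Quotient.mk_eq_zero, pow_one] at h1
    exact h1
  · intro h
    refine ⟨fun x y => AdicCompletion.ext fun n => ?_⟩
    haveI : Subsingleton (M ⧸ (I ^ n • ⊤ : Submodule B M)) := by
      rw [Submodule.Quotient.subsingleton_iff]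
      exact pow_smul_top_eq_top I h n
    exact Subsingleton.elim _ _

/-- if `Ω[B/A] = I^m • Ω[B/A]` then `B/I^m` is formally unramified over `A`. -/
theorem formallyUnramified_quotient {A B : Type u} [CommRing A] [CommRing B] [Algebra A B]
    (K : Ideal B) (htop : K • (⊤ : Submodule B (Ω[B⁄A])) = ⊤) :
    Algebra.FormallyUnramified A (B ⧸ K) := by
  refine ⟨⟨fun y z => ?_⟩⟩
  suffices h : ∀ y : Ω[B ⧸ K⁄A], y = 0 by rw [h y, h z]
  intro y
  obtain ⟨ω, rfl⟩ := KaehlerDifferential.map_surjective_of_surjective A A B (B ⧸ K)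
    Ideal.Quotient.mk_surjective y
  have hω : ω ∈ K • (⊤ : Submodule B (Ω[B⁄A])) := by rw [htop]; trivial
  refine Submodule.smul_induction_on hω (fun c hc n _ => ?_) (fun a b ha hb => ?_)
  · rw [map_smul, ← IsScalarTower.algebraMap_smul (B ⧸ K) c, Ideal.Quotient.algebraMap_eq,
      Ideal.Quotient.eq_zero_iff_mem.2 hc, zero_smul]
  · rw [map_add, ha, hb, add_zero]

end S4559aux

/-- Let A be 𝔞-adic and B a topological A-algebra for the 𝔟-adic topology (a power of 𝔞 maps into 𝔟).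
Then B is a formally unramified A-algebra (for every homomorphism E → C of discrete A-algebras with
nilpotent kernel and every continuous u : B → C there is at most one continuous lift B → E; here E
discrete means killed by a power of 𝔞, and one may take C = E/J) if and only if the separated
completion of Ω_{B/A}, i.e. its 𝔟-adic completion, is zero. -/
theorem result {A B : Type u} [CommRing A] [CommRing B] [Algebra A B]
    (𝔞 : Ideal A) (𝔟 : Ideal B) (hAB : ∃ k : ℕ, (𝔞 ^ k).map (algebraMap A B) ≤ 𝔟) :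
    (∀ (E : Type u) [CommRing E] [Algebra A E], (∃ k : ℕ, (𝔞 ^ k).map (algebraMap A E) = ⊥) →
      ∀ J : Ideal E, IsNilpotent J → ∀ v₁ v₂ : B →ₐ[A] E,
        (∃ m : ℕ, ∀ x ∈ 𝔟 ^ m, v₁ x = 0) → (∃ m : ℕ, ∀ x ∈ 𝔟 ^ m, v₂ x = 0) →
        (∀ b : B, Ideal.Quotient.mk J (v₁ b) = Ideal.Quotient.mk J (v₂ b)) → v₁ = v₂) ↔
    Subsingleton (AdicCompletion 𝔟 (Ω[B⁄A])) := by
  rw [S4559aux.subsingleton_adicCompletion_iff]
  constructor
  · intro H
    obtain ⟨k, hk⟩ := hAB
    -- `B/𝔟²` is formally unramified over `A`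
    have hfu : Algebra.FormallyUnramified A (B ⧸ 𝔟 ^ 2) := by
      rw [Algebra.FormallyUnramified.iff_comp_injective]
      intro E _ _ I hI f₁ f₂ hf
      let v₁ : B →ₐ[A] E := f₁.comp (Ideal.Quotient.mkₐ A _)
      let v₂ : B →ₐ[A] E := f₂.comp (Ideal.Quotient.mkₐ A _)
      have hkill : ∀ f : (B ⧸ 𝔟 ^ 2) →ₐ[A] E, ∀ x ∈ 𝔟 ^ 2, f.comp (Ideal.Quotient.mkₐ A _) x = 0 := by
        intro f x hx
        rw [AlgHom.comp_apply, Ideal.Quotient.mkₐ_eq_mk, Ideal.Quotient.eq_zero_iff_mem.2 hx, map_zero]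
      have hE : ∃ k : ℕ, (𝔞 ^ k).map (algebraMap A E) = ⊥ := by
        refine ⟨k * 2, ?_⟩
        rw [eq_bot_iff, Ideal.map_le_iff_le_comap]
        intro a ha
        rw [Ideal.mem_comap, Ideal.mem_bot]
        have h1 : algebraMap A B a ∈ 𝔟 ^ 2 := by
          have : algebraMap A B a ∈ ((𝔞 ^ k) ^ 2).map (algebraMap A B) :=
            Ideal.mem_map_of_mem _ (by rwa [← pow_mul])
          rw [Ideal.map_pow] at this
          exact Ideal.pow_right_mono hk 2 this
        have := hkill f₁ _ h1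
        rwa [AlgHom.commutes] at this
      have hv := H E hE I ⟨2, hI⟩ v₁ v₂ ⟨2, hkill f₁⟩ ⟨2, hkill f₂⟩ (fun b => by
        have := AlgHom.congr_fun hf (Ideal.Quotient.mk _ b)
        exact this)
      ext x
      obtain ⟨b, rfl⟩ := Ideal.Quotient.mk_surjective x
      exact AlgHom.congr_fun hv b
    apply S4559aux.smul_top_eq_top (𝔟 ^ 2) 𝔟 (Ideal.pow_le_self two_ne_zero)
      hfu.subsingleton_kaehlerDifferential
    intro x hx
    rw [pow_two] at hx
    refine Submodule.mul_induction_on hx (fun y hy z hz => ?_) (fun y z hy hz => ?_)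
    · rw [Derivation.leibniz]
      exact Submodule.add_mem _ (Submodule.smul_mem_smul hy trivial)
        (Submodule.smul_mem_smul hz trivial)
    · rw [map_add]
      exact Submodule.add_mem _ hy hz
  · intro htop E _ _ hk J hJ v₁ v₂ hv₁ hv₂ hv
    obtain ⟨m₁, hm₁⟩ := hv₁
    obtain ⟨m₂, hm₂⟩ := hv₂
    set m := max m₁ m₂ with hm
    have hkill₁ : ∀ x ∈ 𝔟 ^ m, v₁ x = 0 := fun x hx =>
      hm₁ x (Ideal.pow_le_pow_right (le_max_left _ _) hx)
    have hkill₂ : ∀ x ∈ 𝔟 ^ m, v₂ x = 0 := fun x hx =>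
      hm₂ x (Ideal.pow_le_pow_right (le_max_right _ _) hx)
    haveI h3 : Algebra.FormallyUnramified A (B ⧸ 𝔟 ^ m) :=
      S4559aux.formallyUnramified_quotient _ (S4559aux.pow_smul_top_eq_top 𝔟 htop m)
    let w₁ : (B ⧸ 𝔟 ^ m) →ₐ[A] E := Ideal.Quotient.liftₐ (𝔟 ^ m) v₁ hkill₁
    let w₂ : (B ⧸ 𝔟 ^ m) →ₐ[A] E := Ideal.Quotient.liftₐ (𝔟 ^ m) v₂ hkill₂
    have hw : w₁ = w₂ := by
      apply Algebra.FormallyUnramified.lift_unique J hJ
      ext x
      obtain ⟨b, rfl⟩ := Ideal.Quotient.mk_surjective x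
      exact hv b
    ext b
    exact AlgHom.congr_fun hw (Ideal.Quotient.mk _ b)

end Groth.Agent.S4559
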