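import Groth.Statements.S4560
import Mathlib

set_option autoImplicit false
universe u
open EGA41

namespace Groth.Agent.S4560

namespace S4560aux

open KaehlerDifferential TensorProduct

/-- if `B/𝔪B` is formally unramified over `A` then `Ω[B/A] = 𝔪B • Ω[B/A]`. -/
theorem smul_top_eq_top {A B : Type u} [CommRing A] [CommRing B] [Algebra A B] (𝔪 : Ideal A)
    (h : Subsingleton (Ω[B ⧸ 𝔪.map (algebraMap A B)⁄A])) :
    (𝔪.map (algebraMap A B)) • (⊤ : Submodule B (Ω[B⁄A])) = ⊤ := by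
  set I := 𝔪.map (algebraMap A B) with hI
  have hsurj : Function.Surjective (algebraMap B (B ⧸ I)) := Ideal.Quotient.mk_surjective
  have hker : RingHom.ker (algebraMap B (B ⧸ I)) = I := Ideal.mk_ker
  -- `1 ⊗ dx = 0` for `x ∈ I`
  have h1 : ∀ x ∈ I, x ∈ I ∧ (1 : B ⧸ I) ⊗ₜ[B] D A B x = 0 := by
    intro x hx
    induction hx using Submodule.span_induction with
    | mem y hy =>
      obtain ⟨a, ha, rfl⟩ := hy
      exact ⟨Ideal.mem_map_of_mem _ ha, by rw [Derivation.map_algebraMap, tmul_zero]⟩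
    | zero => exact ⟨I.zero_mem, by rw [map_zero, tmul_zero]⟩
    | add y z _ _ hy hz => exact ⟨I.add_mem hy.1 hz.1, by rw [map_add, tmul_add, hy.2, hz.2, add_zero]⟩
    | smul b y _ hy =>
      refine ⟨I.mul_mem_left b hy.1, ?_⟩
      rw [smul_eq_mul, Derivation.leibniz, tmul_add, tmul_smul, hy.2, smul_zero, zero_add,
        ← smul_tmul, Algebra.smul_def, mul_one, Ideal.Quotient.algebraMap_eq,
        Ideal.Quotient.eq_zero_iff_mem.2 hy.1, zero_tmul]
  have h2 : ∀ y : (B ⧸ I) ⊗[B] Ω[B⁄A], y = 0 := by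
    intro y
    have hy : mapBaseChange A B (B ⧸ I) y = 0 := Subsingleton.elim _ _
    obtain ⟨c, rfl⟩ := (exact_kerCotangentToTensor_mapBaseChange A B (B ⧸ I) hsurj y).1 hy
    obtain ⟨x, rfl⟩ := Ideal.toCotangent_surjective _ c
    rw [kerCotangentToTensor_toCotangent]
    have hx : x.1 ∈ I := Ideal.Quotient.eq_zero_iff_mem.1 (RingHom.mem_ker.1 x.2)
    exact (h1 x.1 hx).2
  rw [eq_top_iff]
  intro ω _
  have := h2 ((1 : B ⧸ I) ⊗ₜ[B] ω)
  have h3 := congrArg (TensorProduct.quotTensorEquivQuotSMul (Ω[B⁄A]) I) this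
  rw [← Submodule.Quotient.mk_eq_zero]
  exact ((TensorProduct.quotTensorEquivQuotSMul_mk_one_tmul _ _).symm.trans h3).trans (map_zero _)

theorem pow_smul_top_eq_top {B M : Type*} [CommRing B] [AddCommGroup M] [Module B M] (I : Ideal B)
    (h : I • (⊤ : Submodule B M) = ⊤) (k : ℕ) : I ^ k • (⊤ : Submodule B M) = ⊤ := by
  induction k with
  | zero => rw [pow_zero, Ideal.one_eq_top, Submodule.top_smul]
  | succ k ih => rw [pow_succ, mul_smul, h, ih]

end S4560aux

/-- Let A be a ring, 𝔪 an ideal of A, B an A-algebra; give A the 𝔪-adic topology and B the topology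
deduced from it (the 𝔪B-adic topology), and put A₀ = A/𝔪, B₀ = B/𝔪B. Then B is a formally unramified
A-algebra (for these topologies: E discrete means killed by a power of 𝔪, and continuity of maps B →
E is then automatic) if and only if Ω_{B₀/A₀} = 0, i.e. B₀ is a formally unramified A₀-algebra. -/
theorem result {A B : Type u} [CommRing A] [CommRing B] [Algebra A B] (𝔪 : Ideal A) :
    (∀ (E : Type u) [CommRing E] [Algebra A E], (∃ k : ℕ, (𝔪 ^ k).map (algebraMap A E) = ⊥) →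
      ∀ J : Ideal E, IsNilpotent J → ∀ v₁ v₂ : B →ₐ[A] E,
        (∀ b : B, Ideal.Quotient.mk J (v₁ b) = Ideal.Quotient.mk J (v₂ b)) → v₁ = v₂) ↔
    Subsingleton (Ω[B ⧸ 𝔪.map (algebraMap A B)⁄A ⧸ 𝔪]) := by
  constructor
  · intro H
    -- formally unramified via the lifting criterion
    suffices hfu : Algebra.FormallyUnramified (A ⧸ 𝔪) (B ⧸ 𝔪.map (algebraMap A B)) from
      hfu.subsingleton_kaehlerDifferential
    rw [Algebra.FormallyUnramified.iff_comp_injective]
    intro E _ _ I hI f₁ f₂ hf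
    letI : Algebra A E := ((algebraMap (A ⧸ 𝔪) E).comp (Ideal.Quotient.mk 𝔪)).toAlgebra
    haveI : IsScalarTower A (A ⧸ 𝔪) E := IsScalarTower.of_algebraMap_eq (fun _ => rfl)
    let v₁ : B →ₐ[A] E := (f₁.restrictScalars A).comp (Ideal.Quotient.mkₐ A _)
    let v₂ : B →ₐ[A] E := (f₂.restrictScalars A).comp (Ideal.Quotient.mkₐ A _)
    have hk : ∃ k : ℕ, (𝔪 ^ k).map (algebraMap A E) = ⊥ := by
      refine ⟨1, ?_⟩
      rw [pow_one, eq_bot_iff, Ideal.map_le_iff_le_comap]
      intro a ha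
      rw [Ideal.mem_comap, Ideal.mem_bot]
      change algebraMap (A ⧸ 𝔪) E (Ideal.Quotient.mk 𝔪 a) = 0
      rw [Ideal.Quotient.eq_zero_iff_mem.2 ha, map_zero]
    have hv := H E hk I ⟨2, hI⟩ v₁ v₂ (fun b => by
      have := AlgHom.congr_fun hf (Ideal.Quotient.mk _ b)
      exact this)
    ext x
    obtain ⟨b, rfl⟩ := Ideal.Quotient.mk_surjective x
    exact AlgHom.congr_fun hv b
  · intro hΩ E _ _ hk J hJ v₁ v₂ hv
    obtain ⟨k, hk⟩ := hk
    set I := 𝔪.map (algebraMap A B) with hI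
    -- `B/𝔪B` is formally unramified over `A`
    haveI h0 : Algebra.FormallyUnramified (A ⧸ 𝔪) (B ⧸ I) := ⟨hΩ⟩
    haveI h1 : Algebra.FormallyUnramified A (A ⧸ 𝔪) :=
      Algebra.FormallyUnramified.of_surjective (Algebra.ofId A (A ⧸ 𝔪)) Ideal.Quotient.mk_surjective
    haveI h2 : Algebra.FormallyUnramified A (B ⧸ I) := Algebra.FormallyUnramified.comp A (A ⧸ 𝔪) _
    have htop := S4560aux.pow_smul_top_eq_top I
      (S4560aux.smul_top_eq_top 𝔪 h2.subsingleton_kaehlerDifferential) k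
    -- `B/I^k` is formally unramified over `A`
    haveI h3 : Algebra.FormallyUnramified A (B ⧸ I ^ k) := by
      refine ⟨⟨fun y z => ?_⟩⟩
      suffices h : ∀ y : Ω[B ⧸ I ^ k⁄A], y = 0 by rw [h y, h z]
      intro y
      obtain ⟨ω, rfl⟩ := KaehlerDifferential.map_surjective_of_surjective A A B (B ⧸ I ^ k)
        Ideal.Quotient.mk_surjective y
      have hω : ω ∈ I ^ k • (⊤ : Submodule B (Ω[B⁄A])) := by rw [htop]; trivial
      refine Submodule.smul_induction_on hω (fun c hc n _ => ?_) (fun a b ha hb => ?_)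
      · rw [map_smul, ← IsScalarTower.algebraMap_smul (B ⧸ I ^ k) c, Ideal.Quotient.algebraMap_eq,
          Ideal.Quotient.eq_zero_iff_mem.2 hc, zero_smul]
      · rw [map_add, ha, hb, add_zero]
    -- the maps factor through `B/I^k`
    have hkill : ∀ (v : B →ₐ[A] E) (x : B), x ∈ I ^ k → v x = 0 := by
      intro v x hx
      have h4 : I ^ k = (𝔪 ^ k).map (algebraMap A B) := by rw [hI, Ideal.map_pow]
      rw [h4] at hx
      have h5 : v x ∈ ((𝔪 ^ k).map (algebraMap A B)).map v.toRingHom := Ideal.mem_map_of_mem _ hx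
      rw [Ideal.map_map, AlgHom.toRingHom_eq_coe, AlgHom.comp_algebraMap, hk] at h5
      exact h5
    let w₁ : (B ⧸ I ^ k) →ₐ[A] E := Ideal.Quotient.liftₐ (I ^ k) v₁ (hkill v₁)
    let w₂ : (B ⧸ I ^ k) →ₐ[A] E := Ideal.Quotient.liftₐ (I ^ k) v₂ (hkill v₂)
    have hw : w₁ = w₂ := by
      apply Algebra.FormallyUnramified.lift_unique J hJ
      ext x
      obtain ⟨b, rfl⟩ := Ideal.Quotient.mk_surjective x
      exact hv b
    ext b
    exact AlgHom.congr_fun hw (Ideal.Quotient.mk _ b)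

end Groth.Agent.S4560
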