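import Groth.Statements.S4561
import Mathlib

set_option autoImplicit false
universe u
open EGA41

namespace Groth.Agent.S4561

section aux

variable (p : ℕ) [Fact p.Prime] {k₀ K₀ : Type u} [Field k₀] [Field K₀] [Algebra k₀ K₀] [CharP k₀ p]

/-- the subfield of `p`-th powers -/
abbrev powField (K : Type u) [Field K] : Subfield K :=
  Subfield.closure (Set.range fun y : K => y ^ p)

omit [Fact p.Prime] in
lemma pow_mem_powField (K : Type u) [Field K] (y : K) : y ^ p ∈ powField p K :=
  Subfield.subset_closure ⟨y, rfl⟩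

omit [Fact p.Prime] [CharP k₀ p] in
lemma algebraMap_mem_powField (a : k₀) (ha : a ∈ powField p k₀) :
    algebraMap k₀ K₀ a ∈ powField p K₀ := by
  have h1 : (powField p k₀).map (algebraMap k₀ K₀) ≤ powField p K₀ := by
    rw [RingHom.map_field_closure]
    apply Subfield.closure_mono
    rintro _ ⟨_, ⟨y, rfl⟩, rfl⟩
    exact ⟨algebraMap k₀ K₀ y, by simp⟩
  exact h1 ⟨a, ha, rfl⟩

/-- the `K₀^p`-span of the images of a finite generating set of `k₀` over `k₀^p` contains
the subfield generated by `k₀` and `K₀^p` -/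
lemma mem_span_of_mem_closure (s : Finset k₀)
    (hs : Submodule.span (powField p k₀) (s : Set k₀) = ⊤) (c : K₀)
    (hc : c ∈ Subfield.closure (Set.range (algebraMap k₀ K₀) ∪ Set.range fun y : K₀ => y ^ p)) :
    c ∈ Submodule.span (powField p K₀) ((algebraMap k₀ K₀) '' (s : Set k₀)) := by
  classical
  set E := powField p K₀ with hE
  set W : Submodule E K₀ := Submodule.span E ((algebraMap k₀ K₀) '' (s : Set k₀)) with hW
  -- images of `k₀` lie in `W`
  have hk : ∀ x : k₀, algebraMap k₀ K₀ x ∈ W := by
    intro x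
    have hx : x ∈ Submodule.span (powField p k₀) ((id : k₀ → k₀) '' (s : Set k₀)) := by
      rw [Set.image_id, hs]; exact Submodule.mem_top
    obtain ⟨g, hg⟩ := (Submodule.mem_span_image_finset_iff_exists_fun' _).mp hx
    rw [← hg, map_sum]
    apply Submodule.sum_mem
    intro b hb
    have : algebraMap k₀ K₀ (g b • id b) =
        (⟨algebraMap k₀ K₀ (g b : k₀), algebraMap_mem_powField p _ (g b).2⟩ : E) •
          algebraMap k₀ K₀ b := by
      rw [Algebra.smul_def, Algebra.smul_def, map_mul]
      rfl
    rw [this]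
    exact Submodule.smul_mem _ _ (Submodule.subset_span ⟨b, hb, rfl⟩)
  have h1 : (1 : K₀) ∈ W := by
    have := hk 1
    rwa [map_one] at this
  have hmul : ∀ x y : K₀, x ∈ W → y ∈ W → x * y ∈ W := by
    intro x y hx hy
    have h := Submodule.mul_mem_mul hx hy
    rw [hW, Submodule.span_mul_span] at h
    refine Submodule.span_le.mpr ?_ h
    rintro _ ⟨_, ⟨a, _, rfl⟩, _, ⟨b, _, rfl⟩, rfl⟩
    show algebraMap k₀ K₀ a * algebraMap k₀ K₀ b ∈ W
    rw [← map_mul]
    exact hk _
  let Wa : Subalgebra E K₀ := Submodule.toSubalgebra W h1 hmul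
  have halg : ∀ x : K₀, IsAlgebraic E x := by
    intro x
    refine ⟨Polynomial.X ^ p - Polynomial.C (⟨x ^ p, pow_mem_powField p K₀ x⟩ : E), ?_, ?_⟩
    · exact Polynomial.X_pow_sub_C_ne_zero (Fact.out : p.Prime).pos _
    · rw [map_sub, map_pow, Polynomial.aeval_X, Polynomial.aeval_C]
      exact sub_self _
  let Wf : Subfield K₀ :=
    { Wa.toSubring with
      inv_mem' := fun x hx => Wa.inv_mem_of_algebraic (x := ⟨x, hx⟩) (halg x) }
  have hle : Subfield.closure (Set.range (algebraMap k₀ K₀) ∪ Set.range fun y : K₀ => y ^ p) ≤ Wf := by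
    rw [Subfield.closure_le]
    rintro x (⟨a, rfl⟩ | ⟨y, rfl⟩)
    · exact hk a
    · show y ^ p ∈ W
      have : y ^ p = (⟨y ^ p, pow_mem_powField p K₀ y⟩ : E) • (1 : K₀) := by
        rw [Algebra.smul_def, mul_one]
        rfl
      rw [this]
      exact Submodule.smul_mem _ _ h1
  exact hle hc

end aux

/-- Let k₀ be a field of characteristic p > 0 with [k₀ : k₀^p] < ∞ and K₀ an extension of k₀. Inside
K₀((T_1, …, T_r)) one has (k₀(K₀^p))((T_1, …, T_r)) = k₀(K₀^p((T_1, …, T_r))); here, for a subfield
F of K₀, F((T)) denotes the subfield of the fraction field of K₀[[T]] generated by the power series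
with all coefficients in F. -/
theorem result (p : ℕ) [Fact p.Prime] {k₀ K₀ : Type u} [Field k₀] [Field K₀] [Algebra k₀ K₀] [CharP k₀ p]
    (hfin : Module.Finite (Subfield.closure (Set.range fun x : k₀ => x ^ p)) k₀) (r : ℕ) :
    Subfield.closure (algebraMap (MvPowerSeries (Fin r) K₀) (FractionRing (MvPowerSeries (Fin r) K₀)) ''
        {f | ∀ n, MvPowerSeries.coeff n f ∈
          Subfield.closure (Set.range (algebraMap k₀ K₀) ∪ Set.range fun y : K₀ => y ^ p)}) =
      Subfield.closure
        (Set.range (algebraMap k₀ (FractionRing (MvPowerSeries (Fin r) K₀))) ∪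
          (Subfield.closure (algebraMap (MvPowerSeries (Fin r) K₀) (FractionRing (MvPowerSeries (Fin r) K₀)) ''
            {f | ∀ n, MvPowerSeries.coeff n f ∈ Subfield.closure (Set.range fun y : K₀ => y ^ p)}) :
            Set (FractionRing (MvPowerSeries (Fin r) K₀)))) := by
  classical
  have hcompat : ∀ b : k₀, algebraMap k₀ (FractionRing (MvPowerSeries (Fin r) K₀)) b =
      algebraMap (MvPowerSeries (Fin r) K₀) (FractionRing (MvPowerSeries (Fin r) K₀))
        (MvPowerSeries.C (algebraMap k₀ K₀ b)) := by
    intro b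
    rw [IsScalarTower.algebraMap_apply k₀ (MvPowerSeries (Fin r) K₀)
      (FractionRing (MvPowerSeries (Fin r) K₀)), MvPowerSeries.algebraMap_apply]
  obtain ⟨s, hs⟩ := Module.finite_def.mp hfin
  apply le_antisymm
  · rw [Subfield.closure_le]
    rintro _ ⟨f, hf, rfl⟩
    have hdec : ∀ n, ∃ g : k₀ → powField p K₀,
        ∑ b ∈ s, g b • algebraMap k₀ K₀ b = MvPowerSeries.coeff n f := by
      intro n
      exact (Submodule.mem_span_image_finset_iff_exists_fun' _).mp
        (mem_span_of_mem_closure p s hs _ (hf n))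
    choose g hg using hdec
    let fb : k₀ → MvPowerSeries (Fin r) K₀ := fun b n => ((g n b : powField p K₀) : K₀)
    have hfsum : f = ∑ b ∈ s, MvPowerSeries.C (algebraMap k₀ K₀ b) * fb b := by
      ext n
      rw [map_sum, ← hg n]
      apply Finset.sum_congr rfl
      intro b _
      rw [MvPowerSeries.coeff_C_mul, Algebra.smul_def, mul_comm]
      rfl
    rw [hfsum, map_sum]
    apply Subfield.sum_mem
    intro b _
    rw [map_mul]
    apply Subfield.mul_mem
    · apply Subfield.subset_closure
      left
      exact ⟨b, hcompat b⟩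
    · apply Subfield.subset_closure
      right
      apply Subfield.subset_closure
      exact ⟨fb b, fun n => (g n b).2, rfl⟩
  · rw [Subfield.closure_le]
    rintro x (⟨b, rfl⟩ | hx)
    · rw [hcompat]
      apply Subfield.subset_closure
      refine ⟨_, ?_, rfl⟩
      intro n
      rw [MvPowerSeries.coeff_C]
      split_ifs
      · exact Subfield.subset_closure (Or.inl ⟨b, rfl⟩)
      · exact Subfield.zero_mem _
    · have hmono : Subfield.closure (algebraMap (MvPowerSeries (Fin r) K₀)
          (FractionRing (MvPowerSeries (Fin r) K₀)) ''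
            {f | ∀ n, MvPowerSeries.coeff n f ∈ Subfield.closure (Set.range fun y : K₀ => y ^ p)}) ≤
          Subfield.closure (algebraMap (MvPowerSeries (Fin r) K₀)
          (FractionRing (MvPowerSeries (Fin r) K₀)) ''
            {f | ∀ n, MvPowerSeries.coeff n f ∈
              Subfield.closure (Set.range (algebraMap k₀ K₀) ∪ Set.range fun y : K₀ => y ^ p)}) := by
        apply Subfield.closure_mono
        apply Set.image_mono
        intro f hf n
        exact (Subfield.closure_mono Set.subset_union_right) (hf n)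
      exact hmono hx

end Groth.Agent.S4561
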