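import Groth.Statements.S4569
import Mathlib

set_option autoImplicit false
universe u
open CAlg

namespace Groth.Agent.S4569

/-- Let A be a ring, x a non-zero-divisor of A with p = xA prime. For every n > 0 the inverse image in A
of x^n A_p is x^n A. -/
theorem result {A : Type u} [CommRing A] (x : A)
    (hx : x ∈ nonZeroDivisors A) [(Ideal.span ({x} : Set A)).IsPrime] (n : ℕ) (hn : 0 < n) :
    Ideal.comap (algebraMap A (Localization.AtPrime (Ideal.span ({x} : Set A))))
      (Ideal.map (algebraMap A (Localization.AtPrime (Ideal.span ({x} : Set A)))) (Ideal.span ({x ^ n} : Set A))) =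
      Ideal.span ({x ^ n} : Set A) := by
  have hPprime : (Ideal.span ({x} : Set A)).IsPrime := inferInstance
  have key : ∀ k : ℕ, ∀ a s : A, s ∉ Ideal.span ({x} : Set A) →
      s * a ∈ Ideal.span ({x ^ k} : Set A) → a ∈ Ideal.span ({x ^ k} : Set A) := by
    intro k
    induction k with
    | zero => intro a s _ _; simp
    | succ k ih =>
      intro a s hs hsa
      rw [Ideal.mem_span_singleton'] at hsa ⊢
      obtain ⟨b, hb⟩ := hsa
      have h1 : s * a ∈ Ideal.span ({x} : Set A) := by
        rw [← hb, pow_succ, ← mul_assoc]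
        exact Ideal.mul_mem_left _ _ (Ideal.mem_span_singleton_self x)
      have h2 : a ∈ Ideal.span ({x} : Set A) := (hPprime.mem_or_mem h1).resolve_left hs
      rw [Ideal.mem_span_singleton'] at h2
      obtain ⟨a', ha'⟩ := h2
      have h3 : (s * a') * x = (b * x ^ k) * x := by
        rw [mul_assoc, ha', mul_assoc, ← pow_succ, hb]
      have h4 : s * a' = b * x ^ k := (mul_cancel_right_mem_nonZeroDivisors hx).1 h3
      have h5 : a' ∈ Ideal.span ({x ^ k} : Set A) :=
        ih a' s hs (by rw [h4]; exact Ideal.mul_mem_left _ _ (Ideal.mem_span_singleton_self _))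
      rw [Ideal.mem_span_singleton'] at h5
      obtain ⟨c, hc⟩ := h5
      exact ⟨c, by rw [pow_succ, ← mul_assoc, hc, ha']⟩
  apply le_antisymm
  · intro a ha
    rw [Ideal.mem_comap, IsLocalization.mem_map_algebraMap_iff
      (Ideal.span ({x} : Set A)).primeCompl] at ha
    obtain ⟨⟨⟨i, hi⟩, ⟨s, hs⟩⟩, h⟩ := ha
    simp only at h
    rw [← map_mul, IsLocalization.eq_iff_exists (Ideal.span ({x} : Set A)).primeCompl] at h
    obtain ⟨c, hc⟩ := h
    have hcs : (c : A) * s ∉ Ideal.span ({x} : Set A) :=
      (Ideal.span ({x} : Set A)).primeCompl.mul_mem c.2 hs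
    refine key n a ((c : A) * s) hcs ?_
    have h6 : (c : A) * s * a = (c : A) * i := by rw [← hc]; ring
    rw [h6]
    exact Ideal.mul_mem_left _ _ hi
  · exact Ideal.le_comap_map

end Groth.Agent.S4569
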