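import Groth.Statements.S4572
-- import your own Groth.Agent.* helpers here
import Mathlib
import Groth.Agent.Lib.helper9.IntegralDim
import Groth.Agent.Lib.helper5.RegLoc

set_option autoImplicit false
universe u
open IsLocalRing
open EGA41

namespace Groth.Agent.S4572

/-- Let A be a regular local ring and A' a local ring containing A as a subring over which it is
module-finite. Then A' is regular if and only if the embedding dimensions agree: dim_K(m/m²) =
dim_{K'}(m'/m'²) for the maximal ideals and residue fields of A and A'. -/
theorem result {A A' : Type u} [CommRing A]
    [IsRegularLocalRing A] [CommRing A'] [IsLocalRing A'] [IsNoetherianRing A'] [Algebra A A'] [Module.Finite A A']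
    (hinj : Function.Injective (algebraMap A A')) :
    IsRegularLocalRing A' ↔
      Module.finrank (ResidueField A) (CotangentSpace A) = Module.finrank (ResidueField A') (CotangentSpace A') := by
  have hdim : ringKrullDim A = ringKrullDim A' :=
    Groth.Agent.Lib.helper9.IntegralDim.ringKrullDim_eq_of_isIntegral_of_injective A A' hinj
  have h4 : ∀ (B : Type u) [CommRing B] [IsLocalRing B] [IsNoetherianRing B],
      Module.finrank (ResidueField B) (CotangentSpace B) = (maximalIdeal B).spanFinrank := by
    intro B _ _ _
    unfold Module.finrank Submodule.spanFinrank
    rw [IsLocalRing.rank_cotangentSpace_eq_spanrank_maximalIdeal]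
  rw [h4 A, h4 A']
  have hA : ((maximalIdeal A).spanFinrank : WithBot ℕ∞) = ringKrullDim A :=
    IsRegularLocalRing.spanFinrank_maximalIdeal
  rw [isRegularLocalRing_iff, ← hdim, ← hA]
  constructor
  · intro h
    exact_mod_cast h.symm
  · intro h
    rw [h]

end Groth.Agent.S4572
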