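import Groth.Statements.S4577
import Mathlib
import Groth.Agent.S4531
-- import your own Groth.Agent.* helpers here

set_option autoImplicit false
universe u
open EGA41

namespace Groth.Agent.S4577

namespace H5S4577
open TensorProduct KaehlerDifferential
open Groth.Agent.S4531

section
variable {A B C : Type u} [CommRing A] [CommRing B] [CommRing C]
    [Algebra A B] [Algebra B C] [Algebra A C] [IsScalarTower A B C] [Algebra.FormallySmooth A B]

theorem backward (hsurj : Function.Surjective (algebraMap B C))
    [Module.Finite B (RingHom.ker (algebraMap B C)).Cotangent]
    (h : ∀ (m : Ideal C) [m.IsMaximal], Algebra.FormallySmooth A (Localization.AtPrime m)) :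
    Algebra.FormallySmooth A C := by
  -- H1 vanishes
  have h1 : Subsingleton (Algebra.H1Cotangent A C) := by
    refine Module.subsingleton_of_localization_maximal
      (fun P _ => Algebra.H1Cotangent A (Localization.AtPrime P))
      (fun P _ => Algebra.H1Cotangent.map A A C (Localization.AtPrime P)) ?_
    intro P _
    haveI := h P
    infer_instance
  -- Ω flat
  have h2 : Module.Flat C Ω[C⁄A] := by
    refine Module.flat_of_isLocalized_maximal (R := C) C Ω[C⁄A]
      (fun P _ => Ω[Localization.AtPrime P⁄A])
      (fun P _ => KaehlerDifferential.map A A C (Localization.AtPrime P)) ?_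
    intro P _
    haveI := h P
    haveI : Module.Flat (Localization.AtPrime P) Ω[Localization.AtPrime P⁄A] := inferInstance
    exact Module.Flat.trans C (Localization.AtPrime P) _
  have h3 : Function.Injective (kerCotangentToTensor A B C) :=
    (Algebra.FormallySmooth.kerCotangentToTensor_injective_iff hsurj).mpr h1
  -- C-module structure on the cotangent
  let e : C ≃+* B ⧸ RingHom.ker (algebraMap B C) :=
    (RingHom.quotientKerEquivOfSurjective hsurj).symm
  have he : ∀ b : B, e (algebraMap B C b) = Ideal.Quotient.mk _ b := by
    intro b
    rw [RingEquiv.symm_apply_eq]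
    rfl
  letI modC : Module C (RingHom.ker (algebraMap B C)).Cotangent :=
    Module.compHom _ (e : C →+* B ⧸ RingHom.ker (algebraMap B C))
  have hsmul : ∀ (c : C) (x : (RingHom.ker (algebraMap B C)).Cotangent), c • x = e c • x :=
    fun _ _ => rfl
  haveI tower : IsScalarTower B C (RingHom.ker (algebraMap B C)).Cotangent := by
    refine ⟨fun b c x => ?_⟩
    rw [hsmul, hsmul, Algebra.smul_def, map_mul, he, mul_smul]
    rfl
  haveI : Module.Finite C (RingHom.ker (algebraMap B C)).Cotangent :=
    Module.Finite.of_restrictScalars_finite B C _
  let u' : (RingHom.ker (algebraMap B C)).Cotangent →ₗ[C] C ⊗[B] Ω[B⁄A] :=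
    LinearMap.extendScalarsOfSurjective hsurj (kerCotangentToTensor A B C)
  have hu' : ∀ x, u' x = kerCotangentToTensor A B C x := fun _ => rfl
  haveI : Module.Projective C (C ⊗[B] Ω[B⁄A]) := inferInstance
  have hex : Function.Exact u' (KaehlerDifferential.mapBaseChange A B C) :=
    exact_kerCotangentToTensor_mapBaseChange A B C hsurj
  obtain ⟨w, hw⟩ := H5S4531.glue u' (fun m _ =>
    LinearMap.lTensor_injective_of_exact_of_flat (KaehlerDifferential.mapBaseChange A B C)
      (mapBaseChange_surjective A B C hsurj) u' h3 hex m.ResidueField)
  refine (Algebra.FormallySmooth.iff_split_injection hsurj).mpr ⟨w.restrictScalars B, ?_⟩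
  ext x
  have := congrArg (fun f => f x) hw
  simp only [LinearMap.comp_apply, LinearMap.id_apply, hu'] at this
  simpa using this

end
end H5S4577

/-- Let B be a formally smooth A-algebra (discrete topologies) and C = B/J a quotient with J/J² finitely
generated. Then C is formally smooth over A if and only if C_m is formally smooth over A for every
maximal ideal m of C (hence also if and only if every C_p, p prime, is). (Not stated: the variant of
the localised condition with C_m formally smooth over A_q, q the contraction of m to A, and the
further assertion that for B Noetherian the discrete topologies in the localised condition may be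
replaced by the adic ones.) -/
theorem result {A B C : Type u} [CommRing A] [CommRing B] [CommRing C]
    [Algebra A B] [Algebra B C] [Algebra A C] [IsScalarTower A B C] [Algebra.FormallySmooth A B]
    (hsurj : Function.Surjective (algebraMap B C)) [Module.Finite B (RingHom.ker (algebraMap B C)).Cotangent] :
    Algebra.FormallySmooth A C ↔
      ∀ (m : Ideal C) [m.IsMaximal], Algebra.FormallySmooth A (Localization.AtPrime m) := by
  constructor
  · intro h m _
    haveI : Algebra.FormallySmooth C (Localization.AtPrime m) :=
      Algebra.FormallySmooth.of_isLocalization m.primeCompl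
    exact Algebra.FormallySmooth.comp A C _
  · intro h
    exact H5S4577.backward hsurj h

end Groth.Agent.S4577
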