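import Groth.Statements.S4581
import Groth.Agent.Lib.helper14.SemiComplC


set_option autoImplicit false
universe u
open EGA41

open Groth.Agent.Lib.H14.SemiCompl TensorProduct

namespace Groth.Agent.S4581

/-- Let A₀ be a semi-local Noetherian ring, A a module-finite A₀-algebra and Â the completion of A for
the adic topology of its Jacobson radical. For the discrete topologies, Â is a formally smooth
A-algebra relative to A₀. -/
theorem result {A₀ A : Type u} [CommRing A₀]
    [IsNoetherianRing A₀] [Finite (MaximalSpectrum A₀)] [CommRing A] [Algebra A₀ A] [Module.Finite A₀ A] :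
    EGA41.IsFormallySmoothRel A₀ A (AdicCompletion (Ideal.jacobson (⊥ : Ideal A)) A) := by
  intro C _ _ _ _ J hJ u₀ ⟨u, hu⟩
  let w : AdicCompletion (Ideal.jacobson (⊥ : Ideal A₀)) A₀ →ₐ[A₀] C := u.comp (iotaHat A₀ A)
  let L : AdicCompletion (Ideal.jacobson (⊥ : Ideal A₀)) A₀ ⊗[A₀] A →ₐ[A₀] C :=
    Algebra.TensorProduct.productMap w ((Algebra.ofId A C).restrictScalars A₀)
  let v₀ : AdicCompletion (Ideal.jacobson (⊥ : Ideal A)) A →ₐ[A₀] C :=
    L.comp (Theta A₀ A).symm.toAlgHom
  have hL : ∀ (x : AdicCompletion (Ideal.jacobson (⊥ : Ideal A₀)) A₀) (a : A),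
      L (x ⊗ₜ a) = u (iotaHat A₀ A x) * algebraMap A C a := by
    intro x a
    simp only [L, Algebra.TensorProduct.productMap_apply_tmul]
    rfl
  have hv₀ : ∀ a : A, v₀ (algebraMap A (AdicCompletion (Ideal.jacobson (⊥ : Ideal A)) A) a) =
      algebraMap A C a := by
    intro a
    have : algebraMap A (AdicCompletion (Ideal.jacobson (⊥ : Ideal A)) A) a =
        Theta A₀ A (1 ⊗ₜ a) := by
      rw [Theta_tmul, map_one, one_mul]
      rfl
    rw [this]
    show L ((Theta A₀ A).symm (Theta A₀ A (1 ⊗ₜ a))) = _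
    rw [AlgEquiv.symm_apply_apply, hL, map_one, map_one, one_mul]
  let v : AdicCompletion (Ideal.jacobson (⊥ : Ideal A)) A →ₐ[A] C :=
    { v₀.toRingHom with commutes' := hv₀ }
  refine ⟨v, ?_⟩
  have hu' : ∀ y, Ideal.Quotient.mk J (u y) = u₀ y := fun y => AlgHom.congr_fun hu y
  ext x
  obtain ⟨s, rfl⟩ := (Theta A₀ A).surjective x
  show Ideal.Quotient.mk J (L ((Theta A₀ A).symm (Theta A₀ A s))) = u₀ (Theta A₀ A s)
  rw [AlgEquiv.symm_apply_apply]
  induction s using TensorProduct.induction_on with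
  | zero => simp
  | add s t hs ht => simp only [map_add, hs, ht]
  | tmul x a =>
    rw [Theta_tmul, hL, map_mul, map_mul, hu']
    congr 1
    have : (AdicCompletion.of (Ideal.jacobson (⊥ : Ideal A)) A a) =
        algebraMap A (AdicCompletion (Ideal.jacobson (⊥ : Ideal A)) A) a := rfl
    rw [this, u₀.commutes]
    rfl

end Groth.Agent.S4581
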