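import Groth.Statements.S4584
import Mathlib
import Groth.Agent.Lib.helper7.AffImg

set_option autoImplicit false
universe u
open AlgebraicGeometry CategoryTheory Topology
open EGA41

namespace Groth.Agent.S4584

open Groth.Agent.Lib.helper7.PC Groth.Agent.Lib.helper7.Lim8

/-- Given a scheme X that is quasi-compact and quasi-separated, together with a constructible subset Z
of X, one can find an affine scheme X' with a morphism X' → X of finite presentation whose image
equals Z. -/
theorem result (X : Scheme.{u}) [CompactSpace X]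
    [QuasiSeparatedSpace X] (Z : Set X) (hZ : IsConstructible Z) :
    ∃ (X' : Scheme.{u}) (f : X' ⟶ X), IsAffine X' ∧ LocallyOfFinitePresentation f ∧ QuasiCompact f ∧
      QuasiSeparated f ∧ Set.range f.base = Z := by
  classical
  suffices h : ∃ (X' : Scheme.{u}) (f : X' ⟶ X), IsAffine X' ∧ LocallyOfFinitePresentation f ∧
      Set.range ⇑f = Z by
    obtain ⟨X', f, hX', hf, hr⟩ := h
    exact ⟨X', f, hX', hf, inferInstance, inferInstance, hr⟩
  have hne : Nonempty X.affineOpens := ⟨⟨⊥, isAffineOpen_bot X⟩⟩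
  refine IsConstructible.induction_of_isTopologicalBasis
    (P := fun Z _ => ∃ (X' : Scheme.{u}) (f : X' ⟶ X), IsAffine X' ∧
      LocallyOfFinitePresentation f ∧ Set.range ⇑f = Z)
    (fun i : X.affineOpens => ((i : X.Opens) : Set X)) ?basis ?cpt ?sdiff ?union Z hZ
  case basis =>
    have := X.isBasis_affineOpens
    rw [TopologicalSpace.Opens.IsBasis] at this
    convert this using 1
    ext s
    constructor
    · rintro ⟨⟨U, hU⟩, rfl⟩
      exact ⟨U, hU, rfl⟩
    · rintro ⟨U, hU, rfl⟩
      exact ⟨⟨U, hU⟩, rfl⟩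
  case cpt => exact fun i => i.2.isCompact
  case union =>
    rintro s hs t ht ⟨X₁, f₁, h₁, hl₁, rfl⟩ ⟨X₂, f₂, h₂, hl₂, rfl⟩
    refine ⟨X₁ ⨿ X₂, Limits.coprod.desc f₁ f₂, inferInstance, ?_,
      Groth.Agent.Lib.helper7.AffImg.range_coprod_desc f₁ f₂⟩
    rw [IsZariskiLocalAtSource.iff_of_openCover (P := @LocallyOfFinitePresentation)
      (coprodOpenCover.{u, u} X₁ X₂)]
    rintro (⟨⟩ | ⟨⟩)
    · change LocallyOfFinitePresentation (Limits.coprod.inl ≫ Limits.coprod.desc f₁ f₂)
      rw [Limits.coprod.inl_desc]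
      exact hl₁
    · change LocallyOfFinitePresentation (Limits.coprod.inr ≫ Limits.coprod.desc f₁ f₂)
      rw [Limits.coprod.inr_desc]
      exact hl₂
  case sdiff =>
    intro i s hs
    have hW : IsAffineOpen (i : X.Opens) := i.2
    set V : Set X := ⋃ j ∈ s, ((j : X.Opens) : Set X) with hV
    have hVo : IsOpen V := isOpen_biUnion fun j _ => j.1.2
    have hVc : IsCompact V := hs.isCompact_biUnion fun j _ => j.2.isCompact
    have hVW : IsCompact (V ∩ ((i : X.Opens) : Set X)) :=
      QuasiSeparatedSpace.inter_isCompact _ _ hVo hVc i.1.2 hW.isCompact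
    have hpre : ⇑hW.fromSpec ⁻¹' V = ⇑hW.fromSpec ⁻¹' (V ∩ ((i : X.Opens) : Set X)) := by
      ext z
      simp only [Set.mem_preimage, Set.mem_inter_iff, iff_self_and]
      intro _
      have : hW.fromSpec z ∈ Set.range ⇑hW.fromSpec := ⟨z, rfl⟩
      rw [hW.range_fromSpec] at this
      exact this
    have hc : IsCompact (⇑hW.fromSpec ⁻¹' V) := by
      rw [hpre]
      refine (hW.fromSpec.isOpenEmbedding.isInducing.isCompact_preimage_iff ?_).mpr hVW
      rw [hW.range_fromSpec]
      exact Set.inter_subset_right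
    have ho : IsOpen (⇑hW.fromSpec ⁻¹' V) := hVo.preimage hW.fromSpec.continuous
    obtain ⟨t, ht⟩ := PrimeSpectrum.isCompact_isOpen_iff.mp ⟨hc, ho⟩
    let q : Γ(X, (i : X.Opens)) →+* (Γ(X, (i : X.Opens)) ⧸ Ideal.span (t : Set Γ(X, (i : X.Opens)))) :=
      Ideal.Quotient.mk _
    have hq : q.FinitePresentation :=
      RingHom.FinitePresentation.of_surjective q Ideal.Quotient.mk_surjective (by
        rw [Ideal.mk_ker]
        exact ⟨t, rfl⟩)
    have hl : LocallyOfFinitePresentation (Spec.map (CommRingCat.ofHom q)) := by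
      rw [HasRingHomProperty.Spec_iff (P := @LocallyOfFinitePresentation)]
      exact hq
    have hrange : Set.range (PrimeSpectrum.comap q) = (⇑hW.fromSpec ⁻¹' V)ᶜ := by
      rw [_root_.range_comap_of_surjective _ q Ideal.Quotient.mk_surjective, Ideal.mk_ker,
        PrimeSpectrum.zeroLocus_span, ← ht]
      exact (compl_compl _).symm
    refine ⟨Spec (CommRingCat.of (Γ(X, (i : X.Opens)) ⧸ Ideal.span (t : Set Γ(X, (i : X.Opens))))),
      Spec.map (CommRingCat.ofHom q) ≫ hW.fromSpec, inferInstance, inferInstance, ?_⟩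
    apply Set.Subset.antisymm
    · rintro _ ⟨y, rfl⟩
      rw [Scheme.Hom.comp_apply]
      have hz : (Spec.map (CommRingCat.ofHom q)) y ∈ (⇑hW.fromSpec ⁻¹' V)ᶜ := by
        rw [← hrange]
        exact ⟨y, rfl⟩
      refine ⟨?_, hz⟩
      have : hW.fromSpec ((Spec.map (CommRingCat.ofHom q)) y) ∈ Set.range ⇑hW.fromSpec := ⟨_, rfl⟩
      rw [hW.range_fromSpec] at this
      exact this
    · rintro x ⟨hxW, hxV⟩
      have : x ∈ Set.range ⇑hW.fromSpec := by
        rw [hW.range_fromSpec]
        exact hxW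
      obtain ⟨z, rfl⟩ := this
      have hz : z ∈ Set.range (PrimeSpectrum.comap q) := by
        rw [hrange]
        exact hxV
      obtain ⟨y, rfl⟩ := hz
      exact ⟨y, by rw [Scheme.Hom.comp_apply]; rfl⟩

end Groth.Agent.S4584
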