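import Groth.Statements.S4587
import Mathlib

set_option autoImplicit false
universe u
open AlgebraicGeometry CategoryTheory
open EGA41

namespace Groth.Agent.S4587

/-- A morphism of schemes f : X → Y is generizing if and only if, for every irreducible closed subset Y'
of Y, each irreducible component of f⁻¹(Y') has dense image in Y'. -/
theorem result {X Y : Scheme.{u}} (f : X ⟶ Y) :
    GeneralizingMap f.base ↔
      ∀ Y' : Set Y, IsClosed Y' → IsIrreducible Y' →
        ∀ Z ∈ irreducibleComponents ↥(f.base ⁻¹' Y'), closure (f.base '' (Subtype.val '' Z)) = Y' := by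
  constructor
  · intro hgen Y' hY'cl hY'irr Z hZ
    have hTcl : IsClosed (f.base ⁻¹' Y') := hY'cl.preimage f.continuous
    have : QuasiSober ↥(f.base ⁻¹' Y') := hTcl.isClosedEmbedding_subtypeVal.quasiSober
    obtain ⟨η, hη⟩ := QuasiSober.sober hY'irr hY'cl
    obtain ⟨ζ, hζ⟩ := QuasiSober.sober hZ.1 (isClosed_of_mem_irreducibleComponents Z hZ)
    have hζY : f.base ζ.1 ∈ Y' := ζ.2
    have h1 : η ⤳ f.base ζ.1 := hη.specializes hζY
    obtain ⟨x', hx', hfx'⟩ := hgen h1
    have hx'T : x' ∈ f.base ⁻¹' Y' := by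
      show f.base x' ∈ Y'
      rw [hfx']; exact hη.mem
    have h2 : (⟨x', hx'T⟩ : ↥(f.base ⁻¹' Y')) ⤳ ζ :=
      Topology.IsInducing.subtypeVal.specializes_iff.mp hx'
    have h3 : Z ⊆ closure {(⟨x', hx'T⟩ : ↥(f.base ⁻¹' Y'))} := by
      rw [← hζ.def]; exact specializes_iff_closure_subset.mp h2
    have h4 : closure {(⟨x', hx'T⟩ : ↥(f.base ⁻¹' Y'))} = Z :=
      (hZ.2 isIrreducible_singleton.closure h3).antisymm h3 |>.symm ▸ rfl
    have h5 : (⟨x', hx'T⟩ : ↥(f.base ⁻¹' Y')) = ζ := IsGenericPoint.eq (h4 : IsGenericPoint _ Z) hζ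
    have h6 : f.base ζ.1 = η := by rw [← h5]; exact hfx'
    apply Set.Subset.antisymm
    · apply hY'cl.closure_subset_iff.mpr
      rintro _ ⟨_, ⟨z, -, rfl⟩, rfl⟩
      exact z.2
    · intro y hy
      have hy2 : y ∈ closure ({η} : Set Y) := hη.def.ge hy
      have hmem : η ∈ f.base '' (Subtype.val '' Z) := ⟨ζ.1, ⟨ζ, hζ.mem, rfl⟩, h6⟩
      exact closure_mono (Set.singleton_subset_iff.mpr hmem) hy2
  · intro H x y' hy'
    -- hy' : y' ⤳ f x
    have hY'cl : IsClosed (closure ({y'} : Set Y)) := isClosed_closure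
    have hY'irr : IsIrreducible (closure ({y'} : Set Y)) := isIrreducible_singleton.closure
    have hTcl : IsClosed (f.base ⁻¹' closure ({y'} : Set Y)) := hY'cl.preimage f.continuous
    have : QuasiSober ↥(f.base ⁻¹' closure ({y'} : Set Y)) :=
      hTcl.isClosedEmbedding_subtypeVal.quasiSober
    have hxT : x ∈ f.base ⁻¹' closure ({y'} : Set Y) := specializes_iff_mem_closure.mp hy'
    have hZ : irreducibleComponent (⟨x, hxT⟩ : ↥(f.base ⁻¹' closure ({y'} : Set Y))) ∈
        irreducibleComponents ↥(f.base ⁻¹' closure ({y'} : Set Y)) :=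
      irreducibleComponent_mem_irreducibleComponents _
    obtain ⟨ζ, hζ⟩ := QuasiSober.sober hZ.1 (isClosed_of_mem_irreducibleComponents _ hZ)
    have hcl := H _ hY'cl hY'irr _ hZ
    have hζx : ζ ⤳ (⟨x, hxT⟩ : ↥(f.base ⁻¹' closure ({y'} : Set Y))) :=
      hζ.specializes mem_irreducibleComponent
    refine ⟨ζ.1, hζx.map continuous_subtype_val, ?_⟩
    have h1 : f.base '' (Subtype.val '' irreducibleComponent
        (⟨x, hxT⟩ : ↥(f.base ⁻¹' closure ({y'} : Set Y)))) ⊆ closure {f.base ζ.1} := by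
      rintro _ ⟨_, ⟨z, hz, rfl⟩, rfl⟩
      have hz' : ζ ⤳ z := hζ.specializes hz
      have : f.base ζ.1 ⤳ f.base z.1 := (hz'.map continuous_subtype_val).map f.continuous
      exact specializes_iff_mem_closure.mp this
    have h2 : closure ({y'} : Set Y) ⊆ closure {f.base ζ.1} :=
      fun y hy => closure_minimal h1 isClosed_closure (hcl.ge hy)
    have h3 : closure {f.base ζ.1} ⊆ closure ({y'} : Set Y) :=
      closure_minimal (Set.singleton_subset_iff.mpr ζ.2) isClosed_closure
    have h4 : closure {f.base ζ.1} = closure ({y'} : Set Y) := h3.antisymm h2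
    exact IsGenericPoint.eq (h4 : IsGenericPoint _ _) (rfl : IsGenericPoint y' _)

end Groth.Agent.S4587
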