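import Groth.Statements.S4590
import Mathlib

set_option autoImplicit false
universe u
open CAlg

namespace Groth.Agent.S4590

open Polynomial

section helpers



/-- homogeneous relation gives integrality -/
theorem integral_of_rel {A K : Type u} [CommRing A] [IsDomain A] [Field K] [Algebra A K]
    [IsFractionRing A K] (a s : A) (hs : s ≠ 0) (M : ℕ) (c : Fin M → A)
    (h : a ^ M = ∑ j : Fin M, c j * (a ^ (j : ℕ) * s ^ (M - (j : ℕ)))) :
    IsIntegral A (algebraMap A K a / algebraMap A K s) := by
  have hsK : algebraMap A K s ≠ 0 := by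
    intro h0
    exact hs ((IsFractionRing.injective A K) (by rw [h0, map_zero]))
  refine ⟨X ^ M - ∑ j : Fin M, C (c j) * X ^ (j : ℕ), monic_X_pow_sub (degree_sum_fin_lt c), ?_⟩
  rw [eval₂_sub, eval₂_X_pow, eval₂_finsetSum]
  simp only [eval₂_mul, eval₂_C, eval₂_X_pow]
  have hM : (algebraMap A K s) ^ M ≠ 0 := pow_ne_zero _ hsK
  apply mul_left_cancel₀ hM
  rw [mul_zero, mul_sub, ← mul_pow, mul_div_cancel₀ _ hsK, ← map_pow, h, map_sum, Finset.mul_sum,
    sub_eq_zero]
  refine Finset.sum_congr rfl fun j _ => ?_
  have hj : (j : ℕ) ≤ M := j.2.le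
  rw [map_mul, map_mul, map_pow, map_pow]
  have e1 : (algebraMap A K s) ^ M = (algebraMap A K s) ^ (j : ℕ) * (algebraMap A K s) ^ (M - (j : ℕ)) := by
    rw [← pow_add]; congr 1; omega
  rw [e1, div_pow]
  field_simp




/-- From a monic polynomial over `B` whose homogenisation vanishes at `(a, s)`,
get the relation in `A` using faithful flatness. -/
theorem rel_of_monic {A B : Type u} [CommRing A] [CommRing B] [Algebra A B]
    [Module.FaithfullyFlat A B] (a s : A) (Q : B[X]) (hQ : Q.Monic)
    (h0 : (Q.scaleRoots (algebraMap A B s)).eval (algebraMap A B a) = 0) :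
    ∃ c : Fin Q.natDegree → A,
      a ^ Q.natDegree = ∑ j : Fin Q.natDegree, c j * (a ^ (j : ℕ) * s ^ (Q.natDegree - (j : ℕ))) := by
  obtain ⟨M, hM⟩ : ∃ M, M = Q.natDegree := ⟨_, rfl⟩
  rw [← hM]
  obtain ⟨J, hJ⟩ : ∃ J : Ideal A, J = Ideal.span (Set.range fun j : Fin M =>
    a ^ (j : ℕ) * s ^ (M - (j : ℕ))) := ⟨_, rfl⟩
  have hmem : algebraMap A B (a ^ M) ∈ J.map (algebraMap A B) := by
    rw [eval_eq_sum_range, natDegree_scaleRoots, ← hM, Finset.sum_range_succ] at h0
    simp only [coeff_scaleRoots, ← hM] at h0
    have hc : Q.coeff M = 1 := by rw [hM]; exact hQ.coeff_natDegree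
    rw [hc, Nat.sub_self, pow_zero, mul_one, one_mul] at h0
    have : algebraMap A B (a ^ M) =
        - ∑ j ∈ Finset.range M, Q.coeff j * (algebraMap A B s) ^ (M - j) * (algebraMap A B a) ^ j := by
      rw [map_pow]; linear_combination h0
    rw [this]
    refine neg_mem (Ideal.sum_mem _ fun j hj => ?_)
    have hj' : j < M := Finset.mem_range.mp hj
    have : Q.coeff j * (algebraMap A B s) ^ (M - j) * (algebraMap A B a) ^ j =
        Q.coeff j * algebraMap A B (a ^ j * s ^ (M - j)) := by
      rw [map_mul, map_pow, map_pow]; ring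
    rw [this]
    refine Ideal.mul_mem_left _ _ (Ideal.mem_map_of_mem _ ?_)
    rw [hJ]
    exact Ideal.subset_span ⟨⟨j, hj'⟩, rfl⟩
  have hmem' : a ^ M ∈ J := by
    have : a ^ M ∈ (J.map (algebraMap A B)).comap (algebraMap A B) := hmem
    rwa [Ideal.comap_map_eq_self_of_faithfullyFlat] at this
  rw [hJ, Ideal.mem_span_range_iff_exists_fun] at hmem'
  obtain ⟨c, hc⟩ := hmem'
  exact ⟨c, hc.symm⟩


end helpers

/-- Let A be a domain with fraction field K, B a faithfully flat A-algebra, C = B_red and R the total
ring of fractions of C. Then A → C is injective with nonzero elements going to non-zero-divisors, so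
that K embeds in R, and an element of K is integral over C in R if and only if it is integral over
A. -/
theorem result {A B : Type u} [CommRing A] [IsDomain A]
    [CommRing B] [Algebra A B] [Module.FaithfullyFlat A B] :
    Function.Injective (algebraMap A (B ⧸ nilradical B)) ∧
    (∀ a : A, a ≠ 0 → algebraMap A (B ⧸ nilradical B) a ∈ nonZeroDivisors (B ⧸ nilradical B)) ∧
    ∀ (R : Type u) [CommRing R] [Algebra (B ⧸ nilradical B) R] [IsFractionRing (B ⧸ nilradical B) R]
      [Algebra A R] [IsScalarTower A (B ⧸ nilradical B) R] [Algebra (FractionRing A) R]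
      [IsScalarTower A (FractionRing A) R] (x : FractionRing A),
      IsIntegral (B ⧸ nilradical B) (algebraMap (FractionRing A) R x) ↔ IsIntegral A x := by
  have hinjB : Function.Injective (algebraMap A B) := FaithfulSMul.algebraMap_injective A B
  have hmk : ∀ a : A, algebraMap A (B ⧸ nilradical B) a = Ideal.Quotient.mk _ (algebraMap A B a) :=
    fun a => rfl
  have hinj : Function.Injective (algebraMap A (B ⧸ nilradical B)) := by
    rw [injective_iff_map_eq_zero]
    intro a ha
    rw [hmk, Ideal.Quotient.eq_zero_iff_mem, mem_nilradical] at ha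
    obtain ⟨n, hn⟩ := ha
    rw [← map_pow] at hn
    have : a ^ n = 0 := hinjB (by rw [hn, map_zero])
    exact pow_eq_zero_iff (n := n) (by
      rintro rfl
      simp at this) |>.mp this
  have hntB : Nontrivial B := hinjB.nontrivial
  have hntC : Nontrivial (B ⧸ nilradical B) := hinj.nontrivial
  refine ⟨hinj, ?_, ?_⟩
  · intro a ha
    rw [mem_nonZeroDivisors_iff_right]
    intro c hc
    obtain ⟨b, rfl⟩ := Ideal.Quotient.mk_surjective c
    rw [hmk, ← map_mul, Ideal.Quotient.eq_zero_iff_mem, mem_nilradical] at hc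
    obtain ⟨n, hn⟩ := hc
    rw [Ideal.Quotient.eq_zero_iff_mem, mem_nilradical]
    refine ⟨n, ?_⟩
    rw [mul_pow, ← map_pow, mul_comm, ← Algebra.smul_def] at hn
    have hreg : IsSMulRegular B (a ^ n) :=
      Module.Flat.isSMulRegular_of_nonZeroDivisors
        (mem_nonZeroDivisors_of_ne_zero (pow_ne_zero n ha))
    exact hreg (by simp only [hn, smul_zero])
  · intro R _ _ _ _ _ _ _ x
    constructor
    · intro hx
      obtain ⟨a, s, hs, rfl⟩ := IsFractionRing.div_surjective (A := A) x
      have hs0 : s ≠ 0 := nonZeroDivisors.ne_zero hs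
      obtain ⟨p, hpm, hp⟩ := hx
      obtain ⟨f, hf⟩ : ∃ f : (B ⧸ nilradical B) →+* R, f = algebraMap (B ⧸ nilradical B) R :=
        ⟨_, rfl⟩
      rw [← hf] at hp
      -- relation in R
      have hrel : f (algebraMap A _ s) *
          algebraMap (FractionRing A) R (algebraMap A _ a / algebraMap A _ s) =
          f (algebraMap A _ a) := by
        have hsK : algebraMap A (FractionRing A) s ≠ 0 := by
          intro h0
          exact hs0 ((IsFractionRing.injective A (FractionRing A)) (by rw [h0, map_zero]))
        rw [hf, ← IsScalarTower.algebraMap_apply A (B ⧸ nilradical B) R,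
          ← IsScalarTower.algebraMap_apply A (B ⧸ nilradical B) R,
          IsScalarTower.algebraMap_apply A (FractionRing A) R,
          IsScalarTower.algebraMap_apply A (FractionRing A) R, ← map_mul,
          mul_div_cancel₀ _ hsK]
      have h1 := scaleRoots_eval₂_eq_zero f (s := algebraMap A (B ⧸ nilradical B) s) hp
      rw [hrel, eval₂_at_apply] at h1
      have h2 : (p.scaleRoots (algebraMap A (B ⧸ nilradical B) s)).eval
          (algebraMap A (B ⧸ nilradical B) a) = 0 := by
        apply IsFractionRing.injective (B ⧸ nilradical B) R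
        rw [map_zero, ← hf]; exact h1
      -- lift p
      obtain ⟨pt, hpt, hdeg, hptm⟩ := lifts_and_natDegree_eq_and_monic
        (f := Ideal.Quotient.mk (nilradical B))
        ((mem_lifts _).mpr (map_surjective _ Ideal.Quotient.mk_surjective p)) hpm
      have h3 : Ideal.Quotient.mk (nilradical B)
          ((pt.scaleRoots (algebraMap A B s)).eval (algebraMap A B a)) = 0 := by
        rw [← eval_map_apply, map_scaleRoots _ _ _ (by rw [hptm.leadingCoeff, map_one]; exact one_ne_zero),
          hpt]
        exact h2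
      rw [Ideal.Quotient.eq_zero_iff_mem, mem_nilradical] at h3
      obtain ⟨N, hN⟩ := h3
      have hQ : (pt ^ N).Monic := hptm.pow N
      have h4 : ((pt ^ N).scaleRoots (algebraMap A B s)).eval (algebraMap A B a) = 0 := by
        rw [pow_scaleRoots' _ _ _ (by rw [hptm.leadingCoeff, one_pow]; exact one_ne_zero),
          eval_pow, hN]
      obtain ⟨c, hc⟩ := rel_of_monic a s (pt ^ N) hQ h4
      exact integral_of_rel a s hs0 _ c hc
    · intro hx
      have h1 : IsIntegral A (algebraMap (FractionRing A) R x) :=
        hx.map (IsScalarTower.toAlgHom A (FractionRing A) R)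
      exact h1.tower_top

end Groth.Agent.S4590
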