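import Groth.Statements.S4592
import Mathlib

set_option autoImplicit false
universe u
open CategoryTheory CategoryTheory.Limits
open EGA41

namespace Groth.Agent.S4592

/-- A filtered colimit of commutative rings is the zero ring if and only if some ring of the system is
zero (the clause that all later rings of the system are then zero is not restated). -/
theorem result {I : Type u} [SmallCategory I] [IsFiltered I]
    (D : I ⥤ CommRingCat.{u}) (c : Cocone D) (hc : IsColimit c) :
    Subsingleton c.pt ↔ ∃ i : I, Subsingleton (D.obj i) := by
  constructor
  · intro hsub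
    obtain ⟨i⟩ := IsFiltered.nonempty (C := I)
    have h : (c.ι.app i) (1 : D.obj i) = (c.ι.app i) (0 : D.obj i) :=
      hsub.elim _ _
    obtain ⟨k, f, g, hfg⟩ := Concrete.isColimit_exists_of_rep_eq D hc _ _ h
    refine ⟨k, ?_⟩
    rw [map_one, map_zero] at hfg
    exact subsingleton_of_zero_eq_one hfg.symm
  · rintro ⟨i, hi⟩
    have h : (c.ι.app i) (1 : D.obj i) = (c.ι.app i) (0 : D.obj i) := by
      rw [Subsingleton.elim (1 : D.obj i) 0]
    rw [map_one, map_zero] at h
    exact subsingleton_of_zero_eq_one h.symm

end Groth.Agent.S4592
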