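import Groth.Statements.S4593
import Mathlib

set_option autoImplicit false
universe u
open CategoryTheory CategoryTheory.Limits AlgebraicGeometry
open EGA41

namespace Groth.Agent.S4593

/-- Let B be a ring, (A_i) a filtered system of B-algebras with colimit A. The image of Spec A in Spec B
is the intersection of the images of the Spec A_i. -/
theorem result {I : Type u} [SmallCategory I] [IsFiltered I]
    (B : CommRingCat.{u}) (D : I ⥤ CommRingCat.{u}) (s : (Functor.const I).obj B ⟶ D) (c : Cocone D)
    (hc : IsColimit c) (i₀ : I) :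
    Set.range (Spec.map (s.app i₀ ≫ c.ι.app i₀)).base = ⋂ i : I, Set.range (Spec.map (s.app i)).base := by
  classical
  let φ : ∀ i, (B : Type u) →+* D.obj i := fun i => (s.app i).hom
  let ι : ∀ i, D.obj i →+* c.pt := fun i => (c.ι.app i).hom
  let m : ∀ {i j : I} (_ : i ⟶ j), D.obj i →+* D.obj j := fun f => (D.map f).hom
  have hs : ∀ {i j : I} (f : i ⟶ j), (m f).comp (φ i) = φ j := by
    intro i j f
    have := s.naturality f
    have h2 : s.app i ≫ D.map f = s.app j := by simpa using this.symm
    have := congrArg CommRingCat.Hom.hom h2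
    simpa using this
  have hι : ∀ {i j : I} (f : i ⟶ j), (ι j).comp (m f) = ι i := by
    intro i j f
    have := congrArg CommRingCat.Hom.hom (c.w f)
    exact this
  have hψ : ∀ i, (ι i).comp (φ i) = (ι i₀).comp (φ i₀) := by
    intro i
    rw [← hι (IsFiltered.leftToMax i i₀), RingHom.comp_assoc, hs,
      ← hι (IsFiltered.rightToMax i i₀), RingHom.comp_assoc, hs]
  change Set.range (PrimeSpectrum.comap ((ι i₀).comp (φ i₀))) =
    ⋂ i, Set.range (PrimeSpectrum.comap (φ i))
  apply Set.Subset.antisymm
  · -- easy direction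
    intro p hp
    obtain ⟨q, rfl⟩ := hp
    refine Set.mem_iInter.mpr fun i => ?_
    refine ⟨PrimeSpectrum.comap (ι i) q, ?_⟩
    rw [← PrimeSpectrum.comap_comp_apply, hψ i]
  · intro p hp
    rw [Set.mem_iInter] at hp
    rw [PrimeSpectrum.mem_range_comap_iff]
    apply le_antisymm _ Ideal.le_comap_map
    -- key claim: every element of `p A` comes from some `p A_i`
    have key : ∀ a ∈ p.asIdeal.map ((ι i₀).comp (φ i₀)), ∃ (i : I) (x : D.obj i),
        x ∈ p.asIdeal.map (φ i) ∧ ι i x = a := by
      intro a ha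
      refine Submodule.span_induction (p := fun a _ => ∃ (i : I) (x : D.obj i),
        x ∈ p.asIdeal.map (φ i) ∧ ι i x = a) ?_ ?_ ?_ ?_ ha
      · rintro _ ⟨b, hb, rfl⟩
        exact ⟨i₀, φ i₀ b, Ideal.mem_map_of_mem _ hb, rfl⟩
      · exact ⟨i₀, 0, Ideal.zero_mem _, map_zero _⟩
      · rintro a₁ a₂ _ _ ⟨i, x, hx, rfl⟩ ⟨j, y, hy, rfl⟩
        refine ⟨IsFiltered.max i j, m (IsFiltered.leftToMax i j) x +
          m (IsFiltered.rightToMax i j) y, Ideal.add_mem _ ?_ ?_, ?_⟩
        · have := Ideal.mem_map_of_mem (m (IsFiltered.leftToMax i j)) hx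
          rwa [Ideal.map_map, hs] at this
        · have := Ideal.mem_map_of_mem (m (IsFiltered.rightToMax i j)) hy
          rwa [Ideal.map_map, hs] at this
        · rw [map_add, ← RingHom.comp_apply, ← RingHom.comp_apply, hι, hι]
      · rintro r a _ ⟨i, x, hx, rfl⟩
        obtain ⟨j, y, rfl⟩ := Concrete.isColimit_exists_rep D hc r
        refine ⟨IsFiltered.max i j, m (IsFiltered.rightToMax i j) y *
          m (IsFiltered.leftToMax i j) x, Ideal.mul_mem_left _ _ ?_, ?_⟩
        · have := Ideal.mem_map_of_mem (m (IsFiltered.leftToMax i j)) hx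
          rwa [Ideal.map_map, hs] at this
        · rw [map_mul, ← RingHom.comp_apply, ← RingHom.comp_apply, hι, hι]
          rfl
    intro b hb
    rw [Ideal.mem_comap] at hb
    obtain ⟨i, x, hx, hxb⟩ := key _ hb
    have h1 : (c.ι.app i) x = (c.ι.app i) (φ i b) := by
      change ι i x = ι i (φ i b)
      rw [hxb, ← RingHom.comp_apply, hψ i]
    obtain ⟨k, f, g, hfg⟩ := Concrete.isColimit_exists_of_rep_eq D hc _ _ h1
    have h2 : φ k b ∈ p.asIdeal.map (φ k) := by
      have h3 : (D.map g) (φ i b) = φ k b := by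
        change m g (φ i b) = φ k b
        rw [← RingHom.comp_apply, hs]
      rw [← h3, ← hfg]
      have := Ideal.mem_map_of_mem (m f) hx
      rwa [Ideal.map_map, hs] at this
    have h4 := (PrimeSpectrum.mem_range_comap_iff (f := φ k)).mp (hp k)
    rw [← h4]
    exact h2

end Groth.Agent.S4593
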