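import Groth.Statements.S4597
import Mathlib

set_option autoImplicit false
universe u
open AlgebraicGeometry CategoryTheory CategoryTheory.Limits
open EGA41

namespace Groth.Agent.S4597

/-- Let f : X → Y, g : Y' → Y and f' : X ×_Y Y' → Y' the base change. If g is quasi-compact surjective
and f' quasi-compact, f is quasi-compact; if g is surjective and f' dominant, f is dominant. -/
theorem result {X Y Y' : Scheme.{u}} (f : X ⟶ Y)
    (g : Y' ⟶ Y) [Surjective g] :
    (QuasiCompact g → QuasiCompact (pullback.snd f g) → QuasiCompact f) ∧
    (IsDominant (pullback.snd f g) → IsDominant f) := by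
  constructor
  · intro hg hf'
    refine ⟨fun U hU hUc => ?_⟩
    have h1 : IsCompact (g ⁻¹' U) := hg.isCompact_preimage U hU hUc
    have h2 : IsCompact ((pullback.snd f g) ⁻¹' (g ⁻¹' U)) :=
      hf'.isCompact_preimage _ (hU.preimage g.continuous) h1
    have hsurj : Function.Surjective (pullback.fst f g) :=
      (inferInstance : Surjective (pullback.fst f g)).surj
    have e : f ⁻¹' U = (pullback.fst f g) '' ((pullback.snd f g) ⁻¹' (g ⁻¹' U)) := by
      ext x
      constructor
      · intro hx
        obtain ⟨z, rfl⟩ := hsurj x
        refine ⟨z, ?_, rfl⟩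
        show g ((pullback.snd f g) z) ∈ U
        rw [← Scheme.Hom.comp_apply, ← pullback.condition, Scheme.Hom.comp_apply]
        exact hx
      · rintro ⟨z, hz, rfl⟩
        show f ((pullback.fst f g) z) ∈ U
        rw [← Scheme.Hom.comp_apply, pullback.condition, Scheme.Hom.comp_apply]
        exact hz
    rw [e]
    exact h2.image (pullback.fst f g).continuous
  · intro hf'
    have h1 : IsDominant (pullback.snd f g ≫ g) := inferInstance
    rw [← pullback.condition] at h1
    exact IsDominant.of_comp (f := pullback.fst f g) (g := f)

end Groth.Agent.S4597
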