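import Groth.Statements.S4598
import Mathlib

set_option autoImplicit false
universe u
open AlgebraicGeometry CategoryTheory CategoryTheory.Limits
open EGA41

namespace Groth.Agent.S4598

theorem qc_descends : MorphismProperty.DescendsAlong (@QuasiCompact)
    (@Surjective ⊓ @QuasiCompact : MorphismProperty Scheme.{u}) := by
  apply MorphismProperty.DescendsAlong.mk'
  intro X Y Z f g _ hf hfst
  obtain ⟨hfs, hfq⟩ := hf
  refine ⟨fun U hU hUc => ?_⟩
  have h1 : IsCompact (f ⁻¹' U) := hfq.isCompact_preimage U hU hUc
  have h2 : IsCompact ((pullback.fst f g) ⁻¹' (f ⁻¹' U)) :=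
    hfst.isCompact_preimage _ (hU.preimage f.continuous) h1
  have : Surjective f := hfs
  have hsurj : Function.Surjective (pullback.snd f g) :=
    (inferInstance : Surjective (pullback.snd f g)).surj
  have e : g ⁻¹' U = (pullback.snd f g) '' ((pullback.fst f g) ⁻¹' (f ⁻¹' U)) := by
    ext x
    constructor
    · intro hx
      obtain ⟨z, rfl⟩ := hsurj x
      refine ⟨z, ?_, rfl⟩
      show f ((pullback.fst f g) z) ∈ U
      rw [← Scheme.Hom.comp_apply, pullback.condition, Scheme.Hom.comp_apply]
      exact hx
    · rintro ⟨z, hz, rfl⟩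
      show g ((pullback.snd f g) z) ∈ U
      rw [← Scheme.Hom.comp_apply, ← pullback.condition, Scheme.Hom.comp_apply]
      exact hz
  rw [e]
  exact h2.image (pullback.snd f g).continuous

/-- If g : Y' → Y is quasi-compact and surjective and the base change X ×_Y Y' → Y' of f : X → Y is
quasi-separated, then f is quasi-separated. -/
theorem result {X Y Y' : Scheme.{u}} (f : X ⟶ Y)
    (g : Y' ⟶ Y) [QuasiCompact g] [Surjective g] [QuasiSeparated (pullback.snd f g)] :
    QuasiSeparated f := by
  have := qc_descends.{u}
  have hd : MorphismProperty.DescendsAlong (@QuasiSeparated)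
      (@Surjective ⊓ @QuasiCompact : MorphismProperty Scheme.{u}) := by
    rw [quasiSeparated_eq_diagonal_is_quasiCompact]
    infer_instance
  exact MorphismProperty.of_pullback_snd_of_descendsAlong (P := @QuasiSeparated)
    (Q := (@Surjective ⊓ @QuasiCompact : MorphismProperty Scheme.{u})) (f := f) (g := g)
    ⟨inferInstance, inferInstance⟩ inferInstance

end Groth.Agent.S4598
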