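import Groth.Statements.S4601
import Mathlib


set_option autoImplicit false
universe u
open TensorProduct
open CAlg

namespace H14S4601
open TensorProduct

theorem isNilpotent_lTensor_nil {A B K' : Type*} [CommRing A] [CommRing B] [Algebra A B]
    [CommRing K'] [Algebra A K'] (z : K' ⊗[A] (nilradical B)) :
    IsNilpotent (((nilradical B).subtype.restrictScalars A).lTensor K' z) := by
  induction z using TensorProduct.induction_on with
  | zero => simp
  | tmul k b =>
    obtain ⟨m, hm⟩ : IsNilpotent (b : B) := b.2
    refine ⟨m, ?_⟩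
    simp only [LinearMap.lTensor_tmul, LinearMap.coe_restrictScalars, Submodule.subtype_apply]
    rw [Algebra.TensorProduct.tmul_pow, hm, tmul_zero]
  | add z w hz hw =>
    rw [map_add]
    exact (Commute.all _ _).isNilpotent_add hz hw

theorem main {A B K' R : Type*} [CommRing A]
    [IsDomain A] [CommRing B] [Algebra A B] [Module.Flat A B]
    [Field K'] [Algebra A K'] [Algebra (FractionRing A) K'] [IsScalarTower A (FractionRing A) K']
    [CommRing R] [Algebra (B ⧸ nilradical B) R] [IsFractionRing (B ⧸ nilradical B) R]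
    [Algebra B R] [IsScalarTower B (B ⧸ nilradical B) R] [Algebra A R] [IsScalarTower A B R]
    (A' : Subalgebra A K') (x : ↥A' ⊗[A] B)
    (hx : IsNilpotent (Algebra.TensorProduct.map A'.val (IsScalarTower.toAlgHom A B R) x)) :
    IsNilpotent x := by
  have hflatK' : Module.Flat A K' := Module.Flat.trans A (FractionRing A) K'
  -- the maps
  let f : B →ₗ[A] R := (IsScalarTower.toAlgHom A B R).toLinearMap
  let q : B →ₗ[A] (B ⧸ nilradical B) := ((nilradical B).mkQ).restrictScalars A
  have htower : IsScalarTower A (B ⧸ nilradical B) R := by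
    refine IsScalarTower.of_algebraMap_eq fun a => ?_
    rw [IsScalarTower.algebraMap_apply A B R, IsScalarTower.algebraMap_apply B (B ⧸ nilradical B) R,
      ← IsScalarTower.algebraMap_apply A B (B ⧸ nilradical B)]
  let g : (B ⧸ nilradical B) →ₗ[A] R := (IsScalarTower.toAlgHom A (B ⧸ nilradical B) R).toLinearMap
  have hg : Function.Injective g := IsFractionRing.injective (B ⧸ nilradical B) R
  have hfgq : f = g ∘ₗ q := by
    ext b
    change algebraMap B R b = algebraMap (B ⧸ nilradical B) R (Ideal.Quotient.mk _ b)
    rw [IsScalarTower.algebraMap_apply B (B ⧸ nilradical B) R]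
    rfl
  have hgK : Function.Injective (g.lTensor K') := Module.Flat.lTensor_preserves_injective_linearMap g hg
  have hexact : Function.Exact (((nilradical B).subtype.restrictScalars A).lTensor K') (q.lTensor K') := by
    refine lTensor_exact K' ?_ ?_
    · intro b
      change (nilradical B).mkQ b = 0 ↔ b ∈ Set.range (nilradical B).subtype
      rw [Submodule.mkQ_apply, Submodule.Quotient.mk_eq_zero]
      exact ⟨fun h => ⟨⟨b, h⟩, rfl⟩, fun ⟨c, hc⟩ => hc ▸ c.2⟩
    · exact Submodule.mkQ_surjective _
  -- φ₁
  let φ₁ : ↥A' ⊗[A] B →ₐ[A] K' ⊗[A] B := Algebra.TensorProduct.map A'.val (AlgHom.id A B)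
  have hφ₁ : Function.Injective φ₁ := by
    have : (φ₁ : ↥A' ⊗[A] B → K' ⊗[A] B) = (A'.val.toLinearMap.rTensor B) := by
      ext z
      induction z using TensorProduct.induction_on with
      | zero => simp
      | tmul a b => simp [φ₁]
      | add z w hz hw => simp only [map_add, hz, hw]
    rw [this]
    exact Module.Flat.rTensor_preserves_injective_linearMap _ Subtype.val_injective
  have hcomp : ∀ z : ↥A' ⊗[A] B, Algebra.TensorProduct.map A'.val (IsScalarTower.toAlgHom A B R) z
      = f.lTensor K' (φ₁ z) := by
    intro z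
    induction z using TensorProduct.induction_on with
    | zero => simp
    | tmul a b => simp [φ₁, f]
    | add z w hz hw => simp only [map_add, hz, hw]
  obtain ⟨n, hn⟩ := hx
  have h1 : f.lTensor K' ((φ₁ x) ^ n) = 0 := by
    rw [← map_pow, ← hcomp, map_pow, hn]
  rw [hfgq, LinearMap.lTensor_comp, LinearMap.comp_apply] at h1
  have h2 : q.lTensor K' ((φ₁ x) ^ n) = 0 := hgK (by rw [h1, map_zero])
  obtain ⟨z, hz⟩ := (hexact _).1 h2
  have h3 : IsNilpotent ((φ₁ x) ^ n) := hz ▸ isNilpotent_lTensor_nil z
  obtain ⟨m, hm⟩ := h3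
  refine ⟨n * m, hφ₁ ?_⟩
  rw [map_pow, pow_mul, hm, map_zero]

end H14S4601

namespace Groth.Agent.S4601

/-- Let A be a domain with fraction field K, B a Noetherian A-algebra which is flat over A, K' an
extension field of K, B₁ = B_red and R its total ring of fractions. For every sub-A-algebra A' of
K', the map (A' ⊗_A B)_red → (K' ⊗_A R)_red is injective, i.e. an element of A' ⊗_A B with nilpotent
image in K' ⊗_A R is nilpotent. -/
theorem result {A B K' R : Type u} [CommRing A]
    [IsDomain A] [CommRing B] [Algebra A B] [IsNoetherianRing B] [Module.Flat A B]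
    [Field K'] [Algebra A K'] [Algebra (FractionRing A) K'] [IsScalarTower A (FractionRing A) K']
    [CommRing R] [Algebra (B ⧸ nilradical B) R] [IsFractionRing (B ⧸ nilradical B) R]
    [Algebra B R] [IsScalarTower B (B ⧸ nilradical B) R] [Algebra A R] [IsScalarTower A B R]
    (A' : Subalgebra A K') (x : ↥A' ⊗[A] B)
    (hx : IsNilpotent (Algebra.TensorProduct.map A'.val (IsScalarTower.toAlgHom A B R) x)) :
    IsNilpotent x := by
  exact H14S4601.main A' x hx

end Groth.Agent.S4601
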