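import Groth.Statements.S4603
import Mathlib
import Groth.Agent.Lib.helper7.PC7

set_option autoImplicit false
universe u
open AlgebraicGeometry CategoryTheory
open EGA41

namespace Groth.Agent.S4603

open Groth.Agent.Lib.helper7

theorem exists_maximal_generization {X : Type*} [TopologicalSpace X] [QuasiSober X] [T0Space X]
    (x : X) : ∃ x' : X, (∀ z : X, z ⤳ x' → z = x') ∧ x' ⤳ x := by
  have hirr : IsIrreducible (irreducibleComponent x) := isIrreducible_irreducibleComponent
  have hcl : IsClosed (irreducibleComponent x) := isClosed_irreducibleComponent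
  obtain ⟨ξ, hξ⟩ := QuasiSober.sober hirr hcl
  refine ⟨ξ, fun z hz => ?_, hξ.specializes mem_irreducibleComponent⟩
  have h1 : irreducibleComponent x ⊆ closure {z} := by
    rw [← hξ.def]; exact specializes_iff_closure_subset.mp hz
  have h2 : closure {z} = irreducibleComponent x :=
    (irreducibleComponent_property x).2.2 (closure {z})
      isIrreducible_singleton.closure.isPreirreducible h1
  exact IsGenericPoint.eq (h2 : IsGenericPoint z _) hξ

/-- Let f : X → Y be quasi-compact. The following are equivalent: f is dominant; the fibre of f over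
every maximal point of Y (a point with no proper generization, i.e. the generic point of an
irreducible component) is nonempty; every maximal point of Y is the image of a maximal point of X. -/
theorem result {X Y : Scheme.{u}} (f : X ⟶ Y) [QuasiCompact f] :
    [IsDominant f,
     ∀ y : Y, (∀ y' : Y, y' ⤳ y → y' = y) → y ∈ Set.range f.base,
     ∀ y : Y, (∀ y' : Y, y' ⤳ y → y' = y) → ∃ x : X, (∀ x' : X, x' ⤳ x → x' = x) ∧ f.base x = y].TFAE := by
  tfae_have 1 → 2 := by
    intro hdom y hy
    have hy' : y ∈ closure (Set.range f) := by
      rw [hdom.denseRange.closure_range]; trivial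
    obtain ⟨z, hz, hzy⟩ := PC.exists_specializes_of_mem_closure_of_isProConstructible
      (PC.isProConstructible_range f) hy'
    rw [hy z hzy] at hz
    exact hz
  tfae_have 2 → 3 := by
    intro h y hy
    obtain ⟨x, hx⟩ := h y hy
    obtain ⟨x', hx'max, hx'x⟩ := exists_maximal_generization x
    refine ⟨x', hx'max, ?_⟩
    have h1 : f x' ⤳ f x := hx'x.map f.continuous
    rw [hx] at h1
    exact hy _ h1
  tfae_have 3 → 1 := by
    intro h
    refine ⟨fun y => ?_⟩
    obtain ⟨y', hy'max, hy'y⟩ := exists_maximal_generization y
    obtain ⟨x, -, hx⟩ := h y' hy'max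
    have hmem : y' ∈ Set.range f := ⟨x, hx⟩
    exact closure_mono (Set.singleton_subset_iff.mpr hmem) (specializes_iff_mem_closure.mp hy'y)
  tfae_finish

end Groth.Agent.S4603
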