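import Groth.Statements.S4604
import Mathlib

set_option autoImplicit false
universe u
open IsLocalRing
open EGA41

namespace Groth.Agent.S4604

namespace S4604aux
open IsLocalRing MvPolynomial

variable {A : Type u} [CommRing A] [IsLocalRing A] {r : ℕ}

noncomputable def F (d : Fin r → ℕ) (c : Fin r → ℕ → A) : Fin r → MvPolynomial (Fin r) A := fun i =>
  X i ^ d i + (Finset.range (d i)).sum fun k => C (c i k) * X i ^ k

noncomputable abbrev Iq (d : Fin r → ℕ) (c : Fin r → ℕ → A) : Ideal (MvPolynomial (Fin r) A) :=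
  Ideal.span (Set.range (F d c))

abbrev A' (d : Fin r → ℕ) (c : Fin r → ℕ → A) : Type u := MvPolynomial (Fin r) A ⧸ Iq d c

noncomputable abbrev T (d : Fin r → ℕ) (c : Fin r → ℕ → A) (i : Fin r) : A' d c :=
  Ideal.Quotient.mk (Iq d c) (X i)

theorem alg_eq (d : Fin r → ℕ) (c : Fin r → ℕ → A) (a : A) :
    algebraMap A (A' d c) a = Ideal.Quotient.mk (Iq d c) (C a) := rfl

/-- the relation `T_i^{d_i} + ∑ c_{ik} T_i^k = 0` -/
theorem rel (d : Fin r → ℕ) (c : Fin r → ℕ → A) (i : Fin r) :
    T d c i ^ d i + (Finset.range (d i)).sum (fun k => algebraMap A (A' d c) (c i k) * T d c i ^ k)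
      = 0 := by
  have h : Ideal.Quotient.mk (Iq d c) (F d c i) = 0 :=
    Ideal.Quotient.eq_zero_iff_mem.mpr (Ideal.subset_span ⟨i, rfl⟩)
  rw [F, map_add, map_pow, map_sum] at h
  simp only [map_mul, map_pow] at h
  exact h

/-- decomposition of an element as constant + element of the span of the `T_i` -/
theorem decomp (d : Fin r → ℕ) (c : Fin r → ℕ → A) (x : A' d c) :
    ∃ a : A, x - algebraMap A (A' d c) a ∈ Ideal.span (Set.range (T d c)) := by
  obtain ⟨p, rfl⟩ := Ideal.Quotient.mk_surjective x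
  refine ⟨constantCoeff p, ?_⟩
  have h1 : p - C (constantCoeff p) ∈ idealOfVars (Fin r) A := by
    have := (mem_pow_idealOfVars_iff' 1 (p - C (constantCoeff p))).mpr (by
      intro m hm
      have hm0 : m = 0 := by
        have : m.degree = 0 := by omega
        exact (Finsupp.degree_eq_zero_iff m).mp this
      subst hm0
      simp [← constantCoeff_eq])
    simpa using this
  have h2 := Ideal.mem_map_of_mem (Ideal.Quotient.mk (Iq d c)) h1
  rw [Ideal.map_span, ← Set.range_comp] at h2
  rw [alg_eq, ← map_sub]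
  exact h2

/-- the ideal `(c_{i0})` of `A` -/
noncomputable abbrev J (c : Fin r → ℕ → A) : Ideal A := Ideal.span (Set.range fun i => c i 0)

/-- the projection `A' → A/(c_{i0})`, `T_i ↦ 0` -/
noncomputable def π (d : Fin r → ℕ) (hd : ∀ i, 2 ≤ d i) (c : Fin r → ℕ → A) :
    A' d c →+* A ⧸ J c :=
  Ideal.Quotient.lift (Iq d c) (eval₂Hom (Ideal.Quotient.mk (J c)) (fun _ => 0)) (by
    have : Iq d c ≤ RingHom.ker (eval₂Hom (Ideal.Quotient.mk (J c)) (fun _ : Fin r => (0 : A ⧸ J c))) := by
      rw [Ideal.span_le]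
      rintro _ ⟨i, rfl⟩
      rw [SetLike.mem_coe, RingHom.mem_ker, F, map_add, map_pow, map_sum]
      have hdi : d i ≠ 0 := by have := hd i; omega
      simp only [map_mul, map_pow, coe_eval₂Hom, eval₂_X, eval₂_C, zero_pow hdi, zero_add]
      rw [Finset.sum_eq_single 0]
      · rw [pow_zero, mul_one]
        exact Ideal.Quotient.eq_zero_iff_mem.mpr (Ideal.subset_span ⟨i, rfl⟩)
      · intro k _ hk
        rw [zero_pow hk, mul_zero]
      · intro h0
        exfalso
        apply h0
        rw [Finset.mem_range]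
        omega
    intro a ha
    exact this ha)

theorem π_alg (d : Fin r → ℕ) (hd : ∀ i, 2 ≤ d i) (c : Fin r → ℕ → A) (a : A) :
    π d hd c (algebraMap A (A' d c) a) = Ideal.Quotient.mk (J c) a := by
  rw [alg_eq, π, Ideal.Quotient.lift_mk, coe_eval₂Hom, eval₂_C]

theorem π_T (d : Fin r → ℕ) (hd : ∀ i, 2 ≤ d i) (c : Fin r → ℕ → A) (i : Fin r) :
    π d hd c (T d c i) = 0 := by
  rw [T, π, Ideal.Quotient.lift_mk, coe_eval₂Hom, eval₂_X]

/-- the ideal `𝔫' = 𝔪 A' + (T_i)` -/
noncomputable def nn (d : Fin r → ℕ) (c : Fin r → ℕ → A) : Ideal (A' d c) :=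
  (maximalIdeal A).map (algebraMap A (A' d c)) ⊔ Ideal.span (Set.range (T d c))

theorem map_sq (hm : maximalIdeal A ^ 2 = ⊥) (d : Fin r → ℕ) (c : Fin r → ℕ → A) {x y : A' d c}
    (hx : x ∈ (maximalIdeal A).map (algebraMap A (A' d c)))
    (hy : y ∈ (maximalIdeal A).map (algebraMap A (A' d c))) : x * y = 0 := by
  have : x * y ∈ ((maximalIdeal A).map (algebraMap A (A' d c))) *
      ((maximalIdeal A).map (algebraMap A (A' d c))) := Ideal.mul_mem_mul hx hy
  rw [← Ideal.map_mul, ← sq, hm, Ideal.map_bot] at this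
  exact this

theorem T_pow_mem (d : Fin r → ℕ) (c : Fin r → ℕ → A) (hc : ∀ i k, c i k ∈ maximalIdeal A)
    (i : Fin r) : T d c i ^ d i ∈ (maximalIdeal A).map (algebraMap A (A' d c)) := by
  have h := rel d c i
  have : T d c i ^ d i =
      -(Finset.range (d i)).sum (fun k => algebraMap A (A' d c) (c i k) * T d c i ^ k) :=
    eq_neg_of_add_eq_zero_left h
  rw [this]
  refine neg_mem (Ideal.sum_mem _ fun k _ => ?_)
  exact Ideal.mul_mem_right _ _ (Ideal.mem_map_of_mem _ (hc i k))

theorem nn_le_nilradical (hm : maximalIdeal A ^ 2 = ⊥) (d : Fin r → ℕ) (c : Fin r → ℕ → A)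
    (hc : ∀ i k, c i k ∈ maximalIdeal A) : nn d c ≤ nilradical (A' d c) := by
  refine sup_le ?_ ?_
  · intro x hx
    rw [mem_nilradical]
    exact ⟨2, by rw [sq]; exact map_sq hm d c hx hx⟩
  · rw [Ideal.span_le]
    rintro _ ⟨i, rfl⟩
    rw [SetLike.mem_coe, mem_nilradical]
    refine ⟨d i + d i, ?_⟩
    rw [pow_add]
    exact map_sq hm d c (T_pow_mem d c hc i) (T_pow_mem d c hc i)

theorem J_le (c : Fin r → ℕ → A) (hc : ∀ i k, c i k ∈ maximalIdeal A) : J c ≤ maximalIdeal A := by
  rw [Ideal.span_le]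
  rintro _ ⟨i, rfl⟩
  exact hc i 0

theorem nontrivial_A' (d : Fin r → ℕ) (hd : ∀ i, 2 ≤ d i) (c : Fin r → ℕ → A)
    (hc : ∀ i k, c i k ∈ maximalIdeal A) : Nontrivial (A' d c) := by
  haveI : Nontrivial (A ⧸ J c) :=
    Ideal.Quotient.nontrivial_iff.mpr (fun h => (maximalIdeal.isMaximal A).ne_top
      (top_le_iff.mp (h ▸ J_le c hc)))
  exact RingHom.domain_nontrivial (π d hd c)

theorem dichotomy (hm : maximalIdeal A ^ 2 = ⊥) (d : Fin r → ℕ) (c : Fin r → ℕ → A)
    (hc : ∀ i k, c i k ∈ maximalIdeal A) (x : A' d c) : x ∈ nn d c ∨ IsUnit x := by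
  obtain ⟨a, ha⟩ := decomp d c x
  by_cases hA : a ∈ maximalIdeal A
  · left
    have : x = algebraMap A (A' d c) a + (x - algebraMap A (A' d c) a) := by ring
    rw [this]
    exact add_mem (Ideal.mem_sup_left (Ideal.mem_map_of_mem _ hA)) (Ideal.mem_sup_right ha)
  · right
    have hu : IsUnit a := by
      by_contra h
      exact hA ((mem_maximalIdeal a).mpr h)
    have hnil : IsNilpotent (x - algebraMap A (A' d c) a) :=
      mem_nilradical.mp (nn_le_nilradical hm d c hc (Ideal.mem_sup_right ha))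
    have : x = algebraMap A (A' d c) a + (x - algebraMap A (A' d c) a) := by ring
    rw [this]
    exact hnil.isUnit_add_left_of_commute (hu.map _) (Commute.all _ _)

theorem isLocalRing_A' (hm : maximalIdeal A ^ 2 = ⊥) (d : Fin r → ℕ) (hd : ∀ i, 2 ≤ d i)
    (c : Fin r → ℕ → A) (hc : ∀ i k, c i k ∈ maximalIdeal A) : IsLocalRing (A' d c) := by
  haveI := nontrivial_A' d hd c hc
  refine IsLocalRing.of_nonunits_add ?_
  intro x y hx hy
  have hx' : x ∈ nn d c := (dichotomy hm d c hc x).resolve_right hx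
  have hy' : y ∈ nn d c := (dichotomy hm d c hc y).resolve_right hy
  have hxy : x + y ∈ nn d c := add_mem hx' hy'
  intro hu
  have hnil : IsNilpotent (x + y) := mem_nilradical.mp (nn_le_nilradical hm d c hc hxy)
  obtain ⟨n, hn⟩ := hnil
  have := hu.pow n
  rw [hn] at this
  exact not_isUnit_zero this

theorem maximalIdeal_eq (hm : maximalIdeal A ^ 2 = ⊥) (d : Fin r → ℕ)
    (c : Fin r → ℕ → A) (hc : ∀ i k, c i k ∈ maximalIdeal A) [IsLocalRing (A' d c)] :
    maximalIdeal (A' d c) = nn d c := by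
  ext x
  rw [mem_maximalIdeal, mem_nonunits_iff]
  constructor
  · intro hx
    exact (dichotomy hm d c hc x).resolve_right hx
  · intro hx hu
    obtain ⟨n, hn⟩ := mem_nilradical.mp (nn_le_nilradical hm d c hc hx)
    have := hu.pow n
    rw [hn] at this
    exact not_isUnit_zero this

theorem main (hm : maximalIdeal A ^ 2 = ⊥) (d : Fin r → ℕ) (hd : ∀ i, 2 ≤ d i)
    (c : Fin r → ℕ → A) (hc : ∀ i k, c i k ∈ maximalIdeal A) :
    ∃ _ : IsLocalRing (A' d c),
      Function.Surjective ((Ideal.Quotient.mk (maximalIdeal (A' d c))).comp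
        (algebraMap A (A' d c))) ∧
      maximalIdeal A ⊓ Ideal.comap (algebraMap A (A' d c)) (maximalIdeal (A' d c) ^ 2) = J c := by
  haveI hloc := isLocalRing_A' hm d hd c hc
  refine ⟨hloc, ?_, ?_⟩
  · intro y
    obtain ⟨x, rfl⟩ := Ideal.Quotient.mk_surjective y
    obtain ⟨a, ha⟩ := decomp d c x
    refine ⟨a, ?_⟩
    rw [RingHom.comp_apply, eq_comm, Ideal.Quotient.eq, maximalIdeal_eq hm d c hc]
    exact Ideal.mem_sup_right ha
  · apply le_antisymm
    · rintro a ⟨ha, ha2⟩
      rw [SetLike.mem_coe, Ideal.mem_comap, maximalIdeal_eq hm d c hc] at ha2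
      have hπ : nn d c ≤ Ideal.comap (π d hd c)
          ((maximalIdeal A).map (Ideal.Quotient.mk (J c))) := by
        refine sup_le ?_ ?_
        · rw [Ideal.map_le_iff_le_comap]
          intro b hb
          rw [Ideal.mem_comap, Ideal.mem_comap, π_alg]
          exact Ideal.mem_map_of_mem _ hb
        · rw [Ideal.span_le]
          rintro _ ⟨i, rfl⟩
          rw [SetLike.mem_coe, Ideal.mem_comap, π_T]
          exact zero_mem _
      have h2 : nn d c ^ 2 ≤ Ideal.comap (π d hd c) ⊥ := by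
        calc nn d c ^ 2
            ≤ (Ideal.comap (π d hd c) ((maximalIdeal A).map (Ideal.Quotient.mk (J c)))) ^ 2 :=
              Ideal.pow_right_mono hπ 2
          _ ≤ Ideal.comap (π d hd c) (((maximalIdeal A).map (Ideal.Quotient.mk (J c))) ^ 2) :=
              Ideal.le_comap_pow _ 2
          _ = Ideal.comap (π d hd c) ⊥ := by rw [← Ideal.map_pow, hm, Ideal.map_bot]
      have := h2 ha2
      rw [Ideal.mem_comap, π_alg, Ideal.mem_bot, Ideal.Quotient.eq_zero_iff_mem] at this
      exact this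
    · rw [Ideal.span_le]
      rintro _ ⟨i, rfl⟩
      refine ⟨hc i 0, ?_⟩
      rw [SetLike.mem_coe, Ideal.mem_comap, maximalIdeal_eq hm d c hc]
      have hT : T d c i ∈ nn d c := Ideal.mem_sup_right (Ideal.subset_span ⟨i, rfl⟩)
      have hcm : ∀ k, algebraMap A (A' d c) (c i k) ∈ nn d c :=
        fun k => Ideal.mem_sup_left (Ideal.mem_map_of_mem _ (hc i k))
      obtain ⟨n, hn⟩ : ∃ n, d i = n + 2 := ⟨d i - 2, by have := hd i; omega⟩
      have h := rel d c i
      rw [hn, Finset.sum_range_succ', pow_zero, mul_one] at h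
      have e : algebraMap A (A' d c) (c i 0) = -(T d c i ^ (n + 2) +
          (Finset.range (n + 1)).sum
            (fun k => algebraMap A (A' d c) (c i (k + 1)) * T d c i ^ (k + 1))) := by
        linear_combination h
      rw [e]
      refine neg_mem (add_mem ?_ (Ideal.sum_mem _ fun k _ => ?_))
      · rw [pow_add]
        exact Ideal.mul_mem_left _ _ (Ideal.pow_mem_pow hT 2)
      · rw [sq, pow_succ]
        exact Ideal.mul_mem_mul (hcm _) (Ideal.mul_mem_left _ _ hT)

end S4604aux

/-- (i) and the kernel statement of (ii): let A be a local ring with maximal ideal m of square zero,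
F_i(T_i) = T_i^{d_i} + Σ_{k<d_i} c_{ik} T_i^k (1 ≤ i ≤ r) monic of degrees d_i ≥ 2 with non-leading
coefficients in m, and A' = A[T_1, …, T_r]/(F_1, …, F_r). Then A' is local with residue field K, and
the kernel of m → m'/m'² (m' the maximal ideal of A') is the ideal generated by the constant terms
c_{i0}. -/
theorem result {A : Type u} [CommRing A] [IsLocalRing A]
    (hm : maximalIdeal A ^ 2 = ⊥) {r : ℕ} (d : Fin r → ℕ) (hd : ∀ i, 2 ≤ d i) (c : Fin r → ℕ → A)
    (hc : ∀ i k, c i k ∈ maximalIdeal A) :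
    let F : Fin r → MvPolynomial (Fin r) A := fun i =>
      MvPolynomial.X i ^ d i + (Finset.range (d i)).sum fun k => MvPolynomial.C (c i k) * MvPolynomial.X i ^ k
    ∃ _ : IsLocalRing (MvPolynomial (Fin r) A ⧸ Ideal.span (Set.range F)),
      Function.Surjective ((Ideal.Quotient.mk (maximalIdeal (MvPolynomial (Fin r) A ⧸ Ideal.span (Set.range F)))).comp
        (algebraMap A (MvPolynomial (Fin r) A ⧸ Ideal.span (Set.range F)))) ∧
      maximalIdeal A ⊓ Ideal.comap (algebraMap A (MvPolynomial (Fin r) A ⧸ Ideal.span (Set.range F)))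
          (maximalIdeal (MvPolynomial (Fin r) A ⧸ Ideal.span (Set.range F)) ^ 2) =
        Ideal.span (Set.range fun i => c i 0) := by
  intro F
  exact S4604aux.main hm d hd c hc

end Groth.Agent.S4604
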