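import Groth.Statements.S4607
import Mathlib

set_option autoImplicit false
universe u
open TensorProduct
open EGA41

namespace Groth.Agent.S4607

theorem exists_lift {A A' A'' T : Type u} [CommRing A] [CommRing A'] [CommRing A''] [CommRing T]
    [Algebra A A'] [Algebra A A''] (g' : A' →+* T) (g'' : A'' →+* T)
    (h : g'.comp (algebraMap A A') = g''.comp (algebraMap A A'')) :
    ∃ φ : A' ⊗[A] A'' →+* T, φ.comp (algebraMap A (A' ⊗[A] A'')) = g'.comp (algebraMap A A') := by
  let _ : Algebra A T := (g'.comp (algebraMap A A')).toAlgebra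
  let f1 : A' →ₐ[A] T := { g' with commutes' := fun r => rfl }
  have hc : ∀ r : A, g'' (algebraMap A A'' r) = algebraMap A T r := fun r => by
    have := congrArg (fun f => f r) h
    simpa [RingHom.algebraMap_toAlgebra] using this.symm
  let f2 : A'' →ₐ[A] T := { g'' with commutes' := hc }
  let φ : A' ⊗[A] A'' →ₐ[A] T := Algebra.TensorProduct.lift f1 f2 (fun _ _ => Commute.all _ _)
  refine ⟨φ.toRingHom, ?_⟩
  ext r
  simpa [RingHom.algebraMap_toAlgebra] using φ.commutes r


/-- First assertion, case of two factors: for A-algebras A' and A'' the image of Spec(A' ⊗_A A'') in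
Spec A is the intersection of the images of Spec A' and Spec A''. -/
theorem result {A A' A'' : Type u} [CommRing A] [CommRing A'] [CommRing A'']
    [Algebra A A'] [Algebra A A''] :
    Set.range (PrimeSpectrum.comap (algebraMap A (A' ⊗[A] A''))) =
      Set.range (PrimeSpectrum.comap (algebraMap A A')) ∩ Set.range (PrimeSpectrum.comap (algebraMap A A'')) := by
  apply Set.Subset.antisymm
  · rintro _ ⟨q, rfl⟩
    constructor
    · refine ⟨PrimeSpectrum.comap (Algebra.TensorProduct.includeLeft : A' →ₐ[A] A' ⊗[A] A'').toRingHom q, ?_⟩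
      have e1 : (Algebra.TensorProduct.includeLeft : A' →ₐ[A] A' ⊗[A] A'').toRingHom.comp
          (algebraMap A A') = algebraMap A _ :=
        RingHom.ext fun r => (Algebra.TensorProduct.includeLeft : A' →ₐ[A] A' ⊗[A] A'').commutes r
      rw [← PrimeSpectrum.comap_comp_apply, e1]
    · refine ⟨PrimeSpectrum.comap (Algebra.TensorProduct.includeRight : A'' →ₐ[A] A' ⊗[A] A'').toRingHom q, ?_⟩
      have e1 : (Algebra.TensorProduct.includeRight : A'' →ₐ[A] A' ⊗[A] A'').toRingHom.comp
          (algebraMap A A'') = algebraMap A _ :=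
        RingHom.ext fun r => (Algebra.TensorProduct.includeRight : A'' →ₐ[A] A' ⊗[A] A'').commutes r
      rw [← PrimeSpectrum.comap_comp_apply, e1]
  · rintro p ⟨hp', hp''⟩
    rw [← PrimeSpectrum.nontrivial_iff_mem_rangeComap] at hp' hp''
    let κ := p.asIdeal.ResidueField
    let V := κ ⊗[A] A'
    let W := κ ⊗[A] A''
    have hW : Function.Injective (algebraMap κ W) := (algebraMap κ W).injective
    have hT : Nontrivial (V ⊗[κ] W) :=
      Algebra.TensorProduct.nontrivial_of_algebraMap_injective_of_flat_left κ V W hW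
    let g' : A' →+* V ⊗[κ] W :=
      (Algebra.TensorProduct.includeLeft : V →ₐ[κ] V ⊗[κ] W).toRingHom.comp
        (Algebra.TensorProduct.includeRight : A' →ₐ[A] V).toRingHom
    let g'' : A'' →+* V ⊗[κ] W :=
      (Algebra.TensorProduct.includeRight : W →ₐ[κ] V ⊗[κ] W).toRingHom.comp
        (Algebra.TensorProduct.includeRight : A'' →ₐ[A] W).toRingHom
    have h1 : g'.comp (algebraMap A A') = (algebraMap κ (V ⊗[κ] W)).comp (algebraMap A κ) := by
      ext r
      show ((1 : κ) ⊗ₜ[A] (algebraMap A A' r)) ⊗ₜ[κ] (1 : W) =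
        algebraMap κ (V ⊗[κ] W) (algebraMap A κ r)
      rw [Algebra.TensorProduct.algebraMap_apply, Algebra.TensorProduct.algebraMap_apply]
      congr 1
      rw [Algebra.algebraMap_eq_smul_one r, Algebra.algebraMap_eq_smul_one r,
        Algebra.algebraMap_self_apply, TensorProduct.smul_tmul]
    have h2 : g''.comp (algebraMap A A'') = (algebraMap κ (V ⊗[κ] W)).comp (algebraMap A κ) := by
      ext r
      show (1 : V) ⊗ₜ[κ] ((1 : κ) ⊗ₜ[A] (algebraMap A A'' r)) =
        algebraMap κ (V ⊗[κ] W) (algebraMap A κ r)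
      rw [Algebra.TensorProduct.algebraMap_apply, Algebra.TensorProduct.algebraMap_apply]
      rw [Algebra.algebraMap_eq_smul_one r, Algebra.algebraMap_eq_smul_one r,
        Algebra.algebraMap_self_apply]
      have hw : ((1 : κ) ⊗ₜ[A] (r • (1 : A'')) : W) = (r • (1:κ)) • ((1 : κ) ⊗ₜ[A] (1 : A'') : W) := by
        rw [TensorProduct.smul_tmul', smul_eq_mul, mul_one, TensorProduct.smul_tmul]
      rw [hw, TensorProduct.tmul_smul, TensorProduct.smul_tmul']
      congr 1
      rw [Algebra.TensorProduct.one_def, TensorProduct.smul_tmul', smul_eq_mul, mul_one]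
    obtain ⟨φ, hφ⟩ := exists_lift g' g'' (h1.trans h2.symm)
    obtain ⟨m, hm⟩ := Ideal.exists_maximal (V ⊗[κ] W)
    refine ⟨PrimeSpectrum.comap φ ⟨m, hm.isPrime⟩, ?_⟩
    rw [← PrimeSpectrum.comap_comp_apply, hφ, h1, PrimeSpectrum.comap_comp_apply]
    ext : 1
    simp [Ideal.eq_bot_of_prime, κ, ← RingHom.ker_eq_comap_bot]

end Groth.Agent.S4607
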