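import Groth.Statements.S4608
import Mathlib

set_option autoImplicit false
universe u
open AlgebraicGeometry CategoryTheory CategoryTheory.Limits
open EGA41

namespace Groth.Agent.S4608

/-- A morphism from a disjoint union X' ⨿ X'' → Y is quasi-compact if and only if its two components
are. -/
theorem result {X' X'' Y : Scheme.{u}} (f' : X' ⟶ Y) (f'' : X'' ⟶ Y) :
    QuasiCompact (coprod.desc f' f'') ↔ QuasiCompact f' ∧ QuasiCompact f'' := by
  have hinl : Topology.IsClosedEmbedding (coprod.inl : X' ⟶ X' ⨿ X'') := by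
    refine ⟨(coprod.inl : X' ⟶ X' ⨿ X'').isOpenEmbedding.isEmbedding, ?_⟩
    rw [(isCompl_range_inl_inr X' X'').eq_compl]
    exact (coprod.inr : X'' ⟶ X' ⨿ X'').isOpenEmbedding.isOpen_range.isClosed_compl
  have hinr : Topology.IsClosedEmbedding (coprod.inr : X'' ⟶ X' ⨿ X'') := by
    refine ⟨(coprod.inr : X'' ⟶ X' ⨿ X'').isOpenEmbedding.isEmbedding, ?_⟩
    rw [(isCompl_range_inl_inr X' X'').symm.eq_compl]
    exact (coprod.inl : X' ⟶ X' ⨿ X'').isOpenEmbedding.isOpen_range.isClosed_compl
  have hl : ∀ x, (coprod.desc f' f'') ((coprod.inl : X' ⟶ X' ⨿ X'') x) = f' x := fun x => by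
    rw [← Scheme.Hom.comp_apply, coprod.inl_desc]
  have hr : ∀ x, (coprod.desc f' f'') ((coprod.inr : X'' ⟶ X' ⨿ X'') x) = f'' x := fun x => by
    rw [← Scheme.Hom.comp_apply, coprod.inr_desc]
  constructor
  · intro h
    refine ⟨⟨fun U hU hUc => ?_⟩, ⟨fun U hU hUc => ?_⟩⟩
    · have := hinl.isCompact_preimage (h.isCompact_preimage U hU hUc)
      convert this using 1
      ext x
      simp [hl]
    · have := hinr.isCompact_preimage (h.isCompact_preimage U hU hUc)
      convert this using 1
      ext x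
      simp [hr]
  · rintro ⟨h1, h2⟩
    refine ⟨fun U hU hUc => ?_⟩
    have e : (coprod.desc f' f'') ⁻¹' U =
        (coprod.inl : X' ⟶ X' ⨿ X'') '' (f' ⁻¹' U) ∪ (coprod.inr : X'' ⟶ X' ⨿ X'') '' (f'' ⁻¹' U) := by
      ext z
      have hz : z ∈ Set.range (coprod.inl : X' ⟶ X' ⨿ X'') ∪ Set.range (coprod.inr : X'' ⟶ X' ⨿ X'') := by
        have := (isCompl_range_inl_inr X' X'').sup_eq_top
        change Set.range _ ∪ Set.range _ = Set.univ at this
        rw [this]
        trivial
      rcases hz with ⟨x, rfl⟩ | ⟨x, rfl⟩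
      · simp only [Set.mem_preimage, hl, Set.mem_union, Set.mem_image]
        constructor
        · intro hx
          exact Or.inl ⟨x, hx, rfl⟩
        · rintro (⟨y, hy, hxy⟩ | ⟨y, hy, hxy⟩)
          · rwa [hinl.injective hxy] at hy
          · exact absurd hxy.symm (inl_ne_inr X' X'' x y)
      · simp only [Set.mem_preimage, hr, Set.mem_union, Set.mem_image]
        constructor
        · intro hx
          exact Or.inr ⟨x, hx, rfl⟩
        · rintro (⟨y, hy, hxy⟩ | ⟨y, hy, hxy⟩)
          · exact absurd hxy (inl_ne_inr X' X'' y x)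
          · rwa [hinr.injective hxy] at hy
    rw [e]
    exact ((h1.isCompact_preimage U hU hUc).image (coprod.inl : X' ⟶ X' ⨿ X'').continuous).union
      ((h2.isCompact_preimage U hU hUc).image (coprod.inr : X'' ⟶ X' ⨿ X'').continuous)

end Groth.Agent.S4608
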