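import Groth.Statements.S4609
import Mathlib

set_option autoImplicit false
universe u
open AlgebraicGeometry CategoryTheory CategoryTheory.Limits
open EGA41

namespace Groth.Agent.S4609

theorem qs_iff {X Y : Scheme.{u}} (f : X ⟶ Y) :
    QuasiSeparated f ↔ ∀ U : Y.affineOpens, IsQuasiSeparated (f ⁻¹' (U : Set Y)) := by
  rw [HasAffineProperty.eq_targetAffineLocally (P := @QuasiSeparated)]
  refine forall_congr' fun U => ?_
  exact (isQuasiSeparated_iff_quasiSeparatedSpace _ (f ⁻¹ᵁ (U : Y.Opens)).2).symm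

theorem isQuasiSeparated_of_cover {α β γ : Type*} [TopologicalSpace α] [TopologicalSpace β]
    [TopologicalSpace γ] (i : α → γ) (j : β → γ) (hi : Topology.IsClosedEmbedding i)
    (hj : Topology.IsClosedEmbedding j) (hcov : Set.range i ∪ Set.range j = Set.univ)
    (s : Set γ) (h1 : IsQuasiSeparated (i ⁻¹' s)) (h2 : IsQuasiSeparated (j ⁻¹' s)) :
    IsQuasiSeparated s := by
  intro K L hK hKo hKc hL hLo hLc
  have e : K ∩ L = i '' (i ⁻¹' K ∩ i ⁻¹' L) ∪ j '' (j ⁻¹' K ∩ j ⁻¹' L) := by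
    ext z
    have hz : z ∈ Set.range i ∪ Set.range j := by rw [hcov]; trivial
    constructor
    · rintro ⟨hzK, hzL⟩
      rcases hz with ⟨x, rfl⟩ | ⟨x, rfl⟩
      · exact Or.inl ⟨x, ⟨hzK, hzL⟩, rfl⟩
      · exact Or.inr ⟨x, ⟨hzK, hzL⟩, rfl⟩
    · rintro (⟨x, ⟨hxK, hxL⟩, rfl⟩ | ⟨x, ⟨hxK, hxL⟩, rfl⟩)
      · exact ⟨hxK, hxL⟩
      · exact ⟨hxK, hxL⟩
  rw [e]
  refine IsCompact.union (IsCompact.image ?_ hi.continuous) (IsCompact.image ?_ hj.continuous)
  · exact h1 _ _ (Set.preimage_mono hK) (hKo.preimage hi.continuous) (hi.isCompact_preimage hKc)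
      (Set.preimage_mono hL) (hLo.preimage hi.continuous) (hi.isCompact_preimage hLc)
  · exact h2 _ _ (Set.preimage_mono hK) (hKo.preimage hj.continuous) (hj.isCompact_preimage hKc)
      (Set.preimage_mono hL) (hLo.preimage hj.continuous) (hj.isCompact_preimage hLc)

/-- A morphism from a disjoint union X' ⨿ X'' → Y is quasi-separated if and only if its two components
are. -/
theorem result {X' X'' Y : Scheme.{u}} (f' : X' ⟶ Y) (f'' : X'' ⟶ Y) :
    QuasiSeparated (coprod.desc f' f'') ↔ QuasiSeparated f' ∧ QuasiSeparated f'' := by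
  have hinl : Topology.IsClosedEmbedding (coprod.inl : X' ⟶ X' ⨿ X'') := by
    refine ⟨(coprod.inl : X' ⟶ X' ⨿ X'').isOpenEmbedding.isEmbedding, ?_⟩
    rw [(isCompl_range_inl_inr X' X'').eq_compl]
    exact (coprod.inr : X'' ⟶ X' ⨿ X'').isOpenEmbedding.isOpen_range.isClosed_compl
  have hinr : Topology.IsClosedEmbedding (coprod.inr : X'' ⟶ X' ⨿ X'') := by
    refine ⟨(coprod.inr : X'' ⟶ X' ⨿ X'').isOpenEmbedding.isEmbedding, ?_⟩
    rw [(isCompl_range_inl_inr X' X'').symm.eq_compl]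
    exact (coprod.inl : X' ⟶ X' ⨿ X'').isOpenEmbedding.isOpen_range.isClosed_compl
  have hl : ∀ x, (coprod.desc f' f'') ((coprod.inl : X' ⟶ X' ⨿ X'') x) = f' x := fun x => by
    rw [← Scheme.Hom.comp_apply, coprod.inl_desc]
  have hr : ∀ x, (coprod.desc f' f'') ((coprod.inr : X'' ⟶ X' ⨿ X'') x) = f'' x := fun x => by
    rw [← Scheme.Hom.comp_apply, coprod.inr_desc]
  have hcov : Set.range (coprod.inl : X' ⟶ X' ⨿ X'') ∪ Set.range (coprod.inr : X'' ⟶ X' ⨿ X'') =
      Set.univ := (isCompl_range_inl_inr X' X'').sup_eq_top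
  constructor
  · intro h
    constructor
    · have : QuasiSeparated ((coprod.inl : X' ⟶ X' ⨿ X'') ≫ coprod.desc f' f'') := inferInstance
      rwa [coprod.inl_desc] at this
    · have : QuasiSeparated ((coprod.inr : X'' ⟶ X' ⨿ X'') ≫ coprod.desc f' f'') := inferInstance
      rwa [coprod.inr_desc] at this
  · rintro ⟨h1, h2⟩
    rw [qs_iff] at h1 h2 ⊢
    intro U
    refine isQuasiSeparated_of_cover _ _ hinl hinr hcov _ ?_ ?_
    · convert h1 U using 1
      ext x
      simp [hl]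
    · convert h2 U using 1
      ext x
      simp [hr]

end Groth.Agent.S4609
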