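import Groth.Statements.S4610
import Mathlib

set_option autoImplicit false
universe u
open EGA41

namespace Groth.Agent.S4610

section helpers

open Polynomial

variable {A : Type u} [CommRing A]

/-- the ideal -/
noncomputable def I (r : ℕ) (F : Fin r → A[X]) : Ideal (MvPolynomial (Fin r) A) :=
  Ideal.span (Set.range fun i => Polynomial.aeval (MvPolynomial.X i : MvPolynomial (Fin r) A) (F i))

abbrev Q (r : ℕ) (F : Fin r → A[X]) : Type u := MvPolynomial (Fin r) A ⧸ I r F

abbrev tl {r : ℕ} (F : Fin (r + 1) → A[X]) : Fin r → A[X] := fun i => F i.succ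

lemma mk_aeval {r : ℕ} (F : Fin r → A[X]) (i : Fin r) :
    Polynomial.aeval (Ideal.Quotient.mk (I r F) (MvPolynomial.X i)) (F i) = 0 := by
  have h := Polynomial.aeval_algHom_apply (Ideal.Quotient.mkₐ A (I r F))
    (MvPolynomial.X i : MvPolynomial (Fin r) A) (F i)
  rw [Ideal.Quotient.mkₐ_eq_mk] at h
  rw [h, Ideal.Quotient.eq_zero_iff_mem]
  exact Ideal.subset_span ⟨i, rfl⟩

section step
variable (r : ℕ) (F : Fin (r + 1) → A[X])

/-- the polynomial `F 0` over `Q r F'` -/
noncomputable def g : (Q r (tl F))[X] := (F 0).map (algebraMap A (Q r (tl F)))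

/-- the values of the variables in `AdjoinRoot g` -/
noncomputable def v : Fin (r + 1) → AdjoinRoot (g r F) :=
  Fin.cons (AdjoinRoot.root (g r F))
    (fun i => AdjoinRoot.of (g r F) (Ideal.Quotient.mk (I r (tl F)) (MvPolynomial.X i)))

lemma aeval_v (i : Fin (r + 1)) : Polynomial.aeval (v r F i) (F i) = 0 := by
  refine Fin.cases ?_ (fun j => ?_) i
  · have h := AdjoinRoot.eval₂_root (g r F)
    rw [g, Polynomial.eval₂_map] at h
    rw [v, Fin.cons_zero, Polynomial.aeval_def]
    exact h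
  · rw [v, Fin.cons_succ]
    have h := Polynomial.aeval_algebraMap_apply (AdjoinRoot (g r F))
      (Ideal.Quotient.mk (I r (tl F)) (MvPolynomial.X j)) (F j.succ)
    rw [AdjoinRoot.algebraMap_eq] at h
    rw [h, mk_aeval (tl F) j, map_zero]

noncomputable def Φ : Q (r + 1) F →ₐ[A] AdjoinRoot (g r F) :=
  Ideal.Quotient.liftₐ (I (r + 1) F) (MvPolynomial.aeval (v r F)) (by
    intro a ha
    rw [← RingHom.mem_ker] 
    revert a
    show I (r + 1) F ≤ RingHom.ker (MvPolynomial.aeval (v r F))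
    rw [I, Ideal.span_le]
    rintro _ ⟨i, rfl⟩
    rw [SetLike.mem_coe, RingHom.mem_ker]
    have h := Polynomial.aeval_algHom_apply (MvPolynomial.aeval (R := A) (v r F))
      (MvPolynomial.X i : MvPolynomial (Fin (r + 1)) A) (F i)
    rw [MvPolynomial.aeval_X] at h
    rw [← h, aeval_v])

lemma Φ_mk_X (i : Fin (r + 1)) : Φ r F (Ideal.Quotient.mk _ (MvPolynomial.X i)) = v r F i := by
  change MvPolynomial.aeval (v r F) (MvPolynomial.X i) = _
  exact MvPolynomial.aeval_X _ _

/-- `Q r F' → Q (r+1) F` -/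
noncomputable def ψ0 : Q r (tl F) →ₐ[A] Q (r + 1) F :=
  Ideal.Quotient.liftₐ (I r (tl F))
    (MvPolynomial.aeval (fun i : Fin r => Ideal.Quotient.mk (I (r + 1) F) (MvPolynomial.X i.succ))) (by
    intro a ha
    rw [← RingHom.mem_ker]
    revert a
    show I r (tl F) ≤ RingHom.ker (MvPolynomial.aeval
      (fun i : Fin r => Ideal.Quotient.mk (I (r + 1) F) (MvPolynomial.X i.succ)))
    rw [I, Ideal.span_le]
    rintro _ ⟨i, rfl⟩
    rw [SetLike.mem_coe, RingHom.mem_ker]
    have h := Polynomial.aeval_algHom_apply (MvPolynomial.aeval (R := A)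
      (fun i : Fin r => Ideal.Quotient.mk (I (r + 1) F) (MvPolynomial.X i.succ)))
      (MvPolynomial.X i : MvPolynomial (Fin r) A) (tl F i)
    rw [MvPolynomial.aeval_X] at h
    rw [← h]
    exact mk_aeval F i.succ)

lemma ψ0_mk_X (i : Fin r) : ψ0 r F (Ideal.Quotient.mk _ (MvPolynomial.X i)) =
    Ideal.Quotient.mk _ (MvPolynomial.X i.succ) := by
  change MvPolynomial.aeval _ (MvPolynomial.X i) = _
  exact MvPolynomial.aeval_X _ _

noncomputable def Ψ : AdjoinRoot (g r F) →ₐ[A] Q (r + 1) F :=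
  AdjoinRoot.liftAlgHom (g r F) (ψ0 r F) (Ideal.Quotient.mk _ (MvPolynomial.X 0)) (by
    rw [g, Polynomial.eval₂_map, AlgHom.comp_algebraMap, ← Polynomial.aeval_def]
    exact mk_aeval F 0)

lemma ΨΦ : (Ψ r F).comp (Φ r F) = AlgHom.id A _ := by
  apply Ideal.Quotient.algHom_ext
  apply MvPolynomial.algHom_ext
  intro i
  simp only [AlgHom.comp_apply, Ideal.Quotient.mkₐ_eq_mk, AlgHom.id_apply]
  rw [Φ_mk_X]
  refine Fin.cases ?_ (fun j => ?_) i
  · rw [v, Fin.cons_zero, Ψ, AdjoinRoot.liftAlgHom_root]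
  · rw [v, Fin.cons_succ, Ψ, AdjoinRoot.liftAlgHom_of, ψ0_mk_X]

lemma ΦΨ : (Φ r F).comp (Ψ r F) = AlgHom.id A _ := by
  apply AdjoinRoot.algHom_ext'
  · apply Ideal.Quotient.algHom_ext
    apply MvPolynomial.algHom_ext
    intro i
    simp only [AlgHom.comp_apply, Ideal.Quotient.mkₐ_eq_mk, AlgHom.id_apply, AdjoinRoot.ofAlgHom]
    show Φ r F (Ψ r F (AdjoinRoot.of (g r F) _)) = AdjoinRoot.of (g r F) _
    rw [Ψ, AdjoinRoot.liftAlgHom_of, ψ0_mk_X, Φ_mk_X, v, Fin.cons_succ]
  · simp only [AlgHom.comp_apply, AlgHom.id_apply]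
    rw [Ψ, AdjoinRoot.liftAlgHom_root, Φ_mk_X, v, Fin.cons_zero]

noncomputable def e : Q (r + 1) F ≃ₐ[A] AdjoinRoot (g r F) :=
  AlgEquiv.ofAlgHom (Φ r F) (Ψ r F) (ΦΨ r F) (ΨΦ r F)

end step

theorem main [Nontrivial A] : ∀ (r : ℕ) (F : Fin r → A[X]), (∀ i, (F i).Monic) →
    Module.Free A (Q r F) ∧ Module.finrank A (Q r F) = ∏ i, (F i).natDegree := by
  intro r
  induction r with
  | zero =>
    intro F hF
    have hI : I 0 F = ⊥ := by
      rw [I, Ideal.span_eq_bot]
      rintro _ ⟨i, rfl⟩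
      exact i.elim0
    let e1 : Q 0 F ≃ₐ[A] MvPolynomial (Fin 0) A :=
      (Ideal.quotientEquivAlgOfEq A hI).trans (AlgEquiv.quotientBot A _)
    let e2 : Q 0 F ≃ₐ[A] A := e1.trans (MvPolynomial.isEmptyAlgEquiv A (Fin 0))
    refine ⟨Module.Free.of_equiv e2.symm.toLinearEquiv, ?_⟩
    rw [e2.toLinearEquiv.finrank_eq, Module.finrank_self]
    simp
  | succ r ih =>
    intro F hF
    obtain ⟨hfree, hrank⟩ := ih (tl F) (fun i => hF i.succ)
    have hg : (g r F).Monic := (hF 0).map _
    have hfree2 : Module.Free (Q r (tl F)) (AdjoinRoot (g r F)) := hg.free_adjoinRoot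
    have hfree3 : Module.Free A (AdjoinRoot (g r F)) := Module.Free.trans (S := Q r (tl F))
    refine ⟨Module.Free.of_equiv (e r F).symm.toLinearEquiv, ?_⟩
    rw [(e r F).toLinearEquiv.finrank_eq, Fin.prod_univ_succ]
    by_cases hnt : Nontrivial (Q r (tl F))
    · rw [← Module.finrank_mul_finrank A (Q r (tl F)) (AdjoinRoot (g r F)), hrank, mul_comm]
      congr 1
      rw [(AdjoinRoot.powerBasis' hg).finrank, AdjoinRoot.powerBasis'_dim, g, (hF 0).natDegree_map]
    · rw [not_nontrivial_iff_subsingleton] at hnt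
      have hs : Subsingleton (AdjoinRoot (g r F)) := by
        refine ⟨fun x y => ?_⟩
        have h01 : (0 : Q r (tl F)) = 1 := Subsingleton.elim _ _
        have h01' : (0 : AdjoinRoot (g r F)) = 1 := by
          rw [← map_zero (AdjoinRoot.of (g r F)), h01, map_one]
        rw [← mul_one x, ← mul_one y, ← h01', mul_zero, mul_zero]
      rw [Module.finrank_zero_of_subsingleton]
      have h0 : Module.finrank A (Q r (tl F)) = 0 := Module.finrank_zero_of_subsingleton
      rw [h0] at hrank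
      rw [← hrank, mul_zero]


end helpers

/-- Let A be a nonzero ring and F_1, …, F_r monic one-variable polynomials of degrees d_1, …, d_r; then
A[T_1, …, T_r]/(F_1(T_1), …, F_r(T_r)) is a free A-module of rank ∏ d_i. (The published statement
assumes A local with maximal ideal of square zero and A' local, which this assertion does not use;
its bound [K' : K] ≤ d and part (ii) are not stated.) -/
theorem result {A : Type u} [CommRing A] [Nontrivial A]
    {r : ℕ} (F : Fin r → Polynomial A) (hF : ∀ i, (F i).Monic) :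
    Module.Free A (MvPolynomial (Fin r) A ⧸ Ideal.span (Set.range fun i => Polynomial.aeval (MvPolynomial.X i : MvPolynomial (Fin r) A) (F i))) ∧
      Module.finrank A (MvPolynomial (Fin r) A ⧸ Ideal.span (Set.range fun i => Polynomial.aeval (MvPolynomial.X i : MvPolynomial (Fin r) A) (F i))) =
        Finset.univ.prod fun i => (F i).natDegree := by
  exact main r F hF

end Groth.Agent.S4610
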