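import Groth.Statements.S4613
import Mathlib

set_option autoImplicit false
universe u
open AlgebraicGeometry CategoryTheory
open EGA41

namespace Groth.Agent.S4613

theorem ker_fg_aux {A B : Type u} [CommRing A] [CommRing B] (φ : A →+* B)
    (h : φ.FinitePresentation) (hs : Function.Surjective φ) : (RingHom.ker φ).FG := by
  algebraize [φ]
  exact Algebra.FinitePresentation.ker_fG_of_surjective (Algebra.ofId A B) hs

/-- For a closed immersion j : X → Y: j is locally of finite presentation if and only if its ideal sheaf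
is of finite type, i.e. for every affine open U of Y the kernel of Γ(U, O_Y) → Γ(j⁻¹U, O_X) is
finitely generated. (An immersion with image closed in an open U reduces to this case.) -/
theorem result {X Y : Scheme.{u}} (j : X ⟶ Y)
    [IsClosedImmersion j] :
    LocallyOfFinitePresentation j ↔ ∀ U : Y.affineOpens, (RingHom.ker (j.app U).hom).FG := by
  constructor
  · intro H U
    have hV : IsAffineOpen (j ⁻¹ᵁ U.1) := U.2.preimage j
    have h1 := HasRingHomProperty.appLE @LocallyOfFinitePresentation j H U ⟨j ⁻¹ᵁ U.1, hV⟩ le_rfl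
    have h2 : j.appLE U.1 (j ⁻¹ᵁ U.1) le_rfl = j.app U.1 := (Scheme.Hom.app_eq_appLE ..).symm
    have h3 : (j.app U.1).hom.FinitePresentation := by
      rw [← h2]; exact h1
    exact ker_fg_aux _ h3 (j.app_surjective U.1 U.2)
  · intro H
    rw [HasRingHomProperty.iff_exists_appLE (P := @LocallyOfFinitePresentation)
      (RingHom.finitePresentation_stableUnderComposition.stableUnderCompositionWithLocalizationAway
        RingHom.finitePresentation_holdsForLocalizationAway).left]
    intro x
    obtain ⟨_, ⟨U, hU : IsAffineOpen U, rfl⟩, hxU, -⟩ :=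
      Y.isBasis_affineOpens.exists_subset_of_mem_open (Set.mem_univ (j x)) isOpen_univ
    refine ⟨⟨U, hU⟩, ⟨j ⁻¹ᵁ U, hU.preimage j⟩, hxU, le_rfl, ?_⟩
    have h2 : j.appLE U (j ⁻¹ᵁ U) le_rfl = j.app U := (Scheme.Hom.app_eq_appLE ..).symm
    show (j.appLE U (j ⁻¹ᵁ U) le_rfl).hom.FinitePresentation
    rw [h2]
    exact RingHom.FinitePresentation.of_surjective _ (j.app_surjective U hU) (H ⟨U, hU⟩)

end Groth.Agent.S4613
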