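import Groth.Statements.S4618
import Mathlib
import Groth.Agent.Lib.helper7.GeomIrrAC2

set_option autoImplicit false
open CategoryTheory AlgebraicGeometry
universe u
open FBase

namespace Groth.Agent.S4618

/-- Let X be a scheme over a field k, K any extension field of k and Ω an algebraically closed extension
field of k. Then the set of connected components of X ⊗_k K has cardinality at most that of the set
of connected components of X ⊗_k Ω. In particular the cardinality of the set of connected components
of X ⊗_k Ω does not depend on the algebraically closed extension Ω. -/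
theorem result {k K Ω : Type u} [Field k] [Field K] [Algebra k K]
    [Field Ω] [Algebra k Ω] [IsAlgClosed Ω] {X : Scheme.{u}} (f : X ⟶ Spec (CommRingCat.of k)) :
    Cardinal.mk (_root_.ConnectedComponents ↥(FBase.bc f K)) ≤ Cardinal.mk (_root_.ConnectedComponents ↥(FBase.bc f Ω)) := by
  unfold FBase.bc
  obtain ⟨P, q, φ, hq1, hq2, hq3, hφ⟩ :=
    Groth.Agent.Lib.helper7.GeomIrrAC2.exists_common_cover (K := K) (Ω := Ω) f
  calc Cardinal.mk (_root_.ConnectedComponents
        ↥(Limits.pullback f (Spec.map (CommRingCat.ofHom (algebraMap k K)))))
      ≤ Cardinal.mk (_root_.ConnectedComponents ↥P) :=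
        Groth.Agent.Lib.helper7.GeomIrrAC2.mk_connectedComponents_le_of_surjective
          φ.continuous φ.surjective
    _ = Cardinal.mk (_root_.ConnectedComponents
        ↥(Limits.pullback f (Spec.map (CommRingCat.ofHom (algebraMap k Ω))))) :=
        Cardinal.mk_congr (q.connectedComponentsHomeomorph q.isOpenMap).toEquiv

end Groth.Agent.S4618
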