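import Groth.Statements.S4620
import Mathlib
import Groth.Agent.S4621

set_option autoImplicit false
open CategoryTheory AlgebraicGeometry
universe u
open FBase

namespace Groth.Agent.S4620

section Aux
open CategoryTheory CategoryTheory.Limits AlgebraicGeometry TensorProduct

theorem main {k K : Type u} [Field k] [Field K] [Algebra k K]
    {X : Scheme.{u}} (f : X ⟶ Spec (CommRingCat.of k)) (Y : Set ↥X) (hY : Y ∈ irreducibleComponents ↥X)
    (hgi : ∀ (L : Type u) [Field L] [Algebra k L], IsIrreducible (⇑(FBase.bcπ f L) ⁻¹' Y))
    (y : X) (hy : y ∈ Y) :
    _root_.IsConnected (⇑(FBase.bcπ f K) ⁻¹' connectedComponent y) := by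
  set T : TopologicalSpace.Closeds X := ⟨Y, isClosed_of_mem_irreducibleComponents Y hY⟩ with hT
  set I := Scheme.IdealSheafData.vanishingIdeal T with hI
  set ι := I.subschemeι with hι
  have hrange : Set.range ι = Y :=
    Groth.Agent.Lib.helper7.RedSub.range_subschemeι_vanishingIdeal T
  obtain ⟨z, hz⟩ : y ∈ Set.range ι := by rw [hrange]; exact hy
  haveI : GeometricallyConnected (ι ≫ f) := by
    refine ⟨geometrically_iff_of_commRing_of_isClosedUnderIsomorphisms.2 fun L _ _ => ?_⟩
    set bL := Spec.map (CommRingCat.ofHom (algebraMap k L)) with hbL
    show ConnectedSpace ↥(pullback (ι ≫ f) bL)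
    have hP := Groth.Agent.S4621.hpb ι f bL
    set ιL := (pullback.lift (pullback.fst (ι ≫ f) bL ≫ ι) (pullback.snd (ι ≫ f) bL)
      (by rw [Category.assoc, pullback.condition])) with hιL
    haveI : IsClosedImmersion ιL :=
      MorphismProperty.of_isPullback (P := @IsClosedImmersion) hP.flip inferInstance
    have himg := Scheme.image_preimage_eq_of_isPullback hP.flip Set.univ
    rw [Set.preimage_univ, Set.image_univ, Set.image_univ, hrange] at himg
    have hirr := hgi L
    change IsIrreducible (⇑(pullback.fst f bL) ⁻¹' Y) at hirr
    rw [← himg] at hirr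
    haveI : Nonempty ↥(pullback (ι ≫ f) bL) := by
      obtain ⟨a, b, rfl⟩ := hirr.nonempty
      exact ⟨b⟩
    rw [connectedSpace_iff_univ]
    refine ⟨Set.univ_nonempty, ?_⟩
    rw [← ιL.isEmbedding.isInducing.isPreconnected_image, Set.image_univ]
    exact hirr.isPreirreducible.isPreconnected
  have := Groth.Agent.S4621.main (K := K) f (ι ≫ f) ι rfl z
  rwa [hz] at this

end Aux

/-- Let X be a scheme over a field k and Y an irreducible component of X which is geometrically
irreducible, i.e. the inverse image of Y in X ⊗_k L is irreducible for every extension field L of k.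
Then the connected component of X containing Y is geometrically connected: for every extension field
K of k, the inverse image in X ⊗_k K of the connected component of a point y of Y is connected.
(Geometric irreducibility and connectedness of a locally closed subset do not depend on the
subscheme structure chosen, and are expressed here through inverse images under the projection.) -/
theorem result {k K : Type u} [Field k] [Field K] [Algebra k K]
    {X : Scheme.{u}} (f : X ⟶ Spec (CommRingCat.of k)) (Y : Set ↥X) (hY : Y ∈ irreducibleComponents ↥X)
    (hgi : ∀ (L : Type u) [Field L] [Algebra k L], IsIrreducible (⇑(FBase.bcπ f L) ⁻¹' Y))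
    (y : X) (hy : y ∈ Y) :
    _root_.IsConnected (⇑(FBase.bcπ f K) ⁻¹' connectedComponent y) := by
  exact main f Y hY hgi y hy

end Groth.Agent.S4620
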