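import Groth.Statements.S4622
import Mathlib

set_option autoImplicit false
open CategoryTheory AlgebraicGeometry
universe u
open FBase

namespace Groth.Agent.S4622


open CategoryTheory CategoryTheory.Limits AlgebraicGeometry in
theorem isUnivHomeo_SpecMap_of_isPurelyInseparable {k k' : Type u} [Field k] [Field k']
    [Algebra k k'] [IsPurelyInseparable k k'] :
    FlatMor.IsUnivHomeo (Spec.map (CommRingCat.ofHom (algebraMap k k'))) := by
  set s := Spec.map (CommRingCat.ofHom (algebraMap k k')) with hs
  haveI hopen : UniversallyOpen s := inferInstance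
  haveI hsurj : Surjective s := by
    refine ⟨fun y => ⟨IsLocalRing.closedPoint k', Subsingleton.elim _ _⟩⟩
  haveI hinj : UniversallyInjective s := by
    refine ((tfae_universallyInjective (f := s)).out 0 1).2 ?_
    intro K _ g₁ g₂ h
    obtain ⟨ψ₁, rfl⟩ := Spec.map_surjective g₁
    obtain ⟨ψ₂, rfl⟩ := Spec.map_surjective g₂
    simp only [hs, ← Spec.map_comp] at h
    have h2 := Spec.map_injective h
    have h3 : ψ₁.hom.comp (algebraMap k k') = ψ₂.hom.comp (algebraMap k k') := by
      have := congrArg CommRingCat.Hom.hom h2
      simpa using this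
    have h4 : ψ₁.hom = ψ₂.hom := IsPurelyInseparable.injective_comp_algebraMap k k' K h3
    congr 1
    exact CommRingCat.hom_ext h4
  intro X' Y' i₁ i₂ f' sq
  haveI : UniversallyOpen f' := MorphismProperty.of_isPullback sq.flip hopen
  haveI : UniversallyInjective f' := MorphismProperty.of_isPullback sq.flip hinj
  haveI : Surjective f' := MorphismProperty.of_isPullback sq.flip hsurj
  exact ⟨f'.continuous, f'.isOpenMap, f'.injective, f'.surjective⟩

/-- Let k be a separably closed field, k' an algebraic closure of k and X a scheme over k. Then the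
projection X ⊗_k k' → X is a universal homeomorphism. -/
theorem result {k k' : Type u} [Field k] [IsSepClosed k] [Field k'] [Algebra k k']
    [IsAlgClosure k k'] {X : Scheme.{u}} (f : X ⟶ Spec (CommRingCat.of k)) :
    FlatMor.IsUnivHomeo (FBase.bcπ f k') := by
  haveI : Algebra.IsAlgebraic k k' := IsAlgClosure.isAlgebraic
  haveI : IsPurelyInseparable k k' := inferInstance
  haveI : (FlatMor.IsUnivHomeo : CategoryTheory.MorphismProperty
      AlgebraicGeometry.Scheme.{u}).IsStableUnderBaseChange := by
    unfold FlatMor.IsUnivHomeo; infer_instance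
  exact CategoryTheory.MorphismProperty.pullback_fst f _
    (isUnivHomeo_SpecMap_of_isPurelyInseparable (k := k) (k' := k'))

end Groth.Agent.S4622
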