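import Groth.Statements.S4625
import Mathlib
import Groth.Agent.Lib.helper7.GeomDesc

set_option autoImplicit false
open CategoryTheory AlgebraicGeometry
universe u
open FBase

namespace Groth.Agent.S4625

/-- Let X be a scheme over a field k and K an extension field of k. Then X is geometrically connected
over k if and only if X ⊗_k K, with its structure of K-scheme, is geometrically connected over K. -/
theorem result {k K : Type u} [Field k] [Field K] [Algebra k K]
    {X : Scheme.{u}} (f : X ⟶ Spec (CommRingCat.of k)) :
    GeometricallyConnected f ↔ GeometricallyConnected (FBase.bcStr f K) := by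
  unfold FBase.bcStr
  constructor
  · intro h
    exact MorphismProperty.pullback_snd _ _ h
  · intro h
    have : Surjective (Spec.map (CommRingCat.ofHom (algebraMap k K))) :=
      Groth.Agent.Lib.helper7.GeomDesc.surjective_SpecMap_of_field _
    refine ⟨Groth.Agent.Lib.helper7.GeomDesc.geometrically_of_pullback_snd ?_ f
      (Spec.map (CommRingCat.ofHom (algebraMap k K))) h.geometrically_connectedSpace⟩
    intro Z Z' p hp hZ'
    have : ConnectedSpace ↥Z' := hZ'
    exact p.surjective.connectedSpace p.continuous

end Groth.Agent.S4625
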