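import Groth.Statements.S4630
import Mathlib
import Groth.Agent.Lib.helper7.CommonPt

set_option autoImplicit false
open CategoryTheory AlgebraicGeometry
universe u
open FBase

namespace Groth.Agent.S4630

section Aux
open CategoryTheory CategoryTheory.Limits AlgebraicGeometry TensorProduct
open Groth.Agent.Lib.helper7.CommonPt

theorem gen {k : Type u} [Field k] {X : Scheme.{u}} (f : X ⟶ Spec (CommRingCat.of k)) (x : X)
    (H : FBase.IsGeomPtIntegralAt f x) {L : Type u} [Field L]
    (b : Spec (CommRingCat.of L) ⟶ Spec (CommRingCat.of k)) (y : ↥(pullback f b))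
    (hy : pullback.fst f b y = x) : IsDomain ((pullback f b).presheaf.stalk y) := by
  obtain ⟨φ, rfl⟩ := Spec.map_surjective b
  letI : Algebra k L := φ.hom.toAlgebra
  exact H L y hy

theorem main {k K : Type u} [Field k] [Field K] [Algebra k K]
    {X : Scheme.{u}} (f : X ⟶ Spec (CommRingCat.of k)) (x' : ↥(FBase.bc f K)) :
    FBase.IsGeomPtIntegralAt f ((FBase.bcπ f K) x') ↔ FBase.IsGeomPtIntegralAt (FBase.bcStr f K) x' := by
  set bK := Spec.map (CommRingCat.ofHom (algebraMap k K)) with hbK
  constructor
  · intro H L _ _ x₂ hx₂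
    set bL' := Spec.map (CommRingCat.ofHom (algebraMap K L)) with hbL'
    let e := pullbackLeftPullbackSndIso f bK bL'
    -- the point e.hom x₂ of pullback f (bL' ≫ bK)
    have h1 : pullback.fst f (bL' ≫ bK) (e.hom x₂) = (FBase.bcπ f K) x' := by
      rw [← Scheme.Hom.comp_apply, pullbackLeftPullbackSndIso_hom_fst, Scheme.Hom.comp_apply]
      exact congrArg _ hx₂
    have hdom := gen f _ H (bL' ≫ bK) (e.hom x₂) h1
    have := isDomain_of_flat e.inv (e.hom x₂) hdom
    rwa [← Scheme.Hom.comp_apply, e.hom_inv_id] at this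
  · intro H' L _ _ x₁ hx₁
    set bL := Spec.map (CommRingCat.ofHom (algebraMap k L)) with hbL
    obtain ⟨κ, _, cA, cB, heq, m, hm1, hm2⟩ := exists_common f bL bK x₁ x' hx₁
    haveI : Flat cA := flat_of_field cA
    haveI : Flat (ψ f bL cA) :=
      MorphismProperty.of_isPullback (P := @Flat) (isPullback_ψ f bL cA).flip inferInstance
    obtain ⟨E, hE⟩ := exists_iso f bL bK cA cB heq
    -- the point E.inv m lies over x'
    have h2 : pullback.fst (pullback.snd f bK) cB (E.inv m) = x' := by
      rw [← Scheme.Hom.comp_apply, hE]; exact hm2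
    obtain ⟨φ, rfl⟩ := Spec.map_surjective cB
    letI : Algebra K κ := φ.hom.toAlgebra
    have hdom : IsDomain ((pullback (pullback.snd f bK) (Spec.map φ)).presheaf.stalk (E.inv m)) :=
      H' κ (E.inv m) h2
    have hdom2 := isDomain_of_flat E.hom (E.inv m) hdom
    rw [← Scheme.Hom.comp_apply, E.inv_hom_id] at hdom2
    have hdom3 := isDomain_of_flat (ψ f bL cA) m hdom2
    rw [hm1] at hdom3
    exact hdom3

end Aux

/-- Let X be a scheme over a field k, k' an extension field of k, and x' a point of X' = X ⊗_k k' lying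
over the point x of X. Then X is geometrically pointwise integral at x over k if and only if X' is
geometrically pointwise integral at x' over k'. -/
theorem result {k K : Type u} [Field k] [Field K] [Algebra k K]
    {X : Scheme.{u}} (f : X ⟶ Spec (CommRingCat.of k)) (x' : ↥(FBase.bc f K)) :
    FBase.IsGeomPtIntegralAt f ((FBase.bcπ f K) x') ↔ FBase.IsGeomPtIntegralAt (FBase.bcStr f K) x' := by
  exact main f x'

end Groth.Agent.S4630
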