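import Groth.Statements.S4631
import Mathlib
import Groth.Agent.Lib.helper7.StalkBC
import Groth.Agent.Lib.helper14.AlgClosedTensor

set_option autoImplicit false
open CategoryTheory AlgebraicGeometry
universe u
open FBase

namespace Groth.Agent.S4631

/-- Let X be a scheme over an algebraically closed field k and x a point of X. Then X is geometrically
pointwise integral at x over k if and only if the local ring of X at x is a domain. -/
theorem result {k : Type u} [Field k] [IsAlgClosed k] {X : Scheme.{u}}
    (f : X ⟶ Spec (CommRingCat.of k)) (x : X) :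
    FBase.IsGeomPtIntegralAt f x ↔ IsDomain ↑(X.presheaf.stalk x) := by
  letI alg : Algebra k (X.presheaf.stalk x) :=
    ((X.presheaf.germ ⊤ x trivial).hom.comp
      (f.appTop.hom.comp (Scheme.ΓSpecIso (CommRingCat.of k)).inv.hom)).toAlgebra
  have hφ : Spec.map (CommRingCat.ofHom (algebraMap k (X.presheaf.stalk x))) =
      X.fromSpecStalk x ≫ f :=
    (Groth.Agent.Lib.helper7.StalkBC.fromSpecStalk_comp f x).symm
  constructor
  · intro h
    -- take K = k
    have hid : CommRingCat.ofHom (algebraMap k k) = 𝟙 (CommRingCat.of k) := rfl
    haveI : IsIso (Spec.map (CommRingCat.ofHom (algebraMap k k))) := by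
      rw [hid, Spec.map_id]; infer_instance
    let π := FBase.bcπ f k
    haveI : IsIso π := by
      show IsIso (Limits.pullback.fst f (Spec.map (CommRingCat.ofHom (algebraMap k k))))
      infer_instance
    obtain ⟨x', hx'⟩ := π.surjective x
    have hdom := h k x' hx'
    have hbij : Function.Bijective (π.stalkMap x') :=
      ConcreteCategory.bijective_of_isIso (π.stalkMap x')
    have : IsDomain (X.presheaf.stalk (π x')) :=
      Function.Injective.isDomain (π.stalkMap x').hom hbij.1
    have hx'' : π x' = x := hx'
    rw [← hx'']
    exact this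
  · intro hdom K _ _ x' hx'
    haveI : IsDomain (TensorProduct k (X.presheaf.stalk x) K) :=
      Groth.Agent.H14.isDomain_tensorProduct_of_isAlgClosed
    obtain ⟨Q, hQ, ⟨e⟩⟩ := Groth.Agent.Lib.helper7.StalkBC.exists_equiv_localization f x hφ K x'
      (by
        have : (FBase.bcπ f K).base x' = x := hx'
        show (FBase.bcπ f K) x' ⤳ x
        rw [this])
    haveI : IsDomain (Localization.AtPrime Q) :=
      IsLocalization.isDomain_localization (le_nonZeroDivisors_of_noZeroDivisors
        (fun h0 => h0 (Ideal.zero_mem Q)))
    exact e.toMulEquiv.isDomain _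

end Groth.Agent.S4631
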