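import Groth.Statements.S4632
import Mathlib
import Groth.Agent.Lib.helper7.QuasiFlat2
import Groth.Agent.Lib.helper7.PC6
import Groth.Agent.Lib.helper7.PC5

set_option autoImplicit false
open CategoryTheory AlgebraicGeometry
universe u
open FDesc

namespace Groth.Agent.S4632

open CategoryTheory.Limits in
/-- Let f : X → Y be a quasi-compact dominant morphism and g : Y' → Y a quasi-flat morphism (for
instance a flat one). Then the base change X ×_Y Y' → Y' is dominant. -/
theorem result {X Y Y' : Scheme.{u}} (f : X ⟶ Y) (g : Y' ⟶ Y)
    [QuasiCompact f] [IsDominant f] (hg : FDesc.IsQuasiFlat g) : IsDominant (pullback.snd f g) := by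
  refine ⟨?_⟩
  rw [DenseRange, Dense]
  intro y'
  have h1 : Set.range (CategoryTheory.Limits.pullback.snd f g) = g ⁻¹' Set.range f :=
    AlgebraicGeometry.Scheme.Pullback.range_snd f g
  rw [h1]
  have h2 := Groth.Agent.Lib.helper7.QuasiFlat.preimage_closure_eq_of_isQuasiFlat g hg
    (Groth.Agent.Lib.helper7.PC.isProConstructible_range f)
  have h3 : closure (Set.range f) = Set.univ := (AlgebraicGeometry.IsDominant.denseRange (f := f)).closure_eq
  rw [h3] at h2
  have : y' ∈ closure (g.base ⁻¹' Set.range f) := by rw [← h2]; trivial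
  exact this

end Groth.Agent.S4632
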