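import Groth.Statements.S4633
import Mathlib
import Groth.Agent.Lib.helper7.QuasiFlat3
import Groth.Agent.Lib.helper7.DimSch3

set_option autoImplicit false
open CategoryTheory AlgebraicGeometry
universe u
open FDesc

namespace Groth.Agent.S4633


open CategoryTheory.Limits in
theorem flat_of_isPullback_of_factors {X Y S F : Scheme.{u}} (k : Type u) [Field k]
    (f : X ⟶ Y) (ι : Spec (.of k) ⟶ Y) (b : S ⟶ Spec (.of k)) (p₁ : F ⟶ X) (p₂ : F ⟶ S)
    (sq : IsPullback p₁ p₂ f (b ≫ ι)) : Flat p₂ := by
  have t : IsPullback (pullback.fst f ι) (pullback.snd f ι) f ι := IsPullback.of_hasPullback f ι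
  have key := IsPullback.of_right' sq t
  haveI : Flat (pullback.snd f ι) := inferInstance
  exact MorphismProperty.of_isPullback key inferInstance

open CategoryTheory.Limits in
theorem exists_specializes_of_fiber {X Y Y' X' : Scheme.{u}} {f : X ⟶ Y} {g : Y' ⟶ Y}
    {p : X' ⟶ X} {q : X' ⟶ Y'} (sq : IsPullback p q f g) (ξ' : X') (y' : Y')
    (hy' : y' ⤳ q ξ') (hg : g y' = g (q ξ')) : ∃ ξ'' : X', ξ'' ⤳ ξ' ∧ q ξ'' = y' := by
  let η := g (q ξ')
  let a := g.fiberι η
  let b := g.fiberToSpecResidueField η
  let u := pullback.fst q a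
  let qη := pullback.snd q a
  have sq1 : IsPullback u qη q a := IsPullback.of_hasPullback q a
  have sq2 : IsPullback (u ≫ p) qη f (a ≫ g) := sq1.paste_horiz sq
  have hfac : a ≫ g = b ≫ Y.fromSpecResidueField η := g.fiber_fac η
  rw [hfac] at sq2
  haveI : Flat qη := flat_of_isPullback_of_factors (Y.residueField η) f
    (Y.fromSpecResidueField η) b (u ≫ p) qη sq2
  have hgen := Flat.generalizingMap qη
  have hrange : Set.range a = g ⁻¹' {η} := g.range_fiberι η
  obtain ⟨υ, hυ⟩ : q ξ' ∈ Set.range a := by rw [hrange]; rfl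
  obtain ⟨υ', hυ'⟩ : y' ∈ Set.range a := by rw [hrange]; exact hg
  obtain ⟨ζ, hζ1, hζ2⟩ := Scheme.Pullback.exists_preimage_pullback (f := q) (g := a) ξ' υ hυ.symm
  have hsp : υ' ⤳ υ := by
    rw [← (g.fiberι η).isEmbedding.isInducing.specializes_iff, hυ, hυ']
    exact hy'
  obtain ⟨ζ'', hζ'', hζ''2⟩ := hgen (a := ζ) (b := υ') (hζ2 ▸ hsp)
  refine ⟨u ζ'', hζ1 ▸ hζ''.map u.continuous, ?_⟩
  have hcomm : u ≫ q = qη ≫ a := pullback.condition
  have := congrArg (fun φ => φ.base ζ'') hcomm
  change q (u ζ'') = a (qη ζ'') at this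
  rw [this, hζ''2, hυ']


open Groth.Agent.Lib.helper7.DimSch in
open CategoryTheory.Limits in
theorem main {X Y Y' : Scheme.{u}} (f : X ⟶ Y) (g : Y' ⟶ Y)
    (hf : ∀ Z ∈ irreducibleComponents ↥X, closure (⇑f '' Z) ∈ irreducibleComponents ↥Y)
    (hg : FDesc.IsQuasiFlat g) (Z' : Set ↥(pullback f g))
    (hZ' : Z' ∈ irreducibleComponents ↥(pullback f g)) :
    closure (⇑(pullback.snd f g) '' Z') ∈ irreducibleComponents ↥Y' := by
  have hZ'cl : IsClosed Z' := isClosed_of_mem_irreducibleComponents Z' hZ'
  obtain ⟨ξ', hξ'⟩ := QuasiSober.sober hZ'.1 hZ'cl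
  have hξ'max : ∀ w : ↥(pullback f g), w ⤳ ξ' → w = ξ' := by
    rw [← closure_mem_irreducibleComponents_iff, hξ'.def]; exact hZ'
  have hpgen := Groth.Agent.Lib.helper7.QuasiFlat.generalizingMap_pullback_fst_of_isQuasiFlat f g hg
  -- ξ = p ξ' is maximal
  have hξmax : ∀ x : X, x ⤳ pullback.fst f g ξ' → x = pullback.fst f g ξ' := by
    intro x hx
    obtain ⟨w, hw, rfl⟩ := hpgen hx
    rw [hξ'max w hw]
  have hZ : closure {pullback.fst f g ξ'} ∈ irreducibleComponents ↥X :=
    (closure_mem_irreducibleComponents_iff _).mpr hξmax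
  have hfZ := hf _ hZ
  have hcl : closure (⇑f '' closure {pullback.fst f g ξ'}) = closure {f (pullback.fst f g ξ')} := by
    apply subset_antisymm
    · refine closure_minimal ?_ isClosed_closure
      rw [Set.image_subset_iff]
      refine closure_minimal ?_ (isClosed_closure.preimage f.continuous)
      rw [Set.singleton_subset_iff]
      exact subset_closure rfl
    · refine closure_mono ?_
      rw [Set.singleton_subset_iff]
      exact ⟨_, subset_closure rfl, rfl⟩
  rw [hcl] at hfZ
  have hηmax := (closure_mem_irreducibleComponents_iff _).mp hfZ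
  have hcond : f (pullback.fst f g ξ') = g (pullback.snd f g ξ') :=
    congrArg (fun φ => φ.base ξ') (pullback.condition (f := f) (g := g))
  -- η' = q ξ' is maximal
  have hη'max : ∀ y' : Y', y' ⤳ pullback.snd f g ξ' → y' = pullback.snd f g ξ' := by
    intro y' hy'
    have h1 : g y' ⤳ f (pullback.fst f g ξ') := hcond ▸ hy'.map g.continuous
    have h2 : g y' = g (pullback.snd f g ξ') := (hηmax _ h1).trans hcond
    obtain ⟨ξ'', hξ'', hq⟩ := exists_specializes_of_fiber (IsPullback.of_hasPullback f g) ξ' y' hy' h2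
    rw [← hq, hξ'max ξ'' hξ'']
  have hcl2 : closure (⇑(pullback.snd f g) '' Z') = closure {pullback.snd f g ξ'} := by
    rw [← hξ'.def]
    apply subset_antisymm
    · refine closure_minimal ?_ isClosed_closure
      rw [Set.image_subset_iff]
      refine closure_minimal ?_ (isClosed_closure.preimage (pullback.snd f g).continuous)
      rw [Set.singleton_subset_iff]
      exact subset_closure rfl
    · refine closure_mono ?_
      rw [Set.singleton_subset_iff]
      exact ⟨_, subset_closure rfl, rfl⟩
  rw [hcl2]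
  exact (closure_mem_irreducibleComponents_iff _).mpr hη'max

open CategoryTheory.Limits in
/-- Let f : X → Y be a morphism such that every irreducible component of X dominates an irreducible
component of Y (the closure of its image under f is an irreducible component of Y), and let g : Y' →
Y be quasi-flat (for instance flat). Then every irreducible component of X ×_Y Y' dominates an
irreducible component of Y'. -/
theorem result {X Y Y' : Scheme.{u}} (f : X ⟶ Y) (g : Y' ⟶ Y)
    (hf : ∀ Z ∈ irreducibleComponents ↥X, closure (⇑f '' Z) ∈ irreducibleComponents ↥Y)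
    (hg : FDesc.IsQuasiFlat g) (Z' : Set ↥(pullback f g)) (hZ' : Z' ∈ irreducibleComponents ↥(pullback f g)) :
    closure (⇑(pullback.snd f g) '' Z') ∈ irreducibleComponents ↥Y' := by
  exact Groth.Agent.S4633.main f g hf hg Z' hZ'

end Groth.Agent.S4633
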