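import Groth.Statements.S4636
import Groth.Agent.Lib.helper9.CohB8
-- import your own Groth.Agent.* helpers here

set_option autoImplicit false
open CategoryTheory AlgebraicGeometry
universe u
open AssSch

namespace Groth.Agent.S4636

/-- Let X be a locally Noetherian scheme, F a coherent O_X-module and x a point of X. Then x is a
maximal associated point of F (an associated point such that every associated point specialising to
x equals x) if and only if x is the generic point of an irreducible component of Supp F, i.e. F_x ≠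
0 and every point y with F_y ≠ 0 that specialises to x equals x. -/
theorem result {X : Scheme.{u}} [IsLocallyNoetherian X] (F : X.Modules)
    (hF : Coh.IsCoh F) (x : X) :
    (x ∈ AssSch.Ass F ∧ ∀ y ∈ AssSch.Ass F, y ⤳ x → y = x) ↔
      (Nontrivial ↑(F.presheaf.stalk x) ∧ ∀ y : X, Nontrivial ↑(F.presheaf.stalk y) → y ⤳ x → y = x) := by
  haveI := hF.1
  haveI := hF.2
  open Groth.Agent.Lib.helper9.CohB Groth.Agent.Lib.helper9.Depth in
  obtain ⟨W, hW, hxW, hN, hfin⟩ := exists_good_affine F x
  obtain ⟨q, rfl⟩ := exists_fromSpec_eq hW hxW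
  set M := Γmod (F.restrict hW.fromSpec) with hM
  -- translation of the two sides
  have hL : (hW.fromSpec q ∈ AssSch.Ass F ∧ ∀ y ∈ AssSch.Ass F, y ⤳ hW.fromSpec q → y = hW.fromSpec q) ↔
      (q.asIdeal ∈ associatedPrimes Γ(X, W) M ∧
        ∀ q' : PrimeSpectrum Γ(X, W), q'.asIdeal ∈ associatedPrimes Γ(X, W) M →
          q'.asIdeal ≤ q.asIdeal → q' = q) := by
    constructor
    · rintro ⟨h1, h2⟩
      refine ⟨(isAssociatedPrime_maximalIdeal_stalk_iff F hW q).mp h1, ?_⟩
      intro q' hq' hle
      have := h2 (hW.fromSpec q') ((isAssociatedPrime_maximalIdeal_stalk_iff F hW q').mpr hq')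
        ((fromSpec_specializes_iff hW _ _).mpr hle)
      exact hW.fromSpec.isOpenEmbedding.injective this
    · rintro ⟨h1, h2⟩
      refine ⟨(isAssociatedPrime_maximalIdeal_stalk_iff F hW q).mpr h1, ?_⟩
      intro y hy hyx
      have hyW : y ∈ W := hyx.mem_open W.2 hxW
      obtain ⟨q', rfl⟩ := exists_fromSpec_eq hW hyW
      rw [h2 q' ((isAssociatedPrime_maximalIdeal_stalk_iff F hW q').mp hy)
        ((fromSpec_specializes_iff hW _ _).mp hyx)]
  have hsupp : ∀ q' : PrimeSpectrum Γ(X, W),
      Nontrivial ↑(F.presheaf.stalk (hW.fromSpec q')) ↔ Module.annihilator Γ(X, W) M ≤ q'.asIdeal := by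
    intro q'
    rw [nontrivial_stalk_iff F hW q', ← Module.mem_support_iff, Module.mem_support_iff_of_finite]
  have hR : (Nontrivial ↑(F.presheaf.stalk (hW.fromSpec q)) ∧
        ∀ y : X, Nontrivial ↑(F.presheaf.stalk y) → y ⤳ hW.fromSpec q → y = hW.fromSpec q) ↔
      (Module.annihilator Γ(X, W) M ≤ q.asIdeal ∧
        ∀ q' : PrimeSpectrum Γ(X, W), Module.annihilator Γ(X, W) M ≤ q'.asIdeal →
          q'.asIdeal ≤ q.asIdeal → q' = q) := by
    constructor
    · rintro ⟨h1, h2⟩
      refine ⟨(hsupp q).mp h1, ?_⟩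
      intro q' hq' hle
      have := h2 (hW.fromSpec q') ((hsupp q').mpr hq') ((fromSpec_specializes_iff hW _ _).mpr hle)
      exact hW.fromSpec.isOpenEmbedding.injective this
    · rintro ⟨h1, h2⟩
      refine ⟨(hsupp q).mpr h1, ?_⟩
      intro y hy hyx
      have hyW : y ∈ W := hyx.mem_open W.2 hxW
      obtain ⟨q', rfl⟩ := exists_fromSpec_eq hW hyW
      rw [h2 q' ((hsupp q').mp hy) ((fromSpec_specializes_iff hW _ _).mp hyx)]
  rw [hL, hR]
  have hassann : ∀ p ∈ associatedPrimes Γ(X, W) M, Module.annihilator Γ(X, W) M ≤ p := by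
    intro p hp
    have := IsAssociatedPrime.annihilator_le hp
    rwa [Submodule.annihilator_top] at this
  constructor
  · rintro ⟨h1, h2⟩
    refine ⟨hassann _ h1, ?_⟩
    intro q' hq' hle
    obtain ⟨p', hp'min, hp'le⟩ := Ideal.exists_minimalPrimes_le hq'
    have hp'ass : p' ∈ associatedPrimes Γ(X, W) M :=
      Module.associatedPrimes.minimalPrimes_annihilator_subset_associatedPrimes _ _ hp'min
    haveI : p'.IsPrime := hp'min.1.1
    have := h2 ⟨p', inferInstance⟩ hp'ass (hp'le.trans hle)
    have h3 : p' = q.asIdeal := congrArg PrimeSpectrum.asIdeal this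
    exact PrimeSpectrum.ext (le_antisymm hle (h3 ▸ hp'le))
  · rintro ⟨h1, h2⟩
    have hmin : q.asIdeal ∈ (Module.annihilator Γ(X, W) M).minimalPrimes := by
      refine ⟨⟨q.2, h1⟩, ?_⟩
      rintro p' ⟨hp'prime, hp'ann⟩ hp'le
      haveI := hp'prime
      have := h2 ⟨p', inferInstance⟩ hp'ann hp'le
      have h3 : p' = q.asIdeal := congrArg PrimeSpectrum.asIdeal this
      exact h3 ▸ le_rfl
    refine ⟨Module.associatedPrimes.minimalPrimes_annihilator_subset_associatedPrimes _ _ hmin, ?_⟩
    intro q' hq' hle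
    exact h2 q' (hassann _ hq') hle

end Groth.Agent.S4636
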