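import Groth.Statements.S4637
import Mathlib
import Groth.Agent.Lib.helper7.FinLenSupp
import Groth.Agent.Lib.helper9.CohB8

set_option autoImplicit false
open CategoryTheory AlgebraicGeometry
universe u
open AssSch

namespace Groth.Agent.S4637

/-- Let X be a locally Noetherian scheme, F a coherent O_X-module and x a point of X. Then x is the
generic point of an irreducible component of Supp F (F_x ≠ 0 and every point y with F_y ≠ 0 that
specialises to x equals x) if and only if F_x is a nonzero module of finite length over the local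
ring O_{X,x}. -/
theorem result {X : Scheme.{u}} [IsLocallyNoetherian X] (F : X.Modules)
    (hF : Coh.IsCoh F) (x : X) :
    (Nontrivial ↑(F.presheaf.stalk x) ∧ ∀ y : X, Nontrivial ↑(F.presheaf.stalk y) → y ⤳ x → y = x) ↔
      (Nontrivial ↑(F.presheaf.stalk x) ∧ IsFiniteLength ↑(X.presheaf.stalk x) ↑(F.presheaf.stalk x)) := by
  haveI := hF.1
  haveI := hF.2
  obtain ⟨W, hW, hxW, hNoeth, hfin⟩ := Groth.Agent.Lib.helper9.CohB.exists_good_affine F x
  obtain ⟨q, rfl⟩ := Groth.Agent.Lib.helper9.CohB.exists_fromSpec_eq hW hxW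
  have hA := Groth.Agent.Lib.helper7.FinLenSupp.minimal_support_iff
    (Groth.Agent.Lib.helper9.CohB.Γmod (F.restrict hW.fromSpec)) q
  have hnt := fun q' => Groth.Agent.Lib.helper9.CohB.nontrivial_stalk_iff F hW q'
  have hR : (Nontrivial ↑(F.presheaf.stalk (hW.fromSpec q)) ∧
        IsFiniteLength ↑(X.presheaf.stalk (hW.fromSpec q)) ↑(F.presheaf.stalk (hW.fromSpec q))) ↔
      (Nontrivial (LocalizedModule q.asIdeal.primeCompl
          (Groth.Agent.Lib.helper9.CohB.Γmod (F.restrict hW.fromSpec))) ∧
        IsFiniteLength (Localization.AtPrime q.asIdeal)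
          (LocalizedModule q.asIdeal.primeCompl
            (Groth.Agent.Lib.helper9.CohB.Γmod (F.restrict hW.fromSpec)))) := by
    refine and_congr (hnt q) ⟨fun h => ?_, fun h => ?_⟩
    · exact Groth.Agent.Lib.helper7.FinLenSupp.SemiEquiv.isFiniteLength
        (Groth.Agent.Lib.helper9.CohB.stalkSemiEquiv F hW q).symm h
    · exact Groth.Agent.Lib.helper7.FinLenSupp.SemiEquiv.isFiniteLength
        (Groth.Agent.Lib.helper9.CohB.stalkSemiEquiv F hW q) h
  rw [hR, ← hA]
  refine and_congr (hnt q) ⟨fun h q' hq' hle => ?_, fun h y hy hyx => ?_⟩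
  · have h1 := h (hW.fromSpec q') ((hnt q').mpr hq')
      ((Groth.Agent.Lib.helper9.CohB.fromSpec_specializes_iff hW q' q).mpr hle)
    exact hW.fromSpec.isOpenEmbedding.injective h1
  · have hyW : y ∈ W := hyx.mem_open W.isOpen hxW
    obtain ⟨q', rfl⟩ := Groth.Agent.Lib.helper9.CohB.exists_fromSpec_eq hW hyW
    have hle := (Groth.Agent.Lib.helper9.CohB.fromSpec_specializes_iff hW q' q).mp hyx
    rw [h q' ((hnt q').mp hy) hle]
end Groth.Agent.S4637
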