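import Groth.Statements.S4638
import Groth.Agent.Lib.helper9.StalkNat

set_option autoImplicit false
open CategoryTheory AlgebraicGeometry
universe u
open AssSch

namespace Groth.Agent.S4638

/-- Let X be a locally Noetherian scheme, F a quasi-coherent O_X-module and f a global section of O_X.
Then f is F-regular, i.e. multiplication by the germ of f is injective on every stalk of F, if and
only if every associated point of F lies in the open subset X_f where f does not vanish. -/
theorem result {X : Scheme.{u}} [IsLocallyNoetherian X] (F : X.Modules)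
    (hF : Coh.IsQCoh F) (f : Γ(X, ⊤)) :
    (∀ x : X, IsSMulRegular ↑(F.presheaf.stalk x) (X.presheaf.germ ⊤ x trivial f)) ↔
      AssSch.Ass F ⊆ (X.basicOpen f : Set ↥X) := by
  haveI : F.IsQuasicoherent := hF
  constructor
  · intro hreg x hx
    by_contra hxf
    have hnu : ¬ IsUnit (X.presheaf.germ ⊤ x trivial f) :=
      fun hu => hxf ((X.mem_basicOpen_top f x).mpr hu)
    have hmem : X.presheaf.germ ⊤ x trivial f ∈
        IsLocalRing.maximalIdeal (X.presheaf.stalk x) :=
      (IsLocalRing.mem_maximalIdeal _).mpr hnu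
    obtain ⟨hprime, m, hm⟩ : IsAssociatedPrime (IsLocalRing.maximalIdeal (X.presheaf.stalk x))
      (F.presheaf.stalk x) := hx
    rw [hm] at hmem
    obtain ⟨n, hn⟩ := hmem
    rw [Submodule.mem_colon_singleton, Submodule.mem_bot] at hn
    have hm0 : m = 0 := ((hreg x).pow n).right_eq_zero_of_smul hn
    apply hprime.ne_top
    have hcol : (⊥ : Submodule (X.presheaf.stalk x) (F.presheaf.stalk x)).colon
        {(0 : F.presheaf.stalk x)} = ⊤ := by
      ext r
      simp [Submodule.mem_colon_singleton]
    rw [hm, hm0, hcol, Ideal.radical_top]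
  · intro hass x
    rw [isSMulRegular_iff_right_eq_zero_of_smul]
    intro m hm
    by_contra hm0
    obtain ⟨V, hV, hxV, -⟩ := TopologicalSpace.Opens.isBasis_iff_nbhd.mp X.isBasis_affineOpens
      (show x ∈ (⊤ : X.Opens) from trivial)
    haveI : IsNoetherianRing Γ(X, V) := IsLocallyNoetherian.component_noetherian ⟨V, hV⟩
    obtain ⟨q, rfl⟩ := Groth.Agent.Lib.helper9.CohB.exists_fromSpec_eq hV hxV
    have hgerm : X.presheaf.germ ⊤ (hV.fromSpec q) trivial f =
        (Groth.Agent.Lib.helper9.CohB.stalkSemiEquiv F hV q).σ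
          (algebraMap Γ(X, V) (Localization.AtPrime q.asIdeal)
            (X.presheaf.map (homOfLE (le_top : V ≤ ⊤)).op f)) := by
      rw [Groth.Agent.Lib.helper9.CohB.stalkSemiEquiv_σ_algebraMap F hV q hxV]
      exact (TopCat.Presheaf.germ_res_apply X.presheaf (homOfLE (le_top : V ≤ ⊤)) _ hxV f).symm
    obtain ⟨z, rfl⟩ := (Groth.Agent.Lib.helper9.CohB.stalkSemiEquiv F hV q).e.surjective m
    have hz0 : z ≠ 0 := fun h => hm0 (by rw [h, map_zero])
    have hz : (algebraMap Γ(X, V) (Localization.AtPrime q.asIdeal)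
        (X.presheaf.map (homOfLE (le_top : V ≤ ⊤)).op f)) • z = 0 := by
      apply (Groth.Agent.Lib.helper9.CohB.stalkSemiEquiv F hV q).e.injective
      rw [(Groth.Agent.Lib.helper9.CohB.stalkSemiEquiv F hV q).map_smul, ← hgerm, hm, map_zero]
    haveI : IsNoetherianRing (Localization.AtPrime q.asIdeal) :=
      IsLocalization.isNoetherianRing q.asIdeal.primeCompl _ inferInstance
    obtain ⟨Q, hQ, hle⟩ := exists_le_isAssociatedPrime_of_isNoetherianRing
      (Localization.AtPrime q.asIdeal) z hz0
    haveI hQprime : Q.IsPrime := hQ.isPrime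
    have haQ : algebraMap Γ(X, V) (Localization.AtPrime q.asIdeal)
        (X.presheaf.map (homOfLE (le_top : V ≤ ⊤)).op f) ∈ Q := by
      apply hle
      rw [Submodule.mem_colon_singleton, Submodule.mem_bot]
      exact hz
    have h3 := Module.associatedPrimes.comap_mem_associatedPrimes_of_mem_associatedPrimes_of_isLocalizedModule_of_fg
      q.asIdeal.primeCompl
      (LocalizedModule.mkLinearMap q.asIdeal.primeCompl
        (Groth.Agent.Lib.helper9.CohB.Γmod (F.restrict hV.fromSpec))) Q hQ
      ((isNoetherianRing_iff_ideal_fg _).mp inferInstance _)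
    have hP'prime : (Q.comap (algebraMap Γ(X, V) (Localization.AtPrime q.asIdeal))).IsPrime :=
      Ideal.comap_isPrime _ _
    have hy : hV.fromSpec ⟨_, hP'prime⟩ ∈ AssSch.Ass F :=
      (Groth.Agent.Lib.helper9.CohB.isAssPoint_fromSpec_iff F hV ⟨_, hP'prime⟩).mpr h3
    have hyf := hass hy
    have hya : hV.fromSpec ⟨_, hP'prime⟩ ∈
        X.basicOpen (X.presheaf.map (homOfLE (le_top : V ≤ ⊤)).op f) := by
      rw [Scheme.basicOpen_res]
      exact ⟨Groth.Agent.Lib.helper9.CohB.fromSpec_mem hV _, hyf⟩
    have hmem : (⟨_, hP'prime⟩ : PrimeSpectrum Γ(X, V)) ∈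
        hV.fromSpec ⁻¹ᵁ X.basicOpen (X.presheaf.map (homOfLE (le_top : V ≤ ⊤)).op f) := hya
    rw [hV.fromSpec_preimage_basicOpen] at hmem
    exact hmem haQ

end Groth.Agent.S4638
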