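import Groth.Statements.S4639
import Mathlib
import Groth.Agent.Lib.helper4.EmbDescent

set_option autoImplicit false
open CategoryTheory AlgebraicGeometry
universe u
open FDesc

namespace Groth.Agent.S4639

/-- The property of being quasi-compact and universally bicontinuous (every base change is a
homeomorphism onto its image) descends along a surjective, flat and quasi-compact base change. -/
theorem result :
    MorphismProperty.DescendsAlong
      (MorphismProperty.universally (topologically (fun f => Topology.IsEmbedding f)) ⊓ @QuasiCompact : MorphismProperty Scheme.{u})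
      (@Surjective ⊓ @Flat ⊓ @QuasiCompact : MorphismProperty Scheme.{u}) := by
  refine ⟨fun {A X Y Z fst snd f g} H hf hfst => ?_⟩
  obtain ⟨⟨hf1, hf2⟩, hf3⟩ := hf
  obtain ⟨h1, h2⟩ := hfst
  have : Surjective f := hf1
  have : Flat f := hf2
  have : QuasiCompact f := hf3
  have : QuasiCompact fst := h2
  exact ⟨H4EmbDesc.universally_isEmbedding_of_isPullback H h1,
    H4ImmDesc.quasiCompact_of_isPullback H⟩

end Groth.Agent.S4639
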