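import Groth.Statements.S4640
import Mathlib

set_option autoImplicit false
universe u
open FDesc

namespace Groth.Agent.S4640

open TensorProduct in
/-- Let A be a Dedekind domain with fraction field K, M an A-module and P' a K-submodule of K ⊗_A M. Let
φ : M → (K ⊗_A M)/P' be m ↦ class of 1 ⊗ m. Then a submodule Q of M equals ker φ if and only if M/Q
is a flat A-module and the kernel of the induced surjection K ⊗_A M → K ⊗_A (M/Q) is P'. Thus M/ker
φ is the unique flat quotient of M with generic fibre (K ⊗_A M)/P'. (The published statement takes A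
Noetherian, regular and of dimension 1; a field is allowed here, where the statement is immediate.) -/
theorem result {A K : Type u} [CommRing A] [IsDedekindDomain A] [Field K]
    [Algebra A K] [IsFractionRing A K] {M : Type u} [AddCommGroup M] [Module A M]
    (P' : Submodule K (K ⊗[A] M)) (Q : Submodule A M) :
    Q = LinearMap.ker ((P'.restrictScalars A).mkQ ∘ₗ TensorProduct.mk A K M 1) ↔
      (Module.Flat A (M ⧸ Q) ∧ LinearMap.ker (Q.mkQ.baseChange K) = P') := by
  classical
  have hinjK : Function.Injective (algebraMap A K) := IsFractionRing.injective A K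
  -- membership in the kernel of φ
  have hmemφ : ∀ m : M, m ∈ LinearMap.ker ((P'.restrictScalars A).mkQ ∘ₗ TensorProduct.mk A K M 1) ↔
      (1 : K) ⊗ₜ[A] m ∈ P' := by
    intro m
    rw [LinearMap.mem_ker, LinearMap.comp_apply, Submodule.mkQ_apply,
      Submodule.Quotient.mk_eq_zero]
    rfl
  -- A-smul vs K-smul on K ⊗ M
  have hsmul : ∀ (a : A) (x : K ⊗[A] M), a • x = (algebraMap A K a) • x := by
    intro a x
    rw [algebraMap_smul]
  have hunit : ∀ (a : A), a ∈ nonZeroDivisors A → ∀ x : K ⊗[A] M, a • x ∈ P' → x ∈ P' := by
    intro a ha x hx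
    have hne : algebraMap A K a ≠ 0 := by
      intro h0
      exact (nonZeroDivisors.ne_zero ha) (hinjK (by rw [h0, map_zero]))
    rw [hsmul] at hx
    have := P'.smul_mem (algebraMap A K a)⁻¹ hx
    rwa [smul_smul, inv_mul_cancel₀ hne, one_smul] at this
  constructor
  · rintro rfl
    set Q := LinearMap.ker ((P'.restrictScalars A).mkQ ∘ₗ TensorProduct.mk A K M 1) with hQ
    refine ⟨?_, ?_⟩
    · rw [IsDedekindDomain.flat_iff_torsion_eq_bot, eq_bot_iff]
      intro x hx
      obtain ⟨a, ha⟩ := (Submodule.mem_torsion_iff x).1 hx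
      obtain ⟨m, rfl⟩ := Q.mkQ_surjective x
      rw [Submodule.mem_bot]
      have h1 : (a : A) • m ∈ Q := by
        rw [← Submodule.Quotient.mk_eq_zero, Submodule.Quotient.mk_smul]
        exact ha
      rw [hmemφ] at h1
      have h2 : (a : A) • ((1 : K) ⊗ₜ[A] m) ∈ P' := by
        rw [TensorProduct.smul_tmul', TensorProduct.smul_tmul]
        exact h1
      have h3 := hunit a a.2 _ h2
      rw [Submodule.mkQ_apply, Submodule.Quotient.mk_eq_zero, hmemφ]
      exact h3
    · apply le_antisymm
      · intro x hx
        rw [LinearMap.mem_ker] at hx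
        have hx' : (Q.mkQ.lTensor K) x = 0 := hx
        have hx2 : x ∈ LinearMap.ker (Q.mkQ.lTensor K) := hx'
        rw [lTensor_mkQ] at hx2
        obtain ⟨y, rfl⟩ := hx2
        clear hx hx'
        induction y using TensorProduct.induction_on with
        | zero => simp
        | tmul c q =>
          rw [LinearMap.lTensor_tmul]
          have hq : (1 : K) ⊗ₜ[A] (q : M) ∈ P' := (hmemφ q).1 q.2
          have := P'.smul_mem c hq
          rwa [TensorProduct.smul_tmul', smul_eq_mul, mul_one] at this
        | add y z hy hz =>
          rw [map_add]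
          exact P'.add_mem hy hz
      · intro x hx
        haveI : IsLocalizedModule (nonZeroDivisors A) (TensorProduct.mk A K M 1) :=
          (isLocalizedModule_iff_isBaseChange (nonZeroDivisors A) K _).2
            (TensorProduct.isBaseChange A M K)
        obtain ⟨⟨m, s⟩, hms⟩ := IsLocalizedModule.surj (nonZeroDivisors A)
          (TensorProduct.mk A K M 1) x
        have hms' : (s : A) • x = (1 : K) ⊗ₜ[A] m := hms
        have hmQ : m ∈ Q := by
          rw [hmemφ, ← hms', hsmul]
          exact P'.smul_mem _ hx
        rw [LinearMap.mem_ker]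
        have h1 : (Q.mkQ.baseChange K) ((s : A) • x) = 0 := by
          rw [hms', LinearMap.baseChange_tmul, Submodule.mkQ_apply,
            (Submodule.Quotient.mk_eq_zero Q).2 hmQ, TensorProduct.tmul_zero]
        rw [hsmul, map_smul] at h1
        have hne : algebraMap A K (s : A) ≠ 0 := by
          intro h0
          exact (nonZeroDivisors.ne_zero s.2) (hinjK (by rw [h0, map_zero]))
        exact (smul_eq_zero.mp h1).resolve_left hne
  · rintro ⟨hfl, hker⟩
    ext m
    rw [hmemφ, ← hker, LinearMap.mem_ker, LinearMap.baseChange_tmul, Submodule.mkQ_apply]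
    constructor
    · intro hm
      rw [(Submodule.Quotient.mk_eq_zero Q).2 hm, TensorProduct.tmul_zero]
    · intro hm
      have hinj : Function.Injective ((Algebra.linearMap A K).rTensor (M ⧸ Q)) :=
        Module.Flat.rTensor_preserves_injective_linearMap _ hinjK
      have h1 : ((Algebra.linearMap A K).rTensor (M ⧸ Q))
          ((1 : A) ⊗ₜ[A] (Submodule.Quotient.mk m : M ⧸ Q)) = 0 := by
        rw [LinearMap.rTensor_tmul, Algebra.linearMap_apply, map_one]
        exact hm
      have h2 : (1 : A) ⊗ₜ[A] (Submodule.Quotient.mk m : M ⧸ Q) = 0 :=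
        hinj (by rw [h1, map_zero])
      have h3 := congrArg (TensorProduct.lid A (M ⧸ Q)) h2
      rw [TensorProduct.lid_tmul, one_smul, map_zero] at h3
      exact (Submodule.Quotient.mk_eq_zero Q).1 h3

end Groth.Agent.S4640
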