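import Groth.Statements.S4641
import Mathlib
import Groth.Agent.Lib.helper9.CohB12
import Groth.Agent.Lib.helper9.UnitStalk

set_option autoImplicit false
open CategoryTheory AlgebraicGeometry
universe u
open AssSch

namespace Groth.Agent.S4641


theorem maximalIdeal_isAssociatedPrime_of_flat {A B : Type*} [CommRing A] [CommRing B]
    [IsLocalRing A] [IsLocalRing B] [IsNoetherianRing A] [IsNoetherianRing B] [Algebra A B]
    [IsLocalHom (algebraMap A B)] (N : Type*) [AddCommGroup N] [Module A N] [Module B N]
    [IsScalarTower A B N] [Module.Flat A N]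
    (h : IsAssociatedPrime (IsLocalRing.maximalIdeal B) N) :
    IsAssociatedPrime (IsLocalRing.maximalIdeal A) A := by
  rw [isAssociatedPrime_iff] at h
  obtain ⟨-, n, hn⟩ := h
  have hn0 : n ≠ 0 := by
    rintro rfl
    have : (1 : B) ∈ IsLocalRing.maximalIdeal B := by
      rw [hn, Submodule.mem_colon_singleton]; simp
    exact (Ideal.ne_top_iff_one _).mp (IsLocalRing.maximalIdeal.isMaximal B).ne_top this
  have hzd : ((IsLocalRing.maximalIdeal A : Ideal A) : Set A) ⊆ (nonZeroDivisors A : Set A)ᶜ := by
    intro a ha hreg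
    have hsm : IsSMulRegular N a := Module.Flat.isSMulRegular_of_nonZeroDivisors hreg
    have hmB : algebraMap A B a ∈ IsLocalRing.maximalIdeal B := by
      have : ¬ IsUnit a := ha
      exact fun hu => this (isUnit_of_map_unit (algebraMap A B) a hu)
    rw [hn, Submodule.mem_colon_singleton] at hmB
    have h0 : a • n = a • (0 : N) := by
      rw [smul_zero, ← algebraMap_smul B a n]; simpa using hmB
    exact hn0 (hsm h0)
  have fin := associatedPrimes.finite A A
  rw [← biUnion_associatedPrimes_eq_compl_nonZeroDivisors] at hzd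
  obtain ⟨P, hP⟩ := ((IsLocalRing.maximalIdeal A).subset_union_prime_finite fin (f := id) 0 0
    fun _ h _ _ ↦ h.isPrime).1 (by simpa using hzd)
  have hPm : P ≤ IsLocalRing.maximalIdeal A := IsLocalRing.le_maximalIdeal hP.1.isPrime.ne_top
  have : P = IsLocalRing.maximalIdeal A := le_antisymm hPm hP.2
  exact this ▸ hP.1

open Groth.Agent.Lib.helper9 Groth.Agent.Lib.helper9.CohB Groth.Agent.Lib.helper9.UnitStalk
  TopologicalSpace in
theorem exists_ass_specializes {Y : Scheme.{u}} [IsLocallyNoetherian Y] (y : Y) :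
    ∃ y' : Y, y' ⤳ y ∧ y' ∈ AssSch.Ass (Coh.structureModule Y) := by
  obtain ⟨V, hV, hyV, -⟩ := TopologicalSpace.Opens.isBasis_iff_nbhd.mp Y.isBasis_affineOpens
    (show y ∈ (⊤ : Y.Opens) from trivial)
  haveI : IsNoetherianRing Γ(Y, V) := IsLocallyNoetherian.component_noetherian ⟨V, hV⟩
  obtain ⟨q, rfl⟩ := exists_fromSpec_eq hV hyV
  obtain ⟨P', hP'min, hP'le⟩ :=
    Ideal.exists_minimalPrimes_le (bot_le : (⊥ : Ideal Γ(Y, V)) ≤ q.asIdeal)
  have hP'prime : P'.IsPrime := hP'min.1.1
  have hP'ass : P' ∈ associatedPrimes Γ(Y, V) Γ(Y, V) := by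
    apply Module.associatedPrimes.minimalPrimes_annihilator_subset_associatedPrimes Γ(Y, V) Γ(Y, V)
    have hann : Module.annihilator Γ(Y, V) Γ(Y, V) = ⊥ := by
      rw [eq_bot_iff]
      intro r hr
      have := Module.mem_annihilator.mp hr 1
      rw [smul_eq_mul, mul_one] at this
      exact this
    rw [hann]
    exact hP'min
  refine ⟨hV.fromSpec ⟨P', hP'prime⟩, ?_, isAssPoint_unit_fromSpec hV ⟨P', hP'prime⟩ hP'ass⟩
  exact (fromSpec_specializes_iff hV ⟨P', hP'prime⟩ q).mpr hP'le

/-- Let f : X → Y be a morphism of locally Noetherian schemes such that Y has no embedded associated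
points, and let F be a quasi-coherent O_X-module which is flat over Y. Then for every associated
point x of F, f(x) is a maximal point of Y (every point of Y specialising to f(x) equals f(x)). (The
published statement assumes only Y locally Noetherian; X is taken locally Noetherian here so that
associated points are those whose maximal ideal is an annihilator.) -/
theorem result {X Y : Scheme.{u}} (f : X ⟶ Y) [IsLocallyNoetherian X]
    [IsLocallyNoetherian Y] (hY : AssSch.NoEmbedded (Coh.structureModule Y)) (F : X.Modules) (hF : Coh.IsQCoh F)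
    (hfl : FlatMod.IsFlatOver f F) (x : X) (hx : x ∈ AssSch.Ass F) (y : Y) (hy : y ⤳ f x) : y = f x := by
  obtain ⟨hprime, hstalk⟩ : True ∧ IsAssociatedPrime (IsLocalRing.maximalIdeal (Y.presheaf.stalk (f x)))
      (Y.presheaf.stalk (f x)) := by
    refine ⟨trivial, ?_⟩
    have hx' : IsAssociatedPrime (IsLocalRing.maximalIdeal (X.presheaf.stalk x))
      (F.presheaf.stalk x) := hx
    algebraize [(f.stalkMap x).hom]
    letI := FlatMod.moduleStalkOver f F x
    haveI : IsScalarTower (Y.presheaf.stalk (f.base x)) (X.presheaf.stalk x) (F.presheaf.stalk x) :=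
      IsScalarTower.of_algebraMap_smul fun r m => rfl
    haveI : Module.Flat (Y.presheaf.stalk (f.base x)) (F.presheaf.stalk x) := hfl x
    haveI : IsLocalHom (algebraMap (Y.presheaf.stalk (f.base x)) (X.presheaf.stalk x)) :=
      f.toLRSHom.prop x
    exact Groth.Agent.S4641.maximalIdeal_isAssociatedPrime_of_flat (F.presheaf.stalk x) hx'
  have hfx : f x ∈ AssSch.Ass (Coh.structureModule Y) :=
    (Groth.Agent.Lib.helper9.UnitStalk.isAssPoint_unit_iff (f x)).mpr hstalk
  obtain ⟨y', hy'y, hy'⟩ := Groth.Agent.S4641.exists_ass_specializes y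
  have h1 : f x = y' := hY (f x) hfx y' hy' (hy'y.trans hy)
  have h2 : y ⤳ y' := h1 ▸ hy
  have h3 : y = y' := (hy'y.antisymm h2).symm.eq
  rw [h3, h1]

end Groth.Agent.S4641
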