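import Groth.Statements.S4644
import Mathlib
import Groth.Agent.Lib.helper7.DimSch14
import Groth.Agent.Lib.helper7.DimSch10
import Groth.Agent.Lib.helper7.TensorDim6
import Groth.Agent.Lib.helper9.TopDim

set_option autoImplicit false
open CategoryTheory AlgebraicGeometry
universe u
open FBase

namespace Groth.Agent.S4644


/-- A maximal point of a locally Noetherian scheme has an open neighbourhood basis element inside
its closure. -/
theorem exists_isOpen_subset_closure {Y : Scheme.{u}} [IsLocallyNoetherian Y] (η : Y)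
    (hη : ∀ z : Y, z ⤳ η → z = η) :
    ∃ o : Set Y, IsOpen o ∧ o.Nonempty ∧ o ⊆ closure {η} := by
  obtain ⟨_, ⟨U, hU, rfl⟩, hηU, -⟩ :=
    Y.isBasis_affineOpens.exists_subset_of_mem_open (Set.mem_univ η) isOpen_univ
  haveI : IsNoetherianRing Γ(Y, U) := IsLocallyNoetherian.component_noetherian ⟨U, hU⟩
  haveI : TopologicalSpace.NoetherianSpace ↥U := noetherianSpace_of_isAffineOpen U hU
  have hmax : ∀ z : ↥U, z ⤳ ⟨η, hηU⟩ → z = ⟨η, hηU⟩ := fun z hz =>
    Subtype.ext (hη z.1 ((subtype_specializes_iff _ _).mp hz))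
  haveI : QuasiSober ↥U := U.2.isOpenEmbedding_subtypeVal.quasiSober
  have hcomp := (Groth.Agent.Lib.helper7.DimSch.closure_mem_irreducibleComponents_iff
    (⟨η, hηU⟩ : ↥U)).mpr hmax
  obtain ⟨o, ho, hone, hsub⟩ :=
    TopologicalSpace.NoetherianSpace.exists_isOpen_nonempty_subset_irreducibleComponent _ hcomp
  refine ⟨Subtype.val '' o, U.2.isOpenMap_subtype_val _ ho, hone.image _, ?_⟩
  rintro _ ⟨w, hw, rfl⟩
  have h1 := hsub hw
  exact specializes_iff_mem_closure.mp
    ((subtype_specializes_iff _ _).mp (specializes_iff_mem_closure.mpr h1))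

/-- Let Y be a nonempty scheme locally of finite type over a field k whose irreducible components all
have the same dimension, and let Z be a locally closed subset of Y (the underlying set of a
subscheme). Then Z is nowhere dense in Y if and only if dim Z < dim Y. (For Y empty the left side
holds and the right side fails, so Y is taken nonempty; dimensions are Krull dimensions of the
underlying spaces.) -/
theorem result {k : Type u} [Field k] {Y : Scheme.{u}} [Nonempty ↥Y]
    (g : Y ⟶ Spec (CommRingCat.of k)) [LocallyOfFiniteType g]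
    (heq : ∀ T ∈ irreducibleComponents ↥Y, topologicalKrullDim ↥T = topologicalKrullDim ↥Y)
    (Z : Set ↥Y) (hZ : IsLocallyClosed Z) :
    IsNowhereDense Z ↔ topologicalKrullDim ↥Z < topologicalKrullDim ↥Y := by
  letI : Y.Over (Spec (CommRingCat.of k)) := ⟨g⟩
  haveI : LocallyOfFiniteType (Y ↘ Spec (CommRingCat.of k)) := ‹LocallyOfFiniteType g›
  haveI : IsLocallyNoetherian Y :=
    LocallyOfFiniteType.isLocallyNoetherian (Y ↘ Spec (CommRingCat.of k))
  obtain ⟨y₀⟩ := ‹Nonempty ↥Y›
  obtain ⟨η₀, hη₀, hη₀max⟩ := Groth.Agent.Lib.helper7.DimSch.exists_maximal_generization y₀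
  have hT₀ := (Groth.Agent.Lib.helper7.DimSch.closure_mem_irreducibleComponents_iff η₀).mpr hη₀max
  have hd : topologicalKrullDim ↥Y =
      ((Groth.Agent.Lib.helper7.DimSch.trdegNat k Y η₀ : ℕ) : WithBot ℕ∞) := by
    rw [← heq _ hT₀, Groth.Agent.Lib.helper7.DimSch.topologicalKrullDim_closure_singleton k Y η₀]
  generalize Groth.Agent.Lib.helper7.DimSch.trdegNat k Y η₀ = d at hd
  have hmaxd : ∀ η : Y, (∀ z : Y, z ⤳ η → z = η) →
      Groth.Agent.Lib.helper7.DimSch.trdegNat k Y η = d := by
    intro η hη
    have h1 := heq _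
      ((Groth.Agent.Lib.helper7.DimSch.closure_mem_irreducibleComponents_iff η).mpr hη)
    rw [Groth.Agent.Lib.helper7.DimSch.topologicalKrullDim_closure_singleton k Y η, hd] at h1
    exact_mod_cast h1
  rw [hd]
  constructor
  · intro hnd
    by_contra hcon
    rw [not_lt] at hcon
    have h1 : (d : WithBot ℕ∞) ≤ topologicalKrullDim ↥(closure Z) :=
      hcon.trans (Groth.Agent.H9TopDim.dim_mono subset_closure)
    have h2 : ∃ z ∈ closure Z, d ≤ Groth.Agent.Lib.helper7.DimSch.trdegNat k Y z := by
      by_contra hno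
      push Not at hno
      rcases Nat.eq_zero_or_pos d with h0 | hpos
      · have hempty : closure Z = ∅ := by
          ext z
          simp only [Set.mem_empty_iff_false, iff_false]
          intro hz
          have := hno z hz
          omega
        haveI : IsEmpty ↥(closure Z) := by rw [hempty]; infer_instance
        rw [Groth.Agent.Lib.helper7.TensorDim.topologicalKrullDim_eq_bot_of_isEmpty] at h1
        exact absurd h1 (by simp)
      · have h3 := Groth.Agent.Lib.helper7.DimSch.topologicalKrullDim_le_of_forall_trdegNat_le k Y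
          (closure Z) isClosed_closure (d - 1) (fun z hz => by have := hno z hz; omega)
        have h4 := h1.trans h3
        have h5 : d ≤ d - 1 := by exact_mod_cast h4
        omega
    obtain ⟨z, hz, hdz⟩ := h2
    obtain ⟨η, hη, hηmax⟩ := Groth.Agent.Lib.helper7.DimSch.exists_maximal_generization z
    have h4 := hmaxd η hηmax
    have hzη : η = z := by
      by_contra hne
      have := Groth.Agent.Lib.helper7.DimSch.trdegNat_lt_of_specializes k Y η z hη hne
      omega
    subst hzη
    obtain ⟨o, ho, hone, hsub⟩ := exists_isOpen_subset_closure η hηmax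
    have h5 : o ⊆ interior (closure Z) :=
      interior_maximal (hsub.trans
        (closure_minimal (Set.singleton_subset_iff.mpr hz) isClosed_closure)) ho
    obtain ⟨w, hw⟩ := hone
    have h6 := h5 hw
    rw [IsNowhereDense] at hnd
    rw [hnd] at h6
    exact h6
  · intro hlt
    rw [IsNowhereDense]
    by_contra hne
    obtain ⟨v, hv⟩ := Set.nonempty_iff_ne_empty.mpr hne
    have hVZ : (interior (closure Z) ∩ Z).Nonempty :=
      mem_closure_iff.mp (interior_subset hv) _ isOpen_interior hv
    obtain ⟨w, hwV, hwZ⟩ := hVZ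
    obtain ⟨U, C, hU, hC, rfl⟩ := hZ
    have hWopen : IsOpen (interior (closure (U ∩ C)) ∩ U) := isOpen_interior.inter hU
    have hWsub : interior (closure (U ∩ C)) ∩ U ⊆ U ∩ C := fun x hx =>
      ⟨hx.2, (closure_minimal Set.inter_subset_right hC) (interior_subset hx.1)⟩
    have hwW : w ∈ interior (closure (U ∩ C)) ∩ U := ⟨hwV, hwZ.1⟩
    obtain ⟨η, hη, hηmax⟩ := Groth.Agent.Lib.helper7.DimSch.exists_maximal_generization w
    have hηW : η ∈ interior (closure (U ∩ C)) ∩ U := hη.mem_open hWopen hwW
    have h1 := Groth.Agent.H9TopDim.localDim_le_dim_open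
      (⟨interior (closure (U ∩ C)) ∩ U, hWopen⟩ : TopologicalSpace.Opens ↥Y) η hηW
    have h2 : topologicalKrullDim ↥(interior (closure (U ∩ C)) ∩ U) ≤
        topologicalKrullDim ↥(U ∩ C) := Groth.Agent.H9TopDim.dim_mono hWsub
    rw [Groth.Agent.Lib.helper7.DimSch.localDim_eq_stalk_add_trdegNat k Y η, hmaxd η hηmax] at h1
    have h3 : (d : WithBot ℕ∞) ≤ ringKrullDim (Y.presheaf.stalk η) + (d : WithBot ℕ∞) :=
      le_add_of_nonneg_left ringKrullDim_nonneg_of_nontrivial
    exact absurd (h3.trans (h1.trans h2)) (not_le.mpr hlt)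
end Groth.Agent.S4644
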