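import Groth.Statements.S4647
import Mathlib
import Groth.Agent.Lib.helper7.DimSch3

set_option autoImplicit false
open CategoryTheory AlgebraicGeometry
universe u
open FDesc

namespace Groth.Agent.S4647


open Groth.Agent.Lib.helper7.DimSch in
theorem eq_of_mem_irreducibleComponents {S : Scheme.{u}} (s : S)
    [IsDomain (S.presheaf.stalk s)] {Z Z' : Set S} (hZ : Z ∈ irreducibleComponents S)
    (hZ' : Z' ∈ irreducibleComponents S) (hs : s ∈ Z) (hs' : s ∈ Z') : Z = Z' := by
  have key : ∀ W : Set S, W ∈ irreducibleComponents S → s ∈ W →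
      W = closure {S.fromSpecStalk s (⊥ : PrimeSpectrum (S.presheaf.stalk s))} := by
    intro W hW hsW
    obtain ⟨ζ, hζ⟩ := QuasiSober.sober hW.1 (isClosed_of_mem_irreducibleComponents W hW)
    have hζmax : ∀ z : S, z ⤳ ζ → z = ζ := by
      rw [← closure_mem_irreducibleComponents_iff, hζ.def]; exact hW
    have hζs : ζ ⤳ s := hζ.specializes hsW
    obtain ⟨p, rfl⟩ : ζ ∈ Set.range (S.fromSpecStalk s) := by
      rw [Scheme.range_fromSpecStalk]; exact hζs
    have h1 : (⊥ : PrimeSpectrum (S.presheaf.stalk s)) ⤳ p :=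
      (PrimeSpectrum.le_iff_specializes _ _).mp bot_le
    have h2 := hζmax _ (h1.map (S.fromSpecStalk s).continuous)
    rw [← hζ.def, h2]
  rw [key Z hZ hs, key Z' hZ' hs']

theorem exists_isIntegral_of_noetherianSpace {S : Scheme.{u}} [TopologicalSpace.NoetherianSpace S]
    (hS : ∀ s : S, IsDomain (S.presheaf.stalk s)) (s : S) :
    ∃ V : S.Opens, s ∈ V ∧ IsIntegral (V : Scheme.{u}) := by
  have hfin : (irreducibleComponents S).Finite :=
    TopologicalSpace.NoetherianSpace.finite_irreducibleComponents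
  let C : Set (Set S) := {Z ∈ irreducibleComponents S | s ∉ Z}
  have hCfin : C.Finite := hfin.subset (fun Z hZ => hZ.1)
  have hTcl : IsClosed (⋃₀ C) := by
    rw [Set.sUnion_eq_biUnion]
    exact hCfin.isClosed_biUnion fun Z hZ => isClosed_of_mem_irreducibleComponents Z hZ.1
  let V : S.Opens := ⟨(⋃₀ C)ᶜ, hTcl.isOpen_compl⟩
  have hsV : s ∈ V := by
    rintro ⟨Z, hZ, hsZ⟩
    exact hZ.2 hsZ
  refine ⟨V, hsV, ?_⟩
  have hVsub : (V : Set S) ⊆ irreducibleComponent s := by
    intro v hv
    by_contra hvn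
    apply hv
    refine ⟨irreducibleComponent v, ⟨irreducibleComponent_mem_irreducibleComponents v, ?_⟩,
      mem_irreducibleComponent⟩
    intro hs
    haveI := hS s
    have := eq_of_mem_irreducibleComponents s (irreducibleComponent_mem_irreducibleComponents v)
      (irreducibleComponent_mem_irreducibleComponents s) hs mem_irreducibleComponent
    exact hvn (this ▸ mem_irreducibleComponent)
  have hVirr : IsIrreducible (V : Set S) :=
    ⟨⟨s, hsV⟩, isIrreducible_irreducibleComponent.isPreirreducible.open_subset V.2 hVsub⟩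
  haveI : IrreducibleSpace ↥(V : Scheme.{u}) := Subtype.irreducibleSpace hVirr
  haveI : ∀ x : S, _root_.IsReduced (S.presheaf.stalk x) := fun x => by
    haveI := hS x
    infer_instance
  haveI : IsReduced S := isReduced_of_isReduced_stalk S
  haveI : IsReduced (V : Scheme.{u}) := isReduced_of_isOpenImmersion V.ι
  exact isIntegral_of_irreducibleSpace_of_isReduced _


theorem main {X Y : Scheme.{u}} (f : X ⟶ Y) [Flat f] [Surjective f]
    (hX : ∀ x : X, IsDomain ↑(X.presheaf.stalk x))
    (hY : ∀ y : Y, ∃ U : Y.Opens, y ∈ U ∧ TopologicalSpace.NoetherianSpace ↥U) (y : Y) :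
    ∃ U : Y.Opens, y ∈ U ∧ IsIntegral (U : Scheme.{u}) := by
  have hYdom : ∀ y : Y, IsDomain (Y.presheaf.stalk y) := by
    intro y
    obtain ⟨x, rfl⟩ := f.surjective y
    haveI := hX x
    have hinj : Function.Injective (f.stalkMap x).hom := by
      algebraize [(f.stalkMap x).hom]
      have : Module.FaithfullyFlat (Y.presheaf.stalk (f x)) (X.presheaf.stalk x) :=
        @Module.FaithfullyFlat.of_flat_of_isLocalHom _ _ _ _ _ _ _
          (Flat.stalkMap f x) (f.toLRSHom.prop x)
      exact ‹RingHom.FaithfullyFlat _›.injective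
    exact Function.Injective.isDomain (f.stalkMap x).hom hinj
  obtain ⟨U, hyU, hU⟩ := hY y
  haveI : TopologicalSpace.NoetherianSpace ↥(U : Scheme.{u}) := hU
  have hUdom : ∀ u : (U : Scheme.{u}), IsDomain ((U : Scheme.{u}).presheaf.stalk u) := by
    intro u
    haveI := hYdom u.1
    exact Function.Injective.isDomain (U.stalkIso u).hom.hom
      (ConcreteCategory.bijective_of_isIso (U.stalkIso u).hom).1
  obtain ⟨V, huV, hV⟩ := exists_isIntegral_of_noetherianSpace hUdom ⟨y, hyU⟩
  refine ⟨U.ι ''ᵁ V, ⟨⟨y, hyU⟩, huV, rfl⟩, ?_⟩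
  haveI : Nonempty ↥((U.ι ''ᵁ V : Y.Opens) : Scheme.{u}) := ⟨⟨y, ⟨⟨y, hyU⟩, huV, rfl⟩⟩⟩
  exact isIntegral_of_isOpenImmersion (U.ι.isoImage V).inv

/-- Let f : X → Y be a faithfully flat (flat and surjective) morphism. If all local rings of X are
domains (in particular if X is locally integral) and the underlying space of Y is locally
Noetherian, then Y is locally integral: every point of Y has an open neighbourhood which is an
integral scheme. -/
theorem result {X Y : Scheme.{u}} (f : X ⟶ Y) [Flat f] [Surjective f]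
    (hX : ∀ x : X, IsDomain ↑(X.presheaf.stalk x))
    (hY : ∀ y : Y, ∃ U : Y.Opens, y ∈ U ∧ TopologicalSpace.NoetherianSpace ↥U) (y : Y) :
    ∃ U : Y.Opens, y ∈ U ∧ IsIntegral (U : Scheme.{u}) := by
  exact Groth.Agent.S4647.main f hX hY y

end Groth.Agent.S4647
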