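import Groth.Statements.S4648
import Mathlib
import Groth.Agent.Lib.helper7.QuasiFlat2
import Groth.Agent.Lib.helper7.PC6
import Groth.Agent.Lib.helper7.PC5

set_option autoImplicit false
open CategoryTheory AlgebraicGeometry
universe u
open FDesc

namespace Groth.Agent.S4648

/-- Let f : X → Y be a quasi-flat, surjective and quasi-compact morphism and Z a subset of Y. Then Z is
a locally closed pro-constructible subset of Y if and only if f⁻¹(Z) is a locally closed
pro-constructible subset of X. -/
theorem result {X Y : Scheme.{u}} (f : X ⟶ Y)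
    (hf : FDesc.IsQuasiFlat f) [Surjective f] [QuasiCompact f] (Z : Set ↥Y) :
    (IsLocallyClosed Z ∧ ProCons.IsProConstructible Z) ↔
      (IsLocallyClosed (⇑f ⁻¹' Z) ∧ ProCons.IsProConstructible (⇑f ⁻¹' Z)) := by
  constructor
  · rintro ⟨h1, h2⟩
    exact ⟨h1.preimage f.continuous,
      Groth.Agent.Lib.helper23.ProConsLib.isProConstructible_preimage f Z h2⟩
  · rintro ⟨h1, h2⟩
    have hpc : ProCons.IsProConstructible Z :=
      ((Groth.Agent.Lib.helper7.PC.constructibility_iff_preimage f (Or.inl inferInstance) Z).2.1).mpr h2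
    refine ⟨?_, hpc⟩
    have hq := Groth.Agent.Lib.helper7.QuasiFlat.isQuotientMap_of_isQuasiFlat f hf
    rw [isLocallyClosed_iff_isOpen_coborder, ← hq.isOpen_preimage]
    have h3 := Groth.Agent.Lib.helper7.QuasiFlat.preimage_closure_eq_of_isQuasiFlat f hf hpc
    have h4 : f.base ⁻¹' coborder Z = coborder (f.base ⁻¹' Z) := by
      simp only [coborder, Set.preimage_compl, Set.preimage_sdiff, h3]
    rw [h4]
    exact h1.isOpen_coborder

end Groth.Agent.S4648
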