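import Groth.Statements.S4650
import Mathlib

set_option autoImplicit false
open CategoryTheory AlgebraicGeometry
universe u
open FDesc

namespace Groth.Agent.S4650

/-- Let f : X → Y be a morphism of schemes along which generizations lift (this holds for flat,
quasi-flat or open morphisms). Then every irreducible component of X dominates an irreducible
component of Y: the closure of its image is an irreducible component of Y. -/
theorem result {X Y : Scheme.{u}} (f : X ⟶ Y)
    (hf : GeneralizingMap ⇑f) (T : Set ↥X) (hT : T ∈ irreducibleComponents ↥X) :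
    closure (⇑f '' T) ∈ irreducibleComponents ↥Y := by
  have hTirr : IsIrreducible T := hT.1
  have hTcl : IsClosed T := isClosed_of_mem_irreducibleComponents T hT
  set ξ := hTirr.genericPoint with hξdef
  have hξ : IsGenericPoint ξ T := hTirr.isGenericPoint_genericPoint hTcl
  have hcl : closure (⇑f '' T) = closure {f ξ} := (hξ.image f.continuous).def.symm
  rw [hcl]
  have hirr : IsIrreducible (closure ({f ξ} : Set Y)) := isIrreducible_singleton.closure
  obtain ⟨Z, hZ, hsub⟩ := exists_mem_irreducibleComponents_subset_of_isIrreducible _ hirr
  have hZirr : IsIrreducible Z := hZ.1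
  have hZcl : IsClosed Z := isClosed_of_mem_irreducibleComponents Z hZ
  set η := hZirr.genericPoint with hηdef
  have hη : IsGenericPoint η Z := hZirr.isGenericPoint_genericPoint hZcl
  have hspec : η ⤳ f ξ := hη.specializes (hsub (subset_closure rfl))
  obtain ⟨ξ', hξ', hfξ'⟩ := hf hspec
  -- closure {ξ'} contains T and is irreducible, so equals T
  have hsub2 : T ⊆ closure ({ξ'} : Set X) := by
    rw [← hξ.def]
    exact hξ'.closure_subset
  have heq : closure ({ξ'} : Set X) ≤ T := hT.2 isIrreducible_singleton.closure hsub2
  have hξ'T : ξ' ∈ T := heq (subset_closure rfl)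
  have hξξ' : ξ ⤳ ξ' := hξ.specializes hξ'T
  have : ξ = ξ' := (hξξ'.antisymm hξ').eq
  rw [this, hfξ', hη.def]
  exact hZ

end Groth.Agent.S4650
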