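import Groth.Statements.S4651
import Mathlib

set_option autoImplicit false
open CategoryTheory AlgebraicGeometry
universe u
open FDesc

namespace Groth.Agent.S4651

/-- Let Y be a scheme whose family of irreducible components is locally finite (every point has an open
neighbourhood meeting only finitely many irreducible components), and let f : X → Y be a morphism
along which generizations lift (e.g. flat, quasi-flat or open) such that every fibre f⁻¹(y) is a
finite set (e.g. f quasi-finite or radicial). Then the family of irreducible components of X is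
locally finite. -/
theorem result {X Y : Scheme.{u}} (f : X ⟶ Y)
    (hY : ∀ y : Y, ∃ U : Set ↥Y, IsOpen U ∧ y ∈ U ∧ {Z ∈ irreducibleComponents ↥Y | (Z ∩ U).Nonempty}.Finite)
    (hf : GeneralizingMap ⇑f) (hfin : ∀ y : Y, (⇑f ⁻¹' {y}).Finite) (x : X) :
    ∃ U : Set ↥X, IsOpen U ∧ x ∈ U ∧ {T ∈ irreducibleComponents ↥X | (T ∩ U).Nonempty}.Finite := by
  obtain ⟨U, hUo, hyU, hUfin⟩ := hY (f x)
  refine ⟨f ⁻¹' U, hUo.preimage f.continuous, hyU, ?_⟩
  have hgenY : ∀ Z ∈ irreducibleComponents ↥Y, ∃ η : Y, IsGenericPoint η Z := fun Z hZ =>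
    QuasiSober.sober hZ.1 (isClosed_of_mem_irreducibleComponents Z hZ)
  have hGfin : {η : Y | closure {η} ∈
      {Z ∈ irreducibleComponents ↥Y | (Z ∩ U).Nonempty}}.Finite :=
    Set.Finite.of_injOn (f := fun η : Y => closure ({η} : Set Y)) (fun η hη => hη)
      (fun a _ b _ hab => IsGenericPoint.eq (hab : IsGenericPoint a _) (rfl : IsGenericPoint b _))
      hUfin
  have hFfin : (f ⁻¹' {η : Y | closure {η} ∈
      {Z ∈ irreducibleComponents ↥Y | (Z ∩ U).Nonempty}}).Finite := by
    have h : f ⁻¹' {η : Y | closure {η} ∈ {Z ∈ irreducibleComponents ↥Y | (Z ∩ U).Nonempty}} =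
        ⋃ η ∈ {η : Y | closure {η} ∈ {Z ∈ irreducibleComponents ↥Y | (Z ∩ U).Nonempty}},
          f ⁻¹' {η} := by
      ext z
      simp
    rw [h]
    exact hGfin.biUnion (fun η _ => hfin η)
  have key : ∀ T ∈ {T ∈ irreducibleComponents ↥X | (T ∩ f ⁻¹' U).Nonempty}, ∃ ξ : X,
      IsGenericPoint ξ T ∧ ξ ∈ f ⁻¹' {η : Y | closure {η} ∈
        {Z ∈ irreducibleComponents ↥Y | (Z ∩ U).Nonempty}} := by
    rintro T ⟨hT, hTU⟩
    obtain ⟨ξ, hξ⟩ := QuasiSober.sober hT.1 (isClosed_of_mem_irreducibleComponents T hT)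
    refine ⟨ξ, hξ, ?_⟩
    obtain ⟨t, htT, htU⟩ := hTU
    have hξt : ξ ⤳ t := hξ.specializes htT
    have hξU : ξ ∈ f ⁻¹' U := hξt.mem_open (hUo.preimage f.continuous) htU
    have hmax : ∀ y' : Y, y' ⤳ f ξ → y' = f ξ := by
      intro y' hy'
      obtain ⟨x', hx', rfl⟩ := hf hy'
      have h1 : T ⊆ closure {x'} := by
        rw [← hξ.def]; exact specializes_iff_closure_subset.mp hx'
      have h2 : closure {x'} = T := (hT.2 isIrreducible_singleton.closure h1).antisymm h1
      rw [IsGenericPoint.eq (h2 : IsGenericPoint x' T) hξ]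
    have hcomp : closure {f ξ} ∈ irreducibleComponents ↥Y := by
      have hC := irreducibleComponent_mem_irreducibleComponents (f ξ)
      obtain ⟨c, hc⟩ := hgenY _ hC
      have hcξ : c = f ξ := hmax c (hc.specializes mem_irreducibleComponent)
      rw [← hcξ, hc.def]; exact hC
    exact ⟨hcomp, ⟨f ξ, subset_closure rfl, hξU⟩⟩
  have : Nonempty ↥X := ⟨x⟩
  choose! g hg1 hg2 using key
  exact Set.Finite.of_injOn (f := g) (fun T hT => hg2 T hT)
    (fun a ha b hb hab => by rw [← (hg1 a ha).def, ← (hg1 b hb).def, hab]) hFfin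

end Groth.Agent.S4651
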