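import Groth.Statements.S4652
import Groth.Agent.Lib.helper9.LocFree

set_option autoImplicit false
open CategoryTheory AlgebraicGeometry
universe u
open FDesc

namespace Groth.Agent.S4652

open CategoryTheory CategoryTheory.Limits AlgebraicGeometry in
set_option backward.isDefEq.respectTransparency false in
lemma main {X : Scheme.{u}} (F : X.Modules) (hF : CohB1.IsFP F) (x : X) :
    FlatMod.IsFlatAt F x ↔ ∃ U : X.Opens, x ∈ U ∧
      FlatMod.IsFinLocFree ((Scheme.Modules.pullback U.ι).obj F) := by
  haveI : SheafOfModules.IsFinitePresentation.{u} F := hF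
  haveI : F.IsQuasicoherent := inferInstance
  constructor
  · intro hflat
    have hfree := Groth.Agent.Lib.helper9.LocFree.free_stalk_of_flat F x hflat
    obtain ⟨V, n, hxV, ⟨i⟩⟩ :=
      Groth.Agent.Lib.helper9.LocFree.exists_nhd_restrict_iso_freeMod_of_fp F x hfree
    refine ⟨V, hxV, ?_⟩
    intro y
    refine ⟨⊤, n, trivial, ⟨?_⟩⟩
    exact (Scheme.Modules.restrictFunctor (⊤ : V.toScheme.Opens).ι).mapIso
        ((Scheme.Modules.restrictFunctorIsoPullback V.ι).symm.app F ≪≫ i) ≪≫
      Groth.Agent.Lib.helper9.LocFree.freeModRestrictIso (⊤ : V.toScheme.Opens).ι n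
  · rintro ⟨U, hxU, h⟩
    obtain ⟨W, n, hxW, ⟨i⟩⟩ := h ⟨x, hxU⟩
    have i' : F.restrict (W.ι ≫ U.ι) ≅ FlatMod.freeMod W n :=
      (Scheme.Modules.restrictFunctorComp W.ι U.ι).app F ≪≫
        (Scheme.Modules.restrictFunctor W.ι).mapIso
          ((Scheme.Modules.restrictFunctorIsoPullback U.ι).app F) ≪≫ i
    obtain ⟨i''⟩ := Groth.Agent.Lib.helper9.LocFree.restrict_ι_iso_of_range_eq (F := F)
      (W.ι ≫ U.ι) (U.ι ''ᵁ W) (by
        rw [Scheme.Hom.comp_base, TopCat.coe_comp, Set.range_comp, Scheme.Opens.range_ι]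
        rfl) n ⟨i'⟩
    haveI := Groth.Agent.Lib.helper9.LocFree.free_stalk_of_restrict_iso F n i'' x
      ⟨⟨x, hxU⟩, hxW, rfl⟩
    show Module.Flat (X.presheaf.stalk x) (F.presheaf.stalk x)
    infer_instance


/-- Let X be a scheme, F a finitely presented O_X-module and x a point of X. Then F_x is a flat module
over the local ring O_{X,x} if and only if x has an open neighbourhood U such that the restriction
of F to U is finite locally free. -/
theorem result {X : Scheme.{u}} (F : X.Modules) (hF : CohB1.IsFP F) (x : X) :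
    FlatMod.IsFlatAt F x ↔ ∃ U : X.Opens, x ∈ U ∧ FlatMod.IsFinLocFree ((Scheme.Modules.pullback U.ι).obj F) := by
  exact main F hF x

end Groth.Agent.S4652
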