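import Groth.Statements.S4654
import Mathlib
import Groth.Agent.Lib.helper9.StalkExact

set_option autoImplicit false
open CategoryTheory AlgebraicGeometry
universe u
open FDesc

namespace Groth.Agent.S4654

open TensorProduct in

theorem flat_iff_of_shortExact {R : Type u} [CommRing R] {M N P : Type u} [AddCommGroup M]
    [AddCommGroup N] [AddCommGroup P] [Module R M] [Module R N] [Module R P]
    (g : M →ₗ[R] N) (f : N →ₗ[R] P) (hg : Function.Injective g) (hf : Function.Surjective f)
    (H : Function.Exact g f) [Module.Flat R P] : Module.Flat R N ↔ Module.Flat R M := by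
  have hinj : ∀ (A : Type u) [AddCommGroup A] [Module R A], Function.Injective (g.lTensor A) :=
    fun A _ _ => LinearMap.lTensor_injective_of_exact_of_flat f hf g hg H A
  have hcomm : ∀ (A' A : Type u) [AddCommGroup A'] [AddCommGroup A] [Module R A'] [Module R A]
      (i : A' →ₗ[R] A), (i.rTensor N) ∘ₗ (g.lTensor A') = (g.lTensor A) ∘ₗ (i.rTensor M) := by
    intro A' A _ _ _ _ i
    rw [LinearMap.rTensor_comp_lTensor, LinearMap.lTensor_comp_rTensor]
  have hcomm2 : ∀ (A' A : Type u) [AddCommGroup A'] [AddCommGroup A] [Module R A'] [Module R A]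
      (i : A' →ₗ[R] A), (i.rTensor P) ∘ₗ (f.lTensor A') = (f.lTensor A) ∘ₗ (i.rTensor N) := by
    intro A' A _ _ _ _ i
    rw [LinearMap.rTensor_comp_lTensor, LinearMap.lTensor_comp_rTensor]
  constructor
  · intro hN
    rw [Module.Flat.iff_rTensor_preserves_injective_linearMap'.{u, u, u}]
    intro A' A _ _ _ _ i hi
    have h1 : Function.Injective ((i.rTensor N) ∘ₗ (g.lTensor A')) :=
      (Module.Flat.rTensor_preserves_injective_linearMap i hi).comp (hinj A')
    rw [hcomm] at h1
    exact Function.Injective.of_comp h1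
  · intro hM
    rw [Module.Flat.iff_rTensor_preserves_injective_linearMap'.{u, u, u}]
    intro A' A _ _ _ _ i hi
    rw [injective_iff_map_eq_zero]
    intro x hx
    have hex' : Function.Exact (g.lTensor A') (f.lTensor A') := lTensor_exact A' H hf
    have h2 : (i.rTensor P) ((f.lTensor A') x) = 0 := by
      have := congrArg (fun φ => φ x) (hcomm2 A' A i)
      simp only [LinearMap.comp_apply] at this
      rw [this, hx, map_zero]
    have h3 : (f.lTensor A') x = 0 :=
      (injective_iff_map_eq_zero _).mp (Module.Flat.rTensor_preserves_injective_linearMap i hi) _ h2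
    obtain ⟨m, rfl⟩ := (hex' x).mp h3
    have h4 : (g.lTensor A) ((i.rTensor M) m) = 0 := by
      have := congrArg (fun φ => φ m) (hcomm A' A i)
      simp only [LinearMap.comp_apply] at this
      rw [← this, hx]
    have h5 : (i.rTensor M) m = 0 := (injective_iff_map_eq_zero _).mp (hinj A) _ h4
    have h6 : m = 0 :=
      (injective_iff_map_eq_zero _).mp (Module.Flat.rTensor_preserves_injective_linearMap i hi) _ h5
    rw [h6, map_zero]

open Groth.Agent.Lib.helper9.StalkExact in
theorem stalk_flat_iff {X Y : Scheme.{u}} (f : X ⟶ Y) (S : ShortComplex X.Modules)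
    (hS : S.ShortExact) (x : X) (h3 : FlatMod.IsFlatOverAt f S.X₃ x) :
    FlatMod.IsFlatOverAt f S.X₂ x ↔ FlatMod.IsFlatOverAt f S.X₁ x := by
  letI := FlatMod.moduleStalkOver f S.X₁ x
  letI := FlatMod.moduleStalkOver f S.X₂ x
  letI := FlatMod.moduleStalkOver f S.X₃ x
  haveI : Module.Flat (Y.presheaf.stalk (f.base x)) (S.X₃.presheaf.stalk x) := h3
  haveI := hS.mono_f
  haveI := hS.epi_g
  let g' : S.X₁.presheaf.stalk x →ₗ[Y.presheaf.stalk (f.base x)] S.X₂.presheaf.stalk x :=
    { toFun := stalkLin S.f x
      map_add' := map_add _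
      map_smul' := fun r m => (stalkLin S.f x).map_smul ((f.stalkMap x).hom r) m }
  let f' : S.X₂.presheaf.stalk x →ₗ[Y.presheaf.stalk (f.base x)] S.X₃.presheaf.stalk x :=
    { toFun := stalkLin S.g x
      map_add' := map_add _
      map_smul' := fun r m => (stalkLin S.g x).map_smul ((f.stalkMap x).hom r) m }
  exact flat_iff_of_shortExact g' f' (stalkLin_injective_of_mono S.f x)
    (stalkLin_surjective_of_epi S.g x) (stalkLin_exact S hS.exact x)

/-- Let f : X → Y be a morphism of schemes and 0 → F' → F → F'' → 0 a short exact sequence of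
quasi-coherent O_X-modules such that F'' is flat over Y. Then F is flat over Y if and only if F' is
flat over Y. -/
theorem result {X Y : Scheme.{u}} (f : X ⟶ Y) (S : ShortComplex X.Modules)
    (hS : S.ShortExact) (h₁ : Coh.IsQCoh S.X₁) (h₂ : Coh.IsQCoh S.X₂) (h₃ : Coh.IsQCoh S.X₃)
    (hflat : FlatMod.IsFlatOver f S.X₃) :
    FlatMod.IsFlatOver f S.X₂ ↔ FlatMod.IsFlatOver f S.X₁ := by
  constructor
  · intro h x
    exact (Groth.Agent.S4654.stalk_flat_iff f S hS x (hflat x)).mp (h x)
  · intro h x
    exact (Groth.Agent.S4654.stalk_flat_iff f S hS x (hflat x)).mpr (h x)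

end Groth.Agent.S4654
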