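import Groth.Statements.S4656
import Mathlib

set_option autoImplicit false
open CategoryTheory AlgebraicGeometry
universe u
open FDesc

namespace Groth.Agent.S4656

open TensorProduct in
/-- Flatness descends along a faithfully flat ring map: if `C` is faithfully flat over `B`
and flat over `A`, then `B` is flat over `A`. -/
theorem flat_of_flat_of_faithfullyFlat (A B C : Type u) [CommRing A] [CommRing B] [CommRing C]
    [Algebra A B] [Algebra B C] [Algebra A C] [IsScalarTower A B C]
    [Module.FaithfullyFlat B C] [Module.Flat A C] : Module.Flat A B := by
  rw [Module.Flat.iff_lTensor_preserves_injective_linearMap]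
  intro N P _ _ _ _ f hf
  let e1 := TensorProduct.AlgebraTensorModule.cancelBaseChange A B C C N
  let e2 := TensorProduct.AlgebraTensorModule.cancelBaseChange A B C C P
  have key : ∀ x, e2 ((f.baseChange B).lTensor C x) = (f.lTensor C) (e1 x) := by
    intro x
    induction x using TensorProduct.induction_on with
    | zero => simp
    | tmul c y =>
      induction y using TensorProduct.induction_on with
      | zero => simp
      | tmul b n => simp [e1, e2]
      | add y1 y2 h1 h2 => simp only [TensorProduct.tmul_add, map_add, h1, h2]
    | add x1 x2 h1 h2 => simp only [map_add, h1, h2]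
  have h0 : Function.Injective (f.lTensor C) :=
    Module.Flat.lTensor_preserves_injective_linearMap f hf
  have h1 : Function.Injective ((f.baseChange B).lTensor C) := by
    intro x y hxy
    apply e1.injective
    apply h0
    rw [← key, ← key, hxy]
  have h2 := (Module.FaithfullyFlat.lTensor_injective_iff_injective B C (f.baseChange B)).mp h1
  intro x y hxy
  exact h2 (by simpa [LinearMap.baseChange_eq_ltensor] using hxy)

/-- Let f : X → Y and g : Y → Z be morphisms of schemes and x a point of X at which f is flat (the local
ring of X at x is flat over that of Y at f(x)). Then the composite g ∘ f is flat at x if and only if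
g is flat at f(x). -/
theorem result {X Y Z : Scheme.{u}} (f : X ⟶ Y) (g : Y ⟶ Z) (x : X)
    (hf : (f.stalkMap x).hom.Flat) :
    ((f ≫ g).stalkMap x).hom.Flat ↔ (g.stalkMap (f x)).hom.Flat := by
  rw [Scheme.Hom.stalkMap_comp]
  constructor
  · intro h
    have hloc : IsLocalHom (f.stalkMap x).hom := inferInstance
    algebraize [(g.stalkMap (f x)).hom, (f.stalkMap x).hom,
      (f.stalkMap x).hom.comp (g.stalkMap (f x)).hom]
    have hAC : Module.Flat (Z.presheaf.stalk (g (f x))) (X.presheaf.stalk x) := h
    have hBC : Module.Flat (Y.presheaf.stalk (f x)) (X.presheaf.stalk x) := hf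
    have : Module.FaithfullyFlat (Y.presheaf.stalk (f x)) (X.presheaf.stalk x) :=
      Module.FaithfullyFlat.of_flat_of_isLocalHom
    exact flat_of_flat_of_faithfullyFlat (Z.presheaf.stalk (g (f x))) (Y.presheaf.stalk (f x))
      (X.presheaf.stalk x)
  · intro h
    exact RingHom.Flat.comp h hf

end Groth.Agent.S4656
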