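import Groth.Statements.S4672
import Mathlib
import Groth.Agent.Lib.helper7.DimSch3

set_option autoImplicit false
open CategoryTheory AlgebraicGeometry
universe u
open FBase

namespace Groth.Agent.S4672


-- In a fibre product `P = X ×_k Y` over a field, the projection `q : P → Y` restricted to the
-- preimage `p⁻¹(X')` of a closed subset `X'` of `X` lifts generizations.
open CategoryTheory.Limits in
theorem exists_specializes_of_isPullback {k : Type u} [Field k] {X Y P : Scheme.{u}}
    {f : X ⟶ Spec (CommRingCat.of k)} {g : Y ⟶ Spec (CommRingCat.of k)} {p : P ⟶ X} {q : P ⟶ Y}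
    (sq : IsPullback p q f g) (X' : Set X) (hX' : IsClosed X') (w : P) (hw : p w ∈ X')
    (y : Y) (hy : y ⤳ q w) : ∃ w₁ : P, w₁ ⤳ w ∧ p w₁ ∈ X' ∧ q w₁ = y := by
  let T : TopologicalSpace.Closeds X := ⟨X', hX'⟩
  let ι := (Scheme.IdealSheafData.vanishingIdeal T).subschemeι
  have hι : Set.range ι = X' :=
    (Scheme.IdealSheafData.range_subschemeι _).trans
      (Scheme.IdealSheafData.coe_support_vanishingIdeal T)
  let j := pullback.fst p ι
  have sq1 : IsPullback j (pullback.snd p ι) p ι := IsPullback.of_hasPullback p ι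
  have sq2 : IsPullback (j ≫ q) (pullback.snd p ι) g (ι ≫ f) := sq1.paste_horiz sq.flip
  have hflat : Flat (j ≫ q) := MorphismProperty.of_isPullback sq2.flip inferInstance
  have hrange : Set.range j = p ⁻¹' X' := by
    rw [← hι]; exact Scheme.Pullback.range_fst p ι
  obtain ⟨t, rfl⟩ : w ∈ Set.range j := by rw [hrange]; exact hw
  have hgen := Flat.generalizingMap (j ≫ q)
  obtain ⟨t₁, ht₁, ht₁y⟩ := hgen (a := t) (b := y) hy
  refine ⟨j t₁, ht₁.map j.continuous, ?_, ht₁y⟩
  have : j t₁ ∈ Set.range j := ⟨t₁, rfl⟩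
  rw [hrange] at this
  exact this


open Groth.Agent.Lib.helper7.DimSch in
open CategoryTheory.Limits in
theorem main {k : Type u} [Field k] {X Y P : Scheme.{u}}
    {f : X ⟶ Spec (CommRingCat.of k)} {g : Y ⟶ Spec (CommRingCat.of k)} {p : P ⟶ X} {q : P ⟶ Y}
    (sq : IsPullback p q f g) (W : Set P) :
    W ∈ irreducibleComponents P ↔
      ∃ X' ∈ irreducibleComponents X, ∃ Y' ∈ irreducibleComponents Y,
        Maximal (fun V : Set P => IsIrreducible V ∧ V ⊆ p ⁻¹' X' ∩ q ⁻¹' Y') W := by
  have hpflat : Flat p := MorphismProperty.of_isPullback sq.flip inferInstance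
  have hqflat : Flat q := MorphismProperty.of_isPullback sq inferInstance
  constructor
  · intro hW
    have hWcl : IsClosed W := isClosed_of_mem_irreducibleComponents W hW
    obtain ⟨w, hw⟩ := QuasiSober.sober hW.1 hWcl
    have hwmax : ∀ w' : P, w' ⤳ w → w' = w := by
      rw [← closure_mem_irreducibleComponents_iff, hw.def]; exact hW
    have hpw : ∀ x : X, x ⤳ p w → x = p w := by
      intro x hx
      obtain ⟨w', hw', rfl⟩ := Flat.generalizingMap p hx
      rw [hwmax w' hw']
    have hqw : ∀ y : Y, y ⤳ q w → y = q w := by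
      intro y hy
      obtain ⟨w', hw', rfl⟩ := Flat.generalizingMap q hy
      rw [hwmax w' hw']
    refine ⟨closure {p w}, (closure_mem_irreducibleComponents_iff _).mpr hpw,
      closure {q w}, (closure_mem_irreducibleComponents_iff _).mpr hqw, ⟨hW.1, ?_⟩, ?_⟩
    · rw [← hw.def]
      refine closure_minimal ?_ ((isClosed_closure.preimage p.continuous).inter
        (isClosed_closure.preimage q.continuous))
      rw [Set.singleton_subset_iff]
      exact ⟨subset_closure rfl, subset_closure rfl⟩
    · intro V hV hle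
      exact hW.2 hV.1 hle
  · rintro ⟨X', hX', Y', hY', hWmax⟩
    have hX'cl : IsClosed X' := isClosed_of_mem_irreducibleComponents X' hX'
    have hY'cl : IsClosed Y' := isClosed_of_mem_irreducibleComponents Y' hY'
    obtain ⟨ξ, hξ⟩ := QuasiSober.sober hX'.1 hX'cl
    obtain ⟨η, hη⟩ := QuasiSober.sober hY'.1 hY'cl
    have hξmax : ∀ x : X, x ⤳ ξ → x = ξ := by
      rw [← closure_mem_irreducibleComponents_iff, hξ.def]; exact hX'
    have hηmax : ∀ y : Y, y ⤳ η → y = η := by
      rw [← closure_mem_irreducibleComponents_iff, hη.def]; exact hY'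
    have hTcl : IsClosed (p ⁻¹' X' ∩ q ⁻¹' Y') :=
      (hX'cl.preimage p.continuous).inter (hY'cl.preimage q.continuous)
    have hWirr : IsIrreducible W := hWmax.1.1
    have hWT : W ⊆ p ⁻¹' X' ∩ q ⁻¹' Y' := hWmax.1.2
    have hWcl : IsClosed W := by
      rw [← closure_subset_iff_isClosed]
      exact hWmax.2 ⟨hWirr.closure, closure_minimal hWT hTcl⟩ subset_closure
    obtain ⟨w, hw⟩ := QuasiSober.sober hWirr hWcl
    have hwW : w ∈ W := hw.mem
    -- key: generizations of `w` within `T` are equal to `w`
    have hkey : ∀ w₁ : P, w₁ ⤳ w → p w₁ ∈ X' → q w₁ ∈ Y' → w₁ = w := by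
      intro w₁ h1 hp1 hq1
      have hsub : closure {w₁} ⊆ p ⁻¹' X' ∩ q ⁻¹' Y' :=
        closure_minimal (Set.singleton_subset_iff.mpr ⟨hp1, hq1⟩) hTcl
      have hWle : W ⊆ closure {w₁} := by
        rw [← hw.def]
        exact closure_minimal (Set.singleton_subset_iff.mpr h1.mem_closure) isClosed_closure
      have hle := hWmax.2 (y := closure {w₁}) ⟨isIrreducible_singleton.closure, hsub⟩ hWle
      have hw₁W : w₁ ∈ W := hle (subset_closure rfl)
      rw [← hw.def] at hw₁W
      exact (h1.antisymm (specializes_iff_mem_closure.mpr hw₁W)).eq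
    have hqw : q w = η := by
      have h1 : η ⤳ q w := by
        rw [specializes_iff_mem_closure, hη.def]; exact (hWT hwW).2
      obtain ⟨w₁, hw₁, hp1, hq1⟩ :=
        exists_specializes_of_isPullback sq X' hX'cl w (hWT hwW).1 η h1
      have := hkey w₁ hw₁ hp1 (by rw [hq1]; exact hη.mem)
      rw [← this, hq1]
    have hpw : p w = ξ := by
      have h1 : ξ ⤳ p w := by
        rw [specializes_iff_mem_closure, hξ.def]; exact (hWT hwW).1
      obtain ⟨w₁, hw₁, hq1, hp1⟩ :=
        exists_specializes_of_isPullback sq.flip Y' hY'cl w (hWT hwW).2 ξ h1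
      have := hkey w₁ hw₁ (by rw [hp1]; exact hξ.mem) hq1
      rw [← this, hp1]
    refine ⟨hWirr, ?_⟩
    intro V hV hle
    have hVc : IsIrreducible (closure V) := hV.closure
    obtain ⟨v, hv⟩ := QuasiSober.sober hVc isClosed_closure
    have hvw : v ⤳ w := hv.specializes (subset_closure (hle hwW))
    have hpv : p v = ξ := hξmax _ (hpw ▸ hvw.map p.continuous)
    have hqv : q v = η := hηmax _ (hqw ▸ hvw.map q.continuous)
    have hvw' : v = w := hkey v hvw (by rw [hpv]; exact hξ.mem) (by rw [hqv]; exact hη.mem)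
    calc V ⊆ closure V := subset_closure
      _ = closure {v} := hv.def.symm
      _ = closure {w} := by rw [hvw']
      _ = W := hw.def


open CategoryTheory.Limits in
/-- Let X and Y be locally Noetherian schemes over a field k such that X ×_k Y is locally Noetherian,
with projections p and q. Then a subset W of X ×_k Y is an irreducible component of X ×_k Y if and
only if there exist an irreducible component X' of X and an irreducible component Y' of Y such that
W is a maximal irreducible subset of p⁻¹(X') ∩ q⁻¹(Y') (that is, an irreducible component of the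
space underlying X' ×_k Y' for the reduced structures on X' and Y'). -/
theorem result {k : Type u} [Field k] {X Y : Scheme.{u}}
    (f : X ⟶ Spec (CommRingCat.of k)) (g : Y ⟶ Spec (CommRingCat.of k)) [IsLocallyNoetherian X]
    [IsLocallyNoetherian Y] [IsLocallyNoetherian (pullback f g)] (W : Set ↥(pullback f g)) :
    W ∈ irreducibleComponents ↥(pullback f g) ↔
      ∃ X' ∈ irreducibleComponents ↥X, ∃ Y' ∈ irreducibleComponents ↥Y,
        Maximal (fun V : Set ↥(pullback f g) => IsIrreducible V ∧ V ⊆ ⇑(pullback.fst f g) ⁻¹' X' ∩ ⇑(pullback.snd f g) ⁻¹' Y') W := by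
  exact Groth.Agent.S4672.main (CategoryTheory.IsPullback.of_hasPullback f g) W

end Groth.Agent.S4672
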