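import Groth.Statements.S4674
import Mathlib

set_option autoImplicit false
open scoped TensorProduct
universe u v w
open FDesc

namespace Groth.Agent.S4674

/-- Let B be a flat A-algebra and M a finitely presented A-module. Then the annihilator of the B-module
B ⊗_A M is the ideal of B generated by the image of the annihilator of M. -/
theorem result {A : Type u} {B : Type v} [CommRing A] [CommRing B] [Algebra A B]
    [Module.Flat A B] (M : Type w) [AddCommGroup M] [Module A M] [Module.FinitePresentation A M] :
    Module.annihilator B (B ⊗[A] M) = (Module.annihilator A M).map (algebraMap A B) := by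
  classical
  have keyL : ∀ (N : Type w) [AddCommGroup N] [Module A N] (n : N) (a : B), a ⊗ₜ[A] n = 0 →
      a ∈ ((Submodule.span A {n}).annihilator).map (algebraMap A B) := by
    intro N _ _ n a h
    let f : A →ₗ[A] N := LinearMap.toSpanSingleton A N n
    have hker : ∀ r, r ∈ LinearMap.ker f → r ∈ (Submodule.span A {n}).annihilator := by
      intro r hr
      rw [Submodule.mem_annihilator_span_singleton]
      simpa [f] using hr
    have h1 : (f.lTensor B) (a ⊗ₜ[A] (1 : A)) = 0 := by
      simp [f, h]
    have h2 := Module.Flat.lTensor_exact B (LinearMap.exact_subtype_ker_map f)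
    obtain ⟨t, ht⟩ := (h2 _).mp h1
    have h3 : ∀ t : B ⊗[A] (LinearMap.ker f),
        (TensorProduct.rid A B) ((LinearMap.ker f).subtype.lTensor B t) ∈
          ((Submodule.span A {n}).annihilator).map (algebraMap A B) := by
      intro t
      induction t using TensorProduct.induction_on with
      | zero => simp
      | tmul s k =>
        simp only [LinearMap.lTensor_tmul, Submodule.subtype_apply, TensorProduct.rid_tmul]
        rw [Algebra.smul_def]
        exact Ideal.mul_mem_right _ _ (Ideal.mem_map_of_mem _ (hker _ k.2))
      | add x y hx hy => simp only [map_add]; exact Ideal.add_mem _ hx hy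
    have h4 := h3 t
    rw [ht] at h4
    simpa using h4
  have hsm : ∀ (n : M) (a : B), a • ((1 : B) ⊗ₜ[A] n) = a ⊗ₜ[A] n := by
    intro n a
    rw [TensorProduct.smul_tmul', smul_eq_mul, mul_one]
  obtain ⟨s, hs⟩ := (Module.Finite.fg_top : (⊤ : Submodule A M).FG)
  symm
  apply le_antisymm
  · rw [Ideal.map_le_iff_le_comap]
    intro r hr
    rw [Module.mem_annihilator] at hr
    rw [Ideal.mem_comap, Module.mem_annihilator]
    intro x
    rw [algebraMap_smul]
    induction x using TensorProduct.induction_on with
    | zero => simp
    | tmul s' m => rw [TensorProduct.smul_tmul', TensorProduct.smul_tmul, hr, TensorProduct.tmul_zero]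
    | add x y hx hy => rw [smul_add, hx, hy, add_zero]
  · intro a ha
    rw [Module.mem_annihilator] at ha
    let N := (s → M)
    let m' : N := fun i => i.1
    have h1 : a ⊗ₜ[A] m' = 0 := by
      have : m' = ∑ i, Pi.single i (m' i) := (Finset.univ_sum_single m').symm
      rw [this, TensorProduct.tmul_sum]
      refine Finset.sum_eq_zero (fun i _ => ?_)
      have h2 : a ⊗ₜ[A] (Pi.single i (m' i) : N) =
          (LinearMap.single A (fun _ : s => M) i).lTensor B (a ⊗ₜ[A] (m' i)) := by
        simp [N]
      rw [h2, ← hsm, ha, map_zero]
    have h3 := keyL N m' a h1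
    refine Ideal.map_mono ?_ h3
    intro r hr
    rw [Submodule.mem_annihilator_span_singleton] at hr
    rw [Module.mem_annihilator]
    intro x
    have hx : x ∈ Submodule.span A (s : Set M) := by rw [hs]; trivial
    induction hx using Submodule.span_induction with
    | mem y hy => exact congrFun hr ⟨y, hy⟩
    | zero => simp
    | add y z _ _ hy hz => rw [smul_add, hy, hz, add_zero]
    | smul c y _ hy => rw [smul_comm, hy, smul_zero]

end Groth.Agent.S4674
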