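import Groth.Statements.S4675
import Mathlib

set_option autoImplicit false
universe u v
open FDesc

namespace Groth.Agent.S4675

/-- Let B be a ring, not necessarily commutative, and V, W two left B-modules which are isomorphic. For
a B-linear map u : V → W the following are equivalent: every B-linear map V → W can be written
uniquely as u ∘ c with c a B-linear endomorphism of V (that is, u is a basis of Hom_B(V, W) for its
right module structure over End_B(V)); u is bijective. -/
theorem result {B : Type u} [Ring B] {V W : Type v} [AddCommGroup V] [AddCommGroup W]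
    [Module B V] [Module B W] (e : V ≃ₗ[B] W) (u : V →ₗ[B] W) :
    (∀ v : V →ₗ[B] W, ∃! c : V →ₗ[B] V, v = u ∘ₗ c) ↔ Function.Bijective u := by
  constructor
  · intro h
    obtain ⟨c, hc, _⟩ := h e.toLinearMap
    have hsurj : Function.Surjective u := by
      intro w
      refine ⟨c (e.symm w), ?_⟩
      have := congrArg (fun f : V →ₗ[B] W => f (e.symm w)) hc
      simpa using this.symm
    refine ⟨?_, hsurj⟩
    -- right inverse s = c ∘ e.symm
    let s : W →ₗ[B] V := c ∘ₗ e.symm.toLinearMap
    have hus : ∀ w, u (s w) = w := by
      intro w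
      have := congrArg (fun f : V →ₗ[B] W => f (e.symm w)) hc
      simpa [s] using this.symm
    obtain ⟨c', _, huniq⟩ := h u
    have h1 : (LinearMap.id : V →ₗ[B] V) = c' := huniq _ (by ext x; simp)
    have h2 : s ∘ₗ u = c' := huniq _ (by ext x; simp [hus])
    have h3 : s ∘ₗ u = LinearMap.id := h2.trans h1.symm
    intro x y hxy
    have hx := congrArg (fun f : V →ₗ[B] V => f x) h3
    have hy := congrArg (fun f : V →ₗ[B] V => f y) h3
    simp only [LinearMap.comp_apply, LinearMap.id_apply] at hx hy
    rw [← hx, ← hy, hxy]
  · intro hu v
    let ue : V ≃ₗ[B] W := LinearEquiv.ofBijective u hu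
    refine ⟨ue.symm.toLinearMap ∘ₗ v, ?_, ?_⟩
    · ext x
      simp [ue]
    · intro c hc
      ext x
      simp [hc, ue]

end Groth.Agent.S4675
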