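import Groth.Statements.S4681
import Mathlib

set_option autoImplicit false
open CategoryTheory AlgebraicGeometry
universe u
open FDesc

namespace Groth.Agent.S4681

open TensorProduct in

open TensorProduct.AlgebraTensorModule in
theorem flat_of_faithfullyFlat_module (A B N : Type*) [CommRing A] [CommRing B] [Algebra A B]
    [AddCommGroup N] [Module A N] [Module B N] [IsScalarTower A B N]
    [Module.FaithfullyFlat B N] [Module.Flat A N] : Module.Flat A B := by
  rw [Module.Flat.iff_lTensor_injectiveₛ]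
  intro P _ _ Q
  rw [← coe_lTensor (A := B)]
  rw [← Module.FaithfullyFlat.lTensor_injective_iff_injective B N]
  have h1 : Function.Injective (lTensor B N Q.subtype) := by
    rw [coe_lTensor]
    exact Module.Flat.lTensor_preserves_injective_linearMap _ Subtype.val_injective
  have h2 := lTensor_comp_cancelBaseChange A B B (M := N) Q.subtype
  have h3 : Function.Injective (lTensor B N Q.subtype ∘ₗ (cancelBaseChange A B B N Q).toLinearMap) := by
    rw [LinearMap.coe_comp]
    exact h1.comp (cancelBaseChange A B B N Q).injective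
  rw [h2, LinearMap.coe_comp] at h3
  have h4 := Function.Injective.of_comp h3
  exact h4

theorem smul_top_ne_top_of_isLocalHom {A B N : Type*} [CommRing A] [CommRing B] [IsLocalRing A]
    [IsLocalRing B] [Algebra A B] [IsLocalHom (algebraMap A B)] [AddCommGroup N]
    [Module A N] [Module B N] [IsScalarTower A B N]
    (h : IsLocalRing.maximalIdeal B • (⊤ : Submodule B N) ≠ ⊤) :
    IsLocalRing.maximalIdeal A • (⊤ : Submodule A N) ≠ ⊤ := by
  intro htop
  apply h
  rw [eq_top_iff]
  intro n _
  have hn : n ∈ (IsLocalRing.maximalIdeal A) • (⊤ : Submodule A N) := by rw [htop]; trivial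
  refine Submodule.smul_induction_on hn ?_ ?_
  · intro a ha n' _
    rw [← algebraMap_smul B a n']
    refine Submodule.smul_mem_smul ?_ trivial
    have : ¬ IsUnit a := ha
    exact fun h => this (isUnit_of_map_unit (algebraMap A B) a h)
  · intro x y hx hy
    exact add_mem hx hy

theorem faithfullyFlat_of_local {B N : Type*} [CommRing B] [IsLocalRing B] [AddCommGroup N]
    [Module B N] [Module.Flat B N]
    (h : IsLocalRing.maximalIdeal B • (⊤ : Submodule B N) ≠ ⊤) : Module.FaithfullyFlat B N := by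
  refine ⟨fun m hm htop => ?_⟩
  have hmB : m = IsLocalRing.maximalIdeal B := IsLocalRing.eq_maximalIdeal hm
  subst hmB
  exact h htop

/-- the stalkwise set-up for a composite -/
theorem aux {X Y Z : Scheme.{u}} (f : X ⟶ Y) (g : Y ⟶ Z) (F : X.Modules) (x : X)
    (hfl : FlatMod.IsFlatOverAt f F x) :
    ((g.stalkMap (f x)).hom.Flat → FlatMod.IsFlatOverAt (f ≫ g) F x) ∧
    ((letI := FlatMod.moduleStalkOver f F x
      IsLocalRing.maximalIdeal (Y.presheaf.stalk (f x)) • (⊤ : Submodule (Y.presheaf.stalk (f x)) (F.presheaf.stalk x)) ≠ ⊤) →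
      (letI := FlatMod.moduleStalkOver (f ≫ g) F x
      IsLocalRing.maximalIdeal (Z.presheaf.stalk ((f ≫ g) x)) • (⊤ : Submodule (Z.presheaf.stalk ((f ≫ g) x)) (F.presheaf.stalk x)) ≠ ⊤) ∧
      (FlatMod.IsFlatOverAt (f ≫ g) F x → (g.stalkMap (f x)).hom.Flat)) := by
  letI := FlatMod.moduleStalkOver f F x
  letI inst2 := FlatMod.moduleStalkOver (f ≫ g) F x
  letI : Algebra (Z.presheaf.stalk (g (f x))) (Y.presheaf.stalk (f x)) :=
    (g.stalkMap (f x)).hom.toAlgebra
  letI : Module (Z.presheaf.stalk (g (f x))) (F.presheaf.stalk x) := inst2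
  haveI : IsScalarTower (Z.presheaf.stalk (g (f x))) (Y.presheaf.stalk (f x))
      (F.presheaf.stalk x) := by
    refine IsScalarTower.of_algebraMap_smul fun r m => ?_
    change (f.stalkMap x).hom ((g.stalkMap (f x)).hom r) • m = ((f ≫ g).stalkMap x).hom r • m
    rw [Scheme.Hom.stalkMap_comp]
    rfl
  haveI : Module.Flat (Y.presheaf.stalk (f x)) (F.presheaf.stalk x) := hfl
  haveI : IsLocalHom (algebraMap (Z.presheaf.stalk (g (f x))) (Y.presheaf.stalk (f x))) :=
    g.toLRSHom.prop (f x)
  refine ⟨fun hg => ?_, fun hne => ⟨?_, fun hfl2 => ?_⟩⟩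
  · haveI : Module.Flat (Z.presheaf.stalk (g (f x))) (Y.presheaf.stalk (f x)) := hg
    exact Module.Flat.trans (Z.presheaf.stalk (g (f x))) (Y.presheaf.stalk (f x))
      (F.presheaf.stalk x)
  · exact smul_top_ne_top_of_isLocalHom (A := Z.presheaf.stalk (g (f x)))
      (B := Y.presheaf.stalk (f x)) hne
  · haveI := faithfullyFlat_of_local hne
    haveI : Module.Flat (Z.presheaf.stalk (g (f x))) (F.presheaf.stalk x) := hfl2
    exact flat_of_faithfullyFlat_module (Z.presheaf.stalk (g (f x))) (Y.presheaf.stalk (f x))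
      (F.presheaf.stalk x)


/-- Let f : X → Y and g : Y → Z be morphisms of schemes and F a quasi-coherent O_X-module which is
faithfully flat relative to Y: flat over Y, and for every point y of Y there is a point x over y
with F_x ⊗ κ(y) ≠ 0. Then g is flat and surjective (faithfully flat) if and only if F is faithfully
flat relative to Z for the morphism f followed by g: flat over Z, and for every point z of Z there
is a point x of X over z with F_x ⊗ κ(z) ≠ 0. -/
theorem result {X Y Z : Scheme.{u}} (f : X ⟶ Y) (g : Y ⟶ Z)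
    (F : X.Modules) (hF : Coh.IsQCoh F) (hFfl : FlatMod.IsFlatOver f F)
    (hFff : (∀ y : ↥Y, ∃ x : ↥X, f x = y ∧
      letI := FlatMod.moduleStalkOver f F x
      IsLocalRing.maximalIdeal (Y.presheaf.stalk (f x)) • (⊤ : Submodule (Y.presheaf.stalk (f x)) (F.presheaf.stalk x)) ≠ ⊤)) :
    (Flat g ∧ Surjective g) ↔
      (FlatMod.IsFlatOver (f ≫ g) F ∧
        (∀ z : ↥Z, ∃ x : ↥X, (f ≫ g) x = z ∧
      letI := FlatMod.moduleStalkOver (f ≫ g) F x
      IsLocalRing.maximalIdeal (Z.presheaf.stalk ((f ≫ g) x)) • (⊤ : Submodule (Z.presheaf.stalk ((f ≫ g) x)) (F.presheaf.stalk x)) ≠ ⊤)) := by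
  constructor
  · rintro ⟨hflat, hsurj⟩
    refine ⟨fun x => (Groth.Agent.S4681.aux f g F x (hFfl x)).1
      (AlgebraicGeometry.Flat.stalkMap g (f x)), fun z => ?_⟩
    obtain ⟨y, rfl⟩ := g.surjective z
    obtain ⟨x, rfl, hx⟩ := hFff y
    exact ⟨x, rfl, ((Groth.Agent.S4681.aux f g F x (hFfl x)).2 hx).1⟩
  · rintro ⟨hfl2, hff2⟩
    refine ⟨?_, ⟨fun z => ?_⟩⟩
    · rw [AlgebraicGeometry.Flat.iff_flat_stalkMap]
      intro y
      obtain ⟨x, rfl, hx⟩ := hFff y
      exact ((Groth.Agent.S4681.aux f g F x (hFfl x)).2 hx).2 (hfl2 x)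
    · obtain ⟨x, rfl, -⟩ := hff2 z
      exact ⟨f x, rfl⟩

end Groth.Agent.S4681
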