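import Groth.Statements.S4689
import Groth.Agent.Lib.helper26.DimFormEq

set_option autoImplicit false
universe u
open EGA4

namespace Groth.Agent.S4689



/-- Let A be a universally catenary Noetherian local domain and B a domain containing A which is a
finite A-algebra. Then for every maximal ideal n of B the local ring B_n has the same Krull
dimension as A. -/
theorem result (A B : Type u) [CommRing A] [IsDomain A]
    [IsNoetherianRing A] [IsLocalRing A] (hA : CAlg.IsUniversallyCatenary A) [CommRing B] [IsDomain B]
    [Algebra A B] [FaithfulSMul A B] [Module.Finite A B] (n : Ideal B) [n.IsMaximal] :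
    ringKrullDim (Localization.AtPrime n) = ringKrullDim A := by
  haveI : Algebra.IsIntegral A B := Algebra.IsIntegral.of_finite A B
  let m := n.under A
  haveI hmmax : m.IsMaximal := Ideal.isMaximal_comap_of_isIntegral_of_isMaximal (R := A) n
  have hm : m = IsLocalRing.maximalIdeal A := IsLocalRing.eq_maximalIdeal hmmax
  have key := Groth.Agent.Lib.helper26.DimIneq.dimension_formula A hA B m n
  haveI : Algebra.IsAlgebraic A B := Algebra.IsIntegral.isAlgebraic
  haveI : Module.Finite (A ⧸ m) (B ⧸ n) := by
    refine Module.Finite.of_restrictScalars_finite A (A ⧸ m) (B ⧸ n)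
  haveI : Algebra.IsAlgebraic (A ⧸ m) (B ⧸ n) := Algebra.IsAlgebraic.of_finite _ _
  have h1 : Algebra.trdeg A B = 0 := trdeg_eq_zero
  have h2 : Algebra.trdeg (A ⧸ m) (B ⧸ n) = 0 := trdeg_eq_zero
  rw [h1, h2, add_zero, add_zero] at key
  have h3 : n.height = m.height := by
    exact_mod_cast (Cardinal.ofENat_injective key)
  rw [IsLocalization.AtPrime.ringKrullDim_eq_height n (Localization.AtPrime n), h3, hm,
    IsLocalRing.maximalIdeal_height_eq_ringKrullDim]

end Groth.Agent.S4689
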