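import Groth.Statements.S9686
import Groth.Agent.Lib.helper26.DimIneqSch

set_option autoImplicit false
universe u
open CategoryTheory CategoryTheory.Limits AlgebraicGeometry
open Mor

namespace Groth.Agent.S9686



/-- Let Y be locally Noetherian and f : X ⟶ Y locally of finite type. If E bounds the transcendence
degree of κ(ξ) over κ(f ξ) for every generic point ξ of an irreducible component of X, then dim X ≤
dim Y + E. (The published bound is the supremum of these transcendence degrees; the statement with
any upper bound E is equivalent.) -/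
theorem result {X Y : Scheme.{u}} [IsLocallyNoetherian Y]
    (f : X ⟶ Y) [LocallyOfFiniteType f] (E : ℕ)
    (hE : ∀ ξ : X, closure {ξ} ∈ irreducibleComponents ↥X →
      letI := (f.residueFieldMap ξ).hom.toAlgebra
      Algebra.trdeg (Y.residueField (f.base ξ)) (X.residueField ξ) ≤ E) :
    topologicalKrullDim ↥X ≤ topologicalKrullDim ↥Y + E := by
  rw [Groth.Agent.Lib.helper7.DimBC.topologicalKrullDim_eq_iSup_stalk X]
  refine iSup_le fun x => ?_
  obtain ⟨hq, hp, e1, e2, h⟩ := Groth.Agent.Lib.helper26.DimIneq.stalk_dim_ineq f x E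
    (fun ξ h1 _ => hE ξ h1)
  have h2 : hq ≤ hp + (E : ℕ∞) := by
    rw [← Cardinal.ofENat_le_ofENat.{u}]
    have h3 : (hq : Cardinal.{u}) ≤ (hp : Cardinal.{u}) + E :=
      le_trans (le_add_right le_rfl) h
    simpa [Cardinal.ofENat_add] using h3
  rw [e1]
  calc (hq : WithBot ℕ∞) ≤ (hp : WithBot ℕ∞) + E := by exact_mod_cast h2
    _ = ringKrullDim (Y.presheaf.stalk (f x)) + E := by rw [e2]
    _ ≤ topologicalKrullDim ↥Y + E := by
      gcongr
      rw [Groth.Agent.Lib.helper7.DimBC.topologicalKrullDim_eq_iSup_stalk Y]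
      exact le_iSup (fun y => ringKrullDim (Y.presheaf.stalk y)) (f x)

end Groth.Agent.S9686
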