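import Groth.Statements.S4690
import Groth.Agent.Lib.helper26.DimFormSch2
import Groth.Agent.S9686

set_option autoImplicit false
universe u
open EGA4

namespace Groth.Agent.S4690



open AlgebraicGeometry CategoryTheory in
/-- Let Y be an irreducible locally Noetherian scheme, X an irreducible scheme and f : X → Y a dominant
morphism locally of finite type; let e be the dimension of the generic fibre of f. Then dim X ≤ dim
Y + e. If moreover every local ring of Y is universally catenary, the two sides are equal if and
only if dim Y equals the supremum of the dimensions of the local rings of Y at the points of f(X). -/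
theorem result {X Y : Scheme.{u}} (f : X ⟶ Y) [IsLocallyNoetherian Y]
    [LocallyOfFiniteType f] [IrreducibleSpace X] [IrreducibleSpace Y] (hf : DenseRange f.base) :
    topologicalKrullDim X ≤ topologicalKrullDim Y + topologicalKrullDim (f.fiber (genericPoint Y)) ∧
      ((∀ y : Y, CAlg.IsUniversallyCatenary (Y.presheaf.stalk y)) →
        (topologicalKrullDim X = topologicalKrullDim Y + topologicalKrullDim (f.fiber (genericPoint Y)) ↔
          topologicalKrullDim Y = ⨆ y ∈ Set.range f.base, ringKrullDim (Y.presheaf.stalk y))) := by
  haveI : IsDominant f := ⟨hf⟩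
  obtain ⟨n, hn, hfib⟩ := Groth.Agent.Lib.helper26.DimIneq.topologicalKrullDim_generic_fiber f
  rw [hfib]
  refine ⟨?_, fun hY => ?_⟩
  · refine Groth.Agent.S9686.result f n ?_
    intro ξ hξ
    have : ξ = genericPoint X := by
      rw [irreducibleComponents_eq_singleton] at hξ
      exact (show IsGenericPoint ξ Set.univ from hξ).eq (genericPoint_spec X)
    subst this
    exact hn.le
  · obtain ⟨n', hfib', hsup⟩ := Groth.Agent.Lib.helper26.DimIneq.iSup_coheight_eq hY f
    have hnn : n' = n := by
      rw [hfib] at hfib'
      exact_mod_cast hfib'.symm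
    subst hnn
    have hX : topologicalKrullDim X = ((⨆ x : X, Order.coheight x : ℕ∞) : WithBot ℕ∞) := by
      rw [Groth.Agent.Lib.helper7.DimBC.topologicalKrullDim_eq_krullDim,
        Order.krullDim_eq_iSup_coheight_of_nonempty]
    have hYd : topologicalKrullDim Y = ((⨆ y : Y, Order.coheight y : ℕ∞) : WithBot ℕ∞) := by
      rw [Groth.Agent.Lib.helper7.DimBC.topologicalKrullDim_eq_krullDim,
        Order.krullDim_eq_iSup_coheight_of_nonempty]
    have hD : (⨆ y ∈ Set.range f.base, ringKrullDim (Y.presheaf.stalk y)) =
        ((⨆ x : X, Order.coheight (f x) : ℕ∞) : WithBot ℕ∞) := by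
      rw [iSup_range, WithBot.coe_iSup (OrderTop.bddAbove _)]
      exact iSup_congr fun x => ringKrullDim_stalk_eq_coheight (f x)
    rw [hX, hYd, hD, hsup]
    have hle : (⨆ x : X, Order.coheight (f x)) ≤ ⨆ y : Y, Order.coheight y :=
      iSup_le fun x => le_iSup (fun y : Y => Order.coheight y) (f x)
    constructor
    · intro h
      have h' : (⨆ x : X, Order.coheight (f x)) + (n' : ℕ∞) =
          (⨆ y : Y, Order.coheight y) + (n' : ℕ∞) := by exact_mod_cast h
      have := ENat.add_left_injective_of_ne_top (ENat.coe_ne_top n') h'
      rw [this]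
    · intro h
      have h' : (⨆ y : Y, Order.coheight y) = ⨆ x : X, Order.coheight (f x) := by
        exact_mod_cast h
      rw [h']
      norm_cast

end Groth.Agent.S4690
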