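import Groth.Statements.S4691
import Mathlib
import Groth.Agent.Lib.helper7.FibDim
import Groth.Agent.Lib.helper7.LFTNoeth

set_option autoImplicit false
universe u
open EGA4

namespace Groth.Agent.S4691


open AlgebraicGeometry CategoryTheory in
theorem topologicalKrullDim_eq_krullDim (X : Scheme.{u}) :
    topologicalKrullDim X = Order.krullDim X := by
  letI := specializationOrder X
  exact Order.krullDim_eq_of_orderIso irreducibleSetEquivPoints

open AlgebraicGeometry CategoryTheory in
theorem ringKrullDim_stalk_le_topologicalKrullDim (Z : Scheme.{u}) (z : Z) :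
    ringKrullDim (Z.presheaf.stalk z) ≤ topologicalKrullDim Z := by
  rw [ringKrullDim_stalk_eq_coheight, topologicalKrullDim_eq_krullDim]
  exact Order.coheight_le_krullDim z


open AlgebraicGeometry CategoryTheory in
/-- Let Y be a locally Noetherian scheme, f : X → Y a morphism locally of finite type and n a natural
number such that every fibre of f has dimension at most n. Then dim X ≤ dim Y + n. -/
theorem result {X Y : Scheme.{u}} (f : X ⟶ Y) [IsLocallyNoetherian Y]
    [LocallyOfFiniteType f] (n : ℕ) (h : ∀ y : Y, topologicalKrullDim (f.fiber y) ≤ n) :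
    topologicalKrullDim X ≤ topologicalKrullDim Y + n := by
  haveI : IsLocallyNoetherian X :=
    Groth.Agent.Lib.helper7.LFTNoeth.isLocallyNoetherian_of_locallyOfFiniteType f
  rw [topologicalKrullDim_eq_krullDim X, Order.krullDim_eq_iSup_coheight]
  refine iSup_le fun x => ?_
  rw [← ringKrullDim_stalk_eq_coheight]
  exact (Groth.Agent.Lib.helper7.FibDim.ringKrullDim_stalk_le_add' f x).trans
    (add_le_add (ringKrullDim_stalk_le_topologicalKrullDim Y (f x))
      ((ringKrullDim_stalk_le_topologicalKrullDim _ _).trans (h (f x))))

end Groth.Agent.S4691
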