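import Groth.Statements.S4692
import Groth.Agent.Lib.helper26.DimFormSch2

set_option autoImplicit false
universe u
open EGA4

namespace Groth.Agent.S4692



open AlgebraicGeometry CategoryTheory in
/-- Let Y be a locally Noetherian scheme all of whose local rings are universally catenary, X an
irreducible scheme, f : X → Y a morphism locally of finite type and n a natural number. If every
fibre of f has dimension at least n then dim X ≥ dim Y + n; if every fibre has dimension exactly n
then dim X = dim Y + n. (The empty scheme has dimension ⊥, so either hypothesis forces f to be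
surjective.) -/
theorem result {X Y : Scheme.{u}} (f : X ⟶ Y) [IsLocallyNoetherian Y]
    [LocallyOfFiniteType f] [IrreducibleSpace X] (hY : ∀ y : Y, CAlg.IsUniversallyCatenary (Y.presheaf.stalk y))
    (n : ℕ) :
    ((∀ y : Y, (n : WithBot ℕ∞) ≤ topologicalKrullDim (f.fiber y)) →
        topologicalKrullDim Y + n ≤ topologicalKrullDim X) ∧
      ((∀ y : Y, topologicalKrullDim (f.fiber y) = n) →
        topologicalKrullDim X = topologicalKrullDim Y + n) := by
  have hne : ∀ y : Y, topologicalKrullDim (f.fiber y) ≠ ⊥ → Nonempty (f.fiber y) := by
    intro y hy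
    by_contra hempty
    rw [not_nonempty_iff] at hempty
    apply hy
    haveI : IsEmpty (TopologicalSpace.IrreducibleCloseds (f.fiber y)) :=
      ⟨fun Z => by
        obtain ⟨z, -⟩ := Z.isIrreducible'.nonempty
        exact hempty.false z⟩
    exact Order.krullDim_eq_bot
  have key : (∀ y : Y, Nonempty (f.fiber y)) →
      ∃ (_ : IrreducibleSpace Y) (e : ℕ), topologicalKrullDim (f.fiber (genericPoint Y)) = e ∧
        topologicalKrullDim X = topologicalKrullDim Y + e := by
    intro hfib
    have hsurj : Function.Surjective f.base := by
      intro y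
      obtain ⟨a⟩ := hfib y
      refine ⟨f.fiberι y a, ?_⟩
      have : f.fiberι y a ∈ Set.range (f.fiberι y) := ⟨a, rfl⟩
      rw [f.range_fiberι] at this
      exact this
    haveI : IrreducibleSpace Y := by
      rw [irreducibleSpace_def]
      change IsIrreducible (Set.univ : Set Y)
      rw [← hsurj.range_eq, ← Set.image_univ]
      exact (IrreducibleSpace.isIrreducible_univ X).image f.base f.continuous.continuousOn
    haveI : IsDominant f := ⟨hsurj.denseRange⟩
    obtain ⟨e, hfe, hsup⟩ := Groth.Agent.Lib.helper26.DimIneq.iSup_coheight_eq hY f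
    refine ⟨inferInstance, e, hfe, ?_⟩
    have hX : topologicalKrullDim X = ((⨆ x : X, Order.coheight x : ℕ∞) : WithBot ℕ∞) := by
      rw [Groth.Agent.Lib.helper7.DimBC.topologicalKrullDim_eq_krullDim,
        Order.krullDim_eq_iSup_coheight_of_nonempty]
    have hYd : topologicalKrullDim Y = ((⨆ y : Y, Order.coheight y : ℕ∞) : WithBot ℕ∞) := by
      rw [Groth.Agent.Lib.helper7.DimBC.topologicalKrullDim_eq_krullDim,
        Order.krullDim_eq_iSup_coheight_of_nonempty]
    have hD : (⨆ x : X, Order.coheight (f x)) = ⨆ y : Y, Order.coheight y :=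
      hsurj.iSup_comp (fun y : Y => Order.coheight y)
    rw [hX, hYd, hsup, hD]
    norm_cast
  constructor
  · intro h
    obtain ⟨_, e, hfe, hdim⟩ := key (fun y => hne y (fun h0 => by
      have := h y; rw [h0] at this; simp at this))
    rw [hdim]
    have hne' := h (genericPoint Y)
    rw [hfe] at hne'
    exact add_le_add le_rfl hne'
  · intro h
    obtain ⟨_, e, hfe, hdim⟩ := key (fun y => hne y (fun h0 => by
      have := h y; rw [h0] at this; simp at this))
    rw [hdim]
    have hne' := h (genericPoint Y)
    rw [hfe] at hne'
    rw [hne']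

end Groth.Agent.S4692
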