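import Groth.Statements.S4694
import Groth.Agent.Lib.helper9.FlatDepth4
import Groth.Agent.Lib.helper21.Acyc

set_option autoImplicit false
universe u
open EGA4

namespace Groth.Agent.S4694

open TensorProduct in
/-- Let A → B be a local homomorphism of Noetherian local rings, M a finite A-module and N a nonzero
finite B-module, flat over A, whose closed-fibre module N/m_A N has finite length. Then the depth of
the B-module N ⊗_A M equals the depth of the A-module M. (The companion equality of codepths in the
published item is not restated.) -/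
theorem result {A B M N : Type u} [CommRing A] [CommRing B]
    [IsNoetherianRing A] [IsNoetherianRing B] [IsLocalRing A] [IsLocalRing B] [Algebra A B]
    [IsLocalHom (algebraMap A B)] [AddCommGroup M] [Module A M] [Module.Finite A M]
    [AddCommGroup N] [Module B N] [Module A N] [IsScalarTower A B N] [Module.Finite B N] [Nontrivial N]
    [Module.Flat A N] (hN : IsFiniteLength B (EGA4.FibMod A B N)) :
    LocCoh.depth B (N ⊗[A] M) = LocCoh.depth A M := by
  have h1 := Groth.Agent.Lib.helper9.FlatDepth4.depth_tensor (R := A) (S := B) N M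
  rw [Groth.Agent.Lib.helper9.FlatDepth4.depth_fibre_eq] at h1
  have hle : EGA4.mB A B ≤ IsLocalRing.maximalIdeal B :=
    IsLocalRing.map_maximalIdeal_le (algebraMap A B)
  have hne : EGA4.mB A B • (⊤ : Submodule B N) ≠ ⊤ := fun h =>
    Groth.Agent.Lib.helper9.Depth.maximalIdeal_smul_top_ne_top (R := B) N
      (top_le_iff.mp (h.ge.trans (Submodule.smul_mono_left hle)))
  haveI : Nontrivial (EGA4.FibMod A B N) := Submodule.Quotient.nontrivial_iff.mpr hne
  have h0 : LocCoh.depth B (EGA4.FibMod A B N) = 0 := by
    by_contra hne0
    have hpos : (1 : ℕ∞) ≤ LocCoh.depth B (EGA4.FibMod A B N) :=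
      Order.one_le_iff_pos.mpr (pos_iff_ne_zero.mpr hne0)
    have htopfl : IsFiniteLength B (⊤ : Submodule B (EGA4.FibMod A B N)) :=
      (isFiniteLength_iff_isNoetherian_isArtinian.mpr
        ⟨inferInstance, by
          haveI := (isFiniteLength_iff_isNoetherian_isArtinian.mp hN).2
          infer_instance⟩)
    have hbot := Groth.Agent.H21.Acyc.eq_bot_of_isFiniteLength_of_depth_pos
      (EGA4.FibMod A B N) hpos ⊤ htopfl
    exact top_ne_bot hbot
  rw [h1]
  change LocCoh.depth A M + LocCoh.depth B (EGA4.FibMod A B N) = _
  rw [h0, add_zero]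

end Groth.Agent.S4694
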