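import Groth.Statements.S9296
import Mathlib
import Groth.Agent.Lib.helper6.SerreConvE

set_option autoImplicit false
universe u
open EGA4

namespace Groth.Agent.S9296

/-- regular locus is stable under generization -/
theorem reg_generization {R : Type u} [CommRing R] (p q : Ideal R)
    [hp : p.IsPrime] [hq : q.IsPrime] (hqp : q ≤ p)
    (h : IsRegularLocalRing (Localization.AtPrime p)) :
    IsRegularLocalRing (Localization.AtPrime q) := by
  let S := Localization.AtPrime p
  let qS := q.map (algebraMap R S)
  have disj : Disjoint (p.primeCompl : Set R) (q : Set R) := by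
    rw [Set.disjoint_left]; intro x hx hxq; exact hx (hqp hxq)
  haveI hqS : qS.IsPrime := IsLocalization.isPrime_of_isPrime_disjoint p.primeCompl _ _ hq disj
  haveI : IsLocalization.AtPrime (Localization.AtPrime qS) q := by
    convert IsLocalization.isLocalization_isLocalization_atPrime_isLocalization p.primeCompl
      (Localization.AtPrime qS) qS
    exact (IsLocalization.under_map_of_isPrime_disjoint p.primeCompl _ hq disj).symm
  haveI := Groth.Agent.Lib.helper6.SerreConvE.regular_localization S qS
  exact IsRegularLocalRing.of_ringEquiv (IsLocalization.algEquiv q.primeCompl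
    (Localization.AtPrime qS) (Localization.AtPrime q)).toRingEquiv

open PrimeSpectrum in
/-- Nagata's topological criterion for openness in a Noetherian spectrum. -/
theorem isOpen_of_nagata {R : Type u} [CommRing R] [IsNoetherianRing R]
    (E : Set (PrimeSpectrum R))
    (hgen : ∀ x y : PrimeSpectrum R, x ≤ y → y ∈ E → x ∈ E)
    (hloc : ∀ p ∈ E, ∃ U : Set (PrimeSpectrum R), IsOpen U ∧
      (U ∩ zeroLocus (p.asIdeal : Set R)).Nonempty ∧
      U ∩ zeroLocus (p.asIdeal : Set R) ⊆ E) : IsOpen E := by
  rw [← isClosed_compl_iff]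
  apply isClosed_of_closure_subset
  rw [← zeroLocus_vanishingIdeal_eq_closure]
  have hfin : (vanishingIdeal Eᶜ).minimalPrimes.Finite :=
    Ideal.finite_minimalPrimes_of_isNoetherianRing R _
  have key : ∀ P ∈ (vanishingIdeal Eᶜ).minimalPrimes, ∀ hP : P.IsPrime,
      (⟨P, hP⟩ : PrimeSpectrum R) ∈ Eᶜ := by
    intro P hPmin hP hPE
    obtain ⟨U, hUo, ⟨y, hyU, hyV⟩, hUE⟩ := hloc _ hPE
    have hPU : (⟨P, hP⟩ : PrimeSpectrum R) ∈ U := by
      have hle : (⟨P, hP⟩ : PrimeSpectrum R) ≤ y := (mem_zeroLocus _ _).mp hyV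
      exact hUo.stableUnderGeneralization ((le_iff_specializes _ _).mp hle) hyU
    let W : Set (PrimeSpectrum R) :=
      U ∩ ⋂ P' ∈ ((vanishingIdeal Eᶜ).minimalPrimes \ {P}), (zeroLocus (P' : Set R))ᶜ
    have hWo : IsOpen W := hUo.inter ((hfin.subset Set.diff_subset).isOpen_biInter
      (fun P' _ => (isClosed_zeroLocus _).isOpen_compl))
    have hPW : (⟨P, hP⟩ : PrimeSpectrum R) ∈ W := by
      refine ⟨hPU, ?_⟩
      simp only [Set.mem_iInter]
      intro P' hP' hmem
      have hle : P' ≤ P := (mem_zeroLocus _ _).mp hmem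
      have : P ≤ P' := hPmin.2 hP'.1.1 hle
      exact hP'.2 (le_antisymm hle this)
    have hPcl : (⟨P, hP⟩ : PrimeSpectrum R) ∈ closure Eᶜ := by
      rw [← zeroLocus_vanishingIdeal_eq_closure, mem_zeroLocus]
      exact hPmin.1.2
    obtain ⟨z, hzW, hzZ⟩ := mem_closure_iff.mp hPcl W hWo hPW
    have hzI : vanishingIdeal Eᶜ ≤ z.asIdeal := by
      have : z ∈ closure Eᶜ := subset_closure hzZ
      rw [← zeroLocus_vanishingIdeal_eq_closure, mem_zeroLocus] at this
      exact this
    obtain ⟨P'', hP''min, hP''le⟩ := Ideal.exists_minimalPrimes_le hzI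
    have hP''eq : P'' = P := by
      by_contra hne
      have := hzW.2
      simp only [Set.mem_iInter] at this
      exact this P'' ⟨hP''min, hne⟩ ((mem_zeroLocus _ _).mpr hP''le)
    subst hP''eq
    exact hzZ (hUE ⟨hzW.1, (mem_zeroLocus _ _).mpr hP''le⟩)
  intro z hz
  rw [mem_zeroLocus] at hz
  obtain ⟨P, hPmin, hPle⟩ := Ideal.exists_minimalPrimes_le hz
  have hPZ := key P hPmin hPmin.1.1
  intro hzE
  exact hPZ (hgen ⟨P, hPmin.1.1⟩ z hPle hzE)

/-- For a Noetherian ring R, the set of primes at which R is regular is open in Spec R (R is J-1)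
exactly when, for each such prime p, some nonempty open part of the closed set V(p) consists of
primes at which R is regular. Stated with an open U of Spec R whose trace on V(p) is nonempty and
contained in the regular locus. -/
theorem result (R : Type u) [CommRing R] [IsNoetherianRing R] :
    IsOpen (EGA4.regLocus R) ↔
      ∀ p ∈ EGA4.regLocus R, ∃ U : Set (PrimeSpectrum R), IsOpen U ∧
        (U ∩ PrimeSpectrum.zeroLocus (p.asIdeal : Set R)).Nonempty ∧
        U ∩ PrimeSpectrum.zeroLocus (p.asIdeal : Set R) ⊆ EGA4.regLocus R := by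
  constructor
  · intro hopen p hp
    refine ⟨EGA4.regLocus R, hopen, ⟨p, hp, ?_⟩, Set.inter_subset_left⟩
    rw [PrimeSpectrum.mem_zeroLocus]
  · intro h
    apply isOpen_of_nagata _ ?_ h
    intro x y hxy hy
    exact reg_generization y.asIdeal x.asIdeal hxy hy

end Groth.Agent.S9296
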