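import Groth.Statements.S4700
import Mathlib
import Groth.Agent.S9296
import Groth.Agent.Lib.helper20.RegQuot7

set_option autoImplicit false
universe u
open EGA4

namespace Groth.Agent.S4700

open IsLocalRing in
/-- `A` Noetherian local, `A/(f)` regular with `dim A/(f) + r ≤ dim A` ⇒ `A` regular. -/
theorem regular_of_quotient_le {A : Type u} [CommRing A] [IsLocalRing A] [IsNoetherianRing A]
    {r : ℕ} (f : Fin r → A)
    [hreg : IsRegularLocalRing (A ⧸ Ideal.span (Set.range f))]
    (hdim : ringKrullDim (A ⧸ Ideal.span (Set.range f)) + r ≤ ringKrullDim A) :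
    IsRegularLocalRing A := by
  classical
  set J := Ideal.span (Set.range f) with hJ
  obtain ⟨d, hd⟩ := Groth.Agent.H5.RegLoc.exists_nat_dim A
  obtain ⟨e, he⟩ := Groth.Agent.H5.RegLoc.exists_nat_dim (A ⧸ J)
  rw [hd, he] at hdim
  have hder : e + r ≤ d := by exact_mod_cast hdim
  have hse : (maximalIdeal (A ⧸ J)).spanFinrank = e :=
    Groth.Agent.H5.RegLoc.spanFinrank_eq_of_dim he
  obtain ⟨t, ht1, ht2⟩ := Groth.Agent.H5.RegLoc.exists_lift_gens (Ideal.Quotient.mk J)
    Ideal.Quotient.mk_surjective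
  rw [Ideal.mk_ker] at ht2
  have hrange : (Set.range f).ncard ≤ r := by
    rw [← Set.image_univ]
    refine le_trans (Set.ncard_image_le Set.finite_univ) ?_
    simp [Set.ncard_univ]
  apply IsRegularLocalRing.of_spanFinrank_maximalIdeal_le
  rw [hd]
  have h1 : (maximalIdeal A).spanFinrank ≤ d := by
    rw [ht2, hJ, ← Ideal.span_union]
    have hfin : ((t : Set A) ∪ Set.range f).Finite :=
      t.finite_toSet.union (Set.finite_range f)
    refine le_trans (Submodule.spanFinrank_span_le_ncard_of_finite hfin) ?_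
    refine le_trans (Set.ncard_union_le _ _) ?_
    rw [Set.ncard_coe_finset]
    omega
  exact_mod_cast h1

theorem height_add_dim_quot_le {B : Type u} [CommRing B] (J : Ideal B) [hJ : J.IsPrime] :
    (J.height : WithBot ℕ∞) + ringKrullDim (B ⧸ J) ≤ ringKrullDim B := by
  have h1 : ringKrullDim (B ⧸ J) =
      (Order.coheight (⟨J, hJ⟩ : PrimeSpectrum B) : WithBot ℕ∞) := by
    rw [ringKrullDim_quotient, Order.coheight_eq_krullDim_Ici]
    have : PrimeSpectrum.zeroLocus (J : Set B) = Set.Ici (⟨J, hJ⟩ : PrimeSpectrum B) := by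
      ext x
      rw [PrimeSpectrum.mem_zeroLocus, Set.mem_Ici]
      rfl
    rw [this]
  have h2 : J.height = Order.height (⟨J, hJ⟩ : PrimeSpectrum B) :=
    PrimeSpectrum.height_eq_orderHeight (⟨J, hJ⟩ : PrimeSpectrum B)
  rw [h1, h2]
  have : Nonempty (PrimeSpectrum B) := ⟨⟨J, hJ⟩⟩
  unfold ringKrullDim
  rw [Order.krullDim_eq_iSup_height_add_coheight_of_nonempty, ← WithBot.coe_add]
  exact WithBot.coe_le_coe.mpr
    (le_iSup (fun a : PrimeSpectrum B => Order.height a + Order.coheight a) ⟨J, hJ⟩)

theorem spread_finset {A : Type u} [CommRing A] (X p : Ideal A) [hp : p.IsPrime] (G : Finset A)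
    (h : ∀ g ∈ G, ∃ w, w ∉ p ∧ w * g ∈ X) : ∃ f, f ∉ p ∧ ∀ g ∈ G, f * g ∈ X := by
  classical
  induction G using Finset.induction_on with
  | empty => exact ⟨1, fun h1 => hp.ne_top ((Ideal.eq_top_iff_one _).mpr h1), by simp⟩
  | insert a s ha ih =>
    obtain ⟨f, hf, hfs⟩ := ih (fun g hg => h g (Finset.mem_insert_of_mem hg))
    obtain ⟨w, hw, hwa⟩ := h a (Finset.mem_insert_self a s)
    refine ⟨w * f, fun hmem => (hp.mem_or_mem hmem).elim hw hf, ?_⟩
    intro g hg
    rcases Finset.mem_insert.mp hg with rfl | hg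
    · have : w * f * g = f * (w * g) := by ring
      rw [this]; exact X.mul_mem_left f hwa
    · have : w * f * g = w * (f * g) := by ring
      rw [this]; exact X.mul_mem_left w (hfs g hg)

open IsLocalRing in
theorem exists_spread {A : Type u} [CommRing A] [IsNoetherianRing A] (p : Ideal A)
    [hp : p.IsPrime] (hreg : IsRegularLocalRing (Localization.AtPrime p)) :
    ∃ (h : ℕ) (x : Fin h → A) (f : A),
      (h : WithBot ℕ∞) = ringKrullDim (Localization.AtPrime p) ∧ (∀ i, x i ∈ p) ∧ f ∉ p ∧
      ∀ a ∈ p, f * a ∈ Ideal.span (Set.range x) := by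
  classical
  set S := Localization.AtPrime p with hS
  obtain ⟨h, hh⟩ : ∃ h : ℕ, (maximalIdeal S).spanFinrank = h := ⟨_, rfl⟩
  obtain ⟨y, hy⟩ := Groth.Agent.H5.RegLoc.exists_fin_generators S h hh
  have hex : ∀ i, ∃ (a : A) (s : p.primeCompl), IsLocalization.mk' S a s = y i :=
    fun i => IsLocalization.exists_mk'_eq p.primeCompl (y i)
  choose x s hxs using hex
  have hymem : ∀ i, y i ∈ maximalIdeal S := by
    intro i
    rw [← hy]
    exact Ideal.subset_span ⟨i, rfl⟩
  have hxm : ∀ i, algebraMap A S (x i) ∈ maximalIdeal S := by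
    intro i
    rw [← IsLocalization.mk'_spec S (x i) (s i), hxs]
    exact Ideal.mul_mem_right _ _ (hymem i)
  have hx : ∀ i, x i ∈ p := fun i =>
    (IsLocalization.AtPrime.to_map_mem_maximal_iff S p (x i)).mp (hxm i)
  have hXmap : (Ideal.span (Set.range x)).map (algebraMap A S) = maximalIdeal S := by
    apply le_antisymm
    · rw [Ideal.map_span, Ideal.span_le]
      rintro _ ⟨_, ⟨i, rfl⟩, rfl⟩
      exact hxm i
    · rw [← hy, Ideal.span_le]
      rintro _ ⟨i, rfl⟩
      rw [SetLike.mem_coe, ← hxs i, IsLocalization.mk'_mem_map_algebraMap_iff p.primeCompl]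
      refine ⟨1, Submonoid.one_mem _, ?_⟩
      rw [one_mul]
      exact Ideal.subset_span ⟨i, rfl⟩
  have hloc : ∀ g ∈ p, ∃ w, w ∉ p ∧ w * g ∈ Ideal.span (Set.range x) := by
    intro g hg
    have h1 : algebraMap A S g ∈ (Ideal.span (Set.range x)).map (algebraMap A S) := by
      rw [hXmap]
      exact (IsLocalization.AtPrime.to_map_mem_maximal_iff S p g).mpr hg
    obtain ⟨w, hw, hwg⟩ :=
      (IsLocalization.algebraMap_mem_map_algebraMap_iff p.primeCompl S _ g).mp h1
    exact ⟨w, hw, hwg⟩
  obtain ⟨G, hG⟩ := (isNoetherianRing_iff_ideal_fg A).mp inferInstance p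
  obtain ⟨f, hf, hfG⟩ := spread_finset (Ideal.span (Set.range x)) p G (fun g hg =>
    hloc g (hG ▸ Ideal.subset_span hg))
  refine ⟨h, x, f, hh ▸ hreg.spanFinrank_maximalIdeal, hx, hf, ?_⟩
  intro a ha
  rw [← hG] at ha
  induction ha using Submodule.span_induction with
  | mem g hg => exact hfG g hg
  | zero => rw [mul_zero]; exact Ideal.zero_mem _
  | add a b _ _ iha ihb => rw [mul_add]; exact Ideal.add_mem _ iha ihb
  | smul c a _ iha =>
    rw [smul_eq_mul, mul_left_comm]
    exact Ideal.mul_mem_left _ c iha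

theorem reg_at_of_quot {A : Type u} [CommRing A] [IsNoetherianRing A] (p : Ideal A)
    [hp : p.IsPrime] (h : ℕ) (x : Fin h → A) (f : A)
    (hh : (h : WithBot ℕ∞) = ringKrullDim (Localization.AtPrime p))
    (hx : ∀ i, x i ∈ p) (hspread : ∀ a ∈ p, f * a ∈ Ideal.span (Set.range x))
    (Q : Ideal (A ⧸ p)) [hQ : Q.IsPrime]
    (hQreg : IsRegularLocalRing (Localization.AtPrime Q))
    (hfQ : f ∉ Q.comap (Ideal.Quotient.mk p)) :
    IsRegularLocalRing (Localization.AtPrime (Q.comap (Ideal.Quotient.mk p))) := by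
  set q := Q.comap (Ideal.Quotient.mk p) with hq
  have hpq : p ≤ q := by
    intro a ha
    rw [hq, Ideal.mem_comap, Ideal.Quotient.eq_zero_iff_mem.mpr ha]
    exact Q.zero_mem
  set B := Localization.AtPrime q with hB
  let fB : Fin h → B := fun i => algebraMap A B (x i)
  have hXmap : (Ideal.span (Set.range x)).map (algebraMap A B) = Ideal.span (Set.range fB) := by
    rw [Ideal.map_span, ← Set.range_comp]
    rfl
  have hJ : p.map (algebraMap A B) = Ideal.span (Set.range fB) := by
    apply le_antisymm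
    · rw [Ideal.map_le_iff_le_comap]
      intro a ha
      rw [Ideal.mem_comap]
      have h1 : algebraMap A B (f * a) ∈ Ideal.span (Set.range fB) := by
        rw [← hXmap]
        exact Ideal.mem_map_of_mem _ (hspread a ha)
      rw [map_mul] at h1
      have hunit : IsUnit (algebraMap A B f) :=
        IsLocalization.map_units B (⟨f, hfQ⟩ : q.primeCompl)
      exact (Ideal.unit_mul_mem_iff_mem _ hunit).mp h1
    · rw [Ideal.span_le]
      rintro _ ⟨i, rfl⟩
      exact Ideal.mem_map_of_mem _ (hx i)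
  have disj : Disjoint (q.primeCompl : Set A) (p : Set A) := by
    rw [Set.disjoint_left]
    intro a ha hap
    exact ha (hpq hap)
  haveI hJprime : (p.map (algebraMap A B)).IsPrime :=
    IsLocalization.isPrime_of_isPrime_disjoint q.primeCompl B p hp disj
  -- regularity of the quotient
  have heq : Algebra.algebraMapSubmonoid (A ⧸ p) q.primeCompl = Q.primeCompl := by
    ext z
    constructor
    · rintro ⟨a, ha, rfl⟩
      exact ha
    · intro hz
      obtain ⟨a, rfl⟩ := Ideal.Quotient.mk_surjective z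
      exact ⟨a, hz, rfl⟩
  haveI hloc : IsLocalization Q.primeCompl (B ⧸ p.map (algebraMap A B)) := by
    rw [← heq]
    infer_instance
  haveI hregq : IsRegularLocalRing (B ⧸ p.map (algebraMap A B)) :=
    IsRegularLocalRing.of_ringEquiv (IsLocalization.algEquiv Q.primeCompl
      (Localization.AtPrime Q) (B ⧸ p.map (algebraMap A B))).toRingEquiv
  -- dimensions
  have hht : (p.map (algebraMap A B)).height = p.height :=
    IsLocalization.height_map_of_disjoint q.primeCompl p disj
  have hdimp : ringKrullDim (Localization.AtPrime p) = p.height :=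
    IsLocalization.AtPrime.ringKrullDim_eq_height p (Localization.AtPrime p)
  have hdim : ringKrullDim (B ⧸ p.map (algebraMap A B)) + h ≤ ringKrullDim B := by
    have := height_add_dim_quot_le (p.map (algebraMap A B))
    rw [hht, ← hdimp, ← hh, add_comm] at this
    exact this
  rw [hJ] at hdim hregq
  exact regular_of_quotient_le fB hdim

/-- Let A be a Noetherian ring. Suppose that for every prime p of A such that A_p is regular, the
regular locus of the domain A/p contains a nonempty open subset of Spec(A/p) (equivalently, is a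
neighbourhood of the generic point). Then the regular locus of A is open in Spec A. -/
theorem result (A : Type u) [CommRing A] [IsNoetherianRing A]
    (h : ∀ p : PrimeSpectrum A, p ∈ EGA4.regLocus A →
      ∃ U : Set (PrimeSpectrum (A ⧸ p.asIdeal)), IsOpen U ∧ U.Nonempty ∧ U ⊆ EGA4.regLocus (A ⧸ p.asIdeal)) :
    IsOpen (EGA4.regLocus A) := by
  apply Groth.Agent.S9296.isOpen_of_nagata
  · intro x y hxy hy
    exact Groth.Agent.S9296.reg_generization y.asIdeal x.asIdeal hxy hy
  · intro P hP
    obtain ⟨n, x, f, hh, hx, hf, hspread⟩ := exists_spread P.asIdeal hP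
    obtain ⟨U, hUo, hUne, hUreg⟩ := h P hP
    have hsurj : Function.Surjective (Ideal.Quotient.mk P.asIdeal) :=
      Ideal.Quotient.mk_surjective
    have hind := (PrimeSpectrum.isClosedEmbedding_comap_of_surjective (A ⧸ P.asIdeal)
      (Ideal.Quotient.mk P.asIdeal) hsurj).isInducing
    obtain ⟨O, hOo, hOU⟩ := hind.isOpen_iff.mp hUo
    refine ⟨O ∩ (PrimeSpectrum.basicOpen f : Set (PrimeSpectrum A)),
      hOo.inter (PrimeSpectrum.basicOpen f).isOpen, ?_, ?_⟩
    · refine ⟨P, ⟨?_, (PrimeSpectrum.mem_basicOpen f P).mpr hf⟩, ?_⟩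
      · obtain ⟨Q₀, hQ₀⟩ := hUne
        haveI : IsDomain (A ⧸ P.asIdeal) := Ideal.Quotient.isDomain _
        let η : PrimeSpectrum (A ⧸ P.asIdeal) := ⟨⊥, Ideal.isPrime_bot⟩
        have hle : η ≤ Q₀ := by
          change (⊥ : Ideal (A ⧸ P.asIdeal)) ≤ Q₀.asIdeal
          exact bot_le
        have hη : η ∈ U :=
          hUo.stableUnderGeneralization ((PrimeSpectrum.le_iff_specializes η Q₀).mp hle) hQ₀
        have hcη : PrimeSpectrum.comap (Ideal.Quotient.mk P.asIdeal) η = P := by
          apply PrimeSpectrum.ext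
          change (⊥ : Ideal (A ⧸ P.asIdeal)).comap (Ideal.Quotient.mk P.asIdeal) = P.asIdeal
          rw [← RingHom.ker_eq_comap_bot, Ideal.mk_ker]
        rw [← hOU] at hη
        rw [← hcη]
        exact hη
      · rw [PrimeSpectrum.mem_zeroLocus]
    · rintro q' ⟨⟨hq'O, hq'f⟩, hq'V⟩
      have hrange : q' ∈ Set.range (PrimeSpectrum.comap (Ideal.Quotient.mk P.asIdeal)) := by
        rw [range_comap_of_surjective _ _ hsurj, Ideal.mk_ker]
        exact hq'V
      obtain ⟨Q, rfl⟩ := hrange
      have hQU : Q ∈ U := by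
        rw [← hOU]
        exact hq'O
      have hQreg := hUreg hQU
      exact reg_at_of_quot P.asIdeal n x f hh hx hspread Q.asIdeal hQreg
        ((PrimeSpectrum.mem_basicOpen f _).mp hq'f)

end Groth.Agent.S4700
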