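import Groth.Statements.S4701
import Mathlib
import Groth.Agent.S4700

set_option autoImplicit false
universe u
open EGA4

namespace Groth.Agent.S4701

theorem reg_of_ringEquiv {R S : Type u} [CommRing R] [CommRing S] (e : R ≃+* S) (Q : Ideal S)
    [hQ : Q.IsPrime]
    (h : IsRegularLocalRing (Localization.AtPrime (Q.comap (e : R →+* S)))) :
    IsRegularLocalRing (Localization.AtPrime Q) := by
  have hmap : (Q.comap (e : R →+* S)).primeCompl.map e.toMonoidHom = Q.primeCompl := by
    ext z
    constructor
    · rintro ⟨a, ha, rfl⟩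
      exact ha
    · intro hz
      refine ⟨e.symm z, ?_, e.apply_symm_apply z⟩
      change e.symm z ∉ Q.comap (e : R →+* S)
      rw [Ideal.mem_comap]
      simpa using hz
  exact IsRegularLocalRing.of_ringEquiv
    (IsLocalization.ringEquivOfRingEquiv (Localization.AtPrime (Q.comap (e : R →+* S)))
      (Localization.AtPrime Q) e hmap)

theorem reg_bot (D : Type u) [CommRing D] [IsDomain D] [IsNoetherianRing D] :
    IsRegularLocalRing (Localization.AtPrime (⊥ : Ideal D)) := by
  haveI : IsNoetherianRing (Localization.AtPrime (⊥ : Ideal D)) :=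
    IsLocalization.isNoetherianRing (⊥ : Ideal D).primeCompl _ inferInstance
  apply IsRegularLocalRing.of_spanFinrank_maximalIdeal_le
  have h1 : IsLocalRing.maximalIdeal (Localization.AtPrime (⊥ : Ideal D)) = ⊥ := by
    rw [← Localization.AtPrime.map_eq_maximalIdeal, Ideal.map_bot]
  rw [h1, Submodule.spanFinrank_bot]
  exact ringKrullDim_nonneg_of_nontrivial

/-- Let A be a Noetherian ring. The regular locus of every quotient ring A/I is open in its spectrum if
and only if, for every prime ideal p, the regular locus of the domain A/p contains a nonempty open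
subset of Spec(A/p). (The published statement quantifies over all subschemes of Spec A; open
subschemes of the closed ones add nothing, so closed subschemes are used here.) -/
theorem result (A : Type u) [CommRing A] [IsNoetherianRing A] :
    (∀ I : Ideal A, IsOpen (EGA4.regLocus (A ⧸ I))) ↔
      ∀ (p : Ideal A) [p.IsPrime],
        ∃ U : Set (PrimeSpectrum (A ⧸ p)), IsOpen U ∧ U.Nonempty ∧ U ⊆ EGA4.regLocus (A ⧸ p) := by
  constructor
  · intro hall p hp
    refine ⟨EGA4.regLocus (A ⧸ p), hall p, ⟨⟨⊥, Ideal.isPrime_bot⟩, ?_⟩, subset_rfl⟩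
    exact reg_bot (A ⧸ p)
  · intro hp I
    apply Groth.Agent.S4700.result (A ⧸ I)
    intro P _
    set p : Ideal A := P.asIdeal.comap (Ideal.Quotient.mk I) with hpdef
    obtain ⟨U, hUo, ⟨Q, hQ⟩, hUreg⟩ := hp p
    let φ : A →+* (A ⧸ I) ⧸ P.asIdeal := (Ideal.Quotient.mk P.asIdeal).comp (Ideal.Quotient.mk I)
    have hφ : Function.Surjective φ :=
      Ideal.Quotient.mk_surjective.comp Ideal.Quotient.mk_surjective
    have hker : RingHom.ker φ = p := by
      rw [hpdef, ← RingHom.comap_ker, Ideal.mk_ker]
    let e : A ⧸ p ≃+* (A ⧸ I) ⧸ P.asIdeal :=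
      (Ideal.quotEquivOfEq hker.symm).trans (RingHom.quotientKerEquivOfSurjective hφ)
    let g := PrimeSpectrum.homeomorphOfRingEquiv e
    refine ⟨g.symm ⁻¹' U, hUo.preimage g.symm.continuous, ⟨g Q, ?_⟩, ?_⟩
    · change g.symm (g Q) ∈ U
      rw [g.symm_apply_apply]
      exact hQ
    · intro Q' hQ'
      have h1 : g.symm Q' ∈ EGA4.regLocus (A ⧸ p) := hUreg hQ'
      exact reg_of_ringEquiv e Q'.asIdeal h1

end Groth.Agent.S4701
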