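import Groth.Statements.S4710
import Groth.Agent.Lib.helper14.N1N2

set_option autoImplicit false
universe u
open EGA4

namespace Groth.Agent.S4710



/-- Last assertion, case of rings of fractions: if A is a Noetherian ring all of whose quotient domains
are Japanese (a Nagata ring), then so is every ring of fractions S⁻¹A. -/
theorem result (A : Type u) [CommRing A] (hA : CAlg.IsNagata A) (S : Submonoid A) :
    CAlg.IsNagata (Localization S) := by
  haveI := hA.1
  refine ⟨IsLocalization.isNoetherianRing S _ hA.1, fun P hP => ?_⟩
  haveI : (P.comap (algebraMap A (Localization S))).IsPrime := Ideal.comap_isPrime _ _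
  have hmap : (P.comap (algebraMap A (Localization S))).map (algebraMap A (Localization S)) = P :=
    IsLocalization.map_comap S _ P
  haveI : IsLocalization (S.map (Ideal.Quotient.mk (P.comap (algebraMap A (Localization S)))))
      (Localization S ⧸ P) :=
    IsLocalization.of_surjective S (Localization S)
      (Ideal.Quotient.mk (P.comap (algebraMap A (Localization S)))) Ideal.Quotient.mk_surjective
      (Ideal.Quotient.mk P) Ideal.Quotient.mk_surjective rfl
      (by rw [Ideal.mk_ker, Ideal.mk_ker, hmap])
  exact H14.isN2_of_isLocalization (A ⧸ P.comap (algebraMap A (Localization S)))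
    (S.map (Ideal.Quotient.mk (P.comap (algebraMap A (Localization S)))))
    (Localization S ⧸ P) (hA.2 _)

end Groth.Agent.S4710
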