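import Groth.Statements.S4711
import Mathlib
import Groth.Agent.Lib.helper7.Jac3
import Groth.Agent.Lib.helper7.PC2

set_option autoImplicit false
universe u
open EGA4

namespace Groth.Agent.S4711

open Groth.Agent.Lib.helper7.Jac Topology TopologicalSpace Set

open AlgebraicGeometry Topology in
/-- In any scheme X, every nonempty locally constructible subset E contains a point x such that the
one-point set {x} is locally closed in X (equivalently x is isolated in its closure). -/
theorem result (X : Scheme.{u}) (E : Set X)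
    (hE : Topology.IsLocallyConstructible E) (hne : E.Nonempty) :
    ∃ x ∈ E, IsLocallyClosed ({x} : Set X) := by
  obtain ⟨e, he⟩ := hne
  obtain ⟨_, ⟨V, hV : IsAffineOpen V, rfl⟩, heV, -⟩ :=
    X.isBasis_affineOpens.exists_subset_of_mem_open (mem_univ e) isOpen_univ
  have hsp := Groth.Agent.Lib.helper7.PC.spectralSpace_of_isAffineOpen hV
  have hemb : IsOpenEmbedding (Subtype.val : ↥(V : Set X) → X) := V.2.isOpenEmbedding_subtypeVal
  have hcons : IsConstructible (Subtype.val ⁻¹' E : Set ↥(V : Set X)) :=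
    (hE.preimage_of_isOpenEmbedding hemb).isConstructible
  have hne : Nonempty {U : Set ↥(V : Set X) // IsOpen U ∧ IsCompact U} :=
    ⟨⟨∅, isOpen_empty, isCompact_empty⟩⟩
  have key : (Subtype.val ⁻¹' E : Set ↥(V : Set X)).Nonempty →
      ∃ x ∈ (Subtype.val ⁻¹' E : Set ↥(V : Set X)), IsLocallyClosed ({x} : Set ↥(V : Set X)) := by
    refine IsConstructible.induction_of_isTopologicalBasis
      (P := fun s _ => s.Nonempty → ∃ x ∈ s, IsLocallyClosed ({x} : Set ↥(V : Set X)))
      (fun U : {U : Set ↥(V : Set X) // IsOpen U ∧ IsCompact U} => (U : Set ↥(V : Set X)))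
      ?basis ?cpt ?sdiff ?union _ hcons
    case basis =>
      have := PrespectralSpace.isTopologicalBasis (X := ↥(V : Set X))
      convert this using 1
      ext s
      constructor
      · rintro ⟨⟨U, hU⟩, rfl⟩
        exact hU
      · intro hs
        exact ⟨⟨s, hs⟩, rfl⟩
    case cpt => exact fun U => U.2.2
    case union =>
      rintro s hs t ht hPs hPt ⟨x, hx | hx⟩
      · obtain ⟨y, hy, hylc⟩ := hPs ⟨x, hx⟩
        exact ⟨y, Or.inl hy, hylc⟩
      · obtain ⟨y, hy, hylc⟩ := hPt ⟨x, hx⟩
        exact ⟨y, Or.inr hy, hylc⟩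
    case sdiff =>
      intro U s hs hnonempty
      have hF : IsClosed ((⋃ j ∈ s, (j : Set ↥(V : Set X)))ᶜ) :=
        (isOpen_biUnion fun j _ => j.2.1).isClosed_compl
      have hc : IsCompact ((U : Set ↥(V : Set X)) ∩ (⋃ j ∈ s, (j : Set ↥(V : Set X)))ᶜ) :=
        U.2.2.inter_right hF
      obtain ⟨x, hx, hxcl⟩ := exists_mem_closure_inter_eq_singleton hF hc hnonempty
      exact ⟨x, hx, (U : Set ↥(V : Set X)), closure {x}, U.2.1, isClosed_closure, by
        rw [inter_comm, hxcl]⟩
  obtain ⟨x, hxE, hxlc⟩ := key ⟨⟨e, heV⟩, he⟩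
  refine ⟨x, hxE, ?_⟩
  have := hxlc.image hemb.isInducing (by
    rw [Subtype.range_coe]
    exact V.2.isLocallyClosed)
  rw [image_singleton] at this
  exact this

end Groth.Agent.S4711
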