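import Groth.Statements.S4712
import Mathlib
import Groth.Agent.Lib.helper7.Jac2

set_option autoImplicit false
universe u
open EGA4

namespace Groth.Agent.S4712

open Groth.Agent.Lib.helper7.Jac Topology TopologicalSpace

open AlgebraicGeometry in
/-- Let X be a locally Noetherian scheme and x a point such that {x} is locally closed in X. Then the
closure of {x} has dimension at most 1, and every point of that closure other than x is a closed
point of X. -/
theorem result (X : Scheme.{u}) [IsLocallyNoetherian X] (x : X)
    (hx : IsLocallyClosed ({x} : Set X)) :
    topologicalKrullDim (closure ({x} : Set X)) ≤ 1 ∧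
      ∀ y ∈ closure ({x} : Set X), y ≠ x → IsClosed ({y} : Set X) := by
  refine ⟨?_, fun y hy hne => isClosed_singleton_of_mem_closure hx hy hne⟩
  have hqs : QuasiSober ↥(closure ({x} : Set X)) :=
    (isClosed_closure.isClosedEmbedding_subtypeVal).quasiSober
  refine topologicalKrullDim_le_one_of_forall_isClosed_singleton
    (⟨x, subset_closure (Set.mem_singleton x)⟩ : ↥(closure ({x} : Set X))) ?_ ?_
  · rw [Set.eq_univ_iff_forall]
    intro t
    exact mem_closure_singleton_subtype t _ t.2
  · intro a ha
    have hane : (a : X) ≠ x := fun h => ha (Subtype.ext h)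
    have hcl : IsClosed ({(a : X)} : Set X) := isClosed_singleton_of_mem_closure hx a.2 hane
    have : ({a} : Set ↥(closure ({x} : Set X))) = Subtype.val ⁻¹' ({(a : X)} : Set X) := by
      ext t
      simp only [Set.mem_singleton_iff, Set.mem_preimage]
      exact ⟨fun h => h ▸ rfl, fun h => Subtype.ext h⟩
    rw [this]
    exact hcl.preimage continuous_subtype_val

end Groth.Agent.S4712
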