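import Groth.Statements.S4713
import Mathlib
import Groth.Agent.Lib.helper7.Jac2

set_option autoImplicit false
universe u
open EGA4

namespace Groth.Agent.S4713

open Groth.Agent.Lib.helper7.Jac Topology TopologicalSpace

open AlgebraicGeometry in
/-- In a locally Noetherian scheme X, every nonempty closed subset contains a closed point of X. -/
theorem result (X : Scheme.{u}) [IsLocallyNoetherian X]
    (Z : Set X) (hZ : IsClosed Z) (hne : Z.Nonempty) : ∃ x ∈ Z, IsClosed ({x} : Set X) := by
  obtain ⟨z, hz⟩ := hne
  obtain ⟨_, ⟨V, hV : IsAffineOpen V, rfl⟩, hzV, -⟩ :=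
    X.isBasis_affineOpens.exists_subset_of_mem_open (Set.mem_univ z) isOpen_univ
  have hc : CompactSpace ↥(V : Set X) := isCompact_iff_compactSpace.mp hV.isCompact
  have hS : IsClosed (Subtype.val ⁻¹' Z : Set ↥(V : Set X)) := hZ.preimage continuous_subtype_val
  obtain ⟨w, hwS, hwcl⟩ := hS.exists_closed_singleton ⟨⟨z, hzV⟩, hz⟩
  have hxlc : IsLocallyClosed ({(w : X)} : Set X) := by
    refine ⟨(V : Set X), closure {(w : X)}, V.2, isClosed_closure, ?_⟩
    ext y
    constructor
    · intro hy
      rw [Set.mem_singleton_iff] at hy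
      subst hy
      exact ⟨w.2, subset_closure (Set.mem_singleton _)⟩
    · rintro ⟨hyV, hycl⟩
      have : (⟨y, hyV⟩ : ↥(V : Set X)) ∈ closure ({w} : Set ↥(V : Set X)) := by
        exact mem_closure_singleton_subtype _ w hycl
      rw [hwcl.closure_eq, Set.mem_singleton_iff] at this
      rw [Set.mem_singleton_iff]
      exact congrArg Subtype.val this
  by_cases hcl : IsClosed ({(w : X)} : Set X)
  · exact ⟨w, hwS, hcl⟩
  · have hex : ∃ y ∈ closure ({(w : X)} : Set X), y ≠ (w : X) := by
      by_contra h
      push Not at h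
      apply hcl
      rw [← closure_subset_iff_isClosed]
      intro y hy
      exact h y hy
    obtain ⟨y, hy, hne⟩ := hex
    refine ⟨y, ?_, isClosed_singleton_of_mem_closure hxlc hy hne⟩
    exact hZ.closure_subset_iff.mpr (Set.singleton_subset_iff.mpr hwS) hy

end Groth.Agent.S4713
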