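import Groth.Statements.S4714
import Mathlib
import Groth.Agent.Lib.helper7.DimSch7

set_option autoImplicit false
universe u
open EGA4

namespace Groth.Agent.S4714


open AlgebraicGeometry CategoryTheory TopologicalSpace Groth.Agent.Lib.helper7.DimSch in
open AlgebraicGeometry CategoryTheory in
theorem exists_generization_ne (X : Scheme.{u}) (f : Γ(X, ⊤))
    (hY : interior (X.zeroLocus (U := ⊤) {f}) = ∅) (y : X)
    (hy : y ∈ X.zeroLocus (U := ⊤) {f}) : ∃ η : X, η ⤳ y ∧ η ≠ y := by
  by_contra hcon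
  push Not at hcon
  have hdim := ringKrullDim_stalk_eq_zero_of_forall_generization X y hcon
  haveI : Ring.KrullDimLE 0 (X.presheaf.stalk y) := by
    rw [Ring.krullDimLE_iff, hdim]; rfl
  have hnu : ¬ IsUnit ((X.presheaf.germ ⊤ y trivial).hom f) := by
    rw [Scheme.mem_zeroLocus_iff] at hy
    have := hy f rfl
    rwa [Scheme.mem_basicOpen_top] at this
  have hmem : (X.presheaf.germ ⊤ y trivial).hom f ∈ IsLocalRing.maximalIdeal (X.presheaf.stalk y) := by
    rwa [IsLocalRing.mem_maximalIdeal, mem_nonunits_iff]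
  obtain ⟨m, hm⟩ := Ring.KrullDimLE.isNilpotent_iff_mem_maximalIdeal.mpr hmem
  have hg : (X.presheaf.germ ⊤ y trivial).hom (f ^ (m + 1)) =
      (X.presheaf.germ ⊤ y trivial).hom 0 := by
    rw [map_pow, pow_succ, hm, zero_mul, map_zero]
  obtain ⟨W, hyW, i1, i2, hW⟩ := TopCat.Presheaf.germ_eq X.presheaf (U := ⊤) (V := ⊤) y (by trivial) (by trivial) _ _ hg
  have hsub : (W : Set X) ⊆ X.zeroLocus (U := ⊤) {f} := by
    intro w hw
    rw [Scheme.mem_zeroLocus_iff]
    intro g hg hwb
    rw [Set.mem_singleton_iff] at hg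
    subst hg
    have h1 : w ∈ X.basicOpen (g ^ (m + 1)) := by
      rw [X.basicOpen_pow g (Nat.succ_pos m)]; exact hwb
    have h2 : w ∈ X.basicOpen (X.presheaf.map i1.op (g ^ (m + 1))) := by
      rw [Scheme.basicOpen_res]; exact ⟨hw, h1⟩
    rw [hW, map_zero, Scheme.basicOpen_zero] at h2
    exact h2
  have : y ∈ interior (X.zeroLocus (U := ⊤) {f}) := mem_interior.mpr ⟨W, hsub, W.isOpen, hyW⟩
  rw [hY] at this
  exact this

open AlgebraicGeometry CategoryTheory TopologicalSpace Groth.Agent.Lib.helper7.DimSch in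
open AlgebraicGeometry CategoryTheory in
theorem part1 (X : Scheme.{u}) (f : Γ(X, ⊤))
    (hY : interior (X.zeroLocus (U := ⊤) {f}) = ∅) :
    topologicalKrullDim (X.zeroLocus (U := ⊤) {f}) + 1 ≤ topologicalKrullDim X := by
  set Y := X.zeroLocus (U := ⊤) {f} with hYdef
  have hYc : IsClosed Y := X.zeroLocus_isClosed _
  have hemb : Topology.IsClosedEmbedding (Subtype.val : ↥Y → X) := hYc.isClosedEmbedding_subtypeVal
  have key : ∀ T : IrreducibleCloseds ↥Y,
      (((Order.height T + 1 : ℕ∞)) : WithBot ℕ∞) ≤ topologicalKrullDim X := by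
    intro T
    rw [← Groth.Agent.H9TopDim.height_map_of_isClosedEmbedding hemb T]
    set C := IrreducibleCloseds.map Subtype.val hemb.continuous T with hC
    have hgp : IsGenericPoint C.2.genericPoint (C : Set X) := C.2.isGenericPoint_genericPoint C.3
    have hmem : C.2.genericPoint ∈ Y := by
      have h1 : C.2.genericPoint ∈ (C : Set X) := hgp.mem
      rw [hC, IrreducibleCloseds.coe_map] at h1
      have h2 : closure (Subtype.val '' (T : Set ↥Y)) ⊆ Y := by
        refine closure_minimal ?_ hYc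
        rintro _ ⟨z, -, rfl⟩
        exact z.2
      exact h2 h1
    obtain ⟨η, hη, hne⟩ := exists_generization_ne X f hY _ hmem
    let C' : IrreducibleCloseds X :=
      ⟨closure {η}, isIrreducible_singleton.closure, isClosed_closure⟩
    have hlt : C < C' := by
      refine lt_of_le_of_ne ?_ ?_
      · show (C : Set X) ⊆ closure {η}
        rw [← hgp.def]
        exact closure_minimal (Set.singleton_subset_iff.mpr hη.mem_closure) isClosed_closure
      · intro he
        have h3 : IsGenericPoint η (C : Set X) := by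
          rw [he]; exact isGenericPoint_closure
        exact hne (h3.eq hgp)
    have h1 := Order.height_add_one_le hlt
    calc (((Order.height C + 1 : ℕ∞)) : WithBot ℕ∞) ≤ ((Order.height C' : ℕ∞) : WithBot ℕ∞) := by
          exact_mod_cast h1
      _ ≤ _ := Order.height_le_krullDim C'
  rw [topologicalKrullDim]
  rcases isEmpty_or_nonempty (IrreducibleCloseds ↥Y) with hE | hN
  · rw [Order.krullDim_eq_bot]
    simp
  · rw [Order.krullDim_eq_iSup_height_of_nonempty]
    have h1 : ((⨆ T : IrreducibleCloseds ↥Y, Order.height T : ℕ∞) : WithBot ℕ∞) + 1 =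
        ((⨆ T : IrreducibleCloseds ↥Y, (Order.height T + 1) : ℕ∞) : WithBot ℕ∞) := by
      rw [← WithBot.coe_one, ← WithBot.coe_add, ENat.iSup_add]
    rw [h1, WithBot.coe_iSup (OrderTop.bddAbove _)]
    exact iSup_le key

open AlgebraicGeometry CategoryTheory TopologicalSpace Groth.Agent.Lib.helper7.DimSch in
open AlgebraicGeometry CategoryTheory in
theorem part2 (k : Type u) [Field k] (X : Scheme.{u}) [X.Over (Spec (CommRingCat.of k))]
    [LocallyOfFiniteType (X ↘ Spec (CommRingCat.of k))] (f : Γ(X, ⊤))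
    (hY : interior (X.zeroLocus (U := ⊤) {f}) = ∅) (Z : Set X)
    (hZ : Z ∈ irreducibleComponents (X : Type u))
    (hne : (Z ∩ X.zeroLocus (U := ⊤) {f}).Nonempty) :
    topologicalKrullDim Z ≤ topologicalKrullDim (X.zeroLocus (U := ⊤) {f}) + 1 := by
  set Y := X.zeroLocus (U := ⊤) {f} with hYdef
  have hYc : IsClosed Y := X.zeroLocus_isClosed _
  obtain ⟨y, hyZ, hyY⟩ := hne
  have hZc : IsClosed Z := isClosed_of_mem_irreducibleComponents Z hZ
  have hZi : IsIrreducible Z := hZ.1
  obtain ⟨ξ, hξ⟩ := QuasiSober.sober hZi hZc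
  have hmax : ∀ η : X, η ⤳ ξ → η = ξ :=
    (closure_mem_irreducibleComponents_iff ξ).mp (by rw [hξ.def]; exact hZ)
  have hξY : ξ ∉ Y := fun h => by
    obtain ⟨η, h1, h2⟩ := exists_generization_ne X f hY ξ h
    exact h2 (hmax η h1)
  have hdimZ : topologicalKrullDim Z ≤ (trdegNat k X ξ : ℕ) :=
    topologicalKrullDim_le_of_forall_trdegNat_le k X Z hZc _
      (fun z hz => trdegNat_le_of_specializes k X ξ z (hξ.specializes hz))
  obtain ⟨_, ⟨U, hU, rfl⟩, hyU, -⟩ :=
    X.isBasis_affineOpens.exists_subset_of_mem_open (Set.mem_univ y) isOpen_univ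
  have hU' : IsAffineOpen U := hU
  have hξy : ξ ⤳ y := hξ.specializes hyZ
  have hξU : ξ ∈ U := hξy.mem_open U.isOpen hyU
  letI := (sectionMap k X U).toAlgebra
  haveI : Algebra.FiniteType k Γ(X, U) := sectionMap_finiteType k X hU'
  haveI : IsNoetherianRing Γ(X, U) := Algebra.FiniteType.isNoetherianRing k _
  set p₀ := hU'.primeIdealOf ⟨ξ, hξU⟩ with hp₀
  set q := hU'.primeIdealOf ⟨y, hyU⟩ with hq
  have hle : p₀ ≤ q := (primeIdealOf_le_iff hU' _ _).mpr hξy
  set fU : Γ(X, U) := X.presheaf.map (homOfLE (le_top : U ≤ ⊤)).op f with hfU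
  have hmemY : ∀ (w : X) (hw : w ∈ U),
      w ∈ Y ↔ fU ∈ (hU'.primeIdealOf ⟨w, hw⟩).asIdeal := by
    intro w hw
    rw [hYdef, Scheme.mem_zeroLocus_iff]
    constructor
    · intro h
      by_contra hcon
      have := (mem_basicOpen_iff hU' w hw fU).mpr hcon
      rw [hfU, Scheme.basicOpen_res] at this
      exact h f rfl this.2
    · intro h g hg hgb
      rw [Set.mem_singleton_iff] at hg
      subst hg
      have : w ∈ X.basicOpen fU := by
        rw [hfU, Scheme.basicOpen_res]; exact ⟨hw, hgb⟩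
      exact (mem_basicOpen_iff hU' w hw fU).mp this h
  have hfq : fU ∈ q.asIdeal := (hmemY y hyU).mp hyY
  have hfp : fU ∉ p₀.asIdeal := fun h => hξY ((hmemY ξ hξU).mpr h)
  have hq' : (q.asIdeal.map (Ideal.Quotient.mk p₀.asIdeal)).IsPrime :=
    Ideal.isPrime_map_quotientMk_of_isPrime hle
  have hspan : Ideal.span {Ideal.Quotient.mk p₀.asIdeal fU} ≤
      q.asIdeal.map (Ideal.Quotient.mk p₀.asIdeal) := by
    rw [Ideal.span_singleton_le_iff_mem]; exact Ideal.mem_map_of_mem _ hfq
  obtain ⟨P, hPmin, hPle⟩ := Ideal.exists_minimalPrimes_le hspan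
  haveI hPprime : P.IsPrime := hPmin.1.1
  have hfP : Ideal.Quotient.mk p₀.asIdeal fU ∈ P := hPmin.1.2 (Ideal.subset_span rfl)
  have hht1 : P.height ≤ 1 := Ideal.height_le_one_of_isPrincipal_of_mem_minimalPrimes _ _ hPmin
  have hne0 : P.height ≠ 0 := by
    intro h0
    rw [Ideal.height_eq_zero_iff, IsDomain.minimalPrimes_eq_singleton_bot,
      Set.mem_singleton_iff] at h0
    rw [h0, Ideal.mem_bot, Ideal.Quotient.eq_zero_iff_mem] at hfP
    exact hfp hfP
  have hht : P.height = 1 := le_antisymm hht1 (Order.one_le_iff_ne_zero.mpr hne0)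
  have hH1 := Groth.Agent.Lib.helper7.DimFT.ringKrullDim_quotient_add_one_of_height_eq_one (k := k)
    (Γ(X, U) ⧸ p₀.asIdeal) P hht
  set P' := P.comap (Ideal.Quotient.mk p₀.asIdeal) with hP'
  haveI : P'.IsPrime := Ideal.comap_isPrime _ P
  have hp₀P' : p₀.asIdeal ≤ P' := by
    conv_lhs => rw [← Ideal.mk_ker (I := p₀.asIdeal), RingHom.ker_eq_comap_bot]
    exact Ideal.comap_mono bot_le
  have hmap : P'.map (Ideal.Quotient.mk p₀.asIdeal) = P :=
    Ideal.map_comap_of_surjective _ Ideal.Quotient.mk_surjective P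
  have heq : ringKrullDim ((Γ(X, U) ⧸ p₀.asIdeal) ⧸ P) = ringKrullDim (Γ(X, U) ⧸ P') := by
    rw [← hmap]; exact ringKrullDim_eq_of_ringEquiv (DoubleQuot.quotQuotEquivQuotOfLE hp₀P')
  obtain ⟨y', hy'⟩ := exists_primeIdealOf_eq hU' ⟨P', inferInstance⟩
  have hy'Y : (y' : X) ∈ Y := by
    rw [hmemY y' y'.2]
    show fU ∈ (hU'.primeIdealOf y').asIdeal
    rw [hy']
    exact hfP
  have hd1 : ringKrullDim (Γ(X, U) ⧸ P') = (trdegNat k X y' : ℕ) := by
    have := ringKrullDim_quotient_primeIdealOf k X hU' y' y'.2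
    have h2 : hU'.primeIdealOf ⟨y', y'.2⟩ = ⟨P', inferInstance⟩ := hy'
    rwa [h2] at this
  have hd0 : ringKrullDim (Γ(X, U) ⧸ p₀.asIdeal) = (trdegNat k X ξ : ℕ) :=
    ringKrullDim_quotient_primeIdealOf k X hU' ξ hξU
  rw [heq, hd1, hd0] at hH1
  have hge := trdegNat_le_topologicalKrullDim k X Y y'
    (closure_minimal (Set.singleton_subset_iff.mpr hy'Y) hYc)
  calc topologicalKrullDim Z ≤ (trdegNat k X ξ : ℕ) := hdimZ
    _ = (trdegNat k X y' : ℕ) + 1 := hH1.symm
    _ ≤ topologicalKrullDim Y + 1 := by gcongr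

open AlgebraicGeometry CategoryTheory in
/-- For a section of the structure sheaf: let X be a scheme locally of finite type over a field k and f
a global section of O_X whose zero locus Y is nowhere dense in X. Then dim Y + 1 ≤ dim X. If
moreover some irreducible component of X has dimension equal to dim X and Y meets every such
component, then dim Y + 1 = dim X. (The published statement is for a section of an invertible sheaf;
the existence of a component of maximal dimension, implicit in the published wording, is made a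
hypothesis of the equality clause.) -/
theorem result (k : Type u) [Field k] (X : Scheme.{u}) (p : X ⟶ Spec (CommRingCat.of k))
    [LocallyOfFiniteType p] (f : Γ(X, ⊤)) (hY : interior (X.zeroLocus (U := ⊤) {f}) = ∅) :
    topologicalKrullDim (X.zeroLocus (U := ⊤) {f}) + 1 ≤ topologicalKrullDim X ∧
      ((∃ Z ∈ irreducibleComponents (X : Type u), topologicalKrullDim Z = topologicalKrullDim X) →
        (∀ Z ∈ irreducibleComponents (X : Type u), topologicalKrullDim Z = topologicalKrullDim X →
          (Z ∩ X.zeroLocus (U := ⊤) {f}).Nonempty) →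
        topologicalKrullDim (X.zeroLocus (U := ⊤) {f}) + 1 = topologicalKrullDim X) := by
  letI : X.Over (Spec (CommRingCat.of k)) := ⟨p⟩
  haveI : LocallyOfFiniteType (X ↘ Spec (CommRingCat.of k)) := ‹LocallyOfFiniteType p›
  have h1 := part1 X f hY
  refine ⟨h1, ?_⟩
  rintro ⟨Z, hZ, hdim⟩ hall
  refine le_antisymm h1 ?_
  rw [← hdim]
  exact part2 k X f hY Z hZ (hall Z hZ hdim)

end Groth.Agent.S4714
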