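import Groth.Statements.S4715
import Groth.Agent.Lib.helper26.EtDim

set_option autoImplicit false
universe u
open EGA4

namespace Groth.Agent.S4715



open AlgebraicGeometry CategoryTheory in
/-- Let f : X → Y be a quasi-finite morphism (of finite type with discrete fibres) of locally Noetherian
schemes. Then dim X is at most the dimension of the closure of f(X), which is at most dim Y. -/
theorem result {X Y : Scheme.{u}} (f : X ⟶ Y) [IsLocallyNoetherian X] [IsLocallyNoetherian Y]
    [LocallyQuasiFinite f] [LocallyOfFiniteType f] [QuasiCompact f] :
    topologicalKrullDim X ≤ topologicalKrullDim (closure (Set.range f.base)) ∧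
      topologicalKrullDim (closure (Set.range f.base)) ≤ topologicalKrullDim Y := by
  refine ⟨?_, topologicalKrullDim_subspace_le _ _⟩
  have h1 : topologicalKrullDim X = topologicalKrullDim ↥(Set.univ : Set X) :=
    (Homeomorph.Set.univ X).symm.isHomeomorph.topologicalKrullDim_eq
  haveI : QuasiSober ↥(Set.univ : Set X) :=
    Groth.Agent.Lib.helper26.DimPts.quasiSober_closed_sub _ isClosed_univ
  haveI : QuasiSober ↥(closure (Set.range f.base)) :=
    Groth.Agent.Lib.helper26.DimPts.quasiSober_closed_sub _ isClosed_closure
  rw [h1, Groth.Agent.Lib.helper26.DimPts.topologicalKrullDim_eq_krullDim_subtype,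
    Groth.Agent.Lib.helper26.DimPts.topologicalKrullDim_eq_krullDim_subtype]
  refine Groth.Agent.Lib.helper26.DimPts.krullDim_subtype_le _ _ fun p _ => ?_
  have := Groth.Agent.Lib.helper26.DimPts.length_le_krullDim_subtype (closure (Set.range f.base))
    (p.map f.base (Groth.Agent.Lib.helper26.EtDim.strictMono_of_locallyQuasiFinite f))
    (fun i => subset_closure ⟨p i, rfl⟩)
  simpa using this

end Groth.Agent.S4715
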