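import Groth.Statements.S4717
import Mathlib
import Groth.Agent.Lib.helper7.FinDim

set_option autoImplicit false
universe u
open EGA4

namespace Groth.Agent.S4717

open AlgebraicGeometry CategoryTheory in
/-- Let f : X → Y be a finite morphism of locally Noetherian schemes. Then dim X equals the dimension of
the image f(X); in particular if f is surjective then dim X = dim Y. -/
theorem result {X Y : Scheme.{u}} (f : X ⟶ Y) [IsLocallyNoetherian X] [IsLocallyNoetherian Y]
    [IsFinite f] :
    topologicalKrullDim X = topologicalKrullDim (Set.range f.base) ∧
      (Function.Surjective f.base → topologicalKrullDim X = topologicalKrullDim Y) := by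
  refine ⟨Groth.Agent.Lib.helper7.FinDim.topologicalKrullDim_eq_range_of_isFinite f, fun hs => ?_⟩
  apply le_antisymm
  · refine Groth.Agent.Lib.helper7.DimLift.topologicalKrullDim_le_of_incomparable f
      f.continuous ?_
    intro x x' h hfx
    exact Groth.Agent.Lib.helper7.FinDim.eq_of_specializes_of_isFinite f h hfx
  · exact Groth.Agent.Lib.helper7.DimLift.topologicalKrullDim_le_of_isClosedMap f hs
      f.isClosedMap

end Groth.Agent.S4717
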