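import Groth.Statements.S4722
import Mathlib

set_option autoImplicit false
universe u
open EGA4

namespace Groth.Agent.S4722aux

variable {A : Type u} [CommRing A] {M : Type u} [AddCommGroup M] [Module A M] (p : Ideal A)

/-- the one-step relation -/
def Q (N' N : Submodule A M) : Prop :=
  ∃ g : (↥N' ⧸ Submodule.comap N'.subtype N) →ₗ[A] (A ⧸ p), Function.Injective g

def Chain (N : Submodule A M) : Prop :=
  ∃ (m : ℕ) (F : Fin (m + 1) → Submodule A M), Antitone F ∧ F 0 = N ∧ F (Fin.last m) = ⊥ ∧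
    ∀ i : Fin m, Q p (F i.castSucc) (F i.succ)

lemma chain_bot : Chain p (⊥ : Submodule A M) :=
  ⟨0, fun _ => ⊥, fun _ _ _ => le_rfl, rfl, rfl, fun i => i.elim0⟩

lemma chain_cons {N N' : Submodule A M} (h : Chain p N) (hle : N ≤ N') (hQ : Q p N' N) :
    Chain p N' := by
  obtain ⟨m, F, hF, h0, hl, hq⟩ := h
  refine ⟨m + 1, Fin.cons N' F, ?_, rfl, ?_, ?_⟩
  · rw [Fin.antitone_iff_succ_le]
    intro i
    refine Fin.cases ?_ (fun j => ?_) i
    · rw [Fin.cons_succ, Fin.castSucc_zero, Fin.cons_zero, h0]; exact hle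
    · rw [Fin.cons_succ, ← Fin.succ_castSucc, Fin.cons_succ]
      exact Fin.antitone_iff_succ_le.mp hF j
  · rw [← Fin.succ_last, Fin.cons_succ]; exact hl
  · intro i
    refine Fin.cases ?_ (fun j => ?_) i
    · rw [Fin.castSucc_zero, Fin.cons_zero, Fin.cons_succ, h0]; exact hQ
    · rw [← Fin.succ_castSucc, Fin.cons_succ, Fin.cons_succ]; exact hq j

def Sat (N : Submodule A M) : Prop := ∀ s : A, s ∉ p → ∀ x : M, s • x ∈ N → x ∈ N

/-- saturation of L -/
def satur [hp : p.IsPrime] (L : Submodule A M) : Submodule A M where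
  carrier := {x | ∃ s : A, s ∉ p ∧ s • x ∈ L}
  add_mem' := by
    rintro x y ⟨s, hs, hx⟩ ⟨t, ht, hy⟩
    refine ⟨s * t, fun h => (hp.mem_or_mem h).elim hs ht, ?_⟩
    rw [smul_add]
    refine L.add_mem ?_ ?_
    · rw [mul_comm, mul_smul]; exact L.smul_mem t hx
    · rw [mul_smul]; exact L.smul_mem s hy
  zero_mem' := ⟨1, (Ideal.ne_top_iff_one p).mp hp.ne_top, by simp⟩
  smul_mem' := by
    rintro a x ⟨s, hs, hx⟩
    exact ⟨s, hs, by rw [smul_comm]; exact L.smul_mem a hx⟩

lemma exists_x0 (N : Submodule A M) (hne : N ≠ ⊤) :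
    ∀ n : ℕ, (∀ a ∈ p ^ n, ∀ x : M, a • x ∈ N) → ∃ x₀ : M, x₀ ∉ N ∧ ∀ b ∈ p, b • x₀ ∈ N := by
  intro n
  induction n with
  | zero =>
    intro h
    exfalso
    apply hne
    rw [eq_top_iff]
    intro x _
    have := h 1 (by simp) x
    simpa using this
  | succ n ih =>
    intro h
    by_cases h' : ∀ a ∈ p ^ n, ∀ x : M, a • x ∈ N
    · exact ih h'
    · push Not at h'
      obtain ⟨a, ha, x, hx⟩ := h'
      refine ⟨a • x, hx, fun b hb => ?_⟩
      rw [← mul_smul]
      refine h _ ?_ x
      rw [pow_succ, mul_comm b a]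
      exact Ideal.mul_mem_mul ha hb


lemma step [IsNoetherian A M] [hp : p.IsPrime] (n : ℕ) (hn : ∀ a ∈ p ^ n, ∀ x : M, a • x = 0)
    (N : Submodule A M) (hN : Sat p N) (hne : N ≠ ⊤) :
    ∃ N' : Submodule A M, N < N' ∧ Sat p N' ∧ Q p N' N := by
  obtain ⟨x₀, hx₀, hpx₀⟩ := exists_x0 p N hne n (fun a ha x => by rw [hn a ha x]; exact N.zero_mem)
  set L : Submodule A M := N ⊔ Submodule.span A {x₀} with hL
  have h1p : (1 : A) ∉ p := (Ideal.ne_top_iff_one p).mp hp.ne_top
  refine ⟨satur p L, ?_, ?_, ?_⟩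
  · have hle : N ≤ satur p L := by
      intro x hx
      exact ⟨1, h1p, by rw [one_smul]; exact Submodule.mem_sup_left hx⟩
    refine lt_of_le_of_ne hle ?_
    intro heq
    apply hx₀
    rw [heq]
    exact ⟨1, h1p, by rw [one_smul]; exact Submodule.mem_sup_right (Submodule.mem_span_singleton_self x₀)⟩
  · rintro t ht x ⟨s, hs, hx⟩
    refine ⟨s * t, fun h => (hp.mem_or_mem h).elim hs ht, ?_⟩
    rw [mul_smul]; exact hx
  · -- uniform denominator
    let K : A → Submodule A M := fun s => L.comap (LinearMap.lsmul A M s)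
    have hKmem : ∀ s x, x ∈ K s ↔ s • x ∈ L := fun s x => Iff.rfl
    obtain ⟨K₀, ⟨s₀, hs₀, rfl⟩, hmax⟩ := wellFounded_gt.has_min {K' | ∃ s : A, s ∉ p ∧ K s = K'}
      ⟨K 1, 1, h1p, rfl⟩
    have huni : ∀ x ∈ satur p L, s₀ • x ∈ L := by
      rintro x ⟨t, ht, hx⟩
      have hst : s₀ * t ∉ p := fun h => (hp.mem_or_mem h).elim hs₀ ht
      have hle : K s₀ ≤ K (s₀ * t) := by
        intro y hy
        rw [hKmem] at hy ⊢
        rw [mul_comm, mul_smul]; exact L.smul_mem t hy
      have heq : K (s₀ * t) = K s₀ :=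
        (eq_of_le_of_not_lt hle (hmax _ ⟨s₀ * t, hst, rfl⟩)).symm
      have : x ∈ K (s₀ * t) := by
        rw [hKmem, mul_smul]; exact L.smul_mem s₀ hx
      rw [heq] at this
      exact this
    -- the maps
    let f : ↥(satur p L) →ₗ[A] (M ⧸ N) := s₀ • (N.mkQ ∘ₗ (satur p L).subtype)
    have hfx : ∀ x : ↥(satur p L), f x = N.mkQ (s₀ • (x : M)) := by
      intro x
      simp [f]
    have hker : Submodule.comap (satur p L).subtype N ≤ LinearMap.ker f := by
      intro x hx
      rw [LinearMap.mem_ker, hfx, Submodule.mkQ_apply, Submodule.Quotient.mk_eq_zero]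
      exact N.smul_mem s₀ hx
    have hker' : LinearMap.ker f ≤ Submodule.comap (satur p L).subtype N := by
      intro x hx
      rw [LinearMap.mem_ker, hfx, Submodule.mkQ_apply, Submodule.Quotient.mk_eq_zero] at hx
      exact hN s₀ hs₀ _ hx
    let ι₀ : A →ₗ[A] M ⧸ N := LinearMap.toSpanSingleton A (M ⧸ N) (N.mkQ x₀)
    have hι₀x : ∀ a : A, ι₀ a = N.mkQ (a • x₀) := by
      intro a
      simp [ι₀, LinearMap.toSpanSingleton_apply]
    have hι₀ : p ≤ LinearMap.ker ι₀ := by
      intro a ha
      rw [LinearMap.mem_ker, hι₀x, Submodule.mkQ_apply, Submodule.Quotient.mk_eq_zero]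
      exact hpx₀ a ha
    have hι₀' : LinearMap.ker ι₀ ≤ p := by
      intro a ha
      rw [LinearMap.mem_ker, hι₀x, Submodule.mkQ_apply, Submodule.Quotient.mk_eq_zero] at ha
      by_contra hap
      exact hx₀ (hN a hap _ ha)
    let ι : (A ⧸ p) →ₗ[A] M ⧸ N := Submodule.liftQ p ι₀ hι₀
    have hιinj : Function.Injective ι := by
      rw [← LinearMap.ker_eq_bot]
      exact Submodule.ker_liftQ_eq_bot _ _ _ hι₀'
    let f' : (↥(satur p L) ⧸ Submodule.comap (satur p L).subtype N) →ₗ[A] M ⧸ N :=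
      Submodule.liftQ _ f hker
    have hf'inj : Function.Injective f' := by
      rw [← LinearMap.ker_eq_bot]
      exact Submodule.ker_liftQ_eq_bot _ _ _ hker'
    have hrange : ∀ y, f' y ∈ LinearMap.range ι := by
      intro y
      obtain ⟨x, rfl⟩ := Submodule.Quotient.mk_surjective _ y
      have hx : s₀ • (x : M) ∈ N ⊔ Submodule.span A {x₀} := huni x x.2
      rw [Submodule.mem_sup] at hx
      obtain ⟨n', hn', z, hz, hsum⟩ := hx
      rw [Submodule.mem_span_singleton] at hz
      obtain ⟨a, rfl⟩ := hz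
      refine ⟨Submodule.Quotient.mk a, ?_⟩
      change ι₀ a = f x
      rw [hι₀x, hfx, ← hsum, map_add]
      have : N.mkQ n' = 0 := by
        rw [Submodule.mkQ_apply, Submodule.Quotient.mk_eq_zero]; exact hn'
      rw [this, zero_add]
    refine ⟨(LinearEquiv.ofInjective ι hιinj).symm.toLinearMap ∘ₗ f'.codRestrict (LinearMap.range ι) hrange, ?_⟩
    rw [LinearMap.coe_comp]
    refine (LinearEquiv.injective _).comp ?_
    intro y y' hyy
    apply hf'inj
    have := congrArg Subtype.val hyy
    simpa using this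


theorem main [IsNoetherianRing A] [Module.Finite A M] (hp : associatedPrimes A M = {p}) :
    Chain p (⊤ : Submodule A M) := by
  have hpa : p ∈ associatedPrimes A M := by rw [hp]; rfl
  have hprime : p.IsPrime := IsAssociatedPrime.isPrime hpa
  have : IsNoetherian A M := isNoetherian_of_isNoetherianRing_of_finite A M
  -- zero divisors
  have hsat : Sat p (⊥ : Submodule A M) := by
    intro s hs x hx
    rw [Submodule.mem_bot] at hx ⊢
    by_contra hx0
    apply hs
    have : s ∈ ⋃ q ∈ associatedPrimes A M, (q : Set A) := by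
      rw [biUnion_associatedPrimes_eq_zero_divisors]
      exact ⟨x, hx0, hx⟩
    rw [hp] at this
    simpa using this
  -- nilpotency
  have hrad : p ≤ (Module.annihilator A M).radical := by
    rw [← Ideal.sInf_minimalPrimes]
    refine le_sInf ?_
    intro q hq
    have := Module.associatedPrimes.minimalPrimes_annihilator_subset_associatedPrimes A M hq
    rw [hp] at this
    rw [Set.mem_singleton_iff.mp this]
  obtain ⟨n, hn⟩ := Ideal.exists_radical_pow_le_of_fg (Module.annihilator A M)
    (IsNoetherian.noetherian _)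
  have hnil : ∀ a ∈ p ^ n, ∀ x : M, a • x = 0 := by
    intro a ha x
    have : a ∈ Module.annihilator A M := hn (Ideal.pow_right_mono hrad n ha)
    exact Module.mem_annihilator.mp this x
  -- well-founded induction
  have key : ∀ N : Submodule A M, Sat p N → Chain p N → Chain p (⊤ : Submodule A M) := by
    intro N
    induction N using WellFoundedGT.induction with
    | ind N ih =>
      intro hN hC
      by_cases hne : N = ⊤
      · rw [← hne]; exact hC
      · obtain ⟨N', hlt, hsat', hQ⟩ := step p n hnil N hN hne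
        exact ih N' hlt hsat' (chain_cons p hC hlt.le hQ)
  exact key ⊥ hsat (chain_bot p)

end Groth.Agent.S4722aux

namespace Groth.Agent.S4722

/-- Let A be a Noetherian ring and M a finite A-module whose set of associated primes is a single prime
p. Then M has a finite decreasing filtration by submodules M = M_0 ⊇ M_1 ⊇ ⋯ ⊇ M_m = 0 such that
each quotient M_h/M_{h+1} is isomorphic to a submodule of A/p (i.e. embeds A-linearly into A/p). -/
theorem result (A : Type u) [CommRing A] [IsNoetherianRing A]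
    (M : Type u) [AddCommGroup M] [Module A M] [Module.Finite A M] (p : Ideal A)
    (hp : associatedPrimes A M = {p}) :
    ∃ (m : ℕ) (F : Fin (m + 1) → Submodule A M), Antitone F ∧ F 0 = ⊤ ∧ F (Fin.last m) = ⊥ ∧
      ∀ i : Fin m, ∃ g : (↥(F i.castSucc) ⧸ Submodule.comap (F i.castSucc).subtype (F i.succ)) →ₗ[A] (A ⧸ p),
        Function.Injective g := by
  obtain ⟨m, F, hF, h0, hl, hq⟩ := Groth.Agent.S4722aux.main p hp
  exact ⟨m, F, hF, h0, hl, hq⟩

end Groth.Agent.S4722
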