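import Groth.Statements.S4726
import Mathlib

set_option autoImplicit false
universe u
open EGA4

namespace Groth.Agent.S4726

open TensorProduct

section helpers

open TensorProduct

lemma descend (B A : Type u) [CommRing B] [CommRing A] [Algebra B A] (M : Type u) [AddCommGroup M]
    [Module A M] (n m : ℕ) (f : (Fin n → A) →ₗ[A] M) (g : (Fin m → A) →ₗ[A] (Fin n → A))
    (hf : Function.Surjective f) (hfg : Function.Exact g f) (c' : Fin m → Fin n → B)
    (hc' : ∀ j l, algebraMap B A (c' j l) = g (Pi.single j 1) l) :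
    ∃ (Mi : Type u) (_ : AddCommGroup Mi) (_ : Module B Mi), Module.FinitePresentation B Mi ∧
      Nonempty (M ≃ₗ[A] A ⊗[B] Mi) := by
  classical
  let _ : Module B M := Module.compHom M (algebraMap B A)
  have _ : IsScalarTower B A M := IsScalarTower.of_algebraMap_smul fun _ _ => rfl
  let gB : (Fin m → B) →ₗ[B] (Fin n → B) := Fintype.linearCombination B c'
  have hgB : ∀ j, gB (Pi.single j 1) = c' j := by
    intro j; simp [gB, Fintype.linearCombination_apply_single]
  let Mi := (Fin n → B) ⧸ LinearMap.range gB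
  have hfp : Module.FinitePresentation B Mi := by
    apply Module.finitePresentation_of_surjective (LinearMap.range gB).mkQ (Submodule.mkQ_surjective _)
    rw [Submodule.ker_mkQ, LinearMap.range_eq_map]
    exact (Module.Finite.fg_top (R := B) (M := Fin m → B)).map gB
  refine ⟨Mi, inferInstance, inferInstance, hfp, ?_⟩
  let ιn : (Fin n → B) →ₗ[B] (Fin n → A) := (Algebra.linearMap B A).compLeft (Fin n)
  let ιm : (Fin m → B) →ₗ[B] (Fin m → A) := (Algebra.linearMap B A).compLeft (Fin m)
  have hι : ∀ v, ιn (gB v) = g (ιm v) := by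
    intro v
    have : ιn ∘ₗ gB = (g.restrictScalars B) ∘ₗ ιm := by
      apply (Pi.basisFun B (Fin m)).ext
      intro j
      simp only [Pi.basisFun_apply, LinearMap.comp_apply, LinearMap.restrictScalars_apply, hgB]
      funext l
      have h1 : ιm (Pi.single j 1) = Pi.single j 1 := by
        funext j'
        simp only [ιm, LinearMap.compLeft_apply, Function.comp_apply, Algebra.linearMap_apply]
        by_cases h : j' = j
        · subst h; simp
        · simp [Pi.single_eq_of_ne h]
      rw [h1]
      simp only [ιn, LinearMap.compLeft_apply, Function.comp_apply, Algebra.linearMap_apply]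
      exact hc' j l
    exact congrArg (fun φ => φ v) this
  let φB : Mi →ₗ[B] M := (LinearMap.range gB).liftQ ((f.restrictScalars B) ∘ₗ ιn) (by
    rintro _ ⟨v, rfl⟩
    simp only [LinearMap.mem_ker, LinearMap.comp_apply, LinearMap.restrictScalars_apply, hι]
    exact hfg.apply_apply_eq_zero _)
  let Φ : A ⊗[B] Mi →ₗ[A] M := LinearMap.liftBaseChange A φB
  let Ψ : (Fin n → A) →ₗ[A] A ⊗[B] Mi :=
    Fintype.linearCombination A (fun l => (1 : A) ⊗ₜ[B] (LinearMap.range gB).mkQ (Pi.single l 1))
  have hΨsingle : ∀ l, Ψ (Pi.single l 1) = (1 : A) ⊗ₜ[B] (LinearMap.range gB).mkQ (Pi.single l 1) := by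
    intro l; simp [Ψ, Fintype.linearCombination_apply_single]
  have hΦΨ : ∀ a, Φ (Ψ a) = f a := by
    intro a
    have : Φ ∘ₗ Ψ = f := by
      apply (Pi.basisFun A (Fin n)).ext
      intro l
      simp only [Pi.basisFun_apply, LinearMap.comp_apply, hΨsingle, Φ, LinearMap.liftBaseChange_tmul,
        one_smul]
      change f (ιn (Pi.single l 1)) = f (Pi.single l 1)
      congr 1
      funext l'
      simp only [ιn, LinearMap.compLeft_apply, Function.comp_apply, Algebra.linearMap_apply]
      by_cases h : l' = l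
      · subst h; simp
      · simp [Pi.single_eq_of_ne h]
    exact congrArg (fun φ => φ a) this
  have hsm : ∀ (b : B) (y : Mi), (algebraMap B A b) • ((1 : A) ⊗ₜ[B] y) = (1 : A) ⊗ₜ[B] (b • y) := by
    intro b y
    rw [TensorProduct.smul_tmul', smul_eq_mul, mul_one, ← TensorProduct.smul_tmul,
      Algebra.smul_def, mul_one]
  have hΨι : ∀ w : Fin n → B, Ψ (ιn w) = (1 : A) ⊗ₜ[B] (LinearMap.range gB).mkQ w := by
    intro w
    simp only [Ψ, Fintype.linearCombination_apply, ιn, LinearMap.compLeft_apply, Function.comp_apply,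
      Algebra.linearMap_apply]
    simp_rw [hsm, ← map_smul]
    rw [← TensorProduct.tmul_sum, ← map_sum]
    congr 2
    funext l'
    simp [Finset.sum_apply, Pi.single_apply]
  have hΨg : ∀ v, Ψ (g v) = 0 := by
    intro v
    have : Ψ ∘ₗ g = 0 := by
      apply (Pi.basisFun A (Fin m)).ext
      intro j
      simp only [Pi.basisFun_apply, LinearMap.comp_apply, LinearMap.zero_apply]
      have h1 : g (Pi.single j 1) = ιn (c' j) := by
        funext l
        simp only [ιn, LinearMap.compLeft_apply, Function.comp_apply, Algebra.linearMap_apply]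
        exact (hc' j l).symm
      rw [h1, hΨι, ← hgB]
      have : (LinearMap.range gB).mkQ (gB (Pi.single j 1)) = 0 := by
        rw [Submodule.mkQ_apply, Submodule.Quotient.mk_eq_zero]
        exact ⟨_, rfl⟩
      rw [this, TensorProduct.tmul_zero]
    exact congrArg (fun φ => φ v) this
  have hΨsurj : Function.Surjective Ψ := by
    intro z
    induction z using TensorProduct.induction_on with
    | zero => exact ⟨0, map_zero _⟩
    | tmul a q =>
      obtain ⟨w, rfl⟩ := Submodule.mkQ_surjective _ q
      refine ⟨a • ιn w, ?_⟩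
      rw [map_smul, hΨι, TensorProduct.smul_tmul', smul_eq_mul, mul_one]
    | add x y hx hy =>
      obtain ⟨a, rfl⟩ := hx
      obtain ⟨b, rfl⟩ := hy
      exact ⟨a + b, map_add _ _ _⟩
  have hΦbij : Function.Bijective Φ := by
    constructor
    · rw [injective_iff_map_eq_zero]
      intro z hz
      obtain ⟨a, rfl⟩ := hΨsurj z
      rw [hΦΨ] at hz
      obtain ⟨v, rfl⟩ := (hfg a).mp hz
      exact hΨg v
    · intro y
      obtain ⟨a, rfl⟩ := hf y
      exact ⟨Ψ a, hΦΨ a⟩
  exact ⟨(LinearEquiv.ofBijective Φ hΦbij).symm⟩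


end helpers

open TensorProduct in
/-- Let (A_i) be a directed system of commutative rings with direct limit A and M a finitely presented
A-module. Then there exist an index i and a finitely presented A_i-module M_i such that M is
isomorphic, as an A-module, to A ⊗_{A_i} M_i (A being an A_i-algebra through the canonical map). -/
theorem result (ι : Type u) [Preorder ι] [Nonempty ι] [IsDirectedOrder ι]
    (G : ι → Type u) [∀ i, CommRing (G i)] (f : ∀ i j, i ≤ j → G i →+* G j)
    [DirectedSystem G (fun i j h ↦ f i j h)] (M : Type u) [AddCommGroup M]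
    [Module (Ring.DirectLimit G (fun i j h ↦ f i j h)) M]
    [Module.FinitePresentation (Ring.DirectLimit G (fun i j h ↦ f i j h)) M] :
    ∃ (i : ι) (Mi : Type u) (_ : AddCommGroup Mi) (_ : Module (G i) Mi), Module.FinitePresentation (G i) Mi ∧
      letI : Algebra (G i) (Ring.DirectLimit G (fun i j h ↦ f i j h)) :=
        (Ring.DirectLimit.of G (fun i j h ↦ f i j h) i).toAlgebra
      Nonempty (M ≃ₗ[Ring.DirectLimit G (fun i j h ↦ f i j h)] (Ring.DirectLimit G (fun i j h ↦ f i j h)) ⊗[G i] Mi) := by
  classical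
  obtain ⟨n, m, φ, g, hφ, hex⟩ :=
    Module.FinitePresentation.exists_fin' (Ring.DirectLimit G (fun i j h ↦ f i j h)) M
  have h1 : ∀ p : Fin m × Fin n, ∃ i x,
      Ring.DirectLimit.of G (fun i j h ↦ f i j h) i x = g (Pi.single p.1 1) p.2 :=
    fun p => Ring.DirectLimit.exists_of _
  choose idx xs hxs using h1
  obtain ⟨i, hi⟩ := Finite.exists_le idx
  let c' : Fin m → Fin n → G i := fun j l => f (idx (j, l)) i (hi (j, l)) (xs (j, l))
  let _ : Algebra (G i) (Ring.DirectLimit G (fun i j h ↦ f i j h)) :=
    (Ring.DirectLimit.of G (fun i j h ↦ f i j h) i).toAlgebra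
  obtain ⟨Mi, i1, i2, hfp, he⟩ := descend (G i) (Ring.DirectLimit G (fun i j h ↦ f i j h)) M n m φ g
    hφ hex c' (by
      intro j l
      change Ring.DirectLimit.of G (fun i j h ↦ f i j h) i (f _ i _ (xs (j, l))) = _
      rw [Ring.DirectLimit.of_f]; exact hxs (j, l))
  exact ⟨i, Mi, i1, i2, hfp, he⟩

end Groth.Agent.S4726
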