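import Groth.Statements.S4728
import Groth.Agent.Lib.helper17.FlatNormal

set_option autoImplicit false
universe u
open EGA4

namespace Groth.Agent.S4728

/-- Let A be a Noetherian local domain of dimension 1 with maximal ideal m, A' a Noetherian local ring
and A → A' a local homomorphism which is normal (flat, with geometrically normal fibres). Then the
ideal m A' of A' is prime and the local ring of A' at m A' has dimension 1. (The remaining clauses
of the published item, describing A' inside its total ring of fractions, are not restated.) -/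
theorem result (A A' : Type u) [CommRing A] [CommRing A']
    [IsNoetherianRing A] [IsNoetherianRing A'] [IsLocalRing A] [IsLocalRing A'] [IsDomain A]
    (hA : ringKrullDim A = 1) [Algebra A A'] [IsLocalHom (algebraMap A A')] (h : EGA4.IsNormalHom A A') :
    ((IsLocalRing.maximalIdeal A).map (algebraMap A A')).IsPrime ∧
      ((IsLocalRing.maximalIdeal A).map (algebraMap A A')).height = 1 := by
  obtain ⟨hflat, hgn⟩ := h
  haveI := hflat
  have hfib : ∀ (p : Ideal A) [p.IsPrime], EGA4.IsNormalRing (p.Fiber A') := fun p _ =>
    Groth.Agent.Lib.helper17.FlatNormal.isNormalRing_of_isGeomNormal _ _ (hgn p)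
  obtain ⟨hdom, -⟩ := Groth.Agent.Lib.helper17.FlatNormal.fibLocRing_normal hfib
    (IsLocalRing.maximalIdeal A')
  have hcomap : (IsLocalRing.maximalIdeal A').comap (algebraMap A A') = IsLocalRing.maximalIdeal A :=
    ((IsLocalRing.local_hom_TFAE (algebraMap A A')).out 0 4).1 ‹IsLocalHom (algebraMap A A')›
  have hunits : (IsLocalRing.maximalIdeal A').primeCompl ≤ IsUnit.submonoid A' := by
    intro x hx
    have : x ∉ IsLocalRing.maximalIdeal A' := hx
    rw [IsLocalRing.mem_maximalIdeal, mem_nonunits_iff, not_not] at this
    exact this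
  let e : A' ≃ₐ[A'] Localization.AtPrime (IsLocalRing.maximalIdeal A') :=
    IsLocalization.atUnits A' (IsLocalRing.maximalIdeal A').primeCompl hunits
  have hI : ((IsLocalRing.maximalIdeal A').comap (algebraMap A A')).map
      (algebraMap A (Localization.AtPrime (IsLocalRing.maximalIdeal A'))) =
      ((IsLocalRing.maximalIdeal A).map (algebraMap A A')).map
        ((e.toRingEquiv : A' ≃+* Localization.AtPrime (IsLocalRing.maximalIdeal A')) :
          A' →+* Localization.AtPrime (IsLocalRing.maximalIdeal A')) := by
    rw [hcomap, Ideal.map_map]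
    congr 1
  let φ : (A' ⧸ (IsLocalRing.maximalIdeal A).map (algebraMap A A')) ≃+*
      EGA4.FibLocRing A A' (IsLocalRing.maximalIdeal A') :=
    Ideal.quotientEquiv _ _ e.toRingEquiv hI
  haveI : IsDomain (A' ⧸ (IsLocalRing.maximalIdeal A).map (algebraMap A A')) :=
    φ.toMulEquiv.isDomain _
  have hprime : ((IsLocalRing.maximalIdeal A).map (algebraMap A A')).IsPrime :=
    (Ideal.Quotient.isDomain_iff_prime _).1 inferInstance
  refine ⟨hprime, ?_⟩
  haveI := hprime
  haveI : ((IsLocalRing.maximalIdeal A).map (algebraMap A A')).LiesOver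
      (IsLocalRing.maximalIdeal A) := ⟨by
    rw [Ideal.under_def]
    exact (IsLocalRing.maximalIdeal.isMaximal A).eq_of_le
      (Ideal.comap_ne_top _ hprime.ne_top) Ideal.le_comap_map⟩
  have hh := Ideal.height_eq_height_add_of_liesOver_of_hasGoingDown (IsLocalRing.maximalIdeal A)
    ((IsLocalRing.maximalIdeal A).map (algebraMap A A'))
  have h0 : (((IsLocalRing.maximalIdeal A).map (algebraMap A A')).map
      (Ideal.Quotient.mk ((IsLocalRing.maximalIdeal A).map (algebraMap A A')))).height = 0 := by
    rw [Ideal.map_quotient_self]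
    exact Ideal.height_bot
  rw [h0, add_zero] at hh
  rw [hh]
  have h1 := IsLocalRing.maximalIdeal_height_eq_ringKrullDim (R := A)
  rw [hA] at h1
  exact_mod_cast h1

end Groth.Agent.S4728
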