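import Groth.Statements.S4729
import Mathlib

set_option autoImplicit false
universe u
open EGA4

namespace Groth.Agent.S4729


theorem mem_support_localizedModule_iff {A : Type u} [CommRing A] (S : Submonoid A)
    (M : Type u) [AddCommGroup M] [Module A M] (P' : PrimeSpectrum (Localization S)) :
    P' ∈ Module.support (Localization S) (LocalizedModule S M) ↔
      PrimeSpectrum.comap (algebraMap A (Localization S)) P' ∈ Module.support A M := by
  rw [Module.mem_support_iff', Module.mem_support_iff']
  constructor
  · rintro ⟨x, hx⟩
    revert hx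
    induction x using LocalizedModule.induction_on with
    | _ m s =>
      intro hx
      refine ⟨m, fun r hr h0 => ?_⟩
      apply hx (algebraMap A (Localization S) r) hr
      rw [algebraMap_smul, LocalizedModule.smul'_mk, h0, LocalizedModule.zero_mk]
  · rintro ⟨m, hm⟩
    refine ⟨LocalizedModule.mk m 1, fun r' hr' h0 => ?_⟩
    obtain ⟨a, s, rfl⟩ := IsLocalization.exists_mk'_eq S r'
    rw [← Localization.mk_eq_mk'_apply, LocalizedModule.mk_smul_mk,
      ← LocalizedModule.zero_mk (s * 1), LocalizedModule.mk_eq]
      at h0
    obtain ⟨u, hu⟩ := h0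
    have ha : a ∉ (PrimeSpectrum.comap (algebraMap A (Localization S)) P').asIdeal := by
      intro ha
      exact hr' (IsLocalization.mk'_mem_iff.mpr ha)
    have hS : ∀ t : S, (t : A) ∉ (PrimeSpectrum.comap (algebraMap A (Localization S)) P').asIdeal := by
      intro t ht
      exact P'.isPrime.ne_top (Ideal.eq_top_of_isUnit_mem _ ht (IsLocalization.map_units _ t))
    have hprime := (PrimeSpectrum.comap (algebraMap A (Localization S)) P').isPrime
    have h1 : ((u : A) * (((s * 1 : S) : A) * a)) ∉
        (PrimeSpectrum.comap (algebraMap A (Localization S)) P').asIdeal := by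
      intro h
      rcases hprime.mem_or_mem h with h | h
      · exact hS u h
      · rcases hprime.mem_or_mem h with h | h
        · exact hS _ h
        · exact ha h
    apply hm _ h1
    rw [mul_smul, mul_smul]
    simpa [Submonoid.smul_def] using hu

/-- Let A be a commutative ring, M a finite A-module and p ⊆ q prime ideals of A (so that p is a
generization of q). Then the dimension of the A_p-module M_p is at most the dimension of the
A_q-module M_q. -/
theorem result (A : Type u) [CommRing A] (M : Type u) [AddCommGroup M] [Module A M]
    [Module.Finite A M] (p q : Ideal A) [p.IsPrime] [q.IsPrime] (hpq : p ≤ q) :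
    Module.supportDim (Localization.AtPrime p) (LocalizedModule p.primeCompl M) ≤
      Module.supportDim (Localization.AtPrime q) (LocalizedModule q.primeCompl M) := by
  classical
  unfold Module.supportDim
  set ip := algebraMap A (Localization.AtPrime p) with hip
  set iq := algebraMap A (Localization.AtPrime q) with hiq
  have hdisj : ∀ P' : PrimeSpectrum (Localization.AtPrime p),
      Disjoint (q.primeCompl : Set A) ((PrimeSpectrum.comap ip P').asIdeal : Set A) := by
    intro P'
    have h1 := ((IsLocalization.isPrime_iff_isPrime_disjoint p.primeCompl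
      (Localization.AtPrime p) P'.asIdeal).1 P'.isPrime).2
    refine Disjoint.mono_left ?_ h1
    intro x hx hxp
    exact hx (hpq hxp)
  let g : PrimeSpectrum (Localization.AtPrime p) → PrimeSpectrum (Localization.AtPrime q) :=
    fun P' => ⟨Ideal.map iq (PrimeSpectrum.comap ip P').asIdeal,
      IsLocalization.isPrime_of_isPrime_disjoint q.primeCompl _ _
        (PrimeSpectrum.comap ip P').isPrime (hdisj P')⟩
  have hg : ∀ P', (PrimeSpectrum.comap iq (g P')).asIdeal = (PrimeSpectrum.comap ip P').asIdeal := by
    intro P'
    exact IsLocalization.under_map_of_isPrime_disjoint q.primeCompl _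
      (PrimeSpectrum.comap ip P').isPrime (hdisj P')
  have hgmem : ∀ P', P' ∈ Module.support (Localization.AtPrime p) (LocalizedModule p.primeCompl M) →
      g P' ∈ Module.support (Localization.AtPrime q) (LocalizedModule q.primeCompl M) := by
    intro P' hP'
    have h1 := (mem_support_localizedModule_iff p.primeCompl M P').1 hP'
    refine (mem_support_localizedModule_iff q.primeCompl M (g P')).2 ?_
    have : PrimeSpectrum.comap iq (g P') = PrimeSpectrum.comap ip P' := PrimeSpectrum.ext (hg P')
    rw [this]
    exact h1
  refine Order.krullDim_le_of_strictMono (fun P' => ⟨g P'.1, hgmem P'.1 P'.2⟩) ?_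
  intro P₁ P₂ h
  have hle : P₁.1.asIdeal ≤ P₂.1.asIdeal := h.le
  have hnle : ¬ P₂.1.asIdeal ≤ P₁.1.asIdeal := fun h' => h.not_ge h'
  have hm : ∀ P' : PrimeSpectrum (Localization.AtPrime p),
      Ideal.map ip (PrimeSpectrum.comap ip P').asIdeal = P'.asIdeal := fun P' =>
    IsLocalization.map_under p.primeCompl _ P'.asIdeal
  rw [lt_iff_le_not_ge]
  constructor
  · show Ideal.map iq _ ≤ Ideal.map iq _
    exact Ideal.map_mono (Ideal.comap_mono hle)
  · intro h'
    have h'' : (g P₂.1).asIdeal ≤ (g P₁.1).asIdeal := h'
    have h3 : (PrimeSpectrum.comap iq (g P₂.1)).asIdeal ≤ (PrimeSpectrum.comap iq (g P₁.1)).asIdeal :=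
      Ideal.comap_mono h''
    rw [hg, hg] at h3
    apply hnle
    rw [← hm P₁.1, ← hm P₂.1]
    exact Ideal.map_mono h3

end Groth.Agent.S4729
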