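import Groth.Statements.S4730
import Mathlib
import Groth.Agent.Lib.helper7.PolyHt

set_option autoImplicit false
universe u
open EGA4

namespace Groth.Agent.S4730

open Polynomial in
/-- Let A be a Noetherian ring, p a prime ideal of A and q a prime ideal of the polynomial ring A[T]
lying over p. Then ht(p) + 1 = ht(q) + deg.tr_{κ(p)} κ(q), the transcendence degree being that of
the domain A[T]/q over the domain A/p. -/
theorem result (A : Type u) [CommRing A] [IsNoetherianRing A]
    (p : Ideal A) [p.IsPrime] (q : Ideal A[X]) [q.IsPrime] [q.LiesOver p] :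
    (p.height : Cardinal.{u}) + 1 = (q.height : Cardinal.{u}) + Algebra.trdeg (A ⧸ p) (A[X] ⧸ q) := by
  by_cases hq : q = p.map (Polynomial.C : A →+* A[X])
  · subst hq
    rw [Groth.Agent.Lib.helper7.PolyHt.height_map_C A p]
    congr 1
    let e0 := Ideal.polynomialQuotientEquivQuotientPolynomial p
    let e : (A ⧸ p)[X] ≃ₐ[A ⧸ p] (A[X] ⧸ p.map (Polynomial.C : A →+* A[X])) :=
      AlgEquiv.ofRingEquiv (f := e0) (by
        intro x
        obtain ⟨a, rfl⟩ := Ideal.Quotient.mk_surjective x
        rw [Polynomial.algebraMap_apply, Algebra.algebraMap_self_apply,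
          Ideal.Quotient.algebraMap_mk_of_liesOver]
        have := Ideal.polynomialQuotientEquivQuotientPolynomial_map_mk p (Polynomial.C a)
        rw [Polynomial.map_C] at this
        rw [Polynomial.algebraMap_apply, Algebra.algebraMap_self_apply]
        exact this)
    rw [← e.trdeg_eq, Polynomial.trdeg_of_isDomain]
  · rw [Groth.Agent.Lib.helper7.PolyHt.height_eq_add_one A p q hq]
    have hle : p.map (Polynomial.C : A →+* A[X]) ≤ q := by
      rw [Ideal.map_le_iff_le_comap]
      intro a ha
      have := Ideal.LiesOver.over (P := q) (p := p)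
      rw [this] at ha
      simpa [Ideal.under_def, Polynomial.algebraMap_eq] using ha
    have hkey : ∀ f : A[X], Polynomial.aeval (Ideal.Quotient.mk q Polynomial.X)
        (f.map (Ideal.Quotient.mk p)) = Ideal.Quotient.mk q f := by
      intro f
      rw [Polynomial.aeval_def, Polynomial.eval₂_map]
      have h1 : (algebraMap (A ⧸ p) (A[X] ⧸ q)).comp (Ideal.Quotient.mk p) =
          (Ideal.Quotient.mk q).comp (Polynomial.C : A →+* A[X]) := by
        ext a
        rfl
      rw [h1, ← Polynomial.hom_eval₂, Polynomial.eval₂_C_X]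
    have hx : IsAlgebraic (A ⧸ p) (Ideal.Quotient.mk q (Polynomial.X : A[X])) := by
      obtain ⟨f, hfq, hfp⟩ : ∃ f ∈ q, f ∉ p.map (Polynomial.C : A →+* A[X]) := by
        by_contra hcon
        push Not at hcon
        exact hq (le_antisymm hcon hle)
      refine ⟨f.map (Ideal.Quotient.mk p), ?_, ?_⟩
      · intro h0
        apply hfp
        rw [Ideal.mem_map_C_iff]
        intro n
        have := congrArg (fun g => Polynomial.coeff g n) h0
        simp only [Polynomial.coeff_map, Polynomial.coeff_zero] at this
        exact Ideal.Quotient.eq_zero_iff_mem.mp this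
      · rw [hkey]
        exact Ideal.Quotient.eq_zero_iff_mem.mpr hfq
    have halg : Algebra.IsAlgebraic (A ⧸ p) (A[X] ⧸ q) := by
      refine ⟨fun b => ?_⟩
      obtain ⟨f, rfl⟩ := Ideal.Quotient.mk_surjective b
      rw [← hkey]
      exact (Algebra.isAlgebraic_adjoin_singleton_iff.mpr hx) _
        (Polynomial.aeval_mem_adjoin_singleton _ _)
    rw [_root_.trdeg_eq_zero, add_zero]
    simp

end Groth.Agent.S4730
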