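import Groth.Statements.S4731
import Mathlib

set_option autoImplicit false
universe u
open EGA4

namespace Groth.Agent.S4731


theorem isNoetherian_of_torsion_of_finite {S : Type u} [CommRing S] (c : Ideal S)
    [IsNoetherianRing (S ⧸ c)]
    (T : Type u) [AddCommGroup T] [Module S T] [Module.Finite S T]
    (hT : ∀ (x : T) (s : S), s ∈ c → s • x = 0) : IsNoetherian S T := by
  have htors : Module.IsTorsionBySet S T c := fun x s => hT x s.1 s.2
  letI : Module (S ⧸ c) T := htors.module
  haveI : IsScalarTower S (S ⧸ c) T := htors.isScalarTower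
  haveI : Module.Finite (S ⧸ c) T := Module.Finite.of_restrictScalars_finite S (S ⧸ c) T
  haveI : IsNoetherian (S ⧸ c) T := inferInstance
  refine ⟨fun N => ?_⟩
  let N' : Submodule (S ⧸ c) T :=
    { carrier := N
      add_mem' := N.add_mem
      zero_mem' := N.zero_mem
      smul_mem' := by
        intro a x hx
        obtain ⟨s, rfl⟩ := Ideal.Quotient.mk_surjective a
        have : (Ideal.Quotient.mk c s) • x = s • x := htors.mk_smul s x
        rw [this]; exact N.smul_mem s hx }
  obtain ⟨F, hF⟩ := (IsNoetherian.noetherian N')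
  refine ⟨F, ?_⟩
  have h1 := Submodule.restrictScalars_span S (S ⧸ c) Ideal.Quotient.mk_surjective (F : Set T)
  rw [← h1, hF]
  rfl

theorem fg_of_le_conductor (S R : Type u) [CommRing S] [CommRing R] [Algebra S R]
    [FaithfulSMul S R] [IsNoetherianRing R] [Module.Finite S R] (c : Ideal S)
    (hc : ∀ s : S, s ∈ c ↔ ∀ r : R, ∃ s' : S, algebraMap S R s' = algebraMap S R s * r)
    [IsNoetherianRing (S ⧸ c)] (a : Ideal S) (ha : a ≤ c) : a.FG := by
  classical
  set φ := algebraMap S R with hφ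
  have hinj : Function.Injective φ := FaithfulSMul.algebraMap_injective S R
  -- Fact 0
  have h0 : ∀ s ∈ c, ∀ r : R, ∃ s' ∈ c, φ s' = φ s * r := by
    intro s hs r
    obtain ⟨s', hs'⟩ := (hc s).1 hs r
    refine ⟨s', (hc s').2 fun r' => ?_, hs'⟩
    obtain ⟨s'', hs''⟩ := (hc s).1 hs (r * r')
    exact ⟨s'', by rw [hs'', hs', mul_assoc]⟩
  set b : Ideal R := Ideal.map φ a with hb
  set cR : Ideal R := Ideal.map φ c with hcR
  -- elements of cR come from c
  have h1a : ∀ x ∈ cR, ∃ s ∈ c, φ s = x := by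
    intro x hx
    refine Submodule.span_induction (p := fun x _ => ∃ s ∈ c, φ s = x) ?_ ?_ ?_ ?_ hx
    · rintro _ ⟨s, hs, rfl⟩; exact ⟨s, hs, rfl⟩
    · exact ⟨0, c.zero_mem, map_zero φ⟩
    · rintro x y _ _ ⟨s, hs, rfl⟩ ⟨t, ht, rfl⟩
      exact ⟨s + t, c.add_mem hs ht, map_add φ s t⟩
    · rintro r x _ ⟨s, hs, rfl⟩
      obtain ⟨s', hs', e⟩ := h0 s hs r
      exact ⟨s', hs', by rw [e, smul_eq_mul, mul_comm]⟩
  have h1b : ∀ y ∈ b, ∀ s ∈ c, ∃ t ∈ a, φ t = φ s * y := by
    intro y hy
    refine Submodule.span_induction (p := fun y _ => ∀ s ∈ c, ∃ t ∈ a, φ t = φ s * y)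
      ?_ ?_ ?_ ?_ hy
    · rintro _ ⟨u, hu, rfl⟩ s hs
      exact ⟨s * u, a.mul_mem_left s hu, map_mul φ s u⟩
    · intro s hs; exact ⟨0, a.zero_mem, by simp⟩
    · intro x y _ _ hx hy s hs
      obtain ⟨t, ht, e⟩ := hx s hs
      obtain ⟨t', ht', e'⟩ := hy s hs
      exact ⟨t + t', a.add_mem ht ht', by rw [map_add, e, e', mul_add]⟩
    · intro r x _ hx s hs
      obtain ⟨s', hs', e⟩ := h0 s hs r
      obtain ⟨t, ht, e'⟩ := hx s' hs'
      exact ⟨t, ht, by rw [e', e, smul_eq_mul, mul_assoc]⟩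
  have h1 : ∀ x ∈ cR * b, ∃ t ∈ a, φ t = x := by
    intro x hx
    refine Submodule.mul_induction_on hx ?_ ?_
    · intro m hm n hn
      obtain ⟨s, hs, rfl⟩ := h1a m hm
      exact h1b n hn s hs
    · rintro x y ⟨t, ht, rfl⟩ ⟨t', ht', rfl⟩
      exact ⟨t + t', a.add_mem ht ht', map_add φ t t'⟩
  -- S-submodules of R
  let ℓ : S →ₗ[S] R := Algebra.linearMap S R
  have hℓ : ∀ s, ℓ s = φ s := fun s => rfl
  let P : Submodule S R := b.restrictScalars S
  let L : Submodule S R := (cR * b).restrictScalars S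
  let A : Submodule S R := Submodule.map ℓ a
  have hLA : L ≤ A := by
    intro x hx
    obtain ⟨t, ht, e⟩ := h1 x hx
    exact ⟨t, ht, e⟩
  have hAP : A ≤ P := by
    rintro _ ⟨t, ht, rfl⟩
    exact Ideal.mem_map_of_mem φ ht
  have hfgR : ∀ J : Ideal R, (J.restrictScalars S).FG := by
    intro J
    haveI : Module.Finite R J := Module.IsNoetherian.finite R J
    haveI : Module.Finite S J := Module.Finite.trans R J
    have e : (J.restrictScalars S) ≃ₗ[S] J :=
      (Submodule.restrictScalarsEquiv S R R J).restrictScalars S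
    haveI : Module.Finite S (J.restrictScalars S) := Module.Finite.equiv e.symm
    exact Module.Finite.iff_fg.mp this
  have hPfg : P.FG := hfgR b
  have hLfg : L.FG := hfgR (cR * b)
  -- the quotient
  let T : Submodule S (R ⧸ L) := P.map L.mkQ
  haveI : Module.Finite S T := Module.Finite.iff_fg.mpr (hPfg.map _)
  have hTtors : ∀ (x : T) (s : S), s ∈ c → s • x = 0 := by
    rintro ⟨_, p, hp, rfl⟩ s hs
    apply Subtype.ext
    show s • L.mkQ p = 0
    rw [← map_smul, Submodule.mkQ_apply, Submodule.Quotient.mk_eq_zero]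
    show s • p ∈ cR * b
    rw [Algebra.smul_def]
    exact Ideal.mul_mem_mul (Ideal.mem_map_of_mem φ hs) hp
  haveI : IsNoetherian S T := isNoetherian_of_torsion_of_finite c T hTtors
  have hAmap : (A.map L.mkQ).FG :=
    isNoetherian_submodule.mp ‹IsNoetherian S T› _ (Submodule.map_mono hAP)
  have hAfg : A.FG := by
    refine Submodule.fg_of_fg_map_of_fg_inf_ker L.mkQ hAmap ?_
    rw [Submodule.ker_mkQ, inf_eq_right.mpr hLA]
    exact hLfg
  exact Submodule.fg_of_fg_map_injective ℓ hinj hAfg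

/-- Let S → R be an injective homomorphism of commutative rings making R a finite S-module, with R
Noetherian; let c be the conductor of S in R, the ideal of those s in S with s R contained in (the
image of) S. If S/c is Noetherian, then every increasing sequence of ideals of S contained in c is
eventually constant. -/
theorem result (S R : Type u) [CommRing S] [CommRing R] [Algebra S R]
    [FaithfulSMul S R] [IsNoetherianRing R] [Module.Finite S R] (c : Ideal S)
    (hc : ∀ s : S, s ∈ c ↔ ∀ r : R, ∃ s' : S, algebraMap S R s' = algebraMap S R s * r)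
    [IsNoetherianRing (S ⧸ c)] (a : ℕ →o Ideal S) (ha : ∀ n, a n ≤ c) :
    ∃ N : ℕ, ∀ n, N ≤ n → a n = a N := by
  have hfg : (⨆ n, a n : Ideal S).FG :=
    fg_of_le_conductor S R c hc _ (iSup_le ha)
  obtain ⟨N, hN⟩ := Submodule.FG.stabilizes_of_iSup_eq hfg a rfl
  refine ⟨N, fun n hn => le_antisymm ?_ (a.monotone hn)⟩
  rw [← hN]
  exact le_iSup (fun n => a n) n

end Groth.Agent.S4731
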