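import Groth.Statements.S4732
import Mathlib

set_option autoImplicit false
universe u
open EGA4

namespace Groth.Agent.S4732

section Helpers

open AlgebraicGeometry CategoryTheory Limits TopologicalSpace

lemma regular_stalk (R : Type u) [CommRing R] [IsRegularRing R] (y : PrimeSpectrum R) :
    IsRegularLocalRing ((Spec.structureSheaf R).presheaf.stalk y) := by
  have e := IsLocalization.algEquiv y.asIdeal.primeCompl (Localization.AtPrime y.asIdeal)
    ((Spec.structureSheaf R).presheaf.stalk y)
  have : IsRegularLocalRing (Localization.AtPrime y.asIdeal) :=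
    IsRegularRing.isRegularLocalRing_localization y.asIdeal
  exact IsRegularLocalRing.of_ringEquiv e.toRingEquiv

theorem main4732 (k : Type u) [Field k] {X : Scheme.{u}}
    (f : X ⟶ Spec (CommRingCat.of k)) [LocallyOfFiniteType f] (x : X) :
    ∃ (U : X.Opens) (_ : x ∈ U) (Y : Scheme.{u}) (g : Y ⟶ Spec (CommRingCat.of k))
      (i : (U : Scheme.{u}) ⟶ Y),
      IsImmersion i ∧ i ≫ g = U.ι ≫ f ∧ ∀ y : Y, IsRegularLocalRing (Y.presheaf.stalk y) := by
  obtain ⟨U, hU, hxU, -⟩ := exists_isAffineOpen_mem_and_subset (x := x) (U := ⊤) trivial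
  haveI : IsAffine U.toScheme := hU
  have key : ∃ (B : CommRingCat.{u}) (e : U.toScheme ≅ Spec B) (ψ : CommRingCat.of k ⟶ B),
      ψ.hom.FiniteType ∧ e.hom ≫ Spec.map ψ = U.ι ≫ f := by
    have hft : LocallyOfFiniteType (U.ι ≫ f) := inferInstance
    have h1 : RingHom.FiniteType (U.ι ≫ f).appTop.hom :=
      (HasRingHomProperty.iff_of_isAffine (P := @LocallyOfFiniteType)).mp hft
    refine ⟨Γ(U.toScheme, ⊤), U.toScheme.isoSpec,
      (Scheme.ΓSpecIso (CommRingCat.of k)).inv ≫ (U.ι ≫ f).appTop, ?_, ?_⟩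
    · exact h1.comp (RingHom.FiniteType.of_surjective _
        (Scheme.ΓSpecIso (CommRingCat.of k)).commRingCatIsoToRingEquiv.symm.surjective)
    · rw [Spec.map_comp, Scheme.isoSpec_hom,
        ← Scheme.toSpecΓ_naturality_assoc, toSpecΓ_SpecMap_ΓSpecIso_inv, Category.comp_id]
  obtain ⟨B, e, ψ, h2, e2⟩ := key
  letI : Algebra k B := ψ.hom.toAlgebra
  have h3 : Algebra.FiniteType k B := h2
  obtain ⟨n, φ, hφ⟩ := Algebra.FiniteType.iff_quotient_mvPolynomial''.mp h3
  have hφC : CommRingCat.ofHom (MvPolynomial.C (σ := Fin n) (R := k)) ≫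
      CommRingCat.ofHom φ.toRingHom = ψ := by
    ext a
    exact φ.commutes a
  haveI : IsClosedImmersion (Spec.map (CommRingCat.ofHom φ.toRingHom)) :=
    IsClosedImmersion.spec_of_surjective _ hφ
  refine ⟨U, hxU, Spec (CommRingCat.of (MvPolynomial (Fin n) k)),
    Spec.map (CommRingCat.ofHom (MvPolynomial.C (σ := Fin n) (R := k))),
    e.hom ≫ Spec.map (CommRingCat.ofHom φ.toRingHom), inferInstance, ?_, ?_⟩
  · rw [Category.assoc, ← Spec.map_comp, hφC, e2]
  · intro y
    exact regular_stalk (MvPolynomial (Fin n) k) y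

end Helpers


open AlgebraicGeometry CategoryTheory in
/-- Let k be a field, X a scheme locally of finite type over k and x a point of X. Then there are an
open neighbourhood U of x, a k-scheme Y all of whose local rings are regular, and an immersion U → Y
compatible with the structure morphisms to Spec k. -/
theorem result (k : Type u) [Field k] {X : Scheme.{u}}
    (f : X ⟶ Spec (CommRingCat.of k)) [LocallyOfFiniteType f] (x : X) :
    ∃ (U : X.Opens) (_ : x ∈ U) (Y : Scheme.{u}) (g : Y ⟶ Spec (CommRingCat.of k)) (i : (U : Scheme.{u}) ⟶ Y),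
      IsImmersion i ∧ i ≫ g = U.ι ≫ f ∧ ∀ y : Y, IsRegularLocalRing (Y.presheaf.stalk y) := by
  exact main4732 k f x

end Groth.Agent.S4732
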