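import Groth.Statements.S4742
import Groth.Agent.S2660
import Groth.Agent.Lib.helper9.Equidim
import Groth.Agent.Lib.helper9.Hull

set_option autoImplicit false
universe u
open EGA4

namespace Groth.Agent.S4742

open Groth.Agent.Lib.helper9.Depth Groth.Agent.Lib.helper9.Equidim in
/-- key step: for `t ∉ p`, a prime `p'` minimal over `p + tA` has `ht(p'/tA) ≤ ht p`. -/
lemma key (A : Type u) [CommRing A] [IsNoetherianRing A] [IsLocalRing A]
    (hA : EGA4.IsEquidim A) (hA' : CAlg.IsCatenary A) (t : A)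
    (ht : ringKrullDim (A ⧸ Ideal.span {t}) + 1 = ringKrullDim A)
    (P Q : Ideal A) [hP : P.IsPrime] [hQ : Q.IsPrime] (htP : t ∉ P)
    (hQmin : Q ∈ (P ⊔ Ideal.span {t}).minimalPrimes) :
    (Q.map (Ideal.Quotient.mk (Ideal.span {t}))).height ≤ P.height := by
  set I : Ideal A := Ideal.span {t} with hI
  have htQ : I ≤ Q := le_sup_right.trans hQmin.1.2
  have hsurj : Function.Surjective (Ideal.Quotient.mk I) := Ideal.Quotient.mk_surjective
  haveI hQbar : (Q.map (Ideal.Quotient.mk I)).IsPrime :=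
    Ideal.map_isPrime_of_surjective hsurj (by rw [Ideal.mk_ker]; exact htQ)
  have hcov := Groth.Agent.S2660.covBy_of_mem_minimalPrimes htP hQmin
  have e5 := coheight_eq_add_one_of_covBy hA' hcov
  have e6 := height_add_coheight_eq hA' hA (⟨P, hP⟩ : PrimeSpectrum A)
  have e7 := height_add_coheight_eq hA' hA (⟨Q, hQ⟩ : PrimeSpectrum A)
  -- the quotient
  haveI : Nonempty (PrimeSpectrum (A ⧸ I)) := ⟨⟨_, hQbar⟩⟩
  have e8 : ((Order.height (⟨_, hQbar⟩ : PrimeSpectrum (A ⧸ I)) +
      Order.coheight (⟨_, hQbar⟩ : PrimeSpectrum (A ⧸ I)) : ℕ∞) : WithBot ℕ∞) ≤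
      ringKrullDim (A ⧸ I) := by
    unfold ringKrullDim
    rw [Order.krullDim_eq_iSup_height_add_coheight_of_nonempty, WithBot.coe_le_coe]
    exact le_iSup (fun a : PrimeSpectrum (A ⧸ I) => Order.height a + Order.coheight a) _
  have e9 : (Order.coheight (⟨_, hQbar⟩ : PrimeSpectrum (A ⧸ I)) : WithBot ℕ∞) =
      Order.coheight (⟨Q, hQ⟩ : PrimeSpectrum A) := by
    rw [← ringKrullDim_quotient_eq_coheight, ← ringKrullDim_quotient_eq_coheight]
    exact ringKrullDim_eq_of_ringEquiv (DoubleQuot.quotQuotEquivQuotOfLE htQ)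
  rw [WithBot.coe_inj] at e9
  rw [e9, ← PrimeSpectrum.height_eq_orderHeight] at e8
  change (((Q.map (Ideal.Quotient.mk I)).height + _ : ℕ∞) : WithBot ℕ∞) ≤ _ at e8
  -- combine
  have e10 : ((((Q.map (Ideal.Quotient.mk I)).height +
      Order.coheight (⟨Q, hQ⟩ : PrimeSpectrum A) : ℕ∞) : WithBot ℕ∞)) + 1 ≤ ringKrullDim A := by
    rw [← ht]
    gcongr
  rw [← e6, e5, ← PrimeSpectrum.height_eq_orderHeight] at e10
  change _ ≤ ((P.height + _ : ℕ∞) : WithBot ℕ∞) at e10
  have e11 : (Q.map (Ideal.Quotient.mk I)).height +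
      Order.coheight (⟨Q, hQ⟩ : PrimeSpectrum A) + 1 ≤
      P.height + (Order.coheight (⟨Q, hQ⟩ : PrimeSpectrum A) + 1) := by
    exact_mod_cast e10
  have hcne : Order.coheight (⟨Q, hQ⟩ : PrimeSpectrum A) + 1 ≠ ⊤ := by
    simp [coheight_ne_top]
  rw [add_assoc] at e11
  exact (ENat.add_le_add_iff_right hcne).mp e11

/-- Let A be a Noetherian local ring which is equidimensional and catenary, t an element of A belonging
to a system of parameters (dim A/tA + 1 = dim A), and Z a set of prime ideals of A stable under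
specialization. Write X = Spec A, X₀ = V(t), X₁ = X ∖ X₀ and Z₀ = Z ∩ X₀, Z₁ = Z ∩ X₁. Then
codim(Z₀, X₀) ≤ codim(Z, X) ≤ codim(Z₁, X₁), where each codimension is the infimum of the heights of
the primes concerned, heights for Z₀ being taken in A/tA. -/
theorem result (A : Type u) [CommRing A] [IsNoetherianRing A] [IsLocalRing A]
    (hA : EGA4.IsEquidim A) (hA' : CAlg.IsCatenary A) (t : A)
    (ht : ringKrullDim (A ⧸ Ideal.span {t}) + 1 = ringKrullDim A) (Z : Set (PrimeSpectrum A))
    (hZ : StableUnderSpecialization Z) :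
    (⨅ p ∈ {p ∈ Z | t ∈ p.asIdeal}, (p.asIdeal.map (Ideal.Quotient.mk (Ideal.span {t}))).height) ≤
        ⨅ p ∈ Z, p.asIdeal.height ∧
      (⨅ p ∈ Z, p.asIdeal.height) ≤ ⨅ p ∈ {p ∈ Z | t ∉ p.asIdeal}, p.asIdeal.height := by
  classical
  have htm : t ∈ IsLocalRing.maximalIdeal A := by
    by_contra hnot
    have hu : IsUnit t := by
      by_contra hnu
      exact hnot ((IsLocalRing.mem_maximalIdeal t).mpr hnu)
    have htop : Ideal.span {t} = ⊤ := Ideal.span_singleton_eq_top.mpr hu
    haveI : Subsingleton (A ⧸ Ideal.span {t}) := by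
      rw [htop]
      exact Ideal.Quotient.subsingleton_iff.mpr rfl
    rw [ringKrullDim_eq_bot_of_subsingleton, WithBot.bot_add] at ht
    exact absurd ht.symm ringKrullDim_ne_bot
  refine ⟨?_, ?_⟩
  · refine le_iInf₂ fun p hp => ?_
    haveI := p.isPrime
    by_cases htp : t ∈ p.asIdeal
    · refine (iInf₂_le p (⟨hp, htp⟩ : p ∈ {p ∈ Z | t ∈ p.asIdeal})).trans ?_
      -- `ht(p/tA) ≤ ht p`
      have htp' : Ideal.span {t} ≤ p.asIdeal := (Ideal.span_singleton_le_iff_mem _).mpr htp
      have hsurj : Function.Surjective (Ideal.Quotient.mk (Ideal.span {t})) :=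
        Ideal.Quotient.mk_surjective
      haveI hpbar : (p.asIdeal.map (Ideal.Quotient.mk (Ideal.span {t}))).IsPrime :=
        Ideal.map_isPrime_of_surjective hsurj (by rw [Ideal.mk_ker]; exact htp')
      have hc : (p.asIdeal.map (Ideal.Quotient.mk (Ideal.span {t}))).comap
          (Ideal.Quotient.mk (Ideal.span {t})) = p.asIdeal := by
        rw [Ideal.comap_map_of_surjective _ hsurj, ← RingHom.ker_eq_comap_bot, Ideal.mk_ker]
        exact sup_eq_left.mpr htp'
      haveI : Algebra.IsIntegral A (A ⧸ Ideal.span {t}) := inferInstance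
      have := Groth.Agent.Lib.helper9.Hull.height_le_height_comap (R := A)
        (p.asIdeal.map (Ideal.Quotient.mk (Ideal.span {t})))
      rw [Ideal.Quotient.algebraMap_eq, hc] at this
      exact this
    · have hle : p.asIdeal ⊔ Ideal.span {t} ≤ IsLocalRing.maximalIdeal A :=
        sup_le (IsLocalRing.le_maximalIdeal p.isPrime.ne_top)
          ((Ideal.span_singleton_le_iff_mem _).mpr htm)
      obtain ⟨Q, hQmin, -⟩ := Ideal.exists_minimalPrimes_le hle
      haveI hQp : Q.IsPrime := hQmin.1.1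
      have hpQ : p.asIdeal ≤ Q := le_sup_left.trans hQmin.1.2
      have htQ : t ∈ Q := (le_sup_right.trans hQmin.1.2) (Ideal.mem_span_singleton_self t)
      have hQZ : (⟨Q, hQp⟩ : PrimeSpectrum A) ∈ Z := by
        refine hZ ?_ hp
        rw [← PrimeSpectrum.le_iff_specializes]
        exact hpQ
      refine (iInf₂_le (⟨Q, hQp⟩ : PrimeSpectrum A)
        (⟨hQZ, htQ⟩ : (⟨Q, hQp⟩ : PrimeSpectrum A) ∈ {p ∈ Z | t ∈ p.asIdeal})).trans ?_
      exact key A hA hA' t ht p.asIdeal Q htp hQmin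
  · refine le_iInf₂ fun p hp => ?_
    exact iInf₂_le p hp.1

end Groth.Agent.S4742
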