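import Groth.Statements.S4750
-- import your own Groth.Agent.* helpers here
import Mathlib
import Groth.Agent.Lib.helper6.SkFib

set_option autoImplicit false
universe u
open EGA4

namespace Groth.Agent.S4750

/-- Let A → B → C be homomorphisms of Noetherian rings, both flat and with (S_n) fibres. Then the
composite A → C is flat with (S_n) fibres. -/
theorem result (n : ℕ) (A B C : Type u) [CommRing A] [CommRing B] [CommRing C] [IsNoetherianRing A]
    [IsNoetherianRing B] [IsNoetherianRing C] [Algebra A B] [Algebra B C] [Algebra A C] [IsScalarTower A B C]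
    [Module.Flat A B] [Module.Flat B C]
    (hAB : ∀ (p : Ideal A) [p.IsPrime], LocCoh.HasSk n (p.Fiber B) (p.Fiber B))
    (hBC : ∀ (q : Ideal B) [q.IsPrime], LocCoh.HasSk n (q.Fiber C) (q.Fiber C)) :
    Module.Flat A C ∧ ∀ (p : Ideal A) [p.IsPrime], LocCoh.HasSk n (p.Fiber C) (p.Fiber C) := by
  refine ⟨Module.Flat.trans A B C, fun p hp => ?_⟩
  have hAB' := Groth.Agent.Lib.helper6.SkFib.locFibSk_of_fiber (R := A) (S := B) n (fun p _ => hAB p)
  have hBC' := Groth.Agent.Lib.helper6.SkFib.locFibSk_of_fiber (R := B) (S := C) n (fun q _ => hBC q)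
  exact Groth.Agent.Lib.helper6.SkFib.fiber_of_locFibSk n
    (Groth.Agent.Lib.helper6.SkFib.comp n A B C hAB' hBC') p

end Groth.Agent.S4750
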