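import Groth.Statements.S4751
-- import your own Groth.Agent.* helpers here
import Mathlib
import Groth.Agent.Lib.helper6.SkFib

set_option autoImplicit false
universe u
open EGA4

namespace Groth.Agent.S4751

/-- Let A → B → C be homomorphisms of Noetherian rings such that B → C is faithfully flat with (S_n)
fibres and the composite A → C is flat with (S_n) fibres. Then A → B is flat with (S_n) fibres. -/
theorem result (n : ℕ) (A B C : Type u) [CommRing A] [CommRing B] [CommRing C]
    [IsNoetherianRing A] [IsNoetherianRing B] [IsNoetherianRing C] [Algebra A B] [Algebra B C] [Algebra A C]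
    [IsScalarTower A B C] [Module.FaithfullyFlat B C] [Module.Flat A C]
    (hBC : ∀ (q : Ideal B) [q.IsPrime], LocCoh.HasSk n (q.Fiber C) (q.Fiber C))
    (hAC : ∀ (p : Ideal A) [p.IsPrime], LocCoh.HasSk n (p.Fiber C) (p.Fiber C)) :
    Module.Flat A B ∧ ∀ (p : Ideal A) [p.IsPrime], LocCoh.HasSk n (p.Fiber B) (p.Fiber B) := by
  have hfl : Module.Flat A B := Groth.Agent.Lib.helper6.CMFib.flat_of_faithfullyFlat_comp A B C
  refine ⟨hfl, fun p hp => ?_⟩
  have hAC' := Groth.Agent.Lib.helper6.SkFib.locFibSk_of_fiber (R := A) (S := C) n (fun p _ => hAC p)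
  exact Groth.Agent.Lib.helper6.SkFib.fiber_of_locFibSk n
    (Groth.Agent.Lib.helper6.SkFib.descent n A B C hAC') p

end Groth.Agent.S4751
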