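import Groth.Statements.S4757
import Mathlib
import Groth.Agent.Lib.helper20.FiberLoc

set_option autoImplicit false
universe u
open EGA4

namespace Groth.Agent.S4757

/-- Let A → B be a flat homomorphism of Noetherian rings with geometrically reduced fibres and S a
multiplicative subset of A. Then the induced homomorphism S⁻¹A → S⁻¹B (arbitrary localizations at S
and at its image) is flat with geometrically reduced fibres. -/
theorem result (A B : Type u) [CommRing A] [CommRing B] [IsNoetherianRing A]
    [IsNoetherianRing B] [Algebra A B] [Module.Flat A B]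
    (h : ∀ (p : Ideal A) [p.IsPrime], Algebra.IsGeometricallyReduced p.ResidueField (p.Fiber B)) (S : Submonoid A)
    (A' B' : Type u) [CommRing A'] [CommRing B'] [Algebra A A'] [Algebra B B'] [Algebra A' B'] [Algebra A B']
    [IsScalarTower A A' B'] [IsScalarTower A B B'] [IsLocalization S A']
    [IsLocalization (Algebra.algebraMapSubmonoid B S) B'] :
    Module.Flat A' B' ∧ ∀ (p' : Ideal A') [p'.IsPrime], Algebra.IsGeometricallyReduced p'.ResidueField (p'.Fiber B') := by
  refine ⟨Groth.Agent.Lib.helper20.FiberLoc.flat_of_isLocalization A B A' B' S, ?_⟩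
  intro p' hp'
  rw [Algebra.isGeometricallyReduced_field_iff]
  obtain ⟨alg, h'⟩ := Groth.Agent.Lib.helper20.FiberLoc.exists_fiber_equiv A B A' B' S p'
    (AlgebraicClosure p'.ResidueField)
  letI := alg
  obtain ⟨-, halg, ⟨e⟩⟩ := h'
  haveI := halg inferInstance
  haveI := h (p'.comap (algebraMap A A'))
  exact isReduced_of_injective e.toRingHom e.injective

end Groth.Agent.S4757
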