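import Groth.Statements.S4765
import Mathlib
import Groth.Agent.Lib.helper7.Lim8

set_option autoImplicit false
universe u
open CategoryTheory AlgebraicGeometry
open Lim8

namespace Groth.Agent.S4765

/-- Let S = lim S_i be a cofiltered limit of schemes with affine transition maps and let i be an index
such that the projection S ⟶ S_j is surjective for every j over i. Then the projection S ⟶ S_i is an
open map if and only if every transition map S_j ⟶ S_i is an open map. This is the case of open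
morphisms. -/
theorem result {I : Type u} [SmallCategory I] [IsCofiltered I]
    (D : I ⥤ Scheme.{u}) (c : Limits.Cone D) (hc : Limits.IsLimit c)
    [∀ (i j : I) (f : i ⟶ j), IsAffineHom (D.map f)] (i : I)
    (hs : ∀ (j : I) (φ : j ⟶ i), Surjective (c.π.app j)) :
    IsOpenMap ⇑(c.π.app i) ↔ ∀ (j : I) (φ : j ⟶ i), IsOpenMap ⇑(D.map φ) := by
  have : ∀ {i j : I} (f : i ⟶ j), IsAffineHom (D.map f) := fun f => inferInstance
  constructor
  · intro h j φ W hW
    have hsur : Function.Surjective ⇑(c.π.app j) := (hs j φ).surj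
    have : (⇑(D.map φ) '' W : Set (D.obj i)) = ⇑(c.π.app i) '' (⇑(c.π.app j) ⁻¹' W) := by
      ext x
      constructor
      · rintro ⟨y, hy, rfl⟩
        obtain ⟨s, rfl⟩ := hsur y
        exact ⟨s, hy, (Groth.Agent.Lib.helper7.Lim8.π_app_apply φ s).symm⟩
      · rintro ⟨s, hs', rfl⟩
        exact ⟨c.π.app j s, hs', Groth.Agent.Lib.helper7.Lim8.π_app_apply φ s⟩
    rw [this]
    exact h _ (hW.preimage (c.π.app j).continuous)
  · intro h u hu
    rw [isOpen_iff_forall_mem_open]
    rintro _ ⟨s, hsu, rfl⟩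
    obtain ⟨k, ψ, V, hsV, hVu⟩ :=
      Groth.Agent.Lib.helper7.Lim8.exists_basic_open_over D c hc i hu hsu
    refine ⟨⇑(D.map ψ) '' (V : Set (D.obj k)), ?_, h k ψ _ V.2, ?_⟩
    · rintro _ ⟨y, hy, rfl⟩
      obtain ⟨t, rfl⟩ := (hs k ψ).surj y
      exact ⟨t, hVu hy, (Groth.Agent.Lib.helper7.Lim8.π_app_apply ψ t).symm⟩
    · exact ⟨c.π.app k s, hsV, Groth.Agent.Lib.helper7.Lim8.π_app_apply ψ s⟩

end Groth.Agent.S4765
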