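import Groth.Statements.S7591
import Groth.Agent.S1559
import Mathlib

set_option autoImplicit false
universe u
open CategoryTheory CategoryTheory.Limits AlgebraicGeometry
open Variety

namespace Groth.Agent.S7591

set_option linter.style.haveILetI false
open Limits TensorProduct

/-- the comparison ring map `A ⊗ K → A ⊗ Ω` for an intermediate field -/
noncomputable def rmap {k : Type u} [Field k] (Ω : Type u) [Field Ω] [Algebra k Ω] (A : Type u) [CommRing A]
    [Algebra k A] (K : IntermediateField k Ω) : A ⊗[k] K →ₐ[k] A ⊗[k] Ω :=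
  Algebra.TensorProduct.map (AlgHom.id k A) K.val

lemma rmap_injective {k : Type u} [Field k] (Ω : Type u) [Field Ω] [Algebra k Ω] (A : Type u) [CommRing A]
    [Algebra k A] (K : IntermediateField k Ω) : Function.Injective (rmap Ω A K) := by
  have h : Function.Injective (LinearMap.lTensor A K.val.toLinearMap) :=
    Module.Flat.lTensor_preserves_injective_linearMap _ K.val.injective
  intro x y hxy
  apply h
  have key : ∀ z : A ⊗[k] K, LinearMap.lTensor A K.val.toLinearMap z = rmap Ω A K z := by
    intro z
    induction z using TensorProduct.induction_on with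
    | zero => simp
    | tmul a b => simp [rmap]
    | add a b ha hb => simp [ha, hb]
  rw [key, key, hxy]

lemma exists_descent {k : Type u} [Field k] (Ω : Type u) [Field Ω] [Algebra k Ω]
    [Algebra.IsAlgebraic k Ω] (A : Type u) [CommRing A]
    [Algebra k A] (e : A ⊗[k] Ω) :
    ∃ K : IntermediateField k Ω, FiniteDimensional k K ∧ ∃ e' : A ⊗[k] K, rmap Ω A K e' = e := by
  classical
  obtain ⟨N', hfin, hs⟩ := TensorProduct.exists_finite_submodule_right_of_setFinite
    ({e} : Set (A ⊗[k] Ω)) (Set.finite_singleton e)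
  obtain ⟨y, hy⟩ := hs (Set.mem_singleton e)
  obtain ⟨S, hS⟩ := (Module.Finite.iff_fg.1 hfin)
  let K : IntermediateField k Ω := IntermediateField.adjoin k (S : Set Ω)
  have hK : FiniteDimensional k K :=
    IntermediateField.finiteDimensional_adjoin (fun x _ => Algebra.IsIntegral.isIntegral x)
  have hle : N' ≤ K.toSubalgebra.toSubmodule := by
    rw [← hS, Submodule.span_le]
    exact IntermediateField.subset_adjoin k _
  refine ⟨K, hK, (LinearMap.lTensor A (Submodule.inclusion hle)) y, ?_⟩
  rw [← hy]
  clear hy
  induction y using TensorProduct.induction_on with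
  | zero => simp
  | tmul a b => simp [rmap]
  | add a b ha hb => simp only [map_add, ha, hb]

section Geo
variable {k : Type u} [Field k] {X : Scheme.{u}} (f : X ⟶ Spec (CommRingCat.of k))

/-- structure map of a field extension -/
noncomputable abbrev bL (L : Type u) [Field L] [Algebra k L] : Spec (CommRingCat.of L) ⟶ Spec (CommRingCat.of k) :=
  Spec.map (CommRingCat.ofHom (algebraMap k L))

variable (A : Type u) [CommRing A] [Algebra k A] (j : Spec (CommRingCat.of A) ⟶ X)
  (hφ : Spec.map (CommRingCat.ofHom (algebraMap k A)) = j ≫ f)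

/-- the chart of the base change -/
noncomputable def chart (L : Type u) [Field L] [Algebra k L] :
    Spec (CommRingCat.of (A ⊗[k] L)) ⟶ pullback f (bL (k := k) L) :=
  (pullbackSpecIso k A L).inv ≫ pullback.map (Spec.map (CommRingCat.ofHom (algebraMap k A))) (bL L) f (bL L)
    j (𝟙 _) (𝟙 _) (by rw [hφ]; simp) (by simp)

lemma chart_fst (L : Type u) [Field L] [Algebra k L] :
    chart f A j hφ L ≫ pullback.fst f (bL L) =
      Spec.map (CommRingCat.ofHom (Algebra.TensorProduct.includeLeftRingHom)) ≫ j := by
  unfold chart pullback.map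
  rw [Category.assoc, pullback.lift_fst, ← Category.assoc, pullbackSpecIso_inv_fst]

lemma chart_snd (L : Type u) [Field L] [Algebra k L] :
    chart f A j hφ L ≫ pullback.snd f (bL L) =
      Spec.map (CommRingCat.ofHom (R := L) (S := A ⊗[k] L)
        (RingHomClass.toRingHom Algebra.TensorProduct.includeRight)) := by
  unfold chart pullback.map
  rw [Category.assoc, pullback.lift_snd, Category.comp_id, pullbackSpecIso_inv_snd]

instance chart_open [IsOpenImmersion j] (L : Type u) [Field L] [Algebra k L] :
    IsOpenImmersion (chart f A j hφ L) := by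
  unfold chart
  infer_instance

lemma range_chart (L : Type u) [Field L] [Algebra k L] :
    Set.range (chart f A j hφ L) = (pullback.fst f (bL L)) ⁻¹' (Set.range j) := by
  have h1 : Set.range (chart f A j hφ L) = Set.range (pullback.map (Spec.map (CommRingCat.ofHom (algebraMap k A))) (bL L) f (bL L)
    j (𝟙 _) (𝟙 _) (by rw [hφ]; simp) (by simp)) := by
    unfold chart
    rw [Scheme.Hom.comp_base, TopCat.coe_comp, Set.range_comp]
    have : Set.range (pullbackSpecIso k A L).inv = Set.univ :=
      Set.range_eq_univ.2 (pullbackSpecIso k A L).inv.surjective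
    rw [this, Set.image_univ]
  rw [h1, Scheme.Pullback.range_map]
  simp

end Geo

section Main
variable {k : Type u} [Field k] {X : Scheme.{u}} (f : X ⟶ Spec (CommRingCat.of k))

theorem core (Ω : Type u) [Field Ω] [Algebra k Ω] [Algebra.IsSeparable k Ω]
    (h : ∀ (K : Type u) [Field K] [Algebra k K] [FiniteDimensional k K] [Algebra.IsSeparable k K],
      ConnectedSpace ↥(pullback f (Spec.map (CommRingCat.ofHom (algebraMap k K))))) :
    ConnectedSpace ↥(pullback f (Spec.map (CommRingCat.ofHom (algebraMap k Ω)))) := by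
  classical
  haveI : Algebra.IsAlgebraic k Ω := Algebra.IsSeparable.isAlgebraic k Ω
  haveI : Algebra.IsIntegral k Ω := Algebra.IsAlgebraic.isIntegral
  set bΩ := bL (k := k) Ω with hbΩ
  haveI : IsIntegralHom bΩ := by
    rw [hbΩ, IsIntegralHom.SpecMap_iff]
    exact algebraMap_isIntegral_iff.2 inferInstance
  set p := pullback.fst f bΩ with hp
  have hpo : IsOpenMap p := p.isOpenMap
  have hpc : IsClosedMap p := p.isClosedMap
  have hps : Function.Surjective p := p.surjective
  -- X is connected
  haveI hX : ConnectedSpace X := by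
    haveI := h k
    exact (pullback.fst f (Spec.map (CommRingCat.ofHom (algebraMap k k)))).surjective.connectedSpace
      (pullback.fst f _).continuous
  obtain ⟨x⟩ := (inferInstance : Nonempty X)
  obtain ⟨t₀, ht₀⟩ := hps x
  haveI : Nonempty ↥(pullback f bΩ) := ⟨t₀⟩
  rw [connectedSpace_iff_clopen]
  refine ⟨inferInstance, fun T hT => ?_⟩
  by_contra hcon
  push Not at hcon
  obtain ⟨hT0, hT1⟩ := hcon
  have hTne : T.Nonempty := hT0
  have hTcne : Tᶜ.Nonempty := Set.nonempty_compl.2 hT1
  have himg : ∀ S : Set ↥(pullback f bΩ), IsClopen S → S.Nonempty → p '' S = Set.univ := by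
    intro S hS hne
    have hc : IsClopen (p '' S) := ⟨hpc _ hS.1, hpo _ hS.2⟩
    rcases isClopen_iff.1 hc with h0 | h1
    · exact absurd h0 (hne.image _).ne_empty
    · exact h1
  -- chart around x
  obtain ⟨i, y₀, hy₀⟩ := X.affineOpenCover.openCover.exists_eq x
  set A : Type u := ((X.affineOpenCover.X i : CommRingCat.{u}) : Type u) with hA
  let j : Spec (CommRingCat.of A) ⟶ X := X.affineOpenCover.f i
  haveI : IsOpenImmersion j := X.affineOpenCover.map_prop i
  letI : Algebra k A := (Spec.preimage (j ≫ f)).hom.toAlgebra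
  have hφ : Spec.map (CommRingCat.ofHom (algebraMap k A)) = j ≫ f := Spec.map_preimage _
  have hxj : x ∈ Set.range j := ⟨y₀, hy₀⟩
  -- the clopen subset of the chart
  set cΩ := chart f A j hφ Ω with hcΩ
  have hT' : IsClopen (cΩ ⁻¹' T) := hT.preimage cΩ.continuous
  obtain ⟨e, he, heq⟩ := PrimeSpectrum.isClopen_iff.1 hT'
  obtain ⟨K, hK, e', he'⟩ := exists_descent Ω A e
  haveI : Algebra.IsSeparable k K := Algebra.isSeparable_tower_bot_of_isSeparable k K Ω
  haveI hKconn := h K
  set bK := bL (k := k) K with hbK
  let cKΩ : Spec (CommRingCat.of Ω) ⟶ Spec (CommRingCat.of K) :=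
    Spec.map (CommRingCat.ofHom (algebraMap K Ω))
  have hcomp : cKΩ ≫ bK = bΩ := by
    rw [hbK, hbΩ, ← Spec.map_comp]
    rfl
  haveI : IsIntegralHom cKΩ := by
    rw [IsIntegralHom.SpecMap_iff]
    haveI : Algebra.IsAlgebraic K Ω := Algebra.IsAlgebraic.tower_top (K := k) K
    exact algebraMap_isIntegral_iff.2 Algebra.IsAlgebraic.isIntegral
  let q : pullback f bΩ ⟶ pullback f bK :=
    pullback.lift (pullback.fst f bΩ) (pullback.snd f bΩ ≫ cKΩ)
      (by rw [Category.assoc, hcomp]; exact pullback.condition)
  have hq1 : q ≫ pullback.fst f bK = pullback.fst f bΩ := pullback.lift_fst _ _ _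
  have hq2 : q ≫ pullback.snd f bK = pullback.snd f bΩ ≫ cKΩ := pullback.lift_snd _ _ _
  have hsq : IsPullback q (pullback.snd f bΩ) (pullback.snd f bK) cKΩ := by
    refine IsPullback.of_right (h₁₂ := pullback.fst f bK) (h₂₂ := bK) (v₁₃ := f) ?_ hq2
      (IsPullback.of_hasPullback f bK)
    rw [hq1, hcomp]
    exact IsPullback.of_hasPullback f bΩ
  haveI : IsIntegralHom q := MorphismProperty.of_isPullback (P := @IsIntegralHom) hsq.flip inferInstance
  haveI : UniversallyOpen cKΩ := inferInstance
  haveI : UniversallyOpen q := MorphismProperty.of_isPullback (P := @UniversallyOpen) hsq.flip inferInstance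
  haveI : Surjective cKΩ := inferInstance
  haveI : Surjective q := MorphismProperty.of_isPullback (P := @Surjective) hsq.flip inferInstance
  have hqo : IsOpenMap q := q.isOpenMap
  have hqc : IsClosedMap q := q.isClosedMap
  have himgq : ∀ S : Set ↥(pullback f bΩ), IsClopen S → S.Nonempty → q '' S = Set.univ := by
    intro S hS hne
    have hc : IsClopen (q '' S) := ⟨hqc _ hS.1, hqo _ hS.2⟩
    rcases isClopen_iff.1 hc with h0 | h1
    · exact absurd h0 (hne.image _).ne_empty
    · exact h1
  have hxT : x ∈ p '' T := by rw [himg T hT hTne]; trivial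
  obtain ⟨t, htT, htx⟩ := hxT
  have hz : q t ∈ q '' Tᶜ := by rw [himgq Tᶜ hT.compl hTcne]; trivial
  obtain ⟨s, hsT, hsq'⟩ := hz
  have hfs : ∀ w, (pullback.fst f bK) (q w) = p w := fun w =>
    congrArg (fun g => g.base w) hq1
  have hs_chart : s ∈ Set.range cΩ := by
    rw [hcΩ, range_chart]
    show p s ∈ Set.range j
    rw [← hfs s, hsq', hfs t, htx]
    exact hxj
  have ht_chart : t ∈ Set.range cΩ := by
    rw [hcΩ, range_chart]
    show p t ∈ Set.range j
    rw [htx]
    exact hxj
  obtain ⟨s', hs'⟩ := hs_chart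
  obtain ⟨t', ht'⟩ := ht_chart
  set cK := chart f A j hφ K with hcK
  let r : Spec (CommRingCat.of (A ⊗[k] Ω)) ⟶ Spec (CommRingCat.of (A ⊗[k] K)) :=
    Spec.map (CommRingCat.ofHom (rmap Ω A K).toRingHom)
  have hcomm : cΩ ≫ q = r ≫ cK := by
    apply pullback.hom_ext
    · rw [Category.assoc, hq1, Category.assoc, hcΩ, hcK, chart_fst, chart_fst, ← Category.assoc,
        ← Spec.map_comp]
      congr 2
    · rw [Category.assoc, hq2, ← Category.assoc, hcΩ, hcK, chart_snd, Category.assoc, chart_snd,
        ← Spec.map_comp, ← Spec.map_comp]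
      congr 1
  have hr : r s' = r t' := by
    apply cK.isOpenEmbedding.injective
    have e1 : cK (r s') = q (cΩ s') := congrArg (fun g => g.base s') hcomm.symm
    have e2 : cK (r t') = q (cΩ t') := congrArg (fun g => g.base t') hcomm.symm
    rw [e1, e2, hs', ht', hsq']
  have hte : t' ∈ cΩ ⁻¹' T := by
    show cΩ t' ∈ T
    rw [ht']; exact htT
  have hse : s' ∉ cΩ ⁻¹' T := by
    show cΩ s' ∉ T
    rw [hs']; exact hsT
  rw [heq] at hte hse
  have h1 : e ∉ t'.asIdeal := hte
  have h2 : e ∈ s'.asIdeal := by
    by_contra hh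
    exact hse hh
  have h3 : e' ∈ (r s').asIdeal := by
    show e' ∈ Ideal.comap (rmap Ω A K).toRingHom s'.asIdeal
    rw [Ideal.mem_comap]
    show rmap Ω A K e' ∈ s'.asIdeal
    rw [he']; exact h2
  have h4 : e' ∉ (r t').asIdeal := by
    show e' ∉ Ideal.comap (rmap Ω A K).toRingHom t'.asIdeal
    rw [Ideal.mem_comap]
    show rmap Ω A K e' ∉ t'.asIdeal
    rw [he']; exact h1
  rw [hr] at h3
  exact h4 h3

end Main

theorem result' (k : Type u) [Field k] (X : Scheme.{u}) [X.Over (Spec (CommRingCat.of k))] :
    GeometricallyConnected (X ↘ (Spec (CommRingCat.of k))) ↔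
      ∀ (k' : Type u) [Field k'] [Algebra k k'] [FiniteDimensional k k'] [Algebra.IsSeparable k k'],
        ConnectedSpace ↥(Curv2.bc k X k') := by
  constructor
  · intro hG k' _ _ _ _
    exact GeometricallyConnected.geometrically_connectedSpace
      (f := X ↘ (Spec (CommRingCat.of k))) (Spec.map (CommRingCat.ofHom (algebraMap k k'))) _ _
      (IsPullback.of_hasPullback _ _)
  · intro h
    haveI : ConnectedSpace ↥(Curv2.bc k X (SeparableClosure k)) :=
      core (X ↘ (Spec (CommRingCat.of k))) (SeparableClosure k) (fun K _ _ _ _ => h K)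
    exact Groth.Agent.S1559.result k X

/-- For a scheme X over a field k, geometric connectedness of X over k holds exactly when, for each
finite separable extension field k' of k, the base change X_{k'} is a connected (so nonempty)
scheme. -/
theorem result (k : Type u) [Field k] (X : Scheme.{u}) [X.Over (Spec (CommRingCat.of k))] :
    GeometricallyConnected (X ↘ (Spec (CommRingCat.of k))) ↔
      ∀ (k' : Type u) [Field k'] [Algebra k k'] [FiniteDimensional k k'] [Algebra.IsSeparable k k'],
        ConnectedSpace ↥(Curv2.bc k X k') := by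
  exact result' k X

end Groth.Agent.S7591
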