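import Groth.Statements.S4777
import Mathlib
import Groth.Agent.Lib.helper28.FPColim

set_option autoImplicit false
universe u
open CategoryTheory
open Lim8

namespace Groth.Agent.S4777
open CategoryTheory CategoryTheory.Limits
open Groth.Agent.Lib.helper28.FPColim

section helpers



open Groth.Agent.Lib.helper28.FPColim

lemma ker_fg_of_retract {R D B : Type u} [CommRing R] [CommRing D] [CommRing B] [Algebra R D]
    [Algebra.FiniteType R D] (r : D →+* B) (s : B →+* D) (hrs : ∀ b, r (s b) = b)
    (hR : ∀ a : R, s (r (algebraMap R D a)) = algebraMap R D a) : (RingHom.ker r).FG := by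
  classical
  obtain ⟨G, hG⟩ := (Algebra.FiniteType.out : (⊤ : Subalgebra R D).FG)
  let I : Ideal D := Ideal.span ((G.image fun g => g - s (r g) : Finset D) : Set D)
  have hI : RingHom.ker r = I := by
    apply le_antisymm
    · intro x hx
      have hx0 : r x = 0 := hx
      have key : ∀ y ∈ Algebra.adjoin R (G : Set D), y - s (r y) ∈ I := by
        intro y hy
        induction hy using Algebra.adjoin_induction with
        | mem g hg =>
          apply Ideal.subset_span
          exact Finset.mem_coe.2 (Finset.mem_image_of_mem _ hg)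
        | algebraMap a => rw [hR a, sub_self]; exact I.zero_mem
        | add x y _ _ hx hy =>
          have : x + y - s (r (x + y)) = (x - s (r x)) + (y - s (r y)) := by
            rw [map_add, map_add]; ring
          rw [this]; exact I.add_mem hx hy
        | mul x y _ _ hx hy =>
          have : x * y - s (r (x * y)) = x * (y - s (r y)) + (x - s (r x)) * s (r y) := by
            rw [map_mul, map_mul]; ring
          rw [this]
          exact I.add_mem (I.mul_mem_left _ hy) (I.mul_mem_right _ hx)
      have := key x (by rw [hG]; trivial)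
      rwa [hx0, map_zero, sub_zero] at this
    · rw [Ideal.span_le]
      intro y hy
      obtain ⟨g, _, rfl⟩ := Finset.mem_image.1 (Finset.mem_coe.1 hy)
      show r (g - s (r g)) = 0
      rw [map_sub, hrs, sub_self]
  rw [hI]
  exact ⟨_, rfl⟩



end helpers

/-- Let B be an algebra over a commutative ring A. If, for every inductive system (C_λ) of A-algebras
indexed by a nonempty directed preordered set, the canonical map colim Hom_A(B, C_λ) → Hom_A(B,
colim C_λ) is bijective (that is, Hom_A(B, -) preserves the colimit of the system), then B is an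
A-algebra of finite presentation. (This is the necessity half of the characterization of algebras of
finite presentation by this property; the converse is standard.) -/
theorem result {A B : CommRingCat.{u}} (f : A ⟶ B)
    (h : ∀ (J : Type u) [Preorder J] [IsDirected J (· ≤ ·)] [Nonempty J] (F : J ⥤ Under A),
      Limits.PreservesColimit F (coyoneda.obj (Opposite.op (Under.mk f)))) :
    f.hom.FinitePresentation := by
  let _ : Algebra ↑A ↑B := f.hom.toAlgebra
  have hpres := h (Idx ↑A ↑B) (DD ↑A ↑B)
  have hcol : IsColimit ((coyoneda.obj (Opposite.op (Under.mk f))).mapCocone (CC ↑A ↑B)) :=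
    isColimitOfPreserves _ (CCisColimit ↑A ↑B)
  let x0 : ((coyoneda.obj (Opposite.op (Under.mk f))).mapCocone (CC ↑A ↑B)).pt :=
    (𝟙 (Under.mk f) : Under.mk f ⟶ Under.mk f)
  obtain ⟨j, y, hy⟩ := Types.jointly_surjective_of_isColimit hcol x0
  -- y : Under.mk f ⟶ DD.obj j with y ≫ CC.ι.app j = 𝟙
  have hy' : (y : Under.mk f ⟶ (DD ↑A ↑B).obj j) ≫ (CC ↑A ↑B).ι.app j = 𝟙 (Under.mk f) := hy
  let r : (PS ↑A ↑B j.S ⧸ j.J) →+* ↑B := leg ↑A ↑B j
  let s : ↑B →+* (PS ↑A ↑B j.S ⧸ j.J) := (y : Under.mk f ⟶ (DD ↑A ↑B).obj j).right.hom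
  have hrs : ∀ b, r (s b) = b := by
    intro b
    have := congrArg (fun g => g.right.hom b) hy'
    exact this
  have hs_alg : ∀ a : ↑A, s (f.hom a) = algebraMap ↑A (PS ↑A ↑B j.S ⧸ j.J) a := by
    intro a
    have := congrArg (fun g => g.hom a) (Under.w (y : Under.mk f ⟶ (DD ↑A ↑B).obj j))
    exact this
  have hr_alg : ∀ a : ↑A, r (algebraMap ↑A (PS ↑A ↑B j.S ⧸ j.J) a) = f.hom a := by
    intro a
    have := congrArg (fun g => g.hom a) (Under.w ((CC ↑A ↑B).ι.app j))
    exact this
  have hfp : (algebraMap ↑A (PS ↑A ↑B j.S ⧸ j.J)).FinitePresentation := DD_fp ↑A ↑B j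
  have hAlgFP : Algebra.FinitePresentation ↑A (PS ↑A ↑B j.S ⧸ j.J) :=
    RingHom.finitePresentation_algebraMap.1 hfp
  have hker : (RingHom.ker r).FG := by
    apply ker_fg_of_retract (R := ↑A) r s hrs
    intro a
    rw [hr_alg, hs_alg]
  have hsurj : Function.Surjective r := fun b => ⟨s b, hrs b⟩
  have hcomp := RingHom.FinitePresentation.comp_surjective hfp hsurj hker
  have heq : r.comp (algebraMap ↑A (PS ↑A ↑B j.S ⧸ j.J)) = f.hom := by
    ext a
    exact hr_alg a
  rw [heq] at hcomp
  exact hcomp

end Groth.Agent.S4777
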