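import Groth.Statements.S4778
import Groth.Agent.Lib.helper11.LfpConv

set_option autoImplicit false
universe u
open CategoryTheory AlgebraicGeometry
open Lim8

namespace Groth.Agent.S4778

/-- Let f : X ⟶ S be a morphism of schemes. Suppose that for every affine open U of S and every
projective system (Z_λ) of U-schemes indexed by a nonempty directed preordered set, with every Z_λ
an affine scheme, the functor Hom_S(-, X) takes the limit of the system to the colimit of the
Hom_S(Z_λ, X) (the canonical map from the colimit is bijective). Then f is locally of finite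
presentation. -/
theorem result {X S : Scheme.{u}} (f : X ⟶ S)
    (h : ∀ (U : S.Opens), IsAffineOpen U →
      ∀ (J : Type u) [Preorder J] [IsDirected J (· ≤ ·)] [Nonempty J] (Z : Jᵒᵖ ⥤ Over (U : Scheme.{u})),
      (∀ j, IsAffine (Z.obj j).left) →
      Limits.PreservesColimit (Z ⋙ Over.map U.ι).op (yoneda.obj (Over.mk f))) :
    LocallyOfFinitePresentation f := by
  refine Groth.Agent.Lib.helper11.LfpConv.lfp_of_forall_factor f ?_
  intro U hU V hV e
  letI : Algebra Γ(S, U) Γ(X, V) := (f.appLE U V e).hom.toAlgebra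
  have hsq : hV.fromSpec ≫ f =
      Spec.map (CommRingCat.ofHom (algebraMap Γ(S, U) Γ(X, V))) ≫ hU.fromSpec :=
    (IsAffineOpen.SpecMap_appLE_fromSpec f hU hV e).symm
  let Z : (Groth.Agent.Lib.helper28.FPColim.Idx Γ(S, U) Γ(X, V))ᵒᵖ ⥤ Over (U : Scheme.{u}) :=
    Over.lift (Groth.Agent.Lib.helper11.LfpConv.DS Γ(S, U) Γ(X, V))
      (Groth.Agent.Lib.helper11.LfpConv.tS Γ(S, U) Γ(X, V) hU.isoSpec.inv)
  have hP := h U hU (Groth.Agent.Lib.helper28.FPColim.Idx Γ(S, U) Γ(X, V)) Z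
    (fun j => (inferInstance :
      IsAffine ((Groth.Agent.Lib.helper11.LfpConv.DS Γ(S, U) Γ(X, V)).obj j)))
  let s' : Groth.Agent.Lib.helper11.LfpConv.DS Γ(S, U) Γ(X, V) ⟶ (Functor.const _).obj S :=
    Groth.Agent.Lib.helper11.LfpConv.tS Γ(S, U) Γ(X, V) hU.isoSpec.inv ≫
      (Functor.const _).map U.ι
  have hs' : ∀ j, s'.app j =
      (Groth.Agent.Lib.helper11.LfpConv.tS Γ(S, U) Γ(X, V) hU.fromSpec).app j := by
    intro j
    show (Spec.map _ ≫ hU.isoSpec.inv) ≫ U.ι = Spec.map _ ≫ hU.fromSpec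
    rw [Category.assoc]
    rfl
  have hp : ∀ j, (Groth.Agent.Lib.helper11.LfpConv.cS Γ(S, U) Γ(X, V)).π.app j ≫ s'.app j =
      hV.fromSpec ≫ f := by
    intro j
    rw [hs', Groth.Agent.Lib.helper11.LfpConv.cS_tS, hsq]
  let cZ : Limits.Cone (Z ⋙ Over.map U.ι) :=
    Over.liftCone (Groth.Agent.Lib.helper11.LfpConv.DS Γ(S, U) Γ(X, V)) s'
      (Groth.Agent.Lib.helper11.LfpConv.cS Γ(S, U) Γ(X, V)) (hV.fromSpec ≫ f) hp
  have hcZ : Limits.IsLimit cZ :=
    Over.isLimitLiftCone (Groth.Agent.Lib.helper11.LfpConv.DS Γ(S, U) Γ(X, V)) s'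
      (Groth.Agent.Lib.helper11.LfpConv.cS Γ(S, U) Γ(X, V)) (hV.fromSpec ≫ f) hp
      (Groth.Agent.Lib.helper11.LfpConv.hcS Γ(S, U) Γ(X, V))
  have hcol := Limits.isColimitOfPreserves (yoneda.obj (Over.mk f)) hcZ.op
  obtain ⟨j, y, hy⟩ := Limits.Types.jointly_surjective_of_isColimit hcol
    (Over.homMk hV.fromSpec rfl : cZ.pt ⟶ Over.mk f)
  refine ⟨j.unop, y.left, ?_, ?_⟩
  · have hw := Over.w y
    rw [← Groth.Agent.Lib.helper11.LfpConv.tS_app, ← hs']
    exact hw
  · have := congrArg (fun m => m.left) hy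
    exact this

end Groth.Agent.S4778
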