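import Groth.Statements.S4780
import Groth.Agent.Lib.helper11.UOpenAff

set_option autoImplicit false
universe u
open CategoryTheory AlgebraicGeometry
open Lim8

namespace Groth.Agent.S4780

/-- Let f : X ⟶ Y be a morphism of schemes. If, for every integer n > 0, the base change of f to affine
n-space over Y, X ×_Y 𝔸ⁿ_Y ⟶ 𝔸ⁿ_Y, is an open map of topological spaces, then f is universally open. -/
theorem result {X Y : Scheme.{u}} (f : X ⟶ Y)
    (h : ∀ n : ℕ, 0 < n →
      IsOpenMap ⇑(Limits.pullback.snd f (AffineSpace (ULift.{u} (Fin n)) Y ↘ Y))) :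
    UniversallyOpen f := by
  refine Groth.Agent.Lib.helper11.UOpenAff.universallyOpen_of_forall_isOpenMap_map f ?_
  intro n hn
  have hpb := (AffineSpace.isPullback_map (n := ULift.{u} (Fin n)) f).flip
  have : AffineSpace.map (ULift.{u} (Fin n)) f =
      hpb.isoPullback.hom ≫ Limits.pullback.snd f (AffineSpace (ULift.{u} (Fin n)) Y ↘ Y) :=
    (hpb.isoPullback_hom_snd).symm
  rw [this]
  simp only [Scheme.Hom.comp_base, TopCat.hom_comp, ContinuousMap.coe_comp]
  exact (h n hn).comp hpb.isoPullback.hom.isOpenEmbedding.isOpenMap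

end Groth.Agent.S4780
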