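import Groth.Statements.S4786
import Mathlib
import Groth.Agent.Lib.helper7.PC7

set_option autoImplicit false
universe u
open CategoryTheory AlgebraicGeometry
open Lim8

namespace Groth.Agent.S4786

open Groth.Agent.Lib.helper7.PC Groth.Agent.Lib.helper7.Lim8

/-- Let S = lim S_i be a cofiltered limit of schemes whose transition maps are affine and flat, let
S_{i₁} be a quasi-compact stage, and let Z' and Z'' be pro-constructible subsets of S_{i₁} such that
the closure of Z' is constructible. Then the preimage of Z'' in S is contained in the closure of the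
preimage of Z' in S if and only if there is an index j over i₁ such that the preimage of Z'' in S_j
is contained in the closure of the preimage of Z' in S_j. -/
theorem result {I : Type u} [SmallCategory I] [IsCofiltered I]
    (D : I ⥤ Scheme.{u}) (c : Limits.Cone D) (hc : Limits.IsLimit c)
    [∀ (i j : I) (f : i ⟶ j), IsAffineHom (D.map f)] (i₁ : I) [CompactSpace (D.obj i₁)]
    (hfl : ∀ (i j : I) (φ : i ⟶ j), Flat (D.map φ))
    (Z' Z'' : Set (D.obj i₁)) (hZ' : ProCons.IsProConstructible Z') (hZ'' : ProCons.IsProConstructible Z'')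
    (hcl : Topology.IsConstructible (closure Z')) :
    (⇑(c.π.app i₁) ⁻¹' Z'' : Set c.pt) ⊆ closure (⇑(c.π.app i₁) ⁻¹' Z' : Set c.pt) ↔
      ∃ (j : I) (φ : j ⟶ i₁), ⇑(D.map φ) ⁻¹' Z'' ⊆ closure (⇑(D.map φ) ⁻¹' Z') := by
  classical
  have : ∀ {i j : I} (f : i ⟶ j), IsAffineHom (D.map f) := fun f => inferInstance
  have hflat : ∀ (j : I), Flat (c.π.app j) := fun j =>
    flat_π_app D c hc j (fun k φ => hfl k j φ)
  constructor
  · intro hsub
    have := hflat i₁
    rw [closure_preimage_eq_of_flat (c.π.app i₁) hZ'] at hsub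
    have hG : ProCons.IsProConstructible (Z'' ∩ (closure Z')ᶜ) :=
      isProConstructible_inter hZ''
        (isProConstructible_of_isLocallyConstructible hcl.compl.isLocallyConstructible)
    have hempty : ⇑(c.π.app i₁) ⁻¹' (Z'' ∩ (closure Z')ᶜ) = ∅ := by
      rw [Set.eq_empty_iff_forall_notMem]
      rintro s ⟨hs1, hs2⟩
      exact hs2 (hsub hs1)
    obtain ⟨j, φ, hφ⟩ := exists_map_preimage_subset_compl D c hc i₁ _ hG hempty
    refine ⟨j, φ, ?_⟩
    have := hfl j i₁ φ
    rw [closure_preimage_eq_of_flat (D.map φ) hZ']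
    intro y hy
    by_contra hy'
    have : y ∈ ⇑(D.map φ) ⁻¹' (Z'' ∩ (closure Z')ᶜ) := ⟨hy, hy'⟩
    rw [hφ] at this
    exact this
  · rintro ⟨j, φ, hsub⟩
    have := hflat j
    have hpro : ProCons.IsProConstructible (⇑(D.map φ) ⁻¹' Z') :=
      Groth.Agent.Lib.helper23.ProConsLib.isProConstructible_preimage (D.map φ) _ hZ'
    have h1 := closure_preimage_eq_of_flat (c.π.app j) hpro
    rw [π_preimage_map_preimage D c φ Z'] at h1
    rw [h1, ← π_preimage_map_preimage D c φ Z'']
    exact Set.preimage_mono hsub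

end Groth.Agent.S4786
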