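import Groth.Statements.S4787
import Mathlib
import Groth.Agent.Lib.helper7.PC6

set_option autoImplicit false
universe u
open CategoryTheory AlgebraicGeometry
open Lim8

namespace Groth.Agent.S4787

open Groth.Agent.Lib.helper7.PC Groth.Agent.Lib.helper7.Lim8

/-- Let S = lim S_i be a cofiltered limit of schemes with affine transition maps, some stage S_{i₀}
being quasi-compact. For every index let E_i be a pro-constructible and F_i an ind-constructible
subset of S_i such that, for every transition map S_i ⟶ S_j, E_i lies in the preimage of E_j and F_i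
contains the preimage of F_j. Put E = ⋂ (preimage of E_i in S) and F = ⋃ (preimage of F_i in S).
Then E ⊆ F if and only if there is an index i over i₀ such that E_j ⊆ F_j for every j over i. -/
theorem result {I : Type u} [SmallCategory I] [IsCofiltered I]
    (D : I ⥤ Scheme.{u}) (c : Limits.Cone D) (hc : Limits.IsLimit c)
    [∀ (i j : I) (f : i ⟶ j), IsAffineHom (D.map f)] (i₀ : I)
    [CompactSpace (D.obj i₀)] (E F : ∀ i : I, Set (D.obj i))
    (hE : ∀ i, ProCons.IsProConstructible (E i)) (hF : ∀ i, ProCons.IsIndConstructible (F i))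
    (hEm : ∀ (i j : I) (φ : i ⟶ j), E i ⊆ ⇑(D.map φ) ⁻¹' E j)
    (hFm : ∀ (i j : I) (φ : i ⟶ j), ⇑(D.map φ) ⁻¹' F j ⊆ F i) :
    (⋂ i, ⇑(c.π.app i) ⁻¹' E i : Set c.pt) ⊆ (⋃ i, ⇑(c.π.app i) ⁻¹' F i : Set c.pt) ↔
      ∃ (i : I) (_ : i ⟶ i₀), ∀ (j : I) (_ : j ⟶ i), E j ⊆ F j := by
  classical
  have : ∀ {i j : I} (f : i ⟶ j), IsAffineHom (D.map f) := fun f => inferInstance
  constructor
  · intro hsub
    have hcpt : CompactSpace c.pt := compactSpace_pt D c hc i₀
    have hE' : ∀ i, ProCons.IsProConstructible (⇑(c.π.app i) ⁻¹' E i : Set c.pt) := fun i =>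
      Groth.Agent.Lib.helper23.ProConsLib.isProConstructible_preimage (c.π.app i) (E i) (hE i)
    have hF' : ∀ i, ProCons.IsIndConstructible (⇑(c.π.app i) ⁻¹' F i : Set c.pt) := fun i =>
      Groth.Agent.Lib.helper23.ProConsLib.isIndConstructible_preimage (c.π.app i) (F i) (hF i)
    obtain ⟨J, hJ⟩ := exists_finset_biInter_subset_of_isProConstructible
      (⋃ i, ⇑(c.π.app i) ⁻¹' F i) (isIndConstructible_iUnion hF')
      (fun i => ⇑(c.π.app i) ⁻¹' E i) hE' hsub
    have hEJ : ProCons.IsProConstructible (⋂ i ∈ J, ⇑(c.π.app i) ⁻¹' E i : Set c.pt) :=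
      isProConstructible_iInter fun i => isProConstructible_iInter fun _ => hE' i
    obtain ⟨K, hK⟩ := exists_finset_subset_biUnion_of_isProConstructible _ hEJ
      (fun i => ⇑(c.π.app i) ⁻¹' F i) hF' hJ
    obtain ⟨j₁, hj₁⟩ := IsCofiltered.inf_objs_exists (insert i₀ (J ∪ K))
    have a₀ : j₁ ⟶ i₀ := (hj₁ (Finset.mem_insert_self _ _)).some
    have : CompactSpace (D.obj j₁) := compactSpace_obj D a₀
    have hG : ProCons.IsProConstructible (E j₁ ∩ (F j₁)ᶜ) :=
      isProConstructible_inter (hE j₁) ((isProConstructible_compl_iff _).mpr (hF j₁))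
    have hempty : ⇑(c.π.app j₁) ⁻¹' (E j₁ ∩ (F j₁)ᶜ) = ∅ := by
      rw [Set.eq_empty_iff_forall_notMem]
      rintro s ⟨hsE, hsF⟩
      have h1 : s ∈ ⋂ i ∈ J, ⇑(c.π.app i) ⁻¹' E i := by
        refine Set.mem_iInter₂.mpr fun k hk => ?_
        obtain ⟨φ⟩ := hj₁ (Finset.mem_insert_of_mem (Finset.mem_union_left _ hk))
        have := hEm j₁ k φ hsE
        rw [Set.mem_preimage, π_app_apply] at this
        exact this
      obtain ⟨k, hk, hsk⟩ := Set.mem_iUnion₂.mp (hK h1)
      obtain ⟨φ⟩ := hj₁ (Finset.mem_insert_of_mem (Finset.mem_union_right _ hk))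
      apply hsF
      apply hFm j₁ k φ
      rw [Set.mem_preimage, π_app_apply]
      exact hsk
    obtain ⟨j₂, φ, hφ⟩ := exists_map_preimage_subset_compl D c hc j₁ _ hG hempty
    refine ⟨j₂, φ ≫ a₀, fun j b y hy => ?_⟩
    by_contra hyF
    have : D.map b y ∈ ⇑(D.map φ) ⁻¹' (E j₁ ∩ (F j₁)ᶜ) := by
      refine ⟨?_, ?_⟩
      · have := hEm j j₁ (b ≫ φ) hy
        rw [Set.mem_preimage, map_comp_apply] at this
        exact this
      · intro h
        apply hyF
        apply hFm j j₁ (b ≫ φ)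
        rw [Set.mem_preimage, map_comp_apply]
        exact h
    rw [hφ] at this
    exact this
  · rintro ⟨i, _, h⟩ s hs
    exact Set.mem_iUnion.mpr ⟨i, h i (𝟙 i) (Set.mem_iInter.mp hs i)⟩

end Groth.Agent.S4787
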