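import Groth.Statements.S4795
import Groth.Agent.Lib.helper11.LimIsoDescent

set_option autoImplicit false
universe u
open CategoryTheory AlgebraicGeometry
open Lim8

namespace Groth.Agent.S4795

/-- Let S = lim S_i be a cofiltered limit of schemes with affine transition maps and S_{i₀} a
quasi-compact quasi-separated stage; let X₀ and Y₀ be schemes of finite presentation over S_{i₀},
and let X, Y be their base changes along S ⟶ S_{i₀} (base changes are expressed by pullback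
squares). Then X and Y are isomorphic over S if and only if, for some index j over i₀, the base
changes X_j and Y_j of X₀ and Y₀ along S_j ⟶ S_{i₀} are isomorphic over S_j. -/
theorem result {I : Type u} [SmallCategory I] [IsCofiltered I]
    (D : I ⥤ Scheme.{u}) (c : Limits.Cone D) (hc : Limits.IsLimit c)
    [∀ (i j : I) (f : i ⟶ j), IsAffineHom (D.map f)] (i₀ : I)
    [CompactSpace (D.obj i₀)] [QuasiSeparatedSpace (D.obj i₀)]
    {X₀ Y₀ : Scheme.{u}} (a₀ : X₀ ⟶ D.obj i₀) (b₀ : Y₀ ⟶ D.obj i₀)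
    [LocallyOfFinitePresentation a₀] [QuasiCompact a₀] [QuasiSeparated a₀]
    [LocallyOfFinitePresentation b₀] [QuasiCompact b₀] [QuasiSeparated b₀]
    {X Y : Scheme.{u}} (a : X ⟶ c.pt) (b : Y ⟶ c.pt) (qX : X ⟶ X₀) (qY : Y ⟶ Y₀)
    (hX : IsPullback qX a a₀ (c.π.app i₀)) (hY : IsPullback qY b b₀ (c.π.app i₀)) :
    (∃ e : X ≅ Y, e.hom ≫ b = a) ↔
      ∃ (j : I) (φ : j ⟶ i₀) (Xj Yj : Scheme.{u}) (aj : Xj ⟶ D.obj j) (bj : Yj ⟶ D.obj j)
        (pX : Xj ⟶ X₀) (pY : Yj ⟶ Y₀), IsPullback pX aj a₀ (D.map φ) ∧ IsPullback pY bj b₀ (D.map φ) ∧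
        ∃ e : Xj ≅ Yj, e.hom ≫ bj = aj := by

  have hcomp : ∀ j : Over i₀, CompactSpace ((Over.forget i₀ ⋙ D).obj j) := fun j => by
    have : IsAffineHom (D.map j.hom) := ‹∀ (i j : I) (f : i ⟶ j), IsAffineHom (D.map f)› _ _ j.hom
    exact QuasiCompact.compactSpace_of_compactSpace (D.map j.hom)
  have hqs : ∀ j : Over i₀, QuasiSeparatedSpace ((Over.forget i₀ ⋙ D).obj j) := fun j => by
    have : IsAffineHom (D.map j.hom) := ‹∀ (i j : I) (f : i ⟶ j), IsAffineHom (D.map f)› _ _ j.hom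
    exact quasiSeparatedSpace_of_quasiSeparated (D.map j.hom)
  have haff : ∀ (i j : Over i₀) (φ : i ⟶ j), IsAffineHom ((Over.forget i₀ ⋙ D).map φ) :=
    fun i j φ => ‹∀ (i j : I) (f : i ⟶ j), IsAffineHom (D.map f)› _ _ φ.left
  constructor
  · rintro ⟨e, he⟩
    let isoX : X ≅ Limits.pullback (c.π.app i₀) a₀ := hX.flip.isoPullback
    have hisoX1 : isoX.hom ≫ Limits.pullback.fst (c.π.app i₀) a₀ = a := hX.flip.isoPullback_hom_fst
    let isoY : Y ≅ Limits.pullback (c.π.app i₀) b₀ := hY.flip.isoPullback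
    have hisoY1 : isoY.hom ≫ Limits.pullback.fst (c.π.app i₀) b₀ = b := hY.flip.isoPullback_hom_fst
    let e' : Limits.pullback (c.π.app i₀) a₀ ⟶ Limits.pullback (c.π.app i₀) b₀ := isoX.inv ≫ e.hom ≫ isoY.hom
    have he' : e' ≫ Limits.pullback.fst (c.π.app i₀) b₀ = Limits.pullback.fst (c.π.app i₀) a₀ := by
      show (isoX.inv ≫ e.hom ≫ isoY.hom) ≫ _ = _
      rw [Category.assoc, Category.assoc, hisoY1, he, Iso.inv_comp_eq, hisoX1]
    have : IsIso e' := by show IsIso (isoX.inv ≫ e.hom ≫ isoY.hom); infer_instance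
    obtain ⟨j, ej, hej, hej1⟩ := Groth.Agent.Lib.helper11.LimIsoDescent.iso_descent_tau
      (Over.forget i₀ ⋙ D) (fun j => D.map j.hom)
      (fun {j k} φ => by
        show D.map φ.left ≫ D.map k.hom = D.map j.hom
        rw [← D.map_comp, Over.w φ])
      (c.whisker (Over.forget i₀))
      ((Functor.Initial.isLimitWhiskerEquiv (Over.forget i₀) c).symm hc) (c.π.app i₀)
      (fun j => c.w j.hom) a₀ b₀ e' he'
    exact ⟨j.left, j.hom, Limits.pullback (D.map j.hom) a₀, Limits.pullback (D.map j.hom) b₀,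
      Limits.pullback.fst (D.map j.hom) a₀, Limits.pullback.fst (D.map j.hom) b₀,
      Limits.pullback.snd (D.map j.hom) a₀, Limits.pullback.snd (D.map j.hom) b₀,
      (IsPullback.of_hasPullback _ _).flip, (IsPullback.of_hasPullback _ _).flip,
      @asIso _ _ _ _ ej hej, hej1⟩
  · rintro ⟨j, φ, Xj, Yj, aj, bj, pX, pY, hXj, hYj, e, he⟩
    have hcX : qX ≫ a₀ = (a ≫ c.π.app j) ≫ D.map φ := by rw [Category.assoc, c.w, hX.w]
    have hcY : qY ≫ b₀ = (b ≫ c.π.app j) ≫ D.map φ := by rw [Category.assoc, c.w, hY.w]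
    let rX : X ⟶ Xj := hXj.lift qX (a ≫ c.π.app j) hcX
    let rY : Y ⟶ Yj := hYj.lift qY (b ≫ c.π.app j) hcY
    have hrX1 : rX ≫ pX = qX := hXj.lift_fst _ _ _
    have hrX2 : rX ≫ aj = a ≫ c.π.app j := hXj.lift_snd _ _ _
    have hrY1 : rY ≫ pY = qY := hYj.lift_fst _ _ _
    have hrY2 : rY ≫ bj = b ≫ c.π.app j := hYj.lift_snd _ _ _
    have sqX : IsPullback rX a aj (c.π.app j) := by
      refine IsPullback.of_right ?_ hrX2 hXj
      rw [hrX1, c.w]; exact hX
    have sqY : IsPullback rY b bj (c.π.app j) := by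
      refine IsPullback.of_right ?_ hrY2 hYj
      rw [hrY1, c.w]; exact hY
    have c1 : (rX ≫ e.hom) ≫ bj = a ≫ c.π.app j := by rw [Category.assoc, he, hrX2]
    have he' : e.inv ≫ aj = bj := by rw [Iso.inv_comp_eq, he]
    have c2 : (rY ≫ e.inv) ≫ aj = b ≫ c.π.app j := by rw [Category.assoc, he', hrY2]
    refine ⟨⟨sqY.lift (rX ≫ e.hom) a c1, sqX.lift (rY ≫ e.inv) b c2, ?_, ?_⟩, sqY.lift_snd _ _ _⟩
    · apply sqX.hom_ext
      · rw [Category.assoc, sqX.lift_fst, ← Category.assoc, sqY.lift_fst, Category.assoc,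
          Iso.hom_inv_id, Category.comp_id, Category.id_comp]
      · rw [Category.assoc, sqX.lift_snd, sqY.lift_snd, Category.id_comp]
    · apply sqY.hom_ext
      · rw [Category.assoc, sqY.lift_fst, ← Category.assoc, sqX.lift_fst, Category.assoc,
          Iso.inv_hom_id, Category.comp_id, Category.id_comp]
      · rw [Category.assoc, sqY.lift_snd, sqX.lift_snd, Category.id_comp]

end Groth.Agent.S4795
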