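import Groth.Statements.S4800
import Groth.Agent.Lib.helper7.Lim8d
import Groth.Agent.Lib.helper11.LimPB
import Groth.Agent.Lib.helper11.DomFlat

set_option autoImplicit false
universe u
open CategoryTheory AlgebraicGeometry
open Lim8

namespace Groth.Agent.S4800

open CategoryTheory.Limits Groth.Agent.Lib.helper11 in
theorem result {I : Type u} [SmallCategory I] [IsCofiltered I]
    (D : I ⥤ Scheme.{u}) (c : Limits.Cone D) (hc : Limits.IsLimit c)
    [∀ (i j : I) (f : i ⟶ j), IsAffineHom (D.map f)] (i₀ : I) [CompactSpace (D.obj i₀)]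
    (hfl : ∀ (i j : I) (φ : i ⟶ j), Flat (D.map φ))
    {X₀ Y₀ : Scheme.{u}} (f₀ : X₀ ⟶ Y₀) (g₀ : Y₀ ⟶ D.obj i₀)
    [QuasiCompact (f₀ ≫ g₀)] [QuasiCompact g₀] [QuasiSeparated g₀]
    (hcl : Topology.IsConstructible (closure (Set.range ⇑f₀)))
    {X Y : Scheme.{u}} (f : X ⟶ Y) (g : Y ⟶ c.pt) (qY : Y ⟶ Y₀) (qX : X ⟶ X₀)
    (hY : IsPullback qY g g₀ (c.π.app i₀)) (hX : IsPullback qX f f₀ qY) :
    IsDominant f ↔ ∃ (j : I) (φ : j ⟶ i₀) (Xj Yj : Scheme.{u}) (fj : Xj ⟶ Yj) (gj : Yj ⟶ D.obj j)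
      (pY : Yj ⟶ Y₀) (pX : Xj ⟶ X₀), IsPullback pY gj g₀ (D.map φ) ∧ IsPullback pX fj f₀ pY ∧
      IsDominant fj := by
  haveI : ∀ {i j : I} (f : i ⟶ j), IsAffineHom (D.map f) := fun f => inferInstance
  haveI hqc : QuasiCompact f₀ := QuasiCompact.of_comp f₀ g₀
  have hflπ : Flat (c.π.app i₀) :=
    Groth.Agent.Lib.helper7.Lim8.flat_π_app D c hc i₀ (fun j φ => hfl j i₀ φ)
  haveI hflq : Flat qY := MorphismProperty.of_isPullback (P := @Flat) hY.flip hflπ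
  constructor
  · intro hd
    have h1 := (DomFlat.isDominant_iff_of_flat f₀ qY f qX hX).mp hd
    -- the system of base changes of `Y₀`
    let E : Over i₀ ⥤ Scheme.{u} := Over.forget i₀ ⋙ D
    let cE : Cone E := c.whisker (Over.forget i₀)
    have hcE : IsLimit cE := (Functor.Initial.isLimitWhiskerEquiv (Over.forget i₀) c).symm hc
    let τ : ∀ j : Over i₀, E.obj j ⟶ D.obj i₀ := fun j => D.map j.hom
    have hτ : ∀ {j k : Over i₀} (ψ : j ⟶ k), E.map ψ ≫ τ k = τ j := by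
      intro j k ψ
      show D.map ψ.left ≫ D.map k.hom = D.map j.hom
      rw [← D.map_comp, Over.w]
    let p : cE.pt ⟶ D.obj i₀ := c.π.app i₀
    have hp : ∀ j, cE.π.app j ≫ τ j = p := fun j => c.w j.hom
    haveI hAE : ∀ (j k : Over i₀) (ψ : j ⟶ k), IsAffineHom (E.map ψ) :=
      fun j k ψ => inferInstanceAs (IsAffineHom (D.map ψ.left))
    let YS := LimPB.XS E τ hτ g₀
    let cY := LimPB.cX E τ hτ cE p hp g₀
    have hcY : IsLimit cY := LimPB.hcX E τ hτ cE hcE p hp g₀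
    haveI hAY : ∀ {j k : Over i₀} (ψ : j ⟶ k), IsAffineHom (YS.map ψ) :=
      fun ψ => LimPB.isAffineHom_map E τ hτ g₀ ψ
    let k₀ : Over i₀ := Over.mk (𝟙 i₀)
    haveI : CompactSpace (E.obj k₀) := by
      show CompactSpace (D.obj i₀); infer_instance
    haveI hcpt : CompactSpace (YS.obj k₀) := LimPB.compactSpace_obj E τ hτ g₀ k₀
    let sk : YS.obj k₀ ⟶ Y₀ := pullback.snd (τ k₀) g₀
    let Z' : Set (YS.obj k₀) := sk ⁻¹' (closure (Set.range ⇑f₀))ᶜ
    have hZ' : Topology.IsConstructible Z' := sk.isConstructible_preimage hcl.compl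
    let eY : Y ≅ cY.pt := hY.flip.isoPullback
    have heY2 : eY.hom ≫ pullback.snd p g₀ = qY := hY.flip.isoPullback_hom_snd
    have H : ⇑(cY.π.app k₀) ⁻¹' (Z' ∩ ((⊤ : (YS.obj k₀).Opens) : Set (YS.obj k₀))) ⊆
        ⇑(cY.π.app k₀) ⁻¹' ((⊥ : (YS.obj k₀).Opens) : Set (YS.obj k₀)) := by
      rintro s ⟨hs, -⟩
      exfalso
      apply hs
      let s' : ↥(pullback p g₀) := s
      let πk : pullback p g₀ ⟶ YS.obj k₀ := cY.π.app k₀
      have e2 : πk ≫ sk = pullback.snd p g₀ := LimPB.π_snd E τ hτ cE p hp g₀ k₀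
      have e4 : eY.inv ≫ qY = pullback.snd p g₀ := by rw [← heY2, Iso.inv_hom_id_assoc]
      have key : sk (πk s') = qY (eY.inv s') := by
        calc sk (πk s') = (πk ≫ sk) s' := rfl
          _ = (pullback.snd p g₀) s' := by rw [e2]
          _ = (eY.inv ≫ qY) s' := by rw [e4]; rfl
          _ = qY (eY.inv s') := rfl
      exact (congrArg (· ∈ closure (Set.range ⇑f₀)) key).mpr (h1 _)
    obtain ⟨j, ψ, hj⟩ := Groth.Agent.Lib.helper7.Lim8.exists_map_preimage_inter_subset YS cY hcY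
      hZ' ⊤ ⊥ isCompact_univ H
    let pY : YS.obj j ⟶ Y₀ := pullback.snd (τ j) g₀
    haveI : Flat pY :=
      MorphismProperty.pullback_snd (P := @Flat) _ _ (hfl j.left i₀ j.hom)
    refine ⟨j.left, j.hom, pullback f₀ pY, YS.obj j, pullback.snd f₀ pY, pullback.fst (τ j) g₀,
      pY, pullback.fst f₀ pY, (IsPullback.of_hasPullback (τ j) g₀).flip,
      IsPullback.of_hasPullback f₀ pY, ?_⟩
    refine (DomFlat.isDominant_iff_of_flat f₀ pY _ _ (IsPullback.of_hasPullback f₀ pY)).mpr ?_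
    intro y
    by_contra hy
    have hmem : y ∈ ⇑(YS.map ψ) ⁻¹' (Z' ∩ ((⊤ : (YS.obj k₀).Opens) : Set (YS.obj k₀))) := by
      refine ⟨?_, trivial⟩
      show sk (YS.map ψ y) ∈ (closure (Set.range ⇑f₀))ᶜ
      have e1 : sk (YS.map ψ y) = (YS.map ψ ≫ sk) y := rfl
      have e2 : YS.map ψ ≫ sk = pY := LimPB.map_snd E τ hτ g₀ ψ
      rw [e1, e2]
      exact hy
    exact (hj hmem : YS.map ψ y ∈ (⊥ : (YS.obj k₀).Opens))
  · rintro ⟨j, φ, Xj, Yj, fj, gj, pY, pX, hYj, hXj, hdj⟩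
    haveI : Flat pY := MorphismProperty.of_isPullback (P := @Flat) hYj.flip (hfl j i₀ φ)
    have h1 := (DomFlat.isDominant_iff_of_flat f₀ pY fj pX hXj).mp hdj
    let t : Y ⟶ Yj := hYj.lift qY (g ≫ c.π.app j) (by rw [hY.w, Category.assoc, c.w])
    have ht : t ≫ pY = qY := hYj.lift_fst _ _ _
    refine (DomFlat.isDominant_iff_of_flat f₀ qY f qX hX).mpr (fun y => ?_)
    rw [← ht]
    exact h1 (t y)

end Groth.Agent.S4800
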