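import Groth.Statements.S4801
import Mathlib
import Groth.Agent.Lib.helper24.GenFreeG

set_option autoImplicit false
universe u
open TensorProduct
open Cons9

namespace Groth.Agent.S4801

open Groth.Agent.Lib.helper24.GenFree in

/-- Let R be an integral domain with fraction field K, B an R-algebra of finite presentation, F, G, H
three B-modules of finite presentation and u : F → G, v : G → H homomorphisms of B-modules such that
the generic fibre sequence K ⊗_R F → K ⊗_R G → K ⊗_R H is exact. Then there is a nonzero f ∈ R such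
that, for every prime ideal p of R with f ∉ p, the fibre sequence κ(p) ⊗_R F → κ(p) ⊗_R G → κ(p) ⊗_R
H is exact. Affine form: S = Spec R, X = Spec B with B a finitely presented R-algebra, the modules
finitely presented B-modules, and the fibre of a module M at a prime p taken as κ(p) ⊗_R M; the
published statement, for a morphism of finite presentation and quasi-coherent modules of finite
presentation, is local on S and on X and reduces to this one. -/
theorem result {R B : Type u} [CommRing R] [IsDomain R]
    [CommRing B] [Algebra R B] [Algebra.FinitePresentation R B]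
    {F G H : Type u} [AddCommGroup F] [Module B F] [Module R F] [IsScalarTower R B F] [Module.FinitePresentation B F]
    [AddCommGroup G] [Module B G] [Module R G] [IsScalarTower R B G] [Module.FinitePresentation B G]
    [AddCommGroup H] [Module B H] [Module R H] [IsScalarTower R B H] [Module.FinitePresentation B H]
    (u : F →ₗ[B] G) (v : G →ₗ[B] H)
    (hgen : Function.Exact ((u.restrictScalars R).baseChange (FractionRing R)) ((v.restrictScalars R).baseChange (FractionRing R))) :
    ∃ f : R, f ≠ 0 ∧ ∀ p : PrimeSpectrum R, f ∉ p.asIdeal →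
      Function.Exact ((u.restrictScalars R).baseChange p.asIdeal.ResidueField) ((v.restrictScalars R).baseChange p.asIdeal.ResidueField) := by
  classical
  have hlocK : ∀ (W : Type u) [AddCommGroup W] [Module R W],
      IsLocalizedModule (nonZeroDivisors R) (TensorProduct.mk R (FractionRing R) W 1) :=
    fun W _ _ => (isLocalizedModule_iff_isBaseChange (nonZeroDivisors R) (FractionRing R) _).mpr
      (TensorProduct.isBaseChange R W (FractionRing R))
  haveI := hlocK F
  haveI := hlocK G
  haveI := hlocK H
  -- (a')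
  obtain ⟨fH, hfH, hH⟩ := genBasis_of_finiteType (R := R) (S := B) H
  have ha : ∀ x : F, ∃ k : ℕ, fH ^ k • v (u x) = 0 := by
    intro x
    have h0 : (1 : FractionRing R) ⊗ₜ[R] v (u x) = 0 := by
      have := hgen.apply_apply_eq_zero ((1 : FractionRing R) ⊗ₜ[R] x)
      simpa using this
    obtain ⟨c, hc⟩ := (IsLocalizedModule.eq_zero_iff (nonZeroDivisors R)
      (TensorProduct.mk R (FractionRing R) H 1)).mp h0
    exact hH.torsion (nonZeroDivisors.ne_zero c.2) hc
  -- (b')
  obtain ⟨f₁, hf₁, Z', hZ'le, hZ'fg, hZ'tors⟩ :=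
    exists_fg_le_of_finiteType (R := R) (S := B) (LinearMap.ker v)
  obtain ⟨T, hT⟩ := hZ'fg
  have hTc : ∀ z ∈ T, ∃ c : R, c ≠ 0 ∧ c • z ∈ LinearMap.range u := by
    intro z hz
    have hzker : v z = 0 := hZ'le (by rw [← hT]; exact Submodule.subset_span hz)
    have h0 : ((v.restrictScalars R).baseChange (FractionRing R))
        ((1 : FractionRing R) ⊗ₜ[R] z) = 0 := by
      simp [hzker]
    obtain ⟨ξ, hξ⟩ := (hgen _).mp h0
    obtain ⟨⟨x, s⟩, hs⟩ := IsLocalizedModule.surj (nonZeroDivisors R)
      (TensorProduct.mk R (FractionRing R) F 1) ξ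
    simp only [TensorProduct.mk_apply, Submonoid.smul_def] at hs
    have h1 : (1 : FractionRing R) ⊗ₜ[R] ((s : R) • z - u x) = 0 := by
      have e1 : ((u.restrictScalars R).baseChange (FractionRing R)) ((s : R) • ξ) =
          (1 : FractionRing R) ⊗ₜ[R] ((s : R) • z) := by
        rw [LinearMap.map_smul_of_tower, hξ, TensorProduct.tmul_smul]
      rw [hs] at e1
      rw [TensorProduct.tmul_sub, ← e1]
      simp
    obtain ⟨t, ht⟩ := (IsLocalizedModule.eq_zero_iff (nonZeroDivisors R)
      (TensorProduct.mk R (FractionRing R) G 1)).mp h1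
    rw [Submonoid.smul_def, smul_sub, sub_eq_zero] at ht
    refine ⟨(t : R) * (s : R), mul_ne_zero (nonZeroDivisors.ne_zero t.2)
      (nonZeroDivisors.ne_zero s.2), ⟨(t : R) • x, ?_⟩⟩
    rw [mul_smul, ht, LinearMap.map_smul_of_tower]
  choose! cz hcz0 hczu using hTc
  set c : R := ∏ z ∈ T, cz z with hc
  have hc0 : c ≠ 0 := Finset.prod_ne_zero_iff.mpr hcz0
  have hcZ' : ∀ y ∈ Z', c • y ∈ LinearMap.range u := by
    intro y hy
    rw [← hT] at hy
    induction hy using Submodule.span_induction with
    | mem z hz =>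
      have : c = (∏ w ∈ T.erase z, cz w) * cz z := by
        rw [hc, Finset.prod_erase_mul _ _ hz]
      rw [this, mul_smul]
      exact (LinearMap.range u).smul_of_tower_mem _ (hczu z hz)
    | zero => rw [smul_zero]; exact Submodule.zero_mem _
    | add a b _ _ ha hb => rw [smul_add]; exact Submodule.add_mem _ ha hb
    | smul b a _ ha => rw [smul_comm]; exact Submodule.smul_mem _ _ ha
  have hb : ∀ y : G, v y = 0 → ∃ k : ℕ, (c * f₁) ^ k • y ∈ LinearMap.range u := by
    intro y hy
    obtain ⟨k, hk⟩ := hZ'tors y hy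
    refine ⟨k + 1, ?_⟩
    have e1 : (c * f₁) ^ (k + 1) • y = (c ^ k * f₁) • (c • (f₁ ^ k • y)) := by
      rw [smul_smul, smul_smul]; congr 1; ring
    rw [e1]
    exact (LinearMap.range u).smul_of_tower_mem _ (hcZ' _ hk)
  -- (c')
  obtain ⟨fC, hfC, hC⟩ := genBasis_of_finiteType (R := R) (S := B) (H ⧸ LinearMap.range v)
  set f : R := fH * (c * f₁) * fC with hf
  have hf0 : f ≠ 0 := mul_ne_zero (mul_ne_zero hfH (mul_ne_zero hc0 hf₁)) hfC
  have ha' : ∀ x : F, ∃ k : ℕ, f ^ k • (v.restrictScalars R) ((u.restrictScalars R) x) = 0 := by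
    intro x
    obtain ⟨k, hk⟩ := ha x
    refine ⟨k, ?_⟩
    have e1 : f ^ k = ((c * f₁) * fC) ^ k * fH ^ k := by rw [hf, ← mul_pow]; congr 1; ring
    rw [e1, mul_smul]
    simp only [LinearMap.restrictScalars_apply]
    rw [hk, smul_zero]
  have hb' : ∀ y : G, (v.restrictScalars R) y = 0 →
      ∃ (k : ℕ) (x : F), f ^ k • y = (u.restrictScalars R) x := by
    intro y hy
    obtain ⟨k, hk⟩ := hb y hy
    have e1 : f ^ k = (fH * fC) ^ k * (c * f₁) ^ k := by rw [hf, ← mul_pow]; congr 1; ring
    have : f ^ k • y ∈ LinearMap.range u := by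
      rw [e1, mul_smul]
      exact (LinearMap.range u).smul_of_tower_mem _ hk
    obtain ⟨x, hx⟩ := this
    exact ⟨k, x, hx.symm⟩
  have hc' : GenBasis f (H ⧸ LinearMap.range (v.restrictScalars R)) := by
    have h1 : GenBasis f (H ⧸ LinearMap.range v) := by
      have := hC.mul_left (fH * (c * f₁))
      exact this
    have e : (H ⧸ LinearMap.range v) ≃ₗ[R] (H ⧸ LinearMap.range (v.restrictScalars R)) :=
      (Submodule.Quotient.restrictScalarsEquiv R (LinearMap.range v)).symm ≪≫ₗ
        Submodule.quotEquivOfEq _ _ (by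
          ext x; simp)
    exact h1.of_equiv e
  refine ⟨f, hf0, fun p hp => ?_⟩
  have hκ : IsUnit (algebraMap R p.asIdeal.ResidueField f) := by
    rw [isUnit_iff_ne_zero]
    intro h0
    exact hp ((Ideal.algebraMap_residueField_eq_zero).mp h0)
  exact exact_lTensor_of_generic f (u.restrictScalars R) (v.restrictScalars R) ha' hb' hc'
    p.asIdeal.ResidueField hκ

end Groth.Agent.S4801
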