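import Groth.Statements.S4806
import Mathlib
import Groth.Agent.S3042

set_option autoImplicit false
universe u
open CategoryTheory AlgebraicGeometry
open Lim8

namespace Groth.Agent.S4806

section Helpers

open AlgebraicGeometry CategoryTheory Limits MorphismProperty

theorem isEmpty_or_isIso_of_isClosedImmersion_field {Z : Scheme.{u}} (K : CommRingCat.{u})
    (hK : IsField K) (g : Z ⟶ Spec K) [IsClosedImmersion g] : IsEmpty Z ∨ IsIso g := by
  letI := hK.toField
  obtain ⟨hZ, hs⟩ := IsClosedImmersion.isAffine_surjective_of_isAffine g
  by_cases h : IsEmpty Z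
  · exact Or.inl h
  · right
    rw [not_isEmpty_iff] at h
    haveI : Nontrivial Γ(Z, ⊤) := by
      obtain ⟨z⟩ := h
      haveI : Nonempty (⊤ : Z.Opens) := ⟨⟨z, trivial⟩⟩
      exact Scheme.component_nontrivial Z ⊤
    have hinj : Function.Injective g.appTop.hom := by
      have h1 : Function.Injective
          ((Scheme.ΓSpecIso K).inv ≫ g.appTop).hom :=
        RingHom.injective _
      intro a b hab
      have ha := (ConcreteCategory.bijective_of_isIso (Scheme.ΓSpecIso K).inv).2 a
      have hb := (ConcreteCategory.bijective_of_isIso (Scheme.ΓSpecIso K).inv).2 b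
      obtain ⟨a', rfl⟩ := ha
      obtain ⟨b', rfl⟩ := hb
      congr 1
      apply h1
      exact hab
    have : IsIso g.appTop := by
      rw [ConcreteCategory.isIso_iff_bijective]
      exact ⟨hinj, hs⟩
    exact (HasAffineProperty.iff_of_isAffine (P := isomorphisms Scheme)).mpr ⟨hZ, this⟩

theorem main {X Y : Scheme.{u}} (f : X ⟶ Y) [IsProper f] [LocallyOfFinitePresentation f] :
    IsClosedImmersion f ↔
      ∀ y : Y, IsEmpty (f.fiber y) ∨ IsIso (f.fiberToSpecResidueField y) := by
  constructor
  · intro h y
    haveI : IsClosedImmersion (f.fiberToSpecResidueField y) :=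
      MorphismProperty.pullback_snd (P := @IsClosedImmersion) _ _ h
    exact isEmpty_or_isIso_of_isClosedImmersion_field _ (Field.toIsField _) (f.fiberToSpecResidueField y)
  · intro H
    rw [IsClosedImmersion.iff_isProper_and_mono]
    refine ⟨inferInstance, ?_⟩
    rw [Groth.Agent.S3042.main X Y f]
    intro y
    rcases H y with h | h
    · constructor
      intro T a b _
      haveI : IsEmpty T := ⟨fun t => h.elim (a t)⟩
      exact isInitialOfIsEmpty.hom_ext a b
    · infer_instance

end Helpers

/-- Let f : X ⟶ Y be a proper morphism of finite presentation. Then f is a closed immersion if and only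
if, for every point y of Y, the scheme-theoretic fibre of f at y is empty or its structure morphism
to Spec κ(y) is an isomorphism. -/
theorem result {X Y : Scheme.{u}} (f : X ⟶ Y) [IsProper f]
    [LocallyOfFinitePresentation f] :
    IsClosedImmersion f ↔ ∀ y : Y, IsEmpty (f.fiber y) ∨ IsIso (f.fiberToSpecResidueField y) := by
  exact main f

end Groth.Agent.S4806
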