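import Groth.Statements.S4808
import Mathlib
import Groth.Agent.S4809

set_option autoImplicit false
universe u
open CategoryTheory AlgebraicGeometry
open Lim8

namespace Groth.Agent.S4808

section Helpers

theorem main {Y' Y : Scheme.{u}} [IsIntegral Y'] [IsIntegral Y]
    (hN : ∀ y : Y, IsIntegrallyClosed (Y.presheaf.stalk y)) (u : Y' ⟶ Y) [IsFinite u]
    (hgen : u (genericPoint Y') = genericPoint Y)
    (hbir : IsIso (u.stalkMap (genericPoint Y'))) : IsIso u := by
  have hoi : IsOpenImmersion u := (Groth.Agent.S4809.result hN u hgen hbir).2 inferInstance
  apply isIso_of_isOpenImmersion_of_opensRange_eq_top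
  apply TopologicalSpace.Opens.ext
  rw [Scheme.Hom.coe_opensRange]
  have hcl : IsClosed (Set.range u) := u.isClosedMap.isClosed_range
  have hη : genericPoint Y ∈ Set.range u := ⟨genericPoint Y', hgen⟩
  have h1 := hcl.closure_subset_iff.2 (Set.singleton_subset_iff.2 hη)
  rw [(genericPoint_spec Y).def] at h1
  exact Set.eq_univ_of_univ_subset h1

end Helpers


/-- Let Y' and Y be integral schemes, Y normal (every local ring of Y is integrally closed), and u : Y'
⟶ Y a finite morphism which is birational: u maps the generic point of Y' to the generic point of Y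
and the stalk map of u at the generic point of Y', which is the induced homomorphism of function
fields, is an isomorphism. Then u is an isomorphism. -/
theorem result {Y' Y : Scheme.{u}} [IsIntegral Y'] [IsIntegral Y]
    (hN : ∀ y : Y, IsIntegrallyClosed (Y.presheaf.stalk y)) (u : Y' ⟶ Y) [IsFinite u]
    (hgen : u (genericPoint Y') = genericPoint Y)
    (hbir : IsIso (u.stalkMap (genericPoint Y'))) : IsIso u := by
  exact main hN u hgen hbir

end Groth.Agent.S4808
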