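import Groth.Statements.S4816
import Groth.Agent.Lib.helper11.ImmFactor

set_option autoImplicit false
universe u
open CategoryTheory AlgebraicGeometry
open Lim8

namespace Groth.Agent.S4816

open CategoryTheory.Limits in
/-- Let S = lim S_i be a cofiltered limit of schemes with affine transition maps and S_{i₀} a
quasi-compact stage; let ι₁ : Z₁ ⟶ S_{i₀} and ι₂ : Z₂ ⟶ S_{i₀} be two subschemes of finite
presentation of S_{i₀} (immersions which are locally of finite presentation and quasi-compact), with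
base changes Z₁ ×_{S_{i₀}} T ⟶ T to T = S and to T = S_j. Then Z₁ ×_{S_{i₀}} S is a subscheme of Z₂
×_{S_{i₀}} S (its immersion into S factors through that of Z₂ ×_{S_{i₀}} S) if and only if, for some
index j over i₀, Z₁ ×_{S_{i₀}} S_j is a subscheme of Z₂ ×_{S_{i₀}} S_j. -/
theorem result {I : Type u} [SmallCategory I] [IsCofiltered I]
    (D : I ⥤ Scheme.{u}) (c : Limits.Cone D) (hc : Limits.IsLimit c)
    [∀ (i j : I) (f : i ⟶ j), IsAffineHom (D.map f)] (i₀ : I) [CompactSpace (D.obj i₀)]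
    {Z₁ Z₂ : Scheme.{u}} (ι₁ : Z₁ ⟶ D.obj i₀) (ι₂ : Z₂ ⟶ D.obj i₀)
    [IsImmersion ι₁] [LocallyOfFinitePresentation ι₁] [QuasiCompact ι₁]
    [IsImmersion ι₂] [LocallyOfFinitePresentation ι₂] [QuasiCompact ι₂] :
    (∃ k : pullback ι₁ (c.π.app i₀) ⟶ pullback ι₂ (c.π.app i₀),
        k ≫ pullback.snd ι₂ (c.π.app i₀) = pullback.snd ι₁ (c.π.app i₀)) ↔
      ∃ (j : I) (φ : j ⟶ i₀) (k : pullback ι₁ (D.map φ) ⟶ pullback ι₂ (D.map φ)),
        k ≫ pullback.snd ι₂ (D.map φ) = pullback.snd ι₁ (D.map φ) := by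

  have hZ₁ : CompactSpace Z₁ := QuasiCompact.compactSpace_of_compactSpace ι₁
  have hf₀ : LocallyOfFinitePresentation (Limits.pullback.fst ι₁ ι₂) := inferInstance
  have hqc : QuasiCompact (Limits.pullback.fst ι₁ ι₂) := inferInstance
  have hqs : QuasiSeparated (Limits.pullback.fst ι₁ ι₂) := inferInstance
  constructor
  · intro h
    have h1 := (Groth.Agent.Lib.helper11.ImmFactor.exists_fac_iff (c.π.app i₀) ι₁ ι₂).mp h
    have a1 : ∀ (i j : Over i₀) (a : i ⟶ j),
        IsAffineHom ((Groth.Agent.Lib.helper11.LimPullback.D' D i₀ ι₁).map a) :=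
      fun i j a => Groth.Agent.Lib.helper11.LimPullback.isAffineHom_map D i₀ ι₁ a
    have a2 : ∀ j : Over i₀, CompactSpace ((Groth.Agent.Lib.helper11.LimPullback.D' D i₀ ι₁).obj j) :=
      fun j => Groth.Agent.Lib.helper11.LimPullback.compactSpace_obj D i₀ ι₁ j
    obtain ⟨j, hj⟩ := Groth.Agent.Lib.helper11.LimDescend2.core_tau_compact
      (P := MorphismProperty.isomorphisms Scheme.{u})
      (Groth.Agent.Lib.helper11.LimPullback.D' D i₀ ι₁) (fun j => Limits.pullback.snd (D.map j.hom) ι₁)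
      (fun φ => Groth.Agent.Lib.helper11.LimPullback.map_snd D i₀ ι₁ φ)
      (Groth.Agent.Lib.helper11.LimPullback.c' D c i₀ ι₁)
      (Groth.Agent.Lib.helper11.LimPullback.hc' D c hc i₀ ι₁) (Limits.pullback.snd (c.π.app i₀) ι₁)
      (fun j => Groth.Agent.Lib.helper11.LimPullback.π_snd D c i₀ ι₁ j) (Limits.pullback.fst ι₁ ι₂)
      Groth.Agent.Lib.helper11.LimCompact.qcqsCore_isIso hf₀ h1
    obtain ⟨k, hk⟩ := (Groth.Agent.Lib.helper11.ImmFactor.exists_fac_iff (D.map j.hom) ι₁ ι₂).mpr hj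
    exact ⟨j.left, j.hom, k, hk⟩
  · rintro ⟨j, φ, k, hk⟩
    have hm : Limits.pullback.fst ι₁ (c.π.app i₀) ≫ ι₁ =
        (Limits.pullback.snd ι₁ (c.π.app i₀) ≫ c.π.app j) ≫ D.map φ := by
      rw [Category.assoc, c.w, Limits.pullback.condition]
    let m : Limits.pullback ι₁ (c.π.app i₀) ⟶ Limits.pullback ι₁ (D.map φ) :=
      Limits.pullback.lift (Limits.pullback.fst ι₁ (c.π.app i₀)) (Limits.pullback.snd ι₁ (c.π.app i₀) ≫ c.π.app j) hm
    have hm2 : m ≫ Limits.pullback.snd ι₁ (D.map φ) = Limits.pullback.snd ι₁ (c.π.app i₀) ≫ c.π.app j :=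
      Limits.pullback.lift_snd _ _ _
    have hc' : (m ≫ k ≫ Limits.pullback.fst ι₂ (D.map φ)) ≫ ι₂ =
        Limits.pullback.snd ι₁ (c.π.app i₀) ≫ c.π.app i₀ := by
      rw [Category.assoc, Category.assoc, Limits.pullback.condition, ← Category.assoc k, hk,
        ← Category.assoc, hm2, Category.assoc, c.w]
    exact ⟨Limits.pullback.lift _ (Limits.pullback.snd ι₁ (c.π.app i₀)) hc', Limits.pullback.lift_snd _ _ _⟩

end Groth.Agent.S4816
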