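import Groth.Statements.S4834
import Mathlib

set_option autoImplicit false
open CategoryTheory CategoryTheory.Limits
universe u
open Lim8

namespace Groth.Agent.S4834

/-- Let A be a commutative ring, M an A-module of finite type and (N_λ) an inductive system of A-modules
indexed by a nonempty directed preordered set. Then the canonical map colim_λ Hom_A(M, N_λ) →
Hom_A(M, colim_λ N_λ), sending a compatible system of homomorphisms to its inductive limit, is
injective. This is the finite type case, in the form its proof gives. -/
theorem result {A : Type u} [CommRing A] (M : ModuleCat.{u} A)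
    [Module.Finite A M] {J : Type u} [Preorder J] [IsDirected J (· ≤ ·)] [Nonempty J]
    (N : J ⥤ ModuleCat.{u} A) :
    Function.Injective (colimit.post N (coyoneda.obj (Opposite.op M))) := by
  classical
  set F := N ⋙ coyoneda.obj (Opposite.op M) with hF
  -- transport along maps
  have hw : ∀ {i j : J} (a : i ⟶ j) (f : M ⟶ N.obj i),
      colimit.ι F j (f ≫ N.map a) = colimit.ι F i f := by
    intro i j a f
    exact ConcreteCategory.congr_hom (colimit.w F a) f
  have hpost : ∀ (i : J) (f : M ⟶ N.obj i),
      colimit.post N (coyoneda.obj (Opposite.op M)) (colimit.ι F i f) = f ≫ colimit.ι N i := by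
    intro i f
    exact ConcreteCategory.congr_hom (colimit.ι_post N (coyoneda.obj (Opposite.op M)) i) f
  intro x y hxy
  obtain ⟨i, f, rfl⟩ := Types.jointly_surjective_of_isColimit (colimit.isColimit F) x
  obtain ⟨j, g, rfl⟩ := Types.jointly_surjective_of_isColimit (colimit.isColimit F) y
  obtain ⟨k, hik, hjk⟩ := exists_ge_ge i j
  change colimit.ι F i f = colimit.ι F j g
  rw [← hw (homOfLE hik) f, ← hw (homOfLE hjk) g]
  set f' := f ≫ N.map (homOfLE hik) with hf'
  set g' := g ≫ N.map (homOfLE hjk) with hg'
  have hfg : f' ≫ colimit.ι N k = g' ≫ colimit.ι N k := by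
    have h1 := hpost k f'
    have h2 := hpost k g'
    rw [← h1, ← h2, hw, hw]
    exact hxy
  obtain ⟨S, hS⟩ := (Module.finite_def.mp (inferInstance : Module.Finite A M))
  have hex : ∀ s ∈ S, ∃ l : J, ∃ h : k ≤ l, N.map (homOfLE h) (f' s) = N.map (homOfLE h) (g' s) := by
    intro s _
    have h1 : colimit.ι N k (f' s) = colimit.ι N k (g' s) := by
      have := ConcreteCategory.congr_hom hfg s
      simpa using this
    obtain ⟨l, a, b, hab⟩ := (Concrete.colimit_rep_eq_iff_exists (F := N) (f' s) (g' s)).mp h1
    refine ⟨l, leOfHom a, ?_⟩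
    have hb : b = homOfLE (leOfHom a) := Subsingleton.elim _ _
    have ha : a = homOfLE (leOfHom a) := Subsingleton.elim _ _
    rw [← ha]
    rw [hb] at hab
    rw [← ha] at hab
    exact hab
  choose! l hl hl' using hex
  obtain ⟨m, hm⟩ := Finset.exists_le (S.image l ∪ {k})
  have hkm : k ≤ m := hm k (by simp)
  have key : f' ≫ N.map (homOfLE hkm) = g' ≫ N.map (homOfLE hkm) := by
    ext1
    apply LinearMap.ext_on hS
    intro s hs
    have hlm : l s ≤ m := hm (l s) (by simp [Finset.mem_image_of_mem l hs])
    have e : homOfLE hkm = homOfLE (hl s hs) ≫ homOfLE hlm := Subsingleton.elim _ _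
    simp only [ModuleCat.hom_comp, LinearMap.coe_comp, Function.comp_apply]
    rw [e, N.map_comp]
    simp only [ModuleCat.hom_comp, LinearMap.coe_comp, Function.comp_apply]
    have := hl' s hs
    exact congrArg (N.map (homOfLE hlm)) this
  rw [← hw (homOfLE hkm) f', ← hw (homOfLE hkm) g', key]

end Groth.Agent.S4834
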