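import Groth.Statements.S4835
import Mathlib

set_option autoImplicit false
open CategoryTheory CategoryTheory.Limits
universe u
open Lim8

namespace Groth.Agent.S4835

theorem inj_aux {A : Type u} [CommRing A] (M : ModuleCat.{u} A)
    [Module.Finite A M] {J : Type u} [Preorder J] [IsDirected J (· ≤ ·)] [Nonempty J]
    (N : J ⥤ ModuleCat.{u} A) :
    Function.Injective (colimit.post N (coyoneda.obj (Opposite.op M))) := by
  classical
  set F := N ⋙ coyoneda.obj (Opposite.op M) with hF
  -- transport along maps
  have hw : ∀ {i j : J} (a : i ⟶ j) (f : M ⟶ N.obj i),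
      colimit.ι F j (f ≫ N.map a) = colimit.ι F i f := by
    intro i j a f
    exact ConcreteCategory.congr_hom (colimit.w F a) f
  have hpost : ∀ (i : J) (f : M ⟶ N.obj i),
      colimit.post N (coyoneda.obj (Opposite.op M)) (colimit.ι F i f) = f ≫ colimit.ι N i := by
    intro i f
    exact ConcreteCategory.congr_hom (colimit.ι_post N (coyoneda.obj (Opposite.op M)) i) f
  intro x y hxy
  obtain ⟨i, f, rfl⟩ := Types.jointly_surjective_of_isColimit (colimit.isColimit F) x
  obtain ⟨j, g, rfl⟩ := Types.jointly_surjective_of_isColimit (colimit.isColimit F) y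
  obtain ⟨k, hik, hjk⟩ := exists_ge_ge i j
  change colimit.ι F i f = colimit.ι F j g
  rw [← hw (homOfLE hik) f, ← hw (homOfLE hjk) g]
  set f' := f ≫ N.map (homOfLE hik) with hf'
  set g' := g ≫ N.map (homOfLE hjk) with hg'
  have hfg : f' ≫ colimit.ι N k = g' ≫ colimit.ι N k := by
    have h1 := hpost k f'
    have h2 := hpost k g'
    rw [← h1, ← h2, hw, hw]
    exact hxy
  obtain ⟨S, hS⟩ := (Module.finite_def.mp (inferInstance : Module.Finite A M))
  have hex : ∀ s ∈ S, ∃ l : J, ∃ h : k ≤ l, N.map (homOfLE h) (f' s) = N.map (homOfLE h) (g' s) := by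
    intro s _
    have h1 : colimit.ι N k (f' s) = colimit.ι N k (g' s) := by
      have := ConcreteCategory.congr_hom hfg s
      simpa using this
    obtain ⟨l, a, b, hab⟩ := (Concrete.colimit_rep_eq_iff_exists (F := N) (f' s) (g' s)).mp h1
    refine ⟨l, leOfHom a, ?_⟩
    have hb : b = homOfLE (leOfHom a) := Subsingleton.elim _ _
    have ha : a = homOfLE (leOfHom a) := Subsingleton.elim _ _
    rw [← ha]
    rw [hb] at hab
    rw [← ha] at hab
    exact hab
  choose! l hl hl' using hex
  obtain ⟨m, hm⟩ := Finset.exists_le (S.image l ∪ {k})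
  have hkm : k ≤ m := hm k (by simp)
  have key : f' ≫ N.map (homOfLE hkm) = g' ≫ N.map (homOfLE hkm) := by
    ext1
    apply LinearMap.ext_on hS
    intro s hs
    have hlm : l s ≤ m := hm (l s) (by simp [Finset.mem_image_of_mem l hs])
    have e : homOfLE hkm = homOfLE (hl s hs) ≫ homOfLE hlm := Subsingleton.elim _ _
    simp only [ModuleCat.hom_comp, LinearMap.coe_comp, Function.comp_apply]
    rw [e, N.map_comp]
    simp only [ModuleCat.hom_comp, LinearMap.coe_comp, Function.comp_apply]
    have := hl' s hs
    exact congrArg (N.map (homOfLE hlm)) this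
  rw [← hw (homOfLE hkm) f', ← hw (homOfLE hkm) g', key]

theorem surj_aux {A : Type u} [CommRing A] (M : ModuleCat.{u} A)
    [Module.FinitePresentation A M] {J : Type u} [Preorder J] [IsDirected J (· ≤ ·)] [Nonempty J]
    (N : J ⥤ ModuleCat.{u} A) :
    Function.Surjective (colimit.post N (coyoneda.obj (Opposite.op M))) := by
  classical
  set F := N ⋙ coyoneda.obj (Opposite.op M) with hF
  have hpost : ∀ (i : J) (f : M ⟶ N.obj i),
      colimit.post N (coyoneda.obj (Opposite.op M)) (colimit.ι F i f) = f ≫ colimit.ι N i := by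
    intro i f
    exact ConcreteCategory.congr_hom (colimit.ι_post N (coyoneda.obj (Opposite.op M)) i) f
  have hwN : ∀ {i j : J} (a : i ⟶ j) (y : N.obj i),
      colimit.ι N j (N.map a y) = colimit.ι N i y := by
    intro i j a y
    exact ConcreteCategory.congr_hom (colimit.w N a) y
  intro h
  change M ⟶ colimit N at h
  obtain ⟨n, m, f, g, hf, hgf⟩ := Module.FinitePresentation.exists_fin' A M
  -- representatives of h (f e_t)
  have hrep : ∀ t : Fin n, ∃ (k : J) (y : N.obj k), colimit.ι N k y = h (f (Pi.single t 1)) :=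
    fun t => Concrete.colimit_exists_rep N _
  choose kt yt hyt using hrep
  obtain ⟨k, hk⟩ := Finset.exists_le (Finset.univ.image kt)
  have hkt : ∀ t, kt t ≤ k := fun t => hk _ (Finset.mem_image_of_mem _ (Finset.mem_univ t))
  let nt : Fin n → N.obj k := fun t => N.map (homOfLE (hkt t)) (yt t)
  have hnt : ∀ t, colimit.ι N k (nt t) = h (f (Pi.single t 1)) := fun t => by
    rw [← hyt t]; exact hwN _ _
  let φ : (Fin n → A) →ₗ[A] N.obj k := (Pi.basisFun A (Fin n)).constr A nt
  have hφ : ∀ t, φ (Pi.single t 1) = nt t := fun t => by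
    have := (Pi.basisFun A (Fin n)).constr_basis A nt t
    rw [Pi.basisFun_apply] at this
    exact this
  -- ι_k ∘ φ = h ∘ f
  have hcomp : (colimit.ι N k).hom ∘ₗ φ = h.hom ∘ₗ f := by
    apply (Pi.basisFun A (Fin n)).ext
    intro t
    simp only [Pi.basisFun_apply, LinearMap.coe_comp, Function.comp_apply, hφ]
    exact hnt t
  have hzero : ∀ s : Fin m, ∃ l : J, ∃ hl : k ≤ l, N.map (homOfLE hl) (φ (g (Pi.single s 1))) = 0 := by
    intro s
    have h1 : colimit.ι N k (φ (g (Pi.single s 1))) = colimit.ι N k (0 : N.obj k) := by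
      have := LinearMap.congr_fun hcomp (g (Pi.single s 1))
      simp only [LinearMap.coe_comp, Function.comp_apply] at this
      rw [this, hgf.apply_apply_eq_zero, map_zero, map_zero]
    obtain ⟨l, a, b, hab⟩ := (Concrete.colimit_rep_eq_iff_exists (F := N) _ _).mp h1
    refine ⟨l, leOfHom a, ?_⟩
    have ha : a = homOfLE (leOfHom a) := Subsingleton.elim _ _
    rw [← ha, hab, map_zero]
  choose ls hls hls' using hzero
  obtain ⟨l, hl⟩ := Finset.exists_le (Finset.univ.image ls ∪ {k})
  have hkl : k ≤ l := hl k (by simp)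
  let ψ : (Fin n → A) →ₗ[A] N.obj l := (N.map (homOfLE hkl)).hom ∘ₗ φ
  have hψg : ψ ∘ₗ g = 0 := by
    apply (Pi.basisFun A (Fin m)).ext
    intro s
    simp only [Pi.basisFun_apply, LinearMap.coe_comp, Function.comp_apply, LinearMap.zero_apply, ψ]
    have hsl : ls s ≤ l := hl _ (by simp)
    have e : homOfLE hkl = homOfLE (hls s) ≫ homOfLE hsl := Subsingleton.elim _ _
    rw [e, N.map_comp]
    simp only [ModuleCat.hom_comp, LinearMap.coe_comp, Function.comp_apply]
    rw [hls' s, map_zero]
  have hker : LinearMap.ker f ≤ LinearMap.ker ψ := by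
    intro x hx
    obtain ⟨y, rfl⟩ := (hgf x).mp hx
    exact LinearMap.congr_fun hψg y
  let ψ' : M →ₗ[A] N.obj l :=
    ((LinearMap.ker f).liftQ ψ hker) ∘ₗ (f.quotKerEquivOfSurjective hf).symm.toLinearMap
  have hψ' : ∀ x, ψ' (f x) = ψ x := by
    intro x
    simp only [ψ', LinearMap.coe_comp, LinearEquiv.coe_coe, Function.comp_apply]
    have : (f.quotKerEquivOfSurjective hf).symm (f x) = Submodule.Quotient.mk x := by
      rw [LinearEquiv.symm_apply_eq]; rfl
    rw [this, Submodule.liftQ_apply]
  refine ⟨colimit.ι F l (ModuleCat.ofHom ψ'), ?_⟩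
  rw [hpost]
  change ModuleCat.ofHom ψ' ≫ colimit.ι N l = h
  ext1
  apply LinearMap.ext
  intro z
  obtain ⟨x, rfl⟩ := hf z
  simp only [ModuleCat.hom_comp, ModuleCat.hom_ofHom, LinearMap.coe_comp, Function.comp_apply]
  rw [hψ']
  simp only [ψ, LinearMap.coe_comp, Function.comp_apply]
  rw [hwN]
  exact LinearMap.congr_fun hcomp x


/-- Let A be a commutative ring, M an A-module of finite presentation and (N_λ) an inductive system of
A-modules indexed by a nonempty directed preordered set. Then the canonical map colim_λ Hom_A(M,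
N_λ) → Hom_A(M, colim_λ N_λ), sending a compatible system of homomorphisms to its inductive limit,
is bijective. This is the form established in the source's proof (finite presentation case). -/
theorem result {A : Type u} [CommRing A] (M : ModuleCat.{u} A)
    [Module.FinitePresentation A M] {J : Type u} [Preorder J] [IsDirected J (· ≤ ·)] [Nonempty J]
    (N : J ⥤ ModuleCat.{u} A) :
    Function.Bijective (colimit.post N (coyoneda.obj (Opposite.op M))) := by
  exact ⟨inj_aux M N, surj_aux M N⟩

end Groth.Agent.S4835
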