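import Groth.Statements.S4837
import Mathlib
import Groth.Prelude.Def_AffAlg
import Groth.Prelude.Def_RelSpec
import Groth.Agent.Lib.helper27.GlueAff
import Groth.Agent.S3571
import Groth.Agent.S3569

set_option autoImplicit false
open CategoryTheory AlgebraicGeometry
universe u
open Lim8

namespace Groth.Agent.S4837aux
open CategoryTheory CategoryTheory.Limits AlgebraicGeometry Opposite TopologicalSpace
open Groth.Agent.Lib.helper27

variable {X Y : Scheme.{u}} (f : X ⟶ Y) [QuasiCompact f] [QuasiSeparated f]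
  (C : RelSpec.QCAlg Y) (g : X ⟶ C.spec) (w : g ≫ C.π = f)

theorem isIso_gammaMap_app (U : Y.Opens) : IsIso (C.gammaMap.app (op U)) := by
  have h1 : IsIso (S3571aux.gSheaf C) := S3571aux.isIso_gSheaf C
  have hi1 : S3571aux.gSheaf C ≫ inv (S3571aux.gSheaf C) = 𝟙 _ := IsIso.hom_inv_id _
  have hi2 : inv (S3571aux.gSheaf C) ≫ S3571aux.gSheaf C = 𝟙 _ := IsIso.inv_hom_id _
  have h3 : IsIso C.gammaMap :=
    ⟨⟨(inv (S3571aux.gSheaf C)).hom, congrArg (fun k => k.hom) hi1, congrArg (fun k => k.hom) hi2⟩⟩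
  infer_instance

omit [QuasiSeparated f] in
include w in
theorem quasiCompact_g : QuasiCompact g := by
  have : QuasiCompact (g ≫ C.π) := by rw [w]; infer_instance
  exact QuasiCompact.of_comp g C.π

variable (φ : C ⟶ RelSpec.QCAlg.directImage f)
    (hφ : C.gammaMap ≫ φ.hom = AffAlg.algHom C.π f g w)

include hφ in
theorem inj_iff (U : Y.Opens) :
    Function.Injective (φ.hom.app (op U)).hom ↔ Function.Injective (g.app (C.π ⁻¹ᵁ U)).hom := by
  have e : f ⁻¹ᵁ U ≤ g ⁻¹ᵁ C.π ⁻¹ᵁ U := by subst w; exact le_rfl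
  have e' : g ⁻¹ᵁ C.π ⁻¹ᵁ U ≤ f ⁻¹ᵁ U := by subst w; exact le_rfl
  have h1 : C.gammaMap.app (op U) ≫ φ.hom.app (op U) =
      g.appLE (C.π ⁻¹ᵁ U) (f ⁻¹ᵁ U) e := by
    rw [← S3569aux.algHom_app C.π f g w U e, ← hφ]; rfl
  have hi := isIso_gammaMap_app C U
  have hbij : Function.Bijective (C.gammaMap.app (op U)).hom :=
    (ConcreteCategory.isIso_iff_bijective _).mp hi
  have hres : Function.Bijective (X.presheaf.map (homOfLE e).op).hom := by
    have : IsIso (homOfLE e) := ⟨⟨homOfLE e', Subsingleton.elim _ _, Subsingleton.elim _ _⟩⟩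
    exact (ConcreteCategory.isIso_iff_bijective _).mp inferInstance
  have h2 : ∀ t, (φ.hom.app (op U)).hom ((C.gammaMap.app (op U)).hom t) =
      (X.presheaf.map (homOfLE e).op).hom ((g.app (C.π ⁻¹ᵁ U)).hom t) := by
    intro t
    have := congrArg (fun k => k.hom t) h1
    exact this
  constructor
  · intro hinj a b hab
    apply hbij.1
    apply hinj
    rw [h2, h2, hab]
  · intro hinj a b hab
    obtain ⟨a', rfl⟩ := hbij.2 a
    obtain ⟨b', rfl⟩ := hbij.2 b
    rw [h2, h2] at hab
    rw [hinj (hres.1 hab)]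

include hφ in
theorem main [IsImmersion g] :
    (g.ker = ⊥ ↔ ∀ U : Y.Opens, Function.Injective (φ.hom.app (Opposite.op U)).hom) ∧
      (g.ker = ⊥ → IsOpenImmersion g) := by
  have hqc : QuasiCompact g := quasiCompact_g f C g w
  refine ⟨⟨fun hker U => ?_, fun hinj => ?_⟩, fun hker => ?_⟩
  · rw [inj_iff f C g w φ hφ U]
    have : IsSchemeTheoreticallyDominant g := ⟨hker⟩
    exact g.app_injective (C.π ⁻¹ᵁ U)
  · refine Scheme.IdealSheafData.ext_of_iSup_eq_top
      (fun U : Y.affineOpens => (⟨C.π ⁻¹ᵁ U.1, U.2.preimage C.π⟩ : C.spec.affineOpens)) ?_ ?_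
    · exact GlueAff.isOpenCover_preimage C.π
    · intro U
      rw [Scheme.Hom.ker_apply, Scheme.IdealSheafData.ideal_bot]
      change RingHom.ker (g.app (C.π ⁻¹ᵁ U.1)).hom = ⊥
      rw [← RingHom.injective_iff_ker_eq_bot, ← inj_iff f C g w φ hφ U.1]
      exact hinj U.1
  · have : IsIso g.imageι := by
      delta Scheme.Hom.imageι Scheme.Hom.image
      rw [hker]
      infer_instance
    rw [← g.toImage_imageι]
    infer_instance

end Groth.Agent.S4837aux

namespace Groth.Agent.S4837

/-- Let f : X ⟶ Y be a quasi-compact quasi-separated morphism, C a quasi-coherent O_Y-algebra with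
relative spectrum Z = Spec(C) over Y, g : X ⟶ Z a Y-morphism which is an immersion, and φ : C ⟶
f_*O_X the homomorphism of O_Y-algebras corresponding to g (the canonical identification of C with
the direct image of O_Z followed by the map induced by g). Then the scheme-theoretic image of g is
the whole of Z, i.e. the kernel ideal of g vanishes, if and only if φ is injective; and when this
holds g is an open immersion. -/
theorem result {X Y : Scheme.{u}} (f : X ⟶ Y)
    [QuasiCompact f] [QuasiSeparated f] (C : RelSpec.QCAlg Y) (g : X ⟶ C.spec) (w : g ≫ C.π = f)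
    [IsImmersion g] (φ : C ⟶ RelSpec.QCAlg.directImage f)
    (hφ : C.gammaMap ≫ φ.hom = AffAlg.algHom C.π f g w) :
    (g.ker = ⊥ ↔ ∀ U : Y.Opens, Function.Injective (φ.hom.app (Opposite.op U)).hom) ∧
      (g.ker = ⊥ → IsOpenImmersion g) := by
  exact S4837aux.main f C g w φ hφ

end Groth.Agent.S4837
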