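import Groth.Statements.S4852
import Mathlib
import Groth.Agent.Lib.helper24.NilFlat
import Groth.Agent.Lib.helper24.NilFlat2
import Groth.Agent.Lib.helper24.PiFlat

set_option autoImplicit false
universe u
open TensorProduct
open EGA43

namespace Groth.Agent.S4852

namespace Groth.Agent.S4852aux
open TensorProduct Function Groth.Agent.Lib.helper24

theorem semisimple_quot (A : Type u) [CommRing A] [Finite (MaximalSpectrum A)] :
    IsSemisimpleRing (A ⧸ Ring.jacobson A) := by
  have h1 : Ring.jacobson A = ⨅ m : MaximalSpectrum A, m.asIdeal := by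
    rw [Ring.jacobson_eq_sInf_isMaximal]
    apply le_antisymm
    · refine le_iInf fun m => sInf_le m.isMaximal
    · refine le_sInf fun I hI => ?_
      exact iInf_le (fun m : MaximalSpectrum A => m.asIdeal) ⟨I, hI⟩
  have hc : Pairwise (Function.onFun IsCoprime fun m : MaximalSpectrum A => m.asIdeal) := by
    intro m m' hne
    exact Ideal.isCoprime_of_isMaximal (fun h => hne (MaximalSpectrum.ext h))
  let e := Ideal.quotientInfRingEquivPiQuotient (fun m : MaximalSpectrum A => m.asIdeal) hc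
  haveI : ∀ m : MaximalSpectrum A, IsSemisimpleRing (A ⧸ m.asIdeal) := fun m => by
    letI : Field (A ⧸ m.asIdeal) := Ideal.Quotient.field m.asIdeal
    infer_instance
  haveI : IsSemisimpleRing (A ⧸ ⨅ m : MaximalSpectrum A, m.asIdeal) := e.symm.isSemisimpleRing
  exact (Ideal.quotEquivOfEq h1.symm).isSemisimpleRing

theorem exists_finset {A : Type u} [CommRing A] {ι : Type u} (B : ι → Type u)
    [∀ i, CommRing (B i)] [∀ i, Algebra A (B i)]
    (hB : ∀ a : A, (∀ i, algebraMap A (B i) a = 0) → a = 0)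
    (V : Type u) [AddCommGroup V] [Module A V] [IsArtinian A V] (ψ : V →ₗ[A] A)
    (hψ : Injective ψ) :
    ∃ F : Finset ι, ∀ v : V, (∀ i ∈ F, algebraMap A (B i) (ψ v) = 0) → v = 0 := by
  classical
  let K : Finset ι → Submodule A V := fun F =>
    ⨅ i ∈ F, LinearMap.ker ((Algebra.linearMap A (B i)).comp ψ)
  have hK : ∀ F v, v ∈ K F ↔ ∀ i ∈ F, algebraMap A (B i) (ψ v) = 0 := by
    intro F v
    simp only [K, Submodule.mem_iInf, LinearMap.mem_ker, LinearMap.comp_apply,
      Algebra.linearMap_apply]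
  obtain ⟨S, ⟨F0, rfl⟩, hmin⟩ := (wellFounded_lt (α := Submodule A V)).has_min (Set.range K)
    ⟨K ∅, ⟨∅, rfl⟩⟩
  refine ⟨F0, fun v hv => ?_⟩
  by_contra hne
  have hψv : ψ v ≠ 0 := fun h => hne (hψ (by rw [h, map_zero]))
  have : ∃ i, algebraMap A (B i) (ψ v) ≠ 0 := by
    by_contra hcon
    push Not at hcon
    exact hψv (hB _ hcon)
  obtain ⟨i, hi⟩ := this
  have hlt : K (insert i F0) < K F0 := by
    refine lt_of_le_of_ne ?_ ?_
    · intro w hw
      rw [hK] at hw ⊢
      exact fun j hj => hw j (Finset.mem_insert_of_mem hj)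
    · intro heq
      have : v ∈ K (insert i F0) := by
        rw [heq, hK]; exact hv
      rw [hK] at this
      exact hi (this i (Finset.mem_insert_self i F0))
  exact hmin (K (insert i F0)) ⟨_, rfl⟩ hlt

theorem flat_semisimple {A : Type u} [CommRing A] (I : Ideal A) [IsSemisimpleRing (A ⧸ I)]
    (M : Type u) [AddCommGroup M] [Module A M] : Module.Flat (A ⧸ I) ((A ⧸ I) ⊗[A] M) := by
  haveI := Module.projective_of_isSemisimpleRing (A ⧸ I) ((A ⧸ I) ⊗[A] M)
  infer_instance

theorem fin_inj {A : Type u} [CommRing A] (I : Ideal A) [IsSemisimpleRing (A ⧸ I)]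
    {ι : Type u} (B : ι → Type u) [∀ i, CommRing (B i)] [∀ i, Algebra A (B i)]
    (hB : ∀ a : A, (∀ i, algebraMap A (B i) a = 0) → a = 0)
    (M : Type u) [AddCommGroup M] [Module A M]
    (hM : ∀ i, Module.Flat (B i) (B i ⊗[A] M))
    (V : Type u) [AddCommGroup V] [Module A V] [Module.Finite A V]
    (hV : ∀ a ∈ I, ∀ v : V, a • v = 0)
    (ψ : V →ₗ[A] A) (hψ : Injective ψ) : Injective (ψ.rTensor M) := by
  classical
  haveI hflatI := flat_semisimple I M
  -- V is Artinian
  haveI : IsArtinian A V := by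
    have tV : Module.IsTorsionBySet A V (I : Set A) := fun x a => hV a a.2 x
    letI : Module (A ⧸ I) V := tV.module
    haveI : IsScalarTower A (A ⧸ I) V := tV.isScalarTower
    haveI : Module.Finite (A ⧸ I) V := Module.Finite.of_restrictScalars_finite A (A ⧸ I) V
    haveI : IsArtinian (A ⧸ I) V := inferInstance
    exact isArtinian_of_surjective_algebraMap (R := A ⧸ I) Ideal.Quotient.mk_surjective
  obtain ⟨F, hF⟩ := exists_finset B hB V ψ hψ
  let BF : Type u := Π i : ↥F, B i.1
  letI := PiFlat.evalAlg (fun i : ↥F => B i.1)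
  haveI : Module.Flat BF (BF ⊗[A] M) := by
    refine PiFlat.flat_pi (fun i : ↥F => B i.1) _ fun p => ?_
    haveI : IsScalarTower A BF (B p.1) := IsScalarTower.of_algebraMap_eq (fun a => rfl)
    haveI : Module.Flat (B p.1) (B p.1 ⊗[A] M) := hM p.1
    exact NilFlat.flat_baseChange_baseChange A BF (B p.1) M
  let W : Ideal BF := Ideal.span (Set.range fun v : V => algebraMap A BF (ψ v))
  let ψ' : V →ₗ[A] ↥W :=
    { toFun := fun v => ⟨algebraMap A BF (ψ v), Ideal.subset_span ⟨v, rfl⟩⟩
      map_add' := fun a b => Subtype.ext (by simp)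
      map_smul' := fun a v => Subtype.ext (by simp [Algebra.smul_def]) }
  have hψ' : Injective ψ' := by
    rw [injective_iff_map_eq_zero]
    intro v hv
    refine hF v fun i hi => ?_
    have := congrArg Subtype.val hv
    exact congrFun this ⟨i, hi⟩
  have hb : ∀ i ∈ I, ∀ p : ↥W, i • p = 0 := by
    intro i hi p
    refine Subtype.ext ?_
    show i • (p : BF) = 0
    have hp := p.2
    refine Submodule.span_induction (p := fun x _ => i • x = 0) ?_ ?_ ?_ ?_ hp
    · rintro _ ⟨v, rfl⟩
      show i • algebraMap A BF (ψ v) = 0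
      rw [Algebra.smul_def, ← map_mul, ← smul_eq_mul, ← map_smul, hV i hi v, map_zero, map_zero]
    · simp
    · intro x y _ _ hx hy
      rw [smul_add, hx, hy, add_zero]
    · intro b x _ hx
      rw [smul_comm, hx, smul_zero]
  have h1 : Injective (ψ'.rTensor M) := NilFlat.P1 I M hV hb ψ' hψ'
  have h2 : Injective ((W.subtype.restrictScalars A).rTensor M) :=
    NilFlat.rTensor_injective_of_baseChange_flat BF M W.subtype (Submodule.injective_subtype W)
  have hcomp : ((W.subtype.restrictScalars A) ∘ₗ ψ') = (Algebra.linearMap A BF) ∘ₗ ψ :=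
    LinearMap.ext fun _ => rfl
  have h3 : Injective (((Algebra.linearMap A BF) ∘ₗ ψ).rTensor M) := by
    rw [← hcomp, LinearMap.rTensor_comp]
    exact h2.comp h1
  rw [LinearMap.rTensor_comp] at h3
  exact Injective.of_comp h3

theorem aux (n : ℕ) : ∀ (A : Type u) [CommRing A] (I : Ideal A) [IsSemisimpleRing (A ⧸ I)],
    I ^ n = ⊥ →
    ∀ {ι : Type u} (B : ι → Type u) [∀ i, CommRing (B i)] [∀ i, Algebra A (B i)],
    (∀ a : A, (∀ i, algebraMap A (B i) a = 0) → a = 0) →
    ∀ (M : Type u) [AddCommGroup M] [Module A M], (∀ i, Module.Flat (B i) (B i ⊗[A] M)) →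
    Module.Flat A M := by
  have base : ∀ (A : Type u) [CommRing A] (I : Ideal A) [IsSemisimpleRing (A ⧸ I)], I = ⊥ →
      ∀ (M : Type u) [AddCommGroup M] [Module A M], Module.Flat A M := by
    intro A _ I _ hI M _ _
    haveI := flat_semisimple I M
    refine NilFlat.flat_of_isNilpotent I M ⟨1, by rw [pow_one, hI]; rfl⟩ ?_
    have : Subsingleton ↥I := by rw [hI]; infer_instance
    exact Function.injective_of_subsingleton _
  induction n with
  | zero =>
    intro A _ I _ hn ι B _ _ hB M _ _ hM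
    have : Subsingleton A := by
      rw [pow_zero, Ideal.one_eq_top] at hn
      exact (Submodule.subsingleton_iff A).mp (subsingleton_of_bot_eq_top hn.symm)
    exact base A I (Subsingleton.elim _ _) M
  | succ n ih =>
    rcases n with _ | n
    · intro A _ I _ hn ι B _ _ hB M _ _ hM
      rw [zero_add, pow_one] at hn
      exact base A I hn M
    · intro A _ I _ hn ι B _ _ hB M _ _ hM
      haveI := flat_semisimple I M
      obtain ⟨𝔫, h𝔫⟩ : ∃ 𝔫 : Ideal A, 𝔫 = I ^ (n + 1) := ⟨_, rfl⟩
      have h𝔫I : I * 𝔫 = ⊥ := by rw [h𝔫, ← pow_succ', hn]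
      have h𝔫sq : 𝔫 * 𝔫 = ⊥ := by
        rw [h𝔫, ← pow_add, ← le_bot_iff, ← hn]
        exact Ideal.pow_le_pow_right (by omega)
      let J : ∀ i, Ideal (B i) := fun i => 𝔫.map (algebraMap A (B i))
      obtain ⟨𝔫', h𝔫'⟩ : ∃ 𝔫' : Ideal A, 𝔫' = ⨅ i, (J i).comap (algebraMap A (B i)) := ⟨_, rfl⟩
      have hmem : ∀ a, a ∈ 𝔫' ↔ ∀ i, algebraMap A (B i) a ∈ J i := by
        intro a
        rw [h𝔫', Ideal.mem_iInf]
        rfl
      have h𝔫le : 𝔫 ≤ 𝔫' := fun a ha => (hmem a).mpr fun i => Ideal.mem_map_of_mem _ ha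
      have hI𝔫' : ∀ a ∈ I, ∀ b ∈ 𝔫', a * b = 0 := by
        intro a ha b hb
        refine hB _ fun i => ?_
        have h1 : algebraMap A (B i) a * algebraMap A (B i) b ∈
            (I.map (algebraMap A (B i))) * J i :=
          Ideal.mul_mem_mul (Ideal.mem_map_of_mem _ ha) ((hmem b).mp hb i)
        rw [← Ideal.map_mul, h𝔫I, Ideal.map_bot] at h1
        rw [map_mul]
        exact h1
      have h𝔫'sq : 𝔫' ^ 2 = ⊥ := by
        rw [← le_bot_iff, pow_two, Ideal.mul_le]
        intro a ha b hb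
        refine hB _ fun i => ?_
        have h1 : algebraMap A (B i) a * algebraMap A (B i) b ∈ J i * J i :=
          Ideal.mul_mem_mul ((hmem a).mp ha i) ((hmem b).mp hb i)
        rw [← Ideal.map_mul, h𝔫sq, Ideal.map_bot] at h1
        rw [map_mul]
        exact h1
      -- injectivity
      have h3' : Injective (𝔫'.subtype.rTensor M) := by
        rw [injective_iff_map_eq_zero]
        intro z hz
        obtain ⟨V, hfin, hzV⟩ := TensorProduct.exists_finite_submodule_left_of_setFinite {z}
          (Set.finite_singleton z)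
        obtain ⟨z', hz'⟩ := hzV (Set.mem_singleton z)
        have hinj : Injective ((𝔫'.subtype ∘ₗ V.subtype).rTensor M) := by
          refine fin_inj I B hB M hM ↥V ?_ _ ?_
          · intro a ha v
            refine Subtype.ext (Subtype.ext ?_)
            show a * ((v : ↥𝔫') : A) = 0
            exact hI𝔫' a ha _ (v : ↥𝔫').2
          · exact (Submodule.injective_subtype 𝔫').comp (Submodule.injective_subtype V)
        have : ((𝔫'.subtype ∘ₗ V.subtype).rTensor M) z' = 0 := by
          rw [LinearMap.rTensor_comp, LinearMap.comp_apply, hz', hz]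
        rw [← hz', hinj (this.trans (map_zero _).symm), map_zero]
      -- the quotient situation
      let alg : ∀ i, Algebra (A ⧸ 𝔫') (B i ⧸ J i) := fun i =>
        (Ideal.quotientMap (J i) (algebraMap A (B i))
          (fun a ha => (hmem a).mp ha i)).toAlgebra
      have tw1 : ∀ i, IsScalarTower A (A ⧸ 𝔫') (B i ⧸ J i) := fun i =>
        IsScalarTower.of_algebraMap_eq (fun r => rfl)
      have hB' : ∀ a : A ⧸ 𝔫', (∀ i, algebraMap (A ⧸ 𝔫') (B i ⧸ J i) a = 0) → a = 0 := by
        intro a ha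
        obtain ⟨a, rfl⟩ := Ideal.Quotient.mk_surjective a
        rw [Ideal.Quotient.eq_zero_iff_mem, hmem]
        intro i
        have := ha i
        rw [← Ideal.Quotient.eq_zero_iff_mem]
        exact this
      obtain ⟨Ib, hIb⟩ : ∃ Ib : Ideal (A ⧸ 𝔫'), Ib = I.map (Ideal.Quotient.mk 𝔫') := ⟨_, rfl⟩
      have hIbn : Ib ^ (n + 1) = ⊥ := by
        rw [hIb, ← Ideal.map_pow, ← h𝔫, Ideal.map_eq_bot_iff_le_ker, Ideal.mk_ker]
        exact h𝔫le
      haveI : IsSemisimpleRing ((A ⧸ 𝔫') ⧸ Ib) := by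
        have hle : I ≤ Ib.comap (Ideal.Quotient.mk 𝔫') := by
          rw [hIb]; exact Ideal.le_comap_map
        refine RingHom.isSemisimpleRing_of_surjective
          (Ideal.quotientMap Ib (Ideal.Quotient.mk 𝔫') hle) ?_
        exact Ideal.quotientMap_surjective Ideal.Quotient.mk_surjective
      have F2 : ∀ i, Module.Flat (B i ⧸ J i) ((B i ⧸ J i) ⊗[A ⧸ 𝔫'] ((A ⧸ 𝔫') ⊗[A] M)) := by
        intro i
        haveI := hM i
        haveI := tw1 i
        haveI : Module.Flat (B i ⧸ J i) ((B i ⧸ J i) ⊗[A] M) :=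
          NilFlat.flat_baseChange_of_flat_baseChange A (B i) (B i ⧸ J i) M
        exact NilFlat.flat_baseChange_baseChange A (A ⧸ 𝔫') (B i ⧸ J i) M
      have : Module.Flat (A ⧸ 𝔫') ((A ⧸ 𝔫') ⊗[A] M) :=
        ih (A ⧸ 𝔫') Ib hIbn (fun i => B i ⧸ J i) hB' ((A ⧸ 𝔫') ⊗[A] M) F2
      exact NilFlat.flat_of_isNilpotent 𝔫' M ⟨2, h𝔫'sq⟩ h3'

end Groth.Agent.S4852aux

open TensorProduct in

/-- Let A be a semi-local ring (finitely many maximal ideals) whose Jacobson radical is nilpotent, for
instance an Artinian ring, and let (u_i : A → B_i) be a family of ring homomorphisms whose kernels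
have zero intersection. Then an A-module M is flat if and only if, for every i, the B_i-module B_i
⊗_A M is flat. -/
theorem result {A : Type u} [CommRing A]
    [Finite (MaximalSpectrum A)] (hnil : IsNilpotent (Ring.jacobson A))
    {ι : Type u} (B : ι → Type u) [∀ i, CommRing (B i)] [∀ i, Algebra A (B i)]
    (hB : ∀ a : A, (∀ i, algebraMap A (B i) a = 0) → a = 0)
    (M : Type u) [AddCommGroup M] [Module A M] :
    Module.Flat A M ↔ ∀ i, Module.Flat (B i) (B i ⊗[A] M) := by
  constructor
  · intro h i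
    infer_instance
  · intro h
    haveI := Groth.Agent.S4852aux.semisimple_quot A
    obtain ⟨n, hn⟩ := hnil
    exact Groth.Agent.S4852aux.aux n A (Ring.jacobson A) hn B hB M h

end Groth.Agent.S4852
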