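import Groth.Statements.S4859
import Groth.Agent.Lib.helper8.QH

set_option autoImplicit false
universe u
open EGA43

namespace Groth.Agent.S4859

/-- Conditions a), a′), b) (quasi-homeomorphisms): for a continuous map f : X₀ → X the following are
equivalent: taking preimages is a bijection from the open subsets of X onto the open subsets of X₀;
taking preimages is a bijection from the closed subsets of X onto the closed subsets of X₀; the
topology of X₀ is induced from X through f and the image f(X₀) is very dense in X, in the sense that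
two open subsets of X with the same trace on f(X₀) coincide. -/
theorem result {X₀ X : Type u} [TopologicalSpace X₀] [TopologicalSpace X]
    (f : X₀ → X) (hf : Continuous f) :
    [Function.Bijective (fun U : TopologicalSpace.Opens X =>
        (⟨f ⁻¹' (U : Set X), U.isOpen.preimage hf⟩ : TopologicalSpace.Opens X₀)),
      Function.Bijective (fun F : TopologicalSpace.Closeds X =>
        (⟨f ⁻¹' (F : Set X), F.isClosed.preimage hf⟩ : TopologicalSpace.Closeds X₀)),
      Topology.IsInducing f ∧
        ∀ U V : Set X, IsOpen U → IsOpen V → U ∩ Set.range f = V ∩ Set.range f → U = V].TFAE := by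
  have h13 : Function.Bijective (fun U : TopologicalSpace.Opens X =>
        (⟨f ⁻¹' (U : Set X), U.isOpen.preimage hf⟩ : TopologicalSpace.Opens X₀)) ↔
      (Topology.IsInducing f ∧
        ∀ U V : Set X, IsOpen U → IsOpen V → U ∩ Set.range f = V ∩ Set.range f → U = V) := by
    rw [Groth.Agent.H8.qh_iff_opens_bijective hf]
    constructor
    · intro h
      exact ⟨h.isInducing hf, h.vd_range.open_inj⟩
    · rintro ⟨hind, hvd⟩
      refine ⟨fun U₁ U₂ h₁ h₂ h => ?_, fun V hV => ?_⟩
      · apply hvd U₁ U₂ h₁ h₂
        ext y
        constructor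
        · rintro ⟨hy, x, rfl⟩
          have : x ∈ f ⁻¹' U₁ := hy
          rw [h] at this
          exact ⟨this, x, rfl⟩
        · rintro ⟨hy, x, rfl⟩
          have : x ∈ f ⁻¹' U₂ := hy
          rw [← h] at this
          exact ⟨this, x, rfl⟩
      · obtain ⟨U, hU, hUV⟩ := hind.isOpen_iff.mp hV
        exact ⟨U, hU, hUV⟩
  have h12 : Function.Bijective (fun U : TopologicalSpace.Opens X =>
        (⟨f ⁻¹' (U : Set X), U.isOpen.preimage hf⟩ : TopologicalSpace.Opens X₀)) ↔
      Function.Bijective (fun F : TopologicalSpace.Closeds X =>
        (⟨f ⁻¹' (F : Set X), F.isClosed.preimage hf⟩ : TopologicalSpace.Closeds X₀)) := by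
    rw [Groth.Agent.H8.qh_iff_opens_bijective hf, Groth.Agent.H8.qh_iff_closeds_bijective hf]
  tfae_have 1 ↔ 3 := h13
  tfae_have 1 ↔ 2 := h12
  tfae_finish

end Groth.Agent.S4859
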