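import Groth.Statements.S4862
import Mathlib
import Groth.Agent.Lib.helper7.Jac1

set_option autoImplicit false
universe u
open EGA43

namespace Groth.Agent.S4862

open Groth.Agent.Lib.helper7.Jac

/-- For a commutative ring A the following are equivalent: a) A is a Jacobson ring; b) for every prime
ideal p of A which is not maximal and every nonzero f of B = A/p, the localization B_f is not a
field; b′) every finitely generated A-algebra which is a field is a finite A-module. -/
theorem result (A : Type u) [CommRing A] :
    [IsJacobsonRing A,
      ∀ (p : Ideal A) [p.IsPrime], ¬ p.IsMaximal → ∀ f : A ⧸ p, f ≠ 0 → ¬ IsField (Localization.Away f),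
      ∀ (K : Type u) [Field K] [Algebra A K], Algebra.FiniteType A K → Module.Finite A K].TFAE := by
  classical
  tfae_have 1 → 3 := by
    intro h K _ _ hft
    exact finite_of_finite_type_of_isJacobsonRing A K
  tfae_have 3 → 2 := by
    intro h p hp hpmax f hf hF
    letI := hF.toField
    have hle : Submonoid.powers f ≤ nonZeroDivisors (A ⧸ p) :=
      powers_le_nonZeroDivisors_of_noZeroDivisors hf
    have hinj : Function.Injective (algebraMap (A ⧸ p) (Localization.Away f)) :=
      IsLocalization.injective _ hle
    have hft1 : Algebra.FiniteType A (A ⧸ p) :=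
      Algebra.FiniteType.of_surjective (Ideal.Quotient.mkₐ A p) (Ideal.Quotient.mkₐ_surjective A p)
    have hft2 : Algebra.FiniteType (A ⧸ p) (Localization.Away f) :=
      have := IsLocalization.Away.finitePresentation (S := Localization.Away f) f
      Algebra.FiniteType.of_finitePresentation
    have hft : Algebra.FiniteType A (Localization.Away f) := hft1.trans hft2
    have hfin : Module.Finite A (Localization.Away f) := h (Localization.Away f) hft
    have hint : Algebra.IsIntegral A (Localization.Away f) :=
      Algebra.IsIntegral.of_finite A (Localization.Away f)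
    have hint2 : Algebra.IsIntegral (A ⧸ p) (Localization.Away f) :=
      Algebra.IsIntegral.tower_top A
    have hfield : IsField (A ⧸ p) := isField_of_isIntegral_of_isField hinj hF
    exact hpmax (Ideal.Quotient.maximal_of_isField p hfield)
  tfae_have 2 → 1 := by
    intro h
    rw [isJacobsonRing_iff_prime_eq]
    intro P hP
    refine le_antisymm ?_ Ideal.le_jacobson
    intro a ha
    by_contra haP
    set f : A ⧸ P := Ideal.Quotient.mk P a with hf_def
    have hf : f ≠ 0 := fun h0 => haP (Ideal.Quotient.eq_zero_iff_mem.mp h0)
    have hle : Submonoid.powers f ≤ nonZeroDivisors (A ⧸ P) :=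
      powers_le_nonZeroDivisors_of_noZeroDivisors hf
    have hdom : IsDomain (Localization.Away f) :=
      IsLocalization.isDomain_of_le_nonZeroDivisors _ hle
    obtain ⟨n, hn⟩ := Ideal.exists_maximal (Localization.Away f)
    set qb : Ideal (A ⧸ P) := Ideal.comap (algebraMap (A ⧸ P) (Localization.Away f)) n with hqb
    set q : Ideal A := Ideal.comap (Ideal.Quotient.mk P) qb with hq
    have hnprime : n.IsPrime := hn.isPrime
    have hqbprime : qb.IsPrime := Ideal.comap_isPrime _ _
    have hqprime : q.IsPrime := Ideal.comap_isPrime _ _
    have hsurj : Function.Surjective (Ideal.Quotient.mk P) := Ideal.Quotient.mk_surjective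
    have hPq : P ≤ q := fun x hx => by
      change Ideal.Quotient.mk P x ∈ qb
      rw [Ideal.Quotient.eq_zero_iff_mem.mpr hx]
      exact Ideal.zero_mem _
    have haq : a ∉ q := by
      intro haq
      have hmem : algebraMap (A ⧸ P) (Localization.Away f) f ∈ n := haq
      exact hnprime.ne_top (Ideal.eq_top_of_isUnit_mem _ hmem
        (IsLocalization.Away.algebraMap_isUnit f))
    have hmapq : Ideal.map (Ideal.Quotient.mk P) q = qb := Ideal.map_comap_of_surjective _ hsurj qb
    have hkey : ∀ (q' : Ideal A) [q'.IsPrime], q ≤ q' → a ∉ q' → q' = q := by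
      intro q' hq' hqq' haq'
      have hker : RingHom.ker (Ideal.Quotient.mk P) ≤ q' := by
        rw [Ideal.mk_ker]
        exact hPq.trans hqq'
      have hq'bprime : (Ideal.map (Ideal.Quotient.mk P) q').IsPrime :=
        Ideal.map_isPrime_of_surjective hsurj hker
      have hcm : Ideal.comap (Ideal.Quotient.mk P) (Ideal.map (Ideal.Quotient.mk P) q') = q' := by
        rw [Ideal.comap_map_of_surjective _ hsurj, ← RingHom.ker_eq_comap_bot]
        exact sup_eq_left.mpr hker
      have hfq' : f ∉ Ideal.map (Ideal.Quotient.mk P) q' := by
        intro hmem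
        apply haq'
        rw [← hcm]
        exact hmem
      have hdisj : Disjoint (Submonoid.powers f : Set (A ⧸ P))
          (Ideal.map (Ideal.Quotient.mk P) q' : Set (A ⧸ P)) :=
        (Ideal.disjoint_powers_iff_notMem f hq'bprime.isRadical).mpr hfq'
      have hn'prime := IsLocalization.isPrime_of_isPrime_disjoint (Submonoid.powers f)
        (Localization.Away f) _ hq'bprime hdisj
      have hnle : n ≤ Ideal.map (algebraMap (A ⧸ P) (Localization.Away f))
          (Ideal.map (Ideal.Quotient.mk P) q') := by
        have h1 := IsLocalization.map_under (Submonoid.powers f) (Localization.Away f) n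
        rw [Ideal.under_def] at h1
        rw [← h1]
        refine Ideal.map_mono ?_
        rw [← hqb, ← hmapq]
        exact Ideal.map_mono hqq'
      have hneq := hn.eq_of_le hn'prime.ne_top hnle
      have hunder := IsLocalization.under_map_of_isPrime_disjoint (Submonoid.powers f)
        (Localization.Away f) hq'bprime hdisj
      rw [Ideal.under_def, ← hneq] at hunder
      rw [← hcm, ← hunder]
    by_cases hqmax : q.IsMaximal
    · have : a ∈ q := by
        rw [Ideal.jacobson, Ideal.mem_sInf] at ha
        exact ha ⟨hPq, hqmax⟩
      exact haq this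
    · have hg : Ideal.Quotient.mk q a ≠ 0 := fun h0 => haq (Ideal.Quotient.eq_zero_iff_mem.mp h0)
      refine h q hqmax (Ideal.Quotient.mk q a) hg (isField_away_of_forall hg fun r hr hgr => ?_)
      have hsurjq : Function.Surjective (Ideal.Quotient.mk q) := Ideal.Quotient.mk_surjective
      have hr'prime : (Ideal.comap (Ideal.Quotient.mk q) r).IsPrime := Ideal.comap_isPrime _ _
      have hqr' : q ≤ Ideal.comap (Ideal.Quotient.mk q) r := fun x hx => by
        change Ideal.Quotient.mk q x ∈ r
        rw [Ideal.Quotient.eq_zero_iff_mem.mpr hx]
        exact Ideal.zero_mem _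
      have har' : a ∉ Ideal.comap (Ideal.Quotient.mk q) r := hgr
      have hr'q := hkey _ hqr' har'
      rw [← Ideal.map_comap_of_surjective _ hsurjq r, hr'q, Ideal.map_quotient_self]
  tfae_finish

end Groth.Agent.S4862
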