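import Groth.Statements.S4872
import Mathlib

set_option autoImplicit false
universe u
open CategoryTheory AlgebraicGeometry
open EGA43

namespace Groth.Agent.S4872

section Helpers

open AlgebraicGeometry CategoryTheory Limits TopologicalSpace

lemma restrict_app_eq_zero_iff {Z X : Scheme.{u}} (f : Z ⟶ X) (U : X.Opens)
    (W : U.toScheme.Opens) (t : Γ(U, W)) :
    (f ∣_ U).app W t = 0 ↔ (f.app (U.ι ''ᵁ W)).hom t = 0 := by
  rw [morphismRestrict_app]
  have hinj : Function.Injective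
      (Z.presheaf.map (eqToHom (image_morphismRestrict_preimage f U W)).op).hom :=
    (ConcreteCategory.bijective_of_isIso _).1
  constructor
  · intro h
    apply hinj
    rw [map_zero]
    exact h
  · intro h
    show (Z.presheaf.map _).hom ((f.app (U.ι ''ᵁ W)).hom t) = 0
    rw [h, map_zero]

theorem b_imp_c {X : Scheme.{u}} {ι : Type u} (Z : ι → Scheme.{u}) (f : ∀ i, Z i ⟶ X)
    (hb : ∀ (V : (X).Opens) (t : Γ(X, V)), (∀ i, (f i).app V t = 0) → t = 0)
    (U : X.Opens) (Y : Scheme.{u}) (j : Y ⟶ (U : Scheme.{u})) (hj : IsClosedImmersion j)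
    (hg : ∀ i, ∃ g : ((f i) ⁻¹ᵁ U : Scheme.{u}) ⟶ Y, g ≫ j = (f i) ∣_ U) : IsIso j := by
  rw [IsClosedImmersion.isIso_iff_ker_eq_bot]
  refine le_antisymm ?_ bot_le
  refine Scheme.IdealSheafData.le_def.mpr fun W => ?_
  intro t ht
  rw [Scheme.Hom.ker_apply, RingHom.mem_ker] at ht
  have h0 : t = 0 := by
    refine hb (U.ι ''ᵁ W.1) t fun i => ?_
    obtain ⟨g, hg⟩ := hg i
    rw [← restrict_app_eq_zero_iff, ← hg]
    show (g.app _).hom ((j.app W.1).hom t) = 0
    rw [ht, map_zero]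
  rw [h0]
  exact Ideal.zero_mem _

theorem c_imp_d {X S : Scheme.{u}} (p : X ⟶ S) {ι : Type u} (Z : ι → Scheme.{u})
    (f : ∀ i, Z i ⟶ X)
    (hc : ∀ (U : X.Opens) (Y : Scheme.{u}) (j : Y ⟶ (U : Scheme.{u})), IsClosedImmersion j →
        (∀ i, ∃ g : ((f i) ⁻¹ᵁ U : Scheme.{u}) ⟶ Y, g ≫ j = (f i) ∣_ U) → IsIso j)
    (X' : Scheme.{u}) (q : X' ⟶ S) (hq : IsSeparated q) (U : X.Opens)
    (u v : (U : Scheme.{u}) ⟶ X') (hu : u ≫ q = U.ι ≫ p) (hv : v ≫ q = U.ι ≫ p)
    (huv : ∀ i, ((f i) ∣_ U) ≫ u = ((f i) ∣_ U) ≫ v) : u = v := by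
  let uv : (U : Scheme.{u}) ⟶ pullback q q := pullback.lift u v (hu.trans hv.symm)
  let j : pullback uv (pullback.diagonal q) ⟶ (U : Scheme.{u}) := pullback.fst _ _
  have hj : IsClosedImmersion j := inferInstance
  have hiso : IsIso j := by
    refine hc U _ j hj fun i => ?_
    refine ⟨pullback.lift ((f i) ∣_ U) (((f i) ∣_ U) ≫ u) ?_, pullback.lift_fst _ _ _⟩
    apply pullback.hom_ext
    · simp only [Category.assoc, uv, pullback.lift_fst, pullback.diagonal_fst, Category.comp_id]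
    · simp only [Category.assoc, uv, pullback.lift_snd, pullback.diagonal_snd, Category.comp_id]
      exact (huv i).symm
  have h1 : j ≫ u = j ≫ v := by
    have hc' := pullback.condition (f := uv) (g := pullback.diagonal q)
    have e1 := congr($hc' ≫ pullback.fst q q)
    have e2 := congr($hc' ≫ pullback.snd q q)
    simp only [Category.assoc, uv, pullback.lift_fst, pullback.lift_snd, pullback.diagonal_fst,
      pullback.diagonal_snd, Category.comp_id] at e1 e2
    exact e1.trans e2.symm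
  exact (cancel_epi j).mp h1

theorem d_imp_b {X S : Scheme.{u}} (p : X ⟶ S) {ι : Type u} (Z : ι → Scheme.{u})
    (f : ∀ i, Z i ⟶ X)
    (hd : ∀ (X' : Scheme.{u}) (q : X' ⟶ S), IsSeparated q → ∀ (U : X.Opens)
        (u v : (U : Scheme.{u}) ⟶ X'),
        u ≫ q = U.ι ≫ p → v ≫ q = U.ι ≫ p → (∀ i, ((f i) ∣_ U) ≫ u = ((f i) ∣_ U) ≫ v) → u = v)
    (V : X.Opens) (t : Γ(X, V)) (ht : ∀ i, (f i).app V t = 0) : t = 0 := by
  -- `t` as a global section of `V`
  let t' : Γ(V, ⊤) := V.topIso.inv.hom t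
  let u : (V : Scheme.{u}) ⟶ 𝔸(PUnit.{u+1}; S) := AffineSpace.homOfVector (V.ι ≫ p) (fun _ => t')
  let v : (V : Scheme.{u}) ⟶ 𝔸(PUnit.{u+1}; S) := AffineSpace.homOfVector (V.ι ≫ p) (fun _ => 0)
  have huv : u = v := by
    refine hd _ (𝔸(PUnit.{u+1}; S) ↘ S) inferInstance V u v
      (AffineSpace.homOfVector_over _ _) (AffineSpace.homOfVector_over _ _) fun i => ?_
    apply AffineSpace.hom_ext
    · simp only [Category.assoc, u, v, AffineSpace.homOfVector_over]
    · intro k
      simp only [Scheme.Hom.comp_appTop, CommRingCat.hom_comp, RingHom.comp_apply, u, v]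
      rw [AffineSpace.homOfVector_appTop_coord, AffineSpace.homOfVector_appTop_coord, map_zero]
      have h1 := (restrict_app_eq_zero_iff (f i) V ⊤ t').mpr ?_
      · exact h1
      · have hnat := (f i).naturality (eqToHom V.ι_image_top).op
        have h2 := congr($(hnat).hom t)
        simp only [CommRingCat.hom_comp, RingHom.comp_apply] at h2
        have ht0 : ((f i).app V).hom t = 0 := ht i
        rw [ht0, map_zero] at h2
        have ht' : t' = (X.presheaf.map (eqToHom V.ι_image_top).op).hom t := by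
          simp only [t', Scheme.Opens.topIso_inv]
          rfl
        rw [ht']
        exact h2
  have h3 := congr(($huv).appTop (AffineSpace.coord S PUnit.unit))
  simp only [u, v] at h3
  rw [AffineSpace.homOfVector_appTop_coord, AffineSpace.homOfVector_appTop_coord] at h3
  have h4 : t = V.topIso.hom.hom t' := by
    simp only [t', ← CommRingCat.comp_apply, Iso.inv_hom_id, CommRingCat.id_apply]
  rw [h4, h3, map_zero]

theorem main {X S : Scheme.{u}} (p : X ⟶ S) {ι : Type u} (Z : ι → Scheme.{u})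
    (f : ∀ i, Z i ⟶ X) :
    [(∀ (V : (X).Opens) (t : Γ(X, V)), (∀ i, (f i).app V t = 0) → t = 0),
      ∀ (U : X.Opens) (Y : Scheme.{u}) (j : Y ⟶ (U : Scheme.{u})), IsClosedImmersion j →
        (∀ i, ∃ g : ((f i) ⁻¹ᵁ U : Scheme.{u}) ⟶ Y, g ≫ j = (f i) ∣_ U) → IsIso j,
      ∀ (X' : Scheme.{u}) (q : X' ⟶ S), IsSeparated q → ∀ (U : X.Opens) (u v : (U : Scheme.{u}) ⟶ X'),
        u ≫ q = U.ι ≫ p → v ≫ q = U.ι ≫ p → (∀ i, ((f i) ∣_ U) ≫ u = ((f i) ∣_ U) ≫ v) → u = v].TFAE := by
  tfae_have 1 → 2 := fun hb U Y j hj hg => b_imp_c Z f hb U Y j hj hg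
  tfae_have 2 → 3 := fun hc X' q hq U u v hu hv huv => c_imp_d p Z f hc X' q hq U u v hu hv huv
  tfae_have 3 → 1 := fun hd V t ht => d_imp_b p Z f hd V t ht
  tfae_finish

end Helpers


/-- Conditions b), c), d) (schematically dominant families): let p : X ⟶ S be a morphism and (f_i : Z_i
⟶ X) a family of morphisms. The following are equivalent: b) for every open V of X, a section of O_X
over V whose images in all the Γ(f_i⁻¹(V), O_{Z_i}) are zero is zero; c) for every open U of X, a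
closed immersion j : Y ⟶ U through which each restriction f_i⁻¹(U) ⟶ U factors is an isomorphism; d)
for every separated S-scheme X', every open U of X and every pair of S-morphisms u, v : U ⟶ X'
having the same composite with each f_i⁻¹(U) ⟶ U, one has u = v. -/
theorem result {X S : Scheme.{u}} (p : X ⟶ S) {ι : Type u} (Z : ι → Scheme.{u})
    (f : ∀ i, Z i ⟶ X) :
    [(∀ (V : (X).Opens) (t : Γ(X, V)), (∀ i, (f i).app V t = 0) → t = 0),
      ∀ (U : X.Opens) (Y : Scheme.{u}) (j : Y ⟶ (U : Scheme.{u})), IsClosedImmersion j →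
        (∀ i, ∃ g : ((f i) ⁻¹ᵁ U : Scheme.{u}) ⟶ Y, g ≫ j = (f i) ∣_ U) → IsIso j,
      ∀ (X' : Scheme.{u}) (q : X' ⟶ S), IsSeparated q → ∀ (U : X.Opens) (u v : (U : Scheme.{u}) ⟶ X'),
        u ≫ q = U.ι ≫ p → v ≫ q = U.ι ≫ p → (∀ i, ((f i) ∣_ U) ≫ u = ((f i) ∣_ U) ≫ v) → u = v].TFAE := by
  exact main p Z f

end Groth.Agent.S4872
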