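import Groth.Statements.S4873


set_option autoImplicit false
universe u
open CategoryTheory AlgebraicGeometry
open EGA43

namespace Groth.Agent.S4873

/-- Let (f_i : Z_i ⟶ X) be a family of morphisms. If the family is schematically dominant, i.e. a
section of O_X over an open V whose pullback to every f_i⁻¹(V) vanishes is zero, then the union of
the images f_i(Z_i) is dense in X. Conversely, if X is reduced and this union is dense, the family
is schematically dominant. -/
theorem result {X : Scheme.{u}} {ι : Type u} (Z : ι → Scheme.{u})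
    (f : ∀ i, Z i ⟶ X) :
    ((∀ (V : (X).Opens) (t : Γ(X, V)), (∀ i, (f i).app V t = 0) → t = 0) → Dense (⋃ i, Set.range (f i))) ∧
    (IsReduced X → Dense (⋃ i, Set.range (f i)) → (∀ (V : (X).Opens) (t : Γ(X, V)), (∀ i, (f i).app V t = 0) → t = 0)) := by
  constructor
  · intro h
    rw [dense_iff_inter_open]
    intro V hV hVne
    by_contra hcon
    rw [Set.not_nonempty_iff_eq_empty] at hcon
    let V' : X.Opens := ⟨V, hV⟩
    have h1 : (1 : Γ(X, V')) = 0 := by
      apply h V' 1
      intro i
      have hpre : (f i) ⁻¹ᵁ V' = ⊥ := by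
        ext z
        simp only [TopologicalSpace.Opens.coe_bot, Set.mem_empty_iff_false, iff_false]
        intro hz
        have : (f i) z ∈ V ∩ ⋃ i, Set.range (f i) :=
          ⟨hz, Set.mem_iUnion.mpr ⟨i, ⟨z, rfl⟩⟩⟩
        rw [hcon] at this
        exact this
      have hb : (Z i).basicOpen ((f i).app V' 1) = ⊥ := by
        rw [← Scheme.preimage_basicOpen]
        apply le_bot_iff.mp
        rw [← hpre]
        exact (f i).preimage_mono (X.basicOpen_le _)
      rw [map_one] at hb ⊢
      have : (Z i).basicOpen (1 : Γ(Z i, (f i) ⁻¹ᵁ V')) = (f i) ⁻¹ᵁ V' :=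
        Scheme.basicOpen_of_isUnit _ isUnit_one
      rw [this] at hb
      have hsub : Subsingleton Γ(Z i, (f i) ⁻¹ᵁ V') := by
        rw [hb]
        infer_instance
      exact Subsingleton.elim _ _
    have hb : X.basicOpen (1 : Γ(X, V')) = ⊥ := by rw [h1]; exact Scheme.basicOpen_zero _ _
    rw [Scheme.basicOpen_of_isUnit _ isUnit_one] at hb
    obtain ⟨x, hx⟩ := hVne
    have : x ∈ (V' : Set X) := hx
    rw [hb] at this
    exact this
  · intro hred hdense V t ht
    haveI := hred
    apply AlgebraicGeometry.eq_zero_of_basicOpen_eq_bot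
    by_contra hne
    have hne' : ((X.basicOpen t : X.Opens) : Set X).Nonempty := by
      rw [Set.nonempty_iff_ne_empty]
      intro h0
      apply hne
      ext x
      simp only [TopologicalSpace.Opens.coe_bot, Set.mem_empty_iff_false, iff_false]
      intro hx
      have : x ∈ ((X.basicOpen t : X.Opens) : Set X) := hx
      rw [h0] at this
      exact this
    obtain ⟨x, hx1, hx2⟩ := (dense_iff_inter_open.mp hdense) _ (X.basicOpen t).2 hne'
    obtain ⟨i, z, rfl⟩ := Set.mem_iUnion.mp hx2
    have hz : z ∈ (f i) ⁻¹ᵁ X.basicOpen t := hx1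
    rw [Scheme.preimage_basicOpen, ht i, Scheme.basicOpen_zero] at hz
    exact hz

end Groth.Agent.S4873
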