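import Groth.Statements.S4880
import Mathlib
import Groth.Agent.Lib.helper7.Jac2

set_option autoImplicit false
universe u
open CategoryTheory AlgebraicGeometry
open EGA43

namespace Groth.Agent.S4880

open Groth.Agent.Lib.helper7.Jac Topology TopologicalSpace

/-- For a Noetherian irreducible scheme X the following are equivalent: a) the generic point of X is an
isolated point; b) the underlying set of X is finite; c) X has dimension at most 1 and finitely many
closed points. -/
theorem result (X : Scheme.{u}) [IsNoetherian X]
    [IrreducibleSpace X] :
    [IsOpen ({genericPoint X} : Set X),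
      Finite X,
      topologicalKrullDim X ≤ 1 ∧ {x : X | IsClosed ({x} : Set X)}.Finite].TFAE := by
  have hη : closure ({genericPoint X} : Set X) = Set.univ := (genericPoint_spec X).def
  have hspec : ∀ y : X, genericPoint X ⤳ y := fun y =>
    specializes_iff_mem_closure.mpr (hη ▸ Set.mem_univ y)
  have h12 : IsOpen ({genericPoint X} : Set X) → Finite X := by
    intro h
    have hlc : IsLocallyClosed ({genericPoint X} : Set X) := h.isLocallyClosed
    have hWcl : IsClosed ({genericPoint X}ᶜ : Set X) := h.isClosed_compl
    have hqs : QuasiSober ↥({genericPoint X}ᶜ : Set X) :=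
      (hWcl.isClosedEmbedding_subtypeVal).quasiSober
    have hfinW : Finite ↥({genericPoint X}ᶜ : Set X) := by
      refine finite_of_forall_isClosed_singleton fun a => ?_
      have hcl : IsClosed ({(a : X)} : Set X) :=
        isClosed_singleton_of_mem_closure hlc (hη ▸ Set.mem_univ _) a.2
      have : ({a} : Set ↥({genericPoint X}ᶜ : Set X)) = Subtype.val ⁻¹' ({(a : X)} : Set X) := by
        ext t
        simp only [Set.mem_singleton_iff, Set.mem_preimage]
        exact ⟨fun h => h ▸ rfl, fun h => Subtype.ext h⟩
      rw [this]
      exact hcl.preimage continuous_subtype_val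
    have hWfin : ({genericPoint X}ᶜ : Set X).Finite := Set.toFinite _
    have : (Set.univ : Set X).Finite := by
      rw [← Set.union_compl_self {genericPoint X}]
      exact (Set.finite_singleton _).union hWfin
    exact Set.finite_univ_iff.mp this
  tfae_have 1 → 2 := h12
  tfae_have 2 → 1 := by
    intro hfin
    have heq : ({genericPoint X}ᶜ : Set X) = ⋃ y ∈ {y : X | y ≠ genericPoint X}, closure {y} := by
      ext t
      simp only [Set.mem_compl_iff, Set.mem_singleton_iff, Set.mem_iUnion, Set.mem_ofPred_eq,
        exists_prop]
      constructor
      · intro ht
        exact ⟨t, ht, subset_closure (Set.mem_singleton t)⟩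
      · rintro ⟨y, hy, hty⟩ rfl
        exact hy ((specializes_iff_mem_closure.mpr hty).antisymm (hspec y)).eq
    rw [← isClosed_compl_iff, heq]
    exact (Set.toFinite _).isClosed_biUnion fun y _ => isClosed_closure
  tfae_have 1 → 3 := by
    intro h
    have hfin := h12 h
    refine ⟨?_, Set.toFinite _⟩
    exact topologicalKrullDim_le_one_of_forall_isClosed_singleton (genericPoint X) hη
      fun a ha => isClosed_singleton_of_mem_closure h.isLocallyClosed (hη ▸ Set.mem_univ _) ha
  tfae_have 3 → 1 := by
    rintro ⟨hdim, hfin⟩
    by_cases hcl : IsClosed ({genericPoint X} : Set X)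
    · have : ({genericPoint X} : Set X) = Set.univ := by rw [← hη, hcl.closure_eq]
      rw [this]
      exact isOpen_univ
    · rw [topologicalKrullDim, Order.krullDim_le_one_iff] at hdim
      have hclosed : ∀ y : X, y ≠ genericPoint X → IsClosed ({y} : Set X) := by
        intro y hy
        rcases hdim ⟨closure {y}, isIrreducible_singleton.closure, isClosed_closure⟩ with hmin | hmax
        · rw [← closure_subset_iff_isClosed]
          intro y' hy'
          have hle : (⟨closure {y'}, isIrreducible_singleton.closure, isClosed_closure⟩ :
              IrreducibleCloseds X) ≤ ⟨closure {y}, isIrreducible_singleton.closure,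
                isClosed_closure⟩ :=
            SetLike.le_def.mpr fun t ht =>
              (isClosed_closure.closure_subset_iff.mpr (Set.singleton_subset_iff.mpr hy')) ht
          have hge := SetLike.le_def.mp (hmin hle) (show y ∈ closure ({y} : Set X) from
            subset_closure (Set.mem_singleton y))
          have h1 : y' ⤳ y := specializes_iff_mem_closure.mpr hge
          have h2 : y ⤳ y' := specializes_iff_mem_closure.mpr hy'
          rw [Set.mem_singleton_iff]
          exact (h1.antisymm h2).eq
        · exfalso
          have hle : (⟨closure {y}, isIrreducible_singleton.closure, isClosed_closure⟩ :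
              IrreducibleCloseds X) ≤ ⟨Set.univ, IrreducibleSpace.isIrreducible_univ X,
                isClosed_univ⟩ :=
            SetLike.le_def.mpr fun t _ => Set.mem_univ t
          have hge := SetLike.le_def.mp (hmax hle) (show genericPoint X ∈ (Set.univ : Set X) from
            Set.mem_univ _)
          have h1 : y ⤳ genericPoint X := specializes_iff_mem_closure.mpr hge
          exact hy ((h1.antisymm (hspec y)).eq)
      have hsub : ({genericPoint X}ᶜ : Set X) ⊆ {x : X | IsClosed ({x} : Set X)} :=
        fun y hy => hclosed y hy
      have hfin' : ({genericPoint X}ᶜ : Set X).Finite := hfin.subset hsub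
      rw [← isClosed_compl_iff]
      have heq : ({genericPoint X}ᶜ : Set X) = ⋃ y ∈ ({genericPoint X}ᶜ : Set X), {y} := by
        ext t
        simp
      rw [heq]
      exact hfin'.isClosed_biUnion fun y hy => hclosed y hy
  tfae_finish

end Groth.Agent.S4880
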