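import Groth.Statements.S4882
import Groth.Agent.Lib.helper8.QH

set_option autoImplicit false
universe u
open EGA43

namespace Groth.Agent.S4882

/-- Let X be a Jacobson space and Z a locally quasi-constructible subset of X, i.e. every point of X has
an open neighbourhood U such that U ∩ Z is a finite union of locally closed subsets of X. Then the
subspace Z is a Jacobson space, and a point of Z is closed in Z if and only if it is closed in X. -/
theorem result {X : Type u} [TopologicalSpace X] [JacobsonSpace X]
    (Z : Set X)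
    (hZ : ∀ x : X, ∃ U : Set X, IsOpen U ∧ x ∈ U ∧
      ∃ T : Set (Set X), T.Finite ∧ (∀ t ∈ T, IsLocallyClosed t) ∧ U ∩ Z = ⋃₀ T) :
    JacobsonSpace ↥Z ∧ ∀ z : ↥Z, IsClosed ({z} : Set ↥Z) ↔ IsClosed ({(z : X)} : Set X) := by
  have hL : Groth.Agent.H8.LQC Z := hZ
  have hvd : Groth.Agent.H8.VD (closedPoints X) := fun W hW hne =>
    nonempty_inter_closedPoints hne hW
  have hcl : ∀ z : ↥Z, IsClosed ({z} : Set ↥Z) ↔ IsClosed ({(z : X)} : Set X) := by
    intro z
    constructor
    · intro hz
      -- `{z}` is locally quasi-constructible in `X`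
      have h1 : ({(z : X)} : Set X) = Z ∩ closure {(z : X)} := by
        apply subset_antisymm
        · rintro _ rfl
          exact ⟨z.2, subset_closure rfl⟩
        · rintro y ⟨hyZ, hy⟩
          have : (⟨y, hyZ⟩ : ↥Z) ∈ closure ({z} : Set ↥Z) := by
            rw [closure_subtype]
            simpa using hy
          rw [hz.closure_eq] at this
          have := congrArg Subtype.val (Set.mem_singleton_iff.mp this)
          exact this
      have h2 : Groth.Agent.H8.LQC ({(z : X)} : Set X) := by
        rw [h1]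
        exact hL.inter (Groth.Agent.H8.LQC.of_isLocallyClosed isClosed_closure.isLocallyClosed)
      obtain ⟨U, _, hzU, T, _, hT, hUT⟩ := h2 (z : X)
      have h3 : U ∩ {(z : X)} = {(z : X)} := by
        rw [Set.inter_eq_right]; rintro _ rfl; exact hzU
      rw [h3] at hUT
      have : (z : X) ∈ ⋃₀ T := by rw [← hUT]; rfl
      obtain ⟨t, ht, hzt⟩ := this
      have htz : t = {(z : X)} := by
        apply subset_antisymm
        · rw [hUT]; exact Set.subset_sUnion_of_mem ht
        · rintro _ rfl; exact hzt
      exact isClosed_singleton_of_isLocallyClosed_singleton (htz ▸ hT t ht)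
    · intro hz
      have : ({z} : Set ↥Z) = Subtype.val ⁻¹' ({(z : X)} : Set X) := by
        ext y; simp [Subtype.ext_iff]
      rw [this]
      exact hz.preimage continuous_subtype_val
  refine ⟨?_, hcl⟩
  rw [jacobsonSpace_iff_locallyClosed]
  intro W hne hW
  obtain ⟨W', hW', rfl⟩ := (Topology.IsInducing.subtypeVal (t := Z)).isLocallyClosed_iff.mp hW
  obtain ⟨w, hw⟩ := hne
  have hne' : (W' ∩ Z).Nonempty := ⟨w, hw, w.2⟩
  obtain ⟨y, ⟨hyW, hyZ⟩, hyc⟩ := hvd.lqc_nonempty
    ((Groth.Agent.H8.LQC.of_isLocallyClosed hW').inter hL) hne'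
  exact ⟨⟨y, hyZ⟩, hyW, (hcl ⟨y, hyZ⟩).mpr hyc⟩

end Groth.Agent.S4882
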