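import Groth.Statements.S4883
import Mathlib
import Groth.Agent.Lib.helper7.Jac2

set_option autoImplicit false
universe u
open CategoryTheory AlgebraicGeometry
open EGA43

namespace Groth.Agent.S4883

open Groth.Agent.Lib.helper7.Jac Topology TopologicalSpace

/-- Let X be a Noetherian scheme. Then the set of points x of X whose closure is finite is very dense in
X: every nonempty locally closed subset of X contains a point with finite closure. -/
theorem result (X : Scheme.{u}) [IsNoetherian X]
    (Z : Set X) (hZ : IsLocallyClosed Z) (hne : Z.Nonempty) :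
    ∃ x ∈ Z, (closure ({x} : Set X)).Finite := by
  obtain ⟨z, hz⟩ := hne
  obtain ⟨U, F, hU, hF, rfl⟩ := hZ
  have hc : CompactSpace ↥(U ∩ F) := isCompact_iff_compactSpace.mp (NoetherianSpace.isCompact _)
  obtain ⟨w, -, hwcl⟩ := (isClosed_univ : IsClosed (Set.univ : Set ↥(U ∩ F))).exists_closed_singleton
    ⟨⟨z, hz⟩, Set.mem_univ _⟩
  have hwU : (w : X) ∈ U := w.2.1
  have hwF : (w : X) ∈ F := w.2.2
  have hclF : closure ({(w : X)} : Set X) ⊆ F :=
    hF.closure_subset_iff.mpr (Set.singleton_subset_iff.mpr hwF)
  have hinter : closure ({(w : X)} : Set X) ∩ U = {(w : X)} := by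
    ext y
    constructor
    · rintro ⟨hycl, hyU⟩
      have : (⟨y, hyU, hclF hycl⟩ : ↥(U ∩ F)) ∈ closure ({w} : Set ↥(U ∩ F)) := by
        exact mem_closure_singleton_subtype _ w hycl
      rw [hwcl.closure_eq, Set.mem_singleton_iff] at this
      rw [Set.mem_singleton_iff]
      exact congrArg Subtype.val this
    · intro hy
      rw [Set.mem_singleton_iff] at hy
      subst hy
      exact ⟨subset_closure (Set.mem_singleton _), hwU⟩
  have hxlc : IsLocallyClosed ({(w : X)} : Set X) :=
    ⟨U, closure {(w : X)}, hU, isClosed_closure, hinter.symm.trans (Set.inter_comm _ _)⟩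
  refine ⟨w, w.2, ?_⟩
  set W : Set X := closure ({(w : X)} : Set X) ∩ Uᶜ with hW
  have hWcl : IsClosed W := isClosed_closure.inter hU.isClosed_compl
  have hqs : QuasiSober ↥W := (hWcl.isClosedEmbedding_subtypeVal).quasiSober
  have hfinW : Finite ↥W := by
    refine finite_of_forall_isClosed_singleton fun a => ?_
    have hane : (a : X) ≠ (w : X) := fun h => a.2.2 (h ▸ hwU)
    have hcl : IsClosed ({(a : X)} : Set X) := isClosed_singleton_of_mem_closure hxlc a.2.1 hane
    have : ({a} : Set ↥W) = Subtype.val ⁻¹' ({(a : X)} : Set X) := by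
      ext t
      simp only [Set.mem_singleton_iff, Set.mem_preimage]
      exact ⟨fun h => h ▸ rfl, fun h => Subtype.ext h⟩
    rw [this]
    exact hcl.preimage continuous_subtype_val
  have hWfin : W.Finite := Set.toFinite W
  refine ((Set.finite_singleton (w : X)).union hWfin).subset fun y hy => ?_
  by_cases hyU : y ∈ U
  · left
    rw [← hinter]
    exact ⟨hy, hyU⟩
  · right
    exact ⟨hy, hyU⟩

end Groth.Agent.S4883
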