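import Groth.Statements.S4885
import Mathlib

set_option autoImplicit false
universe u
open EGA43

namespace Groth.Agent.S4885



/-- Every finite algebra A' over a commutative ring A is a directed colimit (filtered inductive limit)
of A-algebras which are finite and of finite presentation over A. -/
theorem result (A A' : Type u) [CommRing A] [CommRing A']
    [Algebra A A'] [Module.Finite A A'] :
    ∃ (ι : Type u) (_ : Preorder ι) (G : ι → Type u) (_ : ∀ i, CommRing (G i)) (_ : ∀ i, Algebra A (G i))
      (g : ∀ i j, i ≤ j → G i →ₐ[A] G j) (_ : ∀ i, Algebra (G i) A') (_ : ∀ i, IsScalarTower A (G i) A'),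
      FlatCA.IsDirectedColimitRing G (fun i j h => (g i j h).toRingHom) A' ∧
        ∀ i, Module.Finite A (G i) ∧ Algebra.FinitePresentation A (G i) := by
  classical
  obtain ⟨n, π, hπ⟩ := Algebra.FiniteType.iff_quotient_mvPolynomial''.mp
    (inferInstance : Algebra.FiniteType A A')
  -- integrality of the generators
  have hint : ∀ i : Fin n, ∃ q : Polynomial A, q.Monic ∧ Polynomial.aeval (π (MvPolynomial.X i)) q = 0 :=
    fun i => Algebra.IsIntegral.isIntegral (R := A) (π (MvPolynomial.X i))
  choose q hqm hq using hint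
  let Q : Fin n → MvPolynomial (Fin n) A := fun i => Polynomial.aeval (MvPolynomial.X i) (q i)
  have hQ : ∀ i, π (Q i) = 0 := by
    intro i
    show π (Polynomial.aeval (MvPolynomial.X i) (q i)) = 0
    rw [← Polynomial.aeval_algHom_apply, hq]
  let I0 : Ideal (MvPolynomial (Fin n) A) := Ideal.span (Set.range Q)
  have hI0 : ∀ p ∈ I0, π p = 0 := by
    intro p hp
    have : I0 ≤ RingHom.ker π := Ideal.span_le.mpr (by rintro _ ⟨i, rfl⟩; exact hQ i)
    exact this hp
  let ι : Type u := {J : Finset (MvPolynomial (Fin n) A) // ∀ p ∈ J, π p = 0}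
  letI : Preorder ι := Preorder.lift (fun J : ι => J.1)
  let IJ : ι → Ideal (MvPolynomial (Fin n) A) := fun J => I0 ⊔ Ideal.span (J.1 : Set _)
  have hIJ : ∀ J : ι, ∀ p ∈ IJ J, π p = 0 := by
    intro J p hp
    have : IJ J ≤ RingHom.ker π := sup_le (fun p hp => hI0 p hp)
      (Ideal.span_le.mpr (fun p hp => J.2 p hp))
    exact this hp
  have hIJmono : ∀ J K : ι, J ≤ K → IJ J ≤ IJ K := fun J K h =>
    sup_le_sup_left (Ideal.span_mono (by exact_mod_cast (h : J.1 ⊆ K.1))) _
  let G : ι → Type u := fun J => MvPolynomial (Fin n) A ⧸ IJ J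
  let g : ∀ i j : ι, i ≤ j → G i →ₐ[A] G j := fun i j h => Ideal.Quotient.factorₐ A (hIJmono i j h)
  let toA' : ∀ i : ι, G i →ₐ[A] A' := fun i => Ideal.Quotient.liftₐ (IJ i) π (hIJ i)
  letI algG : ∀ i : ι, Algebra (G i) A' := fun i => (toA' i).toRingHom.toAlgebra
  have halg : ∀ (i : ι) (x : G i), algebraMap (G i) A' x = toA' i x := fun _ _ => rfl
  haveI towG : ∀ i : ι, IsScalarTower A (G i) A' := fun i =>
    IsScalarTower.of_algebraMap_eq (R := A) (S := G i) (A := A')
      (fun a => by rw [halg]; exact ((toA' i).commutes a).symm)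
  refine ⟨ι, inferInstance, G, fun i => inferInstance, fun i => inferInstance, g, algG, towG, ?_, ?_⟩
  · have hg_mk : ∀ (i j : ι) (h : i ≤ j) (p : MvPolynomial (Fin n) A),
        g i j h (Ideal.Quotient.mk (IJ i) p) = Ideal.Quotient.mk (IJ j) p :=
      fun i j h p => Ideal.Quotient.factorₐ_apply_mk A (hIJmono i j h) p
    have htoA_mk : ∀ (i : ι) (p : MvPolynomial (Fin n) A),
        toA' i (Ideal.Quotient.mk (IJ i) p) = π p :=
      fun i p => Ideal.Quotient.liftₐ_apply (IJ i) π (hIJ i) (Ideal.Quotient.mk (IJ i) p)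
    refine ⟨?_, ?_, ?_, ?_, ?_, ?_, ?_⟩
    · refine ⟨fun J K => ⟨⟨J.1 ∪ K.1, ?_⟩, ?_, ?_⟩⟩
      · intro p hp
        rcases Finset.mem_union.mp hp with h | h
        · exact J.2 p h
        · exact K.2 p h
      · exact (Finset.subset_union_left : J.1 ⊆ J.1 ∪ K.1)
      · exact (Finset.subset_union_right : K.1 ⊆ J.1 ∪ K.1)
    · exact ⟨⟨∅, by simp⟩⟩
    · intro i
      refine RingHom.ext fun x => ?_
      obtain ⟨p, rfl⟩ := Ideal.Quotient.mk_surjective x
      rw [RingHom.id_apply]
      exact hg_mk i i le_rfl p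
    · intro i j k hij hjk
      refine RingHom.ext fun x => ?_
      obtain ⟨p, rfl⟩ := Ideal.Quotient.mk_surjective x
      rw [RingHom.comp_apply]
      exact ((congrArg (g j k hjk) (hg_mk i j hij p)).trans (hg_mk j k hjk p)).trans
        (hg_mk i k (hij.trans hjk) p).symm
    · intro i j h
      refine RingHom.ext fun x => ?_
      obtain ⟨p, rfl⟩ := Ideal.Quotient.mk_surjective x
      rw [RingHom.comp_apply, halg]
      exact ((congrArg (toA' j) (hg_mk i j h p)).trans (htoA_mk j p)).trans
        ((halg i _).trans (htoA_mk i p)).symm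
    · intro a
      obtain ⟨p, rfl⟩ := hπ a
      exact ⟨⟨∅, by simp⟩, Ideal.Quotient.mk _ p, (halg _ _).trans (htoA_mk _ p)⟩
    · intro i x hx
      obtain ⟨p, rfl⟩ := Ideal.Quotient.mk_surjective x
      have hp : π p = 0 := by rw [← htoA_mk i p, ← halg]; exact hx
      have hj : ∀ p' ∈ insert p i.1, π p' = 0 := by
        intro p' hp'
        rcases Finset.mem_insert.mp hp' with h | h
        · rw [h]; exact hp
        · exact i.2 p' h
      have hij : i ≤ (⟨insert p i.1, hj⟩ : ι) :=
        (Finset.subset_insert p i.1 : i.1 ⊆ insert p i.1)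
      refine ⟨⟨insert p i.1, hj⟩, hij, ?_⟩
      refine (hg_mk i _ hij p).trans ?_
      rw [Ideal.Quotient.eq_zero_iff_mem]
      exact Ideal.mem_sup_right (Ideal.subset_span (Finset.mem_insert_self p i.1))
  · intro i
    constructor
    · -- finiteness
      have hgen : Algebra.adjoin A (Set.range fun k : Fin n =>
          (Ideal.Quotient.mk (IJ i) (MvPolynomial.X k) : G i)) = ⊤ := by
        have h1 : Algebra.adjoin A (Set.range (MvPolynomial.X : Fin n → MvPolynomial (Fin n) A)) = ⊤ :=
          MvPolynomial.adjoin_range_X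
        have h2 := congrArg (Subalgebra.map (Ideal.Quotient.mkₐ A (IJ i))) h1
        rw [AlgHom.map_adjoin, Algebra.map_top, ← Set.range_comp] at h2
        rw [show (Set.range fun k : Fin n => (Ideal.Quotient.mk (IJ i) (MvPolynomial.X k) : G i))
          = Set.range (⇑(Ideal.Quotient.mkₐ A (IJ i)) ∘ MvPolynomial.X) from rfl, h2]
        exact (AlgHom.range_eq_top _).mpr (Ideal.Quotient.mkₐ_surjective A (IJ i))
      have hfin := fg_adjoin_of_finite (R := A) (Set.finite_range fun k : Fin n =>
          (Ideal.Quotient.mk (IJ i) (MvPolynomial.X k) : G i)) (by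
        rintro _ ⟨k, rfl⟩
        refine ⟨q k, hqm k, ?_⟩
        have : Polynomial.aeval (Ideal.Quotient.mk (IJ i) (MvPolynomial.X k) : G i) (q k) =
            Ideal.Quotient.mk (IJ i) (Q k) := by
          show _ = Ideal.Quotient.mkₐ A (IJ i) (Polynomial.aeval (MvPolynomial.X k) (q k))
          rw [← Polynomial.aeval_algHom_apply]; rfl
        rw [← Polynomial.aeval_def, this, Ideal.Quotient.eq_zero_iff_mem]
        exact Ideal.mem_sup_left (Ideal.subset_span ⟨k, rfl⟩))
      rw [hgen, Algebra.top_toSubmodule] at hfin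
      exact Module.finite_def.mpr hfin
    · have hfg : (IJ i).FG :=
        Submodule.FG.sup (Submodule.fg_span (Set.finite_range Q))
          (Submodule.fg_span (Finset.finite_toSet i.1))
      exact Algebra.FinitePresentation.quotient hfg

end Groth.Agent.S4885
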