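import Groth.Statements.S4886
import Mathlib

set_option autoImplicit false
universe u
open CategoryTheory AlgebraicGeometry
open EGA43

namespace Groth.Agent.S4886

section Helpers


open AlgebraicGeometry CategoryTheory Limits TopologicalSpace

theorem int_isJacobsonRing : IsJacobsonRing ℤ := by
  rw [isJacobsonRing_iff_prime_eq]
  intro P hP
  by_cases h : P = ⊥
  · subst h
    refine le_antisymm ?_ Ideal.le_jacobson
    intro x hx
    rw [Ideal.mem_jacobson_bot] at hx
    by_contra hx0
    have hx0 : x ≠ 0 := fun h => hx0 (by simp [h])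
    have := hx (2 * x)
    rw [Int.isUnit_iff] at this
    have h1 : x * (2 * x) + 1 ≥ 3 := by
      have : x * x ≥ 1 := by
        have := mul_self_pos.mpr hx0
        omega
      nlinarith
    omega
  · have : P.IsMaximal := hP.isMaximal h
    exact Ideal.jacobson_eq_self_of_isMaximal

/-- (F) -/
lemma finite_of_field_of_moduleFinite_int (K : Type u) [Field K] [Module.Finite ℤ K] :
    Finite K := by
  have hni : ¬ Function.Injective (algebraMap ℤ K) := by
    intro hinj
    haveI : Algebra.IsIntegral ℤ K := inferInstance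
    exact Int.not_isField (isField_of_isIntegral_of_isField hinj (Field.toIsField K))
  obtain ⟨p, hp⟩ := CharP.exists K
  have hp0 : p ≠ 0 := by
    rintro rfl
    haveI : CharZero K := CharP.charP_to_charZero K
    exact hni (algebraMap ℤ K).injective_int
  haveI : Fact p.Prime := ⟨(CharP.char_is_prime_or_zero K p).resolve_right hp0⟩
  letI := ZMod.algebra K p
  haveI : Module.Finite (ZMod p) K := Module.Finite.of_restrictScalars_finite ℤ (ZMod p) K
  exact Module.finite_of_finite (ZMod p)

/-- (G) -/
lemma finite_of_field_of_finiteType_int (K : Type u) [Field K] [Algebra.FiniteType ℤ K] :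
    Finite K := by
  haveI := int_isJacobsonRing
  haveI := finite_of_finite_type_of_isJacobsonRing ℤ K
  exact finite_of_field_of_moduleFinite_int K

/-- (H) -/
lemma finite_ringHom (B : Type u) (F : Type*) [CommRing B] [CommRing F] [Finite F]
    [Algebra.FiniteType ℤ B] : Finite (B →+* F) := by
  obtain ⟨s, hs⟩ := (Algebra.FiniteType.out : (⊤ : Subalgebra ℤ B).FG)
  refine Finite.of_injective (fun ψ : B →+* F => fun x : s => ψ x.1) ?_
  intro ψ₁ ψ₂ h
  have h' : ψ₁.toIntAlgHom = ψ₂.toIntAlgHom := by
    refine AlgHom.ext_of_adjoin_eq_top hs ?_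
    intro x hx
    exact congrFun h ⟨x, hx⟩
  ext x
  exact congr($h' x)


/-- (S1) -/
lemma finiteType_int_of_openImmersion {Y : Scheme.{u}}
    [LocallyOfFiniteType (IsTerminal.from specULiftZIsTerminal Y)]
    (R : CommRingCat.{u}) (j : Spec R ⟶ Y) [IsOpenImmersion j] : Algebra.FiniteType ℤ R := by
  have h1 : LocallyOfFiniteType (j ≫ IsTerminal.from specULiftZIsTerminal Y) := inferInstance
  obtain ⟨φ, hφ⟩ : ∃ φ : CommRingCat.of (ULift.{u} ℤ) ⟶ R,
      Spec.map φ = j ≫ IsTerminal.from specULiftZIsTerminal Y :=
    ⟨Spec.preimage _, Spec.map_preimage _⟩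
  rw [← hφ, HasRingHomProperty.Spec_iff (P := @LocallyOfFiniteType)] at h1
  have hsurj : Function.Surjective (Int.castRingHom (ULift.{u} ℤ)) := by
    rintro ⟨n⟩
    exact ⟨n, by ext; simp⟩
  have h2 : ((φ.hom).comp (Int.castRingHom (ULift.{u} ℤ))).FiniteType :=
    h1.comp (RingHom.FiniteType.of_surjective _ hsurj)
  have h3 : (algebraMap ℤ R) = (φ.hom).comp (Int.castRingHom (ULift.{u} ℤ)) :=
    Subsingleton.elim _ _
  rw [← h3] at h2
  exact RingHom.finiteType_algebraMap.mp h2

set_option backward.isDefEq.respectTransparency.types false in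
/-- (S2) -/
noncomputable def residueEquiv {Y : Scheme.{u}} (R : CommRingCat.{u}) (j : Spec R ⟶ Y)
    [IsOpenImmersion j] (p : Spec R) :
    ↑(Y.residueField (j p)) ≃+* p.asIdeal.ResidueField :=
  (asIso (j.residueFieldMap p) ≪≫ Scheme.Spec.residueFieldIso R p).commRingCatIsoToRingEquiv

set_option backward.isDefEq.respectTransparency.types false in
lemma finite_residueField_of_isMaximal {Y : Scheme.{u}}
    [LocallyOfFiniteType (IsTerminal.from specULiftZIsTerminal Y)]
    (R : CommRingCat.{u}) (j : Spec R ⟶ Y) [IsOpenImmersion j] (p : Spec R)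
    (hp : p.asIdeal.IsMaximal) : Finite ↑(Y.residueField (j p)) := by
  haveI := finiteType_int_of_openImmersion R j
  have hft : Algebra.FiniteType ℤ (R ⧸ p.asIdeal) :=
    Algebra.FiniteType.of_surjective (Ideal.Quotient.mkₐ ℤ p.asIdeal)
      Ideal.Quotient.mk_surjective
  haveI : Finite (R ⧸ p.asIdeal) :=
    @finite_of_field_of_finiteType_int (R ⧸ p.asIdeal) (Ideal.Quotient.field p.asIdeal) hft
  haveI : Finite p.asIdeal.ResidueField :=
    Finite.of_surjective _ (Ideal.bijective_algebraMap_quotient_residueField p.asIdeal).2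
  exact Finite.of_equiv _ (residueEquiv R j p).symm.toEquiv

set_option backward.isDefEq.respectTransparency.types false in
lemma isMaximal_of_finite_residueField {Y : Scheme.{u}}
    (R : CommRingCat.{u}) (j : Spec R ⟶ Y) [IsOpenImmersion j] (p : Spec R)
    (h : Finite ↑(Y.residueField (j p))) : p.asIdeal.IsMaximal := by
  haveI : Finite p.asIdeal.ResidueField := Finite.of_equiv _ (residueEquiv R j p).toEquiv
  haveI : Finite (R ⧸ p.asIdeal) :=
    Finite.of_injective _ (Ideal.injective_algebraMap_quotient_residueField (I := p.asIdeal))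
  exact Ideal.Quotient.maximal_of_isField _ (Finite.isField_of_domain (R ⧸ p.asIdeal))


set_option backward.isDefEq.respectTransparency.types false in
theorem part1 (Y : Scheme.{u}) [LocallyOfFiniteType (IsTerminal.from specULiftZIsTerminal Y)]
    (y : Y) : IsClosed ({y} : Set Y) ↔ Finite ↑(Y.residueField y) := by
  constructor
  · intro hcl
    obtain ⟨i, p, rfl⟩ : ∃ i, ∃ p, Y.affineOpenCover.f i p = y :=
      ⟨_, Y.affineOpenCover.covers y⟩
    refine finite_residueField_of_isMaximal _ (Y.affineOpenCover.f i) p ?_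
    have hpre : ({p} : Set (Spec (Y.affineOpenCover.X i))) =
        (Y.affineOpenCover.f i) ⁻¹' {(Y.affineOpenCover.f i) p} := by
      ext q
      rw [Set.mem_singleton_iff, Set.mem_preimage, Set.mem_singleton_iff]
      exact ((Y.affineOpenCover.f i).isOpenEmbedding.injective.eq_iff).symm
    have h1 : IsClosed ({p} : Set (Spec (Y.affineOpenCover.X i))) := by
      rw [hpre]
      exact hcl.preimage (Y.affineOpenCover.f i).continuous
    exact (PrimeSpectrum.isClosed_singleton_iff_isMaximal p).mp h1
  · intro hfin
    rw [← closure_eq_iff_isClosed]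
    refine Set.Subset.antisymm ?_ subset_closure
    intro x hx
    have hsp : y ⤳ x := specializes_iff_mem_closure.mpr hx
    obtain ⟨i, q, rfl⟩ : ∃ i, ∃ q, Y.affineOpenCover.f i q = x :=
      ⟨_, Y.affineOpenCover.covers x⟩
    have hy : y ∈ Set.range (Y.affineOpenCover.f i) :=
      hsp.mem_open (Y.affineOpenCover.f i).isOpenEmbedding.isOpen_range ⟨q, rfl⟩
    obtain ⟨p, rfl⟩ := hy
    have hpmax := isMaximal_of_finite_residueField _ (Y.affineOpenCover.f _) p hfin
    have hpq : p ⤳ q :=
      (Y.affineOpenCover.f _).isOpenEmbedding.isInducing.specializes_iff.mp hsp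
    have hcl : IsClosed ({p} : Set (Spec (Y.affineOpenCover.X i))) :=
      (PrimeSpectrum.isClosed_singleton_iff_isMaximal p).mpr hpmax
    have hq : q ∈ ({p} : Set (Spec (Y.affineOpenCover.X i))) := hpq.mem_closed hcl rfl
    have hq' : q = p := hq
    rw [hq']
    rfl

set_option backward.isDefEq.respectTransparency.types false in
lemma chart_finite {Y : Scheme.{u}} [LocallyOfFiniteType (IsTerminal.from specULiftZIsTerminal Y)]
    (R : CommRingCat.{u}) (j : Spec R ⟶ Y) [IsOpenImmersion j]
    (F : Type) [Field F] [Finite F] :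
    {q : Spec R | Nonempty (↑(Y.residueField (j q)) →+* F)}.Finite := by
  haveI := finiteType_int_of_openImmersion R j
  haveI := finite_ringHom R F
  rw [← Set.finite_coe_iff]
  let g : {q : Spec R | Nonempty (↑(Y.residueField (j q)) →+* F)} → (R →+* F) := fun q =>
    (q.2.some.comp (residueEquiv R j q.1).symm.toRingHom).comp
      (algebraMap R q.1.asIdeal.ResidueField)
  refine Finite.of_injective g ?_
  have hker : ∀ q, RingHom.ker (g q) = q.1.asIdeal := by
    intro q
    have hinj : Function.Injective (q.2.some.comp (residueEquiv R j q.1).symm.toRingHom) :=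
      RingHom.injective _
    show RingHom.ker ((q.2.some.comp (residueEquiv R j q.1).symm.toRingHom).comp
      (algebraMap R q.1.asIdeal.ResidueField)) = _
    rw [← RingHom.comap_ker, (RingHom.injective_iff_ker_eq_bot _).mp hinj, ← RingHom.ker_eq_comap_bot,
      Ideal.ker_algebraMap_residueField]
  intro q₁ q₂ h
  have := (hker q₁).symm.trans ((congrArg RingHom.ker h).trans (hker q₂))
  exact Subtype.ext (PrimeSpectrum.ext this)

theorem part2 (Y : Scheme.{u}) [CompactSpace Y]
    [LocallyOfFiniteType (IsTerminal.from specULiftZIsTerminal Y)]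
    (F : Type) [Field F] [Finite F] :
    {y : Y | Nonempty (↑(Y.residueField y) →+* F)}.Finite := by
  obtain ⟨t, ht⟩ := isCompact_univ.elim_finite_subcover
    (fun i : Y.affineOpenCover.I₀ => Set.range (Y.affineOpenCover.f i))
    (fun i => (Y.affineOpenCover.f i).isOpenEmbedding.isOpen_range)
    (fun x _ => Set.mem_iUnion.mpr ⟨Y.affineOpenCover.idx x, Y.affineOpenCover.covers x⟩)
  refine Set.Finite.subset (Set.Finite.biUnion t.finite_toSet
    (fun i _ => (chart_finite (Y.affineOpenCover.X i) (Y.affineOpenCover.f i) F).image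
      (Y.affineOpenCover.f i))) ?_
  intro y hy
  obtain ⟨i, hi, q, rfl⟩ := Set.mem_iUnion₂.mp (ht (Set.mem_univ y))
  exact Set.mem_iUnion₂.mpr ⟨i, hi, q, hy, rfl⟩

theorem main (Y : Scheme.{u}) [CompactSpace Y]
    [LocallyOfFiniteType (Limits.IsTerminal.from specULiftZIsTerminal Y)] :
    (∀ y : Y, IsClosed ({y} : Set Y) ↔ Finite ↑(Y.residueField y)) ∧
    ∀ (p d : ℕ) [Fact p.Prime], 0 < d →
      {y : Y | Nonempty (↑(Y.residueField y) →+* GaloisField p d)}.Finite := by
  refine ⟨part1 Y, ?_⟩
  intro p d _ hd
  haveI : Finite (GaloisField p d) := inferInstance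
  exact part2 Y (GaloisField p d)

end Helpers


/-- Let Y be a scheme of finite type over ℤ. (i) A point y of Y is closed if and only if the residue
field k(y) is finite. (ii) For every prime number p and every integer d ≥ 1, the set of points y of
Y such that k(y) is an extension of 𝔽_p of degree dividing d, i.e. admits a ring homomorphism into
the field with p^d elements, is finite. -/
theorem result (Y : Scheme.{u}) [CompactSpace Y]
    [LocallyOfFiniteType (Limits.IsTerminal.from specULiftZIsTerminal Y)] :
    (∀ y : Y, IsClosed ({y} : Set Y) ↔ Finite ↑(Y.residueField y)) ∧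
    ∀ (p d : ℕ) [Fact p.Prime], 0 < d →
      {y : Y | Nonempty (↑(Y.residueField y) →+* GaloisField p d)}.Finite := by
  exact main Y

end Groth.Agent.S4886
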