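import Groth.Statements.S4891
import Mathlib
import Groth.Agent.Lib.helper24.NilFlat
import Groth.Agent.Lib.helper21.Mat225

set_option autoImplicit false
universe u
open TensorProduct
open EGA43

namespace Groth.Agent.S4891

namespace S4891aux
open TensorProduct Function

theorem flat_over_B {A B : Type u} [CommRing A] [CommRing B] [Algebra A B]
    (J : Ideal A) (hJ : IsNilpotent J) (M : Type u) [AddCommGroup M] [Module B M] [Module A M]
    [IsScalarTower A B M] [Module.Flat A M]
    [Module.Flat (B ⧸ J.map (algebraMap A B)) ((B ⧸ J.map (algebraMap A B)) ⊗[B] M)] :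
    Module.Flat B M := by
  have hnil : IsNilpotent (J.map (algebraMap A B)) := by
    obtain ⟨n, hn⟩ := hJ
    refine ⟨n, ?_⟩
    rw [← Ideal.map_pow, hn, Ideal.zero_eq_bot, Ideal.map_bot, Ideal.zero_eq_bot]
  refine Groth.Agent.Lib.helper24.NilFlat.flat_of_isNilpotent (J.map (algebraMap A B)) M hnil ?_
  -- the comparison map
  let σ : ↥J ⊗[A] M →ₗ[A] ↥(J.map (algebraMap A B)) ⊗[B] M :=
    TensorProduct.lift (LinearMap.mk₂ A
      (fun (j : J) (m : M) =>
        (⟨algebraMap A B j, Ideal.mem_map_of_mem _ j.2⟩ : ↥(J.map (algebraMap A B))) ⊗ₜ[B] m)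
      (fun j j' m => by
        rw [← add_tmul]
        congr 1
        apply Subtype.ext
        simp)
      (fun a j m => by
        rw [TensorProduct.smul_tmul']
        congr 1
        apply Subtype.ext
        simp [Algebra.smul_def])
      (fun j m m' => tmul_add _ _ _)
      (fun a j m => by
        rw [← algebraMap_smul B a m, TensorProduct.tmul_smul, algebraMap_smul]))
  have hσ : ∀ (j : J) (m : M), σ (j ⊗ₜ[A] m) =
      (⟨algebraMap A B j, Ideal.mem_map_of_mem _ j.2⟩ : ↥(J.map (algebraMap A B))) ⊗ₜ[B] m :=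
    fun j m => rfl
  have hσsurj : Surjective σ := by
    intro t
    induction t using TensorProduct.induction_on with
    | zero => exact ⟨0, map_zero _⟩
    | add x y hx hy =>
      obtain ⟨x', rfl⟩ := hx
      obtain ⟨y', rfl⟩ := hy
      exact ⟨x' + y', map_add _ _ _⟩
    | tmul x m =>
      have key : ∀ (b : B) (hb : b ∈ J.map (algebraMap A B)) (m : M),
          ∃ s, σ s = (⟨b, hb⟩ : ↥(J.map (algebraMap A B))) ⊗ₜ[B] m := by
        intro b hb
        refine Submodule.span_induction (p := fun b hb => ∀ m : M, ∃ s,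
          σ s = (⟨b, hb⟩ : ↥(J.map (algebraMap A B))) ⊗ₜ[B] m) ?_ ?_ ?_ ?_ hb
        · rintro _ ⟨j, hj, rfl⟩ m
          exact ⟨(⟨j, hj⟩ : J) ⊗ₜ[A] m, hσ _ _⟩
        · intro m
          refine ⟨0, ?_⟩
          rw [map_zero]
          have : (⟨0, Submodule.zero_mem _⟩ : ↥(J.map (algebraMap A B))) = 0 := rfl
          rw [this, zero_tmul]
        · intro x y hx hy ihx ihy m
          obtain ⟨s, hs⟩ := ihx m
          obtain ⟨s', hs'⟩ := ihy m
          refine ⟨s + s', ?_⟩
          rw [map_add, hs, hs', ← add_tmul]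
          rfl
        · intro c x hx ihx m
          obtain ⟨s, hs⟩ := ihx (c • m)
          refine ⟨s, ?_⟩
          rw [hs, ← TensorProduct.smul_tmul]
          rfl
      exact key x.1 x.2 m
  -- injectivity
  have hA : Injective (J.subtype.rTensor M) :=
    Module.Flat.rTensor_preserves_injective_linearMap _ (Submodule.injective_subtype J)
  rw [injective_iff_map_eq_zero]
  intro t ht
  obtain ⟨s, rfl⟩ := hσsurj t
  have hcomm : ∀ s : ↥J ⊗[A] M,
      TensorProduct.lid B M (((J.map (algebraMap A B)).subtype.rTensor M) (σ s)) =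
        TensorProduct.lid A M ((J.subtype.rTensor M) s) := by
    intro s
    induction s using TensorProduct.induction_on with
    | zero => simp
    | add x y hx hy => simp only [map_add, hx, hy]
    | tmul j m => simp [hσ]
  have h0 : (J.subtype.rTensor M) s = 0 := by
    apply (TensorProduct.lid A M).injective
    rw [← hcomm, ht, map_zero, map_zero]
  have : s = 0 := hA (by rw [h0, map_zero])
  rw [this, map_zero]

end S4891aux

open TensorProduct in

/-- Let A be a commutative ring, J a nilpotent ideal of A, B a commutative A-algebra and M a B-module.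
If M is flat over A, M/JM is flat over B/JB, B/JB is flat over A/J and mM ≠ M for every maximal
ideal m of B containing JB, then B is flat over A. (Under the first two hypotheses M is also flat
over B; that implication is stated elsewhere and not repeated here.) -/
theorem result {A B : Type u} [CommRing A] [CommRing B] [Algebra A B]
    (J : Ideal A) (hJ : IsNilpotent J) (M : Type u) [AddCommGroup M] [Module B M] [Module A M] [IsScalarTower A B M]
    (hc1 : Module.Flat A M)
    (hc2 : Module.Flat (B ⧸ J.map (algebraMap A B)) ((B ⧸ J.map (algebraMap A B)) ⊗[B] M))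
    (hd1 : Module.Flat (A ⧸ J) ((A ⧸ J) ⊗[A] B))
    (hd2 : ∀ m : Ideal B, m.IsMaximal → J.map (algebraMap A B) ≤ m → (m • (⊤ : Submodule B M)) ≠ ⊤) :
    Module.Flat A B := by
  haveI : Module.Flat B M := S4891aux.flat_over_B (B := B) J hJ M
  have hnil : IsNilpotent (J.map (algebraMap A B)) := by
    obtain ⟨n, hn⟩ := hJ
    refine ⟨n, ?_⟩
    rw [← Ideal.map_pow, hn, Ideal.zero_eq_bot, Ideal.map_bot, Ideal.zero_eq_bot]
  haveI : Module.FaithfullyFlat B M := by
    refine ⟨fun m hm => hd2 m hm ?_⟩
    intro x hx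
    obtain ⟨n, hn⟩ := hnil
    have hxn : x ^ n ∈ (J.map (algebraMap A B)) ^ n := Ideal.pow_mem_pow hx n
    rw [hn, Ideal.zero_eq_bot, Ideal.mem_bot] at hxn
    exact hm.isPrime.mem_of_pow_mem n (hxn ▸ m.zero_mem)
  exact Groth.Agent.H21.flat_of_faithfullyFlat_module (R := A) (S := B) (M := M)

end Groth.Agent.S4891
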