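import Groth.Statements.S4897
import Groth.Agent.Lib.helper8.QHConstr

set_option autoImplicit false
universe u
open EGA43

namespace Groth.Agent.S4897

/-- Let f : X → Y be a quasi-homeomorphism, i.e. a continuous map such that U ↦ f⁻¹(U) is a bijection
from the open subsets of Y onto the open subsets of X. Then Z ↦ f⁻¹(Z) induces bijections from the
locally closed (resp. constructible, resp. locally constructible) subsets of Y onto those of X. -/
theorem result {X Y : Type u}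
    [TopologicalSpace X] [TopologicalSpace Y] (f : X → Y) (hf : Continuous f)
    (hq : Function.Bijective (fun U : TopologicalSpace.Opens Y =>
      (⟨f ⁻¹' (U : Set Y), U.isOpen.preimage hf⟩ : TopologicalSpace.Opens X))) :
    Function.Bijective (fun Z : {Z : Set Y // IsLocallyClosed Z} =>
        (⟨f ⁻¹' Z.1, Z.2.preimage hf⟩ : {Z : Set X // IsLocallyClosed Z})) ∧
      Set.BijOn (fun Z : Set Y => f ⁻¹' Z) {Z | Topology.IsConstructible Z} {Z | Topology.IsConstructible Z} ∧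
      Set.BijOn (fun Z : Set Y => f ⁻¹' Z) {Z | Topology.IsLocallyConstructible Z}
        {Z | Topology.IsLocallyConstructible Z} := by
  have hQ : Groth.Agent.H8.QH f := (Groth.Agent.H8.qh_iff_opens_bijective hf).mp hq
  refine ⟨⟨?_, ?_⟩, ⟨?_, ?_, ?_⟩, ⟨?_, ?_, ?_⟩⟩
  · rintro ⟨Z₁, h₁⟩ ⟨Z₂, h₂⟩ h
    have h' : f ⁻¹' Z₁ = f ⁻¹' Z₂ := congrArg Subtype.val h
    exact Subtype.ext (hQ.preimage_lqc_inj (Groth.Agent.H8.LQC.of_isLocallyClosed h₁)
      (Groth.Agent.H8.LQC.of_isLocallyClosed h₂) h')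
  · rintro ⟨W, hW⟩
    obtain ⟨Z, hZ, hZW⟩ := hQ.exists_isLocallyClosed_preimage hW
    exact ⟨⟨Z, hZ⟩, Subtype.ext hZW⟩
  · intro Z hZ
    exact hQ.isConstructible_preimage hf hZ
  · intro Z₁ h₁ Z₂ h₂ h
    exact hQ.preimage_lqc_inj (Groth.Agent.H8.qc_of_isConstructible h₁).lqc
      (Groth.Agent.H8.qc_of_isConstructible h₂).lqc h
  · intro W hW
    obtain ⟨Z, hZ, hZW⟩ := hQ.exists_isConstructible_preimage hf hW
    exact ⟨Z, hZ, hZW⟩
  · intro Z hZ
    exact hQ.isLocallyConstructible_preimage hf hZ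
  · intro Z₁ h₁ Z₂ h₂ h
    exact hQ.preimage_lqc_inj (Groth.Agent.H8.lqc_of_isLocallyConstructible h₁)
      (Groth.Agent.H8.lqc_of_isLocallyConstructible h₂) h
  · intro W hW
    obtain ⟨Z, hZ, hZW⟩ := hQ.exists_isLocallyConstructible_preimage hf hW
    exact ⟨Z, hZ, hZW⟩

end Groth.Agent.S4897
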