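import Groth.Statements.S4903
import Groth.Agent.Lib.helper8.QH

set_option autoImplicit false
universe u
open EGA43

namespace Groth.Agent.S4903

/-- Conditions a), b), b′), c″), c‴) and its last assertion: given a topological space X and a subset X₀
⊆ X, the statements below are equivalent. Every locally closed subset of X that is nonempty
intersects X₀. Every nonempty locally quasi-constructible subset of X intersects X₀; here a subset
is locally quasi-constructible when each point of X has an open neighbourhood on which the subset's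
trace can be written as a union of finitely many locally closed sets. Each locally
quasi-constructible Z ⊆ X is contained in the closure of Z ∩ X₀. Any two quasi-constructible subsets
of X (unions of finitely many locally closed sets) having equal traces on X₀ coincide. Any two
locally quasi-constructible subsets of X having equal traces on X₀ coincide. Assuming these
conditions, each locally quasi-constructible subset of the subspace X₀ arises as the trace on X₀ of
some locally quasi-constructible subset of X. -/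
theorem result {X : Type u} [TopologicalSpace X] (X₀ : Set X) :
    [∀ Z : Set X, IsLocallyClosed Z → Z.Nonempty → (Z ∩ X₀).Nonempty,
      ∀ Z : Set X, (∀ x : X, ∃ U : Set X, IsOpen U ∧ x ∈ U ∧ ∃ T : Set (Set X), T.Finite ∧ (∀ t ∈ T, IsLocallyClosed t) ∧ U ∩ Z = ⋃₀ T) → Z.Nonempty → (Z ∩ X₀).Nonempty,
      ∀ Z : Set X, (∀ x : X, ∃ U : Set X, IsOpen U ∧ x ∈ U ∧ ∃ T : Set (Set X), T.Finite ∧ (∀ t ∈ T, IsLocallyClosed t) ∧ U ∩ Z = ⋃₀ T) → Z ⊆ closure (Z ∩ X₀),
      ∀ Z Z' : Set X, (∃ T : Set (Set X), T.Finite ∧ (∀ t ∈ T, IsLocallyClosed t) ∧ Z = ⋃₀ T) → (∃ T : Set (Set X), T.Finite ∧ (∀ t ∈ T, IsLocallyClosed t) ∧ Z' = ⋃₀ T) → Z ∩ X₀ = Z' ∩ X₀ → Z = Z',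
      ∀ Z Z' : Set X, (∀ x : X, ∃ U : Set X, IsOpen U ∧ x ∈ U ∧ ∃ T : Set (Set X), T.Finite ∧ (∀ t ∈ T, IsLocallyClosed t) ∧ U ∩ Z = ⋃₀ T) → (∀ x : X, ∃ U : Set X, IsOpen U ∧ x ∈ U ∧ ∃ T : Set (Set X), T.Finite ∧ (∀ t ∈ T, IsLocallyClosed t) ∧ U ∩ Z' = ⋃₀ T) → Z ∩ X₀ = Z' ∩ X₀ → Z = Z'].TFAE ∧
    ((∀ Z : Set X, IsLocallyClosed Z → Z.Nonempty → (Z ∩ X₀).Nonempty) →
      ∀ Z₀ : Set ↥X₀, (∀ x : ↥X₀, ∃ U : Set ↥X₀, IsOpen U ∧ x ∈ U ∧ ∃ T : Set (Set ↥X₀), T.Finite ∧ (∀ t ∈ T, IsLocallyClosed t) ∧ U ∩ Z₀ = ⋃₀ T) →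
        ∃ Z : Set X, (∀ x : X, ∃ U : Set X, IsOpen U ∧ x ∈ U ∧ ∃ T : Set (Set X), T.Finite ∧ (∀ t ∈ T, IsLocallyClosed t) ∧ U ∩ Z = ⋃₀ T) ∧ Subtype.val ⁻¹' Z = Z₀) := by
  refine ⟨?_, ?_⟩
  · tfae_have 1 → 2 := by
      intro h Z hZ hne
      exact Groth.Agent.H8.VD.lqc_nonempty h hZ hne
    tfae_have 2 → 3 := by
      intro h Z hZ
      have hvd : Groth.Agent.H8.VD X₀ := fun W hW hne =>
        h W (Groth.Agent.H8.LQC.of_isLocallyClosed hW) hne
      exact hvd.lqc_subset_closure hZ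
    tfae_have 3 → 5 := by
      intro h Z Z' hZ hZ' hZZ'
      have hvd : Groth.Agent.H8.VD X₀ := by
        intro W hW hne
        by_contra hcon
        rw [Set.not_nonempty_iff_eq_empty] at hcon
        have := h W (Groth.Agent.H8.LQC.of_isLocallyClosed hW)
        rw [hcon, closure_empty] at this
        obtain ⟨x, hx⟩ := hne
        exact this hx
      exact hvd.lqc_eq hZ hZ' hZZ'
    tfae_have 5 → 4 := by
      intro h Z Z' hZ hZ' hZZ'
      exact h Z Z' (Groth.Agent.H8.QC.lqc hZ) (Groth.Agent.H8.QC.lqc hZ') hZZ'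
    tfae_have 4 → 1 := by
      intro h
      apply Groth.Agent.H8.vd_of_open_inj
      intro U V hU hV hUV
      exact h U V (Groth.Agent.H8.QC.of_isOpen hU) (Groth.Agent.H8.QC.of_isOpen hV) hUV
    tfae_finish
  · intro h Z₀ hZ₀
    have hvd : Groth.Agent.H8.VD X₀ := h
    exact hvd.qh_subtype_val.exists_lqc_preimage hZ₀

end Groth.Agent.S4903
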