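import Groth.Statements.S4914


set_option autoImplicit false
open CategoryTheory AlgebraicGeometry
universe u v w
open EGA43

namespace Groth.Agent.S4914

/-- Let ψ : X → Y be a continuous map, x a point of X, and (Y_i) a locally finite covering of Y by
closed subsets. If for every index i with ψ x ∈ Y_i the restriction ψ⁻¹(Y_i) → Y_i of ψ is open at
x, then ψ is open at x. -/
theorem result {α : Type u} {β : Type v} {ι : Type w} [TopologicalSpace α]
    [TopologicalSpace β] (ψ : α → β) (hψ : Continuous ψ) (x : α) (Y : ι → Set β) (hY : LocallyFinite Y)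
    (hcl : ∀ i, IsClosed (Y i)) (hcov : ⋃ i, Y i = Set.univ)
    (h : ∀ i, ∀ hi : ψ x ∈ Y i, EGA43.IsOpenAt ((Y i).restrictPreimage ψ) ⟨x, hi⟩) :
    EGA43.IsOpenAt ψ x := by
  intro U hU
  obtain ⟨W, hW, hWfin⟩ := hY (ψ x)
  -- the indices whose member meets `W` but does not contain `ψ x`
  set F : Set ι := {i | (Y i ∩ W).Nonempty} with hF
  have hFfin : F.Finite := hWfin
  -- neighbourhood avoiding the members not containing `ψ x`
  have hW' : (⋂ i ∈ {i ∈ F | ψ x ∉ Y i}, (Y i)ᶜ) ∈ nhds (ψ x) := by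
    rw [Filter.biInter_mem (hFfin.subset (Set.sep_subset _ _))]
    intro i hi
    exact (hcl i).isOpen_compl.mem_nhds hi.2
  -- neighbourhoods coming from the restrictions
  have hV : ∀ i : ι, ∃ V ∈ nhds (ψ x), ψ x ∈ Y i → V ∩ Y i ⊆ ψ '' U := by
    intro i
    by_cases hi : ψ x ∈ Y i
    · have h1 := h i hi (Subtype.val ⁻¹' U) (continuous_subtype_val.continuousAt.preimage_mem_nhds hU)
      rw [nhds_subtype_eq_comap, Filter.mem_comap] at h1
      obtain ⟨V, hV, hVsub⟩ := h1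
      refine ⟨V, hV, fun _ => ?_⟩
      rintro z ⟨hzV, hzY⟩
      have : (⟨z, hzY⟩ : ↥(Y i)) ∈ Subtype.val ⁻¹' V := hzV
      obtain ⟨⟨a, ha⟩, haU, haz⟩ := hVsub this
      exact ⟨a, haU, congrArg Subtype.val haz⟩
    · exact ⟨Set.univ, Filter.univ_mem, fun h' => absurd h' hi⟩
  choose V hVn hVsub using hV
  have hV' : (⋂ i ∈ F, V i) ∈ nhds (ψ x) := by
    rw [Filter.biInter_mem hFfin]
    intro i _
    exact hVn i
  refine Filter.mem_of_superset (Filter.inter_mem hW (Filter.inter_mem hW' hV')) ?_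
  rintro z ⟨hzW, hzW', hzV⟩
  have : z ∈ ⋃ i, Y i := by rw [hcov]; trivial
  obtain ⟨i, hzi⟩ := Set.mem_iUnion.mp this
  have hiF : i ∈ F := ⟨z, hzi, hzW⟩
  have hxi : ψ x ∈ Y i := by
    by_contra hcon
    have := Set.mem_iInter₂.mp hzW' i ⟨hiF, hcon⟩
    exact this hzi
  exact hVsub i hxi ⟨Set.mem_iInter₂.mp hzV i hiF, hzi⟩

end Groth.Agent.S4914
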