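import Groth.Statements.S4916


set_option autoImplicit false
open CategoryTheory AlgebraicGeometry
universe u v w
open EGA43

namespace Groth.Agent.S4916

/-- Let ψ : X → Y be a continuous map of topological spaces and y a point of Y. The set of points x of
the fibre ψ⁻¹(y) at which ψ is open is a closed subset of ψ⁻¹(y). -/
theorem result {α : Type u} {β : Type v} [TopologicalSpace α] [TopologicalSpace β]
    (ψ : α → β) (hψ : Continuous ψ) (y : β) :
    IsClosed {x : ↥(ψ ⁻¹' {y}) | EGA43.IsOpenAt ψ x.1} := by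
  rw [← isOpen_compl_iff, isOpen_iff_mem_nhds]
  rintro ⟨x, hx⟩ hnot
  have hxy : ψ x = y := hx
  simp only [Set.mem_compl_iff, Set.mem_setOf_eq, EGA43.IsOpenAt, not_forall] at hnot
  obtain ⟨U, hU, hUn⟩ := hnot
  obtain ⟨V, hVU, hVo, hxV⟩ := mem_nhds_iff.mp hU
  have hVn : ψ '' V ∉ nhds (ψ x) := fun hV => hUn (Filter.mem_of_superset hV (Set.image_mono hVU))
  refine Filter.mem_of_superset
    ((hVo.preimage continuous_subtype_val).mem_nhds (show (⟨x, hx⟩ : ↥(ψ ⁻¹' {y})) ∈ Subtype.val ⁻¹' V from hxV)) ?_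
  rintro ⟨x₁, hx₁⟩ hx₁V
  have hx₁y : ψ x₁ = y := hx₁
  simp only [Set.mem_compl_iff, Set.mem_setOf_eq, EGA43.IsOpenAt, not_forall]
  refine ⟨V, hVo.mem_nhds hx₁V, ?_⟩
  rw [hx₁y, ← hxy]
  exact hVn

end Groth.Agent.S4916
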