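import Groth.Statements.S4925
import Groth.Agent.Lib.helper8.UO

set_option autoImplicit false
open CategoryTheory AlgebraicGeometry
universe u v w
open EGA43

namespace Groth.Agent.S4925

/-- Let f : X ⟶ Y and g : Y ⟶ Z be morphisms of schemes and x a point of X. If f is universally open at
x and g is universally open at f x, then f ≫ g is universally open at x. -/
theorem result {X Y Z : Scheme.{u}} (f : X ⟶ Y) (g : Y ⟶ Z) (x : X)
    (hf : EGA43.IsUnivOpenAt f x) (hg : EGA43.IsUnivOpenAt g (f.base x)) :
    EGA43.IsUnivOpenAt (f ≫ g) x := by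
  intro Z' h x' hx'
  have hsq : IsPullback (Limits.pullback.fst (f ≫ g) h) (Limits.pullback.snd (f ≫ g) h) (f ≫ g) h :=
    IsPullback.of_hasPullback _ _
  have hY : IsPullback (Limits.pullback.fst g h) (Limits.pullback.snd g h) g h :=
    IsPullback.of_hasPullback _ _
  have hL := IsPullback.of_bot' hsq hY
  set l := hY.lift (Limits.pullback.fst (f ≫ g) h ≫ f) (Limits.pullback.snd (f ≫ g) h)
    (by rw [Category.assoc, hsq.w]) with hl
  have e1 : l ≫ Limits.pullback.fst g h = Limits.pullback.fst (f ≫ g) h ≫ f := hY.lift_fst _ _ _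
  have e2 : l ≫ Limits.pullback.snd g h = Limits.pullback.snd (f ≫ g) h := hY.lift_snd _ _ _
  have h1 : EGA43.IsOpenAt l.base x' := Groth.Agent.H8.UO.isOpenAt_of_isPullback hL hf x' hx'
  have h2 : EGA43.IsOpenAt (Limits.pullback.snd g h).base (l.base x') := by
    apply hg
    rw [← hx']
    change (l ≫ Limits.pullback.fst g h).base x' = _
    rw [e1]
    rfl
  have := Groth.Agent.H8.UO.isOpenAt_comp l.base (Limits.pullback.snd g h).base x' h1 h2
  rw [← e2]
  exact this

end Groth.Agent.S4925
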