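import Groth.Statements.S4926
import Groth.Agent.Lib.helper8.UO

set_option autoImplicit false
open CategoryTheory AlgebraicGeometry
universe u v w
open EGA43

namespace Groth.Agent.S4926

/-- Let f : X ⟶ Y and g : Y ⟶ Z be morphisms of schemes and x a point of X. If f ≫ g is universally open
at x, then g is universally open at the point f x. -/
theorem result {X Y Z : Scheme.{u}} (f : X ⟶ Y) (g : Y ⟶ Z) (x : X)
    (h : EGA43.IsUnivOpenAt (f ≫ g) x) : EGA43.IsUnivOpenAt g (f.base x) := by
  intro Z' k y' hy'
  have hsq : IsPullback (Limits.pullback.fst (f ≫ g) k) (Limits.pullback.snd (f ≫ g) k) (f ≫ g) k :=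
    IsPullback.of_hasPullback _ _
  have hY : IsPullback (Limits.pullback.fst g k) (Limits.pullback.snd g k) g k :=
    IsPullback.of_hasPullback _ _
  have hL := IsPullback.of_bot' hsq hY
  set l := hY.lift (Limits.pullback.fst (f ≫ g) k ≫ f) (Limits.pullback.snd (f ≫ g) k)
    (by rw [Category.assoc, hsq.w]) with hl
  have e1 : l ≫ Limits.pullback.fst g k = Limits.pullback.fst (f ≫ g) k ≫ f := hY.lift_fst _ _ _
  have e2 : l ≫ Limits.pullback.snd g k = Limits.pullback.snd (f ≫ g) k := hY.lift_snd _ _ _
  -- find a point of X' over x and y'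
  obtain ⟨z, hz1, hz2⟩ := AlgebraicGeometry.Scheme.Pullback.exists_preimage_pullback
    (f := f) (g := Limits.pullback.fst g k) x y' hy'.symm
  set x' := hL.isoPullback.inv.base z with hx'
  have hx1 : (Limits.pullback.fst (f ≫ g) k).base x' = x := by
    rw [← hz1]
    change (hL.isoPullback.inv ≫ Limits.pullback.fst (f ≫ g) k).base z = _
    rw [hL.isoPullback_inv_fst]
  have hx2 : l.base x' = y' := by
    rw [← hz2]
    change (hL.isoPullback.inv ≫ l).base z = _
    rw [hL.isoPullback_inv_snd]
  have h1 : EGA43.IsOpenAt (Limits.pullback.snd (f ≫ g) k).base x' := h Z' k x' hx1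
  rw [← e2] at h1
  have := Groth.Agent.H8.UO.isOpenAt_of_comp l.base (Limits.pullback.snd g k).base x'
    l.continuous h1
  rw [hx2] at this
  exact this

end Groth.Agent.S4926
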