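import Groth.Statements.S4929
import Groth.Agent.Lib.helper8.UO

set_option autoImplicit false
open CategoryTheory AlgebraicGeometry
universe u v w
open EGA43

namespace Groth.Agent.S4929

open CategoryTheory.Limits in
/-- Let f : X ⟶ Y be a morphism of schemes, x a point of X, and (Y_i ⟶ Y) a finite family of closed
immersions whose images cover Y. If for every i the base change X ×_Y Y_i ⟶ Y_i is universally open
at every point lying over x, then f is universally open at x. -/
theorem result {X Y : Scheme.{u}} (f : X ⟶ Y) (x : X) {ι : Type w}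
    [Finite ι] (T : ι → Scheme.{u}) (g : ∀ i, T i ⟶ Y) [∀ i, IsClosedImmersion (g i)]
    (hcov : ⋃ i, Set.range (g i).base = Set.univ)
    (h : ∀ i, ∀ x' : ↥(pullback f (g i)), (pullback.fst f (g i)).base x' = x →
      EGA43.IsUnivOpenAt (pullback.snd f (g i)) x') :
    EGA43.IsUnivOpenAt f x := by
  intro Y' k x' hx'
  have hcube := fun i => Groth.Agent.H8.UO.cube f (g i) k
  choose m hm hm1 using hcube
  have hvc : ∀ i, IsClosedMap (Limits.pullback.snd (g i) k).base := fun i =>
    (Limits.pullback.snd (g i) k).isClosedEmbedding.isClosedMap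
  refine Groth.Agent.H8.UO.isOpenAt_of_closed_cover (ι := ι) (Limits.pullback.snd f k).base x'
    (Yi := fun i => ↥(Limits.pullback (g i) k))
    (Xi := fun i => ↥(Limits.pullback (Limits.pullback.snd f k) (Limits.pullback.snd (g i) k)))
    (fun i => (Limits.pullback.snd (g i) k).base) hvc ?_
    (fun i => (Limits.pullback.fst (Limits.pullback.snd f k) (Limits.pullback.snd (g i) k)).base)
    (fun i => (Limits.pullback.fst (Limits.pullback.snd f k) (Limits.pullback.snd (g i) k)).continuous)
    (fun i => (Limits.pullback.snd (Limits.pullback.snd f k) (Limits.pullback.snd (g i) k)).base)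
    ?_ ?_ ?_
  · intro y
    have : k.base y ∈ ⋃ i, Set.range (g i).base := by rw [hcov]; trivial
    obtain ⟨i, t, ht⟩ := Set.mem_iUnion.mp this
    obtain ⟨z, -, hz⟩ := AlgebraicGeometry.Scheme.Pullback.exists_preimage_pullback
      (f := g i) (g := k) t y ht
    exact ⟨i, z, hz⟩
  · intro i a
    change (Limits.pullback.fst (Limits.pullback.snd f k) (Limits.pullback.snd (g i) k) ≫
      Limits.pullback.snd f k).base a =
      (Limits.pullback.snd (Limits.pullback.snd f k) (Limits.pullback.snd (g i) k) ≫
        Limits.pullback.snd (g i) k).base a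
    rw [Limits.pullback.condition]
  · intro i a b hab
    exact AlgebraicGeometry.Scheme.Pullback.exists_preimage_pullback a b hab
  · intro i c hc
    have h1 : (Limits.pullback.fst f (g i)).base ((m i).base c) = x := by
      change (m i ≫ Limits.pullback.fst f (g i)).base c = x
      rw [hm1, ← hx', ← hc]
      rfl
    exact Groth.Agent.H8.UO.isOpenAt_of_isPullback (hm i) (h i ((m i).base c) h1) c rfl

end Groth.Agent.S4929
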