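import Groth.Statements.S4941
import Groth.Agent.Lib.helper8.UO

set_option autoImplicit false
open CategoryTheory AlgebraicGeometry
universe u v w
open EGA43

namespace Groth.Agent.S4941

open CategoryTheory.Limits in
/-- Let v : Y₁ ⟶ Y be a surjective morphism of schemes whose underlying map is closed, f : X ⟶ Y a
morphism and x a point of X. If the base change f₁ : X ×_Y Y₁ ⟶ Y₁ is open at every point of X ×_Y
Y₁ lying over x, then f is open at x. -/
theorem result {X Y Y₁ : Scheme.{u}} (v : Y₁ ⟶ Y)
    (hv : IsClosedMap v.base) [Surjective v] (f : X ⟶ Y) (x : X)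
    (h : ∀ x₁ : ↥(pullback f v), (pullback.fst f v).base x₁ = x → EGA43.IsOpenAt (pullback.snd f v).base x₁) :
    EGA43.IsOpenAt f.base x := by
  refine Groth.Agent.H8.UO.isOpenAt_of_closed_cover (ι := Unit) f.base x
    (Yi := fun _ => Y₁) (Xi := fun _ => ↥(Limits.pullback f v))
    (fun _ => v.base) (fun _ => hv) ?_
    (fun _ => (Limits.pullback.fst f v).base) (fun _ => (Limits.pullback.fst f v).continuous)
    (fun _ => (Limits.pullback.snd f v).base) ?_ ?_ ?_
  · intro y
    obtain ⟨z, hz⟩ := ‹Surjective v›.surj y
    exact ⟨(), z, hz⟩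
  · intro _ a
    change (Limits.pullback.fst f v ≫ f).base a = (Limits.pullback.snd f v ≫ v).base a
    rw [Limits.pullback.condition]
  · intro _ a b hab
    exact AlgebraicGeometry.Scheme.Pullback.exists_preimage_pullback a b hab
  · intro _ c hc
    exact h c hc

end Groth.Agent.S4941
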