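import Groth.Statements.S4942
import Groth.Agent.Lib.helper8.UO

set_option autoImplicit false
open CategoryTheory AlgebraicGeometry
universe u v w
open EGA43

namespace Groth.Agent.S4942

open CategoryTheory.Limits in
/-- Let v : Y₁ ⟶ Y be a universally closed surjective morphism of schemes, f : X ⟶ Y a morphism and x a
point of X. If the base change f₁ : X ×_Y Y₁ ⟶ Y₁ is universally open at every point of X ×_Y Y₁
lying over x, then f is universally open at x. -/
theorem result {X Y Y₁ : Scheme.{u}} (v : Y₁ ⟶ Y)
    [UniversallyClosed v] [Surjective v] (f : X ⟶ Y) (x : X)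
    (h : ∀ x₁ : ↥(pullback f v), (pullback.fst f v).base x₁ = x → EGA43.IsUnivOpenAt (pullback.snd f v) x₁) :
    EGA43.IsUnivOpenAt f x := by
  intro Y' g x' hx'
  obtain ⟨m, hm, hm1⟩ := Groth.Agent.H8.UO.cube f v g
  have hvc : IsClosedMap (Limits.pullback.snd v g).base :=
    (Limits.pullback.snd v g).isClosedMap
  have hvs : Surjective (Limits.pullback.snd v g) := inferInstance
  refine Groth.Agent.H8.UO.isOpenAt_of_closed_cover (ι := Unit) (Limits.pullback.snd f g).base x'
    (Yi := fun _ => ↥(Limits.pullback v g))
    (Xi := fun _ => ↥(Limits.pullback (Limits.pullback.snd f g) (Limits.pullback.snd v g)))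
    (fun _ => (Limits.pullback.snd v g).base) (fun _ => hvc) ?_
    (fun _ => (Limits.pullback.fst (Limits.pullback.snd f g) (Limits.pullback.snd v g)).base)
    (fun _ => (Limits.pullback.fst (Limits.pullback.snd f g) (Limits.pullback.snd v g)).continuous)
    (fun _ => (Limits.pullback.snd (Limits.pullback.snd f g) (Limits.pullback.snd v g)).base) ?_ ?_ ?_
  · intro y
    obtain ⟨z, hz⟩ := hvs.surj y
    exact ⟨(), z, hz⟩
  · intro _ a
    change (Limits.pullback.fst (Limits.pullback.snd f g) (Limits.pullback.snd v g) ≫
      Limits.pullback.snd f g).base a =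
      (Limits.pullback.snd (Limits.pullback.snd f g) (Limits.pullback.snd v g) ≫
        Limits.pullback.snd v g).base a
    rw [Limits.pullback.condition]
  · intro _ a b hab
    exact AlgebraicGeometry.Scheme.Pullback.exists_preimage_pullback a b hab
  · intro _ c hc
    have h1 : (Limits.pullback.fst f v).base (m.base c) = x := by
      change (m ≫ Limits.pullback.fst f v).base c = x
      rw [hm1, ← hx', ← hc]
      rfl
    exact Groth.Agent.H8.UO.isOpenAt_of_isPullback hm (h (m.base c) h1) c rfl

end Groth.Agent.S4942
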