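import Groth.Statements.S4947
import Groth.Agent.Lib.helper1.RegOrd5

set_option autoImplicit false
universe u
open EGA43

namespace Groth.Agent.S4947

open Groth.Agent.Lib.helper1

/-- Let A be a regular local ring which is not a field, K its fraction field and k its residue field.
Then there is a discrete valuation ring V between A and K, with fraction field K, dominating A,
whose residue field is a purely transcendental extension of k: for some ring map from k compatible
with A → V there is an algebraically independent family generating the residue field of V as a field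
over k. -/
theorem result (A : Type u) [CommRing A] [IsRegularLocalRing A]
    (hA : ¬ IsField A) :
    ∃ (V : Subalgebra A (FractionRing A)) (_ : IsDomain V) (_ : IsDiscreteValuationRing V), IsFractionRing V (FractionRing A) ∧
      (IsLocalRing.maximalIdeal V).comap (algebraMap A V) = IsLocalRing.maximalIdeal A ∧
      ∃ (φ : IsLocalRing.ResidueField A →+* IsLocalRing.ResidueField V),
        φ.comp (IsLocalRing.residue A) = (IsLocalRing.residue V).comp (algebraMap A V) ∧
        letI := φ.toAlgebra
        ∃ (ι : Type u) (t : ι → IsLocalRing.ResidueField V), AlgebraicIndependent (IsLocalRing.ResidueField A) t ∧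
          IntermediateField.adjoin (IsLocalRing.ResidueField A) (Set.range t) = ⊤ := by
  classical
  haveI := Groth.Agent.H5.RegLoc.isDomain A
  haveI hdvr : IsDiscreteValuationRing (RegOrd.V A (FractionRing A)) := RegOrd.isDVR A (FractionRing A) hA
  refine ⟨RegOrd.V A (FractionRing A), inferInstance, hdvr, RegOrd.isFractionRing_V A (FractionRing A), ?_, ?_⟩
  · exact RegOrd.comap_maximalIdeal_V A (FractionRing A)
  · haveI hloc : IsLocalHom (algebraMap A (RegOrd.V A (FractionRing A))) :=
      ((IsLocalRing.local_hom_TFAE (algebraMap A (RegOrd.V A (FractionRing A)))).out 0 4).mpr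
        (RegOrd.comap_maximalIdeal_V A (FractionRing A))
    have hφ : (IsLocalRing.ResidueField.map (algebraMap A (RegOrd.V A (FractionRing A)))).comp
        (IsLocalRing.residue A) =
        (IsLocalRing.residue (RegOrd.V A (FractionRing A))).comp
          (algebraMap A (RegOrd.V A (FractionRing A))) := by
      ext a
      rfl
    refine ⟨IsLocalRing.ResidueField.map (algebraMap A (RegOrd.V A (FractionRing A))), hφ, ?_⟩
    obtain ⟨d, x, hd, hx, hq⟩ := RegOrd.exists_qr (A := A)
    cases d with
    | zero =>
      exfalso
      apply hA
      rw [IsLocalRing.isField_iff_maximalIdeal_eq, ← hx]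
      simp
    | succ e =>
      letI := (IsLocalRing.ResidueField.map (algebraMap A (RegOrd.V A (FractionRing A)))).toAlgebra
      have hind : AlgebraicIndependent (IsLocalRing.ResidueField A)
          (RegOrd.tRes A (FractionRing A) x hx hq) := by
        intro P Q h
        apply RegOrd.injective_eval₂ A (FractionRing A) x hx hq _ hφ
        rw [MvPolynomial.aeval_def, MvPolynomial.aeval_def] at h
        exact h
      refine ⟨ULift.{u} (Fin e), fun i => RegOrd.tRes A (FractionRing A) x hx hq i.down,
        hind.comp ULift.down ULift.down_injective, ?_⟩
      rw [eq_top_iff]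
      intro y _
      obtain ⟨y', rfl⟩ := IsLocalRing.residue_surjective y
      have hmem := RegOrd.residue_mem_L A (FractionRing A) x hx hq _ hφ y'
      have hrange : Set.range (fun i : ULift.{u} (Fin e) => RegOrd.tRes A (FractionRing A) x hx hq i.down)
          = Set.range (RegOrd.tRes A (FractionRing A) x hx hq) := by
        ext z
        constructor
        · rintro ⟨i, rfl⟩; exact ⟨i.down, rfl⟩
        · rintro ⟨j, rfl⟩; exact ⟨⟨j⟩, rfl⟩
      rw [hrange]
      exact hmem

end Groth.Agent.S4947
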