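import Groth.Statements.S4951
import Mathlib

set_option autoImplicit false
universe u
open EGA43

namespace Groth.Agent.S4951

open TopologicalSpace in
/-- In a locally Noetherian quasi-sober space, a point of the closure of an open set has a
generization in that open set. -/
lemma exists_generization_mem {X : Type u} [TopologicalSpace X] [QuasiSober X]
    (hloc : ∀ x : X, ∃ U ∈ nhds x, TopologicalSpace.NoetherianSpace ↥U)
    {O : Set X} (hO : IsOpen O) {x : X} (hx : x ∈ closure O) : ∃ η ∈ O, η ⤳ x := by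
  obtain ⟨U, hU, hUN⟩ := hloc x
  -- the open set `A = O ∩ interior U` is a Noetherian quasi-sober space
  set A : Set X := O ∩ interior U with hA
  have hAo : IsOpen A := hO.inter isOpen_interior
  have hxA : x ∈ closure A := by
    rw [mem_closure_iff]
    intro o ho hxo
    obtain ⟨y, hy1, hy2⟩ := mem_closure_iff.mp hx (o ∩ interior U) (ho.inter isOpen_interior)
      ⟨hxo, mem_interior_iff_mem_nhds.mpr hU⟩
    exact ⟨y, hy1.1, hy2, hy1.2⟩
  have hAU : A ⊆ U := fun y hy => interior_subset hy.2
  have hAN : NoetherianSpace ↥A := NoetherianSpace.of_subset hAU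
  have hAS : QuasiSober ↥A := hAo.isOpenEmbedding_subtypeVal.quasiSober
  have hfin : (irreducibleComponents ↥A).Finite := NoetherianSpace.finite_irreducibleComponents
  -- `A` is the union of the closures of its finitely many irreducible components
  have hcov : A ⊆ ⋃ C ∈ irreducibleComponents ↥A, closure (Subtype.val '' C) := by
    intro y hy
    exact Set.mem_biUnion (irreducibleComponent_mem_irreducibleComponents (⟨y, hy⟩ : ↥A))
      (subset_closure ⟨⟨y, hy⟩, mem_irreducibleComponent, rfl⟩)
  have hcl : IsClosed (⋃ C ∈ irreducibleComponents ↥A, closure (Subtype.val '' C : Set X)) :=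
    hfin.isClosed_biUnion fun _ _ => isClosed_closure
  have hx' := closure_minimal hcov hcl hxA
  rw [Set.mem_iUnion₂] at hx'
  obtain ⟨C, hC, hxC⟩ := hx'
  have hCirr : IsIrreducible (closure (Subtype.val '' C : Set X)) :=
    ((hC.1 : IsIrreducible C).image _ continuous_subtype_val.continuousOn).closure
  have hgp := hCirr.isGenericPoint_genericPoint isClosed_closure
  refine ⟨hCirr.genericPoint, ?_, hgp.specializes hxC⟩
  have hmem : hCirr.genericPoint ∈ A := by
    rw [hgp.mem_open_set_iff hAo]
    obtain ⟨c, hc⟩ := (hC.1 : IsIrreducible C).nonempty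
    exact ⟨c.1, subset_closure ⟨c, hc, rfl⟩, c.2⟩
  exact hmem.1

/-- Let X be a locally Noetherian topological space in which every irreducible closed subset has a
unique generic point (X quasi-sober and T₀), and Z a closed nowhere dense subset of X such that for
every point x of Z the set of generizations of x distinct from x is connected (possibly empty). If X
is connected, then X − Z is connected. (Uniqueness of generic points, automatic for the underlying
space of a scheme, is needed: in the four-point space {u, v, z₁, z₂} whose open sets are ∅, {u},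
{v}, {u, v} and the whole space, the closed nowhere dense set Z = {z₁, z₂} satisfies the hypothesis,
since z₂ is a generization of z₁ and conversely, yet X − Z = {u, v} is not connected.) -/
theorem result {X : Type u} [TopologicalSpace X]
    [QuasiSober X] [T0Space X] (hloc : ∀ x : X, ∃ U ∈ nhds x, TopologicalSpace.NoetherianSpace ↥U) [ConnectedSpace X]
    (Z : Set X) (hZ : IsClosed Z) (hZn : IsNowhereDense Z)
    (hgen : ∀ x ∈ Z, IsPreconnected ({x' : X | x' ⤳ x} \ {x})) :
    IsConnected Zᶜ := by
  have hdense : Dense Zᶜ := by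
    have h0 : interior Z = ∅ := by
      have := hZn
      rwa [IsNowhereDense, hZ.closure_eq] at this
    exact interior_eq_empty_iff_dense_compl.mp h0
  refine ⟨hdense.nonempty, ?_⟩
  rintro u v hu hv huv ⟨a, haZ, hau⟩ ⟨b, hbZ, hbv⟩
  by_contra hempty
  rw [Set.not_nonempty_iff_eq_empty] at hempty
  set U₁ : Set X := Zᶜ ∩ u with hU₁
  set U₂ : Set X := Zᶜ ∩ v with hU₂
  have hU₁o : IsOpen U₁ := hZ.isOpen_compl.inter hu
  have hU₂o : IsOpen U₂ := hZ.isOpen_compl.inter hv
  have hdisj : ∀ y, y ∈ U₁ → y ∈ U₂ → False := by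
    intro y h1 h2
    have : y ∈ Zᶜ ∩ (u ∩ v) := ⟨h1.1, h1.2, h2.2⟩
    rw [hempty] at this
    exact this
  have hcov : ∀ y, y ∉ Z → y ∈ U₁ ∨ y ∈ U₂ := by
    intro y hy
    rcases huv hy with h | h
    · exact Or.inl ⟨hy, h⟩
    · exact Or.inr ⟨hy, h⟩
  have hcl : closure U₁ ∪ closure U₂ = Set.univ := by
    rw [← closure_union, Set.eq_univ_iff_forall]
    intro y
    refine closure_mono ?_ (hdense y)
    intro z hz
    exact hcov z hz
  have hW : (closure U₁ ∩ closure U₂).Nonempty := by
    obtain ⟨y, -, hy⟩ := isPreconnected_closed_iff.mp isPreconnected_univ (closure U₁)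
      (closure U₂) isClosed_closure isClosed_closure (by rw [hcl])
      ⟨a, trivial, subset_closure ⟨haZ, hau⟩⟩ ⟨b, trivial, subset_closure ⟨hbZ, hbv⟩⟩
    exact ⟨y, hy⟩
  have hWZ : closure U₁ ∩ closure U₂ ⊆ Z := by
    rintro y ⟨h1, h2⟩
    by_contra hyZ
    rcases hcov y hyZ with h | h
    · obtain ⟨z, hz1, hz2⟩ := mem_closure_iff.mp h2 U₁ hU₁o h
      exact hdisj z hz1 hz2
    · obtain ⟨z, hz1, hz2⟩ := mem_closure_iff.mp h1 U₂ hU₂o h
      exact hdisj z hz2 hz1
  set W : Set X := closure U₁ ∩ closure U₂ with hWdef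
  have hWc : IsClosed W := isClosed_closure.inter isClosed_closure
  obtain ⟨w, hw⟩ := hW
  have hWS : QuasiSober ↥W := hWc.isClosedEmbedding_subtypeVal.quasiSober
  -- a maximal point of `W`
  let C : irreducibleComponents ↥W :=
    ⟨irreducibleComponent (⟨w, hw⟩ : ↥W), irreducibleComponent_mem_irreducibleComponents _⟩
  let η' : ↥W := (genericPoints.ofComponent C).1
  have hη' : IsGenericPoint η' (C : Set ↥W) := genericPoints.isGenericPoint_ofComponent C
  have hmax : ∀ y : X, y ∈ W → y ⤳ (η' : X) → y = η' := by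
    intro y hyW hy
    have hy' : (⟨y, hyW⟩ : ↥W) ⤳ η' := (subtype_specializes_iff _ _).mpr hy
    have h1 : (C : Set ↥W) ⊆ closure {(⟨y, hyW⟩ : ↥W)} := by
      rw [← hη'.def]
      exact (specializes_iff_closure_subset.mp hy')
    have h2 : closure {(⟨y, hyW⟩ : ↥W)} ⊆ (C : Set ↥W) :=
      C.2.2 (isIrreducible_singleton.closure) h1
    have h3 : η' ⤳ (⟨y, hyW⟩ : ↥W) := by
      rw [hη'.specializes_iff_mem]
      exact h2 (subset_closure rfl)
    exact congrArg Subtype.val (hy'.antisymm h3).eq
  have hxW : (η' : X) ∈ W := η'.2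
  have hxZ : (η' : X) ∈ Z := hWZ hxW
  obtain ⟨η₁, hη₁, hs₁⟩ := exists_generization_mem hloc hU₁o hxW.1
  obtain ⟨η₂, hη₂, hs₂⟩ := exists_generization_mem hloc hU₂o hxW.2
  have hne₁ : η₁ ≠ (η' : X) := fun h => hη₁.1 (h ▸ hxZ)
  have hne₂ : η₂ ≠ (η' : X) := fun h => hη₂.1 (h ▸ hxZ)
  obtain ⟨g, ⟨hg1, hg2⟩, hgW⟩ := isPreconnected_closed_iff.mp (hgen _ hxZ) (closure U₁)
    (closure U₂) isClosed_closure isClosed_closure (by rw [hcl]; exact Set.subset_univ _)
    ⟨η₁, ⟨hs₁, hne₁⟩, subset_closure hη₁⟩ ⟨η₂, ⟨hs₂, hne₂⟩, subset_closure hη₂⟩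
  exact hg2 (hmax g hgW hg1)

end Groth.Agent.S4951
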