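import Groth.Statements.S4959
import Mathlib

set_option autoImplicit false
open CategoryTheory AlgebraicGeometry
universe u v w
open EGA43

namespace Groth.Agent.S4959

section Helpers

open CategoryTheory CategoryTheory.Limits AlgebraicGeometry

lemma isQuotientMap_of_cover {X Y : Scheme.{u}} (g : X ⟶ Y) [Surjective g]
    (hg : IsProper g ∨ (Flat g ∧ QuasiCompact g)) : Topology.IsQuotientMap g := by
  rcases hg with hg | ⟨h1, h2⟩
  · exact (g.isClosedMap).isQuotientMap g.continuous g.surjective
  · exact Flat.isQuotientMap_of_surjective g

theorem main {X Y Y' : Scheme.{u}} (f : X ⟶ Y) (g : Y' ⟶ Y) [Surjective g]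
    (hg : IsProper g ∨ (Flat g ∧ QuasiCompact g))
    (h : MorphismProperty.universally (topologically @Topology.IsQuotientMap) (pullback.snd f g)) :
    MorphismProperty.universally (topologically @Topology.IsQuotientMap) f := by
  intro XT T i₁ i₂ fT sq
  -- gT : T' → T base change of g
  let gT : pullback i₂ g ⟶ T := pullback.fst i₂ g
  have hgT : IsProper gT ∨ (Flat gT ∧ QuasiCompact gT) := by
    rcases hg with hg | ⟨h1, h2⟩
    · exact Or.inl inferInstance
    · exact Or.inr ⟨inferInstance, inferInstance⟩
  have hgTq : Topology.IsQuotientMap gT := isQuotientMap_of_cover gT hgT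
  -- XT' = XT ×_T T'
  let p : pullback fT gT ⟶ pullback i₂ g := pullback.snd fT gT
  let q : pullback fT gT ⟶ XT := pullback.fst fT gT
  -- map XT' → X ×_Y Y'
  let r : pullback fT gT ⟶ pullback f g :=
    pullback.lift (q ≫ i₁) (p ≫ pullback.snd i₂ g) (by
      rw [Category.assoc, ← sq.w, ← Category.assoc, pullback.condition, Category.assoc,
        Category.assoc, pullback.condition])
  have hsq : IsPullback p r (pullback.snd i₂ g) (pullback.snd f g) := by
    -- big square: XT' → T' → Y' vs XT' → X×Y' → Y'
    have h1 : IsPullback q p fT gT := IsPullback.of_hasPullback fT gT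
    have h2 : IsPullback (pullback.fst i₂ g) (pullback.snd i₂ g) i₂ g :=
      IsPullback.of_hasPullback i₂ g
    have h3 : IsPullback (pullback.fst f g) (pullback.snd f g) f g :=
      IsPullback.of_hasPullback f g
    -- vertical paste: XT' → XT → X over T' → T → Y ... 
    have h4 : IsPullback (q ≫ i₁) p f (gT ≫ i₂) := h1.paste_horiz sq.flip
    have h5 : IsPullback (r ≫ pullback.fst f g) p f (pullback.snd i₂ g ≫ g) := by
      have e1 : r ≫ pullback.fst f g = q ≫ i₁ := pullback.lift_fst _ _ _
      have e2 : pullback.snd i₂ g ≫ g = gT ≫ i₂ := pullback.condition.symm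
      rw [e1, e2]; exact h4
    have h6 : IsPullback r p (pullback.snd f g) (pullback.snd i₂ g) :=
      IsPullback.of_right h5 (pullback.lift_snd _ _ _) h3
    exact h6.flip
  have hp : Topology.IsQuotientMap p := h _ _ _ hsq
  have hcomp : Topology.IsQuotientMap (gT ∘ p) := hgTq.comp hp
  have hcomm : (gT : _ → _) ∘ p = fT ∘ q := by
    ext x
    have := congrArg (fun k => k.base x) (pullback.condition (f := fT) (g := gT))
    simpa using this.symm
  rw [hcomm] at hcomp
  exact Topology.IsQuotientMap.of_comp q.continuous fT.continuous hcomp

end Helpers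

open CategoryTheory.Limits in
/-- Let f : X ⟶ Y be a morphism of schemes and g : Y' ⟶ Y a surjective morphism which is either proper,
or flat and quasi-compact. If the base change f' : X ×_Y Y' ⟶ Y' is universally submersive (all of
its base changes are topological quotient maps), then f is universally submersive. -/
theorem result {X Y Y' : Scheme.{u}} (f : X ⟶ Y) (g : Y' ⟶ Y) [Surjective g]
    (hg : IsProper g ∨ (Flat g ∧ QuasiCompact g))
    (h : MorphismProperty.universally (topologically @Topology.IsQuotientMap) (pullback.snd f g)) :
    MorphismProperty.universally (topologically @Topology.IsQuotientMap) f := by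
  exact main f g hg h

end Groth.Agent.S4959
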