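import Groth.Statements.S4990
import Mathlib

set_option autoImplicit false
universe u
open CategoryTheory CategoryTheory.Limits AlgebraicGeometry TopologicalSpace
open Unram17

namespace Groth.Agent.S4990

section Helpers

open CategoryTheory CategoryTheory.Limits AlgebraicGeometry

theorem flat_stalkMap_of_flat_ι {X S : Scheme.{u}} (f : X ⟶ S) (U : X.Opens) (x : X) (hx : x ∈ U)
    [Flat (U.ι ≫ f)] : (f.stalkMap x).hom.Flat := by
  have h1 : ((U.ι ≫ f).stalkMap ⟨x, hx⟩).hom.Flat :=
    (Flat.iff_flat_stalkMap (f := U.ι ≫ f)).mp inferInstance ⟨x, hx⟩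
  rw [Scheme.Hom.stalkMap_comp] at h1
  have h2 : (f.stalkMap (U.ι ⟨x, hx⟩)).hom =
      (inv (U.ι.stalkMap ⟨x, hx⟩)).hom.comp
        ((f.stalkMap (U.ι ⟨x, hx⟩)) ≫ (U.ι.stalkMap ⟨x, hx⟩)).hom := by
    rw [← CommRingCat.hom_comp, Category.assoc, IsIso.hom_inv_id, Category.comp_id]
  change (f.stalkMap (U.ι ⟨x, hx⟩)).hom.Flat
  rw [h2]
  refine RingHom.Flat.comp h1 (RingHom.Flat.of_bijective ?_)
  exact ConcreteCategory.bijective_of_isIso (inv (U.ι.stalkMap ⟨x, hx⟩))

theorem dim_formula {R S : Type u} [CommRing R] [CommRing S] [IsLocalRing R] [IsLocalRing S]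
    [IsNoetherianRing R] [IsNoetherianRing S] (φ : R →+* S) [IsLocalHom φ] (hφ : φ.Flat) :
    ringKrullDim S = ringKrullDim R +
      ringKrullDim (S ⧸ (IsLocalRing.maximalIdeal R).map φ) := by
  letI := φ.toAlgebra
  haveI : Module.Flat R S := hφ
  have hover : (IsLocalRing.maximalIdeal S).LiesOver (IsLocalRing.maximalIdeal R) :=
    ⟨(IsLocalRing.maximalIdeal_comap φ).symm⟩
  have h := Ideal.height_eq_height_add_of_liesOver_of_hasGoingDown
    (IsLocalRing.maximalIdeal R) (IsLocalRing.maximalIdeal S)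
  have hI : (IsLocalRing.maximalIdeal R).map (algebraMap R S) ≠ ⊤ := by
    intro h'
    have : (IsLocalRing.maximalIdeal R).map (algebraMap R S) ≤ IsLocalRing.maximalIdeal S :=
      IsLocalRing.map_maximalIdeal_le φ
    rw [h'] at this
    exact (IsLocalRing.maximalIdeal.isMaximal S).ne_top (top_le_iff.mp this)
  haveI : Nontrivial (S ⧸ (IsLocalRing.maximalIdeal R).map (algebraMap R S)) :=
    Ideal.Quotient.nontrivial_iff.mpr hI
  haveI := IsLocalRing.of_surjective' (Ideal.Quotient.mk
    ((IsLocalRing.maximalIdeal R).map (algebraMap R S))) Ideal.Quotient.mk_surjective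
  haveI := IsLocalHom.of_surjective (Ideal.Quotient.mk
    ((IsLocalRing.maximalIdeal R).map (algebraMap R S))) Ideal.Quotient.mk_surjective
  have hmax : (IsLocalRing.maximalIdeal S).map (Ideal.Quotient.mk
      ((IsLocalRing.maximalIdeal R).map (algebraMap R S))) = IsLocalRing.maximalIdeal _ := by
    ext x
    obtain ⟨x, rfl⟩ := Ideal.Quotient.mk_surjective x
    simp [sup_eq_left.mpr (IsLocalRing.le_maximalIdeal hI)]
  rw [hmax] at h
  rw [← IsLocalRing.maximalIdeal_height_eq_ringKrullDim,
    ← IsLocalRing.maximalIdeal_height_eq_ringKrullDim (R := R)]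
  show _ = _ + ringKrullDim (S ⧸ (IsLocalRing.maximalIdeal R).map (algebraMap R S))
  rw [← IsLocalRing.maximalIdeal_height_eq_ringKrullDim
    (R := S ⧸ (IsLocalRing.maximalIdeal R).map (algebraMap R S)), h]
  rfl

theorem main {X Y : Scheme.{u}} (f : X ⟶ Y) [IsLocallyNoetherian Y] [LocallyOfFiniteType f] (x : ↥X)
    (hx : ∃ U : X.Opens, x ∈ U ∧ Smooth (U.ι ≫ f)) :
    ringKrullDim ↑(X.presheaf.stalk x) = ringKrullDim ↑(Y.presheaf.stalk (f.base x)) +
      ringKrullDim (↑(X.presheaf.stalk x) ⧸
        (IsLocalRing.maximalIdeal ↑(Y.presheaf.stalk (f.base x))).map (f.stalkMap x).hom) := by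
  obtain ⟨U, hxU, hU⟩ := hx
  haveI : IsLocallyNoetherian X := LocallyOfFiniteType.isLocallyNoetherian f
  have hfl := flat_stalkMap_of_flat_ι f U x hxU
  exact dim_formula (f.stalkMap x).hom hfl

end Helpers

/-- Let Y be locally Noetherian and f : X ⟶ Y locally of finite type, smooth on an open neighbourhood of
a point x with image y. Then the Krull dimension of the local ring of X at x is the sum of the Krull
dimension of the local ring of Y at y and of the Krull dimension of the local ring of the fibre, the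
quotient of the local ring at x by the extension of the maximal ideal at y. -/
theorem result {X Y : Scheme.{u}} (f : X ⟶ Y)
    [IsLocallyNoetherian Y] [LocallyOfFiniteType f] (x : ↥X)
    (hx : ∃ U : X.Opens, x ∈ U ∧ Smooth (U.ι ≫ f)) :
    ringKrullDim ↑(X.presheaf.stalk x) =
      ringKrullDim ↑(Y.presheaf.stalk (f.base x)) +
        ringKrullDim (↑(X.presheaf.stalk x) ⧸
          (IsLocalRing.maximalIdeal ↑(Y.presheaf.stalk (f.base x))).map (f.stalkMap x).hom) := by
  exact main f x hx

end Groth.Agent.S4990
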