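import Groth.Statements.S4991
import Mathlib
import Groth.Agent.Lib.helper20.SmoothStalk

set_option autoImplicit false
universe u
open CategoryTheory CategoryTheory.Limits AlgebraicGeometry TopologicalSpace
open Unram17

namespace Groth.Agent.S4991

/-- Let Y be locally Noetherian and f : X ⟶ Y locally of finite type, smooth on an open neighbourhood of
a point x with image y. Then the local ring of X at x is regular if and only if the local ring of Y
at y is regular. -/
theorem result {X Y : Scheme.{u}} (f : X ⟶ Y)
    [IsLocallyNoetherian Y] [LocallyOfFiniteType f] (x : ↥X)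
    (hx : ∃ U : X.Opens, x ∈ U ∧ Smooth (U.ι ≫ f)) :
    IsRegularLocalRing ↑(X.presheaf.stalk x) ↔ IsRegularLocalRing ↑(Y.presheaf.stalk (f.base x)) := by
  obtain ⟨U, hxU, hsm⟩ := hx
  haveI := hsm
  let z : ↥(U : Scheme.{u}) := ⟨x, hxU⟩
  have hz : U.ι.base z = x := rfl
  have hzs : z ∈ (U.ι ≫ f).smoothLocus := by
    rw [(U.ι ≫ f).smoothLocus_eq_top]
    trivial
  have key := Groth.Agent.Lib.helper20.SmoothStalk.stalk_regular_iff (U.ι ≫ f) z hzs
  have hiso : IsIso (U.ι.stalkMap z) := inferInstance
  let e : X.presheaf.stalk (U.ι.base z) ≃+* (U : Scheme.{u}).presheaf.stalk z :=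
    (asIso (U.ι.stalkMap z)).commRingCatIsoToRingEquiv
  have h1 : IsRegularLocalRing ↑(X.presheaf.stalk x) ↔
      IsRegularLocalRing ↑((U : Scheme.{u}).presheaf.stalk z) := by
    constructor
    · intro h
      haveI : IsRegularLocalRing ↑(X.presheaf.stalk (U.ι.base z)) := h
      exact IsRegularLocalRing.of_ringEquiv e
    · intro h
      haveI := h
      exact IsRegularLocalRing.of_ringEquiv e.symm
  exact h1.trans key

end Groth.Agent.S4991
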