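import Groth.Statements.S4998
import Mathlib

set_option autoImplicit false
universe u
open Unram17

namespace Groth.Agent.S4998

/-- Let A be an algebra of finite type over a field k. Then A is formally unramified over k if and only
if A is finite over k and every element of A has separable minimal polynomial over k (equivalently,
A is a finite product of finite separable extensions of k). -/
theorem result (k A : Type u) [Field k] [CommRing A]
    [Algebra k A] [Algebra.FiniteType k A] :
    Algebra.FormallyUnramified k A ↔ Module.Finite k A ∧ Algebra.IsSeparable k A := by
  classical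
  constructor
  · intro hunr
    have hfin : Module.Finite k A := Algebra.FormallyUnramified.finite_of_free k A
    refine ⟨hfin, ?_⟩
    have het : Algebra.FormallyEtale k A := Algebra.FormallyEtale.of_formallyUnramified_of_field k A
    obtain ⟨I, hI, Ai, hAi, halg, e, hsep⟩ :=
      (Algebra.FormallyEtale.iff_exists_algEquiv_prod k A).mp het
    have := Fintype.ofFinite I
    refine ⟨fun x => ?_⟩
    -- the product of the distinct minimal polynomials of the components
    set m : I → Polynomial k := fun i => minpoly k (e x i) with hm
    have hmi : ∀ i, IsIntegral k (e x i) := fun i =>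
      (Algebra.IsSeparable.isSeparable k (e x i)).isIntegral
    set q : Polynomial k := ∏ f ∈ Finset.univ.image m, f with hq
    have hqsep : q.Separable := by
      refine Polynomial.separable_prod' (f := fun f => f) ?_ ?_
      · intro f hf g hg hfg
        obtain ⟨i, -, rfl⟩ := Finset.mem_image.mp hf
        obtain ⟨j, -, rfl⟩ := Finset.mem_image.mp hg
        rcases (minpoly.irreducible (hmi i)).isCoprime_or_dvd (m j) with h | h
        · exact h
        · exfalso
          apply hfg
          have hassoc : Associated (m i) (m j) :=
            (minpoly.irreducible (hmi i)).associated_of_dvd (minpoly.irreducible (hmi j)) h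
          exact Polynomial.eq_of_monic_of_associated (minpoly.monic (hmi i))
            (minpoly.monic (hmi j)) hassoc
      · intro f hf
        obtain ⟨i, -, rfl⟩ := Finset.mem_image.mp hf
        exact Algebra.IsSeparable.isSeparable k (e x i)
    have hq0 : Polynomial.aeval x q = 0 := by
      apply e.injective
      rw [map_zero, ← Polynomial.aeval_algHom_apply]
      funext i
      have h1 : (Polynomial.aeval (e x) q) i = Polynomial.aeval (e x i) q := by
        have := Polynomial.aeval_algHom_apply (Pi.evalAlgHom k Ai i) (e x) q
        simpa using this.symm
      rw [h1, Pi.zero_apply]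
      have hdvd : m i ∣ q := Finset.dvd_prod_of_mem (fun f => f)
        (Finset.mem_image_of_mem m (Finset.mem_univ i))
      obtain ⟨r, hr⟩ := hdvd
      rw [hr, map_mul, hm, minpoly.aeval, zero_mul]
    exact hqsep.of_dvd (minpoly.dvd k x hq0)
  · rintro ⟨hfin, hsep⟩
    have hart : IsArtinianRing A := IsArtinianRing.of_finite k A
    have hred : IsReduced A := by
      refine ⟨fun x hx => ?_⟩
      obtain ⟨n, hn⟩ := hx
      by_cases hn0 : n = 0
      · subst hn0
        have h10 : (1 : A) = 0 := by simpa using hn
        have hsub : Subsingleton A := subsingleton_of_zero_eq_one h10.symm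
        exact Subsingleton.elim x 0
      have hdvd : minpoly k x ∣ (Polynomial.X : Polynomial k) ^ n :=
        minpoly.dvd k x (by simp [hn])
      have hsq : Squarefree (minpoly k x) := (Algebra.IsSeparable.isSeparable k x).squarefree
      have hX : minpoly k x ∣ (Polynomial.X : Polynomial k) := (hsq.dvd_pow_iff_dvd hn0).mp hdvd
      obtain ⟨r, hr⟩ := hX
      have := congrArg (Polynomial.aeval x) hr
      simpa using this
    let e := (IsArtinianRing.equivPi A).restrictScalars k
    have hfield : ∀ m : MaximalSpectrum A, Algebra.FormallyUnramified k (A ⧸ m.asIdeal) := by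
      intro m
      let _ := Ideal.Quotient.field m.asIdeal
      have : Algebra.IsSeparable k (A ⧸ m.asIdeal) := by
        refine ⟨fun y => ?_⟩
        obtain ⟨x, rfl⟩ := Ideal.Quotient.mk_surjective y
        have h0 : Polynomial.aeval (Ideal.Quotient.mk m.asIdeal x) (minpoly k x) = 0 := by
          have := Polynomial.aeval_algHom_apply (Ideal.Quotient.mkₐ k m.asIdeal) x (minpoly k x)
          rw [Ideal.Quotient.mkₐ_eq_mk] at this
          rw [this, minpoly.aeval, map_zero]
        exact (Algebra.IsSeparable.isSeparable k x).of_dvd (minpoly.dvd k _ h0)
      exact Algebra.FormallyUnramified.of_isSeparable k (A ⧸ m.asIdeal)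
    have hpi : Algebra.FormallyUnramified k (Π m : MaximalSpectrum A, A ⧸ m.asIdeal) :=
      inferInstance
    exact Algebra.FormallyUnramified.of_equiv e.symm

end Groth.Agent.S4998
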