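import Groth.Statements.S5002
import Mathlib.RingTheory.Finiteness.NilpotentKer
import Mathlib.RingTheory.EssentialFiniteness
-- import your own Groth.Agent.* helpers here

set_option autoImplicit false
universe u
open PP16

namespace Groth.Agent.S5002

/-- Suppose A is a commutative ring and B is a finite-type A-algebra. For each n, the ring of principal
parts of order n of B over A is then finitely generated as a B-module, where B acts via the first
factor. -/
theorem result (n : ℕ) (A B : Type u) [CommRing A] [CommRing B] [Algebra A B]
    [Algebra.FiniteType A B] : Module.Finite B (PP16.P n A B) := by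
  have hfg : (KaehlerDifferential.ideal A B).FG := KaehlerDifferential.ideal_fg A B
  let f : PP16.P n A B →ₐ[B] B :=
    Ideal.Quotient.liftₐ _ (Algebra.TensorProduct.lmul'' (S := B) A) (by
      intro x hx
      have hle : KaehlerDifferential.ideal A B ^ (n + 1) ≤ KaehlerDifferential.ideal A B :=
        Ideal.pow_le_self (Nat.succ_ne_zero n)
      exact (RingHom.mem_ker).mp (hle hx))
  have hfmk : ∀ x : TensorProduct A B B, f (Ideal.Quotient.mk _ x) = Algebra.TensorProduct.lmul' (S := B) A x :=
    fun x => rfl
  have hf₁ : Function.Surjective f := by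
    intro b
    refine ⟨Ideal.Quotient.mk _ (b ⊗ₜ[A] 1), ?_⟩
    rw [hfmk]; simp
  have hker : RingHom.ker f = (KaehlerDifferential.ideal A B).map
      (Ideal.Quotient.mk (KaehlerDifferential.ideal A B ^ (n + 1))) := by
    ext x
    obtain ⟨y, rfl⟩ := Ideal.Quotient.mk_surjective x
    rw [RingHom.mem_ker, hfmk]
    constructor
    · intro h
      exact Ideal.mem_map_of_mem _ ((RingHom.mem_ker).mpr h)
    · intro h
      rw [Ideal.mem_map_iff_of_surjective _ Ideal.Quotient.mk_surjective] at h
      obtain ⟨z, hz, hzy⟩ := h
      have : z - y ∈ KaehlerDifferential.ideal A B ^ (n + 1) := by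
        rw [← Ideal.Quotient.eq]; exact hzy
      have hle : KaehlerDifferential.ideal A B ^ (n + 1) ≤ KaehlerDifferential.ideal A B :=
        Ideal.pow_le_self (Nat.succ_ne_zero n)
      have hy : y ∈ KaehlerDifferential.ideal A B := by
        have := Ideal.sub_mem _ hz (hle this)
        simpa using this
      exact (RingHom.mem_ker).mp hy
  have hf₂ : RingHom.ker f ≤ nilradical (PP16.P n A B) := by
    rw [hker]
    intro x hx
    rw [mem_nilradical]
    refine ⟨n + 1, ?_⟩
    have : x ^ (n + 1) ∈ ((KaehlerDifferential.ideal A B).map
      (Ideal.Quotient.mk (KaehlerDifferential.ideal A B ^ (n + 1)))) ^ (n + 1) :=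
      Ideal.pow_mem_pow hx _
    rw [← Ideal.map_pow] at this
    rw [Ideal.map_quotient_self] at this
    simpa using this
  have hf₃ : (RingHom.ker f).FG := by
    rw [hker]
    exact hfg.map _
  exact Module.finite_of_surjective_of_ker_le_nilradical f hf₁ hf₂ hf₃

end Groth.Agent.S5002
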