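import Groth.Statements.S5006
import Mathlib

set_option autoImplicit false
universe u
open Nrm16

namespace Groth.Agent.S5006

/-- Let A be a commutative ring, I a finitely generated ideal and p a prime ideal containing I. Then
some basic open neighbourhood of p in Spec A is contained in the closed set V(I) (so that V(I) ⟶
Spec A is a local homeomorphism onto an open set near p) if and only if there is an integer n > 0
with I^n A_p = I^(n+1) A_p in the local ring at p. Affine form. -/
theorem result (A : Type u) [CommRing A] (I : Ideal A) (hI : I.FG)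
    (p : Ideal A) [p.IsPrime] (hp : I ≤ p) :
    (∃ f : A, f ∉ p ∧ ∀ q : Ideal A, q.IsPrime → f ∉ q → I ≤ q) ↔
      ∃ n : ℕ, 0 < n ∧
        (I ^ n).map (algebraMap A (Localization.AtPrime p)) =
          (I ^ (n + 1)).map (algebraMap A (Localization.AtPrime p)) := by
  classical
  constructor
  · rintro ⟨f, hfp, hf⟩
    -- J = I * (f) is a f.g. ideal in the nilradical
    set J : Ideal A := I * Ideal.span {f} with hJ
    have hJfg : J.FG := hI.mul (Submodule.fg_span_singleton f)
    have hJnil : J ≤ nilradical A := by
      rw [nilradical_eq_sInf]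
      refine le_sInf fun q (hq : q.IsPrime) => ?_
      by_cases hfq : f ∈ q
      · exact (Ideal.mul_le_right).trans ((Ideal.span_singleton_le_iff_mem q).mpr hfq)
      · exact (Ideal.mul_le_left).trans (hf q hq hfq)
    obtain ⟨n, hn⟩ := (Ideal.FG.isNilpotent_iff_le_nilradical hJfg).mpr hJnil
    have hker : ∀ k : ℕ, n ≤ k →
        (I ^ k).map (algebraMap A (Localization.AtPrime p)) = ⊥ := by
      intro k hk
      rw [Ideal.map_eq_bot_iff_le_ker]
      intro x hx
      rw [RingHom.mem_ker, IsLocalization.map_eq_zero_iff p.primeCompl]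
      refine ⟨⟨f ^ k, ?_⟩, ?_⟩
      · exact fun h => hfp (Ideal.IsPrime.mem_of_pow_mem inferInstance k h)
      · have hmem : f ^ k * x ∈ J ^ k := by
          rw [hJ, mul_pow, mul_comm (f ^ k) x, Ideal.span_singleton_pow]
          exact Ideal.mul_mem_mul hx (Ideal.mem_span_singleton_self _)
        have hJk : J ^ k = ⊥ := by
          rw [← Nat.sub_add_cancel hk, pow_add, hn, mul_zero]; rfl
        rw [hJk] at hmem
        simpa using hmem
    refine ⟨n + 1, Nat.succ_pos _, ?_⟩
    rw [hker (n + 1) (Nat.le_succ _), hker (n + 1 + 1) (by omega)]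
  · rintro ⟨n, hn0, hn⟩
    set φ := algebraMap A (Localization.AtPrime p) with hφ
    have hbot : (I ^ n).map φ = ⊥ := by
      refine Submodule.eq_bot_of_le_smul_of_le_jacobson_bot (I.map φ) ((I ^ n).map φ)
        ((hI.pow (n := n)).map φ) ?_ ?_
      · rw [smul_eq_mul, ← Ideal.map_mul, ← pow_succ', ← hn]
      · rw [IsLocalRing.jacobson_eq_maximalIdeal ⊥ bot_ne_top,
          ← Localization.AtPrime.map_eq_maximalIdeal]
        exact Ideal.map_mono hp
    obtain ⟨s, hs⟩ := (hI.pow (n := n))
    have hkill : ∀ x ∈ s, ∃ m : A, m ∉ p ∧ m * x = 0 := by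
      intro x hx
      have hx' : x ∈ I ^ n := hs ▸ Ideal.subset_span hx
      have : φ x = 0 := by
        have := Ideal.mem_map_of_mem φ hx'
        rw [hbot] at this
        simpa using this
      rw [hφ, IsLocalization.map_eq_zero_iff p.primeCompl] at this
      obtain ⟨m, hm⟩ := this
      exact ⟨m.1, m.2, hm⟩
    choose! g hg using hkill
    refine ⟨∏ x ∈ s, g x, ?_, ?_⟩
    · intro h
      obtain ⟨x, hx, hxp⟩ := (Ideal.IsPrime.prod_mem_iff).mp h
      exact (hg x hx).1 hxp
    · intro q hq hfq a ha
      have han : a ^ n ∈ I ^ n := Ideal.pow_mem_pow ha n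
      have hzero : (∏ x ∈ s, g x) * a ^ n = 0 := by
        rw [← hs] at han
        refine Submodule.span_induction (p := fun y _ => (∏ x ∈ s, g x) * y = 0) ?_ ?_ ?_ ?_ han
        · intro y hy
          rw [← Finset.mul_prod_erase s g hy, mul_right_comm, (hg y hy).2, zero_mul]
        · simp
        · intro u v _ _ hu hv
          rw [mul_add, hu, hv, add_zero]
        · intro r u _ hu
          rw [smul_eq_mul, mul_left_comm, hu, mul_zero]
      have : (∏ x ∈ s, g x) * a ^ n ∈ q := hzero ▸ q.zero_mem
      rcases hq.mem_or_mem this with h | h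
      · exact absurd h hfq
      · exact hq.mem_of_pow_mem n h

end Groth.Agent.S5006
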