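import Groth.Statements.S5007
import Mathlib
import Groth.Agent.Lib.helper22.UnramFibre

set_option autoImplicit false
universe u
open CategoryTheory CategoryTheory.Limits AlgebraicGeometry TopologicalSpace
open Unram17

namespace Groth.Agent.S5007

section Helpers

open CategoryTheory CategoryTheory.Limits AlgebraicGeometry

theorem main {X Y S : Scheme.{u}} (g : Y ⟶ S) (h : X ⟶ S) [LocallyOfFinitePresentation g]
    [LocallyOfFinitePresentation h] (f : X ⟶ Y) (w : f ≫ g = h) :
    FormallyUnramified f ↔ ∀ s : ↥S, FormallyUnramified (pullback.snd f (g.fiberι s)) := by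
  constructor
  · intro hf s
    exact MorphismProperty.pullback_snd (P := @FormallyUnramified) _ _ hf
  · intro H
    haveI : LocallyOfFiniteType f := by
      haveI : LocallyOfFiniteType (f ≫ g) := by rw [w]; infer_instance
      exact locallyOfFiniteType_of_comp f g
    apply Groth.Agent.H22.UnramFibre.formallyUnramified_of_jointly_surjective
    intro x
    refine ⟨g.fiber (g (f x)), g.fiberι (g (f x)), ?_, H _⟩
    have : f x ∈ Set.range (g.fiberι (g (f x))) := by
      rw [Scheme.Hom.range_fiberι]
      rfl
    obtain ⟨y, hy⟩ := this
    obtain ⟨z, hz1, hz2⟩ := Scheme.Pullback.exists_preimage_pullback x y hy.symm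
    exact ⟨z, hz1⟩

end Helpers

/-- Let g : Y ⟶ S and h : X ⟶ S be locally of finite presentation and f : X ⟶ Y a morphism over S. Then
f is (formally) unramified if and only if for every point s of S the base change of f along the
fibre Y_s ⟶ Y, which is the fibre map X_s ⟶ Y_s, is (formally) unramified. -/
theorem result {X Y S : Scheme.{u}} (g : Y ⟶ S) (h : X ⟶ S)
    [LocallyOfFinitePresentation g] [LocallyOfFinitePresentation h] (f : X ⟶ Y) (w : f ≫ g = h) :
    FormallyUnramified f ↔ ∀ s : ↥S, FormallyUnramified (pullback.snd f (g.fiberι s)) := by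
  exact main g h f w

end Groth.Agent.S5007
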