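import Groth.Statements.S5009
import Mathlib
import Groth.Agent.Lib.helper22.UnramFibre

set_option autoImplicit false
universe u
open CategoryTheory CategoryTheory.Limits AlgebraicGeometry TopologicalSpace
open Unram17

namespace Groth.Agent.S5009

section Helpers

open Groth.Agent.H22.UnramFibre in
theorem forward {X Y : Scheme.{u}} (f : X ⟶ Y) (x : ↥X) (U : X.Opens) (hxU : x ∈ U)
    [FormallyUnramified (U.ι ≫ f)]
    (B B' : Type u) [CommRing B] [CommRing B'] [IsLocalRing B] [IsLocalRing B'] (φ : B' →+* B)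
    (hφ : Function.Surjective φ) (hker : RingHom.ker φ ^ 2 = ⊥)
    (α : Spec (CommRingCat.of B) ⟶ X) (β : Spec (CommRingCat.of B') ⟶ Y)
    (hα : α.base (IsLocalRing.closedPoint B) = x)
    (γ₁ γ₂ : Spec (CommRingCat.of B') ⟶ X)
    (h1 : Spec.map (CommRingCat.ofHom φ) ≫ γ₁ = α) (h1' : γ₁ ≫ f = β)
    (h2 : Spec.map (CommRingCat.ofHom φ) ≫ γ₂ = α) (h2' : γ₂ ≫ f = β) : γ₁ = γ₂ := by
  have hsq : ∀ a b, φ a = 0 → φ b = 0 → a * b = 0 := by
    intro a b ha hb
    have : a * b ∈ RingHom.ker φ ^ 2 := by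
      rw [pow_two]
      exact Ideal.mul_mem_mul ha hb
    rw [hker] at this
    exact this
  haveI : IsClosedImmersion (Spec.map (CommRingCat.ofHom φ)) :=
    IsClosedImmersion.spec_of_surjective _ hφ
  have hnil := isNilpotent_ker_SpecMap φ hsq
  have hsurj := surjective_SpecMap_of_sqzero φ hφ hsq
  have hrange : ∀ γ : Spec (CommRingCat.of B') ⟶ X, Spec.map (CommRingCat.ofHom φ) ≫ γ = α →
      Set.range γ ⊆ Set.range U.ι := by
    rintro γ hγ _ ⟨p', rfl⟩
    obtain ⟨p, rfl⟩ := hsurj p'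
    rw [← Scheme.Hom.comp_apply, hγ, Scheme.Opens.range_ι]
    have hsp : p ⤳ IsLocalRing.closedPoint B := IsLocalRing.specializes_closedPoint p
    have := hsp.map α.continuous
    exact this.mem_open U.isOpen (hα ▸ hxU)
  let γ₁' := IsOpenImmersion.lift U.ι γ₁ (hrange γ₁ h1)
  let γ₂' := IsOpenImmersion.lift U.ι γ₂ (hrange γ₂ h2)
  have e1 : γ₁' ≫ U.ι = γ₁ := IsOpenImmersion.lift_fac _ _ _
  have e2 : γ₂' ≫ U.ι = γ₂ := IsOpenImmersion.lift_fac _ _ _
  have : γ₁' = γ₂' := FormallyUnramified.hom_ext (Spec.map (CommRingCat.ofHom φ)) hnil (U.ι ≫ f)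
    (by rw [← cancel_mono U.ι, Category.assoc, Category.assoc, e1, e2, h1, h2])
    (by rw [← Category.assoc, ← Category.assoc, e1, e2, h1', h2'])
  rw [← e1, ← e2, this]

open Groth.Agent.H22.UnramFibre in
theorem backward {X Y : Scheme.{u}} (f : X ⟶ Y) [LocallyOfFiniteType f] (x : ↥X)
    (H : ∀ (B B' : Type u) [CommRing B] [CommRing B'] [IsLocalRing B] [IsLocalRing B']
      (φ : B' →+* B),
      Function.Surjective φ → RingHom.ker φ ^ 2 = ⊥ →
      ∀ (α : Spec (CommRingCat.of B) ⟶ X) (β : Spec (CommRingCat.of B') ⟶ Y),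
        α.base (IsLocalRing.closedPoint B) = x → Spec.map (CommRingCat.ofHom φ) ≫ β = α ≫ f →
        ∀ γ₁ γ₂ : Spec (CommRingCat.of B') ⟶ X,
          Spec.map (CommRingCat.ofHom φ) ≫ γ₁ = α → γ₁ ≫ f = β →
          Spec.map (CommRingCat.ofHom φ) ≫ γ₂ = α → γ₂ ≫ f = β → γ₁ = γ₂) :
    ∃ U : X.Opens, x ∈ U ∧ FormallyUnramified (U.ι ≫ f) := by
  suffices Hγ : ∀ γ : Spec (CommRingCat.of (DualNumber (X.residueField x))) ⟶ X,
      dualClosedPt (X.residueField x) ≫ γ = X.fromSpecResidueField x →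
      γ ≫ f = dualRetract (X.residueField x) ≫ X.fromSpecResidueField x ≫ f →
      γ = dualRetract (X.residueField x) ≫ X.fromSpecResidueField x by
    obtain ⟨U, hσU, hU⟩ := exists_open_formallyUnramified_of_dualNumber_lifts f
      (X.residueField x) (X.fromSpecResidueField x) Hγ
    exact ⟨U, hσU ⟨default, Scheme.fromSpecResidueField_apply _ _⟩, hU⟩
  intro γ hcγ hγf
  have hk2 : RingHom.ker (TrivSqZeroExt.fstHom (X.residueField x) (X.residueField x)
      (X.residueField x)).toRingHom ^ 2 = ⊥ := by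
    rw [pow_two]
    refine le_bot_iff.mp (Ideal.mul_le.mpr fun a ha b hb => ?_)
    rw [Submodule.mem_bot]
    exact dualNumber_sq_zero _ a b ha hb
  refine H (X.residueField x) (DualNumber (X.residueField x))
    (TrivSqZeroExt.fstHom (X.residueField x) (X.residueField x) (X.residueField x)).toRingHom
    (fun a => ⟨TrivSqZeroExt.inl a, rfl⟩) hk2 (X.fromSpecResidueField x)
    (dualRetract (X.residueField x) ≫ X.fromSpecResidueField x ≫ f)
    (Scheme.fromSpecResidueField_apply _ _) ?_ γ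
    (dualRetract (X.residueField x) ≫ X.fromSpecResidueField x) hcγ hγf ?_ ?_
  · rw [← Category.assoc]
    erw [dualClosedPt_retract]
    rw [Category.id_comp]
  · rw [← Category.assoc]
    erw [dualClosedPt_retract]
    rw [Category.id_comp]
  · rw [Category.assoc]

theorem main {X Y : Scheme.{u}} (f : X ⟶ Y)
    [LocallyOfFinitePresentation f] (x : ↥X) :
    (∃ U : X.Opens, x ∈ U ∧ FormallyUnramified (U.ι ≫ f)) ↔
      ∀ (B B' : Type u) [CommRing B] [CommRing B'] [IsLocalRing B] [IsLocalRing B'] (φ : B' →+* B),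
      Function.Surjective φ → RingHom.ker φ ^ 2 = ⊥ →
      ∀ (α : Spec (CommRingCat.of B) ⟶ X) (β : Spec (CommRingCat.of B') ⟶ Y),
        α.base (IsLocalRing.closedPoint B) = x → Spec.map (CommRingCat.ofHom φ) ≫ β = α ≫ f →
        ∀ γ₁ γ₂ : Spec (CommRingCat.of B') ⟶ X,
          Spec.map (CommRingCat.ofHom φ) ≫ γ₁ = α → γ₁ ≫ f = β →
          Spec.map (CommRingCat.ofHom φ) ≫ γ₂ = α → γ₂ ≫ f = β → γ₁ = γ₂ := by
  constructor
  · rintro ⟨U, hxU, hU⟩ B B' _ _ _ _ φ hφ hker α β hα - γ₁ γ₂ h1 h1' h2 h2'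
    exact forward f x U hxU B B' φ hφ hker α β hα γ₁ γ₂ h1 h1' h2 h2'
  · exact backward f x

end Helpers

/-- Let f : X ⟶ Y be locally of finite presentation and x a point of X. Then f is (formally) unramified
on an open neighbourhood of x if and only if for every surjection of local rings B' → B with
square-zero kernel, every morphism Spec B ⟶ X sending the closed point to x and every morphism Spec
B' ⟶ Y making the square commute, any two lifts Spec B' ⟶ X compatible with both are equal. -/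
theorem result {X Y : Scheme.{u}} (f : X ⟶ Y)
    [LocallyOfFinitePresentation f] (x : ↥X) :
    (∃ U : X.Opens, x ∈ U ∧ FormallyUnramified (U.ι ≫ f)) ↔
      ∀ (B B' : Type u) [CommRing B] [CommRing B'] [IsLocalRing B] [IsLocalRing B'] (φ : B' →+* B),
      Function.Surjective φ → RingHom.ker φ ^ 2 = ⊥ →
      ∀ (α : Spec (CommRingCat.of B) ⟶ X) (β : Spec (CommRingCat.of B') ⟶ Y),
        α.base (IsLocalRing.closedPoint B) = x → Spec.map (CommRingCat.ofHom φ) ≫ β = α ≫ f →
        ∀ γ₁ γ₂ : Spec (CommRingCat.of B') ⟶ X,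
          Spec.map (CommRingCat.ofHom φ) ≫ γ₁ = α → γ₁ ≫ f = β →
          Spec.map (CommRingCat.ofHom φ) ≫ γ₂ = α → γ₂ ≫ f = β → γ₁ = γ₂ := by
  exact main f x

end Groth.Agent.S5009
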