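import Groth.Statements.S5011
import Mathlib
import Groth.Agent.Lib.helper22.EtaleFlatSch

set_option autoImplicit false
universe u
open CategoryTheory CategoryTheory.Limits AlgebraicGeometry TopologicalSpace
open Unram17

namespace Groth.Agent.S5011

section Helpers

open CategoryTheory CategoryTheory.Limits AlgebraicGeometry IsLocalRing

open Groth.Agent.H22.EtaleFlat

/-- Étale iff all stalk maps are flat and formally unramified (for lfp morphisms). -/
theorem etale_iff_stalkMap {X Y : Scheme.{u}} (f : X ⟶ Y) [LocallyOfFinitePresentation f] :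
    Etale f ↔ ∀ x : X, (f.stalkMap x).hom.Flat ∧ (f.stalkMap x).hom.FormallyUnramified := by
  constructor
  · intro h x
    exact ⟨Flat.stalkMap f x, FormallyUnramified.stalkMap f x⟩
  · intro h
    choose U hxU hU using fun x => (exists_etale_nbhd_iff f x).mpr (h x)
    refine IsZariskiLocalAtSource.of_iSup_eq_top (P := @Etale) U ?_ hU
    exact top_le_iff.mp fun x _ => TopologicalSpace.Opens.mem_iSup.mpr ⟨x, hxU x⟩

section ring

variable {A B : Type u} [CommRing A] [CommRing B] [IsLocalRing A] [IsLocalRing B]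
  (φ : A →+* B) [IsLocalHom φ]

theorem aux (I : Ideal B) (hle : maximalIdeal A ≤ I.comap φ) (hI : I = maximalIdeal B) :
    letI := φ.toAlgebra
    haveI : IsLocalHom (algebraMap A B) := ‹IsLocalHom φ›
    letI := (Ideal.quotientMap I φ hle).toAlgebra
    (Module.Finite (A ⧸ maximalIdeal A) (B ⧸ I) ∧ Algebra.IsSeparable (A ⧸ maximalIdeal A) (B ⧸ I)) ↔
      (Module.Finite (ResidueField A) (ResidueField B) ∧
        Algebra.IsSeparable (ResidueField A) (ResidueField B)) := by
  subst hI
  letI := φ.toAlgebra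
  haveI : IsLocalHom (algebraMap A B) := ‹IsLocalHom φ›
  have : (Ideal.quotientMap (maximalIdeal B) φ hle).toAlgebra =
      (inferInstance : Algebra (ResidueField A) (ResidueField B)) := by
    refine Algebra.algebra_ext _ _ fun x => ?_
    obtain ⟨x, rfl⟩ := residue_surjective x
    rfl
  rw [this]
  exact Iff.rfl

theorem unram_iff (hφ : φ.EssFiniteType) :
    φ.FormallyUnramified ↔
      letI := (Ideal.quotientMap ((maximalIdeal A).map φ) φ Ideal.le_comap_map).toAlgebra
      IsField (B ⧸ (maximalIdeal A).map φ) ∧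
        Module.Finite (A ⧸ maximalIdeal A) (B ⧸ (maximalIdeal A).map φ) ∧
        Algebra.IsSeparable (A ⧸ maximalIdeal A) (B ⧸ (maximalIdeal A).map φ) := by
  letI := φ.toAlgebra
  haveI : IsLocalHom (algebraMap A B) := ‹IsLocalHom φ›
  haveI : Algebra.EssFiniteType A B := hφ
  have hiff : φ.FormallyUnramified ↔ Algebra.FormallyUnramified A B := Iff.rfl
  rw [hiff]
  constructor
  · intro h
    have hm : (maximalIdeal A).map φ = maximalIdeal B :=
      Algebra.FormallyUnramified.map_maximalIdeal
    refine ⟨?_, (aux φ _ Ideal.le_comap_map hm).mpr ⟨inferInstance, inferInstance⟩⟩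
    rw [← Ideal.Quotient.maximal_ideal_iff_isField_quotient, hm]
    infer_instance
  · rintro ⟨hF, hfin, hsep⟩
    have hmax : ((maximalIdeal A).map φ).IsMaximal :=
      (Ideal.Quotient.maximal_ideal_iff_isField_quotient _).mpr hF
    have hm : (maximalIdeal A).map φ = maximalIdeal B := eq_maximalIdeal hmax
    obtain ⟨_, hsep'⟩ := (aux φ _ Ideal.le_comap_map hm).mp ⟨hfin, hsep⟩
    exact Algebra.FormallyUnramified.of_map_maximalIdeal hm

end ring

theorem main {X Y : Scheme.{u}} (f : X ⟶ Y)
    [LocallyOfFinitePresentation f] :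
    Etale f ↔ Flat f ∧ ∀ x : ↥X,
      letI φ := (f.stalkMap x).hom
      letI 𝔪 := IsLocalRing.maximalIdeal ↑(Y.presheaf.stalk (f.base x))
      letI := (Ideal.quotientMap (𝔪.map φ) φ Ideal.le_comap_map).toAlgebra
      IsField (↑(X.presheaf.stalk x) ⧸ 𝔪.map φ) ∧
        Module.Finite (↑(Y.presheaf.stalk (f.base x)) ⧸ 𝔪) (↑(X.presheaf.stalk x) ⧸ 𝔪.map φ) ∧
        Algebra.IsSeparable (↑(Y.presheaf.stalk (f.base x)) ⧸ 𝔪) (↑(X.presheaf.stalk x) ⧸ 𝔪.map φ) := by
  rw [etale_iff_stalkMap, Flat.iff_flat_stalkMap]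
  constructor
  · intro h
    exact ⟨fun x => (h x).1, fun x =>
      (unram_iff (f.stalkMap x).hom (LocallyOfFiniteType.stalkMap f x)).mp (h x).2⟩
  · rintro ⟨h1, h2⟩ x
    exact ⟨h1 x, (unram_iff (f.stalkMap x).hom (LocallyOfFiniteType.stalkMap f x)).mpr (h2 x)⟩

end Helpers

/-- Let f : X ⟶ Y be locally of finite presentation. Then f is etale if and only if f is flat and, for
every point x of X with image y, the quotient of the local ring of X at x by the extension of the
maximal ideal of the local ring of Y at y is a field, finite and separable over the residue field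
κ(y); that is, every fibre of f is a sum of spectra of finite separable extensions of the residue
field. -/
theorem result {X Y : Scheme.{u}} (f : X ⟶ Y)
    [LocallyOfFinitePresentation f] :
    Etale f ↔ Flat f ∧ ∀ x : ↥X,
      letI φ := (f.stalkMap x).hom
      letI 𝔪 := IsLocalRing.maximalIdeal ↑(Y.presheaf.stalk (f.base x))
      letI := (Ideal.quotientMap (𝔪.map φ) φ Ideal.le_comap_map).toAlgebra
      IsField (↑(X.presheaf.stalk x) ⧸ 𝔪.map φ) ∧
        Module.Finite (↑(Y.presheaf.stalk (f.base x)) ⧸ 𝔪) (↑(X.presheaf.stalk x) ⧸ 𝔪.map φ) ∧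
        Algebra.IsSeparable (↑(Y.presheaf.stalk (f.base x)) ⧸ 𝔪) (↑(X.presheaf.stalk x) ⧸ 𝔪.map φ) := by
  exact main f

end Groth.Agent.S5011
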