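import Groth.Statements.S5035
import Groth.Agent.Lib.lead.HenselQFConverse
-- import your own Groth.Agent.* helpers here

set_option autoImplicit false
universe u
open Hensel

namespace Groth.Agent.S5035

/-- a) iff c') (affine form): a local ring R is henselian if and only if, for every R-algebra S of
finite type and every prime q of S lying over the maximal ideal of R such that S is quasi-finite
over R at q, the local ring S_q is a finitely generated R-module. -/
theorem result (R : Type u) [CommRing R] [IsLocalRing R] :
    HenselianLocalRing R ↔
      ∀ (S : Type u) [CommRing S] [Algebra R S] [Algebra.FiniteType R S] (q : Ideal S) [q.IsPrime],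
        q.LiesOver (IsLocalRing.maximalIdeal R) → Algebra.QuasiFiniteAt R q →
          Module.Finite R (Localization.AtPrime q) := by
  constructor
  · intro hH S _ _ _ q _ hqm hqf
    haveI : HenselianLocalRing R := hH
    exact Groth.Agent.Lib.lead.HenselLocal.finite_localization_of_quasiFiniteAt (R := R) S q hqm hqf
  · intro h
    exact Groth.Agent.Lib.lead.HenselLocal.henselian_of_finite_localization h

end Groth.Agent.S5035
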