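import Groth.Statements.S5038
import Mathlib
import Groth.Agent.Lib.helper3.SmoothLift4
-- import your own Groth.Agent.* helpers here

set_option autoImplicit false
open CategoryTheory AlgebraicGeometry
universe u
open Hensel

namespace Groth.Agent.S5038

/-- Let A be a henselian local ring with residue field k, S = Spec A, and f : X ⟶ S a smooth morphism.
Then the map from sections of f to k-points of the closed fibre is surjective: every u₀ : Spec k ⟶ X
lying over the closed point extends to a section u of f. -/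
theorem result (A : Type u) [CommRing A] [HenselianLocalRing A]
    {X : Scheme.{u}} (f : X ⟶ Spec (CommRingCat.of A)) [Smooth f]
    (u₀ : Spec (CommRingCat.of (IsLocalRing.ResidueField A)) ⟶ X)
    (h₀ : u₀ ≫ f = Spec.map (CommRingCat.ofHom (IsLocalRing.residue A))) :
    ∃ u : Spec (CommRingCat.of A) ⟶ X, u ≫ f = 𝟙 _ ∧
      Spec.map (CommRingCat.ofHom (IsLocalRing.residue A)) ≫ u = u₀ := by
  classical
  have hsub : Subsingleton ↥(Spec (CommRingCat.of (IsLocalRing.ResidueField A))) :=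
    inferInstanceAs (Subsingleton (PrimeSpectrum (IsLocalRing.ResidueField A)))
  let pt : ↥(Spec (CommRingCat.of (IsLocalRing.ResidueField A))) :=
    IsLocalRing.closedPoint (IsLocalRing.ResidueField A)
  let x₀ : X := u₀.base pt
  obtain ⟨V, hV, hxV, -⟩ : ∃ V : X.Opens, IsAffineOpen V ∧ x₀ ∈ V ∧ V ≤ ⊤ :=
    (TopologicalSpace.Opens.isBasis_iff_nbhd.mp X.isBasis_affineOpens)
      (show x₀ ∈ (⊤ : X.Opens) from trivial)
  have hrange : Set.range u₀.base ⊆ Set.range V.ι.base := by
    rintro _ ⟨y, rfl⟩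
    rw [Scheme.Opens.range_ι]
    rw [Subsingleton.elim y pt]
    exact hxV
  let l : Spec (CommRingCat.of (IsLocalRing.ResidueField A)) ⟶ ↑V := IsOpenImmersion.lift V.ι u₀ hrange
  have hl : l ≫ V.ι = u₀ := IsOpenImmersion.lift_fac _ _ _
  let S : CommRingCat.{u} := Γ(X, V)
  let g : Spec S ⟶ Spec (CommRingCat.of A) := hV.isoSpec.inv ≫ V.ι ≫ f
  haveI : Smooth g := inferInstance
  let ψ' : CommRingCat.of A ⟶ S := Spec.preimage g
  have hψ' : Spec.map ψ' = g := Spec.map_preimage g
  have hsm : ψ'.hom.Smooth := by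
    rw [← HasRingHomProperty.Spec_iff (P := @Smooth), hψ']
    infer_instance
  let v₀ : Spec (CommRingCat.of (IsLocalRing.ResidueField A)) ⟶ Spec S := l ≫ hV.isoSpec.hom
  have hv₀g : v₀ ≫ g = Spec.map (CommRingCat.ofHom (IsLocalRing.residue A)) := by
    change (l ≫ hV.isoSpec.hom) ≫ hV.isoSpec.inv ≫ V.ι ≫ f = _
    rw [Category.assoc, Iso.hom_inv_id_assoc, ← Category.assoc, hl, h₀]
  let σ' : S ⟶ CommRingCat.of (IsLocalRing.ResidueField A) := Spec.preimage v₀
  have hσ' : Spec.map σ' = v₀ := Spec.map_preimage v₀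
  have hcomp : ψ' ≫ σ' = CommRingCat.ofHom (IsLocalRing.residue A) := by
    apply Spec.map_injective
    rw [Spec.map_comp, hσ', hψ', hv₀g]
  letI : Algebra A S := ψ'.hom.toAlgebra
  haveI : Algebra.Smooth A S := hsm
  let σ : S →ₐ[A] A ⧸ IsLocalRing.maximalIdeal A :=
    { σ'.hom with
      commutes' := fun a => by
        have := congrArg (fun t => t.hom a) hcomp
        exact this }
  obtain ⟨τ, hτ⟩ := Groth.Agent.Lib.helper3.SmoothLift.smooth_lift A (IsLocalRing.maximalIdeal A) S σ
  let τ' : S ⟶ CommRingCat.of A := CommRingCat.ofHom τ.toRingHom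
  have h1 : ψ' ≫ τ' = 𝟙 _ := by
    ext a
    exact τ.commutes a
  have h2 : τ' ≫ CommRingCat.ofHom (IsLocalRing.residue A) = σ' := by
    ext s
    exact AlgHom.congr_fun hτ s
  refine ⟨Spec.map τ' ≫ hV.isoSpec.inv ≫ V.ι, ?_, ?_⟩
  · rw [Category.assoc, Category.assoc]
    change Spec.map τ' ≫ g = _
    rw [← hψ', ← Spec.map_comp, h1, Spec.map_id]
  · rw [← Category.assoc, ← Spec.map_comp, h2, hσ']
    change (l ≫ hV.isoSpec.hom) ≫ hV.isoSpec.inv ≫ V.ι = _
    rw [Category.assoc, Iso.hom_inv_id_assoc, hl]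

end Groth.Agent.S5038
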