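import Groth.Statements.S5057
import Mathlib

set_option autoImplicit false
open CategoryTheory CategoryTheory.Limits AlgebraicGeometry
universe u
open Hensel

namespace Groth.Agent.S5057

/-- Let i : S₀ ⟶ S be a closed immersion such that for every finite morphism g : S' ⟶ S every
open-closed subset of S' ×_S S₀ is the inverse image under the first projection of exactly one
open-closed subset of S'. Then for every finite morphism g : S' ⟶ S, every open subset of S'
containing the image of S' ×_S S₀ is all of S'. -/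
theorem result {S S₀ : Scheme.{u}} (i : S₀ ⟶ S) [IsClosedImmersion i]
    (ha : ∀ (S' : Scheme.{u}) (g : S' ⟶ S), IsFinite g →
      ∀ V : Set ↥(pullback g i), IsClopen V → ∃! U : Set ↥S', IsClopen U ∧ (pullback.fst g i).base ⁻¹' U = V)
    {S' : Scheme.{u}} (g : S' ⟶ S) [IsFinite g] (U : Set ↥S') (hU : IsOpen U)
    (hU₀ : Set.range (pullback.fst g i).base ⊆ U) : U = Set.univ := by
  classical
  let C : TopologicalSpace.Closeds ↥S' := ⟨Uᶜ, hU.isClosed_compl⟩
  let I := Scheme.IdealSheafData.vanishingIdeal C
  let j : I.subscheme ⟶ S' := I.subschemeι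
  have hrange : Set.range j = Uᶜ := by
    rw [Scheme.IdealSheafData.range_subschemeι, Scheme.IdealSheafData.coe_support_vanishingIdeal]
    rfl
  have hfin : IsFinite (j ≫ g) := inferInstance
  have hempty : IsEmpty ↥(pullback (j ≫ g) i) := by
    constructor
    intro p
    let a := pullback.fst (j ≫ g) i p
    let b := pullback.snd (j ≫ g) i p
    have hab : g (j a) = i b := by
      change g (j (pullback.fst (j ≫ g) i p)) = i (pullback.snd (j ≫ g) i p)
      rw [← Scheme.Hom.comp_apply, ← Scheme.Hom.comp_apply, ← Scheme.Hom.comp_apply,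
        ← pullback.condition]
    obtain ⟨z, hz, -⟩ := Scheme.Pullback.exists_preimage_pullback (f := g) (g := i) (j a) b hab
    have h1 : j a ∈ U := hU₀ ⟨z, hz⟩
    have h2 : j a ∈ Uᶜ := by
      rw [← hrange]
      exact ⟨a, rfl⟩
    exact h2 h1
  obtain ⟨W, -, hW⟩ := ha _ (j ≫ g) hfin ∅ isClopen_empty
  have h1 := hW ∅ ⟨isClopen_empty, Set.eq_empty_of_isEmpty _⟩
  have h2 := hW Set.univ ⟨isClopen_univ, Set.eq_empty_of_isEmpty _⟩
  have h3 : (∅ : Set ↥I.subscheme) = Set.univ := h1.trans h2.symm
  rw [Set.eq_univ_iff_forall]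
  intro s
  by_contra hs
  have hs' : s ∈ Set.range j := by
    rw [hrange]
    exact hs
  obtain ⟨a, -⟩ := hs'
  have : a ∈ (∅ : Set ↥I.subscheme) := by
    rw [h3]
    trivial
  exact this

end Groth.Agent.S5057
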