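import Groth.Statements.S5063
import Mathlib
import Groth.Agent.Lib.helper22.UnramFibre

set_option autoImplicit false
open CategoryTheory CategoryTheory.Limits AlgebraicGeometry
universe u
open Unram

namespace Groth.Agent.S5063

section Helpers

theorem isOpenImmersion_of_comp_unramified {A B C : Scheme.{u}} (γ : A ⟶ B) (p : B ⟶ C)
    [FormallyUnramified p] [LocallyOfFiniteType p] [IsOpenImmersion (γ ≫ p)] :
    IsOpenImmersion γ := by
  haveI : MorphismProperty.HasOfPostcompProperty @IsOpenImmersion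
      (@LocallyOfFiniteType ⊓ @FormallyUnramified) := by
    rw [MorphismProperty.hasOfPostcompProperty_iff_le_diagonal]
    intro X Y f ⟨hft, hfu⟩
    exact inferInstanceAs <| IsOpenImmersion (pullback.diagonal f)
  exact MorphismProperty.of_postcomp (W := @IsOpenImmersion)
    (W' := @LocallyOfFiniteType ⊓ @FormallyUnramified) γ p ⟨‹_›, ‹_›⟩ ‹_›

theorem local_data {X Y : Scheme.{u}} (f : X ⟶ Y) [LocallyOfFinitePresentation f]
    [FormallyUnramified f] (x : X) :
    ∃ (Y' : Scheme.{u}) (g : Y' ⟶ Y) (U : (pullback f g).Opens), Etale g ∧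
      x ∈ (pullback.fst f g).base '' (U : Set ↥(pullback f g)) ∧
      IsClosedImmersion (U.ι ≫ pullback.snd f g) := by
  obtain ⟨_, ⟨U, hU, rfl⟩, hxU, -⟩ :=
    Y.isBasis_affineOpens.exists_subset_of_mem_open (Set.mem_univ (f x)) isOpen_univ
  obtain ⟨_, ⟨V, hV, rfl⟩, hxV, e : V ≤ f ⁻¹ᵁ U⟩ :=
    X.isBasis_affineOpens.exists_subset_of_mem_open hxU (f ⁻¹ᵁ U).isOpen
  have hft := f.finiteType_appLE hU hV e
  have hfu := f.formallyUnramified_appLE hU hV e
  algebraize [(f.appLE U V e).hom]
  let q : PrimeSpectrum Γ(X, V) := hV.primeIdealOf ⟨x, hxV⟩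
  have hq : hV.fromSpec q = x := hV.fromSpec_primeIdealOf ⟨x, hxV⟩
  haveI : Algebra.IsUnramifiedAt Γ(Y, U) q.asIdeal :=
    (Algebra.formallyUnramified_iff_forall.mp hfu) q
  obtain ⟨s, hsq, P, φ, hφ⟩ :=
    Algebra.IsUnramifiedAt.exists_hasStandardEtaleSurjectionOn (R := Γ(Y, U)) q.asIdeal
  let jS : Spec (.of (Localization.Away s)) ⟶ X :=
    Spec.map (CommRingCat.ofHom (algebraMap Γ(X, V) (Localization.Away s))) ≫ hV.fromSpec
  haveI : IsOpenImmersion jS := inferInstance
  let g : Spec (.of P.Ring) ⟶ Y :=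
    Spec.map (CommRingCat.ofHom (algebraMap Γ(Y, U) P.Ring)) ≫ hU.fromSpec
  have hg : Etale g := by
    haveI : Etale (Spec.map (CommRingCat.ofHom (algebraMap Γ(Y, U) P.Ring))) := by
      rw [HasRingHomProperty.Spec_iff (P := @Etale)]
      exact RingHom.etale_algebraMap.mpr inferInstance
    infer_instance
  have hcond : jS ≫ f = Spec.map (CommRingCat.ofHom φ.toRingHom) ≫ g := by
    simp only [jS, g, Category.assoc]
    rw [← hU.SpecMap_appLE_fromSpec f hV e, ← Spec.map_comp_assoc, ← Spec.map_comp_assoc]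
    congr 2
    refine CommRingCat.hom_ext (RingHom.ext fun r => ?_)
    change algebraMap Γ(X, V) (Localization.Away s) (algebraMap Γ(Y, U) Γ(X, V) r) =
      φ (algebraMap Γ(Y, U) P.Ring r)
    rw [φ.commutes, ← IsScalarTower.algebraMap_apply]
  let γ : Spec (.of (Localization.Away s)) ⟶ pullback f g :=
    pullback.lift jS (Spec.map (CommRingCat.ofHom φ.toRingHom)) hcond
  haveI : IsOpenImmersion (γ ≫ pullback.fst f g) := by
    rw [pullback.lift_fst]
    infer_instance
  haveI : IsOpenImmersion γ := isOpenImmersion_of_comp_unramified γ (pullback.fst f g)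
  refine ⟨_, g, γ.opensRange, hg, ?_, ?_⟩
  · obtain ⟨q', hq'⟩ : ∃ q' : Spec (.of (Localization.Away s)),
        Spec.map (CommRingCat.ofHom (algebraMap Γ(X, V) (Localization.Away s))) q' = q := by
      have hr := PrimeSpectrum.localization_away_comap_range (Localization.Away s) s
      have hqs : q ∈ (PrimeSpectrum.basicOpen s : Set (PrimeSpectrum Γ(X, V))) := hsq
      rw [← hr] at hqs
      obtain ⟨q', hq'⟩ := hqs
      exact ⟨q', hq'⟩
    refine ⟨γ q', ⟨q', rfl⟩, ?_⟩
    change (γ ≫ pullback.fst f g) q' = x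
    rw [pullback.lift_fst]
    simp only [jS, Scheme.Hom.comp_apply]
    rw [hq', hq]
  · have h1 : IsClosedImmersion (γ ≫ pullback.snd f g) := by
      rw [pullback.lift_snd]
      exact IsClosedImmersion.spec_of_surjective _ hφ
    rw [← MorphismProperty.cancel_left_of_respectsIso (P := @IsClosedImmersion)
      γ.isoOpensRange.hom, ← Category.assoc, Scheme.Hom.isoOpensRange_hom_ι]
    exact h1

theorem main {X Y : Scheme.{u}} (f : X ⟶ Y) [LocallyOfFinitePresentation f] :
    (FormallyUnramified f → ∃ (ι : Type u) (Y' : ι → Scheme.{u}) (g : ∀ a, Y' a ⟶ Y)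
      (U : ∀ a, (pullback f (g a)).Opens), (∀ a, Etale (g a)) ∧
      (∀ x : X, ∃ a, x ∈ (pullback.fst f (g a)).base '' (U a : Set ↥(pullback f (g a)))) ∧
      ∀ a, IsClosedImmersion ((U a).ι ≫ pullback.snd f (g a))) ∧
    ((∃ (ι : Type u) (Y' : ι → Scheme.{u}) (g : ∀ a, Y' a ⟶ Y)
      (U : ∀ a, (pullback f (g a)).Opens), (∀ a, Flat (g a)) ∧
      (∀ x : X, ∃ a, x ∈ (pullback.fst f (g a)).base '' (U a : Set ↥(pullback f (g a)))) ∧
      ∀ a, IsClosedImmersion ((U a).ι ≫ pullback.snd f (g a))) → FormallyUnramified f) := by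
  constructor
  · intro hf
    choose Y' g U hg hx hci using local_data f
    exact ⟨X, Y', g, U, hg, fun x => ⟨x, hx x⟩, hci⟩
  · rintro ⟨ι, Y', g, U, -, hx, hci⟩
    apply Groth.Agent.H22.UnramFibre.formallyUnramified_of_pullback_opens
    intro x
    obtain ⟨a, z, hzU, hzx⟩ := hx x
    haveI := hci a
    exact ⟨Y' a, g a, U a, z, hzU, hzx, inferInstance⟩

end Helpers

/-- Let f : X ⟶ Y be locally of finite presentation. If f is unramified then there are étale morphisms
g_a : Y'_a ⟶ Y and opens U_a of the fibre products X ×_Y Y'_a whose images under the first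
projections cover X, such that each U_a ⟶ Y'_a (inclusion followed by the second projection) is a
closed immersion. Conversely, the existence of such a family with the g_a only assumed flat implies
that f is unramified. -/
theorem result {X Y : Scheme.{u}} (f : X ⟶ Y) [LocallyOfFinitePresentation f] :
    (FormallyUnramified f → ∃ (ι : Type u) (Y' : ι → Scheme.{u}) (g : ∀ a, Y' a ⟶ Y) (U : ∀ a, (pullback f (g a)).Opens),
      (∀ a, Etale (g a)) ∧ (∀ x : X, ∃ a, x ∈ (pullback.fst f (g a)).base '' (U a : Set ↥(pullback f (g a)))) ∧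
        ∀ a, IsClosedImmersion ((U a).ι ≫ pullback.snd f (g a))) ∧
    ((∃ (ι : Type u) (Y' : ι → Scheme.{u}) (g : ∀ a, Y' a ⟶ Y) (U : ∀ a, (pullback f (g a)).Opens),
      (∀ a, Flat (g a)) ∧ (∀ x : X, ∃ a, x ∈ (pullback.fst f (g a)).base '' (U a : Set ↥(pullback f (g a)))) ∧
        ∀ a, IsClosedImmersion ((U a).ι ≫ pullback.snd f (g a))) → FormallyUnramified f) := by
  exact main f

end Groth.Agent.S5063
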