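import Groth.Statements.S5064
import Mathlib
import Groth.Agent.Lib.helper22.UnramFibre

set_option autoImplicit false
open CategoryTheory CategoryTheory.Limits AlgebraicGeometry
universe u
open Unram

namespace Groth.Agent.S5064

section Helpers

open CategoryTheory CategoryTheory.Limits AlgebraicGeometry TensorProduct

theorem flat_of_comp_faithfullyFlat (A B C : Type u) [CommRing A] [CommRing B] [CommRing C]
    [Algebra A B] [Algebra B C] [Algebra A C] [IsScalarTower A B C] [Module.FaithfullyFlat B C]
    [Module.Flat A C] : Module.Flat A B := by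
  rw [Module.Flat.iff_lTensor_preserves_injective_linearMap]
  intro N P _ _ _ _ f hf
  have h1 : Function.Injective (f.baseChange B) := by
    rw [← Module.FaithfullyFlat.lTensor_injective_iff_injective B C]
    have hC : Function.Injective (LinearMap.lTensor C f) :=
      Module.Flat.lTensor_preserves_injective_linearMap f hf
    have hcomm : ∀ c, (AlgebraTensorModule.cancelBaseChange A B B C P)
        ((LinearMap.lTensor C (f.baseChange B)) c) =
        LinearMap.lTensor C f ((AlgebraTensorModule.cancelBaseChange A B B C N) c) := by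
      intro c
      induction c using TensorProduct.induction_on with
      | zero => simp
      | tmul c bn =>
        induction bn using TensorProduct.induction_on with
        | zero => simp
        | tmul b n => simp
        | add x y hx hy =>
          simp only [tmul_add, map_add, hx, hy]
      | add x y hx hy => simp only [map_add, hx, hy]
    intro x y hxy
    have := congr((AlgebraTensorModule.cancelBaseChange A B B C P) $hxy)
    rw [hcomm, hcomm] at this
    exact (AlgebraTensorModule.cancelBaseChange A B B C N).injective (hC this)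
  intro x y hxy
  exact h1 hxy

/-- ring hom version -/
theorem ringHom_flat_of_comp {A B C : Type u} [CommRing A] [CommRing B] [CommRing C]
    [IsLocalRing B] [IsLocalRing C] (φ : A →+* B) (ψ : B →+* C) [IsLocalHom ψ] (hψ : ψ.Flat)
    (hc : (ψ.comp φ).Flat) : φ.Flat := by
  algebraize [φ, ψ, ψ.comp φ]
  haveI : Module.FaithfullyFlat B C := Module.FaithfullyFlat.of_flat_of_isLocalHom
  rw [RingHom.Flat]
  exact flat_of_comp_faithfullyFlat A B C

theorem forward {X Y : Scheme.{u}} (f : X ⟶ Y) [Etale f] :
    ∃ (ι : Type u) (Y' : ι → Scheme.{u}) (g : ∀ a, Y' a ⟶ Y) (U : ∀ a, (pullback f (g a)).Opens),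
      (∀ a, Etale (g a)) ∧
      (∀ x : X, ∃ a, x ∈ (pullback.fst f (g a)).base '' (U a : Set ↥(pullback f (g a)))) ∧
      ∀ a, IsOpenImmersion ((U a).ι ≫ pullback.snd f (g a)) := by
  haveI : IsOpenImmersion (pullback.diagonal f) := inferInstance
  refine ⟨PUnit, fun _ => X, fun _ => f, fun _ => (pullback.diagonal f).opensRange,
    fun _ => inferInstance, fun x => ⟨PUnit.unit, pullback.diagonal f x, ⟨x, rfl⟩, ?_⟩, fun _ => ?_⟩
  · change (pullback.fst f f) (pullback.diagonal f x) = x
    rw [← Scheme.Hom.comp_apply, pullback.diagonal_fst]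
    rfl
  · have : (pullback.diagonal f).opensRange.ι ≫ pullback.snd f f =
        (pullback.diagonal f).isoOpensRange.inv := by
      rw [← cancel_epi (pullback.diagonal f).isoOpensRange.hom, Iso.hom_inv_id,
        Scheme.Hom.isoOpensRange_hom_ι_assoc, pullback.diagonal_snd]
    rw [this]
    infer_instance

open Groth.Agent.H22.UnramFibre in
theorem backward {X Y : Scheme.{u}} (f : X ⟶ Y) [LocallyOfFinitePresentation f]
    (H : ∃ (ι : Type u) (Y' : ι → Scheme.{u}) (g : ∀ a, Y' a ⟶ Y)
      (U : ∀ a, (pullback f (g a)).Opens),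
      (∀ a, Flat (g a)) ∧
      (∀ x : X, ∃ a, x ∈ (pullback.fst f (g a)).base '' (U a : Set ↥(pullback f (g a)))) ∧
      ∀ a, IsOpenImmersion ((U a).ι ≫ pullback.snd f (g a))) : Etale f := by
  obtain ⟨ι, Y', g, U, hflat, hcov, hopen⟩ := H
  haveI : FormallyUnramified f := by
    apply formallyUnramified_of_pullback_opens
    intro x
    obtain ⟨a, z, hz, hzx⟩ := hcov x
    haveI := hopen a
    exact ⟨Y' a, g a, U a, z, hz, hzx, inferInstance⟩
  haveI : Flat f := by
    apply Flat.of_stalkMap
    intro x
    obtain ⟨a, z, hz, rfl⟩ := hcov x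
    haveI := hflat a
    haveI := hopen a
    -- the maps
    let π : (U a).toScheme ⟶ X := (U a).ι ≫ pullback.fst f (g a)
    let ρ : (U a).toScheme ⟶ Y' a := (U a).ι ≫ pullback.snd f (g a)
    have hcomm : π ≫ f = ρ ≫ g a := by
      simp only [π, ρ, Category.assoc, pullback.condition]
    haveI : Flat (π ≫ f) := by rw [hcomm]; infer_instance
    let w : (U a).toScheme := ⟨z, hz⟩
    have hw : π w = pullback.fst f (g a) z := rfl
    have h1 : ((π ≫ f).stalkMap w).hom.Flat := Flat.stalkMap (π ≫ f) w
    rw [Scheme.Hom.stalkMap_comp] at h1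
    have h2 : (π.stalkMap w).hom.Flat := Flat.stalkMap π w
    exact ringHom_flat_of_comp (f.stalkMap (π w)).hom (π.stalkMap w).hom h2 h1
  exact Etale.of_formallyUnramified_of_flat f

theorem main {X Y : Scheme.{u}} (f : X ⟶ Y) [LocallyOfFinitePresentation f] :
    (Etale f → ∃ (ι : Type u) (Y' : ι → Scheme.{u}) (g : ∀ a, Y' a ⟶ Y)
      (U : ∀ a, (pullback f (g a)).Opens), (∀ a, Etale (g a)) ∧
      (∀ x : X, ∃ a, x ∈ (pullback.fst f (g a)).base '' (U a : Set ↥(pullback f (g a)))) ∧
      ∀ a, IsOpenImmersion ((U a).ι ≫ pullback.snd f (g a))) ∧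
    ((∃ (ι : Type u) (Y' : ι → Scheme.{u}) (g : ∀ a, Y' a ⟶ Y)
      (U : ∀ a, (pullback f (g a)).Opens), (∀ a, Flat (g a)) ∧
      (∀ x : X, ∃ a, x ∈ (pullback.fst f (g a)).base '' (U a : Set ↥(pullback f (g a)))) ∧
      ∀ a, IsOpenImmersion ((U a).ι ≫ pullback.snd f (g a))) → Etale f) :=
  ⟨fun _ => forward f, backward f⟩

end Helpers

/-- Let f : X ⟶ Y be locally of finite presentation. If f is étale then there are étale morphisms g_a :
Y'_a ⟶ Y and opens U_a of the fibre products X ×_Y Y'_a whose images under the first projections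
cover X, such that each U_a ⟶ Y'_a (inclusion followed by the second projection) is an open
immersion. Conversely, the existence of such a family with the g_a only assumed flat implies that f
is étale. -/
theorem result {X Y : Scheme.{u}} (f : X ⟶ Y) [LocallyOfFinitePresentation f] :
    (Etale f → ∃ (ι : Type u) (Y' : ι → Scheme.{u}) (g : ∀ a, Y' a ⟶ Y) (U : ∀ a, (pullback f (g a)).Opens),
      (∀ a, Etale (g a)) ∧ (∀ x : X, ∃ a, x ∈ (pullback.fst f (g a)).base '' (U a : Set ↥(pullback f (g a)))) ∧
        ∀ a, IsOpenImmersion ((U a).ι ≫ pullback.snd f (g a))) ∧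
    ((∃ (ι : Type u) (Y' : ι → Scheme.{u}) (g : ∀ a, Y' a ⟶ Y) (U : ∀ a, (pullback f (g a)).Opens),
      (∀ a, Flat (g a)) ∧ (∀ x : X, ∃ a, x ∈ (pullback.fst f (g a)).base '' (U a : Set ↥(pullback f (g a)))) ∧
        ∀ a, IsOpenImmersion ((U a).ι ≫ pullback.snd f (g a))) → Etale f) := by
  exact main f

end Groth.Agent.S5064
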