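import Groth.Statements.S5066
import Groth.Agent.Lib.lead.HenselLift
import Groth.Agent.S0502

set_option autoImplicit false
universe u
open Hensel

namespace Groth.Agent.S5066

open Groth.Agent.Lib.lead.HenselLocal IsLocalRing in
/-- Case of a local ring, affine étale schemes: a local ring A with maximal ideal m is henselian if and
only if, for every finite A-algebra C and every étale A-algebra E, composing with the projection C →
C/mC is a bijection from the set of A-algebra homomorphisms E → C onto the set of A-algebra
homomorphisms E → C/mC. -/
theorem result (A : Type u) [CommRing A] [IsLocalRing A] :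
    HenselianLocalRing A ↔
      ∀ (C : Type u) [CommRing C] [Algebra A C] [Module.Finite A C] (E : Type u) [CommRing E] [Algebra A E] [Algebra.Etale A E],
        Function.Bijective (fun φ : E →ₐ[A] C =>
          (Ideal.Quotient.mkₐ A (Ideal.map (algebraMap A C) (IsLocalRing.maximalIdeal A))).comp φ) := by
  constructor
  · intro h C _ _ _ E _ _ _
    rw [Function.bijective_iff_existsUnique]
    intro g
    exact etale_lift_finite_of_surjective (Ideal.Quotient.mkₐ A _)
      (Ideal.Quotient.mkₐ_surjective A _)
      (by
        have : RingHom.ker (Ideal.Quotient.mkₐ A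
            (Ideal.map (algebraMap A C) (IsLocalRing.maximalIdeal A))) =
            Ideal.map (algebraMap A C) (IsLocalRing.maximalIdeal A) := Ideal.Quotient.mkₐ_ker A _
        rw [this]
        exact map_maximalIdeal_le_jacobson_of_isIntegral) g
  · intro h
    apply Groth.Agent.S0502.result
    intro S _ _ _ q _ hq hsurj
    have hbij := h A S
    set K : Ideal A := Ideal.map (algebraMap A A) (IsLocalRing.maximalIdeal A) with hKdef
    have hK : K = maximalIdeal A := by
      rw [hKdef, Algebra.algebraMap_self, Ideal.map_id]
    have hkill : ∀ a ∈ K, (Algebra.ofId A q.ResidueField) a = 0 := by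
      intro a ha
      rw [hK] at ha
      change algebraMap A q.ResidueField a = 0
      rw [IsScalarTower.algebraMap_apply A S q.ResidueField, Ideal.algebraMap_residueField_eq_zero]
      exact (Ideal.mem_of_liesOver q (maximalIdeal A) a).mp ha
    let ψ : A ⧸ K →ₐ[A] q.ResidueField := Ideal.Quotient.liftₐ K (Algebra.ofId A q.ResidueField) hkill
    have hψ : Function.Bijective ψ := by
      constructor
      · rw [injective_iff_map_eq_zero]
        intro y hy
        obtain ⟨x, rfl⟩ := Ideal.Quotient.mk_surjective y
        have h1 : algebraMap A q.ResidueField x = 0 := hy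
        rw [IsScalarTower.algebraMap_apply A S q.ResidueField,
          Ideal.algebraMap_residueField_eq_zero] at h1
        have h2 : x ∈ maximalIdeal A := (Ideal.mem_of_liesOver q (maximalIdeal A) x).mpr h1
        rw [Ideal.Quotient.eq_zero_iff_mem, hK]
        exact h2
      · intro z
        obtain ⟨r, rfl⟩ := hsurj z
        exact ⟨Ideal.Quotient.mk K r, rfl⟩
    let g : S →ₐ[A] A ⧸ K :=
      (AlgEquiv.ofBijective ψ hψ).symm.toAlgHom.comp (IsScalarTower.toAlgHom A S q.ResidueField)
    obtain ⟨f, -⟩ := hbij.surjective g
    exact ⟨f⟩

end Groth.Agent.S5066
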