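import Groth.Statements.S5067
import Mathlib
import Groth.Agent.Lib.helper4.Rat10

set_option autoImplicit false
open CategoryTheory AlgebraicGeometry
universe u
open Unram

namespace Groth.Agent.S5067

section Helpers
open IsLocalRing

theorem residue_bijective_of_isField {X : Scheme.{u}} (x : X)
    (h : IsField (X.presheaf.stalk x)) : Function.Bijective (X.residue x).hom := by
  refine ⟨?_, IsLocalRing.residue_surjective⟩
  have hm : maximalIdeal (X.presheaf.stalk x) = ⊥ :=
    IsLocalRing.isField_iff_maximalIdeal_eq.1 h
  rw [injective_iff_map_eq_zero]
  intro a ha
  have : a ∈ maximalIdeal (X.presheaf.stalk x) := (IsLocalRing.residue_eq_zero_iff a).1 ha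
  rw [hm] at this
  exact this

theorem isIso_stalkMap_generic {X Y : Scheme.{u}} [IsIntegral X] [IsIntegral Y] (f : X ⟶ Y)
    (hgen : f (genericPoint X) = genericPoint Y)
    (hbir : Function.Bijective (f.residueFieldMap (genericPoint X)).hom) :
    IsIso (f.stalkMap (genericPoint X)) := by
  have hX : IsField (X.presheaf.stalk (genericPoint X)) := Field.toIsField X.functionField
  have hY : IsField (Y.presheaf.stalk (f (genericPoint X))) := by
    rw [hgen]
    exact Field.toIsField Y.functionField
  have h1 := residue_bijective_of_isField (genericPoint X) hX
  have h2 := residue_bijective_of_isField (f (genericPoint X)) hY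
  have h3 := Scheme.residue_residueFieldMap f (genericPoint X)
  have h4 : Function.Bijective
      ((X.residue (genericPoint X)).hom ∘ (f.stalkMap (genericPoint X)).hom) := by
    have : (X.residue (genericPoint X)).hom ∘ (f.stalkMap (genericPoint X)).hom =
        (f.residueFieldMap (genericPoint X)).hom ∘ (Y.residue (f (genericPoint X))).hom := by
      ext a
      exact (congrArg (fun g => g.hom a) h3).symm
    rw [this]
    exact hbir.comp h2
  rw [ConcreteCategory.isIso_iff_bijective]
  exact ⟨Function.Injective.of_comp h4.1, by
    intro b
    obtain ⟨a, ha⟩ := h4.2 ((X.residue (genericPoint X)).hom b)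
    exact ⟨a, h1.1 ha⟩⟩

theorem main {X Y : Scheme.{u}} [IsIntegral X] [IsIntegral Y]
    (f : X ⟶ Y) [Etale f] [IsSeparated f] (hgen : f.base (genericPoint X) = genericPoint Y)
    (hbir : Function.Bijective (f.residueFieldMap (genericPoint X)).hom) : IsOpenImmersion f :=
  (Groth.Agent.H4Rat.isLocalIso_of_flat_birational f hgen
    (isIso_stalkMap_generic f hgen hbir)).2 inferInstance

end Helpers


/-- Let f : X ⟶ Y be an étale separated morphism of integral schemes which maps the generic point of X
to the generic point of Y and induces a bijection between the residue fields of the generic points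
(f is birational). Then f is an open immersion. -/
theorem result {X Y : Scheme.{u}} [IsIntegral X] [IsIntegral Y]
    (f : X ⟶ Y) [Etale f] [IsSeparated f] (hgen : f.base (genericPoint X) = genericPoint Y)
    (hbir : Function.Bijective (f.residueFieldMap (genericPoint X)).hom) : IsOpenImmersion f := by
  exact main f hgen hbir

end Groth.Agent.S5067
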