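import Groth.Statements.S5071
import Mathlib
import Groth.Agent.S5802
import Groth.Agent.Lib.helper24.HilbSam
import Groth.Agent.Lib.helper21.FlatCrit

set_option autoImplicit false
universe u
open CInt

namespace Groth.Agent.S5071

section Aux
open TensorProduct

theorem flat_of_exact_left {R : Type u} [CommRing R] {M' M M'' : Type u} [AddCommGroup M']
    [AddCommGroup M] [AddCommGroup M''] [Module R M'] [Module R M] [Module R M'']
    [Module.Flat R M] [Module.Flat R M'']
    (g : M' →ₗ[R] M) (f : M →ₗ[R] M'') (hg : Function.Injective g) (hf : Function.Surjective f)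
    (H : Function.Exact g f) : Module.Flat R M' := by
  rw [Module.Flat.iff_lTensor_preserves_injective_linearMap]
  intro N' N _ _ _ _ v hv
  have h4 : Function.Injective (g.rTensor N') :=
    (LinearMap.lTensor_inj_iff_rTensor_inj _ _).mp
      (LinearMap.lTensor_injective_of_exact_of_flat f hf g hg H N')
  have h5 : Function.Injective (v.lTensor M) :=
    Module.Flat.lTensor_preserves_injective_linearMap v hv
  have hcomm : (g.rTensor N) ∘ₗ (v.lTensor M') = (v.lTensor M) ∘ₗ (g.rTensor N') := by
    rw [LinearMap.rTensor_comp_lTensor, LinearMap.lTensor_comp_rTensor]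
  intro a b hab
  apply h4
  apply h5
  have := congrArg (g.rTensor N) hab
  rw [← LinearMap.comp_apply, ← LinearMap.comp_apply, hcomm] at this
  exact this

theorem flat_localized {A B : Type u} [CommRing A] [CommRing B] [Algebra A B] (S : Submonoid B)
    (M : Type u) [AddCommGroup M] [Module B M] [Module A M] [IsScalarTower A B M] [Module.Flat A M]
    (M' : Type u) [AddCommGroup M'] [Module B M'] [Module A M'] [IsScalarTower A B M']
    (g : M →ₗ[B] M') [IsLocalizedModule S g] : Module.Flat A M' := by
  rw [Module.Flat.iff_lTensor_preserves_injective_linearMap]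
  intro N P _ _ _ _ f hf
  have h1 : Function.Injective (AlgebraTensorModule.lTensor B M f) :=
    Module.Flat.lTensor_preserves_injective_linearMap (M := M) f hf
  have h2 := IsLocalizedModule.map_injective S (AlgebraTensorModule.rTensor A N g)
    (AlgebraTensorModule.rTensor A P g) (AlgebraTensorModule.lTensor B M f) h1
  rw [IsLocalizedModule.map_lTensor] at h2
  exact h2

theorem flat_restrictScalars {A B : Type u} [CommRing A] [CommRing B] [Algebra A B] (M : Type u)
    [AddCommGroup M] [Module B M] [Module A M] [IsScalarTower A B M] [Module.Flat A M] :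
    Module.Flat A (RestrictScalars A B M) := by
  let e : RestrictScalars A B M ≃ₗ[A] M :=
    { RestrictScalars.addEquiv A B M with
      map_smul' := fun r x => by
        show RestrictScalars.addEquiv A B M (r • x) = r • RestrictScalars.addEquiv A B M x
        rw [RestrictScalars.addEquiv_map_smul, algebraMap_smul] }
  exact Module.Flat.of_linearEquiv e

end Aux

/-- Let B be an A-algebra and J an ideal of B generated by a sequence which is transversally regular
relative to A. Then for n < m the module J^n/J^m is flat over A, and for every prime q of B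
containing J the localisation (J^n)_q is flat over A (modules regarded as A-modules by restriction
of scalars). -/
theorem result (A B : Type u) [CommRing A] [CommRing B] [Algebra A B]
    (rs : List B) (hrs : RegImm.IsTransRegularSeq A B rs) (n m : ℕ) (hnm : n < m) :
    Module.Flat A (RestrictScalars A B
      (↥(Ideal.ofList rs ^ n) ⧸ (Submodule.comap (Ideal.ofList rs ^ n).subtype (Ideal.ofList rs ^ m)))) ∧
      ∀ (q : Ideal B) [q.IsPrime], Ideal.ofList rs ≤ q →
        Module.Flat A (RestrictScalars A B (LocalizedModule q.primeCompl ↥(Ideal.ofList rs ^ n))) := by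
  obtain ⟨hreg, hflat⟩ := hrs
  have hofn : List.ofFn rs.get = rs := List.ofFn_get rs
  have hJ : Ideal.ofList rs = Ideal.span (Set.range rs.get) := by
    rw [Ideal.ofList, Set.range_list_get]
  have hqr : CAlgX.IsQuasiRegular rs.get :=
    Groth.Agent.S5802.result B rs.length rs.get (by rw [hofn]; exact hreg)
  have hBJ : Module.Flat A (B ⧸ Ideal.span (Set.range rs.get)) := by
    have := hflat rs.length le_rfl
    rw [List.take_length, hJ] at this
    exact this
  have hB : Module.Flat A B := by
    have := hflat 0 (Nat.zero_le _)
    rw [List.take_zero, Ideal.ofList_nil] at this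
    exact Module.Flat.of_linearEquiv
      ((Submodule.quotEquivOfEqBot (⊥ : Ideal B) rfl).restrictScalars A).symm
  have hquot : ∀ i : ℕ, Module.Flat A (B ⧸ Ideal.span (Set.range rs.get) ^ i) := by
    intro i
    induction i with
    | zero =>
      have : Subsingleton (B ⧸ Ideal.span (Set.range rs.get) ^ 0) := by
        rw [pow_zero, Ideal.one_eq_top]; exact Ideal.Quotient.subsingleton_iff.mpr rfl
      infer_instance
    | succ i ih =>
      haveI : Module.Flat A (↥(Groth.Agent.Lib.helper24.HilbSam.S rs.length i) →₀
          B ⧸ Ideal.span (Set.range rs.get)) := by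
        classical
        exact Module.Flat.of_linearEquiv (finsuppLEquivDirectSum A _ _)
      exact Groth.Agent.H21.flat_of_exact_mid
        ((Groth.Agent.Lib.helper24.HilbSam.φ rs.get i).restrictScalars A)
        ((Groth.Agent.Lib.helper24.HilbSam.g rs.get i).restrictScalars A)
        (Groth.Agent.Lib.helper24.HilbSam.φ_injective_of_qr rs.get hqr i)
        (Groth.Agent.Lib.helper24.HilbSam.g_surjective rs.get i)
        (Groth.Agent.Lib.helper24.HilbSam.exact rs.get i)
  have hquot' : ∀ i : ℕ, Module.Flat A (B ⧸ Ideal.ofList rs ^ i) := by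
    rw [hJ]; exact hquot
  generalize Ideal.ofList rs = J at hquot' ⊢
  refine ⟨?_, ?_⟩
  · haveI := hquot' m
    haveI := hquot' n
    have hle : J ^ m ≤ J ^ n := Ideal.pow_le_pow_right hnm.le
    let ι : (↥(J ^ n) ⧸ (Submodule.comap (J ^ n).subtype (J ^ m))) →ₗ[B] (B ⧸ J ^ m) :=
      Submodule.mapQ _ (J ^ m) (J ^ n).subtype le_rfl
    let p : (B ⧸ J ^ m) →ₗ[B] (B ⧸ J ^ n) := Submodule.factor hle
    have hι : Function.Injective ι := by
      rw [injective_iff_map_eq_zero]
      intro a ha
      obtain ⟨a, rfl⟩ := Submodule.Quotient.mk_surjective _ a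
      rw [Submodule.mapQ_apply, Submodule.Quotient.mk_eq_zero] at ha
      rw [Submodule.Quotient.mk_eq_zero]
      exact ha
    have hp : Function.Surjective p := by
      intro y
      obtain ⟨b, rfl⟩ := Submodule.Quotient.mk_surjective _ y
      exact ⟨Submodule.Quotient.mk b, rfl⟩
    have hex : Function.Exact ι p := by
      intro y
      obtain ⟨b, rfl⟩ := Submodule.Quotient.mk_surjective _ y
      constructor
      · intro hy
        have hb : b ∈ J ^ n := by rw [← Submodule.Quotient.mk_eq_zero]; exact hy
        exact ⟨Submodule.Quotient.mk ⟨b, hb⟩, rfl⟩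
      · rintro ⟨a, ha⟩
        obtain ⟨a, rfl⟩ := Submodule.Quotient.mk_surjective _ a
        rw [← ha]
        show (Submodule.Quotient.mk (a : B) : B ⧸ J ^ n) = 0
        rw [Submodule.Quotient.mk_eq_zero]; exact a.2
    haveI : Module.Flat A (↥(J ^ n) ⧸ (Submodule.comap (J ^ n).subtype (J ^ m))) :=
      flat_of_exact_left (ι.restrictScalars A) (p.restrictScalars A) hι hp hex
    exact flat_restrictScalars _
  · intro q hq hJq
    haveI := hquot' n
    haveI : Module.Flat A ↥(J ^ n) :=
      flat_of_exact_left ((J ^ n).subtype.restrictScalars A)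
        ((Submodule.mkQ (J ^ n)).restrictScalars A) (Submodule.subtype_injective _)
        (Submodule.mkQ_surjective _) (LinearMap.exact_subtype_mkQ _)
    haveI : Module.Flat A (LocalizedModule q.primeCompl ↥(J ^ n)) :=
      flat_localized q.primeCompl ↥(J ^ n) (LocalizedModule q.primeCompl ↥(J ^ n))
        (LocalizedModule.mkLinearMap q.primeCompl ↥(J ^ n))
    exact flat_restrictScalars _

end Groth.Agent.S5071
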