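import Groth.Statements.S5073
import Mathlib
import Groth.Agent.Lib.helper26.RegSeqD

set_option autoImplicit false
universe u
open EGA418

namespace Groth.Agent.S5073

/-- Let A be a Noetherian local ring, p a prime ideal and x an element of A. Then there is an element x'
of A whose image in A_p equals that of x and which belongs to no minimal prime ideal of A not
contained in p. -/
theorem result (A : Type u) [CommRing A] [IsNoetherianRing A] [IsLocalRing A]
    (p : Ideal A) [p.IsPrime] (x : A) :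
    ∃ x' : A, algebraMap A (Localization.AtPrime p) x' = algebraMap A (Localization.AtPrime p) x ∧
      ∀ q ∈ minimalPrimes A, ¬ q ≤ p → x' ∉ q := by
  classical
  have hfin : (minimalPrimes A).Finite := minimalPrimes.finite_of_isNoetherianRing A
  have hch : ∀ q : Ideal A, ¬ q ≤ p → ∃ y ∈ q, y ∉ p := fun q h => SetLike.not_le_iff_exists.1 h
  choose! g hg1 hg2 using hch
  have hInot : ∀ P ∈ hfin.toFinset.filter (fun q => ¬ q ≤ p),
      ¬ RingHom.ker (algebraMap A (Localization.AtPrime p)) ≤ P := by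
    intro P hP hIP
    obtain ⟨hPm, hPp⟩ := Finset.mem_filter.1 hP
    have hPmin : P ∈ minimalPrimes A := hfin.mem_toFinset.1 hPm
    haveI hPprime : P.IsPrime := hPmin.1.1
    have hs_notin : (∏ q ∈ hfin.toFinset.filter (fun q => ¬ q ≤ p), g q) ∉ p := by
      rw [Ideal.IsPrime.prod_mem_iff]
      rintro ⟨q, hq, hgq⟩
      exact hg2 q (Finset.mem_filter.1 hq).2 hgq
    have hs_in : ∀ q ∈ hfin.toFinset.filter (fun q => ¬ q ≤ p),
        (∏ q ∈ hfin.toFinset.filter (fun q => ¬ q ≤ p), g q) ∈ q := by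
      intro q hq
      obtain ⟨c, hc⟩ := Finset.dvd_prod_of_mem g hq
      rw [hc]
      exact q.mul_mem_right _ (hg1 q (Finset.mem_filter.1 hq).2)
    have hle : (hfin.toFinset.filter (fun q => q ≤ p)).inf id ≤ P := by
      intro a ha
      have ha' : ∀ q ∈ hfin.toFinset.filter (fun q => q ≤ p), a ∈ q := by
        intro q hq
        exact (Finset.inf_le hq : (hfin.toFinset.filter (fun q => q ≤ p)).inf id ≤ id q) ha
      have hnil : (∏ q ∈ hfin.toFinset.filter (fun q => ¬ q ≤ p), g q) * a ∈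
          (⊥ : Ideal A).radical := by
        rw [← Ideal.sInf_minimalPrimes, Ideal.mem_sInf]
        intro Q hQ
        by_cases hQp : Q ≤ p
        · exact Q.mul_mem_left _ (ha' Q (Finset.mem_filter.2 ⟨hfin.mem_toFinset.2 hQ, hQp⟩))
        · exact Q.mul_mem_right _ (hs_in Q (Finset.mem_filter.2 ⟨hfin.mem_toFinset.2 hQ, hQp⟩))
      obtain ⟨n, hn⟩ := hnil
      rw [Ideal.mem_bot, mul_pow] at hn
      have hker : a ^ n ∈ RingHom.ker (algebraMap A (Localization.AtPrime p)) := by
        rw [RingHom.mem_ker, IsLocalization.map_eq_zero_iff p.primeCompl]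
        refine ⟨⟨(∏ q ∈ hfin.toFinset.filter (fun q => ¬ q ≤ p), g q) ^ n, ?_⟩, hn⟩
        intro hmem
        exact hs_notin (Ideal.IsPrime.mem_of_pow_mem inferInstance n hmem)
      exact Ideal.IsPrime.mem_of_pow_mem hPprime n (hIP hker)
    rw [Ideal.IsPrime.inf_le' hPprime] at hle
    obtain ⟨q', hq', hq'P⟩ := hle
    obtain ⟨hq'm, hq'p⟩ := Finset.mem_filter.1 hq'
    have hq'min : q' ∈ minimalPrimes A := hfin.mem_toFinset.1 hq'm
    have hPq' : P ≤ q' := hPmin.2 ⟨hq'min.1.1, bot_le⟩ hq'P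
    exact hPp (hPq'.trans hq'p)
  obtain ⟨c, hc, hcP⟩ := Groth.Agent.Lib.helper26.RegSeqD.exists_add_notMem x
    (RingHom.ker (algebraMap A (Localization.AtPrime p)))
    (hfin.toFinset.filter (fun q => ¬ q ≤ p))
    (fun P hP => (hfin.mem_toFinset.1 (Finset.mem_filter.1 hP).1).1.1)
    (fun P hP h => hInot P hP h.2)
  refine ⟨x + c, ?_, ?_⟩
  · rw [map_add, (RingHom.mem_ker).1 hc, add_zero]
  · intro q hq hqp
    exact hcP q (Finset.mem_filter.2 ⟨hfin.mem_toFinset.2 hq, hqp⟩)

end Groth.Agent.S5073
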