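import Groth.Statements.S5075
import Mathlib
import Groth.Agent.S0117

set_option autoImplicit false
open CategoryTheory AlgebraicGeometry
universe u
open Unram

namespace Groth.Agent.S5075

section Helpers

open CategoryTheory CategoryTheory.Limits AlgebraicGeometry

theorem main {X S S' S'₀ : Scheme.{u}} (p : X ⟶ S) [Etale p] (g : S' ⟶ S) (i : S'₀ ⟶ S')
    [IsClosedImmersion i] [Surjective i] (f₀ : S'₀ ⟶ X) (h₀ : f₀ ≫ p = i ≫ g) :
    ∃! f : S' ⟶ X, f ≫ p = g ∧ i ≫ f = f₀ := by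
  -- base change `p' : X ×_S S' ⟶ S'`
  let p' : pullback p g ⟶ S' := pullback.snd p g
  let σ₀ : S'₀ ⟶ pullback p g := pullback.lift f₀ i h₀
  have hσ₀ : σ₀ ≫ p' = i := pullback.lift_snd _ _ _
  obtain ⟨σ, hσ, hiσ⟩ := Groth.Agent.S0117.exists_section_extension p' i σ₀ hσ₀
  refine ⟨σ ≫ pullback.fst p g, ⟨?_, ?_⟩, ?_⟩
  · rw [Category.assoc, pullback.condition, ← Category.assoc]
    change (σ ≫ p') ≫ g = g
    rw [hσ, Category.id_comp]
  · rw [← Category.assoc, hiσ]
    exact pullback.lift_fst _ _ _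
  · rintro f' ⟨hf'p, hif'⟩
    refine Groth.Agent.S0117.eq_of_surjective_comp p i f' (σ ≫ pullback.fst p g) ?_ ?_
    · rw [hf'p, Category.assoc, pullback.condition, ← Category.assoc]
      change g = (σ ≫ p') ≫ g
      rw [hσ, Category.id_comp]
    · rw [hif', ← Category.assoc, hiσ]
      exact (pullback.lift_fst _ _ _).symm

end Helpers

/-- Let p : X ⟶ S be étale, g : S' ⟶ S a morphism and i : S'₀ ⟶ S' a surjective closed immersion (a
closed subscheme with the same underlying space). Then for every f₀ : S'₀ ⟶ X over S there is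
exactly one f : S' ⟶ X over S with i ≫ f = f₀. -/
theorem result {X S S' S'₀ : Scheme.{u}} (p : X ⟶ S) [Etale p]
    (g : S' ⟶ S) (i : S'₀ ⟶ S') [IsClosedImmersion i] [Surjective i]
    (f₀ : S'₀ ⟶ X) (h₀ : f₀ ≫ p = i ≫ g) :
    ∃! f : S' ⟶ X, f ≫ p = g ∧ i ≫ f = f₀ := by
  exact main p g i f₀ h₀

end Groth.Agent.S5075
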