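import Groth.Statements.S5076
import Mathlib
-- import your own Groth.Agent.* helpers here

set_option autoImplicit false
universe u
open Unram

namespace Groth.Agent.S5076

/-- Let A be a local ring with maximal ideal m, C a finite A-algebra, r a maximal ideal of C, and u an
element of C which lies in every maximal ideal of C other than r, does not lie in r, and whose image
generates C_r modulo m C_r as an A-algebra. Let B = A[u] be the A-subalgebra of C generated by u and
n the inverse image of r in B. Then the canonical homomorphism B_n → C_r is bijective. -/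
theorem result (A C : Type u) [CommRing A] [IsLocalRing A]
    [CommRing C] [Algebra A C] [Module.Finite A C] (r : Ideal C) [r.IsMaximal] (u : C)
    (hu₁ : ∀ r' : Ideal C, r'.IsMaximal → r' ≠ r → u ∈ r') (hu₂ : u ∉ r)
    (hu₃ : Subalgebra.toSubmodule (Algebra.adjoin A {algebraMap C (Localization.AtPrime r) u}) ⊔
        Submodule.restrictScalars A (Ideal.map (algebraMap A (Localization.AtPrime r)) (IsLocalRing.maximalIdeal A)) = ⊤) :
    Function.Bijective (Localization.localRingHom (Ideal.comap (Algebra.adjoin A ({u} : Set C)).val.toRingHom r) r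
      (Algebra.adjoin A ({u} : Set C)).val.toRingHom rfl) := by
  classical
  haveI : Algebra.IsIntegral A C := Algebra.IsIntegral.of_finite A C
  haveI : Algebra.IsIntegral (Algebra.adjoin A ({u} : Set C)) C := Algebra.IsIntegral.tower_top (R := A)
  haveI : Module.Finite (Algebra.adjoin A ({u} : Set C)) C := Module.Finite.of_restrictScalars_finite A _ C
  have hval : (Algebra.adjoin A ({u} : Set C)).val.toRingHom = algebraMap (Algebra.adjoin A ({u} : Set C)) C := rfl
  haveI hnprime : (Ideal.comap (Algebra.adjoin A ({u} : Set C)).val.toRingHom r).IsPrime :=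
    Ideal.comap_isPrime _ _
  have hnmax : (Ideal.comap (Algebra.adjoin A ({u} : Set C)).val.toRingHom r).IsMaximal := by
    rw [hval]
    exact Ideal.isMaximal_comap_of_isIntegral_of_isMaximal r
  have hq : (Ideal.comap (Algebra.adjoin A ({u} : Set C)).val.toRingHom r).primesOver C = {r} := by
    ext Q'
    constructor
    · rintro ⟨hQ'p, hQ'o⟩
      by_contra hne
      have hQ'max : Q'.IsMaximal := by
        apply Ideal.isMaximal_of_isIntegral_of_isMaximal_comap (R := Algebra.adjoin A ({u} : Set C)) Q'
        have := hQ'o.over
        rw [Ideal.under] at this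
        rw [← this]
        exact hnmax
      have huQ' : u ∈ Q' := hu₁ Q' hQ'max hne
      have : (⟨u, Algebra.self_mem_adjoin_singleton A u⟩ : Algebra.adjoin A ({u} : Set C)) ∈
          Ideal.comap (Algebra.adjoin A ({u} : Set C)).val.toRingHom r := by
        rw [hQ'o.over]
        exact huQ'
      exact hu₂ this
    · rintro rfl
      exact ⟨inferInstance, ⟨rfl⟩⟩
  refine ⟨Localization.localRingHom_injective_of_primesOver_eq_singleton hq, ?_⟩
  haveI hlo : r.LiesOver (Ideal.comap (Algebra.adjoin A ({u} : Set C)).val.toRingHom r) := ⟨rfl⟩
  letI := Localization.AtPrime.algebraOfLiesOver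
    (Ideal.comap (Algebra.adjoin A ({u} : Set C)).val.toRingHom r) r
  haveI := Localization.finite_of_primesOver_eq_singleton hq
  have halg : algebraMap (Localization.AtPrime (Ideal.comap (Algebra.adjoin A ({u} : Set C)).val.toRingHom r))
      (Localization.AtPrime r) = Localization.localRingHom
        (Ideal.comap (Algebra.adjoin A ({u} : Set C)).val.toRingHom r) r
        (Algebra.adjoin A ({u} : Set C)).val.toRingHom rfl :=
    Localization.AtPrime.IsLiesOverAlgebra.algebraMap_eq
  rw [← halg]
  change Function.Surjective (Algebra.linearMap _ _)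
  rw [← LinearMap.range_eq_top, ← top_le_iff]
  apply Submodule.le_of_le_smul_of_le_jacobson_bot Module.Finite.fg_top
    (IsLocalRing.maximalIdeal_le_jacobson _)
  rw [Ideal.smul_top_eq_map]
  rintro x -
  have hx : x ∈ (Subalgebra.toSubmodule (Algebra.adjoin A {algebraMap C (Localization.AtPrime r) u}) ⊔
        Submodule.restrictScalars A (Ideal.map (algebraMap A (Localization.AtPrime r)) (IsLocalRing.maximalIdeal A))) := by
    rw [hu₃]; trivial
  obtain ⟨y, hy, z, hz, rfl⟩ := Submodule.mem_sup.mp hx
  have key : ∀ b : Algebra.adjoin A ({u} : Set C),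
      algebraMap C (Localization.AtPrime r) (b : C) =
        algebraMap (Localization.AtPrime (Ideal.comap (Algebra.adjoin A ({u} : Set C)).val.toRingHom r))
          (Localization.AtPrime r) (algebraMap _ _ b) := by
    intro b
    rw [halg, Localization.localRingHom_to_map]
    rfl
  refine Submodule.add_mem_sup ?_ ?_
  · -- y in range
    let ψ : Algebra.adjoin A ({u} : Set C) →ₐ[A] Localization.AtPrime r :=
      (IsScalarTower.toAlgHom A C (Localization.AtPrime r)).comp (Algebra.adjoin A ({u} : Set C)).val
    have hle : Algebra.adjoin A {algebraMap C (Localization.AtPrime r) u} ≤ ψ.range := by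
      apply Algebra.adjoin_le
      rintro _ rfl
      exact ⟨⟨u, Algebra.self_mem_adjoin_singleton A u⟩, rfl⟩
    obtain ⟨b, hb⟩ := hle hy
    refine ⟨algebraMap _ _ b, ?_⟩
    rw [Algebra.linearMap_apply, ← key b]
    exact hb
  · -- z in I • ⊤
    have hle : Ideal.map (algebraMap A (Localization.AtPrime r)) (IsLocalRing.maximalIdeal A) ≤
        Ideal.map (algebraMap (Localization.AtPrime (Ideal.comap (Algebra.adjoin A ({u} : Set C)).val.toRingHom r))
          (Localization.AtPrime r)) (IsLocalRing.maximalIdeal _) := by
      rw [Ideal.map_le_iff_le_comap]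
      intro a ha
      rw [Ideal.mem_comap]
      have h1 : algebraMap A (Localization.AtPrime r) a =
          algebraMap C (Localization.AtPrime r)
            ((algebraMap A (Algebra.adjoin A ({u} : Set C)) a : Algebra.adjoin A ({u} : Set C)) : C) := by
        rw [IsScalarTower.algebraMap_apply A C (Localization.AtPrime r)]
        rfl
      rw [h1, key]
      apply Ideal.mem_map_of_mem
      rw [IsLocalization.AtPrime.to_map_mem_maximal_iff _
        (Ideal.comap (Algebra.adjoin A ({u} : Set C)).val.toRingHom r)]
      show algebraMap A C a ∈ r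
      have hrA : (r.comap (algebraMap A C)).IsMaximal :=
        Ideal.isMaximal_comap_of_isIntegral_of_isMaximal r
      have : r.comap (algebraMap A C) = IsLocalRing.maximalIdeal A := IsLocalRing.eq_maximalIdeal hrA
      have ha' : a ∈ r.comap (algebraMap A C) := this ▸ ha
      exact ha'
    exact hle hz

end Groth.Agent.S5076
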