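import Groth.Statements.S5077
import Mathlib
-- import your own Groth.Agent.* helpers here

set_option autoImplicit false
universe u
open Unram

namespace Groth.Agent.S5077


open Polynomial TensorProduct Algebra in
theorem aux₁ {R S : Type u} [CommRing R] [CommRing S] [Algebra R S]
    (P : Ideal R) [P.IsPrime] (x : S) (hx : Algebra.adjoin R {x} = ⊤) :
    (RingHom.ker (aeval (R := R) x).toRingHom).map (mapRingHom (algebraMap R P.ResidueField)) =
      RingHom.ker (aeval (1 ⊗ₜ x : P.Fiber S)).toRingHom := by
  have hx' : Function.Surjective (aeval (R := R) x) :=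
    (AlgHom.range_eq_top _).mp ((adjoin_singleton_eq_range_aeval R x).symm.trans hx)
  let I := RingHom.ker (aeval (R := R) x).toRingHom
  let e : P.Fiber S ≃ₐ[P.ResidueField]
      P.ResidueField[X] ⧸ I.map (mapRingHom (algebraMap _ P.ResidueField)) :=
    Polynomial.fiberEquivQuotient (aeval (R := R) x) hx' _
  rw [← RingHom.ker_comp_of_injective _ (f := e.toRingHom) e.injective]
  convert! Ideal.mk_ker.symm
  ext a
  · dsimp [-TensorProduct.algebraMap_apply]
    rw [aeval_C, AlgEquiv.commutes]
    simp only [I]
    rfl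
  · simpa [e] using! Polynomial.fiberEquivQuotient_tmul _ hx' P 1 X

open Polynomial TensorProduct Algebra in
attribute [local instance] Algebra.TensorProduct.rightAlgebra in
theorem aux₂ {R S : Type u} [CommRing R] [CommRing S] [Algebra R S]
    {P : Ideal R} [P.IsPrime] {Q : Ideal S} [Q.IsPrime]
    [Q.LiesOver P] [IsUnramifiedAt R Q] (x : S) (p : R[X])
    [Algebra (Localization.AtPrime P) (Localization.AtPrime Q)]
    [Localization.AtPrime.IsLiesOverAlgebra P Q]
    (hp₁ : Ideal.span {p.map (algebraMap R P.ResidueField)} =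
      RingHom.ker (aeval ((1 : P.ResidueField) ⊗ₜ[R] x)).toRingHom)
    (hp₂ : Algebra.adjoin R {x} = ⊤) :
    ¬ minpoly P.ResidueField (algebraMap S Q.ResidueField x) ^ 2 ∣
      p.map (algebraMap R P.ResidueField) := by
  let Q' : Ideal (P.Fiber S) :=
    (PrimeSpectrum.primesOverOrderIsoFiber R S P ⟨Q, ‹_›, ‹_›⟩).asIdeal
  have : Q'.LiesOver Q := ⟨congr($((PrimeSpectrum.primesOverOrderIsoFiber R S P).symm_apply_apply
    ⟨Q, ‹_›, ‹_›⟩).1).symm⟩
  have : Q'.LiesOver P := .trans _ Q _
  let := Localization.AtPrime.algebraOfLiesOver Q Q'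
  let := Localization.AtPrime.algebraOfLiesOver P Q'
  have : IsUnramifiedAt P.ResidueField Q' := .residueField P Q _ (Q'.over_def Q)
  have : Function.Surjective (aeval (R := P.ResidueField) ((1 : P.ResidueField) ⊗ₜ[R] x)) := by
    rw [← AlgHom.range_eq_top, ← adjoin_singleton_eq_range_aeval]
    simpa using TensorProduct.adjoin_one_tmul_image_eq_top (A := P.ResidueField) _ hp₂
  convert! IsUnramifiedAt.not_minpoly_sq_dvd (A := P.Fiber S) Q' (1 ⊗ₜ x) _ hp₁ this
  rw [← minpoly.algHom_eq _
    (IsScalarTower.toAlgHom P.ResidueField Q.ResidueField Q'.ResidueField).injective]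
  congr 1
  · apply algebra_ext; intros r; congr 1; ext x; simp [← IsScalarTower.algebraMap_apply]
  · simp [← TensorProduct.right_algebraMap_apply, ← IsScalarTower.algebraMap_apply]

/-- Let A be a local ring and B a finite A-algebra generated by a single element u. Then there is a
monic polynomial F with coefficients in A such that F(u) = 0 and F'(u) does not belong to any
maximal ideal n of B at which B is unramified over A. -/
theorem result (A B : Type u) [CommRing A] [IsLocalRing A]
    [CommRing B] [Algebra A B] [Module.Finite A B] (u : B) (hu : Algebra.adjoin A ({u} : Set B) = ⊤) :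
    ∃ F : Polynomial A, F.Monic ∧ Polynomial.aeval u F = 0 ∧
      ∀ (n : Ideal B) [n.IsMaximal], Algebra.IsUnramifiedAt A n → Polynomial.aeval u (Polynomial.derivative F) ∉ n := by
  classical
  cases subsingleton_or_nontrivial B
  · refine ⟨1, Polynomial.monic_one, Subsingleton.elim _ _, fun n hn _ => ?_⟩
    exact (hn.ne_top (Subsingleton.elim _ _)).elim
  have := (algebraMap A B).domain_nontrivial
  open Polynomial TensorProduct Algebra in
  let P : Ideal A := IsLocalRing.maximalIdeal A
  have hRx : IsIntegral A u := Algebra.IsIntegral.isIntegral _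
  let I := RingHom.ker (Polynomial.aeval (R := A) u).toRingHom
  obtain ⟨p, hpI, hp⟩ := Ideal.exists_mem_span_singleton_map_residueField_eq P I
  have hI' : I.map (Polynomial.mapRingHom (algebraMap A P.ResidueField)) =
      RingHom.ker (Polynomial.aeval (TensorProduct.tmul A (1 : P.ResidueField) u : P.Fiber B)).toRingHom :=
    aux₁ P u hu
  let q := minpoly A u ^ (p.natDegree + 2) + p
  have hpu : Polynomial.aeval u p = 0 := hpI
  refine ⟨q, ?_, by simp [q, hpu], ?_⟩
  · refine ((minpoly.monic hRx).pow _).add_of_left (Polynomial.degree_lt_degree ?_)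
    grw [Polynomial.natDegree_pow' (by simp [minpoly.monic hRx]),
      ← Nat.le_mul_of_pos_right _ (minpoly.natDegree_pos hRx)]; lia
  intro Q hQmax hQ
  have hQP : Q.LiesOver P := by
    refine ⟨?_⟩
    have : (Q.comap (algebraMap A B)).IsMaximal :=
      Ideal.isMaximal_comap_of_isIntegral_of_isMaximal Q
    exact (IsLocalRing.eq_maximalIdeal this).symm
  let := Localization.AtPrime.algebraOfLiesOver P Q
  let m := minpoly P.ResidueField (algebraMap B Q.ResidueField u)
  have hm : Prime m := minpoly.prime (Algebra.IsIntegral.isIntegral _)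
  have hmp₁ : m ∣ p.map (algebraMap _ _) := by
    simp only [m, minpoly.dvd_iff, Polynomial.aeval_map_algebraMap,
      Polynomial.aeval_algebraMap_apply, hpu, map_zero]
  have hmp₂ : ¬ m ^ 2 ∣ p.map (algebraMap _ _) :=
    aux₂ u p (hp.trans hI') hu
  have ⟨w, h₁, h₂⟩ : ∃ w, q.map (algebraMap A _) = p.map (algebraMap A _) * w ∧ ¬ m ∣ w := by
    obtain ⟨w, hw⟩ := Ideal.mem_span_singleton.mp
      (hp.ge (Ideal.mem_map_of_mem _ (x := minpoly A u) (by simp [I])))
    refine ⟨1 + w * (minpoly A u).map (algebraMap A P.ResidueField) ^ (p.natDegree + 1), ?_, ?_⟩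
    · simp only [q, Polynomial.map_add, Polynomial.map_pow]
      simp only [Polynomial.coe_mapRingHom] at hw
      rw [pow_succ _ (p.natDegree + 1)]
      rw [hw]
      ring
    · rw [dvd_add_left (dvd_mul_of_dvd_right (dvd_pow (by simp [m, minpoly.dvd_iff, Polynomial.aeval_algebraMap_apply]) (by simp)) _),
        ← isUnit_iff_dvd_one]
      exact hm.not_isUnit
  have hm' : Polynomial.derivative m ≠ 0 :=
    (Polynomial.separable_iff_derivative_ne_zero hm.irreducible).mp (Algebra.IsSeparable.isSeparable ..)
  suffices ¬m ∣ Polynomial.derivative (q.map (algebraMap A _)) by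
    rwa [← Ideal.ker_algebraMap_residueField Q, RingHom.mem_ker, ← Polynomial.aeval_algebraMap_apply,
      ← Polynomial.aeval_map_algebraMap P.ResidueField, ← Polynomial.derivative_map, ← minpoly.dvd_iff]
  obtain ⟨c, hc⟩ := hmp₁
  simp_all [hm.dvd_mul, dvd_add_left, pow_two, mul_dvd_mul_iff_left, hm.ne_zero]

end Groth.Agent.S5077
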