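import Groth.Statements.S5081
import Mathlib

set_option autoImplicit false
universe u
open Unram

namespace Groth.Agent.S5081

/-- Let B be a finite A-algebra generated by a single element u and F a polynomial with coefficients in
A such that F(u) = 0. Then the ideal generated by F'(u) is contained in the annihilator of the
module of differentials of B over A, and equals it when the kernel of the surjection A[T] → B
sending T to u is generated by F. -/
theorem result (A B : Type u) [CommRing A] [CommRing B] [Algebra A B]
    [Module.Finite A B] (u : B) (hu : Algebra.adjoin A ({u} : Set B) = ⊤) (F : Polynomial A) (hF : Polynomial.aeval u F = 0) :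
    Ideal.span {Polynomial.aeval u (Polynomial.derivative F)} ≤ Module.annihilator B (KaehlerDifferential A B) ∧
      (RingHom.ker (Polynomial.aeval u : Polynomial A →ₐ[A] B) = Ideal.span {F} →
        Module.annihilator B (KaehlerDifferential A B) = Ideal.span {Polynomial.aeval u (Polynomial.derivative F)}) := by
  classical
  have hsurj : Function.Surjective (Polynomial.aeval u : Polynomial A →ₐ[A] B) := by
    rw [← AlgHom.range_eq_top, ← Algebra.adjoin_singleton_eq_range_aeval]
    exact hu
  have hann : Polynomial.aeval u (Polynomial.derivative F) ∈
      Module.annihilator B (KaehlerDifferential A B) := by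
    rw [Module.mem_annihilator]
    intro ω
    have hω : ω ∈ Submodule.span B (Set.range (KaehlerDifferential.D A B)) := by
      rw [KaehlerDifferential.span_range_derivation]; trivial
    refine Submodule.span_induction ?_ ?_ ?_ ?_ hω
    · rintro _ ⟨b, rfl⟩
      obtain ⟨p, rfl⟩ := hsurj b
      rw [Derivation.map_aeval, smul_smul, mul_comm, ← smul_smul, ← Derivation.map_aeval, hF,
        map_zero, smul_zero]
    · simp
    · intro x y _ _ hx hy; rw [smul_add, hx, hy, add_zero]
    · intro a x _ hx; rw [smul_comm, hx, smul_zero]
  refine ⟨?_, ?_⟩
  · rw [Ideal.span_le, Set.singleton_subset_iff]; exact hann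
  · intro hker
    apply le_antisymm
    · obtain ⟨I, hI⟩ : ∃ I : Ideal B, I = Ideal.span {Polynomial.aeval u (Polynomial.derivative F)} :=
        ⟨_, rfl⟩
      rw [← hI]
      let δ : Polynomial A → (B ⧸ I) := fun p =>
        Submodule.mkQ I (Polynomial.aeval u (Polynomial.derivative p))
      have hδadd : ∀ p p', δ (p + p') = δ p + δ p' := by
        intro p p'; simp only [δ, map_add]
      have hδsub : ∀ p p', δ (p - p') = δ p - δ p' := by
        intro p p'; simp only [δ, map_sub]
      have hδker0 : ∀ p, Polynomial.aeval u p = 0 → δ p = 0 := by
        intro p hp
        have : p ∈ RingHom.ker (Polynomial.aeval u : Polynomial A →ₐ[A] B) := hp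
        rw [hker, Ideal.mem_span_singleton'] at this
        obtain ⟨h, rfl⟩ := this
        simp only [δ, Polynomial.derivative_mul, map_add, map_mul, hF, mul_zero, zero_add]
        rw [Submodule.mkQ_apply, Submodule.Quotient.mk_eq_zero, hI]
        exact Ideal.mul_mem_left _ _ (Ideal.mem_span_singleton_self _)
      have hδker : ∀ p p', Polynomial.aeval u p = Polynomial.aeval u p' → δ p = δ p' := by
        intro p p' h
        rw [← sub_eq_zero, ← hδsub]
        apply hδker0
        rw [map_sub, h, sub_self]
      let dfun : B → B ⧸ I := fun b => δ (Classical.choose (hsurj b))
      have hd : ∀ p, dfun (Polynomial.aeval u p) = δ p := fun p =>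
        hδker _ _ (Classical.choose_spec (hsurj (Polynomial.aeval u p)))
      let d : Derivation A B (B ⧸ I) :=
        { toFun := dfun
          map_add' := by
            intro a b
            obtain ⟨p, rfl⟩ := hsurj a
            obtain ⟨p', rfl⟩ := hsurj b
            rw [← map_add, hd, hd, hd, hδadd]
          map_smul' := by
            intro c a
            obtain ⟨p, rfl⟩ := hsurj a
            rw [← map_smul, hd, hd]
            simp only [δ, Polynomial.derivative_smul, map_smul, RingHom.id_apply]
            rfl
          map_one_eq_zero' := by
            show dfun 1 = 0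
            rw [← map_one (Polynomial.aeval u : Polynomial A →ₐ[A] B), hd]
            simp only [δ, Polynomial.derivative_one, map_zero]
          leibniz' := by
            intro a b
            obtain ⟨p, rfl⟩ := hsurj a
            obtain ⟨p', rfl⟩ := hsurj b
            show dfun _ = _ • dfun _ + _ • dfun _
            rw [← map_mul, hd, hd, hd]
            have e1 : ∀ (b x : B), b • (Submodule.mkQ I) x = Submodule.mkQ I (b * x) :=
              fun b x => rfl
            simp only [δ]
            rw [e1, e1, ← map_add]
            congr 1
            rw [Polynomial.derivative_mul, map_add, map_mul, map_mul]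
            ring }
      have hdu : d u = Submodule.mkQ I 1 := by
        have h1 : d u = dfun (Polynomial.aeval u (Polynomial.X : Polynomial A)) := by
          rw [Polynomial.aeval_X]; rfl
        rw [h1, hd]
        simp only [δ, Polynomial.derivative_X, map_one]
      intro x hx
      rw [Module.mem_annihilator] at hx
      have h2 := congrArg d.liftKaehlerDifferential (hx (KaehlerDifferential.D A B u))
      rw [map_smul, Derivation.liftKaehlerDifferential_comp_D, map_zero, hdu, ← map_smul,
        smul_eq_mul, mul_one, Submodule.mkQ_apply, Submodule.Quotient.mk_eq_zero] at h2
      exact h2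
    · rw [Ideal.span_le, Set.singleton_subset_iff]; exact hann

end Groth.Agent.S5081
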