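import Groth.Statements.S5082
import Groth.Agent.Lib.helper11.MeroDepth

set_option autoImplicit false
universe u
open CategoryTheory CategoryTheory.Limits AlgebraicGeometry TopologicalSpace
open Mero

namespace Groth.Agent.S5082

/-- Let A be a Noetherian local ring. Then the group of divisors of Spec A is trivial (every divisor
equals the unit divisor, divisors being written multiplicatively) if and only if A has depth 0, that
is, if and only if every element of the maximal ideal of A is a zero-divisor. -/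
theorem result (A : Type u) [CommRing A] [IsNoetherianRing A] [IsLocalRing A] :
    (∀ D : Mero.Divisor (Spec (CommRingCat.of A)), D = 1) ↔ LocCoh.depth A A = 0 := by
  classical
  rw [Groth.Agent.Lib.helper11.MeroDepth.depth_self_eq_zero_iff]
  have hAff : IsAffineOpen (⊤ : (Spec (CommRingCat.of A)).Opens) := isAffineOpen_top _
  haveI : IsNoetherianRing Γ(Spec (CommRingCat.of A), ⊤) :=
    IsLocallyNoetherian.component_noetherian ⟨⊤, hAff⟩
  let x0 : ↥(Spec (CommRingCat.of A)) := IsLocalRing.closedPoint A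
  constructor
  · intro hD r hr hreg
    let r' : Γ(Spec (CommRingCat.of A), ⊤) := (Scheme.ΓSpecIso (CommRingCat.of A)).inv r
    have hr'r : (Scheme.ΓSpecIso (CommRingCat.of A)).hom r' = r := by
      change ((Scheme.ΓSpecIso (CommRingCat.of A)).inv ≫
        (Scheme.ΓSpecIso (CommRingCat.of A)).hom) r = r
      rw [Iso.inv_hom_id]
      rfl
    have hr'nzd : r' ∈ nonZeroDivisors Γ(Spec (CommRingCat.of A), ⊤) := by
      rw [mem_nonZeroDivisors_iff_right]
      intro z hz
      have h1 := congrArg (Scheme.ΓSpecIso (CommRingCat.of A)).hom hz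
      rw [map_mul, map_zero, hr'r] at h1
      have h2 : (Scheme.ΓSpecIso (CommRingCat.of A)).hom z = 0 :=
        hreg (by simp only [smul_eq_mul, mul_zero]; rw [mul_comm]; exact h1)
      have h3 := congrArg (Scheme.ΓSpecIso (CommRingCat.of A)).inv h2
      rw [map_zero] at h3
      rw [← h3]
      change z = ((Scheme.ΓSpecIso (CommRingCat.of A)).hom ≫
        (Scheme.ΓSpecIso (CommRingCat.of A)).inv) z
      rw [Iso.hom_inv_id]
      rfl
    have hreg' : r' ∈ Mero.regSub (Spec (CommRingCat.of A)) ⊤ :=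
      Groth.Agent.Lib.helper11.MeroPseudo.mem_regSub_of_mem_nonZeroDivisors hAff r' hr'nzd
    obtain ⟨f, hf⟩ := Groth.Agent.Lib.helper11.MeroDepth.isUnit_toK_of_mem_regSub ⊤ r' hreg'
    have h1 := hD (Mero.div f)
    have h2 : (Mero.div f).1 x0 = 1 := by rw [h1]; rfl
    change (QuotientGroup.mk (Units.map (Mero.evalK (Spec (CommRingCat.of A)) ⊤
      ⟨x0, Opens.mem_top x0⟩).toMonoidHom f) : Mero.Germ (Spec (CommRingCat.of A)) x0) = 1 at h2
    rw [QuotientGroup.eq_one_iff] at h2
    obtain ⟨u, hu⟩ := h2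
    have h3 : algebraMap _ (Mero.KStalk (Spec (CommRingCat.of A)) x0)
        (u : (Spec (CommRingCat.of A)).presheaf.stalk x0) =
        algebraMap _ _ ((Spec (CommRingCat.of A)).presheaf.germ ⊤ x0 trivial r') := by
      have h0 := congrArg (fun z : (Mero.KStalk (Spec (CommRingCat.of A)) x0)ˣ =>
        (z : Mero.KStalk (Spec (CommRingCat.of A)) x0)) hu
      refine h0.trans ?_
      change (f : Γ(Mero.kmod (Spec (CommRingCat.of A)), ⊤)).1 ⟨x0, _⟩ = _
      rw [hf, Groth.Agent.Lib.helper11.MeroDepth.toK_eval_eq_algebraMap]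
    have h4 := Mero.algebraMap_KStalk_injective x0 h3
    have h5 : IsUnit ((Spec (CommRingCat.of A)).presheaf.germ ⊤ x0 trivial r') := h4 ▸ u.isUnit
    have h6 : x0 ∈ (Spec (CommRingCat.of A)).basicOpen r' :=
      ((Spec (CommRingCat.of A)).mem_basicOpen (U := ⊤) r' x0 (Opens.mem_top x0)).mpr h5
    rw [basicOpen_eq_of_affine] at h6
    exact h6 hr
  · intro hdepth D
    have hunit : ∀ b : Γ(Spec (CommRingCat.of A), ⊤),
        b ∈ nonZeroDivisors Γ(Spec (CommRingCat.of A), ⊤) → IsUnit b := by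
      intro b hb
      let e : Γ(Spec (CommRingCat.of A), ⊤) ≃+* A :=
        (Scheme.ΓSpecIso (CommRingCat.of A)).commRingCatIsoToRingEquiv
      have h1 : IsSMulRegular A (e b) := by
        intro w w' hww'
        simp only [smul_eq_mul] at hww'
        have h2 : b * (e.symm w - e.symm w') = 0 := by
          apply e.injective
          rw [map_mul, map_sub, e.apply_symm_apply, e.apply_symm_apply, map_zero, mul_sub, hww',
            sub_self]
        have h3 := (mul_left_mem_nonZeroDivisors_eq_zero_iff hb).mp h2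
        have h4 := congrArg e (sub_eq_zero.mp h3)
        rwa [e.apply_symm_apply, e.apply_symm_apply] at h4
      have h5 : e b ∉ IsLocalRing.maximalIdeal A := fun hm => hdepth _ hm h1
      have h6 : IsUnit (e b) := IsLocalRing.notMem_maximalIdeal.mp h5
      exact (isUnit_map_iff e b).mp h6
    apply Subtype.ext
    funext y
    show D.1 y = 1
    obtain ⟨U, hx0U, f, hf⟩ := D.2 x0
    have hU : U = ⊤ := by
      ext z
      simp only [Opens.coe_top, Set.mem_univ, iff_true]
      exact (IsLocalRing.specializes_closedPoint z).mem_open U.isOpen hx0U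
    subst hU
    obtain ⟨a, b, hb, hab⟩ := Groth.Agent.Lib.helper11.MeroFrac.exists_global_frac hAff
      (Or.inl inferInstance) (f : Γ(Mero.kmod (Spec (CommRingCat.of A)), ⊤))
    obtain ⟨a', b', hb', hab'⟩ := Groth.Agent.Lib.helper11.MeroFrac.exists_global_frac hAff
      (Or.inl inferInstance)
      ((f⁻¹ : (Γ(Mero.kmod (Spec (CommRingCat.of A)), ⊤))ˣ) :
        Γ(Mero.kmod (Spec (CommRingCat.of A)), ⊤))
    obtain ⟨ub, hub⟩ := hunit b hb
    obtain ⟨ub', hub'⟩ := hunit b' hb'
    have hc : (f : Γ(Mero.kmod (Spec (CommRingCat.of A)), ⊤)) =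
        Mero.toK (Spec (CommRingCat.of A)) ⊤ (a * ↑ub⁻¹) := by
      rw [map_mul, ← hab, ← hub, mul_assoc, ← map_mul, Units.mul_inv, map_one, mul_one]
    have hc' : ((f⁻¹ : (Γ(Mero.kmod (Spec (CommRingCat.of A)), ⊤))ˣ) :
        Γ(Mero.kmod (Spec (CommRingCat.of A)), ⊤)) =
        Mero.toK (Spec (CommRingCat.of A)) ⊤ (a' * ↑ub'⁻¹) := by
      rw [map_mul, ← hab', ← hub', mul_assoc, ← map_mul, Units.mul_inv, map_one, mul_one]
    have hcc : (a * ↑ub⁻¹) * (a' * ↑ub'⁻¹) = 1 := by
      apply Groth.Agent.Lib.helper11.MeroDepth.toK_injective ⊤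
      rw [map_mul, ← hc, ← hc', Units.mul_inv, map_one]
    rw [hf ⟨y, trivial⟩]
    change (QuotientGroup.mk (Units.map (Mero.evalK (Spec (CommRingCat.of A)) ⊤
      ⟨y, trivial⟩).toMonoidHom f) : Mero.Germ (Spec (CommRingCat.of A)) y) = 1
    rw [QuotientGroup.eq_one_iff]
    refine ⟨⟨(Spec (CommRingCat.of A)).presheaf.germ ⊤ y trivial (a * ↑ub⁻¹),
      (Spec (CommRingCat.of A)).presheaf.germ ⊤ y trivial (a' * ↑ub'⁻¹),
      by rw [← map_mul, hcc, map_one], by rw [← map_mul, mul_comm, hcc, map_one]⟩, Units.ext ?_⟩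
    change algebraMap _ _ ((Spec (CommRingCat.of A)).presheaf.germ ⊤ y trivial (a * ↑ub⁻¹)) =
      (f : Γ(Mero.kmod (Spec (CommRingCat.of A)), ⊤)).1 ⟨y, trivial⟩
    rw [hc, Groth.Agent.Lib.helper11.MeroDepth.toK_eval_eq_algebraMap]

end Groth.Agent.S5082
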