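import Groth.Statements.S5085
import Mathlib

set_option autoImplicit false
universe u
open CategoryTheory CategoryTheory.Limits AlgebraicGeometry TopologicalSpace
open Mero

namespace Groth.Agent.S5085aux
open CategoryTheory CategoryTheory.Limits AlgebraicGeometry TopologicalSpace Opposite

theorem main (X : Scheme.{u}) (U V : X.Opens) (hVU : V ≤ U)
    (hV : ∀ W : X.Opens, W ≤ U →
      Function.Injective ⇑(X.presheaf.map (homOfLE (inf_le_left : W ⊓ V ≤ W)).op)) :
    Function.Injective ⇑((Mero.kmod X).presheaf.map (homOfLE hVU).op) := by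
  rw [injective_iff_map_eq_zero]
  intro t ht
  apply Subtype.ext
  funext x
  obtain ⟨W, m, i, a, b, w⟩ := t.2 x
  have ha : a = 0 := by
    apply hV W i.le
    rw [map_zero]
    apply TopCat.Presheaf.section_ext X.sheaf
    intro y hy
    show X.presheaf.germ (W ⊓ V) y hy (X.presheaf.map (homOfLE (inf_le_left : W ⊓ V ≤ W)).op a) =
      X.presheaf.germ (W ⊓ V) y hy 0
    rw [map_zero, TopCat.Presheaf.germ_res_apply]
    have hyW : y ∈ W := hy.1
    have hyV : y ∈ V := hy.2
    have h1 : t.1 ⟨y, i.le hyW⟩ = 0 := by
      have := congrArg (fun s => s.1 ⟨y, hyV⟩) ht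
      exact this
    have h2 := w ⟨y, hyW⟩
    dsimp only at h2
    have h3 : (LocalizedModule.mk (X.presheaf.germ W y hyW a) (Mero.regGerm ⟨y, hyW⟩ b) :
        Mero.KStalk X y) = 0 := h2.symm.trans h1
    rw [← LocalizedModule.zero_mk (Mero.regGerm ⟨y, hyW⟩ b), LocalizedModule.mk_eq] at h3
    obtain ⟨u, hu⟩ := h3
    rw [smul_zero, smul_zero] at hu
    have hu1 : (u * Mero.regGerm ⟨y, hyW⟩ b : Mero.regStalk X y) • X.presheaf.germ W y hyW a = 0 := by
      rw [mul_smul]; exact hu
    have hnz := Mero.regStalk_le_nonZeroDivisors y (u * Mero.regGerm ⟨y, hyW⟩ b).2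
    exact (mem_nonZeroDivisors_iff.mp hnz).1 _ hu1
  have hx : t.1 x = LocalizedModule.mk (X.presheaf.germ W x.1 m a) (Mero.regGerm ⟨x.1, m⟩ b) :=
    w ⟨x.1, m⟩
  rw [ha, map_zero, LocalizedModule.zero_mk] at hx
  exact hx

end Groth.Agent.S5085aux

namespace Groth.Agent.S5085

/-- Let X be a scheme, U an open subset and V an open subset of U which is schematically dense in U (for
every open W ⊆ U, restriction of functions from W to W ∩ V is injective). Then restriction of
sections of the sheaf of meromorphic functions K_X from U to V is injective: the canonical map from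
meromorphic functions to pseudo-functions is injective. -/
theorem result (X : Scheme.{u}) (U V : X.Opens) (hVU : V ≤ U)
    (hV : ∀ W : X.Opens, W ≤ U →
      Function.Injective ⇑(X.presheaf.map (homOfLE (inf_le_left : W ⊓ V ≤ W)).op)) :
    Function.Injective ⇑((Mero.kmod X).presheaf.map (homOfLE hVU).op) := by
  exact Groth.Agent.S5085aux.main X U V hVU hV

end Groth.Agent.S5085
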