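import Groth.Statements.S8901
import Mathlib
import Groth.Agent.Lib.helper9.WeakAssSch
import Groth.Agent.Lib.helper9.UnitStalk
import Groth.Agent.Lib.helper22.BlowUpU

set_option autoImplicit false
universe u
open CategoryTheory CategoryTheory.Limits AlgebraicGeometry TopologicalSpace
open SDiv

namespace Groth.Agent.S8901

section Helpers

open Groth.Agent.Lib.helper9.UnitStalk Groth.Agent.Lib.helper9.WeakAssSch Groth.Agent.H22.BlowUpU

instance unit_isQuasicoherent (X : Scheme.{u}) : (OX X).IsQuasicoherent := by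
  have e : SheafOfModules.free (R := X.ringCatSheaf) PUnit.{u+1} ≅ SheafOfModules.unit X.ringCatSheaf :=
    Limits.coproductUniqueIso _
  have h1 : (SheafOfModules.free (R := X.ringCatSheaf) PUnit.{u+1}).IsQuasicoherent := inferInstance
  obtain ⟨⟨q⟩⟩ := h1
  exact (SheafOfModules.QuasicoherentData.ofIsIso e.hom q).isQuasicoherent

/-- At a point with no proper generization, every nonzerodivisor of the local ring is a unit. -/
lemma isUnit_of_nzd_of_maximal (Y : Scheme.{u}) (y : Y) (hy : ∀ y' : Y, y' ⤳ y → y' = y)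
    (a : Y.presheaf.stalk y) (ha : a ∈ nonZeroDivisors (Y.presheaf.stalk y)) : IsUnit a := by
  by_contra hnu
  have ham : a ∈ IsLocalRing.maximalIdeal (Y.presheaf.stalk y) :=
    (IsLocalRing.mem_maximalIdeal a).mpr hnu
  have hall : ∀ P : PrimeSpectrum (Y.presheaf.stalk y),
      P.asIdeal = IsLocalRing.maximalIdeal (Y.presheaf.stalk y) := by
    intro P
    have h0 : Y.fromSpecStalk y P ∈ Set.range (Y.fromSpecStalk y) := ⟨P, rfl⟩
    rw [Scheme.range_fromSpecStalk] at h0
    have h1 : Y.fromSpecStalk y P = y := hy _ h0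
    have h2 : Y.fromSpecStalk y P =
        Y.fromSpecStalk y (IsLocalRing.closedPoint (Y.presheaf.stalk y)) :=
      h1.trans Scheme.fromSpecStalk_closedPoint.symm
    have h3 := (Y.fromSpecStalk y).isEmbedding.injective h2
    rw [h3]
    rfl
  have hnil : a ∈ nilradical (Y.presheaf.stalk y) := by
    rw [nilradical_eq_sInf, Ideal.mem_sInf]
    intro J hJ
    have h2 := hall ⟨J, hJ⟩
    change J = _ at h2
    rw [h2]
    exact ham
  obtain ⟨n, hn⟩ := hnil
  have h1 : (1 : Y.presheaf.stalk y) * a ^ n = 0 := by rw [hn, mul_zero]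
  have h2 := (mem_nonZeroDivisors_iff_right.mp (pow_mem ha n)) 1 h1
  exact one_ne_zero h2

theorem main {X Y : Scheme.{u}} (f : X ⟶ Y)
    (h : ∀ x : ↥X, Curv2.IsWeakAssPoint (Coh.structureModule X) x → ∀ y : ↥Y, y ⤳ f x → y = f x)
    (U : Y.Opens) (s : Γ(Y, U)) (hs : s ∈ Mero.regSub Y U) :
    f.app U s ∈ Mero.regSub X (f ⁻¹ᵁ U) := by
  rintro ⟨x, hx⟩
  rw [mem_nonZeroDivisors_iff_right]
  intro γ hγ
  obtain ⟨O₂, hO₂, hxO₂, c₂, rfl, hc₂⟩ := exists_rep_mul_eq_zero x hx (f.app U s) γ hγ
  have h0 : toUnit O₂ c₂ = 0 := by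
    apply eq_zero_of_germ_eq_zero_of_weakAss (OX X) O₂
    intro x' hx' hw
    rw [← unitGerm_germ]
    have hxU : f x' ∈ U := hO₂ hx'
    have hu : IsUnit (Y.presheaf.germ U (f x') hxU s) :=
      isUnit_of_nzd_of_maximal Y (f x') (h x' hw) _ (hs ⟨f x', hxU⟩)
    have hu2 : IsUnit (X.presheaf.germ O₂ x' hx' (X.presheaf.map (homOfLE hO₂).op (f.app U s))) := by
      rw [TopCat.Presheaf.germ_res_apply]
      have := Scheme.Hom.germ_stalkMap_apply f U x' hxU s
      rw [← this]
      exact hu.map (f.stalkMap x').hom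
    have h4 : X.presheaf.germ O₂ x' hx' c₂ *
        X.presheaf.germ O₂ x' hx' (X.presheaf.map (homOfLE hO₂).op (f.app U s)) = 0 := by
      rw [← map_mul, hc₂, map_zero]
    rw [hu2.mul_left_eq_zero] at h4
    rw [h4, map_zero]
  have h1 : c₂ = 0 := toUnit_injective O₂ (h0.trans (toUnit_zero O₂).symm)
  rw [h1, map_zero]

end Helpers

/-- Let f : X ⟶ Y be a morphism of schemes under which each weakly associated point of X (of O_X) goes
to a point of Y with no proper generization (the generic point of some irreducible component of Y).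
Then pullbacks of meromorphic functions are defined for f: for every open U ⊆ Y and every regular
section s of O_Y over U, the pulled-back section of O_X over f⁻¹U is regular. -/
theorem result {X Y : Scheme.{u}} (f : X ⟶ Y)
    (h : ∀ x : ↥X, Curv2.IsWeakAssPoint (Coh.structureModule X) x → ∀ y : ↥Y, y ⤳ f x → y = f x)
    (U : Y.Opens) (s : Γ(Y, U)) (hs : s ∈ Mero.regSub Y U) : f.app U s ∈ Mero.regSub X (f ⁻¹ᵁ U) := by
  exact main f h U s hs

end Groth.Agent.S8901
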