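import Groth.Statements.S5092
import Mathlib
import Groth.Agent.S8901
import Groth.Agent.Lib.helper9.WeakAssSch
import Groth.Agent.Lib.helper9.UnitStalk
import Groth.Agent.Lib.helper22.BlowUpU

set_option autoImplicit false
universe u
open CategoryTheory CategoryTheory.Limits AlgebraicGeometry TopologicalSpace
open Mero

namespace Groth.Agent.S5092

section Helpers

open Groth.Agent.Lib.helper9.UnitStalk Groth.Agent.Lib.helper9.WeakAssSch Groth.Agent.H22.BlowUpU

lemma ker_toSpanSingleton_equiv {R M N : Type*} [CommRing R] [AddCommGroup M] [AddCommGroup N]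
    [Module R M] [Module R N] (e : M ≃ₗ[R] N) (m : M) :
    LinearMap.ker (LinearMap.toSpanSingleton R N (e m)) =
      LinearMap.ker (LinearMap.toSpanSingleton R M m) := by
  ext a
  rw [LinearMap.mem_ker, LinearMap.mem_ker, LinearMap.toSpanSingleton_apply,
    LinearMap.toSpanSingleton_apply, ← map_smul]
  exact e.map_eq_zero_iff

lemma isAssociatedPrime_iff_exists {R : Type*} [CommRing R] [IsLocalRing R] :
    IsAssociatedPrime (IsLocalRing.maximalIdeal R) R ↔
      ∃ r : R, Ideal.radical (LinearMap.ker (LinearMap.toSpanSingleton R R r)) =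
        IsLocalRing.maximalIdeal R := by
  have hker : ∀ m : R, LinearMap.ker (LinearMap.toSpanSingleton R R m) =
      (⊥ : Submodule R R).colon {m} := by
    intro m
    ext r
    rw [LinearMap.mem_ker, LinearMap.toSpanSingleton_apply, Submodule.mem_colon_singleton,
      Submodule.mem_bot]
  unfold IsAssociatedPrime
  rw [Submodule.isAssociatedPrime_def]
  constructor
  · rintro ⟨-, m, hm⟩
    exact ⟨m, by rw [hker]; exact hm.symm⟩
  · rintro ⟨m, hm⟩
    exact ⟨(IsLocalRing.maximalIdeal.isMaximal _).isPrime, m, by rw [← hker]; exact hm.symm⟩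

/-- If the maximal ideal is (weakly) associated, every nonzerodivisor is a unit. -/
lemma isUnit_of_nzd_of_ass {R : Type*} [CommRing R] [IsLocalRing R]
    (h : IsAssociatedPrime (IsLocalRing.maximalIdeal R) R) (a : R) (ha : a ∈ nonZeroDivisors R) :
    IsUnit a := by
  obtain ⟨r, hr⟩ := isAssociatedPrime_iff_exists.mp h
  by_contra hnu
  have ham : a ∈ IsLocalRing.maximalIdeal R := (IsLocalRing.mem_maximalIdeal a).mpr hnu
  rw [← hr, Ideal.mem_radical_iff] at ham
  obtain ⟨n, hn⟩ := ham
  rw [LinearMap.mem_ker, LinearMap.toSpanSingleton_apply, smul_eq_mul] at hn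
  have hr0 : r = 0 := by
    have h1 : r * a ^ n = 0 := by rw [mul_comm]; exact hn
    exact (mem_nonZeroDivisors_iff_right.mp (pow_mem ha n)) r h1
  have h2 : (1 : R) ∈ IsLocalRing.maximalIdeal R := by
    rw [← hr]
    apply Ideal.le_radical
    rw [LinearMap.mem_ker, LinearMap.toSpanSingleton_apply, hr0, smul_zero]
  exact (Ideal.ne_top_iff_one _).mp (IsLocalRing.maximalIdeal.isMaximal R).ne_top h2

theorem main {X Y : Scheme.{u}} (f : X ⟶ Y)
    (hf : ∀ x : ↥X, IsAssociatedPrime (IsLocalRing.maximalIdeal ↑(X.presheaf.stalk x))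
        ↑(X.presheaf.stalk x) →
      IsAssociatedPrime (IsLocalRing.maximalIdeal ↑(Y.presheaf.stalk (f x)))
        ↑(Y.presheaf.stalk (f x))) :
    ∀ (U : Y.Opens) (s : Γ(Y, U)), s ∈ Mero.regSub Y U → f.app U s ∈ Mero.regSub X (f ⁻¹ᵁ U) := by
  intro U s hs
  rintro ⟨x, hx⟩
  rw [mem_nonZeroDivisors_iff_right]
  intro γ hγ
  obtain ⟨O₂, hO₂, hxO₂, c₂, rfl, hc₂⟩ := exists_rep_mul_eq_zero x hx (f.app U s) γ hγ
  have h0 : toUnit O₂ c₂ = 0 := by
    apply eq_zero_of_germ_eq_zero_of_weakAss (OX X) O₂
    intro x' hx' hw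
    rw [← unitGerm_germ]
    have hxU : f x' ∈ U := hO₂ hx'
    have hass : IsAssociatedPrime (IsLocalRing.maximalIdeal ↑(X.presheaf.stalk x'))
        ↑(X.presheaf.stalk x') := by
      rw [isAssociatedPrime_iff_exists]
      obtain ⟨m, hm⟩ := hw
      refine ⟨(unitStalkEquiv x').symm m, Eq.trans ?_ hm⟩
      rw [← ker_toSpanSingleton_equiv (unitStalkEquiv x') ((unitStalkEquiv x').symm m),
        LinearEquiv.apply_symm_apply]
    have hu : IsUnit (Y.presheaf.germ U (f x') hxU s) :=
      isUnit_of_nzd_of_ass (hf x' hass) _ (hs ⟨f x', hxU⟩)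
    have hu2 : IsUnit (X.presheaf.germ O₂ x' hx' (X.presheaf.map (homOfLE hO₂).op (f.app U s))) := by
      rw [TopCat.Presheaf.germ_res_apply]
      have := Scheme.Hom.germ_stalkMap_apply f U x' hxU s
      rw [← this]
      exact hu.map (f.stalkMap x').hom
    have h4 : X.presheaf.germ O₂ x' hx' c₂ *
        X.presheaf.germ O₂ x' hx' (X.presheaf.map (homOfLE hO₂).op (f.app U s)) = 0 := by
      rw [← map_mul, hc₂, map_zero]
    rw [hu2.mul_left_eq_zero] at h4
    rw [h4, map_zero]
  have h1 : c₂ = 0 := toUnit_injective O₂ (h0.trans (toUnit_zero O₂).symm)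
  rw [h1, map_zero]

end Helpers

/-- Suppose X and Y are schemes, both locally Noetherian, and f : X → Y is a morphism carrying each
associated point of O_X (that is, a point whose local ring has its maximal ideal among its
associated primes) to an associated point of O_Y. Then, given any open subset U of Y and any regular
function s on U (one whose germ at each point of U is a non-zero-divisor), the function on f⁻¹(U)
obtained by pulling s back along f is again regular; as a result, every meromorphic function and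
every divisor on Y admits a well-defined pullback along f. -/
theorem result {X Y : Scheme.{u}} [IsLocallyNoetherian X] [IsLocallyNoetherian Y]
    (f : X ⟶ Y)
    (hf : ∀ x : ↥X, IsAssociatedPrime (IsLocalRing.maximalIdeal ↑(X.presheaf.stalk x)) ↑(X.presheaf.stalk x) →
      IsAssociatedPrime (IsLocalRing.maximalIdeal ↑(Y.presheaf.stalk (f x))) ↑(Y.presheaf.stalk (f x))) :
    ∀ (U : Y.Opens) (s : Γ(Y, U)), s ∈ Mero.regSub Y U → f.app U s ∈ Mero.regSub X (f ⁻¹ᵁ U) := by
  exact main f hf

end Groth.Agent.S5092
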