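import Groth.Statements.S8869
import Groth.Agent.Lib.helper9.UnitStalk

set_option autoImplicit false
universe u
open CategoryTheory CategoryTheory.Limits AlgebraicGeometry TopologicalSpace
open SDiv

namespace Groth.Agent.S8869

lemma ker_toSpanSingleton_equiv {R M N : Type*} [CommRing R] [AddCommGroup M] [AddCommGroup N]
    [Module R M] [Module R N] (e : M ≃ₗ[R] N) (m : M) :
    LinearMap.ker (LinearMap.toSpanSingleton R N (e m)) =
      LinearMap.ker (LinearMap.toSpanSingleton R M m) := by
  ext a
  rw [LinearMap.mem_ker, LinearMap.mem_ker, LinearMap.toSpanSingleton_apply,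
    LinearMap.toSpanSingleton_apply, ← map_smul]
  exact e.map_eq_zero_iff

lemma weak_iff_ring {R : Type*} [CommRing R] [IsLocalRing R] [_root_.IsReduced R] :
    (∃ r : R, Ideal.radical (LinearMap.ker (LinearMap.toSpanSingleton R R r)) =
      IsLocalRing.maximalIdeal R) ↔ IsLocalRing.maximalIdeal R = ⊥ := by
  constructor
  · rintro ⟨r, hr⟩
    have hmem : ∀ a : R, a ∈ IsLocalRing.maximalIdeal R → ∃ n : ℕ, a ^ n * r = 0 := by
      intro a ha
      rw [← hr, Ideal.mem_radical_iff] at ha
      obtain ⟨n, hn⟩ := ha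
      rw [LinearMap.mem_ker, LinearMap.toSpanSingleton_apply, smul_eq_mul] at hn
      exact ⟨n, hn⟩
    have hunit : IsUnit r := by
      by_contra hnu
      have hrm : r ∈ IsLocalRing.maximalIdeal R := (IsLocalRing.mem_maximalIdeal r).mpr hnu
      obtain ⟨n, hn⟩ := hmem r hrm
      have h0 : r = 0 := by
        have h1 : r ^ (n + 1) = 0 := by rw [pow_succ]; exact hn
        exact IsNilpotent.eq_zero ⟨n + 1, h1⟩
      have h2 : (1 : R) ∈ IsLocalRing.maximalIdeal R := by
        rw [← hr]
        apply Ideal.le_radical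
        rw [LinearMap.mem_ker, LinearMap.toSpanSingleton_apply, h0, smul_zero]
      exact (Ideal.ne_top_iff_one _).mp (IsLocalRing.maximalIdeal.isMaximal R).ne_top h2
    rw [eq_bot_iff]
    intro a ha
    obtain ⟨n, hn⟩ := hmem a ha
    have h1 : a ^ n = 0 := (hunit.mul_left_eq_zero).mp hn
    exact (Ideal.mem_bot).mpr (IsNilpotent.eq_zero ⟨n, h1⟩)
  · intro hm
    refine ⟨1, ?_⟩
    have hker : LinearMap.ker (LinearMap.toSpanSingleton R R 1) = ⊥ := by
      rw [eq_bot_iff]
      intro a ha
      rw [LinearMap.mem_ker, LinearMap.toSpanSingleton_apply, smul_eq_mul, mul_one] at ha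
      exact (Submodule.mem_bot R).mpr ha
    rw [hker, hm]
    refine le_antisymm ?_ Ideal.le_radical
    intro a ha
    rw [Ideal.mem_radical_iff] at ha
    obtain ⟨n, hn⟩ := ha
    exact (Ideal.mem_bot).mpr (IsNilpotent.eq_zero ⟨n, (Ideal.mem_bot).mp hn⟩)

lemma maxIdeal_eq_bot_iff (X : Scheme.{u}) [IsReduced X] (x : X) :
    IsLocalRing.maximalIdeal (X.presheaf.stalk x) = ⊥ ↔ ∀ y : X, y ⤳ x → y = x := by
  constructor
  · intro hm y hy
    have hy' : y ∈ Set.range (X.fromSpecStalk x) := by
      rw [Scheme.range_fromSpecStalk]; exact hy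
    obtain ⟨P, rfl⟩ := hy'
    have hP : P = IsLocalRing.closedPoint (X.presheaf.stalk x) := by
      apply PrimeSpectrum.ext
      change P.asIdeal = IsLocalRing.maximalIdeal _
      have h1 : P.asIdeal ≤ IsLocalRing.maximalIdeal (X.presheaf.stalk x) :=
        IsLocalRing.le_maximalIdeal P.2.ne_top
      rw [hm] at h1 ⊢
      exact le_bot_iff.mp h1
    rw [hP]
    exact Scheme.fromSpecStalk_closedPoint
  · intro h
    have hall : ∀ P : PrimeSpectrum (X.presheaf.stalk x),
        P.asIdeal = IsLocalRing.maximalIdeal (X.presheaf.stalk x) := by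
      intro P
      have h0 : X.fromSpecStalk x P ∈ Set.range (X.fromSpecStalk x) := ⟨P, rfl⟩
      rw [Scheme.range_fromSpecStalk] at h0
      have h1 : X.fromSpecStalk x P = x := h _ h0
      have h2 : X.fromSpecStalk x P =
          X.fromSpecStalk x (IsLocalRing.closedPoint (X.presheaf.stalk x)) :=
        h1.trans Scheme.fromSpecStalk_closedPoint.symm
      have h3 := (X.fromSpecStalk x).isEmbedding.injective h2
      rw [h3]
      rfl
    rw [eq_bot_iff]
    intro a ha
    have h1 : a ∈ nilradical (X.presheaf.stalk x) := by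
      rw [nilradical_eq_sInf, Ideal.mem_sInf]
      intro J hJ
      have h2 := hall ⟨J, hJ⟩
      change J = _ at h2
      rw [h2]
      exact ha
    rw [nilradical_eq_zero] at h1
    exact h1

/-- Assume X is a reduced scheme and x is a point of X. Then x is weakly associated to the structure
sheaf O_X exactly when every generization of x equals x itself; equivalently, x is a generic point
of some irreducible component of X. -/
theorem result (X : Scheme.{u}) [IsReduced X] (x : ↥X) :
    Curv2.IsWeakAssPoint (Coh.structureModule X) x ↔ ∀ y : ↥X, y ⤳ x → y = x := by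
  rw [← maxIdeal_eq_bot_iff X x, ← weak_iff_ring (R := X.presheaf.stalk x)]
  constructor
  · rintro ⟨m, hm⟩
    refine ⟨(Groth.Agent.Lib.helper9.UnitStalk.unitStalkEquiv x).symm m, Eq.trans ?_ hm⟩
    rw [← ker_toSpanSingleton_equiv (Groth.Agent.Lib.helper9.UnitStalk.unitStalkEquiv x)
      ((Groth.Agent.Lib.helper9.UnitStalk.unitStalkEquiv x).symm m),
      LinearEquiv.apply_symm_apply]
  · rintro ⟨r, hr⟩
    refine ⟨Groth.Agent.Lib.helper9.UnitStalk.unitStalkEquiv x r, Eq.trans ?_ hr⟩
    rw [ker_toSpanSingleton_equiv (Groth.Agent.Lib.helper9.UnitStalk.unitStalkEquiv x) r]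

end Groth.Agent.S8869
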