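import Groth.Statements.S5097
-- import your own Groth.Agent.* helpers here

set_option autoImplicit false
universe u
open CategoryTheory CategoryTheory.Limits AlgebraicGeometry TopologicalSpace
open Mero

namespace Groth.Agent.S5097

/-- Injectivity of the canonical homomorphism from divisors to invertible fractional ideals: let X be a
scheme and D, D' two divisors on X such that, over every open subset U, a section t of the sheaf of
meromorphic functions lies in O_X(D) (t_x · g ∈ O_{X,x} for a representative g of the germ of D at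
x, for all x in U) if and only if it lies in O_X(D'). Then D = D'. -/
theorem result (X : Scheme.{u}) (D D' : Mero.Divisor X)
    (h : ∀ (U : X.Opens) (t : Γ(Mero.kmod X, U)),
      (∀ x : ↥U, Mero.DivCond D x.1 (t.1 x)) ↔ (∀ x : ↥U, Mero.DivCond D' x.1 (t.1 x))) :
    D = D' := by
  classical
  -- key lemma: criterion for DivCond given a representative
  have key : ∀ (E : Mero.Divisor X) (y : ↥X) (a : (KStalk X y)ˣ) (t : KStalk X y),
      E.1 y = QuotientGroup.mk a →
      (Mero.DivCond E y t ↔ t * a ∈ (algebraMap (X.presheaf.stalk y) (KStalk X y)).range) := by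
    intro E y a t ha
    constructor
    · intro hE
      exact hE a ha
    · intro hta g hg
      have h1 : (QuotientGroup.mk a : Germ X y) = QuotientGroup.mk g := ha.symm.trans hg
      rw [QuotientGroup.eq] at h1
      obtain ⟨u, hu⟩ := h1
      have h2 : (g : KStalk X y) = a * algebraMap (X.presheaf.stalk y) (KStalk X y) u := by
        have := congrArg (fun z : (KStalk X y)ˣ => (z : KStalk X y)) hu
        simp only [Units.val_mul] at this
        have h3 : ((Units.map (algebraMap (X.presheaf.stalk y) (KStalk X y)).toMonoidHom u : (KStalk X y)ˣ) : KStalk X y)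
            = algebraMap (X.presheaf.stalk y) (KStalk X y) u := rfl
        rw [h3] at this
        rw [this, ← mul_assoc, ← Units.val_mul, mul_inv_cancel, Units.val_one, one_mul]
      rw [h2, ← mul_assoc]
      exact mul_mem hta ⟨u, rfl⟩
  apply Subtype.ext
  funext x
  obtain ⟨U, hxU, f, hf⟩ := D.2 x
  obtain ⟨U', hxU', f', hf'⟩ := D'.2 x
  let V : X.Opens := U ⊓ U'
  have hxV : x ∈ V := Opens.mem_inf.mpr ⟨hxU, hxU'⟩
  let fV : (Γ(kmod X, V))ˣ :=
    Units.map ((kring X).obj.map (homOfLE (inf_le_left : U ⊓ U' ≤ U)).op).hom.toMonoidHom f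
  let fV' : (Γ(kmod X, V))ˣ :=
    Units.map ((kring X).obj.map (homOfLE (inf_le_right : U ⊓ U' ≤ U')).op).hom.toMonoidHom f'
  -- pointwise units
  let a : ∀ y : V, (KStalk X y.1)ˣ := fun y => Units.map (evalK X V y).toMonoidHom fV
  let a' : ∀ y : V, (KStalk X y.1)ˣ := fun y => Units.map (evalK X V y).toMonoidHom fV'
  have hDa : ∀ y : V, D.1 y.1 = QuotientGroup.mk (a y) := by
    intro y
    rw [hf ⟨y.1, (Opens.mem_inf.mp y.2).1⟩]
    exact congrArg _ (Units.ext rfl)
  have hDa' : ∀ y : V, D'.1 y.1 = QuotientGroup.mk (a' y) := by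
    intro y
    rw [hf' ⟨y.1, (Opens.mem_inf.mp y.2).2⟩]
    exact congrArg _ (Units.ext rfl)
  have hinv : ∀ y : V, ((↑(fV⁻¹) : Γ(kmod X, V))).1 y = ((a y)⁻¹ : (KStalk X y.1)ˣ) := fun y => rfl
  have hinv' : ∀ y : V, ((↑(fV'⁻¹) : Γ(kmod X, V))).1 y = ((a' y)⁻¹ : (KStalk X y.1)ˣ) := fun y => rfl
  -- first direction
  have h1 : ∀ y : V, Mero.DivCond D y.1 ((↑(fV⁻¹) : Γ(kmod X, V)).1 y) := by
    intro y
    rw [key D y.1 (a y) _ (hDa y), hinv y, ← Units.val_mul, inv_mul_cancel, Units.val_one]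
    exact one_mem _
  have h2 := (h V (↑(fV⁻¹) : Γ(kmod X, V))).mp h1 ⟨x, hxV⟩
  rw [key D' x (a' ⟨x, hxV⟩) _ (hDa' ⟨x, hxV⟩), hinv ⟨x, hxV⟩] at h2
  have h1' : ∀ y : V, Mero.DivCond D' y.1 ((↑(fV'⁻¹) : Γ(kmod X, V)).1 y) := by
    intro y
    rw [key D' y.1 (a' y) _ (hDa' y), hinv' y, ← Units.val_mul, inv_mul_cancel, Units.val_one]
    exact one_mem _
  have h2' := (h V (↑(fV'⁻¹) : Γ(kmod X, V))).mpr h1' ⟨x, hxV⟩
  rw [key D x (a ⟨x, hxV⟩) _ (hDa ⟨x, hxV⟩), hinv' ⟨x, hxV⟩] at h2'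
  obtain ⟨r, hr⟩ := h2
  obtain ⟨s, hs⟩ := h2'
  have hrs : r * s = 1 := by
    apply algebraMap_KStalk_injective x
    rw [map_mul, map_one]
    change algebraMap _ _ r * algebraMap _ _ s = 1
    rw [hr, hs, ← Units.val_mul, ← Units.val_mul, ← Units.val_mul]
    simp
  have hD : D.1 x = QuotientGroup.mk (a ⟨x, hxV⟩) := hDa ⟨x, hxV⟩
  have hD' : D'.1 x = QuotientGroup.mk (a' ⟨x, hxV⟩) := hDa' ⟨x, hxV⟩
  rw [hD, hD', QuotientGroup.eq]
  refine ⟨⟨r, s, hrs, by rw [mul_comm]; exact hrs⟩, ?_⟩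
  apply Units.ext
  change algebraMap _ _ r = _
  rw [hr, Units.val_mul]

end Groth.Agent.S5097
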