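import Groth.Statements.S5104
import Groth.Agent.Lib.helper11.HomGlue

set_option autoImplicit false
universe u
open CategoryTheory CategoryTheory.Limits AlgebraicGeometry TopologicalSpace
open Rat20

namespace Groth.Agent.S5104

/-- In a space with locally finitely many irreducible components, every point has an open
neighbourhood all of whose nonempty open subsets contain a generisation of the point. -/
theorem exists_nhd_generic {X : Scheme.{u}} (x : X)
    (hfin : ∃ W : X.Opens, x ∈ W ∧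
      {Z : Set ↥X | Z ∈ irreducibleComponents ↥X ∧ (Z ∩ (W : Set ↥X)).Nonempty}.Finite) :
    ∃ V : X.Opens, x ∈ V ∧ ∀ O : Set X, IsOpen O → O ⊆ V → O.Nonempty → ∃ η ∈ O, η ⤳ x := by
  obtain ⟨W, hxW, hF⟩ := hfin
  let F' : Set (Set X) := {Z | (Z ∈ irreducibleComponents ↥X ∧ (Z ∩ (W : Set ↥X)).Nonempty) ∧ x ∉ Z}
  have hF' : F'.Finite := hF.subset (fun Z hZ => hZ.1)
  let C : Set X := ⋃ Z ∈ F', Z
  have hC : IsClosed C := hF'.isClosed_biUnion
    (fun Z hZ => isClosed_of_mem_irreducibleComponents Z hZ.1.1)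
  have hxC : x ∉ C := by
    intro hx
    obtain ⟨Z, hZ, hxZ⟩ := Set.mem_iUnion₂.mp hx
    exact hZ.2 hxZ
  refine ⟨W ⊓ ⟨Cᶜ, hC.isOpen_compl⟩, ⟨hxW, hxC⟩, ?_⟩
  intro O hO hOV ⟨y, hy⟩
  have hyW : y ∈ (W : Set X) := (hOV hy).1
  have hyC : y ∉ C := (hOV hy).2
  let Z := irreducibleComponent y
  have hZ : Z ∈ irreducibleComponents X := irreducibleComponent_mem_irreducibleComponents y
  have hyZ : y ∈ Z := mem_irreducibleComponent
  have hxZ : x ∈ Z := by
    by_contra hxZ
    exact hyC (Set.mem_iUnion₂.mpr ⟨Z, ⟨⟨hZ, ⟨y, hyZ, hyW⟩⟩, hxZ⟩, hyZ⟩)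
  have hZirr : IsIrreducible Z := hZ.1
  have hZcl : IsClosed Z := isClosed_of_mem_irreducibleComponents Z hZ
  have hη := hZirr.isGenericPoint_genericPoint hZcl
  refine ⟨hZirr.genericPoint, ?_, ?_⟩
  · exact (hη.mem_open_set_iff hO).mpr ⟨y, hyZ, hy⟩
  · exact hη.specializes hxZ

/-- Let X be an S-scheme which is locally Noetherian, or reduced with locally finite set of irreducible
components; let Y be separated and locally of finite presentation over S, U a schematically dense
open subset of X, h : U → Y an S-morphism (a pseudo-S-morphism ω of X into Y) and x a point of X.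
Then ω is defined at x — some S-morphism from an open neighbourhood V of x to Y agrees with h on U ∩
V — if and only if the restriction of ω to Spec O_{X,x} is everywhere defined — some S-morphism Spec
O_{X,x} → Y agrees with h after pulling back to Spec O_{X,x} ×_X U. (The published statement does
not assume Y separated over S and compares morphisms only on some schematically dense open; this row
assumes Y separated over S, where the two readings agree.) -/
theorem result {X Y S : Scheme.{u}} (pX : X ⟶ S) (pY : Y ⟶ S)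
    [IsSeparated pY] [LocallyOfFinitePresentation pY]
    (hX : IsLocallyNoetherian X ∨ (IsReduced X ∧ ∀ x : ↥X, ∃ W : X.Opens, x ∈ W ∧
      {Z : Set ↥X | Z ∈ irreducibleComponents ↥X ∧ (Z ∩ (W : Set ↥X)).Nonempty}.Finite))
    (U : X.Opens) (hU : CInt.IsSchematicallyDense U) (h : (U : Scheme.{u}) ⟶ Y) (hh : h ≫ pY = U.ι ≫ pX)
    (x : ↥X) :
    (∃ (V : X.Opens) (v : (V : Scheme.{u}) ⟶ Y), x ∈ V ∧ v ≫ pY = V.ι ≫ pX ∧
        X.homOfLE (inf_le_right : U ⊓ V ≤ V) ≫ v = X.homOfLE (inf_le_left : U ⊓ V ≤ U) ≫ h) ↔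
      ∃ w : Spec (X.presheaf.stalk x) ⟶ Y, w ≫ pY = X.fromSpecStalk x ≫ pX ∧
        pullback.fst (X.fromSpecStalk x) U.ι ≫ w = pullback.snd (X.fromSpecStalk x) U.ι ≫ h := by
  -- the comparison map `Spec 𝒪_x ×_X U ⟶ U ∩ V`
  have key : ∀ (V : X.Opens) (hxV : x ∈ V),
      ∃ l : pullback (X.fromSpecStalk x) U.ι ⟶ ((U ⊓ V : X.Opens) : Scheme.{u}),
        l ≫ X.homOfLE (inf_le_left : U ⊓ V ≤ U) = pullback.snd (X.fromSpecStalk x) U.ι ∧
        l ≫ X.homOfLE (inf_le_right : U ⊓ V ≤ V) =
          pullback.fst (X.fromSpecStalk x) U.ι ≫ V.fromSpecStalkOfMem x hxV := by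
    intro V hxV
    have hc : pullback.snd (X.fromSpecStalk x) U.ι ≫ U.ι =
        (pullback.fst (X.fromSpecStalk x) U.ι ≫ V.fromSpecStalkOfMem x hxV) ≫ V.ι := by
      rw [Category.assoc, Scheme.Opens.fromSpecStalkOfMem_ι, pullback.condition]
    exact ⟨(isPullback_opens_inf U V).lift _ _ hc, (isPullback_opens_inf U V).lift_fst _ _ hc,
      (isPullback_opens_inf U V).lift_snd _ _ hc⟩
  constructor
  · rintro ⟨V, v, hxV, hv, hvh⟩
    obtain ⟨l, hl1, hl2⟩ := key V hxV
    refine ⟨V.fromSpecStalkOfMem x hxV ≫ v, ?_, ?_⟩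
    · rw [Category.assoc, hv, Scheme.Opens.fromSpecStalkOfMem_ι_assoc]
    · rw [← Category.assoc, ← hl2, Category.assoc, hvh, ← Category.assoc, hl1]
  · rintro ⟨w, hw, hwh⟩
    obtain ⟨V₀, hxV₀, hV₀, v₀, hv₀1, hv₀2⟩ :=
      Groth.Agent.Lib.helper11.HomGlue.exists_spread pX pY x w hw
    rcases hX with hX | ⟨hred, hfin⟩
    · -- Noetherian case
      haveI : QuasiCompact U.ι := inferInstance
      have hag : pullback.snd (X.fromSpecStalk x) U.ι ≫ h =
          pullback.fst (X.fromSpecStalk x) U.ι ≫ V₀.fromSpecStalkOfMem x hxV₀ ≫ v₀ := by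
        rw [hv₀1]; exact hwh.symm
      obtain ⟨W, hxW, hWV₀, hagree⟩ := Groth.Agent.Lib.helper11.HomGlue.exists_agree pX pY x U V₀
        hV₀ hxV₀ h v₀ hh hv₀2 hag
      refine ⟨W, X.homOfLE hWV₀ ≫ v₀, hxW, ?_, ?_⟩
      · rw [Category.assoc, hv₀2, Scheme.homOfLE_ι_assoc]
      · let e : ((U ⊓ W : X.Opens) : Scheme.{u}) ⟶ pullback W.ι U.ι :=
          pullback.lift (X.homOfLE inf_le_right) (X.homOfLE inf_le_left) (by simp)
        have he1 : e ≫ pullback.fst W.ι U.ι = X.homOfLE inf_le_right := pullback.lift_fst _ _ _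
        have he2 : e ≫ pullback.snd W.ι U.ι = X.homOfLE inf_le_left := pullback.lift_snd _ _ _
        rw [← he1, ← he2, Category.assoc, Category.assoc, hagree]
    · -- reduced case
      obtain ⟨V₁, hxV₁, hV₁⟩ := exists_nhd_generic x (hfin x)
      let V : X.Opens := V₀ ⊓ V₁
      have hxV : x ∈ V := ⟨hxV₀, hxV₁⟩
      have hVV₀ : V ≤ V₀ := inf_le_left
      obtain ⟨l, hl1, hl2⟩ := key V hxV
      refine ⟨V, X.homOfLE hVV₀ ≫ v₀, hxV, ?_, ?_⟩
      · rw [Category.assoc, hv₀2, Scheme.homOfLE_ι_assoc]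
      · haveI : IsDominant l := by
          refine ⟨?_⟩
          rw [DenseRange, dense_iff_inter_open]
          intro O' hO' hO'ne
          let O : Set X := (U ⊓ V).ι '' O'
          have hO : IsOpen O := (U ⊓ V).ι.isOpenEmbedding.isOpenMap _ hO'
          have hOV : O ⊆ V₁ := by
            rintro _ ⟨z, hz, rfl⟩
            exact z.2.2.2
          obtain ⟨η, ⟨z, hz, hzη⟩, hηx⟩ := hV₁ O hO hOV (hO'ne.image _)
          have : η ∈ Set.range (X.fromSpecStalk x) := by
            rw [Scheme.range_fromSpecStalk]; exact hηx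
          obtain ⟨a, ha⟩ := this
          have hzU : z.1 ∈ U := z.2.1
          let u : (U : Scheme.{u}) := ⟨z.1, hzU⟩
          have hau : X.fromSpecStalk x a = U.ι u := by
            rw [ha, ← hzη]; rfl
          obtain ⟨p, hp1, hp2⟩ := Scheme.Pullback.exists_preimage_pullback a u hau
          refine ⟨z, hz, p, ?_⟩
          apply (U ⊓ V).ι.isOpenEmbedding.injective
          have : l ≫ (U ⊓ V).ι = pullback.snd (X.fromSpecStalk x) U.ι ≫ U.ι := by
            rw [← hl1, Category.assoc, Scheme.homOfLE_ι]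
          rw [← Scheme.Hom.comp_apply, this, Scheme.Hom.comp_apply, hp2]
          rfl
        haveI : IsReduced ((U ⊓ V : X.Opens) : Scheme.{u}) := inferInstance
        refine ext_of_isDominant_of_isSeparated pY ?_ l ?_
        · simp only [Category.assoc]
          rw [hv₀2, hh, Scheme.homOfLE_ι_assoc, Scheme.homOfLE_ι_assoc, Scheme.homOfLE_ι_assoc]
        · have hfs : V.fromSpecStalkOfMem x hxV ≫ X.homOfLE hVV₀ = V₀.fromSpecStalkOfMem x hxV₀ := by
            rw [← cancel_mono V₀.ι, Category.assoc, Scheme.homOfLE_ι,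
              Scheme.Opens.fromSpecStalkOfMem_ι, Scheme.Opens.fromSpecStalkOfMem_ι]
          rw [reassoc_of% hl1, reassoc_of% hl2, ← hwh, ← hv₀1, reassoc_of% hfs]

end Groth.Agent.S5104
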