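import Groth.Statements.S5110
import Groth.Agent.Lib.helper11.MaxPts

set_option autoImplicit false
universe u
open CategoryTheory CategoryTheory.Limits AlgebraicGeometry TopologicalSpace

namespace Groth.Agent.S5110

open Groth.Agent.Lib.helper11.MaxPts in
/-- Let (S_i) be a cofiltered system of schemes with affine transition morphisms and S its limit, such
that every S_i has finitely many maximal points and the transition morphisms send maximal points to
maximal points; let S_{i₀} be quasi-compact and V₀ an open subset of S_{i₀}, with inverse images V_i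
in the S_i over i₀ and V in S. If V₀ is dense in S_{i₀} then every V_i and V are dense. Conversely,
if V is dense in S and S has only finitely many maximal points, then V_i is dense in S_i for some i
over i₀. -/
theorem result {I : Type u} [SmallCategory I] [IsCofiltered I]
    (D : I ⥤ Scheme.{u}) (c : Limits.Cone D) (hc : Limits.IsLimit c)
    [∀ (i j : I) (g : i ⟶ j), IsAffineHom (D.map g)]
    (hfin : ∀ i : I, {s : ↥(D.obj i) | ∀ z : ↥(D.obj i), z ⤳ s → z = s}.Finite)
    (hsys : ∀ (i j : I) (g : i ⟶ j) (s : ↥(D.obj i)), (∀ z : ↥(D.obj i), z ⤳ s → z = s) →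
      ∀ z : ↥(D.obj j), z ⤳ D.map g s → z = D.map g s)
    (i₀ : I) [CompactSpace ↥(D.obj i₀)] (V₀ : (D.obj i₀).Opens) :
    (Dense (V₀ : Set ↥(D.obj i₀)) →
        (∀ (i : I) (g : i ⟶ i₀), Dense (((D.map g) ⁻¹ᵁ V₀ : (D.obj i).Opens) : Set ↥(D.obj i))) ∧
          Dense (((c.π.app i₀) ⁻¹ᵁ V₀ : c.pt.Opens) : Set ↥c.pt)) ∧
      (Dense (((c.π.app i₀) ⁻¹ᵁ V₀ : c.pt.Opens) : Set ↥c.pt) →
        {s : ↥c.pt | ∀ z : ↥c.pt, z ⤳ s → z = s}.Finite →
          ∃ (i : I) (g : i ⟶ i₀), Dense (((D.map g) ⁻¹ᵁ V₀ : (D.obj i).Opens) : Set ↥(D.obj i))) := by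
  haveI : ∀ {i j : I} (f : i ⟶ j), IsAffineHom (D.map f) := fun f => inferInstance
  constructor
  · intro hV₀
    have hM₀ : ∀ η : D.obj i₀, Groth.Agent.Lib.helper11.MaxPts.IsMax η → η ∈ V₀ := fun η hη =>
      max_mem_of_dense (hfin i₀) V₀ V₀.2 hV₀ η hη
    constructor
    · intro i g
      apply dense_of_max_subset
      intro η hη
      exact hM₀ _ (hsys i i₀ g η hη)
    · apply dense_of_max_subset
      intro η hη
      exact hM₀ _ (isMax_π D c hc hfin hsys η hη i₀)
  · intro hV hMfin
    by_contra hcon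
    push Not at hcon
    let D' : Over i₀ ⥤ Scheme := Over.forget i₀ ⋙ D
    let c' : Cone D' := c.whisker (Over.forget i₀)
    have hc' : IsLimit c' := (Functor.Initial.isLimitWhiskerEquiv (Over.forget i₀) c).symm hc
    haveI : ∀ {i j : Over i₀} (f : i ⟶ j), IsAffineHom (D'.map f) := fun f => by
      dsimp [D']; infer_instance
    obtain ⟨s, hs⟩ := exists_point D' c' hc' (fun j => hfin j.left)
      (fun i j g s hs => hsys i.left j.left g.left s hs)
      (fun j => {m | D.map j.hom m ∉ V₀})
      (fun i j g m _ hm => by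
        show D.map j.hom (D.map g.left m) ∉ V₀
        rw [← Groth.Agent.Lib.helper7.Lim8.map_comp_apply, Over.w g]
        exact hm)
      (fun j => by
        by_contra hno
        push Not at hno
        exact hcon j.left j.hom (dense_of_max_subset _ (fun η hη => by
          by_contra h
          exact hno η hη h)))
    have hsmax : Groth.Agent.Lib.helper11.MaxPts.IsMax s := isMax_of_forall D' c' hc' s (fun j => (hs j).1)
    have hsV : s ∈ ((c.π.app i₀) ⁻¹ᵁ V₀ : c.pt.Opens) :=
      max_mem_of_dense hMfin _ ((c.π.app i₀) ⁻¹ᵁ V₀).2 hV s hsmax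
    have h2 := (hs (Over.mk (𝟙 i₀))).2
    have h3 : D.map (𝟙 i₀) (c.π.app i₀ s) ∉ V₀ := h2
    rw [Groth.Agent.Lib.helper7.Lim8.π_app_apply] at h3
    exact h3 hsV

end Groth.Agent.S5110
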