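import Groth.Statements.S5118
import Mathlib

set_option autoImplicit false
universe u
open SGA1t

namespace Groth.Agent.S5118

theorem key {A : Type u} {B : Type u} [CommRing A] [CommRing B] [Algebra A B]
    [Algebra.FormallyUnramified A B] (x : B) (n : ℕ) (hxn : x ^ n = 1)
    (hgen : ∀ (T : Type u) [CommRing T] [Algebra A T] (y : T), y ^ n = 1 →
      ∃ g : B →ₐ[A] T, g x = y)
    (hext : ∀ (T : Type u) [CommRing T] [Algebra A T] (g₁ g₂ : B →ₐ[A] T), g₁ x = g₂ x → g₁ = g₂) :
    IsUnit ((n : B) * x ^ (n - 1)) := by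
  set d : B := (n : B) * x ^ (n - 1) with hd
  have hyn : (TrivSqZeroExt.inl (Ideal.Quotient.mk (Ideal.span {d}) x) + DualNumber.eps :
      DualNumber (B ⧸ Ideal.span {d})) ^ n = 1 := by
    refine TrivSqZeroExt.ext ?_ ?_
    · rw [TrivSqZeroExt.fst_pow, TrivSqZeroExt.fst_add, TrivSqZeroExt.fst_inl, DualNumber.fst_eps,
        add_zero, TrivSqZeroExt.fst_one, ← map_pow, hxn, map_one]
    · rw [TrivSqZeroExt.snd_pow, TrivSqZeroExt.fst_add, TrivSqZeroExt.fst_inl, DualNumber.fst_eps,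
        add_zero, TrivSqZeroExt.snd_add, TrivSqZeroExt.snd_inl, DualNumber.snd_eps, zero_add,
        TrivSqZeroExt.snd_one, smul_eq_mul, mul_one, nsmul_eq_mul, ← map_pow,
        ← map_natCast (Ideal.Quotient.mk (Ideal.span {d})), ← map_mul,
        Ideal.Quotient.eq_zero_iff_mem]
      exact Ideal.mem_span_singleton_self d
  obtain ⟨g₂, hg₂⟩ := hgen _ _ hyn
  let g₁ : B →ₐ[A] DualNumber (B ⧸ Ideal.span {d}) :=
    (TrivSqZeroExt.inlAlgHom A (B ⧸ Ideal.span {d}) (B ⧸ Ideal.span {d})).comp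
      (Ideal.Quotient.mkₐ A (Ideal.span {d}))
  have hker : IsNilpotent (RingHom.ker (TrivSqZeroExt.fstHom (B ⧸ Ideal.span {d}) (B ⧸ Ideal.span {d})
      (B ⧸ Ideal.span {d}) : DualNumber (B ⧸ Ideal.span {d}) →+* (B ⧸ Ideal.span {d}))) :=
    ⟨2, TrivSqZeroExt.kerIdeal_sq (B ⧸ Ideal.span {d}) (B ⧸ Ideal.span {d})⟩
  have hcomp : (TrivSqZeroExt.fstHom A (B ⧸ Ideal.span {d}) (B ⧸ Ideal.span {d})).comp g₁ =
      (TrivSqZeroExt.fstHom A (B ⧸ Ideal.span {d}) (B ⧸ Ideal.span {d})).comp g₂ := by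
    apply hext
    simp [g₁, hg₂]
  have heq : g₁ = g₂ := Algebra.FormallyUnramified.ext' _ hker g₁ g₂
    (fun b => AlgHom.congr_fun hcomp b)
  have hsnd : (g₁ x).snd = (g₂ x).snd := by rw [heq]
  have h01 : (0 : B ⧸ Ideal.span {d}) = 1 := by
    simpa [g₁, hg₂] using hsnd
  have h1mem : (1 : B) ∈ Ideal.span {d} := by
    rw [← Ideal.Quotient.eq_zero_iff_mem, map_one]
    exact h01.symm
  rw [← Ideal.span_singleton_eq_top, Ideal.eq_top_iff_one]
  exact h1mem


open Polynomial in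
/-- The etaleness criterion for the Kummer group scheme: Let A be a commutative ring and n ≥ 1. The
group scheme μ_n over Spec A is the spectrum of A[t]/(t^n − 1), a free A-module of rank n; it is
etale over A if and only if n is a unit of A (equivalently, n is prime to the characteristic of the
residue field at every point of Spec A). -/
theorem result (A : Type u) [CommRing A] (n : ℕ) (hn : 1 ≤ n) :
    Algebra.Etale A (AdjoinRoot ((X : A[X]) ^ n - 1)) ↔ IsUnit ((n : ℕ) : A) := by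
  classical
  have hmonic : ((X : A[X]) ^ n - 1).Monic :=
    Polynomial.monic_X_pow_sub_C (1 : A) (by omega)
  have hev : ∀ {T : Type u} [CommRing T] (φ : A →+* T) (y : T),
      ((X : A[X]) ^ n - 1).eval₂ φ y = y ^ n - 1 := by
    intro T _ φ y
    rw [Polynomial.eval₂_sub, Polynomial.eval₂_pow, Polynomial.eval₂_X, Polynomial.eval₂_one]
  constructor
  · intro het
    have hxn : (AdjoinRoot.root ((X : A[X]) ^ n - 1)) ^ n = 1 := by
      have := AdjoinRoot.eval₂_root ((X : A[X]) ^ n - 1)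
      rw [hev, sub_eq_zero] at this
      exact this
    have hdunit := key (A := A) (AdjoinRoot.root ((X : A[X]) ^ n - 1)) n hxn
      (fun T _ _ y hy => ⟨AdjoinRoot.liftAlgHom _ (Algebra.ofId A T) y
        (by rw [show ((Algebra.ofId A T : A →ₐ[A] T) : A →+* T) = algebraMap A T from rfl, hev,
          hy, sub_self]), AdjoinRoot.liftAlgHom_root _ _ _ _⟩)
      (fun T _ _ g₁ g₂ h => AdjoinRoot.algHom_ext h)
    have hnB : IsUnit ((n : ℕ) : AdjoinRoot ((X : A[X]) ^ n - 1)) :=
      isUnit_of_mul_isUnit_left hdunit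
    have h1 : ((X : A[X]) ^ n - 1).eval₂ (Algebra.ofId A A : A →+* A) 1 = 0 := by
      rw [hev, one_pow, sub_self]
    have := hnB.map (AdjoinRoot.liftAlgHom _ (Algebra.ofId A A) 1 h1)
    rwa [map_natCast] at this
  · intro hunit
    obtain ⟨u, hu⟩ := hunit
    have hcond : ∃ p₁ p₂ k, Polynomial.derivative ((X : A[X]) ^ n - 1) * p₁ +
        ((X : A[X]) ^ n - 1) * p₂ = (1 : A[X]) ^ k := by
      refine ⟨Polynomial.C (↑u⁻¹ : A) * X, -1, 1, ?_⟩
      rw [Polynomial.derivative_sub, Polynomial.derivative_X_pow, Polynomial.derivative_one,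
        sub_zero, pow_one]
      have hX : (X : A[X]) ^ (n - 1) * X = X ^ n := by
        rw [← pow_succ, Nat.sub_add_cancel hn]
      have hC : (Polynomial.C (n : A) : A[X]) * Polynomial.C (↑u⁻¹ : A) = 1 := by
        rw [← Polynomial.C_mul, ← hu, Units.mul_inv, Polynomial.C_1]
      have : Polynomial.C (n : A) * (X : A[X]) ^ (n - 1) * (Polynomial.C (↑u⁻¹ : A) * X)
          = X ^ n := by
        calc _ = (Polynomial.C (n : A) * Polynomial.C (↑u⁻¹ : A)) * (X ^ (n - 1) * X) := by ring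
          _ = X ^ n := by rw [hC, hX, one_mul]
      rw [this]
      ring
    let P : StandardEtalePair A := ⟨(X : A[X]) ^ n - 1, hmonic, 1, hcond⟩
    have hg : AdjoinRoot.mk P.f P.g = 1 := map_one _
    let e₁ : P.Ring ≃ₐ[A] Localization.Away (AdjoinRoot.mk P.f P.g) := P.equivAwayAdjoinRoot
    have hle : Submonoid.powers (AdjoinRoot.mk P.f P.g) ≤
        IsUnit.submonoid (AdjoinRoot ((X : A[X]) ^ n - 1)) := by
      rw [hg]
      rintro _ ⟨k, rfl⟩
      simp
    let e₂ : AdjoinRoot ((X : A[X]) ^ n - 1) ≃ₐ[A] Localization.Away (AdjoinRoot.mk P.f P.g) :=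
      (IsLocalization.atUnits (AdjoinRoot ((X : A[X]) ^ n - 1))
        (Submonoid.powers (AdjoinRoot.mk P.f P.g))
        (S := Localization.Away (AdjoinRoot.mk P.f P.g)) hle).restrictScalars A
    exact Algebra.Etale.of_equiv (e₁.trans e₂.symm)

end Groth.Agent.S5118
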