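import Groth.Statements.S5119
import Mathlib

set_option autoImplicit false
universe u
open scoped LaurentPolynomial
open SGA1t

namespace Groth.Agent.S5119

open AddMonoidAlgebra in
lemma coeff_u (A : Type u) [CommRing A] (n : ℕ) (hn : 1 ≤ n) (c : A[T;T⁻¹]) (m : ℤ) :
    ((AddMonoidAlgebra.mapDomainRingHom A (AddMonoidHom.mulLeft (n : ℤ)) : A[T;T⁻¹] →+* A[T;T⁻¹]) c).coeff
      ((n : ℤ) * m) = c.coeff m := by
  have hinj : Function.Injective (fun m : ℤ => (n : ℤ) * m) := by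
    intro a b h
    have hn' : (n : ℤ) ≠ 0 := by positivity
    exact mul_left_cancel₀ hn' h
  show (Finsupp.mapDomain (fun m : ℤ => (n : ℤ) * m) c.coeff) ((n : ℤ) * m) = c.coeff m
  exact Finsupp.mapDomain_apply hinj c.coeff m

open AddMonoidAlgebra in
lemma coeff_u_of_not_dvd (A : Type u) [CommRing A] (n : ℕ) (c : A[T;T⁻¹]) (k : ℤ)
    (hk : ¬ (n : ℤ) ∣ k) :
    ((AddMonoidAlgebra.mapDomainRingHom A (AddMonoidHom.mulLeft (n : ℤ)) : A[T;T⁻¹] →+* A[T;T⁻¹]) c).coeff
      k = 0 := by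
  show (Finsupp.mapDomain (fun m : ℤ => (n : ℤ) * m) c.coeff) k = 0
  apply Finsupp.mapDomain_of_notMem_range
  rintro ⟨m, rfl⟩
  exact hk (dvd_mul_right _ _)

lemma key (A : Type u) [CommRing A] (n : ℕ) (hn : 1 ≤ n) (c : Fin n → A[T;T⁻¹]) (i : Fin n) (m : ℤ) :
    (∑ j : Fin n, (AddMonoidAlgebra.mapDomainRingHom A (AddMonoidHom.mulLeft (n : ℤ)) :
      A[T;T⁻¹] →+* A[T;T⁻¹]) (c j) * LaurentPolynomial.T (j : ℤ)).coeff ((n : ℤ) * m + i) =
      (c i).coeff m := by
  rw [AddMonoidAlgebra.coeff_sum, Finsupp.finsetSum_apply, Finset.sum_eq_single i]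
  · rw [LaurentPolynomial.T, AddMonoidAlgebra.coeff_mul_single_apply, mul_one]
    have : (n : ℤ) * m + (i : ℤ) + -((i : ℕ) : ℤ) = (n : ℤ) * m := by ring
    rw [this, coeff_u A n hn]
  · intro j _ hj
    rw [LaurentPolynomial.T, AddMonoidAlgebra.coeff_mul_single_apply, mul_one]
    apply coeff_u_of_not_dvd
    intro hdvd
    apply hj
    have h1 : (n : ℤ) ∣ ((i : ℕ) : ℤ) - ((j : ℕ) : ℤ) := by
      have : (n : ℤ) * m + (i : ℤ) + -((j : ℕ) : ℤ) = (n : ℤ) * m + (((i : ℕ) : ℤ) - ((j : ℕ) : ℤ)) := by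
        ring
      rw [this] at hdvd
      exact (dvd_add_right (dvd_mul_right _ _)).mp hdvd
    have hi := i.2
    have hj' := j.2
    have h2 : ((i : ℕ) : ℤ) - ((j : ℕ) : ℤ) = 0 := by
      apply Int.eq_zero_of_abs_lt_dvd h1
      rw [abs_lt]
      constructor <;> omega
    ext
    omega
  · intro h; exact absurd (Finset.mem_univ i) h

/-- The computation behind the exactness of the Kummer sequence 0 → μ_n → G_m → G_m → 0, i.e. faithful
flatness of the n-th power map u_n of G_m: Let A be a commutative ring and n ≥ 1, and let u_n be the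
ring endomorphism of A[t, t⁻¹] with u_n(t) = t^n (on monomials, t^k ↦ t^{nk}). Then A[t, t⁻¹] is
free of rank n over itself via u_n, with basis 1, t, …, t^{n−1}: every Laurent polynomial q can be
written in exactly one way as Σ_{i<n} u_n(c_i) t^i. -/
theorem result (A : Type u) [CommRing A] (n : ℕ) (hn : 1 ≤ n) (q : A[T;T⁻¹]) :
    ∃! c : Fin n → A[T;T⁻¹],
      q = ∑ i : Fin n, (AddMonoidAlgebra.mapDomainRingHom A (AddMonoidHom.mulLeft (n : ℤ)) : A[T;T⁻¹] →+* A[T;T⁻¹]) (c i) *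
        LaurentPolynomial.T (i : ℤ) := by
  have hinj : ∀ i : Fin n, Function.Injective (fun m : ℤ => (n : ℤ) * m + (i : ℤ)) := by
    intro i a b h
    have hn' : (n : ℤ) ≠ 0 := by positivity
    have h' : (n : ℤ) * a = (n : ℤ) * b := by simpa using h
    exact mul_left_cancel₀ hn' h'
  let c : Fin n → A[T;T⁻¹] := fun i =>
    AddMonoidAlgebra.ofCoeff (Finsupp.comapDomain (fun m : ℤ => (n : ℤ) * m + (i : ℤ)) q.coeff
      (hinj i).injOn)
  have hc : ∀ (i : Fin n) (m : ℤ), (c i).coeff m = q.coeff ((n : ℤ) * m + (i : ℤ)) := by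
    intro i m
    exact Finsupp.comapDomain_apply _ _ _ _
  have hdecomp : ∀ k : ℤ, ∃ (i : Fin n) (m : ℤ), k = (n : ℤ) * m + (i : ℤ) := by
    intro k
    have hn' : (0 : ℤ) < n := by positivity
    have h1 := Int.emod_nonneg k hn'.ne'
    have h2 := Int.emod_lt_of_pos k hn'
    refine ⟨⟨(k % n).toNat, by omega⟩, k / n, ?_⟩
    have h3 := Int.mul_ediv_add_emod k n
    have h4 : (((k % (n : ℤ)).toNat : ℕ) : ℤ) = k % n := Int.toNat_of_nonneg h1
    simp only [h4]
    omega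
  refine ⟨c, ?_, ?_⟩
  · apply AddMonoidAlgebra.coeff_injective
    ext k
    obtain ⟨i, m, rfl⟩ := hdecomp k
    rw [key A n hn c i m, hc]
  · intro c' hc'
    funext i
    apply AddMonoidAlgebra.coeff_injective
    ext m
    rw [hc, hc', key A n hn c' i m]

end Groth.Agent.S5119
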