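import Groth.Statements.S5120
import Mathlib

set_option autoImplicit false
universe u
open SGA1t

namespace Groth.Agent.S5120

open Polynomial in
/-- The computation behind the exactness of the Artin-Schreier sequence 0 → Z/p → G_a → G_a → 0 in
characteristic p, i.e. faithful flatness of ℘ = id − F: Let p be a prime and A a ring of
characteristic p. Then A[t] is free of rank p over itself via the endomorphism t ↦ t − t^p, with
basis 1, t, …, t^{p−1}: every polynomial q can be written in exactly one way as Σ_{i<p} c_i(t − t^p)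
t^i. -/
theorem result (p : ℕ) [Fact p.Prime] (A : Type u) [CommRing A] [CharP A p]
    (q : A[X]) :
    ∃! c : Fin p → A[X], q = ∑ i : Fin p, aeval (X - X ^ p : A[X]) (c i) * X ^ (i : ℕ) := by
  have hnt : Nontrivial A := CharP.nontrivial_of_char_ne_one (R := A) (v := p) (Fact.out : p.Prime).ne_one
  let Y : A[X] := X
  let h : (A[X])[X] := X ^ p + (C Y - X)
  have hp2 : 2 ≤ p := (Fact.out : p.Prime).two_le
  have hdeg : (C Y - X : (A[X])[X]).degree < (p : WithBot ℕ) := by
    calc (C Y - X : (A[X])[X]).degree ≤ max (C Y : (A[X])[X]).degree (X : (A[X])[X]).degree :=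
          degree_sub_le _ _
      _ ≤ 1 := max_le (degree_C_le.trans zero_le_one) degree_X_le
      _ < (p : WithBot ℕ) := by exact_mod_cast hp2
  have hmonic : h.Monic := monic_X_pow_add hdeg
  have hnat : h.natDegree = p := by
    have : (X ^ p + (C Y - X) : (A[X])[X]).natDegree = ((X : (A[X])[X]) ^ p).natDegree :=
      natDegree_add_eq_left_of_degree_lt (by rw [degree_X_pow]; exact hdeg)
    rw [this, natDegree_X_pow]
  let g : A[X] := X - X ^ p
  let i : A[X] →+* A[X] := (aeval g : A[X] →ₐ[A] A[X]).toRingHom
  have heval : h.eval₂ i X = 0 := by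
    simp [h, i, g, Y]
  let φ : AdjoinRoot h →+* A[X] := AdjoinRoot.lift i X heval
  let ψ : A[X] →+* AdjoinRoot h := eval₂RingHom ((AdjoinRoot.of h).comp C) (AdjoinRoot.root h)
  have hφψ : ∀ q, φ (ψ q) = q := by
    intro q
    have : φ.comp ψ = RingHom.id _ := by
      apply Polynomial.ringHom_ext
      · intro a; simp [φ, ψ, i]
      · simp [φ, ψ]
    exact RingHom.congr_fun this q
  have hroot : AdjoinRoot.root h ^ p + (AdjoinRoot.of h Y - AdjoinRoot.root h) = 0 := by
    have := AdjoinRoot.eval₂_root h
    simpa [h] using this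
  have hψφof : (ψ.comp φ).comp (AdjoinRoot.of h) = AdjoinRoot.of h := by
    apply Polynomial.ringHom_ext
    · intro a; simp [φ, ψ, i]
    · simp only [RingHom.coe_comp, Function.comp_apply, φ, AdjoinRoot.lift_of, i]
      simp only [AlgHom.toRingHom_eq_coe, RingHom.coe_coe, aeval_X, g, map_sub, map_pow, ψ,
        coe_eval₂RingHom, eval₂_X]
      linear_combination (-1 : AdjoinRoot h) * hroot
  have hψφ : ∀ z, ψ (φ z) = z := by
    intro z
    have : (ψ.comp φ).comp (AdjoinRoot.mk h) = AdjoinRoot.mk h := by
      apply Polynomial.ringHom_ext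
      · intro r
        have := RingHom.congr_fun hψφof r
        simpa using this
      · simp [φ, ψ]
    obtain ⟨f, rfl⟩ := AdjoinRoot.mk_surjective z
    exact RingHom.congr_fun this f
  let b : Module.Basis (Fin p) (A[X]) (AdjoinRoot h) :=
    (AdjoinRoot.powerBasis' hmonic).basis.reindex
      (finCongr (by rw [AdjoinRoot.powerBasis'_dim, hnat]))
  have hb : ∀ j : Fin p, b j = AdjoinRoot.root h ^ (j : ℕ) := by
    intro j
    simp [b, PowerBasis.coe_basis]
  have key : ∀ c : Fin p → A[X],
      φ (b.equivFun.symm c) = ∑ j : Fin p, aeval g (c j) * X ^ (j : ℕ) := by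
    intro c
    rw [Module.Basis.equivFun_symm_apply, map_sum]
    refine Finset.sum_congr rfl fun j _ => ?_
    rw [hb, Algebra.smul_def, map_mul, map_pow]
    simp [φ, i]
  have hφbij : Function.Bijective φ :=
    ⟨Function.LeftInverse.injective hψφ, Function.RightInverse.surjective hφψ⟩
  have hbij : Function.Bijective (fun c : Fin p → A[X] => φ (b.equivFun.symm c)) :=
    hφbij.comp b.equivFun.symm.bijective
  obtain ⟨c, hc, huniq⟩ := hbij.existsUnique q
  refine ⟨c, hc.symm.trans (key c), ?_⟩
  intro c' hc'
  exact huniq c' ((key c').trans hc'.symm)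

end Groth.Agent.S5120
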