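import Groth.Statements.S5132
import Mathlib

set_option autoImplicit false
open CategoryTheory AlgebraicGeometry
universe u
open SGA1

namespace Groth.Agent.S5132

/-- Quasi-compactness of a morphism descends along a surjective and quasi-compact base change; flatness
of the base change is not needed for this property. -/
theorem result :
    MorphismProperty.DescendsAlong @QuasiCompact (@Surjective ⊓ @QuasiCompact : MorphismProperty Scheme.{u}) := by
  constructor
  intro A X Y Z fst snd f g h hf hfst
  obtain ⟨hf1, hf2⟩ := hf
  have hf1' : Surjective f := hf1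
  have hf2' : QuasiCompact f := hf2
  have hfst' : QuasiCompact fst := hfst
  have hsnd : Surjective snd := MorphismProperty.of_isPullback (P := @Surjective) h hf1
  constructor
  intro U hU hUc
  have h1 : IsCompact (f ⁻¹' U) :=
    (quasiCompact_iff_isSpectralMap.mp hf2').isCompact_preimage_of_isOpen hU hUc
  have h2 : IsCompact (fst ⁻¹' (f ⁻¹' U)) :=
    (quasiCompact_iff_isSpectralMap.mp hfst').isCompact_preimage_of_isOpen
      (hU.preimage f.continuous) h1
  have h3 : snd '' (fst ⁻¹' (f ⁻¹' U)) = g ⁻¹' U := by
    ext y
    constructor
    · rintro ⟨a, ha, rfl⟩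
      have : (fst ≫ f) a = (snd ≫ g) a := by rw [h.w]
      simpa using this ▸ ha
    · intro hy
      obtain ⟨a, rfl⟩ := hsnd.surj y
      refine ⟨a, ?_, rfl⟩
      have : (fst ≫ f) a = (snd ≫ g) a := by rw [h.w]
      simpa using this ▸ hy
  rw [← h3]
  exact h2.image snd.continuous

end Groth.Agent.S5132
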