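import Groth.Statements.S5133
import Mathlib
-- import your own Groth.Agent.* helpers here

set_option autoImplicit false
open CategoryTheory CategoryTheory.Limits AlgebraicGeometry
universe u
open SGA1

namespace Groth.Agent.S5133

open CategoryTheory CategoryTheory.Limits AlgebraicGeometry Opposite TopologicalSpace

namespace H5S5133

/-- affine-affine case: points in the closure of the image of a closed set are specializations. -/
lemma spec_of_mem_closure_affine {X Y : Scheme.{u}} (f : X ⟶ Y) (U : X.Opens) (V : Y.Opens)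
    (hU : IsAffineOpen U) (hV : IsAffineOpen V) (hUV : U ≤ f ⁻¹ᵁ V) (Z : Set X) (hZ : IsClosed Z)
    (y : Y) (hy : y ∈ V) (hyc : y ∈ closure (f.base '' (Z ∩ U))) :
    ∃ z ∈ Z, f.base z ⤳ y := by
  let φ := f.appLE V U hUV
  have hsq : Spec.map φ ≫ hV.fromSpec = hU.fromSpec ≫ f := IsAffineOpen.SpecMap_appLE_fromSpec f hV hU hUV
  have hsq' : ∀ P, hV.fromSpec.base ((Spec.map φ).base P) = f.base (hU.fromSpec.base P) := by
    intro P
    rw [← Scheme.Hom.comp_apply, hsq, Scheme.Hom.comp_apply]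
  -- the closed set Z' in Spec A
  let Z' : Set (PrimeSpectrum Γ(X, U)) := hU.fromSpec.base ⁻¹' Z
  have hZ' : IsClosed Z' := hZ.preimage hU.fromSpec.continuous
  obtain ⟨I, hI⟩ := (PrimeSpectrum.isClosed_iff_zeroLocus_ideal Z').mp hZ'
  obtain ⟨q, rfl⟩ : ∃ q, hV.fromSpec.base q = y := by
    have : y ∈ Set.range hV.fromSpec.base := by rw [hV.range_fromSpec]; exact hy
    exact this
  have himg : f.base '' (Z ∩ U) = hV.fromSpec.base '' ((Spec.map φ).base '' Z') := by
    ext w
    constructor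
    · rintro ⟨x, ⟨hxZ, hxU⟩, rfl⟩
      have : x ∈ Set.range hU.fromSpec.base := by rw [hU.range_fromSpec]; exact hxU
      obtain ⟨P, rfl⟩ := this
      exact ⟨_, ⟨P, hxZ, rfl⟩, hsq' P⟩
    · rintro ⟨_, ⟨P, hP, rfl⟩, rfl⟩
      refine ⟨hU.fromSpec.base P, ⟨hP, ?_⟩, (hsq' P).symm⟩
      rw [← hU.range_fromSpec]; exact ⟨P, rfl⟩
  have hq : q ∈ closure ((Spec.map φ).base '' Z') := by
    have hind : Topology.IsInducing hV.fromSpec.base := hV.fromSpec.isOpenEmbedding.isInducing
    rw [hind.closure_eq_preimage_closure_image]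
    rw [himg] at hyc
    exact hyc
  rw [hI] at hq
  have hq' : q ∈ closure (PrimeSpectrum.comap φ.hom '' PrimeSpectrum.zeroLocus (I : Set Γ(X, U))) := hq
  rw [PrimeSpectrum.closure_image_comap_zeroLocus] at hq'
  have hq'' : I.comap φ.hom ≤ q.asIdeal := hq'
  obtain ⟨p₀, hp₀, hp₀q⟩ := Ideal.exists_minimalPrimes_le hq''
  obtain ⟨P, hP, hPI, hPc⟩ := Ideal.exists_comap_eq_of_mem_minimalPrimes φ.hom p₀ hp₀
  let P' : PrimeSpectrum Γ(X, U) := ⟨P, hP⟩
  have hP'Z : P' ∈ Z' := by
    rw [hI]; exact hPI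
  refine ⟨hU.fromSpec.base P', hP'Z, ?_⟩
  rw [← hsq']
  apply Specializes.map _ hV.fromSpec.continuous
  have hle : PrimeSpectrum.comap φ.hom P' ≤ (q : PrimeSpectrum Γ(Y, V)) := by
    change P.comap φ.hom ≤ q.asIdeal
    rw [hPc]; exact hp₀q
  exact (PrimeSpectrum.le_iff_specializes _ _).mp hle


/-- for a quasi-compact morphism, points in the closure of the image of a closed set are
specializations of points of the image. -/
lemma spec_of_mem_closure {X Y : Scheme.{u}} (f : X ⟶ Y) [QuasiCompact f] (Z : Set X)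
    (hZ : IsClosed Z) (y : Y) (hyc : y ∈ closure (f.base '' Z)) : ∃ z ∈ Z, f.base z ⤳ y := by
  obtain ⟨V, hV, hyV, -⟩ := Opens.isBasis_iff_nbhd.mp Y.isBasis_affineOpens
    (show y ∈ (⊤ : Y.Opens) from trivial)
  have hK : IsCompact (f ⁻¹ᵁ V : Set X) := f.isCompact_preimage hV.isCompact
  obtain ⟨s, hs, hsU⟩ := isCompact_iff_finite_and_eq_biUnion_affineOpens.mp hK
  have h1 : y ∈ closure ((V : Set Y) ∩ f.base '' Z) := V.isOpen.inter_closure ⟨hyV, hyc⟩
  have h2 : (V : Set Y) ∩ f.base '' Z ⊆ ⋃ i ∈ s, f.base '' (Z ∩ (i : X.Opens)) := by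
    rintro _ ⟨hwV, x, hxZ, rfl⟩
    have hx : x ∈ f ⁻¹ᵁ V := hwV
    rw [hsU] at hx
    simp only [Opens.mem_iSup] at hx
    obtain ⟨i, hi, hxi⟩ := hx
    simp only [Set.mem_iUnion]
    exact ⟨i, hi, x, ⟨hxZ, hxi⟩, rfl⟩
  have h3 := closure_mono h2 h1
  rw [hs.closure_biUnion] at h3
  simp only [Set.mem_iUnion] at h3
  obtain ⟨i, hi, hyi⟩ := h3
  have hiV : (i : X.Opens) ≤ f ⁻¹ᵁ V := by
    rw [hsU]
    exact le_iSup₂ (f := fun (j : X.affineOpens) (_ : j ∈ s) => (j : X.Opens)) i hi
  exact spec_of_mem_closure_affine f i V i.2 hV hiV Z hZ y hyV hyi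

theorem main {X Y Y' : Scheme.{u}} (f : X ⟶ Y)
    (g : Y' ⟶ Y) [QuasiCompact f] [Flat g] [Surjective g]
    (h : Topology.IsEmbedding (pullback.snd f g).base) : Topology.IsEmbedding f.base := by
  have hinj : Function.Injective f.base := by
    intro x₁ x₂ hx
    obtain ⟨y', hy'⟩ := g.surjective (f.base x₁)
    obtain ⟨z₁, hz₁, hz₁'⟩ := Scheme.Pullback.exists_preimage_pullback (f := f) (g := g) x₁ y' hy'.symm
    obtain ⟨z₂, hz₂, hz₂'⟩ := Scheme.Pullback.exists_preimage_pullback (f := f) (g := g) x₂ y'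
      (hx ▸ hy'.symm)
    have : z₁ = z₂ := h.injective (hz₁'.trans hz₂'.symm)
    rw [← hz₁, ← hz₂, this]
  refine ⟨⟨?_⟩, hinj⟩
  apply TopologicalSpace.ext_isClosed
  intro Z
  rw [isClosed_induced_iff]
  constructor
  · intro hZ
    refine ⟨closure (f.base '' Z), isClosed_closure, ?_⟩
    apply Set.Subset.antisymm
    · intro x hx
      obtain ⟨z, hzZ, hzx⟩ := spec_of_mem_closure f Z hZ (f.base x) hx
      obtain ⟨y', hy'⟩ := g.surjective (f.base x)
      have hgen : GeneralizingMap g.base := Flat.generalizingMap g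
      obtain ⟨y'', hy''s, hy''⟩ := hgen (hy'.symm ▸ hzx : f.base z ⤳ g.base y')
      obtain ⟨z'', hz''1, hz''2⟩ := Scheme.Pullback.exists_preimage_pullback (f := f) (g := g) z y''
        hy''.symm
      obtain ⟨x', hx'1, hx'2⟩ := Scheme.Pullback.exists_preimage_pullback (f := f) (g := g) x y'
        hy'.symm
      have hZ' : IsClosed ((pullback.fst f g).base ⁻¹' Z) := hZ.preimage (pullback.fst f g).continuous
      obtain ⟨C', hC', hC'eq⟩ := h.isInducing.isClosed_iff.mp hZ'
      have hz''Z : z'' ∈ (pullback.fst f g).base ⁻¹' Z := by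
        change (pullback.fst f g).base z'' ∈ Z
        rw [hz''1]; exact hzZ
      rw [← hC'eq] at hz''Z
      have hy''C : y'' ∈ C' := by rw [← hz''2]; exact hz''Z
      have hy'C : y' ∈ C' := hy''s.mem_closed hC' hy''C
      have hx'Z : x' ∈ (pullback.fst f g).base ⁻¹' Z := by
        rw [← hC'eq]
        change (pullback.snd f g).base x' ∈ C'
        rw [hx'2]; exact hy'C
      have : (pullback.fst f g).base x' ∈ Z := hx'Z
      rwa [hx'1] at this
    · intro x hx
      exact subset_closure ⟨x, hx, rfl⟩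
  · rintro ⟨C, hC, rfl⟩
    exact hC.preimage f.continuous

end H5S5133

/-- For a quasi-compact morphism f : X ⟶ Y and a flat surjective base change g : Y' ⟶ Y, with no
quasi-compactness asked of g, if the base change of f along g is a homeomorphism onto its image then
f is a homeomorphism onto its image. -/
theorem result {X Y Y' : Scheme.{u}} (f : X ⟶ Y)
    (g : Y' ⟶ Y) [QuasiCompact f] [Flat g] [Surjective g]
    (h : Topology.IsEmbedding (pullback.snd f g).base) : Topology.IsEmbedding f.base := by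
  exact H5S5133.main f g h

end Groth.Agent.S5133
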