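import Groth.Statements.S5135
import Mathlib

set_option autoImplicit false
universe u
open scoped TensorProduct
open SGA1

namespace Groth.Agent.S5135
open TensorProduct

section helpers



theorem flat_part (A A' : Type u) [CommRing A] [CommRing A'] [Algebra A A']
    [Module.Flat A A'] (M : Type u) [AddCommGroup M] [Module A M] (NA : Submodule A (A' ⊗[A] M))
    (x : A' ⊗[A] M)
    (hx : (NA.mkQ.lTensor A') (((TensorProduct.mk A A' M 1).lTensor A') x) = 0) :
    x ∈ (NA.comap (TensorProduct.mk A A' M 1)).baseChange A' := by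
  have hex0 : Function.Exact (NA.comap (TensorProduct.mk A A' M 1)).subtype
      (NA.mkQ ∘ₗ TensorProduct.mk A A' M 1) := by
    rw [LinearMap.exact_iff, LinearMap.ker_comp, Submodule.ker_mkQ, Submodule.range_subtype]
  have hex := Module.Flat.lTensor_exact A' hex0
  have key : ((NA.mkQ ∘ₗ TensorProduct.mk A A' M 1).lTensor A') x = 0 := by
    rw [LinearMap.lTensor_comp, LinearMap.comp_apply]
    exact hx
  obtain ⟨w, hw⟩ := (hex x).1 key
  exact ⟨w, hw⟩

theorem rex_part (A A' : Type u) [CommRing A] [CommRing A'] [Algebra A A']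
    (P : Type u) [AddCommGroup P] [Module A P] (NA : Submodule A P)
    (z : A' ⊗[A] P) (hz : z ∈ LinearMap.range (NA.subtype.lTensor A')) :
    (NA.mkQ.lTensor A') z = 0 := by
  have hex2 : Function.Exact (NA.subtype.lTensor A') (NA.mkQ.lTensor A') :=
    lTensor_exact A' (LinearMap.exact_subtype_mkQ NA) (Submodule.mkQ_surjective NA)
  exact (hex2 z).2 hz



end helpers

/-- The affine case, in submodule form (descent of submodules, equivalently of quotient modules): for A
⟶ A' faithfully flat, M an A-module and N' an A'-submodule of A' ⊗ M whose two extensions to (A' ⊗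
A') ⊗ M, along a ↦ a ⊗ 1 and a ↦ 1 ⊗ a, generate the same submodule, N' is the base change of the
submodule of M formed by the elements m with 1 ⊗ m in N'. -/
theorem result (A A' : Type u) [CommRing A] [CommRing A'] [Algebra A A']
    [Module.FaithfullyFlat A A'] (M : Type u) [AddCommGroup M] [Module A M] (N' : Submodule A' (A' ⊗[A] M))
    (h : Submodule.span (A' ⊗[A] A')
          ((N'.restrictScalars A).map
            ((Algebra.TensorProduct.includeLeft : A' →ₐ[A] A' ⊗[A] A').toLinearMap.rTensor M) : Set ((A' ⊗[A] A') ⊗[A] M)) =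
        Submodule.span (A' ⊗[A] A')
          ((N'.restrictScalars A).map
            ((Algebra.TensorProduct.includeRight : A' →ₐ[A] A' ⊗[A] A').toLinearMap.rTensor M) : Set ((A' ⊗[A] A') ⊗[A] M))) :
    ((N'.restrictScalars A).comap (TensorProduct.mk A A' M 1)).baseChange A' = N' := by
  apply le_antisymm
  · rw [Submodule.baseChange_eq_span, Submodule.span_le]
    rintro _ ⟨n, hn, rfl⟩
    exact hn
  · intro x hx
    apply flat_part
    let σ : A' ⊗[A] M →ₗ[A] A' ⊗[A] (A' ⊗[A] M) := (TensorProduct.mk A A' M 1).lTensor A'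
    let α : A' ⊗[A] (A' ⊗[A] M) ≃ₗ[A] (A' ⊗[A] A') ⊗[A] M := (TensorProduct.assoc A A' A' M).symm
    let j₁ : A' ⊗[A] M →ₗ[A] (A' ⊗[A] A') ⊗[A] M :=
      (Algebra.TensorProduct.includeLeft : A' →ₐ[A] A' ⊗[A] A').toLinearMap.rTensor M
    let j₂ : A' ⊗[A] M →ₗ[A] (A' ⊗[A] A') ⊗[A] M :=
      (Algebra.TensorProduct.includeRight : A' →ₐ[A] A' ⊗[A] A').toLinearMap.rTensor M
    have F1 : ∀ p : A' ⊗[A] M, α (σ p) = j₁ p := by
      intro p
      induction p using TensorProduct.induction_on with
      | zero => simp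
      | tmul a m => simp [α, σ, j₁]
      | add p q hp hq => simp only [map_add, hp, hq]
    have F2 : ∀ p : A' ⊗[A] M, α ((1 : A') ⊗ₜ[A] p) = j₂ p := by
      intro p
      induction p using TensorProduct.induction_on with
      | zero => simp
      | tmul a m => simp [α, j₂]
      | add p q hp hq => simp only [map_add, tmul_add, hp, hq]
    have F3 : ∀ (a₁ a₂ c : A') (p : A' ⊗[A] M),
        (a₁ ⊗ₜ[A] a₂ : A' ⊗[A] A') • α (c ⊗ₜ[A] p) = α ((a₁ * c) ⊗ₜ[A] (a₂ • p)) := by
      intro a₁ a₂ c p
      induction p using TensorProduct.induction_on with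
      | zero => simp
      | tmul d m => simp [α, smul_tmul']
      | add p q hp hq => simp only [map_add, tmul_add, smul_add, hp, hq]
    let Z : Submodule A ((A' ⊗[A] A') ⊗[A] M) :=
      (LinearMap.range ((N'.restrictScalars A).subtype.lTensor A')).map α.toLinearMap
    have hZ_smul : ∀ (b : A' ⊗[A] A') (y : (A' ⊗[A] A') ⊗[A] M), y ∈ Z → b • y ∈ Z := by
      intro b y hy
      induction b using TensorProduct.induction_on with
      | zero => rw [zero_smul]; exact Z.zero_mem
      | add b b' hb hb' => rw [add_smul]; exact Z.add_mem hb hb'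
      | tmul a₁ a₂ =>
        obtain ⟨z, ⟨w, rfl⟩, rfl⟩ := hy
        induction w using TensorProduct.induction_on with
        | zero => simp only [map_zero, smul_zero]; exact Z.zero_mem
        | add w w' hw hw' => simp only [map_add, smul_add]; exact Z.add_mem hw hw'
        | tmul c n =>
          refine ⟨(a₁ * c) ⊗ₜ[A] (a₂ • (n : A' ⊗[A] M)),
            ⟨(a₁ * c) ⊗ₜ[A] ⟨a₂ • (n : A' ⊗[A] M), N'.smul_mem a₂ n.2⟩, rfl⟩, ?_⟩
          exact (F3 a₁ a₂ c (n : A' ⊗[A] M)).symm
    have hspan : ∀ y ∈ Submodule.span (A' ⊗[A] A')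
        ((N'.restrictScalars A).map j₂ : Set ((A' ⊗[A] A') ⊗[A] M)), y ∈ Z := by
      intro y hy
      induction hy using Submodule.span_induction with
      | mem y hy =>
        obtain ⟨n, hn, rfl⟩ := hy
        refine ⟨(1 : A') ⊗ₜ[A] n, ⟨(1 : A') ⊗ₜ[A] ⟨n, hn⟩, rfl⟩, F2 n⟩
      | zero => exact Z.zero_mem
      | add y y' _ _ hy hy' => exact Z.add_mem hy hy'
      | smul b y _ hy => exact hZ_smul b y hy
    have h1 : j₁ x ∈ Submodule.span (A' ⊗[A] A')
        ((N'.restrictScalars A).map j₁ : Set ((A' ⊗[A] A') ⊗[A] M)) :=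
      Submodule.subset_span ⟨x, hx, rfl⟩
    rw [h] at h1
    obtain ⟨z, hz, hz'⟩ := hspan _ h1
    have hzσ : z = σ x := α.injective (hz'.trans (F1 x).symm)
    show ((N'.restrictScalars A).mkQ.lTensor A') (σ x) = 0
    rw [← hzσ]
    exact rex_part A A' _ _ z hz

end Groth.Agent.S5135
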