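import Groth.Statements.S5138
import Mathlib
import Groth.Agent.Lib.helper22.EtaleFlatSch
import Groth.Agent.Lib.helper11.EtStalk

set_option autoImplicit false
open CategoryTheory AlgebraicGeometry
universe u
open SGA1

namespace Groth.Agent.S5138

section Helpers

open CategoryTheory CategoryTheory.Limits AlgebraicGeometry

theorem mem_etaleLocus_iff {P Q : Scheme.{u}} (h : P ⟶ Q) (p : P) :
    p ∈ Pi1X.etaleLocus h ↔ ∃ U : P.Opens, p ∈ U ∧ Etale (U.ι ≫ h) := by
  unfold Pi1X.etaleLocus
  rw [TopologicalSpace.Opens.mem_sSup]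
  constructor
  · rintro ⟨U, hU, hp⟩
    exact ⟨U, hp, hU⟩
  · rintro ⟨U, hp, hU⟩
    exact ⟨U, hU, hp⟩

theorem main {X X' Y : Scheme.{u}} (f : X ⟶ X') (g : X' ⟶ Y) [IsLocallyNoetherian Y]
    [LocallyOfFiniteType f] [LocallyOfFiniteType g] (x : X)
    (hf : x ∈ Pi1X.etaleLocus f) (hfg : x ∈ Pi1X.etaleLocus (f ≫ g)) :
    f.base x ∈ Pi1X.etaleLocus g := by
  haveI : IsLocallyNoetherian X' := LocallyOfFiniteType.isLocallyNoetherian g
  haveI : LocallyOfFinitePresentation g := inferInstance
  haveI : LocallyOfFinitePresentation f := inferInstance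
  haveI : LocallyOfFinitePresentation (f ≫ g) := inferInstance
  rw [mem_etaleLocus_iff, Groth.Agent.H22.EtaleFlat.exists_etale_nbhd_iff] at hf hfg
  show f x ∈ Pi1X.etaleLocus g
  rw [mem_etaleLocus_iff, Groth.Agent.H22.EtaleFlat.exists_etale_nbhd_iff]
  exact ⟨Groth.Agent.Lib.helper11.EtStalk.flat_stalkMap_of_flat_of_comp f g x hf.1 hfg.1,
    Groth.Agent.Lib.helper11.EtStalk.formallyUnramified_stalkMap_of_flat_of_comp f g x hf.1 hfg.2⟩

end Helpers

/-- For X ⟶ X' ⟶ Y locally of finite type over a locally Noetherian Y and a point x of X, if X ⟶ X' and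
the composite X ⟶ Y are both etale near x then X' ⟶ Y is etale near the image of x; 'etale near a
point' is membership in the etale locus, the union of the opens on which the morphism is etale. (The
published statement takes the morphisms of finite type; quasi-compactness plays no role in this
assertion about single points, so only local finiteness is assumed.) -/
theorem result {X X' Y : Scheme.{u}} (f : X ⟶ X') (g : X' ⟶ Y)
    [IsLocallyNoetherian Y] [LocallyOfFiniteType f] [LocallyOfFiniteType g] (x : X)
    (hf : x ∈ Pi1X.etaleLocus f) (hfg : x ∈ Pi1X.etaleLocus (f ≫ g)) : f.base x ∈ Pi1X.etaleLocus g := by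
  exact main f g x hf hfg

end Groth.Agent.S5138
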