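import Mathlib.Tactic
import Groth.Agent.Lib.helper10.EquivCore
import Groth.Statements.S5140

set_option autoImplicit false
open CategoryTheory
universe u v u₂ v₂
open FibCat

namespace Groth.Agent.S5140

/-- If the structure functor of 𝒳 is transportable (isomorphisms of C lift to isomorphisms of 𝒳 with any
prescribed source over their source), then a functor 𝒳 ⟶ 𝒴 over C whose underlying functor is an
equivalence of categories is an equivalence over C. -/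
theorem result {C : Type u} [Category.{v} C]
    {𝒳 𝒴 : BasedCategory.{v₂, u₂} C}
    (h𝒳 : ∀ ⦃T S : C⦄ (α : T ≅ S) (ξ : 𝒳.obj), 𝒳.p.obj ξ = T →
      ∃ (ξ' : 𝒳.obj) (e : ξ ≅ ξ'), 𝒳.p.IsHomLift α.hom e.hom)
    (F : 𝒳 ⥤ᵇ 𝒴) [F.toFunctor.IsEquivalence] : FibCat.IsEquivOver F := by
  apply Groth.Agent.Lib.helper10.EquivCore.isEquivOver F
  intro y
  obtain ⟨x, ⟨i⟩⟩ := Functor.EssSurj.mem_essImage (F := F.toFunctor) y
  have hx : 𝒴.p.obj (F.obj x) = 𝒳.p.obj x := F.w_obj x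
  let f : 𝒳.p.obj x ≅ 𝒴.p.obj y := (eqToIso hx.symm) ≪≫ 𝒴.p.mapIso i
  have hi : 𝒴.p.IsHomLift f.hom i.hom := IsHomLift.of_fac 𝒴.p f.hom i.hom hx rfl (by simp [f])
  obtain ⟨ξ', e, he⟩ := h𝒳 f x rfl
  have he' : 𝒳.p.IsHomLift f.inv e.inv := IsHomLift.inv_lift_inv 𝒳.p f e
  have hFe : 𝒴.p.IsHomLift f.inv (F.map e.inv) := inferInstance
  refine ⟨ξ', (F.toFunctor.mapIso e).symm ≪≫ i, ?_⟩
  have : 𝒴.p.IsHomLift (f.inv ≫ f.hom) (F.map e.inv ≫ i.hom) := inferInstance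
  rw [Iso.inv_hom_id] at this
  simpa using this

end Groth.Agent.S5140
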