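import Mathlib.Tactic
import Groth.Agent.Lib.helper10.EquivOver
import Groth.Statements.S5141

set_option autoImplicit false
open CategoryTheory
universe u v u₂ v₂
open FibCat

namespace Groth.Agent.S5141

/-- In the sharper form given by its proof: for an equivalence F : 𝒳 ⟶ 𝒴 over C, a morphism φ of 𝒳 is
cartesian (over its image in C) if and only if F φ is; in particular an equivalence over C is a
cartesian functor. -/
theorem result {C : Type u} [Category.{v} C]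
    {𝒳 𝒴 : BasedCategory.{v₂, u₂} C} (F : 𝒳 ⥤ᵇ 𝒴) (hF : FibCat.IsEquivOver F) {a b : 𝒳.obj} (φ : a ⟶ b) :
    𝒴.p.IsCartesian (𝒳.p.map φ) (F.toFunctor.map φ) ↔ 𝒳.p.IsCartesian (𝒳.p.map φ) φ := by
  have hE := Groth.Agent.Lib.helper10.EquivOver.isEquivalence F hF
  have hfull : F.toFunctor.Full := hE.full
  have hfaith : F.toFunctor.Faithful := hE.faithful
  constructor
  · intro hc
    refine { toIsHomLift := IsHomLift.map 𝒳.p φ, universal_property := ?_ }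
    intro c ψ hψ
    have hFψ : 𝒴.p.IsHomLift (𝒳.p.map φ) (F.map ψ) := inferInstance
    obtain ⟨χ', ⟨hχ'1, hχ'2⟩, hχ'u⟩ := hc.universal_property (F.map ψ)
    obtain ⟨χ, hχ⟩ := F.toFunctor.map_surjective χ'
    have hχl : 𝒳.p.IsHomLift (𝟙 (𝒳.p.obj a)) χ := by
      rw [← BasedFunctor.isHomLift_iff F]
      change 𝒴.p.IsHomLift (𝟙 (𝒳.p.obj a)) (F.toFunctor.map χ)
      rw [hχ]; exact hχ'1
    refine ⟨χ, ⟨hχl, ?_⟩, ?_⟩
    · apply F.toFunctor.map_injective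
      rw [Functor.map_comp, hχ]
      exact hχ'2
    · rintro χ₁ ⟨h1, h2⟩
      apply F.toFunctor.map_injective
      rw [hχ]
      apply hχ'u
      refine ⟨inferInstance, ?_⟩
      change F.toFunctor.map χ₁ ≫ F.toFunctor.map φ = F.toFunctor.map ψ
      rw [← Functor.map_comp, h2]
  · intro hc
    have hl : 𝒴.p.IsHomLift (𝒳.p.map φ) (F.map φ) := inferInstance
    refine { toIsHomLift := hl, universal_property := ?_ }
    intro c' ψ' hψ'
    obtain ⟨c, e, he⟩ := Groth.Agent.Lib.helper10.EquivOver.exists_iso F hF c'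
    have hc' : 𝒴.p.obj c' = 𝒳.p.obj a := IsHomLift.domain_eq 𝒴.p (𝒳.p.map φ) ψ'
    rw [hc'] at he
    have heinv : 𝒴.p.IsHomLift (𝟙 (𝒳.p.obj a)) e.inv := IsHomLift.lift_id_inv 𝒴.p _ e
    have hcomp : 𝒴.p.IsHomLift (𝒳.p.map φ) (e.hom ≫ ψ') :=
      IsHomLift.comp_lift_id_left' 𝒴.p (𝒳.p.obj a) e.hom (𝒳.p.map φ) ψ'
    obtain ⟨ψ, hψ⟩ := F.toFunctor.map_surjective (e.hom ≫ ψ')
    have hψl : 𝒳.p.IsHomLift (𝒳.p.map φ) ψ := by
      rw [← BasedFunctor.isHomLift_iff F]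
      change 𝒴.p.IsHomLift (𝒳.p.map φ) (F.toFunctor.map ψ)
      rw [hψ]; exact hcomp
    obtain ⟨χ, ⟨hχ1, hχ2⟩, hχu⟩ := hc.universal_property ψ
    have hFχ : 𝒴.p.IsHomLift (𝟙 (𝒳.p.obj a)) (F.map χ) := inferInstance
    refine ⟨e.inv ≫ F.map χ, ⟨inferInstance, ?_⟩, ?_⟩
    · change (e.inv ≫ F.toFunctor.map χ) ≫ F.toFunctor.map φ = ψ'
      rw [Category.assoc, ← Functor.map_comp, hχ2, hψ, Iso.inv_hom_id_assoc]
    · rintro χ'' ⟨h1, h2⟩
      have hl2 : 𝒴.p.IsHomLift (𝟙 (𝒳.p.obj a)) (e.hom ≫ χ'') := inferInstance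
      obtain ⟨χ₀, hχ₀⟩ := F.toFunctor.map_surjective (e.hom ≫ χ'')
      have hχ₀l : 𝒳.p.IsHomLift (𝟙 (𝒳.p.obj a)) χ₀ := by
        rw [← BasedFunctor.isHomLift_iff F]
        change 𝒴.p.IsHomLift (𝟙 (𝒳.p.obj a)) (F.toFunctor.map χ₀)
        rw [hχ₀]; exact hl2
      have e1 : χ₀ ≫ φ = ψ := by
        apply F.toFunctor.map_injective
        rw [Functor.map_comp, hχ₀, hψ, Category.assoc]
        change e.hom ≫ χ'' ≫ F.map φ = e.hom ≫ ψ'
        rw [h2]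
      have e2 : χ₀ = χ := hχu χ₀ ⟨hχ₀l, e1⟩
      rw [← e2]
      change χ'' = e.inv ≫ F.toFunctor.map χ₀
      rw [hχ₀, Iso.inv_hom_id_assoc]

end Groth.Agent.S5141
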