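import Groth.Statements.S5159
import Groth.Agent.Lib.helper8.LDualD
import Groth.Agent.Lib.helper8.CanonI
import Groth.Agent.Lib.helper5.SDim
import Groth.Agent.S0342

set_option autoImplicit false
universe u
open CategoryTheory Opposite
open Dual

namespace Groth.Agent.S5159

/-- Let A be a regular local ring of dimension n and M an A-module of finite length. Then Ext^i_A(M, A)
= 0 for i ≠ n and length Ext^n_A(M, A) = length M (the functor Ext^n_A(−, A) is dualizing). -/
theorem result (A : Type u) [CommRing A] [IsRegularLocalRing A] (n : ℕ) (hn : ringKrullDim A = n) (M : Type u) [AddCommGroup M] [Module A M] (hM : IsFiniteLength A M) : (∀ i : ℕ, i ≠ n → Subsingleton (((Ext A (ModuleCat.{u} A) i).obj (op (ModuleCat.of A M))).obj (ModuleCat.of A A))) ∧ Module.length A (((Ext A (ModuleCat.{u} A) n).obj (op (ModuleCat.of A M))).obj (ModuleCat.of A A)) = Module.length A M := by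
  haveI := Groth.Agent.S0342.result A
  haveI : IsNoetherianRing A := inferInstance
  obtain ⟨E, _, _, f, hf⟩ := Groth.Agent.Lib.helper1.InjHullLib.exists_injective_hull (R := A)
    (IsLocalRing.ResidueField A)
  have hNA := isFiniteLength_iff_isNoetherian_isArtinian.mp hM
  haveI : IsNoetherian A M := hNA.1
  haveI : IsArtinian A M := hNA.2
  haveI : Module.Finite A M := inferInstance
  have hsd : Module.supportDim A M ≤ 0 :=
    Groth.Agent.H5.SDim.supportDim_le_zero_iff.mpr (Groth.Agent.H5.SDim.allMax_of_isFiniteLength hM)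
  have hT := Groth.Agent.H8.Matlis.isPowerTorsion_of_isArtinian (R := A) M
  have htop : DRing.torsionSub (IsLocalRing.maximalIdeal A) M = ⊤ := by
    rw [eq_top_iff]
    intro y _
    exact hT y
  have e0 : LocCoh.H (IsLocalRing.maximalIdeal A) 0 M ≃ₗ[A] M :=
    (Groth.Agent.H21.LC.H0Equiv (IsLocalRing.maximalIdeal A) (ModuleCat.of A M)).trans
      (LinearEquiv.ofTop _ htop)
  have hinj := (Groth.Agent.H21.GorRing.depth_and_injdim A n hn).2
  refine ⟨fun i hi => ?_, ?_⟩
  · rcases lt_or_gt_of_ne hi with h | h
    · -- i < n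
      obtain ⟨e⟩ := Groth.Agent.H8.LDual.gorenstein_duality A n hn E f hf i h.le M
      have hv : Subsingleton (LocCoh.H (IsLocalRing.maximalIdeal A) (n - i) M) := by
        apply Groth.Agent.H8.CdDim.subsingleton_H_of_supportDim_lt
        refine lt_of_le_of_lt hsd ?_
        have : 0 < n - i := Nat.sub_pos_of_lt h
        exact_mod_cast this
      have hv' : Subsingleton ((((Ext A (ModuleCat.{u} A) i).obj (op (ModuleCat.of A M))).obj
          (ModuleCat.of A A)) →ₗ[A] E) := e.symm.toEquiv.subsingleton
      by_contra hne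
      rw [not_subsingleton_iff_nontrivial] at hne
      obtain ⟨x, hx⟩ := exists_ne (0 : (((Ext A (ModuleCat.{u} A) i).obj (op (ModuleCat.of A M))).obj
          (ModuleCat.of A A)))
      obtain ⟨g, hg⟩ := Groth.Agent.H8.Matlis.exists_hom_ne_zero f hf hx
      apply hg
      rw [Subsingleton.elim g 0]
      rfl
    · -- n < i
      have hz : Subsingleton (Abelian.Ext (ModuleCat.of A M) (ModuleCat.of A A) i) := by
        haveI := hinj
        exact HasInjectiveDimensionLT.subsingleton (ModuleCat.of A A) (n + 1) i (by omega) _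
      exact (Groth.Agent.H21.LC.oldNew (ModuleCat.of A M) (ModuleCat.of A A) i).toEquiv.subsingleton
  · obtain ⟨e⟩ := Groth.Agent.H8.LDual.gorenstein_duality A n hn E f hf n le_rfl M
    rw [Nat.sub_self] at e
    have e1 : M ≃ₗ[A] ((((Ext A (ModuleCat.{u} A) n).obj (op (ModuleCat.of A M))).obj
          (ModuleCat.of A A)) →ₗ[A] E) := e0.symm.trans e
    set X := (((Ext A (ModuleCat.{u} A) n).obj (op (ModuleCat.of A M))).obj (ModuleCat.of A A))
      with hX
    have hfl1 : IsFiniteLength A (X →ₗ[A] E) := e1.isFiniteLength hM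
    have hfl2 : IsFiniteLength A ((X →ₗ[A] E) →ₗ[A] E) := by
      rw [← Module.length_ne_top_iff, Groth.Agent.H8.Matlis.length_hom f hf _ hfl1,
        Module.length_ne_top_iff]
      exact hfl1
    have hinjev : Function.Injective (LinearMap.applyₗ : X →ₗ[A] (X →ₗ[A] E) →ₗ[A] E) := by
      rw [← LinearMap.ker_eq_bot, LinearMap.ker_eq_bot']
      intro x hx
      by_contra hne
      obtain ⟨g, hg⟩ := Groth.Agent.H8.Matlis.exists_hom_ne_zero f hf hne
      apply hg
      have := congrArg (fun φ => φ g) hx
      simpa using this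
    have hflX : IsFiniteLength A X := hfl2.of_injective hinjev
    rw [← Groth.Agent.H8.Matlis.length_hom f hf X hflX]
    exact (e1.length_eq).symm

end Groth.Agent.S5159
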