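import Groth.Statements.S5163
import Mathlib

set_option autoImplicit false
universe u
open LocCoh

namespace Groth.Agent.S5163

/-- For modules over a Noetherian ring. Let P be a finite A-module and H any A-module with Supp H ⊆ Supp
P. If Hom_A(P, H) = 0 then H = 0. (The published lemma is stated over an arbitrary prescheme; its
proof uses that a nonzero module has an associated prime, so the ring is taken Noetherian here.) -/
theorem result (A : Type u) [CommRing A] [IsNoetherianRing A] (P H : Type u) [AddCommGroup P] [Module A P] [Module.Finite A P] [AddCommGroup H] [Module A H] (hsupp : Module.support A H ⊆ Module.support A P) (hhom : Subsingleton (P →ₗ[A] H)) : Subsingleton H := by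
  classical
  by_contra hH
  rw [not_subsingleton_iff_nontrivial] at hH
  obtain ⟨p, hp⟩ := associatedPrimes.nonempty A H
  obtain ⟨hpprime, f, hf⟩ := (isAssociatedPrime_iff_exists_injective_linearMap p H).mp hp
  have hpH : (⟨p, hpprime⟩ : PrimeSpectrum A) ∈ Module.support A H := by
    rw [Module.mem_support_iff_exists_annihilator]
    refine ⟨f 1, ?_⟩
    intro a ha
    rw [Submodule.mem_annihilator_span_singleton] at ha
    have h1 : f (a • (1 : A ⧸ p)) = f 0 := by rw [map_smul, ha, map_zero]
    have h2 := hf h1
    rw [← Ideal.Quotient.eq_zero_iff_mem]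
    rw [Algebra.smul_def, mul_one] at h2
    exact h2
  have hpP := hsupp hpH
  rw [Module.mem_support_iff_nontrivial_residueField_tensorProduct] at hpP
  change Nontrivial (TensorProduct A p.ResidueField P) at hpP
  obtain ⟨v, hv⟩ := exists_ne (0 : TensorProduct A p.ResidueField P)
  obtain ⟨lam, hlam⟩ : ∃ φ : Module.Dual p.ResidueField (TensorProduct A p.ResidueField P), φ v ≠ 0 := by
    by_contra h
    push Not at h
    exact hv ((Module.forall_dual_apply_eq_zero_iff p.ResidueField v).mp h)
  let ψ : P →ₗ[A] p.ResidueField := (lam.restrictScalars A) ∘ₗ (TensorProduct.mk A p.ResidueField P 1)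
  have hψ : ∃ y, ψ y ≠ 0 := by
    by_contra h
    push Not at h
    apply hlam
    have hall : ∀ w : TensorProduct A p.ResidueField P, lam w = 0 := by
      intro w
      induction w using TensorProduct.induction_on with
      | zero => simp
      | tmul c y =>
        have : c ⊗ₜ[A] y = c • ((1 : p.ResidueField) ⊗ₜ[A] y) := by
          rw [TensorProduct.smul_tmul', smul_eq_mul, mul_one]
        rw [this, map_smul, show lam (1 ⊗ₜ y) = ψ y from rfl, h y, smul_zero]
      | add x y hx hy => rw [map_add, hx, hy, add_zero]
    exact hall v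
  obtain ⟨S, hS⟩ := (Module.Finite.fg_top : (⊤ : Submodule A P).FG)
  obtain ⟨b, hb⟩ := IsLocalization.exist_integer_multiples_of_finset (nonZeroDivisors (A ⧸ p)) (S.image ψ)
  obtain ⟨a, ha⟩ := Ideal.Quotient.mk_surjective (b : A ⧸ p)
  have hap : algebraMap A p.ResidueField a ≠ 0 := by
    rw [Ne, Ideal.algebraMap_residueField_eq_zero, ← Ideal.Quotient.eq_zero_iff_mem, ha]
    exact nonZeroDivisors.coe_ne_zero b
  let ι : (A ⧸ p) →ₗ[A] p.ResidueField := (IsScalarTower.toAlgHom A (A ⧸ p) p.ResidueField).toLinearMap
  have hι : Function.Injective ι := p.injective_algebraMap_quotient_residueField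
  have hrange : ∀ y, (a • ψ) y ∈ LinearMap.range ι := by
    intro y
    have hy : y ∈ Submodule.span A (S : Set P) := hS ▸ Submodule.mem_top
    induction hy using Submodule.span_induction with
    | mem y hy =>
      obtain ⟨d, hd⟩ := hb (ψ y) (Finset.mem_image_of_mem _ hy)
      refine ⟨d, ?_⟩
      change algebraMap (A ⧸ p) p.ResidueField d = a • ψ y
      rw [hd, ← ha, Algebra.smul_def, Algebra.smul_def]
      rfl
    | zero => simp
    | add x y _ _ hx hy => rw [map_add]; exact Submodule.add_mem _ hx hy
    | smul c y _ h => rw [map_smul]; exact Submodule.smul_mem _ c h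
  let φ : P →ₗ[A] (A ⧸ p) := (LinearEquiv.ofInjective ι hι).symm.toLinearMap ∘ₗ
    (LinearMap.codRestrict (LinearMap.range ι) (a • ψ) hrange)
  have hφ : f ∘ₗ φ = 0 := Subsingleton.elim _ _
  obtain ⟨y, hy⟩ := hψ
  have h1 : φ y = 0 := hf (by
    have := congrArg (fun g => g y) hφ
    simpa using this)
  have h2 : (a • ψ) y = 0 := by
    have h3 : (LinearEquiv.ofInjective ι hι) (φ y) = ⟨(a • ψ) y, hrange y⟩ := by
      simp only [φ, LinearMap.comp_apply, LinearEquiv.coe_coe, LinearEquiv.apply_symm_apply]
      rfl
    rw [h1, map_zero] at h3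
    exact (congrArg Subtype.val h3).symm
  rw [LinearMap.smul_apply, Algebra.smul_def] at h2
  exact hy ((mul_eq_zero.mp h2).resolve_left hap)

end Groth.Agent.S5163
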