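import Groth.Statements.S5165
-- import your own Groth.Agent.* helpers here
import Mathlib
import Groth.Agent.Lib.helper6.PdLoc
import Groth.Agent.S0563
import Groth.Agent.S5791

set_option autoImplicit false
universe u
open CategoryTheory
open LocCoh

namespace Groth.Agent.S5165

/-- Suppose A is a regular Noetherian ring and consider a finitely generated A-module M. Then some
natural number d bounds the projective dimension of M (equivalently, p ↦ proj.dim M_p stays bounded
as p ranges over Spec A, and this holds even if the Krull dimension of A is infinite). -/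
theorem result (A : Type u) [CommRing A] [IsRegularRing A] (M : Type u) [AddCommGroup M] [Module A M] [Module.Finite A M] : ∃ d : ℕ, HasProjectiveDimensionLE (ModuleCat.of A M) d := by
  classical
  have hN : IsNoetherianRing A := inferInstance
  let U : ℕ → Set (PrimeSpectrum A) := fun n =>
    Module.freeLocus A (Groth.Agent.Lib.helper6.PdLoc.syz A M n)
  have hopen : ∀ n, IsOpen (U n) := by
    intro n
    have : Module.FinitePresentation A (Groth.Agent.Lib.helper6.PdLoc.syz A M n) :=
      Module.finitePresentation_of_finite A _
    exact Module.isOpen_freeLocus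
  have hmono : ∀ n, U n ⊆ U (n + 1) := by
    intro n p hp
    have h1 := (Groth.Agent.Lib.helper6.PdLoc.hasProjectiveDimensionLT_atPrime_iff M p n).mpr hp
    exact (Groth.Agent.Lib.helper6.PdLoc.hasProjectiveDimensionLT_atPrime_iff M p (n + 1)).mp
      (hasProjectiveDimensionLT_of_ge _ (n + 1) (n + 1 + 1) (by omega))
  have hcover : Set.univ ⊆ ⋃ n, U n := by
    intro p _
    have hreg : IsRegularLocalRing (Localization.AtPrime p.asIdeal) :=
      IsRegularRing.isRegularLocalRing_localization p.asIdeal
    obtain ⟨d, hd⟩ := Groth.Agent.H5.RegLoc.exists_nat_dim (Localization.AtPrime p.asIdeal)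
    have h1 := Groth.Agent.S0563.result (Localization.AtPrime p.asIdeal) d hd
      (LocalizedModule p.asIdeal.primeCompl M)
    exact Set.mem_iUnion.mpr
      ⟨d, (Groth.Agent.Lib.helper6.PdLoc.hasProjectiveDimensionLT_atPrime_iff M p d).mp h1⟩
  obtain ⟨t, ht⟩ := isCompact_univ.elim_finite_subcover U hopen hcover
  have hmono' : Monotone U := monotone_nat_of_le_succ hmono
  refine ⟨t.sup id, ?_⟩
  change HasProjectiveDimensionLT (ModuleCat.of A M) (t.sup id + 1)
  rw [Groth.Agent.S5791.result A M (t.sup id)]
  intro p
  obtain ⟨n, hn, hp⟩ : ∃ n ∈ t, p ∈ U n := by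
    have := ht (Set.mem_univ p)
    simpa using this
  have hle : n ≤ t.sup id := Finset.le_sup (f := id) hn
  exact (Groth.Agent.Lib.helper6.PdLoc.hasProjectiveDimensionLT_atPrime_iff M p (t.sup id)).mpr
    (hmono' hle hp)

end Groth.Agent.S5165
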