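import Groth.Statements.S5166
import Mathlib
import Groth.Agent.S11652

set_option autoImplicit false
universe u
open LocCoh

namespace Groth.Agent.S5166

/-- In its local form at a point y ∈ Y (A = O_{X,y}). Let A be a Noetherian local ring and I ≠ A an
ideal contained in no minimal prime of A. Then some prime p ⊉ I has dim A/p = 1. -/
theorem result (A : Type u) [CommRing A] [IsLocalRing A] [IsNoetherianRing A] (I : Ideal A) (hI : I ≠ ⊤) (hdense : ∀ q ∈ minimalPrimes A, ¬ I ≤ q) : ∃ p : PrimeSpectrum A, ¬ I ≤ p.asIdeal ∧ ringKrullDim (A ⧸ p.asIdeal) = 1 := by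
  classical
  have hS : ({p : Ideal A | p.IsPrime ∧ ¬ I ≤ p} : Set (Ideal A)).Nonempty := by
    obtain ⟨q, hq⟩ := Ideal.nonempty_minimalPrimes (I := (⊥ : Ideal A)) bot_ne_top
    exact ⟨q, hq.1.1, hdense q hq⟩
  obtain ⟨p, ⟨hpprime, hpI⟩, hpmax⟩ : ∃ p : Ideal A, (p.IsPrime ∧ ¬ I ≤ p) ∧
      ∀ J : Ideal A, (J.IsPrime ∧ ¬ I ≤ J) → ¬ p < J :=
    set_has_maximal_iff_noetherian.2 (inferInstance : IsNoetherian A A) _ hS
  haveI := hpprime
  refine ⟨⟨p, hpprime⟩, hpI, ?_⟩
  show ringKrullDim (A ⧸ p) = 1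
  have hIm : I ≤ IsLocalRing.maximalIdeal A := IsLocalRing.le_maximalIdeal hI
  have hpm : p < IsLocalRing.maximalIdeal A :=
    lt_of_le_of_ne (IsLocalRing.le_maximalIdeal hpprime.ne_top) (fun h => hpI (h ▸ hIm))
  obtain ⟨a, haI, hap⟩ := Set.not_subset.1 hpI
  have hsurj : Function.Surjective (Ideal.Quotient.mk p) := Ideal.Quotient.mk_surjective
  have hker : RingHom.ker (Ideal.Quotient.mk p) = p := Ideal.mk_ker
  have hcm : ∀ B : Ideal A, p ≤ B →
      (B.map (Ideal.Quotient.mk p)).comap (Ideal.Quotient.mk p) = B := by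
    intro B hB
    rw [Ideal.comap_map_of_surjective _ hsurj, ← RingHom.ker_eq_comap_bot, hker]
    exact sup_eq_left.2 hB
  haveI : Nontrivial (A ⧸ p) := Ideal.Quotient.nontrivial_iff.2 hpprime.ne_top
  haveI : IsLocalRing (A ⧸ p) := IsLocalRing.of_surjective' (Ideal.Quotient.mk p) hsurj
  have hmapmax : ((IsLocalRing.maximalIdeal A).map (Ideal.Quotient.mk p)).IsMaximal := by
    refine (Ideal.map_eq_top_or_isMaximal_of_surjective _ hsurj
      (IsLocalRing.maximalIdeal.isMaximal A)).resolve_left ?_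
    intro htop
    have h1 := hcm (IsLocalRing.maximalIdeal A) hpm.le
    rw [htop, Ideal.comap_top] at h1
    exact (IsLocalRing.maximalIdeal.isMaximal A).ne_top h1.symm
  have hmax : IsLocalRing.maximalIdeal (A ⧸ p) =
      (IsLocalRing.maximalIdeal A).map (Ideal.Quotient.mk p) :=
    (IsLocalRing.eq_maximalIdeal hmapmax).symm
  haveI : ((IsLocalRing.maximalIdeal A).map (Ideal.Quotient.mk p)).IsPrime := hmapmax.isPrime
  have hge : 1 ≤ ((IsLocalRing.maximalIdeal A).map (Ideal.Quotient.mk p)).height := by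
    have hlt1 : (⊥ : Ideal (A ⧸ p)) < (IsLocalRing.maximalIdeal A).map (Ideal.Quotient.mk p) := by
      rw [bot_lt_iff_ne_bot, Ne, Ideal.map_eq_bot_iff_le_ker, hker]
      exact not_le_of_gt hpm
    have h1 := Ideal.height_strict_mono_of_isPrime_of_isPrime hlt1
    exact Order.one_le_iff_pos.2 (lt_of_le_of_lt zero_le h1)
  have hle : ((IsLocalRing.maximalIdeal A).map (Ideal.Quotient.mk p)).height ≤ 1 := by
    by_contra hcon
    rw [not_le] at hcon
    obtain ⟨t, htprime, hpt, htm, hat⟩ := Groth.Agent.S11652.result A p (IsLocalRing.maximalIdeal A)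
      hpm hcon a (hIm haI) hap
    exact hpmax t ⟨htprime, fun hIt => hat (hIt haI)⟩ hpt
  rw [← IsLocalRing.maximalIdeal_height_eq_ringKrullDim, hmax, le_antisymm hle hge]
  rfl

end Groth.Agent.S5166
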