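import Groth.Statements.S5172
import Groth.Agent.Lib.helper9.Depth14

set_option autoImplicit false
universe u
open LocCoh

namespace Groth.Agent.S5172

lemma height_Ici_eq {A : Type u} [CommRing A] (p q : PrimeSpectrum A) (hpq : p ≤ q) :
    Order.height (⟨q, hpq⟩ : Set.Ici p) =
      (q.asIdeal.map (Ideal.Quotient.mk p.asIdeal)).height := by
  have hz : PrimeSpectrum.zeroLocus (p.asIdeal : Set A) = Set.Ici p := by
    ext x
    rw [PrimeSpectrum.mem_zeroLocus, Set.mem_Ici]
    rfl
  let e1 := p.asIdeal.primeSpectrumQuotientOrderIsoZeroLocus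
  let e2 : (PrimeSpectrum.zeroLocus (p.asIdeal : Set A)) ≃o Set.Ici p := OrderIso.setCongr _ _ hz
  have hprime : (q.asIdeal.map (Ideal.Quotient.mk p.asIdeal)).IsPrime :=
    Ideal.map_isPrime_of_surjective Ideal.Quotient.mk_surjective (by rw [Ideal.mk_ker]; exact hpq)
  have himg : e2 (e1 ⟨q.asIdeal.map (Ideal.Quotient.mk p.asIdeal), hprime⟩) = ⟨q, hpq⟩ := by
    apply Subtype.ext
    apply PrimeSpectrum.ext
    change (q.asIdeal.map (Ideal.Quotient.mk p.asIdeal)).comap (Ideal.Quotient.mk p.asIdeal) =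
      q.asIdeal
    rw [Ideal.comap_map_of_surjective _ Ideal.Quotient.mk_surjective, ← RingHom.ker_eq_comap_bot,
      Ideal.mk_ker]
    exact sup_eq_left.mpr hpq
  rw [← himg, Order.height_orderIso, Order.height_orderIso]
  exact (PrimeSpectrum.height_eq_orderHeight ⟨_, hprime⟩).symm

lemma one_le_height_Ici {A : Type u} [CommRing A] (p q : PrimeSpectrum A) (hpq : p ≤ q)
    (hne : ¬ q ≤ p) : 1 ≤ Order.height (⟨q, hpq⟩ : Set.Ici p) := by
  rw [Order.one_le_iff_pos, pos_iff_ne_zero, Ne, Order.height_eq_zero]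
  intro hmin
  have : (⟨q, hpq⟩ : Set.Ici p) ≤ ⟨p, Set.mem_Ici.2 le_rfl⟩ :=
    hmin (show (⟨p, Set.mem_Ici.2 le_rfl⟩ : Set.Ici p) ≤ ⟨q, hpq⟩ from hpq)
  exact hne this


/-- Let A be a Noetherian ring which is a quotient of a regular ring, I an ideal, M a finite A-module
and n ≥ 0; c(p) = codim(V(p) ∩ V(I), V(p)). Then depth M_p > n − c(p) for all primes p ⊉ I if and
only if depth M_p ≥ n for all primes p ⊉ I with c(p) = 1. -/
theorem result (R : Type u) [CommRing R] [IsRegularRing R] (A : Type u) [CommRing A] [IsNoetherianRing A] (π : R →+* A) (hπ : Function.Surjective π) (I : Ideal A) (M : Type u) [AddCommGroup M] [Module A M] [Module.Finite A M] (n : ℕ) : (∀ p : PrimeSpectrum A, ¬ I ≤ p.asIdeal → (n : ℕ∞) < LocCoh.depth (Localization.AtPrime p.asIdeal) (LocalizedModule p.asIdeal.primeCompl M) + SGA2.relCodim I p) ↔ (∀ p : PrimeSpectrum A, ¬ I ≤ p.asIdeal → SGA2.relCodim I p = 1 → (n : ℕ∞) ≤ LocCoh.depth (Localization.AtPrime p.asIdeal) (LocalizedModule p.asIdeal.primeCompl M)) := by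
  constructor
  · intro h p hIp hc
    have h1 := h p hIp
    rw [hc] at h1
    exact Order.le_of_lt_add_one h1
  · intro h p hIp
    by_cases htop : SGA2.relCodim I p = ⊤
    · rw [htop, add_top]
      exact ENat.natCast_lt_top n
    have hne : Nonempty {q : PrimeSpectrum A // p ≤ q ∧ I ≤ q.asIdeal} := by
      by_contra hemp
      rw [not_nonempty_iff] at hemp
      apply htop
      unfold SGA2.relCodim
      exact iInf_of_empty _
    obtain ⟨⟨q, hpq, hIq⟩, hq⟩ := ENat.exists_eq_iInf
      (fun q : {q : PrimeSpectrum A // p ≤ q ∧ I ≤ q.asIdeal} =>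
        Order.height (⟨q.1, q.2.1⟩ : Set.Ici p))
    change Order.height (⟨q, hpq⟩ : Set.Ici p) = SGA2.relCodim I p at hq
    obtain ⟨c, hc⟩ : ∃ c : ℕ, SGA2.relCodim I p = c := ⟨_, (ENat.natCast_toNat htop).symm⟩
    rw [hc] at hq ⊢
    have hqp : ¬ q ≤ p := fun hle => hIp (hIq.trans hle)
    have hc1 : 1 ≤ c := by
      have := one_le_height_Ici p q hpq hqp
      rw [hq] at this
      exact_mod_cast this
    obtain ⟨m, rfl⟩ : ∃ m, c = m + 1 := ⟨c - 1, by omega⟩
    obtain ⟨s, hslast, hslen⟩ := Order.exists_series_of_height_eq_coe (⟨q, hpq⟩ : Set.Ici p) hq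
    have hsmax : (s.length : ℕ∞) = Order.height s.last := by rw [hslast, hq, hslen]
    -- the element before the last
    let i : Fin (s.length + 1) := ⟨m, by omega⟩
    have hi := Order.height_eq_index_of_length_eq_height_last hsmax i
    set p' : Set.Ici p := s i with hp'
    have hp'q : p' < ⟨q, hpq⟩ := by
      rw [← hslast]
      apply s.strictMono
      change i < Fin.last s.length
      rw [Fin.lt_def]
      change m < s.length
      omega
    have hp'h : Order.height p' = m := by rw [hi]
    have hIp' : ¬ I ≤ p'.1.asIdeal := by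
      intro hI
      have h1 : SGA2.relCodim I p ≤ Order.height p' :=
        iInf_le (fun q : {q : PrimeSpectrum A // p ≤ q ∧ I ≤ q.asIdeal} =>
          Order.height (⟨q.1, q.2.1⟩ : Set.Ici p)) ⟨p'.1, p'.2, hI⟩
      rw [hc, hp'h] at h1
      have : m + 1 ≤ m := by exact_mod_cast h1
      omega
    have hp'q' : p'.1 ≤ q := hp'q.le
    have hrel : SGA2.relCodim I p'.1 = 1 := by
      apply le_antisymm
      · refine (iInf_le (fun q : {q : PrimeSpectrum A // p'.1 ≤ q ∧ I ≤ q.asIdeal} =>
          Order.height (⟨q.1, q.2.1⟩ : Set.Ici p'.1)) ⟨q, hp'q', hIq⟩).trans ?_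
        change Order.height (⟨q, hp'q'⟩ : Set.Ici p'.1) ≤ ((1 : ℕ) : ℕ∞)
        rw [Order.height_le_coe_iff]
        intro b hb
        have hbmin : IsMin b := by
          by_contra hnmin
          -- `p' < b < q` in `Ici p`
          have hb1 : p'.1 ≤ b.1 := b.2
          have hb2 : ¬ b.1 ≤ p'.1 := by
            intro hle
            apply hnmin
            intro z hz
            change b.1 ≤ z.1
            exact le_trans hle z.2
          let b' : Set.Ici p := ⟨b.1, Set.mem_Ici.2 (le_trans (Set.mem_Ici.1 p'.2) hb1)⟩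
          have h1 : p' < b' := lt_of_le_not_ge hb1 hb2
          have h2 : b' < (⟨q, hpq⟩ : Set.Ici p) := hb
          have e1 := Order.height_add_one_le h1
          have e2 := Order.height_add_one_le h2
          rw [hp'h] at e1
          rw [hq] at e2
          have e3 : ((m : ℕ∞) + 1) + 1 ≤ ((m + 1 : ℕ) : ℕ∞) := (add_le_add_left e1 1).trans e2
          have : m + 1 + 1 ≤ m + 1 := by exact_mod_cast e3
          omega
        rw [Order.height_eq_zero.2 hbmin]
        exact_mod_cast Nat.zero_lt_one
      · unfold SGA2.relCodim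
        refine le_iInf fun ⟨q'', hq''1, hq''2⟩ => ?_
        exact one_le_height_Ici p'.1 q'' hq''1 (fun hle => hIp' (hq''2.trans hle))
    have h1 := h p'.1 hIp' hrel
    haveI := p.isPrime
    haveI := p'.1.isPrime
    have h2 := Groth.Agent.Lib.helper9.Depth.depth_localization_le_depth_add_height
      (s := p'.1.asIdeal) p.asIdeal p'.2 M
    rw [← height_Ici_eq p p'.1 p'.2] at h2
    change _ ≤ _ + Order.height p' at h2
    rw [hp'h] at h2
    have h3 := h1.trans h2
    cases hd : LocCoh.depth (Localization.AtPrime p.asIdeal)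
        (LocalizedModule p.asIdeal.primeCompl M) with
    | top => rw [top_add]; exact ENat.natCast_lt_top n
    | coe d =>
      rw [hd] at h3
      have h4 : n ≤ d + m := by exact_mod_cast h3
      have h5 : n < d + (m + 1) := by omega
      exact_mod_cast h5

end Groth.Agent.S5172
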