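import Groth.Statements.S5174
import Groth.Agent.Lib.helper21.ExtRep4

set_option autoImplicit false
universe u
open CategoryTheory Opposite
open LocCoh

namespace Groth.Agent.S5174

/-- Affine case with Z = X. Let A be a Noetherian ring, J an ideal, G any A-module and n ≥ 0 with
Ext^{n−1}_A(F', G) = 0 for all finite F' supported in V(J). Then for every finite A-module F with
Supp F ⊆ V(J) there is an A-linear isomorphism Ext^n_A(F, G) ≅ Hom_A(F, H^n_J(G)). (Existence of the
isomorphism is asserted; in the source it is the canonical one expressing that Ext^n_A(−, G), left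
exact on such F, is represented by H^n_J(G).) -/
theorem result (A : Type u) [CommRing A] [IsNoetherianRing A] (J : Ideal A) (G : Type u) [AddCommGroup G] [Module A G] (n : ℕ) (hvan : ∀ (F' : Type u) [AddCommGroup F'] [Module A F'], Module.Finite A F' → Module.support A F' ⊆ PrimeSpectrum.zeroLocus (J : Set A) → ∀ i : ℕ, i + 1 = n → Subsingleton (((Ext A (ModuleCat.{u} A) i).obj (op (ModuleCat.of A F'))).obj (ModuleCat.of A G))) (F : Type u) [AddCommGroup F] [Module A F] [Module.Finite A F] (hF : Module.support A F ⊆ PrimeSpectrum.zeroLocus (J : Set A)) : Nonempty ((((Ext A (ModuleCat.{u} A) n).obj (op (ModuleCat.of A F))).obj (ModuleCat.of A G)) ≃ₗ[A] (F →ₗ[A] LocCoh.H J n G)) := by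
  open Groth.Agent.H21.ExtRep2 Groth.Agent.H21.ExtKilled Groth.Agent.H21.LC in
  have hV : Van J (ModuleCat.of A G) n := by
    intro N hN hsupp i hi z
    haveI := hvan N hN hsupp i hi
    obtain ⟨x, rfl⟩ := (oldNew N (ModuleCat.of A G) i).surjective z
    rw [Subsingleton.elim x 0, map_zero]
  obtain ⟨k, hk⟩ : ∃ k : ℕ, Killed (J ^ k) (ModuleCat.of A F) := by
    rw [Module.support_eq_zeroLocus, PrimeSpectrum.zeroLocus_subset_zeroLocus_iff] at hF
    obtain ⟨k, hk⟩ := Ideal.exists_pow_le_of_le_radical_of_fg hF (IsNoetherian.noetherian J)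
    refine ⟨k, fun a ha m => ?_⟩
    exact Module.mem_annihilator.mp (hk ha) m
  haveI : Module.Finite A (ModuleCat.of A F) := ‹Module.Finite A F›
  exact ⟨(oldNew (ModuleCat.of A F) (ModuleCat.of A G) n).trans
    (LinearEquiv.ofBijective (Xi J (ModuleCat.of A G) n k (ModuleCat.of A F) hk)
      (Xi_bijective J (ModuleCat.of A G) n k hV (ModuleCat.of A F) hk))⟩

end Groth.Agent.S5174
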