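import Groth.Statements.S5182
import Mathlib

set_option autoImplicit false
universe u
open CInt

namespace Groth.Agent.S5182

open RingTheory.Sequence TensorProduct

theorem wr_tensor {R : Type u} [CommRing R] (G : Type u) [AddCommGroup G] [Module R G]
    [Module.Flat R G] :
    ∀ (xs : List R) (M : Type u) [AddCommGroup M] [Module R M],
      IsWeaklyRegular M xs → IsWeaklyRegular (M ⊗[R] G) xs := by
  intro xs
  induction xs with
  | nil => intro M _ _ _; exact IsWeaklyRegular.nil R _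
  | cons x xs ih =>
    intro M _ _ h
    rw [isWeaklyRegular_cons_iff] at h ⊢
    refine ⟨IsSMulRegular.rTensor G h.1, ?_⟩
    have := ih (QuotSMulTop x M) h.2
    exact ((QuotSMulTop.quotSMulTopTensorEquivQuotSMulTop x G M).isWeaklyRegular_congr xs).mp this

theorem wr_gr (A : Type u) [CommRing A] (J : Ideal A) (k : ℕ)
    (hflat : Module.Flat (A ⧸ J) (↥(J ^ k) ⧸ (J • (⊤ : Submodule A ↥(J ^ k)))))
    (fs : List A) (hreg : IsWeaklyRegular (A ⧸ J) fs) :
    IsWeaklyRegular (↥(J ^ k) ⧸ (J • (⊤ : Submodule A ↥(J ^ k)))) fs := by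
  have h1 : IsWeaklyRegular (A ⧸ J) (fs.map (algebraMap A (A ⧸ J))) :=
    (isWeaklyRegular_map_algebraMap_iff (A ⧸ J) (A ⧸ J) fs).mpr hreg
  have h2 := wr_tensor (R := A ⧸ J) (↥(J ^ k) ⧸ (J • (⊤ : Submodule A ↥(J ^ k)))) _ (A ⧸ J) h1
  have h3 := ((TensorProduct.lid (A ⧸ J)
    (↥(J ^ k) ⧸ (J • (⊤ : Submodule A ↥(J ^ k))))).isWeaklyRegular_congr _).mp h2
  exact (isWeaklyRegular_map_algebraMap_iff (A ⧸ J) _ fs).mp h3

/-- membership in a submodule of an ideal (viewed as a module), via the ambient ring. -/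
theorem mem_iff_map {A : Type u} [CommRing A] (N : Ideal A) (P : Submodule A N) (m : N) :
    m ∈ P ↔ (m : A) ∈ Submodule.map N.subtype P := by
  constructor
  · intro hm; exact Submodule.mem_map_of_mem hm
  · rintro ⟨m', hm', he⟩
    have : m' = m := Subtype.ext he
    rwa [← this]

theorem map_smul_top {A : Type u} [CommRing A] (N I : Ideal A) :
    Submodule.map N.subtype (I • (⊤ : Submodule A N)) = I * N := by
  rw [Submodule.map_smul'', Submodule.map_subtype_top, smul_eq_mul]

theorem wr_ideal_of {A : Type u} [CommRing A] (N : Ideal A) (xs : List A)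
    (h : ∀ (t : ℕ) (ht : t < xs.length), ∀ m ∈ N,
      xs[t] * m ∈ Ideal.ofList (xs.take t) * N → m ∈ Ideal.ofList (xs.take t) * N) :
    IsWeaklyRegular N xs := by
  rw [isWeaklyRegular_iff_Fin]
  intro i
  rw [isSMulRegular_iff_right_eq_zero_of_smul]
  intro g hg
  obtain ⟨m, rfl⟩ := Submodule.Quotient.mk_surjective _ g
  rw [← Submodule.Quotient.mk_smul, Submodule.Quotient.mk_eq_zero] at hg
  rw [Submodule.Quotient.mk_eq_zero]
  rw [mem_iff_map, map_smul_top] at hg ⊢
  exact h i i.2 m.1 m.2 hg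

theorem of_wr_gr {A : Type u} [CommRing A] (N J : Ideal A) (xs : List A)
    (h : IsWeaklyRegular (N ⧸ (J • ⊤ : Submodule A N)) xs) :
    ∀ (t : ℕ) (ht : t < xs.length), ∀ m ∈ N,
      xs[t] * m ∈ J * N ⊔ Ideal.ofList (xs.take t) * N →
        m ∈ J * N ⊔ Ideal.ofList (xs.take t) * N := by
  rw [isWeaklyRegular_iff_Fin] at h
  intro t ht m hm hx
  have h1 := h ⟨t, ht⟩
  rw [isSMulRegular_iff_right_eq_zero_of_smul] at h1
  have key : ∀ (m' : N), (Submodule.Quotient.mk (Submodule.Quotient.mk m' :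
      N ⧸ (J • ⊤ : Submodule A N)) : (N ⧸ (J • ⊤ : Submodule A N)) ⧸
        (Ideal.ofList (xs.take t) • ⊤ : Submodule A (N ⧸ (J • ⊤ : Submodule A N)))) = 0 ↔
      (m' : A) ∈ J * N ⊔ Ideal.ofList (xs.take t) * N := by
    intro m'
    rw [Submodule.Quotient.mk_eq_zero]
    have e1 : (Ideal.ofList (xs.take t) • ⊤ : Submodule A (N ⧸ (J • ⊤ : Submodule A N))) =
        Submodule.map (J • ⊤ : Submodule A N).mkQ
          (Ideal.ofList (xs.take t) • (⊤ : Submodule A N)) := by
      rw [Submodule.map_smul'', Submodule.map_top, Submodule.range_mkQ]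
    rw [e1]
    rw [← Submodule.mkQ_apply, ← Submodule.mem_comap, Submodule.comap_map_mkQ, mem_iff_map,
      Submodule.map_sup, map_smul_top, map_smul_top]
  have h2 := h1 (Submodule.Quotient.mk (Submodule.Quotient.mk ⟨m, hm⟩)) (by
    rw [← Submodule.Quotient.mk_smul, ← Submodule.Quotient.mk_smul]
    exact (key _).mpr hx)
  exact (key ⟨m, hm⟩).mp h2

/-- the Artin–Rees type equalities for a sequence regular on all graded pieces. -/
theorem capC {A : Type u} [CommRing A] (J : Ideal A) (xs : List A)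
    (H : ∀ (i t : ℕ) (ht : t < xs.length), ∀ m ∈ J ^ i,
      xs[t] * m ∈ J * J ^ i ⊔ Ideal.ofList (xs.take t) * J ^ i →
        m ∈ J * J ^ i ⊔ Ideal.ofList (xs.take t) * J ^ i) :
    ∀ (t : ℕ), t ≤ xs.length → ∀ (i j : ℕ), i ≤ j →
      Ideal.ofList (xs.take t) * J ^ i ⊓ J ^ j ≤ Ideal.ofList (xs.take t) * J ^ j := by
  intro t
  induction t with
  | zero =>
    intro _ i j _
    rw [List.take_zero, Ideal.ofList_nil, Ideal.bot_mul, Ideal.bot_mul]
    exact inf_le_left
  | succ t iht =>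
    intro ht i j hij
    have ht' : t < xs.length := ht
    have hC := iht ht'.le
    have hI : Ideal.ofList (xs.take (t + 1)) = Ideal.ofList (xs.take t) ⊔ Ideal.span {xs[t]} := by
      rw [List.take_succ_eq_append_getElem ht', Ideal.ofList_append, Ideal.ofList_singleton]
    rw [hI]
    induction j, hij using Nat.le_induction with
    | base => exact inf_le_left
    | succ j hij ihj =>
      intro y hy
      have hyJ : y ∈ J ^ (j + 1) := hy.2
      have hy1 : y ∈ (Ideal.ofList (xs.take t) ⊔ Ideal.span {xs[t]}) * J ^ j :=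
        ihj ⟨hy.1, Ideal.pow_le_pow_right (Nat.le_succ j) hyJ⟩
      rw [Ideal.sup_mul] at hy1
      obtain ⟨z', hz', u, hu, rfl⟩ := Submodule.mem_sup.mp hy1
      obtain ⟨m', hm', rfl⟩ := Ideal.mem_span_singleton_mul.mp hu
      -- `xs[t] * m'` lies in `J^(j+1) + I J^j`
      have h1 : xs[t] * m' ∈ J * J ^ j ⊔ Ideal.ofList (xs.take t) * J ^ j := by
        have : xs[t] * m' = (z' + xs[t] * m') - z' := by ring
        rw [this]
        refine Ideal.sub_mem _ ?_ ?_
        · rw [← pow_succ']; exact Ideal.mem_sup_left hyJ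
        · exact Ideal.mem_sup_right hz'
      have h2 := H j t ht' m' hm' h1
      obtain ⟨n, hn, w, hw, rfl⟩ := Submodule.mem_sup.mp h2
      rw [← pow_succ'] at hn
      -- the part in `I J^j ∩ J^(j+1)`
      have hz'' : z' + xs[t] * w ∈ Ideal.ofList (xs.take t) * J ^ (j + 1) := by
        apply hC j (j + 1) (Nat.le_succ j)
        refine ⟨?_, ?_⟩
        · refine Ideal.add_mem _ hz' ?_
          exact Ideal.mul_mem_left _ _ hw
        · have : z' + xs[t] * w = (z' + xs[t] * (n + w)) - xs[t] * n := by ring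
          rw [this]
          exact Ideal.sub_mem _ hyJ (Ideal.mul_mem_left _ _ hn)
      have hfin : z' + xs[t] * (n + w) = (z' + xs[t] * w) + xs[t] * n := by ring
      rw [hfin, Ideal.sup_mul]
      refine Ideal.add_mem _ (Ideal.mem_sup_left hz'') (Ideal.mem_sup_right ?_)
      exact Ideal.mem_span_singleton_mul.mpr ⟨n, hn, rfl⟩

theorem core {A : Type u} [CommRing A] [IsLocalRing A] [IsNoetherianRing A] (J : Ideal A)
    (hJ : J ≠ ⊤) (xs : List A)
    (H : ∀ (i t : ℕ) (ht : t < xs.length), ∀ m ∈ J ^ i,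
      xs[t] * m ∈ J * J ^ i ⊔ Ideal.ofList (xs.take t) * J ^ i →
        m ∈ J * J ^ i ⊔ Ideal.ofList (xs.take t) * J ^ i) :
    ∀ (k t : ℕ) (ht : t < xs.length), ∀ m ∈ J ^ k,
      xs[t] * m ∈ Ideal.ofList (xs.take t) * J ^ k → m ∈ Ideal.ofList (xs.take t) * J ^ k := by
  intro k t ht m hm hx
  have hC := capC J xs H t ht.le
  set I := Ideal.ofList (xs.take t) with hIdef
  -- `m ∈ J^i + I J^k` for all `i ≥ k`
  have hstep : ∀ i, k ≤ i → m ∈ J ^ i ⊔ I * J ^ k := by
    intro i hi
    induction i, hi using Nat.le_induction with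
    | base => exact Ideal.mem_sup_left hm
    | succ i hi ihi =>
      obtain ⟨n, hn, w, hw, hnw⟩ := Submodule.mem_sup.mp ihi
      have h1 : xs[t] * n ∈ I * J ^ i := by
        apply hC k i hi
        refine ⟨?_, Ideal.mul_mem_left _ _ hn⟩
        have : xs[t] * n = xs[t] * m - xs[t] * w := by rw [← hnw]; ring
        rw [this]
        exact Ideal.sub_mem _ hx (Ideal.mul_mem_left _ _ hw)
      have h2 := H i t ht n hn (Ideal.mem_sup_right h1)
      obtain ⟨n', hn', w', hw', hnw'⟩ := Submodule.mem_sup.mp h2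
      rw [← pow_succ'] at hn'
      have hw'' : w' ∈ I * J ^ k := Ideal.mul_mono_right (Ideal.pow_le_pow_right hi) hw'
      have : m = n' + (w' + w) := by rw [← hnw, ← hnw']; ring
      rw [this]
      exact Ideal.add_mem _ (Ideal.mem_sup_left hn') (Ideal.mem_sup_right (Ideal.add_mem _ hw'' hw))
  have hall : ∀ i, m ∈ J ^ i ⊔ I * J ^ k := by
    intro i
    by_cases hi : k ≤ i
    · exact hstep i hi
    · exact Ideal.mem_sup_left (Ideal.pow_le_pow_right (by omega) hm)
  -- Krull intersection in `A ⧸ I J^k`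
  have hkr := Ideal.iInf_pow_smul_eq_bot_of_isLocalRing (R := A) (M := A ⧸ (I * J ^ k)) J hJ
  have hmk : (Ideal.Quotient.mk (I * J ^ k) m : A ⧸ (I * J ^ k)) ∈
      (⨅ i : ℕ, J ^ i • ⊤ : Submodule A (A ⧸ (I * J ^ k))) := by
    rw [Submodule.mem_iInf]
    intro i
    obtain ⟨n, hn, w, hw, hnw⟩ := Submodule.mem_sup.mp (hall i)
    have : (Ideal.Quotient.mk (I * J ^ k) m : A ⧸ (I * J ^ k)) =
        n • (Ideal.Quotient.mk (I * J ^ k) 1 : A ⧸ (I * J ^ k)) := by
      rw [← hnw, map_add, Ideal.Quotient.eq_zero_iff_mem.mpr hw, add_zero, Algebra.smul_def,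
        map_one, mul_one]
      rfl
    rw [this]
    exact Submodule.smul_mem_smul hn Submodule.mem_top
  rw [hkr, Submodule.mem_bot] at hmk
  exact Ideal.Quotient.eq_zero_iff_mem.mp hmk

/-- In the local algebraic form to which its proof reduces. Let A be a Noetherian local ring, J a proper
ideal such that A is normally flat along J, i.e. every J^k/J^{k+1} is a flat (equivalently free)
A/J-module, and f_1, …, f_r elements of A whose images form a weakly regular sequence on A/J (each
f_i a non-zero-divisor on A/J modulo the preceding ones). Then for every k ≥ 0 the f_i form a weakly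
regular sequence on the A-module J^k and on the A-module J^k/J^{k+1}; in particular (k = 0) on A
itself, so that they are regular on the Rees algebra ⊕ J^k and on the associated graded ring ⊕
J^k/J^{k+1}. -/
theorem result (A : Type u) [CommRing A] [IsLocalRing A] [IsNoetherianRing A] (J : Ideal A) (hJ : J ≠ ⊤) (hflat : ∀ k : ℕ, Module.Flat (A ⧸ J) (↥(J ^ k) ⧸ (J • (⊤ : Submodule A ↥(J ^ k))))) (fs : List A) (hreg : RingTheory.Sequence.IsWeaklyRegular (A ⧸ J) fs) (k : ℕ) : RingTheory.Sequence.IsWeaklyRegular (↥(J ^ k)) fs ∧ RingTheory.Sequence.IsWeaklyRegular (↥(J ^ k) ⧸ (J • (⊤ : Submodule A ↥(J ^ k)))) fs := by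
  have hgr : ∀ i, IsWeaklyRegular (↥(J ^ i) ⧸ (J • (⊤ : Submodule A ↥(J ^ i)))) fs :=
    fun i => wr_gr A J i (hflat i) fs hreg
  refine ⟨?_, hgr k⟩
  apply wr_ideal_of
  exact core J hJ fs (fun i t ht m hm hx => of_wr_gr (J ^ i) J fs (hgr i) t ht m hm hx) k

end Groth.Agent.S5182
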