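import Groth.Statements.S5209
import Groth.Agent.Lib.helper8.UEE

set_option autoImplicit false
open CategoryTheory CategoryTheory.Limits
universe w v₁ u₁
open DescCat

namespace Groth.Agent.S5209

/-- In a category with pullbacks, let `f : S' ⟶ S` be a universal effective epimorphism, that is, a
morphism all of whose base changes are effective epimorphisms. Then a morphism `g` over `S` is an
isomorphism (resp. a monomorphism) if and only if its base change along `f` is. -/
theorem result {C : Type u₁} [Category.{v₁} C] [HasPullbacks C]
    {S' S : C} (f : S' ⟶ S) (hf : (MorphismProperty.universally (fun (A B : C) (p : A ⟶ B) => EffectiveEpi p)) f) {X Y : Over S} (g : X ⟶ Y) :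
    (IsIso g ↔ IsIso ((Over.pullback f).map g)) ∧ (Mono g ↔ Mono ((Over.pullback f).map g)) := by
  -- the pullback square relating `g.left` and its base change
  have hlift : ((Over.pullback f).map g).left ≫ pullback.snd Y.hom f = pullback.snd X.hom f := by
    exact Over.w ((Over.pullback f).map g)
  have hsq : IsPullback ((Over.pullback f).map g).left (pullback.fst X.hom f)
      (pullback.fst Y.hom f) g.left := by
    have hbig : IsPullback (((Over.pullback f).map g).left ≫ pullback.snd Y.hom f)
        (pullback.fst X.hom f) f (g.left ≫ Y.hom) := by
      rw [hlift, Over.w g]
      exact (IsPullback.of_hasPullback X.hom f).flip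
    exact hbig.of_right (by simp only [Over.pullback_map_left]; exact pullback.lift_fst _ _ _)
      (IsPullback.of_hasPullback Y.hom f).flip
  have hi : Groth.Agent.H8.UEE (pullback.fst Y.hom f) :=
    Groth.Agent.H8.UEE.of_isPullback (IsPullback.of_hasPullback Y.hom f) hf
  constructor
  · constructor
    · intro h
      infer_instance
    · intro h
      have : IsIso ((Over.pullback f).map g).left :=
        inferInstanceAs (IsIso ((Over.forget _).map ((Over.pullback f).map g)))
      have : IsIso g.left := Groth.Agent.H8.isIso_of_isPullback_of_uee hsq hi
      have : IsIso ((Over.forget S).map g) := this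
      exact isIso_of_reflects_iso g (Over.forget S)
  · constructor
    · intro h
      infer_instance
    · intro h
      have : Mono ((Over.pullback f).map g).left := inferInstance
      have : Mono g.left := Groth.Agent.H8.mono_of_isPullback_of_uepi hsq hi.uepi
      exact Over.mono_of_mono_left g

end Groth.Agent.S5209
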