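import Groth.Statements.S5211
import Groth.Agent.Lib.helper8.UEE

set_option autoImplicit false
open CategoryTheory CategoryTheory.Limits
universe w v₁ u₁
open DescCat

namespace Groth.Agent.S5211

/-- In a category with pullbacks: if `f : S' ⟶ S` is a universal effective epimorphism and the canonical
map `S' ×_S S' ⟶ S' ×_T S'` induced by `g : S ⟶ T` is an isomorphism, then `g` is a monomorphism. -/
theorem result {C : Type u₁} [Category.{v₁} C] [HasPullbacks C]
    {S' S T : C} (f : S' ⟶ S) (hf : (MorphismProperty.universally (fun (A B : C) (p : A ⟶ B) => EffectiveEpi p)) f) (g : S ⟶ T)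
    [IsIso (pullback.mapDesc f f g)] : Mono g := by
  apply Groth.Agent.H8.mono_of_uepi (Groth.Agent.H8.UEE.uepi hf) g
  intro W a b hab
  have hab' : a ≫ f ≫ g = b ≫ f ≫ g := hab
  have hfst : inv (pullback.mapDesc f f g) ≫ pullback.fst f f = pullback.fst (f ≫ g) (f ≫ g) := by
    rw [IsIso.inv_comp_eq, pullback.mapDesc, pullback.lift_fst, Category.comp_id]
  have hsnd : inv (pullback.mapDesc f f g) ≫ pullback.snd f f = pullback.snd (f ≫ g) (f ≫ g) := by
    rw [IsIso.inv_comp_eq, pullback.mapDesc, pullback.lift_snd, Category.comp_id]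
  have h1 : (pullback.lift a b hab' ≫ inv (pullback.mapDesc f f g)) ≫ pullback.fst f f = a := by
    rw [Category.assoc, hfst, pullback.lift_fst]
  have h2 : (pullback.lift a b hab' ≫ inv (pullback.mapDesc f f g)) ≫ pullback.snd f f = b := by
    rw [Category.assoc, hsnd, pullback.lift_snd]
  calc a ≫ f = ((pullback.lift a b hab' ≫ inv (pullback.mapDesc f f g)) ≫ pullback.fst f f) ≫ f := by
        rw [h1]
    _ = ((pullback.lift a b hab' ≫ inv (pullback.mapDesc f f g)) ≫ pullback.snd f f) ≫ f := by
        simp only [Category.assoc, pullback.condition]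
    _ = b ≫ f := by rw [h2]

end Groth.Agent.S5211
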