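import Groth.Statements.S5212
import Mathlib

set_option autoImplicit false
universe u
open GrpQ

namespace Groth.Agent.S5212

/-- For `A'` finite and free as an `A`-module, a prime `p` of `A` and `a ∈ A'`, the element `a` belongs
to some prime of `A'` lying over `p` if and only if its norm belongs to `p`. (The published
statement allows `A'` projective of constant rank over `A`; this row takes `A'` free, where the norm
is the determinant of multiplication.) -/
theorem result {A A' : Type u} [CommRing A] [CommRing A'] [Algebra A A']
    [Module.Free A A'] [Module.Finite A A'] (p : Ideal A) [p.IsPrime] (a : A') :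
    (∃ q : Ideal A', q.IsPrime ∧ q.LiesOver p ∧ a ∈ q) ↔ Algebra.norm A a ∈ p := by
  constructor
  · rintro ⟨q, hq, hqp, haq⟩
    have hmem : algebraMap A A' (Algebra.norm A a) ∈ q := by
      have h1 := LinearMap.aeval_self_charpoly (Algebra.lmul A A' a)
      have h2 : Polynomial.aeval a (Algebra.lmul A A' a).charpoly = 0 := by
        have := Polynomial.aeval_algHom_apply (Algebra.lmul A A') a (Algebra.lmul A A' a).charpoly
        rw [h1] at this
        have := LinearMap.congr_fun this.symm 1
        simpa using this
      have h3 : algebraMap A A' ((Algebra.lmul A A' a).charpoly.coeff 0) ∈ q := by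
        have := Polynomial.divX_mul_X_add (Algebra.lmul A A' a).charpoly
        have h4 := congrArg (Polynomial.aeval a) this
        rw [h2] at h4
        simp only [map_add, map_mul, Polynomial.aeval_X, Polynomial.aeval_C] at h4
        have : algebraMap A A' ((Algebra.lmul A A' a).charpoly.coeff 0) =
            -(Polynomial.aeval a (Algebra.lmul A A' a).charpoly.divX * a) := by
          linear_combination h4
        rw [this]
        exact q.neg_mem (q.mul_mem_left _ haq)
      rw [Algebra.norm_apply, LinearMap.det_eq_sign_charpoly_coeff, map_mul]
      exact q.mul_mem_left _ h3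
    rw [hqp.over]
    exact hmem
  · intro hN
    obtain ⟨Q, hQ, hQp, hQc⟩ :=
      Ideal.exists_ideal_over_prime_of_isIntegral p (Ideal.span {a}) (by
        intro c hc
        rw [Ideal.mem_comap, Ideal.mem_span_singleton'] at hc
        obtain ⟨y, hy⟩ := hc
        have h1 := congrArg (Algebra.norm A) hy
        rw [map_mul, Algebra.norm_algebraMap] at h1
        have h2 : c ^ Module.finrank A A' ∈ p := by
          rw [← h1]
          exact p.mul_mem_left _ hN
        exact Ideal.IsPrime.mem_of_pow_mem inferInstance _ h2)
    exact ⟨Q, hQp, ⟨hQc.symm⟩, hQ (Ideal.subset_span rfl)⟩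

end Groth.Agent.S5212
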