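import Groth.Statements.S5213
import Mathlib

set_option autoImplicit false
universe u
open GrpQ

namespace Groth.Agent.S5213

section helpers



theorem avoid {B N : Type*} [CommRing B] [IsLocalRing B] [Infinite (IsLocalRing.ResidueField B)]
    [AddCommGroup N] [Module B N] (W : Finset (Submodule B N)) (h1 : ∀ w ∈ W, w ≠ ⊤) :
    ∃ n : N, ∀ w ∈ W, n ∉ w := by
  classical
  induction W using Finset.induction_on with
  | empty => exact ⟨0, by simp⟩
  | insert w₀ W hw₀ ih =>
    obtain ⟨n, hn⟩ := ih (fun w hw => h1 w (Finset.mem_insert_of_mem hw))
    by_cases hnw : n ∈ w₀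
    swap
    · refine ⟨n, fun w hw => ?_⟩
      rcases Finset.mem_insert.1 hw with rfl | hw
      · exact hnw
      · exact hn w hw
    have hw₀top : w₀ ≠ ⊤ := h1 w₀ (Finset.mem_insert_self _ _)
    obtain ⟨n', hn'⟩ : ∃ n', n' ∉ w₀ := by
      by_contra hcon
      push Not at hcon
      exact hw₀top (eq_top_iff.2 fun x _ => hcon x)
    let f : Fin (W.card + 1) ↪ IsLocalRing.ResidueField B :=
      Fin.valEmbedding.trans (Infinite.natEmbedding _)
    have hb : ∀ j, ∃ b : B, IsLocalRing.residue B b = f j := fun j =>
      IsLocalRing.residue_surjective (f j)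
    choose b hb using hb
    have hunit : ∀ j l, j ≠ l → IsUnit (b j - b l) := by
      intro j l hjl
      rw [← IsLocalRing.notMem_maximalIdeal, ← IsLocalRing.residue_eq_zero_iff, map_sub, hb, hb,
        sub_eq_zero]
      exact fun h => hjl (f.injective h)
    let bad : Finset (Fin (W.card + 1)) :=
      W.biUnion (fun w => Finset.univ.filter (fun j => n' + b j • n ∈ w))
    have hbad : bad.card < (Finset.univ : Finset (Fin (W.card + 1))).card := by
      have h2 : bad.card ≤ ∑ w ∈ W, 1 := by
        refine Finset.card_biUnion_le.trans (Finset.sum_le_sum fun w hw => ?_)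
        rw [Finset.card_le_one]
        intro j hj l hl
        by_contra hjl
        have hj' := (Finset.mem_filter.1 hj).2
        have hl' := (Finset.mem_filter.1 hl).2
        have h3 : (b j - b l) • n ∈ w := by
          have := w.sub_mem hj' hl'
          have e : n' + b j • n - (n' + b l • n) = (b j - b l) • n := by
            rw [sub_smul]; abel
          rwa [e] at this
        exact hn w hw ((Submodule.smul_mem_iff_of_isUnit w (hunit j l hjl)).1 h3)
      rw [Finset.sum_const, smul_eq_mul, mul_one] at h2
      rw [Finset.card_univ, Fintype.card_fin]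
      omega
    obtain ⟨j, -, hj⟩ := Finset.exists_mem_notMem_of_card_lt_card hbad
    refine ⟨n' + b j • n, fun w hw => ?_⟩
    rcases Finset.mem_insert.1 hw with rfl | hw
    · intro hx
      apply hn'
      have := w.sub_mem hx (w.smul_mem (b j) hnw)
      rwa [add_sub_cancel_right] at this
    · intro hx
      exact hj (Finset.mem_biUnion.2 ⟨w, hw, Finset.mem_filter.2 ⟨Finset.mem_univ _, hx⟩⟩)

section
variable {A M : Type*} [CommRing A] [AddCommGroup M] [Module A M] {r : ℕ}

/-- coordinates modulo an ideal -/
noncomputable def psi (e : Module.Basis (Fin r) A M) (m : Ideal A) :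
    M →ₗ[A] (Fin r → A ⧸ m) :=
  ((Ideal.Quotient.mkₐ A m).toLinearMap.compLeft (Fin r)) ∘ₗ e.equivFun.toLinearMap

theorem psi_apply (e : Module.Basis (Fin r) A M) (m : Ideal A) (x : M) (t : Fin r) :
    psi e m x t = Ideal.Quotient.mk m (e.repr x t) := rfl

theorem psi_surj (e : Module.Basis (Fin r) A M) (m : Ideal A) :
    Function.Surjective (psi e m) := by
  intro y
  have h : ∀ t, ∃ a : A, Ideal.Quotient.mk m a = y t := fun t => Ideal.Quotient.mk_surjective (y t)
  choose a ha using h
  refine ⟨e.equivFun.symm a, ?_⟩
  funext t
  rw [psi_apply, ← ha t]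
  congr 1
  have := congrFun (e.equivFun.apply_symm_apply a) t
  rwa [Module.Basis.equivFun_apply] at this

theorem psi_smul (e : Module.Basis (Fin r) A M) (m : Ideal A) (a : A) (x : M) :
    psi e m (a • x) = (Ideal.Quotient.mk m a) • psi e m x := by
  funext t
  rw [Pi.smul_apply, psi_apply, psi_apply, map_smul, Finsupp.smul_apply, smul_eq_mul, map_mul,
    smul_eq_mul]

end



end helpers

/-- Let `B` be a local ring with infinite residue field, `A` a semi-local ring, `B → A` a ring map
carrying the maximal ideal of `B` into the Jacobson radical of `A`, `M` a finite free `A`-module and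
`N` a `B`-submodule of `M` generating `M` as an `A`-module. Then `N` contains a basis of `M` over
`A`. -/
theorem result {B A M : Type u} [CommRing B] [CommRing A]
    [IsLocalRing B] [Infinite (IsLocalRing.ResidueField B)] [Algebra B A]
    [Finite (MaximalSpectrum A)]
    (hBA : (IsLocalRing.maximalIdeal B).map (algebraMap B A) ≤ (⊥ : Ideal A).jacobson)
    [AddCommGroup M] [Module A M] [Module B M] [IsScalarTower B A M]
    [Module.Free A M] [Module.Finite A M]
    (N : Submodule B M) (hN : Submodule.span A (N : Set M) = ⊤) :
    ∃ b : Module.Basis (Fin (Module.finrank A M)) A M, ∀ i, b i ∈ N := by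
  classical
  rcases subsingleton_or_nontrivial A with hA | hA
  · haveI : Subsingleton M := Module.subsingleton A M
    refine ⟨Module.Basis.ofRepr (LinearEquiv.ofSubsingleton _ _), fun i => ?_⟩
    rw [Subsingleton.elim (Module.Basis.ofRepr (LinearEquiv.ofSubsingleton M
      (Fin (Module.finrank A M) →₀ A)) i) 0]
    exact N.zero_mem
  set r := Module.finrank A M with hr
  let e : Module.Basis (Fin r) A M := Module.finBasis A M
  haveI : Fintype (MaximalSpectrum A) := Fintype.ofFinite _
  -- inductive construction
  have key : ∀ j : ℕ, j ≤ r → ∃ n : Fin j → N, ∀ m : MaximalSpectrum A,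
      LinearIndependent (A ⧸ m.asIdeal) (fun l => psi e m.asIdeal (n l : M)) := by
    intro j
    induction j with
    | zero => exact fun _ => ⟨Fin.elim0, fun m => linearIndependent_empty_type⟩
    | succ j ih =>
      intro hj
      obtain ⟨n, hn⟩ := ih (by omega)
      -- the bad submodules
      let Wm : MaximalSpectrum A → Submodule B N := fun m =>
        { carrier := {x | psi e m.asIdeal (x : M) ∈
            Submodule.span (A ⧸ m.asIdeal) (Set.range fun l => psi e m.asIdeal (n l : M))}
          add_mem' := by
            intro x y hx hy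
            simp only [Set.mem_ofPred_eq, Submodule.coe_add, map_add] at hx hy ⊢
            exact Submodule.add_mem _ hx hy
          zero_mem' := by
            simp only [Set.mem_ofPred_eq, Submodule.coe_zero, map_zero]
            exact Submodule.zero_mem _
          smul_mem' := by
            intro c x hx
            simp only [Set.mem_ofPred_eq, Submodule.coe_smul] at hx ⊢
            rw [← algebraMap_smul A c (x : M), psi_smul]
            exact Submodule.smul_mem _ _ hx }
      have hW : ∀ w ∈ Finset.univ.image Wm, w ≠ ⊤ := by
        intro w hw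
        obtain ⟨m, -, rfl⟩ := Finset.mem_image.1 hw
        intro htop
        haveI := m.isMaximal
        letI := Ideal.Quotient.field m.asIdeal
        set S := Submodule.span (A ⧸ m.asIdeal) (Set.range fun l => psi e m.asIdeal (n l : M))
          with hS
        have h1 : ∀ x ∈ N, psi e m.asIdeal x ∈ S := by
          intro x hx
          have : (⟨x, hx⟩ : N) ∈ Wm m := by rw [htop]; trivial
          exact this
        have h2 : ∀ y : M, psi e m.asIdeal y ∈ S := by
          intro y
          have hy : y ∈ Submodule.span A (N : Set M) := by rw [hN]; trivial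
          induction hy using Submodule.span_induction with
          | mem x hx => exact h1 x hx
          | zero => rw [map_zero]; exact Submodule.zero_mem _
          | add x y _ _ hx hy => rw [map_add]; exact Submodule.add_mem _ hx hy
          | smul a x _ hx => rw [psi_smul]; exact Submodule.smul_mem _ _ hx
        have h3 : S = ⊤ := by
          rw [eq_top_iff]
          intro y _
          obtain ⟨x, rfl⟩ := psi_surj e m.asIdeal y
          exact h2 x
        have h4 : Module.finrank (A ⧸ m.asIdeal) S ≤ j := by
          have := finrank_range_le_card (R := A ⧸ m.asIdeal)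
            (fun l => psi e m.asIdeal (n l : M))
          rwa [Fintype.card_fin] at this
        rw [h3, finrank_top, Module.finrank_fin_fun] at h4
        omega
      obtain ⟨x, hx⟩ := avoid (Finset.univ.image Wm) hW
      refine ⟨Fin.snoc n x, fun m => ?_⟩
      haveI := m.isMaximal
      letI := Ideal.Quotient.field m.asIdeal
      have hcomp : (fun l => psi e m.asIdeal ((Fin.snoc n x : Fin (j + 1) → N) l : M)) =
          Fin.snoc (fun l => psi e m.asIdeal (n l : M)) (psi e m.asIdeal (x : M)) := by
        funext l
        refine Fin.lastCases ?_ (fun l => ?_) l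
        · simp
        · simp
      rw [hcomp, linearIndependent_finSnoc]
      exact ⟨hn m, hx (Wm m) (Finset.mem_image_of_mem _ (Finset.mem_univ _))⟩
  obtain ⟨n, hn⟩ := key r le_rfl
  -- determinant is a unit
  have hdet : IsUnit (e.det (fun l => (n l : M))) := by
    by_contra hnu
    obtain ⟨m, hm, hmem⟩ := exists_max_ideal_of_mem_nonunits hnu
    haveI := hm
    letI := Ideal.Quotient.field m
    have h1 := hn ⟨m, hm⟩
    have h2 : (fun l => psi e m (n l : M)) =
        ((Ideal.Quotient.mk m).mapMatrix (e.toMatrix fun l => (n l : M))).col := by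
      funext l t
      rfl
    change LinearIndependent (A ⧸ m) (fun l => psi e m (n l : M)) at h1
    rw [h2, Matrix.linearIndependent_cols_iff_isUnit, Matrix.isUnit_iff_isUnit_det,
      ← RingHom.map_det, ← Module.Basis.det_apply] at h1
    exact h1.ne_zero (Ideal.Quotient.eq_zero_iff_mem.2 hmem)
  obtain ⟨hli, hspan⟩ := (Module.Basis.is_basis_iff_det e).2 hdet
  refine ⟨Module.Basis.mk hli hspan.ge, fun i => ?_⟩
  rw [Module.Basis.mk_apply]
  exact (n i).2

end Groth.Agent.S5213
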