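import Groth.Statements.S5215
import Groth.Agent.Lib.helper8.UEE

set_option autoImplicit false
open CategoryTheory CategoryTheory.Limits
universe w v₁ u₁
open DescCat

namespace Groth.Agent.S5215

/-- In a category with pullbacks: for a universally effective equivalence relation `p₁, p₂ : R ⇉ X` with
quotient map `π : X ⟶ X/R` and a morphism `g` out of the quotient, `g` is a monomorphism if and only
if `R` is the kernel pair of `π ≫ g`. -/
theorem result {C : Type u₁} [Category.{v₁} C] [HasPullbacks C]
    {R X Z : C} {p₁ p₂ : R ⟶ X} (e : UniversallyEffectiveEquivalenceRelation p₁ p₂)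
    (f : X ⟶ Z) (g : e.B ⟶ Z) (hg : e.π ≫ g = f) :
    Mono g ↔ IsKernelPair f p₁ p₂ := by
  constructor
  · intro hm
    rw [← hg]
    exact e.isKernelPair.comp_of_mono
  · intro hk
    apply Groth.Agent.H8.mono_of_uepi (Groth.Agent.H8.UEE.uepi e.universally_effectiveEpi_π) g
    intro W a b hab
    rw [hg] at hab
    have h1 : hk.lift a b hab ≫ p₁ = a := IsPullback.lift_fst hk a b hab
    have h2 : hk.lift a b hab ≫ p₂ = b := IsPullback.lift_snd hk a b hab
    calc a ≫ e.π = (hk.lift a b hab ≫ p₁) ≫ e.π := by rw [h1]
      _ = (hk.lift a b hab ≫ p₂) ≫ e.π := by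
          simp only [Category.assoc, e.isKernelPair.w]
      _ = b ≫ e.π := by rw [h2]

end Groth.Agent.S5215
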