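import Groth.Statements.S5221
import Groth.Agent.S5220

set_option autoImplicit false
open CategoryTheory CategoryTheory.Limits
universe w v₁ u₁
open GrpQ

namespace Groth.Agent.S5221

/-- Existence part: in a category with pullbacks: with `d₀ d₁ : X₁ ⇉ X₀` admitting a common section and
`f₀ : Y₀ ⟶ X₀` an effective and universal epimorphism, the pair `(d₀, d₁)` has a coequalizer if and
only if its inverse-image pair on `Y₀` has one. -/
theorem result {C : Type u₁} [Category.{v₁} C] [HasPullbacks C]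
    {X₁ X₀ Y₀ : C} (d₀ d₁ : X₁ ⟶ X₀) (s : X₀ ⟶ X₁) (hs₀ : s ≫ d₀ = 𝟙 X₀) (hs₁ : s ≫ d₁ = 𝟙 X₀)
    (f₀ : Y₀ ⟶ X₀) [EffectiveEpi f₀]
    (hf : MorphismProperty.universally (MorphismProperty.epimorphisms C) f₀) :
    HasCoequalizer d₁ d₀ ↔
      HasCoequalizer (pullback.fst (pullback.snd f₀ d₁ ≫ d₀) f₀ ≫ pullback.fst f₀ d₁)
        (pullback.snd (pullback.snd f₀ d₁ ≫ d₀) f₀) := by
  have hepi : Epi f₀ := inferInstance
  -- pushing a coequalizing map forward
  have hpush : ∀ {T : C} (h : X₀ ⟶ T), d₁ ≫ h = d₀ ≫ h →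
      (pullback.fst (pullback.snd f₀ d₁ ≫ d₀) f₀ ≫ pullback.fst f₀ d₁) ≫ f₀ ≫ h =
        pullback.snd (pullback.snd f₀ d₁ ≫ d₀) f₀ ≫ f₀ ≫ h := by
    intro T h hh
    rw [Category.assoc, ← Category.assoc (pullback.fst f₀ d₁), pullback.condition, Category.assoc, hh,
      ← Category.assoc (pullback.snd f₀ d₁), ← Category.assoc, pullback.condition, Category.assoc]
  constructor
  · intro hco
    have key : ∀ t : Cofork (pullback.fst (pullback.snd f₀ d₁ ≫ d₀) f₀ ≫ pullback.fst f₀ d₁)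
        (pullback.snd (pullback.snd f₀ d₁ ≫ d₀) f₀),
        ∃ k : coequalizer d₁ d₀ ⟶ t.pt, (f₀ ≫ coequalizer.π d₁ d₀) ≫ k = t.π ∧
          ∀ m : coequalizer d₁ d₀ ⟶ t.pt, (f₀ ≫ coequalizer.π d₁ d₀) ≫ m = t.π → m = k := by
      intro t
      obtain ⟨h, ⟨h1, h2⟩, hu⟩ := Groth.Agent.S5220.result d₀ d₁ s hs₀ hs₁ f₀ hf t.π t.condition
      refine ⟨coequalizer.desc h h1, ?_, ?_⟩
      · rw [Category.assoc, coequalizer.π_desc, h2]
      · intro m hm
        apply coequalizer.hom_ext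
        rw [coequalizer.π_desc]
        apply hu
        refine ⟨?_, ?_⟩
        · rw [← Category.assoc, coequalizer.condition, Category.assoc]
        · rw [← Category.assoc]; exact hm
    exact HasColimit.mk ⟨Cofork.ofπ (f₀ ≫ coequalizer.π d₁ d₀)
      (hpush _ (coequalizer.condition d₁ d₀)), Cofork.IsColimit.mk _ (fun t => (key t).choose)
        (fun t => (key t).choose_spec.1) (fun t m hm => (key t).choose_spec.2 m hm)⟩
  · intro hco
    set e₁ := pullback.fst (pullback.snd f₀ d₁ ≫ d₀) f₀ ≫ pullback.fst f₀ d₁ with he₁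
    set e₀ := pullback.snd (pullback.snd f₀ d₁ ≫ d₀) f₀ with he₀
    obtain ⟨h₀, ⟨h₀1, h₀2⟩, -⟩ := Groth.Agent.S5220.result d₀ d₁ s hs₀ hs₁ f₀ hf (coequalizer.π e₁ e₀)
      (coequalizer.condition e₁ e₀)
    have key : ∀ t : Cofork d₁ d₀,
        ∃ k : coequalizer e₁ e₀ ⟶ t.pt, h₀ ≫ k = t.π ∧
          ∀ m : coequalizer e₁ e₀ ⟶ t.pt, h₀ ≫ m = t.π → m = k := by
      intro t
      refine ⟨coequalizer.desc (f₀ ≫ t.π) (hpush t.π t.condition), ?_, ?_⟩
      · rw [← cancel_epi f₀, ← Category.assoc, h₀2, coequalizer.π_desc]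
      · intro m hm
        apply coequalizer.hom_ext
        rw [coequalizer.π_desc, ← h₀2, Category.assoc, hm]
    exact HasColimit.mk ⟨Cofork.ofπ h₀ h₀1, Cofork.IsColimit.mk _ (fun t => (key t).choose)
        (fun t => (key t).choose_spec.1) (fun t m hm => (key t).choose_spec.2 m hm)⟩

end Groth.Agent.S5221
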