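import Groth.Statements.S5222
import Mathlib.CategoryTheory.Monoidal.Cartesian.Grp

set_option autoImplicit false
open CategoryTheory CategoryTheory.Limits MonoidalCategory
universe v₁ u₁
open DescCat

namespace Groth.Agent.S5222

open MonObj CartesianMonoidalCategory SemiCartesianMonoidalCategory in
/-- In a cartesian monoidal category with pullbacks: for a homomorphism `f : G ⟶ G'` of group objects
with kernel `K = G ×_{G'} e`, the pair `G × K ⇉ G` given by the projection and by multiplication is
the kernel pair of `f`. -/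
theorem result {C : Type u₁} [Category.{v₁} C]
    [CartesianMonoidalCategory C] [HasPullbacks C]
    {G G' : C} [GrpObj G] [GrpObj G'] (f : G ⟶ G') [IsMonHom f] :
    IsKernelPair f (fst G (pullback f η[G']))
      ((G ◁ pullback.fst f η[G']) ≫ μ[G]) := by
  have hmul : ∀ {T : C} (φ : T ⟶ G ⊗ pullback f η[G']),
      φ ≫ (G ◁ pullback.fst f η[G']) ≫ μ[G] = (φ ≫ fst _ _) * (φ ≫ snd _ _ ≫ pullback.fst f η[G']) := by
    intro T φ
    rw [MonObj.mul_eq_mul, MonObj.comp_mul, MonObj.comp_mul, whiskerLeft_fst, whiskerLeft_snd]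
  have hι : pullback.fst f η[G'] ≫ f = 1 := by
    rw [pullback.condition, MonObj.one_eq_one, MonObj.comp_one]
  refine IsPullback.mk' ?_ ?_ ?_
  · have := hmul (𝟙 (G ⊗ pullback f η[G']))
    simp only [Category.id_comp] at this
    rw [this, MonObj.mul_comp, Category.assoc, hι, MonObj.comp_one, _root_.mul_one]
  · intro T φ φ' h₁ h₂
    rw [hmul, hmul, h₁] at h₂
    have h3 := mul_left_cancel h₂
    have h4 : φ ≫ snd _ _ = φ' ≫ snd _ _ := by
      rw [← cancel_mono (pullback.fst f η[G'])]
      simpa only [Category.assoc] using h3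
    exact CartesianMonoidalCategory.hom_ext _ _ h₁ h4
  · intro T a b hab
    have hk : (a⁻¹ * b) ≫ f = toUnit T ≫ η[G'] := by
      rw [MonObj.mul_comp, GrpObj.inv_comp, hab, inv_mul_cancel]
      rfl
    refine ⟨lift a (pullback.lift (a⁻¹ * b) (toUnit T) hk), ?_, ?_⟩
    · rw [lift_fst]
    · rw [hmul, lift_fst, ← Category.assoc, lift_snd, pullback.lift_fst,
        mul_inv_cancel_left]

end Groth.Agent.S5222
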