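import Groth.Statements.S5223
import Mathlib
import Groth.Agent.Lib.helper22.SmoothDescentSch0
import Groth.Agent.Lib.helper15.FlatSrc

set_option autoImplicit false
open CategoryTheory CategoryTheory.Limits AlgebraicGeometry
universe u
open GrpQ

namespace Groth.Agent.S5223

section Helpers

open CategoryTheory CategoryTheory.Limits AlgebraicGeometry TensorProduct

open Groth.Agent.H22.SmoothDescent

theorem flat_atPrime_of_isPushout (R S T S' : Type u) [CommRing R] [CommRing S] [CommRing T]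
    [CommRing S'] [Algebra R S] [Algebra R T] [Algebra S S'] [Algebra T S'] [Algebra R S']
    [IsScalarTower R S S'] [IsScalarTower R T S'] [Algebra.IsPushout R T S S']
    (q : Ideal S) [q.IsPrime] (q' : Ideal S') [q'.IsPrime] [q'.LiesOver q]
    [Module.Flat R (Localization.AtPrime q)] : Module.Flat T (Localization.AtPrime q') := by
  have hle : Algebra.algebraMapSubmonoid S' q.primeCompl ≤ q'.primeCompl := by
    rintro _ ⟨x, hx, rfl⟩
    intro h
    apply hx
    rw [q'.over_def q]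
    exact h
  haveI h0 : IsLocalization (Algebra.algebraMapSubmonoid S' q.primeCompl)
      (S' ⊗[S] Localization.AtPrime q) := inferInstance
  letI := IsLocalization.localizationAlgebraOfSubmonoidLe (S' ⊗[S] Localization.AtPrime q)
    (Localization.AtPrime q') _ _ hle
  have hsc : ∀ x : S', algebraMap (S' ⊗[S] Localization.AtPrime q) (Localization.AtPrime q')
      (algebraMap S' _ x) = algebraMap S' _ x := fun x => IsLocalization.lift_eq _ _
  haveI : IsScalarTower S' (S' ⊗[S] Localization.AtPrime q) (Localization.AtPrime q') :=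
    IsScalarTower.of_algebraMap_eq (fun x => (hsc x).symm)
  haveI := IsLocalization.isLocalization_of_submonoid_le (S' ⊗[S] Localization.AtPrime q)
    (Localization.AtPrime q') _ _ hle
  haveI : Module.Flat (S' ⊗[S] Localization.AtPrime q) (Localization.AtPrime q') :=
    IsLocalization.flat _ (q'.primeCompl.map (algebraMap S' (S' ⊗[S] Localization.AtPrime q)))
  haveI : Module.Flat T (S' ⊗[S] Localization.AtPrime q) :=
    Module.Flat.of_linearEquiv
      (Algebra.IsPushout.cancelBaseChange R T S S' (Localization.AtPrime q))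
  haveI : IsScalarTower T (S' ⊗[S] Localization.AtPrime q) (Localization.AtPrime q') :=
    IsScalarTower.of_algebraMap_eq (R := T) (S := S' ⊗[S] Localization.AtPrime q)
        (A := Localization.AtPrime q') (fun x => by
      have h9 : algebraMap T (S' ⊗[S] Localization.AtPrime q) x =
        algebraMap S' (S' ⊗[S] Localization.AtPrime q) (algebraMap T S' x) := rfl
      rw [h9, hsc, ← IsScalarTower.algebraMap_apply T S' (Localization.AtPrime q')])
  exact Module.Flat.trans T (S' ⊗[S] Localization.AtPrime q) _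

theorem flat_atPrime_descent (R S T S' : Type u) [CommRing R] [CommRing S] [CommRing T]
    [CommRing S'] [Algebra R S] [Algebra R T] [Algebra S S'] [Algebra T S'] [Algebra R S']
    [IsScalarTower R S S'] [IsScalarTower R T S'] [Algebra.IsPushout R T S S'] [Module.Flat R T]
    (q : Ideal S) [q.IsPrime] (q' : Ideal S') [q'.IsPrime] [q'.LiesOver q]
    [Module.Flat T (Localization.AtPrime q')] : Module.Flat R (Localization.AtPrime q) := by
  haveI : Module.Flat S S' := by
    haveI : Algebra.IsPushout R S T S' := Algebra.IsPushout.symm inferInstance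
    exact Module.Flat.of_linearEquiv (Algebra.IsPushout.equiv R S T S').toLinearEquiv.symm
  letI := Localization.AtPrime.algebraOfLiesOver q q'
  haveI := faithfullyFlat_localization q q'
  haveI : IsScalarTower R T (Localization.AtPrime q') := IsScalarTower.to₁₂₄ R T S' _
  haveI : Module.Flat R (Localization.AtPrime q') := Module.Flat.trans R T _
  haveI : IsScalarTower R (Localization.AtPrime q) (Localization.AtPrime q') :=
    IsScalarTower.to₁₃₄ R S _ _
  exact Groth.Agent.Lib.H15.flat_of_flat_of_faithfullyFlat R (Localization.AtPrime q)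
    (Localization.AtPrime q')

theorem flat_stalkMap_iff {X Y : Scheme.{u}} (f : X ⟶ Y) {V : Y.Opens} (hV : IsAffineOpen V)
    {U : X.Opens} (hU : IsAffineOpen U) (hUV : U ≤ f ⁻¹ᵁ V) (x : X) (hx : x ∈ U) :
    letI := (f.appLE V U hUV).hom.toAlgebra
    (f.stalkMap x).hom.Flat ↔
      Module.Flat Γ(Y, V) (Localization.AtPrime (hU.primeIdealOf ⟨x, hx⟩).asIdeal) := by
  letI := (f.appLE V U hUV).hom.toAlgebra
  have hpq : (hV.primeIdealOf ⟨f x, hUV hx⟩).asIdeal =
      Ideal.comap (f.appLE V U hUV).hom (hU.primeIdealOf ⟨x, hx⟩).asIdeal :=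
    congr($(IsAffineOpen.comap_primeIdealOf_appLE V hV U hU hUV hx).1).symm
  haveI : (hU.primeIdealOf ⟨x, hx⟩).asIdeal.LiesOver
      (hV.primeIdealOf ⟨f x, hUV hx⟩).asIdeal := ⟨hpq⟩
  letI := Localization.AtPrime.algebraOfLiesOver (hV.primeIdealOf ⟨f x, hUV hx⟩).asIdeal
      (hU.primeIdealOf ⟨x, hx⟩).asIdeal
  rw [RingHom.Flat.respectsIso.arrow_mk_iso_iff
      (IsAffineOpen.arrowStalkMapIso f V hV U hU hUV hx)]
  exact Module.flat_iff_of_isLocalization
    (Localization.AtPrime (hV.primeIdealOf ⟨f x, hUV hx⟩).asIdeal)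
    (hV.primeIdealOf ⟨f x, hUV hx⟩).asIdeal.primeCompl
    (Localization.AtPrime (hU.primeIdealOf ⟨x, hx⟩).asIdeal)

theorem main {F₂ F₁ X₁ X₀ : Scheme.{u}} {v : F₂ ⟶ F₁} {d' : F₂ ⟶ X₁} {d : F₁ ⟶ X₀} {u : X₁ ⟶ X₀}
    (h : IsPullback v d' d u) [Flat u] (x : F₂) :
    (d'.stalkMap x).hom.Flat ↔ (d.stalkMap (v.base x)).hom.Flat := by
  obtain ⟨V, hV, U, hU, hUV, V', hV', hV'V, UY, hUY, h1, h2, hzUY, hpo⟩ :=
    exists_affine_pushout h x
  rw [flat_stalkMap_iff d' hV' hUY h2 x hzUY, flat_stalkMap_iff d hV hU hUV (v x) (h1 hzUY)]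
  letI := (d.appLE V U hUV).hom.toAlgebra
  letI := (u.appLE V V' hV'V).hom.toAlgebra
  letI := (v.appLE U UY h1).hom.toAlgebra
  letI := (d'.appLE V' UY h2).hom.toAlgebra
  letI : Algebra Γ(X₀, V) Γ(F₂, UY) := (d.appLE V U hUV ≫ v.appLE U UY h1).hom.toAlgebra
  haveI : IsScalarTower Γ(X₀, V) Γ(F₁, U) Γ(F₂, UY) := IsScalarTower.of_algebraMap_eq' rfl
  haveI : IsScalarTower Γ(X₀, V) Γ(X₁, V') Γ(F₂, UY) := IsScalarTower.of_algebraMap_eq' (by
    show (d.appLE V U hUV ≫ v.appLE U UY h1).hom = (u.appLE V V' hV'V ≫ d'.appLE V' UY h2).hom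
    rw [hpo.w])
  haveI : Algebra.IsPushout Γ(X₀, V) Γ(X₁, V') Γ(F₁, U) Γ(F₂, UY) :=
    (CommRingCat.isPushout_iff_isPushout (R := Γ(X₀, V)) (R' := Γ(X₁, V'))
      (S := Γ(F₁, U)) (S' := Γ(F₂, UY))).mp hpo.flip
  haveI : Module.Flat Γ(X₀, V) Γ(X₁, V') :=
    HasRingHomProperty.appLE @Flat u inferInstance ⟨V, hV⟩ ⟨V', hV'⟩ hV'V
  have hq := congr($(IsAffineOpen.comap_primeIdealOf_appLE U hU UY hUY h1 hzUY).1)
  haveI : (hUY.primeIdealOf ⟨x, hzUY⟩).asIdeal.LiesOver
      (hU.primeIdealOf ⟨v x, h1 hzUY⟩).asIdeal := ⟨hq.symm⟩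
  constructor
  · intro hf
    exact flat_atPrime_descent Γ(X₀, V) Γ(F₁, U) Γ(X₁, V') Γ(F₂, UY)
      (hU.primeIdealOf ⟨v x, h1 hzUY⟩).asIdeal (hUY.primeIdealOf ⟨x, hzUY⟩).asIdeal
  · intro hf
    exact flat_atPrime_of_isPushout Γ(X₀, V) Γ(F₁, U) Γ(X₁, V') Γ(F₂, UY)
      (hU.primeIdealOf ⟨v x, h1 hzUY⟩).asIdeal (hUY.primeIdealOf ⟨x, hzUY⟩).asIdeal

end Helpers

/-- In a cartesian square of schemes `F₂ = F₁ ×_{X₀} X₁` whose bottom map `u : X₁ ⟶ X₀` is flat, the
base-changed map `d' : F₂ ⟶ X₁` is flat at a point `x` if and only if `d : F₁ ⟶ X₀` is flat at the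
image of `x` in `F₁`. -/
theorem result {F₂ F₁ X₁ X₀ : Scheme.{u}}
    {v : F₂ ⟶ F₁} {d' : F₂ ⟶ X₁} {d : F₁ ⟶ X₀} {u : X₁ ⟶ X₀}
    (h : IsPullback v d' d u) [Flat u] (x : F₂) :
    (d'.stalkMap x).hom.Flat ↔ (d.stalkMap (v.base x)).hom.Flat := by
  exact main h x

end Groth.Agent.S5223
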