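import Groth.Statements.S5226
import Mathlib
import Groth.Agent.Lib.helper23.SC3

set_option autoImplicit false
open CategoryTheory CategoryTheory.Limits
universe w v₁ u₁
open ShfCat Opposite Groth.Agent.Lib.helper23

namespace Groth.Agent.S5226

/-- For sheaves of sets on a site with sheafification: if `R ⇉ X` is an equivalence relation with
(universally effective) quotient `X/R` and `Y ⊆ X` is a subsheaf with induced relation `R_Y`, then
the canonical map `Y/R_Y ⟶ X/R` is a monomorphism. Here `R_Y` is built as the iterated pullback of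
`R` along `Y ⟶ X` on both sides. -/
theorem result {C : Type u₁} [Category.{v₁} C]
    (J : GrothendieckTopology C) [HasSheafify J (Type w)]
    {R X Y : Sheaf J (Type w)} {p₁ p₂ : R ⟶ X} (e : UniversallyEffectiveEquivalenceRelation p₁ p₂)
    (ι : Y ⟶ X) [Mono ι]
    [HasCoequalizer (pullback.fst (pullback.fst p₁ ι ≫ p₂) ι ≫ pullback.snd p₁ ι)
      (pullback.snd (pullback.fst p₁ ι ≫ p₂) ι)]
    (g : coequalizer (pullback.fst (pullback.fst p₁ ι ≫ p₂) ι ≫ pullback.snd p₁ ι)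
      (pullback.snd (pullback.fst p₁ ι ≫ p₂) ι) ⟶ e.B)
    (hg : coequalizer.π _ _ ≫ g = ι ≫ e.π) :
    Mono g := by
  refine ⟨fun {T} a b hab => ?_⟩
  obtain ⟨T₁, ε₁, y₁, hε₁, h₁⟩ := SC.exists_cover_lift (coequalizer.π
    (pullback.fst (pullback.fst p₁ ι ≫ p₂) ι ≫ pullback.snd p₁ ι)
    (pullback.snd (pullback.fst p₁ ι ≫ p₂) ι)) a
  obtain ⟨T₂, ε₂, y₂, hε₂, h₂⟩ := SC.exists_cover_lift (coequalizer.π
    (pullback.fst (pullback.fst p₁ ι ≫ p₂) ι ≫ pullback.snd p₁ ι)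
    (pullback.snd (pullback.fst p₁ ι ≫ p₂) ι)) (ε₁ ≫ b)
  haveI : Epi (ε₂ ≫ ε₁) := epi_comp ε₂ ε₁
  rw [← cancel_epi (ε₂ ≫ ε₁)]
  have hk : (ε₂ ≫ y₁ ≫ ι) ≫ e.π = (y₂ ≫ ι) ≫ e.π := by
    rw [Category.assoc, Category.assoc, ← hg, ← Category.assoc y₁, ← h₁, Category.assoc,
      Category.assoc, ← hg, ← Category.assoc y₂, ← h₂]
    simp only [Category.assoc]
    rw [hab]
  obtain ⟨r, hr1, hr2⟩ : ∃ r : T₂ ⟶ R, r ≫ p₁ = ε₂ ≫ y₁ ≫ ι ∧ r ≫ p₂ = y₂ ≫ ι :=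
    ⟨e.isKernelPair.lift _ _ hk, e.isKernelPair.lift_fst _ _ hk, e.isKernelPair.lift_snd _ _ hk⟩
  have hl1 : r ≫ p₁ = (ε₂ ≫ y₁) ≫ ι := by rw [hr1, Category.assoc]
  have hl2 : pullback.lift r (ε₂ ≫ y₁) hl1 ≫ (pullback.fst p₁ ι ≫ p₂) = y₂ ≫ ι := by
    rw [← Category.assoc, pullback.lift_fst, hr2]
  have hc := coequalizer.condition
    (pullback.fst (pullback.fst p₁ ι ≫ p₂) ι ≫ pullback.snd p₁ ι)
    (pullback.snd (pullback.fst p₁ ι ≫ p₂) ι)
  have hc' := congrArg (fun k => pullback.lift (pullback.lift r (ε₂ ≫ y₁) hl1) y₂ hl2 ≫ k) hc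
  simp only [← Category.assoc] at hc'
  rw [pullback.lift_fst, pullback.lift_snd, pullback.lift_snd] at hc'
  simp only [Category.assoc] at hc'
  calc (ε₂ ≫ ε₁) ≫ a = ε₂ ≫ y₁ ≫ _ := by rw [Category.assoc, h₁]
    _ = y₂ ≫ _ := hc'
    _ = (ε₂ ≫ ε₁) ≫ b := by rw [Category.assoc]; exact h₂.symm

end Groth.Agent.S5226
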