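import Groth.Statements.S5227
import Mathlib
import Groth.Agent.Lib.helper23.SC3

set_option autoImplicit false
open CategoryTheory CategoryTheory.Limits
universe w v₁ u₁
open ShfCat Opposite Groth.Agent.Lib.helper23

namespace Groth.Agent.S5227

/-- For sheaves of sets on a site with sheafification: for an equivalence relation `R ⇉ X` with
(universally effective) quotient `π : X ⟶ X/R`, inverse image along `π` is a bijection from the
subsheaves of `X/R` onto the subsheaves of `X` stable under `R` (those whose two inverse images in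
`R` agree). -/
theorem result {C : Type u₁} [Category.{v₁} C]
    (J : GrothendieckTopology C) [HasSheafify J (Type w)]
    {R X : Sheaf J (Type w)} {p₁ p₂ : R ⟶ X} (e : UniversallyEffectiveEquivalenceRelation p₁ p₂) :
    Function.Injective (Subobject.pullback e.π).obj ∧
      Set.range (Subobject.pullback e.π).obj =
        {Y : Subobject X | (Subobject.pullback p₁).obj Y = (Subobject.pullback p₂).obj Y} := by
  haveI : Epi e.π := by
    have hc : IsColimit (Cofork.ofπ e.π _) := e.isPushout.isLimitFork
    exact Cofork.IsColimit.epi hc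
  have keyA : ∀ Z Z' : Subobject e.B,
      (Subobject.pullback e.π).obj Z ≤ (Subobject.pullback e.π).obj Z' → Z ≤ Z' := by
    intro Z Z' h
    haveI : Epi (Subobject.pullbackπ e.π Z) := SC.epi_of_isPullback (Subobject.isPullback e.π Z)
    have hsq : (Subobject.ofLE _ _ h ≫ Subobject.pullbackπ e.π Z') ≫ Z'.arrow =
        Subobject.pullbackπ e.π Z ≫ Z.arrow := by
      rw [Category.assoc, (Subobject.isPullback e.π Z').w, ← Category.assoc, Subobject.ofLE_arrow,
        (Subobject.isPullback e.π Z).w]
    obtain ⟨l, -, hl⟩ := SC.exists_lift_of_epi_mono (Subobject.pullbackπ e.π Z) Z'.arrow _ _ hsq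
    exact Subobject.le_of_comm l hl
  have keyB : ∀ (Y : Subobject X), (Subobject.pullback p₁).obj Y = (Subobject.pullback p₂).obj Y →
      ∀ (Z : Subobject e.B) (tY : (Y : Sheaf J (Type w)) ⟶ (Z : Sheaf J (Type w))), Epi tY →
      tY ≫ Z.arrow = Y.arrow ≫ e.π → (Subobject.pullback e.π).obj Z ≤ Y := by
    intro Y hY Z tY _ htY
    have hx : (pullback.snd (Subobject.pullbackπ e.π Z) tY ≫ Y.arrow) ≫ e.π =
        (pullback.fst (Subobject.pullbackπ e.π Z) tY ≫ ((Subobject.pullback e.π).obj Z).arrow) ≫
          e.π := by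
      rw [Category.assoc, Category.assoc, ← htY, ← (Subobject.isPullback e.π Z).w,
        ← Category.assoc, ← Category.assoc, pullback.condition]
    obtain ⟨r, hr1, hr2⟩ : ∃ r : pullback (Subobject.pullbackπ e.π Z) tY ⟶ R,
        r ≫ p₁ = pullback.snd (Subobject.pullbackπ e.π Z) tY ≫ Y.arrow ∧
        r ≫ p₂ = pullback.fst (Subobject.pullbackπ e.π Z) tY ≫
          ((Subobject.pullback e.π).obj Z).arrow :=
      ⟨e.isKernelPair.lift _ _ hx, e.isKernelPair.lift_fst _ _ hx, e.isKernelPair.lift_snd _ _ hx⟩
    have hk : ((Subobject.isPullback p₁ Y).lift (pullback.snd (Subobject.pullbackπ e.π Z) tY) r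
        hr1.symm ≫ Subobject.ofLE _ _ (le_of_eq hY) ≫ Subobject.pullbackπ p₂ Y) ≫ Y.arrow =
        pullback.fst (Subobject.pullbackπ e.π Z) tY ≫ ((Subobject.pullback e.π).obj Z).arrow := by
      rw [Category.assoc, Category.assoc, (Subobject.isPullback p₂ Y).w,
        ← Category.assoc (Subobject.ofLE _ _ _), Subobject.ofLE_arrow, ← Category.assoc,
        (Subobject.isPullback p₁ Y).lift_snd, hr2]
    obtain ⟨l, -, hl⟩ := SC.exists_lift_of_epi_mono
      (pullback.fst (Subobject.pullbackπ e.π Z) tY) Y.arrow _ _ hk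
    exact Subobject.le_of_comm l hl
  refine ⟨fun Z Z' h => le_antisymm (keyA Z Z' (le_of_eq h)) (keyA Z' Z (le_of_eq h.symm)), ?_⟩
  ext Y
  constructor
  · rintro ⟨Z, rfl⟩
    show (Subobject.pullback p₁).obj ((Subobject.pullback e.π).obj Z) =
      (Subobject.pullback p₂).obj ((Subobject.pullback e.π).obj Z)
    rw [← Subobject.pullback_comp, ← Subobject.pullback_comp, e.isKernelPair.w]
  · intro hY
    have hY' : (Subobject.pullback p₁).obj Y = (Subobject.pullback p₂).obj Y := hY
    refine ⟨Subobject.mk (Sheaf.imageι (Y.arrow ≫ e.π)), ?_⟩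
    obtain ⟨tY, htY⟩ : ∃ tY : (Y : Sheaf J (Type w)) ⟶
        (Subobject.mk (Sheaf.imageι (Y.arrow ≫ e.π)) : Sheaf J (Type w)),
        tY = Sheaf.toImage (Y.arrow ≫ e.π) ≫ (Subobject.underlyingIso _).inv := ⟨_, rfl⟩
    have htY' : tY ≫ (Subobject.mk (Sheaf.imageι (Y.arrow ≫ e.π))).arrow = Y.arrow ≫ e.π := by
      rw [htY, Category.assoc, Subobject.underlyingIso_arrow, Sheaf.toImage_ι]
    haveI : Epi tY := by
      rw [htY]
      infer_instance
    apply le_antisymm
    · exact keyB Y hY' _ tY inferInstance htY'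
    · exact Subobject.le_of_comm
        ((Subobject.isPullback e.π _).lift tY Y.arrow htY')
        ((Subobject.isPullback e.π _).lift_snd tY Y.arrow htY')

end Groth.Agent.S5227
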