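import Groth.Statements.S5228
import Groth.Agent.Lib.helper12.Diag

set_option autoImplicit false
universe w u
open HopfRep

namespace Groth.Agent.S5228

open Groth.Agent.H12Diag TensorProduct

/-- Over an affine base, in comodule form: for a representation `V` of a diagonalizable group `D(M)`
over a commutative ring `k` (a `k[M]`-comodule), every sub-representation which is a direct summand
as a `k`-module is a direct summand as a representation. (The published statement: a short exact
sequence of quasi-coherent `D(M)`-modules that splits as a sequence of modules splits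
equivariantly.) -/
theorem result {k : Type u} [CommRing k] {M : Type u} [CommGroup M]
    (V : Type w) [AddCommGroup V] [Module k V] [HopfRep.Comod k (MonoidAlgebra k M) V]
    (W : Submodule k V) (hW : HopfRep.IsSubcomod (k := k) (A := MonoidAlgebra k M) W)
    (hsplit : ∃ W' : Submodule k V, IsCompl W W') :
    ∃ W'' : Submodule k V, HopfRep.IsSubcomod (k := k) (A := MonoidAlgebra k M) W'' ∧ IsCompl W W'' := by
  classical
  obtain ⟨W', hc⟩ := hsplit
  let q : V →ₗ[k] V := W.subtype ∘ₗ Submodule.projectionOnto W W' hc
  have hqW : ∀ v, q v ∈ W := fun v => (Submodule.projectionOnto W W' hc v).2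
  have hqid : ∀ w ∈ W, q w = w := by
    intro w hw
    have := Submodule.projectionOnto_apply_left hc ⟨w, hw⟩
    simp only [q, LinearMap.comp_apply, Submodule.subtype_apply]
    exact congrArg Subtype.val this
  let P : V →ₗ[k] V := Finsupp.lsum k (fun m : M => p k m ∘ₗ q) ∘ₗ
    (TensorProduct.equivFinsuppOfBasisRight (M := V) (MonoidAlgebra.basis M k)).toLinearMap ∘ₗ
    HopfRep.Comod.coact (k := k) (A := MonoidAlgebra k M) (V := V)
  have hP : ∀ v, P v = ∑ m ∈ (ex (k := k) (M := M) v).support, p k m (q (p k m v)) := by
    intro v
    show Finsupp.lsum k (fun m : M => p k m ∘ₗ q) (ex (k := k) (M := M) v) = _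
    rw [Finsupp.lsum_apply, Finsupp.sum]
    refine Finset.sum_congr rfl fun m _ => ?_
    rw [LinearMap.comp_apply, ex_apply]
  have hPW : ∀ v, P v ∈ W := by
    intro v
    rw [hP]
    exact Submodule.sum_mem _ fun m _ => p_mem_of_isSubcomod hW m (hqW _)
  have hPid : ∀ w ∈ W, P w = w := by
    intro w hw
    rw [hP]
    conv_rhs => rw [sum_p (k := k) (M := M) w]
    refine Finset.sum_congr rfl fun m _ => ?_
    rw [hqid _ (p_mem_of_isSubcomod hW m hw), p_p, if_pos rfl]
  have hex : ∀ (n : M) (v : V), ex (k := k) (M := M) (p k n v) = Finsupp.single n (p k n v) := by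
    intro n v
    ext m
    rw [ex_apply, p_p, Finsupp.single_apply]
  have hcomm : ∀ (n : M) (v : V), P (p k n v) = p k n (P v) := by
    intro n v
    have h1 : P (p k n v) = p k n (q (p k n v)) := by
      show Finsupp.lsum k (fun m : M => p k m ∘ₗ q) (ex (k := k) (M := M) (p k n v)) = _
      rw [hex, Finsupp.lsum_apply, Finsupp.sum_single_index (by simp), LinearMap.comp_apply]
    rw [h1, hP, map_sum]
    have h2 : ∀ m ∈ (ex (k := k) (M := M) v).support, p k n (p k m (q (p k m v))) =
        if m = n then p k n (q (p k n v)) else 0 := by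
      intro m _
      rw [p_p]
      split_ifs with h
      · subst h; rfl
      · rfl
    rw [Finset.sum_congr rfl h2, Finset.sum_ite_eq']
    split_ifs with hn
    · rfl
    · have : p k n v = 0 := by
        rw [← ex_apply]
        exact Finsupp.notMem_support_iff.1 hn
      rw [this, map_zero, map_zero]
  refine ⟨LinearMap.ker P, ?_, ?_⟩
  · apply isSubcomod_of_p_mem
    intro n x hx
    rw [LinearMap.mem_ker] at hx ⊢
    rw [hcomm, hx, map_zero]
  · have := LinearMap.isCompl_of_proj (f := P.codRestrict W hPW)
      (fun x => Subtype.ext (hPid x.1 x.2))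
    rwa [LinearMap.ker_codRestrict] at this

end Groth.Agent.S5228
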