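import Groth.Statements.S5229


set_option autoImplicit false
open CategoryTheory CategoryTheory.Limits
universe v₁ u₁
open DescCat

namespace Groth.Agent.S5229

/-- For universal effective epimorphisms, in a category with pullbacks and binary products: for two
universally effective equivalence relations `R ⇉ X` and `R' ⇉ X'` with quotient maps `π` and `π'`,
the product relation `R × R' ⇉ X × X'` is the kernel pair of `π × π'`. (Together with the fact that
a product of two universal effective epimorphisms is again one, this says that `(X × X')/(R × R')`
is `(X/R) × (X'/R')`; only the kernel-pair assertion is stated here.) -/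
theorem result {C : Type u₁} [Category.{v₁} C]
    [HasPullbacks C] [HasBinaryProducts C]
    {R X R' X' : C} {p₁ p₂ : R ⟶ X} {p₁' p₂' : R' ⟶ X'}
    (e : UniversallyEffectiveEquivalenceRelation p₁ p₂)
    (e' : UniversallyEffectiveEquivalenceRelation p₁' p₂') :
    IsKernelPair (prod.map e.π e'.π) (prod.map p₁ p₁') (prod.map p₂ p₂') := by
  have hk : IsPullback p₁ p₂ e.π e.π := e.isKernelPair
  have hk' : IsPullback p₁' p₂' e'.π e'.π := e'.isKernelPair
  refine IsPullback.mk' ?_ ?_ ?_
  · rw [prod.map_map, prod.map_map, hk.w, hk'.w]
  · intro T φ φ' h₁ h₂
    ext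
    · apply hk.hom_ext
      · have := congrArg (· ≫ prod.fst) h₁
        simpa only [Category.assoc, prod.map_fst] using this
      · have := congrArg (· ≫ prod.fst) h₂
        simpa only [Category.assoc, prod.map_fst] using this
    · apply hk'.hom_ext
      · have := congrArg (· ≫ prod.snd) h₁
        simpa only [Category.assoc, prod.map_snd] using this
      · have := congrArg (· ≫ prod.snd) h₂
        simpa only [Category.assoc, prod.map_snd] using this
  · intro T a b hab
    have h1 : (a ≫ prod.fst) ≫ e.π = (b ≫ prod.fst) ≫ e.π := by
      have := congrArg (· ≫ prod.fst) hab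
      simpa only [Category.assoc, prod.map_fst] using this
    have h2 : (a ≫ prod.snd) ≫ e'.π = (b ≫ prod.snd) ≫ e'.π := by
      have := congrArg (· ≫ prod.snd) hab
      simpa only [Category.assoc, prod.map_snd] using this
    refine ⟨prod.lift (hk.lift _ _ h1) (hk'.lift _ _ h2), ?_, ?_⟩
    · ext
      · rw [Category.assoc, prod.map_fst, ← Category.assoc, prod.lift_fst, hk.lift_fst]
      · rw [Category.assoc, prod.map_snd, ← Category.assoc, prod.lift_snd, hk'.lift_fst]
    · ext
      · rw [Category.assoc, prod.map_fst, ← Category.assoc, prod.lift_fst, hk.lift_snd]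
      · rw [Category.assoc, prod.map_snd, ← Category.assoc, prod.lift_snd, hk'.lift_snd]

end Groth.Agent.S5229
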