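import Groth.Statements.S5231
import Mathlib
import Groth.Agent.Lib.helper23.SC1

set_option autoImplicit false
open CategoryTheory
universe w v₁ u₁
open ShfCat Opposite Groth.Agent.Lib.helper23

namespace Groth.Agent.S5231

/-- (iii) ⇒ (i): a morphism `f` of sheaves of sets on a site is a monomorphism (resp. an epimorphism) as
soon as, for every object `S`, the morphisms `T ⟶ S` over which the restriction of `f` to the
induced site `C/T` is a monomorphism (resp. an epimorphism) form a covering sieve. No sheafification
is assumed. (The published statement also treats isomorphisms in the same way; that case is left out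
here.) -/
theorem result {C : Type u₁} [Category.{v₁} C]
    (J : GrothendieckTopology C) {F G : Sheaf J (Type w)} (f : F ⟶ G) :
    ((∀ S : C, ∃ R : Sieve S, R ∈ J S ∧ ∀ ⦃T : C⦄ (g : T ⟶ S), R g →
        Mono ((J.overPullback (Type w) T).map f)) → Mono f) ∧
    ((∀ S : C, ∃ R : Sieve S, R ∈ J S ∧ ∀ ⦃T : C⦄ (g : T ⟶ S), R g →
        Epi ((J.overPullback (Type w) T).map f)) → Epi f) := by
  have key : ∀ {A Z : Sheaf J (Type w)} (a b : A ⟶ Z),
      (∀ S : C, ∃ R : Sieve S, R ∈ J S ∧ ∀ ⦃T : C⦄ (g : T ⟶ S), R g →
        (J.overPullback (Type w) T).map a = (J.overPullback (Type w) T).map b) → a = b := by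
    intro A Z a b h
    apply SC.hom_ext_sec
    rintro ⟨S⟩ z
    obtain ⟨R, hR, hR'⟩ := h S
    refine ((SC.presieve_isSheaf Z).isSeparated _ hR).ext ?_
    intro T g hg
    have h1 := hR' g hg
    have h2 : SC.sec a (op T) (A.obj.map g.op z) = SC.sec b (op T) (A.obj.map g.op z) := by
      have := congrArg (fun (k : (J.overPullback (Type w) T).obj A ⟶ (J.overPullback (Type w) T).obj Z) =>
        k.hom.app (op (Over.mk (𝟙 T))) (A.obj.map g.op z)) h1
      exact this
    rw [SC.sec_map, SC.sec_map] at h2
    exact h2
  constructor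
  · intro h
    refine ⟨fun {W} a b hab => key a b (fun S => ?_)⟩
    obtain ⟨R, hR, hR'⟩ := h S
    refine ⟨R, hR, fun T g hg => ?_⟩
    haveI := hR' g hg
    rw [← cancel_mono ((J.overPullback (Type w) T).map f), ← Functor.map_comp, ← Functor.map_comp,
      hab]
  · intro h
    refine ⟨fun {W} a b hab => key a b (fun S => ?_)⟩
    obtain ⟨R, hR, hR'⟩ := h S
    refine ⟨R, hR, fun T g hg => ?_⟩
    haveI := hR' g hg
    rw [← cancel_epi ((J.overPullback (Type w) T).map f), ← Functor.map_comp, ← Functor.map_comp,
      hab]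

end Groth.Agent.S5231
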