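import Groth.Statements.S5233
import Mathlib
import Groth.Agent.Lib.helper4.ClosedSubDescent

set_option autoImplicit false
open CategoryTheory CategoryTheory.Limits AlgebraicGeometry
universe u
open GrpQ

namespace Groth.Agent.S5233

/-- For schemes, with (M) the faithfully flat quasi-compact morphisms and (N) the closed immersions: if
`π : X ⟶ X'` is flat, surjective and quasi-compact (so `X' = X/R` for its kernel pair `R ⇉ X`), then
`Y' ↦ π⁻¹(Y')` is a bijection from closed subschemes of `X'` onto the closed subschemes of `X`
stable under `R`. -/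
theorem result {X X' : Scheme.{u}} (π : X ⟶ X')
    [Flat π] [Surjective π] [QuasiCompact π] :
    Set.BijOn (Subobject.pullback π).obj
      {Y' : Subobject X' | IsClosedImmersion Y'.arrow}
      {Y : Subobject X | IsClosedImmersion Y.arrow ∧
        (Subobject.pullback (pullback.fst π π)).obj Y = (Subobject.pullback (pullback.snd π π)).obj Y} := by
  refine ⟨?_, ?_, ?_⟩
  · intro Y' (hY' : IsClosedImmersion Y'.arrow)
    refine ⟨H4ClosedSub.isClosedImmersion_pullback_arrow π Y', ?_⟩
    rw [← Subobject.pullback_comp, ← Subobject.pullback_comp, pullback.condition]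
  · intro Y₁ _ Y₂ _ h
    exact H4ClosedSub.pullback_injective π Y₁ Y₂ h
  · rintro Y ⟨hY, hst⟩
    have : IsClosedImmersion Y.arrow := hY
    obtain ⟨Y', h1, h2⟩ := H4ClosedSub.exists_pullback_eq π Y hst
    exact ⟨Y', h1, h2⟩
end Groth.Agent.S5233
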