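import Groth.Statements.S5234
import Mathlib
import Groth.Agent.S12837

set_option autoImplicit false
open CategoryTheory CategoryTheory.Limits AlgebraicGeometry MonoidalCategory
universe u
open RedSub

namespace Groth.Agent.S5234
open CategoryTheory CategoryTheory.Limits AlgebraicGeometry MonoidalCategory
open RedSub
open CartesianMonoidalCategory SemiCartesianMonoidalCategory

section helpers



lemma prop_of_point {P : MorphismProperty Scheme.{u}} [IsZariskiLocalAtTarget P]
    [P.IsStableUnderBaseChange] [P.DescendsAlong (@Surjective ⊓ @Flat ⊓ @QuasiCompact)]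
    {S : Scheme.{u}} {G X : Over S} [GrpObj G] (a : AlgGrp.Action G X)
    (hX : IsIso (lift a.act (snd G X))) (hG : P G.hom)
    (S' : Over S) (hS' : (@Surjective ⊓ @Flat ⊓ @LocallyOfFinitePresentation : MorphismProperty Scheme.{u}) S'.hom)
    (s : S' ⟶ X) : P X.hom := by
  haveI := hX
  have h1 : P (pullback.snd G.hom X.hom) := P.pullback_snd _ _ hG
  have h2 : P (pullback.snd X.hom X.hom) := by
    have e : (inv (lift a.act (snd G X))).left ≫ pullback.snd G.hom X.hom =
        pullback.snd X.hom X.hom := by
      have : inv (lift a.act (snd G X)) ≫ snd G X = snd X X := by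
        rw [IsIso.inv_comp_eq, lift_snd]
      exact congrArg (fun q => q.left) this
    rw [← e]
    haveI : IsIso (inv (lift a.act (snd G X))).left :=
      (Over.forget S).map_isIso (inv (lift a.act (snd G X)))
    exact (P.cancel_left_of_respectsIso _ _).2 h1
  have h3 : P (pullback.snd X.hom S'.hom) := by
    refine Groth.Agent.S12837.H5S12837.of_factor X.hom X.hom h2 s.left
      (p₁ := pullback.fst X.hom S'.hom) ?_
    rw [Over.w s]
    exact IsPullback.of_hasPullback X.hom S'.hom
  exact MorphismProperty.of_pullback_snd_of_descendsAlong
    (Q := @Surjective ⊓ @Flat ⊓ @LocallyOfFinitePresentation) hS' h3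

set_option backward.isDefEq.respectTransparency false in
instance flatLocT : IsZariskiLocalAtTarget @Flat.{u} := inferInstance
set_option backward.isDefEq.respectTransparency false in
instance lofpLocT : IsZariskiLocalAtTarget @LocallyOfFinitePresentation.{u} := inferInstance



end helpers

open CartesianMonoidalCategory SemiCartesianMonoidalCategory in
/-- (ii) ⇔ (iii), for schemes with the fppf topology: let `G` be an `S`-group scheme which is faithfully
flat and locally of finite presentation over `S`, acting on `X` so that `X` is formally principal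
homogeneous. Then `X` is a torsor (its structure map is faithfully flat and locally of finite
presentation) if and only if `X` has a point over some faithfully flat, locally finitely presented
`S' ⟶ S`. -/
theorem result {S : Scheme.{u}} {G X : Over S} [GrpObj G]
    (a : AlgGrp.Action G X)
    [Flat G.hom] [Surjective G.hom] [LocallyOfFinitePresentation G.hom]
    (hX : IsIso (lift a.act (snd G X))) :
    RedSub.IsTorsor a ↔
      ∃ S' : Over S, Surjective S'.hom ∧ Flat S'.hom ∧ LocallyOfFinitePresentation S'.hom ∧
        Nonempty (S' ⟶ X) := by
  constructor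
  · rintro ⟨h1, h2, h3, _⟩
    exact ⟨X, h1, h2, h3, ⟨𝟙 X⟩⟩
  · rintro ⟨S', h1, h2, h3, ⟨s⟩⟩
    have hS' : (@Surjective ⊓ @Flat ⊓ @LocallyOfFinitePresentation : MorphismProperty Scheme.{u}) S'.hom := ⟨⟨h1, h2⟩, h3⟩
    exact ⟨prop_of_point (P := @Surjective) a hX inferInstance S' hS' s,
      prop_of_point (P := @Flat) a hX inferInstance S' hS' s,
      prop_of_point (P := @LocallyOfFinitePresentation) a hX inferInstance S' hS' s, hX⟩

end Groth.Agent.S5234
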