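import Groth.Statements.S5235
import Mathlib
-- import your own Groth.Agent.* helpers here

set_option autoImplicit false
open CategoryTheory CategoryTheory.Limits AlgebraicGeometry
universe u
open GrpQ

namespace Groth.Agent.S5235

open CategoryTheory CategoryTheory.Limits AlgebraicGeometry

namespace H5S5235

/-- subobject of an open -/
noncomputable def sub {X : Scheme.{u}} (U : X.Opens) : Subobject X := Subobject.mk U.ι

lemma sub_arrow_open {X : Scheme.{u}} (U : X.Opens) : IsOpenImmersion (sub U).arrow := by
  have : (sub U).arrow = (Subobject.underlyingIso U.ι).hom ≫ U.ι :=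
    (Subobject.underlyingIso_hom_comp_eq_mk U.ι).symm
  rw [this]
  haveI : IsOpenImmersion (Subobject.underlyingIso U.ι).hom := inferInstance
  exact IsOpenImmersion.comp _ _

lemma eq_sub {X : Scheme.{u}} (Y : Subobject X) [IsOpenImmersion Y.arrow] :
    Y = sub Y.arrow.opensRange := by
  refine Subobject.eq_mk_of_comm _
    (IsOpenImmersion.isoOfRangeEq Y.arrow (Y.arrow.opensRange).ι ?_) ?_
  · rw [Scheme.Opens.range_ι]
    rfl
  · exact IsOpenImmersion.isoOfRangeEq_hom_fac _ _ _

lemma sub_le_iff {X : Scheme.{u}} (U V : X.Opens) : sub U ≤ sub V ↔ U ≤ V := by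
  constructor
  · intro h
    have h1 : Subobject.ofMkLEMk U.ι V.ι h ≫ V.ι = U.ι := Subobject.ofMkLEMk_comp h
    intro x hx
    have : x ∈ Set.range U.ι := by
      rw [Scheme.Opens.range_ι]; exact hx
    obtain ⟨y, rfl⟩ := this
    rw [← h1, Scheme.Hom.comp_apply]
    exact (Subobject.ofMkLEMk U.ι V.ι h y).2
  · intro h
    exact Subobject.mk_le_mk_of_comm (X.homOfLE h) (X.homOfLE_ι h)

lemma sub_inj {X : Scheme.{u}} (U V : X.Opens) (h : sub U = sub V) : U = V :=
  le_antisymm ((sub_le_iff U V).1 h.le) ((sub_le_iff V U).1 h.ge)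

lemma pullback_sub {X X' : Scheme.{u}} (π : X ⟶ X') (U : X'.Opens) :
    (Subobject.pullback π).obj (sub U) = sub (π ⁻¹ᵁ U) :=
  Subobject.pullback_obj_mk (isPullback_morphismRestrict π U)

theorem main {X X' : Scheme.{u}} (π : X ⟶ X')
    [Flat π] [Surjective π] [QuasiCompact π] :
    Set.BijOn (Subobject.pullback π).obj
      {Y' : Subobject X' | IsOpenImmersion Y'.arrow}
      {Y : Subobject X | IsOpenImmersion Y.arrow ∧
        (Subobject.pullback (pullback.fst π π)).obj Y = (Subobject.pullback (pullback.snd π π)).obj Y} := by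
  refine ⟨?_, ?_, ?_⟩
  · intro Y' (hY' : IsOpenImmersion Y'.arrow)
    rw [eq_sub Y']
    refine ⟨?_, ?_⟩
    · rw [pullback_sub]
      exact sub_arrow_open _
    · rw [← Subobject.pullback_comp, ← Subobject.pullback_comp, pullback.condition]
  · intro Y₁ (h₁ : IsOpenImmersion Y₁.arrow) Y₂ (h₂ : IsOpenImmersion Y₂.arrow) h
    rw [eq_sub Y₁, eq_sub Y₂] at h ⊢
    rw [pullback_sub, pullback_sub] at h
    have h3 := sub_inj _ _ h
    congr 1
    ext x
    obtain ⟨y, rfl⟩ := π.surjective x
    have := congrArg (fun W : X.Opens => y ∈ W) h3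
    exact Iff.of_eq this
  · rintro Y ⟨hY, hst⟩
    rw [eq_sub Y] at hst ⊢
    set U := Y.arrow.opensRange with hU
    rw [pullback_sub, pullback_sub] at hst
    have hst' := sub_inj _ _ hst
    -- saturation
    have hsat : π ⁻¹' (π '' (U : Set X)) = (U : Set X) := by
      apply Set.Subset.antisymm
      · rintro x ⟨u, hu, hux⟩
        obtain ⟨z, hz1, hz2⟩ := Scheme.Pullback.exists_preimage_pullback (f := π) (g := π) u x hux
        have : z ∈ (pullback.fst π π) ⁻¹ᵁ U := by
          change pullback.fst π π z ∈ U
          rw [hz1]; exact hu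
        rw [hst'] at this
        have : pullback.snd π π z ∈ U := this
        rwa [hz2] at this
      · exact Set.subset_preimage_image _ _
    have hopen : IsOpen (π '' (U : Set X)) := by
      rw [← (Flat.isQuotientMap_of_surjective π).isOpen_preimage, hsat]
      exact U.2
    refine ⟨sub ⟨π '' (U : Set X), hopen⟩, sub_arrow_open _, ?_⟩
    rw [pullback_sub]
    congr 1
    ext x
    exact Set.ext_iff.1 hsat x

end H5S5235

/-- For schemes, with (M) the faithfully flat quasi-compact morphisms and (N) the open immersions: if `π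
: X ⟶ X'` is flat, surjective and quasi-compact, then `Y' ↦ π⁻¹(Y')` is a bijection from open
subschemes of `X'` onto the open subschemes of `X` stable under the kernel pair of `π`. -/
theorem result {X X' : Scheme.{u}} (π : X ⟶ X')
    [Flat π] [Surjective π] [QuasiCompact π] :
    Set.BijOn (Subobject.pullback π).obj
      {Y' : Subobject X' | IsOpenImmersion Y'.arrow}
      {Y : Subobject X | IsOpenImmersion Y.arrow ∧
        (Subobject.pullback (pullback.fst π π)).obj Y = (Subobject.pullback (pullback.snd π π)).obj Y} := by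
  exact H5S5235.main π

end Groth.Agent.S5235
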