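import Groth.Statements.S5236
import Mathlib
import Groth.Prelude.Def_NonAbH2
import Groth.Prelude.Def_ChGrp
import Groth.Agent.S18859
import Groth.Agent.S18977
import Groth.Agent.S8718
-- import your own Groth.Agent.* helpers here

set_option autoImplicit false
open CategoryTheory CategoryTheory.Limits AlgebraicGeometry MonoidalCategory
universe u
open RedSub

namespace Groth.Agent.S5236

open CategoryTheory CategoryTheory.Limits AlgebraicGeometry

namespace H5S5236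

open MonoidalCategory CartesianMonoidalCategory MonObj Groth.Agent.S18859 Groth.Agent.S18977
  Groth.Agent.S8718

variable {S : Scheme.{u}}

lemma grpObj_ext {X : Over S} (s₁ s₂ : GrpObj X) (h : s₁.mul = s₂.mul) : s₁ = s₂ := by
  have hm : s₁.toMonObj = s₂.toMonObj := MonObj.ext _ _ h
  obtain ⟨inv₁, l₁, r₁⟩ := s₁
  obtain ⟨inv₂, l₂, r₂⟩ := s₂
  dsimp only at hm
  subst hm
  have : inv₁ = inv₂ := by
    have e1 : inv₁ * 𝟙 X = 1 := by rw [Hom.mul_def, Hom.one_def]; exact l₁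
    have e2 : 𝟙 X * inv₂ = 1 := by rw [Hom.mul_def, Hom.one_def]; exact r₂
    exact left_inv_eq_right_inv e1 e2
  subst this
  rfl

theorem main {H G Q : Over S} [GrpObj H] [hG : GrpObj G]
    (i : H ⟶ G) [IsMonHom i] (hn : AlgGrp.IsNormalHom i)
    (q : G ⟶ Q) (hq : RedSub.IsQuotient i q) :
    ∃! s : GrpObj Q, @IsMonHom (Over S) _ _ G Q hG.toMonObj s.toMonObj q := by
  obtain ⟨hs, hfl, hfp, hsq⟩ := hq
  haveI := hs
  haveI := hfl
  haveI := hfp
  have hloc : NonAbH1.IsLocallyTrivialFor Scheme.fpqcPrecoverage (Over.mk q.left : Over Q.left) := by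
    refine ⟨Presieve.singleton q.left,
      Scheme.fppfPrecoverage_le_fpqcPrecoverage _ q.left.singleton_mem_fppfPrecoverage, ?_⟩
    rintro _ _ ⟨⟩
    exact ⟨𝟙 _, Category.id_comp _⟩
  -- invariance of `q` under right translation by `H`
  have hinvq : ∀ {W : Over S} (e : W ⟶ G) (h : W ⟶ H), (e * (h ≫ i)) ≫ q = e ≫ q := by
    intro W e h
    have := congrArg (fun t => lift e h ≫ t) hsq.w
    simp only [lift_fst_assoc, Category.assoc, lift_whiskerLeft_assoc] at this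
    rw [this, ← Category.assoc, ← Hom.mul_def]
  have hker : ∀ {W : Over S} (e₁ e₂ : W ⟶ G), e₁ ≫ q = e₂ ≫ q → ∃ h : W ⟶ H, e₁ * (h ≫ i) = e₂ :=
    fun e₁ e₂ h => (H5S8718.kerTr i q hsq e₁ e₂ h).exists
  -- the multiplication
  obtain ⟨v₂, hv₂def⟩ : ∃ v₂ : G ⊗ G ⟶ Q ⊗ Q, v₂ = (q ▷ G) ≫ (Q ◁ q) := ⟨_, rfl⟩
  have hloc₂ : NonAbH1.IsLocallyTrivialFor Scheme.fpqcPrecoverage
      (Over.mk v₂.left : Over (Q ⊗ Q).left) := by
    rw [hv₂def]
    exact H5S18977.part2 (q ▷ G) (Q ◁ q) (H5S8718.loc_whiskerRight q G hloc)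
      (H5S8718.loc_whiskerLeft q Q hloc)
  have hv₂ : ∀ {W : Over S} (a b : W ⟶ G), lift a b ≫ v₂ = lift (a ≫ q) (b ≫ q) := by
    intro W a b
    rw [hv₂def, lift_whiskerRight_assoc, lift_whiskerLeft]
  have hm₀ : ∀ {W : Over S} (p₁ p₂ : W ⟶ G ⊗ G), p₁ ≫ v₂ = p₂ ≫ v₂ →
      p₁ ≫ μ[G] ≫ q = p₂ ≫ μ[G] ≫ q := by
    intro W p₁ p₂ hp
    have hp₁ : p₁ = lift (p₁ ≫ fst G G) (p₁ ≫ snd G G) := by
      apply CartesianMonoidalCategory.hom_ext <;> simp
    have hp₂ : p₂ = lift (p₂ ≫ fst G G) (p₂ ≫ snd G G) := by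
      apply CartesianMonoidalCategory.hom_ext <;> simp
    rw [hp₁, hp₂, hv₂, hv₂] at hp
    have ha : (p₁ ≫ fst G G) ≫ q = (p₂ ≫ fst G G) ≫ q := by
      have := congrArg (fun t => t ≫ fst Q Q) hp
      simpa using this
    have hb : (p₁ ≫ snd G G) ≫ q = (p₂ ≫ snd G G) ≫ q := by
      have := congrArg (fun t => t ≫ snd Q Q) hp
      simpa using this
    obtain ⟨h, hh⟩ := hker _ _ ha
    obtain ⟨h', hh'⟩ := hker _ _ hb
    obtain ⟨n', hn'⟩ := hn W (p₁ ≫ snd G G)⁻¹ h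
    rw [hp₁, hp₂, ← Category.assoc, ← Category.assoc, ← Hom.mul_def, ← Hom.mul_def, ← hh, ← hh']
    have e : (p₁ ≫ fst G G) * (h ≫ i) * ((p₁ ≫ snd G G) * (h' ≫ i)) =
        ((p₁ ≫ fst G G) * (p₁ ≫ snd G G)) * ((n' * h') ≫ i) := by
      rw [MonObj.mul_comp, ← hn']
      group
    rw [e, hinvq]
  obtain ⟨μQ, hμQ, hμQu⟩ := H5S8718.desc_over v₂ hloc₂ (μ[G] ≫ q) hm₀
  have hμ : ∀ {W : Over S} (a b : W ⟶ G), lift (a ≫ q) (b ≫ q) ≫ μQ = (a * b) ≫ q := by
    intro W a b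
    rw [← hv₂, Category.assoc, hμQ, ← Category.assoc, ← Hom.mul_def]
  -- the inverse
  have hi₀ : ∀ {W : Over S} (p₁ p₂ : W ⟶ G), p₁ ≫ q = p₂ ≫ q → p₁ ≫ ι[G] ≫ q = p₂ ≫ ι[G] ≫ q := by
    intro W p₁ p₂ hp
    obtain ⟨h, hh⟩ := hker _ _ hp
    obtain ⟨n', hn'⟩ := hn W p₁ h⁻¹
    rw [← Category.assoc, ← Category.assoc, ← Hom.inv_def, ← Hom.inv_def, ← hh]
    have e : (p₁ * (h ≫ i))⁻¹ = p₁⁻¹ * (n' ≫ i) := by
      rw [← hn', GrpObj.inv_comp]
      group
    rw [e, hinvq]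
  obtain ⟨ιQ, hιQ, -⟩ := H5S8718.desc_over q hloc (ι[G] ≫ q) hi₀
  have hι : ∀ {W : Over S} (a : W ⟶ G), (a ≫ q) ≫ ιQ = a⁻¹ ≫ q := by
    intro W a
    rw [Category.assoc, hιQ, ← Category.assoc, ← Hom.inv_def]
  -- a triple cover
  obtain ⟨v₃, hv₃def⟩ : ∃ v₃ : (G ⊗ G) ⊗ G ⟶ (Q ⊗ Q) ⊗ Q, v₃ = (v₂ ▷ G) ≫ ((Q ⊗ Q) ◁ q) :=
    ⟨_, rfl⟩
  have hloc₃ : NonAbH1.IsLocallyTrivialFor Scheme.fpqcPrecoverage
      (Over.mk v₃.left : Over ((Q ⊗ Q) ⊗ Q).left) := by
    rw [hv₃def]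
    exact H5S18977.part2 (v₂ ▷ G) ((Q ⊗ Q) ◁ q) (H5S8718.loc_whiskerRight v₂ G hloc₂)
      (H5S8718.loc_whiskerLeft q (Q ⊗ Q) hloc)
  have hv₃ : ∀ {W : Over S} (a b c : W ⟶ G),
      lift (lift a b) c ≫ v₃ = lift (lift (a ≫ q) (b ≫ q)) (c ≫ q) := by
    intro W a b c
    rw [hv₃def, lift_whiskerRight_assoc, lift_whiskerLeft, hv₂]
  let sQ : GrpObj Q :=
    { one := η[G] ≫ q
      mul := μQ
      one_mul := by
        apply H5S8718.epi_of_loc (𝟙_ (Over S) ◁ q) (H5S8718.loc_whiskerLeft q (𝟙_ (Over S)) hloc)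
        apply AlgGrp.Action.hom_ext_lift₂
        intro T u a
        have hu : u ≫ η[G] = 1 := by rw [Hom.one_def, toUnit_unique (toUnit T) u]
        rw [lift_whiskerLeft_assoc, lift_whiskerLeft_assoc, lift_whiskerRight_assoc,
          ← Category.assoc u, hu, hμ, _root_.one_mul, leftUnitor_hom, lift_snd]
      mul_one := by
        apply H5S8718.epi_of_loc (q ▷ 𝟙_ (Over S)) (H5S8718.loc_whiskerRight q (𝟙_ (Over S)) hloc)
        apply AlgGrp.Action.hom_ext_lift₂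
        intro T a u
        have hu : u ≫ η[G] = 1 := by rw [Hom.one_def, toUnit_unique (toUnit T) u]
        rw [lift_whiskerRight_assoc, lift_whiskerRight_assoc, lift_whiskerLeft_assoc,
          ← Category.assoc u, hu, hμ, _root_.mul_one, rightUnitor_hom, lift_fst]
      mul_assoc := by
        apply H5S8718.epi_of_loc v₃ hloc₃
        apply AlgGrp.Action.hom_ext_lift₃
        intro T a b c
        have e3 : ∀ {Z : Over S} (t : (Q ⊗ Q) ⊗ Q ⟶ Z), lift (lift a b) c ≫ v₃ ≫ t =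
            lift (lift (a ≫ q) (b ≫ q)) (c ≫ q) ≫ t := by
          intro Z t
          rw [← Category.assoc, hv₃]
        rw [e3, e3, lift_whiskerRight_assoc, hμ,
          hμ, lift_lift_associator_hom_assoc, lift_whiskerLeft_assoc, hμ, hμ, _root_.mul_assoc]
      inv := ιQ
      left_inv := by
        apply H5S8718.epi_of_loc q hloc
        rw [← Category.assoc, comp_lift, Category.comp_id, hιQ]
        have e1 : lift (ι[G] ≫ q) q = lift ((𝟙 G)⁻¹ ≫ q) ((𝟙 G) ≫ q) := by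
          rw [Hom.inv_def, Category.id_comp, Category.id_comp]
        rw [e1, hμ, inv_mul_cancel, Hom.one_def, Category.assoc, ← Category.assoc q]
        congr 1
        exact toUnit_unique _ _
      right_inv := by
        apply H5S8718.epi_of_loc q hloc
        rw [← Category.assoc, comp_lift, Category.comp_id, hιQ]
        have e1 : lift q (ι[G] ≫ q) = lift ((𝟙 G) ≫ q) ((𝟙 G)⁻¹ ≫ q) := by
          rw [Hom.inv_def, Category.id_comp, Category.id_comp]
        rw [e1, hμ, mul_inv_cancel, Hom.one_def, Category.assoc, ← Category.assoc q]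
        congr 1
        exact toUnit_unique _ _ }
  refine ⟨sQ, ?_, ?_⟩
  · exact @IsMonHom.mk (Over S) _ _ G Q hG.toMonObj sQ.toMonObj q rfl (by
      change μ[G] ≫ q = (q ⊗ₘ q) ≫ μQ
      rw [MonoidalCategory.tensorHom_def, ← hv₂def]
      exact hμQ.symm)
  · intro s hs
    apply grpObj_ext
    change s.mul = μQ
    apply hμQu
    have := @IsMonHom.mul_hom (Over S) _ _ G Q hG.toMonObj s.toMonObj q hs
    rw [MonoidalCategory.tensorHom_def, ← hv₂def] at this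
    exact this.symm

end H5S5236

/-- For group schemes and the fppf topology: if `i : H ⟶ G` is a normal monomorphism of `S`-group
schemes and `q : G ⟶ Q` exhibits `Q` as the fppf quotient `G/H`, then there is exactly one
group-scheme structure on `Q` over `S` making `q` a homomorphism. -/
theorem result {S : Scheme.{u}} {H G Q : Over S} [GrpObj H] [hG : GrpObj G]
    (i : H ⟶ G) [IsMonHom i] [Mono i] (hn : AlgGrp.IsNormalHom i)
    (q : G ⟶ Q) (hq : RedSub.IsQuotient i q) :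
    ∃! s : GrpObj Q, @IsMonHom (Over S) _ _ G Q hG.toMonObj s.toMonObj q := by
  exact H5S5236.main i hn q hq

end Groth.Agent.S5236
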