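import Groth.Statements.S5270
import Mathlib
import Groth.Agent.Lib.helper12.MultRigid2

set_option autoImplicit false
set_option linter.style.haveILetI false
universe u
open TensorProduct SGA3b
open SGA3b

namespace Groth.Agent.S5270

/-- Injectivity of the map to formal homomorphisms. Let A be a Noetherian ring, separated and complete
for the I-adic topology, H = Spec B an isotrivial A-group of multiplicative type and G = Spec C an
affine A-group. If two homomorphisms H ⟶ G, given by bialgebra maps φ, ψ : C → B, have the same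
reduction modulo I^(n+1) for every n ≥ 0, then φ = ψ. (Affine group schemes over an affine base are
taken in Hopf-algebra form; base change is the tensor product; a homomorphism of groups Spec A ⟶
Spec C is a bialgebra map C → A.) -/
theorem result (A : Type u) [CommRing A] [IsNoetherianRing A] (I : Ideal A) [IsAdicComplete I A]
    (B : Type u) [CommRing B] [HopfAlgebra A B] (hH : IsIsotrivial A B)
    (C : Type u) [CommRing C] [HopfAlgebra A C] (φ ψ : C →ₐc[A] B)
    (h : ∀ (n : ℕ) (c : C), (1 : A ⧸ I ^ (n + 1)) ⊗ₜ[A] (φ c) = (1 : A ⧸ I ^ (n + 1)) ⊗ₜ[A] (ψ c)) :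
    φ = ψ := by
  classical
  obtain ⟨A', _, _, het, hfin, hff, M, _, ⟨e⟩⟩ := hH
  apply DFunLike.ext
  intro c
  rw [← sub_eq_zero]
  set x := φ c - ψ c with hx
  have hxmem : ∀ n : ℕ, x ∈ (I ^ (n + 1)) • (⊤ : Submodule A B) := fun n =>
    H12MR.mem_smul_top_of_tmul_eq (I ^ (n + 1)) _ _ (h n c)
  -- coefficient maps
  have hinj : Function.Injective (TensorProduct.mk A A' B 1) :=
    Module.FaithfullyFlat.tensorProduct_mk_injective (A := A) (B := A') B
  apply hinj
  rw [map_zero]
  apply e.injective
  rw [map_zero]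
  apply MonoidAlgebra.coeff_injective
  ext m
  let L : B →ₗ[A] A' := ((H12MR.ev m).restrictScalars A) ∘ₗ
    ((e : (A' ⊗[A] B) →ₗ[A'] MonoidAlgebra A' M).restrictScalars A) ∘ₗ (TensorProduct.mk A A' B 1)
  have hL : ∀ n : ℕ, L x ∈ (I ^ (n + 1)) • (⊤ : Submodule A A') := by
    intro n
    have h1 : Submodule.map L ((I ^ (n + 1)) • (⊤ : Submodule A B)) ≤ (I ^ (n + 1)) • (⊤ : Submodule A A') := by
      rw [Submodule.map_smul'']
      exact Submodule.smul_mono le_rfl le_top
    exact h1 (Submodule.mem_map_of_mem (hxmem n))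
  have hkrull : (⨅ i : ℕ, (I ^ i) • (⊤ : Submodule A A')) = ⊥ :=
    Ideal.iInf_pow_smul_eq_bot_of_le_jacobson I (IsAdicComplete.le_jacobson_bot I)
  have hLx : L x = 0 := by
    have : L x ∈ (⨅ i : ℕ, (I ^ i) • (⊤ : Submodule A A')) := by
      rw [Submodule.mem_iInf]
      intro i
      exact Submodule.smul_mono_left (Ideal.pow_le_pow_right (Nat.le_succ i)) (hL i)
    rw [hkrull] at this
    exact (Submodule.mem_bot A).mp this
  exact hLx

end Groth.Agent.S5270
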