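import Groth.Statements.S5278
import Mathlib

set_option autoImplicit false
open CategoryTheory AlgebraicGeometry
universe u
open SGA3x

namespace Groth.Agent.S5278

/-- Let X be a connected scheme, f : X' ⟶ X a finite etale morphism and x a point of X. Then every
connected component of X' meets the fibre of f over x; equivalently the map from the connected
components of the fibre (or of the geometric fibre) to those of X' is surjective. -/
theorem result {X X' : Scheme.{u}} [ConnectedSpace X] (f : X' ⟶ X)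
    [IsFinite f] [Etale f] (x : X) (c : X') :
    ∃ x' : X', f.base x' = x ∧ x' ∈ connectedComponent c := by
  have hopen : IsOpenMap f := f.isOpenMap
  have hclosed : IsClosedMap f := f.isClosedMap
  -- every nonempty clopen subset of `X'` surjects onto `X`
  have hsurj : ∀ Z : Set X', IsClopen Z → Z.Nonempty → ∀ y : X, ∃ z ∈ Z, f z = y := by
    intro Z hZ hne y
    have h1 : IsClopen (f '' Z) := ⟨hclosed _ hZ.1, hopen _ hZ.2⟩
    have h2 : f '' Z = Set.univ := (isClopen_iff.mp h1).resolve_left (hne.image _).ne_empty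
    have h3 : y ∈ f '' Z := h2 ▸ Set.mem_univ y
    obtain ⟨z, hz, rfl⟩ := h3
    exact ⟨z, hz, rfl⟩
  have hfinfib : (f ⁻¹' {x}).Finite := f.finite_preimage_singleton x
  -- a clopen neighbourhood of `c` with the least number of points over `x`
  have hP : ∃ n, ∃ Z : Set X', IsClopen Z ∧ c ∈ Z ∧ (Z ∩ f ⁻¹' {x}).ncard = n :=
    ⟨_, Set.univ, isClopen_univ, trivial, rfl⟩
  classical
  obtain ⟨Z, hZ, hcZ, hn⟩ := Nat.find_spec hP
  have hmin : ∀ Z' : Set X', IsClopen Z' → c ∈ Z' →
      Nat.find hP ≤ (Z' ∩ f ⁻¹' {x}).ncard :=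
    fun Z' h1 h2 => Nat.find_min' hP ⟨Z', h1, h2, rfl⟩
  have key : ∀ A B : Set X', IsClopen A → IsClopen B → Disjoint A B → A ∪ B = Z → c ∈ A →
      B = ∅ := by
    intro A B hA hB hAB hU hcA
    by_contra hne
    obtain ⟨z, hzB, hzx⟩ := hsurj B hB (Set.nonempty_iff_ne_empty.mpr hne) x
    have hss : A ∩ f ⁻¹' {x} ⊂ Z ∩ f ⁻¹' {x} := by
      refine ⟨Set.inter_subset_inter_left _ (hU ▸ Set.subset_union_left), fun h => ?_⟩
      have hz : z ∈ Z ∩ f ⁻¹' {x} := ⟨hU ▸ Set.mem_union_right _ hzB, hzx⟩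
      exact Set.disjoint_left.mp hAB (h hz).1 hzB
    have hlt := Set.ncard_lt_ncard hss (hfinfib.subset Set.inter_subset_right)
    have := hmin A hA hcA
    omega
  have hZconn : _root_.IsPreconnected Z := by
    rw [isPreconnected_iff_subset_of_fully_disjoint_closed hZ.1]
    intro u v hu hv hZuv huv
    have hZu : IsClopen (Z ∩ u) := by
      refine ⟨hZ.1.inter hu, ?_⟩
      have : Z ∩ u = Z ∩ vᶜ := by
        ext z
        constructor
        · rintro ⟨h1, h2⟩
          exact ⟨h1, fun h3 => Set.disjoint_left.mp huv h2 h3⟩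
        · rintro ⟨h1, h2⟩
          exact ⟨h1, (hZuv h1).resolve_right h2⟩
      rw [this]
      exact hZ.2.inter hv.isOpen_compl
    have hZv : IsClopen (Z ∩ v) := by
      refine ⟨hZ.1.inter hv, ?_⟩
      have : Z ∩ v = Z ∩ uᶜ := by
        ext z
        constructor
        · rintro ⟨h1, h2⟩
          exact ⟨h1, fun h3 => Set.disjoint_left.mp huv h3 h2⟩
        · rintro ⟨h1, h2⟩
          exact ⟨h1, (hZuv h1).resolve_left h2⟩
      rw [this]
      exact hZ.2.inter hu.isOpen_compl
    have hdisj : Disjoint (Z ∩ u) (Z ∩ v) :=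
      huv.mono Set.inter_subset_right Set.inter_subset_right
    have hun : (Z ∩ u) ∪ (Z ∩ v) = Z := by
      rw [← Set.inter_union_distrib_left]
      exact Set.inter_eq_left.mpr hZuv
    rcases hZuv hcZ with hcu | hcv
    · left
      have h0 := key (Z ∩ u) (Z ∩ v) hZu hZv hdisj hun ⟨hcZ, hcu⟩
      intro z hz
      rcases hZuv hz with h | h
      · exact h
      · exact absurd (show z ∈ Z ∩ v from ⟨hz, h⟩) (h0 ▸ Set.notMem_empty z)
    · right
      have h0 := key (Z ∩ v) (Z ∩ u) hZv hZu hdisj.symm (by rw [Set.union_comm]; exact hun)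
        ⟨hcZ, hcv⟩
      intro z hz
      rcases hZuv hz with h | h
      · exact absurd (show z ∈ Z ∩ u from ⟨hz, h⟩) (h0 ▸ Set.notMem_empty z)
      · exact h
  obtain ⟨z, hzZ, hzx⟩ := hsurj Z hZ ⟨c, hcZ⟩ x
  exact ⟨z, hzx, hZconn.subset_connectedComponent hcZ hzZ⟩

end Groth.Agent.S5278
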