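import Groth.Statements.S5311
import Groth.Agent.S18824
import Mathlib

set_option autoImplicit false
universe u
open CategoryTheory CategoryTheory.Limits MonoidalCategory CartesianMonoidalCategory MonObj GrpObj AlgebraicGeometry
open SGA3

namespace Groth.Agent.S5311

open Limits

lemma isPullback_whiskerRight_fst {C : Type*} [Category C] [CartesianMonoidalCategory C]
    (G : C) {Y Y' : C} (f : Y ⟶ Y') :
    IsPullback (f ▷ G) (fst Y G) (fst Y' G) f := by
  refine ⟨⟨by simp⟩, ⟨PullbackCone.IsLimit.mk _ (fun s => lift s.snd (s.fst ≫ snd Y' G)) ?_ ?_ ?_⟩⟩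
  · intro s
    apply CartesianMonoidalCategory.hom_ext
    · simp [s.condition]
    · simp
  · intro s
    simp
  · intro s m h1 h2
    apply CartesianMonoidalCategory.hom_ext
    · rw [lift_fst, ← h2]
    · rw [lift_snd, ← h1]; simp

lemma uo_of_comp_surj {X Y Z : Scheme.{u}} (p : X ⟶ Y) (f : Y ⟶ Z) [Surjective p]
    (h : UniversallyOpen (p ≫ f)) : UniversallyOpen f := by
  rw [UniversallyOpen.eq]
  intro Y' Z' i₁ i₂ f' sq
  -- sq : IsPullback f' i₁ i₂ f  (f' : Y' ⟶ Z', i₁ : Y' ⟶ Y, i₂ : Z' ⟶ Z)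
  have sqp := IsPullback.of_hasPullback p i₁
  have hsurj : Surjective (pullback.snd p i₁) := inferInstance
  have sq' : IsPullback (pullback.snd p i₁ ≫ f') (pullback.fst p i₁) i₂ (p ≫ f) :=
    sqp.flip.paste_horiz sq
  have hopen : IsOpenMap (pullback.snd p i₁ ≫ f') := by
    exact h.universally_isOpenMap _ _ _ sq'
  intro U hU
  have : f' '' U = (pullback.snd p i₁ ≫ f') '' ((pullback.snd p i₁) ⁻¹' U) := by
    rw [Scheme.Hom.comp_base, TopCat.coe_comp, Set.image_comp,
      Set.image_preimage_eq _ (pullback.snd p i₁).surjective]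
  rw [this]
  exact hopen _ (hU.preimage (pullback.snd p i₁).continuous)

section
variable {S : Scheme.{u}}

lemma uo_mulLeft (Vo K : Over S) [GrpObj K] (hV : UniversallyOpen Vo.hom) (w : Vo ⟶ K) :
    UniversallyOpen ((fst Vo K ≫ w) * snd Vo K).left := by
  let e : Vo ⊗ K ≅ Vo ⊗ K :=
    { hom := lift (fst Vo K) ((fst Vo K ≫ w) * snd Vo K)
      inv := lift (fst Vo K) ((fst Vo K ≫ w)⁻¹ * snd Vo K)
      hom_inv_id := by
        apply CartesianMonoidalCategory.hom_ext
        · simp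
        · simp [MonObj.comp_mul, GrpObj.comp_inv]
      inv_hom_id := by
        apply CartesianMonoidalCategory.hom_ext
        · simp
        · simp [MonObj.comp_mul] }
  have h1 : (fst Vo K ≫ w) * snd Vo K = e.hom ≫ snd Vo K := by simp [e]
  rw [h1, Over.comp_left]
  have : UniversallyOpen (snd Vo K).left := by
    rw [Over.snd_left]; infer_instance
  have : IsIso e.hom.left := (inferInstance : IsIso ((Over.forget S).mapIso e).hom)
  infer_instance

lemma uo_mul (Vo K : Over S) [GrpObj K] (hV : UniversallyOpen Vo.hom) (w : Vo ⟶ K)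
    (hw : UniversallyOpen w.left) : UniversallyOpen ((w ⊗ₘ w) ≫ μ[K]).left := by
  have h1 : (w ⊗ₘ w) ≫ μ[K] = (Vo ◁ w) ≫ ((fst Vo K ≫ w) * snd Vo K) := by
    rw [MonObj.comp_mul, ← Category.assoc, whiskerLeft_fst, whiskerLeft_snd, Hom.mul_def,
      lift_fst_comp_snd_comp]
  rw [h1, Over.comp_left]
  have sq := (Groth.Agent.S18824.isPullback_whiskerLeft_snd Vo w).map (Over.forget S)
  simp only [Over.forget_obj, Over.forget_map] at sq
  have : UniversallyOpen (Vo ◁ w).left := MorphismProperty.of_isPullback sq.flip hw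
  have := uo_mulLeft Vo K hV w
  infer_instance

end

set_option linter.style.haveILetI false in
theorem result' (S : Scheme.{u}) (G H : Over S) [GrpObj G] [GrpObj H]
    (u : G ⟶ H) [IsMonHom u] (hG : UniversallyOpen G.hom ∨ UniversallyOpen H.hom)
    (V : G.left.Opens) (hV : UniversallyOpen (V.ι ≫ u.left))
    (hmax : ∀ W : G.left.Opens, UniversallyOpen (W.ι ≫ u.left) → W ≤ V) :
    IsOpen (G.hom.base '' (V : Set G.left)) ∧
    (∀ g ∈ V, ∀ p : ↥(𝟙_ (Over S)).left, (𝟙_ (Over S)).hom.base p = G.hom.base g → η[G].left.base p ∈ V) ∧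
    (∀ g ∈ V, ι[G].left.base g ∈ V) ∧
    (∀ z : ↥(G ⊗ G).left, (fst G G).left.base z ∈ V → (snd G G).left.base z ∈ V → μ[G].left.base z ∈ V) := by
  let Vo : Over S := Over.mk (V.ι ≫ G.hom)
  let j : Vo ⟶ G := Over.homMk V.ι rfl
  have hjl : j.left = V.ι := rfl
  have hVS : UniversallyOpen Vo.hom := by
    change UniversallyOpen (V.ι ≫ G.hom)
    rcases hG with hG | hH
    · infer_instance
    · have : V.ι ≫ G.hom = (V.ι ≫ u.left) ≫ H.hom := by rw [Category.assoc, Over.w]
      rw [this]; infer_instance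
  -- inverse
  have hinv : ∀ g ∈ V, ι[G].left.base g ∈ V := by
    set i : G.left ⟶ G.left := ι[G].left with hi
    have hii : i ≫ i = 𝟙 _ := by
      rw [hi, ← Over.comp_left, GrpObj.inv_comp_inv]; rfl
    have : IsIso i := ⟨i, hii, hii⟩
    have hiu : i ≫ u.left = u.left ≫ ι[H].left := by
      rw [hi, ← Over.comp_left, GrpObj.inv_hom, Over.comp_left]
    have hjj : ι[H].left ≫ ι[H].left = 𝟙 _ := by
      rw [← Over.comp_left, GrpObj.inv_comp_inv]; rfl
    have : IsIso ι[H].left := ⟨ι[H].left, hjj, hjj⟩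
    have hW : UniversallyOpen ((i ⁻¹ᵁ V).ι ≫ u.left) := by
      have e : (i ⁻¹ᵁ V).ι ≫ u.left = (i ∣_ V) ≫ (V.ι ≫ u.left) ≫ ι[H].left := by
        calc (i ⁻¹ᵁ V).ι ≫ u.left = (i ⁻¹ᵁ V).ι ≫ (i ≫ i) ≫ u.left := by
              rw [hii, Category.id_comp]
          _ = ((i ⁻¹ᵁ V).ι ≫ i) ≫ (i ≫ u.left) := by simp only [Category.assoc]
          _ = ((i ∣_ V) ≫ V.ι) ≫ (u.left ≫ ι[H].left) := by rw [morphismRestrict_ι, hiu]
          _ = _ := by simp only [Category.assoc]
      rw [e]
      infer_instance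
    have hle := hmax _ hW
    intro g hg
    apply hle
    change i (i g) ∈ V
    rw [← Scheme.Hom.comp_apply, hii]
    exact hg
  -- multiplication
  have hA : UniversallyOpen ((j ⊗ₘ j) ≫ μ[G]).left :=
    uo_mul Vo G hVS j (by rw [hjl]; infer_instance)
  have hB : UniversallyOpen (((j ≫ u) ⊗ₘ (j ≫ u)) ≫ μ[H]).left :=
    uo_mul Vo H hVS (j ≫ u) (by rw [Over.comp_left, hjl]; exact hV)
  have hmu : ((j ⊗ₘ j) ≫ μ[G]) ≫ u = ((j ≫ u) ⊗ₘ (j ≫ u)) ≫ μ[H] := by
    rw [Category.assoc, IsMonHom.mul_hom, ← tensorHom_comp_tensorHom, Category.assoc]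
  set m : (Vo ⊗ Vo).left ⟶ G.left := ((j ⊗ₘ j) ≫ μ[G]).left with hm
  let W : G.left.Opens := ⟨Set.range m, m.isOpenMap.isOpen_range⟩
  have hrange : Set.range m ⊆ Set.range W.ι := by
    rw [Scheme.Opens.range_ι]; exact subset_rfl
  let m' : (Vo ⊗ Vo).left ⟶ W := IsOpenImmersion.lift W.ι m hrange
  have hm' : m' ≫ W.ι = m := IsOpenImmersion.lift_fac _ _ _
  have hsurj : Surjective m' := by
    refine ⟨fun w => ?_⟩
    obtain ⟨z, hz⟩ : W.ι w ∈ Set.range m := w.2
    refine ⟨z, W.ι.isOpenEmbedding.injective ?_⟩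
    rw [← Scheme.Hom.comp_apply, hm', hz]
  have hWuo : UniversallyOpen (W.ι ≫ u.left) := by
    refine uo_of_comp_surj m' _ ?_
    rw [← Category.assoc, hm', hm, ← Over.comp_left, hmu]
    exact hB
  have hWV : W ≤ V := hmax W hWuo
  have hmul : ∀ z : ↥(G ⊗ G).left, (fst G G).left.base z ∈ V → (snd G G).left.base z ∈ V →
      μ[G].left.base z ∈ V := by
    intro z hz1 hz2
    have sq1 := (Groth.Agent.S18824.isPullback_whiskerLeft_snd G j).map (Over.forget S)
    have sq2 := (isPullback_whiskerRight_fst Vo j).map (Over.forget S)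
    simp only [Over.forget_obj, Over.forget_map] at sq1 sq2
    obtain ⟨z₁, hz₁a, hz₁b⟩ : ∃ t : (G ⊗ Vo).left, (G ◁ j).left t = z ∧
        (snd G Vo).left t = ⟨_, hz2⟩ :=
      Groth.Agent.S18824.exists_pt_of_isPullback sq1 z ⟨_, hz2⟩ rfl
    have hz₁c : (fst G Vo).left z₁ ∈ V := by
      have : (fst G Vo).left z₁ = (fst G G).left z := by
        rw [← hz₁a, ← Scheme.Hom.comp_apply, ← Over.comp_left, whiskerLeft_fst]
      rw [this]; exact hz1
    obtain ⟨z', hz'a, -⟩ : ∃ t : (Vo ⊗ Vo).left, (j ▷ Vo).left t = z₁ ∧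
        (fst Vo Vo).left t = ⟨_, hz₁c⟩ :=
      Groth.Agent.S18824.exists_pt_of_isPullback sq2 z₁ ⟨_, hz₁c⟩ rfl
    apply hWV
    refine ⟨z', ?_⟩
    have : (j ⊗ₘ j) = (j ▷ Vo) ≫ (G ◁ j) := by rw [MonoidalCategory.tensorHom_def]
    rw [hm, this, Category.assoc, Over.comp_left, Over.comp_left, Scheme.Hom.comp_apply,
      Scheme.Hom.comp_apply, hz'a, hz₁a]
  refine ⟨?_, ?_, hinv, hmul⟩
  · have : G.hom.base '' (V : Set G.left) = Set.range (V.ι ≫ G.hom) := by
      rw [Scheme.Hom.comp_base, TopCat.coe_comp, Set.range_comp, Scheme.Opens.range_ι]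
    rw [this]
    have : UniversallyOpen (V.ι ≫ G.hom) := hVS
    exact (Scheme.Hom.isOpenMap (V.ι ≫ G.hom)).isOpen_range
  · intro g hg p hp
    have hp' : p = G.hom g := hp
    let d : G ⟶ G ⊗ G := lift (𝟙 G) ι[G]
    have h1 : (fst G G).left (d.left g) = g := by
      rw [← Scheme.Hom.comp_apply, ← Over.comp_left, lift_fst]; rfl
    have h2 : (snd G G).left (d.left g) = ι[G].left g := by
      rw [← Scheme.Hom.comp_apply, ← Over.comp_left, lift_snd]
    have h3 := hmul (d.left g) (by rw [h1]; exact hg) (by rw [h2]; exact hinv g hg)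
    have h4 : d ≫ μ[G] = toUnit G ≫ η[G] := GrpObj.right_inv G
    have : μ[G].left (d.left g) = η[G].left p := by
      rw [← Scheme.Hom.comp_apply, ← Over.comp_left, h4, Over.comp_left, Scheme.Hom.comp_apply, hp']
      rfl
    rw [← this]
    exact h3

/-- Let u : G → H be a homomorphism of S-group schemes with G or H universally open over S, and let V be
the largest open subscheme of G on which the restriction of u is universally open. Then the image U
of V in S is open and V is an open subgroup scheme of G over U: V contains the unit point of every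
fibre of G that it meets, V is stable under the inversion of G, and the product of a point of G ×_S
G whose two projections lie in V lies in V. -/
theorem result (S : Scheme.{u}) (G H : Over S) [GrpObj G] [GrpObj H]
    (u : G ⟶ H) [IsMonHom u] (hG : UniversallyOpen G.hom ∨ UniversallyOpen H.hom)
    (V : G.left.Opens) (hV : UniversallyOpen (V.ι ≫ u.left))
    (hmax : ∀ W : G.left.Opens, UniversallyOpen (W.ι ≫ u.left) → W ≤ V) :
    IsOpen (G.hom.base '' (V : Set G.left)) ∧
    (∀ g ∈ V, ∀ p : ↥(𝟙_ (Over S)).left, (𝟙_ (Over S)).hom.base p = G.hom.base g → η[G].left.base p ∈ V) ∧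
    (∀ g ∈ V, ι[G].left.base g ∈ V) ∧
    (∀ z : ↥(G ⊗ G).left, (fst G G).left.base z ∈ V → (snd G G).left.base z ∈ V → μ[G].left.base z ∈ V) := by
  exact result' S G H u hG V hV hmax

end Groth.Agent.S5311
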