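import Groth.Statements.S5322
import Mathlib
import Groth.Agent.S1324

set_option autoImplicit false
universe u
open CategoryTheory CategoryTheory.Limits MonoidalCategory CartesianMonoidalCategory MonObj GrpObj AlgebraicGeometry
open SGA3

namespace Groth.Agent.S5322

section Aux
open CategoryTheory CategoryTheory.Limits AlgebraicGeometry TensorProduct MonoidalCategory MonObj

theorem neutralSet_eq {S : Scheme.{u}} (G : Over S) [GrpObj G] :
    SGA3x.neutralSet G = MoreMor.sectionComponents G.hom η[G].left := by
  ext x
  simp only [SGA3x.neutralSet, MoreMor.sectionComponents, Set.mem_iUnion]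
  show (∃ p : S, x ∈ connectedComponentIn (G.hom ⁻¹' {p}) (η[G].left p)) ↔
    x ∈ connectedComponentIn (G.hom ⁻¹' {G.hom x}) (η[G].left (G.hom x))
  constructor
  · rintro ⟨p, hp⟩
    have hx : G.hom x = p := connectedComponentIn_subset (G.hom ⁻¹' {p}) _ hp
    subst hx
    exact hp
  · intro h
    exact ⟨G.hom x, h⟩

theorem unit_bc {S S' : Scheme.{u}} (f : S' ⟶ S) (G : Over S) [GrpObj G] :
    η[Red.bc f G].left ≫ pullback.fst G.hom f = f ≫ η[G].left := by
  have h1 : η[Red.bc f G] = Functor.LaxMonoidal.ε (Over.pullback f) ≫ (Over.pullback f).map η[G] := rfl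
  rw [h1, Over.comp_left, Category.assoc]
  have h2 : ((Over.pullback f).map η[G]).left ≫ pullback.fst G.hom f =
      pullback.fst (𝟙_ (Over S)).hom f ≫ η[G].left := by
    simp only [Over.pullback_map_left]
    exact pullback.lift_fst _ _ _
  rw [h2, ← Category.assoc]
  congr 1
  have h3 := Over.w (Functor.LaxMonoidal.ε (Over.pullback f))
  have h4 : (Functor.LaxMonoidal.ε (Over.pullback f)).left ≫ pullback.snd (𝟙_ (Over S)).hom f = 𝟙 S' := by
    simpa using h3
  have h5 := pullback.condition (f := (𝟙_ (Over S)).hom) (g := f)
  have h6 : (𝟙_ (Over S)).hom = 𝟙 S := rfl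
  have h7 : pullback.fst (𝟙_ (Over S)).hom f = pullback.snd (𝟙_ (Over S)).hom f ≫ f := by
    rw [← h5, h6]; exact (Category.comp_id _).symm
  rw [h7, ← Category.assoc, h4]
  exact Category.id_comp _

theorem main (S S' : Scheme.{u}) (f : S' ⟶ S) (G : Over S) [GrpObj G] :
    SGA3x.neutralSet (Red.bc f G) = (pullback.fst G.hom f).base ⁻¹' SGA3x.neutralSet G := by
  rw [neutralSet_eq, neutralSet_eq]
  exact Groth.Agent.S1324.main G.hom η[G].left (by simpa using Over.w η[G])
    (Red.bc f G).hom (pullback.fst G.hom f) f (IsPullback.of_hasPullback G.hom f)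
    η[Red.bc f G].left (by simpa using Over.w η[Red.bc f G]) (unit_bc f G)

end Aux

/-- Let G be an S-group scheme and f : S' → S a morphism. Then the subset of G ×_S S' formed by the
neutral components of its fibres over S' is the inverse image, under the first projection G ×_S S' →
G, of the subset of G formed by the neutral components of the fibres G_s: the formation of the
neutral component commutes with base change. -/
theorem result (S S' : Scheme.{u}) (f : S' ⟶ S) (G : Over S) [GrpObj G] :
    SGA3x.neutralSet (Red.bc f G) = (pullback.fst G.hom f).base ⁻¹' SGA3x.neutralSet G := by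
  exact main S S' f G

end Groth.Agent.S5322
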