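import Groth.Statements.S5327
import Mathlib
import Groth.Agent.S0352
import Groth.Agent.S5322

set_option autoImplicit false
universe u
open CategoryTheory CategoryTheory.Limits MonoidalCategory CartesianMonoidalCategory MonObj GrpObj AlgebraicGeometry
open SGA3

namespace Groth.Agent.S5327

section Aux
open CategoryTheory CategoryTheory.Limits AlgebraicGeometry TensorProduct MonoidalCategory MonObj

/-- fibrewise: the range of `i` meets each fibre in a clopen subset (relative topology). -/
theorem clopen_fibre (S : Scheme.{u}) (G H : Over S) [GrpObj G] [GrpObj H] (i : H ⟶ G) [IsMonHom i]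
    [IsOpenImmersion i.left] (s : S) :
    IsClopen (Subtype.val ⁻¹' Set.range i.left : Set ↥(G.hom ⁻¹' {s})) := by
  set gs := S.fromSpecResidueField s with hgs
  set is : Red.bc gs H ⟶ Red.bc gs G := (Over.pullback gs).map i with his
  haveI : IsMonHom is := inferInstance
  have e1 : is.left ≫ pullback.snd G.hom gs = pullback.snd H.hom gs := by
    simp only [his, Over.pullback_map_left]
    exact pullback.lift_snd _ _ _
  have e2 : is.left ≫ pullback.fst G.hom gs = pullback.fst H.hom gs ≫ i.left := by
    simp only [his, Over.pullback_map_left]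
    exact pullback.lift_fst _ _ _
  have hleft : IsPullback is.left (pullback.fst H.hom gs) (pullback.fst G.hom gs) i.left := by
    refine IsPullback.of_right (h₁₂ := pullback.snd G.hom gs) (h₂₂ := G.hom) (v₁₃ := gs) ?_ e2
      (IsPullback.of_hasPullback G.hom gs).flip
    rw [e1, Over.w i]
    exact (IsPullback.of_hasPullback H.hom gs).flip
  have hrange : Set.range is.left = (pullback.fst G.hom gs) ⁻¹' Set.range i.left := by
    have := Scheme.image_preimage_eq_of_isPullback hleft.flip Set.univ
    rwa [Set.preimage_univ, Set.image_univ, Set.image_univ] at this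
  have hopen : IsOpen (Set.range is.left) := by
    rw [hrange]
    exact i.left.isOpenEmbedding.isOpen_range.preimage (pullback.fst G.hom gs).continuous
  have hclosed : IsClosed (Set.range is.left) :=
    Groth.Agent.S0352.result (S.residueField s) (Red.bc gs H) (Red.bc gs G) is hopen
  set R : Set ↥(G.hom.fiber s) := Set.range is.left with hR
  have hrange' : R = (G.hom.fiberι s) ⁻¹' Set.range i.left := hrange
  have hopen' : IsOpen R := hopen
  have hclosed' : IsClosed R := hclosed
  have heq : (Subtype.val ⁻¹' Set.range i.left : Set ↥(G.hom ⁻¹' {s})) =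
      (G.hom.fiberHomeo s).symm ⁻¹' R := by
    ext z
    rw [Set.mem_preimage, Set.mem_preimage, hrange', Set.mem_preimage,
      G.hom.fiberι_fiberHomeo_symm s z]
  rw [heq]
  exact ⟨hclosed'.preimage (G.hom.fiberHomeo s).symm.continuous,
    hopen'.preimage (G.hom.fiberHomeo s).symm.continuous⟩

theorem mem_neutralSet {S : Scheme.{u}} (G : Over S) [GrpObj G] (x : G.left) :
    x ∈ SGA3x.neutralSet G ↔
      ∃ p : S, x ∈ connectedComponentIn (G.hom ⁻¹' {p}) (η[G].left p) := by
  simp only [SGA3x.neutralSet, Set.mem_iUnion]
  rfl

theorem main (S : Scheme.{u}) (G H : Over S) [GrpObj G] [GrpObj H]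
    (hG : ∀ s : S, LocallyOfFiniteType (G.hom.fiberToSpecResidueField s)) (i : H ⟶ G) [IsMonHom i]
    [IsOpenImmersion i.left] :
    SGA3x.neutralSet G ⊆ Set.range i.left.base ∧ i.left.base '' SGA3x.neutralSet H = SGA3x.neutralSet G := by
  have hη : ∀ s : S, i.left (η[H].left s) = η[G].left s := fun s => by
    have h1 : η[H] ≫ i = η[G] := IsMonHom.one_hom i
    rw [← Scheme.Hom.comp_apply, ← Over.comp_left, h1]
  have hhom : ∀ h : H.left, G.hom (i.left h) = H.hom h := fun h => by
    rw [← Scheme.Hom.comp_apply, Over.w i]
  have heG : ∀ s : S, η[G].left s ∈ G.hom ⁻¹' {s} := fun s => by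
    show G.hom (η[G].left s) = s
    rw [← Scheme.Hom.comp_apply, Over.w η[G]]; rfl
  have heH : ∀ s : S, η[H].left s ∈ H.hom ⁻¹' {s} := fun s => by
    show H.hom (η[H].left s) = s
    rw [← Scheme.Hom.comp_apply, Over.w η[H]]; rfl
  have part1 : ∀ s : S, connectedComponentIn (G.hom ⁻¹' {s}) (η[G].left s) ⊆ Set.range i.left := by
    intro s
    rw [connectedComponentIn_eq_image (heG s)]
    rintro _ ⟨z, hz, rfl⟩
    have hcl := clopen_fibre S G H i s
    have hmem : (⟨η[G].left s, heG s⟩ : ↥(G.hom ⁻¹' {s})) ∈
        (Subtype.val ⁻¹' Set.range i.left : Set ↥(G.hom ⁻¹' {s})) := ⟨η[H].left s, hη s⟩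
    exact hcl.connectedComponent_subset hmem hz
  refine ⟨?_, ?_⟩
  · intro x hx
    obtain ⟨s, hs⟩ := (mem_neutralSet G x).1 hx
    exact part1 s hs
  · apply Set.Subset.antisymm
    · rintro _ ⟨h, hh, rfl⟩
      obtain ⟨s, hs⟩ := (mem_neutralSet H h).1 hh
      refine (mem_neutralSet G _).2 ⟨s, ?_⟩
      have himg : _root_.IsPreconnected (i.left '' connectedComponentIn (H.hom ⁻¹' {s}) (η[H].left s)) :=
        isPreconnected_connectedComponentIn.image _ i.left.continuous.continuousOn
      have hsub := himg.subset_connectedComponentIn (x := η[G].left s) (F := G.hom ⁻¹' {s})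
        ⟨η[H].left s, mem_connectedComponentIn (heH s), hη s⟩ (by
          rintro _ ⟨a, ha, rfl⟩
          have := connectedComponentIn_subset _ _ ha
          show G.hom (i.left a) = s
          rw [hhom a]; exact this)
      exact hsub ⟨h, hs, rfl⟩
    · intro x hx
      obtain ⟨s, hs⟩ := (mem_neutralSet G x).1 hx
      set C := connectedComponentIn (G.hom ⁻¹' {s}) (η[G].left s) with hC
      have hCr : C ⊆ Set.range i.left := part1 s
      have hpre : _root_.IsPreconnected (i.left ⁻¹' C) := by
        rw [← i.left.isEmbedding.isInducing.isPreconnected_image, Set.image_preimage_eq_inter_range,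
          Set.inter_eq_left.2 hCr]
        exact isPreconnected_connectedComponentIn
      have hsub := hpre.subset_connectedComponentIn (x := η[H].left s) (F := H.hom ⁻¹' {s})
        (by
          show i.left (η[H].left s) ∈ C
          rw [hη s]; exact mem_connectedComponentIn (heG s)) (by
          intro a ha
          have := connectedComponentIn_subset _ _ ha
          show H.hom a = s
          rw [← hhom a]; exact this)
      obtain ⟨h, rfl⟩ := hCr hs
      exact ⟨h, (mem_neutralSet H h).2 ⟨s, hsub hs⟩, rfl⟩

end Aux

/-- Let G be an S-group scheme whose fibres are locally of finite type over κ(s), and let i : H → G be a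
homomorphism of S-group schemes which is an open immersion (an open subgroup scheme). Then the union
G⁰ of the neutral components of the fibres of G is contained in the image of i, and G⁰ is the image
under i of the union H⁰ of the neutral components of the fibres of H. -/
theorem result (S : Scheme.{u}) (G H : Over S) [GrpObj G] [GrpObj H]
    (hG : ∀ s : S, LocallyOfFiniteType (G.hom.fiberToSpecResidueField s)) (i : H ⟶ G) [IsMonHom i]
    [IsOpenImmersion i.left] :
    SGA3x.neutralSet G ⊆ Set.range i.left.base ∧ i.left.base '' SGA3x.neutralSet H = SGA3x.neutralSet G := by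
  exact main S G H hG i

end Groth.Agent.S5327
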