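import Groth.Statements.S5331
import Mathlib
import Groth.Agent.S0346

set_option autoImplicit false
universe u
open CategoryTheory CategoryTheory.Limits MonoidalCategory CartesianMonoidalCategory MonObj GrpObj AlgebraicGeometry
open SGA3

namespace Groth.Agent.S5331

section Aux
open CategoryTheory CategoryTheory.Limits MonoidalCategory CartesianMonoidalCategory MonObj GrpObj AlgebraicGeometry

theorem main (S : Scheme.{u}) [DiscreteTopology S] (G : Over S) [GrpObj G] :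
    IsSeparated G.hom := by
  rw [(Groth.Agent.S0346.result S G).1]
  have hw : η[G].left ≫ G.hom = 𝟙 S := by
    have := Over.w η[G]
    simpa using this
  let U : S → S.Opens := fun s => ⟨{s}, isOpen_discrete _⟩
  have hU : ⨆ s, (G.hom ⁻¹ᵁ U s) = ⊤ := by
    rw [eq_top_iff]
    intro g _
    rw [TopologicalSpace.Opens.mem_iSup]
    exact ⟨G.hom g, rfl⟩
  rw [IsZariskiLocalAtTarget.iff_of_iSup_eq_top (P := @IsClosedImmersion) _ hU]
  intro s
  have hmem : ∀ s' : S, s' ∈ η[G].left ⁻¹ᵁ (G.hom ⁻¹ᵁ U s) ↔ s' = s := by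
    intro s'
    show G.hom (η[G].left s') ∈ ({s} : Set S) ↔ s' = s
    rw [← Scheme.Hom.comp_apply, hw]
    simp
  haveI : Subsingleton (η[G].left ⁻¹ᵁ (G.hom ⁻¹ᵁ U s)).toScheme := by
    constructor
    rintro ⟨a, ha⟩ ⟨b, hb⟩
    apply Subtype.ext
    exact ((hmem a).mp ha).trans ((hmem b).mp hb).symm
  have hsub : Set.range (((G.hom ⁻¹ᵁ U s)).ι ≫ G.hom) ⊆
      Set.range (η[G].left ⁻¹ᵁ (G.hom ⁻¹ᵁ U s)).ι := by
    rintro _ ⟨⟨g, hg⟩, rfl⟩
    rw [Scheme.Opens.range_ι]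
    apply (hmem _).mpr
    exact hg
  let f : (G.hom ⁻¹ᵁ U s).toScheme ⟶ (η[G].left ⁻¹ᵁ (G.hom ⁻¹ᵁ U s)).toScheme :=
    IsOpenImmersion.lift (η[G].left ⁻¹ᵁ (G.hom ⁻¹ᵁ U s)).ι ((G.hom ⁻¹ᵁ U s).ι ≫ G.hom) hsub
  refine isClosedImmersion_of_comp_eq_id f (η[G].left ∣_ (G.hom ⁻¹ᵁ U s)) ?_
  rw [← cancel_mono (η[G].left ⁻¹ᵁ (G.hom ⁻¹ᵁ U s)).ι, Category.assoc, IsOpenImmersion.lift_fac,
    morphismRestrict_ι_assoc, hw]
  simp

end Aux

/-- Let S be a scheme whose underlying topological space is discrete. Then every S-group scheme is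
separated over S. -/
theorem result (S : Scheme.{u}) [DiscreteTopology S] (G : Over S) [GrpObj G] :
    IsSeparated G.hom := by
  exact main S G

end Groth.Agent.S5331
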