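import Groth.Statements.S5333
import Mathlib
import Groth.Agent.Lib.helper7.RedSub
import Groth.Agent.S4367

set_option autoImplicit false
universe u
open CategoryTheory CategoryTheory.Limits MonoidalCategory CartesianMonoidalCategory MonObj GrpObj AlgebraicGeometry
open SGA3

namespace Groth.Agent.S5333


theorem unique_of_isSeparated {X S : Scheme.{u}} (f : X ⟶ S) [IsSeparated f] (T : Scheme.{u})
    [IsReduced T] (g₁ g₂ : T ⟶ X) (U : T.Opens) (h : g₁ ≫ f = g₂ ≫ f) (hU : Dense (U : Set T))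
    (hg : U.ι ≫ g₁ = U.ι ≫ g₂) : g₁ = g₂ := by
  haveI : IsDominant U.ι := ⟨by rw [DenseRange, Scheme.Opens.range_ι]; exact hU⟩
  exact ext_of_isDominant_of_isSeparated f h U.ι hg

theorem isSeparated_of_isClosed_range_diagonal {X S : Scheme.{u}} (f : X ⟶ S)
    (h : IsClosed (Set.range (pullback.diagonal f))) : IsSeparated f :=
  ⟨IsClosedImmersion.of_isPreimmersion _ h⟩

theorem isClosed_range_diagonal_of_unique {X S : Scheme.{u}} (f : X ⟶ S)
    (H : ∀ (T : Scheme.{u}) [IsReduced T] (g₁ g₂ : T ⟶ X) (U : T.Opens), g₁ ≫ f = g₂ ≫ f →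
      Dense (U : Set T) → U.ι ≫ g₁ = U.ι ≫ g₂ → g₁ = g₂) :
    IsClosed (Set.range (pullback.diagonal f)) := by
  set Δ := pullback.diagonal f with hΔ
  let Z : TopologicalSpace.Closeds ↥(pullback f f) := ⟨closure (Set.range Δ), isClosed_closure⟩
  let I := Scheme.IdealSheafData.vanishingIdeal Z
  let T := I.subscheme
  let jT : T ⟶ pullback f f := I.subschemeι
  haveI : IsReduced T := Groth.Agent.Lib.helper7.RedSub.isReduced_subscheme_vanishingIdeal Z
  have hrange : Set.range jT = closure (Set.range Δ) :=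
    Groth.Agent.Lib.helper7.RedSub.range_subschemeι_vanishingIdeal Z
  let W := Δ.coborderRange
  let U₀ : T.Opens := jT ⁻¹ᵁ W
  have hdense : Dense (U₀ : Set T) := by
    have hsub : jT ⁻¹' (Set.range Δ) ⊆ (U₀ : Set T) := fun t ht => subset_coborder ht
    refine Dense.mono hsub ?_
    rw [dense_iff_closure_eq, jT.isEmbedding.isInducing.closure_eq_preimage_closure_image,
      Set.image_preimage_eq_inter_range, hrange, Set.inter_eq_left.2 subset_closure, ← hrange]
    exact Set.preimage_range jT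
  have hU₀W : Set.range (U₀.ι ≫ jT) ⊆ Set.range W.ι := by
    rintro _ ⟨t, rfl⟩
    rw [Scheme.Opens.range_ι]
    exact t.2
  let l₁ : (U₀ : Scheme.{u}) ⟶ W := IsOpenImmersion.lift W.ι (U₀.ι ≫ jT) hU₀W
  have hl₁ : l₁ ≫ W.ι = U₀.ι ≫ jT := IsOpenImmersion.lift_fac _ _ _
  have hl₁r : Set.range l₁ ⊆ Set.range Δ.liftCoborder := by
    rintro _ ⟨t, rfl⟩
    have h1 : (U₀.ι ≫ jT) t ∈ coborder (Set.range Δ) ∩ closure (Set.range Δ) :=
      ⟨t.2, by rw [← hrange]; exact ⟨U₀.ι t, rfl⟩⟩
    rw [coborder_inter_closure] at h1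
    obtain ⟨x, hx⟩ := h1
    refine ⟨x, W.ι.isOpenEmbedding.injective ?_⟩
    rw [← Scheme.Hom.comp_apply, Δ.liftCoborder_ι, hx, ← Scheme.Hom.comp_apply, hl₁]
  obtain ⟨g, hg⟩ := Groth.Agent.S4367.result l₁ Δ.liftCoborder hl₁r
  have hgΔ : g ≫ Δ = U₀.ι ≫ jT := by
    rw [← Δ.liftCoborder_ι, ← Category.assoc, hg, hl₁]
  have key := H T (jT ≫ pullback.fst f f) (jT ≫ pullback.snd f f) U₀
    (by rw [Category.assoc, Category.assoc, pullback.condition]) hdense (by
      rw [← Category.assoc, ← hgΔ, ← Category.assoc, ← hgΔ, Category.assoc, Category.assoc, hΔ,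
        pullback.diagonal_fst, pullback.diagonal_snd])
  have hι : jT = (jT ≫ pullback.fst f f) ≫ Δ := by
    apply pullback.hom_ext
    · rw [Category.assoc, hΔ, pullback.diagonal_fst, Category.comp_id]
    · rw [Category.assoc, hΔ, pullback.diagonal_snd, Category.comp_id, key]
  have hsub : closure (Set.range Δ) ⊆ Set.range Δ := by
    rw [← hrange]
    rintro _ ⟨t, rfl⟩
    rw [hι]
    exact ⟨_, rfl⟩
  exact closure_subset_iff_isClosed.1 hsub

theorem isClosed_range_diagonal_of_local {X S : Scheme.{u}} (f : X ⟶ S)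
    (H : ∀ x₁ x₂ : X, f x₁ = f x₂ → ∃ V : X.Opens, x₁ ∈ V ∧ x₂ ∈ V ∧ IsSeparated (V.ι ≫ f)) :
    IsClosed (Set.range (pullback.diagonal f)) := by
  rw [← closure_subset_iff_isClosed]
  intro z hz
  have hx : f (pullback.fst f f z) = f (pullback.snd f f z) := by
    rw [← Scheme.Hom.comp_apply, ← Scheme.Hom.comp_apply, pullback.condition]
  obtain ⟨V, h1, h2, hV⟩ := H _ _ hx
  let φ := pullback.map (V.ι ≫ f) (V.ι ≫ f) f f V.ι V.ι (𝟙 S) (by simp) (by simp)
  have hφr : Set.range φ = pullback.fst f f ⁻¹' (V : Set X) ∩ pullback.snd f f ⁻¹' (V : Set X) := by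
    rw [Scheme.Pullback.range_map, Scheme.Opens.range_ι]
  have hΔφ : pullback.diagonal (V.ι ≫ f) ≫ φ = V.ι ≫ pullback.diagonal f := by
    apply pullback.hom_ext
    · rw [Category.assoc, Category.assoc, pullback.lift_fst, ← Category.assoc,
        pullback.diagonal_fst, Category.id_comp, pullback.diagonal_fst, Category.comp_id]
    · rw [Category.assoc, Category.assoc, pullback.lift_snd, ← Category.assoc,
        pullback.diagonal_snd, Category.id_comp, pullback.diagonal_snd, Category.comp_id]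
  obtain ⟨w, hw⟩ : z ∈ Set.range φ := by rw [hφr]; exact ⟨h1, h2⟩
  by_contra hzR
  have hK : IsClosed (Set.range (pullback.diagonal (V.ι ≫ f))) :=
    (pullback.diagonal (V.ι ≫ f)).isClosedEmbedding.isClosed_range
  have hwK : w ∉ Set.range (pullback.diagonal (V.ι ≫ f)) := by
    rintro ⟨v, rfl⟩
    apply hzR
    rw [← hw, ← Scheme.Hom.comp_apply, hΔφ]
    exact ⟨V.ι v, rfl⟩
  have hopen : IsOpen (φ '' (Set.range (pullback.diagonal (V.ι ≫ f)))ᶜ) :=
    φ.isOpenEmbedding.isOpenMap _ hK.isOpen_compl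
  have hzmem : z ∈ φ '' (Set.range (pullback.diagonal (V.ι ≫ f)))ᶜ := ⟨w, hwK, hw⟩
  obtain ⟨_, ⟨w', hw'K, rfl⟩, ⟨x, hx'⟩⟩ := mem_closure_iff.1 hz _ hopen hzmem
  have hxV : x ∈ V := by
    have h3 : pullback.diagonal f x ∈ Set.range φ := ⟨w', hx'.symm⟩
    rw [hφr] at h3
    have h4 := h3.1
    rw [Set.mem_preimage, ← Scheme.Hom.comp_apply, pullback.diagonal_fst] at h4
    exact h4
  apply hw'K
  refine ⟨⟨x, hxV⟩, φ.isOpenEmbedding.injective ?_⟩
  rw [← Scheme.Hom.comp_apply, hΔφ]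
  exact hx'


/-- (i) ⟺ (iii) ⟺ (iv'): let f : X → S be a morphism of schemes. Then X is separated over S if and only
if for every reduced scheme T and every two morphisms T → X with the same composite to S which agree
on a dense open subscheme of T are equal; and X is separated over S if and only if every two points
of X in the same fibre over S lie in a common open subscheme of X which is separated over S. -/
theorem result (X S : Scheme.{u}) (f : X ⟶ S) :
    (IsSeparated f ↔ ∀ (T : Scheme.{u}) [IsReduced T] (g₁ g₂ : T ⟶ X) (U : T.Opens), g₁ ≫ f = g₂ ≫ f →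
      Dense (U : Set T) → U.ι ≫ g₁ = U.ι ≫ g₂ → g₁ = g₂) ∧
    (IsSeparated f ↔ ∀ x₁ x₂ : X, f.base x₁ = f.base x₂ →
      ∃ V : X.Opens, x₁ ∈ V ∧ x₂ ∈ V ∧ IsSeparated (V.ι ≫ f)) := by
  refine ⟨⟨fun hs T _ g₁ g₂ U h hU hg => unique_of_isSeparated f T g₁ g₂ U h hU hg,
    fun H => isSeparated_of_isClosed_range_diagonal f (isClosed_range_diagonal_of_unique f H)⟩,
    ⟨fun hs x₁ x₂ _ => ⟨⊤, trivial, trivial, inferInstance⟩,
    fun H => isSeparated_of_isClosed_range_diagonal f (isClosed_range_diagonal_of_local f H)⟩⟩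

end Groth.Agent.S5333
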