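import Groth.Statements.S5335
import Groth.Agent.Lib.helper29.ArtinOpen
import Groth.Agent.S18824
import Groth.Agent.S18510
import Mathlib

set_option autoImplicit false
universe u
open CategoryTheory CategoryTheory.Limits MonoidalCategory CartesianMonoidalCategory MonObj GrpObj AlgebraicGeometry
open SGA3

namespace Groth.Agent.S5335

open Limits
open Groth.Agent.Lib.helper29.ArtinOpen

theorem result' (A : Type u) [CommRing A] [IsArtinianRing A] [IsLocalRing A] (X X' Y Y' : Over (Spec (CommRingCat.of A)))
    (f : X' ⟶ X) (g : Y' ⟶ Y) [QuasiCompact f.left] [QuasiCompact g.left]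
    (hf : DenseRange f.left.base) (hg : DenseRange g.left.base) :
    DenseRange (f ⊗ₘ g).left.base ∧ QuasiCompact (f ⊗ₘ g).left := by
  have sq1 : IsPullback (fst X' Y').left (f ▷ Y').left f.left (fst X Y').left :=
    ((Groth.Agent.S18510.H5S18510.whiskerRight_isPullback f Y').map (Over.forget _)).flip
  have sq2 : IsPullback (snd X Y').left (X ◁ g).left g.left (snd X Y).left :=
    ((Groth.Agent.S18824.isPullback_whiskerLeft_snd X g).map (Over.forget _)).flip
  have hq1 : QuasiCompact (f ▷ Y').left :=
    MorphismProperty.of_isPullback (P := @QuasiCompact) sq1 inferInstance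
  have hq2 : QuasiCompact (X ◁ g).left :=
    MorphismProperty.of_isPullback (P := @QuasiCompact) sq2 inferInstance
  have hdef : (f ⊗ₘ g).left = (f ▷ Y').left ≫ (X ◁ g).left := by
    rw [MonoidalCategory.tensorHom_def]; rfl
  have hY' : UniversallyOpen Y'.hom := univOpen_artin A Y'.hom
  have hX : UniversallyOpen X.hom := univOpen_artin A X.hom
  have ho1 : IsOpenMap (fst X Y').left.base := by
    rw [Over.fst_left]
    exact (pullback.fst X.hom Y'.hom).isOpenMap
  have ho2 : IsOpenMap (snd X Y).left.base := by
    rw [Over.snd_left]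
    exact (pullback.snd X.hom Y.hom).isOpenMap
  have hr1 : Set.range (f ▷ Y').left.base = (fst X Y').left.base ⁻¹' Set.range f.left.base := by
    have := Scheme.image_preimage_eq_of_isPullback sq1 Set.univ
    simpa [Set.image_univ] using this
  have hr2 : Set.range (X ◁ g).left.base = (snd X Y).left.base ⁻¹' Set.range g.left.base := by
    have := Scheme.image_preimage_eq_of_isPullback sq2 Set.univ
    simpa [Set.image_univ] using this
  have hd1 : DenseRange (f ▷ Y').left.base := by
    show Dense (Set.range (f ▷ Y').left.base)
    rw [hr1]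
    exact Dense.preimage hf ho1
  have hd2 : DenseRange (X ◁ g).left.base := by
    show Dense (Set.range (X ◁ g).left.base)
    rw [hr2]
    exact Dense.preimage hg ho2
  refine ⟨?_, ?_⟩
  · rw [hdef, Scheme.Hom.comp_base, TopCat.coe_comp]
    exact hd2.comp hd1 (X ◁ g).left.continuous
  · rw [hdef]
    infer_instance

/-- Let A be a local artinian ring and f : X' → X, g : Y' → Y two quasi-compact dominant morphisms of
schemes over A. Then the product morphism f ×_A g : X' ×_A Y' → X ×_A Y is dominant (and
quasi-compact). -/
theorem result (A : Type u) [CommRing A] [IsArtinianRing A] [IsLocalRing A] (X X' Y Y' : Over (Spec (CommRingCat.of A)))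
    (f : X' ⟶ X) (g : Y' ⟶ Y) [QuasiCompact f.left] [QuasiCompact g.left]
    (hf : DenseRange f.left.base) (hg : DenseRange g.left.base) :
    DenseRange (f ⊗ₘ g).left.base ∧ QuasiCompact (f ⊗ₘ g).left := by
  exact result' A X X' Y Y' f g hf hg

end Groth.Agent.S5335
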