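import Groth.Statements.S5338
import Mathlib
import Groth.Agent.Lib.helper5.NilLift

set_option autoImplicit false
universe u
open CategoryTheory CategoryTheory.Limits MonoidalCategory CartesianMonoidalCategory MonObj GrpObj AlgebraicGeometry
open SGA3

namespace Groth.Agent.S5338

section helpers

open Groth.Agent.H5.NilLift

section
variable {B C : Type u} [CommRing B] [CommRing C] [Algebra B C] (J : Ideal B)

local notation "Bq" => B ⧸ J
local notation "Cq" => C ⧸ J.map (algebraMap B C)

lemma compat {k : ℕ} (c : Fin k → C)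
    (f : MvPolynomial (Fin k) (B ⧸ J) →ₐ[B ⧸ J] (C ⧸ J.map (algebraMap B C)))
    (hf : ∀ i, f (MvPolynomial.X i) = Ideal.Quotient.mk _ (c i))
    (G : MvPolynomial (Fin k) B) :
    f (MvPolynomial.map (Ideal.Quotient.mk J) G) =
      Ideal.Quotient.mk (J.map (algebraMap B C)) (MvPolynomial.aeval c G) := by
  induction G using MvPolynomial.induction_on with
  | C b =>
    rw [MvPolynomial.map_C, MvPolynomial.aeval_C, ← MvPolynomial.algebraMap_eq, AlgHom.commutes,
      Ideal.Quotient.algebraMap_quotient_map_quotient]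
  | add p q hp hq => rw [map_add, map_add, hp, hq, map_add, map_add]
  | mul_X p i hp =>
    rw [map_mul, map_mul, hp, MvPolynomial.map_X, hf, map_mul, map_mul, MvPolynomial.aeval_X]

lemma surj_of_nilpotent (hJ : IsNilpotent J) {k : ℕ} (c : Fin k → C)
    (f : MvPolynomial (Fin k) (B ⧸ J) →ₐ[B ⧸ J] (C ⧸ J.map (algebraMap B C)))
    (hf : ∀ i, f (MvPolynomial.X i) = Ideal.Quotient.mk _ (c i))
    (hfs : Function.Surjective f) :
    Function.Surjective (MvPolynomial.aeval c : MvPolynomial (Fin k) B →ₐ[B] C) := by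
  have h := eq_top_of_sup_smul_top J hJ (LinearMap.range (MvPolynomial.aeval c :
    MvPolynomial (Fin k) B →ₐ[B] C).toLinearMap) ?_
  · intro x
    have hx : x ∈ LinearMap.range (MvPolynomial.aeval c :
      MvPolynomial (Fin k) B →ₐ[B] C).toLinearMap := by rw [h]; trivial
    obtain ⟨y, hy⟩ := hx
    exact ⟨y, hy⟩
  · rw [eq_top_iff]
    rintro x -
    obtain ⟨g, hg⟩ := hfs (Ideal.Quotient.mk _ x)
    obtain ⟨G, rfl⟩ := MvPolynomial.map_surjective _ Ideal.Quotient.mk_surjective g
    rw [compat J c f hf, Ideal.Quotient.eq] at hg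
    have : x = MvPolynomial.aeval c G + (x - MvPolynomial.aeval c G) := by ring
    rw [this]
    refine Submodule.add_mem_sup ⟨G, rfl⟩ ?_
    rw [Ideal.smul_top_eq_map]
    have := Ideal.neg_mem_iff _ |>.mpr hg
    simpa using this

end

section
variable {P : Type u} [CommRing P]

lemma le_of_le_sup_smul (I : Ideal P) (hI : IsNilpotent I) (K K' : Ideal P)
    (h : K ≤ K' ⊔ I • K) : K ≤ K' := by
  obtain ⟨j, hj⟩ := hI
  have key : ∀ j : ℕ, K ≤ K' ⊔ I ^ j • K := by
    intro j
    induction j with
    | zero => simp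
    | succ j ih =>
      refine h.trans (sup_le le_sup_left ?_)
      calc I • K ≤ I • (K' ⊔ I ^ j • K) := Submodule.smul_mono le_rfl ih
        _ = I • K' ⊔ I • (I ^ j • K) := Submodule.smul_sup _ _ _
        _ ≤ K' ⊔ I ^ (j + 1) • K := by
          refine sup_le_sup Submodule.smul_le_right ?_
          rw [← Submodule.mul_smul, pow_succ']
  have := key j
  rwa [hj, Submodule.zero_eq_bot, Submodule.bot_smul, sup_bot_eq] at this

end

section
variable {A B C : Type u} [CommRing A] [CommRing B] [CommRing C]
    [Algebra A B] [Algebra B C] [Algebra A C] [IsScalarTower A B C] (n : Ideal A)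

lemma ker_fg_of_nilpotent (hn : IsNilpotent n) [Module.Flat A C] {k : ℕ} (c : Fin k → C)
    (J : Ideal B) (hJ : J = n.map (algebraMap A B))
    (f : MvPolynomial (Fin k) (B ⧸ J) →ₐ[B ⧸ J] (C ⧸ J.map (algebraMap B C)))
    (hf : ∀ i, f (MvPolynomial.X i) = Ideal.Quotient.mk _ (c i))
    (hπ : Function.Surjective (MvPolynomial.aeval c : MvPolynomial (Fin k) B →ₐ[B] C))
    (hker : (RingHom.ker f.toRingHom).FG) :
    (RingHom.ker (MvPolynomial.aeval c : MvPolynomial (Fin k) B →ₐ[B] C).toRingHom).FG := by
  set π : MvPolynomial (Fin k) B →ₐ[B] C := MvPolynomial.aeval c with hπdef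
  set K := RingHom.ker π.toRingHom with hK
  set red := MvPolynomial.map (σ := Fin k) (Ideal.Quotient.mk J) with hred
  have hredsurj : Function.Surjective red :=
    MvPolynomial.map_surjective _ Ideal.Quotient.mk_surjective
  set IP := n.map (algebraMap A (MvPolynomial (Fin k) B)) with hIP
  have hIPn : IsNilpotent IP := by
    obtain ⟨j, hj⟩ := hn
    refine ⟨j, ?_⟩
    rw [hIP, ← Ideal.map_pow, hj, Ideal.zero_eq_bot, Ideal.map_bot, Ideal.zero_eq_bot]
  have hIPJ : IP = J.map (MvPolynomial.C) := by
    rw [hIP, hJ, Ideal.map_map]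
    rfl
  have hkerred : RingHom.ker red = IP := by
    rw [hred, MvPolynomial.ker_map, Ideal.mk_ker, hIPJ]
  have hmemK : ∀ x, x ∈ K ↔ π x = 0 := fun x => Iff.rfl
  -- elements of `ker f` lift to `K`
  have hlift : ∀ g, f g = 0 → ∃ κ ∈ K, red κ = g := by
    intro g hg
    obtain ⟨G, rfl⟩ := hredsurj g
    rw [compat J c f hf, Ideal.Quotient.eq_zero_iff_mem] at hg
    have hmap : J.map (algebraMap B C) = IP.map π.toRingHom := by
      rw [hIPJ, Ideal.map_map]
      congr 1
      ext b
      simp [π]
    rw [hmap, Ideal.mem_map_iff_of_surjective π.toRingHom hπ] at hg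
    obtain ⟨p, hp, hpG⟩ := hg
    refine ⟨G - p, ?_, ?_⟩
    · rw [hmemK, map_sub]
      exact sub_eq_zero.mpr hpG.symm
    · have : red p = 0 := by rw [← RingHom.mem_ker, hkerred]; exact hp
      rw [map_sub, this, sub_zero]
  obtain ⟨s, hs⟩ := hker
  have hs' : ∀ g ∈ s, f g = 0 := by
    intro g hg
    have : g ∈ RingHom.ker f.toRingHom := by rw [← hs]; exact Ideal.subset_span hg
    exact this
  choose! κ hκK hκ using hlift
  classical
  set K' : Ideal (MvPolynomial (Fin k) B) := Ideal.span ((s.image κ : Finset _) : Set _) with hK'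
  have hK'K : K' ≤ K := by
    rw [hK', Ideal.span_le]
    intro x hx
    rw [Finset.coe_image] at hx
    obtain ⟨g, hg, rfl⟩ := hx
    exact hκK g (hs' g hg)
  have hK'map : K'.map red = RingHom.ker f.toRingHom := by
    rw [hK', Ideal.map_span, ← hs, Finset.coe_image, ← Set.image_comp]
    congr 1
    ext y
    constructor
    · rintro ⟨g, hg, rfl⟩
      rw [Function.comp_apply, hκ g (hs' g hg)]
      exact hg
    · intro hy
      exact ⟨y, hy, hκ y (hs' y hy)⟩
  have h1 : K ≤ K' ⊔ IP := by
    intro x hx
    have hx' : red x ∈ K'.map red := by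
      rw [hK'map]
      show f (red x) = 0
      rw [compat J c f hf]
      rw [(hmemK x).mp hx, map_zero]
    rw [Ideal.mem_map_iff_of_surjective _ hredsurj] at hx'
    obtain ⟨y, hy, hyx⟩ := hx'
    have : x - y ∈ IP := by
      rw [← hkerred, RingHom.mem_ker, map_sub, hyx, sub_self]
    have hxy : x = y + (x - y) := by ring
    rw [hxy]
    exact Submodule.add_mem_sup hy this
  have h2 : K ⊓ IP ≤ IP • K := by
    intro x hx
    have hflat := inf_smul_top_le n (π.toLinearMap.restrictScalars A) hπ
    have hx1 : x ∈ LinearMap.ker (π.toLinearMap.restrictScalars A) ⊓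
        n • (⊤ : Submodule A (MvPolynomial (Fin k) B)) := by
      refine ⟨hx.1, ?_⟩
      rw [Ideal.smul_top_eq_map]
      exact hx.2
    have hx2 := hflat hx1
    have h3 : n • LinearMap.ker (π.toLinearMap.restrictScalars A) =
        (IP • K).restrictScalars A := by
      rw [hIP, Ideal.smul_restrictScalars]
      rfl
    rw [h3] at hx2
    exact hx2
  have h4 : K ≤ K' ⊔ IP • K := by
    calc K = (K' ⊔ IP) ⊓ K := by rw [inf_eq_right.mpr h1]
      _ = K' ⊔ IP ⊓ K := sup_inf_assoc_of_le _ hK'K
      _ ≤ K' ⊔ IP • K := sup_le_sup le_rfl (by rw [inf_comm]; exact h2)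
  have h5 : K = K' := le_antisymm (le_of_le_sup_smul IP hIPn K K' h4) hK'K
  rw [h5]
  exact ⟨_, rfl⟩

end

end helpers

/-- Let A → B → C be homomorphisms of commutative rings and n a nilpotent ideal of A; write nB and nC
for the extended ideals. (i) If C/nC is a (B/nB)-algebra of finite type, then C is a B-algebra of
finite type. (ii) If moreover C is flat over A and C/nC is a (B/nB)-algebra of finite presentation,
then C is a B-algebra of finite presentation. -/
theorem result (A B C : Type u) [CommRing A] [CommRing B] [CommRing C]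
    [Algebra A B] [Algebra B C] [Algebra A C] [IsScalarTower A B C] (n : Ideal A) (hn : IsNilpotent n) :
    (Algebra.FiniteType (B ⧸ n.map (algebraMap A B)) (C ⧸ (n.map (algebraMap A B)).map (algebraMap B C)) →
      Algebra.FiniteType B C) ∧
    (Module.Flat A C →
      Algebra.FinitePresentation (B ⧸ n.map (algebraMap A B)) (C ⧸ (n.map (algebraMap A B)).map (algebraMap B C)) →
      Algebra.FinitePresentation B C) := by
  have hJn : IsNilpotent (n.map (algebraMap A B)) := by
    obtain ⟨j, hj⟩ := hn
    exact ⟨j, by rw [← Ideal.map_pow, hj, Ideal.zero_eq_bot, Ideal.map_bot, Ideal.zero_eq_bot]⟩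
  constructor
  · intro hft
    obtain ⟨k, f, hf⟩ := Algebra.FiniteType.iff_quotient_mvPolynomial''.mp hft
    choose c hc using fun i => Ideal.Quotient.mk_surjective (f (MvPolynomial.X i))
    have hπ := surj_of_nilpotent _ hJn c f (fun i => (hc i).symm) hf
    exact Algebra.FiniteType.of_surjective (MvPolynomial.aeval c) hπ
  · intro hflat hfp
    have hft : Algebra.FiniteType (B ⧸ n.map (algebraMap A B))
        (C ⧸ (n.map (algebraMap A B)).map (algebraMap B C)) := inferInstance
    obtain ⟨k, f, hf⟩ := Algebra.FiniteType.iff_quotient_mvPolynomial''.mp hft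
    choose c hc using fun i => Ideal.Quotient.mk_surjective (f (MvPolynomial.X i))
    have hπ := surj_of_nilpotent _ hJn c f (fun i => (hc i).symm) hf
    have hker := Algebra.FinitePresentation.ker_fG_of_surjective f hf
    have hK := ker_fg_of_nilpotent n hn c _ rfl f (fun i => (hc i).symm) hπ hker
    exact Algebra.FinitePresentation.of_surjective hπ hK

end Groth.Agent.S5338
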