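import Groth.Statements.S5343
import Mathlib

set_option autoImplicit false
universe u
open CategoryTheory CategoryTheory.Limits MonoidalCategory CartesianMonoidalCategory MonObj GrpObj AlgebraicGeometry
open SGA3

namespace Groth.Agent.S5343

/-- Let R be a commutative ring and B a commutative R-algebra which is projective as an R-module. Then
the image of Spec B → Spec R is an open and closed subset of Spec R. (The published statement
concerns a quasi-coherent algebra on any scheme which is a direct summand of a free module; this row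
is the affine case.) -/
theorem result (R B : Type u) [CommRing R] [CommRing B] [Algebra R B] [Module.Projective R B] :
    IsClopen (Set.range (PrimeSpectrum.comap (algebraMap R B))) := by
  classical
  obtain ⟨s, hs⟩ := (Module.projective_def' (R := R) (P := B)).1 inferInstance
  have hone : (1 : B) = ∑ x ∈ (s 1).support, (s 1) x • x := by
    have h0 := LinearMap.congr_fun hs 1
    simp only [LinearMap.comp_apply, LinearMap.id_apply, Finsupp.linearCombination_apply, id] at h0
    rw [Finsupp.sum] at h0
    exact h0.symm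
  obtain ⟨τ, hτ⟩ : ∃ τ : Ideal R, τ = Ideal.span ((fun x => (s 1) x) '' ((s 1).support : Set B)) :=
    ⟨_, rfl⟩
  have hgen : ∀ x ∈ (s 1).support, (s 1) x ∈ τ := by
    intro x hx
    rw [hτ]
    exact Ideal.subset_span ⟨x, hx, rfl⟩
  have hτfg : τ.FG := by
    refine ⟨(s 1).support.image (fun x => (s 1) x), ?_⟩
    rw [hτ, Finset.coe_image]
  have hi : ∀ (φ : B →ₗ[R] R) (b : B), φ b ∈ τ := by
    intro φ b
    have h1 : b = ∑ x ∈ (s 1).support, (s 1) x • (x * b) := by
      calc b = 1 * b := (one_mul b).symm
        _ = (∑ x ∈ (s 1).support, (s 1) x • x) * b := congrArg (· * b) hone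
        _ = ∑ x ∈ (s 1).support, (s 1) x • (x * b) := by
            rw [Finset.sum_mul]
            exact Finset.sum_congr rfl fun x _ => smul_mul_assoc _ _ _
    rw [h1, map_sum]
    refine Ideal.sum_mem _ fun x hx => ?_
    rw [map_smul, smul_eq_mul]
    exact Ideal.mul_mem_right _ _ (hgen x hx)
  have hidem : IsIdempotentElem τ := by
    apply le_antisymm Ideal.mul_le_right
    conv_lhs => rw [hτ]
    rw [Ideal.span_le]
    rintro _ ⟨x, hx, rfl⟩
    have h2 : (s 1) x = ∑ y ∈ (s 1).support, (s 1) y * ((Finsupp.lapply x ∘ₗ s) y) := by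
      have h3 := congrArg (Finsupp.lapply (R := R) x ∘ₗ s) hone
      rw [map_sum] at h3
      simp only [map_smul, smul_eq_mul] at h3
      exact h3
    show (s 1) x ∈ τ * τ
    rw [h2]
    refine Ideal.sum_mem _ fun y hy => ?_
    exact Ideal.mul_mem_mul (hgen y hy) (hi _ y)
  obtain ⟨e, he, hτe⟩ := (Ideal.isIdempotentElem_iff_of_fg τ hτfg).1 hidem
  have hc : ∃ c : B, e • c = 1 := by
    have hmem : ∀ x ∈ (s 1).support, ∃ r : R, r * e = (s 1) x := by
      intro x hx
      have h4 : (s 1) x ∈ τ := hgen x hx
      rw [hτe] at h4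
      exact Ideal.mem_span_singleton'.1 h4
    choose! r hr using hmem
    refine ⟨∑ x ∈ (s 1).support, r x • x, ?_⟩
    calc e • ∑ x ∈ (s 1).support, r x • x = ∑ x ∈ (s 1).support, (s 1) x • x := by
          rw [Finset.smul_sum]
          refine Finset.sum_congr rfl fun x hx => ?_
          rw [smul_smul, ← hr x hx, mul_comm]
      _ = 1 := hone.symm
  obtain ⟨c, hc⟩ := hc
  have heτ : e ∈ τ := by rw [hτe]; exact Ideal.mem_span_singleton_self e
  rw [PrimeSpectrum.isClopen_iff]
  refine ⟨e, he, ?_⟩
  ext p
  simp only [Set.mem_range, SetLike.mem_coe, PrimeSpectrum.mem_basicOpen]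
  constructor
  · rintro ⟨q, rfl⟩
    intro hmem
    have h1 : algebraMap R B e ∈ q.asIdeal := hmem
    have h2 : (1 : B) ∈ q.asIdeal := by
      rw [← hc, Algebra.smul_def]
      exact Ideal.mul_mem_right _ _ h1
    exact q.isPrime.ne_top ((Ideal.eq_top_iff_one _).2 h2)
  · intro hep
    have key : ∀ z ∈ p.asIdeal.map (algebraMap R B), ∀ φ : B →ₗ[R] R, φ z ∈ p.asIdeal := by
      intro z hz
      refine Submodule.span_induction ?_ ?_ ?_ ?_ hz
      · rintro _ ⟨a, ha, rfl⟩ φ
        rw [Algebra.algebraMap_eq_smul_one, map_smul, smul_eq_mul]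
        exact Ideal.mul_mem_right _ _ ha
      · intro φ
        rw [map_zero]; exact Ideal.zero_mem _
      · intro x y _ _ hx hy φ
        rw [map_add]; exact Ideal.add_mem _ (hx φ) (hy φ)
      · intro b x _ hx φ
        have := hx (φ ∘ₗ LinearMap.mulLeft R b)
        simpa using this
    have hcm : (p.asIdeal.map (algebraMap R B)).comap (algebraMap R B) = p.asIdeal := by
      apply le_antisymm _ Ideal.le_comap_map
      intro r hr
      rw [Ideal.mem_comap] at hr
      have hrτ : ∀ t ∈ τ, r * t ∈ p.asIdeal := by
        intro t ht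
        rw [hτ] at ht
        refine Submodule.span_induction ?_ ?_ ?_ ?_ ht
        · rintro _ ⟨x, hx, rfl⟩
          have h5 := key _ hr (Finsupp.lapply x ∘ₗ s)
          rw [Algebra.algebraMap_eq_smul_one, map_smul, smul_eq_mul] at h5
          exact h5
        · rw [mul_zero]; exact Ideal.zero_mem _
        · intro x y _ _ hx hy
          rw [mul_add]; exact Ideal.add_mem _ hx hy
        · intro a x _ hx
          rw [smul_eq_mul, mul_left_comm]; exact Ideal.mul_mem_left _ _ hx
      rcases p.isPrime.mem_or_mem (hrτ e heτ) with h | h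
      · exact h
      · exact absurd h hep
    obtain ⟨q, hq, hqp⟩ := (Ideal.comap_map_eq_self_iff_of_isPrime p.asIdeal).1 hcm
    exact ⟨⟨q, hq⟩, PrimeSpectrum.ext hqp⟩

end Groth.Agent.S5343
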