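import Groth.Statements.S5344
import Groth.Agent.Lib.helper29.NoethConn
import Groth.Agent.Lib.helper29.ArtinConn
import Mathlib

set_option autoImplicit false
universe u
open CategoryTheory CategoryTheory.Limits MonoidalCategory CartesianMonoidalCategory MonObj GrpObj AlgebraicGeometry
open SGA3

namespace Groth.Agent.S5344

open Limits
open Groth.Agent.Lib.helper29.ArtinOpen Groth.Agent.Lib.helper29.ArtinConn
  Groth.Agent.Lib.helper29.NoethConn

set_option linter.unusedSectionVars false
section
variable (A : Type u) [CommRing A] [IsArtinianRing A] [IsLocalRing A]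
  (G : Over (Spec (CommRingCat.of A))) [GrpObj G] [LocallyOfFiniteType G.hom]

lemma eta_eq (p q : ↥(𝟙_ (Over (Spec (CommRingCat.of A)))).left) :
    η[G].left.base p = η[G].left.base q := by
  have : p = q := Subsingleton.elim (α := ↥(Spec (CommRingCat.of A))) p q
  rw [this]

set_option linter.style.haveILetI false in
lemma key (pt : ↥(𝟙_ (Over (Spec (CommRingCat.of A)))).left) (d : G.left)
    (φ : G ⊗ G ⟶ G) (z0 : ↥(G ⊗ G).left)
    (h0D : (fst G G).left.base z0 ∈ connectedComponent d)
    (h0C : (snd G G).left.base z0 ∈ connectedComponent (η[G].left.base pt))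
    (h0 : φ.left.base z0 = η[G].left.base pt)
    (z : ↥(G ⊗ G).left) (hzD : (fst G G).left.base z ∈ connectedComponent d)
    (hzC : (snd G G).left.base z ∈ connectedComponent (η[G].left.base pt)) :
    φ.left.base z ∈ connectedComponent (η[G].left.base pt) := by
  haveI : IsLocallyNoetherian G.left := LocallyOfFiniteType.isLocallyNoetherian G.hom
  let Dop : G.left.Opens := ⟨connectedComponent d, isOpen_connectedComponent_of_isLocallyNoetherian _ d⟩
  let Cop : G.left.Opens := ⟨connectedComponent (η[G].left.base pt),
    isOpen_connectedComponent_of_isLocallyNoetherian _ _⟩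
  haveI hDc : ConnectedSpace (Dop : Scheme.{u}) :=
    isConnected_iff_connectedSpace.1 (isConnected_connectedComponent (x := d))
  haveI hCc : ConnectedSpace (Cop : Scheme.{u}) :=
    isConnected_iff_connectedSpace.1 (isConnected_connectedComponent (x := η[G].left.base pt))
  -- section of `Cop`
  have hrange : Set.range η[G].left.base ⊆ Set.range Cop.ι.base := by
    rintro _ ⟨p, rfl⟩
    rw [Scheme.Opens.range_ι]
    show η[G].left.base p ∈ connectedComponent (η[G].left.base pt)
    rw [eta_eq A G p pt]
    exact mem_connectedComponent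
  let xC : Spec (CommRingCat.of A) ⟶ (Cop : Scheme.{u}) :=
    IsOpenImmersion.lift Cop.ι η[G].left hrange
  have hxC : xC ≫ (Cop.ι ≫ G.hom) = 𝟙 _ := by
    rw [← Category.assoc, IsOpenImmersion.lift_fac]
    exact Over.w η[G]
  haveI : GeometricallyConnected (Cop.ι ≫ G.hom) := geomConn_artin A _ xC hxC
  haveI : UniversallyOpen (Cop.ι ≫ G.hom) := univOpen_artin A _
  haveI : ConnectedSpace ↥(pullback (Dop.ι ≫ G.hom) (Cop.ι ≫ G.hom)) := inferInstance
  let m : pullback (Dop.ι ≫ G.hom) (Cop.ι ≫ G.hom) ⟶ pullback G.hom G.hom :=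
    pullback.map (Dop.ι ≫ G.hom) (Cop.ι ≫ G.hom) G.hom G.hom Dop.ι Cop.ι (𝟙 _)
      (by rw [Category.comp_id]) (by rw [Category.comp_id])
  have hm : Set.range m.base =
      (pullback.fst G.hom G.hom).base ⁻¹' (connectedComponent d) ∩
      (pullback.snd G.hom G.hom).base ⁻¹' (connectedComponent (η[G].left.base pt)) := by
    have := Scheme.Pullback.range_map (f := Dop.ι ≫ G.hom) (g := Cop.ι ≫ G.hom) G.hom G.hom
      Dop.ι Cop.ι (𝟙 _) (by rw [Category.comp_id]) (by rw [Category.comp_id])
    rw [Scheme.Opens.range_ι, Scheme.Opens.range_ι] at this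
    exact this
  have hz0 : z0 ∈ Set.range m.base := by rw [hm]; exact ⟨h0D, h0C⟩
  have hz : z ∈ Set.range m.base := by rw [hm]; exact ⟨hzD, hzC⟩
  obtain ⟨p0, hp0⟩ := hz0
  obtain ⟨p, hp⟩ := hz
  have hconn : _root_.IsPreconnected (Set.range (m ≫ φ.left).base) :=
    isPreconnected_range (m ≫ φ.left).continuous
  have hmem : η[G].left.base pt ∈ Set.range (m ≫ φ.left).base := by
    refine ⟨p0, ?_⟩
    rw [Scheme.Hom.comp_apply]
    show φ.left.base (m.base p0) = _
    rw [hp0, h0]
  have hsub := hconn.subset_connectedComponent hmem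
  apply hsub
  refine ⟨p, ?_⟩
  rw [Scheme.Hom.comp_apply]
  show φ.left.base (m.base p) = _
  rw [hp]

omit [LocallyOfFiniteType G.hom] in
lemma one_eq_eta : (1 : 𝟙_ (Over (Spec (CommRingCat.of A))) ⟶ G) = η[G] := by
  rw [Hom.one_def]
  have : toUnit (𝟙_ (Over (Spec (CommRingCat.of A)))) = 𝟙 _ := toUnit_unique _ _
  rw [this, Category.id_comp]

end

theorem result' (A : Type u) [CommRing A] [IsArtinianRing A] [IsLocalRing A]
    (G : Over (Spec (CommRingCat.of A))) [GrpObj G] [LocallyOfFiniteType G.hom]
    (pt : ↥(𝟙_ (Over (Spec (CommRingCat.of A)))).left) :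
    IsOpen (connectedComponent (η[G].left.base pt)) ∧
    (∀ (T : Over (Spec (CommRingCat.of A))) (g h : T ⟶ G),
      Set.range g.left.base ⊆ connectedComponent (η[G].left.base pt) →
      Set.range h.left.base ⊆ connectedComponent (η[G].left.base pt) →
      Set.range (g * h⁻¹).left.base ⊆ connectedComponent (η[G].left.base pt)) ∧
    ∀ (T : Over (Spec (CommRingCat.of A))) (g n : T ⟶ G),
      Set.range n.left.base ⊆ connectedComponent (η[G].left.base pt) →
      Set.range (g * n * g⁻¹).left.base ⊆ connectedComponent (η[G].left.base pt) := by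
  have hLN : IsLocallyNoetherian G.left := LocallyOfFiniteType.isLocallyNoetherian G.hom
  refine ⟨isOpen_connectedComponent_of_isLocallyNoetherian _ _, ?_, ?_⟩
  · intro T g h hg hh
    rintro _ ⟨t, rfl⟩
    let δ : G ⊗ G ⟶ G := fst G G * (snd G G)⁻¹
    have hδ : lift g h ≫ δ = g * h⁻¹ := by
      simp only [δ, MonObj.comp_mul, GrpObj.comp_inv, lift_fst, lift_snd]
    have hδ0 : lift η[G] η[G] ≫ δ = η[G] := by
      simp only [δ, MonObj.comp_mul, GrpObj.comp_inv, lift_fst, lift_snd]
      rw [← one_eq_eta A G]
      simp
    have hfst0 : (fst G G).left.base ((lift η[G] η[G]).left.base pt) = η[G].left.base pt := by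
      rw [← Scheme.Hom.comp_apply, ← Over.comp_left, lift_fst]
    have hsnd0 : (snd G G).left.base ((lift η[G] η[G]).left.base pt) = η[G].left.base pt := by
      rw [← Scheme.Hom.comp_apply, ← Over.comp_left, lift_snd]
    have hφ0 : δ.left.base ((lift η[G] η[G]).left.base pt) = η[G].left.base pt := by
      rw [← Scheme.Hom.comp_apply, ← Over.comp_left, hδ0]
    have hfst : (fst G G).left.base ((lift g h).left.base t) = g.left.base t := by
      rw [← Scheme.Hom.comp_apply, ← Over.comp_left, lift_fst]
    have hsnd : (snd G G).left.base ((lift g h).left.base t) = h.left.base t := by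
      rw [← Scheme.Hom.comp_apply, ← Over.comp_left, lift_snd]
    have := key A G pt (η[G].left.base pt) δ ((lift η[G] η[G]).left.base pt)
      (by rw [hfst0]; exact mem_connectedComponent) (by rw [hsnd0]; exact mem_connectedComponent)
      hφ0 ((lift g h).left.base t) (by rw [hfst]; exact hg ⟨t, rfl⟩)
      (by rw [hsnd]; exact hh ⟨t, rfl⟩)
    rw [← Scheme.Hom.comp_apply, ← Over.comp_left, hδ] at this
    exact this
  · intro T g n hn
    rintro _ ⟨t, rfl⟩
    let κ : G ⊗ G ⟶ G := fst G G * snd G G * (fst G G)⁻¹
    have hκ : lift g n ≫ κ = g * n * g⁻¹ := by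
      simp only [κ, MonObj.comp_mul, GrpObj.comp_inv, lift_fst, lift_snd]
    let s0 : G ⟶ G ⊗ G := lift (𝟙 G) (toUnit G ≫ η[G])
    have hκ0 : s0 ≫ κ = toUnit G ≫ η[G] := by
      simp only [s0, κ, MonObj.comp_mul, GrpObj.comp_inv, lift_fst, lift_snd]
      rw [← Hom.one_def]
      simp
    set d := g.left.base t with hd
    have hfst0 : (fst G G).left.base (s0.left.base d) = d := by
      rw [← Scheme.Hom.comp_apply, ← Over.comp_left, lift_fst]
      rfl
    have hsnd0 : (snd G G).left.base (s0.left.base d) = η[G].left.base pt := by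
      rw [← Scheme.Hom.comp_apply, ← Over.comp_left, lift_snd, Over.comp_left,
        Scheme.Hom.comp_apply]
      exact eta_eq A G _ _
    have hφ0 : κ.left.base (s0.left.base d) = η[G].left.base pt := by
      rw [← Scheme.Hom.comp_apply, ← Over.comp_left, hκ0, Over.comp_left, Scheme.Hom.comp_apply]
      exact eta_eq A G _ _
    have hfst : (fst G G).left.base ((lift g n).left.base t) = d := by
      rw [← Scheme.Hom.comp_apply, ← Over.comp_left, lift_fst]
    have hsnd : (snd G G).left.base ((lift g n).left.base t) = n.left.base t := by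
      rw [← Scheme.Hom.comp_apply, ← Over.comp_left, lift_snd]
    have := key A G pt d κ (s0.left.base d)
      (by rw [hfst0]; exact mem_connectedComponent) (by rw [hsnd0]; exact mem_connectedComponent)
      hφ0 ((lift g n).left.base t) (by rw [hfst]; exact mem_connectedComponent)
      (by rw [hsnd]; exact hn ⟨t, rfl⟩)
    rw [← Scheme.Hom.comp_apply, ← Over.comp_left, hκ] at this
    exact this

/-- Let A be a local artinian ring and G an A-group scheme locally of finite type, and let G⁰ be the
connected component of the unit point. Then G⁰ is open in G; it is stable under the group law: for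
every A-scheme T and all points g, h : T → G whose images lie in G⁰, the image of g h⁻¹ lies in G⁰
(so G⁰ carries an open subgroup scheme, the neutral component); and it is normal: for every A-scheme
T, every point g : T → G and every point n : T → G whose image lies in G⁰, the image of g n g⁻¹ lies
in G⁰. -/
theorem result (A : Type u) [CommRing A] [IsArtinianRing A] [IsLocalRing A] (G : Over (Spec (CommRingCat.of A))) [GrpObj G] [LocallyOfFiniteType G.hom]
    (pt : ↥(𝟙_ (Over (Spec (CommRingCat.of A)))).left) :
    IsOpen (connectedComponent (η[G].left.base pt)) ∧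
    (∀ (T : Over (Spec (CommRingCat.of A))) (g h : T ⟶ G), Set.range g.left.base ⊆ connectedComponent (η[G].left.base pt) →
      Set.range h.left.base ⊆ connectedComponent (η[G].left.base pt) →
      Set.range (g * h⁻¹).left.base ⊆ connectedComponent (η[G].left.base pt)) ∧
    ∀ (T : Over (Spec (CommRingCat.of A))) (g n : T ⟶ G), Set.range n.left.base ⊆ connectedComponent (η[G].left.base pt) →
      Set.range (g * n * g⁻¹).left.base ⊆ connectedComponent (η[G].left.base pt) := by
  exact result' A G pt

end Groth.Agent.S5344
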