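import Groth.Statements.S5354
import Mathlib

set_option autoImplicit false
universe u
open CategoryTheory CategoryTheory.Limits MonoidalCategory CartesianMonoidalCategory MonObj GrpObj AlgebraicGeometry
open SGA3

namespace Groth.Agent.S5354

open Limits

section
variable {C : Type*} [Category C] [CartesianMonoidalCategory C]

lemma comp_mu {G T : C} [GrpObj G] (f : T ⟶ G ⊗ G) : f ≫ μ[G] = (f ≫ fst G G) * (f ≫ snd G G) := by
  rw [Hom.mul_def, ← comp_lift_assoc, lift_fst_snd, Category.id_comp]

lemma lift_mu {G T : C} [GrpObj G] (a b : T ⟶ G) : lift a b ≫ μ[G] = a * b := by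
  rw [Hom.mul_def]

lemma sq1 (G : C) [GrpObj G] : IsPullback μ[G] (fst G G) (toUnit G) (toUnit G) := by
  refine ⟨⟨toUnit_unique _ _⟩, ⟨PullbackCone.IsLimit.mk _
    (fun s => lift s.snd (s.snd⁻¹ * s.fst)) ?_ ?_ ?_⟩⟩
  · intro s
    rw [lift_mu, mul_inv_cancel_left]
  · intro s
    rw [lift_fst]
  · intro s m h1 h2
    apply CartesianMonoidalCategory.hom_ext
    · rw [lift_fst, h2]
    · rw [lift_snd, ← h1, ← h2, comp_mu, inv_mul_cancel_left]

lemma sq2 (G : C) [GrpObj G] : IsPullback μ[G] (snd G G) (toUnit G) (toUnit G) := by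
  refine ⟨⟨toUnit_unique _ _⟩, ⟨PullbackCone.IsLimit.mk _
    (fun s => lift (s.fst * s.snd⁻¹) s.snd) ?_ ?_ ?_⟩⟩
  · intro s
    rw [lift_mu, inv_mul_cancel_right]
  · intro s
    rw [lift_snd]
  · intro s m h1 h2
    apply CartesianMonoidalCategory.hom_ext
    · rw [lift_fst, ← h1, ← h2, comp_mu, mul_inv_cancel_right]
    · rw [lift_snd, h2]

end

section Top
variable {X : Type*} [TopologicalSpace X] [QuasiSober X] [T0Space X]

omit [T0Space X] in
lemma closure_mem_irreducibleComponents_of_maximal (y : X) (hy : ∀ y', y' ⤳ y → y' = y) :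
    closure {y} ∈ irreducibleComponents X := by
  have hZ := irreducibleComponent_mem_irreducibleComponents y
  have hirr : IsIrreducible (irreducibleComponent y) := isIrreducible_irreducibleComponent
  have hcl : IsClosed (irreducibleComponent y) := isClosed_irreducibleComponent
  obtain ⟨e0, he0⟩ := QuasiSober.sober hirr hcl
  have h1 : e0 ⤳ y := by
    rw [specializes_iff_mem_closure, he0.def]
    exact mem_irreducibleComponent
  rw [← hy e0 h1, he0.def]
  exact hZ

lemma exists_maximal [Nonempty X] : ∃ ζ : X, ∀ ζ', ζ' ⤳ ζ → ζ' = ζ := by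
  obtain ⟨p⟩ := ‹Nonempty X›
  have hZ := irreducibleComponent_mem_irreducibleComponents p
  have hirr : IsIrreducible (irreducibleComponent p) := isIrreducible_irreducibleComponent
  have hcl : IsClosed (irreducibleComponent p) := isClosed_irreducibleComponent
  obtain ⟨ζ, hζ⟩ := QuasiSober.sober hirr hcl
  refine ⟨ζ, fun ζ' h => ?_⟩
  have h1 : closure {ζ} ⊆ closure {ζ'} := by
    rw [specializes_iff_closure_subset] at h; exact h
  have h2 : IsIrreducible (closure ({ζ'} : Set X)) := isIrreducible_singleton.closure
  have h3 : closure {ζ'} ⊆ irreducibleComponent p := by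
    have := hZ.2 h2 (by rw [← hζ.def]; exact h1)
    exact this
  have h4 : ζ ⤳ ζ' := by
    rw [specializes_iff_mem_closure, hζ.def]
    exact h3 (subset_closure rfl)
  exact (h.antisymm h4).eq

end Top

theorem result' (k : Type u) [Field k] (G : Over (Spec (CommRingCat.of k))) [GrpObj G] (x : G.left) :
    ∃ z : ↥(G ⊗ G).left, μ[G].left.base z = x ∧
      closure {(fst G G).left.base z} ∈ irreducibleComponents ↥G.left ∧
      closure {(snd G G).left.base z} ∈ irreducibleComponents ↥G.left := by
  set t := G.left.fromSpecResidueField x with ht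
  have hrange : Set.range t.base = {x} := Scheme.range_fromSpecResidueField x
  have h1 : IsPullback μ[G].left (fst G G).left G.hom G.hom := by
    have := (sq1 G).map (Over.forget _)
    simpa using this
  have h2 : IsPullback μ[G].left (snd G G).left G.hom G.hom := by
    have := (sq2 G).map (Over.forget _)
    simpa using this
  have hP := (IsPullback.of_hasPullback μ[G].left t).flip
  have hflat : Flat (t ≫ G.hom) := inferInstance
  have hf1 : Flat (pullback.fst μ[G].left t ≫ (fst G G).left) :=
    MorphismProperty.of_isPullback (P := @Flat) (hP.paste_vert h1) hflat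
  have hf2 : Flat (pullback.fst μ[G].left t ≫ (snd G G).left) :=
    MorphismProperty.of_isPullback (P := @Flat) (hP.paste_vert h2) hflat
  have hne : Nonempty ↥(pullback μ[G].left t) := by
    let z0 : ↥(G ⊗ G).left := (lift (𝟙 G) (toUnit G ≫ η[G])).left.base x
    have hz0 : μ[G].left.base z0 = x := by
      have hh : (lift (𝟙 G) (toUnit G ≫ η[G])) ≫ μ[G] = 𝟙 G := by
        rw [lift_mu, ← Hom.one_def, _root_.mul_one]
      have : (lift (𝟙 G) (toUnit G ≫ η[G]) ≫ μ[G]).left.base x = x := by rw [hh]; rfl
      exact this
    have hpt : ∃ pt, t.base pt = x := by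
      have : x ∈ Set.range t.base := by
        rw [hrange]; rfl
      exact this
    obtain ⟨pt, hpt⟩ := hpt
    obtain ⟨w, -, -⟩ := Scheme.Pullback.exists_preimage_pullback z0 pt (hz0.trans hpt.symm)
    exact ⟨w⟩
  obtain ⟨ζ, hζ⟩ := exists_maximal (X := ↥(pullback μ[G].left t))
  refine ⟨(pullback.fst μ[G].left t).base ζ, ?_, ?_, ?_⟩
  · have hc := congrArg (fun f => f.base ζ) (pullback.condition (f := μ[G].left) (g := t))
    have hr : t.base ((pullback.snd μ[G].left t).base ζ) ∈ Set.range t.base := ⟨_, rfl⟩
    rw [hrange] at hr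
    have : μ[G].left.base ((pullback.fst μ[G].left t).base ζ) =
        t.base ((pullback.snd μ[G].left t).base ζ) := by simpa using hc
    rw [this]; exact hr
  · apply closure_mem_irreducibleComponents_of_maximal
    intro y' hy'
    obtain ⟨ζ', h', hh⟩ := (Flat.generalizingMap (pullback.fst μ[G].left t ≫ (fst G G).left)) hy'
    rw [← hh, hζ ζ' h']; rfl
  · apply closure_mem_irreducibleComponents_of_maximal
    intro y' hy'
    obtain ⟨ζ', h', hh⟩ := (Flat.generalizingMap (pullback.fst μ[G].left t ≫ (snd G G).left)) hy'
    rw [← hh, hζ ζ' h']; rfl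

/-- Let G be a group scheme over a field k (not assumed of finite type). For every point x of G there is
a point z of G ×_k G with product x whose two projections are maximal points of G (generic points of
irreducible components). -/
theorem result (k : Type u) [Field k] (G : Over (Spec (CommRingCat.of k))) [GrpObj G] (x : G.left) :
    ∃ z : ↥(G ⊗ G).left, μ[G].left.base z = x ∧
      closure {(fst G G).left.base z} ∈ irreducibleComponents ↥G.left ∧
      closure {(snd G G).left.base z} ∈ irreducibleComponents ↥G.left := by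
  exact result' k G x

end Groth.Agent.S5354
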