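import Groth.Statements.S5373
import Groth.Agent.S5372
import Groth.Agent.S12837
import Groth.Agent.S18510
import Mathlib

set_option autoImplicit false
universe u
open CategoryTheory CategoryTheory.Limits MonoidalCategory CartesianMonoidalCategory MonObj GrpObj AlgebraicGeometry
open SGA3

namespace Groth.Agent.S5373

open Limits

lemma diag_sq {C : Type*} [Category C] [CartesianMonoidalCategory C] [HasPullbacks C] {X Y : C}
    (p : X ⟶ Y) :
    IsPullback (pullback.fst p p ≫ p) (lift (pullback.fst p p) (pullback.snd p p))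
      (lift (𝟙 Y) (𝟙 Y)) (p ⊗ₘ p) := by
  refine ⟨⟨?_⟩, ⟨PullbackCone.IsLimit.mk _
    (fun s => pullback.lift (s.snd ≫ fst X X) (s.snd ≫ snd X X) ?_) ?_ ?_ ?_⟩⟩
  · apply CartesianMonoidalCategory.hom_ext
    · simp
    · simp [pullback.condition]
  · have h1 := congrArg (fun t => t ≫ fst Y Y) s.condition
    have h2 := congrArg (fun t => t ≫ snd Y Y) s.condition
    simp only [Category.assoc, lift_fst, lift_snd, tensorHom_fst, tensorHom_snd,
      Category.comp_id] at h1 h2
    rw [Category.assoc, Category.assoc, ← h1, ← h2]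
  · intro s
    have h1 := congrArg (fun t => t ≫ fst Y Y) s.condition
    simp only [Category.assoc, lift_fst, tensorHom_fst, Category.comp_id] at h1
    rw [pullback.lift_fst_assoc, Category.assoc, ← h1]
  · intro s
    apply CartesianMonoidalCategory.hom_ext
    · simp only [Category.assoc, lift_fst, pullback.lift_fst]
    · simp only [Category.assoc, lift_snd, pullback.lift_snd]
  · intro s m hm1 hm2
    apply pullback.hom_ext
    · rw [pullback.lift_fst, ← hm2, Category.assoc, lift_fst]
    · rw [pullback.lift_snd, ← hm2, Category.assoc, lift_snd]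

lemma prop_of_cover (P : MorphismProperty Scheme.{u}) [IsZariskiLocalAtTarget P]
    [P.IsStableUnderBaseChange] [P.DescendsAlong (@Surjective ⊓ @Flat ⊓ @QuasiCompact)]
    {A X Y : Scheme.{u}} (f : A ⟶ Y) (p : X ⟶ Y)
    (hloc : NonAbH1.IsLocallyTrivialFor Scheme.fpqcPrecoverage (Over.mk p : Over Y))
    (h : P (pullback.snd f p)) : P f := by
  obtain ⟨R, hR, hsec⟩ := hloc
  refine Groth.Agent.S12837.H5S12837.descends_fpqc (P := P) f R hR ?_
  intro S' g hg
  obtain ⟨s, hs⟩ := hsec g hg
  refine Groth.Agent.S12837.H5S12837.of_factor (P := P) f p h s (p₁ := pullback.fst f g) ?_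
  have hs' : s ≫ p = g := hs
  rw [hs']
  exact IsPullback.of_hasPullback f g

theorem result' (S : Scheme.{u}) (X Y : Over S) (p : X ⟶ Y) :
    letI v : (pullback p p) ⟶ X ⊗ X := lift (pullback.fst p p) (pullback.snd p p)
    IsImmersion v.left ∧ (IsSeparated Y.hom → IsClosedImmersion v.left) ∧
    ((∃ (Z : Scheme.{u}) (q : Z ⟶ Y.left) (r : Z ⟶ X.left), r ≫ p.left = q ∧ Surjective q ∧ Flat q ∧
        ∀ V : Y.left.Opens, IsAffineOpen V → ∃ W : Z.Opens, IsCompact (W : Set Z) ∧ q.base '' (W : Set Z) = (V : Set Y.left)) →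
      IsClosedImmersion v.left → IsSeparated Y.hom) := by
  have sq0 := diag_sq p
  set v : (pullback p p) ⟶ X ⊗ X := lift (pullback.fst p p) (pullback.snd p p) with hv_def
  have sq1 : IsPullback (pullback.fst p p ≫ p).left v.left (lift (𝟙 Y) (𝟙 Y)).left (p ⊗ₘ p).left :=
    sq0.map (Over.forget S)
  have hΔ : (lift (𝟙 Y) (𝟙 Y)).left = pullback.diagonal Y.hom := rfl
  rw [hΔ] at sq1
  refine ⟨?_, ?_, ?_⟩
  · exact MorphismProperty.of_isPullback (P := @IsImmersion) sq1 inferInstance
  · intro hsep
    exact MorphismProperty.of_isPullback (P := @IsClosedImmersion) sq1 inferInstance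
  · rintro ⟨Z, q, r, hr, hs, hf, hqc⟩ hv
    have hloc := Groth.Agent.S5372.loc_of_cov p.left q r hr hs hf hqc
    have hloc1 := Groth.Agent.S8718.H5S8718.loc_whiskerRight p Y hloc
    have hloc2 := Groth.Agent.S8718.H5S8718.loc_whiskerLeft p X hloc
    rw [IsSeparated.isSeparated_eq_diagonal_isClosedImmersion]
    show IsClosedImmersion (pullback.diagonal Y.hom)
    have hZ : IsZariskiLocalAtTarget (@IsClosedImmersion.{u}) := inferInstance
    refine prop_of_cover (P := @IsClosedImmersion) _ (p ▷ Y).left hloc1 ?_
    refine prop_of_cover (P := @IsClosedImmersion) _ (X ◁ p).left hloc2 ?_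
    have sqA := (IsPullback.of_hasPullback (pullback.snd (pullback.diagonal Y.hom) (p ▷ Y).left)
      (X ◁ p).left).flip
    have sqB := (IsPullback.of_hasPullback (pullback.diagonal Y.hom) (p ▷ Y).left).flip
    have sqC := (sqA.paste_vert sqB).flip
    have hcomp : (X ◁ p).left ≫ (p ▷ Y).left = (p ⊗ₘ p).left := by
      rw [tensorHom_def']; rfl
    rw [hcomp] at sqC
    have e := sq1.isoIsPullback_hom_snd _ _ sqC
    refine (MorphismProperty.cancel_left_of_respectsIso (P := @IsClosedImmersion)
      (sq1.isoIsPullback _ _ sqC).hom _).1 ?_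
    rw [e]
    exact hv

/-- Let p : X → Y be a morphism of S-schemes and v : X ×_Y X → X ×_S X the canonical monomorphism (the
graph of the effective equivalence relation defined by p). Then (i) v is an immersion, and a closed
immersion if Y is separated over S; (ii) if p is covering for the fpqc topology (some Z → Y which is
flat, surjective, with every affine open of Y the image of a quasi-compact open of Z, factors
through p), so that Y represents the quotient sheaf of X by this equivalence relation, and v is a
closed immersion, then Y is separated over S. -/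
theorem result (S : Scheme.{u}) (X Y : Over S) (p : X ⟶ Y) :
    letI v : (pullback p p) ⟶ X ⊗ X := lift (pullback.fst p p) (pullback.snd p p)
    IsImmersion v.left ∧ (IsSeparated Y.hom → IsClosedImmersion v.left) ∧
    ((∃ (Z : Scheme.{u}) (q : Z ⟶ Y.left) (r : Z ⟶ X.left), r ≫ p.left = q ∧ Surjective q ∧ Flat q ∧
        ∀ V : Y.left.Opens, IsAffineOpen V → ∃ W : Z.Opens, IsCompact (W : Set Z) ∧ q.base '' (W : Set Z) = (V : Set Y.left)) →
      IsClosedImmersion v.left → IsSeparated Y.hom) := by
  exact result' S X Y p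

end Groth.Agent.S5373
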