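import Groth.Statements.S5369
import Groth.Agent.S5373
import Groth.Agent.S18824
import Mathlib

set_option autoImplicit false
universe u
open CategoryTheory CategoryTheory.Limits MonoidalCategory CartesianMonoidalCategory MonObj GrpObj AlgebraicGeometry
open SGA3

namespace Groth.Agent.S5369

open Limits

section
variable {C : Type*} [Category C] [CartesianMonoidalCategory C]

lemma comp_mu {G T : C} [GrpObj G] (f : T ⟶ G ⊗ G) : f ≫ μ[G] = (f ≫ fst G G) * (f ≫ snd G G) := by
  rw [Hom.mul_def, ← comp_lift_assoc, lift_fst_snd, Category.id_comp]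

lemma mu_eq {G : C} [GrpObj G] : μ[G] = fst G G * snd G G := by
  have := comp_mu (𝟙 (G ⊗ G))
  simpa only [Category.id_comp] using this

/-- the shear `(g, k) ↦ (g k, g)` is an isomorphism -/
def shear (G : C) [GrpObj G] : G ⊗ G ≅ G ⊗ G where
  hom := lift μ[G] (fst G G)
  inv := lift (snd G G) ((snd G G)⁻¹ * fst G G)
  hom_inv_id := by
    apply CartesianMonoidalCategory.hom_ext
    · rw [Category.assoc, lift_fst, lift_snd, Category.id_comp]
    · rw [Category.assoc, lift_snd, Category.id_comp, MonObj.comp_mul, GrpObj.comp_inv, lift_snd,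
        lift_fst, mu_eq, inv_mul_cancel_left]
  inv_hom_id := by
    apply CartesianMonoidalCategory.hom_ext
    · rw [Category.assoc, lift_fst, Category.id_comp, comp_mu, lift_fst, lift_snd,
        mul_inv_cancel_left]
    · rw [Category.assoc, lift_snd, lift_fst, Category.id_comp]

lemma fibre_sq [HasPullbacks C] {G G' G'' : C} [GrpObj G] [GrpObj G'] (u : G' ⟶ G) [Mono u]
    (p : G ⟶ G'') (hsq : IsPullback ((G ◁ u) ≫ μ[G]) (fst G G') p p) :
    IsPullback u (toUnit G') p (η[G] ≫ p) := by
  have hw : u ≫ p = toUnit G' ≫ η[G] ≫ p := by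
    have := congrArg (fun t => lift (toUnit G' ≫ η[G]) (𝟙 G') ≫ t) hsq.w
    simp only [Category.assoc, lift_whiskerLeft_assoc, lift_fst_assoc, Category.id_comp] at this
    rw [← this, ← Category.assoc, ← Hom.mul_def, ← Hom.one_def, _root_.one_mul]
  refine ⟨⟨hw⟩, ⟨PullbackCone.IsLimit.mk _
    (fun s => hsq.lift s.fst (s.snd ≫ η[G]) (by rw [Category.assoc]; exact s.condition) ≫ snd G G')
    ?_ ?_ ?_⟩⟩
  · intro s
    have h1 := hsq.lift_fst s.fst (s.snd ≫ η[G]) (by rw [Category.assoc]; exact s.condition)
    have h2 := hsq.lift_snd s.fst (s.snd ≫ η[G]) (by rw [Category.assoc]; exact s.condition)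
    set l := hsq.lift s.fst (s.snd ≫ η[G]) (by rw [Category.assoc]; exact s.condition) with hl
    have h3 : l = lift (s.snd ≫ η[G]) (l ≫ snd G G') := by
      apply CartesianMonoidalCategory.hom_ext
      · rw [lift_fst, h2]
      · rw [lift_snd]
    rw [h3, lift_whiskerLeft_assoc, ← Hom.mul_def] at h1
    have h4 : s.snd ≫ η[G] = 1 := by
      rw [Hom.one_def]; congr 1; exact toUnit_unique _ _
    rw [h4, _root_.one_mul] at h1
    simpa only [Category.assoc] using h1
  · intro s
    exact toUnit_unique _ _
  · intro s m hm1 hm2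
    rw [← cancel_mono u, hm1]
    have h1 := hsq.lift_fst s.fst (s.snd ≫ η[G]) (by rw [Category.assoc]; exact s.condition)
    have h2 := hsq.lift_snd s.fst (s.snd ≫ η[G]) (by rw [Category.assoc]; exact s.condition)
    set l := hsq.lift s.fst (s.snd ≫ η[G]) (by rw [Category.assoc]; exact s.condition) with hl
    have h3 : l = lift (s.snd ≫ η[G]) (l ≫ snd G G') := by
      apply CartesianMonoidalCategory.hom_ext
      · rw [lift_fst, h2]
      · rw [lift_snd]
    rw [h3, lift_whiskerLeft_assoc, ← Hom.mul_def] at h1
    have h4 : s.snd ≫ η[G] = 1 := by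
      rw [Hom.one_def]; congr 1; exact toUnit_unique _ _
    rw [h4, _root_.one_mul] at h1
    simpa only [Category.assoc] using h1.symm

end

theorem result' (S : Scheme.{u}) (G G' G'' : Over S) [GrpObj G] [GrpObj G']
    (u : G' ⟶ G) [IsMonHom u] [Mono u] (p : G ⟶ G'')
    (hcov : (∃ (Z : Scheme.{u}) (q : Z ⟶ G''.left) (r : Z ⟶ G.left), r ≫ p.left = q ∧ Surjective q ∧ Flat q ∧
        ∀ V : G''.left.Opens, IsAffineOpen V → ∃ W : Z.Opens, IsCompact (W : Set Z) ∧ q.base '' (W : Set Z) = (V : Set G''.left)))
    (hsq : IsPullback ((G ◁ u) ≫ μ[G]) (fst G G') p p) :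
    IsPullback u (toUnit G') p (η[G] ≫ p) ∧ IsImmersion u.left ∧
    (IsSeparated G''.hom ↔ IsClosedImmersion u.left) ∧ (IsClosedImmersion u.left ↔ IsClosedImmersion (η[G] ≫ p).left) := by
  have hfib := fibre_sq u p hsq
  have sqL : IsPullback (toUnit G').left u.left (η[G] ≫ p).left p.left :=
    (hfib.map (Over.forget S)).flip
  have hsec : (η[G] ≫ p).left ≫ G''.hom = 𝟙 S := Over.w (η[G] ≫ p)
  have himm : IsImmersion (η[G] ≫ p).left := by
    have : IsImmersion ((η[G] ≫ p).left ≫ G''.hom) := by
      rw [hsec]; exact (inferInstance : IsImmersion (𝟙 S))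
    exact IsImmersion.of_comp _ G''.hom
  have h_eu : IsClosedImmersion (η[G] ≫ p).left → IsClosedImmersion u.left := fun h =>
    MorphismProperty.of_isPullback (P := @IsClosedImmersion) sqL h
  have h_se : IsSeparated G''.hom → IsClosedImmersion (η[G] ≫ p).left := fun h => by
    have : IsClosedImmersion ((η[G] ≫ p).left ≫ G''.hom) := by
      rw [hsec]; exact (inferInstance : IsClosedImmersion (𝟙 S))
    exact IsClosedImmersion.of_comp _ G''.hom
  have h_us : IsClosedImmersion u.left → IsSeparated G''.hom := fun hu => by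
    refine (Groth.Agent.S5373.result S G G'' p).2.2 hcov ?_
    have h1 : hsq.isoPullback.hom ≫ lift (pullback.fst p p) (pullback.snd p p) =
        (G ◁ u) ≫ (shear G).hom := by
      apply CartesianMonoidalCategory.hom_ext
      · simp [shear, hsq.isoPullback_hom_fst]
      · simp [shear, hsq.isoPullback_hom_snd]
    have h2 : IsClosedImmersion (G ◁ u).left :=
      MorphismProperty.of_isPullback (P := @IsClosedImmersion)
        ((Groth.Agent.S18824.isPullback_whiskerLeft_snd G u).map (Over.forget S)).flip hu
    have h3 : IsClosedImmersion ((G ◁ u) ≫ (shear G).hom).left := by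
      rw [Over.comp_left]
      have : IsIso (shear G).hom.left := (Over.forget S).map_isIso (shear G).hom
      infer_instance
    rw [← h1, Over.comp_left] at h3
    have : IsIso hsq.isoPullback.hom.left := (Over.forget S).map_isIso hsq.isoPullback.hom
    exact (MorphismProperty.cancel_left_of_respectsIso (P := @IsClosedImmersion)
      hsq.isoPullback.hom.left _).1 h3
  exact ⟨hfib, MorphismProperty.of_isPullback (P := @IsImmersion) sqL himm,
    ⟨fun h => h_eu (h_se h), h_us⟩, ⟨fun h => h_se (h_us h), h_eu⟩⟩

/-- Let u : G' → G be a monomorphism of S-group schemes and p : G → G'' a morphism of S-schemes which is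
covering for the fpqc topology (some Z → G'' which is flat, surjective, with every affine open of
G'' the image of a quasi-compact open of Z, factors through p) and such that the square (g, h) ↦
g·u(h), first projection G ×_S G' → G, p, p is cartesian, so that G'' represents the fpqc quotient
sheaf G/G'. Let ε'' be the composite of the unit section of G with p. Then the square formed by u,
the structure morphism G' → S, p and ε'' is cartesian; u is an immersion; and G'' is separated over
S if and only if u is a closed immersion, if and only if ε'' is a closed immersion. -/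
theorem result (S : Scheme.{u}) (G G' G'' : Over S) [GrpObj G] [GrpObj G']
    (u : G' ⟶ G) [IsMonHom u] [Mono u] (p : G ⟶ G'')
    (hcov : (∃ (Z : Scheme.{u}) (q : Z ⟶ G''.left) (r : Z ⟶ G.left), r ≫ p.left = q ∧ Surjective q ∧ Flat q ∧
        ∀ V : G''.left.Opens, IsAffineOpen V → ∃ W : Z.Opens, IsCompact (W : Set Z) ∧ q.base '' (W : Set Z) = (V : Set G''.left)))
    (hsq : IsPullback ((G ◁ u) ≫ μ[G]) (fst G G') p p) :
    IsPullback u (toUnit G') p (η[G] ≫ p) ∧ IsImmersion u.left ∧
    (IsSeparated G''.hom ↔ IsClosedImmersion u.left) ∧ (IsClosedImmersion u.left ↔ IsClosedImmersion (η[G] ≫ p).left) := by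
  exact result' S G G' G'' u p hcov hsq

end Groth.Agent.S5369
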