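import Groth.Statements.S5370
import Groth.Agent.S5372
import Groth.Agent.S12837
import Groth.Agent.S1128
import Mathlib

set_option autoImplicit false
universe u
open CategoryTheory CategoryTheory.Limits MonoidalCategory CartesianMonoidalCategory MonObj GrpObj AlgebraicGeometry
open SGA3

namespace Groth.Agent.S5370

open Limits

lemma flat_of_cover {X Y : Scheme.{u}} (p : X ⟶ Y)
    (hloc : NonAbH1.IsLocallyTrivialFor Scheme.fpqcPrecoverage (Over.mk p : Over Y))
    (h : Flat (pullback.snd p p)) : Flat p := by
  obtain ⟨R, hR, hsec⟩ := hloc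
  have : IsZariskiLocalAtTarget (@Flat.{u}) := HasRingHomProperty.instIsZariskiLocalAtTarget _
  refine Groth.Agent.S12837.H5S12837.descends_fpqc (P := @Flat) p R hR ?_
  intro S' g hg
  obtain ⟨s, hs⟩ := hsec g hg
  refine Groth.Agent.S12837.H5S12837.of_factor (P := @Flat) p p h s (p₁ := pullback.fst p g) ?_
  have hs' : s ≫ p = g := hs
  rw [hs']
  exact IsPullback.of_hasPullback p g

lemma reduced_of_cover {X Y Z : Scheme.{u}} (p : X ⟶ Y) (r : Z ⟶ X) [Flat (r ≫ p)]
    [Surjective (r ≫ p)] [IsReduced X] : IsReduced Y := by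
  have : ∀ y : Y, _root_.IsReduced (Y.presheaf.stalk y) := by
    intro y
    obtain ⟨z, rfl⟩ := (r ≫ p).surjective y
    have hflat : ((r ≫ p).stalkMap z).hom.Flat := Flat.stalkMap (r ≫ p) z
    rw [Scheme.Hom.stalkMap_comp] at hflat
    have hff : (p.stalkMap (r z) ≫ r.stalkMap z).hom.FaithfullyFlat := by
      algebraize [(p.stalkMap (r z) ≫ r.stalkMap z).hom]
      have : Module.Flat (Y.presheaf.stalk (p (r z))) (Z.presheaf.stalk z) :=
        (RingHom.flat_algebraMap_iff).1 hflat
      have : IsLocalHom (algebraMap (Y.presheaf.stalk (p (r z))) (Z.presheaf.stalk z)) :=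
        inferInstanceAs (IsLocalHom (p.stalkMap (r z) ≫ r.stalkMap z).hom)
      have : Module.FaithfullyFlat (Y.presheaf.stalk (p (r z))) (Z.presheaf.stalk z) :=
        Module.FaithfullyFlat.of_flat_of_isLocalHom
      exact (RingHom.faithfullyFlat_algebraMap_iff).2 this
    have hinj := hff.injective
    have hinj2 : Function.Injective (p.stalkMap (r z)).hom := by
      intro a b hab
      apply hinj
      simp only [CommRingCat.hom_comp, RingHom.coe_comp, Function.comp_apply]
      rw [hab]
    exact isReduced_of_injective (p.stalkMap (r z)).hom hinj2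
  exact isReduced_of_isReduced_stalk Y

theorem result' (S : Scheme.{u}) (G G' G'' : Over S) [GrpObj G] [GrpObj G']
    (u : G' ⟶ G) [IsMonHom u] [Mono u] (p : G ⟶ G'')
    (hcov : (∃ (Z : Scheme.{u}) (q : Z ⟶ G''.left) (r : Z ⟶ G.left), r ≫ p.left = q ∧ Surjective q ∧ Flat q ∧
        ∀ V : G''.left.Opens, IsAffineOpen V → ∃ W : Z.Opens, IsCompact (W : Set Z) ∧ q.base '' (W : Set Z) = (V : Set G''.left)))
    (hsq : IsPullback ((G ◁ u) ≫ μ[G]) (fst G G') p p) :
    (IsReduced G.left → IsReduced G''.left) ∧
    (Flat G'.hom ↔ Flat p.left) ∧ (Flat p.left → (Flat G''.hom ↔ Flat G.hom)) := by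
  obtain ⟨Z, q, r, hr, hs, hf, hqc⟩ := hcov
  have hloc := Groth.Agent.S5372.loc_of_cov p.left q r hr hs hf hqc
  subst hr
  have hsq' : IsPullback ((G ◁ u) ≫ μ[G]).left (fst G G').left p.left p.left :=
    hsq.map (Over.forget S)
  have hfst : (fst G G').left = pullback.fst G.hom G'.hom := rfl
  have hpsurj : Surjective p.left := Surjective.of_comp r p.left
  refine ⟨fun hred => reduced_of_cover p.left r, ⟨fun hG' => ?_, fun hp => ?_⟩, fun hp => ⟨fun hG'' => ?_, fun hG => ?_⟩⟩
  · -- Flat G' → Flat p
    have h1 : Flat (fst G G').left := by rw [hfst]; infer_instance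
    have h2 : Flat (pullback.snd p.left p.left) := by
      have e : hsq'.isoPullback.hom ≫ pullback.snd p.left p.left = (fst G G').left :=
        hsq'.isoPullback_hom_snd
      have e2 : pullback.snd p.left p.left = hsq'.isoPullback.inv ≫ (fst G G').left :=
        (Iso.eq_inv_comp _).2 e
      rw [e2]
      infer_instance
    exact flat_of_cover p.left hloc h2
  · -- Flat p → Flat G'
    have h1 : Flat (fst G G').left := MorphismProperty.of_isPullback (P := @Flat) hsq' hp
    rw [hfst] at h1
    have hη : η[G].left ≫ G.hom = 𝟙 S := Over.w η[G]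
    let j : G'.left ⟶ pullback G.hom G'.hom :=
      pullback.lift (G'.hom ≫ η[G].left) (𝟙 G'.left) (by rw [Category.assoc, hη]; simp)
    have big : IsPullback (j ≫ pullback.snd G.hom G'.hom) G'.hom G'.hom (η[G].left ≫ G.hom) := by
      have e1 : j ≫ pullback.snd G.hom G'.hom = 𝟙 _ := pullback.lift_snd _ _ _
      rw [e1, hη]
      exact IsPullback.of_id_fst
    have sq : IsPullback j G'.hom (pullback.fst G.hom G'.hom) η[G].left :=
      IsPullback.of_right (t := (IsPullback.of_hasPullback G.hom G'.hom).flip) big (pullback.lift_fst _ _ _)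
    exact MorphismProperty.of_isPullback (P := @Flat) sq h1
  · -- Flat G'' → Flat G
    have : G.hom = p.left ≫ G''.hom := (Over.w p).symm
    rw [this]
    infer_instance
  · -- Flat G → Flat G''
    have : Flat (p.left ≫ G''.hom) := by rw [Over.w p]; exact hG
    exact Groth.Agent.S1128.result p.left G''.hom

/-- Let u : G' → G be a monomorphism of S-group schemes and p : G → G'' a morphism of S-schemes which is
covering for the fpqc topology (some Z → G'' which is flat, surjective, with every affine open of
G'' the image of a quasi-compact open of Z, factors through p) and such that the square (g, h) ↦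
g·u(h), first projection G ×_S G' → G, p, p is cartesian, so that G'' represents the fpqc quotient
sheaf G/G'. Then: (ix) if G is reduced, G'' is reduced; (xi) G' is flat over S if and only if p is
flat, and in that case G'' is flat over S if and only if G is flat over S. -/
theorem result (S : Scheme.{u}) (G G' G'' : Over S) [GrpObj G] [GrpObj G']
    (u : G' ⟶ G) [IsMonHom u] [Mono u] (p : G ⟶ G'')
    (hcov : (∃ (Z : Scheme.{u}) (q : Z ⟶ G''.left) (r : Z ⟶ G.left), r ≫ p.left = q ∧ Surjective q ∧ Flat q ∧
        ∀ V : G''.left.Opens, IsAffineOpen V → ∃ W : Z.Opens, IsCompact (W : Set Z) ∧ q.base '' (W : Set Z) = (V : Set G''.left)))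
    (hsq : IsPullback ((G ◁ u) ≫ μ[G]) (fst G G') p p) :
    (IsReduced G.left → IsReduced G''.left) ∧
    (Flat G'.hom ↔ Flat p.left) ∧ (Flat p.left → (Flat G''.hom ↔ Flat G.hom)) := by
  exact result' S G G' G'' u p hcov hsq

end Groth.Agent.S5370
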