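import Groth.Statements.S5375
import Groth.Agent.Lib.helper12.Chevalley
import Groth.Agent.Lib.helper12.HopfAnti
import Groth.Agent.Lib.helper12.HopfAnti2

set_option autoImplicit false
universe u
open CategoryTheory CategoryTheory.Limits MonoidalCategory CartesianMonoidalCategory MonObj GrpObj AlgebraicGeometry
open SGA3

namespace Groth.Agent.S5375

/-- Let A be a commutative Hopf algebra over a field k (an affine k-group, not necessarily of finite
type) and x an element of A. Then there is a subalgebra B of A of finite type over k containing x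
which is a sub-Hopf-algebra: the comultiplication sends B into B ⊗ B and the antipode preserves B. -/
theorem result (k : Type u) [Field k] (A : Type u) [CommRing A] [HopfAlgebra k A] (x : A) :
    ∃ B : Subalgebra k A, x ∈ B ∧ B.FG ∧ SGA3.IsHopfSubalgebra k A B := by
  classical
  obtain ⟨W, hWfin, hxW, hW⟩ := Groth.Agent.H12Comod.exists_finite_subcomod (k := k) (C := A) (V := A) x
  have : Module.Free k W := Module.Free.of_divisionRing k W
  let b := Module.finBasis k W
  obtain ⟨c, hc, he⟩ := Groth.Agent.H12Chev.exists_isMult_of_subcomod W hW b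
  let gens : Set A := (Set.range fun p : Fin (Module.finrank k W) × Fin (Module.finrank k W) => c p.1 p.2) ∪
    (Set.range fun p : Fin (Module.finrank k W) × Fin (Module.finrank k W) =>
      HopfAlgebraStruct.antipode (R := k) (c p.1 p.2))
  let B : Subalgebra k A := Algebra.adjoin k gens
  have hcB : ∀ i j, c i j ∈ B := fun i j =>
    Algebra.subset_adjoin (Or.inl ⟨(i, j), rfl⟩)
  have hScB : ∀ i j, HopfAlgebraStruct.antipode (R := k) (c i j) ∈ B := fun i j =>
    Algebra.subset_adjoin (Or.inr ⟨(i, j), rfl⟩)
  refine ⟨B, ?_, ?_, ?_, ?_⟩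
  · -- x ∈ B
    have h1 : ∀ j, ((b j : W) : A) = ∑ l, CoalgebraStruct.counit (R := k) ((b l : W) : A) • c l j := by
      intro j
      have := Coalgebra.rTensor_counit_comul (R := k) ((b j : W) : A)
      rw [he, map_sum] at this
      simp only [LinearMap.rTensor_tmul] at this
      have h2 := congrArg (TensorProduct.lid k A) this
      rw [map_sum] at h2
      simp only [TensorProduct.lid_tmul, one_smul] at h2
      exact h2.symm
    have h2 : x = ∑ j, (b.repr ⟨x, hxW⟩ j) • ((b j : W) : A) := by
      have h3 := congrArg (fun y : W => (y : A)) (b.sum_repr ⟨x, hxW⟩)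
      simp only [AddSubmonoidClass.coe_finsetSum, Submodule.coe_smul] at h3
      exact h3.symm
    rw [h2]
    refine Subalgebra.sum_mem _ fun j _ => Subalgebra.smul_mem _ ?_ _
    rw [h1]
    exact Subalgebra.sum_mem _ fun l _ => Subalgebra.smul_mem _ (hcB l j) _
  · -- finitely generated
    exact Subalgebra.fg_def.2 ⟨gens, (Set.finite_range _).union (Set.finite_range _), rfl⟩
  · -- comultiplication
    let T : Subalgebra k A := (AlgHom.range (Algebra.TensorProduct.map B.val B.val)).comap
      (Bialgebra.comulAlgHom k A)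
    have hBT : B ≤ T := by
      apply Algebra.adjoin_le
      rintro _ (⟨⟨i, j⟩, rfl⟩ | ⟨⟨i, j⟩, rfl⟩)
      · show Bialgebra.comulAlgHom k A (c i j) ∈ AlgHom.range (Algebra.TensorProduct.map B.val B.val)
        rw [Bialgebra.comulAlgHom_apply, hc.comul]
        refine Subalgebra.sum_mem _ fun l _ => ?_
        exact ⟨(⟨c i l, hcB i l⟩ : B) ⊗ₜ[k] (⟨c l j, hcB l j⟩ : B), by simp⟩
      · show Bialgebra.comulAlgHom k A (HopfAlgebraStruct.antipode (R := k) (c i j)) ∈
          AlgHom.range (Algebra.TensorProduct.map B.val B.val)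
        rw [Bialgebra.comulAlgHom_apply]
        have := Groth.Agent.H12Hopf.comul_antipode (R := k) (c i j)
        rw [this, hc.comul, map_sum, map_sum]
        refine Subalgebra.sum_mem _ fun l _ => ?_
        refine ⟨(⟨HopfAlgebraStruct.antipode (R := k) (c l j), hScB l j⟩ : B) ⊗ₜ[k]
          (⟨HopfAlgebraStruct.antipode (R := k) (c i l), hScB i l⟩ : B), by simp⟩
    intro a ha
    obtain ⟨t, ht⟩ := hBT ha
    exact ⟨t, ht⟩
  · -- antipode
    let T : Subalgebra k A := B.comap (HopfAlgebra.antipodeAlgHom k A)
    have hBT : B ≤ T := by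
      apply Algebra.adjoin_le
      rintro _ (⟨⟨i, j⟩, rfl⟩ | ⟨⟨i, j⟩, rfl⟩)
      · exact hScB i j
      · show HopfAlgebra.antipodeAlgHom k A (HopfAlgebraStruct.antipode (R := k) (c i j)) ∈ B
        rw [HopfAlgebra.antipodeAlgHom_apply]
        have := Groth.Agent.H12Hopf.antipode_antipode (R := k) (c i j)
        rw [this]
        exact hcB i j
    intro a ha
    exact hBT ha

end Groth.Agent.S5375
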