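import Groth.Statements.S5376
import Groth.Agent.Lib.helper29.Orbit

set_option autoImplicit false
universe u
open CategoryTheory CategoryTheory.Limits MonoidalCategory CartesianMonoidalCategory MonObj GrpObj AlgebraicGeometry
open SGA3

namespace Groth.Agent.S5376

open Groth.Agent.Lib.helper28.ComodMod Groth.Agent.Lib.helper29.Orbit
open TensorProduct

theorem act_eq_op {k : Type u} [Field k] {A : Type u} [CommRing A] [HopfAlgebra k A]
    {V : Type u} [AddCommGroup V] [Module k V] [HopfRep.Comod k A V] (g : A →ₐ[k] k) (v : V) :
    HopfRep.Comod.act k A V g v = op g.toLinearMap v := rfl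

theorem op_op_point {k : Type u} [Field k] {A : Type u} [CommRing A] [HopfAlgebra k A]
    {V : Type u} [AddCommGroup V] [Module k V] [HopfRep.Comod k A V] (h g : A →ₐ[k] k) (v : V) :
    op h.toLinearMap (op g.toLinearMap v) = op (conv h g).toLinearMap v := by
  have h1 := Groth.Agent.H12Comod.coact_T_coact (k := k) (C := A) g.toLinearMap v
  have h1' : HopfRep.Comod.coact (k := k) (A := A) (op g.toLinearMap v) =
      (Groth.Agent.H12Comod.S g.toLinearMap).lTensor V (HopfRep.Comod.coact (k := k) (A := A) v) := h1
  rw [op_apply, h1', op_apply]
  generalize HopfRep.Comod.coact (k := k) (A := A) v = t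
  induction t using TensorProduct.induction_on with
  | zero => simp
  | tmul x c =>
    rw [LinearMap.lTensor_tmul, T_tmul, T_tmul]
    congr 1
    show h (Groth.Agent.H12Comod.T A g.toLinearMap (CoalgebraStruct.comul (R := k) c)) = conv h g c
    rw [conv_apply]
    generalize CoalgebraStruct.comul (R := k) c = s
    induction s using TensorProduct.induction_on with
    | zero => simp
    | tmul a b => simp [mul_comm]
    | add s t hs ht => simp only [map_add, hs, ht]
  | add x y hx hy => simp only [map_add, hx, hy]

theorem func_contract {k : Type u} [Field k] {A : Type u} [CommRing A] [HopfAlgebra k A]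
    {V : Type u} [AddCommGroup V] [Module k V] (ℓ : V →ₗ[k] k) (ψ : A →ₗ[k] k) (t : V ⊗[k] A) :
    ψ (TensorProduct.lid k A (ℓ.rTensor A t)) = ℓ (T V ψ t) := by
  induction t using TensorProduct.induction_on with
  | zero => simp
  | tmul x c => simp [mul_comm]
  | add x y hx hy => simp only [map_add, hx, hy]

/-- Let k be an algebraically closed field, A a finitely generated commutative Hopf algebra over k which
is reduced (a reduced affine algebraic k-group G), V a finite-dimensional A-comodule and v a vector
of V. Let E be the k-subspace of V spanned by the vectors g·v for g running over the k-points of G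
(algebra maps A → k). Then E is a subcomodule of V containing v, and it is the smallest one. -/
theorem result (k : Type u) [Field k] [IsAlgClosed k] (A : Type u) [CommRing A] [HopfAlgebra k A]
    [Algebra.FiniteType k A] [IsReduced A] (V : Type u) [AddCommGroup V] [Module k V] [HopfRep.Comod k A V]
    [Module.Finite k V] (v : V) :
    letI E : Submodule k V := Submodule.span k (Set.range fun g : A →ₐ[k] k => HopfRep.Comod.act k A V g v)
    HopfRep.IsSubcomod (k := k) (A := A) E ∧ v ∈ E ∧
      ∀ W : Submodule k V, HopfRep.IsSubcomod (k := k) (A := A) W → v ∈ W → E ≤ W := by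
  show HopfRep.IsSubcomod (k := k) (A := A)
      (Submodule.span k (Set.range fun g : A →ₐ[k] k => op g.toLinearMap v)) ∧
    v ∈ Submodule.span k (Set.range fun g : A →ₐ[k] k => op g.toLinearMap v) ∧
      ∀ W : Submodule k V, HopfRep.IsSubcomod (k := k) (A := A) W → v ∈ W →
        Submodule.span k (Set.range fun g : A →ₐ[k] k => op g.toLinearMap v) ≤ W
  refine ⟨?_, ?_, ?_⟩
  · rw [isSubcomod_iff]
    intro φ e he
    induction he using Submodule.span_induction with
    | mem e he =>
      obtain ⟨g, rfl⟩ := he
      by_contra hnot
      obtain ⟨ℓ, hℓ1, hℓ2⟩ := Submodule.exists_le_ker_of_notMem hnot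
      let a : A := TensorProduct.lid k A (ℓ.rTensor A
        (HopfRep.Comod.coact (k := k) (A := A) (op g.toLinearMap v)))
      have key : ∀ ψ : A →ₗ[k] k, ψ a = ℓ (op ψ (op g.toLinearMap v)) := by
        intro ψ
        exact func_contract ℓ ψ _
      have hpt : ∀ h : A →ₐ[k] k, h a = 0 := by
        intro h
        have := key h.toLinearMap
        rw [AlgHom.toLinearMap_apply] at this
        rw [this, op_op_point]
        apply hℓ2
        exact Submodule.subset_span ⟨conv h g, rfl⟩
      have hnil : IsNilpotent a := isNilpotent_of_forall_point (k := k) a hpt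
      have ha0 : a = 0 := hnil.eq_zero
      apply hℓ1
      rw [← key φ, ha0, map_zero]
    | zero => rw [map_zero]; exact Submodule.zero_mem _
    | add x y _ _ hx hy => rw [map_add]; exact Submodule.add_mem _ hx hy
    | smul c x _ hx => rw [map_smul]; exact Submodule.smul_mem _ _ hx
  · have h1 : op (Bialgebra.counitAlgHom k A).toLinearMap v ∈
        Submodule.span k (Set.range fun g : A →ₐ[k] k => op g.toLinearMap v) :=
      Submodule.subset_span ⟨Bialgebra.counitAlgHom k A, rfl⟩
    have h2 : op (Bialgebra.counitAlgHom k A).toLinearMap v = v := op_counit v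
    rwa [h2] at h1
  · intro W hW hv
    apply Submodule.span_le.mpr
    rintro _ ⟨g, rfl⟩
    exact (isSubcomod_iff W).mp hW g.toLinearMap v hv

end Groth.Agent.S5376
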