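import Groth.Statements.S5377
import Mathlib

set_option autoImplicit false
universe u
open CategoryTheory CategoryTheory.Limits MonoidalCategory CartesianMonoidalCategory MonObj GrpObj AlgebraicGeometry
open SGA3

namespace Groth.Agent.S5377

section Helpers

open CategoryTheory CategoryTheory.Limits

theorem fin_rep {J : Type*} [Nonempty J] {Y : Type*} (X : J → Type*) (c : ∀ j, X j → Y)
    (T : J → J → Type*) (tX : ∀ {j k}, T j k → X j → X k)
    (htc : ∀ {j k} (t : T j k) x, c k (tX t x) = c j x)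
    (hdir : ∀ j k, ∃ l, Nonempty (T j l) ∧ Nonempty (T k l))
    (hrep : ∀ y : Y, ∃ j x, c j x = y) :
    ∀ (l : ℕ) (f : Fin l → Y), ∃ j, ∃ f' : Fin l → X j, ∀ i, c j (f' i) = f i := by
  intro l
  induction l with
  | zero =>
    intro f
    exact ⟨Classical.arbitrary J, Fin.elim0, fun i => i.elim0⟩
  | succ l ih =>
    intro f
    obtain ⟨j1, f1, hf1⟩ := ih (Fin.tail f)
    obtain ⟨j2, y, hy⟩ := hrep (f 0)
    obtain ⟨k, ⟨t1⟩, ⟨t2⟩⟩ := hdir j1 j2
    refine ⟨k, Fin.cons (tX t2 y) (fun i => tX t1 (f1 i)), ?_⟩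
    intro i
    refine Fin.cases ?_ (fun i => ?_) i
    · rw [Fin.cons_zero, htc, hy]
    · rw [Fin.cons_succ, htc, hf1]
      rfl

theorem ff_of_directed {J : Type*} [Nonempty J] {Cc Ac : Type*} [CommRing Cc] [CommRing Ac]
    (Φ : Cc →+* Ac) (C A : J → Type*) [∀ j, CommRing (C j)] [∀ j, CommRing (A j)]
    (c : ∀ j, C j →+* Cc) (a : ∀ j, A j →+* Ac) (φ : ∀ j, C j →+* A j)
    (hφ : ∀ j, (φ j).FaithfullyFlat)
    (hsq : ∀ j x, Φ (c j x) = a j (φ j x))
    (T : J → J → Type*)
    (tC : ∀ {j k}, T j k → C j →+* C k) (tA : ∀ {j k}, T j k → A j →+* A k)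
    (htc : ∀ {j k} (t : T j k) x, c k (tC t x) = c j x)
    (hta : ∀ {j k} (t : T j k) x, a k (tA t x) = a j x)
    (htφ : ∀ {j k} (t : T j k) x, φ k (tC t x) = tA t (φ j x))
    (hdir : ∀ j k, ∃ l, Nonempty (T j l) ∧ Nonempty (T k l))
    (hCrep : ∀ x : Cc, ∃ j y, c j y = x) (hArep : ∀ x : Ac, ∃ j y, a j y = x)
    (hAeq : ∀ j (x y : A j), a j x = a j y → ∃ k, ∃ t : T j k, tA t x = tA t y) :
    Φ.FaithfullyFlat := by
  letI := Φ.toAlgebra
  have hflat : Module.Flat Cc Ac := by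
    apply Module.Flat.of_forall_isTrivialRelation
    intro l f x hfx
    obtain ⟨j1, f1, hf1⟩ := fin_rep C (fun j => c j) T (fun t => tC t) htc hdir hCrep l f
    obtain ⟨j2, x2, hx2⟩ := fin_rep A (fun j => a j) T (fun t => tA t) hta hdir hArep l x
    obtain ⟨j, ⟨t1⟩, ⟨t2⟩⟩ := hdir j1 j2
    have hsum : a j (∑ i, φ j (tC t1 (f1 i)) * tA t2 (x2 i)) = a j 0 := by
      rw [map_sum, map_zero, ← hfx]
      refine Finset.sum_congr rfl fun i _ => ?_
      rw [map_mul, ← hsq, htc, hf1, hta, hx2, Algebra.smul_def, RingHom.algebraMap_toAlgebra]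
    obtain ⟨k, t, ht⟩ := hAeq j _ _ hsum
    rw [map_zero, map_sum] at ht
    letI := (φ k).toAlgebra
    have hk : Module.Flat (C k) (A k) := (hφ k).toFlat
    have hrel : ∑ i, (tC t (tC t1 (f1 i))) • (tA t (tA t2 (x2 i))) = 0 := by
      rw [← ht]
      refine Finset.sum_congr rfl fun i _ => ?_
      rw [Algebra.smul_def, RingHom.algebraMap_toAlgebra, map_mul, htφ]
    obtain ⟨κ, a', y', hxy, hfa⟩ := Module.Flat.isTrivialRelation_of_sum_smul_eq_zero (R := C k) (M := A k)
      (f := fun i => tC t (tC t1 (f1 i))) (x := fun i => tA t (tA t2 (x2 i))) hrel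
    refine ⟨κ, fun i m => c k (a' i m), fun m => a k (y' m), ?_, ?_⟩
    · intro i
      have hxy' : tA t (tA t2 (x2 i)) = ∑ m, a' i m • y' m := hxy i
      rw [← hx2 i, ← hta t2, ← hta t, hxy', map_sum]
      refine Finset.sum_congr rfl fun m _ => ?_
      show a k (a' i m • y' m) = c k (a' i m) • a k (y' m)
      rw [Algebra.smul_def, RingHom.algebraMap_toAlgebra, Algebra.smul_def,
        RingHom.algebraMap_toAlgebra, map_mul, hsq]
    · intro m
      have hfa' : ∑ i, tC t (tC t1 (f1 i)) * a' i m = 0 := hfa m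
      have := congrArg (c k) hfa'
      rw [map_sum, map_zero] at this
      rw [← this]
      refine Finset.sum_congr rfl fun i _ => ?_
      show f i * c k (a' i m) = _
      rw [map_mul, htc, htc, hf1]
  show Module.FaithfullyFlat Cc Ac
  rw [Module.FaithfullyFlat.iff_flat_and_ideal_smul_eq_top]
  refine ⟨hflat, fun I hI => ?_⟩
  rw [Ideal.smul_top_eq_map] at hI
  have h1 : (1 : Ac) ∈ Ideal.map (algebraMap Cc Ac) I := by
    have : (1 : Ac) ∈ (Ideal.map (algebraMap Cc Ac) I).restrictScalars Cc := by rw [hI]; trivial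
    exact this
  have htrans : ∀ {j k} (t : T j k) (y : A j), y ∈ Ideal.map (φ j) (Ideal.comap (c j) I) →
      tA t y ∈ Ideal.map (φ k) (Ideal.comap (c k) I) := by
    intro j k t y hy
    have : Ideal.map (φ j) (Ideal.comap (c j) I) ≤
        Ideal.comap (tA t) (Ideal.map (φ k) (Ideal.comap (c k) I)) := by
      rw [Ideal.map_le_iff_le_comap]
      intro r hr
      rw [Ideal.mem_comap, Ideal.mem_comap, ← htφ]
      apply Ideal.mem_map_of_mem
      rw [Ideal.mem_comap, htc]
      exact hr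
    exact this hy
  have hP : ∀ x ∈ Ideal.map (algebraMap Cc Ac) I, ∃ k, ∃ y : A k, a k y = x ∧
      y ∈ Ideal.map (φ k) (Ideal.comap (c k) I) := by
    intro x hx
    refine Submodule.span_induction (p := fun x _ => ∃ k, ∃ y : A k, a k y = x ∧
      y ∈ Ideal.map (φ k) (Ideal.comap (c k) I)) ?_ ?_ ?_ ?_ hx
    · rintro _ ⟨r, hr, rfl⟩
      obtain ⟨j, r', rfl⟩ := hCrep r
      refine ⟨j, φ j r', ?_, Ideal.mem_map_of_mem _ hr⟩
      rw [RingHom.algebraMap_toAlgebra, hsq]
    · exact ⟨Classical.arbitrary J, 0, map_zero _, Ideal.zero_mem _⟩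
    · rintro x1 x2 _ _ ⟨k1, y1, rfl, hy1⟩ ⟨k2, y2, rfl, hy2⟩
      obtain ⟨k, ⟨t1⟩, ⟨t2⟩⟩ := hdir k1 k2
      refine ⟨k, tA t1 y1 + tA t2 y2, ?_, Ideal.add_mem _ (htrans t1 y1 hy1) (htrans t2 y2 hy2)⟩
      rw [map_add, hta, hta]
    · rintro b x _ ⟨k1, y1, rfl, hy1⟩
      obtain ⟨k2, b', rfl⟩ := hArep b
      obtain ⟨k, ⟨t1⟩, ⟨t2⟩⟩ := hdir k1 k2
      refine ⟨k, tA t2 b' * tA t1 y1, ?_, Ideal.mul_mem_left _ _ (htrans t1 y1 hy1)⟩
      rw [map_mul, hta, hta, smul_eq_mul]
  obtain ⟨k, y, hy1, hy⟩ := hP 1 h1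
  obtain ⟨k', t, ht⟩ := hAeq k y 1 (by rw [hy1, map_one])
  have h2 := htrans t y hy
  rw [ht, map_one] at h2
  letI := (φ k').toAlgebra
  have hk : Module.FaithfullyFlat (C k') (A k') := hφ k'
  have h3 := ((Module.FaithfullyFlat.iff_flat_and_ideal_smul_eq_top _ _).mp hk).2
    (Ideal.comap (c k') I) (by
      rw [Ideal.smul_top_eq_map, RingHom.algebraMap_toAlgebra, (Ideal.eq_top_iff_one _).mpr h2]
      rfl)
  have : (1 : C k') ∈ Ideal.comap (c k') I := by rw [h3]; trivial
  rw [Ideal.mem_comap, map_one] at this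
  exact (Ideal.eq_top_iff_one I).mpr this

theorem main (J : Type u) [SmallCategory J] [IsFiltered J] (C A : J ⥤ CommRingCat.{u}) (φ : C ⟶ A)
    (h : ∀ j : J, (φ.app j).hom.FaithfullyFlat) : (colimMap φ).hom.FaithfullyFlat := by
  haveI : Nonempty J := IsFiltered.nonempty
  refine ff_of_directed (colimMap φ).hom (fun j => C.obj j) (fun j => A.obj j)
    (fun j => (colimit.ι C j).hom) (fun j => (colimit.ι A j).hom) (fun j => (φ.app j).hom) h ?_
    (fun j k => (j ⟶ k)) (fun t => (C.map t).hom) (fun t => (A.map t).hom) ?_ ?_ ?_ ?_ ?_ ?_ ?_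
  · intro j x
    have := congrArg (fun f => f.hom x) (ι_colimMap φ j)
    simpa using this
  · intro j k t x
    have := congrArg (fun f => f.hom x) (colimit.w C t)
    simpa using this
  · intro j k t x
    have := congrArg (fun f => f.hom x) (colimit.w A t)
    simpa using this
  · intro j k t x
    have := congrArg (fun f => f.hom x) (φ.naturality t)
    simpa using this
  · intro j k
    exact ⟨IsFiltered.max j k, ⟨IsFiltered.leftToMax j k⟩, ⟨IsFiltered.rightToMax j k⟩⟩
  · intro x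
    exact Concrete.colimit_exists_rep C x
  · intro x
    exact Concrete.colimit_exists_rep A x
  · intro j x y hxy
    obtain ⟨k, f, g, hfg⟩ := Concrete.colimit_exists_of_rep_eq A x y hxy
    refine ⟨IsFiltered.coeq f g, f ≫ IsFiltered.coeqHom f g, ?_⟩
    have h1 : (A.map (f ≫ IsFiltered.coeqHom f g)).hom x =
        (A.map (IsFiltered.coeqHom f g)).hom ((A.map f).hom x) := by
      rw [A.map_comp]; rfl
    have h2 : (A.map (f ≫ IsFiltered.coeqHom f g)).hom y =
        (A.map (IsFiltered.coeqHom f g)).hom ((A.map g).hom y) := by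
      rw [IsFiltered.coeq_condition, A.map_comp]; rfl
    rw [h1, h2]
    exact congrArg _ hfg

end Helpers

/-- Let (C_i → A_i)_i be a filtered direct system of homomorphisms of commutative rings, each of which
is faithfully flat. Then the induced homomorphism colim C_i → colim A_i is faithfully flat. -/
theorem result (J : Type u) [SmallCategory J] [IsFiltered J]
    (C A : J ⥤ CommRingCat.{u}) (φ : C ⟶ A) (h : ∀ j : J, (φ.app j).hom.FaithfullyFlat) :
    (colimMap φ).hom.FaithfullyFlat := by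
  exact main J C A φ h

end Groth.Agent.S5377
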