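import Groth.Statements.S5380
-- import your own Groth.Agent.* helpers here
import Mathlib
import Groth.Agent.Lib.helper6.FlatCrit

set_option autoImplicit false
universe u
open CategoryTheory CategoryTheory.Limits MonoidalCategory CartesianMonoidalCategory MonObj GrpObj AlgebraicGeometry
open SGA3

namespace Groth.Agent.S5380

/-- Let R be a discrete valuation ring with uniformizer π, A a flat commutative R-algebra and M an
A-module which is flat over R. Suppose that M/πM is a flat module over A/πA and that M ⊗_R K is a
flat module over A ⊗_R K, K the fraction field of R (equivalently, M[1/π] is flat over A[1/π], the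
form used here). Then M is a flat A-module. -/
theorem result (R : Type u) [CommRing R] [IsDomain R] [IsDiscreteValuationRing R]
    (π : R) (hπ : Irreducible π) (A : Type u) [CommRing A] [Algebra R A] [Module.Flat R A]
    (M : Type u) [AddCommGroup M] [Module A M] [Module R M] [IsScalarTower R A M] [Module.Flat R M]
    (h1 : Module.Flat (A ⧸ Ideal.span {algebraMap R A π}) (M ⧸ (Ideal.span {algebraMap R A π} • (⊤ : Submodule A M))))
    (h2 : Module.Flat (Localization.Away (algebraMap R A π)) (LocalizedModule (Submonoid.powers (algebraMap R A π)) M)) :
    Module.Flat A M := by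
  have hπ0 : π ≠ 0 := hπ.ne_zero
  have hR : IsSMulRegular R π := IsSMulRegular.of_ne_zero hπ0
  have hM0 : IsSMulRegular M π := IsSMulRegular.of_ne_zero hπ0
  have hπA : IsSMulRegular A (algebraMap R A π) := hR.of_flat
  have hπM : IsSMulRegular M (algebraMap R A π) := by
    intro a b h
    apply hM0
    simpa [algebraMap_smul] using h
  have h1' : Module.Flat (A ⧸ Ideal.span {algebraMap R A π})
      (TensorProduct A (A ⧸ Ideal.span {algebraMap R A π}) M) := by
    let e := TensorProduct.quotTensorEquivQuotSMul M (Ideal.span {algebraMap R A π})
    let e' := LinearEquiv.extendScalarsOfSurjective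
      (Ideal.Quotient.mk_surjective (I := Ideal.span {algebraMap R A π})) e
    exact Module.Flat.of_linearEquiv e'
  have h2' : Module.Flat (Localization.Away (algebraMap R A π))
      (TensorProduct A (Localization.Away (algebraMap R A π)) M) := by
    have hb := IsLocalizedModule.isBaseChange (Submonoid.powers (algebraMap R A π))
      (Localization.Away (algebraMap R A π))
      (LocalizedModule.mkLinearMap (Submonoid.powers (algebraMap R A π)) M)
    exact Module.Flat.of_linearEquiv hb.equiv
  exact Groth.Agent.Lib.helper6.FlatCrit.flat_of_three (algebraMap R A π) (ModuleCat.of A M)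
    hπA hπM h1' h2'

end Groth.Agent.S5380
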