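import Groth.Statements.S5381
import Mathlib

set_option autoImplicit false
universe u
open CategoryTheory CategoryTheory.Limits MonoidalCategory CartesianMonoidalCategory MonObj GrpObj AlgebraicGeometry
open SGA3

namespace Groth.Agent.S5381

/-- For S the spectrum of a Dedekind domain R: let X be a scheme which is flat, quasi-compact and
quasi-separated over R. Then the ring of global sections Γ(X, O_X) is a flat R-module. (The
published remark takes S locally noetherian and regular of dimension 1 and also observes, when S is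
local with closed point s and uniformizer π, that Γ(X, O_X)/πΓ(X, O_X) → Γ(X_s, O_{X_s}) is
injective; this row takes S the spectrum of a Dedekind domain and omits the injectivity.) -/
theorem result (R : Type u) [CommRing R] [IsDedekindDomain R]
    (X : Scheme.{u}) (f : X ⟶ Spec (CommRingCat.of R)) [Flat f] [QuasiCompact f] [QuasiSeparated f] :
    letI := ((Scheme.ΓSpecIso (CommRingCat.of R)).inv ≫ f.appTop).hom.toAlgebra
    Module.Flat R Γ(X, ⊤) := by
  let _ := ((Scheme.ΓSpecIso (CommRingCat.of R)).inv ≫ f.appTop).hom.toAlgebra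
  rw [IsDedekindDomain.flat_iff_torsion_eq_bot, Submodule.eq_bot_iff]
  intro s hs
  rw [Submodule.mem_torsion_iff] at hs
  obtain ⟨⟨r, hr⟩, hrs⟩ := hs
  have hrs' : ((Scheme.ΓSpecIso (CommRingCat.of R)).inv ≫ f.appTop).hom r * s = 0 := hrs
  -- locally zero
  refine X.IsSheaf.section_ext fun x hx => ?_
  obtain ⟨U, hU, hxU, -⟩ := exists_isAffineOpen_mem_and_subset (x := x) (U := ⊤) trivial
  refine ⟨U, le_top, hxU, ?_⟩
  rw [map_zero]
  have hflat : (f.appLE ⊤ U le_top).hom.Flat :=
    f.flat_appLE (isAffineOpen_top _) hU le_top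
  let ψ : R →+* Γ(X, U) :=
    ((Scheme.ΓSpecIso (CommRingCat.of R)).inv ≫ f.appLE ⊤ U le_top).hom
  have hψflat : ψ.Flat := by
    have h1 : ((Scheme.ΓSpecIso (CommRingCat.of R)).inv).hom.Flat :=
      RingHom.Flat.of_bijective
        (ConcreteCategory.bijective_of_isIso (Scheme.ΓSpecIso (CommRingCat.of R)).inv)
    exact RingHom.Flat.comp h1 hflat
  have hcomp : ψ r * (X.presheaf.map (homOfLE (le_top : U ≤ ⊤)).op).hom s = 0 := by
    have h2 := congrArg (X.presheaf.map (homOfLE (le_top : U ≤ ⊤)).op).hom hrs'
    rw [map_mul, map_zero] at h2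
    have h3 : (X.presheaf.map (homOfLE (le_top : U ≤ ⊤)).op).hom
        (((Scheme.ΓSpecIso (CommRingCat.of R)).inv ≫ f.appTop).hom r) = ψ r := by
      simp only [ψ, Scheme.Hom.appLE, CommRingCat.hom_comp, RingHom.coe_comp, Function.comp_apply]
      rfl
    rw [h3] at h2
    exact h2
  let _ := ψ.toAlgebra
  have : Module.Flat R Γ(X, U) := hψflat
  have hreg : IsSMulRegular Γ(X, U) r :=
    Module.Flat.isSMulRegular_of_nonZeroDivisors hr
  have : r • (X.presheaf.map (homOfLE (le_top : U ≤ ⊤)).op).hom s = r • (0 : Γ(X, U)) := by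
    rw [smul_zero]; exact hcomp
  exact hreg this
end Groth.Agent.S5381
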