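import Groth.Statements.S5387
import Mathlib

set_option autoImplicit false
universe u
open CategoryTheory CategoryTheory.Limits MonoidalCategory CartesianMonoidalCategory MonObj GrpObj AlgebraicGeometry
open SGA3

namespace Groth.Agent.S5387

/-- closed points of LFT schemes over alg. closed fields are rational -/
theorem exists_section_of_isClosed (k : Type u) [Field k] [IsAlgClosed k] {X : Scheme.{u}}
    (f : X ⟶ Spec (CommRingCat.of k)) [LocallyOfFiniteType f] (x : X) (hx : IsClosed ({x} : Set X)) :
    ∃ σ : Spec (CommRingCat.of k) ⟶ X, σ ≫ f = 𝟙 _ ∧ ∀ p, σ p = x := by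
  have hcl := isClosed_singleton_iff_isClosedImmersion.mp hx
  let c := X.fromSpecResidueField x ≫ f
  have hfin : IsFinite c :=
    (isFinite_iff_locallyOfFiniteType_of_jacobsonSpace (f := c)).mpr inferInstance
  obtain ⟨φ, hφ⟩ := Spec.map_surjective c
  rw [← hφ, IsFinite.SpecMap_iff] at hfin
  have hbij : Function.Bijective φ.hom := by
    let _ := φ.hom.toAlgebra
    have : Module.Finite k (X.residueField x) := hfin
    have : Algebra.IsIntegral k (X.residueField x) := Algebra.IsIntegral.of_finite _ _
    exact IsAlgClosed.algebraMap_bijective_of_isIntegral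
  have hiso : IsIso φ := (ConcreteCategory.isIso_iff_bijective φ).mpr hbij
  have hciso : IsIso c := by rw [← hφ]; infer_instance
  refine ⟨inv c ≫ X.fromSpecResidueField x, ?_, ?_⟩
  · rw [Category.assoc]
    exact IsIso.inv_hom_id c
  · intro p
    rw [Scheme.Hom.comp_apply]
    have : (X.fromSpecResidueField x) ((inv c) p) ∈ Set.range (X.fromSpecResidueField x) := ⟨_, rfl⟩
    rw [Scheme.range_fromSpecResidueField] at this
    exact this


/-- Let k be an algebraically closed field, G a group scheme locally of finite type over k and x a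
closed point of G. Then the local ring of G at x is isomorphic to the local ring of G at the unit
point (an isomorphism is induced by a translation; this row asserts the existence of an isomorphism
of rings). -/
theorem result (k : Type u) [Field k] [IsAlgClosed k] (G : Over (Spec (CommRingCat.of k))) [GrpObj G]
    [LocallyOfFiniteType G.hom] (pt : ↥(𝟙_ (Over (Spec (CommRingCat.of k)))).left) (x : G.left) (hx : IsClosed ({x} : Set G.left)) :
    Nonempty (G.left.presheaf.stalk (η[G].left.base pt) ≅ G.left.presheaf.stalk x) := by
  obtain ⟨σ, hσ, hσx⟩ := exists_section_of_isClosed k G.hom x hx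
  let σ' : 𝟙_ (Over (Spec (CommRingCat.of k))) ⟶ G := Over.homMk σ hσ
  let T : G ≅ G := GrpObj.mulRight σ'
  have hT : η[G] ≫ T.hom = σ' := by
    simp only [T, GrpObj.mulRight, comp_lift_assoc, Category.comp_id]
    rw [← Hom.mul_def, MonObj.one_eq_one, _root_.one_mul, ← Category.assoc,
      toUnit_unique ((1 : 𝟙_ (Over (Spec (CommRingCat.of k))) ⟶ G) ≫ toUnit G) (𝟙 _),
      Category.id_comp]
  have hTl : IsIso T.hom.left := inferInstance
  have hpt : T.hom.left (η[G].left pt) = x := by
    rw [← Scheme.Hom.comp_apply, ← Over.comp_left, hT]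
    exact hσx pt
  have e1 : G.left.presheaf.stalk (T.hom.left (η[G].left pt)) ≅
      G.left.presheaf.stalk (η[G].left pt) := asIso (T.hom.left.stalkMap (η[G].left pt))
  have e2 : G.left.presheaf.stalk (T.hom.left (η[G].left pt)) ≅ G.left.presheaf.stalk x :=
    eqToIso (by rw [hpt])
  exact ⟨e1.symm ≪≫ e2⟩

end Groth.Agent.S5387
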