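import Groth.Statements.S5388
import Mathlib
import Groth.Prelude.Def_Red
import Groth.Agent.S14588
import Groth.Agent.Lib.helper7.StalkBC
import Groth.Agent.Lib.helper7.GeomRed3
-- import your own Groth.Agent.* helpers here

set_option autoImplicit false
universe u
open CategoryTheory CategoryTheory.Limits MonoidalCategory CartesianMonoidalCategory MonObj GrpObj AlgebraicGeometry
open SGA3

namespace Groth.Agent.S5388

open CategoryTheory MonoidalCategory CartesianMonoidalCategory MonObj GrpObj AlgebraicGeometry CategoryTheory.Limits TensorProduct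

namespace H5S5388


theorem geomRed_of_perfect (k K A : Type u) [Field k] [Field K] [Algebra k K] [PerfectField K]
    [CommRing A] [Algebra k A] (h : _root_.IsReduced (K ⊗[k] A)) :
    Algebra.IsGeometricallyReduced k A := by
  rw [Algebra.isGeometricallyReduced_field_iff]
  obtain ⟨L, _, φK, φΩ, hcomp⟩ :=
    Groth.Agent.Lib.helper7.GeomRed3.exists_common_extension k K (AlgebraicClosure k)
  letI : Algebra K L := φK.toAlgebra
  letI : Algebra k L := (φK.comp (algebraMap k K)).toAlgebra
  haveI : IsScalarTower k K L := IsScalarTower.of_algebraMap_eq (fun _ => rfl)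
  haveI : Algebra.IsGeometricallyReduced K L :=
    Groth.Agent.Lib.helper7.GeomRed3.isGeometricallyReduced_of_perfectField K L
  haveI : _root_.IsReduced (L ⊗[K] (K ⊗[k] A)) :=
    Groth.Agent.Lib.helper7.GeomRed2.isReduced_tensorProduct (k := K) L (K ⊗[k] A)
  have e := Algebra.TensorProduct.cancelBaseChange k K L L A
  haveI : _root_.IsReduced (L ⊗[k] A) :=
    isReduced_of_injective e.symm.toAlgHom e.symm.injective
  let ψ : AlgebraicClosure k →ₐ[k] L :=
    { φΩ with commutes' := fun c => (RingHom.congr_fun hcomp c).symm }
  exact isReduced_of_injective (Algebra.TensorProduct.map ψ (AlgHom.id k A))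
    (Module.Flat.rTensor_preserves_injective_linearMap _ (RingHom.injective _))


theorem unit_bc_fst {S S' : Scheme.{u}} (g : S' ⟶ S) (G : Over S) [GrpObj G] :
    ∃ w : (𝟙_ (Over S')).left ⟶ (𝟙_ (Over S)).left,
      η[Red.bc g G].left ≫ pullback.fst G.hom g = w ≫ η[G].left := by
  have h1 : η[Red.bc g G] = Functor.LaxMonoidal.ε (Over.pullback g) ≫ (Over.pullback g).map η[G] :=
    rfl
  refine ⟨(Functor.LaxMonoidal.ε (Over.pullback g)).left ≫ pullback.fst _ _, ?_⟩
  rw [h1, Over.comp_left, Category.assoc, Category.assoc]
  congr 1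
  simp only [Over.pullback_map_left]
  exact pullback.lift_fst _ _ _

theorem main (k : Type u) [Field k] (G : Over (Spec (CommRingCat.of k))) [GrpObj G]
    [LocallyOfFiniteType G.hom] (pt : ↥(𝟙_ (Over (Spec (CommRingCat.of k)))).left) (K : Type u) [Field K] [Algebra k K] [PerfectField K] :
    letI := ((Scheme.ΓSpecIso (CommRingCat.of k)).inv ≫ G.hom.appTop ≫ G.left.presheaf.germ ⊤ (η[G].left.base pt) trivial).hom.toAlgebra
    _root_.IsReduced (TensorProduct k K (G.left.presheaf.stalk (η[G].left.base pt))) → Smooth G.hom := by
  intro hred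
  letI alg : Algebra k (G.left.presheaf.stalk (η[G].left.base pt)) :=
    ((Scheme.ΓSpecIso (CommRingCat.of k)).inv ≫ G.hom.appTop ≫
      G.left.presheaf.germ ⊤ (η[G].left.base pt) trivial).hom.toAlgebra
  haveI : Algebra.IsGeometricallyReduced k (G.left.presheaf.stalk (η[G].left.base pt)) :=
    geomRed_of_perfect k K _ hred
  have hφ : Spec.map (CommRingCat.ofHom (algebraMap k (G.left.presheaf.stalk (η[G].left.base pt)))) =
      G.left.fromSpecStalk (η[G].left.base pt) ≫ G.hom := by
    rw [Groth.Agent.Lib.helper7.StalkBC.fromSpecStalk_comp]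
  let t : ↥((𝟙_ (Over (Spec (CommRingCat.of (AlgebraicClosure k))))).left) :=
    IsLocalRing.closedPoint (AlgebraicClosure k)
  apply Groth.Agent.S14588.H5S14588.main k G t
  haveI : Subsingleton ↥((𝟙_ (Over (Spec (CommRingCat.of k)))).left) :=
    inferInstanceAs (Subsingleton (PrimeSpectrum k))
  refine Groth.Agent.Lib.helper7.StalkBC.isReduced_stalk_pullback G.hom (η[G].left.base pt) hφ
    (Spec.map (CommRingCat.ofHom (algebraMap k (AlgebraicClosure k)))) _ ?_
  obtain ⟨w, hw⟩ := unit_bc_fst (Spec.map (CommRingCat.ofHom (algebraMap k (AlgebraicClosure k)))) G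
  have h2 := congrArg (fun f => f.base t) hw
  simp only [Scheme.Hom.comp_base, TopCat.comp_app] at h2
  rw [Subsingleton.elim (w.base t) pt] at h2
  exact h2

end H5S5388

/-- Let G be a group scheme locally of finite type over a field k, e its unit point and K a perfect
extension field of k. If K ⊗_k O_{G,e} is a reduced ring, then G is smooth over k. (The published
statement is for a group flat and locally of finite type over a local artinian ring, with K the
perfect closure of the residue field; this row is the case of a base field, with K any perfect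
extension.) -/
theorem result (k : Type u) [Field k] (G : Over (Spec (CommRingCat.of k))) [GrpObj G]
    [LocallyOfFiniteType G.hom] (pt : ↥(𝟙_ (Over (Spec (CommRingCat.of k)))).left) (K : Type u) [Field K] [Algebra k K] [PerfectField K] :
    letI := ((Scheme.ΓSpecIso (CommRingCat.of k)).inv ≫ G.hom.appTop ≫ G.left.presheaf.germ ⊤ (η[G].left.base pt) trivial).hom.toAlgebra
    IsReduced (TensorProduct k K (G.left.presheaf.stalk (η[G].left.base pt))) → Smooth G.hom := by
  exact H5S5388.main k G pt K

end Groth.Agent.S5388
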