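import Groth.Statements.S5450
import Groth.Agent.Lib.helper8.RootD3

set_option autoImplicit false
open RootD

namespace Groth.Agent.S5450

/-- A positive root (relative to a system of simple roots Δ) is simple if and only if it is not the sum
of two positive roots. -/
theorem result {ι M N : Type*} [AddCommGroup M] [AddCommGroup N]
    (P : RootPairing ι ℤ M N) [Finite ι] (Δ : Set ι) (hΔ : RootD.IsSimpleSys P Δ)
    (k : ι) (hk : k ∈ RootD.posOf P Δ) :
    k ∈ Δ ↔ ¬ ∃ i j : ι, i ∈ RootD.posOf P Δ ∧ j ∈ RootD.posOf P Δ ∧ P.root k = P.root i + P.root j := by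
  obtain ⟨c, hc, -, hck⟩ := Groth.Agent.H8.RootD.exists_coef P hΔ k
  have h0 := (Groth.Agent.H8.RootD.mem_posOf_iff P hΔ k hc hck).mp hk
  constructor
  · rintro hkΔ ⟨i, j, hi, hj, hsum⟩
    obtain ⟨ci, hci, -, hcik⟩ := Groth.Agent.H8.RootD.exists_coef P hΔ i
    obtain ⟨cj, hcj, -, hcjk⟩ := Groth.Agent.H8.RootD.exists_coef P hΔ j
    have hi0 := (Groth.Agent.H8.RootD.mem_posOf_iff P hΔ i hci hcik).mp hi
    have hj0 := (Groth.Agent.H8.RootD.mem_posOf_iff P hΔ j hcj hcjk).mp hj
    have e : Groth.Agent.H8.RootD.lc P (Finsupp.single k 1) =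
        Groth.Agent.H8.RootD.lc P (ci + cj) := by
      rw [Groth.Agent.H8.RootD.lc_single, one_smul, hsum, Groth.Agent.H8.RootD.lc, map_add]
      exact (congrArg₂ (· + ·) hcik hcjk).symm
    have hu := Groth.Agent.H8.RootD.coef_unique P hΔ.linInd
      (Groth.Agent.H8.RootD.support_single_subset hkΔ 1)
      (Groth.Agent.H8.RootD.support_add_subset hci hcj) e
    have hval : ∀ a, (Finsupp.single k (1 : ℤ)) a = ci a + cj a := by
      intro a; rw [hu]; rfl
    have hk1 := hval k
    rw [Finsupp.single_eq_same] at hk1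
    have hik := hi0 k
    have hjk := hj0 k
    rcases (by omega : ci k = 0 ∨ cj k = 0) with hz | hz
    · apply Groth.Agent.H8.RootD.coef_ne_zero P hcik
      ext a
      by_cases ha : a = k
      · rw [ha, hz]; rfl
      · have := hval a
        rw [Finsupp.single_eq_of_ne ha] at this
        have h1 := hi0 a
        have h2 := hj0 a
        show ci a = 0
        omega
    · apply Groth.Agent.H8.RootD.coef_ne_zero P hcjk
      ext a
      by_cases ha : a = k
      · rw [ha, hz]; rfl
      · have := hval a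
        rw [Finsupp.single_eq_of_ne ha] at this
        have h1 := hi0 a
        have h2 := hj0 a
        show cj a = 0
        omega
  · intro hno
    by_contra hkΔ
    obtain ⟨i, hci, hpi⟩ := Groth.Agent.H8.RootD.exists_pos_coef_pos_pairing P hck h0
    have hiΔ : i ∈ Δ := hc (Finsupp.mem_support_iff.mpr (ne_of_gt hci))
    have hki : k ≠ i := fun h => hkΔ (h ▸ hiΔ)
    obtain ⟨j, hj⟩ := Groth.Agent.H8.RootD.sub_mem_of_pos P
      ((Groth.Agent.H8.RootD.pairing_pos_symm P).mp hpi) hki
    apply hno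
    refine ⟨j, i, ?_, Groth.Agent.H8.RootD.subset_posOf P hiΔ, by rw [hj]; abel⟩
    have hcj : Groth.Agent.H8.RootD.lc P (c - Finsupp.single i 1) = P.root j := by
      rw [hj, Groth.Agent.H8.RootD.lc, map_sub]
      show Groth.Agent.H8.RootD.lc P c - Groth.Agent.H8.RootD.lc P _ = _
      rw [hck, Groth.Agent.H8.RootD.lc_single, one_smul]
    apply (Groth.Agent.H8.RootD.mem_posOf_iff P hΔ j
      (Groth.Agent.H8.RootD.support_sub_subset hc
        (Groth.Agent.H8.RootD.support_single_subset hiΔ 1)) hcj).mpr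
    intro a
    rw [Finsupp.sub_apply]
    by_cases ha : a = i
    · rw [ha, Finsupp.single_eq_same]; omega
    · rw [Finsupp.single_eq_of_ne ha, sub_zero]; exact h0 a

end Groth.Agent.S5450
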