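import Groth.Statements.S5448
import Groth.Agent.Lib.helper8.RootD3

set_option autoImplicit false
open RootD

namespace Groth.Agent.S5448

/-- The elements of a system of simple roots (root-only sense) are indivisible, i.e. none of them is
twice a root. -/
theorem result {ι M N : Type*} [AddCommGroup M] [AddCommGroup N]
    (P : RootPairing ι ℤ M N) [Finite ι] (Δ : Set ι) (hΔ : RootD.IsSimpleSys P Δ)
    (i : ι) (hi : i ∈ Δ) : RootD.IsIndiv P i := by
  intro j hj
  obtain ⟨c, hc, -, hcj⟩ := Groth.Agent.H8.RootD.exists_coef P hΔ j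
  have h1 : Groth.Agent.H8.RootD.lc P ((2 : ℤ) • c) =
      Groth.Agent.H8.RootD.lc P (Finsupp.single i 1) := by
    rw [Groth.Agent.H8.RootD.lc_single, one_smul, ← hj, ← hcj]
    simp [Groth.Agent.H8.RootD.lc]
  have h2 := Groth.Agent.H8.RootD.coef_unique P hΔ.linInd
    (Groth.Agent.H8.RootD.support_smul_subset hc 2)
    (Groth.Agent.H8.RootD.support_single_subset hi 1) h1
  have h3 := DFunLike.congr_fun h2 i
  simp at h3
  omega

end Groth.Agent.S5448
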