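import Groth.Statements.S5489
import Groth.Agent.Lib.helper8.RootD2

set_option autoImplicit false
open RootD

namespace Groth.Agent.S5489

/-- If a root α, distinct from roots α_1, ..., α_n, is a non-negative rational combination of them, then
some α_l with non-zero coefficient has (α^v, α_l) > 0 and α - α_l a root. -/
theorem result {ι M N : Type*} [AddCommGroup M] [AddCommGroup N]
    (P : RootPairing ι ℤ M N) [Finite ι] {n : ℕ} (a : Fin n → ι) (m : Fin n → ℕ)
    (k : ι) (hne : ∀ l, a l ≠ k) (c : ℕ) (hc : 0 < c) (hk : c • P.root k = ∑ l, m l • P.root (a l)) :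
    ∃ l : Fin n, m l ≠ 0 ∧ 0 < P.pairing (a l) k ∧ P.root k - P.root (a l) ∈ Set.range P.root := by
  have h2 : (c : ℤ) * 2 = ∑ l, (m l : ℤ) * P.pairing (a l) k := by
    have := congrArg (fun x => P.toLinearMap x (P.coroot k)) hk
    simp only [map_nsmul, map_sum, LinearMap.smul_apply, LinearMap.sum_apply] at this
    have e2 : P.toLinearMap (P.root k) (P.coroot k) = 2 := P.pairing_same k
    rw [e2] at this
    simp only [nsmul_eq_mul] at this
    rw [this]
    rfl
  have hpos : 0 < ∑ l, (m l : ℤ) * P.pairing (a l) k := by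
    rw [← h2]; positivity
  obtain ⟨l, -, hl⟩ : ∃ l ∈ Finset.univ, 0 < (m l : ℤ) * P.pairing (a l) k := by
    by_contra hcon
    push Not at hcon
    exact absurd hpos (not_lt.mpr (Finset.sum_nonpos hcon))
  have hm : m l ≠ 0 := by
    rintro h0
    rw [h0] at hl
    simp at hl
  have hp : 0 < P.pairing (a l) k := by
    have hm' : (0 : ℤ) < m l := by exact_mod_cast Nat.pos_of_ne_zero hm
    exact (mul_pos_iff_of_pos_left hm').mp hl
  refine ⟨l, hm, hp, ?_⟩
  have hp' : 0 < P.pairing k (a l) := (Groth.Agent.H8.RootD.pairing_pos_symm P).mp hp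
  obtain ⟨j, hj⟩ := Groth.Agent.H8.RootD.sub_mem_of_pos P hp' (hne l).symm
  exact ⟨j, hj⟩

end Groth.Agent.S5489
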