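import Groth.Statements.S5451
import Groth.Agent.Lib.helper8.RootD8
import Groth.Agent.S5489

set_option autoImplicit false
open RootD

namespace Groth.Agent.S5451

/-- If a root is a positive integer combination of roots α_i, then it can be reached from 0 by
successively adding roots taken among the α_i in such a way that every partial sum is a root. -/
theorem result {ι M N : Type*} [AddCommGroup M] [AddCommGroup N]
    (P : RootPairing ι ℤ M N) [Finite ι] {n : ℕ} (a : Fin n → ι) (m : Fin n → ℕ)
    (hm : ∀ i, 0 < m i) (k : ι) (hk : P.root k = ∑ i, m i • P.root (a i)) :
    ∃ (l : ℕ) (b : Fin l → Fin n), 0 < l ∧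
      (∀ p : Fin l, ∃ j : ι, P.root j = ∑ q ∈ Finset.univ.filter (fun q : Fin l => q.val ≤ p.val), P.root (a (b q))) ∧
      P.root k = ∑ q, P.root (a (b q)) := by
  classical
  have key : ∀ (N : ℕ) (m : Fin n → ℕ), ∑ i, m i = N → ∀ k : ι,
      P.root k = ∑ i, m i • P.root (a i) →
      ∃ (l : ℕ) (b : Fin l → Fin n), 0 < l ∧
        (∀ p : Fin l, ∃ j : ι, P.root j =
          ∑ q ∈ Finset.univ.filter (fun q : Fin l => q.val ≤ p.val), P.root (a (b q))) ∧
        P.root k = ∑ q, P.root (a (b q)) := by
    intro N
    induction N with
    | zero =>
      intro m hm0 k hk
      exfalso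
      have : ∀ i, m i = 0 := by
        intro i
        have := (Finset.sum_eq_zero_iff_of_nonneg (fun i _ => Nat.zero_le (m i))).mp hm0 i
          (Finset.mem_univ i)
        exact this
      apply P.ne_zero k
      rw [hk]
      apply Finset.sum_eq_zero
      intro i _
      rw [this i, zero_smul]
    | succ N ih =>
      intro m hmN k hk
      by_cases hex : ∃ i, a i = k
      · obtain ⟨i, hi⟩ := hex
        refine ⟨1, fun _ => i, one_pos, ?_, ?_⟩
        · intro p
          refine ⟨k, ?_⟩
          have : Finset.univ.filter (fun q : Fin 1 => q.val ≤ p.val) = Finset.univ := by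
            ext q; simp
          rw [this]
          simp [hi]
        · simp [hi]
      · push Not at hex
        obtain ⟨i, hmi, -, k', hk'⟩ := Groth.Agent.S5489.result P a m k hex 1 one_pos
          (by rw [one_smul]; exact hk)
        -- new multiplicities
        have hm' : ∑ j, (Function.update m i (m i - 1)) j = N := by
          have h1 : ∑ j, (Function.update m i (m i - 1)) j + 1 = ∑ j, m j := by
            rw [← Finset.add_sum_erase _ _ (Finset.mem_univ i),
              ← Finset.add_sum_erase _ m (Finset.mem_univ i)]
            rw [Function.update_self]
            have : ∑ x ∈ Finset.univ.erase i, Function.update m i (m i - 1) x =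
                ∑ x ∈ Finset.univ.erase i, m x := by
              apply Finset.sum_congr rfl
              intro x hx
              rw [Function.update_of_ne (Finset.ne_of_mem_erase hx)]
            rw [this]
            omega
          omega
        have hk'sum : P.root k' = ∑ j, (Function.update m i (m i - 1)) j • P.root (a j) := by
          rw [hk', hk, ← Finset.add_sum_erase _ _ (Finset.mem_univ i),
            ← Finset.add_sum_erase _ (fun j => (Function.update m i (m i - 1)) j • P.root (a j))
              (Finset.mem_univ i)]
          simp only [Function.update_self]
          have : ∑ x ∈ Finset.univ.erase i, Function.update m i (m i - 1) x • P.root (a x) =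
              ∑ x ∈ Finset.univ.erase i, m x • P.root (a x) := by
            apply Finset.sum_congr rfl
            intro x hx
            rw [Function.update_of_ne (Finset.ne_of_mem_erase hx)]
          rw [this]
          have hmi' : m i = (m i - 1) + 1 := by omega
          conv_lhs => rw [hmi', add_smul, one_smul]
          abel
        obtain ⟨l', b', hl', hpart, htot⟩ := ih _ hm' k' hk'sum
        refine ⟨l' + 1, Fin.snoc b' i, Nat.succ_pos _, ?_, ?_⟩
        · intro p
          refine Fin.lastCases ?_ (fun p' => ?_) p
          · refine ⟨k, ?_⟩
            have : Finset.univ.filter (fun q : Fin (l' + 1) => q.val ≤ (Fin.last l').val) =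
                Finset.univ := by
              ext q; simp; omega
            rw [this, Fin.sum_univ_castSucc]
            simp only [Fin.snoc_castSucc, Fin.snoc_last]
            rw [← htot, hk']
            abel
          · obtain ⟨j, hj⟩ := hpart p'
            refine ⟨j, ?_⟩
            rw [hj, Finset.sum_filter, Finset.sum_filter, Fin.sum_univ_castSucc]
            simp only [Fin.snoc_castSucc, Fin.snoc_last, Fin.val_castSucc, Fin.val_last]
            have : ¬ (l' ≤ p'.val) := by omega
            rw [if_neg this, add_zero]
        · rw [Fin.sum_univ_castSucc]
          simp only [Fin.snoc_castSucc, Fin.snoc_last]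
          rw [← htot, hk']
          abel
  exact key _ m rfl k hk

end Groth.Agent.S5451
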