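import Groth.Statements.S5456
import Groth.Agent.Lib.helper8.RootD2

set_option autoImplicit false
open RootD

namespace Groth.Agent.S5456

/-- A set of roots is a system of positive roots if and only if it satisfies (P 1), (P 2) and is closed. -/
theorem result {ι M N : Type*} [AddCommGroup M] [AddCommGroup N]
    (P : RootPairing ι ℤ M N) [Finite ι] (S : Set ι) :
    RootD.IsPosSys P S ↔ ((∀ i ∈ S, P.reflectionPerm i i ∉ S) ∧ (∀ i : ι, i ∈ S ∨ P.reflectionPerm i i ∈ S) ∧
      RootD.IsClosedSub P S) := by
  constructor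
  · intro hS
    refine ⟨fun i hi => hS.disjoint hi, hS.cover, ?_⟩
    intro i j k hi hj hk
    apply hS.sat 1 one_pos
    rw [one_smul, hk]
    exact AddSubmonoid.add_mem _ (AddSubmonoid.subset_closure ⟨i, hi, rfl⟩)
      (AddSubmonoid.subset_closure ⟨j, hj, rfl⟩)
  · rintro ⟨hd, hcov, hc⟩
    refine ⟨fun i hi => hd i hi, hcov, ?_⟩
    intro k n hn hk
    by_contra hkS
    have hkS' : P.reflectionPerm k k ∈ S := (hcov k).resolve_left hkS
    obtain ⟨t, htS, hsum⟩ := Groth.Agent.H8.RootD.exists_multiset_of_mem_natSpan P hk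
    obtain ⟨m, rfl⟩ : ∃ m, n = m + 1 := ⟨n - 1, by omega⟩
    refine Groth.Agent.H8.RootD.no_zero_sum P hc hd (m + t.card)
      (Multiset.replicate (m + 1) (P.reflectionPerm k k) + t) ?_ ?_ ?_
    · rw [Multiset.card_add, Multiset.card_replicate]; omega
    · intro a ha
      rcases Multiset.mem_add.mp ha with h | h
      · rw [Multiset.eq_of_mem_replicate h]; exact hkS'
      · exact htS a h
    · rw [Multiset.map_add, Multiset.sum_add, hsum, Multiset.map_replicate,
        Multiset.sum_replicate, Groth.Agent.H8.RootD.root_neg]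
      simp

end Groth.Agent.S5456
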