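import Groth.Statements.S5457
import Groth.Agent.Lib.helper8.RootD2

set_option autoImplicit false
open RootD

namespace Groth.Agent.S5457

/-- Given a translation-invariant partial order (pulled back along an additive map to an ordered abelian
group) for which every root is > 0 or < 0, the roots > 0 form a system of positive roots. -/
theorem result {ι M N : Type*} [AddCommGroup M] [AddCommGroup N]
    (P : RootPairing ι ℤ M N) [Finite ι] {G : Type*} [AddCommGroup G] [PartialOrder G]
    [IsOrderedAddMonoid G] (φ : M →+ G) (hφ : ∀ i : ι, 0 < φ (P.root i) ∨ φ (P.root i) < 0) :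
    RootD.IsPosSys P {i : ι | 0 < φ (P.root i)} := by
  refine ⟨?_, ?_, ?_⟩
  · intro i hi hi'
    simp only [Set.mem_setOf_eq] at hi hi'
    rw [Groth.Agent.H8.RootD.root_neg, map_neg] at hi'
    have : φ (P.root i) < 0 := by simpa using hi'
    exact lt_asymm hi this
  · intro i
    rcases hφ i with h | h
    · exact Or.inl h
    · right
      simp only [Set.mem_setOf_eq]
      rw [Groth.Agent.H8.RootD.root_neg, map_neg]
      simpa using h
  · intro k n hn hk
    have hnonneg : ∀ x ∈ RootD.natSpan P {i : ι | 0 < φ (P.root i)}, 0 ≤ φ x := by
      intro x hx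
      induction hx using AddSubmonoid.closure_induction with
      | mem x hx =>
        obtain ⟨i, hi, rfl⟩ := hx
        exact le_of_lt hi
      | zero => simp
      | add x y _ _ hx hy =>
        rw [map_add]
        exact add_nonneg hx hy
    have h1 := hnonneg _ hk
    rw [map_nsmul] at h1
    rcases hφ k with h | h
    · exact h
    · exfalso
      have h2 : 0 < n • (-φ (P.root k)) := nsmul_pos (by simpa using h) (Nat.pos_iff_ne_zero.mp hn)
      rw [smul_neg] at h2
      have h3 : n • φ (P.root k) < 0 := by simpa using h2
      exact absurd h1 (not_le_of_gt h3)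

end Groth.Agent.S5457
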