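import Groth.Statements.S5467
import Groth.Agent.Lib.helper8.RootD3

set_option autoImplicit false
open RootD

namespace Groth.Agent.S5467

/-- For an indivisible positive non-simple root α there is a simple root β with (β^v, α) > 0 such that
s_β(α) is positive; its order relative to Δ is then smaller than that of α by (β^v, α). -/
theorem result {ι M N : Type*} [AddCommGroup M] [AddCommGroup N]
    (P : RootPairing ι ℤ M N) [Finite ι] (Δ : Set ι) (hΔ : RootD.IsSimpleSys P Δ)
    (k : ι) (hk : k ∈ RootD.posOf P Δ) (hkΔ : k ∉ Δ) (hind : RootD.IsIndiv P k) :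
    ∃ i ∈ Δ, 0 < P.pairing k i ∧ P.reflectionPerm i k ∈ RootD.posOf P Δ := by
  obtain ⟨c, hc, -, hck⟩ := Groth.Agent.H8.RootD.exists_coef P hΔ k
  have h0 := (Groth.Agent.H8.RootD.mem_posOf_iff P hΔ k hc hck).mp hk
  obtain ⟨i, hci, hpi⟩ := Groth.Agent.H8.RootD.exists_pos_coef_pos_pairing P hck h0
  have hiΔ : i ∈ Δ := hc (Finsupp.mem_support_iff.mpr (ne_of_gt hci))
  refine ⟨i, hiΔ, (Groth.Agent.H8.RootD.pairing_pos_symm P).mp hpi, ?_⟩
  apply Groth.Agent.H8.RootD.posOf_reflection_of_exists P hΔ hiΔ hc hck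
  by_contra hcon
  push Not at hcon
  have hcs : c = Finsupp.single i (c i) := by
    ext j
    by_cases hj : j = i
    · subst hj; simp
    · rw [Finsupp.single_eq_of_ne hj]
      exact le_antisymm (hcon j hj) (h0 j)
  have hk2 : P.root k = c i • P.root i := by
    rw [← hck, hcs, Groth.Agent.H8.RootD.lc_single]
    simp
  have h2 : c i * P.pairing i k = 2 := by
    have e := P.pairing_same k
    have e' : P.toLinearMap (P.root k) (P.coroot k) = 2 := e
    rw [hk2, map_smul, LinearMap.smul_apply, smul_eq_mul] at e'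
    exact e'
  have hci2 : c i = 1 ∨ c i = 2 := by
    have hdvd : c i ∣ 2 := Dvd.intro _ h2
    have hle : c i ≤ 2 := Int.le_of_dvd (by norm_num) hdvd
    have : c i ≠ 0 := ne_of_gt hci
    omega
  rcases hci2 with h1 | h1
  · rw [h1, one_smul] at hk2
    exact hkΔ (P.root.injective hk2 ▸ hiΔ)
  · rw [h1] at hk2
    exact hind i hk2.symm

end Groth.Agent.S5467
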