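import Groth.Statements.S5468
import Groth.Agent.Lib.helper8.RootD6

set_option autoImplicit false
open RootD

namespace Groth.Agent.S5468

/-- Two roots whose reflections are distinct and commute are orthogonal. -/
theorem result {ι M N : Type*} [AddCommGroup M] [AddCommGroup N]
    (P : RootPairing ι ℤ M N) [Finite ι] (i j : ι)
    (hne : P.reflection i ≠ P.reflection j) (hc : Commute (P.reflection i) (P.reflection j)) :
    P.IsOrthogonal i j := by
  by_cases hli : LinearIndependent ℤ ![P.root i, P.root j]
  · have h1 : P.reflection i (P.reflection j (P.root i)) =
        P.reflection j (P.reflection i (P.root i)) := by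
      have := congrArg (fun f => f (P.root i)) hc.eq
      simpa using this
    rw [P.reflection_apply_root, P.reflection_apply_self, map_sub, map_smul,
      P.reflection_apply_self, P.reflection_apply_root, map_neg, P.reflection_apply_root] at h1
    have h2 : (P.pairing i j * P.pairing j i) • P.root i + (-(2 * P.pairing i j)) • P.root j = 0 := by
      have : (P.pairing i j * P.pairing j i) • P.root i + (-(2 * P.pairing i j)) • P.root j =
          (-P.root i - P.pairing i j • (P.root j - P.pairing j i • P.root i)) -
            (-(P.root i - P.pairing i j • P.root j)) := by
        simp only [smul_sub, mul_smul, neg_smul, two_smul]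
        abel
      rw [this, h1, sub_self]
    have h3 := (LinearIndependent.pair_iff.mp hli) _ _ h2
    have hp : P.pairing i j = 0 := by omega
    exact ⟨hp, (P.pairing_eq_zero_iff' (i := i) (j := j)).mp hp⟩
  · exact absurd (Groth.Agent.H8.RootD.reflection_eq_of_not_li P hli).symm hne

end Groth.Agent.S5468
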