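import Groth.Statements.S5469
import Groth.Agent.Lib.helper8.RootD6

set_option autoImplicit false
open RootPairing
open scoped Pointwise
open RootD

namespace Groth.Agent.S5469

/-- Two non-orthogonal roots of equal length (for the canonical form ℓ(x) = Σ_{u ∈ R^v} (u, x)²) are
conjugate under the Weyl group. -/
theorem result {ι M N : Type*} [AddCommGroup M] [AddCommGroup N]
    (P : RootPairing ι ℤ M N) [Finite ι] [Fintype ι] (i j : ι) (hno : ¬ P.IsOrthogonal i j)
    (hl : P.RootForm (P.root i) (P.root i) = P.RootForm (P.root j) (P.root j)) :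
    ∃ g : P.Aut, g ∈ P.weylGroup ∧ g • i = j := by
  have : Module.IsReflexive ℤ M := .of_isPerfPair P.toLinearMap
  have : Module.IsReflexive ℤ N := .of_isPerfPair P.flip.toLinearMap
  have h1 : P.pairing j i * P.RootForm (P.root i) (P.root i) =
      P.pairing i j * P.RootForm (P.root j) (P.root j) :=
    P.toInvariantForm.pairing_mul_eq_pairing_mul_swap i j
  have hpos : 0 < P.RootForm (P.root j) (P.root j) :=
    P.rootForm_pos_of_ne_zero (Submodule.subset_span (Set.mem_range_self j)) (P.ne_zero j)
  rw [hl] at h1
  have hpq : P.pairing j i = P.pairing i j := mul_right_cancel₀ (ne_of_gt hpos) h1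
  have hij : P.pairing i j ≠ 0 := Groth.Agent.H8.RootD.pairing_ne_zero_of_not_orth P hno
  have hcw := P.coxeterWeightIn_mem_set_of_isCrystallographic i j
  have hcw' : P.coxeterWeightIn ℤ i j = P.pairing i j * P.pairing j i := by
    rw [RootPairing.coxeterWeightIn, Groth.Agent.H8.RootD.pairingIn_int,
      Groth.Agent.H8.RootD.pairingIn_int]
  rw [hcw', hpq] at hcw
  have hp : P.pairing i j = 1 ∨ P.pairing i j = -1 ∨ P.pairing i j = 2 ∨ P.pairing i j = -2 := by
    simp only [Set.mem_insert_iff, Set.mem_singleton_iff] at hcw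
    have hsq : P.pairing i j * P.pairing i j ≤ 4 := by
      rcases hcw with h | h | h | h | h <;> linarith
    have hle : P.pairing i j ≤ 2 := by nlinarith
    have hge : -2 ≤ P.pairing i j := by nlinarith
    generalize P.pairing i j = p at *
    interval_cases p <;> simp_all
  have hrefl : ∀ a : ι, Equiv.reflection P a ∈ P.weylGroup := P.reflection_mem_weylGroup
  rcases hp with hp | hp | hp | hp
  · -- p = 1 : g = s_j s_i s_j
    refine ⟨Equiv.reflection P j * Equiv.reflection P i * Equiv.reflection P j,
      Subgroup.mul_mem _ (Subgroup.mul_mem _ (hrefl j) (hrefl i)) (hrefl j), ?_⟩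
    apply P.root.injective
    rw [← Groth.Agent.H8.RootD.aut_smul_root, mul_smul, mul_smul, RootPairing.Equiv.reflection_smul,
      RootPairing.Equiv.reflection_smul, RootPairing.Equiv.reflection_smul]
    simp only [map_sub, map_neg, P.reflection_apply_self, P.reflection_apply_root, hp, hpq,
      one_smul]
    abel
  · -- p = -1 : g = s_i s_j
    refine ⟨Equiv.reflection P i * Equiv.reflection P j,
      Subgroup.mul_mem _ (hrefl i) (hrefl j), ?_⟩
    apply P.root.injective
    rw [← Groth.Agent.H8.RootD.aut_smul_root, mul_smul, RootPairing.Equiv.reflection_smul,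
      RootPairing.Equiv.reflection_smul]
    simp only [map_sub, map_neg, map_smul, P.reflection_apply_self, P.reflection_apply_root, hp,
      hpq, neg_smul, one_smul]
    abel
  · -- p = 2 : i = j
    refine ⟨1, Subgroup.one_mem _, ?_⟩
    rw [one_smul]
    exact (P.pairing_two_two_iff i j).mp ⟨hp, hpq ▸ hp⟩
  · -- p = -2 : j = -i
    refine ⟨Equiv.reflection P i, hrefl i, ?_⟩
    apply P.root.injective
    have := (P.pairing_neg_two_neg_two_iff i j).mp ⟨hp, hpq ▸ hp⟩
    show P.root (P.reflectionPerm i i) = _
    rw [Groth.Agent.H8.RootD.root_neg, this, neg_neg]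

end Groth.Agent.S5469
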