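import Groth.Statements.S5473
import Groth.Agent.Lib.helper8.RootD17

set_option autoImplicit false
open RootD

namespace Groth.Agent.S5473

/-- If a linear map f and its transpose g induce bijections from the roots of R' onto the roots of R and
from the coroots of R onto the coroots of R' respectively (a morphism of root data in the
two-bijection sense), then the two bijections correspond: the coroot of α' is g applied to the
coroot of f(α'). -/
theorem result {ι M N ι' M' N' : Type*} [AddCommGroup M] [AddCommGroup N] [AddCommGroup M'] [AddCommGroup N']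
    (P : RootPairing ι ℤ M N) (P' : RootPairing ι' ℤ M' N') [Finite ι] [Finite ι']
    (f : M' →ₗ[ℤ] M) (g : N →ₗ[ℤ] N') (hfg : ∀ (m' : M') (n : N), P.toLinearMap (f m') n = P'.toLinearMap m' (g n))
    (e : ι' ≃ ι) (he : ∀ i' : ι', f (P'.root i') = P.root (e i'))
    (e' : ι ≃ ι') (he' : ∀ i : ι, g (P.coroot i) = P'.coroot (e' i)) :
    ∀ i' : ι', g (P.coroot (e i')) = P'.coroot i' := by
  classical
  have : Fintype ι' := Fintype.ofFinite ι'
  -- σ = e' ∘ e
  have hpair : ∀ i' : ι', P'.pairing i' (e' (e i')) = 2 := by
    intro i'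
    show P'.toLinearMap (P'.root i') (P'.coroot (e' (e i'))) = 2
    rw [← he', ← hfg, he]
    exact P.pairing_same (e i')
  set L : ι' → ℤ := fun i' => P'.RootForm (P'.root i') (P'.root i') with hL
  have hle : ∀ i' : ι', L (e' (e i')) ≤ L i' := fun i' =>
    (Groth.Agent.H8.RootD.length_le_of_pairing_two P' (hpair i')).1
  have hsum : ∑ i' : ι', L ((e.trans e') i') = ∑ i' : ι', L i' :=
    Equiv.sum_comp (e.trans e') L
  have hzero : ∑ i' : ι', (L i' - L ((e.trans e') i')) = 0 := by
    rw [Finset.sum_sub_distrib, hsum, sub_self]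
  have hall := (Finset.sum_eq_zero_iff_of_nonneg
    (fun i' _ => sub_nonneg.mpr (hle i'))).mp hzero
  intro i'
  have h1 : L i' - L (e' (e i')) = 0 := hall i' (Finset.mem_univ _)
  have h2 : i' = e' (e i') :=
    (Groth.Agent.H8.RootD.length_le_of_pairing_two P' (hpair i')).2 (by linarith)
  rw [he', ← h2]

end Groth.Agent.S5473
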