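import Groth.Statements.S5479
import Groth.Agent.Lib.helper8.RootD14

set_option autoImplicit false
open RootPairing
open scoped Pointwise
open RootD

namespace Groth.Agent.S5479

/-- Aut(R) is the semidirect product of the Weyl group by the stabiliser E_Δ of a system of simple
roots: every automorphism is uniquely w · e with w ∈ W and e(Δ) = Δ. -/
theorem result {ι M N : Type*} [AddCommGroup M] [AddCommGroup N]
    (P : RootPairing ι ℤ M N) [Finite ι] (Δ : Set ι) (hΔ : RootD.IsSimpleSys P Δ) (u : P.Aut) :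
    ∃! w : P.weylGroup, (fun i : ι => ((w : P.Aut)⁻¹ * u) • i) '' Δ = Δ := by
  have hΔu := Groth.Agent.H8.RootD.IsSimpleSys.image P u hΔ
  obtain ⟨g, hg, hgΔ⟩ := Groth.Agent.H8.RootD.weyl_transitive_simpleSys P hΔu hΔ
  have hg' : (fun i : ι => (g * u) • i) '' Δ = Δ := by
    have : (fun i : ι => (g * u) • i) '' Δ = (fun i : ι => g • i) '' ((fun i : ι => u • i) '' Δ) := by
      rw [Set.image_image]
      simp only [mul_smul]
    exact this.trans hgΔ
  refine ⟨⟨g⁻¹, inv_mem hg⟩, ?_, ?_⟩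
  · show (fun i : ι => ((g⁻¹)⁻¹ * u) • i) '' Δ = Δ
    rw [inv_inv]
    exact hg'
  · intro w hw
    have hw' : (fun i : ι => ((w : P.Aut)⁻¹ * u) • i) '' Δ = Δ := hw
    have hmem : g * (w : P.Aut) ∈ Groth.Agent.H8.RootD.WΔ P Δ := by
      rw [Groth.Agent.H8.RootD.WΔ_eq_weylGroup P hΔ]
      exact mul_mem hg w.2
    have hstab : ∀ a ∈ Δ, (g * (w : P.Aut)) • a ∈ RootD.posOf P Δ := by
      intro a ha
      have ha' := ha
      rw [← hw'] at ha'
      obtain ⟨b, hb, rfl⟩ := ha'
      apply Groth.Agent.H8.RootD.subset_posOf P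
      have : (g * (w : P.Aut)) • (((w : P.Aut)⁻¹ * u) • b) = (g * u) • b := by
        rw [smul_smul]
        congr 1
        group
      rw [this]
      have h2 : (g * u) • b ∈ (fun i : ι => (g * u) • i) '' Δ := ⟨b, hb, rfl⟩
      rw [hg'] at h2
      exact h2
    have h1 := Groth.Agent.H8.RootD.stab_trivial P hΔ hmem hstab
    apply Subtype.ext
    show (w : P.Aut) = g⁻¹
    exact (eq_inv_of_mul_eq_one_right h1)

end Groth.Agent.S5479
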