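import Groth.Statements.S5487
import Mathlib

set_option autoImplicit false
open RootD

namespace Groth.Agent.S5487

/-- For non-orthogonal roots α, β one has ℓ(α) ℓ(α^v) = ℓ(β) ℓ(β^v), where ℓ is the canonical quadratic
form of the datum and of its dual. -/
theorem result {ι M N : Type*} [AddCommGroup M] [AddCommGroup N]
    (P : RootPairing ι ℤ M N) [Finite ι] [Fintype ι] (i j : ι) (h : ¬ P.IsOrthogonal i j) :
    P.RootForm (P.root i) (P.root i) * P.CorootForm (P.coroot i) (P.coroot i) =
      P.RootForm (P.root j) (P.root j) * P.CorootForm (P.coroot j) (P.coroot j) := by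
  have h1 : P.pairing j i * P.RootForm (P.root i) (P.root i) =
      P.pairing i j * P.RootForm (P.root j) (P.root j) :=
    P.toInvariantForm.pairing_mul_eq_pairing_mul_swap i j
  have h2 : P.pairing i j * P.CorootForm (P.coroot i) (P.coroot i) =
      P.pairing j i * P.CorootForm (P.coroot j) (P.coroot j) :=
    P.flip.toInvariantForm.pairing_mul_eq_pairing_mul_swap i j
  have hij : P.pairing i j ≠ 0 := by
    intro h0
    exact h ⟨h0, P.pairing_eq_zero_iff'.mp h0⟩
  have hji : P.pairing j i ≠ 0 := by
    intro h0
    exact h ⟨P.pairing_eq_zero_iff'.mp h0, h0⟩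
  have h3 : (P.pairing j i * P.pairing i j) *
      (P.RootForm (P.root i) (P.root i) * P.CorootForm (P.coroot i) (P.coroot i)) =
      (P.pairing j i * P.pairing i j) *
      (P.RootForm (P.root j) (P.root j) * P.CorootForm (P.coroot j) (P.coroot j)) := by
    calc _ = (P.pairing j i * P.RootForm (P.root i) (P.root i)) *
          (P.pairing i j * P.CorootForm (P.coroot i) (P.coroot i)) := by ring
      _ = (P.pairing i j * P.RootForm (P.root j) (P.root j)) *
          (P.pairing j i * P.CorootForm (P.coroot j) (P.coroot j)) := by rw [h1, h2]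
      _ = _ := by ring
  exact mul_left_cancel₀ (mul_ne_zero hji hij) h3

end Groth.Agent.S5487
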