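import Groth.Statements.S5488
import Groth.Agent.Lib.helper8.RootD5

set_option autoImplicit false
open RootPairing
open scoped Pointwise
open RootD

namespace Groth.Agent.S5488

/-- The reduced datum of indivisible roots has the same Weyl group: the reflections in indivisible roots
generate W. -/
theorem result {ι M N : Type*} [AddCommGroup M] [AddCommGroup N]
    (P : RootPairing ι ℤ M N) [Finite ι] :
    Subgroup.closure ((fun i : ι => Equiv.reflection P i) '' {i : ι | RootD.IsIndiv P i}) = P.weylGroup := by
  apply le_antisymm
  · apply (Subgroup.closure_le _).mpr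
    rintro _ ⟨i, -, rfl⟩
    exact P.reflection_mem_weylGroup i
  · apply (Subgroup.closure_le _).mpr
    rintro _ ⟨k, rfl⟩
    by_cases hk : RootD.IsIndiv P k
    · exact Subgroup.subset_closure ⟨k, hk, rfl⟩
    · unfold RootD.IsIndiv at hk
      push Not at hk
      obtain ⟨j, hj⟩ := hk
      show Equiv.reflection P k ∈ _
      rw [Groth.Agent.H8.RootD.reflection_eq_of_two_smul P hj]
      exact Subgroup.subset_closure ⟨j, Groth.Agent.H8.RootD.isIndiv_of_two_smul P hj, rfl⟩

end Groth.Agent.S5488
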