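import Groth.Statements.S5492
import Groth.Agent.Lib.helper8.RootD3

set_option autoImplicit false
open RootD

namespace Groth.Agent.S5492

/-- Off-diagonal entries of the Cartan matrix of a system of simple roots are non-positive: (α^v, β) ≤ 0
for distinct simple roots α, β. -/
theorem result {ι M N : Type*} [AddCommGroup M] [AddCommGroup N]
    (P : RootPairing ι ℤ M N) [Finite ι] (Δ : Set ι) (hΔ : RootD.IsSimpleSys P Δ) (i j : ι)
    (hi : i ∈ Δ) (hj : j ∈ Δ) (hij : i ≠ j) : P.pairing j i ≤ 0 := by
  by_contra hpos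
  push Not at hpos
  obtain ⟨k, hk⟩ := Groth.Agent.H8.RootD.sub_mem_of_pos P hpos (Ne.symm hij)
  obtain ⟨c, hc, hsign, hck⟩ := Groth.Agent.H8.RootD.exists_coef P hΔ k
  have h1 : Groth.Agent.H8.RootD.lc P c =
      Groth.Agent.H8.RootD.lc P (Finsupp.single j 1 - Finsupp.single i 1) := by
    rw [hck, hk, Groth.Agent.H8.RootD.lc, map_sub]
    show _ = Groth.Agent.H8.RootD.lc P _ - Groth.Agent.H8.RootD.lc P _
    rw [Groth.Agent.H8.RootD.lc_single, Groth.Agent.H8.RootD.lc_single, one_smul, one_smul]
  have h2 := Groth.Agent.H8.RootD.coef_unique P hΔ.linInd hc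
    (Groth.Agent.H8.RootD.support_sub_subset (Groth.Agent.H8.RootD.support_single_subset hj 1)
      (Groth.Agent.H8.RootD.support_single_subset hi 1)) h1
  have hcj : c j = 1 := by
    rw [h2]; simp [Finsupp.single_apply, hij]
  have hci : c i = -1 := by
    rw [h2]; simp [Finsupp.single_apply, Ne.symm hij]
  rcases hsign with h | h
  · have := h i; omega
  · have := h j; omega

end Groth.Agent.S5492
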