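import Groth.Statements.S5495
import Groth.Agent.Lib.helper8.RootD6

set_option autoImplicit false
open RootD

namespace Groth.Agent.S5495

/-- If α is an indivisible root and kα is a root for a rational k, then k is an integer. -/
theorem result {ι M N : Type*} [AddCommGroup M] [AddCommGroup N]
    (P : RootPairing ι ℤ M N) [Finite ι] (i j : ι) (hind : RootD.IsIndiv P i) (a b : ℤ) (hb : b ≠ 0)
    (h : b • P.root j = a • P.root i) : b ∣ a := by
  have hnli : ¬ LinearIndependent ℤ ![P.root i, P.root j] := by
    intro hli
    have := (LinearIndependent.pair_iff.mp hli) (-a) b (by rw [h, neg_smul]; abel)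
    exact hb this.2
  have : Module.IsReflexive ℤ M := .of_isPerfPair P.toLinearMap
  have hri : P.root i ≠ 0 := P.ne_zero i
  have key : ∀ c : ℤ, P.root j = c • P.root i → b ∣ a := by
    intro c hc
    rw [hc, smul_smul] at h
    have : (b * c - a) • P.root i = 0 := by rw [sub_smul, h, sub_self]
    have := (smul_eq_zero.mp this).resolve_right hri
    exact ⟨c, by omega⟩
  rcases Groth.Agent.H8.RootD.prop_cases P hnli with h1 | h1 | h1 | h1 | h1 | h1
  · exact key 1 (by rw [h1, one_smul])
  · exact key (-1) (by rw [h1, neg_smul, one_smul])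
  · exact key 2 h1
  · exact key (-2) (by rw [h1, neg_smul])
  · exact absurd h1 (hind j)
  · exfalso
    apply hind (P.reflectionPerm j j)
    rw [Groth.Agent.H8.RootD.root_neg, smul_neg, h1, neg_neg]

end Groth.Agent.S5495
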