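import Groth.Statements.S5499
import Groth.Agent.Lib.helper8.RootD20

set_option autoImplicit false
open RootD

namespace Groth.Agent.S5499

/-- For an irreducible datum, where long(α) = ℓ(α)/ℓ(α₀) with ℓ(α₀) minimal: there is a unique
homomorphism u : Γ_0(R) → M^v with u(α) = long(α) α^v for every root α. -/
theorem result {ι M N : Type*} [AddCommGroup M] [AddCommGroup N]
    (P : RootPairing ι ℤ M N) [Finite ι] [Fintype ι]
    (hirr : ∀ R' : Set ι, RootD.IsClosedSub P R' → RootD.IsSymmSub P R' → RootD.IsClosedSub P R'ᶜ →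
      RootD.IsSymmSub P R'ᶜ → R' = ∅ ∨ R' = Set.univ)
    (i₀ : ι) (hmin : ∀ i : ι, P.RootForm (P.root i₀) (P.root i₀) ≤ P.RootForm (P.root i) (P.root i)) :
    ∃! u : Submodule.span ℤ (Set.range P.root) →+ N, ∀ i : ι,
      u ⟨P.root i, Submodule.subset_span (Set.mem_range_self i)⟩ =
        (P.RootForm (P.root i) (P.root i) / P.RootForm (P.root i₀) (P.root i₀)) • P.coroot i := by
  obtain ⟨hneg, hadd⟩ := Groth.Agent.H8.RootD.normalized_coroot_additive P hirr i₀ hmin
  obtain ⟨φ, hφ⟩ := Groth.Agent.H8.RootD.exists_extension P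
    (fun i : ι => (P.RootForm (P.root i) (P.root i) / P.RootForm (P.root i₀) (P.root i₀)) •
      P.coroot i) hneg hadd
  refine ⟨φ, hφ, ?_⟩
  intro ψ hψ
  apply Groth.Agent.H8.RootD.extension_unique P
  intro i
  rw [hψ, hφ]

end Groth.Agent.S5499
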