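import Groth.Statements.S5508
import Groth.Agent.Lib.helper8.RootD5

set_option autoImplicit false
open RootPairing
open scoped Pointwise
open RootD

namespace Groth.Agent.S5508

/-- For an arbitrary (possibly non-reduced) root datum and a system of simple roots Δ in the root-only
sense: the simple reflections generate the Weyl group, and every indivisible root is conjugate under
the Weyl group to a simple root. -/
theorem result {ι M N : Type*} [AddCommGroup M] [AddCommGroup N]
    (P : RootPairing ι ℤ M N) [Finite ι] (Δ : Set ι) (hΔ : RootD.IsSimpleSys P Δ) :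
    Subgroup.closure ((fun i : ι => Equiv.reflection P i) '' Δ) = P.weylGroup ∧
      ∀ k : ι, RootD.IsIndiv P k → ∃ g : P.Aut, g ∈ P.weylGroup ∧ ∃ i ∈ Δ, g • i = k := by
  refine ⟨Groth.Agent.H8.RootD.WΔ_eq_weylGroup P hΔ, ?_⟩
  intro k hk
  obtain ⟨g, hg, i, hi, hgi⟩ := Groth.Agent.H8.RootD.conj_simple P hΔ hk
  refine ⟨g, ?_, i, hi, hgi⟩
  rw [← Groth.Agent.H8.RootD.WΔ_eq_weylGroup P hΔ]
  exact hg

end Groth.Agent.S5508
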