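import Groth.Statements.S5580
import Mathlib
import Groth.Agent.Lib.helper23.TF10

set_option autoImplicit false
open CategoryTheory CategoryTheory.Limits Opposite
universe u
open ToposFin

namespace Groth.Agent.S5580

/-- Quasi-compact and coherent cases: for the topos of sheaves of sets on a small site: let (X_i) be a
finite family of objects with coproduct X (given as a colimit cofan) and f : X -> Y a morphism with
components f_i : X_i -> Y. Then f is quasi-compact (resp. coherent) if and only if every f_i is. -/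
theorem result {C : Type u} [SmallCategory C] {J : GrothendieckTopology C}
    {Y : ToposFin.Sh J} {n : ℕ} (X : Fin n → ToposFin.Sh J) (c : Cofan X) (hc : IsColimit c)
    (f : c.pt ⟶ Y) :
    (ToposFin.IsQCHom f ↔ ∀ i, ToposFin.IsQCHom (c.inj i ≫ f)) ∧
    (ToposFin.IsCohHom f ↔ ∀ i, ToposFin.IsCohHom (c.inj i ≫ f)) := by
  have h1 := Lib.helper23.TF.isQCHom_cofan_desc_iff X c hc f
  have h2 := Lib.helper23.TF.isQSHom_cofan_desc_iff_fin X c hc f
  exact ⟨h1, ⟨fun h i => ⟨h1.1 h.1 i, h2.1 h.2 i⟩,
    fun h => ⟨h1.2 (fun i => (h i).1), h2.2 (fun i => (h i).2)⟩⟩⟩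

end Groth.Agent.S5580
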