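import Groth.Statements.S5585
import Mathlib
import Groth.Agent.Lib.helper23.TF6

set_option autoImplicit false
open CategoryTheory CategoryTheory.Limits Opposite
universe u
open ToposFin

namespace Groth.Agent.S5585

/-- For an algebraic topos of sheaves of sets on a small site and a morphism f : X -> Y: if Y is
quasi-separated (resp. coherent), then X is quasi-separated (resp. coherent) if and only if f is a
quasi-separated (resp. coherent) morphism. -/
theorem result {C : Type u} [SmallCategory C] {J : GrothendieckTopology C}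
    (hE : ToposFin.IsAlgebraic J) {X Y : ToposFin.Sh J} (f : X ⟶ Y) :
    (ToposFin.IsQS Y → (ToposFin.IsQS X ↔ ToposFin.IsQSHom f)) ∧
    (ToposFin.IsCoherent Y → (ToposFin.IsCoherent X ↔ ToposFin.IsCohHom f)) := by
  refine ⟨fun hY => ⟨fun hX => Lib.helper23.TF.isQSHom_of_isQS_of_isAlgebraic hE f hX,
    fun hf => Lib.helper23.TF.isQS_of_isQSHom f hf hY⟩,
    fun hY => ⟨fun hX => ⟨Lib.helper23.TF.isQCHom_of_isQS f hX.1 hY.2,
      Lib.helper23.TF.isQSHom_of_isQS_of_isAlgebraic hE f hX.2⟩,
    fun hf => ⟨Lib.helper23.TF.isQC_source hf.1 hY.1, Lib.helper23.TF.isQS_of_isQSHom f hf.2 hY.2⟩⟩⟩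

end Groth.Agent.S5585
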