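import Groth.Statements.S5586
import Mathlib
import Groth.Agent.Lib.helper23.TF6

set_option autoImplicit false
open CategoryTheory CategoryTheory.Limits Opposite
universe u
open ToposFin

namespace Groth.Agent.S5586

/-- Quasi-separated and coherent cases: for an algebraic topos of sheaves of sets on a small site: let f
: X -> Y be a morphism and (Y_i -> Y) a jointly epimorphic family. If the Y_i are quasi-separated
(resp. coherent), then f is quasi-separated (resp. coherent) if and only if every X x_Y Y_i is a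
quasi-separated (resp. coherent) object. -/
theorem result {C : Type u} [SmallCategory C]
    {J : GrothendieckTopology C} (hE : ToposFin.IsAlgebraic J) {X Y : ToposFin.Sh J} (f : X ⟶ Y)
    {ι : Type u} (Yi : ι → ToposFin.Sh J) (g : ∀ i, Yi i ⟶ Y)
    (hg : ∀ (Z : ToposFin.Sh J) (a b : Y ⟶ Z), (∀ i, g i ≫ a = g i ≫ b) → a = b) :
    ((∀ i, ToposFin.IsQS (Yi i)) → (ToposFin.IsQSHom f ↔ ∀ i, ToposFin.IsQS (pullback f (g i)))) ∧
    ((∀ i, ToposFin.IsCoherent (Yi i)) →
      (ToposFin.IsCohHom f ↔ ∀ i, ToposFin.IsCoherent (pullback f (g i)))) := by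
  have hE' := Lib.helper23.TF.hasQCGenerators_of_isAlgebraic hE
  have hg' : Lib.helper23.TF.JEpi g := fun Z a b h => hg Z a b h
  have sq : ∀ i, IsPullback (pullback.fst f (g i)) (pullback.snd f (g i)) f (g i) :=
    fun i => IsPullback.of_hasPullback f (g i)
  refine ⟨fun hYi => ⟨fun hf i => ?_, fun h => ?_⟩, fun hYi => ⟨fun hf i => ⟨?_, ?_⟩, fun h => ⟨?_, ?_⟩⟩⟩
  · exact Lib.helper23.TF.isQS_of_isQSHom (pullback.snd f (g i))
      (Lib.helper23.TF.isQSHom_of_isPullback (sq i) hf) (hYi i)
  · exact Lib.helper23.TF.isQSHom_of_cover_target hE' f Yi g hg'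
      (fun i => Lib.helper23.TF.isQSHom_of_isQS_of_isAlgebraic hE _ (h i))
  · exact Lib.helper23.TF.isQC_source (Lib.helper9.TF.isQCHom_of_isPullback (sq i) hf.1) (hYi i).1
  · exact Lib.helper23.TF.isQS_of_isQSHom (pullback.snd f (g i))
      (Lib.helper23.TF.isQSHom_of_isPullback (sq i) hf.2) (hYi i).2
  · exact Lib.helper23.TF.isQCHom_of_cover_target hE' f Yi g hg'
      (fun i => Lib.helper23.TF.isQCHom_of_isQS _ (h i).1 (hYi i).2)
  · exact Lib.helper23.TF.isQSHom_of_cover_target hE' f Yi g hg'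
      (fun i => Lib.helper23.TF.isQSHom_of_isQS_of_isAlgebraic hE _ (h i).2)

end Groth.Agent.S5586
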