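import Groth.Statements.S5606
import Mathlib
import Groth.Agent.Lib.helper17.PCohLES
-- import your own Groth.Agent.* helpers here

set_option autoImplicit false
universe w v u
open CategoryTheory CategoryTheory.Limits
open PCoh

open Groth.Agent.Lib.helper17

namespace Groth.Agent.S5606

/-- Let C be an abelian category, C₀ ⊆ C₁ strictly full additive subcategories with C₀ quasi-stable
under kernels of epimorphisms and quasi-liftable. If every object of C₁ is C₀-pseudo-coherent, then
C₁ is quasi-liftable in C and quasi-stable under kernels of epimorphisms. -/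
theorem result {C : Type u} [Category.{v} C] [Abelian C] [HasDerivedCategory.{w} C]
    (P : ObjectProperty C) [P.IsClosedUnderIsomorphisms] [P.ContainsZero] (hsum : ∀ X Y : C, P X → P Y → P (X ⨯ Y))
    (hqs : PCoh.IsQuasiStableUnderKernels P) (hql : PCoh.IsQuasiLiftable P)
    (P₁ : ObjectProperty C) [P₁.IsClosedUnderIsomorphisms] [P₁.ContainsZero]
    (hsum₁ : ∀ X Y : C, P₁ X → P₁ Y → P₁ (X ⨯ Y)) (hle : ∀ X : C, P X → P₁ X)
    (hpc : ∀ X : C, P₁ X → PCoh.IsPC P ((DerivedCategory.singleFunctor C 0).obj X)) :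
    PCoh.IsQuasiLiftable P₁ ∧ PCoh.IsQuasiStableUnderKernels P₁ := by
  have hft : ∀ X, P₁ X → PCoh.IsOfFiniteType P X := fun X hX =>
    (PCohLES.NPC_single_zero_iff_isOfFiniteType P hqs hql X).1 (hpc X hX 0)
  constructor
  · intro E F u hu hF
    obtain ⟨L₀, π₀, hL₀, hπ₀⟩ := hft F hF
    have : Epi (pullback.snd u π₀) := inferInstance
    obtain ⟨L, t, hL, ht⟩ := hql _ _ (pullback.snd u π₀) inferInstance hL₀
    refine ⟨L, t ≫ pullback.fst u π₀, hle _ hL, ?_⟩
    have h : (t ≫ pullback.fst u π₀) ≫ u = (t ≫ pullback.snd u π₀) ≫ π₀ := by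
      simp [pullback.condition]
    rw [h]
    exact epi_comp _ _
  · rintro K hex ⟨N, hN⟩ hK
    have key : ∀ (d : ℕ) (i : ℕ), 1 ≤ i → N < i + d → ∀ m : ℤ,
        PCohBasic.NPC P m ((DerivedCategory.singleFunctor C 0).obj (K.cycles i)) := by
      intro d
      induction d with
      | zero =>
        intro i hi hiN m
        exact PCohLES.NPC_single_of_isZero P _
          (IsZero.of_mono (K.iCycles i) (hN i (by lia))) _ _
      | succ d ih =>
        intro i hi hiN m
        have h3 := ih (i + 1) (by lia) (by lia) (m - 1)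
        have h2 : PCohBasic.NPC P (m - 1 + 1)
            ((DerivedCategory.singleFunctor C 0).obj (K.X i)) := hpc _ (hK i hi) _
        have := PCohLES.NPC_cycles_prev P K hsum hqs hql i (i + 1) (by simp) (hex _) (m - 1) h2 h3
        simpa using this
    have h1 : PCoh.IsOfFiniteType P (K.cycles 1) :=
      (PCohLES.NPC_single_zero_iff_isOfFiniteType P hqs hql _).1 (key N 1 le_rfl (by lia) 0)
    have hepi : Epi (K.toCycles 0 1) := PCohLES.epi_toCycles_of_exactAt' K 0 1 (by simp) (hex 1)
    have hmono : Mono (K.d 0 1) := by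
      have h0 := hex 0
      rw [HomologicalComplex.exactAt_iff' _ 0 0 1 (by simp) (by simp)] at h0
      have hf : (K.sc' 0 0 1).f = 0 := K.shape 0 0 (by simp)
      rw [ShortComplex.exact_iff_mono _ hf] at h0
      exact h0
    have hm2 : Mono (K.toCycles 0 1 ≫ K.iCycles 1) := by
      rw [K.toCycles_i]; exact hmono
    have hm3 : Mono (K.toCycles 0 1) := mono_of_mono _ (K.iCycles 1)
    have hiso : IsIso (K.toCycles 0 1) := isIso_of_mono_of_epi _
    obtain ⟨L, π, hL, hπ⟩ := h1
    exact ⟨L, π ≫ inv (K.toCycles 0 1), hle _ hL, epi_comp _ _⟩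

end Groth.Agent.S5606
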