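import Groth.Statements.S5612
import Mathlib
import Groth.Agent.Lib.helper17.TorAmpTor
import Groth.Agent.S6954
-- import your own Groth.Agent.* helpers here

set_option autoImplicit false
universe u
open CategoryTheory CategoryTheory.Limits
attribute [local instance] HasDerivedCategory.standard
open DRing

open Groth.Agent.Lib.helper17

namespace Groth.Agent.S5612

/-- Let A be a commutative ring all of whose modules have finite tor dimension (for instance A of finite
global dimension) and K ∈ D(A). (i) K has finite tor dimension if and only if K has bounded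
cohomology. (ii) K is perfect if and only if K has bounded cohomology and is pseudo-coherent. -/
theorem result {A : Type u} [CommRing A]
    (hA : ∀ (M : Type u) [AddCommGroup M] [Module A M], DRing.HasFiniteTorDim A M) (K : Dual.D A) :
    (DRing.HasFiniteTorDimCx A K ↔ ∃ a b : ℤ, ∀ i : ℤ, i < a ∨ b < i → Subsingleton (Dual.HD A K i)) ∧
      (DRing.IsPerfect A K ↔
        (∃ a b : ℤ, ∀ i : ℤ, i < a ∨ b < i → Subsingleton (Dual.HD A K i)) ∧ DRing.IsPseudoCoherent' A K) := by
  have key : DRing.HasFiniteTorDimCx A K ↔
      ∃ a b : ℤ, ∀ i : ℤ, i < a ∨ b < i → Subsingleton (Dual.HD A K i) := by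
    constructor
    · rintro ⟨a, b, h⟩
      exact ⟨a, b, fun i hi =>
        ModuleCat.subsingleton_of_isZero (DRingTA.isZero_homology_of_torAmp h i hi)⟩
    · rintro ⟨a, b, hz⟩
      have hd : ∀ i : ℤ, ∃ d : ℕ, TorAmpTor.TD d
          ((DerivedCategory.homologyFunctor (ModuleCat.{u} A) i).obj K) := fun i => by
        obtain ⟨n, hn⟩ := hA (Dual.HD A K i)
        exact ⟨n, (TorAmpTor.hasTorDimLE_iff n _).1 hn⟩
      choose d hd using hd
      refine ⟨a - ((Finset.Icc a b).sup d : ℕ), b,
        DRingTA.torAmp_of_homology _ b K a b (fun i hi => ?_) (fun i => ?_)⟩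
      · have := hz i hi
        exact ModuleCat.isZero_of_subsingleton _
      · by_cases hi : a ≤ i ∧ i ≤ b
        · have h1 := (TorAmpTor.TD_iff_torAmp (d i) _).1 (hd i)
          have hle : d i ≤ (Finset.Icc a b).sup d := Finset.le_sup (Finset.mem_Icc.2 hi)
          have hle' : (d i : ℤ) ≤ ((Finset.Icc a b).sup d : ℕ) := by exact_mod_cast hle
          exact DRingTA.torAmp_of_le h1 (by lia) (by lia)
        · have hz' : IsZero ((DerivedCategory.homologyFunctor (ModuleCat.{u} A) i).obj K) := by
            have := hz i (by lia)
            exact ModuleCat.isZero_of_subsingleton _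
          exact DRingTA.torAmp_of_isZero _
            ((DerivedCategory.singleFunctor (ModuleCat.{u} A) 0).map_isZero hz') _ _
  refine ⟨key, ?_⟩
  rw [Groth.Agent.S6954.result, key]
  exact and_comm

end Groth.Agent.S5612
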