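import Groth.Statements.S5656
import Mathlib

set_option autoImplicit false
universe u
open W4sga6xxiii

namespace Groth.Agent.S5656

open Polynomial

/-- binomial polynomials -/
theorem exists_binom_poly (j : ℕ) :
    ∃ B : Polynomial ℚ, ∀ n : ℤ, B.eval (n : ℚ) = ((Ring.choose n j : ℤ) : ℚ) := by
  refine ⟨C ((j.factorial : ℚ)⁻¹) * (descPochhammer ℚ j), fun n => ?_⟩
  have h := Ring.descPochhammer_eq_factorial_smul_choose (R := ℤ) n j
  rw [← Polynomial.eval_eq_smeval] at h
  have h2 : ((descPochhammer ℚ j).eval (n : ℚ)) = (j.factorial : ℚ) * ((Ring.choose n j : ℤ) : ℚ) := by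
    rw [← descPochhammer_eval_cast, h, nsmul_eq_mul]
    push_cast
    ring
  rw [eval_mul, eval_C, h2]
  have : (j.factorial : ℚ) ≠ 0 := by exact_mod_cast j.factorial_ne_zero
  field_simp

/-- one-variable polynomial description of a polynomial map along a line -/
theorem exists_poly {G : Type u} [AddCommGroup G] (f : G → ℚ) (hf : W4sga6xxiii.IsPolyMap f)
    (x : G) : ∃ P : Polynomial ℚ, ∀ n : ℤ, f (n • x) = P.eval (n : ℚ) := by
  obtain ⟨m, y, -, hy⟩ := hf 1 (fun _ => x)
  choose B hB using exists_binom_poly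
  refine ⟨∑ k : Fin 1 → Fin (m + 1), C (y k) * B (k 0 : ℕ), fun n => ?_⟩
  have := hy (fun _ => n)
  simp only [Fin.sum_univ_one, Fin.prod_univ_one] at this
  rw [this, eval_finsetSum]
  refine Finset.sum_congr rfl fun k _ => ?_
  rw [eval_mul, eval_C, hB, zsmul_eq_mul]
  ring

theorem poly_unique (P Q : Polynomial ℚ) (h : ∀ n : ℤ, P.eval (n : ℚ) = Q.eval (n : ℚ)) :
    P = Q := by
  apply Polynomial.eq_of_infinite_eval_eq
  apply Set.infinite_of_injective_forall_mem (f := fun n : ℤ => (n : ℚ)) Int.cast_injective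
  intro n
  exact h n

/-- the leading coefficient of an integer valued polynomial, times `D!`, is an integer -/
theorem leading_int (P : Polynomial ℚ) (hP : ∀ n : ℤ, ∃ z : ℤ, P.eval (n : ℚ) = z) :
    ∃ c : ℤ, P.leadingCoeff * (P.natDegree.factorial : ℚ) = c := by
  have h1 := congrFun (Polynomial.fwdDiff_iter_degree_eq_factorial P) 0
  rw [fwdDiff_iter_eq_sum_shift] at h1
  have h2 : (P.leadingCoeff • (P.natDegree.factorial : ℚ → ℚ)) 0
      = P.leadingCoeff * (P.natDegree.factorial : ℚ) := by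
    simp
  rw [h2] at h1
  rw [← h1]
  choose z hz using hP
  refine ⟨∑ k ∈ Finset.range (P.natDegree + 1),
    ((-1 : ℤ) ^ (P.natDegree - k) * (P.natDegree.choose k : ℤ)) * z k, ?_⟩
  push_cast
  refine Finset.sum_congr rfl fun k _ => ?_
  have := hz (k : ℤ)
  simp only [Int.cast_natCast] at this
  rw [zsmul_eq_mul, zero_add, nsmul_eq_mul, mul_one, this]
  push_cast
  ring

/-- Let G be an abelian group and G' ⊆ G a subgroup which is divisible by some prime number p (every
element of G' is p times an element of G') and such that G/G' is a torsion group. Then every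
polynomial map f : G → ℚ (admitting binomial expansions f(Σ n_i x_i) = Σ_k Π_i C(n_i, k_i) y_k along
every finite sequence x) which takes only integer values is constant. -/
theorem result {G : Type u} [AddCommGroup G] (G' : AddSubgroup G)
    (p : ℕ) (hp : p.Prime) (hdiv : ∀ x ∈ G', ∃ y ∈ G', p • y = x) (htor : ∀ x : G, ∃ n : ℤ, n ≠ 0 ∧ n • x ∈ G')
    (f : G → ℚ) (hf : W4sga6xxiii.IsPolyMap f) (hint : ∀ x, ∃ z : ℤ, f x = z) (x : G) : f x = f 0 := by
  classical
  have hp2 : 2 ≤ p := hp.two_le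
  -- polynomials along lines
  choose Pl hPl using exists_poly f hf
  have hPlint : ∀ z : G, ∀ n : ℤ, ∃ c : ℤ, (Pl z).eval (n : ℚ) = c := by
    intro z n
    obtain ⟨c, hc⟩ := hint (n • z)
    exact ⟨c, by rw [← hPl, hc]⟩
  -- scaling
  have hscale : ∀ (z : G) (N : ℤ), Pl (N • z) = (Pl z).comp (C (N : ℚ) * X) := by
    intro z N
    apply poly_unique
    intro n
    rw [← hPl, eval_comp, eval_mul, eval_C, eval_X, smul_smul]
    have := hPl z (n * N)
    rw [this]
    push_cast
    ring_nf
  -- Claim A: constant along G'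
  have hA : ∀ z ∈ G', (Pl z).natDegree = 0 := by
    intro z hz
    by_contra hD
    set D := (Pl z).natDegree with hDdef
    have hDpos : 1 ≤ D := Nat.one_le_iff_ne_zero.mpr hD
    -- roots z_j
    have hroots : ∀ j : ℕ, ∃ y ∈ G', (p ^ j : ℕ) • y = z := by
      intro j
      induction j with
      | zero => exact ⟨z, hz, by simp⟩
      | succ j ih =>
        obtain ⟨y, hy, hyz⟩ := ih
        obtain ⟨y', hy', hyy⟩ := hdiv y hy
        refine ⟨y', hy', ?_⟩
        rw [pow_succ, mul_smul, hyy, hyz]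
    obtain ⟨c₀, hc₀⟩ := leading_int (Pl z) (hPlint z)
    have hlc0 : (Pl z).leadingCoeff ≠ 0 := by
      intro h0
      rw [leadingCoeff_eq_zero] at h0
      rw [hDdef, h0, natDegree_zero] at hDpos
      exact absurd hDpos (by norm_num)
    have hc₀ne : c₀ ≠ 0 := by
      intro h0
      rw [h0, Int.cast_zero] at hc₀
      have hfac : (D.factorial : ℚ) ≠ 0 := by exact_mod_cast D.factorial_ne_zero
      rcases mul_eq_zero.mp hc₀ with h | h
      · exact hlc0 h
      · exact hfac h
    have hdvd : ∀ j : ℕ, ((p : ℤ) ^ j) ∣ c₀ := by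
      intro j
      obtain ⟨y, hy, hyz⟩ := hroots j
      have hpj : ((p ^ j : ℕ) : ℚ) ≠ 0 := by
        exact_mod_cast (pow_pos hp.pos j).ne'
      have h1 : Pl z = (Pl y).comp (C ((p ^ j : ℕ) : ℚ) * X) := by
        have := hscale y ((p ^ j : ℕ) : ℤ)
        rw [natCast_zsmul, hyz] at this
        rw [this]
        push_cast
        rfl
      have hdeg1 : (C ((p ^ j : ℕ) : ℚ) * X : Polynomial ℚ).natDegree = 1 :=
        natDegree_C_mul_X _ hpj
      have hdeg : (Pl y).natDegree = D := by
        have := congrArg natDegree h1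
        rw [natDegree_comp, hdeg1, mul_one] at this
        rw [hDdef, this]
      have hlc : (Pl z).leadingCoeff = (Pl y).leadingCoeff * (((p ^ j : ℕ) : ℚ)) ^ D := by
        rw [h1, leadingCoeff_comp (by rw [hdeg1]; norm_num), hdeg]
        congr 1
        rw [leadingCoeff_mul, leadingCoeff_C, leadingCoeff_X, mul_one]
      obtain ⟨c, hc⟩ := leading_int (Pl y) (hPlint y)
      rw [hdeg] at hc
      have h2 : (c₀ : ℚ) = (c : ℚ) * ((p : ℚ) ^ j) ^ D := by
        rw [← hc₀, ← hDdef, hlc, ← hc]
        push_cast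
        ring
      have h3 : c₀ = c * ((p : ℤ) ^ j) ^ D := by exact_mod_cast h2
      rw [h3]
      refine Dvd.dvd.mul_left ?_ c
      exact dvd_pow_self _ (by omega)
    -- contradiction: c₀ has arbitrarily large divisors
    have h4 := hdvd c₀.natAbs
    have h5 : ((p : ℤ) ^ c₀.natAbs).natAbs ≤ c₀.natAbs :=
      Nat.le_of_dvd (Int.natAbs_pos.mpr hc₀ne) (Int.natAbs_dvd_natAbs.mpr h4)
    rw [Int.natAbs_pow, Int.natAbs_natCast] at h5
    have h6 : c₀.natAbs < 2 ^ c₀.natAbs := Nat.lt_two_pow_self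
    have h7 : 2 ^ c₀.natAbs ≤ p ^ c₀.natAbs := Nat.pow_le_pow_left hp2 _
    omega
  -- Claim B
  obtain ⟨N, hN0, hNx⟩ := htor x
  have hB : (Pl x).natDegree = 0 := by
    have h1 := hscale x N
    have hNq : (N : ℚ) ≠ 0 := by exact_mod_cast hN0
    have := congrArg natDegree h1
    rw [hA _ hNx, natDegree_comp, natDegree_C_mul_X _ hNq, mul_one] at this
    exact this.symm
  have hconst := eq_C_of_natDegree_eq_zero hB
  have h1 := hPl x 1
  have h0 := hPl x 0
  rw [one_smul] at h1
  rw [zero_smul] at h0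
  rw [h1, h0, hconst]
  simp

end Groth.Agent.S5656
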