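import Groth.Statements.S5657
import Mathlib

set_option autoImplicit false
universe u
open TensorProduct
open W4sga6xxiii

namespace Groth.Agent.S5657

/-- truncated binomial series -/
noncomputable def S {A : Type u} [CommRing A] (m : ℕ) (y : A) (n : ℤ) : A :=
  ∑ k ∈ Finset.range (m + 1), (Ring.choose n k : ℤ) • y ^ k

theorem S_zero {A : Type u} [CommRing A] (m : ℕ) (y : A) : S m y 0 = 1 := by
  unfold S
  rw [Finset.sum_eq_single 0]
  · simp
  · intro k _ hk
    rw [Ring.choose_zero_pos ℤ (Nat.pos_of_ne_zero hk), zero_smul]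
  · simp

theorem S_succ {A : Type u} [CommRing A] (m : ℕ) (y : A) (hy : y ^ (m + 1) = 0) (n : ℤ) :
    S m y (n + 1) = (1 + y) * S m y n := by
  unfold S
  have h1 : ∑ k ∈ Finset.range (m + 1), (Ring.choose (n + 1) k : ℤ) • y ^ k
      = ∑ k ∈ Finset.range m, (Ring.choose n k : ℤ) • y ^ (k + 1)
        + ∑ k ∈ Finset.range m, (Ring.choose n (k + 1) : ℤ) • y ^ (k + 1) + 1 := by
    rw [Finset.sum_range_succ', ← Finset.sum_add_distrib]
    congr 1
    · refine Finset.sum_congr rfl fun k _ => ?_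
      rw [Ring.choose_succ_succ, add_smul]
    · simp
  have h2 : ∑ k ∈ Finset.range (m + 1), (Ring.choose n k : ℤ) • y ^ k
      = ∑ k ∈ Finset.range m, (Ring.choose n (k + 1) : ℤ) • y ^ (k + 1) + 1 := by
    rw [Finset.sum_range_succ']
    simp
  have h3 : y * ∑ k ∈ Finset.range (m + 1), (Ring.choose n k : ℤ) • y ^ k
      = ∑ k ∈ Finset.range m, (Ring.choose n k : ℤ) • y ^ (k + 1) := by
    rw [Finset.mul_sum, Finset.sum_range_succ]
    have : y * ((Ring.choose n m : ℤ) • y ^ m) = 0 := by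
      rw [mul_smul_comm, ← pow_succ', hy, smul_zero]
    rw [this, add_zero]
    refine Finset.sum_congr rfl fun k _ => ?_
    rw [mul_smul_comm, ← pow_succ']
  rw [add_mul, one_mul, h3, h1, h2]
  ring

theorem units_zpow_eq_S {A : Type u} [CommRing A] (m : ℕ) (u : Aˣ) (y : A)
    (huy : (u : A) = 1 + y) (hy : y ^ (m + 1) = 0) (n : ℤ) :
    ((u ^ n : Aˣ) : A) = S m y n := by
  induction n using Int.induction_on with
  | zero => simp [S_zero]
  | succ i ih =>
    rw [zpow_add_one, Units.val_mul, ih, huy, S_succ m y hy, mul_comm]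
  | pred i ih =>
    have h1 : S m y (-(i : ℤ)) = (1 + y) * S m y (-(i : ℤ) - 1) := by
      have := S_succ m y hy (-(i : ℤ) - 1)
      rwa [sub_add_cancel] at this
    rw [zpow_sub_one, Units.val_mul, ih, h1, ← huy]
    have : (u : A) * S m y (-(i : ℤ) - 1) * ((u⁻¹ : Aˣ) : A)
        = ((u : A) * ((u⁻¹ : Aˣ) : A)) * S m y (-(i : ℤ) - 1) := by ring
    rw [this, Units.mul_inv, one_mul]

/-- Let A be a commutative ring, I an ideal of A with I^{m+1} = 0, and P ⊆ Aˣ the subgroup of units of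
the form 1 + y with y ∈ I. Then the map P → A ⊗_ℤ ℚ, x ↦ x ⊗ 1, is a polynomial map of degree ≤ m on
the abelian group P (written additively): along every finite sequence x_1, …, x_r in P one has
x_1^{n_1}⋯x_r^{n_r} ⊗ 1 = Σ_k Π_i C(n_i, k_i) y_k with y_k = 0 whenever k_1 + ⋯ + k_r > m. -/
theorem result (A : Type u) [CommRing A] (I : Ideal A) (m : ℕ) (hI : I ^ (m + 1) = ⊥)
    (P : Subgroup Aˣ) (hP : ∀ u : Aˣ, u ∈ P ↔ (u : A) - 1 ∈ I) :
    W4sga6xxiii.IsPolyMapLE (fun u : Additive P => (((Additive.toMul u : P) : Aˣ) : A) ⊗ₜ[ℤ] (1 : ℚ)) m := by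
  classical
  intro r x
  set u : Fin r → Aˣ := fun i => ((Additive.toMul (x i) : P) : Aˣ) with hu
  set yv : Fin r → A := fun i => (u i : A) - 1 with hyv
  have hyI : ∀ i, yv i ∈ I := fun i => (hP (u i)).mp (Additive.toMul (x i) : P).2
  have hypow : ∀ i, yv i ^ (m + 1) = 0 := by
    intro i
    have := Ideal.pow_mem_pow (hyI i) (m + 1)
    rw [hI] at this
    exact this
  have huy : ∀ i, (u i : A) = 1 + yv i := fun i => by simp [hyv]
  set M : (Fin r → Fin (m + 1)) → A := fun k => ∏ i, yv i ^ (k i : ℕ) with hM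
  have hM0 : ∀ k : Fin r → Fin (m + 1), m < ∑ i, (k i : ℕ) → M k = 0 := by
    intro k hk
    have h1 : M k ∈ I ^ (∑ i, (k i : ℕ)) := by
      rw [← Finset.prod_pow_eq_pow_sum]
      exact Ideal.prod_mem_prod fun i _ => Ideal.pow_mem_pow (hyI i) _
    have h2 : I ^ (∑ i, (k i : ℕ)) ≤ I ^ (m + 1) := Ideal.pow_le_pow_right (by omega)
    have := h2 h1
    rw [hI] at this
    exact this
  refine ⟨fun k => if ∑ i, (k i : ℕ) ≤ m then M k ⊗ₜ[ℤ] (1 : ℚ) else 0, ?_, ?_⟩
  · intro k hk
    dsimp only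
    rw [if_neg (by omega)]
  · intro n
    have h1 : (((Additive.toMul (∑ i, n i • x i) : P) : Aˣ) : A)
        = ∏ i, ((u i ^ n i : Aˣ) : A) := by
      rw [toMul_sum]
      simp only [toMul_zsmul]
      rw [SubmonoidClass.coe_finsetProd, Units.coe_prod]
      refine Finset.prod_congr rfl fun i _ => ?_
      rw [Subgroup.coe_zpow]
    have h2 : ∏ i, ((u i ^ n i : Aˣ) : A)
        = ∑ k : Fin r → Fin (m + 1), ((∏ i, Ring.choose (n i) (k i : ℕ) : ℤ) : A) * M k := by
      have : ∀ i, ((u i ^ n i : Aˣ) : A)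
          = ∑ j : Fin (m + 1), ((Ring.choose (n i) (j : ℕ) : ℤ) : A) * yv i ^ (j : ℕ) := by
        intro i
        rw [units_zpow_eq_S m (u i) (yv i) (huy i) (hypow i) (n i), S, Finset.sum_range]
        refine Finset.sum_congr rfl fun j _ => ?_
        rw [zsmul_eq_mul]
      simp only [this]
      rw [Finset.prod_univ_sum, Fintype.piFinset_univ]
      refine Finset.sum_congr rfl fun k _ => ?_
      rw [Finset.prod_mul_distrib, Int.cast_prod]
    show (((Additive.toMul (∑ i, n i • x i) : P) : Aˣ) : A) ⊗ₜ[ℤ] (1 : ℚ) = _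
    rw [h1, h2, TensorProduct.sum_tmul]
    refine Finset.sum_congr rfl fun k _ => ?_
    dsimp only
    by_cases hk : ∑ i, (k i : ℕ) ≤ m
    · rw [if_pos hk, ← zsmul_eq_mul, TensorProduct.smul_tmul']
    · rw [if_neg hk, hM0 k (by omega), mul_zero, TensorProduct.zero_tmul, smul_zero]

end Groth.Agent.S5657
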