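import Groth.Statements.S5705
import Groth.Agent.Lib.helper25.AzuSN

set_option autoImplicit false
universe u v
open TensorProduct
open Dix

namespace Groth.Agent.S5705


/-- Over a local base, where the Zariski-local conclusion becomes global. Let R be a local ring and A an
Azumaya algebra over R. Then every R-algebra automorphism u of A is inner, u(x) = a x a⁻¹ for some
unit a of A, and the unit a is determined up to multiplication by a unit of R. -/
theorem result (R : Type u) [CommRing R] [IsLocalRing R] (A : Type v) [Ring A] [Algebra R A] [IsAzumaya R A] (u : A ≃ₐ[R] A) : (∃ a : Aˣ, ∀ x : A, u x = (a : A) * x * (a⁻¹ : Aˣ)) ∧ (∀ a a' : Aˣ, (∀ x : A, u x = (a : A) * x * (a⁻¹ : Aˣ)) → (∀ x : A, u x = (a' : A) * x * (a'⁻¹ : Aˣ)) → ∃ c : Rˣ, (a' : A) = algebraMap R A (c : R) * (a : A)) := by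
  classical
  refine ⟨Groth.Agent.Lib.helper25.AzuSN.skolemNoether
    (Groth.Agent.Lib.helper25.AzuSN.isLGRing_of_isLocalRing R) u, ?_⟩
  intro a a' ha ha'
  have : Module.Free R A := Module.free_of_flat_of_isLocalRing
  have hcentral : ∀ z : A, (∀ x : A, x * z = z * x) → ∃ r : R, algebraMap R A r = z := by
    intro z hz
    have hz' : z ∈ Subalgebra.center R A := Subalgebra.mem_center_iff.2 hz
    rw [Algebra.IsCentral.center_eq_bot R A, Algebra.mem_bot] at hz'
    exact hz'
  have hcomm : ∀ (b b' : Aˣ), (∀ x : A, (b : A) * x * (b⁻¹ : Aˣ) = (b' : A) * x * (b'⁻¹ : Aˣ)) →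
      ∀ x : A, x * ((b⁻¹ : Aˣ) * (b' : A)) = ((b⁻¹ : Aˣ) * (b' : A)) * x := by
    intro b b' h x
    have h1 := h x
    calc x * ((b⁻¹ : Aˣ) * (b' : A))
        = (b⁻¹ : Aˣ) * ((b : A) * x * (b⁻¹ : Aˣ)) * (b' : A) := by
          simp only [mul_assoc, Units.inv_mul_cancel_left]
      _ = (b⁻¹ : Aˣ) * ((b' : A) * x * (b'⁻¹ : Aˣ)) * (b' : A) := by rw [h1]
      _ = ((b⁻¹ : Aˣ) * (b' : A)) * x := by
          simp only [mul_assoc, Units.inv_mul, mul_one]
  obtain ⟨c, hc⟩ := hcentral _ (hcomm a a' fun x => by rw [← ha x, ← ha' x])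
  obtain ⟨c', hc'⟩ := hcentral _ (hcomm a' a fun x => by rw [← ha x, ← ha' x])
  have hinj : Function.Injective (algebraMap R A) := FaithfulSMul.algebraMap_injective R A
  have hcc : c * c' = 1 := by
    apply hinj
    rw [map_mul, hc, hc', map_one]
    simp only [mul_assoc, Units.mul_inv_cancel_left, Units.inv_mul]
  refine ⟨⟨c, c', hcc, by rw [mul_comm]; exact hcc⟩, ?_⟩
  show (a' : A) = algebraMap R A c * a
  rw [Algebra.commutes, hc]
  simp only [← mul_assoc, Units.mul_inv, one_mul]


end Groth.Agent.S5705
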