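import Groth.Statements.S5719
import Groth.Agent.Lib.helper25.AzuDescent
import Groth.Agent.Lib.helper25.AzuLG
import Groth.Agent.Lib.helper17.CSA

set_option autoImplicit false
universe u v
open TensorProduct
open Dix

namespace Groth.Agent.S5719


lemma isAzumaya_of_csa (k : Type*) [Field k] (A : Type*) [Ring A] [Algebra k A]
    [Algebra.IsCentral k A] [IsSimpleRing A] [FiniteDimensional k A] : IsAzumaya k A :=
  { bij := Groth.Agent.Lib.helper17.CSA.mulLeftRight_bijective k A }

/-- (i) ⇔ (ii), over an affine base. Let R be a commutative ring and A an R-algebra whose underlying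
module is finite and projective (locally free of finite type). Then A ⊗_R A° → End_R(A) is bijective
with A faithful, i.e. A is an Azumaya algebra over R, if and only if every fibre κ(p) ⊗_R A, p a
prime ideal of R, is a central simple algebra over the residue field κ(p). -/
theorem result (R : Type u) [CommRing R] (A : Type u) [Ring A] [Algebra R A] [Module.Finite R A] [Module.Projective R A] : IsAzumaya R A ↔ ∀ (p : Ideal R) [p.IsPrime], Algebra.IsCentral p.ResidueField (p.ResidueField ⊗[R] A) ∧ IsSimpleRing (p.ResidueField ⊗[R] A) := by
  constructor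
  · intro hA p hp
    have hAz : IsAzumaya p.ResidueField (p.ResidueField ⊗[R] A) :=
      Groth.Agent.S19588.result R p.ResidueField A
    exact ⟨inferInstance,
      Groth.Agent.Lib.helper25.AzuLG.isSimpleRing_of_isAzumaya_field p.ResidueField _⟩
  · intro h
    refine Groth.Agent.Lib.helper25.AzuDescent.isAzumaya_of_forall_fibre A fun m hm => ?_
    have hp : m.IsPrime := hm.isPrime
    obtain ⟨h1, h2⟩ := h m
    refine ⟨m.ResidueField, inferInstance, inferInstance, ⟨⟨⊥, Ideal.isPrime_bot⟩, ?_⟩,
      isAzumaya_of_csa m.ResidueField _⟩
    ext1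
    show Ideal.comap (algebraMap R m.ResidueField) ⊥ = m
    rw [← RingHom.ker_eq_comap_bot, Ideal.ker_algebraMap_residueField]


end Groth.Agent.S5719
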