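import Groth.Statements.S5744
import Mathlib
import Groth.Agent.Lib.helper9.PushAff
import Groth.Agent.Lib.helper9.QcohLim

set_option autoImplicit false
universe u
open Coherent

namespace Groth.Agent.S5744

section Helpers
open AlgebraicGeometry CategoryTheory Limits

noncomputable def unitPresentation {C : Type u} [SmallCategory C] {J : GrothendieckTopology C}
    (R : Sheaf J RingCat.{u}) [HasWeakSheafify J AddCommGrpCat.{u}]
    [J.WEqualsLocallyBijective AddCommGrpCat.{u}] [J.HasSheafCompose (forget₂ RingCat.{u} AddCommGrpCat.{u})] :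
    (SheafOfModules.unit R).Presentation := by
  let g : SheafOfModules.free (R := R) PUnit.{u + 1} ⟶ SheafOfModules.unit R :=
    (coproductUniqueIso (fun _ : PUnit.{u + 1} => SheafOfModules.unit R)).hom
  haveI : IsIso g := by dsimp only [g]; infer_instance
  refine SheafOfModules.presentationOfIsCokernelFree (ι := PEmpty.{u + 1}) (σ := PUnit.{u + 1})
    (0 : SheafOfModules.free PEmpty.{u + 1} ⟶ SheafOfModules.free PUnit.{u + 1}) g zero_comp ?_
  exact CokernelCofork.IsColimit.ofπ g _ (fun g' _ => inv g ≫ g')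
    (fun g' _ => by rw [IsIso.hom_inv_id_assoc])
    (fun g' _ m hm => by rw [← hm, IsIso.inv_hom_id_assoc])

theorem qcoh_structureModule (X : Scheme.{u}) : (Coh.structureModule X).IsQuasicoherent :=
  (unitPresentation X.ringCatSheaf).isQuasicoherent

theorem qcoh_of_iso {X : Scheme.{u}} {A B : X.Modules} (e : A ≅ B) (h : A.IsQuasicoherent) :
    B.IsQuasicoherent :=
  (SheafOfModules.isQuasicoherent X.ringCatSheaf).prop_of_iso e h

theorem qcoh_of_isZero {X : Scheme.{u}} {A : X.Modules} (h : IsZero A) : A.IsQuasicoherent := by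
  haveI := qcoh_structureModule X
  haveI : (kernel (𝟙 (Coh.structureModule X))).IsQuasicoherent :=
    Groth.Agent.Lib.helper9.QcohLocal.isQuasicoherent_kernel _
  have hz : IsZero (kernel (𝟙 (Coh.structureModule X))) := isZero_kernel_of_mono _
  exact qcoh_of_iso (hz.iso h) inferInstance

/-- product over `Option J` as a binary product. -/
noncomputable def piOptionIso {C : Type (u+1)} [Category.{u} C] [HasLimits C] {J : Type u}
    (f : Option J → C) : ∏ᶜ f ≅ f none ⨯ ∏ᶜ (fun j => f (some j)) where
  hom := prod.lift (Pi.π f none) (Pi.lift fun j => Pi.π f (some j))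
  inv := Pi.lift (fun o => match o with
    | none => prod.fst
    | some j => prod.snd ≫ Pi.π (fun j => f (some j)) j)
  hom_inv_id := by
    apply Pi.hom_ext
    intro o
    cases o with
    | none =>
      rw [Category.assoc, Pi.lift_π, Category.id_comp]
      exact prod.lift_fst _ _
    | some j =>
      rw [Category.assoc, Pi.lift_π, Category.id_comp]
      show prod.lift _ _ ≫ prod.snd ≫ _ = _
      rw [prod.lift_snd_assoc, Pi.lift_π]
  inv_hom_id := by
    apply prod.hom_ext
    · rw [Category.assoc, prod.lift_fst, Pi.lift_π, Category.id_comp]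
    · apply Pi.hom_ext
      intro j
      simp only [Category.assoc, Category.id_comp]
      rw [prod.lift_snd_assoc, Pi.lift_π, Pi.lift_π]

theorem qcoh_pi {X : Scheme.{u}} (J : Type u) [Finite J] : ∀ (f : J → X.Modules)
    (_ : ∀ j, (f j).IsQuasicoherent), (∏ᶜ f).IsQuasicoherent := by
  refine Finite.induction_empty_option
    (P := fun J : Type u => ∀ (f : J → X.Modules)
      (_ : ∀ j, (f j).IsQuasicoherent), (∏ᶜ f).IsQuasicoherent) ?_ ?_ ?_ J
  · intro α β e ih f hf
    have h1 := ih (f ∘ e) (fun j => hf (e j))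
    exact qcoh_of_iso (Pi.reindex e f) h1
  · intro f hf
    apply qcoh_of_isZero
    have : IsTerminal (∏ᶜ f) := by
      refine IsTerminal.ofUniqueHom (fun Y => Pi.lift (fun j => j.elim)) ?_
      intro Y m
      apply Pi.hom_ext
      intro j
      exact j.elim
    exact IsZero.of_iso (isZero_zero _) (this.uniqueUpToIso HasZeroObject.zeroIsTerminal)
  · intro α _ ih f hf
    have h1 := ih (fun j => f (some j)) (fun j => hf (some j))
    haveI := h1
    haveI := hf none
    have h2 : (f none ⊞ ∏ᶜ (fun j => f (some j))).IsQuasicoherent :=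
      Groth.Agent.Lib.helper9.QcohLim.isQuasicoherent_biprod _ _
    exact qcoh_of_iso ((biprod.isoProd _ _) ≪≫ (piOptionIso f).symm) h2


theorem prod_opens_eq {X : Scheme.{u}} {κ : Type*} (V : κ → X.Opens) [HasProduct V] : ∏ᶜ V = ⨅ k, V k := by
  apply le_antisymm
  · exact le_iInf (fun k => leOfHom (Pi.π V k))
  · exact leOfHom (Pi.lift (fun k => homOfLE (iInf_le V k)))

theorem affine_prod {X : Scheme.{u}} [X.IsSeparated] {κ : Type*} [Finite κ] [Nonempty κ]
    (V : κ → X.Opens) [HasProduct V] (hV : ∀ k, IsAffineOpen (V k)) : IsAffineOpen (∏ᶜ V) := by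
  rw [prod_opens_eq]
  exact IsAffineOpen.iInf hV

theorem affineHom_ι {X : Scheme.{u}} [X.IsSeparated] (W : X.Opens) (hW : IsAffineOpen W) :
    IsAffineHom W.ι := by
  haveI : IsAffine (W : Scheme) := hW
  exact IsAffineHom.of_comp W.ι (terminal.from X)


theorem qcoh_pushRestr {X : Scheme.{u}} [X.IsSeparated] (W : X.Opens) (hW : IsAffineOpen W)
    (F : X.Modules) [F.IsQuasicoherent] : ((CechOX.pushRestr W).obj F).IsQuasicoherent := by
  haveI := affineHom_ι W hW
  haveI : ((Scheme.Modules.restrictFunctor W.ι).obj F).IsQuasicoherent := inferInstance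
  exact Groth.Agent.Lib.helper9.PushAff.isQuasicoherent_pushforward W.ι _

theorem term_eq {X : Scheme.{u}} {ι : Type u} (𝒰 : ι → X.Opens) (F : X.Modules) (p : ℕ) :
    ((CechOX.cechSh 𝒰).obj F).X p = ∏ᶜ fun a : Fin (p+1) → ι =>
      (CechOX.pushRestrFam.flip.obj F).obj (Opposite.op (∏ᶜ (𝒰 ∘ a))) := rfl


end Helpers

open AlgebraicGeometry CategoryTheory in
/-- For the Čech complex of sheaves indexed by all ordered tuples with products as terms; over a finite
index type these terms are finite direct sums. Let X be a separated scheme, (U_i)_{i ∈ ι} a finite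
family of affine opens covering X, and F a quasi-coherent O_X-module. Then for every p the degree-p
term of the Čech complex of sheaves 𝔠(𝒰, F), the product over ordered (p+1)-tuples of the direct
images (j_{i_0…i_p})_*(F|_{U_{i_0…i_p}}), is a quasi-coherent O_X-module. -/
theorem result {X : Scheme.{u}} [X.IsSeparated] {ι : Type u}
    [Finite ι] (𝒰 : ι → X.Opens) (h𝒰 : ∀ i, IsAffineOpen (𝒰 i)) (hcov : ⨆ i, 𝒰 i = ⊤)
    (F : X.Modules) [Coh.IsQCoh F] (p : ℕ) :
    Coh.IsQCoh (((CechOX.cechSh 𝒰).obj F).X p) := by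
  rw [term_eq]
  haveI : Finite (Fin (p + 1) → ι) := inferInstance
  apply qcoh_pi
  intro a
  exact qcoh_pushRestr _ (affine_prod (𝒰 ∘ a) (fun k => h𝒰 (a k))) F

end Groth.Agent.S5744
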