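import Mathlib
import Groth.Statements.S5753
-- import your own Groth.Agent.* helpers here

set_option autoImplicit false
universe u
open EGA41

namespace Groth.Agent.S5753

/-- Let A be a Noetherian local ring with maximal ideal m and residue field k, and N a finitely
generated A-module. Then no element of m is N-regular (multiplication by it injective) if and only
if Hom_A(k, N) is nonzero. Applied to N = M/(x_1 M + ... + x_n M) for an M-regular sequence (x_i) in
m, this says that the sequence cannot be extended by an element of m if and only if Hom_A(k, M/(x_1
M + ... + x_n M)) ≠ 0. (The published statement allows an arbitrary module; for the direct sum N of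
the quotients of a two-dimensional regular local ring by all its height-one primes no element of m
is N-regular while Hom_A(k, N) = 0, and the published proof uses finiteness of the set of associated
primes, so N is taken finitely generated here.) -/
theorem result (A : Type u) [CommRing A]
    [IsLocalRing A] [IsNoetherianRing A] (N : Type u) [AddCommGroup N] [Module A N] [Module.Finite A N] :
    (∀ x ∈ IsLocalRing.maximalIdeal A, ¬ IsSMulRegular N x) ↔
      Nontrivial (IsLocalRing.ResidueField A →ₗ[A] N) := by
  constructor
  · intro h
    have hsub : ((IsLocalRing.maximalIdeal A : Ideal A) : Set A) ⊆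
        ⋃ p ∈ associatedPrimes A N, ((id p : Ideal A) : Set A) := by
      have := biUnion_associatedPrimes_eq_compl_regular A N
      simp only [id]
      rw [this]
      intro x hx
      exact h x hx
    obtain ⟨p, hp, hmp⟩ := ((IsLocalRing.maximalIdeal A).subset_union_prime_finite
      (associatedPrimes.finite A N) (f := id) 0 0 (fun _ h _ _ => h.1)).1 hsub
    have hp' : IsAssociatedPrime p N := hp
    have hpm : p = IsLocalRing.maximalIdeal A :=
      le_antisymm (IsLocalRing.le_maximalIdeal hp'.isPrime.ne_top) hmp
    rw [isAssociatedPrime_iff] at hp'
    obtain ⟨-, n, hn⟩ := hp'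
    -- every element of m kills n, and n ≠ 0
    have hkill : ∀ x ∈ IsLocalRing.maximalIdeal A, x • n = 0 := by
      intro x hx
      rw [← hpm, hn, Submodule.mem_colon_singleton] at hx
      simpa using hx
    have hn0 : n ≠ 0 := by
      intro h0
      have : (1 : A) ∈ p := by
        rw [hn, Submodule.mem_colon_singleton, h0]
        simp
      exact hp.1.ne_top ((Ideal.eq_top_iff_one p).mpr this)
    let φ : IsLocalRing.ResidueField A →ₗ[A] N :=
      Submodule.liftQ (IsLocalRing.maximalIdeal A) (LinearMap.toSpanSingleton A N n) (by
        intro x hx
        rw [LinearMap.mem_ker, LinearMap.toSpanSingleton_apply]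
        exact hkill x hx)
    refine ⟨⟨φ, 0, ?_⟩⟩
    intro hφ
    have h1 : φ (Submodule.Quotient.mk (1 : A)) = n := by
      show (Submodule.liftQ _ _ _) (Submodule.Quotient.mk (1 : A)) = n
      rw [Submodule.liftQ_apply, LinearMap.toSpanSingleton_apply, one_smul]
    rw [hφ] at h1
    exact hn0 h1.symm
  · intro hnt x hx hreg
    obtain ⟨φ, hφ⟩ := exists_ne (0 : IsLocalRing.ResidueField A →ₗ[A] N)
    have : ∃ a, φ a ≠ 0 := by
      by_contra hcon
      push Not at hcon
      exact hφ (LinearMap.ext hcon)
    obtain ⟨a, ha⟩ := this
    have hxa : x • a = 0 := by
      rw [Algebra.smul_def]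
      have : algebraMap A (IsLocalRing.ResidueField A) x = 0 :=
        (IsLocalRing.residue_eq_zero_iff x).mpr hx
      rw [this, zero_mul]
    have h2 : x • φ a = x • (0 : N) := by
      rw [← map_smul, hxa, map_zero, smul_zero]
    exact ha (hreg h2)

end Groth.Agent.S5753
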