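import Groth.Statements.S5755
import Groth.Agent.Lib.helper9.LocalAlg
-- import your own Groth.Agent.* helpers here

set_option autoImplicit false
universe u
open EGA41

namespace Groth.Agent.S5755

/-- A reduced Noetherian local ring A has depth 0 if and only if A is a field. -/
theorem result (A : Type u) [CommRing A] [IsLocalRing A]
    [IsNoetherianRing A] [IsReduced A] : LocCoh.depth A A = 0 ↔ IsField A := by
  rw [Lib.helper9.LocalAlg.depth_eq_zero_iff A A]
  constructor
  · intro h
    obtain ⟨c, hc0, hc⟩ := Lib.helper9.LocalAlg.exists_ne_zero_killed_of_mem_ass A A h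
    have hcm : c ∉ IsLocalRing.maximalIdeal A := by
      intro hcm
      have h2 : c * c = 0 := hc c hcm
      have : c ^ 2 = 0 := by rw [pow_two, h2]
      exact hc0 (pow_eq_zero_iff (two_ne_zero) |>.mp this)
    have hunit : IsUnit c := by
      by_contra hnu
      exact hcm ((IsLocalRing.mem_maximalIdeal c).mpr hnu)
    have hm : IsLocalRing.maximalIdeal A = ⊥ := by
      rw [eq_bot_iff]
      intro x hx
      have : x * c = 0 := hc x hx
      have := hunit.mul_left_eq_zero.mp this
      simpa using this
    exact IsLocalRing.isField_iff_maximalIdeal_eq.mpr hm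
  · intro hF
    have hm : IsLocalRing.maximalIdeal A = ⊥ := IsLocalRing.isField_iff_maximalIdeal_eq.mp hF
    rw [hm]
    show IsAssociatedPrime (⊥ : Ideal A) A
    rw [isAssociatedPrime_iff]
    have : (⊥ : Ideal A).IsPrime := by
      rw [← hm]
      infer_instance
    refine ⟨this, 1, ?_⟩
    ext x
    rw [Submodule.mem_colon_singleton]
    simp

end Groth.Agent.S5755
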