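import Groth.Statements.S5757
import Groth.Agent.Lib.helper9.Depth4

set_option autoImplicit false
universe u
open EGA41

namespace Groth.Agent.S5757

/-- Let A be a Noetherian local ring and M a nonzero finitely generated Cohen-Macaulay A-module. Then
dim(A/p) = dim(M) for every associated prime p of M (so M has no embedded associated primes). -/
theorem result (A : Type u) [CommRing A]
    [IsLocalRing A] [IsNoetherianRing A] (M : Type u) [AddCommGroup M] [Module A M] [Module.Finite A M]
    (hM : LocCoh.IsCohenMacaulayModule A M) (p : Ideal A) (hp : p ∈ associatedPrimes A M) :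
    ringKrullDim (A ⧸ p) = Module.supportDim A M := by
  haveI := hp.isPrime
  apply le_antisymm
  · -- `V(p) ⊆ Supp M`
    have hpsupp : (⟨p, hp.isPrime⟩ : PrimeSpectrum A) ∈ Module.support A M := by
      rw [Module.mem_support_iff_of_finite]
      have := IsAssociatedPrime.annihilator_le hp
      rw [Submodule.annihilator_top] at this
      exact this
    rw [ringKrullDim_quotient]
    unfold Module.supportDim
    exact Order.krullDim_le_of_strictMono
      (fun q : PrimeSpectrum.zeroLocus (p : Set A) =>
        (⟨q.1, Module.mem_support_mono ((PrimeSpectrum.mem_zeroLocus _ _).mp q.2) hpsupp⟩ :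
          Module.support A M)) (fun q q' h => h)
  · rw [hM]
    exact Groth.Agent.Lib.helper9.Depth.depth_le_ringKrullDim_quotient_of_mem_associatedPrimes M p hp

end Groth.Agent.S5757
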