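import Groth.Statements.S5759
import Groth.Agent.Lib.helper9.Depth6
import Groth.Agent.Lib.helper9.LocalAlg
import Mathlib.RingTheory.KrullDimension.Field

set_option autoImplicit false
universe u
open EGA41

namespace Groth.Agent.S5759

/-- Let A be a Noetherian local ring and M a nonzero finitely generated A-module. Suppose that for every
sequence x_1, ..., x_r of elements of the maximal ideal which is part of a system of parameters for
M (i.e. dim(M/(x_1 M + ... + x_r M)) = dim(M) - r), every associated prime p of N = M/(x_1 M + ... +
x_r M) satisfies dim(A/p) = dim(N). Then M is a Cohen-Macaulay module. (The published convention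
also counts the zero module as Cohen-Macaulay; this row assumes M nonzero.) -/
theorem result (A : Type u) [CommRing A]
    [IsLocalRing A] [IsNoetherianRing A] (M : Type u) [AddCommGroup M] [Module A M] [Module.Finite A M]
    [Nontrivial M]
    (h : ∀ xs : List A, (∀ x ∈ xs, x ∈ IsLocalRing.maximalIdeal A) →
      Module.supportDim A (M ⧸ (Ideal.ofList xs • (⊤ : Submodule A M))) + xs.length = Module.supportDim A M →
        ∀ p ∈ associatedPrimes A (M ⧸ (Ideal.ofList xs • (⊤ : Submodule A M))),
          ringKrullDim (A ⧸ p) = Module.supportDim A (M ⧸ (Ideal.ofList xs • (⊤ : Submodule A M)))) :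
    LocCoh.IsCohenMacaulayModule A M := by
  open Groth.Agent.Lib.helper9.Depth RingTheory.Sequence in
  obtain ⟨d, hd⟩ := Groth.Agent.Lib.helper9.SemiLocalDim.exists_nat_eq_supportDim A M
  have key : ∀ k : ℕ, k ≤ d → ∃ xs : List A, xs.length = k ∧
      (∀ x ∈ xs, x ∈ IsLocalRing.maximalIdeal A) ∧ IsWeaklyRegular M xs := by
    intro k
    induction k with
    | zero =>
      intro _
      exact ⟨[], rfl, by simp, IsWeaklyRegular.nil A M⟩
    | succ k ih =>
      intro hk
      obtain ⟨xs, hlen, hxs, hreg⟩ := ih (by omega)
      haveI := nontrivial_quot_ofList M xs hxs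
      have hdim := supportDim_quot_ofList_add_length xs hxs hreg
      have hass := h xs hxs hdim
      have hex : ∃ x ∈ IsLocalRing.maximalIdeal A,
          IsSMulRegular (M ⧸ (Ideal.ofList xs • (⊤ : Submodule A M))) x := by
        by_contra hno
        push Not at hno
        have hm := Groth.Agent.Lib.helper9.LocalAlg.maximalIdeal_mem_ass_of_no_regular A _ hno
        have h1 := hass _ hm
        have h0 : ringKrullDim (A ⧸ IsLocalRing.maximalIdeal A) = 0 :=
          ringKrullDim_eq_zero_of_isField
            ((Ideal.Quotient.maximal_ideal_iff_isField_quotient _).mp inferInstance)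
        rw [h0] at h1
        rw [← h1, hd, hlen] at hdim
        have : (0 : ℕ) + k = d := by exact_mod_cast hdim
        omega
      obtain ⟨x, hx, hxreg⟩ := hex
      refine ⟨xs ++ [x], by simp [hlen], ?_, ?_⟩
      · intro y hy
        rcases List.mem_append.mp hy with hy | hy
        · exact hxs y hy
        · rw [List.mem_singleton] at hy
          exact hy ▸ hx
      · rw [isWeaklyRegular_append_iff, isWeaklyRegular_singleton_iff]
        exact ⟨hreg, hxreg⟩
  obtain ⟨xs, hlen, hxs, hreg⟩ := key d le_rfl
  have h1 : ((xs.length : ℕ∞)) ≤ LocCoh.depth A M := length_le_idealDepth hreg hxs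
  have h2 := depth_le_supportDim (R := A) M
  unfold LocCoh.IsCohenMacaulayModule
  refine le_antisymm ?_ h2
  rw [hd, ← hlen]
  exact_mod_cast h1

end Groth.Agent.S5759
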