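import Groth.Statements.S5760
import Groth.Agent.Lib.helper9.Depth9

set_option autoImplicit false
universe u
open EGA41

namespace Groth.Agent.S5760

/-- Let A be a Noetherian local ring, M a nonzero finitely generated Cohen-Macaulay A-module, p a prime
ideal in the support of M and r the integer dim(M) - dim(M/pM). Then there exists an M-regular
sequence x_1, ..., x_r of elements of p; for every such sequence, dim(M/(x_1 M + ... + x_r M)) =
dim(M/pM) = dim(A/p), and p is a minimal element of the set of associated primes of M/(x_1 M + ... +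
x_r M). -/
theorem result (A : Type u) [CommRing A]
    [IsLocalRing A] [IsNoetherianRing A] (M : Type u) [AddCommGroup M] [Module A M] [Module.Finite A M]
    (hM : LocCoh.IsCohenMacaulayModule A M) (p : PrimeSpectrum A) (hp : p ∈ Module.support A M) (r : ℕ)
    (hr : Module.supportDim A (M ⧸ (p.asIdeal • (⊤ : Submodule A M))) + r = Module.supportDim A M) :
    (∃ xs : List A, xs.length = r ∧ (∀ x ∈ xs, x ∈ p.asIdeal) ∧ RingTheory.Sequence.IsWeaklyRegular M xs) ∧
      ∀ xs : List A, xs.length = r → (∀ x ∈ xs, x ∈ p.asIdeal) → RingTheory.Sequence.IsWeaklyRegular M xs →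
        Module.supportDim A (M ⧸ (Ideal.ofList xs • (⊤ : Submodule A M))) =
            Module.supportDim A (M ⧸ (p.asIdeal • (⊤ : Submodule A M))) ∧
          Module.supportDim A (M ⧸ (p.asIdeal • (⊤ : Submodule A M))) = ringKrullDim (A ⧸ p.asIdeal) ∧
          p.asIdeal ∈ associatedPrimes A (M ⧸ (Ideal.ofList xs • (⊤ : Submodule A M))) ∧
          ∀ q ∈ associatedPrimes A (M ⧸ (Ideal.ofList xs • (⊤ : Submodule A M))), q ≤ p.asIdeal → q = p.asIdeal := by
  open Groth.Agent.Lib.helper9.Depth RingTheory.Sequence in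
  haveI := nontrivial_of_isCohenMacaulayModule hM
  have hPm : p.asIdeal ≤ IsLocalRing.maximalIdeal A := IsLocalRing.le_maximalIdeal p.2.ne_top
  have hPM : p.asIdeal • (⊤ : Submodule A M) ≠ ⊤ := fun h =>
    maximalIdeal_smul_top_ne_top (R := A) M
      (top_le_iff.mp (h.ge.trans (Submodule.smul_mono_left hPm)))
  have h2 := supportDim_eq_add_idealDepth_of_isCohenMacaulayModule p.asIdeal p.2.ne_top M hM
  obtain ⟨nc, hc⟩ := Groth.Agent.Lib.helper9.SemiLocalDim.exists_nat_eq_supportDim A M
  obtain ⟨ng, hg⟩ := exists_nat_eq_idealDepth (I := p.asIdeal) M hPM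
  rcases supportDim_eq_bot_or_nat (R := A) (M ⧸ (p.asIdeal • (⊤ : Submodule A M))) with
    hb | ⟨nb, hb⟩
  · rw [hb, WithBot.bot_add, hc] at h2
    exact absurd h2 (by simp)
  have hr' : nb + r = nc := by
    rw [hb, hc] at hr
    exact_mod_cast hr
  have h2' : nc = nb + ng := by
    rw [hb, hc, hg] at h2
    exact_mod_cast h2
  have hrg : r = ng := by omega
  -- dim (M/pM) = dim (A/p)
  have hsupp : Module.support A (M ⧸ (p.asIdeal • (⊤ : Submodule A M))) =
      PrimeSpectrum.zeroLocus (p.asIdeal : Set A) := by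
    rw [Module.support_quotient]
    apply Set.inter_eq_right.mpr
    intro q hq
    exact Module.mem_support_mono ((PrimeSpectrum.mem_zeroLocus _ _).mp hq) hp
  have hdimp : Module.supportDim A (M ⧸ (p.asIdeal • (⊤ : Submodule A M))) =
      ringKrullDim (A ⧸ p.asIdeal) := by
    rw [ringKrullDim_quotient]
    unfold Module.supportDim
    rw [hsupp]
  refine ⟨?_, ?_⟩
  · have : ((r : ℕ) : ℕ∞) ≤ LocCoh.idealDepth p.asIdeal M := by
      rw [hg, hrg]
    obtain ⟨xs, hlen, hreg, hmem⟩ := (le_idealDepth_iff hPM r).mp this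
    exact ⟨xs, hlen, hmem, hreg⟩
  · intro xs hlen hmem hreg
    have hxsm : ∀ x ∈ xs, x ∈ IsLocalRing.maximalIdeal A := fun x hx => hPm (hmem x hx)
    have hN := isCohenMacaulayModule_quot_ofList hM xs hxsm hreg
    have hdimN := supportDim_quot_ofList_add_length xs hxsm hreg
    haveI := nontrivial_quot_ofList M xs hxsm
    obtain ⟨nn, hnn⟩ := Groth.Agent.Lib.helper9.SemiLocalDim.exists_nat_eq_supportDim A
      (M ⧸ (Ideal.ofList xs • (⊤ : Submodule A M)))
    have hnn' : nn + r = nc := by
      rw [hnn, hc, hlen] at hdimN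
      exact_mod_cast hdimN
    have hNb : Module.supportDim A (M ⧸ (Ideal.ofList xs • (⊤ : Submodule A M))) =
        Module.supportDim A (M ⧸ (p.asIdeal • (⊤ : Submodule A M))) := by
      rw [hnn, hb]
      have : nn = nb := by omega
      exact_mod_cast this
    -- key: an associated prime of N below p equals p
    have key : ∀ q ∈ associatedPrimes A (M ⧸ (Ideal.ofList xs • (⊤ : Submodule A M))),
        q ≤ p.asIdeal → q = p.asIdeal := by
      intro q hq hqp
      haveI := hq.isPrime
      by_contra hne
      have hlt : q < p.asIdeal := lt_of_le_of_ne hqp hne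
      have h1 := ringKrullDim_quotient_add_one_le_of_lt hlt
      have h3 := ringKrullDim_quotient_eq_supportDim_of_isCohenMacaulayModule hN hq
      rw [h3, hNb, ← hdimp, hb] at h1
      have : nb + 1 ≤ nb := by exact_mod_cast h1
      omega
    refine ⟨hNb, hdimp, ?_, key⟩
    -- `p ∈ Supp N`, take a minimal prime below
    have hpN : Module.annihilator A (M ⧸ (Ideal.ofList xs • (⊤ : Submodule A M))) ≤ p.asIdeal := by
      rw [← Module.mem_support_iff_of_finite, Module.support_quotient]
      exact ⟨hp, (PrimeSpectrum.mem_zeroLocus _ _).mpr (Ideal.span_le.mpr hmem)⟩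
    obtain ⟨q, hqmin, hqp⟩ := Ideal.exists_minimalPrimes_le hpN
    have hq := Module.associatedPrimes.minimalPrimes_annihilator_subset_associatedPrimes A
      (M ⧸ (Ideal.ofList xs • (⊤ : Submodule A M))) hqmin
    rw [← key q hq hqp]
    exact hq

end Groth.Agent.S5760
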