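import Groth.Statements.S5764
import Mathlib.RingTheory.IntegralClosure.GoingDown
import Mathlib.RingTheory.Ideal.GoingDown
import Mathlib.RingTheory.Ideal.GoingUp
import Mathlib.RingTheory.Ideal.KrullsHeightTheorem
-- import your own Groth.Agent.* helpers here

set_option autoImplicit false
universe u
open EGA41

namespace Groth.Agent.S5764

/-- Let B be an integral domain, A a local subring of B which is integrally closed (in its field of
fractions), and suppose B is integral over A. Then dim(B_n) = dim(A) for every maximal ideal n of B. -/
theorem result (A B : Type u) [CommRing A]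
    [CommRing B] [IsDomain B] [Algebra A B] (hinj : Function.Injective (algebraMap A B)) [IsDomain A]
    [IsLocalRing A] [IsIntegrallyClosed A] [Algebra.IsIntegral A B] (n : Ideal B) [n.IsMaximal] :
    ringKrullDim (Localization.AtPrime n) = ringKrullDim A := by
  haveI : FaithfulSMul A B := (faithfulSMul_iff_algebraMap_injective A B).mpr hinj
  have hcomap : n.comap (algebraMap A B) = IsLocalRing.maximalIdeal A := by
    haveI := Ideal.isMaximal_comap_of_isIntegral_of_isMaximal (R := A) n
    exact IsLocalRing.eq_maximalIdeal this
  rw [IsLocalization.AtPrime.ringKrullDim_eq_height n (Localization.AtPrime n),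
    ← IsLocalRing.maximalIdeal_height_eq_ringKrullDim]
  have h1 := PrimeSpectrum.height_eq_orderHeight (⟨n, inferInstance⟩ : PrimeSpectrum B)
  have h2 := PrimeSpectrum.height_eq_orderHeight (IsLocalRing.closedPoint A)
  change n.height = _ at h1
  change (IsLocalRing.maximalIdeal A).height = _ at h2
  rw [h1, h2]
  congr 1
  apply le_antisymm
  · have hsm : StrictMono (PrimeSpectrum.comap (algebraMap A B)) := by
      intro p q hpq
      exact Ideal.IsIntegral.comap_lt_comap (R := A) hpq
    have := Order.height_le_height_apply_of_strictMono _ hsm (⟨n, inferInstance⟩ : PrimeSpectrum B)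
    refine this.trans (le_of_eq ?_)
    congr 1
    ext1
    exact hcomap
  · rw [Order.height_le_iff']
    intro l hl
    haveI : n.LiesOver l.last.asIdeal := by
      constructor
      rw [hl]
      exact hcomap.symm
    obtain ⟨L, hlen, hlast, -⟩ := Ideal.exists_ltSeries_of_hasGoingDown l n
    rw [← hlen]
    exact Order.length_le_height (le_of_eq hlast)

end Groth.Agent.S5764
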