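import Groth.Statements.S5766
import Groth.Agent.Lib.helper9.IntegralDim
import Mathlib.RingTheory.KrullDimension.Module
import Mathlib.RingTheory.Noetherian.Basic
import Mathlib.RingTheory.IntegralClosure.IsIntegralClosure.Basic

set_option autoImplicit false
universe u
open EGA41

namespace Groth.Agent.S5766

/-- Let A be a Noetherian ring, ρ : A → B a ring homomorphism and M a B-module which is finitely
generated as an A-module via ρ. Then the dimension of M as an A-module equals its dimension as a
B-module. -/
theorem result (A B : Type u) [CommRing A] [CommRing B] [IsNoetherianRing A]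
    [Algebra A B] (M : Type u) [AddCommGroup M] [Module B M] [Module A M] [IsScalarTower A B M]
    [Module.Finite A M] : Module.supportDim A M = Module.supportDim B M := by
  haveI : Module.Finite B M := Module.Finite.of_restrictScalars_finite A B M
  rw [Module.supportDim_eq_ringKrullDim_quotient_annihilator (R := A),
    Module.supportDim_eq_ringKrullDim_quotient_annihilator (R := B)]
  set I : Ideal B := Module.annihilator B M with hI
  have hcomap : I.comap (algebraMap A B) = Module.annihilator A M := Module.comap_annihilator
  rw [← hcomap]
  haveI : IsNoetherian A M := isNoetherian_of_isNoetherianRing_of_finite A M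
  -- `B ⧸ I` embeds `A`-linearly into `End_A M`
  let f : B →ₐ[A] Module.End A M := Algebra.lsmul A A M
  have hf : ∀ b ∈ I, f b = 0 := by
    intro b hb
    ext m
    exact Module.mem_annihilator.mp hb m
  let g : (B ⧸ I) →ₐ[A] Module.End A M := Ideal.Quotient.liftₐ I f hf
  have hg : Function.Injective g := by
    rw [injective_iff_map_eq_zero]
    intro x hx
    obtain ⟨b, rfl⟩ := Ideal.Quotient.mk_surjective x
    rw [Ideal.Quotient.eq_zero_iff_mem]
    refine Module.mem_annihilator.mpr (fun m => ?_)
    have : f b = 0 := hx
    exact LinearMap.congr_fun this m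
  haveI : Module.Finite A (B ⧸ I) := Module.Finite.of_injective g.toLinearMap hg
  haveI : Algebra.IsIntegral A (B ⧸ I) := Algebra.IsIntegral.of_finite A (B ⧸ I)
  haveI : Algebra.IsIntegral (A ⧸ I.comap (algebraMap A B)) (B ⧸ I) :=
    Algebra.IsIntegral.tower_top A
  exact Groth.Agent.Lib.helper9.IntegralDim.ringKrullDim_eq_of_isIntegral_of_injective _ _
    Ideal.algebraMap_quotient_injective

end Groth.Agent.S5766
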