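import Groth.Statements.S5771
import Groth.Agent.S5769
import Mathlib.RingTheory.KrullDimension.NonZeroDivisors

set_option autoImplicit false
universe u
open EGA41

namespace Groth.Agent.S5771

/-- Let φ : A → B be a local homomorphism of Noetherian local rings, m the maximal ideal of A, and
suppose mB is an ideal of definition of B (equivalently dim(B/mB) = 0). Then dim(B) ≤ dim(A); if
moreover A is an integral domain and dim(A) = dim(B), then φ is injective. -/
theorem result (A B : Type u) [CommRing A] [CommRing B]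
    [IsLocalRing A] [IsLocalRing B] [IsNoetherianRing A] [IsNoetherianRing B] [Algebra A B]
    [IsLocalHom (algebraMap A B)]
    (hdef : ringKrullDim (B ⧸ (IsLocalRing.maximalIdeal A).map (algebraMap A B)) = 0) :
    ringKrullDim B ≤ ringKrullDim A ∧
      (IsDomain A → ringKrullDim A = ringKrullDim B → Function.Injective (algebraMap A B)) := by
  have hle : ringKrullDim B ≤ ringKrullDim A := by
    have h := Groth.Agent.S5769.result A B
    rwa [hdef, add_zero] at h
  refine ⟨hle, fun hdom heq => ?_⟩
  rw [injective_iff_map_eq_zero]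
  intro x hx
  by_contra hx0
  let K : Ideal A := Ideal.span {x}
  have hxm : x ∈ IsLocalRing.maximalIdeal A := by
    rw [IsLocalRing.mem_maximalIdeal]
    intro hu
    have := hu.map (algebraMap A B)
    rw [hx] at this
    exact not_isUnit_zero this
  have hK : K ≤ IsLocalRing.maximalIdeal A := (Ideal.span_singleton_le_iff_mem _).mpr hxm
  have hKne : K ≠ ⊤ := fun h =>
    (IsLocalRing.maximalIdeal.isMaximal A).ne_top (top_le_iff.mp (h ▸ hK))
  let ψ : A ⧸ K →+* B := Ideal.Quotient.lift K (algebraMap A B) (by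
    intro a ha
    obtain ⟨c, rfl⟩ := Ideal.mem_span_singleton'.mp ha
    rw [map_mul, hx, mul_zero])
  have hψ : ψ.comp (Ideal.Quotient.mk K) = algebraMap A B := Ideal.Quotient.lift_comp_mk _ _ _
  letI : Algebra (A ⧸ K) B := ψ.toAlgebra
  haveI : Nontrivial (A ⧸ K) := Ideal.Quotient.nontrivial_iff.mpr hKne
  haveI : IsLocalRing (A ⧸ K) :=
    IsLocalRing.of_surjective' (Ideal.Quotient.mk K) Ideal.Quotient.mk_surjective
  haveI : IsLocalHom (algebraMap (A ⧸ K) B) := by
    constructor
    intro a h
    obtain ⟨a, rfl⟩ := Ideal.Quotient.mk_surjective a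
    have h' : IsUnit (algebraMap A B a) := h
    exact (isUnit_of_map_unit (algebraMap A B) a h').map (Ideal.Quotient.mk K)
  have h1 := Groth.Agent.S5769.result (A ⧸ K) B
  have hmax : IsLocalRing.maximalIdeal (A ⧸ K) =
      (IsLocalRing.maximalIdeal A).map (Ideal.Quotient.mk K) := by
    symm
    apply IsLocalRing.eq_maximalIdeal
    exact Ideal.IsMaximal.map_of_surjective_of_ker_le Ideal.Quotient.mk_surjective
      (by simpa using hK)
  have hmap : (IsLocalRing.maximalIdeal (A ⧸ K)).map (algebraMap (A ⧸ K) B) =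
      (IsLocalRing.maximalIdeal A).map (algebraMap A B) := by
    rw [hmax, Ideal.map_map]
    change Ideal.map (ψ.comp (Ideal.Quotient.mk K)) _ = _
    rw [hψ]
  rw [hmap, hdef, add_zero] at h1
  have h2 : ringKrullDim (A ⧸ K) + 1 ≤ ringKrullDim A :=
    ringKrullDim_quotient_succ_le_of_nonZeroDivisor (mem_nonZeroDivisors_of_ne_zero hx0)
  have h3 : ringKrullDim B + 1 ≤ ringKrullDim B := by
    calc ringKrullDim B + 1 ≤ ringKrullDim (A ⧸ K) + 1 := by gcongr
      _ ≤ ringKrullDim A := h2
      _ = ringKrullDim B := heq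
  have hfin : ringKrullDim B ≠ ⊤ := ringKrullDim_ne_top
  have hbot : ringKrullDim B ≠ ⊥ := ringKrullDim_ne_bot
  obtain ⟨n, hn⟩ : ∃ n : ℕ, ringKrullDim B = n := by
    cases hB : ringKrullDim B with
    | bot => exact absurd hB hbot
    | coe m =>
      cases m with
      | top => exact absurd hB hfin
      | coe n => exact ⟨n, rfl⟩
  rw [hn] at h3
  have : ((n + 1 : ℕ) : WithBot ℕ∞) ≤ (n : ℕ) := by exact_mod_cast h3
  have : n + 1 ≤ n := by exact_mod_cast this
  omega

end Groth.Agent.S5771
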