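import Mathlib
import Groth.Statements.S5772
-- import your own Groth.Agent.* helpers here

set_option autoImplicit false
universe u
open scoped Pointwise
open EGA41

namespace Groth.Agent.S5772

/-- Let A be a Noetherian ring, M a finitely generated A-module and f an element of A. Then f is
M-regular (multiplication by f on M is injective) if and only if f is M-quasi-regular, i.e. the
canonical surjection (M/fM)[T] → gr(M) for the (f)-adic filtration is bijective, which amounts to:
for every k ≥ 0 and x ∈ M, f^k x ∈ f^(k+1) M implies x ∈ fM. -/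
theorem result (A : Type u) [CommRing A] [IsNoetherianRing A] (M : Type u)
    [AddCommGroup M] [Module A M] [Module.Finite A M] (f : A) :
    IsSMulRegular M f ↔
      ∀ (k : ℕ) (x : M), f ^ k • x ∈ f ^ (k + 1) • (⊤ : Submodule A M) → x ∈ f • (⊤ : Submodule A M) := by
  constructor
  · intro hreg k x hx
    rw [Submodule.mem_smul_pointwise_iff_exists] at hx
    obtain ⟨y, -, hy⟩ := hx
    have hk : IsSMulRegular M (f ^ k) := hreg.pow k
    have : f ^ k • (f • y) = f ^ k • x := by
      rw [← hy, pow_succ, mul_smul]
    have hxy : f • y = x := hk this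
    rw [Submodule.mem_smul_pointwise_iff_exists]
    exact ⟨y, trivial, hxy⟩
  · intro h
    intro x x' hxx'
    have hz : f • (x - x') = 0 := by
      have : f • x = f • x' := hxx'
      rw [smul_sub, this, sub_self]
    suffices hzero : x - x' = 0 from sub_eq_zero.mp hzero
    set z := x - x' with hzdef
    -- z ∈ ⋂ f^n M
    have hind : ∀ n : ℕ, ∃ y : M, z = f ^ n • y ∧ f ^ (n + 1) • y = 0 := by
      intro n
      induction n with
      | zero => exact ⟨z, by simp, by simpa using hz⟩
      | succ n ih =>
        obtain ⟨y, hy1, hy2⟩ := ih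
        have hmem : f ^ (n + 1) • y ∈ f ^ (n + 1 + 1) • (⊤ : Submodule A M) := by
          rw [hy2]
          exact Submodule.zero_mem _
        have := h (n + 1) y hmem
        rw [Submodule.mem_smul_pointwise_iff_exists] at this
        obtain ⟨y', -, hy'⟩ := this
        refine ⟨y', ?_, ?_⟩
        · rw [hy1, ← hy', pow_succ, mul_smul]
        · rw [← hy2, ← hy', pow_succ (f) (n + 1), mul_smul]
    have hmem : z ∈ (⨅ i : ℕ, (Ideal.span {f}) ^ i • ⊤ : Submodule A M) := by
      rw [Submodule.mem_iInf]
      intro i
      obtain ⟨y, hy1, -⟩ := hind i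
      rw [Ideal.span_singleton_pow, Submodule.ideal_span_singleton_smul, hy1]
      exact Submodule.smul_mem_pointwise_smul y (f ^ i) ⊤ trivial
    obtain ⟨⟨r, hr⟩, hrz⟩ := (Ideal.mem_iInf_smul_pow_eq_bot_iff (Ideal.span {f}) z).mp hmem
    obtain ⟨a, rfl⟩ := Ideal.mem_span_singleton'.mp hr
    have : (a * f) • z = z := hrz
    rw [mul_smul, hz, smul_zero] at this
    exact this.symm

end Groth.Agent.S5772
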