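import Groth.Statements.S5775
import Mathlib
import Groth.Agent.Lib.helper24.RegFlat
import Groth.Agent.Lib.helper14.AdicExact

set_option autoImplicit false
universe u
open EGA41

namespace Groth.Agent.S5775



/-- Let A → B be a local homomorphism of Noetherian local rings, m the maximal ideal of A, M a finitely
generated B-module flat over A and R a B-submodule of M such that M/R is flat over A. Let f_1, ...,
f_n be elements of the maximal ideal of B such that (i) f_i M ⊆ R for all i, (ii) the images of the
f_i form an (M/mM)-regular sequence, and (iii) the submodule f_1 (M/mM) + ... + f_n (M/mM) is the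
image of R in M/mM. Then (f_i) is an M-regular sequence and R = f_1 M + ... + f_n M. -/
theorem result (A B : Type u) [CommRing A] [CommRing B] [IsLocalRing A]
    [IsLocalRing B] [IsNoetherianRing A] [IsNoetherianRing B] [Algebra A B] [IsLocalHom (algebraMap A B)]
    (M : Type u) [AddCommGroup M] [Module B M] [Module A M] [IsScalarTower A B M] [Module.Finite B M]
    [Module.Flat A M] (R : Submodule B M) (hR : Module.Flat A (M ⧸ R)) (fs : List B)
    (hfs : ∀ f ∈ fs, f ∈ IsLocalRing.maximalIdeal B) (h1 : Ideal.ofList fs • (⊤ : Submodule B M) ≤ R)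
    (h2 : RingTheory.Sequence.IsWeaklyRegular
      (M ⧸ ((IsLocalRing.maximalIdeal A).map (algebraMap A B) • (⊤ : Submodule B M))) fs)
    (h3 : Ideal.ofList fs • (⊤ : Submodule B
        (M ⧸ ((IsLocalRing.maximalIdeal A).map (algebraMap A B) • (⊤ : Submodule B M)))) =
      R.map ((IsLocalRing.maximalIdeal A).map (algebraMap A B) • (⊤ : Submodule B M)).mkQ) :
    RingTheory.Sequence.IsWeaklyRegular M fs ∧ R = Ideal.ofList fs • (⊤ : Submodule B M) := by
  refine ⟨(Groth.Agent.Lib.helper24.RegFlat.reg_and_flat_of_fibre fs M h2).1, le_antisymm ?_ h1⟩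
  have hRfg : R.FG := IsNoetherian.noetherian R
  refine Submodule.le_of_le_smul_of_le_jacobson_bot (I := IsLocalRing.maximalIdeal B) hRfg
    (by rw [IsLocalRing.jacobson_eq_maximalIdeal ⊥ bot_ne_top]) ?_
  intro x hx
  set P := ((IsLocalRing.maximalIdeal A).map (algebraMap A B) • (⊤ : Submodule B M)) with hP
  have hx1 : P.mkQ x ∈ Submodule.map P.mkQ (Ideal.ofList fs • (⊤ : Submodule B M)) := by
    rw [Submodule.map_smul'', Submodule.map_top, Submodule.range_mkQ, h3]
    exact ⟨x, hx, rfl⟩
  obtain ⟨r', hr', hr'x⟩ := hx1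
  have hy : x - r' ∈ P := by
    rw [← Submodule.Quotient.mk_eq_zero, Submodule.Quotient.mk_sub, sub_eq_zero]
    exact hr'x.symm
  have hyR : x - r' ∈ R := R.sub_mem hx (h1 hr')
  have hyA : x - r' ∈ (IsLocalRing.maximalIdeal A) • (⊤ : Submodule A M) :=
    Groth.Agent.H21.mem_smul_of_mem_map_smul (S := B) _ hy
  have key := H14.smul_top_inf_range_le_of_flat (R := A) (K := R) (M := M) (N := M ⧸ R)
    (R.subtype.restrictScalars A) (R.mkQ.restrictScalars A) Subtype.val_injective
    (Submodule.mkQ_surjective R) (by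
      intro z
      show R.mkQ z = 0 ↔ _
      rw [Submodule.mkQ_apply, Submodule.Quotient.mk_eq_zero]
      constructor
      · intro hz; exact ⟨⟨z, hz⟩, rfl⟩
      · rintro ⟨w, rfl⟩; exact w.2) (IsLocalRing.maximalIdeal A)
  have hmem : x - r' ∈ Submodule.map (R.subtype.restrictScalars A)
      ((IsLocalRing.maximalIdeal A) • (⊤ : Submodule A R)) :=
    key ⟨hyA, ⟨⟨x - r', hyR⟩, rfl⟩⟩
  obtain ⟨k, hk, hkx⟩ := hmem
  have hk' : ∀ k : R, k ∈ (IsLocalRing.maximalIdeal A) • (⊤ : Submodule A R) →
      (k : M) ∈ IsLocalRing.maximalIdeal B • R := by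
    intro k hk
    refine Submodule.smul_induction_on
      (p := fun k : R => (k : M) ∈ IsLocalRing.maximalIdeal B • R) hk ?_ ?_
    · intro a ha n _
      have e1 : ((a • n : R) : M) = algebraMap A B a • (n : M) := by
        rw [algebraMap_smul]; rfl
      rw [e1]
      refine Submodule.smul_mem_smul ?_ n.2
      exact IsLocalRing.map_maximalIdeal_le (algebraMap A B) (Ideal.mem_map_of_mem _ ha)
    · intro y z hy hz
      rw [Submodule.coe_add]
      exact Submodule.add_mem _ hy hz
  have hfin : x = r' + (x - r') := by abel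
  rw [hfin]
  refine Submodule.add_mem_sup hr' ?_
  rw [← hkx]
  exact hk' k hk

end Groth.Agent.S5775
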