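import Groth.Statements.S5777
import Mathlib
import Groth.Agent.Lib.helper24.NilFlat
import Groth.Agent.Lib.helper24.NilFlat2
import Groth.Agent.Lib.helper21.FlatCrit

set_option autoImplicit false
universe u
open EGA41

namespace Groth.Agent.S5777

namespace S5777aux
open TensorProduct Function Groth.Agent.Lib.helper24.NilFlat
open scoped Pointwise

section
variable {A : Type u} [CommRing A]

noncomputable def mu (J : Ideal A) (M : Type u) [AddCommGroup M] [Module A M] : ↥J ⊗[A] M →ₗ[A] M :=
  (TensorProduct.lid A M).toLinearMap ∘ₗ (J.subtype.rTensor M)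

@[simp] theorem mu_tmul (J : Ideal A) (M : Type u) [AddCommGroup M] [Module A M] (j : J) (x : M) :
    mu J M (j ⊗ₜ[A] x) = (j : A) • x := by
  simp [mu]

theorem mu_eq_zero_iff (J : Ideal A) (M : Type u) [AddCommGroup M] [Module A M] (t : ↥J ⊗[A] M) :
    mu J M t = 0 ↔ (J.subtype.rTensor M) t = 0 := by
  unfold mu
  rw [LinearMap.comp_apply, LinearEquiv.coe_coe, LinearEquiv.map_eq_zero_iff]

theorem tor_free_of_regular : ∀ (fs : List A) (M : Type u) [AddCommGroup M] [Module A M],
    RingTheory.Sequence.IsWeaklyRegular M fs →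
    Injective ((Ideal.ofList fs).subtype.rTensor M) := by
  intro fs
  induction fs with
  | nil =>
    intro M _ _ _
    have : ∀ t : ↥(Ideal.ofList ([] : List A)) ⊗[A] M, t = 0 := by
      intro t
      induction t using TensorProduct.induction_on with
      | zero => rfl
      | add x y hx hy => rw [hx, hy, add_zero]
      | tmul j x =>
        have hjj : ∀ a : A, a ∈ Ideal.ofList ([] : List A) → a = 0 := by
          intro a ha
          rwa [Ideal.ofList_nil, Ideal.mem_bot] at ha
        have hj : j = 0 := Subtype.ext (hjj j j.2)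
        rw [hj, zero_tmul]
    intro x y _
    rw [this x, this y]
  | cons f fs ih =>
    intro M _ _ h
    obtain ⟨hf, hfs⟩ := (RingTheory.Sequence.isWeaklyRegular_cons_iff M f fs).mp h
    have hle : Ideal.ofList fs ≤ Ideal.ofList (f :: fs) := by
      rw [Ideal.ofList_cons]
      exact le_sup_right
    have hfJ : f ∈ Ideal.ofList (f :: fs) := by
      rw [Ideal.ofList_cons]
      exact Ideal.mem_sup_left (Ideal.mem_span_singleton_self f)
    let f' : ↥(Ideal.ofList (f :: fs)) := ⟨f, hfJ⟩
    let ι := (Submodule.inclusion hle).rTensor M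
    have hμι : ∀ s, mu (Ideal.ofList (f :: fs)) M (ι s) = mu (Ideal.ofList fs) M s := by
      intro s
      induction s using TensorProduct.induction_on with
      | zero => simp
      | add x y hx hy => simp only [map_add, hx, hy]
      | tmul j x => simp [ι]
    have hdecomp : ∀ t : ↥(Ideal.ofList (f :: fs)) ⊗[A] M, ∃ (x₀ : M) (s' : ↥(Ideal.ofList fs) ⊗[A] M),
        t = f' ⊗ₜ[A] x₀ + ι s' := by
      intro t
      induction t using TensorProduct.induction_on with
      | zero => exact ⟨0, 0, by simp⟩
      | add x y hx hy =>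
        obtain ⟨x₀, s', rfl⟩ := hx
        obtain ⟨y₀, u', rfl⟩ := hy
        refine ⟨x₀ + y₀, s' + u', ?_⟩
        rw [tmul_add, map_add]
        abel
      | tmul j x =>
        have hmem : ∀ b : A, b ∈ Ideal.ofList (f :: fs) →
            ∃ y ∈ Ideal.span {f}, ∃ z ∈ Ideal.ofList fs, y + z = b := by
          intro b hb
          rwa [Ideal.ofList_cons, Submodule.mem_sup] at hb
        obtain ⟨y, hy, z, hz, hyz⟩ := hmem j j.2
        obtain ⟨a, rfl⟩ := Ideal.mem_span_singleton'.mp hy
        refine ⟨a • x, (⟨z, hz⟩ : ↥(Ideal.ofList fs)) ⊗ₜ[A] x, ?_⟩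
        have hj' : j = a • f' + Submodule.inclusion hle ⟨z, hz⟩ := by
          apply Subtype.ext
          simp [f', ← hyz]
        rw [hj', add_tmul, smul_tmul]
        rfl
    rw [injective_iff_map_eq_zero]
    intro t ht
    rw [← mu_eq_zero_iff] at ht
    obtain ⟨x₀, s', rfl⟩ := hdecomp t
    rw [map_add, mu_tmul, hμι] at ht
    -- ht : f • x₀ + mu s' = 0
    let π : M →ₗ[A] QuotSMulTop f M := Submodule.mkQ (f • (⊤ : Submodule A M))
    have hπ : Surjective π := Submodule.mkQ_surjective _
    have hπμ : ∀ s, mu (Ideal.ofList fs) (QuotSMulTop f M) ((π.lTensor _) s) =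
        π (mu (Ideal.ofList fs) M s) := by
      intro s
      induction s using TensorProduct.induction_on with
      | zero => simp
      | add x y hx hy => simp only [map_add, hx, hy]
      | tmul j x => simp
    have h3 : (π.lTensor ↥(Ideal.ofList fs)) s' = 0 := by
      apply ih (QuotSMulTop f M) hfs
      rw [map_zero, ← mu_eq_zero_iff, hπμ]
      have : mu (Ideal.ofList fs) M s' = - (f • x₀) := by
        rw [eq_neg_iff_add_eq_zero, add_comm]
        exact ht
      rw [this, map_neg, neg_eq_zero]
      show (Submodule.Quotient.mk (f • x₀) : QuotSMulTop f M) = 0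
      rw [Submodule.Quotient.mk_eq_zero]
      exact Submodule.smul_mem_pointwise_smul x₀ f ⊤ Submodule.mem_top
    have hex : Exact (LinearMap.lsmul A M f) π := by
      intro y
      show (Submodule.Quotient.mk y : QuotSMulTop f M) = 0 ↔ _
      rw [Submodule.Quotient.mk_eq_zero, Submodule.mem_smul_pointwise_iff_exists]
      constructor
      · rintro ⟨x, -, rfl⟩
        exact ⟨x, rfl⟩
      · rintro ⟨x, rfl⟩
        exact ⟨x, Submodule.mem_top, rfl⟩
    obtain ⟨s, hs⟩ := (lTensor_exact ↥(Ideal.ofList fs) hex hπ _).mp h3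
    have hsm : ∀ s : ↥(Ideal.ofList fs) ⊗[A] M,
        ((LinearMap.lsmul A M f).lTensor ↥(Ideal.ofList fs)) s = f • s := by
      intro s
      induction s using TensorProduct.induction_on with
      | zero => simp
      | add x y hx hy => simp only [map_add, smul_add, hx, hy]
      | tmul j x => simp
    have hs' : s' = f • s := by
      rw [← hs, hsm]
    have h5 : x₀ = - mu (Ideal.ofList fs) M s := by
      have : f • (x₀ + mu (Ideal.ofList fs) M s) = f • (0 : M) := by
        rw [smul_add, ← map_smul, ← hs', ht, smul_zero]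
      have := hf this
      rw [eq_neg_iff_add_eq_zero]
      exact this
    have h6 : ∀ s : ↥(Ideal.ofList fs) ⊗[A] M,
        f' ⊗ₜ[A] (mu (Ideal.ofList fs) M s) = f • ι s := by
      intro s
      induction s using TensorProduct.induction_on with
      | zero => simp
      | add x y hx hy => simp only [map_add, tmul_add, smul_add, hx, hy]
      | tmul j x =>
        rw [mu_tmul]
        show f' ⊗ₜ[A] ((j : A) • x) = f • ((Submodule.inclusion hle j) ⊗ₜ[A] x)
        rw [← smul_tmul, smul_tmul']
        congr 1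
        apply Subtype.ext
        simp [f', mul_comm]
    rw [h5, tmul_neg, h6, hs', map_smul, neg_add_cancel]

end


theorem inj_transport {A N M : Type u} [CommRing A] [AddCommGroup N] [Module A N] [AddCommGroup M]
    [Module A M] (P P' : Submodule A N) (h : P = P') (hP : Injective (P.subtype.rTensor M)) :
    Injective (P'.subtype.rTensor M) := by
  subst h
  exact hP

theorem flat_quot_pow {A : Type u} [CommRing A] (J : Ideal A) (M : Type u) [AddCommGroup M]
    [Module A M] [Module.Flat (A ⧸ J) ((A ⧸ J) ⊗[A] M)] (h3 : Injective (J.subtype.rTensor M))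
    (n : ℕ) : Module.Flat (A ⧸ J ^ n) ((A ⧸ J ^ n) ⊗[A] M) := by
  have hnil : (J.map (algebraMap A (A ⧸ J ^ n))) ^ n = ⊥ := by
    rw [← Ideal.map_pow, Ideal.Quotient.algebraMap_eq, Ideal.map_quotient_self]
  haveI : Module.Flat ((A ⧸ J ^ n) ⧸ J.map (algebraMap A (A ⧸ J ^ n)))
      (((A ⧸ J ^ n) ⧸ J.map (algebraMap A (A ⧸ J ^ n))) ⊗[A] M) :=
    flat_baseChange_of_flat_baseChange A (A ⧸ J) _ M
  haveI : Module.Flat ((A ⧸ J ^ n) ⧸ J.map (algebraMap A (A ⧸ J ^ n)))
      (((A ⧸ J ^ n) ⧸ J.map (algebraMap A (A ⧸ J ^ n))) ⊗[A ⧸ J ^ n] ((A ⧸ J ^ n) ⊗[A] M)) :=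
    flat_baseChange_baseChange A (A ⧸ J ^ n) _ M
  refine flat_of_isNilpotent (J.map (algebraMap A (A ⧸ J ^ n))) ((A ⧸ J ^ n) ⊗[A] M) ⟨n, hnil⟩ ?_
  rw [rTensor_baseChange_injective_iff]
  have hQ := Q J M h3 (A ⧸ J ^ n)
  have heq : (J • ⊤ : Submodule A (A ⧸ J ^ n)) =
      (J.map (algebraMap A (A ⧸ J ^ n))).restrictScalars A := Ideal.smul_top_eq_map J
  have hQ' := inj_transport _ _ heq hQ
  let e := (Submodule.restrictScalarsEquiv A (A ⧸ J ^ n) (A ⧸ J ^ n)
    (J.map (algebraMap A (A ⧸ J ^ n)))).restrictScalars A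
  have hcomp : ((J.map (algebraMap A (A ⧸ J ^ n))).restrictScalars A).subtype =
      ((J.map (algebraMap A (A ⧸ J ^ n))).subtype.restrictScalars A) ∘ₗ e.toLinearMap := by
    ext x
    rfl
  rw [hcomp, LinearMap.rTensor_comp] at hQ'
  intro x y hxy
  obtain ⟨x', rfl⟩ := (LinearEquiv.rTensor M e).surjective x
  obtain ⟨y', rfl⟩ := (LinearEquiv.rTensor M e).surjective y
  have := hQ' (a₁ := x') (a₂ := y') hxy
  rw [this]

end S5777aux

open TensorProduct in

/-- Let φ : A → B be a local homomorphism of Noetherian local rings, M a finitely generated B-module and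
(f_i)_{1 ≤ i ≤ n} an A-regular sequence of elements of the maximal ideal of A, generating the ideal
J. Then M is flat over A if and only if M/JM is flat over A/J and (f_i) is an M-regular sequence. -/
theorem result (A B : Type u) [CommRing A] [CommRing B]
    [IsLocalRing A] [IsLocalRing B] [IsNoetherianRing A] [IsNoetherianRing B] [Algebra A B]
    [IsLocalHom (algebraMap A B)] (M : Type u) [AddCommGroup M] [Module B M] [Module A M]
    [IsScalarTower A B M] [Module.Finite B M] (fs : List A) (hfs : ∀ f ∈ fs, f ∈ IsLocalRing.maximalIdeal A)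
    (hA : RingTheory.Sequence.IsWeaklyRegular A fs) :
    Module.Flat A M ↔
      Module.Flat (A ⧸ Ideal.ofList fs) (M ⧸ (Ideal.ofList fs • (⊤ : Submodule A M))) ∧
        RingTheory.Sequence.IsWeaklyRegular M fs := by
  let e := (TensorProduct.quotTensorEquivQuotSMul M (Ideal.ofList fs)).extendScalarsOfSurjective
    (Ideal.Quotient.mk_surjective (I := Ideal.ofList fs))
  constructor
  · intro hflat
    refine ⟨Module.Flat.of_linearEquiv e.symm, ?_⟩
    have h1 := hA.isWeaklyRegular_lTensor (M₂ := M)
    exact ((TensorProduct.rid A M).isWeaklyRegular_congr fs).mp h1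
  · rintro ⟨hflat, hreg⟩
    haveI : Module.Flat (A ⧸ Ideal.ofList fs) ((A ⧸ Ideal.ofList fs) ⊗[A] M) :=
      Module.Flat.of_linearEquiv e
    have h3 := S5777aux.tor_free_of_regular fs M hreg
    have hJ : (Ideal.ofList fs).map (algebraMap A B) ≤ Ideal.jacobson ⊥ := by
      rw [IsLocalRing.jacobson_eq_maximalIdeal ⊥ bot_ne_top]
      have h1 : Ideal.ofList fs ≤ IsLocalRing.maximalIdeal A := by
        unfold Ideal.ofList
        rw [Ideal.span_le]
        intro f hf
        exact hfs f hf
      refine (Ideal.map_mono h1).trans ?_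
      exact IsLocalRing.map_maximalIdeal_le (algebraMap A B)
    exact Groth.Agent.H21.flat_of_flat_baseChange_quot_pow (Ideal.ofList fs) hJ M
      (fun n _ => S5777aux.flat_quot_pow (Ideal.ofList fs) M h3 n)

end Groth.Agent.S5777
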