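import Groth.Statements.S5778
import Mathlib
import Groth.Agent.Lib.helper24.HilbSam2
import Groth.Agent.Lib.helper24.QuasiReg
import Groth.Agent.Lib.helper5.RegLoc3
import Groth.Agent.S8163

set_option autoImplicit false
universe u
open EGA41

namespace Groth.Agent.S5778

open Groth.Agent.Lib.helper24 Groth.Agent.H5.RegLoc IsLocalRing in

/-- Let A be a Noetherian local ring with maximal ideal m, residue field k, and let r be the dimension
of the k-vector space m/m². Then A is regular if and only if the canonical surjection of graded
k-algebras from the symmetric algebra of m/m² onto the associated graded ring of A for the m-adic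
filtration is bijective. Since that surjection is bijective exactly when source and target have the
same length in every degree, the condition is expressed here as: length_A(A/m^(s+1)) equals the
binomial coefficient C(s+r, r) for every s ≥ 0. -/
theorem result (A : Type u) [CommRing A] [IsLocalRing A]
    [IsNoetherianRing A] :
    IsRegularLocalRing A ↔
      ∀ s : ℕ, Module.length A (A ⧸ IsLocalRing.maximalIdeal A ^ (s + 1)) =
        ((s + Module.finrank (IsLocalRing.ResidueField A) (IsLocalRing.CotangentSpace A)).choose s : ℕ∞) := by
  have hr : (maximalIdeal A).spanFinrank =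
      Module.finrank (ResidueField A) (CotangentSpace A) :=
    IsLocalRing.spanFinrank_maximalIdeal_eq_finrank_cotangentSpace A
  generalize Module.finrank (ResidueField A) (CotangentSpace A) = r at hr ⊢
  constructor
  · intro hreg s
    obtain ⟨d, hd⟩ := exists_nat_dim A
    have hdr : r = d := by rw [← hr]; exact spanFinrank_eq_of_dim hd
    rw [hdr, Groth.Agent.S8163.result A d hd (s + 1) (by omega)]
    have : s + 1 + d - 1 = s + d := by omega
    rw [this, Nat.choose_symm_add]
  · intro h
    obtain ⟨x, hx⟩ := exists_fin_generators A r hr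
    have hmax : (Ideal.span (Set.range x)).IsMaximal := hx ▸ maximalIdeal.isMaximal A
    have hlen : ∀ i, Module.length A (A ⧸ Ideal.span (Set.range x) ^ i) =
        ((∑ k ∈ Finset.range i, r.multichoose k : ℕ) : ℕ∞) := by
      intro i
      rcases i with _ | s
      · rw [pow_zero, Ideal.one_eq_top]
        haveI : Subsingleton (A ⧸ (⊤ : Ideal A)) := Ideal.Quotient.subsingleton_iff.2 rfl
        rw [Module.length_eq_zero]
        simp
      · rw [hx, h s, Nat.sum_range_multichoose, Nat.choose_symm_add]
    have hinj := HilbSam.φ_injective_of_length x hmax hlen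
    have hq := HilbSam.qr_of_φ_injective x hinj
    have hxm : ∀ i, x i ∈ maximalIdeal A := by
      intro i
      rw [← hx]
      exact Ideal.subset_span ⟨i, rfl⟩
    have hjac : ∀ i, x i ∈ Ring.jacobson A := by
      intro i
      rw [← Ideal.jacobson_bot, IsLocalRing.jacobson_eq_maximalIdeal ⊥ bot_ne_top]
      exact hxm i
    have hwr := QuasiReg.isWeaklyRegular_of_QR r A x hjac hq
    have hmem : ∀ a ∈ List.ofFn x, a ∈ maximalIdeal A := by
      intro a ha
      rw [List.mem_ofFn] at ha
      obtain ⟨i, rfl⟩ := ha
      exact hxm i
    have hreg : RingTheory.Sequence.IsRegular A (List.ofFn x) :=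
      (IsLocalRing.isRegular_iff_isWeaklyRegular_of_subset_maximalIdeal hmem).2 hwr
    have hdim := ringKrullDim_add_length_eq_ringKrullDim_of_isRegular _ hreg
    rw [List.length_ofFn] at hdim
    apply IsRegularLocalRing.of_spanFinrank_maximalIdeal_le
    rw [hr, ← hdim]
    haveI : Nontrivial (A ⧸ Ideal.ofList (List.ofFn x)) := by
      rw [Ideal.Quotient.nontrivial_iff]
      intro htop
      apply hreg.top_ne_smul
      rw [htop, smul_eq_mul, Ideal.mul_top]
    have h0 : 0 ≤ ringKrullDim (A ⧸ Ideal.ofList (List.ofFn x)) :=
      ringKrullDim_nonneg_of_nontrivial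
    calc ((r : ℕ∞) : WithBot ℕ∞) = 0 + ((r : ℕ) : WithBot ℕ∞) := by simp
      _ ≤ ringKrullDim (A ⧸ Ideal.ofList (List.ofFn x)) + ((r : ℕ) : WithBot ℕ∞) := by
        gcongr

end Groth.Agent.S5778
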