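import Groth.Statements.S5779
import Mathlib
import Groth.Agent.Lib.helper20.RegQuot7

set_option autoImplicit false
universe u
open EGA41

namespace Groth.Agent.S5779

/-- Let A be a Noetherian local ring with maximal ideal m and residue field k, (x_i)_{1 ≤ i ≤ r}
elements of m and J = x_1 A + ... + x_r A. Then A is regular with the classes of the x_i in m/m²
linearly independent over k (equivalently: the x_i are part of a regular system of parameters) if
and only if the x_i are part of a system of parameters of A (dim(A/J) = dim(A) - r) and A/J is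
regular. When these conditions hold, J is a prime ideal. -/
theorem result (A : Type u) [CommRing A] [IsLocalRing A]
    [IsNoetherianRing A] (r : ℕ) (x : Fin r → IsLocalRing.maximalIdeal A) :
    ((IsRegularLocalRing A ∧
        LinearIndependent (IsLocalRing.ResidueField A)
          (fun i => (IsLocalRing.maximalIdeal A).toCotangent (x i))) ↔
      (ringKrullDim (A ⧸ Ideal.span (Set.range fun i => (x i : A))) + r = ringKrullDim A ∧
        IsRegularLocalRing (A ⧸ Ideal.span (Set.range fun i => (x i : A))))) ∧
    (IsRegularLocalRing (A ⧸ Ideal.span (Set.range fun i => (x i : A))) →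
      ringKrullDim (A ⧸ Ideal.span (Set.range fun i => (x i : A))) + r = ringKrullDim A →
        (Ideal.span (Set.range fun i => (x i : A))).IsPrime) := by
  classical
  set f : Fin r → A := fun i => (x i : A) with hfdef
  have hf : ∀ i, f i ∈ IsLocalRing.maximalIdeal A := fun i => (x i).2
  have hset : {y | y ∈ List.ofFn f} = Set.range f := by
    ext y; simp only [Set.mem_setOf_eq, List.mem_ofFn, Set.mem_range]
  have hof : Ideal.ofList (List.ofFn f) = Ideal.span (Set.range f) := by
    show Ideal.span {y | y ∈ List.ofFn f} = _
    rw [hset]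
  refine ⟨⟨?_, ?_⟩, ?_⟩
  · rintro ⟨hA, hlin⟩
    haveI := hA
    have hLI := (Groth.Agent.Lib.helper20.RegQuot.LI_iff_linearIndependent x).mpr hlin
    obtain ⟨hreg, hseq⟩ := Groth.Agent.Lib.helper20.RegQuot.regular_of_LI r A f hf hLI
    refine ⟨?_, hreg⟩
    have h1 := ringKrullDim_add_length_eq_ringKrullDim_of_isRegular (List.ofFn f) hseq
    rw [List.length_ofFn, ringKrullDim_eq_of_ringEquiv (Ideal.quotEquivOfEq hof)] at h1
    exact h1
  · rintro ⟨hdim, hreg⟩
    haveI := hreg
    obtain ⟨hA, hLI⟩ := Groth.Agent.Lib.helper20.RegQuot.regular_and_LI_of_quotient f hf hdim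
    exact ⟨hA, (Groth.Agent.Lib.helper20.RegQuot.LI_iff_linearIndependent x).mp hLI⟩
  · intro hreg _
    haveI := hreg
    haveI := Groth.Agent.H5.RegLoc.isDomain (A ⧸ Ideal.span (Set.range f))
    exact (Ideal.Quotient.isDomain_iff_prime _).mp inferInstance

end Groth.Agent.S5779
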