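import Groth.Statements.S5780
import Groth.Agent.Lib.helper9.LocalAlg
-- import your own Groth.Agent.* helpers here

set_option autoImplicit false
universe u
open EGA41

namespace Groth.Agent.S5780

/-- Let A be a Noetherian local ring with maximal ideal m. If every element of m which is not in m² is a
zero divisor in A, then there is a nonzero c in A with c m = 0, i.e. m is an associated prime of A. -/
theorem result (A : Type u) [CommRing A]
    [IsLocalRing A] [IsNoetherianRing A]
    (h : ∀ a ∈ IsLocalRing.maximalIdeal A, a ∉ IsLocalRing.maximalIdeal A ^ 2 → ¬ IsSMulRegular A a) :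
    IsLocalRing.maximalIdeal A ∈ associatedPrimes A A := by
  classical
  set m := IsLocalRing.maximalIdeal A with hm
  -- m ⊆ m² ∪ ⋃ Ass
  have hfin : (insert (m ^ 2) (associatedPrimes A A)).Finite :=
    (associatedPrimes.finite A A).insert _
  have hsub : ((m : Ideal A) : Set A) ⊆
      ⋃ p ∈ insert (m ^ 2) (associatedPrimes A A), ((id p : Ideal A) : Set A) := by
    intro a ha
    by_cases ha2 : a ∈ m ^ 2
    · exact Set.mem_biUnion (Set.mem_insert _ _) ha2
    · have hnr := h a ha ha2
      have := biUnion_associatedPrimes_eq_compl_regular A A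
      have ha' : a ∈ ⋃ p ∈ associatedPrimes A A, (p : Set A) := by
        rw [this]
        exact hnr
      obtain ⟨p, hp, hap⟩ := Set.mem_iUnion₂.mp ha'
      exact Set.mem_biUnion (Set.mem_insert_of_mem _ hp) hap
  obtain ⟨p, hp, hmp⟩ := (m.subset_union_prime_finite hfin (f := id) (m ^ 2) (m ^ 2)
    (fun i hi hne _ => by
      rcases hi with rfl | hi
      · exact absurd rfl hne
      · exact hi.1)).1 hsub
  rcases hp with rfl | hp
  · -- m ≤ m² : Nakayama gives m = ⊥
    have hmbot : m = ⊥ := by
      have hfg : (m : Submodule A A).FG := IsNoetherian.noetherian m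
      apply Submodule.eq_bot_of_le_smul_of_le_jacobson_bot m m hfg _
        (IsLocalRing.maximalIdeal_le_jacobson ⊥)
      simpa [pow_two] using hmp
    rw [hmbot]
    show IsAssociatedPrime (⊥ : Ideal A) A
    rw [isAssociatedPrime_iff]
    have : (⊥ : Ideal A).IsPrime := by
      rw [← hmbot]
      infer_instance
    refine ⟨this, 1, ?_⟩
    ext x
    rw [Submodule.mem_colon_singleton]
    simp
  · have hp' : IsAssociatedPrime p A := hp
    have hpm : p = m := le_antisymm (IsLocalRing.le_maximalIdeal hp'.isPrime.ne_top) hmp
    rw [← hpm]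
    exact hp

end Groth.Agent.S5780
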