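import Groth.Statements.S5781
import Mathlib

set_option autoImplicit false
universe u
open EGA41

namespace Groth.Agent.S5781

/-- Suppose A is a Noetherian local ring whose maximal ideal is m, and take a ∈ m with a ∉ m². Then the
quotient m/am contains a direct summand isomorphic to m/Aa: concretely, one can find A-linear maps f
: m/Aa → m/am and g : m/am → m/Aa such that g ∘ f is the identity. -/
theorem result (A : Type u) [CommRing A] [IsLocalRing A]
    [IsNoetherianRing A] (a : A) (ha : a ∈ IsLocalRing.maximalIdeal A) (ha2 : a ∉ IsLocalRing.maximalIdeal A ^ 2) :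
    ∃ (f : (↥(IsLocalRing.maximalIdeal A) ⧸ Submodule.span A {(⟨a, ha⟩ : ↥(IsLocalRing.maximalIdeal A))}) →ₗ[A]
          QuotSMulTop a ↥(IsLocalRing.maximalIdeal A))
      (g : QuotSMulTop a ↥(IsLocalRing.maximalIdeal A) →ₗ[A]
          (↥(IsLocalRing.maximalIdeal A) ⧸ Submodule.span A {(⟨a, ha⟩ : ↥(IsLocalRing.maximalIdeal A))})),
      g.comp f = LinearMap.id := by
  classical
  have hne : (IsLocalRing.maximalIdeal A).toCotangent ⟨a, ha⟩ ≠ 0 := by
    rw [Ne, Ideal.toCotangent_eq_zero]; exact ha2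
  obtain ⟨ℓ, hℓ⟩ := Module.Projective.exists_dual_eq_one (IsLocalRing.ResidueField A)
    (V := IsLocalRing.CotangentSpace A) hne
  let lam : ↥(IsLocalRing.maximalIdeal A) →ₗ[A] IsLocalRing.ResidueField A :=
    (ℓ.restrictScalars A).comp (IsLocalRing.maximalIdeal A).toCotangent
  have hlam : lam ⟨a, ha⟩ = 1 := hℓ
  let qa : QuotSMulTop a ↥(IsLocalRing.maximalIdeal A) := Submodule.Quotient.mk ⟨a, ha⟩
  have hqa : ∀ r ∈ IsLocalRing.maximalIdeal A, r • qa = 0 := by
    intro r hr
    rw [← Submodule.Quotient.mk_smul, Submodule.Quotient.mk_eq_zero]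
    have : r • (⟨a, ha⟩ : ↥(IsLocalRing.maximalIdeal A)) =
        a • (⟨r, hr⟩ : ↥(IsLocalRing.maximalIdeal A)) := Subtype.ext (by simp [mul_comm])
    rw [this]
    exact Submodule.smul_mem_pointwise_smul _ _ _ Submodule.mem_top
  let θ : IsLocalRing.ResidueField A →ₗ[A] QuotSMulTop a ↥(IsLocalRing.maximalIdeal A) :=
    Submodule.liftQ (IsLocalRing.maximalIdeal A) (LinearMap.toSpanSingleton A _ qa)
      (by intro r hr; simp [hqa r hr])
  have hθ : ∀ r : A, θ (IsLocalRing.residue A r) = r • qa := fun r => rfl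
  let ψ : ↥(IsLocalRing.maximalIdeal A) →ₗ[A] QuotSMulTop a ↥(IsLocalRing.maximalIdeal A) :=
    Submodule.mkQ _ - θ.comp lam
  have hψ : ∀ x, ψ x = Submodule.Quotient.mk x - θ (lam x) := fun x => rfl
  have hψa : ψ ⟨a, ha⟩ = 0 := by
    rw [hψ, hlam, ← map_one (IsLocalRing.residue A), hθ, one_smul, sub_self]
  let f : (↥(IsLocalRing.maximalIdeal A) ⧸
      Submodule.span A {(⟨a, ha⟩ : ↥(IsLocalRing.maximalIdeal A))}) →ₗ[A]
        QuotSMulTop a ↥(IsLocalRing.maximalIdeal A) :=
    Submodule.liftQ _ ψ (by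
      rw [Submodule.span_le, Set.singleton_subset_iff]
      exact hψa)
  let g : QuotSMulTop a ↥(IsLocalRing.maximalIdeal A) →ₗ[A]
      (↥(IsLocalRing.maximalIdeal A) ⧸
        Submodule.span A {(⟨a, ha⟩ : ↥(IsLocalRing.maximalIdeal A))}) :=
    Submodule.liftQ _ (Submodule.mkQ _) (by
      intro x hx
      rw [Submodule.mem_smul_pointwise_iff_exists] at hx
      obtain ⟨y, -, rfl⟩ := hx
      rw [Submodule.ker_mkQ]
      have : a • y = (y : A) • (⟨a, ha⟩ : ↥(IsLocalRing.maximalIdeal A)) :=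
        Subtype.ext (by simp [mul_comm])
      rw [this]
      exact Submodule.smul_mem _ _ (Submodule.mem_span_singleton_self _))
  have hgqa : g qa = 0 := by
    change Submodule.mkQ _ (⟨a, ha⟩ : ↥(IsLocalRing.maximalIdeal A)) = 0
    rw [Submodule.mkQ_apply, Submodule.Quotient.mk_eq_zero]
    exact Submodule.mem_span_singleton_self _
  have hgθ : ∀ c, g (θ c) = 0 := by
    intro c
    obtain ⟨r, rfl⟩ := IsLocalRing.residue_surjective c
    rw [hθ, map_smul, hgqa, smul_zero]
  refine ⟨f, g, ?_⟩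
  apply Submodule.linearMap_qext
  ext x
  change g (ψ x) = Submodule.Quotient.mk x
  rw [hψ, map_sub, hgθ, sub_zero]
  rfl

end Groth.Agent.S5781
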