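import Groth.Statements.S5783
-- import your own Groth.Agent.* helpers here
import Mathlib
import Groth.Agent.S2082
import Groth.Agent.Lib.helper6.CMFlat
import Groth.Agent.Lib.helper6.CMMisc
import Groth.Agent.Lib.helper17.FlatCM
import Groth.Agent.Lib.helper9.IntegralDim

set_option autoImplicit false
universe u
open EGA41

namespace Groth.Agent.S5783

/-- Let A be a regular local ring, B a local ring and ρ : A → B a local homomorphism making B a finitely
generated A-module. Then B is a free A-module if and only if B is a Cohen-Macaulay ring and ρ is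
injective (the latter being equivalent to dim(B) = dim(A)). -/
theorem result (A B : Type u) [CommRing A] [CommRing B]
    [IsRegularLocalRing A] [IsLocalRing B] [Algebra A B] [IsLocalHom (algebraMap A B)] [Module.Finite A B] :
    Module.Free A B ↔ LocCoh.IsCohenMacaulayLocalRing B ∧ Function.Injective (algebraMap A B) := by
  have hInt : Algebra.IsIntegral A B := inferInstance
  have hfib : Ring.KrullDimLE 0 (EGA4.FibRing A B) := by
    rw [Ring.krullDimLE_zero_iff]
    intro Q hQ
    have hQ'p : (Q.comap (Ideal.Quotient.mk (EGA4.mB A B))).IsPrime := Ideal.comap_isPrime _ _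
    have hle : IsLocalRing.maximalIdeal A ≤
        (Q.comap (Ideal.Quotient.mk (EGA4.mB A B))).comap (algebraMap A B) := by
      intro x hx
      change Ideal.Quotient.mk (EGA4.mB A B) (algebraMap A B x) ∈ Q
      rw [Ideal.Quotient.eq_zero_iff_mem.mpr (Ideal.mem_map_of_mem _ hx)]
      exact Q.zero_mem
    have heq : (Q.comap (Ideal.Quotient.mk (EGA4.mB A B))).comap (algebraMap A B) =
        IsLocalRing.maximalIdeal A :=
      ((IsLocalRing.maximalIdeal.isMaximal A).eq_of_le
        (Ideal.IsPrime.ne_top (Ideal.comap_isPrime _ _)) hle).symm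
    have hmax : (Q.comap (Ideal.Quotient.mk (EGA4.mB A B))).IsMaximal :=
      Ideal.isMaximal_of_isIntegral_of_isMaximal_comap (R := A) _
        (heq ▸ IsLocalRing.maximalIdeal.isMaximal A)
    have hQ2 : Q = (Q.comap (Ideal.Quotient.mk (EGA4.mB A B))).map
        (Ideal.Quotient.mk (EGA4.mB A B)) :=
      (Ideal.map_comap_of_surjective _ Ideal.Quotient.mk_surjective Q).symm
    rw [hQ2]
    apply Ideal.IsMaximal.map_of_surjective_of_ker_le Ideal.Quotient.mk_surjective
    rw [Ideal.mk_ker]
    intro x hx
    change Ideal.Quotient.mk (EGA4.mB A B) x ∈ Q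
    rw [Ideal.Quotient.eq_zero_iff_mem.mpr hx]
    exact Q.zero_mem
  have hNoeth : IsNoetherianRing B := IsNoetherianRing.of_finite A B
  have hfib0 : ringKrullDim (EGA4.FibRing A B) = 0 :=
    ringKrullDimZero_iff_ringKrullDim_eq_zero.mp hfib
  constructor
  · intro hfree
    have hflat : Module.Flat A B := inferInstance
    refine ⟨?_, ?_⟩
    · exact (Groth.Agent.Lib.helper6.CMFlat.cm_iff_of_flat (R := A) (S := B)).mpr
        ⟨Groth.Agent.Lib.helper17.FlatCM.isCM_of_regular _,
          Groth.Agent.Lib.helper6.CMMisc.isCM_of_dim_zero _ hfib0⟩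
    · have hff : Module.FaithfullyFlat A B := Module.FaithfullyFlat.of_flat_of_isLocalHom
      exact FaithfulSMul.algebraMap_injective A B
  · rintro ⟨hcm, hinj⟩
    have hdim := Groth.Agent.Lib.helper9.IntegralDim.ringKrullDim_eq_of_isIntegral_of_injective
      A B hinj
    have hflat : Module.Flat A B := by
      apply Groth.Agent.S2082.result
      change ringKrullDim B = ringKrullDim A + ringKrullDim (EGA4.FibRing A B)
      rw [hfib0, add_zero, hdim]
    exact Module.free_of_flat_of_isLocalRing

end Groth.Agent.S5783
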