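import Groth.Statements.S5787
import Groth.Agent.S5150

set_option autoImplicit false
universe u
open CategoryTheory
open EGA41

namespace Groth.Agent.S5787

open Abelian RingTheory.Sequence in
/-- the connecting isomorphism `Ext^n(N, M/xM) ≃+ Ext^{n+1}(N, M)` for `x ∈ Ann N` regular on `M`
when `Ext^n(N, M) = 0`. -/
theorem nonempty_ext_quot_addEquiv {A : Type u} [CommRing A] {N M : ModuleCat.{u} A} {x : A}
    (hx : IsSMulRegular M x) (hann : x ∈ Module.annihilator A N) (n : ℕ)
    (h0 : Subsingleton (Ext N M n)) :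
    Nonempty (Ext N (ModuleCat.of A (QuotSMulTop x M)) n ≃+ Ext N M (n + 1)) := by
  have hS := hx.smulShortComplex_shortExact
  let δ : Ext N (ModuleCat.of A (QuotSMulTop x M)) n →+ Ext N M (n + 1) :=
    hS.extClass.postcomp N (rfl : n + 1 = n + 1)
  refine ⟨AddEquiv.ofBijective δ ⟨?_, ?_⟩⟩
  · rw [injective_iff_map_eq_zero]
    intro a ha
    obtain ⟨x₂, hx₂⟩ := Ext.covariant_sequence_exact₃ N hS a rfl ha
    have h0' : Subsingleton (Ext N (M.smulShortComplex x).X₂ n) := h0
    rw [← hx₂, h0'.elim x₂ 0, Ext.zero_comp]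
    rfl
  · intro b
    obtain ⟨x₃, hx₃⟩ := Ext.covariant_sequence_exact₁ N hS b
      (by rw [ModuleCat.smulShortComplex_f_eq_smul_id]
          exact Groth.Agent.S5150.comp_smul_eq_zero hann b) rfl
    exact ⟨x₃, hx₃⟩

open Abelian RingTheory.Sequence in
theorem main {A : Type u} [CommRing A] (K : Type u) [AddCommGroup K] [Module A K] :
    ∀ (xs : List A) (M : Type u) [AddCommGroup M] [Module A M],
      (∀ x ∈ xs, x ∈ Module.annihilator A K) → IsWeaklyRegular M xs →
      Nonempty ((K →ₗ[A] (M ⧸ (Ideal.ofList xs • (⊤ : Submodule A M)))) ≃+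
        Ext (ModuleCat.of A K) (ModuleCat.of A M) xs.length) := by
  intro xs
  induction xs with
  | nil =>
    intro M _ _ _ _
    have h0 : (Ideal.ofList ([] : List A) • (⊤ : Submodule A M)) = ⊥ := by
      rw [Ideal.ofList_nil, Submodule.bot_smul]
    have e1 : (K →ₗ[A] (M ⧸ (Ideal.ofList ([] : List A) • (⊤ : Submodule A M)))) ≃+ (K →ₗ[A] M) :=
      (LinearEquiv.arrowCongr (LinearEquiv.refl A K) (Submodule.quotEquivOfEqBot _ h0)).toAddEquiv
    have e2 : Ext (ModuleCat.of A K) (ModuleCat.of A M) 0 ≃+ (K →ₗ[A] M) :=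
      (Ext.addEquiv₀ (X := ModuleCat.of A K) (Y := ModuleCat.of A M)).trans ModuleCat.homAddEquiv
    exact ⟨e1.trans e2.symm⟩
  | cons x xs ih =>
    intro M _ _ hmem hreg
    rw [isWeaklyRegular_cons_iff] at hreg
    have hxK : x ∈ Module.annihilator A K := hmem x List.mem_cons_self
    obtain ⟨e2⟩ := ih (QuotSMulTop x M) (fun y hy => hmem y (List.mem_cons_of_mem _ hy)) hreg.2
    have e1 : (K →ₗ[A] (M ⧸ (Ideal.ofList (x :: xs) • (⊤ : Submodule A M)))) ≃+
        (K →ₗ[A] (QuotSMulTop x M ⧸ (Ideal.ofList xs • (⊤ : Submodule A (QuotSMulTop x M))))) :=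
      (LinearEquiv.arrowCongr (LinearEquiv.refl A K)
        (Submodule.quotOfListConsSMulTopEquivQuotSMulTopInner M x xs)).toAddEquiv
    have h0 : Subsingleton (Ext (ModuleCat.of A K) (ModuleCat.of A M) xs.length) :=
      Groth.Agent.S5150.ext_subsingleton_of_regular (ModuleCat.of A K) (x :: xs) (ModuleCat.of A M)
        ((isWeaklyRegular_cons_iff M x xs).mpr hreg) hmem xs.length (by simp)
    obtain ⟨e3⟩ := nonempty_ext_quot_addEquiv (N := ModuleCat.of A K) (M := ModuleCat.of A M)
      hreg.1 hxK xs.length h0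
    exact ⟨(e1.trans e2).trans e3⟩

/-- Let A be a Noetherian local ring with maximal ideal m and residue field k, M an A-module and
(x_i)_{1 ≤ i ≤ n} an M-regular sequence of elements of m. Then Hom_A(k, M/(x_1 M + ... + x_n M)) and
Ext^n_A(k, M) are isomorphic (existence of an isomorphism; stated for the underlying abelian
groups). -/
theorem result (A : Type u) [CommRing A] [IsLocalRing A]
    [IsNoetherianRing A] (M : Type u) [AddCommGroup M] [Module A M] (xs : List A)
    (hxs : ∀ x ∈ xs, x ∈ IsLocalRing.maximalIdeal A) (hreg : RingTheory.Sequence.IsWeaklyRegular M xs) :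
    Nonempty ((IsLocalRing.ResidueField A →ₗ[A] (M ⧸ (Ideal.ofList xs • (⊤ : Submodule A M)))) ≃+
      Abelian.Ext (ModuleCat.of A (IsLocalRing.ResidueField A)) (ModuleCat.of A M) xs.length) := by
  refine main (IsLocalRing.ResidueField A) xs M ?_ hreg
  intro x hx
  rw [Module.mem_annihilator]
  intro k
  obtain ⟨a, rfl⟩ := IsLocalRing.residue_surjective k
  rw [Algebra.smul_def]
  have : algebraMap A (IsLocalRing.ResidueField A) x = 0 := by
    rw [IsLocalRing.ResidueField.algebraMap_eq]
    exact (IsLocalRing.residue_eq_zero_iff x).mpr (hxs x hx)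
  rw [this, zero_mul]

end Groth.Agent.S5787
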