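import Groth.Statements.S5796
import Groth.Agent.Lib.helper9.TopDim

set_option autoImplicit false
universe u
open TopDim

namespace Groth.Agent.S5796

/-- For any topological space X, the function x ↦ dim_x(X) is upper semicontinuous on X. -/
theorem result (X : Type u) [TopologicalSpace X] :
    UpperSemicontinuous fun x : X => FlatMor.localDim X x := by
  intro x y hy
  obtain ⟨U, hxU, hU⟩ := Groth.Agent.H9TopDim.exists_open_dim_eq_localDim x
  have hy' : FlatMor.localDim X x < y := hy
  filter_upwards [U.isOpen.mem_nhds hxU] with x' hx'
  exact lt_of_le_of_lt (Groth.Agent.H9TopDim.localDim_le_dim_open U x' hx') (hU ▸ hy')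

end Groth.Agent.S5796
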