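import Groth.Statements.S5801
import Mathlib.Tactic
-- import your own Groth.Agent.* helpers here

set_option autoImplicit false
universe u
open scoped Pointwise
open EGA41

namespace Groth.Agent.S5801

/-- Let A be a ring, M an A-module and f ∈ A, and consider the canonical surjection (M/fM)[T] → gr(M)
for the (f)-adic filtration, whose injectivity says: for all k ≥ 0 and x ∈ M, f^k x ∈ f^(k+1) M
implies x ∈ fM. If f is M-regular this map is bijective; conversely, if it is bijective and M is
separated for the (f)-adic topology (the intersection of the f^k M is zero), then f is M-regular. -/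
theorem result (A : Type u) [CommRing A] (M : Type u)
    [AddCommGroup M] [Module A M] (f : A) :
    (IsSMulRegular M f →
        ∀ (k : ℕ) (x : M), f ^ k • x ∈ f ^ (k + 1) • (⊤ : Submodule A M) → x ∈ f • (⊤ : Submodule A M)) ∧
      ((⨅ k : ℕ, f ^ k • (⊤ : Submodule A M)) = ⊥ →
        (∀ (k : ℕ) (x : M), f ^ k • x ∈ f ^ (k + 1) • (⊤ : Submodule A M) → x ∈ f • (⊤ : Submodule A M)) →
          IsSMulRegular M f) := by
  constructor
  · intro hreg k x hx
    rw [Submodule.mem_smul_pointwise_iff_exists] at hx
    obtain ⟨y, -, hy⟩ := hx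
    have hk : IsSMulRegular M (f ^ k) := hreg.pow k
    have : f ^ k • (f • y) = f ^ k • x := by
      rw [← hy, pow_succ, mul_smul]
    have hxy : f • y = x := hk this
    rw [Submodule.mem_smul_pointwise_iff_exists]
    exact ⟨y, trivial, hxy⟩
  · intro hsep h
    intro x x' hxx'
    have hz : f • (x - x') = 0 := by
      have : f • x = f • x' := hxx'
      rw [smul_sub, this, sub_self]
    suffices hzero : x - x' = 0 from sub_eq_zero.mp hzero
    set z := x - x' with hzdef
    have hind : ∀ n : ℕ, ∃ y : M, z = f ^ n • y ∧ f ^ (n + 1) • y = 0 := by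
      intro n
      induction n with
      | zero => exact ⟨z, by simp, by simpa using hz⟩
      | succ n ih =>
        obtain ⟨y, hy1, hy2⟩ := ih
        have hmem : f ^ (n + 1) • y ∈ f ^ (n + 1 + 1) • (⊤ : Submodule A M) := by
          rw [hy2]
          exact Submodule.zero_mem _
        have := h (n + 1) y hmem
        rw [Submodule.mem_smul_pointwise_iff_exists] at this
        obtain ⟨y', -, hy'⟩ := this
        refine ⟨y', ?_, ?_⟩
        · rw [hy1, ← hy', pow_succ, mul_smul]
        · rw [← hy2, ← hy', pow_succ (f) (n + 1), mul_smul]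
    have hmem : z ∈ (⨅ k : ℕ, f ^ k • (⊤ : Submodule A M)) := by
      rw [Submodule.mem_iInf]
      intro i
      obtain ⟨y, hy1, -⟩ := hind i
      rw [hy1]
      exact Submodule.smul_mem_pointwise_smul y (f ^ i) ⊤ trivial
    rw [hsep] at hmem
    simpa using hmem

end Groth.Agent.S5801
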