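import Groth.Statements.S5806
import Mathlib

set_option autoImplicit false
universe u
open EGA41

namespace Groth.Agent.S5806

open TensorProduct Pointwise in

open TensorProduct in
/-- Let A be a ring, B a commutative A-algebra, (f_i)_{1 ≤ i ≤ n} elements of B and M a B-module.
Suppose (f_i) is M-regular and each of the A-modules M/(f_1 M + ... + f_i M), 0 ≤ i ≤ n, is flat.
Then for every ring homomorphism A → A', writing M' = M ⊗_A A' and f'_i = f_i ⊗ 1, the sequence
(f'_i) is M'-regular and the A'-modules M'/(f'_1 M' + ... + f'_{i-1} M') are flat: concretely,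
identifying M'/(f'_1 M' + ... + f'_{i-1} M') with A' ⊗_A (M/(f_1 M + ... + f_{i-1} M)),
multiplication by f_i on the latter is injective and the latter is A'-flat, for 1 ≤ i ≤ n. (The
published hypothesis lists only the flatness of M/(f_1 M + ... + f_{i-1} M) for 1 ≤ i ≤ n, omitting
M/(f_1 M + ... + f_n M); with that omission the case n = 1, A = B = k[t], M = k[t], f_1 = t, A' =
k[t]/(t) fails, since t acts as zero on k ⊗_A M = k, and the published proof uses the flatness of
M/(f_1 M + ... + f_i M) for every i ≤ n; so flatness of all these quotients is assumed here.) -/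
theorem result (A B : Type u) [CommRing A]
    [CommRing B] [Algebra A B] (M : Type u) [AddCommGroup M] [Module B M] [Module A M] [IsScalarTower A B M]
    (fs : List B) (hreg : RingTheory.Sequence.IsWeaklyRegular M fs)
    (hflat : ∀ i : ℕ, i ≤ fs.length → Module.Flat A (M ⧸ (Ideal.ofList (fs.take i) • (⊤ : Submodule B M))))
    (A' : Type u) [CommRing A'] [Algebra A A'] (i : Fin fs.length) :
    Function.Injective (LinearMap.lTensor A'
        (((LinearMap.lsmul B (M ⧸ (Ideal.ofList (fs.take i) • (⊤ : Submodule B M)))) (fs.get i)).restrictScalars A)) ∧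
      Module.Flat A' (A' ⊗[A] (M ⧸ (Ideal.ofList (fs.take i) • (⊤ : Submodule B M)))) := by
  have hN : IsSMulRegular (M ⧸ (Ideal.ofList (fs.take i) • (⊤ : Submodule B M))) (fs.get i) :=
    (RingTheory.Sequence.isWeaklyRegular_iff_Fin M fs).mp hreg i
  have hflat1 := hflat (i + 1) (Nat.succ_le_of_lt i.2)
  have hflat0 := hflat i (le_of_lt i.2)
  have hT : (Ideal.ofList (fs.take (i + 1)) • (⊤ : Submodule B M)) =
      (Ideal.ofList (fs.take i) • (⊤ : Submodule B M)) ⊔ (fs.get i) • (⊤ : Submodule B M) := by
    rw [List.take_succ_eq_append_getElem i.2, Ideal.ofList_append, Ideal.ofList_singleton,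
      Submodule.sup_smul, Submodule.ideal_span_singleton_smul]
    rfl
  have hST : (Ideal.ofList (fs.take i) • (⊤ : Submodule B M)) ≤
      (Ideal.ofList (fs.take (i + 1)) • (⊤ : Submodule B M)) := by
    rw [hT]; exact le_sup_left
  refine ⟨?_, inferInstance⟩
  let g : (M ⧸ (Ideal.ofList (fs.take i) • (⊤ : Submodule B M))) →ₗ[A]
      (M ⧸ (Ideal.ofList (fs.take i) • (⊤ : Submodule B M))) :=
    ((LinearMap.lsmul B (M ⧸ (Ideal.ofList (fs.take i) • (⊤ : Submodule B M)))) (fs.get i)).restrictScalars A
  let p : (M ⧸ (Ideal.ofList (fs.take i) • (⊤ : Submodule B M))) →ₗ[A]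
      (M ⧸ (Ideal.ofList (fs.take (i + 1)) • (⊤ : Submodule B M))) :=
    (Submodule.factor hST).restrictScalars A
  have hg : Function.Injective g := fun x y hxy => hN hxy
  have hp : Function.Surjective p := by
    intro x
    obtain ⟨x, rfl⟩ := Submodule.Quotient.mk_surjective _ x
    exact ⟨Submodule.Quotient.mk x, rfl⟩
  have hex : Function.Exact g p := by
    intro x
    obtain ⟨x, rfl⟩ := Submodule.Quotient.mk_surjective _ x
    constructor
    · intro hx
      have hx' : x ∈ (Ideal.ofList (fs.take (i + 1)) • (⊤ : Submodule B M)) := by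
        rw [← Submodule.Quotient.mk_eq_zero]; exact hx
      rw [hT] at hx'
      obtain ⟨s, hs, t, ht, rfl⟩ := Submodule.mem_sup.mp hx'
      obtain ⟨y, -, rfl⟩ := (Submodule.mem_smul_pointwise_iff_exists _ _ _).mp ht
      refine ⟨Submodule.Quotient.mk y, ?_⟩
      show (fs.get i) • (Submodule.Quotient.mk y : M ⧸ (Ideal.ofList (fs.take i) • (⊤ : Submodule B M))) = _
      rw [Submodule.Quotient.mk_add, (Submodule.Quotient.mk_eq_zero _).mpr hs, zero_add,
        Submodule.Quotient.mk_smul]
    · rintro ⟨y, hy⟩
      obtain ⟨y, rfl⟩ := Submodule.Quotient.mk_surjective _ y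
      rw [← hy]
      show (Submodule.Quotient.mk ((fs.get i) • y) :
        M ⧸ (Ideal.ofList (fs.take (i + 1)) • (⊤ : Submodule B M))) = 0
      rw [Submodule.Quotient.mk_eq_zero, hT]
      exact Submodule.mem_sup_right (Submodule.smul_mem_pointwise_smul _ _ _ Submodule.mem_top)
  exact LinearMap.lTensor_injective_of_exact_of_flat p hp g hg hex A'

end Groth.Agent.S5806
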