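import Groth.Statements.S5807
import Mathlib
import Groth.Agent.Lib.helper20.RegQuot6

set_option autoImplicit false
universe u
open EGA41

namespace Groth.Agent.S5807

/-- Let A be a Noetherian ring which is a quotient of a regular ring B, and C an A-algebra of finite
type. Then every ring of fractions of C is a quotient of a regular ring. -/
theorem result (B A C : Type u) [CommRing B]
    [IsRegularRing B] [CommRing A] (π : B →+* A) (hπ : Function.Surjective π) [CommRing C] [Algebra A C]
    [Algebra.FiniteType A C] (S : Submonoid C) :
    ∃ (R : Type u) (_ : CommRing R) (_ : IsRegularRing R) (f : R →+* Localization S),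
      Function.Surjective f := by
  obtain ⟨n, f, hf⟩ := Algebra.FiniteType.iff_quotient_mvPolynomial''.mp
    (inferInstance : Algebra.FiniteType A C)
  let g : MvPolynomial (Fin n) B →+* C := f.toRingHom.comp (MvPolynomial.map π)
  have hg : Function.Surjective g := hf.comp (MvPolynomial.map_surjective π hπ)
  obtain ⟨φ, hφ⟩ := Groth.Agent.Lib.helper20.RegQuot.exists_surjective_localization_comap g hg S
  exact ⟨Localization (S.comap g), inferInstance,
    Groth.Agent.Lib.helper20.RegQuot.isRegularRing_localization _, φ, hφ⟩

end Groth.Agent.S5807
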