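import Groth.Statements.S5815
import Groth.Agent.Lib.helper9.ExalLib
import Mathlib.RingTheory.Smooth.Basic
import Mathlib.Tactic
-- import your own Groth.Agent.* helpers here

set_option autoImplicit false
universe u
open EGA41

namespace Groth.Agent.S5815

open Groth.Agent.Lib.helper9.ExalLib

/-- Discrete case. A commutative A-algebra B is formally smooth if and only if every A-extension of B by
a B-module L is trivial (has an A-algebra section). A and B are taken in one universe and L ranges
over that universe. (The published statement is for topological rings, with direct-limit classes of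
extensions; this row is its discrete case.) -/
theorem result (A B : Type u) [CommRing A] [CommRing B] [Algebra A B] :
    Algebra.FormallySmooth A B ↔
      ∀ (L : Type u) [AddCommGroup L] [Module B L] (X : Exal.Ext A B L), X.IsTrivial := by
  constructor
  · intro hsm L _ _ X
    have hnil : IsNilpotent (RingHom.ker (X.proj : X.E →+* B)) := by
      refine ⟨2, ?_⟩
      rw [Ideal.zero_eq_bot, eq_bot_iff, pow_two, Ideal.mul_le]
      intro x hx y hy
      obtain ⟨z, rfl⟩ := exists_incl_eq X x hx
      obtain ⟨z', rfl⟩ := exists_incl_eq X y hy
      rw [incl_mul_incl]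
      exact Ideal.zero_mem _
    refine ⟨Algebra.FormallySmooth.liftOfSurjective (AlgHom.id A B) X.proj
      X.isExtension.proj_surjective hnil, fun b => ?_⟩
    rw [Algebra.FormallySmooth.liftOfSurjective_apply]
    rfl
  · intro h
    let P := MvPolynomial B A
    let f : P →ₐ[A] B := MvPolynomial.aeval id
    have hf : Function.Surjective f := fun b => ⟨MvPolynomial.X b, by
      change MvPolynomial.aeval id (MvPolynomial.X b) = b
      rw [MvPolynomial.aeval_X]; rfl⟩
    rw [Algebra.FormallySmooth.iff_split_surjection f hf]
    let p := f.kerSquareLift
    have hp : Function.Surjective p := by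
      intro b
      obtain ⟨x, rfl⟩ := hf b
      exact ⟨Ideal.Quotient.mk _ x, rfl⟩
    have hsq : ∀ x y, p x = 0 → p y = 0 → x * y = 0 := by
      intro x y hx hy
      have hx' : x ∈ RingHom.ker f.kerSquareLift.toRingHom := hx
      have hy' : y ∈ RingHom.ker f.kerSquareLift.toRingHom := hy
      rw [AlgHom.ker_kerSquareLift] at hx' hy'
      have := Ideal.mul_mem_mul hx' hy'
      rw [← pow_two, Ideal.cotangentIdeal_square] at this
      exact this
    let _ := kerModule p hp hsq
    obtain ⟨s, hs⟩ := h _ (ofSqZero p hp hsq)
    exact ⟨s, AlgHom.ext hs⟩

end Groth.Agent.S5815
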