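import Groth.Statements.S5816
import Mathlib

set_option autoImplicit false
universe u
open EGA41

namespace Groth.Agent.S5816

/-- Discrete case. For ring maps Λ → A → B, B is formally smooth over A relative to Λ (square-zero test
ideals) if and only if every A-extension of B by a B-module L which is Λ-trivial is A-trivial. Λ, A,
B are taken in one universe and L ranges over it. (The published statement is for topological rings;
this row is its discrete case.) -/
theorem result (Λ A B : Type u) [CommRing Λ]
    [CommRing A] [CommRing B] [Algebra Λ A] [Algebra Λ B] [Algebra A B] [IsScalarTower Λ A B] :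
    EGA41.IsFormallySmoothRel Λ A B ↔
      ∀ (L : Type u) [AddCommGroup L] [Module B L] (X : Exal.Ext A B L),
        X.IsTrivialOver Λ → X.IsTrivial := by
  constructor
  · -- (→)
    intro h L _ _ X hX
    obtain ⟨s, hs⟩ := hX
    letI algΛE : Algebra Λ X.E := ((algebraMap A X.E).comp (algebraMap Λ A)).toAlgebra
    haveI : IsScalarTower Λ A X.E := IsScalarTower.of_algebraMap_eq (fun _ => rfl)
    set J : Ideal X.E := RingHom.ker X.proj.toRingHom with hJdef
    have hJ : J ^ 2 = ⊥ := by
      rw [pow_two, eq_bot_iff, Ideal.mul_le]
      intro x hx y hy
      rw [Ideal.mem_bot]
      have hx' : X.proj x = 0 := hx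
      have hy' : X.proj y = 0 := hy
      obtain ⟨z, rfl⟩ := (X.isExtension.exact y).1 hy'
      rw [X.isExtension.mul_incl, hx', zero_smul, map_zero]
    -- u₀ : B → E/J
    have hsurj := X.isExtension.proj_surjective
    let s' : B →ₐ[Λ] X.E := s
    have hs' : ∀ b, X.proj (s' b) = b := hs
    let u₀ : B →ₐ[A] X.E ⧸ J :=
      { toFun := fun b => Ideal.Quotient.mk J (s' b)
        map_one' := by rw [map_one, map_one]
        map_mul' := fun x y => by rw [map_mul, map_mul]
        map_zero' := by rw [map_zero, map_zero]
        map_add' := fun x y => by rw [map_add, map_add]
        commutes' := fun a => by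
          show Ideal.Quotient.mk J (s' (algebraMap A B a)) = Ideal.Quotient.mk J (algebraMap A X.E a)
          rw [Ideal.Quotient.eq]
          show X.proj (s' (algebraMap A B a) - algebraMap A X.E a) = 0
          rw [map_sub, hs', AlgHom.commutes, sub_self] }
    obtain ⟨v, hv⟩ := h X.E J hJ u₀ ⟨s', by ext b; rfl⟩
    refine ⟨v, fun b => ?_⟩
    have h1 : Ideal.Quotient.mk J (v b) = Ideal.Quotient.mk J (s' b) := by
      have := congrArg (fun f => f b) hv
      exact this
    rw [Ideal.Quotient.eq] at h1
    have h2 : X.proj (v b - s' b) = 0 := h1
    rw [map_sub, hs', sub_eq_zero] at h2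
    exact h2
  · -- (←)
    intro h C _ _ _ _ J hJ u₀ ⟨u, hu⟩
    have hu' : ∀ b, Ideal.Quotient.mk J (u b) = u₀ b := fun b => by
      have := congrArg (fun f => f b) hu
      exact this
    have hJJ : ∀ x y : C, x ∈ J → y ∈ J → x * y = 0 := by
      intro x y hx hy
      rw [← Ideal.mem_bot, ← hJ, pow_two]
      exact Ideal.mul_mem_mul hx hy
    -- the fibre product
    let φ₁ : B × C →ₐ[A] C ⧸ J := u₀.comp (AlgHom.fst A B C)
    let φ₂ : B × C →ₐ[A] C ⧸ J := (Ideal.Quotient.mkₐ A J).comp (AlgHom.snd A B C)
    let E : Subalgebra A (B × C) := AlgHom.equalizer φ₁ φ₂
    have hE : ∀ x : B × C, x ∈ E ↔ u₀ x.1 = Ideal.Quotient.mk J x.2 := fun x => Iff.rfl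
    letI modBJ : Module B J := Module.compHom J u.toRingHom
    have hsmul : ∀ (b : B) (j : J), ((b • j : J) : C) = u b * (j : C) := fun b j => rfl
    let pr : E →ₐ[A] B := (AlgHom.fst A B C).comp E.val
    let inc : J →+ E :=
      { toFun := fun j => ⟨(0, (j : C)), by
          rw [hE]
          show u₀ 0 = Ideal.Quotient.mk J (j : C)
          rw [map_zero, eq_comm, Ideal.Quotient.eq_zero_iff_mem]
          exact j.2⟩
        map_zero' := rfl
        map_add' := fun _ _ => by
          apply Subtype.ext
          show ((0 : B), _) = ((0 : B) + 0, _)
          rw [add_zero]
          rfl }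
    have hinc : ∀ j : J, ((inc j : E) : B × C) = (0, (j : C)) := fun j => rfl
    let X : Exal.Ext A B J :=
      { E := E
        proj := pr
        incl := inc
        isExtension :=
          { proj_surjective := fun b => by
              obtain ⟨c, hc⟩ := Ideal.Quotient.mk_surjective (u₀ b)
              exact ⟨⟨(b, c), by rw [hE]; exact hc.symm⟩, rfl⟩
            incl_injective := fun j j' hjj' => by
              have := congrArg (fun e : E => (e : B × C).2) hjj'
              exact Subtype.ext this
            exact := fun x => by
              constructor
              · intro hx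
                have hx1 : (x : B × C).1 = 0 := hx
                have hx2 : (x : B × C).2 ∈ J := by
                  have := (hE x).1 x.2
                  rw [hx1, map_zero, eq_comm, Ideal.Quotient.eq_zero_iff_mem] at this
                  exact this
                refine ⟨⟨(x : B × C).2, hx2⟩, ?_⟩
                apply Subtype.ext
                rw [hinc]
                exact Prod.ext hx1.symm rfl
              · rintro ⟨j, rfl⟩
                rfl
            mul_incl := fun x j => by
              apply Subtype.ext
              show (x : B × C) * ((inc j : E) : B × C) = ((inc (pr x • j) : E) : B × C)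
              rw [hinc, hinc]
              refine Prod.ext ?_ ?_
              · show (x : B × C).1 * 0 = 0
                rw [mul_zero]
              · show (x : B × C).2 * (j : C) = u (x : B × C).1 * (j : C)
                have h1 : (x : B × C).2 - u (x : B × C).1 ∈ J := by
                  rw [← Ideal.Quotient.eq, hu', ← (hE x).1 x.2]
                have := hJJ _ _ h1 j.2
                linear_combination this } }
    have hXtriv : X.IsTrivialOver Λ := by
      refine ⟨{ toFun := fun b => (⟨(b, u b), by rw [hE]; exact (hu' b).symm⟩ : E)
                map_one' := by
                  apply Subtype.ext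
                  show ((1 : B), u 1) = 1
                  rw [map_one]; rfl
                map_mul' := fun x y => by
                  apply Subtype.ext
                  show (x * y, u (x * y)) = (x, u x) * (y, u y)
                  rw [map_mul]; rfl
                map_zero' := by
                  apply Subtype.ext
                  show ((0 : B), u 0) = 0
                  rw [map_zero]; rfl
                map_add' := fun x y => by
                  apply Subtype.ext
                  show (x + y, u (x + y)) = (x, u x) + (y, u y)
                  rw [map_add]; rfl
                commutes' := fun r => by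
                  apply Subtype.ext
                  show (algebraMap Λ B r, u (algebraMap Λ B r)) =
                    ((algebraMap A E (algebraMap Λ A r) : E) : B × C)
                  rw [AlgHom.commutes]
                  refine Prod.ext ?_ ?_
                  · show algebraMap Λ B r = algebraMap A B (algebraMap Λ A r)
                    rw [← IsScalarTower.algebraMap_apply]
                  · show algebraMap Λ C r = algebraMap A C (algebraMap Λ A r)
                    rw [← IsScalarTower.algebraMap_apply] }, fun b => rfl⟩
    obtain ⟨s, hs⟩ := h J X hXtriv
    let v : B →ₐ[A] C := ((AlgHom.snd A B C).comp E.val).comp s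
    refine ⟨v, ?_⟩
    ext b
    show Ideal.Quotient.mk J ((s b : E) : B × C).2 = u₀ b
    rw [← (hE _).1 (s b).2]
    have : ((s b : E) : B × C).1 = b := hs b
    rw [this]

end Groth.Agent.S5816
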