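import Groth.Statements.S5817
import Mathlib.Tactic
-- import your own Groth.Agent.* helpers here

set_option autoImplicit false
universe u v
open EGA41

namespace Groth.Agent.S5817

attribute [local instance] Exal.opModule Exal.isCentralScalar_opModule

/-- Commutative rings, exactness at Der_A(B, L). For ring maps A → B → C and a C-module L, the
B-extension of C by L attached to an A-derivation D : B → L (middle ring C ⊕ L, made a B-algebra
through x ↦ (x, D x)) is trivial if and only if D is the composite of B → C with an A-derivation C →
L. -/
theorem result {A : Type u} {B C L : Type v} [CommRing A] [CommRing B] [CommRing C]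
    [Algebra A B] [Algebra B C] [Algebra A C] [IsScalarTower A B C]
    [AddCommGroup L] [Module C L] [Module B L] [IsScalarTower B C L] [Module A L] [IsScalarTower A B L]
    [IsScalarTower A C L]
    (D : Derivation A B L) :
    (Exal.Ext.ofDerivation (C := C) D).IsTrivial ↔
      ∃ D' : Derivation A C L, D'.compAlgebraMap B = D := by
  constructor
  · rintro ⟨s, hs⟩
    -- s : C →ₐ[B] DerCarrier D
    have hfst : ∀ c : C, TrivSqZeroExt.fst (s c : TrivSqZeroExt C L) = c := hs
    have hcomm : ∀ b : B, (s (algebraMap B C b) : TrivSqZeroExt C L) =
        TrivSqZeroExt.inl (algebraMap B C b) + TrivSqZeroExt.inr (D b) := fun b => s.commutes b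
    let d : C → L := fun c => TrivSqZeroExt.snd (s c : TrivSqZeroExt C L)
    have hd_add : ∀ x y, d (x + y) = d x + d y := by
      intro x y
      change TrivSqZeroExt.snd (s (x + y) : TrivSqZeroExt C L) = _
      rw [map_add]; rfl
    have hd_mul : ∀ x y, d (x * y) = x • d y + y • d x := by
      intro x y
      change TrivSqZeroExt.snd (s (x * y) : TrivSqZeroExt C L) = _
      rw [map_mul]
      have key : ∀ e e' : TrivSqZeroExt C L, TrivSqZeroExt.snd (e * e') =
          TrivSqZeroExt.fst e • TrivSqZeroExt.snd e' + TrivSqZeroExt.fst e' • TrivSqZeroExt.snd e := by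
        intro e e'
        rw [TrivSqZeroExt.snd_mul]
        rfl
      have := key (s x) (s y)
      rw [hfst, hfst] at this
      exact this
    have hd_B : ∀ b : B, d (algebraMap B C b) = D b := by
      intro b
      change TrivSqZeroExt.snd (s (algebraMap B C b) : TrivSqZeroExt C L) = _
      rw [hcomm]
      have key : ∀ (c : C) (l : L), TrivSqZeroExt.snd (TrivSqZeroExt.inl c + TrivSqZeroExt.inr l : TrivSqZeroExt C L) = l := by
        intro c l; simp
      exact key _ _
    have hd_A : ∀ a : A, d (algebraMap A C a) = 0 := by
      intro a
      rw [IsScalarTower.algebraMap_apply A B C, hd_B]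
      exact D.map_algebraMap a
    let D' : Derivation A C L :=
      { toFun := d
        map_add' := hd_add
        map_smul' := by
          intro a c
          simp only [RingHom.id_apply]
          rw [Algebra.smul_def, hd_mul, hd_A, smul_zero, add_zero, algebraMap_smul]
        map_one_eq_zero' := by
          change d 1 = 0
          have := hd_mul 1 1
          simp only [mul_one, one_smul] at this
          have h2 : d 1 + d 1 = d 1 + 0 := by rw [add_zero]; exact this.symm
          exact add_left_cancel h2
        leibniz' := hd_mul }
    refine ⟨D', ?_⟩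
    ext b
    exact hd_B b
  · rintro ⟨D', rfl⟩
    let s0 : C →+* TrivSqZeroExt C L := Exal.Ext.derivationHom (A := A) (B := C) (C := C) D'
    refine ⟨{ s0 with commutes' := ?_ }, ?_⟩
    · intro b
      change (TrivSqZeroExt.inl (algebraMap C C (algebraMap B C b)) + TrivSqZeroExt.inr (D' (algebraMap B C b))
        : TrivSqZeroExt C L) = TrivSqZeroExt.inl (algebraMap B C b) + TrivSqZeroExt.inr ((D'.compAlgebraMap B) b)
      rfl
    · intro c
      change TrivSqZeroExt.fst (TrivSqZeroExt.inl (algebraMap C C c) + TrivSqZeroExt.inr (D' c) : TrivSqZeroExt C L) = c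
      simp

end Groth.Agent.S5817
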