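import Groth.Statements.S5818
import Groth.Agent.Lib.helper9.ExalLib
import Mathlib.Tactic
-- import your own Groth.Agent.* helpers here

set_option autoImplicit false
universe u v
open EGA41

namespace Groth.Agent.S5818

open Groth.Agent.Lib.helper9.ExalLib

attribute [local instance] Exal.opModule Exal.isCentralScalar_opModule

/-- Commutative rings, exactness at Exalcom_B(C, L) on underlying pointed sets. For ring maps A → B → C
and a C-module L, a B-extension of C by L is A-trivial if and only if it is equivalent to the
extension attached to some A-derivation B → L. -/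
theorem result {A : Type u} {B C L : Type v} [CommRing A] [CommRing B] [CommRing C]
    [Algebra A B] [Algebra B C] [Algebra A C] [IsScalarTower A B C]
    [AddCommGroup L] [Module C L] [Module B L] [IsScalarTower B C L] [Module A L] [IsScalarTower A B L]
    [IsScalarTower A C L]
    (X : Exal.Ext B C L) :
    X.IsTrivialOver A ↔
      ∃ D : Derivation A B L, Nonempty (X.Equiv (Exal.Ext.ofDerivation (C := C) D)) := by
  constructor
  · rintro ⟨s, hs⟩
    let s0 : C →+* X.E := (s.toRingHom : C →+* (X.restrictBase A).E)
    have hs0 : ∀ c, X.proj (s0 c) = c := hs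
    have hs0A : ∀ a : A, s0 (algebraMap A C a) = algebraMap B X.E (algebraMap A B a) := fun a => s.commutes a
    have hpq : ∀ b : B, X.proj (algebraMap B X.E b) = algebraMap B C b := fun b => X.proj.commutes b
    let d : B → L := fun b => kap X s0 hs0 (algebraMap B X.E b)
    have hd_add : ∀ b b', d (b + b') = d b + d b' := by
      intro b b'
      change kap X s0 hs0 (algebraMap B X.E (b + b')) = _
      rw [map_add, kap_add]
    have hd_mul : ∀ b b', d (b * b') = b • d b' + b' • d b := by
      intro b b'
      change kap X s0 hs0 (algebraMap B X.E (b * b')) = _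
      rw [map_mul, kap_mul, hpq, hpq, algebraMap_smul, algebraMap_smul]
    have hd_A : ∀ a : A, d (algebraMap A B a) = 0 := by
      intro a
      change kap X s0 hs0 (algebraMap B X.E (algebraMap A B a)) = 0
      rw [← hs0A, kap_section]
    let D : Derivation A B L :=
      { toFun := d
        map_add' := hd_add
        map_smul' := by
          intro a b
          simp only [RingHom.id_apply]
          rw [Algebra.smul_def, hd_mul, hd_A, smul_zero, add_zero, algebraMap_smul]
        map_one_eq_zero' := by
          change d 1 = 0
          have := hd_A 1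
          rwa [map_one] at this
        leibniz' := hd_mul }
    refine ⟨D, ⟨?_⟩⟩
    let φ : X.E →ₐ[B] (Exal.Ext.ofDerivation (C := C) D).E :=
      { (toTriv X s0 hs0 : X.E →+* (Exal.Ext.ofDerivation (C := C) D).E) with
        commutes' := by
          intro b
          change toTriv X s0 hs0 (algebraMap B X.E b) =
            TrivSqZeroExt.inl (algebraMap B C b) + TrivSqZeroExt.inr (D b)
          rw [toTriv_apply, hpq]
          rfl }
    refine equivOfAlgHom X _ φ ?_ ?_
    · intro x
      exact fst_toTriv X s0 hs0 x
    · intro z
      exact toTriv_incl X s0 hs0 z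
  · rintro ⟨D, ⟨e⟩⟩
    let Y := Exal.Ext.ofDerivation (C := C) D
    let inlY : C →+* Y.E := TrivSqZeroExt.inlHom C L
    let s0 : C →+* X.RestrictCarrier A := (e.toAlgEquiv.symm : Y.E →+* X.E).comp inlY
    refine ⟨{ s0 with commutes' := ?_ }, ?_⟩
    · intro a
      change e.toAlgEquiv.symm (inlY (algebraMap A C a)) = algebraMap B X.E (algebraMap A B a)
      rw [← e.toAlgEquiv.symm.commutes (algebraMap A B a)]
      congr 1
      change (TrivSqZeroExt.inl (algebraMap A C a) : TrivSqZeroExt C L) =
        TrivSqZeroExt.inl (algebraMap B C (algebraMap A B a)) + TrivSqZeroExt.inr (D (algebraMap A B a))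
      rw [D.map_algebraMap, TrivSqZeroExt.inr_zero, add_zero, ← IsScalarTower.algebraMap_apply]
    · intro c
      change X.proj (e.toAlgEquiv.symm (inlY c)) = c
      rw [← e.proj_apply, AlgEquiv.apply_symm_apply]
      rfl

end Groth.Agent.S5818
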