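import Groth.Statements.S5819
import Groth.Agent.Lib.helper9.ExalLib
import Mathlib.Tactic
-- import your own Groth.Agent.* helpers here

set_option autoImplicit false
universe u v
open EGA41

namespace Groth.Agent.S5819

open Groth.Agent.Lib.helper9.ExalLib

/-- Commutative rings, exactness at Exalcom_A(C, L) on underlying pointed sets. For ring maps A → B → C
and a C-module L, an A-extension Y of C by L pulls back to a trivial A-extension of B if and only if
Y is equivalent to some B-extension of C by L viewed as an A-extension. -/
theorem result {A : Type u} {B C L : Type v} [CommRing A]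
    [CommRing B] [CommRing C] [Algebra A B] [Algebra B C] [Algebra A C] [IsScalarTower A B C]
    [AddCommGroup L] [Module C L] [Module B L] [IsScalarTower B C L]
    (Y : Exal.Ext A C L) :
    (Y.pullback B).IsTrivial ↔
      ∃ X : Exal.Ext B C L, Nonempty ((X.restrictBase A).Equiv Y) := by
  constructor
  · rintro ⟨s, hs⟩
    let s' : B →ₐ[A] Y.fiberProd B := s
    have hs2 : ∀ b : B, ((s' b : Y.fiberProd B) : Y.E × B).2 = b := hs
    have hmem : ∀ b : B, Y.proj ((s' b : Y.fiberProd B) : Y.E × B).1 =
        algebraMap B C ((s' b : Y.fiberProd B) : Y.E × B).2 := fun b => (s' b).2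
    let t : B →ₐ[A] Y.E := (AlgHom.fst A Y.E B).comp ((Y.fiberProd B).val.comp s')
    have ht : ∀ b, Y.proj (t b) = algebraMap B C b := by
      intro b
      have := hmem b
      rw [hs2] at this
      exact this
    let algB : Algebra B Y.E := t.toRingHom.toAlgebra
    let X : Exal.Ext B C L :=
      { E := Y.E
        commRing := Y.commRing
        algebra := algB
        proj := { (Y.proj : Y.E →+* C) with commutes' := ht }
        incl := Y.incl
        isExtension :=
          { proj_surjective := Y.isExtension.proj_surjective
            incl_injective := Y.isExtension.incl_injective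
            exact := Y.isExtension.exact
            mul_incl := Y.isExtension.mul_incl } }
    refine ⟨X, ⟨?_⟩⟩
    let φ : (X.restrictBase A).E →ₐ[A] Y.E :=
      { (RingHom.id Y.E : (X.restrictBase A).E →+* Y.E) with
        commutes' := fun a => by
          change t (algebraMap A B a) = algebraMap A Y.E a
          exact t.commutes a }
    exact equivOfAlgHom _ _ φ (fun x => rfl) (fun z => rfl)
  · rintro ⟨X, ⟨e⟩⟩
    let qA : B →ₐ[A] (X.restrictBase A).E :=
      { (algebraMap B X.E : B →+* (X.restrictBase A).E) with commutes' := fun a => rfl }
    let t' : B →ₐ[A] Y.E := (e.toAlgEquiv : (X.restrictBase A).E →ₐ[A] Y.E).comp qA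
    have ht' : ∀ b, Y.proj (t' b) = algebraMap B C b := by
      intro b
      change Y.proj (e.toAlgEquiv (algebraMap B X.E b)) = _
      rw [e.proj_apply]
      exact X.proj.commutes b
    let s : B →ₐ[A] Y.fiberProd B :=
      AlgHom.codRestrict (AlgHom.prod t' (AlgHom.id A B)) (Y.fiberProd B) (fun b => ht' b)
    exact ⟨s, fun b => rfl⟩

end Groth.Agent.S5819
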