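import Groth.Statements.S5821
import Groth.Agent.Lib.helper9.ExalChar
-- import your own Groth.Agent.* helpers here

set_option autoImplicit false
universe u v
open EGA41

namespace Groth.Agent.S5821

open Groth.Agent.Lib.helper9.ExalLib TensorProduct KaehlerDifferential

/-- For a ring map A → B, an ideal K of B, C = B ⧸ K and the B-extension E = B ⧸ K² of C by K/K², if E
is A-trivial then its characteristic homomorphism Υ_{C/B/A} → K/K² is bijective (stated for every
C-linear χ satisfying the defining square, of which there is exactly one). -/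
theorem result {A : Type u} {B : Type v} [CommRing A] [CommRing B] [Algebra A B]
    (K : Ideal B) (hK : (Exal.Ext.infinitesimal K).IsTrivialOver A)
    (χ : ↥(EGA41.imperfection A B (B ⧸ K)) →ₗ[B ⧸ K] K.Cotangent)
    (hχ : (Exal.Ext.infinitesimal K).IsCharHom A χ) :
    Function.Bijective χ := by
  set X := Exal.Ext.infinitesimal K with hXdef
  have hker : RingHom.ker (algebraMap B (B ⧸ K)) = K := by
    rw [Ideal.Quotient.algebraMap_eq, Ideal.mk_ker]
  have hsurj : Function.Surjective (algebraMap B (B ⧸ K)) := Ideal.Quotient.mk_surjective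
  -- every element of the imperfection module is `1 ⊗ D k` with `k ∈ K`
  have hrep : ∀ z : ↥(EGA41.imperfection A B (B ⧸ K)), ∃ (k : B) (hk : k ∈ K),
      (z : (B ⧸ K) ⊗[B] Ω[B⁄A]) = (1 : B ⧸ K) ⊗ₜ[B] KaehlerDifferential.D A B k := by
    intro z
    obtain ⟨c, hc⟩ := (KaehlerDifferential.exact_kerCotangentToTensor_mapBaseChange A B (B ⧸ K)
      hsurj _).1 z.2
    obtain ⟨k, rfl⟩ := Ideal.toCotangent_surjective _ c
    have hk : k.1 ∈ K := by
      have h1 : ∀ b : B, b ∈ RingHom.ker (algebraMap B (B ⧸ K)) → b ∈ K := by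
        intro b hb; rw [hker] at hb; exact hb
      exact h1 _ k.2
    refine ⟨k.1, hk, ?_⟩
    rw [← hc]
    rfl
  -- the characteristic homomorphism on such an element
  have hval : ∀ (z : ↥(EGA41.imperfection A B (B ⧸ K))) (k : B) (hk : k ∈ K),
      (z : (B ⧸ K) ⊗[B] Ω[B⁄A]) = (1 : B ⧸ K) ⊗ₜ[B] KaehlerDifferential.D A B k →
      χ z = K.toCotangent ⟨k, hk⟩ := by
    intro z k hk hz
    apply deltaL_injective A X hK
    rw [hχ z, hz]
    change (1 : B ⧸ K) ⊗ₜ[X.CharCarrier A] KaehlerDifferential.map A A B (X.CharCarrier A)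
      (KaehlerDifferential.D A B k) = (1 : B ⧸ K) ⊗ₜ[X.CharCarrier A]
        KaehlerDifferential.D A (X.CharCarrier A) (X.inclC A (K.toCotangent ⟨k, hk⟩))
    rw [KaehlerDifferential.map_D]
    congr 2
  constructor
  · rw [injective_iff_map_eq_zero]
    intro z hz
    obtain ⟨k, hk, hzk⟩ := hrep z
    rw [hval z k hk hzk, Ideal.toCotangent_eq_zero] at hz
    apply Subtype.ext
    rw [hzk]
    have hk2 : k ∈ RingHom.ker (algebraMap B (B ⧸ K)) := by rw [hker]; exact hk
    have h0 : (RingHom.ker (algebraMap B (B ⧸ K))).toCotangent ⟨k, hk2⟩ = 0 := by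
      rw [Ideal.toCotangent_eq_zero]
      change k ∈ RingHom.ker (algebraMap B (B ⧸ K)) ^ 2
      rw [hker]
      exact hz
    have := congrArg (KaehlerDifferential.kerCotangentToTensor A B (B ⧸ K)) h0
    rw [map_zero] at this
    exact this
  · intro l
    obtain ⟨⟨k, hk⟩, rfl⟩ := K.toCotangent_surjective l
    have hmem : (1 : B ⧸ K) ⊗ₜ[B] KaehlerDifferential.D A B k ∈ EGA41.imperfection A B (B ⧸ K) := by
      change KaehlerDifferential.mapBaseChange A B (B ⧸ K) _ = 0
      rw [KaehlerDifferential.mapBaseChange_tmul, KaehlerDifferential.map_D, one_smul,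
        Ideal.Quotient.algebraMap_eq, Ideal.Quotient.eq_zero_iff_mem.2 hk, map_zero]
    exact ⟨⟨_, hmem⟩, hval _ k hk rfl⟩

end Groth.Agent.S5821
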