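import Groth.Statements.S5822
import Groth.Agent.Lib.helper9.ExalCharDer
-- import your own Groth.Agent.* helpers here

set_option autoImplicit false
universe u v
open scoped TensorProduct
open EGA41

namespace Groth.Agent.S5822

open Groth.Agent.Lib.helper9.ExalLib

/-- Injectivity. For ring maps A → B → C and a C-module L, assume (i) L is an injective C-module, or
(ii) Υ_{C/B/A} is a direct summand of C ⊗_B Ω_{B/A} and Ω_{C/A} → Ω_{C/B} has a right inverse. Then
two A-trivial B-extensions of C by L with a common characteristic homomorphism are equivalent: the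
map from classes of A-trivial extensions to Hom_C(Υ_{C/B/A}, L) is injective. -/
theorem result {A : Type u} {B C L : Type v} [CommRing A] [CommRing B] [CommRing C]
    [Algebra A B] [Algebra B C] [Algebra A C] [IsScalarTower A B C] [AddCommGroup L] [Module C L]
    (h : Module.Injective C L ∨
      ((∃ r : C ⊗[B] Ω[B⁄A] →ₗ[C] ↥(EGA41.imperfection A B C), ∀ z : ↥(EGA41.imperfection A B C), r z = z) ∧
        ∃ s : Ω[C⁄B] →ₗ[C] Ω[C⁄A], ∀ ω : Ω[C⁄B], KaehlerDifferential.map A B C C (s ω) = ω))
    (X Y : Exal.Ext B C L) (hX : X.IsTrivialOver A) (hY : Y.IsTrivialOver A)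
    (χ : ↥(EGA41.imperfection A B C) →ₗ[C] L) (hXχ : X.IsCharHom A χ) (hYχ : Y.IsCharHom A χ) :
    Nonempty (X.Equiv Y) := by
  letI : Module B L := Module.compHom L (algebraMap B C)
  haveI : IsScalarTower B C L := IsScalarTower.of_algebraMap_smul (fun _ _ => rfl)
  letI : Module A L := Module.compHom L (algebraMap A B)
  haveI : IsScalarTower A B L := IsScalarTower.of_algebraMap_smul (fun _ _ => rfl)
  haveI : IsScalarTower A C L := IsScalarTower.of_algebraMap_smul (fun a l => by
    rw [IsScalarTower.algebraMap_apply A B C]; rfl)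
  obtain ⟨gX, hgX⟩ := exists_section A X hX
  obtain ⟨gY, hgY⟩ := exists_section A Y hY
  let DX := derOfSection A X gX hgX
  let DY := derOfSection A Y gY hgY
  have hX' := (isCharHom_iff A X gX hgX χ).1 hXχ
  have hY' := (isCharHom_iff A Y gY hgY χ).1 hYχ
  let δ : C ⊗[B] Ω[B⁄A] →ₗ[C] L := derLin A DX - derLin A DY
  have hδ : ∀ z ∈ EGA41.imperfection A B C, δ z = 0 := by
    intro z hz
    change derLin A DX z - derLin A DY z = 0
    rw [← hX' ⟨z, hz⟩, ← hY' ⟨z, hz⟩, sub_self]
  have h' : Module.Injective C L ∨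
      ∃ s : Ω[C⁄B] →ₗ[C] Ω[C⁄A], ∀ ω : Ω[C⁄B], KaehlerDifferential.map A B C C (s ω) = ω := by
    rcases h with h1 | ⟨-, h2⟩
    · exact Or.inl h1
    · exact Or.inr h2
  obtain ⟨ε, hε⟩ := exists_lin_of_vanish A h' δ hδ
  let D' : Derivation A C L := ε.compDer (KaehlerDifferential.D A C)
  have hD' : ∀ b, DX b = DY b + D' (algebraMap B C b) := by
    intro b
    have h1 := hε ((1 : C) ⊗ₜ KaehlerDifferential.D A B b)
    rw [KaehlerDifferential.mapBaseChange_tmul, KaehlerDifferential.map_D, one_smul] at h1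
    change D' (algebraMap B C b) = derLin A DX ((1 : C) ⊗ₜ KaehlerDifferential.D A B b) -
      derLin A DY ((1 : C) ⊗ₜ KaehlerDifferential.D A B b) at h1
    rw [derLin_tmul_D, derLin_tmul_D, one_smul, one_smul] at h1
    rw [h1]; abel
  exact ⟨(equivOfDerivation A X gX hgX).trans
    ((equivOfDerivationSub A DX DY D' hD').symm.trans (equivOfDerivation A Y gY hgY).symm)⟩

end Groth.Agent.S5822
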