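import Groth.Statements.S5823
import Groth.Agent.Lib.helper9.ExalCharDer
-- import your own Groth.Agent.* helpers here

set_option autoImplicit false
universe u v
open scoped TensorProduct
open EGA41

namespace Groth.Agent.S5823

open Groth.Agent.Lib.helper9.ExalLib

/-- Surjectivity. For ring maps A → B → C and a C-module L, assume (i) L is an injective C-module, or
(ii) Υ_{C/B/A} is a direct summand of C ⊗_B Ω_{B/A} and Ω_{C/A} → Ω_{C/B} has a right inverse. Then
every C-linear map Υ_{C/B/A} → L is the characteristic homomorphism of an A-trivial B-extension of C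
by L. -/
theorem result {A : Type u} {B C L : Type v} [CommRing A] [CommRing B] [CommRing C]
    [Algebra A B] [Algebra B C] [Algebra A C] [IsScalarTower A B C] [AddCommGroup L] [Module C L]
    (h : Module.Injective C L ∨
      ((∃ r : C ⊗[B] Ω[B⁄A] →ₗ[C] ↥(EGA41.imperfection A B C), ∀ z : ↥(EGA41.imperfection A B C), r z = z) ∧
        ∃ s : Ω[C⁄B] →ₗ[C] Ω[C⁄A], ∀ ω : Ω[C⁄B], KaehlerDifferential.map A B C C (s ω) = ω))
    (χ : ↥(EGA41.imperfection A B C) →ₗ[C] L) :
    ∃ X : Exal.Ext B C L, X.IsTrivialOver A ∧ X.IsCharHom A χ := by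
  -- Step 1: extend χ to the whole of `C ⊗_B Ω_{B/A}`
  have hext : ∃ ψ : C ⊗[B] Ω[B⁄A] →ₗ[C] L, ∀ z : ↥(EGA41.imperfection A B C), ψ z = χ z := by
    rcases h with hinj | ⟨⟨r, hr⟩, -⟩
    · obtain ⟨ψ, hψ⟩ := Module.Injective.extension_property C L
        (↥(EGA41.imperfection A B C)) (C ⊗[B] Ω[B⁄A])
        (EGA41.imperfection A B C).subtype (Submodule.injective_subtype _) χ
      exact ⟨ψ, fun z => LinearMap.congr_fun hψ z⟩
    · refine ⟨χ.comp r, fun z => ?_⟩
      rw [LinearMap.comp_apply, hr]
  obtain ⟨ψ, hψ⟩ := hext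
  -- Step 2: module structures
  letI : Module B L := Module.compHom L (algebraMap B C)
  haveI : IsScalarTower B C L := IsScalarTower.of_algebraMap_smul (fun _ _ => rfl)
  letI : Module A L := Module.compHom L (algebraMap A B)
  haveI : IsScalarTower A B L := IsScalarTower.of_algebraMap_smul (fun _ _ => rfl)
  let D : Derivation A B L := derOfLin A ψ
  refine ⟨Exal.Ext.ofDerivation (C := C) D, isTrivialOver_ofDerivation A D, ?_⟩
  rw [isCharHom_ofDerivation_iff, derLin_derOfLin]
  intro z
  exact (hψ z).symm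

end Groth.Agent.S5823
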