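import Groth.Statements.S5824
import Groth.Agent.Lib.helper9.ExalCharDer
import Groth.Agent.S5822
import Groth.Agent.S5823
-- import your own Groth.Agent.* helpers here

set_option autoImplicit false
universe u v
open EGA41

namespace Groth.Agent.S5824

open Groth.Agent.Lib.helper9.ExalLib

/-- For ring maps A → B → C with C formally smooth over A (discrete topologies) and Ω_{C/B} a projective
C-module, and a C-module L, the characteristic homomorphism is a bijection from the classes of all
B-extensions of C by L (each of which is A-trivial) onto Hom_C(Υ_{C/B/A}, L): injectivity on classes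
and surjectivity. -/
theorem result {A : Type u} {B C L : Type v} [CommRing A] [CommRing B] [CommRing C]
    [Algebra A B] [Algebra B C] [Algebra A C] [IsScalarTower A B C] [AddCommGroup L] [Module C L]
    [Algebra.FormallySmooth A C] [Module.Projective C Ω[C⁄B]] :
    (∀ (X Y : Exal.Ext B C L) (χ : ↥(EGA41.imperfection A B C) →ₗ[C] L),
        X.IsCharHom A χ → Y.IsCharHom A χ → Nonempty (X.Equiv Y)) ∧
      ∀ χ : ↥(EGA41.imperfection A B C) →ₗ[C] L, ∃ X : Exal.Ext B C L, X.IsCharHom A χ := by
  -- all extensions are trivial over `A`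
  have htriv : ∀ X : Exal.Ext B C L, X.IsTrivialOver A := fun X =>
    isTrivial_of_formallySmooth (X.restrictBase A)
  -- a section of `Ω_{C/A} → Ω_{C/B}`
  obtain ⟨s, hs⟩ := Module.projective_lifting_property (KaehlerDifferential.map A B C C)
    (LinearMap.id : Ω[C⁄B] →ₗ[C] Ω[C⁄B]) (KaehlerDifferential.map_surjective A B C)
  have hs' : ∀ ω : Ω[C⁄B], KaehlerDifferential.map A B C C (s ω) = ω := fun ω =>
    LinearMap.congr_fun hs ω
  -- the range of `mapBaseChange` is a direct summand of `Ω_{C/A}`, hence projective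
  let mbc := KaehlerDifferential.mapBaseChange A B C
  have hmem : ∀ ω : Ω[C⁄A], ω - s (KaehlerDifferential.map A B C C ω) ∈ LinearMap.range mbc := by
    intro ω
    rw [KaehlerDifferential.range_mapBaseChange, LinearMap.mem_ker, map_sub, hs', sub_self]
  let π : Ω[C⁄A] →ₗ[C] LinearMap.range mbc :=
    (LinearMap.id - s.comp (KaehlerDifferential.map A B C C)).codRestrict (LinearMap.range mbc) hmem
  have hπ : π.comp (LinearMap.range mbc).subtype = LinearMap.id := by
    apply LinearMap.ext
    rintro ⟨_, ⟨t, rfl⟩⟩
    apply Subtype.ext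
    change mbc t - s (KaehlerDifferential.map A B C C (mbc t)) = mbc t
    have : KaehlerDifferential.map A B C C (mbc t) = 0 :=
      (KaehlerDifferential.exact_mapBaseChange_map A B C).apply_apply_eq_zero t
    rw [this, map_zero, sub_zero]
  have hproj : Module.Projective C (LinearMap.range mbc) :=
    Module.Projective.of_split (LinearMap.range mbc).subtype π hπ
  -- so `mbc` onto its range splits
  obtain ⟨j, hj⟩ := Module.projective_lifting_property mbc.rangeRestrict
    (LinearMap.id : LinearMap.range mbc →ₗ[C] LinearMap.range mbc) mbc.surjective_rangeRestrict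
  have hj' : ∀ n : LinearMap.range mbc, mbc (j n) = n := fun n =>
    congrArg Subtype.val (LinearMap.congr_fun hj n)
  have hmem2 : ∀ t : TensorProduct B C Ω[B⁄A], t - j (mbc.rangeRestrict t) ∈ EGA41.imperfection A B C := by
    intro t
    change mbc (t - j (mbc.rangeRestrict t)) = 0
    rw [map_sub, hj']
    exact sub_self _
  let r : TensorProduct B C Ω[B⁄A] →ₗ[C] ↥(EGA41.imperfection A B C) :=
    (LinearMap.id - j.comp mbc.rangeRestrict).codRestrict (EGA41.imperfection A B C) hmem2
  have hr : ∀ z : ↥(EGA41.imperfection A B C), r z = z := by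
    intro z
    apply Subtype.ext
    change (z : TensorProduct B C Ω[B⁄A]) - j (mbc.rangeRestrict z) = z
    have : mbc.rangeRestrict (z : TensorProduct B C Ω[B⁄A]) = 0 := by
      apply Subtype.ext
      exact z.2
    rw [this, map_zero, sub_zero]
  have h : Module.Injective C L ∨
      ((∃ r : TensorProduct B C Ω[B⁄A] →ₗ[C] ↥(EGA41.imperfection A B C),
          ∀ z : ↥(EGA41.imperfection A B C), r z = z) ∧
        ∃ s : Ω[C⁄B] →ₗ[C] Ω[C⁄A], ∀ ω : Ω[C⁄B], KaehlerDifferential.map A B C C (s ω) = ω) :=
    Or.inr ⟨⟨r, hr⟩, ⟨s, hs'⟩⟩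
  refine ⟨fun X Y χ hXχ hYχ => Groth.Agent.S5822.result h X Y (htriv X) (htriv Y) χ hXχ hYχ,
    fun χ => ?_⟩
  obtain ⟨X, -, hX⟩ := Groth.Agent.S5823.result h χ
  exact ⟨X, hX⟩

end Groth.Agent.S5824
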