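import Groth.Statements.S5825
-- import your own Groth.Agent.* helpers here

set_option autoImplicit false
universe u v w
open EGA41

namespace Groth.Agent.S5825

/-- Let A be a topological ring, M, N topological A-modules with the topologies deduced from that of A,
and u : M → N a continuous linear map with dense image (a formal epimorphism). Then u is a formal
bimorphism (dense image and inducing) if and only if, for every open ideal J of A, the induced map
M/JM → N/JN is bijective (injectivity and surjectivity are written out elementwise). -/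
theorem result {A : Type u} {M : Type v} {N : Type w} [CommRing A]
    [TopologicalSpace A] [AddCommGroup M] [Module A M] [TopologicalSpace M] [AddCommGroup N] [Module A N]
    [TopologicalSpace N] (hM : TopMod.IsDeduced A M) (hN : TopMod.IsDeduced A N) (u : M →L[A] N)
    (hu : DenseRange u) :
    IsDenseInducing u ↔
      ∀ J : Ideal A, IsOpen (J : Set A) →
        (∀ x : M, u x ∈ (J • ⊤ : Submodule A N) → x ∈ (J • ⊤ : Submodule A M)) ∧
          ∀ y : N, ∃ x : M, y - u x ∈ (J • ⊤ : Submodule A N) := by
  obtain ⟨hMg, hMb⟩ := hM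
  obtain ⟨hNg, hNb⟩ := hN
  have hmap : ∀ (J : Ideal A) (x : M), x ∈ (J • ⊤ : Submodule A M) →
      u x ∈ (J • ⊤ : Submodule A N) := by
    intro J x hx
    refine Submodule.smul_induction_on hx ?_ ?_
    · intro a ha m _
      rw [map_smul]
      exact Submodule.smul_mem_smul ha Submodule.mem_top
    · intro a b ha hb
      rw [map_add]
      exact add_mem ha hb
  have hdense : ∀ (J : Ideal A), IsOpen (J : Set A) →
      ∀ y : N, ∃ x : M, y - u x ∈ (J • ⊤ : Submodule A N) := by
    intro J hJ y
    have hnb : {z : N | y - z ∈ (J • ⊤ : Submodule A N)} ∈ nhds y := by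
      have hc : Continuous (fun z : N => y - z) := continuous_const.sub continuous_id
      have ht : Filter.Tendsto (fun z : N => y - z) (nhds y) (nhds 0) := by
        have := hc.tendsto y
        simpa using this
      exact ht (hNb.mem_of_mem hJ)
    obtain ⟨z, hz1, ⟨x, rfl⟩⟩ := mem_closure_iff_nhds.mp (hu y) _ hnb
    exact ⟨x, hz1⟩
  constructor
  · intro hi J hJ
    refine ⟨?_, hdense J hJ⟩
    intro x hx
    have hnb : ((J • ⊤ : Submodule A M) : Set M) ∈ nhds (0 : M) := hMb.mem_of_mem hJ
    rw [hi.toIsInducing.nhds_eq_comap, map_zero, Filter.mem_comap] at hnb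
    obtain ⟨t, ht, htsub⟩ := hnb
    obtain ⟨J', hJ', hJ't⟩ := hNb.mem_iff.mp ht
    have hJ'' : IsOpen ((J ⊓ J' : Ideal A) : Set A) := by
      rw [Submodule.coe_inf]
      exact hJ.inter hJ'
    have key : ∀ n ∈ (J • ⊤ : Submodule A N), ∃ m ∈ (J • ⊤ : Submodule A M),
        n - u m ∈ ((J ⊓ J' : Ideal A) • ⊤ : Submodule A N) := by
      intro n hn
      refine Submodule.smul_induction_on hn ?_ ?_
      · intro a ha n0 _
        obtain ⟨m0, hm0⟩ := hdense _ hJ'' n0
        refine ⟨a • m0, Submodule.smul_mem_smul ha Submodule.mem_top, ?_⟩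
        rw [map_smul, ← smul_sub]
        exact Submodule.smul_mem _ a hm0
      · intro a b ⟨ma, hma, ha⟩ ⟨mb, hmb, hb⟩
        refine ⟨ma + mb, add_mem hma hmb, ?_⟩
        have : a + b - u (ma + mb) = (a - u ma) + (b - u mb) := by
          rw [map_add]; abel
        rw [this]
        exact add_mem ha hb
    obtain ⟨m, hm, hxm⟩ := key (u x) hx
    have h1 : u (x - m) ∈ ((J ⊓ J' : Ideal A) • ⊤ : Submodule A N) := by
      rw [map_sub]; exact hxm
    have h2 : u (x - m) ∈ ((J' : Ideal A) • ⊤ : Submodule A N) :=
      Submodule.smul_mono_left inf_le_right h1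
    have h3 : x - m ∈ (J • ⊤ : Submodule A M) := htsub (hJ't h2)
    have : x = (x - m) + m := by abel
    rw [this]
    exact add_mem h3 hm
  · intro h
    refine ⟨?_, hu⟩
    rw [IsTopologicalAddGroup.isInducing_iff_nhds_zero]
    refine hMb.ext (hNb.comap u) ?_ ?_
    · intro J hJ
      refine ⟨J, hJ, ?_⟩
      intro x hx
      exact (h J hJ).1 x hx
    · intro J hJ
      refine ⟨J, hJ, ?_⟩
      intro x hx
      exact hmap J x hx

end Groth.Agent.S5825
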