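import Groth.Statements.S5826
-- import your own Groth.Agent.* helpers here

set_option autoImplicit false
universe u v w
open EGA41

namespace Groth.Agent.S5826

lemma continuous_of_vanish {A : Type u} {M : Type v} {E : Type w} [CommRing A] [TopologicalSpace A]
    [AddCommGroup M] [Module A M] [TopologicalSpace M] [AddCommGroup E] [Module A E]
    [TopologicalSpace E] [DiscreteTopology E] (hM : TopMod.IsDeduced A M) (f : M →ₗ[A] E)
    (J : Ideal A) (hJ : IsOpen (J : Set A)) (hf : ∀ x ∈ (J • ⊤ : Submodule A M), f x = 0) :
    Continuous f := by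
  obtain ⟨hMg, hMb⟩ := hM
  refine continuous_of_continuousAt_zero f.toAddMonoidHom ?_
  rw [ContinuousAt, map_zero]
  intro s hs
  rw [Filter.mem_map]
  refine Filter.mem_of_superset (hMb.mem_of_mem hJ) ?_
  intro x hx
  change f x ∈ s
  rw [hf x hx]
  exact mem_of_mem_nhds hs

/-- Let A be a topological ring, M, N topological A-modules with the topologies deduced from that of A,
u : M → N a continuous linear map. Then u is formally left invertible if and only if, for every open
ideal J of A, the induced map M/JM → N/JN is left invertible, i.e. some linear map N → M/JM composes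
with u to the projection M → M/JM. -/
theorem result {A : Type u} {M : Type v} {N : Type w}
    [CommRing A] [TopologicalSpace A] [AddCommGroup M] [Module A M] [TopologicalSpace M] [AddCommGroup N]
    [Module A N] [TopologicalSpace N] (hM : TopMod.IsDeduced A M) (hN : TopMod.IsDeduced A N)
    (u : M →L[A] N) :
    TopMod.IsFormallyLeftInvertible u ↔
      ∀ J : Ideal A, IsOpen (J : Set A) →
        ∃ w : N →ₗ[A] M ⧸ (J • ⊤ : Submodule A M), ∀ x : M, w (u x) = Submodule.Quotient.mk x := by
  constructor
  · intro h J hJ
    letI : TopologicalSpace (M ⧸ (J • ⊤ : Submodule A M)) := ⊥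
    haveI : DiscreteTopology (M ⧸ (J • ⊤ : Submodule A M)) := ⟨rfl⟩
    have hc : Continuous (Submodule.mkQ (J • ⊤ : Submodule A M)) :=
      continuous_of_vanish hM _ J hJ (by
        intro x hx
        simpa using hx)
    obtain ⟨w, hw⟩ := h (M ⧸ (J • ⊤ : Submodule A M)) ⟨Submodule.mkQ _, hc⟩
    exact ⟨w.toLinearMap, fun x => by simpa using hw x⟩
  · intro h E _ _ _ _ v
    have hker : {x : M | v x = 0} ∈ nhds (0 : M) := by
      have : IsOpen (v ⁻¹' {0}) := (isOpen_discrete _).preimage v.continuous
      exact this.mem_nhds (by simp)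
    obtain ⟨J, hJ, hJsub⟩ := hM.2.mem_iff.mp hker
    obtain ⟨w, hw⟩ := h J hJ
    have hle : (J • ⊤ : Submodule A M) ≤ LinearMap.ker v.toLinearMap := fun x hx => by
      have := hJsub hx
      simpa using this
    let vbar : M ⧸ (J • ⊤ : Submodule A M) →ₗ[A] E := Submodule.liftQ _ v.toLinearMap hle
    let w' : N →ₗ[A] E := vbar.comp w
    have hvan : ∀ y ∈ (J • ⊤ : Submodule A N), w' y = 0 := by
      intro y hy
      refine Submodule.smul_induction_on hy ?_ ?_
      · intro a ha n _
        change vbar (w (a • n)) = 0
        obtain ⟨m, hm⟩ := Submodule.Quotient.mk_surjective _ (w n)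
        rw [map_smul, ← hm, ← Submodule.Quotient.mk_smul]
        have : (Submodule.Quotient.mk (a • m) : M ⧸ (J • ⊤ : Submodule A M)) = 0 := by
          rw [Submodule.Quotient.mk_eq_zero]
          exact Submodule.smul_mem_smul ha Submodule.mem_top
        rw [this, map_zero]
      · intro a b ha hb
        rw [map_add, ha, hb, add_zero]
    have hw'c : Continuous w' := continuous_of_vanish hN w' J hJ hvan
    refine ⟨⟨w', hw'c⟩, fun x => ?_⟩
    change vbar (w (u x)) = v x
    rw [hw]
    rfl

end Groth.Agent.S5826
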