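import Groth.Statements.S5827
import Groth.Agent.S5826
import Mathlib.RingTheory.Nilpotent.Basic
import Mathlib.Algebra.Module.Projective
import Mathlib.RingTheory.Ideal.Quotient.Operations

set_option autoImplicit false
universe u v w
open EGA41

namespace Groth.Agent.S5827

lemma exists_lift {A : Type u} [CommRing A] (J : Ideal A) {P : Type*} {X : Type*} {Y : Type*}
    [AddCommGroup P] [Module A P] [Module (A ⧸ J) P] [IsScalarTower A (A ⧸ J) P]
    [Module.Projective (A ⧸ J) P] [AddCommGroup X] [Module A X] [AddCommGroup Y] [Module A Y]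
    (hX : ∀ a ∈ J, ∀ x : X, a • x = 0) (f : X →ₗ[A] Y) (hf : Function.Surjective f)
    (g : P →ₗ[A] Y) : ∃ h : P →ₗ[A] X, ∀ p, f (h p) = g p := by
  have hY : ∀ a ∈ J, ∀ y : Y, a • y = 0 := by
    intro a ha y
    obtain ⟨x, rfl⟩ := hf y
    rw [← map_smul, hX a ha x, map_zero]
  have hXt : Module.IsTorsionBySet A X J := fun x a => hX a.1 a.2 x
  have hYt : Module.IsTorsionBySet A Y J := fun y a => hY a.1 a.2 y
  letI : Module (A ⧸ J) X := hXt.module
  letI : Module (A ⧸ J) Y := hYt.module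
  haveI : IsScalarTower A (A ⧸ J) X := hXt.isScalarTower
  haveI : IsScalarTower A (A ⧸ J) Y := hYt.isScalarTower
  have hsurj : Function.Surjective (algebraMap A (A ⧸ J)) := Ideal.Quotient.mk_surjective
  let f' : X →ₗ[A ⧸ J] Y := LinearMap.extendScalarsOfSurjective hsurj f
  let g' : P →ₗ[A ⧸ J] Y := LinearMap.extendScalarsOfSurjective hsurj g
  obtain ⟨h', hh'⟩ := Module.projective_lifting_property f' g' hf
  exact ⟨h'.restrictScalars A, fun p => LinearMap.congr_fun hh' p⟩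

lemma smul_top_quotient_eq_bot {A : Type u} [CommRing A] (J : Ideal A) (M : Type v)
    [AddCommGroup M] [Module A M] :
    (J • ⊤ : Submodule A (M ⧸ (J • ⊤ : Submodule A M))) = ⊥ := by
  rw [eq_bot_iff, Submodule.smul_le]
  intro a ha x _
  obtain ⟨m, rfl⟩ := Submodule.Quotient.mk_surjective _ x
  rw [← Submodule.Quotient.mk_smul, Submodule.mem_bot, Submodule.Quotient.mk_eq_zero]
  exact Submodule.smul_mem_smul ha Submodule.mem_top

lemma range_pow_le {A : Type u} [CommRing A] (I : Ideal A) {X : Type v}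
    [AddCommGroup X] [Module A X] (ψ : Module.End A X)
    (hψ : LinearMap.range ψ ≤ (I • ⊤ : Submodule A X)) (k : ℕ) :
    LinearMap.range (ψ ^ k) ≤ (I ^ k • ⊤ : Submodule A X) := by
  induction k with
  | zero => simp
  | succ k ih =>
    rintro _ ⟨x, rfl⟩
    have hps : ψ ^ (k + 1) = ψ * ψ ^ k := pow_succ' ψ k
    rw [hps, Module.End.mul_apply]
    have hx : (ψ ^ k) x ∈ (I ^ k • ⊤ : Submodule A X) := ih ⟨x, rfl⟩
    have h2 : ψ ((ψ ^ k) x) ∈ Submodule.map ψ (I ^ k • ⊤ : Submodule A X) :=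
      Submodule.mem_map_of_mem hx
    rw [Submodule.map_smul'', Submodule.map_top] at h2
    have h3 : (I ^ k • LinearMap.range ψ : Submodule A X) ≤ I ^ (k + 1) • ⊤ := by
      rw [pow_succ, mul_smul]
      exact Submodule.smul_mono le_rfl hψ
    exact h3 h2

/-- the key lifting step: for an open ideal `J ≤ 𝔏` with `𝔏 ^ n ≤ J`. -/
lemma exists_leftInv_mod {A : Type u} {M : Type v} {N : Type w} [CommRing A]
    [AddCommGroup M] [Module A M] [AddCommGroup N] [Module A N] (𝔏 J : Ideal A) (hJ𝔏 : J ≤ 𝔏)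
    (n : ℕ) (hn : 𝔏 ^ n ≤ J)
    [Module.Projective (A ⧸ J) (N ⧸ (J • (⊤ : Submodule A N)))]
    (u : M →ₗ[A] N)
    (w₀ : N →ₗ[A] M ⧸ (𝔏 • ⊤ : Submodule A M))
    (hw₀ : ∀ x : M, w₀ (u x) = Submodule.Quotient.mk x) :
    ∃ w : N →ₗ[A] M ⧸ (J • ⊤ : Submodule A M), ∀ x : M, w (u x) = Submodule.Quotient.mk x := by
  have hXkill : ∀ a ∈ J, ∀ x : M ⧸ (J • ⊤ : Submodule A M), a • x = 0 := by
    intro a ha x
    obtain ⟨m, rfl⟩ := Submodule.Quotient.mk_surjective _ x
    rw [← Submodule.Quotient.mk_smul, Submodule.Quotient.mk_eq_zero]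
    exact Submodule.smul_mem_smul ha Submodule.mem_top
  have hYkill : ∀ a ∈ 𝔏, ∀ x : M ⧸ (𝔏 • ⊤ : Submodule A M), a • x = 0 := by
    intro a ha x
    obtain ⟨m, rfl⟩ := Submodule.Quotient.mk_surjective _ x
    rw [← Submodule.Quotient.mk_smul, Submodule.Quotient.mk_eq_zero]
    exact Submodule.smul_mem_smul ha Submodule.mem_top
  -- f : M/JM → M/𝔏M
  let f : (M ⧸ (J • ⊤ : Submodule A M)) →ₗ[A] (M ⧸ (𝔏 • ⊤ : Submodule A M)) :=
    Submodule.liftQ _ (Submodule.mkQ _) (by
      rw [Submodule.ker_mkQ]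
      exact Submodule.smul_mono_left hJ𝔏)
  have hf_mk : ∀ m : M, f (Submodule.Quotient.mk m) = Submodule.Quotient.mk m := fun m => rfl
  have hf : Function.Surjective f := by
    intro y
    obtain ⟨m, rfl⟩ := Submodule.Quotient.mk_surjective _ y
    exact ⟨Submodule.Quotient.mk m, rfl⟩
  have hkerf : LinearMap.ker f ≤ (𝔏 • ⊤ : Submodule A (M ⧸ (J • ⊤ : Submodule A M))) := by
    intro x hx
    obtain ⟨m, rfl⟩ := Submodule.Quotient.mk_surjective _ x
    rw [LinearMap.mem_ker, hf_mk, Submodule.Quotient.mk_eq_zero] at hx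
    have : (Submodule.mkQ (J • ⊤ : Submodule A M)) m ∈
        Submodule.map (Submodule.mkQ (J • ⊤ : Submodule A M)) (𝔏 • ⊤ : Submodule A M) :=
      Submodule.mem_map_of_mem hx
    rw [Submodule.map_smul''] at this
    exact Submodule.smul_mono le_rfl le_top this
  -- g : N/JN → M/𝔏M
  let g : (N ⧸ (J • ⊤ : Submodule A N)) →ₗ[A] (M ⧸ (𝔏 • ⊤ : Submodule A M)) :=
    Submodule.liftQ _ w₀ (by
      rw [Submodule.smul_le]
      intro a ha y _
      rw [LinearMap.mem_ker, map_smul]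
      exact hYkill a (hJ𝔏 ha) _)
  have hg_mk : ∀ y : N, g (Submodule.Quotient.mk y) = w₀ y := fun y => rfl
  obtain ⟨h, hh⟩ := exists_lift J hXkill f hf g
  let w' : N →ₗ[A] (M ⧸ (J • ⊤ : Submodule A M)) := h.comp (Submodule.mkQ _)
  let φ : Module.End A (M ⧸ (J • ⊤ : Submodule A M)) :=
    Submodule.liftQ _ (w'.comp u) (by
      rw [Submodule.smul_le]
      intro a ha y _
      rw [LinearMap.mem_ker, map_smul]
      exact hXkill a ha _)
  have hφ_mk : ∀ m : M, φ (Submodule.Quotient.mk m) = w' (u m) := fun m => rfl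
  have hψ : LinearMap.range (1 - φ) ≤ (𝔏 • ⊤ : Submodule A (M ⧸ (J • ⊤ : Submodule A M))) := by
    rintro _ ⟨x, rfl⟩
    apply hkerf
    obtain ⟨m, rfl⟩ := Submodule.Quotient.mk_surjective _ x
    rw [LinearMap.mem_ker, LinearMap.sub_apply, map_sub, Module.End.one_apply, hφ_mk, hf_mk]
    change _ - f (h (Submodule.Quotient.mk (u m))) = 0
    rw [hh, hg_mk, hw₀, sub_self]
  have hnil : IsNilpotent (1 - φ) := by
    refine ⟨n, ?_⟩
    have h1 := range_pow_le 𝔏 (1 - φ) hψ n
    have h2 : (𝔏 ^ n • ⊤ : Submodule A (M ⧸ (J • ⊤ : Submodule A M))) ≤ ⊥ := by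
      rw [← smul_top_quotient_eq_bot J M]
      exact Submodule.smul_mono_left hn
    rw [← LinearMap.range_eq_bot, eq_bot_iff]
    exact h1.trans h2
  have hunit : IsUnit φ := by
    have := hnil.isUnit_one_sub
    rwa [sub_sub_cancel] at this
  obtain ⟨φ', hφ'⟩ := hunit.exists_left_inv
  refine ⟨φ'.comp w', fun x => ?_⟩
  change φ' (w' (u x)) = _
  rw [← hφ_mk, ← Module.End.mul_apply, hφ', Module.End.one_apply]

/-- Let A be a preadmissible topological ring with an ideal of definition 𝔏, M, N topological A-modules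
with the topologies deduced from that of A such that N/JN is a projective (A/J)-module for every
open ideal J, and u : M → N a continuous linear map. Then u is formally left invertible if and only
if the induced map M/𝔏M → N/𝔏N is left invertible. -/
theorem result {A : Type u} {M : Type v}
    {N : Type w} [CommRing A] [TopologicalSpace A] [AddCommGroup M] [Module A M] [TopologicalSpace M]
    [AddCommGroup N] [Module A N] [TopologicalSpace N] (hA : LinTop.IsPreadmissible A) (𝔏 : Ideal A)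
    (h𝔏 : LinTop.IsIdealOfDefinition A 𝔏) (hM : TopMod.IsDeduced A M) (hN : TopMod.IsDeduced A N)
    (hproj : ∀ J : Ideal A, IsOpen (J : Set A) → Module.Projective (A ⧸ J) (N ⧸ (J • (⊤ : Submodule A N))))
    (u : M →L[A] N) :
    TopMod.IsFormallyLeftInvertible u ↔
      ∃ w : N →ₗ[A] M ⧸ (𝔏 • ⊤ : Submodule A M), ∀ x : M, w (u x) = Submodule.Quotient.mk x := by
  rw [Groth.Agent.S5826.result hM hN u]
  constructor
  · intro h
    exact h 𝔏 h𝔏.1
  · rintro ⟨w₀, hw₀⟩ J hJ
    have hJ₁ : IsOpen ((J ⊓ 𝔏 : Ideal A) : Set A) := by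
      rw [Submodule.coe_inf]
      exact hJ.inter h𝔏.1
    obtain ⟨n, -, hn⟩ := h𝔏.2 _ (hJ₁.mem_nhds (zero_mem _))
    haveI := hproj _ hJ₁
    obtain ⟨w, hw⟩ := exists_leftInv_mod 𝔏 (J ⊓ 𝔏) inf_le_right n hn u.toLinearMap w₀ hw₀
    let q : (M ⧸ ((J ⊓ 𝔏 : Ideal A) • ⊤ : Submodule A M)) →ₗ[A] (M ⧸ (J • ⊤ : Submodule A M)) :=
      Submodule.liftQ _ (Submodule.mkQ _) (by
        rw [Submodule.ker_mkQ]
        exact Submodule.smul_mono_left inf_le_left)
    refine ⟨q.comp w, fun x => ?_⟩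
    change q (w (u x)) = _
    have := hw x
    rw [ContinuousLinearMap.coe_coe] at this
    rw [this]
    rfl

end Groth.Agent.S5827
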