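import Groth.Statements.S5828
import Groth.Agent.Lib.helper9.ExalLib
import Mathlib.Tactic
-- import your own Groth.Agent.* helpers here

set_option autoImplicit false
universe u v
open EGA41

namespace Groth.Agent.S5828

open Groth.Agent.Lib.helper9.ExalLib

/-- Commutative case. For an A-extension X of C by a C-module L, with middle ring E, projection p and
inclusion i, the A-derivations D : C → L and the self-equivalences of X correspond under D ↦ (x ↦ x
+ i (D (p x))): every derivation defines a self-equivalence with this formula, and every
self-equivalence is of this form for exactly one derivation. (Bijection of sets; the published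
statement also records compatibility with the group laws.) -/
theorem result {A : Type u} {C L : Type v} [CommRing A] [CommRing C] [Algebra A C]
    [AddCommGroup L] [Module C L] [Module A L] [IsScalarTower A C L] (X : Exal.Ext A C L) :
    (∀ D : Derivation A C L, ∃ e : X.Equiv X, ∀ x : X.E, e.toAlgEquiv x = x + X.incl (D (X.proj x))) ∧
      ∀ e : X.Equiv X, ∃! D : Derivation A C L, ∀ x : X.E, e.toAlgEquiv x = x + X.incl (D (X.proj x)) := by
  have hAsmul : ∀ (a : A) (z : L), algebraMap A X.E a * X.incl z = X.incl (a • z) := by
    intro a z
    rw [X.isExtension.mul_incl, AlgHom.commutes, algebraMap_smul]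
  constructor
  · intro D
    let φ : X.E →ₐ[A] X.E :=
      { toFun := fun x => x + X.incl (D (X.proj x))
        map_one' := by
          simp only [map_one, Derivation.map_one_eq_zero, map_zero, add_zero]
        map_mul' := by
          intro x y
          simp only [map_mul, Derivation.leibniz, map_add]
          rw [incl_smul, incl_smul]
          have := incl_mul_incl X (D (X.proj x)) (D (X.proj y))
          linear_combination (-1 : X.E) * this
        map_zero' := by simp
        map_add' := by
          intro x y
          simp only [map_add]
          abel
        commutes' := by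
          intro a
          simp only [AlgHom.commutes, Derivation.map_algebraMap, map_zero, add_zero] }
    refine ⟨equivOfAlgHom X X φ ?_ ?_, fun x => rfl⟩
    · intro x
      change X.proj (x + X.incl (D (X.proj x))) = X.proj x
      rw [map_add, proj_incl, add_zero]
    · intro z
      change X.incl z + X.incl (D (X.proj (X.incl z))) = X.incl z
      rw [proj_incl, map_zero, map_zero, add_zero]
  · intro e
    have hker : ∀ x : X.E, X.proj (e.toAlgEquiv x - x) = 0 := by
      intro x
      rw [map_sub, e.proj_apply, sub_self]
    let σ : C → X.E := Function.surjInv X.isExtension.proj_surjective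
    have hσ : ∀ c, X.proj (σ c) = c := Function.surjInv_eq _
    let d : C → L := fun c => X.kerLift (e.toAlgEquiv (σ c) - σ c) (hker _)
    have hd : ∀ c, X.incl (d c) = e.toAlgEquiv (σ c) - σ c := fun c => X.incl_kerLift _ _
    have hd' : ∀ x : X.E, X.incl (d (X.proj x)) = e.toAlgEquiv x - x := by
      intro x
      rw [hd]
      have h1 : X.proj (x - σ (X.proj x)) = 0 := by rw [map_sub, hσ, sub_self]
      obtain ⟨z, hz⟩ := exists_incl_eq X _ h1
      have h2 : e.toAlgEquiv (x - σ (X.proj x)) = x - σ (X.proj x) := by
        rw [← hz, e.apply_incl]
      rw [map_sub] at h2
      linear_combination (-1 : X.E) * h2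
    have hd_add : ∀ c c', d (c + c') = d c + d c' := by
      intro c c'
      apply X.isExtension.incl_injective
      obtain ⟨x, rfl⟩ := X.isExtension.proj_surjective c
      obtain ⟨y, rfl⟩ := X.isExtension.proj_surjective c'
      rw [← map_add X.proj, map_add X.incl, hd', hd', hd', map_add]
      ring
    have hd_mul : ∀ c c', d (c * c') = c • d c' + c' • d c := by
      intro c c'
      apply X.isExtension.incl_injective
      obtain ⟨x, rfl⟩ := X.isExtension.proj_surjective c
      obtain ⟨y, rfl⟩ := X.isExtension.proj_surjective c'
      rw [← map_mul X.proj, map_add X.incl, incl_smul, incl_smul, hd', hd', hd', map_mul]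
      have h1 := incl_mul_incl X (d (X.proj x)) (d (X.proj y))
      rw [hd', hd'] at h1
      linear_combination h1
    have hd_smul : ∀ (a : A) (c : C), d (a • c) = a • d c := by
      intro a c
      apply X.isExtension.incl_injective
      obtain ⟨x, rfl⟩ := X.isExtension.proj_surjective c
      rw [← map_smul X.proj, ← hAsmul, hd', hd', map_smul, Algebra.smul_def, Algebra.smul_def]
      ring
    have hd_one : d 1 = 0 := by
      have := hd_mul 1 1
      simp only [mul_one, one_smul] at this
      have h2 : d 1 + d 1 = d 1 + 0 := by rw [add_zero]; exact this.symm
      exact add_left_cancel h2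
    let D : Derivation A C L :=
      { toFun := d
        map_add' := hd_add
        map_smul' := hd_smul
        map_one_eq_zero' := hd_one
        leibniz' := hd_mul }
    refine ⟨D, ?_, ?_⟩
    · intro x
      change e.toAlgEquiv x = x + X.incl (d (X.proj x))
      rw [hd']; ring
    · intro D' hD'
      ext c
      obtain ⟨x, rfl⟩ := X.isExtension.proj_surjective c
      apply X.isExtension.incl_injective
      change X.incl (D' (X.proj x)) = X.incl (d (X.proj x))
      rw [hd']
      rw [hD' x]; ring

end Groth.Agent.S5828
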