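import Groth.Statements.S5831
import Groth.Agent.Lib.helper9.ExalHoch
import Groth.Agent.S5815
-- import your own Groth.Agent.* helpers here

set_option autoImplicit false
universe u
open EGA41

namespace Groth.Agent.S5831

open Groth.Agent.Lib.helper9.ExalLib

/-- Discrete case. Let B be an A-algebra which is a projective A-module (A and B in one universe). If
for every B-module L in that universe every A-bilinear symmetric Hochschild 2-cocycle B × B → L is a
coboundary, then B is formally smooth over A. (The published statement assumes B formally projective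
as a topological A-module; for discrete rings this is projectivity.) -/
theorem result {A B : Type u} [CommRing A]
    [CommRing B] [Algebra A B] [Module.Projective A B]
    (h : ∀ (L : Type u) [AddCommGroup L] [Module B L] [Module A L] [IsScalarTower A B L]
      (f : B →ₗ[A] B →ₗ[A] L), (∀ x y : B, f x y = f y x) →
        (∀ x y z : B, f (x * y) z + z • f x y = x • f y z + f x (y * z)) →
          ∃ g : B →ₗ[A] L, ∀ x y : B, f x y = x • g y - g (x * y) + y • g x) :
    Algebra.FormallySmooth A B := by
  rw [Groth.Agent.S5815.result]
  intro L _ _ X
  let _ : Module A L := Module.compHom L (algebraMap A B)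
  have : IsScalarTower A B L := IsScalarTower.of_algebraMap_smul (fun _ _ => rfl)
  have hincl_smul : ∀ (a : A) (z : L), X.incl (a • z) = a • X.incl z := by
    intro a z
    rw [Algebra.smul_def, X.isExtension.mul_incl, AlgHom.commutes]
    rfl
  obtain ⟨σ, hσ⟩ := Module.projective_lifting_property X.proj.toLinearMap LinearMap.id
    X.isExtension.proj_surjective
  have hσ' : ∀ b, X.proj (σ b) = b := fun b => LinearMap.congr_fun hσ b
  have hker : ∀ x y : B, X.proj (σ x * σ y - σ (x * y)) = 0 := by
    intro x y
    rw [map_sub, map_mul, hσ', hσ', hσ', sub_self]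
  let F : B → B → L := fun x y => X.kerLift _ (hker x y)
  have hF : ∀ x y, X.incl (F x y) = σ x * σ y - σ (x * y) := fun x y => X.incl_kerLift _ _
  let f : B →ₗ[A] B →ₗ[A] L := LinearMap.mk₂ A F
    (by
      intro x x' y
      apply X.isExtension.incl_injective
      simp only [map_add, hF, add_mul]; ring)
    (by
      intro a x y
      apply X.isExtension.incl_injective
      rw [hincl_smul, hF, hF, smul_mul_assoc, map_smul, map_smul, smul_sub, smul_mul_assoc])
    (by
      intro x y y'
      apply X.isExtension.incl_injective
      simp only [map_add, hF, mul_add]; ring)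
    (by
      intro a x y
      apply X.isExtension.incl_injective
      rw [hincl_smul, hF, hF, mul_smul_comm, map_smul, map_smul, smul_sub, mul_smul_comm])
  have hf : ∀ x y, f x y = F x y := fun x y => rfl
  obtain ⟨g, hg⟩ := h L f
    (by
      intro x y
      apply X.isExtension.incl_injective
      rw [hf, hf, hF, hF, mul_comm x y, mul_comm (σ x)])
    (by
      intro x y z
      apply X.isExtension.incl_injective
      rw [hf, hf, hf, hf, map_add, map_add, hF, hF]
      have e1 : X.incl (z • F x y) = σ z * X.incl (F x y) := by
        rw [X.isExtension.mul_incl, hσ']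
      have e2 : X.incl (x • F y z) = σ x * X.incl (F y z) := by
        rw [X.isExtension.mul_incl, hσ']
      rw [e1, e2, hF, hF]
      ring)
  -- the section
  have hincl_g : ∀ x y, σ x * X.incl (g y) = X.incl (x • g y) := by
    intro x y
    rw [X.isExtension.mul_incl, hσ']
  let iL : L →ₗ[A] X.E :=
    { toFun := X.incl
      map_add' := map_add X.incl
      map_smul' := hincl_smul }
  let s : B →ₗ[A] X.E := σ - iL.comp g
  have hs : ∀ b, s b = σ b - X.incl (g b) := fun b => rfl
  have hs_mul : ∀ x y, s (x * y) = s x * s y := by
    intro x y
    have h1 := hF x y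
    rw [← hf, hg, map_add, map_sub] at h1
    have h2 := incl_mul_incl X (g x) (g y)
    rw [hs, hs, hs]
    have h3 := hincl_g x y
    have h4 := hincl_g y x
    linear_combination h1 + h3 + h4 - h2
  have hps : ∀ b, X.proj (s b) = b := by
    intro b
    rw [hs, map_sub, hσ', proj_incl, sub_zero]
  have hs_one : s 1 = 1 := by
    have h1 : X.proj (s 1 - 1) = 0 := by rw [map_sub, hps, map_one, sub_self]
    obtain ⟨z, hz⟩ := exists_incl_eq X _ h1
    have h2 : s 1 = s 1 * s 1 := by rw [← hs_mul, mul_one]
    have h3 : s 1 = 1 + X.incl z := by rw [hz]; ring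
    have h4 := incl_mul_incl X z z
    have h5 : X.incl z = 0 := by
      rw [h3] at h2
      linear_combination (-1 : X.E) * h2 - h4
    rw [h3, h5, add_zero]
  exact ⟨AlgHom.ofLinearMap s hs_one hs_mul, hps⟩

end Groth.Agent.S5831
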