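import Groth.Statements.S5832
import Groth.Agent.Lib.helper9.ExalLib
import Mathlib.Tactic
-- import your own Groth.Agent.* helpers here

set_option autoImplicit false
universe u u' v
open EGA41

namespace Groth.Agent.S5832

open Groth.Agent.Lib.helper9.ExalLib

attribute [local instance] Exal.opModule Exal.isCentralScalar_opModule

/-- Surjectivity at the end of the sequence. For ring maps Λ → A → B → C and a C-module L, every
Λ-trivial A-extension of B by L is equivalent to the inverse image along B → C of a Λ-trivial
A-extension of C by L. (Exactness at the other places is that of the six-term derivation-extension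
sequence restricted to Λ-trivial classes.) -/
theorem result {Λ : Type u} {A : Type u'} {B C L : Type v}
    [CommRing Λ] [CommRing A] [CommRing B] [CommRing C] [Algebra Λ A] [Algebra Λ B] [Algebra Λ C]
    [Algebra A B] [Algebra B C] [Algebra A C] [IsScalarTower Λ A B] [IsScalarTower Λ A C] [IsScalarTower A B C]
    [AddCommGroup L] [Module C L] [Module B L] [IsScalarTower B C L]
    (Y : Exal.Ext A B L) (hY : Y.IsTrivialOver Λ) :
    ∃ X : Exal.Ext A C L, X.IsTrivialOver Λ ∧ Nonempty ((X.pullback B).Equiv Y) := by
  obtain ⟨s, hs⟩ := hY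
  let s0 : B →+* Y.E := (s.toRingHom : B →+* (Y.restrictBase Λ).E)
  have hs0 : ∀ b, Y.proj (s0 b) = b := hs
  have hs0Λ : ∀ r : Λ, s0 (algebraMap Λ B r) = algebraMap A Y.E (algebraMap Λ A r) :=
    fun r => s.commutes r
  -- the ring hom `B ⊕ L → C ⊕ L`
  let mapBC : TrivSqZeroExt B L →+* TrivSqZeroExt C L :=
    { toFun := fun x => TrivSqZeroExt.inl (algebraMap B C x.fst) + TrivSqZeroExt.inr x.snd
      map_one' := by simp
      map_mul' := fun x y => by
        apply TrivSqZeroExt.ext
        · simp
        · simp only [TrivSqZeroExt.fst_mul, TrivSqZeroExt.snd_mul, op_smul_eq_smul,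
            TrivSqZeroExt.snd_add, TrivSqZeroExt.snd_inl, TrivSqZeroExt.snd_inr, zero_add,
            TrivSqZeroExt.fst_add, TrivSqZeroExt.fst_inl, TrivSqZeroExt.fst_inr, add_zero,
            algebraMap_smul]
      map_zero' := by simp
      map_add' := fun x y => by
        apply TrivSqZeroExt.ext
        · simp
        · simp }
  have hmapBC_fst : ∀ x, (mapBC x).fst = algebraMap B C x.fst := fun x => by
    change (TrivSqZeroExt.inl (algebraMap B C x.fst) + TrivSqZeroExt.inr x.snd : TrivSqZeroExt C L).fst = _
    simp
  have hmapBC_snd : ∀ x, (mapBC x).snd = x.snd := fun x => by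
    change (TrivSqZeroExt.inl (algebraMap B C x.fst) + TrivSqZeroExt.inr x.snd : TrivSqZeroExt C L).snd = _
    simp
  let τ : Y.E →+* TrivSqZeroExt C L := mapBC.comp (toTriv Y s0 hs0)
  have hτ_fst : ∀ y, (τ y).fst = algebraMap B C (Y.proj y) := fun y => by
    change (mapBC (toTriv Y s0 hs0 y)).fst = _
    rw [hmapBC_fst, fst_toTriv]
  have hτ_snd : ∀ y, (τ y).snd = kap Y s0 hs0 y := fun y => by
    change (mapBC (toTriv Y s0 hs0 y)).snd = _
    rw [hmapBC_snd, snd_toTriv]
  let ρ : A →+* TrivSqZeroExt C L := τ.comp (algebraMap A Y.E)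
  let algA : Algebra A (TrivSqZeroExt C L) := ρ.toAlgebra
  let X : Exal.Ext A C L :=
    { E := TrivSqZeroExt C L
      commRing := inferInstance
      algebra := algA
      proj :=
        { toFun := fun x => TrivSqZeroExt.fst x
          map_one' := TrivSqZeroExt.fst_one
          map_mul' := TrivSqZeroExt.fst_mul
          map_zero' := TrivSqZeroExt.fst_zero
          map_add' := TrivSqZeroExt.fst_add
          commutes' := fun a => by
            change (τ (algebraMap A Y.E a)).fst = algebraMap A C a
            rw [hτ_fst, AlgHom.commutes, ← IsScalarTower.algebraMap_apply] }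
      incl := (TrivSqZeroExt.inrHom C L).toAddMonoidHom
      isExtension :=
        { proj_surjective := fun c => ⟨TrivSqZeroExt.inl c, rfl⟩
          incl_injective := TrivSqZeroExt.inr_injective
          exact := fun x => by
            constructor
            · intro hx
              exact ⟨TrivSqZeroExt.snd x, TrivSqZeroExt.ext hx.symm rfl⟩
            · rintro ⟨z, rfl⟩
              rfl
          mul_incl := fun x z => by
            refine TrivSqZeroExt.ext ?_ ?_
            · change TrivSqZeroExt.fst x * 0 = 0
              exact mul_zero _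
            · change TrivSqZeroExt.fst x • z + MulOpposite.op (0 : C) • TrivSqZeroExt.snd x =
                TrivSqZeroExt.fst x • z
              rw [MulOpposite.op_zero, zero_smul, add_zero] } }
  refine ⟨X, ?_, ⟨?_⟩⟩
  · -- Λ-trivial
    let σ : C →+* (X.restrictBase Λ).E := TrivSqZeroExt.inlHom C L
    refine ⟨{ σ with commutes' := ?_ }, fun c => rfl⟩
    intro r
    change (TrivSqZeroExt.inl (algebraMap Λ C r) : TrivSqZeroExt C L) =
      τ (algebraMap A Y.E (algebraMap Λ A r))
    apply TrivSqZeroExt.ext
    · rw [hτ_fst, AlgHom.commutes, ← IsScalarTower.algebraMap_apply,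
        ← IsScalarTower.algebraMap_apply]
      rfl
    · rw [hτ_snd, ← hs0Λ, kap_section]
      rfl
  · -- the equivalence
    let φ1 : Y.E →ₐ[A] X.E := { τ with commutes' := fun a => rfl }
    have hmem : ∀ y : Y.E, (AlgHom.prod φ1 Y.proj) y ∈ X.fiberProd B := by
      intro y
      change (τ y).fst = algebraMap B C (Y.proj y)
      exact hτ_fst y
    let ψ : Y.E →ₐ[A] (X.pullback B).E :=
      AlgHom.codRestrict (AlgHom.prod φ1 Y.proj) (X.fiberProd B) hmem
    refine (equivOfAlgHom Y (X.pullback B) ψ (fun y => rfl) ?_).symm
    intro z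
    apply Subtype.ext
    apply Prod.ext
    · change τ (Y.incl z) = TrivSqZeroExt.inr z
      apply TrivSqZeroExt.ext
      · rw [hτ_fst, proj_incl, map_zero]; rfl
      · rw [hτ_snd, kap_incl]; rfl
    · change Y.proj (Y.incl z) = 0
      exact proj_incl Y z

end Groth.Agent.S5832
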