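import Groth.Statements.S5838
import Groth.Agent.S5827
import Mathlib.Topology.Algebra.IsUniformGroup.Basic
import Mathlib.Topology.Algebra.OpenSubgroup
import Mathlib.Topology.UniformSpace.Cauchy

set_option autoImplicit false
universe u v w
open EGA41

namespace Groth.Agent.S5838

section Complete

variable {A : Type u} {M : Type v} [CommRing A] [TopologicalSpace A] [AddCommGroup M] [Module A M]

lemma isOpen_smul_top [TopologicalSpace M] (hM : TopMod.IsDeduced A M) (J : Ideal A)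
    (hJ : IsOpen (J : Set A)) : IsOpen ((J • ⊤ : Submodule A M) : Set M) := by
  have h1 : ((J • ⊤ : Submodule A M) : Set M) ∈ nhds (0 : M) := hM.2.mem_of_mem hJ
  haveI := hM.1
  exact (J • ⊤ : Submodule A M).toAddSubgroup.isOpen_of_mem_nhds h1

lemma eq_zero_of_forall_mem [TopologicalSpace M] [T2Space M] (𝔍 : ℕ → Ideal A)
    (h𝔍basis : (nhds (0 : A)).HasBasis (fun _ : ℕ => True) (fun n => (𝔍 n : Set A)))
    (hM : TopMod.IsDeduced A M) (x : M) (h : ∀ n, x ∈ (𝔍 n • ⊤ : Submodule A M)) : x = 0 := by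
  by_contra hx
  have h1 : ({x}ᶜ : Set M) ∈ nhds (0 : M) :=
    isOpen_compl_singleton.mem_nhds (by simpa using Ne.symm hx)
  obtain ⟨J, hJ, hJs⟩ := hM.2.mem_iff.mp h1
  obtain ⟨n, -, hn⟩ := h𝔍basis.mem_iff.mp (hJ.mem_nhds (zero_mem J))
  have hle : 𝔍 n ≤ J := hn
  have := hJs (Submodule.smul_mono_left hle (h n))
  exact this rfl

lemma exists_limit [UniformSpace M] [IsUniformAddGroup M] [CompleteSpace M]
    (𝔍 : ℕ → Ideal A) (h𝔍open : ∀ n, IsOpen (𝔍 n : Set A)) (h𝔍anti : Antitone 𝔍)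
    (h𝔍basis : (nhds (0 : A)).HasBasis (fun _ : ℕ => True) (fun n => (𝔍 n : Set A)))
    (hM : TopMod.IsDeduced A M) (y : ℕ → M)
    (hy : ∀ n, y (n + 1) - y n ∈ (𝔍 n • ⊤ : Submodule A M)) :
    ∃ x : M, ∀ n, x - y n ∈ (𝔍 n • ⊤ : Submodule A M) := by
  have hmn : ∀ n m, n ≤ m → y m - y n ∈ (𝔍 n • ⊤ : Submodule A M) := by
    intro n m hnm
    induction m, hnm using Nat.le_induction with
    | base => simp
    | succ m hm ih =>
      have h1 : y (m + 1) - y n = (y (m + 1) - y m) + (y m - y n) := by abel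
      rw [h1]
      exact add_mem (Submodule.smul_mono_left (h𝔍anti hm) (hy m)) ih
  have hb0 : (nhds (0 : M)).HasBasis (fun _ : ℕ => True)
      (fun n => ((𝔍 n • ⊤ : Submodule A M) : Set M)) := by
    refine ⟨fun s => ?_⟩
    rw [hM.2.mem_iff]
    constructor
    · rintro ⟨J, hJ, hJs⟩
      obtain ⟨n, -, hn⟩ := h𝔍basis.mem_iff.mp (hJ.mem_nhds (zero_mem J))
      have hle : 𝔍 n ≤ J := hn
      have hle' : (𝔍 n • ⊤ : Submodule A M) ≤ J • ⊤ := Submodule.smul_mono_left hle
      exact ⟨n, trivial, fun z hz => hJs (hle' hz)⟩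
    · rintro ⟨n, -, hn⟩
      exact ⟨𝔍 n, h𝔍open n, hn⟩
  have hbasis : (uniformity M).HasBasis (fun _ : ℕ => True)
      (fun n => {p : M × M | p.2 - p.1 ∈ (𝔍 n • ⊤ : Submodule A M)}) := by
    rw [uniformity_eq_comap_nhds_zero M]
    exact hb0.comap _
  have hc : CauchySeq y := by
    rw [hbasis.cauchySeq_iff']
    intro n _
    refine ⟨n, fun m hm => ?_⟩
    change y n - y m ∈ (𝔍 n • ⊤ : Submodule A M)
    rw [← neg_sub]
    exact neg_mem (hmn n m hm)
  obtain ⟨x, hx⟩ := cauchySeq_tendsto_of_complete hc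
  refine ⟨x, fun n => ?_⟩
  have hclosed : IsClosed {z : M | z - y n ∈ (𝔍 n • ⊤ : Submodule A M)} := by
    have h1 : IsClosed ((𝔍 n • ⊤ : Submodule A M) : Set M) :=
      (𝔍 n • ⊤ : Submodule A M).toAddSubgroup.isClosed_of_isOpen
        (isOpen_smul_top hM _ (h𝔍open n))
    exact h1.preimage (continuous_id.sub continuous_const)
  exact hclosed.mem_of_tendsto hx (Filter.eventually_atTop.mpr ⟨n, fun m hm => hmn n m hm⟩)

end Complete

section Alg

variable {A : Type u} {M : Type v} {N : Type w} [CommRing A] [AddCommGroup M] [Module A M]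
  [AddCommGroup N] [Module A N]

lemma exists_lift_leftInv (J J' : Ideal A) (hJ : J' ≤ J) (u : M →ₗ[A] N)
    [Module.Projective (A ⧸ J')
      ((N ⧸ LinearMap.range u) ⧸ (J' • (⊤ : Submodule A (N ⧸ LinearMap.range u))))]
    (r : (M ⧸ (J' • ⊤ : Submodule A M)) →ₗ[A] (M ⧸ (J • ⊤ : Submodule A M)))
    (hr : ∀ m : M, r (Submodule.Quotient.mk m) = Submodule.Quotient.mk m)
    (w : N →ₗ[A] M ⧸ (J • ⊤ : Submodule A M)) (hw : ∀ x, w (u x) = Submodule.Quotient.mk x)
    (w' : N →ₗ[A] M ⧸ (J' • ⊤ : Submodule A M)) (hw' : ∀ x, w' (u x) = Submodule.Quotient.mk x) :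
    ∃ w'' : N →ₗ[A] M ⧸ (J' • ⊤ : Submodule A M),
      (∀ x, w'' (u x) = Submodule.Quotient.mk x) ∧ ∀ y, r (w'' y) = w y := by
  have hXkill : ∀ a ∈ J', ∀ x : M ⧸ (J' • ⊤ : Submodule A M), a • x = 0 := by
    intro a ha x
    obtain ⟨m, rfl⟩ := Submodule.Quotient.mk_surjective _ x
    rw [← Submodule.Quotient.mk_smul, Submodule.Quotient.mk_eq_zero]
    exact Submodule.smul_mem_smul ha Submodule.mem_top
  have hYkill : ∀ a ∈ J, ∀ x : M ⧸ (J • ⊤ : Submodule A M), a • x = 0 := by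
    intro a ha x
    obtain ⟨m, rfl⟩ := Submodule.Quotient.mk_surjective _ x
    rw [← Submodule.Quotient.mk_smul, Submodule.Quotient.mk_eq_zero]
    exact Submodule.smul_mem_smul ha Submodule.mem_top
  have hrsurj : Function.Surjective r := by
    intro y
    obtain ⟨m, rfl⟩ := Submodule.Quotient.mk_surjective _ y
    exact ⟨Submodule.Quotient.mk m, hr m⟩
  let d : N →ₗ[A] M ⧸ (J • ⊤ : Submodule A M) := w - r.comp w'
  have hd : ∀ y, d y = w y - r (w' y) := fun y => rfl
  let δ : (N ⧸ LinearMap.range u) →ₗ[A] M ⧸ (J • ⊤ : Submodule A M) :=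
    Submodule.liftQ _ d (by
      rintro _ ⟨x, rfl⟩
      rw [LinearMap.mem_ker, hd, hw, hw', hr, sub_self])
  have hδ : ∀ y : N, δ (Submodule.Quotient.mk y) = d y := fun y => rfl
  let δbar : ((N ⧸ LinearMap.range u) ⧸ (J' • (⊤ : Submodule A (N ⧸ LinearMap.range u)))) →ₗ[A]
      M ⧸ (J • ⊤ : Submodule A M) :=
    Submodule.liftQ _ δ (by
      rw [Submodule.smul_le]
      intro a ha c _
      rw [LinearMap.mem_ker, map_smul]
      exact hYkill a (hJ ha) _)
  have hδbar : ∀ c : N ⧸ LinearMap.range u, δbar (Submodule.Quotient.mk c) = δ c := fun c => rfl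
  obtain ⟨h, hh⟩ := Groth.Agent.S5827.exists_lift J' hXkill r hrsurj δbar
  let q : N →ₗ[A] ((N ⧸ LinearMap.range u) ⧸ (J' • (⊤ : Submodule A (N ⧸ LinearMap.range u)))) :=
    (Submodule.mkQ _).comp (Submodule.mkQ _)
  have hq : ∀ y : N, q y = Submodule.Quotient.mk (Submodule.Quotient.mk y) := fun y => rfl
  refine ⟨w' + h.comp q, ?_, ?_⟩
  · intro x
    rw [LinearMap.add_apply, LinearMap.comp_apply, hw', hq]
    have : (Submodule.Quotient.mk (u x) : N ⧸ LinearMap.range u) = 0 := by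
      rw [Submodule.Quotient.mk_eq_zero]
      exact ⟨x, rfl⟩
    rw [this, Submodule.Quotient.mk_zero, map_zero, add_zero]
  · intro y
    rw [LinearMap.add_apply, LinearMap.comp_apply, map_add, hh, hq, hδbar, hδ, hd]
    abel

end Alg

/-- Let A be a topological ring with a countable decreasing fundamental system (𝔍_n) of open ideals, M
and N topological A-modules with the topologies deduced from that of A, M Hausdorff and complete,
and u : M → N a continuous linear map such that for every n the cokernel of M/𝔍_n M → N/𝔍_n N is a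
projective (A/𝔍_n)-module. Then u is formally left invertible if and only if it has a linear left
inverse. (The published statement adds that u is then a topological isomorphism onto a topological
direct factor.) -/
theorem result {A : Type u} {M : Type v} {N : Type w}
    [CommRing A] [TopologicalSpace A] [AddCommGroup M] [Module A M] [UniformSpace M] [IsUniformAddGroup M]
    [CompleteSpace M] [T2Space M] [AddCommGroup N] [Module A N] [TopologicalSpace N]
    (𝔍 : ℕ → Ideal A) (h𝔍open : ∀ n, IsOpen (𝔍 n : Set A)) (h𝔍anti : Antitone 𝔍)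
    (h𝔍basis : (nhds (0 : A)).HasBasis (fun _ : ℕ => True) (fun n => (𝔍 n : Set A)))
    (hM : TopMod.IsDeduced A M) (hN : TopMod.IsDeduced A N) (u : M →L[A] N)
    (hcoker : ∀ n, Module.Projective (A ⧸ 𝔍 n)
      ((N ⧸ LinearMap.range u.toLinearMap) ⧸ (𝔍 n • (⊤ : Submodule A (N ⧸ LinearMap.range u.toLinearMap))))) :
    TopMod.IsFormallyLeftInvertible u ↔ ∃ w : N →ₗ[A] M, ∀ x : M, w (u x) = x := by
  constructor
  · intro h
    rw [Groth.Agent.S5826.result hM hN u] at h
    let r : ∀ n : ℕ, (M ⧸ (𝔍 (n + 1) • ⊤ : Submodule A M)) →ₗ[A] (M ⧸ (𝔍 n • ⊤ : Submodule A M)) :=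
      fun n => Submodule.liftQ _ (Submodule.mkQ _) (by
        rw [Submodule.ker_mkQ]
        exact Submodule.smul_mono_left (h𝔍anti (Nat.le_succ n)))
    have hr : ∀ n (m : M), r n (Submodule.Quotient.mk m) = Submodule.Quotient.mk m :=
      fun n m => rfl
    have hstep : ∀ n (w : {w : N →ₗ[A] M ⧸ (𝔍 n • ⊤ : Submodule A M) //
          ∀ x, w (u x) = Submodule.Quotient.mk x}),
        ∃ w'' : {w : N →ₗ[A] M ⧸ (𝔍 (n + 1) • ⊤ : Submodule A M) //
          ∀ x, w (u x) = Submodule.Quotient.mk x}, ∀ y, r n (w''.1 y) = w.1 y := by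
      intro n w
      obtain ⟨w', hw'⟩ := h (𝔍 (n + 1)) (h𝔍open _)
      haveI := hcoker (n + 1)
      obtain ⟨w'', h1, h2⟩ := exists_lift_leftInv (𝔍 n) (𝔍 (n + 1)) (h𝔍anti (Nat.le_succ n))
        u.toLinearMap (r n) (hr n) w.1 w.2 w' hw'
      exact ⟨⟨w'', h1⟩, h2⟩
    obtain ⟨w0, hw0⟩ := h (𝔍 0) (h𝔍open 0)
    let W : (n : ℕ) → {w : N →ₗ[A] M ⧸ (𝔍 n • ⊤ : Submodule A M) //
        ∀ x, w (u x) = Submodule.Quotient.mk x} :=
      fun n => Nat.rec ⟨w0, hw0⟩ (fun n w => Classical.choose (hstep n w)) n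
    have hW : ∀ n y, r n ((W (n + 1)).1 y) = (W n).1 y :=
      fun n y => Classical.choose_spec (hstep n (W n)) y
    have hex : ∀ y : N, ∃ x : M, ∀ n,
        (Submodule.Quotient.mk x : M ⧸ (𝔍 n • ⊤ : Submodule A M)) = (W n).1 y := by
      intro y
      have hl : ∀ n, ∃ m : M,
          (Submodule.Quotient.mk m : M ⧸ (𝔍 n • ⊤ : Submodule A M)) = (W n).1 y :=
        fun n => Submodule.Quotient.mk_surjective _ _
      choose l hl using hl
      have hly : ∀ n, l (n + 1) - l n ∈ (𝔍 n • ⊤ : Submodule A M) := by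
        intro n
        rw [← Submodule.Quotient.eq, hl n, ← hW n y, ← hl (n + 1), hr]
      obtain ⟨x, hx⟩ := exists_limit 𝔍 h𝔍open h𝔍anti h𝔍basis hM l hly
      refine ⟨x, fun n => ?_⟩
      rw [← hl n, Submodule.Quotient.eq]
      exact hx n
    choose wf hwf using hex
    have huniq : ∀ x x' : M, (∀ n, (Submodule.Quotient.mk x : M ⧸ (𝔍 n • ⊤ : Submodule A M)) =
        Submodule.Quotient.mk x') → x = x' := by
      intro x x' hxx
      rw [← sub_eq_zero]
      refine eq_zero_of_forall_mem 𝔍 h𝔍basis hM _ (fun n => ?_)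
      rw [← Submodule.Quotient.eq]
      exact hxx n
    refine ⟨{ toFun := wf, map_add' := ?_, map_smul' := ?_ }, ?_⟩
    · intro y y'
      refine huniq _ _ (fun n => ?_)
      rw [Submodule.Quotient.mk_add, hwf, hwf, hwf, map_add]
    · intro a y
      refine huniq _ _ (fun n => ?_)
      rw [RingHom.id_apply, Submodule.Quotient.mk_smul, hwf, hwf, map_smul]
    · intro x
      refine huniq _ _ (fun n => ?_)
      change Submodule.Quotient.mk (wf (u x)) = _
      rw [hwf]
      exact (W n).2 x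
  · rintro ⟨w, hw⟩
    rw [Groth.Agent.S5826.result hM hN u]
    intro J hJ
    refine ⟨(Submodule.mkQ _).comp w, fun x => ?_⟩
    rw [LinearMap.comp_apply, hw]
    rfl

end Groth.Agent.S5838
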