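import Groth.Statements.S5839
import Groth.Agent.S5838

set_option autoImplicit false
universe u v w
open EGA41

namespace Groth.Agent.S5839

section Alg

variable {A : Type u} {M : Type v} {N : Type w} [CommRing A] [AddCommGroup M] [Module A M]
  [AddCommGroup N] [Module A N]

lemma projective_coker (J : Ideal A) (u : M →ₗ[A] N)
    [Module.Projective (A ⧸ J) (N ⧸ (J • (⊤ : Submodule A N)))]
    (w : N →ₗ[A] M ⧸ (J • ⊤ : Submodule A M)) (hw : ∀ x, w (u x) = Submodule.Quotient.mk x) :
    Module.Projective (A ⧸ J)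
      ((N ⧸ LinearMap.range u) ⧸ (J • (⊤ : Submodule A (N ⧸ LinearMap.range u)))) := by
  have hNkill : ∀ a ∈ J, ∀ x : N ⧸ (J • ⊤ : Submodule A N), a • x = 0 := by
    intro a ha x
    obtain ⟨m, rfl⟩ := Submodule.Quotient.mk_surjective _ x
    rw [← Submodule.Quotient.mk_smul, Submodule.Quotient.mk_eq_zero]
    exact Submodule.smul_mem_smul ha Submodule.mem_top
  let uJ : (M ⧸ (J • ⊤ : Submodule A M)) →ₗ[A] (N ⧸ (J • ⊤ : Submodule A N)) :=
    Submodule.liftQ _ ((Submodule.mkQ _).comp u) (by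
      rw [Submodule.smul_le]
      intro a ha m _
      rw [LinearMap.mem_ker, map_smul]
      exact hNkill a ha _)
  have huJ : ∀ m : M, uJ (Submodule.Quotient.mk m) = Submodule.Quotient.mk (u m) := fun m => rfl
  let e : N →ₗ[A] (N ⧸ (J • ⊤ : Submodule A N)) := Submodule.mkQ _ - uJ.comp w
  have he : ∀ y, e y = Submodule.Quotient.mk y - uJ (w y) := fun y => rfl
  let e' : (N ⧸ LinearMap.range u) →ₗ[A] (N ⧸ (J • ⊤ : Submodule A N)) :=
    Submodule.liftQ _ e (by
      rintro _ ⟨x, rfl⟩
      rw [LinearMap.mem_ker, he, hw, huJ, sub_self])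
  have he' : ∀ y : N, e' (Submodule.Quotient.mk y) = e y := fun y => rfl
  let i : ((N ⧸ LinearMap.range u) ⧸ (J • (⊤ : Submodule A (N ⧸ LinearMap.range u)))) →ₗ[A]
      (N ⧸ (J • ⊤ : Submodule A N)) :=
    Submodule.liftQ _ e' (by
      rw [Submodule.smul_le]
      intro a ha c _
      rw [LinearMap.mem_ker, map_smul]
      exact hNkill a ha _)
  have hi : ∀ c : N ⧸ LinearMap.range u, i (Submodule.Quotient.mk c) = e' c := fun c => rfl
  let s : (N ⧸ (J • ⊤ : Submodule A N)) →ₗ[A]
      ((N ⧸ LinearMap.range u) ⧸ (J • (⊤ : Submodule A (N ⧸ LinearMap.range u)))) :=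
    Submodule.liftQ _ ((Submodule.mkQ _).comp (Submodule.mkQ _)) (by
      rw [Submodule.smul_le]
      intro a ha y _
      rw [LinearMap.mem_ker, map_smul, LinearMap.comp_apply, Submodule.mkQ_apply,
        Submodule.mkQ_apply, ← Submodule.Quotient.mk_smul, Submodule.Quotient.mk_eq_zero]
      exact Submodule.smul_mem_smul ha Submodule.mem_top)
  have hs : ∀ y : N, s (Submodule.Quotient.mk y) =
      Submodule.Quotient.mk (Submodule.Quotient.mk y) := fun y => rfl
  have hsu : ∀ z : M ⧸ (J • ⊤ : Submodule A M), s (uJ z) = 0 := by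
    intro z
    obtain ⟨m, rfl⟩ := Submodule.Quotient.mk_surjective _ z
    rw [huJ, hs]
    have : (Submodule.Quotient.mk (u m) : N ⧸ LinearMap.range u) = 0 := by
      rw [Submodule.Quotient.mk_eq_zero]
      exact ⟨m, rfl⟩
    rw [this, Submodule.Quotient.mk_zero]
  have hsi : ∀ c, s (i c) = c := by
    intro c
    obtain ⟨c', rfl⟩ := Submodule.Quotient.mk_surjective _ c
    obtain ⟨y, rfl⟩ := Submodule.Quotient.mk_surjective _ c'
    rw [hi, he', he, map_sub, hsu, sub_zero, hs]
  have hsurj : Function.Surjective (algebraMap A (A ⧸ J)) := Ideal.Quotient.mk_surjective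
  let i' := LinearMap.extendScalarsOfSurjective hsurj i
  let s' := LinearMap.extendScalarsOfSurjective hsurj s
  refine Module.Projective.of_split i' s' ?_
  ext c
  exact hsi c

end Alg

/-- Let A be preadmissible with ideal of definition 𝔏, the topologies of M and N deduced from that of A,
N/JN projective over A/J for every open ideal J; assuming moreover a countable decreasing
fundamental system of open ideals and M Hausdorff and complete, u : M → N has a linear left inverse
if and only if the induced map M/𝔏M → N/𝔏N has one (both being equivalent to formal left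
invertibility). -/
theorem result {A : Type u} {M : Type v} {N : Type w}
    [CommRing A] [TopologicalSpace A] [AddCommGroup M] [Module A M] [UniformSpace M] [IsUniformAddGroup M]
    [CompleteSpace M] [T2Space M] [AddCommGroup N] [Module A N] [TopologicalSpace N]
    (𝔍 : ℕ → Ideal A) (h𝔍open : ∀ n, IsOpen (𝔍 n : Set A)) (h𝔍anti : Antitone 𝔍)
    (h𝔍basis : (nhds (0 : A)).HasBasis (fun _ : ℕ => True) (fun n => (𝔍 n : Set A)))
    (hM : TopMod.IsDeduced A M) (hN : TopMod.IsDeduced A N) (u : M →L[A] N)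
    (hA : LinTop.IsPreadmissible A) (𝔏 : Ideal A) (h𝔏 : LinTop.IsIdealOfDefinition A 𝔏)
    (hproj : ∀ J : Ideal A, IsOpen (J : Set A) → Module.Projective (A ⧸ J) (N ⧸ (J • (⊤ : Submodule A N)))) :
    (∃ w : N →ₗ[A] M, ∀ x : M, w (u x) = x) ↔
      ∃ w₀ : N →ₗ[A] M ⧸ (𝔏 • ⊤ : Submodule A M), ∀ x : M, w₀ (u x) = Submodule.Quotient.mk x := by
  constructor
  · rintro ⟨w, hw⟩
    refine ⟨(Submodule.mkQ _).comp w, fun x => ?_⟩
    rw [LinearMap.comp_apply, hw]
    rfl
  · intro hw₀
    have hfl : TopMod.IsFormallyLeftInvertible u :=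
      (Groth.Agent.S5827.result hA 𝔏 h𝔏 hM hN hproj u).mpr hw₀
    have hfl' := (Groth.Agent.S5826.result hM hN u).mp hfl
    have hcoker : ∀ n, Module.Projective (A ⧸ 𝔍 n)
        ((N ⧸ LinearMap.range u.toLinearMap) ⧸
          (𝔍 n • (⊤ : Submodule A (N ⧸ LinearMap.range u.toLinearMap)))) := by
      intro n
      obtain ⟨w, hw⟩ := hfl' (𝔍 n) (h𝔍open n)
      haveI := hproj (𝔍 n) (h𝔍open n)
      exact projective_coker (𝔍 n) u.toLinearMap w hw
    exact (Groth.Agent.S5838.result 𝔍 h𝔍open h𝔍anti h𝔍basis hM hN u hcoker).mp hfl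

end Groth.Agent.S5839
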