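import Groth.Statements.S5844
import Groth.Agent.Lib.helper9.ZC5

set_option autoImplicit false
universe u
open ZClos

namespace Groth.Agent.S5844

open CategoryTheory CategoryTheory.Limits AlgebraicGeometry in
/-- a) ⇔ b'), injective case: for a locally Noetherian scheme X, a subset Z of X stable under
specialization and an arbitrary O_X-module F, F is Z-pure if and only if for every closed subset T
of X contained in Z and every quasi-compact (that is, Noetherian) open subset V of X, the
restriction map Γ(V, F) → Γ(V ∩ (X ∖ T), F) is injective. -/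
theorem result (X : Scheme.{u}) [IsLocallyNoetherian X] (Z : Set X)
    (hZ : StableUnderSpecialization Z) (F : X.Modules) :
    ZClos.IsZPure Z F ↔ ∀ (T : ZClos.Cl Z) (V : X.Opens), IsCompact (V : Set X) →
      Function.Injective (F.presheaf.map (homOfLE (inf_le_left : V ⊓ T.U ≤ V)).op) := by
  constructor
  · intro h T V _
    exact Groth.Agent.Lib.helper9.ZC.res_injective_congr F
      (Groth.Agent.Lib.helper9.ZC.ip_le T.U V) inf_le_left
      (Groth.Agent.Lib.helper9.ZC.ip_le_inf T.U V)
      (Groth.Agent.Lib.helper9.ZC.res_injective_of_isZPure Z F h T V)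
  · intro h
    refine Groth.Agent.Lib.helper9.ZC.isZPure_of_res_injective Z F (fun T V => ?_)
    have hB : TopologicalSpace.Opens.IsBasis {V : X.Opens | IsCompact (V : Set X)} := by
      rw [TopologicalSpace.Opens.isBasis_iff_nbhd]
      intro U x hx
      obtain ⟨W, hW, hxW, hWU⟩ :=
        (TopologicalSpace.Opens.isBasis_iff_nbhd.mp X.isBasis_affineOpens) hx
      exact ⟨W, IsAffineOpen.isCompact hW, hxW, hWU⟩
    have h1 : Function.Injective (Groth.Agent.Lib.helper9.ZC.res F
        (inf_le_left : V ⊓ T.U ≤ V)) :=
      Groth.Agent.Lib.helper9.Glue.resInf_injective_of_basis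
        (Groth.Agent.Lib.helper9.ZC.shf F) T.U _ hB (fun W hW => h T W hW) V
    exact Groth.Agent.Lib.helper9.ZC.res_injective_congr F inf_le_left
      (Groth.Agent.Lib.helper9.ZC.ip_le T.U V)
      (Groth.Agent.Lib.helper9.ZC.inf_le_ip T.U V) h1

end Groth.Agent.S5844
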