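import Groth.Statements.S5845
import Groth.Agent.S5843
import Groth.Agent.Lib.helper9.CohB6

set_option autoImplicit false
universe u
open ZClos

namespace Groth.Agent.S5845

open CategoryTheory CategoryTheory.Limits AlgebraicGeometry in
/-- a) ⇔ b'), bijective case: for a locally Noetherian scheme X, a subset Z of X stable under
specialization and an arbitrary O_X-module F, F is Z-closed if and only if for every closed subset T
of X contained in Z and every quasi-compact (that is, Noetherian) open subset V of X, the
restriction map Γ(V, F) → Γ(V ∩ (X ∖ T), F) is bijective. -/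
theorem result (X : Scheme.{u}) [IsLocallyNoetherian X] (Z : Set X)
    (hZ : StableUnderSpecialization Z) (F : X.Modules) :
    ZClos.IsZClosed Z F ↔ ∀ (T : ZClos.Cl Z) (V : X.Opens), IsCompact (V : Set X) →
      Function.Bijective (F.presheaf.map (homOfLE (inf_le_left : V ⊓ T.U ≤ V)).op) := by
  constructor
  · intro h T V _
    have h1 : IsIso ((Scheme.Modules.restrictAdjunction T.U.ι).unit.app F) :=
      Groth.Agent.S5843.isIso_toDiagram_of_isZClosed Z F h T
    exact (Groth.Agent.Lib.helper9.CohB.isIso_unit_iff F T.U).mp h1 V
  · intro h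
    refine Groth.Agent.S5843.isZClosed_of_forall_isIso Z F (fun T => ?_)
    change IsIso ((Scheme.Modules.restrictAdjunction T.U.ι).unit.app F)
    rw [Groth.Agent.Lib.helper9.CohB.isIso_unit_iff]
    intro V
    have hB : TopologicalSpace.Opens.IsBasis {V : X.Opens | IsCompact (V : Set X)} := by
      rw [TopologicalSpace.Opens.isBasis_iff_nbhd]
      intro U x hx
      obtain ⟨W, hW, hxW, hWU⟩ :=
        (TopologicalSpace.Opens.isBasis_iff_nbhd.mp X.isBasis_affineOpens) hx
      exact ⟨W, IsAffineOpen.isCompact hW, hxW, hWU⟩
    exact Groth.Agent.Lib.helper9.Glue.resInf_bijective_of_basis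
      (Groth.Agent.Lib.helper9.ZC.shf F) T.U _ hB (fun W hW => h T W hW) V

end Groth.Agent.S5845
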