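import Groth.Statements.S5849
import Groth.Agent.Lib.helper9.ZC5

set_option autoImplicit false
universe u
open ZClos

namespace Groth.Agent.S5849

open CategoryTheory CategoryTheory.Limits AlgebraicGeometry in
/-- For a locally Noetherian scheme X, a subset Z of X stable under specialization and an arbitrary
O_X-module F, the kernel and cokernel of ρ_{X/Z} : F → H⁰_{X/Z}(F) have support inside Z: at every
point x outside Z the map induced by ρ_{X/Z} on stalks is bijective. -/
theorem result (X : Scheme.{u}) [IsLocallyNoetherian X] (Z : Set X)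
    (hZ : StableUnderSpecialization Z) (F : X.Modules) (x : X) (hx : x ∉ Z) :
    ZClos.IsZClosedAt Z F x := by
  have hxT : ∀ T : ZClos.Cl Z, x ∈ T.U := fun T hxT => hx (T.2 hxT)
  have hinj0 : ∀ a : F.presheaf.stalk x, ZClos.rhoStalk Z F x a = 0 → a = 0 := by
    intro a ha
    obtain ⟨V, hxV, t, rfl⟩ := F.presheaf.exists_germ_eq a
    obtain ⟨T, V', hV, hx', h0⟩ :=
      (Groth.Agent.Lib.helper9.ZC.rhoStalk_germ_eq_zero_iff Z F x V hxV t).mp ha
    have hxU : x ∈ T.U.ι ''ᵁ T.U.ι ⁻¹ᵁ V' := by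
      rw [ZClos.ι_image_preimage]
      exact ⟨hxT T, hx'⟩
    refine (Groth.Agent.Lib.helper9.ZC.germ_res F
      ((Groth.Agent.Lib.helper9.ZC.ip_le T.U V').trans hV) x hxU t).symm.trans ?_
    rw [h0]
    exact map_zero _
  constructor
  · intro a b hab
    have h1 : ZClos.rhoStalk Z F x (a - b) = 0 := by
      rw [map_sub, hab, sub_self]
    exact sub_eq_zero.mp (hinj0 _ h1)
  · intro g
    obtain ⟨T, V, hxV, s, rfl⟩ := Groth.Agent.Lib.helper9.ZC.exists_rep Z F x g
    have hxU : x ∈ T.U.ι ''ᵁ T.U.ι ⁻¹ᵁ V := by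
      rw [ZClos.ι_image_preimage]
      exact ⟨hxT T, hxV⟩
    refine ⟨F.presheaf.germ _ x hxU s, ?_⟩
    rw [Groth.Agent.Lib.helper9.ZC.rhoStalk_germ Z F x _ hxU s T]
    exact (Groth.Agent.Lib.helper9.ZC.rep_res Z F x (le_refl T)
      (Groth.Agent.Lib.helper9.ZC.ip_le T.U V) hxU _ s).symm

end Groth.Agent.S5849
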