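import Groth.Statements.S5850
import Groth.Agent.S5843
import Groth.Agent.Lib.helper9.CohB6
import Groth.Agent.Lib.helper9.ZC4

set_option autoImplicit false
universe u
open ZClos

namespace Groth.Agent.S5850

open CategoryTheory CategoryTheory.Limits AlgebraicGeometry in
/-- For a locally Noetherian scheme X, a subset Z of X stable under specialization and an arbitrary
O_X-module F, the Z-closure H⁰_{X/Z}(F) is itself Z-closed. -/
theorem result (X : Scheme.{u}) [IsLocallyNoetherian X] (Z : Set X)
    (hZ : StableUnderSpecialization Z) (F : X.Modules) :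
    ZClos.IsZClosed Z ((ZClos.H0 Z).obj F) := by
  refine Groth.Agent.S5843.isZClosed_of_forall_isIso Z _ (fun T => ?_)
  change IsIso ((Scheme.Modules.restrictAdjunction T.U.ι).unit.app ((ZClos.H0 Z).obj F))
  rw [Groth.Agent.Lib.helper9.CohB.isIso_unit_iff]
  intro V
  have hB : TopologicalSpace.Opens.IsBasis
      {W : X.Opens | ∀ O' : X.Opens, O' ≤ W → IsCompact (O' : Set X)} := by
    rw [TopologicalSpace.Opens.isBasis_iff_nbhd]
    intro U x hx
    obtain ⟨W, hW, hxW, hWU⟩ :=
      (TopologicalSpace.Opens.isBasis_iff_nbhd.mp X.isBasis_affineOpens) hx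
    refine ⟨W, ?_, hxW, hWU⟩
    intro O' hO'
    haveI : IsNoetherianRing Γ(X, W) := IsLocallyNoetherian.component_noetherian ⟨W, hW⟩
    haveI : TopologicalSpace.NoetherianSpace W := noetherianSpace_of_isAffineOpen W hW
    have h1 : IsCompact ({y : W | (y : X) ∈ O'} : Set W) :=
      TopologicalSpace.NoetherianSpace.isCompact _
    have h2 : IsCompact ((fun y : W => (y : X)) '' {y : W | (y : X) ∈ O'}) :=
      h1.image continuous_subtype_val
    have h3 : (fun y : W => (y : X)) '' {y : W | (y : X) ∈ O'} = (O' : Set X) := by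
      ext z
      constructor
      · rintro ⟨y, hy, rfl⟩
        exact hy
      · intro hz
        exact ⟨⟨z, hO' hz⟩, hz, rfl⟩
    rwa [h3] at h2
  exact Groth.Agent.Lib.helper9.Glue.resInf_bijective_of_basis
    (Groth.Agent.Lib.helper9.ZC.shf ((ZClos.H0 Z).obj F)) T.U _ hB
    (fun W hW => Groth.Agent.Lib.helper9.ZC.H0_res_bijective Z F T W hW) V

end Groth.Agent.S5850
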