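import Groth.Statements.S5851
import Groth.Agent.S5843
import Groth.Agent.Lib.helper9.ZC5

set_option autoImplicit false
universe u
open ZClos

namespace Groth.Agent.S5851

open CategoryTheory CategoryTheory.Limits AlgebraicGeometry in
/-- For a locally Noetherian scheme X, a subset Z of X stable under specialization, O_X-modules F and F'
with F' Z-closed, and a homomorphism u : F → F', there is exactly one homomorphism v : H⁰_{X/Z}(F) →
F' with u = v ∘ ρ_{X/Z}. -/
theorem result (X : Scheme.{u}) [IsLocallyNoetherian X] (Z : Set X)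
    (hZ : StableUnderSpecialization Z) (F F' : X.Modules) (hF' : ZClos.IsZClosed Z F') (u : F ⟶ F') :
    ∃! v : (ZClos.H0 Z).obj F ⟶ F', ZClos.rhoApp Z F ≫ v = u := by
  haveI : IsIso (ZClos.rhoApp Z F') := hF'
  have hnat : ZClos.rhoApp Z F ≫ (ZClos.H0 Z).map u = u ≫ ZClos.rhoApp Z F' :=
    ((ZClos.rho Z).naturality u).symm
  refine ⟨(ZClos.H0 Z).map u ≫ inv (ZClos.rhoApp Z F'), ?_, ?_⟩
  · change ZClos.rhoApp Z F ≫ (ZClos.H0 Z).map u ≫ inv (ZClos.rhoApp Z F') = u
    rw [← Category.assoc, hnat, Category.assoc, IsIso.hom_inv_id, Category.comp_id]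
  · intro v hv
    -- it suffices to show `w = 0` whenever `ρ ≫ w = 0`
    have key : ∀ w : colimit ((ZClos.diagram Z).obj F) ⟶ F',
        ZClos.rhoApp Z F ≫ w = 0 → w = 0 := by
      intro w hw
      apply colimit.hom_ext
      intro T
      refine Eq.trans ?_ comp_zero.symm
      obtain ⟨wT, hwT⟩ : ∃ wT : (ZClos.resPush T.U).obj F ⟶ F',
          wT = colimit.ι ((ZClos.diagram Z).obj F) T ≫ w := ⟨_, rfl⟩
      refine hwT.symm.trans ?_
      have h1 : (Scheme.Modules.restrictAdjunction T.U.ι).unit.app F ≫ wT = 0 := by
        have e : (ZClos.toDiagram Z F T ≫ colimit.ι ((ZClos.diagram Z).obj F) T) ≫ w = 0 :=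
          (congrArg (fun f => f ≫ w) (ZClos.rhoApp_eq Z F T).symm).trans hw
        rw [hwT]
        exact (Category.assoc _ _ _).symm.trans e
      have hiso : IsIso ((Scheme.Modules.restrictAdjunction T.U.ι).unit.app F') :=
        Groth.Agent.S5843.isIso_toDiagram_of_isZClosed Z F' hF' T
      have h2 : (Scheme.Modules.restrictFunctor T.U.ι).map
          ((Scheme.Modules.restrictAdjunction T.U.ι).unit.app F) ≫
          (Scheme.Modules.restrictFunctor T.U.ι).map wT = 0 := by
        rw [← Functor.map_comp, h1, Functor.map_zero]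
      have h3 : IsIso ((Scheme.Modules.restrictFunctor T.U.ι).map
          ((Scheme.Modules.restrictAdjunction T.U.ι).unit.app F)) := by
        have htri := (Scheme.Modules.restrictAdjunction T.U.ι).left_triangle_components F
        have h4 : IsIso ((Scheme.Modules.restrictFunctor T.U.ι).map
            ((Scheme.Modules.restrictAdjunction T.U.ι).unit.app F) ≫
            (Scheme.Modules.restrictAdjunction T.U.ι).counit.app
              ((Scheme.Modules.restrictFunctor T.U.ι).obj F)) := by
          rw [htri]
          infer_instance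
        exact IsIso.of_isIso_comp_right _
          ((Scheme.Modules.restrictAdjunction T.U.ι).counit.app
            ((Scheme.Modules.restrictFunctor T.U.ι).obj F))
      have h5 : (Scheme.Modules.restrictFunctor T.U.ι).map wT = 0 :=
        (cancel_epi ((Scheme.Modules.restrictFunctor T.U.ι).map
          ((Scheme.Modules.restrictAdjunction T.U.ι).unit.app F))).mp (h2.trans comp_zero.symm)
      have h6 : wT ≫ (Scheme.Modules.restrictAdjunction T.U.ι).unit.app F' = 0 := by
        have hn : wT ≫ (Scheme.Modules.restrictAdjunction T.U.ι).unit.app F' =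
            (Scheme.Modules.restrictAdjunction T.U.ι).unit.app _ ≫
              (Scheme.Modules.pushforward T.U.ι).map
                ((Scheme.Modules.restrictFunctor T.U.ι).map wT) :=
          (Scheme.Modules.restrictAdjunction T.U.ι).unit.naturality wT
        rw [hn, h5, Functor.map_zero, comp_zero]
      exact (cancel_mono ((Scheme.Modules.restrictAdjunction T.U.ι).unit.app F')).mp
        (h6.trans zero_comp.symm)
    have h8 : v - ((ZClos.H0 Z).map u ≫ inv (ZClos.rhoApp Z F')) = 0 := by
      apply key (v - ((ZClos.H0 Z).map u ≫ inv (ZClos.rhoApp Z F')))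
      rw [Preadditive.comp_sub, hv, ← Category.assoc, hnat, Category.assoc, IsIso.hom_inv_id,
        Category.comp_id, sub_self]
    exact sub_eq_zero.mp h8

end Groth.Agent.S5851
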