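import Groth.Statements.S5860
import Groth.Agent.S5857
import Groth.Agent.S5849
import Groth.Agent.Lib.helper9.CohB9
import Groth.Agent.Lib.helper9.Depth24
import Groth.Agent.Lib.helper9.LocalAlg

set_option autoImplicit false
universe u
open ZClos

namespace Groth.Agent.S5860

open CategoryTheory CategoryTheory.Limits AlgebraicGeometry Groth.Agent.Lib.helper9 in
lemma finite_stalk {X : Scheme.{u}} [IsLocallyNoetherian X] (M : X.Modules) [M.IsQuasicoherent]
    [SheafOfModules.IsFiniteType.{u} M] (x : X) :
    Module.Finite (X.presheaf.stalk x) (M.presheaf.stalk x) := by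
  obtain ⟨W, hW, hxW, hN, hfin⟩ := CohB.exists_good_affine M x
  obtain ⟨q, rfl⟩ := CohB.exists_fromSpec_eq hW hxW
  exact CohB.finite_stalk_of_finite M hW q

lemma two_coe : ((2 : ℕ∞) : WithBot ℕ∞) = 2 := rfl
lemma one_coe : ((1 : ℕ∞) : WithBot ℕ∞) = 1 := rfl
lemma zero_coe : ((0 : ℕ∞) : WithBot ℕ∞) = 0 := rfl
lemma natcast_two : ((2 : ℕ) : WithBot ℕ∞) = 2 := by norm_cast

lemma lt_two_cases (d : WithBot ℕ∞) (h : d < 2) : d ≤ 0 ∨ d = 1 := by
  induction d using WithBot.recBotCoe with
  | bot => left; exact bot_le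
  | coe a =>
    have ha : a < 2 := by
      rw [← two_coe] at h
      exact WithBot.coe_lt_coe.mp h
    have hne : a ≠ ⊤ := ne_top_of_lt ha
    lift a to ℕ using hne
    have ha' : a < 2 := by exact_mod_cast ha
    interval_cases a
    · left
      exact le_refl _
    · right
      rfl

open AlgebraicGeometry in
lemma dimGe_stable (X : Scheme.{u}) (n : ℕ) : StableUnderSpecialization (ZClos.dimGe X n) := by
  intro a b hab ha
  have ha' : (n : WithBot ℕ∞) ≤ ringKrullDim (X.presheaf.stalk a) := ha
  change (n : WithBot ℕ∞) ≤ ringKrullDim (X.presheaf.stalk b)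
  refine le_trans ha' ?_
  rw [ringKrullDim_stalk_eq_coheight, ringKrullDim_stalk_eq_coheight]
  exact WithBot.coe_le_coe.mpr (Order.coheight_anti (Scheme.le_iff_specializes.mpr hab))

open CategoryTheory CategoryTheory.Limits AlgebraicGeometry in
/-- Let X be a locally Noetherian scheme and F a coherent O_X-module with support all of X, having no
associated point at which the local ring of X has dimension 1, and such that F' = H⁰_{X/Z}(F) is
coherent, Z = Z^(2)(X) being the set of points whose local ring has dimension at least 2. Then F'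
satisfies (S_2): at every point x, depth(F'_x) ≥ min(2, dim F'_x). -/
theorem result (X : Scheme.{u}) [IsLocallyNoetherian X] (F : X.Modules) (hF : Coh.IsCoh F)
    (hsupp : ∀ x : X, Nontrivial (F.presheaf.stalk x))
    (hass : ∀ x ∈ AssSch.Ass F, ringKrullDim (X.presheaf.stalk x) ≠ 1)
    (hH : Coh.IsCoh ((ZClos.H0 (ZClos.dimGe X 2)).obj F)) (x : X) :
    min (2 : WithBot ℕ∞) (Module.supportDim (X.presheaf.stalk x) (((ZClos.H0 (ZClos.dimGe X 2)).obj F).presheaf.stalk x)) ≤
      ((LocCoh.depth (X.presheaf.stalk x) (((ZClos.H0 (ZClos.dimGe X 2)).obj F).presheaf.stalk x) : ℕ∞) : WithBot ℕ∞) := by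
  haveI := hF.1
  haveI := hF.2
  haveI := hH.1
  haveI := hH.2
  have hZ := dimGe_stable X 2
  by_cases hx : x ∈ ZClos.dimGe X 2
  · have h2 := Groth.Agent.S5857.result X _ hZ F hF hH x hx
    refine le_trans (min_le_left _ _) ?_
    rw [← two_coe]
    exact WithBot.coe_le_coe.mpr h2
  · have hbij : Function.Bijective (ZClos.rhoStalk (ZClos.dimGe X 2) F x) :=
      Groth.Agent.S5849.result X _ hZ F x hx
    haveI := finite_stalk F x
    haveI := finite_stalk ((ZClos.H0 (ZClos.dimGe X 2)).obj F) x
    let e : F.presheaf.stalk x ≃+ ((ZClos.H0 (ZClos.dimGe X 2)).obj F).presheaf.stalk x :=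
      AddEquiv.ofBijective (ZClos.rhoStalk (ZClos.dimGe X 2) F x).hom hbij
    have he : ∀ (r : X.presheaf.stalk x) (m : F.presheaf.stalk x),
        e (r • m) = (RingEquiv.refl (X.presheaf.stalk x)) r • e m := fun r m =>
      Groth.Agent.Lib.helper9.CohB.stalkMap_smul (ZClos.rhoApp (ZClos.dimGe X 2) F) x r m
    have hd := Groth.Agent.Lib.helper9.Depth.depth_eq_of_addEquiv
      (RingEquiv.refl (X.presheaf.stalk x)) e he
    have hs := Groth.Agent.Lib.helper9.Depth.supportDim_eq_of_addEquiv
      (RingEquiv.refl (X.presheaf.stalk x)) e he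
    rw [← hd, ← hs]
    have hdim : ringKrullDim (X.presheaf.stalk x) < 2 := by
      have hx' : ¬ ((2 : ℕ) : WithBot ℕ∞) ≤ ringKrullDim (X.presheaf.stalk x) := hx
      rw [natcast_two] at hx'
      exact not_le.mp hx'
    have hsd : Module.supportDim (X.presheaf.stalk x) (F.presheaf.stalk x) ≤
        ringKrullDim (X.presheaf.stalk x) := Module.supportDim_le_ringKrullDim _ _
    by_cases hxa : x ∈ AssSch.Ass F
    · have h1 := hass x hxa
      have h0 : ringKrullDim (X.presheaf.stalk x) ≤ 0 := by
        rcases lt_two_cases _ hdim with h0 | h1'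
        · exact h0
        · exact absurd h1' h1
      refine le_trans (min_le_right _ _) (le_trans (hsd.trans h0) ?_)
      rw [← zero_coe]
      exact WithBot.coe_le_coe.mpr zero_le
    · have hd1 : (1 : ℕ∞) ≤ LocCoh.depth (X.presheaf.stalk x) (F.presheaf.stalk x) := by
        rw [Order.one_le_iff_pos, pos_iff_ne_zero, Ne,
          Groth.Agent.Lib.helper9.LocalAlg.depth_eq_zero_iff]
        exact hxa
      have hsd1 : Module.supportDim (X.presheaf.stalk x) (F.presheaf.stalk x) ≤ 1 := by
        rcases lt_two_cases _ hdim with h0 | h1'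
        · exact (hsd.trans h0).trans zero_le_one
        · exact hsd.trans h1'.le
      refine le_trans (min_le_right _ _) (hsd1.trans ?_)
      rw [← one_coe]
      exact WithBot.coe_le_coe.mpr hd1

end Groth.Agent.S5860
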