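import Groth.Statements.S5858
import Groth.Agent.S5857
import Groth.Agent.S5849
import Groth.Agent.S5860
import Groth.Agent.Lib.helper9.CohB10

set_option autoImplicit false
universe u
open ZClos

namespace Groth.Agent.S5858

open CategoryTheory CategoryTheory.Limits AlgebraicGeometry in
/-- For a locally Noetherian scheme X, a subset Z of X stable under specialization and a coherent
O_X-module F whose Z-closure H⁰_{X/Z}(F) is coherent: for every associated point x of F outside Z
and every specialization y of x lying in Z, the closure of y has codimension at least 2 in the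
closure of x, that is, the quotient of O_{X,y} by the prime ideal of the generization x has
dimension at least 2. -/
theorem result (X : Scheme.{u}) [IsLocallyNoetherian X] (Z : Set X)
    (hZ : StableUnderSpecialization Z) (F : X.Modules) (hF : Coh.IsCoh F)
    (hH : Coh.IsCoh ((ZClos.H0 Z).obj F))
    (x : X) (hx : x ∈ AssSch.Ass F) (hxZ : x ∉ Z) (y : X) (hy : y ∈ Z) (h : x ⤳ y) :
    (2 : WithBot ℕ∞) ≤ ringKrullDim (X.presheaf.stalk y ⧸
      (IsLocalRing.maximalIdeal (X.presheaf.stalk x)).comap (X.presheaf.stalkSpecializes h).hom) := by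
  haveI := hF.1
  haveI := hF.2
  haveI := hH.1
  haveI := hH.2
  have hbij : Function.Bijective (ZClos.rhoStalk Z F x) :=
    Groth.Agent.S5849.result X Z hZ F x hxZ
  let ρl : F.presheaf.stalk x →ₗ[X.presheaf.stalk x]
      ((ZClos.H0 Z).obj F).presheaf.stalk x :=
    { toFun := (ZClos.rhoStalk Z F x).hom
      map_add' := map_add _
      map_smul' := fun r m =>
        Groth.Agent.Lib.helper9.CohB.stalkMap_smul (ZClos.rhoApp Z F) x r m }
  have hxG : IsAssociatedPrime (IsLocalRing.maximalIdeal (X.presheaf.stalk x))
      (((ZClos.H0 Z).obj F).presheaf.stalk x) :=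
    IsAssociatedPrime.map_of_injective (f := ρl) hx hbij.1
  have hp := Groth.Agent.Lib.helper9.CohB.isAssociatedPrime_comap_stalkSpecializes
    ((ZClos.H0 Z).obj F) h hxG
  have hd := Groth.Agent.S5857.result X Z hZ F hF hH y hy
  haveI := Groth.Agent.S5860.finite_stalk ((ZClos.H0 Z).obj F) y
  have h5 := Groth.Agent.Lib.helper9.Depth.depth_le_ringKrullDim_quotient_of_mem_associatedPrimes
    (((ZClos.H0 Z).obj F).presheaf.stalk y) _ hp
  refine le_trans ?_ h5
  rw [← Groth.Agent.S5860.two_coe]
  exact WithBot.coe_le_coe.mpr hd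

end Groth.Agent.S5858
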