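import Groth.Statements.S5861
import Groth.Agent.S5860
import Groth.Agent.Lib.helper9.ZC10

set_option autoImplicit false
universe u
open ZClos

namespace Groth.Agent.S5861

open CategoryTheory CategoryTheory.Limits AlgebraicGeometry Groth.Agent.Lib.helper9
  Groth.Agent.Lib.helper9.CohB in
/-- for a coherent module with full support, `dim F_x = dim O_{X,x}`. -/
lemma ringKrullDim_le_supportDim_stalk {X : Scheme.{u}} [IsLocallyNoetherian X] (F : X.Modules)
    [F.IsQuasicoherent] [SheafOfModules.IsFiniteType.{u} F]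
    (hsupp : ∀ x : X, Nontrivial (F.presheaf.stalk x)) (x : X) :
    ringKrullDim (X.presheaf.stalk x) ≤
      Module.supportDim (X.presheaf.stalk x) (F.presheaf.stalk x) := by
  obtain ⟨W, hW, hxW, hN, hfin⟩ := CohB.exists_good_affine F x
  obtain ⟨q, rfl⟩ := CohB.exists_fromSpec_eq hW hxW
  rw [CohB.supportDim_stalk_eq F hW q]
  have hq : hW.fromSpec q ∈ W := by
    have : hW.fromSpec q ∈ hW.fromSpec.opensRange := ⟨q, rfl⟩
    rwa [hW.opensRange_fromSpec] at this
  letI : Algebra Γ(X, W) (X.presheaf.stalk (hW.fromSpec q)) :=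
    TopCat.Presheaf.algebra_section_stalk X.presheaf ⟨hW.fromSpec q, hq⟩
  haveI : IsLocalization.AtPrime (X.presheaf.stalk (hW.fromSpec q)) q.asIdeal :=
    hW.isLocalization_stalk' q hq
  rw [IsLocalization.AtPrime.ringKrullDim_eq_height q.asIdeal (X.presheaf.stalk (hW.fromSpec q)),
    ← IsLocalization.AtPrime.ringKrullDim_eq_height q.asIdeal (Localization.AtPrime q.asIdeal)]
  have hall : ∀ Q : PrimeSpectrum (Localization.AtPrime q.asIdeal),
      Q ∈ Module.support (Localization.AtPrime q.asIdeal)
        (LocalizedModule q.asIdeal.primeCompl (Γmod (F.restrict hW.fromSpec))) := by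
    intro Q
    apply Depth.mem_support_of_comap_mem_support
    rw [Module.mem_support_iff]
    exact (CohB.nontrivial_stalk_iff F hW _).mp (hsupp _)
  exact Order.krullDim_le_of_strictMono
    (fun Q => (⟨Q, hall Q⟩ : Module.support (Localization.AtPrime q.asIdeal)
      (LocalizedModule q.asIdeal.primeCompl (Γmod (F.restrict hW.fromSpec)))))
    (fun _ _ h => h)

open CategoryTheory CategoryTheory.Limits AlgebraicGeometry Groth.Agent.S5860 in
/-- the (S_2) inequality is automatic at points of codimension `≤ 1`. -/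
lemma min_le_depth_of_not_mem {X : Scheme.{u}} [IsLocallyNoetherian X] (F : X.Modules)
    [F.IsQuasicoherent] [SheafOfModules.IsFiniteType.{u} F]
    (hass : ∀ x ∈ AssSch.Ass F, ringKrullDim (X.presheaf.stalk x) ≠ 1) (x : X)
    (hx : x ∉ ZClos.dimGe X 2) :
    min (2 : WithBot ℕ∞) (Module.supportDim (X.presheaf.stalk x) (F.presheaf.stalk x)) ≤
      ((LocCoh.depth (X.presheaf.stalk x) (F.presheaf.stalk x) : ℕ∞) : WithBot ℕ∞) := by
  haveI := finite_stalk F x
  have hdim : ringKrullDim (X.presheaf.stalk x) < 2 := by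
    have hx' : ¬ ((2 : ℕ) : WithBot ℕ∞) ≤ ringKrullDim (X.presheaf.stalk x) := hx
    rw [natcast_two] at hx'
    exact not_le.mp hx'
  have hsd : Module.supportDim (X.presheaf.stalk x) (F.presheaf.stalk x) ≤
      ringKrullDim (X.presheaf.stalk x) := Module.supportDim_le_ringKrullDim _ _
  by_cases hxa : x ∈ AssSch.Ass F
  · have h1 := hass x hxa
    have h0 : ringKrullDim (X.presheaf.stalk x) ≤ 0 := by
      rcases lt_two_cases _ hdim with h0 | h1'
      · exact h0
      · exact absurd h1' h1
    refine le_trans (min_le_right _ _) (le_trans (hsd.trans h0) ?_)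
    rw [← zero_coe]
    exact WithBot.coe_le_coe.mpr zero_le
  · have hd1 : (1 : ℕ∞) ≤ LocCoh.depth (X.presheaf.stalk x) (F.presheaf.stalk x) := by
      rw [Order.one_le_iff_pos, pos_iff_ne_zero, Ne,
        Groth.Agent.Lib.helper9.LocalAlg.depth_eq_zero_iff]
      exact hxa
    have hsd1 : Module.supportDim (X.presheaf.stalk x) (F.presheaf.stalk x) ≤ 1 := by
      rcases lt_two_cases _ hdim with h0 | h1'
      · exact (hsd.trans h0).trans zero_le_one
      · exact hsd.trans h1'.le
    refine le_trans (min_le_right _ _) (hsd1.trans ?_)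
    rw [← one_coe]
    exact WithBot.coe_le_coe.mpr hd1

open CategoryTheory CategoryTheory.Limits AlgebraicGeometry in
/-- Suppose X is a locally Noetherian scheme and F is a coherent O_X-module whose support is the whole
of X. Assume no associated point of F has a local ring of X of dimension 1, and assume H⁰_{X/Z}(F)
is coherent, where Z = Z^(2)(X) denotes the set of points whose local ring has dimension at least 2.
Consider the set U of points x where F satisfies (S_2), meaning depth(F_{x'}) ≥ min(2, dim F_{x'})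
holds at every generization x' of x. Then U is an open subset, and the points lying outside U form a
set of codimension ≥ 2: the local ring at any such point has dimension at least 2. -/
theorem result (X : Scheme.{u}) [IsLocallyNoetherian X] (F : X.Modules) (hF : Coh.IsCoh F)
    (hsupp : ∀ x : X, Nontrivial (F.presheaf.stalk x))
    (hass : ∀ x ∈ AssSch.Ass F, ringKrullDim (X.presheaf.stalk x) ≠ 1)
    (hH : Coh.IsCoh ((ZClos.H0 (ZClos.dimGe X 2)).obj F)) :
    IsOpen {x : X | ∀ x' : X, x' ⤳ x →
        min (2 : WithBot ℕ∞) (Module.supportDim (X.presheaf.stalk x') (F.presheaf.stalk x')) ≤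
          ((LocCoh.depth (X.presheaf.stalk x') (F.presheaf.stalk x') : ℕ∞) : WithBot ℕ∞)} ∧
      ∀ x : X, (¬ ∀ x' : X, x' ⤳ x →
        min (2 : WithBot ℕ∞) (Module.supportDim (X.presheaf.stalk x') (F.presheaf.stalk x')) ≤
          ((LocCoh.depth (X.presheaf.stalk x') (F.presheaf.stalk x') : ℕ∞) : WithBot ℕ∞)) →
        (2 : WithBot ℕ∞) ≤ ringKrullDim (X.presheaf.stalk x) := by
  haveI := hF.1
  haveI := hF.2
  haveI := hH.2
  have hZ := Groth.Agent.S5860.dimGe_stable X 2
  have key : ∀ x' : X,
      (min (2 : WithBot ℕ∞) (Module.supportDim (X.presheaf.stalk x') (F.presheaf.stalk x')) ≤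
        ((LocCoh.depth (X.presheaf.stalk x') (F.presheaf.stalk x') : ℕ∞) : WithBot ℕ∞)) ↔
      (x' ∈ ZClos.dimGe X 2 →
        (2 : ℕ∞) ≤ LocCoh.depth (X.presheaf.stalk x') (F.presheaf.stalk x')) := by
    intro x'
    constructor
    · intro hmin hx'Z
      have h2 : (2 : WithBot ℕ∞) ≤ ringKrullDim (X.presheaf.stalk x') := by
        have h := hx'Z
        change ((2 : ℕ) : WithBot ℕ∞) ≤ ringKrullDim (X.presheaf.stalk x') at h
        rw [Groth.Agent.S5860.natcast_two] at h
        exact h
      have h3 := h2.trans (ringKrullDim_le_supportDim_stalk F hsupp x')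
      rw [min_eq_left h3, ← Groth.Agent.S5860.two_coe] at hmin
      exact WithBot.coe_le_coe.mp hmin
    · intro h
      by_cases hx'Z : x' ∈ ZClos.dimGe X 2
      · refine le_trans (min_le_left _ _) ?_
        rw [← Groth.Agent.S5860.two_coe]
        exact WithBot.coe_le_coe.mpr (h hx'Z)
      · exact min_le_depth_of_not_mem F hass x' hx'Z
  have hset : {x : X | ∀ x' : X, x' ⤳ x →
      min (2 : WithBot ℕ∞) (Module.supportDim (X.presheaf.stalk x') (F.presheaf.stalk x')) ≤
        ((LocCoh.depth (X.presheaf.stalk x') (F.presheaf.stalk x') : ℕ∞) : WithBot ℕ∞)} =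
      {x : X | ∀ x' : X, x' ⤳ x → x' ∈ ZClos.dimGe X 2 →
        (2 : ℕ∞) ≤ LocCoh.depth (X.presheaf.stalk x') (F.presheaf.stalk x')} := by
    ext x
    exact forall_congr' fun x' => imp_congr_right fun _ => key x'
  constructor
  · rw [hset]
    exact Groth.Agent.Lib.helper9.ZC.isOpen_depth_ge_two_locus hZ F
  · intro x hx
    by_contra hxZ
    apply hx
    intro x' hx'x
    rw [key x']
    intro hx'Z
    exfalso
    apply hxZ
    have h := hZ hx'x hx'Z
    change ((2 : ℕ) : WithBot ℕ∞) ≤ ringKrullDim (X.presheaf.stalk x) at h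
    rw [Groth.Agent.S5860.natcast_two] at h
    exact h

end Groth.Agent.S5861
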