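import Groth.Statements.S5867
import Groth.Agent.Lib.helper9.PushQCQS
import Groth.Agent.Lib.helper9.ZC7
import Groth.Agent.Lib.helper9.FPLocal2
import Groth.Agent.Lib.helper9.WeakAssSch
import Groth.Agent.S1709
import Mathlib.AlgebraicGeometry.Noetherian

set_option autoImplicit false
universe u
open ZClos

namespace Groth.Agent.S5867

open CategoryTheory CategoryTheory.Limits AlgebraicGeometry TopologicalSpace Opposite in
/-- the colimit injection, with the displayed source and target. -/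
noncomputable def ιT {X : Scheme.{u}} (Z : Set X) (F : X.Modules) (T : ZClos.Cl Z) :
    (ZClos.resPush T.U).obj F ⟶ (ZClos.H0 Z).obj F :=
  colimit.ι ((ZClos.diagram Z).obj F) T

open CategoryTheory CategoryTheory.Limits AlgebraicGeometry TopologicalSpace Opposite
  Groth.Agent.Lib.helper9.ZC Groth.Agent.Lib.helper9.WeakAssSch in
set_option backward.isDefEq.respectTransparency false in
lemma mono_ιT {X : Scheme.{u}} (Z : Set X) (F : X.Modules) [F.IsQuasicoherent]
    (hass : ∀ x : X, Curv2.IsWeakAssPoint F x → x ∉ Z) (T : ZClos.Cl Z) :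
    Mono (ιT Z F T) := by
  apply mono_of_stalk_injective
  intro x
  refine (injective_iff_map_eq_zero _).mpr ?_
  intro y hy
  obtain ⟨V, hx, s, rfl⟩ := ((ZClos.resPush T.U).obj F).presheaf.exists_germ_eq y
  have h0 : rep Z F x T V hx s = 0 := hy
  obtain ⟨T', hTT', V', hV'V, hx', i, hi⟩ := (rep_eq_zero_iff Z F x T V hx s).mp h0
  have hle : T.U.ι ''ᵁ T.U.ι ⁻¹ᵁ V' ≤ T.U.ι ''ᵁ T.U.ι ⁻¹ᵁ V := ip_mono T.U hV'V
  have hs' : F.presheaf.map (homOfLE hle).op s = 0 := by
    apply eq_zero_of_germ_eq_zero_of_weakAss F _ _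
    intro z hz hzw
    have hzZ : z ∉ Z := hass z hzw
    have hzT' : z ∈ T'.U := fun hzT' => hzZ (T'.2 hzT')
    have hz2 : z ∈ T.U ⊓ V' := by rwa [ZClos.ι_image_preimage] at hz
    have hzO'' : z ∈ T'.U.ι ''ᵁ T'.U.ι ⁻¹ᵁ V' := by
      rw [ZClos.ι_image_preimage]
      exact ⟨hzT', hz2.2⟩
    have hle2 : T'.U.ι ''ᵁ T'.U.ι ⁻¹ᵁ V' ≤ T.U.ι ''ᵁ T.U.ι ⁻¹ᵁ V' :=
      ZClos.resPush_le (ZClos.Cl.U_anti hTT') V'
    refine (germ_res F hle2 z hzO'' _).symm.trans ?_
    have h5 : res F hle2 (F.presheaf.map (homOfLE hle).op s) = 0 := by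
      show F.presheaf.map (homOfLE hle2).op (F.presheaf.map (homOfLE hle).op s) = 0
      rw [map_map_op F (homOfLE hle) (homOfLE hle2) i s]
      exact hi
    rw [h5]
    exact map_zero _
  have h6 := TopCat.Presheaf.germ_res_apply ((ZClos.resPush T.U).obj F).presheaf
    (homOfLE hV'V) x hx' s
  have h7 : ((ZClos.resPush T.U).obj F).presheaf.map (homOfLE hV'V).op s = 0 := by
    rw [ZClos.resPush_presheaf_map]
    exact (map_eq_res F _ (show Γ(F, T.U.ι ''ᵁ T.U.ι ⁻¹ᵁ V) from s)).trans hs'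
  rw [h7] at h6
  exact h6.symm.trans (map_zero _)

open CategoryTheory CategoryTheory.Limits AlgebraicGeometry TopologicalSpace Opposite in
set_option backward.isDefEq.respectTransparency false in
lemma main (X : Scheme.{u}) [IsLocallyNoetherian X] (Z : Set X)
    (F : X.Modules) (hF : Coh.IsCoh F)
    (hass : ∀ x ∈ AssSch.Ass F, x ∉ Z) (hH : Coh.IsCoh ((ZClos.H0 Z).obj F)) (T : ZClos.Cl Z) :
    Coh.IsCoh ((ZClos.resPush T.U).obj F) := by
  obtain ⟨hqc, hft⟩ := hF
  haveI : F.IsQuasicoherent := hqc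
  obtain ⟨hHqc, hHft⟩ := hH
  haveI : ((ZClos.H0 Z).obj F).IsQuasicoherent := hHqc
  haveI : SheafOfModules.IsFiniteType.{u} ((ZClos.H0 Z).obj F) := hHft
  haveI hqcR : (F.restrict T.U.ι).IsQuasicoherent := inferInstance
  haveI hPqc : ((ZClos.resPush T.U).obj F).IsQuasicoherent :=
    Groth.Agent.Lib.helper9.PushQCQS.isQuasicoherent_pushforward_qcqs T.U.ι (F.restrict T.U.ι)
  haveI hmono : Mono (ιT Z F T) := mono_ιT Z F
    (fun x hxw => hass x ((Groth.Agent.S1709.isAssPoint_iff_isWeakAssPoint F x).mpr hxw)) T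
  haveI : SheafOfModules.IsFinitePresentation.{u} ((ZClos.resPush T.U).obj F) :=
    Groth.Agent.Lib.helper9.FPLocal.isFinitePresentation_of_mono (ιT Z F T)
  exact ⟨hPqc, inferInstance⟩


open CategoryTheory CategoryTheory.Limits AlgebraicGeometry in
/-- a) ⇒ d): for a locally Noetherian scheme X, a subset Z of X stable under specialization and a
coherent O_X-module F none of whose associated points lies in Z: if H⁰_{X/Z}(F) is coherent, then
for every closed subset T of X contained in Z the direct image i_*(F|X∖T) along the inclusion i : X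
∖ T → X is coherent. -/
theorem result (X : Scheme.{u}) [IsLocallyNoetherian X] (Z : Set X)
    (hZ : StableUnderSpecialization Z) (F : X.Modules) (hF : Coh.IsCoh F)
    (hass : ∀ x ∈ AssSch.Ass F, x ∉ Z) (hH : Coh.IsCoh ((ZClos.H0 Z).obj F)) (T : ZClos.Cl Z) :
    Coh.IsCoh ((ZClos.resPush T.U).obj F) := by
  exact main X Z F hF hass hH T

end Groth.Agent.S5867
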