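import Groth.Statements.S5870
import Groth.Agent.S5849
import Groth.Agent.Lib.helper9.ZC6

set_option autoImplicit false
universe u
open ZClos

namespace Groth.Agent.S5870

open CategoryTheory CategoryTheory.Limits AlgebraicGeometry in
/-- For a locally Noetherian scheme X, a subset Z of X stable under specialization and an arbitrary
O_X-module F, the Z-closure H⁰_{X/Z}(F) is zero if and only if the support of F is contained in Z,
that is, the stalk of F at every point outside Z is zero. -/
theorem result (X : Scheme.{u}) [IsLocallyNoetherian X] (Z : Set X)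
    (hZ : StableUnderSpecialization Z) (F : X.Modules) :
    IsZero ((ZClos.H0 Z).obj F) ↔ ∀ x : X, x ∉ Z → Subsingleton (F.presheaf.stalk x) := by
  constructor
  · intro h x hx
    have hbij : Function.Bijective (ZClos.rhoStalk Z F x) :=
      Groth.Agent.S5849.result X Z hZ F x hx
    have hsub : ∀ g : ((ZClos.H0 Z).obj F).presheaf.stalk x, g = 0 := by
      intro g
      obtain ⟨V, hxV, a, rfl⟩ := ((ZClos.H0 Z).obj F).presheaf.exists_germ_eq g
      have h1 : (𝟙 ((ZClos.H0 Z).obj F)) = 0 := h.eq_of_src _ _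
      have e1 : (Scheme.Modules.Hom.app (𝟙 ((ZClos.H0 Z).obj F)) V) a = a := rfl
      have e2 : (Scheme.Modules.Hom.app
          (0 : (ZClos.H0 Z).obj F ⟶ (ZClos.H0 Z).obj F) V) a = 0 := rfl
      have e3 := congrArg (fun φ => (ConcreteCategory.hom (Scheme.Modules.Hom.app φ V)) a) h1
      have h2 : a = 0 := e1.symm.trans (e3.trans e2)
      rw [h2]
      exact map_zero _
    constructor
    intro a b
    apply hbij.1
    rw [hsub (ZClos.rhoStalk Z F x a), hsub (ZClos.rhoStalk Z F x b)]
  · intro h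
    rw [IsZero.iff_id_eq_zero]
    apply Scheme.Modules.hom_ext
    intro U
    refine ConcreteCategory.hom_ext _ _ (fun a => ?_)
    change a = 0
    refine Groth.Agent.Lib.helper9.ZC.eq_zero_of_germ_eq_zero _ U a (fun x hxU => ?_)
    obtain ⟨T, V, hxV, s, hs⟩ := Groth.Agent.Lib.helper9.ZC.exists_rep Z F x
      (((ZClos.H0 Z).obj F).presheaf.germ U x hxU a)
    rw [← hs]
    obtain ⟨T1, hT1⟩ := Groth.Agent.Lib.helper9.ZC.exists_res_eq_zero_of_germ_eq_zero_off hZ F
      (T.U.ι ''ᵁ T.U.ι ⁻¹ᵁ V) s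
      (fun y hy hyZ => by
        haveI := h y hyZ
        exact Subsingleton.elim _ _)
    have hle : (T ⊔ T1).U.ι ''ᵁ (T ⊔ T1).U.ι ⁻¹ᵁ V ≤ T1.U := by
      rw [ZClos.ι_image_preimage]
      exact inf_le_left.trans (ZClos.Cl.U_anti le_sup_right)
    refine (Groth.Agent.Lib.helper9.ZC.rep_eq_zero_iff Z F x T V hxV s).mpr
      ⟨T ⊔ T1, le_sup_left, V, le_rfl, hxV,
        homOfLE (Groth.Agent.Lib.helper9.ZC.ip_le2 Z le_sup_left le_rfl), ?_⟩
    exact hT1 _ (Groth.Agent.Lib.helper9.ZC.ip_le2 Z le_sup_left le_rfl) hle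

end Groth.Agent.S5870
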