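import Groth.Statements.S5911
import Mathlib
import Groth.Agent.Lib.helper21.FlatCrit
import Groth.Agent.Lib.helper24.NilFlat
import Groth.Agent.Lib.helper24.NilFlat2
import Groth.Agent.Lib.helper24.PiFlat

set_option autoImplicit false
universe u
open TensorProduct
open EGA43

namespace Groth.Agent.S5911

namespace S5911aux
open TensorProduct Function Groth.Agent.Lib.helper24

theorem flat_of_ideallySeparated {A : Type u} [CommRing A] [IsNoetherianRing A] (J : Ideal A)
    (M : Type u) [AddCommGroup M] [Module A M]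
    (hsep : ∀ a : Ideal A, IsHausdorff J (↥a ⊗[A] M))
    (H : ∀ n : ℕ, 0 < n → Module.Flat (A ⧸ J ^ n) ((A ⧸ J ^ n) ⊗[A] M)) : Module.Flat A M := by
  rw [Module.Flat.iff_rTensor_injective]
  intro I hI
  rw [injective_iff_map_eq_zero]
  intro x hx
  have key : ∀ n : ℕ, x ∈ (J ^ n • ⊤ : Submodule A (↥I ⊗[A] M)) := by
    intro n
    obtain ⟨k, hk⟩ := Ideal.exists_pow_inf_eq_pow_smul J (M := A) (I : Submodule A A)
    have hAR : (J ^ (n + k + 1) • ⊤ ⊓ I : Submodule A A) ≤ J ^ n • (I : Submodule A A) := by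
      rw [hk (n + k + 1) (by omega)]
      exact Submodule.smul_mono (Ideal.pow_le_pow_right (by omega)) inf_le_right
    haveI := H (n + k + 1) (by omega)
    generalize n + k + 1 = m at hAR this
    let Q : Ideal (A ⧸ J ^ m) := I.map (Ideal.Quotient.mk (J ^ m))
    let q₁ : I →ₗ[A] Q :=
      { toFun := fun i => ⟨Ideal.Quotient.mk (J ^ m) i, Ideal.mem_map_of_mem _ i.2⟩
        map_add' := fun a b => by ext; simp
        map_smul' := fun b a => by ext; simp [Algebra.smul_def] }
    have hcomp : ((Q.subtype).restrictScalars A) ∘ₗ q₁ =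
        (Ideal.Quotient.mkₐ A (J ^ m)).toLinearMap ∘ₗ I.subtype := by
      ext i; rfl
    have h1 : LinearMap.rTensor M ((Q.subtype).restrictScalars A) (LinearMap.rTensor M q₁ x) = 0 := by
      rw [← LinearMap.comp_apply, ← LinearMap.rTensor_comp, hcomp, LinearMap.rTensor_comp,
        LinearMap.comp_apply, hx, map_zero]
    have h2 : LinearMap.rTensor M q₁ x = 0 := by
      apply Groth.Agent.H21.rTensor_inj_of_flat_quot (J ^ m) Q
      rw [h1, map_zero]
    have hsurj : Function.Surjective q₁ := by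
      rintro ⟨y, hy⟩
      obtain ⟨i, hi, rfl⟩ := (Ideal.mem_map_iff_of_surjective _ Ideal.Quotient.mk_surjective).mp hy
      exact ⟨⟨i, hi⟩, rfl⟩
    have hex := rTensor_exact M (LinearMap.exact_subtype_ker_map q₁) hsurj
    obtain ⟨y, rfl⟩ := (hex x).mp h2
    clear h2 h1 hx
    induction y using TensorProduct.induction_on with
    | zero => simp
    | add y z hy hz =>
      rw [map_add]
      exact Submodule.add_mem _ hy hz
    | tmul i a =>
      obtain ⟨⟨i, hiI⟩, hi⟩ := i
      have hiJ : i ∈ J ^ m := by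
        have : q₁ ⟨i, hiI⟩ = 0 := hi
        have h3 := congrArg Subtype.val this
        simpa [q₁, Ideal.Quotient.eq_zero_iff_mem] using h3
      have hmem : i ∈ (J ^ n • (I : Submodule A A) : Submodule A A) := by
        apply hAR
        refine ⟨?_, hiI⟩
        simpa using hiJ
      have hmem' : (⟨i, hiI⟩ : I) ∈ (J ^ n • (⊤ : Submodule A I)) := by
        have : (J ^ n • (I : Submodule A A) : Submodule A A) =
            Submodule.map I.subtype (J ^ n • (⊤ : Submodule A I)) := by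
          rw [Submodule.map_smul'', Submodule.map_subtype_top]
        rw [this] at hmem
        obtain ⟨z, hz, hzi⟩ := hmem
        have : z = ⟨i, hiI⟩ := Subtype.ext hzi
        rwa [← this]
      simp only [LinearMap.rTensor_tmul, Submodule.subtype_apply]
      refine Submodule.smul_induction_on
        (p := fun z : I => z ⊗ₜ[A] a ∈ (J ^ n • ⊤ : Submodule A (↥I ⊗[A] M))) hmem' ?_ ?_
      · intro j hj i' _
        show (j • i') ⊗ₜ[A] a ∈ _
        rw [← TensorProduct.smul_tmul']
        exact Submodule.smul_mem_smul hj Submodule.mem_top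
      · intro y z hy hz
        show (y + z) ⊗ₜ[A] a ∈ _
        rw [TensorProduct.add_tmul]
        exact Submodule.add_mem _ hy hz
  haveI := hsep I
  refine IsHausdorff.haus (I := J) inferInstance x fun n => ?_
  rw [SModEq.zero]
  exact key n

theorem flat_quot_symbolic {A : Type u} [CommRing A]
    (J : Ideal A) (M : Type u) [AddCommGroup M] [Module A M]
    {r : ℕ} (p : Fin r → Ideal A) [∀ i, (p i).IsPrime] (hp : ∀ i, J ≤ p i)
    (h1 : Module.Flat (A ⧸ J) ((A ⧸ J) ⊗[A] M))
    (h2 : ∀ i, Module.Flat (Localization.AtPrime (p i)) (LocalizedModule (p i).primeCompl M))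
    (m : ℕ) (Jm : Ideal A)
    (hJm : Jm = ⨅ i, Ideal.comap (algebraMap A (Localization.AtPrime (p i)))
      (IsLocalRing.maximalIdeal (Localization.AtPrime (p i)) ^ m)) :
    Module.Flat (A ⧸ Jm) ((A ⧸ Jm) ⊗[A] M) := by
  classical
  have hmem : ∀ a, a ∈ Jm ↔ ∀ i, algebraMap A (Localization.AtPrime (p i)) a ∈
      IsLocalRing.maximalIdeal (Localization.AtPrime (p i)) ^ m := by
    intro a
    rw [hJm, Ideal.mem_iInf]
    rfl
  let Q : Fin r → Type u := fun i =>
    Localization.AtPrime (p i) ⧸ (IsLocalRing.maximalIdeal (Localization.AtPrime (p i)) ^ m)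
  let φ : A →+* (Π i, Q i) := algebraMap A (Π i, Q i)
  have hφ : ∀ a ∈ Jm, φ a = 0 := by
    intro a ha
    funext i
    show Ideal.Quotient.mk _ (algebraMap A (Localization.AtPrime (p i)) a) = 0
    rw [Ideal.Quotient.eq_zero_iff_mem]
    exact (hmem a).mp ha i
  letI algR : Algebra (A ⧸ Jm) (Π i, Q i) := (Ideal.Quotient.lift Jm φ hφ).toAlgebra
  haveI : IsScalarTower A (A ⧸ Jm) (Π i, Q i) := IsScalarTower.of_algebraMap_eq (fun _ => rfl)
  have hinj : Injective (algebraMap (A ⧸ Jm) (Π i, Q i)) := by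
    rw [injective_iff_map_eq_zero]
    intro a ha
    obtain ⟨a, rfl⟩ := Ideal.Quotient.mk_surjective a
    rw [Ideal.Quotient.eq_zero_iff_mem, hmem]
    intro i
    have := congrFun ha i
    rw [← Ideal.Quotient.eq_zero_iff_mem]
    exact this
  obtain ⟨I, hIdef⟩ : ∃ I : Ideal (A ⧸ Jm), I = J.map (Ideal.Quotient.mk Jm) := ⟨_, rfl⟩
  have hJle : J ^ m ≤ Jm := by
    intro a ha
    rw [hmem]
    intro i
    have h3 : algebraMap A (Localization.AtPrime (p i)) a ∈
        (J ^ m).map (algebraMap A (Localization.AtPrime (p i))) := Ideal.mem_map_of_mem _ ha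
    rw [Ideal.map_pow] at h3
    refine Ideal.pow_right_mono ?_ m h3
    rw [← IsLocalization.AtPrime.map_eq_maximalIdeal (p i) (Localization.AtPrime (p i))]
    exact Ideal.map_mono (hp i)
  have hI : IsNilpotent I := by
    refine ⟨m, ?_⟩
    rw [hIdef, ← Ideal.map_pow, Ideal.zero_eq_bot, Ideal.map_eq_bot_iff_le_ker, Ideal.mk_ker]
    exact hJle
  -- flatness mod I
  letI algQ : Algebra (A ⧸ J) ((A ⧸ Jm) ⧸ I) :=
    (Ideal.quotientMap I (Ideal.Quotient.mk Jm) (by rw [hIdef]; exact Ideal.le_comap_map)).toAlgebra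
  haveI : IsScalarTower A (A ⧸ J) ((A ⧸ Jm) ⧸ I) := IsScalarTower.of_algebraMap_eq (fun _ => rfl)
  haveI F1a : Module.Flat ((A ⧸ Jm) ⧸ I) (((A ⧸ Jm) ⧸ I) ⊗[A] M) :=
    NilFlat.flat_baseChange_of_flat_baseChange A (A ⧸ J) ((A ⧸ Jm) ⧸ I) M
  haveI F1 : Module.Flat ((A ⧸ Jm) ⧸ I) (((A ⧸ Jm) ⧸ I) ⊗[A ⧸ Jm] ((A ⧸ Jm) ⊗[A] M)) :=
    NilFlat.flat_baseChange_baseChange A (A ⧸ Jm) ((A ⧸ Jm) ⧸ I) M
  -- flatness over the product
  letI := PiFlat.evalAlg Q
  haveI F2 : Module.Flat (Π i, Q i) ((Π i, Q i) ⊗[A ⧸ Jm] ((A ⧸ Jm) ⊗[A] M)) := by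
    refine PiFlat.flat_pi Q ((Π i, Q i) ⊗[A ⧸ Jm] ((A ⧸ Jm) ⊗[A] M)) fun i => ?_
    letI algRi : Algebra (A ⧸ Jm) (Q i) :=
      ((Pi.evalRingHom Q i).comp (algebraMap (A ⧸ Jm) (Π i, Q i))).toAlgebra
    haveI : IsScalarTower (A ⧸ Jm) (Π i, Q i) (Q i) := IsScalarTower.of_algebraMap_eq (fun _ => rfl)
    haveI : IsScalarTower A (A ⧸ Jm) (Q i) := IsScalarTower.of_algebraMap_eq (fun _ => rfl)
    haveI : Module.Flat (Localization.AtPrime (p i)) (Localization.AtPrime (p i) ⊗[A] M) := by
      haveI := h2 i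
      exact Module.Flat.of_linearEquiv
        (IsLocalizedModule.isBaseChange (p i).primeCompl (Localization.AtPrime (p i))
          (LocalizedModule.mkLinearMap (p i).primeCompl M)).equiv
    haveI : Module.Flat (Q i) (Q i ⊗[A] M) :=
      NilFlat.flat_baseChange_of_flat_baseChange A (Localization.AtPrime (p i)) (Q i) M
    haveI : Module.Flat (Q i) (Q i ⊗[A ⧸ Jm] ((A ⧸ Jm) ⊗[A] M)) :=
      NilFlat.flat_baseChange_baseChange A (A ⧸ Jm) (Q i) M
    exact NilFlat.flat_baseChange_baseChange (A ⧸ Jm) (Π i, Q i) (Q i) ((A ⧸ Jm) ⊗[A] M)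
  exact NilFlat.flat_of_injective hinj I hI ((A ⧸ Jm) ⊗[A] M)

end S5911aux

open TensorProduct in

/-- Let A be a Noetherian ring, J an ideal of A and M an A-module which is ideally separated for the
J-adic topology (for every ideal a of A the module a ⊗_A M is J-adically separated). Let (p_i) be a
finite family of prime ideals of A containing J, let J_n be the intersection of the symbolic powers
p_i^{(n)} (preimages in A of the n-th powers of the maximal ideals of the local rings A_{p_i}), and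
assume every power J^n contains some J_m. Then M is flat if and only if (A/J) ⊗_A M is flat over A/J
and M_{p_i} is flat over A_{p_i} for every i. -/
theorem result {A : Type u} [CommRing A] [IsNoetherianRing A]
    (J : Ideal A) (M : Type u) [AddCommGroup M] [Module A M]
    (hsep : ∀ a : Ideal A, IsHausdorff J (↥a ⊗[A] M))
    {r : ℕ} (p : Fin r → Ideal A) [∀ i, (p i).IsPrime] (hp : ∀ i, J ≤ p i)
    (htop : ∀ n : ℕ, ∃ m : ℕ,
      ⨅ i, Ideal.comap (algebraMap A (Localization.AtPrime (p i))) (IsLocalRing.maximalIdeal (Localization.AtPrime (p i)) ^ m) ≤ J ^ n) :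
    Module.Flat A M ↔
      Module.Flat (A ⧸ J) ((A ⧸ J) ⊗[A] M) ∧
        ∀ i, Module.Flat (Localization.AtPrime (p i)) (LocalizedModule (p i).primeCompl M) := by
  constructor
  · intro h
    exact ⟨inferInstance, fun i => inferInstance⟩
  · rintro ⟨h1, h2⟩
    refine S5911aux.flat_of_ideallySeparated J M hsep fun n _ => ?_
    obtain ⟨m, hm⟩ := htop n
    obtain ⟨Jm, hJm⟩ : ∃ Jm : Ideal A, Jm = ⨅ i, Ideal.comap
      (algebraMap A (Localization.AtPrime (p i)))
      (IsLocalRing.maximalIdeal (Localization.AtPrime (p i)) ^ m) := ⟨_, rfl⟩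
    rw [← hJm] at hm
    haveI := S5911aux.flat_quot_symbolic J M p hp h1 h2 m Jm hJm
    letI alg : Algebra (A ⧸ Jm) (A ⧸ J ^ n) := (Ideal.Quotient.factor hm).toAlgebra
    haveI : IsScalarTower A (A ⧸ Jm) (A ⧸ J ^ n) := IsScalarTower.of_algebraMap_eq (fun _ => rfl)
    exact Groth.Agent.Lib.helper24.NilFlat.flat_baseChange_of_flat_baseChange A (A ⧸ Jm) (A ⧸ J ^ n) M

end Groth.Agent.S5911
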