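import Groth.Statements.S5912
import Mathlib
import Groth.Agent.Lib.helper14.AdicExact
import Groth.Agent.Lib.helper21.FlatCrit
import Groth.Agent.Lib.helper24.NilFlat
import Groth.Agent.Lib.helper24.NilFlat2
import Groth.Agent.Lib.helper24.PiFlat

set_option autoImplicit false
universe u
open TensorProduct
open EGA43

namespace Groth.Agent.S5912

namespace S5912aux
open TensorProduct Function Groth.Agent.Lib.helper24

/-- For `a ∉ J^n`, some associated prime `q` of `A/J` contains the colon ideal `(J^n : a)`. -/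
theorem exists_assoc_colon_le {A : Type u} [CommRing A] [IsNoetherianRing A] (J : Ideal A)
    (hgr : ∀ k : ℕ, Module.Flat (A ⧸ J) ((A ⧸ J) ⊗[A] ↥(J ^ k)))
    (n : ℕ) (a : A) (ha : a ∉ J ^ n) :
    ∃ q ∈ associatedPrimes A (A ⧸ J), ∀ s : A, s * a ∈ J ^ n → s ∈ q := by
  classical
  have hn : 0 < n := by
    rcases Nat.eq_zero_or_pos n with h | h
    · exfalso; apply ha; rw [h, pow_zero, Ideal.one_eq_top]; trivial
    · exact h
  have hex : ∃ k, a ∉ J ^ (k + 1) := ⟨n - 1, by rwa [Nat.sub_add_cancel hn]⟩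
  obtain ⟨k, hk1, hkmin⟩ : ∃ k, a ∉ J ^ (k + 1) ∧ ∀ j < k, a ∈ J ^ (j + 1) := by
    refine ⟨Nat.find hex, Nat.find_spec hex, fun j hj => ?_⟩
    by_contra hcon
    exact Nat.find_min hex hj hcon
  have hak : a ∈ J ^ k := by
    rcases Nat.eq_zero_or_pos k with h | h
    · rw [h, pow_zero, Ideal.one_eq_top]; trivial
    · have := hkmin (k - 1) (by omega)
      rwa [Nat.sub_add_cancel h] at this
  have hkn : k + 1 ≤ n := by
    by_contra hcon
    push Not at hcon
    have := hkmin (n - 1) (by omega)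
    rw [Nat.sub_add_cancel hn] at this
    exact ha this
  -- the element of the flat module
  haveI := hgr k
  let y : ↥(J ^ k) := ⟨a, hak⟩
  have hmemtop : ∀ z : ↥(J ^ k), z ∈ (J • ⊤ : Submodule A ↥(J ^ k)) ↔ (z : A) ∈ J ^ (k + 1) := by
    intro z
    have h1 : Submodule.map (J ^ k).subtype (J • (⊤ : Submodule A ↥(J ^ k))) = J ^ (k + 1) := by
      rw [Submodule.map_smul'', Submodule.map_subtype_top, pow_succ']
      rfl
    rw [← h1]
    constructor
    · intro hz
      exact ⟨z, hz, rfl⟩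
    · rintro ⟨z', hz', hzz⟩
      have : z' = z := Subtype.ext hzz
      rwa [← this]
  have hx0 : (1 : A ⧸ J) ⊗ₜ[A] y ≠ 0 := by
    rw [Ne, H14.one_tmul_eq_zero_iff, hmemtop]
    exact hk1
  -- colon ideal
  obtain ⟨C, hCdef⟩ : ∃ C : Ideal A, C = (J ^ (k + 1) : Submodule A A).colon {a} := ⟨_, rfl⟩
  have hCmem : ∀ s, s ∈ C ↔ s * a ∈ J ^ (k + 1) := by
    intro s
    rw [hCdef, Submodule.mem_colon_singleton, smul_eq_mul]
  have hCzd : (C : Set A) ⊆ ⋃ q ∈ associatedPrimes A (A ⧸ J), (q : Set A) := by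
    intro s hs
    rw [biUnion_associatedPrimes_eq_zero_divisors]
    have hs' : s * a ∈ J ^ (k + 1) := (hCmem s).mp hs
    -- `mk s` kills the nonzero element
    have hkill : (Ideal.Quotient.mk J s) • ((1 : A ⧸ J) ⊗ₜ[A] y) = 0 := by
      rw [TensorProduct.smul_tmul', smul_eq_mul, mul_one]
      have : (Ideal.Quotient.mk J s) ⊗ₜ[A] y = (1 : A ⧸ J) ⊗ₜ[A] (s • y) := by
        rw [← TensorProduct.smul_tmul, Algebra.smul_def, mul_one]
        rfl
      rw [this, H14.one_tmul_eq_zero_iff, hmemtop]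
      exact hs'
    -- so `mk s` is not regular
    have hnotreg : ¬ IsRegular (Ideal.Quotient.mk J s) := by
      intro hreg
      have := Module.Flat.isSMulRegular_of_isRegular (M := (A ⧸ J) ⊗[A] ↥(J ^ k)) hreg
      exact hx0 (this (by show _ • _ = _ • _; rw [hkill, smul_zero]))
    rw [← isLeftRegular_iff_isRegular, IsLeftRegular, Function.Injective] at hnotreg
    push Not at hnotreg
    obtain ⟨t1, t2, ht, hne⟩ := hnotreg
    refine ⟨t1 - t2, sub_ne_zero.mpr hne, ?_⟩
    rw [smul_sub, sub_eq_zero]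
    obtain ⟨t1, rfl⟩ := Ideal.Quotient.mk_surjective t1
    obtain ⟨t2, rfl⟩ := Ideal.Quotient.mk_surjective t2
    exact ht
  have hfin : (associatedPrimes A (A ⧸ J)).Finite := associatedPrimes.finite A (A ⧸ J)
  have hCzd' : (C : Set A) ⊆ ⋃ q ∈ ((hfin.toFinset : Finset (Ideal A)) : Set (Ideal A)),
      ((fun q : Ideal A => q) q : Set A) := by
    simpa using hCzd
  obtain ⟨q, hq, hCq⟩ := (Ideal.subset_union_prime (f := fun q : Ideal A => q) ⊥ ⊥
    (fun q hq _ _ => by
      rw [Set.Finite.mem_toFinset] at hq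
      exact IsAssociatedPrime.isPrime hq)).mp hCzd'
  rw [Set.Finite.mem_toFinset] at hq
  refine ⟨q, hq, fun s hs => hCq ((hCmem s).mpr ?_)⟩
  exact Ideal.pow_le_pow_right hkn hs

theorem flat_of_ideallySeparated {A : Type u} [CommRing A] [IsNoetherianRing A] (J : Ideal A)
    (M : Type u) [AddCommGroup M] [Module A M]
    (hsep : ∀ a : Ideal A, IsHausdorff J (↥a ⊗[A] M))
    (H : ∀ n : ℕ, 0 < n → Module.Flat (A ⧸ J ^ n) ((A ⧸ J ^ n) ⊗[A] M)) : Module.Flat A M := by
  rw [Module.Flat.iff_rTensor_injective]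
  intro I hI
  rw [injective_iff_map_eq_zero]
  intro x hx
  have key : ∀ n : ℕ, x ∈ (J ^ n • ⊤ : Submodule A (↥I ⊗[A] M)) := by
    intro n
    obtain ⟨k, hk⟩ := Ideal.exists_pow_inf_eq_pow_smul J (M := A) (I : Submodule A A)
    have hAR : (J ^ (n + k + 1) • ⊤ ⊓ I : Submodule A A) ≤ J ^ n • (I : Submodule A A) := by
      rw [hk (n + k + 1) (by omega)]
      exact Submodule.smul_mono (Ideal.pow_le_pow_right (by omega)) inf_le_right
    haveI := H (n + k + 1) (by omega)
    generalize n + k + 1 = m at hAR this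
    let Q : Ideal (A ⧸ J ^ m) := I.map (Ideal.Quotient.mk (J ^ m))
    let q₁ : I →ₗ[A] Q :=
      { toFun := fun i => ⟨Ideal.Quotient.mk (J ^ m) i, Ideal.mem_map_of_mem _ i.2⟩
        map_add' := fun a b => by ext; simp
        map_smul' := fun b a => by ext; simp [Algebra.smul_def] }
    have hcomp : ((Q.subtype).restrictScalars A) ∘ₗ q₁ =
        (Ideal.Quotient.mkₐ A (J ^ m)).toLinearMap ∘ₗ I.subtype := by
      ext i; rfl
    have h1 : LinearMap.rTensor M ((Q.subtype).restrictScalars A) (LinearMap.rTensor M q₁ x) = 0 := by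
      rw [← LinearMap.comp_apply, ← LinearMap.rTensor_comp, hcomp, LinearMap.rTensor_comp,
        LinearMap.comp_apply, hx, map_zero]
    have h2 : LinearMap.rTensor M q₁ x = 0 := by
      apply Groth.Agent.H21.rTensor_inj_of_flat_quot (J ^ m) Q
      rw [h1, map_zero]
    have hsurj : Function.Surjective q₁ := by
      rintro ⟨y, hy⟩
      obtain ⟨i, hi, rfl⟩ := (Ideal.mem_map_iff_of_surjective _ Ideal.Quotient.mk_surjective).mp hy
      exact ⟨⟨i, hi⟩, rfl⟩
    have hex := rTensor_exact M (LinearMap.exact_subtype_ker_map q₁) hsurj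
    obtain ⟨y, rfl⟩ := (hex x).mp h2
    clear h2 h1 hx
    induction y using TensorProduct.induction_on with
    | zero => simp
    | add y z hy hz =>
      rw [map_add]
      exact Submodule.add_mem _ hy hz
    | tmul i a =>
      obtain ⟨⟨i, hiI⟩, hi⟩ := i
      have hiJ : i ∈ J ^ m := by
        have : q₁ ⟨i, hiI⟩ = 0 := hi
        have h3 := congrArg Subtype.val this
        simpa [q₁, Ideal.Quotient.eq_zero_iff_mem] using h3
      have hmem : i ∈ (J ^ n • (I : Submodule A A) : Submodule A A) := by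
        apply hAR
        refine ⟨?_, hiI⟩
        simpa using hiJ
      have hmem' : (⟨i, hiI⟩ : I) ∈ (J ^ n • (⊤ : Submodule A I)) := by
        have : (J ^ n • (I : Submodule A A) : Submodule A A) =
            Submodule.map I.subtype (J ^ n • (⊤ : Submodule A I)) := by
          rw [Submodule.map_smul'', Submodule.map_subtype_top]
        rw [this] at hmem
        obtain ⟨z, hz, hzi⟩ := hmem
        have : z = ⟨i, hiI⟩ := Subtype.ext hzi
        rwa [← this]
      simp only [LinearMap.rTensor_tmul, Submodule.subtype_apply]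
      refine Submodule.smul_induction_on
        (p := fun z : I => z ⊗ₜ[A] a ∈ (J ^ n • ⊤ : Submodule A (↥I ⊗[A] M))) hmem' ?_ ?_
      · intro j hj i' _
        show (j • i') ⊗ₜ[A] a ∈ _
        rw [← TensorProduct.smul_tmul']
        exact Submodule.smul_mem_smul hj Submodule.mem_top
      · intro y z hy hz
        show (y + z) ⊗ₜ[A] a ∈ _
        rw [TensorProduct.add_tmul]
        exact Submodule.add_mem _ hy hz
  haveI := hsep I
  refine IsHausdorff.haus (I := J) inferInstance x fun n => ?_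
  rw [SModEq.zero]
  exact key n

theorem flat_quot_pow {A : Type u} [CommRing A] [IsNoetherianRing A]
    (J : Ideal A) (M : Type u) [AddCommGroup M] [Module A M]
    (hgr : ∀ k : ℕ, Module.Flat (A ⧸ J) ((A ⧸ J) ⊗[A] ↥(J ^ k)))
    (h1 : Module.Flat (A ⧸ J) ((A ⧸ J) ⊗[A] M))
    (h2 : ∀ q : associatedPrimes A (A ⧸ J),
      haveI : q.1.IsPrime := IsAssociatedPrime.isPrime q.2
      Module.Flat (Localization.AtPrime q.1) (LocalizedModule q.1.primeCompl M))
    (n : ℕ) (hn : 0 < n) :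
    Module.Flat (A ⧸ J ^ n) ((A ⧸ J ^ n) ⊗[A] M) := by
  classical
  haveI hprime : ∀ q : associatedPrimes A (A ⧸ J), q.1.IsPrime :=
    fun q => IsAssociatedPrime.isPrime q.2
  letI : Fintype ↥(associatedPrimes A (A ⧸ J)) := (associatedPrimes.finite A (A ⧸ J)).fintype
  obtain ⟨Jm, hJm⟩ : ∃ Jm : Ideal A, Jm = J ^ n := ⟨_, rfl⟩
  rw [← hJm]
  let Q : ↥(associatedPrimes A (A ⧸ J)) → Type u := fun q =>
    Localization.AtPrime q.1 ⧸ Jm.map (algebraMap A (Localization.AtPrime q.1))
  have hinj : Injective (algebraMap (A ⧸ Jm) (Π q, Q q)) := by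
    rw [injective_iff_map_eq_zero]
    intro a ha
    obtain ⟨a, rfl⟩ := Ideal.Quotient.mk_surjective a
    rw [Ideal.Quotient.eq_zero_iff_mem]
    by_contra hcon
    rw [hJm] at hcon
    obtain ⟨q, hq, hcolon⟩ := exists_assoc_colon_le J hgr n a hcon
    haveI : q.IsPrime := IsAssociatedPrime.isPrime hq
    have h3 : Ideal.Quotient.mk (Jm.map (algebraMap A (Localization.AtPrime q)))
        (algebraMap A (Localization.AtPrime q) a) = 0 := congrFun ha ⟨q, hq⟩
    rw [Ideal.Quotient.eq_zero_iff_mem,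
      IsLocalization.mem_map_algebraMap_iff q.primeCompl (Localization.AtPrime q)] at h3
    obtain ⟨⟨j, s⟩, hjs⟩ := h3
    rw [← map_mul, IsLocalization.eq_iff_exists q.primeCompl (Localization.AtPrime q)] at hjs
    obtain ⟨c, hc⟩ := hjs
    have h4 : ((c : A) * (s : A)) * a ∈ J ^ n := by
      have : ((c : A) * (s : A)) * a = (c : A) * (a * (s : A)) := by ring
      rw [this, hc, ← hJm]
      exact Ideal.mul_mem_left _ _ j.2
    have h5 := hcolon _ h4
    rcases (IsAssociatedPrime.isPrime hq).mem_or_mem h5 with h | h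
    · exact c.2 h
    · exact s.2 h
  obtain ⟨I, hIdef⟩ : ∃ I : Ideal (A ⧸ Jm), I = J.map (Ideal.Quotient.mk Jm) := ⟨_, rfl⟩
  have hI : IsNilpotent I := by
    refine ⟨n, ?_⟩
    rw [hIdef, ← Ideal.map_pow, Ideal.zero_eq_bot, Ideal.map_eq_bot_iff_le_ker, Ideal.mk_ker, hJm]
  -- flatness mod I
  letI algQ : Algebra (A ⧸ J) ((A ⧸ Jm) ⧸ I) :=
    (Ideal.quotientMap I (Ideal.Quotient.mk Jm) (by rw [hIdef]; exact Ideal.le_comap_map)).toAlgebra
  haveI : IsScalarTower A (A ⧸ J) ((A ⧸ Jm) ⧸ I) := IsScalarTower.of_algebraMap_eq (fun _ => rfl)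
  haveI F1a : Module.Flat ((A ⧸ Jm) ⧸ I) (((A ⧸ Jm) ⧸ I) ⊗[A] M) :=
    NilFlat.flat_baseChange_of_flat_baseChange A (A ⧸ J) ((A ⧸ Jm) ⧸ I) M
  haveI F1 : Module.Flat ((A ⧸ Jm) ⧸ I) (((A ⧸ Jm) ⧸ I) ⊗[A ⧸ Jm] ((A ⧸ Jm) ⊗[A] M)) :=
    NilFlat.flat_baseChange_baseChange A (A ⧸ Jm) ((A ⧸ Jm) ⧸ I) M
  -- flatness over the product
  letI := PiFlat.evalAlg Q
  haveI F2 : Module.Flat (Π q, Q q) ((Π q, Q q) ⊗[A ⧸ Jm] ((A ⧸ Jm) ⊗[A] M)) := by
    refine PiFlat.flat_pi Q ((Π q, Q q) ⊗[A ⧸ Jm] ((A ⧸ Jm) ⊗[A] M)) fun i => ?_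
    haveI : IsScalarTower (A ⧸ Jm) (Π q, Q q) (Q i) := ⟨fun a p b => by
      show (a • p) i * b = a • (p i * b)
      rw [Pi.smul_apply, smul_mul_assoc]⟩
    haveI : Module.Flat (Localization.AtPrime i.1) (Localization.AtPrime i.1 ⊗[A] M) := by
      haveI := h2 i
      exact Module.Flat.of_linearEquiv
        (IsLocalizedModule.isBaseChange i.1.primeCompl (Localization.AtPrime i.1)
          (LocalizedModule.mkLinearMap i.1.primeCompl M)).equiv
    haveI : Module.Flat (Q i) (Q i ⊗[A] M) :=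
      NilFlat.flat_baseChange_of_flat_baseChange A (Localization.AtPrime i.1) (Q i) M
    haveI : Module.Flat (Q i) (Q i ⊗[A ⧸ Jm] ((A ⧸ Jm) ⊗[A] M)) :=
      NilFlat.flat_baseChange_baseChange A (A ⧸ Jm) (Q i) M
    exact NilFlat.flat_baseChange_baseChange (A ⧸ Jm) (Π q, Q q) (Q i) ((A ⧸ Jm) ⊗[A] M)
  exact NilFlat.flat_of_injective hinj I hI ((A ⧸ Jm) ⊗[A] M)

end S5912aux

open TensorProduct in

/-- Let A be a Noetherian ring, J an ideal of A and M an A-module which is ideally separated for the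
J-adic topology (for every ideal a of A the module a ⊗_A M is J-adically separated), and suppose
every quotient J^k/J^{k+1} is a flat (A/J)-module (the associated graded ring of A along J is flat
over A/J). Then M is flat if and only if (A/J) ⊗_A M is flat over A/J and M_p is flat over A_p for
every associated prime p of the A-module A/J. -/
theorem result {A : Type u} [CommRing A] [IsNoetherianRing A]
    (J : Ideal A) (M : Type u) [AddCommGroup M] [Module A M]
    (hsep : ∀ a : Ideal A, IsHausdorff J (↥a ⊗[A] M))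
    (hgr : ∀ k : ℕ, Module.Flat (A ⧸ J) ((A ⧸ J) ⊗[A] ↥(J ^ k))) :
    Module.Flat A M ↔
      Module.Flat (A ⧸ J) ((A ⧸ J) ⊗[A] M) ∧
        ∀ q : associatedPrimes A (A ⧸ J),
          haveI : q.1.IsPrime := IsAssociatedPrime.isPrime q.2
          Module.Flat (Localization.AtPrime q.1) (LocalizedModule q.1.primeCompl M) := by
  constructor
  · intro h
    refine ⟨inferInstance, fun q => ?_⟩
    haveI : q.1.IsPrime := IsAssociatedPrime.isPrime q.2
    infer_instance
  · rintro ⟨h1, h2⟩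
    exact S5912aux.flat_of_ideallySeparated J M hsep
      fun n hn => S5912aux.flat_quot_pow J M hgr h1 h2 n hn

end Groth.Agent.S5912
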