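import Groth.Statements.S5913
import Mathlib
import Groth.Agent.Lib.helper7.Jac3

set_option autoImplicit false
universe u
open CategoryTheory AlgebraicGeometry
open EGA43

namespace Groth.Agent.S5913

open Groth.Agent.Lib.helper7.Jac Topology TopologicalSpace Set

/-- In the locally Noetherian form: a locally Noetherian scheme X is Jacobson if and only if it has no
subscheme isomorphic to the spectrum of a semi-local integral domain of dimension 1, i.e. there is
no immersion Spec R ⟶ X with R an integral domain having finitely many maximal ideals and Krull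
dimension 1. -/
theorem result (X : Scheme.{u}) [IsLocallyNoetherian X] :
    JacobsonSpace X ↔
      ∀ (R : CommRingCat.{u}) [IsDomain R] (i : Spec R ⟶ X) [IsImmersion i],
        ¬ (Finite (MaximalSpectrum R) ∧ ringKrullDim R = 1) := by
  constructor
  · rintro hJ R hR i hi ⟨hfin, hdim⟩
    have hJR : JacobsonSpace ↥(Spec R) := by
      rw [jacobsonSpace_iff_locallyClosed]
      intro Z' hne hlc
      have hemb : IsEmbedding ⇑i := i.isEmbedding
      have hZ : IsLocallyClosed (⇑i '' Z') :=
        hlc.image hemb.isInducing IsImmersion.isLocallyClosed_range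
      obtain ⟨_, ⟨z', hz', rfl⟩, hcl⟩ := nonempty_inter_closedPoints (hne.image _) hZ
      refine ⟨z', hz', ?_⟩
      change IsClosed ({z'} : Set ↥(Spec R))
      have : ({z'} : Set ↥(Spec R)) = ⇑i ⁻¹' {i z'} := by
        ext t
        simp only [mem_singleton_iff, mem_preimage]
        exact ⟨fun h => h ▸ rfl, fun h => hemb.injective h⟩
      rw [this]
      exact (hcl : IsClosed {i z'}).preimage i.continuous
    have hJR' : JacobsonSpace (PrimeSpectrum R) := hJR
    have hnotmax : ¬ (⊥ : Ideal R).IsMaximal := by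
      intro h
      have := ringKrullDim_eq_zero_of_isField (Ring.isField_iff_maximal_bot.mpr h)
      rw [this] at hdim
      exact zero_ne_one hdim
    have hK : Ring.KrullDimLE 1 R := Ring.krullDimLE_iff.mpr (by rw [hdim]; rfl)
    have hmax := Ring.krullDimLE_one_iff_of_isPrime_bot.mp hK
    let b : PrimeSpectrum R := ⟨⊥, Ideal.isPrime_bot⟩
    have hcompl : ({b}ᶜ : Set (PrimeSpectrum R)) =
        ⋃ m : MaximalSpectrum R, {m.toPrimeSpectrum} := by
      ext p
      simp only [mem_compl_iff, mem_singleton_iff, mem_iUnion]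
      constructor
      · intro hp
        have hp0 : p.asIdeal ≠ ⊥ := fun h => hp (PrimeSpectrum.ext h)
        exact ⟨⟨p.asIdeal, hmax _ hp0 p.isPrime⟩, PrimeSpectrum.ext rfl⟩
      · rintro ⟨m, rfl⟩ h
        have hm : m.asIdeal = ⊥ := congrArg PrimeSpectrum.asIdeal h
        exact hnotmax (hm ▸ m.isMaximal)
    have hopen : IsOpen ({b} : Set (PrimeSpectrum R)) := by
      rw [← isClosed_compl_iff, hcompl]
      exact isClosed_iUnion_of_finite fun m =>
        (PrimeSpectrum.isClosed_singleton_iff_isMaximal _).mpr m.isMaximal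
    have hcl := isClosed_singleton_of_isLocallyClosed_singleton hopen.isLocallyClosed
    exact hnotmax ((PrimeSpectrum.isClosed_singleton_iff_isMaximal b).mp hcl)
  · intro h
    rw [jacobsonSpace_iff_locallyClosed]
    by_contra hnot
    push Not at hnot
    obtain ⟨Z, hne, hlc, hempty⟩ := hnot
    obtain ⟨z, hzZ, hzlc⟩ := exists_isLocallyClosed_singleton hlc hne
    have hzncl : ¬ IsClosed ({z} : Set X) := fun hcl =>
      (Set.not_nonempty_iff_eq_empty.mpr hempty) ⟨z, hzZ, hcl⟩
    have hex : ∃ y ∈ closure ({z} : Set X), y ≠ z := by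
      by_contra h'
      push Not at h'
      apply hzncl
      rw [← closure_subset_iff_isClosed]
      intro y hy
      exact h' y hy
    obtain ⟨y, hy, hyz⟩ := hex
    obtain ⟨_, ⟨V, hV : IsAffineOpen V, rfl⟩, hyV, -⟩ :=
      X.isBasis_affineOpens.exists_subset_of_mem_open (mem_univ y) isOpen_univ
    have hzy : z ⤳ y := specializes_iff_mem_closure.mpr hy
    have hzV : z ∈ V := hzy.mem_open V.2 hyV
    have hN : IsNoetherianRing Γ(X, V) := IsLocallyNoetherian.component_noetherian ⟨V, hV⟩
    have hrange := hV.range_fromSpec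
    obtain ⟨pz, rfl⟩ : z ∈ Set.range ⇑hV.fromSpec := by rw [hrange]; exact hzV
    obtain ⟨py, rfl⟩ : y ∈ Set.range ⇑hV.fromSpec := by rw [hrange]; exact hyV
    have hemb : IsOpenEmbedding ⇑hV.fromSpec := hV.fromSpec.isOpenEmbedding
    have hzy' : pz ⤳ py := hemb.isInducing.specializes_iff.mp hzy
    have hpre : ⇑hV.fromSpec ⁻¹' {hV.fromSpec pz} = {pz} := by
      ext r
      simp only [mem_preimage, mem_singleton_iff]
      exact ⟨fun h => hemb.injective h, fun h => h ▸ rfl⟩
    have hlc' : IsLocallyClosed ({pz} : Set (PrimeSpectrum Γ(X, V))) := by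
      have := hzlc.preimage hV.fromSpec.continuous
      rw [hpre] at this
      exact this
    have hle : (pz : PrimeSpectrum Γ(X, V)).asIdeal ≤ (py : PrimeSpectrum Γ(X, V)).asIdeal :=
      (PrimeSpectrum.le_iff_specializes (pz : PrimeSpectrum Γ(X, V)) py).mpr hzy'
    have hlt : (pz : PrimeSpectrum Γ(X, V)).asIdeal < (py : PrimeSpectrum Γ(X, V)).asIdeal := by
      refine lt_of_le_of_ne hle fun h => hyz ?_
      have : (pz : PrimeSpectrum Γ(X, V)) = py := PrimeSpectrum.ext h
      rw [this]
    have hpzprime : (pz : PrimeSpectrum Γ(X, V)).asIdeal.IsPrime := (pz : PrimeSpectrum Γ(X, V)).isPrime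
    have hpyprime : (py : PrimeSpectrum Γ(X, V)).asIdeal.IsPrime := (py : PrimeSpectrum Γ(X, V)).isPrime
    set P : Ideal Γ(X, V) := (pz : PrimeSpectrum Γ(X, V)).asIdeal with hP
    have hopen := isOpen_bot_quotient_of_isLocallyClosed (pz : PrimeSpectrum Γ(X, V)) hlc'
    have h1 := ((Groth.Agent.S4860.result (Γ(X, V) ⧸ P)).out 3 0).mp hopen
    have h3 := ((Groth.Agent.S4861.result (Γ(X, V) ⧸ P)).out 0 2).mp h1
    set φ : Γ(X, V) →+* Γ(X, V) ⧸ P := Ideal.Quotient.mk P with hφ
    have hsurj : Function.Surjective φ := Ideal.Quotient.mk_surjective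
    have hker : RingHom.ker φ ≤ (py : PrimeSpectrum Γ(X, V)).asIdeal := by
      rw [Ideal.mk_ker]
      exact hle
    have hqprime : (Ideal.map φ (py : PrimeSpectrum Γ(X, V)).asIdeal).IsPrime :=
      Ideal.map_isPrime_of_surjective hsurj hker
    have hq0 : Ideal.map φ (py : PrimeSpectrum Γ(X, V)).asIdeal ≠ ⊥ := by
      obtain ⟨a, haq, hap⟩ := SetLike.exists_of_lt hlt
      intro h0
      have : φ a ∈ Ideal.map φ (py : PrimeSpectrum Γ(X, V)).asIdeal := Ideal.mem_map_of_mem φ haq
      rw [h0, Ideal.mem_bot] at this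
      exact hap (Ideal.Quotient.eq_zero_iff_mem.mp this)
    have hdim1 : ringKrullDim (Γ(X, V) ⧸ P) = 1 := by
      refine le_antisymm h3.2 ?_
      have hh : Ideal.height (Ideal.map φ (py : PrimeSpectrum Γ(X, V)).asIdeal) ≠ 0 := fun h0 =>
        hq0 (Ideal.height_eq_zero_iff_eq_bot.mp h0)
      have h1le : (1 : ℕ∞) ≤ Ideal.height (Ideal.map φ (py : PrimeSpectrum Γ(X, V)).asIdeal) :=
        Order.one_le_iff_ne_zero.mpr hh
      refine le_trans ?_ (Ideal.height_le_ringKrullDim_of_ne_top hqprime.ne_top)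
      exact_mod_cast h1le
    have hcl : IsClosedImmersion (Spec.map (CommRingCat.ofHom φ)) :=
      IsClosedImmersion.spec_of_surjective _ hsurj
    exact h (CommRingCat.of (Γ(X, V) ⧸ P)) (Spec.map (CommRingCat.ofHom φ) ≫ hV.fromSpec)
      ⟨h3.1, hdim1⟩

end Groth.Agent.S5913
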