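import Groth.Statements.S5934
import Mathlib
import Groth.Agent.Lib.helper22.SmoothFibreSch

set_option autoImplicit false
open CategoryTheory AlgebraicGeometry
universe u
open EGA43

namespace Groth.Agent.S5934

section Helpers

open CategoryTheory CategoryTheory.Limits AlgebraicGeometry

open Groth.Agent.H22.SmoothDescent Groth.Agent.H22.SmoothFibre

theorem smooth_fibre_iff {X Y : Scheme.{u}} (f : X ⟶ Y) [Flat f] [LocallyOfFinitePresentation f]
    (y : Y) : Smooth (f.fiberToSpecResidueField y) ↔ ∀ x : X, f x = y → x ∈ f.smoothLocus := by
  have H : IsPullback (f.fiberι y) (f.fiberToSpecResidueField y) f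
      (Y.fromSpecResidueField y) := IsPullback.of_hasPullback _ _
  haveI : LocallyOfFinitePresentation (f.fiberToSpecResidueField y) :=
    MorphismProperty.of_isPullback (P := @LocallyOfFinitePresentation) H inferInstance
  rw [← Scheme.Hom.smoothLocus_eq_top_iff]
  constructor
  · intro h x hx
    have hxr : x ∈ Set.range (f.fiberι y) := by
      rw [Scheme.Hom.range_fiberι]; exact hx
    obtain ⟨z, rfl⟩ := hxr
    refine mem_smoothLocus_of_flat_of_fibre (K := Y.residueField y) H z
      ((Flat.iff_flat_stalkMap (f := f)).mp inferInstance _) ?_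
    rw [h]; trivial
  · intro h
    refine top_le_iff.mp fun z _ => ?_
    refine preimage_smoothLocus_le_of_isPullback H ?_
    show f.fiberι y z ∈ f.smoothLocus
    refine h _ ?_
    have : f.fiberι y z ∈ Set.range (f.fiberι y) := ⟨z, rfl⟩
    rw [Scheme.Hom.range_fiberι] at this
    exact this

theorem main {X Y : Scheme.{u}} (f : X ⟶ Y) [IsProper f] [Flat f] [LocallyOfFinitePresentation f] :
    IsOpen {y : Y | Smooth (f.fiberToSpecResidueField y)} := by
  have heq : {y : Y | Smooth (f.fiberToSpecResidueField y)} =
      (f '' ((f.smoothLocus : Set X)ᶜ))ᶜ := by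
    ext y
    simp only [Set.mem_setOf_eq, Set.mem_compl_iff, Set.mem_image, not_exists, not_and]
    rw [smooth_fibre_iff]
    constructor
    · intro h x hx hxy
      exact hx (h x hxy)
    · intro h x hxy
      by_contra hx
      exact h x hx hxy
  rw [heq]
  exact (f.isClosedMap _ f.smoothLocus.isOpen.isClosed_compl).isOpen_compl

end Helpers

/-- Let f : X ⟶ Y be a proper, flat morphism of finite presentation. The set of points y of Y whose
fibre X_y is geometrically regular, i.e. smooth over the residue field κ(y), is open in Y. -/
theorem result {X Y : Scheme.{u}} (f : X ⟶ Y) [IsProper f] [Flat f]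
    [LocallyOfFinitePresentation f] :
    IsOpen {y : Y | Smooth (f.fiberToSpecResidueField y)} := by
  exact main f

end Groth.Agent.S5934
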