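import Groth.Statements.S5939
import Mathlib

set_option autoImplicit false
universe u
open CategoryTheory AlgebraicGeometry
open Unram17

namespace Groth.Agent.S5939

/-- Let f : X ⟶ Y be faithfully flat, locally of finite presentation and quasi-compact, and let g : Y ⟶
Z be a morphism such that f ≫ g is of finite presentation (locally of finite presentation,
quasi-compact and quasi-separated). Then g is quasi-compact and quasi-separated; together with the
descent of local finite presentation along f this says that g is of finite presentation. This is the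
case f quasi-compact. -/
theorem result {X Y Z : Scheme.{u}} (f : X ⟶ Y) (g : Y ⟶ Z)
    [Surjective f] [Flat f] [LocallyOfFinitePresentation f] [QuasiCompact f]
    [LocallyOfFinitePresentation (f ≫ g)] [QuasiCompact (f ≫ g)] [QuasiSeparated (f ≫ g)] :
    QuasiCompact g ∧ QuasiSeparated g := by
  constructor
  · rw [quasiCompact_iff_forall_isAffineOpen]
    intro U hU
    have h1 : IsCompact ((f ≫ g) ⁻¹ᵁ U : Set X) :=
      (f ≫ g).isCompact_preimage hU.isCompact
    have h2 : (g ⁻¹ᵁ U : Set Y) = f.base '' ((f ≫ g) ⁻¹ᵁ U : Set X) := by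
      have : ((f ≫ g) ⁻¹ᵁ U : Set X) = f.base ⁻¹' (g ⁻¹ᵁ U : Set Y) := rfl
      rw [this, Set.image_preimage_eq _ f.surjective]
    rw [h2]
    exact h1.image f.continuous
  · rw [HasAffineProperty.eq_targetAffineLocally @QuasiSeparated]
    intro U
    show QuasiSeparatedSpace ↥(g ⁻¹ᵁ U.1)
    refine (isQuasiSeparated_iff_quasiSeparatedSpace _ (g ⁻¹ᵁ U.1).2).mp ?_
    intro V₁ V₂ hV₁ hV₁o hV₁c hV₂ hV₂o hV₂c
    have hqs : IsQuasiSeparated ((f ≫ g) ⁻¹ᵁ U.1 : Set X) :=
      (f ≫ g).isQuasiSeparated_preimage U.2.isQuasiSeparated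
    have hc1 : IsCompact (f.base ⁻¹' V₁) := f.isCompact_preimage (U := ⟨V₁, hV₁o⟩) hV₁c
    have hc2 : IsCompact (f.base ⁻¹' V₂) := f.isCompact_preimage (U := ⟨V₂, hV₂o⟩) hV₂c
    have h3 := hqs (f.base ⁻¹' V₁) (f.base ⁻¹' V₂) (Set.preimage_mono hV₁)
      (hV₁o.preimage f.continuous) hc1 (Set.preimage_mono hV₂) (hV₂o.preimage f.continuous) hc2
    have himg : f.base '' (f.base ⁻¹' V₁ ∩ f.base ⁻¹' V₂) = V₁ ∩ V₂ := by
      rw [← Set.preimage_inter, Set.image_preimage_eq _ f.surjective]
    rw [← himg]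
    exact h3.image f.continuous

end Groth.Agent.S5939
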