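import Groth.Statements.S5957
import Groth.Agent.Lib.helper1.PP2

set_option autoImplicit false
universe u
open CategoryTheory CategoryTheory.Limits AlgebraicGeometry TopologicalSpace Opposite
open Nrm16

namespace Groth.Agent.S5957

/-- Let f : X ⟶ S be a morphism of schemes, F and G two O_X-modules and D : F ⟶ G a homomorphism of
sheaves of abelian groups. Then D is a differential operator of order at most 0 relative to S if and
only if D is O_X-linear: D(a·t) = a·D(t) for every open U, every function a on U and every section t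
of F over U. -/
theorem result {X S : Scheme.{u}} (f : X ⟶ S) (F G : X.Modules)
    (D : F.presheaf ⟶ G.presheaf) :
    PrinPart.IsDiffOpLE f F G 0 D ↔
      ∀ (U : X.Opens) (a : Γ(X, U)) (t : Γ(F, U)), D.app (op U) (a • t) = a • D.app (op U) t := by
  constructor
  · rintro ⟨u, hu⟩ U a t
    rw [hu, hu, Groth.Agent.Lib.helper1.PP.dP_zero_smul, Scheme.Modules.Hom.app_smul]
  · intro hD
    haveI := Groth.Agent.Lib.helper1.PP.isIso_dPHom_zero f F
    have hinv : ∀ (U : X.Opens) (s : Γ(PrinPart.PMod f 0 F, U)),
        PrinPart.dP f 0 F U ((inv (PrinPart.dPHom f 0 F)).app (op U) s) = s := by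
      intro U s
      have := congrArg (fun φ => φ.app (op U) s) (IsIso.inv_hom_id (PrinPart.dPHom f 0 F))
      exact this
    have hinv' : ∀ (U : X.Opens) (t : Γ(F, U)),
        (inv (PrinPart.dPHom f 0 F)).app (op U) (PrinPart.dP f 0 F U t) = t := by
      intro U t
      have := congrArg (fun φ => φ.app (op U) t) (IsIso.hom_inv_id (PrinPart.dPHom f 0 F))
      exact this
    have hlin : ∀ (U : X.Opens) (a : Γ(X, U)) (s : Γ(PrinPart.PMod f 0 F, U)),
        (inv (PrinPart.dPHom f 0 F) ≫ D).app (op U) (a • s) =
          a • (inv (PrinPart.dPHom f 0 F) ≫ D).app (op U) s := by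
      intro U a s
      have e1 : a • s = PrinPart.dP f 0 F U (a • (inv (PrinPart.dPHom f 0 F)).app (op U) s) := by
        rw [Groth.Agent.Lib.helper1.PP.dP_zero_smul, hinv]
      change D.app (op U) ((inv (PrinPart.dPHom f 0 F)).app (op U) (a • s)) =
        a • D.app (op U) ((inv (PrinPart.dPHom f 0 F)).app (op U) s)
      rw [e1, hinv', hD]
    refine ⟨Groth.Agent.Lib.helper1.PP.homOfLinear _ hlin, fun U t => ?_⟩
    rw [Groth.Agent.Lib.helper1.PP.homOfLinear_app]
    change _ = D.app (op U) ((inv (PrinPart.dPHom f 0 F)).app (op U) (PrinPart.dP f 0 F U t))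
    rw [hinv']

end Groth.Agent.S5957
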