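import Groth.Statements.S5965


set_option autoImplicit false
universe u
open CategoryTheory CategoryTheory.Limits AlgebraicGeometry TopologicalSpace Opposite
open Nrm16

namespace Groth.Agent.S5965

/-- Let g : X ⟶ Y be a morphism locally of finite type with a section f : Y ⟶ X which is a closed
immersion. Then for every n the n-th infinitesimal neighbourhood of Y in X, mapped to Y through its
inclusion into X followed by g, is finite over Y. (The published statement allows any section f and
says that the structure sheaf of the neighbourhood is a quasi-coherent O_Y-algebra which is an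
O_Y-module of finite type; this row assumes f a closed immersion and states the conclusion as
finiteness of the morphism to Y.) -/
theorem result {X Y : Scheme.{u}} (g : X ⟶ Y) [LocallyOfFiniteType g] (f : Y ⟶ X)
    [IsClosedImmersion f] (hf : f ≫ g = 𝟙 Y) (n : ℕ) :
    IsFinite (PrinPart.infNbhdι f n ≫ g) := by
  haveI : IsClosedImmersion (PrinPart.infNbhdι f n) := by
    unfold PrinPart.infNbhdι; infer_instance
  have hq : PrinPart.toInfNbhd f n ≫ (PrinPart.infNbhdι f n ≫ g) = 𝟙 Y := by
    rw [PrinPart.toInfNbhd_ι_assoc, hf]
  have hsurj := PrinPart.toInfNbhd_surjective f n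
  haveI : Surjective (PrinPart.toInfNbhd f n) := ⟨hsurj⟩
  haveI : UniversallyClosed (PrinPart.toInfNbhd f n ≫ (PrinPart.infNbhdι f n ≫ g)) := by
    rw [hq]; infer_instance
  haveI : UniversallyClosed (PrinPart.infNbhdι f n ≫ g) :=
    UniversallyClosed.of_comp_surjective (PrinPart.toInfNbhd f n) (PrinPart.infNbhdι f n ≫ g)
  have h1 : ∀ y : Y, (PrinPart.infNbhdι f n ≫ g) (PrinPart.toInfNbhd f n y) = y := by
    intro y
    rw [← Scheme.Hom.comp_apply, hq]; rfl
  have h2 : ∀ z : PrinPart.infNbhd f n,
      PrinPart.toInfNbhd f n ((PrinPart.infNbhdι f n ≫ g) z) = z := by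
    intro z
    obtain ⟨y, rfl⟩ := hsurj z
    rw [h1]
  let e : PrinPart.infNbhd f n ≃ₜ Y :=
    { toFun := fun z => (PrinPart.infNbhdι f n ≫ g) z
      invFun := fun y => PrinPart.toInfNbhd f n y
      left_inv := h2
      right_inv := h1
      continuous_toFun := (PrinPart.infNbhdι f n ≫ g).continuous
      continuous_invFun := (PrinPart.toInfNbhd f n).continuous }
  haveI : IsAffineHom (PrinPart.infNbhdι f n ≫ g) := by
    apply isAffineHom_of_isInducing
    · exact e.isInducing
    · have : Set.range (PrinPart.infNbhdι f n ≫ g) = Set.univ := e.surjective.range_eq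
      rw [this]; exact isClosed_univ
  rw [IsFinite.iff_isIntegralHom_and_locallyOfFiniteType]
  exact ⟨IsIntegralHom.iff_universallyClosed_and_isAffineHom.mpr ⟨inferInstance, inferInstance⟩,
    inferInstance⟩

end Groth.Agent.S5965
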