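import Groth.Statements.S5987
import Mathlib
import Groth.Agent.Lib.helper9.Depth21
import Groth.Agent.Lib.helper9.DepthHom

set_option autoImplicit false
universe u
open EGA418

namespace Groth.Agent.S5987

/-- coset prime avoidance: if `(x) + I ⊄ P` for finitely many primes `P`, some `x + y`, `y ∈ I`,
avoids all of them. -/
theorem coset_avoidance {R : Type u} [CommRing R] (I : Ideal R) (x : R) (s : Finset (Ideal R))
    (hs : ∀ P ∈ s, P.IsPrime) (h : ∀ P ∈ s, ¬ (Ideal.span {x} ⊔ I ≤ P)) :
    ∃ y ∈ I, ∀ P ∈ s, x + y ∉ P := by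
  classical
  have hmax : ∀ P ∈ s, ∃ Q, P ≤ Q ∧ Maximal (· ∈ s) Q := fun P hP => s.exists_le_maximal hP
  let A := s.filter (fun P => Maximal (· ∈ s) P ∧ x ∈ P)
  let B := s.filter (fun P => Maximal (· ∈ s) P ∧ x ∉ P)
  let K : Ideal R := I ⊓ B.inf id
  have hK : ¬ ((K : Set R) ⊆ ⋃ P ∈ (A : Set (Ideal R)), ((id P : Ideal R) : Set R)) := by
    intro hsub
    obtain ⟨P', hP'A, hKP'⟩ := (Ideal.subset_union_prime (f := id) (s := A) ⊥ ⊥
      (fun i hi _ _ => hs i (Finset.mem_filter.mp hi).1)).mp hsub
    obtain ⟨hP's, hP'max, hxP'⟩ := Finset.mem_filter.mp hP'A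
    have hP'prime := hs P' hP's
    have hle : I * ∏ P ∈ B, id P ≤ P' := by
      refine le_trans ?_ hKP'
      refine le_trans Ideal.mul_le_inf ?_
      exact inf_le_inf_left _ Ideal.prod_le_inf
    rcases (hP'prime.mul_le).mp hle with h1 | h2
    · apply h P' hP's
      rw [sup_le_iff, Ideal.span_le, Set.singleton_subset_iff]
      exact ⟨hxP', h1⟩
    · obtain ⟨P, hPB, hPP'⟩ := (hP'prime.prod_le).mp h2
      obtain ⟨hPs, hPmax, hxP⟩ := Finset.mem_filter.mp hPB
      have : P' ≤ P := hPmax.2 hP's hPP'
      exact hxP (this hxP')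
  obtain ⟨y, hyK, hy⟩ := Set.not_subset.mp hK
  refine ⟨y, hyK.1, fun P hP hxy => ?_⟩
  obtain ⟨Q, hPQ, hQmax⟩ := hmax P hP
  have hxyQ : x + y ∈ Q := hPQ hxy
  by_cases hxQ : x ∈ Q
  · apply hy
    have hQA : Q ∈ A := Finset.mem_filter.mpr ⟨hQmax.1, hQmax, hxQ⟩
    refine Set.mem_biUnion (Finset.mem_coe.mpr hQA) ?_
    have : y = (x + y) - x := by ring
    rw [this]
    exact Q.sub_mem hxyQ hxQ
  · apply hxQ
    have hQB : Q ∈ B := Finset.mem_filter.mpr ⟨hQmax.1, hQmax, hxQ⟩
    have hyQ : y ∈ Q := by
      have h1 : B.inf id ≤ id Q := Finset.inf_le hQB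
      exact h1 hyK.2
    have : x = (x + y) - y := by ring
    rw [this]
    exact Q.sub_mem hxyQ hyQ
theorem exists_mul_pow_mem {A : Type u} [CommRing A] {X q : Ideal A} (hq : q ∈ X.minimalPrimes)
    {u : A} (hu : u ∈ q) : ∃ v, v ∉ q ∧ ∃ n : ℕ, v * u ^ n ∈ X := by
  haveI := hq.1.1
  by_contra hcon
  push Not at hcon
  let S : Submonoid A := q.primeCompl ⊔ Submonoid.powers u
  have hdisj : Disjoint (X : Set A) (S : Set A) := by
    rw [Set.disjoint_left]
    intro z hzX hzS
    obtain ⟨v, hv, w, hw, rfl⟩ := Submonoid.mem_sup.mp hzS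
    obtain ⟨n, rfl⟩ := hw
    exact hcon v hv n hzX
  obtain ⟨q', hq'p, hXq', hq'd⟩ := Ideal.exists_le_prime_disjoint X S hdisj
  have hq'q : q' ≤ q := by
    intro z hz
    by_contra hzq
    exact Set.disjoint_left.mp hq'd hz ((le_sup_left : q.primeCompl ≤ S) hzq)
  have hle : q ≤ q' := hq.2 ⟨hq'p, hXq'⟩ hq'q
  exact Set.disjoint_left.mp hq'd (hle hu)
    ((le_sup_right : Submonoid.powers u ≤ S) (Submonoid.mem_powers u))

theorem dim_drop {A : Type u} [CommRing A] (X : Ideal A) (x : A)
    (hx : ∀ q ∈ X.minimalPrimes, x ∉ q) :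
    ringKrullDim (A ⧸ (X ⊔ Ideal.span {x})) + 1 ≤ ringKrullDim (A ⧸ X) := by
  have h1 := Module.supportDim_quotSMulTop_succ_le_of_notMem_minimalPrimes (R := A) (M := A ⧸ X)
    (x := x) (by rw [Ideal.annihilator_quotient]; exact hx)
  rw [Module.supportDim_quotient_eq_ringKrullDim] at h1
  refine le_trans ?_ h1
  gcongr
  rw [← Module.supportDim_quotient_eq_ringKrullDim]
  unfold Module.supportDim
  have : Module.support A (A ⧸ (X ⊔ Ideal.span {x})) =
      Module.support A (QuotSMulTop x (A ⧸ X)) := by
    rw [Module.support_quotSMulTop, Module.support_eq_zeroLocus, Module.support_eq_zeroLocus,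
      Ideal.annihilator_quotient, Ideal.annihilator_quotient, PrimeSpectrum.zeroLocus_sup,
      PrimeSpectrum.zeroLocus_span]
  rw [this]

open LocCoh RingTheory.Sequence in
theorem sop_regular {R : Type u} [CommRing R] [LocCoh.IsCohenMacaulayLocalRing R] (s : ℕ)
    (hs : ringKrullDim R = s) (t : Fin s → R) (ht : ∀ i, t i ∈ IsLocalRing.maximalIdeal R)
    (hsop : ringKrullDim (R ⧸ Ideal.span (Set.range t)) = 0) :
    IsWeaklyRegular R (List.ofFn t) := by
  classical
  have hofl : Ideal.ofList (List.ofFn t) = Ideal.span (Set.range t) := by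
    unfold Ideal.ofList
    congr 1
    ext x
    simp [List.mem_ofFn]
  have hIm : Ideal.span (Set.range t) ≤ IsLocalRing.maximalIdeal R := by
    rw [Ideal.span_le]
    rintro _ ⟨i, rfl⟩
    exact ht i
  have hItop : Ideal.span (Set.range t) ≠ ⊤ := fun h =>
    (IsLocalRing.maximalIdeal.isMaximal R).ne_top (top_le_iff.mp (h ▸ hIm))
  have hCM : IsCohenMacaulayModule R R := IsCohenMacaulayLocalRing.supportDim_eq_depth
  have hform := Groth.Agent.Lib.helper9.Depth.supportDim_eq_add_idealDepth_of_isCohenMacaulayModule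
    (Ideal.span (Set.range t)) hItop R hCM
  have hI2 : (Ideal.span (Set.range t) • (⊤ : Submodule R R)) = Ideal.span (Set.range t) := by
    rw [smul_eq_mul, Ideal.mul_top]
  have h3 : Module.supportDim R (R ⧸ (Ideal.span (Set.range t) • (⊤ : Submodule R R))) =
      ringKrullDim (R ⧸ Ideal.span (Set.range t)) := by
    rw [hI2]
    exact Module.supportDim_quotient_eq_ringKrullDim _
  rw [Module.supportDim_self_eq_ringKrullDim, h3, hs, hsop, zero_add] at hform
  have hmem : ∀ x ∈ List.ofFn t, x ∈ IsLocalRing.maximalIdeal R := fun x hx =>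
    hIm (hofl ▸ Ideal.subset_span hx)
  rw [← Groth.Agent.Lib.helper9.Depth.idealDepth_ofList_eq_length_iff (List.ofFn t) R hmem, hofl,
    List.length_ofFn]
  exact_mod_cast hform.symm

open RingTheory.Sequence in
theorem reg_elem {R : Type u} [CommRing R] {s : ℕ} (t : Fin s → R)
    (hreg : IsWeaklyRegular R (List.ofFn t)) (k : Fin s) (z : R)
    (hz : t k * z ∈ Ideal.span (t '' {j : Fin s | (j : ℕ) < (k : ℕ)})) :
    z ∈ Ideal.span (t '' {j : Fin s | (j : ℕ) < (k : ℕ)}) := by
  have h1 := hreg.regular_mod_prev k (by rw [List.length_ofFn]; exact k.2)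
  have hget : (List.ofFn t)[(k : ℕ)]'(by rw [List.length_ofFn]; exact k.2) = t k := by
    simp
  rw [hget] at h1
  have hofl : Ideal.ofList ((List.ofFn t).take k) =
      Ideal.span (t '' {j : Fin s | (j : ℕ) < (k : ℕ)}) := by
    unfold Ideal.ofList
    congr 1
    ext x
    simp only [Set.mem_setOf_eq, Set.mem_image, List.mem_take_iff_getElem]
    constructor
    · rintro ⟨i, hi, rfl⟩
      have hi2 : i < s := by
        have := lt_of_lt_of_le hi (min_le_right _ _)
        simpa using this
      refine ⟨⟨i, hi2⟩, ?_, by simp⟩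
      exact lt_of_lt_of_le hi (min_le_left _ _)
    · rintro ⟨j, hj, rfl⟩
      refine ⟨j, ?_, by simp⟩
      simp only [List.length_ofFn]
      exact lt_min hj j.2
  have hsm : (Ideal.ofList ((List.ofFn t).take k) • (⊤ : Submodule R R)) =
      Ideal.span (t '' {j : Fin s | (j : ℕ) < (k : ℕ)}) := by
    rw [smul_eq_mul, Ideal.mul_top, hofl]
  have h2 : t k • (Submodule.Quotient.mk z :
      R ⧸ (Ideal.ofList ((List.ofFn t).take k) • (⊤ : Submodule R R))) = t k • 0 := by
    rw [smul_zero, ← Submodule.Quotient.mk_smul, Submodule.Quotient.mk_eq_zero, hsm, smul_eq_mul]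
    exact hz
  have h3 := h1 h2
  rwa [Submodule.Quotient.mk_eq_zero, hsm] at h3

theorem main_ind (A : Type u) [CommRing A] [IsNoetherianRing A] [IsLocalRing A] (p : Ideal A)
    [p.IsPrime] (s : ℕ) (t : Fin s → Localization.AtPrime p)
    (ht : ∀ i, t i ∈ IsLocalRing.maximalIdeal (Localization.AtPrime p))
    (hreg : RingTheory.Sequence.IsWeaklyRegular (Localization.AtPrime p) (List.ofFn t))
    (y a : Fin s → A) (hy : ∀ i, y i ∈ p) (ha : ∀ i, a i ∉ p)
    (hya : ∀ i, algebraMap A (Localization.AtPrime p) (a i) * t i =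
      algebraMap A (Localization.AtPrime p) (y i)) :
    ∀ k ≤ s, ∃ x : Fin s → A, (∀ i, x i ∈ p) ∧
      (∀ i : Fin s, (i : ℕ) < k →
        algebraMap A (Localization.AtPrime p) (x i) -
          algebraMap A (Localization.AtPrime p) (a i) * t i ∈
          Ideal.span (t '' {j : Fin s | (j : ℕ) < (i : ℕ)})) ∧
      ringKrullDim (A ⧸ Ideal.span (x '' {i : Fin s | (i : ℕ) < k})) + (k : WithBot ℕ∞) ≤
        ringKrullDim A := by
  classical
  let φ := algebraMap A (Localization.AtPrime p)
  let T : ℕ → Ideal (Localization.AtPrime p) := fun k =>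
    Ideal.span (t '' {j : Fin s | (j : ℕ) < k})
  have hTmono : ∀ {k l : ℕ}, k ≤ l → T k ≤ T l := fun h =>
    Ideal.span_mono (Set.image_mono (fun j hj => lt_of_lt_of_le hj h))
  have htT : ∀ j : Fin s, t j ∈ T (j + 1) := fun j =>
    Ideal.subset_span ⟨j, Nat.lt_succ_self _, rfl⟩
  have hTm : ∀ k, T k ≤ IsLocalRing.maximalIdeal (Localization.AtPrime p) := fun k =>
    Ideal.span_le.mpr (by rintro _ ⟨j, _, rfl⟩; exact ht j)
  have hunit : ∀ i, IsUnit (φ (a i)) := fun i =>
    IsLocalization.map_units (Localization.AtPrime p) (⟨a i, ha i⟩ : p.primeCompl)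
  intro k
  induction k with
  | zero =>
    intro _
    refine ⟨y, hy, fun i hi => absurd hi (Nat.not_lt_zero _), ?_⟩
    rw [Nat.cast_zero, add_zero]
    exact ringKrullDim_quotient_le _
  | succ k ih =>
    intro hk
    obtain ⟨x, hxp, hxc, hxd⟩ := ih (by omega)
    let kk : Fin s := ⟨k, by omega⟩
    obtain ⟨X, hX⟩ : ∃ X : Ideal A, X = Ideal.span (x '' {i : Fin s | (i : ℕ) < k}) := ⟨_, rfl⟩
    rw [← hX] at hxd
    have hXT : X.map φ ≤ T k := by
      rw [hX, Ideal.map_span, Ideal.span_le]
      rintro _ ⟨_, ⟨i, hi, rfl⟩, rfl⟩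
      have h1 : φ (x i) - φ (a i) * t i ∈ T i := hxc i hi
      have h2 : φ (a i) * t i ∈ T k :=
        Ideal.mul_mem_left _ _ (hTmono (Nat.succ_le_of_lt hi) (htT i))
      have h3 : φ (x i) = (φ (x i) - φ (a i) * t i) + φ (a i) * t i := by ring
      change φ (x i) ∈ T k
      rw [h3]
      exact Ideal.add_mem _ (hTmono (le_of_lt hi) h1) h2
    have hTX : ∀ n : ℕ, ∀ j : Fin s, (j : ℕ) = n → n < k → t j ∈ X.map φ := by
      intro n
      induction n using Nat.strong_induction_on with
      | _ n ihn =>
        intro j hjn hnk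
        have h1 : φ (x j) - φ (a j) * t j ∈ T j := hxc j (by omega)
        have hTj : T j ≤ X.map φ := by
          rw [Ideal.span_le]
          rintro _ ⟨j', hj', rfl⟩
          have hj'' : (j' : ℕ) < (j : ℕ) := hj'
          exact ihn j' (by omega) j' rfl (by omega)
        have h2 : φ (a j) * t j ∈ X.map φ := by
          have h3 : φ (x j) ∈ X.map φ := by
            rw [hX]
            exact Ideal.mem_map_of_mem φ (Ideal.subset_span ⟨j, by
              change (j : ℕ) < k
              omega, rfl⟩)
          have h4 : φ (a j) * t j = φ (x j) - (φ (x j) - φ (a j) * t j) := by ring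
          rw [h4]
          exact Ideal.sub_mem _ h3 (hTj h1)
        exact (Ideal.unit_mul_mem_iff_mem _ (hunit j)).mp h2
    have hTkX : T k ≤ X.map φ := by
      rw [Ideal.span_le]
      rintro _ ⟨j, hj, rfl⟩
      exact hTX j j rfl hj
    let Ik : Ideal A := (T k).comap φ
    have hfin := Ideal.finite_minimalPrimes_of_isNoetherianRing A X
    have hregk : ∀ (n : ℕ) (z : Localization.AtPrime p), (t kk) ^ n * z ∈ T k → z ∈ T k := by
      intro n
      induction n with
      | zero =>
        intro z hz
        simpa using hz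
      | succ n ihn =>
        intro z hz
        apply ihn
        apply reg_elem t hreg kk
        have : t kk * (t kk ^ n * z) = t kk ^ (n + 1) * z := by ring
        rw [this]
        exact hz
    have havoid : ∀ q ∈ hfin.toFinset, ¬ (Ideal.span {y kk} ⊔ Ik ≤ q) := by
      intro q hq hle
      have hqmin := hfin.mem_toFinset.mp hq
      have hyq : y kk ∈ q := hle (Ideal.mem_sup_left (Ideal.subset_span rfl))
      obtain ⟨v, hvq, n, hvn⟩ := exists_mul_pow_mem hqmin hyq
      have h1 : φ (v * y kk ^ n) ∈ T k := hXT (Ideal.mem_map_of_mem φ hvn)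
      rw [map_mul, map_pow] at h1
      have hyk : φ (y kk) = φ (a kk) * t kk := (hya kk).symm
      rw [hyk, mul_pow] at h1
      have h2 : t kk ^ n * (φ (a kk) ^ n * φ v) ∈ T k := by
        have : t kk ^ n * (φ (a kk) ^ n * φ v) = φ v * (φ (a kk) ^ n * t kk ^ n) := by ring
        rw [this]
        exact h1
      have h3 := hregk n _ h2
      have h4 : φ v ∈ T k := (Ideal.unit_mul_mem_iff_mem _ ((hunit kk).pow n)).mp h3
      exact hvq (hle (Ideal.mem_sup_right h4))
    obtain ⟨z, hzI, hz⟩ := coset_avoidance Ik (y kk) hfin.toFinset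
      (fun q hq => (hfin.mem_toFinset.mp hq).1.1) havoid
    have hzp : z ∈ p := by
      have : φ z ∈ IsLocalRing.maximalIdeal (Localization.AtPrime p) := hTm k hzI
      exact (IsLocalization.AtPrime.to_map_mem_maximal_iff _ p z).mp this
    refine ⟨Function.update x kk (y kk + z), ?_, ?_, ?_⟩
    · intro i
      by_cases hi : i = kk
      · subst hi
        rw [Function.update_self]
        exact p.add_mem (hy _) hzp
      · rw [Function.update_of_ne hi]
        exact hxp i
    · intro i hi
      by_cases hik : i = kk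
      · subst hik
        rw [Function.update_self]
        have hyk : φ (y kk) = φ (a kk) * t kk := (hya kk).symm
        have : φ (y kk + z) - φ (a kk) * t kk = φ z := by
          rw [map_add, hyk]
          ring
        change φ (y kk + z) - φ (a kk) * t kk ∈ T k
        rw [this]
        exact hzI
      · rw [Function.update_of_ne hik]
        apply hxc i
        have : (i : ℕ) ≠ k := fun h => hik (Fin.ext h)
        omega
    · have himg : (Function.update x kk (y kk + z)) '' {i : Fin s | (i : ℕ) < k + 1} =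
          insert (y kk + z) (x '' {i : Fin s | (i : ℕ) < k}) := by
        ext w
        constructor
        · rintro ⟨i, hi, rfl⟩
          by_cases hik : i = kk
          · subst hik
            rw [Function.update_self]
            exact Set.mem_insert _ _
          · rw [Function.update_of_ne hik]
            refine Set.mem_insert_of_mem _ ⟨i, ?_, rfl⟩
            have h1 : (i : ℕ) ≠ k := fun h => hik (Fin.ext h)
            have h2 : (i : ℕ) < k + 1 := hi
            change (i : ℕ) < k
            omega
        · rintro (rfl | ⟨i, hi, rfl⟩)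
          · exact ⟨kk, Nat.lt_succ_self k, Function.update_self ..⟩
          · have hik : i ≠ kk := fun h => by
              rw [h] at hi
              have hi' : k < k := hi
              exact lt_irrefl _ hi'
            exact ⟨i, Nat.lt_succ_of_lt hi, Function.update_of_ne hik ..⟩
      rw [himg, Ideal.span_insert, sup_comm, ← hX]
      have hdrop := dim_drop X (y kk + z) (fun q hq => hz q (hfin.mem_toFinset.mpr hq))
      have hcast : ((k + 1 : ℕ) : WithBot ℕ∞) = 1 + (k : WithBot ℕ∞) := by
        push_cast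
        rw [add_comm]
      rw [hcast, ← add_assoc]
      exact (add_le_add_left hdrop _).trans hxd

/-- Let A be a Noetherian local ring and p a prime ideal of A such that the local ring A_p is
Cohen–Macaulay, of dimension s; let t_1, …, t_s be a system of parameters of A_p (elements of its
maximal ideal such that A_p/(t_1, …, t_s) has dimension 0). Then there are elements x_1, …, x_s of p
which form part of a system of parameters of A, in the sense that dim A/(x_1, …, x_s) + s = dim A,
and elements a_1, …, a_s of A outside p, such that for every i the image of x_i in A_p is congruent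
to a_i t_i modulo the ideal (t_1, …, t_{i-1}) A_p. (The published statement asks for the image of
x_i to be congruent to t_i itself; this row allows the factor a_i outside p, which is what the
published proof gives, since it first multiplies each t_i by a unit of A_p to bring it into the
image of A. The published form fails already for s = 1: for A the localization of k[X, Y] at (X, Y),
p = (X) and t_1 = X/Y, the congruence modulo the zero ideal asks for an element of A with image X/Y
in A_p, and there is none.) -/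
theorem result (A : Type u) [CommRing A]
    [IsNoetherianRing A] [IsLocalRing A] (p : Ideal A) [p.IsPrime]
    [LocCoh.IsCohenMacaulayLocalRing (Localization.AtPrime p)] (s : ℕ)
    (hs : ringKrullDim (Localization.AtPrime p) = s) (t : Fin s → Localization.AtPrime p)
    (ht : ∀ i, t i ∈ IsLocalRing.maximalIdeal (Localization.AtPrime p))
    (hsop : ringKrullDim (Localization.AtPrime p ⧸ Ideal.span (Set.range t)) = 0) :
    ∃ x a : Fin s → A, (∀ i, x i ∈ p) ∧ (∀ i, a i ∉ p) ∧
      ringKrullDim (A ⧸ Ideal.span (Set.range x)) + (s : WithBot ℕ∞) = ringKrullDim A ∧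
      ∀ i : Fin s, algebraMap A (Localization.AtPrime p) (x i) -
          algebraMap A (Localization.AtPrime p) (a i) * t i ∈
        Ideal.span (t '' {j : Fin s | j < i}) := by
  classical
  have hrep : ∀ i, ∃ ya : A × A, ya.1 ∈ p ∧ ya.2 ∉ p ∧
      algebraMap A (Localization.AtPrime p) ya.2 * t i =
        algebraMap A (Localization.AtPrime p) ya.1 := by
    intro i
    obtain ⟨⟨y, b⟩, hyb⟩ := IsLocalization.surj p.primeCompl (t i)
    refine ⟨(y, b), ?_, b.2, ?_⟩
    · have : algebraMap A (Localization.AtPrime p) y ∈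
          IsLocalRing.maximalIdeal (Localization.AtPrime p) := by
        rw [← hyb]
        exact Ideal.mul_mem_right _ _ (ht i)
      exact (IsLocalization.AtPrime.to_map_mem_maximal_iff _ p y).mp this
    · rw [mul_comm]
      exact hyb
  choose ya hya1 hya2 hya3 using hrep
  have hreg := sop_regular s hs t ht hsop
  obtain ⟨x, hxp, hxc, hxd⟩ := main_ind A p s t ht hreg (fun i => (ya i).1) (fun i => (ya i).2)
    hya1 hya2 hya3 s le_rfl
  refine ⟨x, fun i => (ya i).2, hxp, hya2, ?_, ?_⟩
  · have huniv : {i : Fin s | (i : ℕ) < s} = Set.univ := by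
      ext i
      simp [i.2]
    rw [huniv, Set.image_univ] at hxd
    apply le_antisymm hxd
    have h1 := ringKrullDim_le_ringKrullDim_quotient_add_encard (Set.range x) (by
      rw [IsLocalRing.ringJacobson_eq_maximalIdeal]
      rintro _ ⟨i, rfl⟩
      exact IsLocalRing.le_maximalIdeal (Ideal.IsPrime.ne_top ‹_›) (hxp i))
    refine h1.trans ?_
    gcongr
    have : (Set.range x).encard ≤ (s : ℕ∞) := by
      rw [← Set.image_univ]
      refine (Set.encard_image_le _ _).trans ?_
      simp [Set.encard_univ]
    exact_mod_cast this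
  · intro i
    exact hxc i i.2

end Groth.Agent.S5987
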