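import Groth.Statements.S6009
import Mathlib
import Groth.Prelude.Def_ChGrp
import Groth.Agent.S18859
import Groth.Agent.S18977
import Groth.Agent.S8718
import Groth.Agent.S16227
-- import your own Groth.Agent.* helpers here

set_option autoImplicit false
universe u
open CategoryTheory AlgebraicGeometry MonoidalCategory CartesianMonoidalCategory MonObj GrpObj
open SGA1

namespace Groth.Agent.S6009

open CategoryTheory CategoryTheory.Limits AlgebraicGeometry

namespace H5S6009

open MonoidalCategory CartesianMonoidalCategory MonObj Groth.Agent.S18859 Groth.Agent.S18977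
  Groth.Agent.S8718 Groth.Agent.S16227

variable {S : Scheme.{u}}

/-- reduction of structure group / quotient section (fpqc version) -/
theorem reduction {G F Q : Over S} [GrpObj G]
    (b : AlgGrp.Action G F)
    (π : F ⟶ Q)
    (hsq : IsPullback b.act (snd G F) π π)
    {E : Over S} (aE : AlgGrp.Action G E) (hE : NonAbH1.IsTorsorFor Scheme.fpqcPrecoverage aE)
    (φ : E ⟶ F) (hφ : AlgGrp.Action.IsEquivariant aE b φ) :
    (∃! σ : 𝟙_ (Over S) ⟶ Q, toUnit E ≫ σ = φ ≫ π) ∧
      ∀ σ : 𝟙_ (Over S) ⟶ Q, toUnit E ≫ σ = φ ≫ π → IsPullback φ (toUnit E) π σ := by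
  obtain ⟨hps, hEloc'⟩ := hE
  haveI : IsIso (lift aE.act (snd G E)) := hps
  -- equivariance on points
  have heq : ∀ {W : Over S} (g : W ⟶ G) (e : W ⟶ E),
      (lift g e ≫ aE.act) ≫ φ = lift g (e ≫ φ) ≫ b.act := by
    intro W g e
    rw [Category.assoc, hφ, lift_whiskerLeft_assoc]
  -- invariance of `π` on points
  have hinvπ : ∀ {W : Over S} (g : W ⟶ G) (f : W ⟶ F),
      (lift g f ≫ b.act) ≫ π = f ≫ π := by
    intro W g f
    rw [Category.assoc, hsq.w, lift_snd_assoc]
  have hφπ : ∀ {W : Over S} (p₁ p₂ : W ⟶ E), p₁ ≫ φ ≫ π = p₂ ≫ φ ≫ π := by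
    intro W p₁ p₂
    have h1 := H5S16227.tr_act aE p₁ p₂
    rw [← h1, ← Category.assoc, heq, hinvπ, Category.assoc]
  refine ⟨?_, ?_⟩
  · exact H5S8718.desc_over (toUnit E) (H5S16227.loc_toUnit E hEloc') (φ ≫ π)
      (fun p₁ p₂ _ => hφπ p₁ p₂)
  · intro σ hσ
    have key : ∀ {W : Over S} (f : W ⟶ F) (t : W ⟶ 𝟙_ (Over S)) (h : f ≫ π = t ≫ σ),
        ∃! e : W ⟶ E, e ≫ φ = f := by
      intro W f t h
      have hcomp : (fst E W ≫ φ) ≫ π = (snd E W ≫ f) ≫ π := by
        rw [Category.assoc, ← hσ, Category.assoc, h, ← Category.assoc, ← Category.assoc]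
        congr 1
        exact toUnit_unique _ _
      obtain ⟨g, hg, hgu⟩ := H5S18977.sq_tr hsq (snd E W ≫ f) (fst E W ≫ φ) hcomp.symm
      let θ : E ⊗ W ⟶ E := lift g (fst E W) ≫ aE.act
      have hθφ : θ ≫ φ = snd E W ≫ f := by
        rw [heq, hg]
      have hθinv : ∀ {W' : Over S} (p₁ p₂ : W' ⟶ E ⊗ W), p₁ ≫ snd E W = p₂ ≫ snd E W →
          p₁ ≫ θ = p₂ ≫ θ := by
        intro W' p₁ p₂ hp
        have hk := H5S16227.tr_act aE (p₁ ≫ fst E W) (p₂ ≫ fst E W)
        set k := H5S16227.tr aE (p₁ ≫ fst E W) (p₂ ≫ fst E W) with hkdef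
        have e1 : lift (p₁ ≫ g) ((p₁ ≫ fst E W) ≫ φ) ≫ b.act = (p₁ ≫ snd E W) ≫ f := by
          have := congrArg (fun q => p₁ ≫ q) hg
          simpa [comp_lift_assoc] using this
        have e2 : lift (p₂ ≫ g) ((p₂ ≫ fst E W) ≫ φ) ≫ b.act = (p₂ ≫ snd E W) ≫ f := by
          have := congrArg (fun q => p₂ ≫ q) hg
          simpa [comp_lift_assoc] using this
        have e3 : lift ((p₁ ≫ g) * k) ((p₂ ≫ fst E W) ≫ φ) ≫ b.act
            = (p₂ ≫ snd E W) ≫ f := by
          rw [AlgGrp.Action.lift_mul_act, ← heq, hk, e1, hp]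
        have hcc : ((p₂ ≫ snd E W) ≫ f) ≫ π = ((p₂ ≫ fst E W) ≫ φ) ≫ π := by
          rw [← e2, hinvπ]
        obtain ⟨g', -, hg'u⟩ := H5S18977.sq_tr hsq ((p₂ ≫ snd E W) ≫ f) ((p₂ ≫ fst E W) ≫ φ) hcc
        have e4 : (p₁ ≫ g) * k = p₂ ≫ g := by
          rw [hg'u _ e3, hg'u _ e2]
        change p₁ ≫ lift g (fst E W) ≫ aE.act = p₂ ≫ lift g (fst E W) ≫ aE.act
        rw [comp_lift_assoc, comp_lift_assoc, ← e4, AlgGrp.Action.lift_mul_act, hk]
      obtain ⟨e, he, heu⟩ := H5S8718.desc_over (snd E W) (H5S16227.loc_snd E W hEloc') θ hθinv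
      have heφ : e ≫ φ = f := by
        apply H5S8718.epi_of_loc (snd E W) (H5S16227.loc_snd E W hEloc')
        rw [← Category.assoc, he, hθφ]
      refine ⟨e, heφ, ?_⟩
      intro e' he'
      have hk := H5S16227.tr_act aE e' e
      set k := H5S16227.tr aE e' e with hkdef
      have e1 : lift k f ≫ b.act = f := by
        have := heq k e
        rw [hk, he', heφ] at this
        exact this.symm
      have e2 : lift (1 : W ⟶ G) f ≫ b.act = f := AlgGrp.Action.lift_one_act _ f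
      obtain ⟨g', -, hg'u⟩ := H5S18977.sq_tr hsq f f rfl
      have hk1 : k = 1 := by rw [hg'u _ e1, hg'u _ e2]
      rw [← hk, hk1, AlgGrp.Action.lift_one_act]
    refine ⟨⟨hσ.symm⟩, ⟨PullbackCone.IsLimit.mk _
      (fun s => (key s.fst s.snd s.condition).choose) ?_ ?_ ?_⟩⟩
    · intro s
      exact (key s.fst s.snd s.condition).choose_spec.1
    · intro s
      exact toUnit_unique _ _
    · intro s m hm1 _
      exact (key s.fst s.snd s.condition).choose_spec.2 m hm1

theorem main {G G' G'' : Over S} [GrpObj G] [GrpObj G'] [GrpObj G'']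
    (u : G' ⟶ G) (v : G ⟶ G'') (hex : NonAbH1.IsExactSeq Scheme.fpqcPrecoverage u v)
    (Q : NonAbH1.TorsorSch G' Scheme.fpqcPrecoverage) :
    NonAbH1.IsPushforwardAlongSch u Q.act (NonAbH1.trivialAction G) ↔
      ∃ (f : 𝟙_ (Over S) ⟶ G'') (i : Q.X ⟶ G), NonAbH1.IsPullbackTorsor u v f i Q.act := by
  obtain ⟨hu, hv, huv, hsq, hloc⟩ := hex
  haveI := hu
  haveI := hv
  let b : AlgGrp.Action G' G := (AlgGrp.Action.invRight G).restrict u
  have hb : ∀ {T : Over S} (g' : T ⟶ G') (x : T ⟶ G), lift g' x ≫ b.act = x * (g' ≫ u)⁻¹ := by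
    intro T g' x
    rw [AlgGrp.Action.lift_restrict_act, AlgGrp.Action.lift_invRight_act]
  have hw : b.act ≫ v = snd G' G ≫ v := by
    apply AlgGrp.Action.hom_ext_lift₂
    intro T g' x
    rw [← Category.assoc, hb, MonObj.mul_comp, GrpObj.inv_comp, Category.assoc, huv, MonObj.comp_one,
      inv_one, _root_.mul_one, lift_snd_assoc]
  have hsq' : IsPullback b.act (snd G' G) v v := by
    apply H5S18977.sq_of_tr hw
    intro W x₁ x₂ e
    obtain ⟨g, hg, hgu⟩ := H5S8718.kerTr u v hsq x₁ x₂ e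
    refine ⟨g, ?_, ?_⟩
    · change lift g x₂ ≫ b.act = x₁
      rw [hb, ← hg, mul_inv_cancel_right]
    · intro g' hg'
      apply hgu
      change lift g' x₂ ≫ b.act = x₁ at hg'
      rw [hb] at hg'
      rw [← hg', inv_mul_cancel_right]
  constructor
  · rintro ⟨f₀, hf₀⟩
    have hf₀' : ∀ {T : Over S} (g' : T ⟶ G') (p : T ⟶ Q.X),
        lift g' p ≫ Q.act.act ≫ f₀ = (g' ≫ u) * (p ≫ f₀) := by
      intro T g' p
      rw [hf₀, comp_lift_assoc, lift_fst_assoc, lift_snd_assoc]
      change lift (g' ≫ u) (p ≫ f₀) ≫ μ[G] = _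
      rw [← Hom.mul_def]
    have hi : ∀ (T : Over S) (g' : T ⟶ G') (p : T ⟶ Q.X),
        lift g' p ≫ Q.act.act ≫ f₀⁻¹ = (p ≫ f₀⁻¹) * (g' ≫ u)⁻¹ := by
      intro T g' p
      rw [← Category.assoc, GrpObj.comp_inv, Category.assoc, hf₀', GrpObj.comp_inv, _root_.mul_inv_rev]
    have hφ : AlgGrp.Action.IsEquivariant Q.act b f₀⁻¹ := by
      apply AlgGrp.Action.hom_ext_lift₂
      intro T g' p
      rw [hi, lift_whiskerLeft_assoc, hb]
    obtain ⟨⟨σ, hσ, -⟩, hpb⟩ := reduction b v hsq' Q.act Q.isTorsor f₀⁻¹ hφ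
    exact ⟨σ, f₀⁻¹, hu, hv, hpb σ hσ, hi⟩
  · rintro ⟨f, i, -, -, -, hi⟩
    refine ⟨i⁻¹, ?_⟩
    apply AlgGrp.Action.hom_ext_lift₂
    intro T g' p
    rw [← Category.assoc, GrpObj.comp_inv, Category.assoc, hi, comp_lift_assoc, lift_fst_assoc,
      lift_snd_assoc]
    change _ = lift (g' ≫ u) (p ≫ i⁻¹) ≫ μ[G]
    rw [← Hom.mul_def, GrpObj.comp_inv, _root_.mul_inv_rev, _root_.inv_inv]

end H5S6009

/-- Exactness of the cohomology sequence at H^1(S, G'): let u : G' → G and v : G → G'' be homomorphisms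
of affine commutative S-groups forming a sequence 1 → G' → G → G'' → 1 which is exact for the fpqc
topology, and let Q be a principal homogeneous bundle under G' (fpqc torsor). Then the bundle
deduced from Q by extension of the structure group along u is trivial, in the sense that Q admits a
u-equivariant S-morphism to G acting on itself by left translation, if and only if Q is the boundary
of some section f of G'' over S: there is a morphism i : Q → G making Q the inverse image of f under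
v, with G' acting through right translation by inverses. -/
theorem result {S : Scheme.{u}}
    {G G' G'' : Over S} [GrpObj G] [GrpObj G'] [GrpObj G'']
    [IsCommMonObj G] [IsCommMonObj G'] [IsCommMonObj G'']
    [IsAffineHom G.hom] [IsAffineHom G'.hom] [IsAffineHom G''.hom]
    (u : G' ⟶ G) (v : G ⟶ G'') (hex : NonAbH1.IsExactSeq Scheme.fpqcPrecoverage u v)
    (Q : NonAbH1.TorsorSch G' Scheme.fpqcPrecoverage) :
    NonAbH1.IsPushforwardAlongSch u Q.act (NonAbH1.trivialAction G) ↔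
      ∃ (f : 𝟙_ (Over S) ⟶ G'') (i : Q.X ⟶ G), NonAbH1.IsPullbackTorsor u v f i Q.act := by
  exact H5S6009.main u v hex Q

end Groth.Agent.S6009
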