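import Groth.Statements.S6011
import Mathlib
-- import your own Groth.Agent.* helpers here

set_option autoImplicit false
universe u
open CategoryTheory AlgebraicGeometry
open SGA1

namespace Groth.Agent.S6011

open CategoryTheory AlgebraicGeometry

namespace H5S6011

open MonoidalCategory CartesianMonoidalCategory MonObj GrpObj

variable {S : Scheme.{u}} (G X : Over S) [GrpObj G] (a : AlgGrp.Action G X)

theorem dirA (e : NonAbH1.EquivIso (NonAbH1.trivialAction G) a) :
    NonAbH1.IsPseudoTorsorSch a ∧ NonAbH1.HasSectionOver X (𝟙 S) := by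
  have hcomm : μ[G] ≫ e.iso.hom = (G ◁ e.iso.hom) ≫ a.act := e.comm
  constructor
  · have hG : IsIso (lift μ[G] (snd G G)) := NonAbH1.isPseudoTorsorSch_trivialAction G
    have heq : lift a.act (snd G X) =
        (G ◁ e.iso.inv) ≫ lift μ[G] (snd G G) ≫ (e.iso.hom ⊗ₘ e.iso.hom) := by
      apply CartesianMonoidalCategory.hom_ext
      · simp only [lift_fst, Category.assoc, tensorHom_fst, lift_fst_assoc]
        rw [hcomm, ← Category.assoc, ← MonoidalCategory.whiskerLeft_comp, Iso.inv_hom_id,
          MonoidalCategory.whiskerLeft_id, Category.id_comp]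
      · simp only [lift_snd, Category.assoc, tensorHom_snd, lift_snd_assoc, whiskerLeft_snd_assoc,
          Iso.inv_hom_id, Category.comp_id]
    change IsIso (lift a.act (snd G X))
    rw [heq]
    infer_instance
  · refine ⟨(η[G] ≫ e.iso.hom).left, ?_⟩
    exact Over.w (η[G] ≫ e.iso.hom)


theorem dirB (hΨ : NonAbH1.IsPseudoTorsorSch a) (hs : NonAbH1.HasSectionOver X (𝟙 S)) :
    Nonempty (NonAbH1.EquivIso (NonAbH1.trivialAction G) a) := by
  obtain ⟨s, hs⟩ := hs
  let x : 𝟙_ (Over S) ⟶ X := Over.homMk s hs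
  haveI : IsIso (lift a.act (snd G X)) := hΨ
  let Ψ := lift a.act (snd G X)
  let w : G ⟶ G ⊗ X := lift (𝟙 G) (toUnit G ≫ x)
  let o : G ⟶ X := w ≫ a.act
  let c : X ⟶ X ⊗ X := lift (𝟙 X) (toUnit X ≫ x)
  let v : X ⟶ G ⊗ X := c ≫ inv Ψ
  have hvΨ : v ≫ Ψ = c := by simp [v]
  have hv1 : v ≫ a.act = 𝟙 X := by
    have := congrArg (fun f => f ≫ fst X X) hvΨ
    simpa [Ψ, c] using this
  have hv2 : v ≫ snd G X = toUnit X ≫ x := by
    have := congrArg (fun f => f ≫ snd X X) hvΨ
    simpa [Ψ, c] using this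
  have hwΨ : w ≫ Ψ = o ≫ c := by
    apply CartesianMonoidalCategory.hom_ext
    · simp [Ψ, c, o]
    · simp only [Ψ, c, w, o, Category.assoc, lift_snd]
      rw [show lift (𝟙 G) (toUnit G ≫ x) ≫ a.act ≫ toUnit X ≫ x =
        (lift (𝟙 G) (toUnit G ≫ x) ≫ a.act ≫ toUnit X) ≫ x by simp only [Category.assoc]]
      congr 1
      exact (toUnit_unique _ _)
  have h1 : o ≫ (v ≫ fst G X) = 𝟙 G := by
    have : o ≫ v = w := by
      simp only [v]
      rw [← Category.assoc, ← hwΨ, Category.assoc, IsIso.hom_inv_id, Category.comp_id]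
    rw [← Category.assoc, this]
    simp [w]
  have h2 : (v ≫ fst G X) ≫ o = 𝟙 X := by
    have : (v ≫ fst G X) ≫ w = v := by
      apply CartesianMonoidalCategory.hom_ext
      · simp [w]
      · simp only [w, Category.assoc, lift_snd]
        rw [hv2, ← Category.assoc, ← Category.assoc]
        congr 1
        exact (toUnit_unique _ _)
    simp only [o]
    rw [← Category.assoc, this, hv1]
  have hequiv : μ[G] ≫ o = (G ◁ o) ≫ a.act := by
    have hmul : (G ◁ a.act) ≫ a.act = (α_ G G X).inv ≫ (μ[G] ▷ X) ≫ a.act := by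
      rw [a.mul_act, Iso.inv_hom_id_assoc]
    have hkey : (G ◁ w) ≫ (α_ G G X).inv ≫ (μ[G] ▷ X) = μ[G] ≫ w := by
      apply CartesianMonoidalCategory.hom_ext
      · have hid : (G ◁ w) ≫ (α_ G G X).inv ≫ fst (G ⊗ G) X = 𝟙 (G ⊗ G) := by
          apply CartesianMonoidalCategory.hom_ext
          · simp [w]
          · simp [w]
        simp only [Category.assoc, whiskerRight_fst]
        have hw1 : w ≫ fst G X = 𝟙 G := by simp [w]
        rw [hw1, Category.comp_id, reassoc_of% hid]
      · simp only [w, Category.assoc, whiskerRight_snd, associator_inv_snd, whiskerLeft_snd_assoc,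
          lift_snd]
        rw [← Category.assoc, ← Category.assoc]
        congr 1
        exact (toUnit_unique _ _)
    simp only [o]
    rw [MonoidalCategory.whiskerLeft_comp, Category.assoc, hmul, ← Category.assoc (G ◁ w),
      ← Category.assoc ((G ◁ w) ≫ _), Category.assoc (G ◁ w), hkey, Category.assoc]
  exact ⟨{ iso := ⟨o, v ≫ fst G X, h1, h2⟩, comm := hequiv }⟩

theorem main : Nonempty (NonAbH1.EquivIso (NonAbH1.trivialAction G) a) ↔
    (NonAbH1.IsPseudoTorsorSch a ∧ NonAbH1.HasSectionOver X (𝟙 S)) :=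
  ⟨fun ⟨e⟩ => dirA G X a e, fun h => dirB G X a h.1 h.2⟩

end H5S6011

/-- An S-scheme X with an action of the S-group G is trivial — equivariantly isomorphic over S to G
acting on itself by translation — if and only if it is formally principal homogeneous (a
pseudo-torsor) and admits a section over S. -/
theorem result {S : Scheme.{u}}
    (G X : Over S) [GrpObj G] (a : AlgGrp.Action G X) :
    Nonempty (NonAbH1.EquivIso (NonAbH1.trivialAction G) a) ↔
      (NonAbH1.IsPseudoTorsorSch a ∧ NonAbH1.HasSectionOver X (𝟙 S)) := by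
  exact H5S6011.main G X a

end Groth.Agent.S6011
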