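import Groth.Statements.S6012
import Groth.Agent.Lib.helper9.FibClv

set_option autoImplicit false
set_option backward.isDefEq.respectTransparency false
open CategoryTheory
universe v₁ v₂ u₁ u₂
open FibCat FibCat.Cleavage

namespace Groth.Agent.S6012

/-- Let `K` be a cleavage of an arbitrary functor `p : 𝒳 ⥤ 𝒮` (one chosen cartesian lift of every base
morphism at every object over its target; `p` is not assumed fibred). Then `p` is a fibred category
(composites of cartesian morphisms are cartesian) if and only if, for all composable base morphisms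
`g : R ⟶ T` and `f : T ⟶ S`, the comparison natural transformation `c_{f,g}` from `g^* f^*` to
`(fg)^*` determined by `K` is an isomorphism. -/
theorem result (𝒮 : Type u₁) (𝒳 : Type u₂) [Category.{v₁} 𝒮] [Category.{v₂} 𝒳] (p : 𝒳 ⥤ 𝒮) (K : FibCat.Cleavage p) :
    p.IsFibered ↔ ∀ (R S T : 𝒮) (f : T ⟶ S) (g : R ⟶ T), IsIso (K.comp f g) := by
  constructor
  · intro h R S T f g
    exact Groth.Agent.H9FibClv.isIso_comp_of_isFibered K f g
  · intro hiso
    have hpre : p.IsPreFibered := K.isPreFibered
    refine { toIsPreFibered := hpre, comp := ?_ }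
    intro R S T f g a b c φ ψ hφ hψ
    have hc : p.obj c = T := IsHomLift.codomain_eq p g ψ
    let θ : b ≅ K.obj hc g := Functor.IsCartesian.domainUniqueUpToIso p g (K.lift hc g) ψ
    have hθ : θ.hom ≫ K.lift hc g = ψ := Functor.IsCartesian.fac p g (K.lift hc g) ψ
    have hθl : p.IsHomLift (𝟙 S) θ.hom := inferInstance
    have hφθ : p.IsCartesian f (φ ≫ θ.hom) := Functor.IsCartesian.of_comp_iso p f φ θ
    have hb' : p.obj (K.obj hc g) = S := K.obj_proj hc g
    let η : a ≅ K.obj hb' f :=
      Functor.IsCartesian.domainUniqueUpToIso p f (K.lift hb' f) (φ ≫ θ.hom)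
    have hη : η.hom ≫ K.lift hb' f = φ ≫ θ.hom :=
      Functor.IsCartesian.fac p f (K.lift hb' f) (φ ≫ θ.hom)
    have hηl : p.IsHomLift (𝟙 R) η.hom := inferInstance
    let cF : p.Fiber T := ⟨c, hc⟩
    have hζiso : IsIso ((K.comp g f).app cF) := by
      have := hiso R T S g f
      infer_instance
    let ζ : K.obj hb' f ≅ K.obj hc (f ≫ g) :=
      Functor.Fiber.fiberInclusion.mapIso (asIso ((K.comp g f).app cF))
    have hζ : ζ.hom ≫ K.lift hc (f ≫ g) = K.lift hb' f ≫ K.lift hc g :=
      Groth.Agent.H9FibClv.comp_app_lift K g f cF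
    have hζl : p.IsHomLift (𝟙 R) ζ.hom := by
      change p.IsHomLift (𝟙 R) (Functor.Fiber.fiberInclusion.map ((K.comp g f).app cF))
      infer_instance
    have hl : p.IsHomLift (𝟙 R) (η ≪≫ ζ).hom := by
      change p.IsHomLift (𝟙 R) (η.hom ≫ ζ.hom)
      infer_instance
    have heq : φ ≫ ψ = (η ≪≫ ζ).hom ≫ K.lift hc (f ≫ g) := by
      rw [Iso.trans_hom, Category.assoc, hζ, ← Category.assoc, hη, Category.assoc, hθ]
    rw [heq]
    exact Functor.IsCartesian.of_iso_comp p (f ≫ g) (K.lift hc (f ≫ g)) (η ≪≫ ζ)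

end Groth.Agent.S6012
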