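import Groth.Statements.S6013
import Groth.Agent.Lib.helper9.FibClv

set_option autoImplicit false
set_option backward.isDefEq.respectTransparency false
open CategoryTheory
universe v₁ v₂ u₁ u₂
open FibCat FibCat.Cleavage

namespace Groth.Agent.S6013

/-- Let `p : 𝒳 ⥤ 𝒮` be a fibred category with a cleavage `K`, and let `f : T ⟶ S` be an isomorphism of
the base. Then the inverse-image functor `f^*` of `K`, from the fibre over `S` to the fibre over
`T`, is an equivalence of categories. -/
theorem result (𝒮 : Type u₁) (𝒳 : Type u₂) [Category.{v₁} 𝒮] [Category.{v₂} 𝒳] (p : 𝒳 ⥤ 𝒮) [p.IsFibered] (K : FibCat.Cleavage p)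
    (S T : 𝒮) (f : T ⟶ S) [IsIso f] : (K.inverseImage f).IsEquivalence := by
  have hliso : ∀ a : p.Fiber S, IsIso (K.lift a.2 f) := by
    intro a
    have : p.IsStronglyCartesian f (K.lift a.2 f) := inferInstance
    exact Functor.IsStronglyCartesian.isIso_of_base_isIso p f (K.lift a.2 f)
  have hfaithful : (K.inverseImage f).Faithful := by
    constructor
    intro a a' φ φ' h
    apply Functor.Fiber.hom_ext
    have h1 := Groth.Agent.H9FibClv.inverseImage_map_lift K f φ
    have h2 := Groth.Agent.H9FibClv.inverseImage_map_lift K f φ'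
    rw [h] at h1
    have h3 : K.lift a.2 f ≫ Functor.Fiber.fiberInclusion.map φ =
        K.lift a.2 f ≫ Functor.Fiber.fiberInclusion.map φ' := h1.symm.trans h2
    have := hliso a
    exact (cancel_epi (K.lift a.2 f)).mp h3
  have hfull : (K.inverseImage f).Full := by
    constructor
    intro a a' χ
    have hia := hliso a
    let φ0 : a.1 ⟶ a'.1 := inv (K.lift a.2 f) ≫ Functor.Fiber.fiberInclusion.map χ ≫ K.lift a'.2 f
    have hl0 : p.IsHomLift (inv f ≫ 𝟙 T ≫ f) φ0 := by
      have h1 : p.IsHomLift (inv f) (inv (K.lift a.2 f)) := inferInstance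
      have h2 : p.IsHomLift (𝟙 T) (Functor.Fiber.fiberInclusion.map χ) := inferInstance
      have h3 : p.IsHomLift f (K.lift a'.2 f) := inferInstance
      infer_instance
    have hl : p.IsHomLift (𝟙 S) φ0 := by
      have : inv f ≫ 𝟙 T ≫ f = 𝟙 S := by simp
      rw [← this]
      exact hl0
    refine ⟨Functor.Fiber.homMk p S φ0, ?_⟩
    apply Functor.Fiber.hom_ext
    have h1 : p.IsHomLift (𝟙 T) (Functor.Fiber.fiberInclusion.map
      ((K.inverseImage f).map (Functor.Fiber.homMk p S φ0))) := inferInstance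
    have h2 : p.IsHomLift (𝟙 T) (Functor.Fiber.fiberInclusion.map χ) := inferInstance
    apply Functor.IsCartesian.ext p f (K.lift a'.2 f)
    rw [Groth.Agent.H9FibClv.inverseImage_map_lift, Functor.Fiber.fiberInclusion_homMk]
    simp only [φ0, IsIso.hom_inv_id_assoc]
  have hess : (K.inverseImage f).EssSurj := by
    constructor
    intro b
    refine ⟨(K.inverseImage (inv f)).obj b, ⟨?_⟩⟩
    have hc := Groth.Agent.H9FibClv.isIso_comp_of_isFibered K (inv f) f
    let e1 : (K.inverseImage f).obj ((K.inverseImage (inv f)).obj b) ≅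
        (K.inverseImage (f ≫ inv f)).obj b := asIso ((K.comp (inv f) f).app b)
    let e2 : (K.inverseImage (f ≫ inv f)).obj b ≅ (K.inverseImage (𝟙 T)).obj b :=
      (K.inverseImageCongr (IsIso.hom_inv_id f)).app b
    have h3 : IsIso (K.lift b.2 (𝟙 T)) := by
      have : p.IsStronglyCartesian (𝟙 T) (K.lift b.2 (𝟙 T)) := inferInstance
      exact Functor.IsStronglyCartesian.isIso_of_base_isIso p (𝟙 T) (K.lift b.2 (𝟙 T))
    have h3l : p.IsHomLift (𝟙 T) (K.lift b.2 (𝟙 T)) := inferInstance
    let m : (K.inverseImage (𝟙 T)).obj b ⟶ b := Functor.Fiber.homMk p T (K.lift b.2 (𝟙 T))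
    have hm : IsIso m := Groth.Agent.H9FibClv.isIso_fiber_of_isIso m h3
    exact e1 ≪≫ e2 ≪≫ asIso m
  exact { faithful := hfaithful, full := hfull, essSurj := hess }

end Groth.Agent.S6013
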