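import Groth.Statements.S6019
import Mathlib

set_option autoImplicit false
open CategoryTheory
universe v₁ v₂ u₁ u₂
open FibCat FibCat.Cleavage

namespace Groth.Agent.S6019

section aux

variable {𝒮 : Type u₁} {𝒳 : Type u₂} [Category.{v₁} 𝒮] [Category.{v₂} 𝒳] (p : 𝒳 ⥤ 𝒮) [p.IsPreFibered]

open Classical in
/-- the chosen object: `a` itself over an identity, Mathlib's choice otherwise -/
noncomputable def nObj {R S : 𝒮} {a : 𝒳} (ha : p.obj a = S) (f : R ⟶ S) : 𝒳 :=
  if _ : ∃ h : R = S, f = eqToHom h then a else Functor.IsPreFibered.pullbackObj ha f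

theorem nObj_pos {R S : 𝒮} {a : 𝒳} (ha : p.obj a = S) (f : R ⟶ S)
    (h : ∃ h : R = S, f = eqToHom h) : nObj p ha f = a := by
  unfold nObj; rw [dif_pos h]

theorem nObj_neg {R S : 𝒮} {a : 𝒳} (ha : p.obj a = S) (f : R ⟶ S)
    (h : ¬ ∃ h : R = S, f = eqToHom h) : nObj p ha f = Functor.IsPreFibered.pullbackObj ha f := by
  unfold nObj; rw [dif_neg h]

open Classical in
/-- the chosen lift -/
noncomputable def nLift {R S : 𝒮} {a : 𝒳} (ha : p.obj a = S) (f : R ⟶ S) : nObj p ha f ⟶ a :=
  if h : ∃ h : R = S, f = eqToHom h then eqToHom (nObj_pos p ha f h)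
  else eqToHom (nObj_neg p ha f h) ≫ Functor.IsPreFibered.pullbackMap ha f

theorem nLift_isCartesian {R S : 𝒮} {a : 𝒳} (ha : p.obj a = S) (f : R ⟶ S) :
    p.IsCartesian f (nLift p ha f) := by
  by_cases h : ∃ h : R = S, f = eqToHom h
  · unfold nLift
    rw [dif_pos h]
    obtain ⟨h1, h2⟩ := h
    subst h1
    subst ha
    simp only [eqToHom_refl] at h2
    subst h2
    have hlift : p.IsHomLift (𝟙 (p.obj a)) (eqToHom (nObj_pos p rfl (𝟙 (p.obj a)) ⟨rfl, by simp⟩)) := by
      have := IsHomLift.eqToHom_domain_lift_id (p := p)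
        (nObj_pos p rfl (𝟙 (p.obj a)) ⟨rfl, by simp⟩) (R := p.obj a)
        (by rw [nObj_pos p rfl (𝟙 (p.obj a)) ⟨rfl, by simp⟩])
      exact this
    have : IsIso (eqToHom (nObj_pos p rfl (𝟙 (p.obj a)) ⟨rfl, by simp⟩)) := inferInstance
    have hs : p.IsStronglyCartesian (𝟙 (p.obj a))
        (eqToHom (nObj_pos p rfl (𝟙 (p.obj a)) ⟨rfl, by simp⟩)) :=
      Functor.IsStronglyCartesian.of_isIso p _ _
    infer_instance
  · unfold nLift
    rw [dif_neg h]
    have hR : p.obj (Functor.IsPreFibered.pullbackObj ha f) = R :=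
      Functor.IsPreFibered.pullbackObj_proj ha f
    have hlift : p.IsHomLift (𝟙 R) (eqToIso (nObj_neg p ha f h)).hom := by
      have := IsHomLift.eqToHom_codomain_lift_id (p := p) (nObj_neg p ha f h) hR
      exact this
    exact Functor.IsCartesian.of_iso_comp p f (Functor.IsPreFibered.pullbackMap ha f)
      (eqToIso (nObj_neg p ha f h))

end aux

/-- A pre-fibred category admits a normalised cleavage: if every base morphism `R ⟶ p(a)` has a
cartesian morphism over it with target `a`, then one cartesian lift can be chosen for every base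
morphism at every object over its target in such a way that the chosen lift of each identity `𝟙 S`
at each object `a` over `S` is the identity of `a` (identities are transport morphisms). -/
theorem result (𝒮 : Type u₁) (𝒳 : Type u₂) [Category.{v₁} 𝒮] [Category.{v₂} 𝒳]
    (p : 𝒳 ⥤ 𝒮) [p.IsPreFibered] : ∃ K : FibCat.Cleavage p, K.IsNormalised := by
  refine ⟨⟨fun ha f => nObj p ha f, fun ha f => nLift p ha f, fun ha f => nLift_isCartesian p ha f⟩, ?_⟩
  intro S a ha
  have h : ∃ h : S = S, (𝟙 S : S ⟶ S) = eqToHom h := ⟨rfl, by simp⟩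
  refine ⟨nObj_pos p ha (𝟙 S) h, ?_⟩
  show nLift p ha (𝟙 S) = _
  unfold nLift
  rw [dif_pos h]

end Groth.Agent.S6019
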