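import Groth.Statements.S6024
import Groth.Agent.Lib.helper18.SectSuppFlasque

set_option autoImplicit false
universe u
open CategoryTheory CategoryTheory.Limits TopologicalSpace
open LocCohZ

namespace Groth.Agent.S6024

/-- Consider a topological space X carrying a sheaf of abelian groups F, and assume that H^1_Z(X, F)
vanishes for each closed subset Z of X (writing Z = X − U with U open). Under this assumption, F is
flasque. -/
theorem result {X : TopCat.{u}} (F : CohTop.Ab X)
    (h : ∀ U : Opens X, Subsingleton (LocCohZ.HZc F 1 U)) : TopCat.Sheaf.IsFlasque F := by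
  have key : ∀ (U : Opens X) (s : F.obj.obj (Opposite.op U)),
      ∃ t : F.obj.obj (Opposite.op (⊤ : Opens X)), (F.obj.map (homOfLE (le_top : U ≤ ⊤)).op).hom t = s := by
    intro U s
    have hS := LocCohZ.zqSeq_shortExact (le_top : U ≤ ⊤)
    let σ := CohFree.ofSect (Opens.grothendieckTopology X) U F s
    have h0 : hS.extClass.comp (Abelian.Ext.mk₀ σ) (show 1 + 0 = 1 from rfl) = 0 :=
      @Subsingleton.elim _ (h U) _ _
    obtain ⟨x₂, hx₂⟩ := Abelian.Ext.contravariant_sequence_exact₁ hS F (Abelian.Ext.mk₀ σ) rfl h0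
    obtain ⟨σ₂, rfl⟩ := (Abelian.Ext.mk₀_bijective _ _).2 x₂
    rw [Abelian.Ext.mk₀_comp_mk₀] at hx₂
    have hσ := (Abelian.Ext.mk₀_bijective _ _).1 hx₂
    refine ⟨CohFree.evalGen (Opens.grothendieckTopology X) ⊤ F σ₂, ?_⟩
    have e := Groth.Agent.H18.SectSupp.map_evalGen (le_top : U ≤ ⊤) σ₂
    rw [e]
    have : Groth.Agent.H18.Flasque.ιZ (le_top : U ≤ ⊤) ≫ σ₂ = σ := hσ
    rw [this]
    exact CohFree.evalGen_ofSect _ _ _ _
  refine ⟨fun {V W} i => ?_⟩
  rw [AddCommGrpCat.epi_iff_surjective]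
  intro s
  obtain ⟨t, ht⟩ := key W.unop s
  have hle : W.unop ≤ V.unop := leOfHom i.unop
  refine ⟨(F.obj.map (homOfLE (le_top : V.unop ≤ ⊤)).op).hom t, ?_⟩
  have := Groth.Agent.H18.SectSupp.map_map_apply (F := F) hle (le_top : V.unop ≤ ⊤) t
  exact this.trans ht

end Groth.Agent.S6024
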