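import Groth.Statements.S6029
import Groth.Agent.Lib.helper18.LocCohSS

set_option autoImplicit false
universe u
open CategoryTheory CategoryTheory.Limits TopologicalSpace
open LocCohZ

namespace Groth.Agent.S6029

/-- For a closed subset Z = X − U of a topological space X and an abelian sheaf F on X: there is an E₂
spectral sequence of abelian groups with E₂^{p,q} ≅ H^p(X, ℋ^q_Z(F)) for p, q ≥ 0 (and 0 otherwise),
bounded, abutting with finite filtrations to H^n_Z(X, F) (n ≥ 0; 0 for n < 0). (Existence only: the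
E₂ identifications and the abutment isomorphisms are some isomorphisms, not the canonical maps of a
construction, so edge maps and low-degree exact sequences are not part of this statement.) -/
theorem result {X : TopCat.{u}} (F : CohTop.Ab X) (U : Opens X) :
    ∃ (E : E₂CohomologicalSpectralSequence AddCommGrpCat.{u})
      (a : SpSeq.Abutment E (fun n : ℤ =>
        if 0 ≤ n then AddCommGrpCat.of (LocCohZ.HZc F n.toNat U) else AddCommGrpCat.of PUnit.{u + 1})),
      (∀ n : ℤ, a.IsFinite n) ∧ SpSeq.IsBounded E ∧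
      ∀ p q : ℤ, Nonempty ((E.page 2 le_rfl).X (p, q) ≅
        (if 0 ≤ p ∧ 0 ≤ q then AddCommGrpCat.of (CohTop.HU ((LocCohZ.HZsh U q.toNat).obj F) p.toNat ⊤)
          else AddCommGrpCat.of PUnit.{u + 1})) := by
  have hT : ∀ Q : CohTop.Ab X, Injective Q → ∀ q : ℕ, 0 < q →
      IsZero (((Groth.Agent.H18.ExtDer.hF (CohCx.freeSheaf (Opens.grothendieckTopology X) (⊤ : Opens X))).rightDerived q).obj
        ((LocCohZ.sectSuppF U).obj Q)) := by
    intro Q hQ q hq
    have : TopCat.Sheaf.IsFlasque Q := Groth.Agent.H18.Flasque.isFlasque_of_injective Q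
    have : TopCat.Sheaf.IsFlasque ((LocCohZ.sectSuppF U).obj Q) :=
      Groth.Agent.H18.SectSupp.isFlasque_sectSuppF U Q
    exact Groth.Agent.H18.LocCohSS.isZero_rightDerived_hF_freeSheaf ⊤ _ q hq
  refine Groth.Agent.H18.SSWrap.ss_wrap (LocCohZ.sectSuppF U)
    (Groth.Agent.H18.ExtDer.hF (CohCx.freeSheaf (Opens.grothendieckTopology X) (⊤ : Opens X))) F hT
    (AddCommGrpCat.of PUnit.{u + 1}) (AddCommGrpCat.isZero_of_subsingleton _)
    (fun n => AddCommGrpCat.of (LocCohZ.HZc F n U))
    (fun p q => AddCommGrpCat.of (CohTop.HU ((LocCohZ.HZsh U q).obj F) p ⊤)) ?_ ?_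
  · intro n
    refine ⟨?_ ≪≫ ((Groth.Agent.H18.ExtDer.rightDerivedIsoOfIso
      (Groth.Agent.H18.SectSupp.homNatIso U (le_top : U ≤ ⊤) (Groth.Agent.H18.OpenRestr.LR_top U)) n).app F).symm⟩
    exact ((Groth.Agent.H18.ExtDer.natIso (LocCohZ.zq (le_top : U ≤ ⊤)) n).app F).symm
  · intro p q
    exact ⟨((Groth.Agent.H18.ExtDer.natIso (CohCx.freeSheaf (Opens.grothendieckTopology X) (⊤ : Opens X)) p).app
      ((LocCohZ.HZsh U q).obj F)).symm⟩

end Groth.Agent.S6029
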