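import Groth.Statements.S6037
import Groth.Agent.Lib.helper18.LocCohPush

set_option autoImplicit false
universe u
open CategoryTheory CategoryTheory.Limits TopologicalSpace
open LocCohZ

namespace Groth.Agent.S6037

/-- Let f : X → Y be a continuous map of topological spaces, Y' a closed subset of Y with open
complement V, X' = f⁻¹(Y') and F an abelian sheaf on X. There is an E₂ spectral sequence of abelian
groups with E₂^{p,q} ≅ H^p_{Y'}(Y, R^q f_* F) for p, q ≥ 0 (0 otherwise), bounded, abutting with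
finite filtrations to H^n_{X'}(X, F). (The published statement is for a morphism of ringed spaces
and records module structures over the global sections of O_Y; here only abelian groups. Existence
only: the E₂ identifications and abutment isomorphisms are some isomorphisms, not the canonical
ones.) -/
theorem result {X Y : TopCat.{u}} (f : X ⟶ Y)
    (V : Opens Y) (F : CohTop.Ab X) :
    ∃ (E : E₂CohomologicalSpectralSequence AddCommGrpCat.{u})
      (a : SpSeq.Abutment E (fun n : ℤ =>
        if 0 ≤ n then AddCommGrpCat.of (LocCohZ.HZc F n.toNat ((Opens.map f).obj V))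
          else AddCommGrpCat.of PUnit.{u + 1})),
      (∀ n : ℤ, a.IsFinite n) ∧ SpSeq.IsBounded E ∧
      ∀ p q : ℤ, Nonempty ((E.page 2 le_rfl).X (p, q) ≅
        (if 0 ≤ p ∧ 0 ≤ q then AddCommGrpCat.of (LocCohZ.HZc ((CohTop.Rpush f q.toNat).obj F) p.toNat V)
          else AddCommGrpCat.of PUnit.{u + 1})) := by
  have hT : ∀ Q : CohTop.Ab X, Injective Q → ∀ q : ℕ, 0 < q →
      IsZero (((Groth.Agent.H18.ExtDer.hF (LocCohZ.zq (le_top : V ≤ ⊤))).rightDerived q).obj
        ((CohTop.push f).obj Q)) := by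
    intro Q hQ q hq
    have : TopCat.Sheaf.IsFlasque Q := Groth.Agent.H18.Flasque.isFlasque_of_injective Q
    have : TopCat.Sheaf.IsFlasque ((CohTop.push f).obj Q) :=
      TopCat.Sheaf.IsFlasque.pushforward_isFlasque Q f
    obtain ⟨q', rfl⟩ : ∃ q', q = q' + 1 := ⟨q - 1, by omega⟩
    refine IsZero.of_iso ?_ ((Groth.Agent.H18.ExtDer.natIso (LocCohZ.zq (le_top : V ≤ ⊤)) (q' + 1)).app _)
    have hs : Subsingleton (Abelian.Ext.{u} (LocCohZ.zq (le_top : V ≤ ⊤)) ((CohTop.push f).obj Q) (q' + 1)) :=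
      ⟨fun x y => (Groth.Agent.H18.Flasque.ext_zq_eq_zero _ _ q' x).trans
        (Groth.Agent.H18.Flasque.ext_zq_eq_zero _ _ q' y).symm⟩
    exact @AddCommGrpCat.isZero_of_subsingleton
      ((Abelian.extFunctorObj (LocCohZ.zq (le_top : V ≤ ⊤)) (q' + 1)).obj ((CohTop.push f).obj Q)) hs
  refine Groth.Agent.H18.SSWrap.ss_wrap (CohTop.push f)
    (Groth.Agent.H18.ExtDer.hF (LocCohZ.zq (le_top : V ≤ ⊤))) F hT
    (AddCommGrpCat.of PUnit.{u + 1}) (AddCommGrpCat.isZero_of_subsingleton _)
    (fun n => AddCommGrpCat.of (LocCohZ.HZc F n ((Opens.map f).obj V)))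
    (fun p q => AddCommGrpCat.of (LocCohZ.HZc ((CohTop.Rpush f q).obj F) p V)) ?_ ?_
  · intro n
    refine ⟨?_ ≪≫ ((Groth.Agent.H18.ExtDer.rightDerivedIsoOfIso
      (Groth.Agent.H18.LocCohSS.pushZqNatIso f V) n).app F).symm⟩
    exact ((Groth.Agent.H18.ExtDer.natIso (LocCohZ.zq (le_top : (Opens.map f).obj V ≤ ⊤)) n).app F).symm
  · intro p q
    exact ⟨((Groth.Agent.H18.ExtDer.natIso (LocCohZ.zq (le_top : V ≤ ⊤)) p).app
      ((CohTop.Rpush f q).obj F)).symm⟩

end Groth.Agent.S6037
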