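import Groth.Statements.S6040
import Groth.Agent.Lib.helper18.NatRows
import Groth.Agent.Lib.helper18.CohTopBaseRestr
open Groth.Agent.H18

set_option autoImplicit false
universe u
open CategoryTheory CategoryTheory.Limits TopologicalSpace
open LocCohZ

namespace Groth.Agent.S6040

/-- Let X be a topological space, U an open subset and j : U → X the inclusion, so that the sheaf of
sections with supports in the open U is Γ_U(F) = j_*(F|_U). For every q the local cohomology sheaf
functor ℋ^q_U, i.e. the q-th right derived functor of F ↦ j_*(F|_U), is isomorphic to F ↦ R^q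
j_*(F|_U). (Existence of an isomorphism of functors for each q.) -/
theorem result {X : TopCat.{u}} (U : Opens X) (q : ℕ) :
    Nonempty (CohCx.RpushOn (𝟙 X) U q ≅ CohTop.restrFunctor U ⋙ CohTop.Rpush (CohCx.incl U) q) := by
  have h1 : (CohTop.push (CohCx.incl U ≫ 𝟙 X)).Additive := CohTopBaseRestr.additive_push _
  have h2 : PreservesFiniteLimits (CohTop.push (CohCx.incl U ≫ 𝟙 X)) :=
    CohTopBaseRestr.preservesFiniteLimits_push _
  have e := RDPlus.rightDerivedCompIso (CohTop.restrFunctor U) (CohTop.push (CohCx.incl U ≫ 𝟙 X))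
    (fun I hI i hi => by
      have : TopCat.Sheaf.IsFlasque I := Flasque.isFlasque_of_injective I
      obtain ⟨i', rfl⟩ : ∃ i', i = i' + 1 := ⟨i - 1, by omega⟩
      exact Flasque.isZero_Rpush_of_isFlasque (CohCx.incl U ≫ 𝟙 X) _ i') q
  exact ⟨e⟩

end Groth.Agent.S6040
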