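import Groth.Statements.S6041
import Mathlib
import Groth.Agent.Lib.helper15.AlgSpQuotSh
import Groth.Agent.Lib.helper15.AlgSpMono

set_option autoImplicit false
open CategoryTheory CategoryTheory.Limits AlgebraicGeometry MonoidalCategory
universe u
open GrpQ

namespace Groth.Agent.S6041

open Groth.Agent.Lib.H15.Quot Groth.Agent.Lib.H15.AS in
/-- The statement on the `yon` side. -/
theorem main {S : Scheme.{u}} {R U : Over S} (s t : R ⟶ U) (T Z : Over S) (a : Z ⟶ U) (p : Z ⟶ T)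
    [Flat p.left] [Surjective p.left] [LocallyOfFinitePresentation p.left]
    (hZZ : ∀ (T' : Over S) (z₁ z₂ : T' ⟶ Z), z₁ ≫ p = z₂ ≫ p →
      ∃ r : T' ⟶ R, r ≫ s = z₁ ≫ a ∧ r ≫ t = z₂ ≫ a) :
    ∃! σ : (AlgSp.yon S).obj T ⟶ QuotSh.quot Scheme.fppfPrecoverage s t,
      (AlgSp.yon S).map a ≫ qp s t = (AlgSp.yon S).map p ≫ σ := by
  have hls := isLocallySurjective_of_repWith_fppf ((AlgSp.yon S).map p)
    ((AlgSp.repWith_yon_map_iff @Flat p).2 inferInstance)
    ((AlgSp.repWith_yon_map_iff @LocallyOfFinitePresentation p).2 inferInstance)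
    ((AlgSp.repWith_yon_map_iff @Surjective p).2 inferInstance)
  have hepi : Epi ((AlgSp.yon S).map p) := inferInstance
  have heff : EffectiveEpi ((AlgSp.yon S).map p) := by
    have := IsRegularEpiCategory.regularEpiOfEpi ((AlgSp.yon S).map p)
    rw [← isRegularEpi_iff_effectiveEpi]
    exact this
  have hcond : ∀ {W : AlgSp.Sp S} (g₁ g₂ : W ⟶ (AlgSp.yon S).obj Z),
      g₁ ≫ (AlgSp.yon S).map p = g₂ ≫ (AlgSp.yon S).map p →
      g₁ ≫ (AlgSp.yon S).map a ≫ qp s t = g₂ ≫ (AlgSp.yon S).map a ≫ qp s t := by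
    intro W g₁ g₂ h
    refine GrothendieckTopology.hom_ext_uliftYoneda.{u+1} (AlgSp.J S) fun T' x => ?_
    obtain ⟨z₁, hz₁⟩ := (AlgSp.yon S).map_surjective (x ≫ g₁)
    obtain ⟨z₂, hz₂⟩ := (AlgSp.yon S).map_surjective (x ≫ g₂)
    have hz : z₁ ≫ p = z₂ ≫ p := by
      apply (AlgSp.yon S).map_injective
      rw [Functor.map_comp, Functor.map_comp, hz₁, hz₂, Category.assoc, Category.assoc, h]
    obtain ⟨r, hr₁, hr₂⟩ := hZZ T' z₁ z₂ hz
    change x ≫ g₁ ≫ _ = x ≫ g₂ ≫ _
    rw [← Category.assoc, ← hz₁, ← Category.assoc, ← Functor.map_comp, ← hr₁, Functor.map_comp,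
      Category.assoc, qp_cond, ← Category.assoc, ← Functor.map_comp, hr₂, Functor.map_comp,
      hz₂, Category.assoc, Category.assoc]
  refine ⟨EffectiveEpi.desc ((AlgSp.yon S).map p) _ hcond, ?_, ?_⟩
  · exact (EffectiveEpi.fac ((AlgSp.yon S).map p) _ hcond).symm
  · intro σ hσ
    rw [← cancel_epi ((AlgSp.yon S).map p), ← hσ]
    exact (EffectiveEpi.fac ((AlgSp.yon S).map p) _ hcond).symm


open CartesianMonoidalCategory in
/-- For schemes and the fppf topology, easy direction: let `s, t : R ⇉ U` be a pair of morphisms of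
schemes over `S` (in the source an equivalence relation), `T` a scheme over `S` and `i : Z ⟶ U ×_S
T` such that `Z ⟶ T` is flat, surjective and locally of finite presentation and any two points of
`Z` over the same point of `T` have `R`-related images in `U`. Then the composite `h_Z ⟶ h_U ⟶ U/R`
descends to exactly one section of the fppf quotient sheaf `U/R` over `T`. -/
theorem result {S : Scheme.{u}} {R U : Over S} (s t : R ⟶ U)
    (T Z : Over S) (i : Z ⟶ U ⊗ T)
    [Flat (i ≫ snd U T).left] [Surjective (i ≫ snd U T).left] [LocallyOfFinitePresentation (i ≫ snd U T).left]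
    (hZZ : ∀ (T' : Over S) (z₁ z₂ : T' ⟶ Z), z₁ ≫ i ≫ snd U T = z₂ ≫ i ≫ snd U T →
      ∃ r : T' ⟶ R, r ≫ s = z₁ ≫ i ≫ fst U T ∧ r ≫ t = z₂ ≫ i ≫ fst U T) :
    ∃! σ : QuotSh.rep Scheme.fppfPrecoverage T ⟶ QuotSh.quot Scheme.fppfPrecoverage s t,
      QuotSh.repMap Scheme.fppfPrecoverage (i ≫ fst U T) ≫ QuotSh.quotπ Scheme.fppfPrecoverage s t =
        QuotSh.repMap Scheme.fppfPrecoverage (i ≫ snd U T) ≫ σ := by
  have key : ∀ {V W : Over S} (g : V ⟶ W),
      (QuotSh.repIsoUliftYoneda Scheme.fppfPrecoverage V).hom ≫ (AlgSp.yon S).map g =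
        QuotSh.repMap Scheme.fppfPrecoverage g ≫
          (QuotSh.repIsoUliftYoneda Scheme.fppfPrecoverage W).hom := by
    intro V W g
    rw [← Iso.comp_inv_eq, Category.assoc, Groth.Agent.Lib.H15.Quot.yon_map_repIso_inv,
      Iso.hom_inv_id_assoc]
  have key2 : ∀ {V W : Over S} (g : V ⟶ W),
      QuotSh.repMap Scheme.fppfPrecoverage g =
        (QuotSh.repIsoUliftYoneda Scheme.fppfPrecoverage V).hom ≫ (AlgSp.yon S).map g ≫
          (QuotSh.repIsoUliftYoneda Scheme.fppfPrecoverage W).inv := by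
    intro V W g
    rw [← Category.assoc, key, Category.assoc, Iso.hom_inv_id, Category.comp_id]
  obtain ⟨σ', hσ', huniq⟩ := main s t T Z (i ≫ fst U T) (i ≫ snd U T) hZZ
  refine ⟨(QuotSh.repIsoUliftYoneda Scheme.fppfPrecoverage T).hom ≫ σ', ?_, ?_⟩
  · show _ = _
    rw [key2 (i ≫ fst U T), key2 (i ≫ snd U T)]
    simp only [Category.assoc, Iso.inv_hom_id_assoc]
    have := hσ'
    unfold Groth.Agent.Lib.H15.Quot.qp at this
    rw [this]
  · intro σ₂ hσ₂
    have h2 : (QuotSh.repIsoUliftYoneda Scheme.fppfPrecoverage T).inv ≫ σ₂ = σ' := by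
      apply huniq
      unfold Groth.Agent.Lib.H15.Quot.qp
      rw [key2 (i ≫ fst U T), key2 (i ≫ snd U T)] at hσ₂
      simp only [Category.assoc] at hσ₂
      exact (cancel_epi _).1 hσ₂
    rw [← h2, Iso.hom_inv_id_assoc]

end Groth.Agent.S6041
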