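import Groth.Statements.S6044
import Mathlib
import Groth.Agent.S11731
-- import your own Groth.Agent.* helpers here

set_option autoImplicit false
open CategoryTheory CategoryTheory.Limits AlgebraicGeometry
universe u
open GrpQ

namespace Groth.Agent.S6044


section H5opts
set_option backward.isDefEq.respectTransparency false
set_option backward.isDefEq.respectTransparency.types false
open CategoryTheory CategoryTheory.Limits AlgebraicGeometry

namespace H5S6044
open Desc

variable {S : Scheme.{u}} {ι : Type u} {X : ι → Scheme.{u}} {f : ∀ i, X i ⟶ S}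

lemma ker_le (D : SchDDFam f) (hD : ∀ i, IsClosedImmersion (D.obj i).hom)
    {A : Scheme.{u}} {i j : ι} (pr : A ⟶ X i) (pr' : A ⟶ X j) (w : pr ≫ f i = pr' ≫ f j) :
    ((D.obj j).hom.ker).comap pr' ≤ ((D.obj i).hom.ker).comap pr := by
  haveI := hD i
  haveI := hD j
  rw [← Scheme.IdealSheafData.ker_fst_of_isClosedImmersion (D.obj i).hom pr,
    ← Scheme.IdealSheafData.ker_fst_of_isClosedImmersion (D.obj j).hom pr']
  let c₁ := pullback.fst pr (D.obj i).hom
  let x₀ := c₁ ≫ pr
  let x₁ := c₁ ≫ pr'
  have hx : x₀ ≫ f i = x₁ ≫ f j := by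
    rw [Category.assoc, Category.assoc, w]
  let v : Lifts (D.obj i) x₀ := ⟨pullback.snd pr (D.obj i).hom, pullback.condition.symm⟩
  let ww := D.φ x₀ x₁ hx v
  have hww : ww.1 ≫ (D.obj j).hom = c₁ ≫ pr' := ww.2
  let t : pullback pr (D.obj i).hom ⟶ pullback pr' (D.obj j).hom :=
    pullback.lift c₁ ww.1 hww.symm
  have ht : t ≫ pullback.fst pr' (D.obj j).hom = c₁ := pullback.lift_fst _ _ _
  have := Scheme.Hom.le_ker_comp t (pullback.fst pr' (D.obj j).hom)
  rw [ht] at this
  exact this

theorem main (hf : Presieve.ofArrows X f ∈ Scheme.fpqcPrecoverage S)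
    (D : Desc.SchDDFam f) (hD : ∀ i, IsClosedImmersion (D.obj i).hom) :
    D.IsEffective := by
  obtain ⟨J, hJ, -⟩ := Groth.Agent.S11731.H5S11731.main f (fun i => (D.obj i).hom.ker)
    (fun i j => le_antisymm
      (ker_le D hD (pullback.snd (f i) (f j)) (pullback.fst (f i) (f j)) pullback.condition.symm)
      (ker_le D hD (pullback.fst (f i) (f j)) (pullback.snd (f i) (f j)) pullback.condition)) hf
  let U : Over S := Over.mk J.subschemeι
  have hker : ∀ i, (pullback.fst (f i) J.subschemeι).ker = (D.obj i).hom.ker := by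
    intro i
    rw [Scheme.IdealSheafData.ker_fst_of_isClosedImmersion, Scheme.IdealSheafData.ker_subschemeι]
    exact hJ i
  let e : ∀ i, (canonicalDDFam f U).obj i ≅ D.obj i := fun i =>
    haveI := hD i
    haveI : IsIso (IsClosedImmersion.lift (D.obj i).hom (pullback.fst (f i) J.subschemeι)
        (hker i).ge) :=
      IsClosedImmersion.isIso_lift (D.obj i).hom (pullback.fst (f i) J.subschemeι) (hker i).symm
    Over.isoMk (asIso (IsClosedImmersion.lift (D.obj i).hom (pullback.fst (f i) J.subschemeι)
        (hker i).ge)) (IsClosedImmersion.lift_fac _ _ _)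
  let a : canonicalDDFam f U ⟶ D :=
    ⟨fun i => (e i).hom, fun T i j x₀ x₁ h v w hw => by
      haveI := hD j
      rw [← cancel_mono (D.obj j).hom, (D.φ x₀ x₁ h w).2, Category.assoc, Over.w (e j).hom]
      exact (((canonicalDDFam f U).φ x₀ x₁ h v).2).symm⟩
  let b : D ⟶ canonicalDDFam f U :=
    ⟨fun i => (e i).inv, fun T i j x₀ x₁ h v w hw => by
      haveI : Mono ((canonicalDDFam f U).obj j).hom :=
        inferInstanceAs (Mono (pullback.fst (f j) J.subschemeι))
      rw [← cancel_mono ((canonicalDDFam f U).obj j).hom, ((canonicalDDFam f U).φ x₀ x₁ h w).2,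
        Category.assoc, Over.w (e j).inv]
      exact ((D.φ x₀ x₁ h v).2).symm⟩
  refine ⟨U, ⟨⟨a, b, ?_, ?_⟩⟩⟩
  · apply SchDDFam.hom_ext
    funext i
    exact (e i).hom_inv_id
  · apply SchDDFam.hom_ext
    funext i
    exact (e i).inv_hom_id

end H5S6044
end H5opts

/-- Closed immersions descend along the fpqc topology. For an fpqc covering family `f i : X i ⟶ S` of a
scheme `S`, every descent datum for schemes relative to the family all of whose members `Z i ⟶ X i`
are closed immersions is effective. -/
theorem result {S : Scheme.{u}} {ι : Type u} {X : ι → Scheme.{u}}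
    (f : ∀ i, X i ⟶ S) (hf : Presieve.ofArrows X f ∈ Scheme.fpqcPrecoverage S)
    (D : Desc.SchDDFam f) (hD : ∀ i, IsClosedImmersion (D.obj i).hom) :
    D.IsEffective := by
  exact H5S6044.main hf D hD

end Groth.Agent.S6044
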