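import Groth.Statements.S9839
import Mathlib
-- import your own Groth.Agent.* helpers here

set_option autoImplicit false
open CategoryTheory CategoryTheory.Limits AlgebraicGeometry Opposite
universe u
open Desc

namespace Groth.Agent.S9839

open CategoryTheory CategoryTheory.Limits AlgebraicGeometry Opposite

namespace H5S9839

/-- the continuous map to `Prop` attached to an open -/
def chi {T : Scheme.{u}} (V : T.Opens) : C(T, Prop) :=
  ⟨fun p => p ∈ V, continuous_Prop.2 V.2⟩

/-- the open attached to a continuous map to `Prop` -/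
def opn {T : Scheme.{u}} (t : C(T, Prop)) : T.Opens :=
  ⟨{p | t p}, continuous_Prop.1 t.continuous⟩

lemma opn_chi {T : Scheme.{u}} (V : T.Opens) : opn (chi V) = V := rfl

lemma chi_opn {T : Scheme.{u}} (t : C(T, Prop)) : chi (opn t) = t := rfl

lemma map_chi {T T' : Scheme.{u}} (f : T' ⟶ T) (V : T.Opens) :
    (continuousMapPresheaf.{0, u} Prop).map f.op (chi V) = chi (f ⁻¹ᵁ V) := rfl

theorem main {ι : Type u} {T : Scheme.{u}} {Ti : ι → Scheme.{u}}
    (f : ∀ i, Ti i ⟶ T) (hf : Presieve.ofArrows Ti f ∈ Scheme.fpqcPrecoverage T)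
    (W : ∀ i, (Ti i).Opens)
    (hW : ∀ i j, (pullback.fst (f i) (f j)) ⁻¹ᵁ (W i) = (pullback.snd (f i) (f j)) ⁻¹ᵁ (W j)) :
    ∃! V : T.Opens, ∀ i, (f i) ⁻¹ᵁ V = W i := by
  have hsh : Presieve.IsSheaf Scheme.fpqcTopology (continuousMapPresheaf.{0, u} Prop) := by
    rw [← isSheaf_iff_isSheaf_of_type]
    exact isSheaf_fpqcTopology_continuousMapPresheaf Prop
  have h1 : Presieve.IsSheafFor (continuousMapPresheaf.{0, u} Prop) (Presieve.ofArrows Ti f) := by
    rw [Presieve.isSheafFor_iff_generate]
    exact hsh _ (Precoverage.generate_mem_toGrothendieck hf)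
  rw [Presieve.isSheafFor_arrows_iff_pullbacks] at h1
  obtain ⟨t, ht, htu⟩ := h1 (fun i => chi (W i)) (by
    intro i j
    rw [map_chi, map_chi, hW])
  refine ⟨opn t, ?_, ?_⟩
  · intro i
    have := ht i
    rw [← chi_opn t, map_chi] at this
    have h2 := congrArg opn this
    rwa [opn_chi, opn_chi] at h2
  · intro V' hV'
    have : chi V' = t := by
      apply htu
      intro i
      rw [map_chi, hV']
    rw [← this, opn_chi]

end H5S9839

/-- Let f i : T i ⟶ T be an fpqc covering family of a scheme T (a family in the fpqc precoverage) and W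
i ⊆ T i open subsets such that for all i, j the inverse images of W i and W j under the two
projections of T i ×_T T j coincide. Then there is a unique open subset W ⊆ T with (f i)⁻¹(W) = W i
for every i. -/
theorem result {ι : Type u} {T : Scheme.{u}} {Ti : ι → Scheme.{u}}
    (f : ∀ i, Ti i ⟶ T) (hf : Presieve.ofArrows Ti f ∈ Scheme.fpqcPrecoverage T)
    (W : ∀ i, (Ti i).Opens)
    (hW : ∀ i j, (pullback.fst (f i) (f j)) ⁻¹ᵁ (W i) = (pullback.snd (f i) (f j)) ⁻¹ᵁ (W j)) :
    ∃! V : T.Opens, ∀ i, (f i) ⁻¹ᵁ V = W i := by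
  exact H5S9839.main f hf W hW

end Groth.Agent.S9839
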