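import Groth.Statements.S6045
import Mathlib
import Groth.Agent.S9839
-- import your own Groth.Agent.* helpers here

set_option autoImplicit false
open CategoryTheory CategoryTheory.Limits AlgebraicGeometry
universe u
open GrpQ

namespace Groth.Agent.S6045


section H5opts
set_option backward.isDefEq.respectTransparency false
set_option backward.isDefEq.respectTransparency.types false
open CategoryTheory CategoryTheory.Limits AlgebraicGeometry

namespace H5S6045
open Desc

variable {S : Scheme.{u}} {ι : Type u} {X : ι → Scheme.{u}} {f : ∀ i, X i ⟶ S}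

lemma range_le (D : SchDDFam f) (hD : ∀ i, IsOpenImmersion (D.obj i).hom)
    {T : Scheme.{u}} {i j : ι} (x₀ : T ⟶ X i) (x₁ : T ⟶ X j) (h : x₀ ≫ f i = x₁ ≫ f j)
    (h₀ : Set.range x₀ ⊆ Set.range (D.obj i).hom) :
    Set.range x₁ ⊆ Set.range (D.obj j).hom := by
  haveI := hD i
  let v : Lifts (D.obj i) x₀ :=
    ⟨IsOpenImmersion.lift (D.obj i).hom x₀ h₀, IsOpenImmersion.lift_fac _ _ _⟩
  let w := D.φ x₀ x₁ h v
  rintro _ ⟨t, rfl⟩
  have : x₁ = w.1 ≫ (D.obj j).hom := w.2.symm
  rw [this, Scheme.Hom.comp_apply]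
  exact ⟨_, rfl⟩

theorem main (hf : Presieve.ofArrows X f ∈ Scheme.fpqcPrecoverage S)
    (D : Desc.SchDDFam f) (hD : ∀ i, IsOpenImmersion (D.obj i).hom) :
    D.IsEffective := by
  let W : ∀ i, (X i).Opens := fun i => haveI := hD i; (D.obj i).hom.opensRange
  have hWr : ∀ i, ((W i : (X i).Opens) : Set (X i)) = Set.range (D.obj i).hom := fun i => rfl
  have hle : ∀ i j, (pullback.fst (f i) (f j)) ⁻¹ᵁ (W i) ≤ (pullback.snd (f i) (f j)) ⁻¹ᵁ (W j) := by
    intro i j z hz
    let T : (pullback (f i) (f j)).Opens := (pullback.fst (f i) (f j)) ⁻¹ᵁ (W i)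
    have := range_le D hD (T.ι ≫ pullback.fst (f i) (f j)) (T.ι ≫ pullback.snd (f i) (f j))
      (by rw [Category.assoc, Category.assoc, pullback.condition]) (by
        rintro _ ⟨t, rfl⟩
        rw [← hWr]
        exact t.2)
    have h2 := this ⟨⟨z, hz⟩, rfl⟩
    rw [← hWr] at h2
    exact h2
  have hge : ∀ i j, (pullback.snd (f i) (f j)) ⁻¹ᵁ (W j) ≤ (pullback.fst (f i) (f j)) ⁻¹ᵁ (W i) := by
    intro i j z hz
    let T : (pullback (f i) (f j)).Opens := (pullback.snd (f i) (f j)) ⁻¹ᵁ (W j)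
    have := range_le D hD (T.ι ≫ pullback.snd (f i) (f j)) (T.ι ≫ pullback.fst (f i) (f j))
      (by rw [Category.assoc, Category.assoc, pullback.condition]) (by
        rintro _ ⟨t, rfl⟩
        rw [← hWr]
        exact t.2)
    have h2 := this ⟨⟨z, hz⟩, rfl⟩
    rw [← hWr] at h2
    exact h2
  obtain ⟨V, hV, -⟩ := Groth.Agent.S9839.H5S9839.main f hf W
    (fun i j => le_antisymm (hle i j) (hge i j))
  let U : Over S := Over.mk V.ι
  have hrange : ∀ i, Set.range (pullback.fst (f i) V.ι) = Set.range (D.obj i).hom := by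
    intro i
    rw [Scheme.Pullback.range_fst, Scheme.Opens.range_ι, ← hWr, ← hV i]
    rfl
  let e : ∀ i, (canonicalDDFam f U).obj i ≅ D.obj i := fun i =>
    haveI := hD i
    Over.isoMk (IsOpenImmersion.isoOfRangeEq (pullback.fst (f i) V.ι) (D.obj i).hom (hrange i))
      (IsOpenImmersion.isoOfRangeEq_hom_fac _ _ _)
  let a : canonicalDDFam f U ⟶ D :=
    ⟨fun i => (e i).hom, fun T i j x₀ x₁ h v w hw => by
      haveI := hD j
      rw [← cancel_mono (D.obj j).hom, (D.φ x₀ x₁ h w).2, Category.assoc, Over.w (e j).hom]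
      exact (((canonicalDDFam f U).φ x₀ x₁ h v).2).symm⟩
  let b : D ⟶ canonicalDDFam f U :=
    ⟨fun i => (e i).inv, fun T i j x₀ x₁ h v w hw => by
      haveI : Mono ((canonicalDDFam f U).obj j).hom :=
        inferInstanceAs (Mono (pullback.fst (f j) V.ι))
      rw [← cancel_mono ((canonicalDDFam f U).obj j).hom, ((canonicalDDFam f U).φ x₀ x₁ h w).2,
        Category.assoc, Over.w (e j).inv]
      exact ((D.φ x₀ x₁ h v).2).symm⟩
  refine ⟨U, ⟨⟨a, b, ?_, ?_⟩⟩⟩
  · apply SchDDFam.hom_ext
    funext i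
    exact (e i).hom_inv_id
  · apply SchDDFam.hom_ext
    funext i
    exact (e i).inv_hom_id

end H5S6045
end H5opts

/-- Open immersions descend along the fpqc topology. For an fpqc covering family `f i : X i ⟶ S` of a
scheme `S`, every descent datum for schemes relative to the family all of whose members `Z i ⟶ X i`
are open immersions is effective. -/
theorem result {S : Scheme.{u}} {ι : Type u} {X : ι → Scheme.{u}}
    (f : ∀ i, X i ⟶ S) (hf : Presieve.ofArrows X f ∈ Scheme.fpqcPrecoverage S)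
    (D : Desc.SchDDFam f) (hD : ∀ i, IsOpenImmersion (D.obj i).hom) :
    D.IsEffective := by
  exact H5S6045.main hf D hD

end Groth.Agent.S6045
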