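import Groth.Statements.S6120
import Mathlib

set_option autoImplicit false
open CategoryTheory CategoryTheory.Limits Opposite
universe w v₁ v₂ u₁ u₂
open SGA4

namespace Groth.Agent.S6120

section aux

variable {I : Type u₁} [Category.{v₁} I] {C : Type u₂} [Category.{v₂} C] {A : Type w} (i : A → I)
    [∀ α β, HasBinaryProduct (i α) (i β)]
    (F : Iᵒᵖ ⥤ C)
    [HasProduct (fun α => F.obj (op (i α)))]
    [HasProduct (fun p : A × A => F.obj (op (i p.1 ⨯ i p.2)))]

/-- first of the two parallel maps -/
noncomputable abbrev mapA : (∏ᶜ (fun α => F.obj (op (i α)))) ⟶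
    ∏ᶜ (fun p : A × A => F.obj (op (i p.1 ⨯ i p.2))) :=
  Pi.lift (fun p : A × A =>
    Pi.π (fun α => F.obj (op (i α))) p.1 ≫ F.map (prod.fst : i p.1 ⨯ i p.2 ⟶ i p.1).op)

/-- second of the two parallel maps -/
noncomputable abbrev mapB : (∏ᶜ (fun α => F.obj (op (i α)))) ⟶
    ∏ᶜ (fun p : A × A => F.obj (op (i p.1 ⨯ i p.2))) :=
  Pi.lift (fun p : A × A =>
    Pi.π (fun α => F.obj (op (i α))) p.2 ≫ F.map (prod.snd : i p.1 ⨯ i p.2 ⟶ i p.2).op)

variable {i F}

theorem indep {T : C} (t : T ⟶ ∏ᶜ (fun α => F.obj (op (i α))))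
    (ht : t ≫ mapA i F = t ≫ mapB i F) {j : I} (α β : A) (u : j ⟶ i α) (v : j ⟶ i β) :
    t ≫ Pi.π (fun α => F.obj (op (i α))) α ≫ F.map u.op =
      t ≫ Pi.π (fun α => F.obj (op (i α))) β ≫ F.map v.op := by
  have hu : u = prod.lift u v ≫ prod.fst := (prod.lift_fst u v).symm
  have hv : v = prod.lift u v ≫ prod.snd := (prod.lift_snd u v).symm
  have h1 : F.map u.op = F.map (prod.fst : i α ⨯ i β ⟶ i α).op ≫ F.map (prod.lift u v).op := by
    rw [← F.map_comp, ← op_comp, ← hu]
  have h2 : F.map v.op = F.map (prod.snd : i α ⨯ i β ⟶ i β).op ≫ F.map (prod.lift u v).op := by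
    rw [← F.map_comp, ← op_comp, ← hv]
  have h3 := congrArg (fun m => m ≫ Pi.π (fun p : A × A => F.obj (op (i p.1 ⨯ i p.2))) (α, β)) ht
  simp only [Category.assoc, Pi.lift_π] at h3
  have h3' := congrArg (fun m => m ≫ F.map (prod.lift u v).op) h3
  rw [h1, h2]
  simpa only [Category.assoc] using h3'

variable (hcov : ∀ j : I, ∃ α, Nonempty (j ⟶ i α))

/-- the cone over `F` built from an equalizing map -/
noncomputable abbrev coneOf {T : C} (t : T ⟶ ∏ᶜ (fun α => F.obj (op (i α))))
    (ht : t ≫ mapA i F = t ≫ mapB i F) : Cone F where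
  pt := T
  π :=
    { app := fun j => t ≫ Pi.π (fun α => F.obj (op (i α))) (hcov j.unop).choose ≫
        F.map ((hcov j.unop).choose_spec.some).op
      naturality := by
        intro j k f
        simp only [Functor.const_obj_obj, Functor.const_obj_map, Category.id_comp, Category.assoc]
        rw [← F.map_comp]
        have := indep t ht (hcov k.unop).choose (hcov j.unop).choose
          ((hcov k.unop).choose_spec.some) (f.unop ≫ (hcov j.unop).choose_spec.some)
        rw [this]
        rfl }

theorem coneOf_π {T : C} (t : T ⟶ ∏ᶜ (fun α => F.obj (op (i α))))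
    (ht : t ≫ mapA i F = t ≫ mapB i F) (j : I) (α : A) (u : j ⟶ i α) :
    (coneOf hcov t ht).π.app (op j) = t ≫ Pi.π (fun α => F.obj (op (i α))) α ≫ F.map u.op :=
  indep t ht _ _ _ _

theorem coneOf_π_self {T : C} (t : T ⟶ ∏ᶜ (fun α => F.obj (op (i α))))
    (ht : t ≫ mapA i F = t ≫ mapB i F) (α : A) :
    (coneOf hcov t ht).π.app (op (i α)) = t ≫ Pi.π (fun α => F.obj (op (i α))) α := by
  rw [coneOf_π hcov t ht (i α) α (𝟙 _)]
  simp

theorem cone_cond (s : Cone F) :
    Pi.lift (fun α => s.π.app (op (i α))) ≫ mapA i F =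
      Pi.lift (fun α => s.π.app (op (i α))) ≫ mapB i F := by
  apply Pi.hom_ext
  intro p
  simp only [Category.assoc, Pi.lift_π, Pi.lift_π_assoc]
  rw [s.w, s.w]

end aux

/-- Let `I` be a category with a family of objects `i α` (`α : A`) such that every binary product `i α ⨯
i β` exists in `I` and every object of `I` admits a morphism to some `i α`. Let `F : Iᵒᵖ ⥤ C` be a
functor, and assume that `C` has equalizers and that the products `∏ F (i α)` and `∏ F (i α ⨯ i β)`
exist in `C`. Then the limit of `F` exists, the canonical map `lim F ⟶ ∏ F (i α)` is a monomorphism,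
and a map `t : T ⟶ ∏ F (i α)` factors through `lim F` exactly when its composites with the two maps
`∏ F (i α) ⇉ ∏ F (i α ⨯ i β)` induced by the two projections agree: `lim F` is the equalizer of that
pair. (The published statement assumes that `C` has all limits of the size of `A`; only equalizers
and the two products named are assumed here, which is what the equalizer construction uses.) -/
theorem result
    {I : Type u₁} [Category.{v₁} I] {C : Type u₂} [Category.{v₂} C] {A : Type w} (i : A → I)
    [∀ α β, HasBinaryProduct (i α) (i β)]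
    (hcov : ∀ j : I, ∃ α, Nonempty (j ⟶ i α))
    (F : Iᵒᵖ ⥤ C) [HasEqualizers C]
    [HasProduct (fun α => F.obj (op (i α)))]
    [HasProduct (fun p : A × A => F.obj (op (i p.1 ⨯ i p.2)))] :
    HasLimit F ∧ ∀ [HasLimit F],
      Mono (Pi.lift (fun α => limit.π F (op (i α)))) ∧
      ∀ (T : C) (t : T ⟶ ∏ᶜ (fun α => F.obj (op (i α)))),
        (∃ s : T ⟶ limit F, s ≫ Pi.lift (fun α => limit.π F (op (i α))) = t) ↔
        t ≫ Pi.lift (fun p : A × A =>
            Pi.π (fun α => F.obj (op (i α))) p.1 ≫ F.map (prod.fst : i p.1 ⨯ i p.2 ⟶ i p.1).op) =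
        t ≫ Pi.lift (fun p : A × A =>
            Pi.π (fun α => F.obj (op (i α))) p.2 ≫ F.map (prod.snd : i p.1 ⨯ i p.2 ⟶ i p.2).op) := by
  have hlim : HasLimit F := by
    refine ⟨⟨⟨coneOf hcov (equalizer.ι (mapA i F) (mapB i F)) (equalizer.condition _ _), ?_⟩⟩⟩
    refine
      { lift := fun s => equalizer.lift (Pi.lift (fun α => s.π.app (op (i α)))) (cone_cond s)
        fac := ?_
        uniq := ?_ }
    · intro s j
      obtain ⟨α, ⟨u⟩⟩ := hcov j.unop
      have h1 : (coneOf hcov (equalizer.ι (mapA i F) (mapB i F))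
          (equalizer.condition _ _)).π.app j = equalizer.ι (mapA i F) (mapB i F) ≫
          Pi.π (fun α => F.obj (op (i α))) α ≫ F.map u.op :=
        coneOf_π hcov _ _ j.unop α u
      rw [h1]
      refine (equalizer.lift_ι_assoc _ _ _).trans ?_
      rw [Pi.lift_π_assoc]
      exact s.w u.op
    · intro s m hm
      apply equalizer.hom_ext
      rw [equalizer.lift_ι]
      apply Pi.hom_ext
      intro α
      rw [Pi.lift_π, Category.assoc, ← hm (op (i α))]
      congr 1
      exact (coneOf_π_self hcov _ _ α).symm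
  refine ⟨hlim, ?_⟩
  intro hlim'
  refine ⟨?_, ?_⟩
  · constructor
    intro T g h hgh
    apply limit.hom_ext
    intro j
    obtain ⟨α, ⟨u⟩⟩ := hcov j.unop
    have hw : limit.π F (op (i α)) ≫ F.map u.op = limit.π F j := limit.w F u.op
    rw [← hw, ← Category.assoc, ← Category.assoc]
    congr 1
    have := congrArg (fun m => m ≫ Pi.π (fun α => F.obj (op (i α))) α) hgh
    simpa using this
  · intro T t
    constructor
    · rintro ⟨s, rfl⟩
      rw [Category.assoc, Category.assoc]
      congr 1
      exact cone_cond (limit.cone F)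
    · intro ht
      refine ⟨limit.lift F (coneOf hcov t ht), ?_⟩
      apply Pi.hom_ext
      intro α
      rw [Category.assoc, Pi.lift_π]
      exact (limit.lift_π _ _).trans (coneOf_π_self hcov t ht α)

end Groth.Agent.S6120
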