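import Groth.Statements.S6121
import Mathlib

set_option autoImplicit false
open CategoryTheory
universe v₁ v₂ u₁ u₂
open SGA4

namespace Groth.Agent.S6121

/-- For a fibered functor `p : E ⥤ B` (every morphism of `B` has a cartesian lift with prescribed
codomain, and cartesian morphisms compose), `p` reflects isomorphisms if and only if every fibre
category of `p` (objects over `b`, morphisms lying over the identity of `b`) is a groupoid. -/
theorem result
    {B : Type u₁} [Category.{v₁} B] {E : Type u₂} [Category.{v₂} E] (p : E ⥤ B) [p.IsFibered] :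
    p.ReflectsIsomorphisms ↔ ∀ b : B, IsGroupoid (p.Fiber b) := by
  constructor
  · intro hR b
    constructor
    intro x y φ
    have h1 : p.IsHomLift (𝟙 b) φ.1 := φ.2
    have hiso : IsIso (p.map φ.1) := by
      rw [IsHomLift.fac' p (𝟙 b) φ.1]
      infer_instance
    have hφ : IsIso φ.1 := isIso_of_reflects_iso φ.1 p
    have hinv : p.IsHomLift (𝟙 b) (inv φ.1) := inferInstance
    refine ⟨⟨⟨inv φ.1, hinv⟩, ?_, ?_⟩⟩
    · apply Functor.Fiber.hom_ext
      exact IsIso.hom_inv_id φ.1
    · apply Functor.Fiber.hom_ext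
      exact IsIso.inv_hom_id φ.1
  · intro h
    constructor
    intro a b φ hφ
    obtain ⟨a', χ, hχ⟩ := IsPreFibered.exists_isCartesian p (a := b) rfl (p.map φ)
    let φ' := Functor.IsCartesian.map p (p.map φ) χ φ
    have hφ' : p.IsHomLift (𝟙 (p.obj a)) φ' := inferInstance
    have ha' : p.obj a' = p.obj a := IsHomLift.domain_eq p (p.map φ) χ
    let x : p.Fiber (p.obj a) := ⟨a, rfl⟩
    let y : p.Fiber (p.obj a) := ⟨a', ha'⟩
    let f1 : x ⟶ y := ⟨φ', hφ'⟩
    have hf1 : IsIso f1 := (h (p.obj a)).all_isIso f1
    have hφ'iso : IsIso φ' := by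
      have : IsIso (Functor.Fiber.fiberInclusion.map f1) := inferInstance
      exact this
    have hχiso : IsIso χ := Functor.IsStronglyCartesian.isIso_of_base_isIso p (p.map φ) χ
    have hfac : φ' ≫ χ = φ := Functor.IsCartesian.fac p (p.map φ) χ φ
    rw [← hfac]
    infer_instance

end Groth.Agent.S6121
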