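import Groth.Statements.S6122
import Mathlib

set_option autoImplicit false
open CategoryTheory
universe v₁ v₂ u₁ u₂
open SGA4

namespace Groth.Agent.S6122

/-- For a fibered functor `p : E ⥤ B` (every morphism of `B` has a cartesian lift with prescribed
codomain, and cartesian morphisms compose), `p` is faithful if and only if every fibre category of
`p` (objects over `b`, morphisms lying over the identity of `b`) has at most one morphism between
any two objects. -/
theorem result
    {B : Type u₁} [Category.{v₁} B] {E : Type u₂} [Category.{v₂} E] (p : E ⥤ B) [p.IsFibered] :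
    p.Faithful ↔ ∀ (b : B) (x y : p.Fiber b), Subsingleton (x ⟶ y) := by
  constructor
  · intro hF b x y
    constructor
    intro φ ψ
    apply Functor.Fiber.hom_ext
    apply p.map_injective
    have h1 := φ.2
    have h2 := ψ.2
    rw [IsHomLift.fac' p (𝟙 b) (Functor.Fiber.fiberInclusion.map φ),
      IsHomLift.fac' p (𝟙 b) (Functor.Fiber.fiberInclusion.map ψ)]
  · intro h
    constructor
    intro a b φ ψ hφψ
    obtain ⟨a', χ, hχ⟩ := IsPreFibered.exists_isCartesian p (a := b) rfl (p.map φ)
    have hψ : p.IsHomLift (p.map φ) ψ := by rw [hφψ]; infer_instance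
    let φ' := Functor.IsCartesian.map p (p.map φ) χ φ
    let ψ' := Functor.IsCartesian.map p (p.map φ) χ ψ
    have hφ' : p.IsHomLift (𝟙 (p.obj a)) φ' := inferInstance
    have hψ' : p.IsHomLift (𝟙 (p.obj a)) ψ' := inferInstance
    have ha' : p.obj a' = p.obj a := IsHomLift.domain_eq p (p.map φ) χ
    let x : p.Fiber (p.obj a) := ⟨a, rfl⟩
    let y : p.Fiber (p.obj a) := ⟨a', ha'⟩
    let f1 : x ⟶ y := ⟨φ', hφ'⟩
    let f2 : x ⟶ y := ⟨ψ', hψ'⟩
    have h12 : f1 = f2 := Subsingleton.elim _ _
    have h12' : φ' = ψ' := congrArg Subtype.val h12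
    calc φ = φ' ≫ χ := (Functor.IsCartesian.fac p (p.map φ) χ φ).symm
      _ = ψ' ≫ χ := by rw [h12']
      _ = ψ := Functor.IsCartesian.fac p (p.map φ) χ ψ

end Groth.Agent.S6122
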