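import Groth.Statements.S6124
import Mathlib

set_option autoImplicit false
open CategoryTheory CategoryTheory.Limits Opposite
universe w v₁ v₂ u₁ u₂
open SGA4

namespace Groth.Agent.S6124

/-- Let `E` have pullbacks, let `P` be a detecting family of objects of `E` (a morphism `f` is
invertible as soon as every map out of an object of `P` factors uniquely through `f`), and let `φ i
: E ⥤ E' i` be functors preserving pullbacks. Then the `φ i` jointly reflect isomorphisms if and
only if, for every `X` with `P X` and every subobject `X'` of `X` other than `⊤`, some `φ i` takes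
the inclusion `X' ⟶ X` to a morphism that is not invertible. -/
theorem result
    {E : Type u₁} [Category.{v₁} E] [HasPullbacks E] (P : ObjectProperty E) (hP : P.IsDetecting)
    {κ : Type w} {E' : κ → Type u₂} [∀ k, Category.{v₂} (E' k)] (φ : ∀ k, E ⥤ E' k)
    [∀ k, PreservesLimitsOfShape WalkingCospan (φ k)] :
    (∀ ⦃X Y : E⦄ (f : X ⟶ Y), (∀ k, IsIso ((φ k).map f)) → IsIso f) ↔
      ∀ (X : E), P X → ∀ (X' : Subobject X), X' ≠ ⊤ → ∃ k, ¬ IsIso ((φ k).map X'.arrow) := by
  constructor
  · intro h X _ X' hX'
    by_contra hcon
    push Not at hcon
    have : IsIso X'.arrow := h X'.arrow hcon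
    exact hX' ((Subobject.isIso_arrow_iff_eq_top X').mp this)
  · intro h
    -- mono case
    have hmono : ∀ ⦃X Y : E⦄ (u : X ⟶ Y), Mono u → (∀ k, IsIso ((φ k).map u)) → IsIso u := by
      intro X Y u hu hQ
      apply hP
      intro G hG g
      have hpbmono : Mono (pullback.fst g u) := inferInstance
      have hQ' : ∀ k, IsIso ((φ k).map (pullback.fst g u)) := by
        intro k
        have hpb : IsPullback ((φ k).map (pullback.fst g u)) ((φ k).map (pullback.snd g u))
            ((φ k).map g) ((φ k).map u) := (IsPullback.of_hasPullback g u).map (φ k)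
        exact hpb.isIso_fst_of_isIso (hQ k)
      have htop : Subobject.mk (pullback.fst g u) = ⊤ := by
        by_contra hne
        obtain ⟨k, hk⟩ := h G hG _ hne
        apply hk
        have harr : (Subobject.mk (pullback.fst g u)).arrow =
            (Subobject.underlyingIso (pullback.fst g u)).hom ≫ pullback.fst g u :=
          (Subobject.underlyingIso_hom_comp_eq_mk (pullback.fst g u)).symm
        rw [harr, Functor.map_comp]
        have := hQ' k
        infer_instance
      have hiso : IsIso (pullback.fst g u) := (Subobject.isIso_iff_mk_eq_top _).mpr htop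
      refine ⟨inv (pullback.fst g u) ≫ pullback.snd g u, ?_, ?_⟩
      · show (inv (pullback.fst g u) ≫ pullback.snd g u) ≫ u = g
        rw [Category.assoc, ← pullback.condition, IsIso.inv_hom_id_assoc]
      · intro h' hh'
        rw [← cancel_mono u]
        rw [hh', Category.assoc, ← pullback.condition, IsIso.inv_hom_id_assoc]
    intro X Y f hf
    have hdiag : ∀ k, IsIso ((φ k).map (pullback.diagonal f)) := by
      intro k
      have hpb : IsPullback ((φ k).map (pullback.fst f f)) ((φ k).map (pullback.snd f f))
          ((φ k).map f) ((φ k).map f) := (IsPullback.of_hasPullback f f).map (φ k)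
      have hfst : IsIso ((φ k).map (pullback.fst f f)) := hpb.isIso_fst_of_isIso (hf k)
      have h1 : (φ k).map (pullback.diagonal f) ≫ (φ k).map (pullback.fst f f) = 𝟙 _ := by
        rw [← (φ k).map_comp, pullback.diagonal_fst, (φ k).map_id]
      have : IsIso ((φ k).map (pullback.diagonal f) ≫ (φ k).map (pullback.fst f f)) := by
        rw [h1]; infer_instance
      exact IsIso.of_isIso_comp_right ((φ k).map (pullback.diagonal f))
        ((φ k).map (pullback.fst f f))
    have hd : IsIso (pullback.diagonal f) := hmono _ inferInstance hdiag
    have hm : Mono f := (pullback.isIso_diagonal_iff f).mp hd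
    exact hmono f hm hf

end Groth.Agent.S6124
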