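import Mathlib
import Groth.Statements.S6126
-- import your own Groth.Agent.* helpers here

set_option autoImplicit false
open CategoryTheory CategoryTheory.Limits
universe v₁ u₁
open SGA4

namespace Groth.Agent.S6126

/-- Let `E` be a category with `v₁`-small hom-sets admitting a separating family of objects `G t`
indexed by a `v₁`-small type, in which every object admits a monomorphism into an injective object.
Assume that each coproduct `G t ⨿ G t` exists and that every morphism out of `G t ⨿ G t` factors as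
an effective epimorphism followed by a monomorphism. Then `E` admits a coseparating family of
injective objects indexed by a `v₁`-small type. (The published statement moreover bounds the size of
this family in terms of the hom-sets `Hom (G t', G t ⨿ G t)`; only existence is stated here. The
published statement speaks of generating and cogenerating families; its proof uses and produces
joint faithfulness of maps out of, resp. into, the family, which is the sense taken here.) -/
theorem result
    {E : Type u₁} [Category.{v₁} E] {ι : Type v₁} (G : ι → E)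
    (hG : (ObjectProperty.ofObj G).IsSeparating)
    [EnoughInjectives E] [∀ t, HasBinaryCoproduct (G t) (G t)]
    (hfac : ∀ (t : ι) (X : E) (f : G t ⨿ G t ⟶ X),
      ∃ (Y : E) (e : G t ⨿ G t ⟶ Y) (m : Y ⟶ X), EffectiveEpi e ∧ Mono m ∧ e ≫ m = f) :
    ∃ (κ : Type v₁) (H : κ → E),
      (∀ k, Injective (H k)) ∧ (ObjectProperty.ofObj H).IsCoseparating := by
  classical
  -- the family of coequalized generator pairs of a morphism out of `G t ⨿ G t`
  let K : ∀ (t : ι) {Q : E} (_ : G t ⨿ G t ⟶ Q),
      (∀ t' : ι, Set ((G t' ⟶ G t ⨿ G t) × (G t' ⟶ G t ⨿ G t))) :=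
    fun t Q e t' => {p | p.1 ≫ e = p.2 ≫ e}
  let κ : Type v₁ := Σ t : ι, (∀ t' : ι, Set ((G t' ⟶ G t ⨿ G t) × (G t' ⟶ G t ⨿ G t)))
  let good : κ → Prop := fun k => ∃ (Q : E) (e : G k.1 ⨿ G k.1 ⟶ Q), EffectiveEpi e ∧ K k.1 e = k.2
  let Qof : κ → E := fun k => if h : good k then h.choose else G k.1
  refine ⟨κ, fun k => Injective.under (Qof k), fun k => inferInstance, ?_⟩
  intro X Y f g hfg
  apply hG
  intro Z hZ x
  obtain ⟨t⟩ := hZ
  obtain ⟨Q, e, m, he, hm, hd⟩ := hfac t Y (coprod.desc (x ≫ f) (x ≫ g))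
  let k : κ := ⟨t, K t e⟩
  have hgood : good k := ⟨Q, e, he, rfl⟩
  have hQof : Qof k = hgood.choose := dif_pos hgood
  obtain ⟨e', he', hK'⟩ := hgood.choose_spec
  -- e' coequalizes whatever e coequalizes
  have hcoeq : ∀ {W : E} (g₁ g₂ : W ⟶ G t ⨿ G t), g₁ ≫ e = g₂ ≫ e → g₁ ≫ e' = g₂ ≫ e' := by
    intro W g₁ g₂ h12
    apply hG
    intro Z' hZ' z
    obtain ⟨t'⟩ := hZ'
    have hmem : (z ≫ g₁, z ≫ g₂) ∈ K t e t' := by
      show (z ≫ g₁) ≫ e = (z ≫ g₂) ≫ e
      rw [Category.assoc, Category.assoc, h12]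
    have hmem' : (z ≫ g₁, z ≫ g₂) ∈ K t e' t' := by
      rw [hK']
      exact hmem
    have : (z ≫ g₁) ≫ e' = (z ≫ g₂) ≫ e' := hmem'
    simpa [Category.assoc] using this
  let φ : Q ⟶ hgood.choose := EffectiveEpi.desc e e' hcoeq
  have hφ : e ≫ φ = e' := EffectiveEpi.fac e e' hcoeq
  let j : Q ⟶ Injective.under (Qof k) := φ ≫ eqToHom hQof.symm ≫ Injective.ι (Qof k)
  let h : Y ⟶ Injective.under (Qof k) := Injective.factorThru j m
  have hmh : m ≫ h = j := Injective.comp_factorThru j m
  have h1 := hfg _ (ObjectProperty.ofObj_apply (fun k => Injective.under (Qof k)) k) h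
  -- derive inl ≫ e' = inr ≫ e'
  have h2 : coprod.inl ≫ e ≫ j = coprod.inr ≫ e ≫ j := by
    have e1 : coprod.inl ≫ e ≫ j = x ≫ f ≫ h := by
      rw [← hmh, ← Category.assoc e, hd, ← Category.assoc, coprod.inl_desc, Category.assoc]
    have e2 : coprod.inr ≫ e ≫ j = x ≫ g ≫ h := by
      rw [← hmh, ← Category.assoc e, hd, ← Category.assoc, coprod.inr_desc, Category.assoc]
    rw [e1, e2, h1]
  have h3 : coprod.inl ≫ e' = coprod.inr ≫ e' := by
    have : Mono (eqToHom hQof.symm ≫ Injective.ι (Qof k)) := inferInstance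
    rw [← cancel_mono (eqToHom hQof.symm ≫ Injective.ι (Qof k))]
    have h2' := h2
    simp only [j] at h2'
    rw [← Category.assoc e, hφ] at h2'
    simpa [Category.assoc] using h2'
  have h4 : ((coprod.inl : G t ⟶ G t ⨿ G t), (coprod.inr : G t ⟶ G t ⨿ G t)) ∈ K t e' t := h3
  rw [hK'] at h4
  have h5 : coprod.inl ≫ e = coprod.inr ≫ e := h4
  have h6 := congrArg (· ≫ m) h5
  simp only [Category.assoc, hd, coprod.inl_desc, coprod.inr_desc] at h6
  exact h6

end Groth.Agent.S6126
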