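import Mathlib
import Groth.Statements.S6128
-- import your own Groth.Agent.* helpers here

set_option autoImplicit false
open CategoryTheory
universe u
open SGA4

namespace Groth.Agent.S6128

/-- Let `u : C ⥤ C'` be a functor between small sites. If the right Kan extension along `u` of the
underlying presheaf of every sheaf of sets on `C` is a sheaf on `C'`, then `u` is cocontinuous: for
every object `Y` of `C` and every covering sieve `R` of `u Y`, the sieve of morphisms `g : Z ⟶ Y`
with `u g ∈ R` covers `Y`. -/
theorem result
    {C : Type u} [SmallCategory C] {C' : Type u} [SmallCategory C']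
    (J : GrothendieckTopology C) (J' : GrothendieckTopology C') (u : C ⥤ C')
    (h : ∀ G : Sheaf J (Type u), Presheaf.IsSheaf J' ((u.op.ran).obj G.obj)) :
    u.IsCocontinuous J J' := by
  constructor
  intro Y R hR
  -- the sheaf of closed sieves
  let G : Sheaf J (Type u) := ⟨(Functor.closedSieves J).toFunctor,
    (isSheaf_iff_isSheaf_of_type _ _).2 (classifier_isSheaf J)⟩
  have hsh : Presieve.IsSheaf J' ((u.op.ran).obj G.obj) :=
    (isSheaf_iff_isSheaf_of_type _ _).1 (h G)
  let adj := u.op.ranAdjunction (Type u)
  -- two natural transformations `u^* h_{uY} ⟶ G`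
  let σ₁ : u.op ⋙ yoneda.obj (u.obj Y) ⟶ G.obj :=
    { app := fun Z => ↾fun _ => ⟨(⊤ : Sieve Z.unop), fun W f hf => trivial⟩
      naturality := by
        intro Z Z' f
        ext a
        apply Subtype.ext
        show (⊤ : Sieve Z'.unop) = (⊤ : Sieve Z.unop).pullback f.unop
        rw [Sieve.pullback_top] }
  let σ₂ : u.op ⋙ yoneda.obj (u.obj Y) ⟶ G.obj :=
    { app := fun Z => ↾fun (a : u.obj Z.unop ⟶ u.obj Y) =>
        ⟨J.close ((R.pullback a).functorPullback u), J.close_isClosed _⟩
      naturality := by
        intro Z Z' f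
        ext a
        apply Subtype.ext
        show J.close ((R.pullback (u.map f.unop ≫ a)).functorPullback u) =
          (J.close ((R.pullback a).functorPullback u)).pullback f.unop
        rw [← J.pullback_close]
        congr 1
        ext W g
        simp [Sieve.functorPullback_apply] }
  have hsep := (hsh R hR).isSeparatedFor
  let t₁ := yonedaEquiv (X := u.obj Y) (adj.homEquiv _ _ σ₁)
  let t₂ := yonedaEquiv (X := u.obj Y) (adj.homEquiv _ _ σ₂)
  have ht : t₁ = t₂ := by
    apply hsep.ext
    intro V b hb
    show (u.op.ran.obj G.obj).map b.op (yonedaEquiv (X := u.obj Y) (adj.homEquiv _ _ σ₁)) =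
      (u.op.ran.obj G.obj).map b.op (yonedaEquiv (X := u.obj Y) (adj.homEquiv _ _ σ₂))
    rw [yonedaEquiv_naturality, yonedaEquiv_naturality, ← adj.homEquiv_naturality_left,
      ← adj.homEquiv_naturality_left]
    congr 2
    ext Z c
    apply Subtype.ext
    show (⊤ : Sieve Z.unop) = J.close ((R.pullback (c ≫ b)).functorPullback u)
    have : R.pullback (c ≫ b) = ⊤ := by
      apply Sieve.pullback_eq_top_of_mem
      exact R.downward_closed hb c
    rw [this]
    symm
    rw [J.close_eq_top_iff_mem]
    have : (⊤ : Sieve (u.obj Z.unop)).functorPullback u = ⊤ := by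
      ext W g
      simp [Sieve.functorPullback_apply]
    rw [this]
    exact J.top_mem _
  have hσ : σ₁ = σ₂ := by
    have h1 := (yonedaEquiv (X := u.obj Y)).injective ht
    exact (adj.homEquiv _ _).injective h1
  have h2 := congrArg (fun σ => (σ.app (Opposite.op Y) (𝟙 (u.obj Y))).1) hσ
  have h3 : (⊤ : Sieve Y) = J.close ((R.pullback (𝟙 (u.obj Y))).functorPullback u) := h2
  rw [Sieve.pullback_id] at h3
  exact (J.close_eq_top_iff_mem _).mp h3.symm

end Groth.Agent.S6128
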