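import Groth.Statements.S6129
import Mathlib
import Groth.Agent.Lib.helper23.LanFF

set_option autoImplicit false
open CategoryTheory CategoryTheory.Limits
universe u
open SGA4

namespace Groth.Agent.S6129

/-- Let `u : C ⥤ C'` be a faithful functor between small categories such that for every object `X` of
`C` the induced functor on over-categories `C/X ⥤ C'/u X` is full and faithful. Then the left Kan
extension functor `u_!` on presheaves of sets is faithful, the unit `H ⟶ u^* u_! H` of the
adjunction `u_! ⊣ u^*` is a monomorphism for every presheaf `H`, and for every morphism of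
presheaves `α : H ⟶ K` the naturality square of the unit at `α` (with sides `α` and `u^* u_! α`) is
cartesian. (The published statement assumes only the condition on the slice functors, and its proof
uses that `u` is faithful; the slice condition alone does not suffice: for a nontrivial group viewed
as a one-object category mapping to the point every slice functor is an equivalence, while `u_!` is
the orbit-set functor on `G`-sets, which is not faithful, and the unit `G ⟶ G/G` is not a
monomorphism. So `u` is taken faithful here.) -/
theorem result
    {C : Type u} [SmallCategory C] {C' : Type u} [SmallCategory C'] (u : C ⥤ C') [u.Faithful]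
    (hu : ∀ X : C, (Over.post (X := X) u).Full ∧ (Over.post (X := X) u).Faithful) :
    (u.op.lan : (Cᵒᵖ ⥤ Type u) ⥤ (C'ᵒᵖ ⥤ Type u)).Faithful ∧
    (∀ H : Cᵒᵖ ⥤ Type u, Mono ((u.op.lanAdjunction (Type u)).unit.app H)) ∧
    ∀ (H K : Cᵒᵖ ⥤ Type u) (α : H ⟶ K),
      IsPullback ((u.op.lanAdjunction (Type u)).unit.app H) α
        (((Functor.whiskeringLeft Cᵒᵖ C'ᵒᵖ (Type u)).obj u.op).map (u.op.lan.map α))
        ((u.op.lanAdjunction (Type u)).unit.app K) := by
  classical
  have hu' : ∀ X : C, (Over.post (X := X) u).Full := fun X => (hu X).1
  have hmono : ∀ H : Cᵒᵖ ⥤ Type u, Mono ((u.op.lanAdjunction (Type u)).unit.app H) := by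
    intro H
    rw [Functor.lanAdjunction_unit]
    rw [NatTrans.mono_iff_mono_app]
    intro c
    rw [mono_iff_injective]
    exact Groth.Agent.Lib.helper23.LanFF.unit_injective u hu' H c.unop
  refine ⟨?_, hmono, ?_⟩
  · haveI := hmono
    exact (u.op.lanAdjunction (Type u)).faithful_L_of_mono_unit_app
  · intro H K α
    rw [Functor.lanAdjunction_unit]
    have key : ∀ c : C, IsPullback ((u.op.lanUnit.app H).app (Opposite.op c))
        (α.app (Opposite.op c))
        ((((Functor.whiskeringLeft Cᵒᵖ C'ᵒᵖ (Type u)).obj u.op).map (u.op.lan.map α)).app
          (Opposite.op c))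
        ((u.op.lanUnit.app K).app (Opposite.op c)) := by
      intro c
      rw [Types.isPullback_iff]
      refine ⟨?_, ?_, ?_⟩
      · exact (congr_app (u.op.lanUnit.naturality α) (Opposite.op c)).symm
      · rintro x y ⟨h1, -⟩
        exact Groth.Agent.Lib.helper23.LanFF.unit_injective u hu' H c h1
      · intro z y hzy
        obtain ⟨g, x', rfl⟩ :=
          Groth.Agent.Lib.helper23.LanFF.inc_jointly_surjective u H c z
        have h1 : (u.op.lan.map α).app _ (Groth.Agent.Lib.helper23.LanFF.inc u H c g x') =
            (u.op.lanUnit.app K).app (Opposite.op c) y := hzy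
        rw [Groth.Agent.Lib.helper23.LanFF.lan_map_inc] at h1
        have h2 := congrArg (fun t => Groth.Agent.Lib.helper23.LanFF.r u hu' K c t) h1
        simp only [Groth.Agent.Lib.helper23.LanFF.inc_r_apply] at h2
        have h3 := Groth.Agent.Lib.helper23.LanFF.r_unit u hu' K c y
        rw [h3] at h2
        obtain ⟨k, hk, hky⟩ := Groth.Agent.Lib.helper23.LanFF.leg_eq_some u K c g _ y h2
        refine ⟨H.map k.op x', ?_, ?_⟩
        · have hn := ConcreteCategory.congr_hom ((u.op.lanUnit.app H).naturality k.op) x'
          simp only [ConcreteCategory.comp_apply] at hn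
          refine hn.trans ?_
          simp only [Groth.Agent.Lib.helper23.LanFF.inc, ConcreteCategory.comp_apply]
          have : u.op.map k.op = g.hom := by
            simp [hk]
          rw [← this]
          rfl
        · have hn := ConcreteCategory.congr_hom (α.naturality k.op) x'
          simp only [ConcreteCategory.comp_apply] at hn
          rw [hn]
          exact hky
    exact IsPullback.of_forall_isPullback_app fun c => key c.unop

end Groth.Agent.S6129
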