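import Groth.Statements.S6131
import Mathlib

set_option autoImplicit false
open CategoryTheory CategoryTheory.Limits
universe u
open SGA4

namespace Groth.Agent.S6131

/-- sections of a sheaf over `X` correspond to maps out of the sheafified representable -/
noncomputable def secEquiv {C : Type u} [SmallCategory C] (J : GrothendieckTopology C) (X : C)
    (F : Sheaf J (Type u)) :
    ((presheafToSheaf J (Type u)).obj (yoneda.obj X) ⟶ F) ≃ F.obj.obj (Opposite.op X) :=
  ((sheafificationAdjunction J (Type u)).homEquiv (yoneda.obj X) F).trans yonedaEquiv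

/-- For a small site `(C, J)` and an object `X` of `C`, the sheaf associated to the presheaf represented
by `X` is an initial object of the category of sheaves of sets if and only if the empty sieve covers
`X`. -/
theorem result
    {C : Type u} [SmallCategory C] (J : GrothendieckTopology C) (X : C) :
    Nonempty (IsInitial ((presheafToSheaf J (Type u)).obj (yoneda.obj X))) ↔ (⊥ : Sieve X) ∈ J X := by
  constructor
  · rintro ⟨hI⟩
    rw [J.mem_iff_isSheafFor_closedSieves]
    let F : Sheaf J (Type u) :=
      ⟨(Functor.closedSieves J).toFunctor, (isSheaf_iff_isSheaf_of_type _ _).mpr (classifier_isSheaf J)⟩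
    have hsub : Subsingleton (F.obj.obj (Opposite.op X)) := by
      have : Subsingleton ((presheafToSheaf J (Type u)).obj (yoneda.obj X) ⟶ F) :=
        ⟨fun a b => hI.hom_ext a b⟩
      exact (secEquiv J X F).symm.subsingleton
    intro x _
    have htop : J.IsClosed (⊤ : Sieve X) := fun Y f _ => trivial
    refine ⟨(⟨(⊤ : Sieve X), htop⟩ : F.obj.obj (Opposite.op X)), ?_, ?_⟩
    · intro Y f hf
      exact hf.elim
    · intro y _
      exact hsub.elim _ _
  · intro hbot
    have huniq : ∀ F : Sheaf J (Type u), Nonempty (Unique (F.obj.obj (Opposite.op X))) := by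
      intro F
      have hF : Presieve.IsSheaf J F.obj := (isSheaf_iff_isSheaf_of_type _ _).mp F.property
      have h1 := hF (⊥ : Sieve X) hbot
      let x : Presieve.FamilyOfElements F.obj (⊥ : Sieve X).arrows := fun Y f hf => hf.elim
      have hx : x.Compatible := fun Y₁ Y₂ Z g₁ g₂ f₁ f₂ h₁ _ _ => h₁.elim
      obtain ⟨t, _, ht⟩ := h1 x hx
      refine ⟨⟨⟨t⟩, fun y => ht y ?_⟩⟩
      intro Y f hf
      exact hf.elim
    have : ∀ F : Sheaf J (Type u),
        Nonempty (Unique ((presheafToSheaf J (Type u)).obj (yoneda.obj X) ⟶ F)) := by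
      intro F
      obtain ⟨hu⟩ := huniq F
      exact ⟨(secEquiv J X F).unique⟩
    exact ⟨Limits.IsInitial.ofUnique (h := fun F => (this F).some) _⟩

end Groth.Agent.S6131
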