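import Mathlib
import Groth.Statements.S6135
import Groth.Agent.Lib.helper9.LanYoneda
-- import your own Groth.Agent.* helpers here

set_option autoImplicit false
open CategoryTheory CategoryTheory.Limits
universe u
open SGA4

namespace Groth.Agent.S6135

/-- Faithful case. Let `u : C ⥤ C'` be a functor between small categories and `u_!` the left Kan
extension functor on presheaves of sets, whose restriction to ind-objects (presheaves that are small
filtered colimits of representables) is the induced functor `Ind C ⥤ Ind C'`. Then `u` is faithful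
if and only if `u_!` is injective on morphisms between ind-representable presheaves. -/
theorem result
    {C : Type u} [SmallCategory C] {C' : Type u} [SmallCategory C'] (u : C ⥤ C') :
    u.Faithful ↔ ∀ (F G : Cᵒᵖ ⥤ Type u), IsIndObject F → IsIndObject G →
      Function.Injective (fun φ : F ⟶ G => (u.op.lan : (Cᵒᵖ ⥤ Type u) ⥤ (C'ᵒᵖ ⥤ Type u)).map φ) := by
  constructor
  · intro hu F G hF hG φ ψ hφψ
    have hφψ' : (u.op.lan : (Cᵒᵖ ⥤ Type u) ⥤ (C'ᵒᵖ ⥤ Type u)).map φ = u.op.lan.map ψ := hφψ
    ext ⟨X⟩ x
    apply Lib.helper9.LanYoneda.unit_injective_of_isIndObject u G hG X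
    show ((Lib.helper9.LanYoneda.adj u).unit.app G).app (Opposite.op X) (φ.app (Opposite.op X) x) =
      ((Lib.helper9.LanYoneda.adj u).unit.app G).app (Opposite.op X) (ψ.app (Opposite.op X) x)
    rw [Lib.helper9.LanYoneda.unit_naturality_apply, Lib.helper9.LanYoneda.unit_naturality_apply,
      hφψ']
  · intro h
    constructor
    intro X X' f g hfg
    exact Lib.helper9.LanYoneda.map_injective_of_lan u X X'
      (h _ _ (isIndObject_yoneda X) (isIndObject_yoneda X')) hfg

end Groth.Agent.S6135
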