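import Mathlib
import Groth.Statements.S6137
-- import your own Groth.Agent.* helpers here

set_option autoImplicit false
open CategoryTheory CategoryTheory.Limits
universe v u
open SGA4

namespace Groth.Agent.S6137

/-- Let `C` be a category with `v`-small hom-sets admitting all `v`-small limits, and `F : C ⥤ Type v` a
functor. Then `F` is corepresentable if and only if it is pro-representable (viewed as a presheaf on
`Cᵒᵖ` it is an ind-object, i.e. a small filtered colimit of corepresentable functors) and preserves
all `v`-small limits. -/
theorem result
    {C : Type u} [Category.{v} C] [HasLimitsOfSize.{v, v} C] (F : C ⥤ Type v) :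
    F.IsCorepresentable ↔
      IsIndObject (unopUnop C ⋙ F) ∧ PreservesLimitsOfSize.{v, v} F := by
  constructor
  · intro hF
    obtain ⟨X, ⟨hX⟩⟩ := hF.has_corepresentation
    have e : F ≅ coyoneda.obj (Opposite.op X) := hX.toIso.symm
    refine ⟨?_, ?_⟩
    · have e' : yoneda.obj (Opposite.op X) ≅ unopUnop C ⋙ F :=
        NatIso.ofComponents (fun Y => (Equiv.toIso
          { toFun := fun f => e.inv.app _ f.unop
            invFun := fun y => (e.hom.app _ y).op
            left_inv := fun f => by simp
            right_inv := fun y => by simp })) (by
          intro Y Z g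
          ext f
          have := types_congr_hom (e.inv.naturality g.unop.unop) f.unop
          simpa using this)
      exact (isIndObject_yoneda (Opposite.op X)).map e'.hom
    · exact preservesLimits_of_natIso e.symm
  · rintro ⟨⟨⟨P⟩⟩, hlim⟩
    rw [← Functor.Elements.hasInitial_iff_isCorepresentable]
    have hprod : HasProducts.{v} F.Elements := fun J => inferInstance
    have hweq : HasWideEqualizers.{v} F.Elements := fun J => inferInstance
    let B : P.I → F.Elements := fun i =>
      ⟨(P.F.obj i).unop, (P.ι.app i).app (Opposite.op (P.F.obj i)) (𝟙 _)⟩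
    have hB : ∀ A : F.Elements, ∃ i, Nonempty (B i ⟶ A) := by
      rintro ⟨Y, y⟩
      have hc := isColimitOfPreserves ((evaluation _ _).obj (Opposite.op (Opposite.op Y)))
        P.isColimit
      obtain ⟨i, g, hg⟩ := Types.jointly_surjective_of_isColimit hc y
      refine ⟨i, ⟨⟨g.unop, ?_⟩⟩⟩
      have hnat := types_congr_hom ((P.ι.app i).naturality g.op) (𝟙 _)
      simp only [types_comp_apply] at hnat
      show F.map g.unop ((P.ι.app i).app (Opposite.op (P.F.obj i)) (𝟙 _)) = y
      rw [← hg]
      refine Eq.trans ?_ (Eq.trans hnat.symm ?_)
      · rfl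
      · show (P.ι.app i).app _ (g ≫ 𝟙 _) = (P.ι.app i).app _ g
        rw [Category.comp_id]
    obtain ⟨T, hT⟩ := has_weakly_initial_of_weakly_initial_set_and_hasProducts hB
    exact hasInitial_of_weakly_initial_and_hasWideEqualizers hT

end Groth.Agent.S6137
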