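import Mathlib
import Groth.Statements.S6138
-- import your own Groth.Agent.* helpers here

set_option autoImplicit false
open CategoryTheory CategoryTheory.Limits Opposite
universe v u
open SGA4

namespace Groth.Agent.S6138

/-- Let `C` have coequalizers and pullbacks, let `F` be a presheaf of sets on `C` taking coequalizers of
`C` to equalizers, and let `u ∈ F(X)`, viewed as a morphism `h_X ⟶ F`. Then this morphism is a
monomorphism (the map `v ↦ F(v)(u)` is injective on `Hom(Y, X)` for every `Y`) if and only if `u` is
minimal: whenever `u = F(p)(u')` for an effective epimorphism `p : X ⟶ X'` and some `u' ∈ F(X')`,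
`p` is an isomorphism. (Coequalizers are used for one implication and pullbacks for the other; both
are assumed here.) -/
theorem result
    {C : Type u} [Category.{v} C] [HasCoequalizers C] [HasPullbacks C]
    (F : Cᵒᵖ ⥤ Type v) [PreservesLimitsOfShape WalkingParallelPair F]
    {X : C} (u : F.obj (op X)) :
    (∀ (Y : C) (v v' : Y ⟶ X), F.map v.op u = F.map v'.op u → v = v') ↔
      ∀ (X' : C) (p : X ⟶ X') (u' : F.obj (op X')),
        EffectiveEpi p → F.map p.op u' = u → IsIso p := by
  constructor
  · intro hinj X' p u' hp hu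
    have hcoeq : ∀ {Z : C} (g₁ g₂ : Z ⟶ X), g₁ ≫ p = g₂ ≫ p → g₁ ≫ 𝟙 X = g₂ ≫ 𝟙 X := by
      intro Z g₁ g₂ h
      simp only [Category.comp_id]
      apply hinj
      rw [← hu]
      have e1 : F.map g₁.op (F.map p.op u') = F.map (g₁ ≫ p).op u' := by
        rw [op_comp, F.map_comp]; rfl
      have e2 : F.map g₂.op (F.map p.op u') = F.map (g₂ ≫ p).op u' := by
        rw [op_comp, F.map_comp]; rfl
      rw [e1, e2, h]
    let s : X' ⟶ X := EffectiveEpi.desc p (𝟙 X) hcoeq
    have h1 : p ≫ s = 𝟙 X := EffectiveEpi.fac p (𝟙 X) hcoeq
    have h2 : s ≫ p = 𝟙 X' := by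
      haveI : Epi p := inferInstance
      rw [← cancel_epi p, ← Category.assoc, h1, Category.id_comp, Category.comp_id]
    exact ⟨s, h1, h2⟩
  · intro hmin Y v v' hvv
    have hlim : IsColimit (Cofork.ofπ (coequalizer.π v v') (coequalizer.condition v v')) :=
      (coequalizerRegular v v').isColimit
    have w' : (coequalizer.π v v').op ≫ v.op = (coequalizer.π v v').op ≫ v'.op := by
      rw [← op_comp, ← op_comp, coequalizer.condition]
    have hlim' : IsLimit (Fork.ofι (coequalizer.π v v').op w') :=
      Cofork.isColimitOfπEquivIsLimitOp _ _ (coequalizer.condition v v') w' rfl hlim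
    have hlim'' := isLimitForkMapOfIsLimit F w' hlim'
    obtain ⟨u', hu', -⟩ := Types.unique_of_type_equalizer _ _ hlim'' u hvv
    have hiso : IsIso (coequalizer.π v v') := hmin _ _ u' inferInstance hu'
    have := coequalizer.condition v v'
    exact (cancel_mono (coequalizer.π v v')).mp this

end Groth.Agent.S6138
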