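import Groth.Statements.S6139
import Mathlib

set_option autoImplicit false
open CategoryTheory CategoryTheory.Limits
universe v u
open SGA4

namespace Groth.Agent.S6139

theorem initial_of_bot_mem {C : Type u} [Category.{v} C] (X : C)
    (h : (⊥ : Sieve X) ∈ Sheaf.canonicalTopology C X) : Nonempty (IsInitial X) := by
  have huniq : ∀ Z : C, Nonempty (Unique (X ⟶ Z)) := by
    intro Z
    have h1 := Sheaf.isSheaf_yoneda_obj Z (⊥ : Sieve X) h
    let x : Presieve.FamilyOfElements (yoneda.obj Z) (⊥ : Sieve X).arrows := fun Y f hf => hf.elim
    have hx : x.Compatible := fun Y₁ Y₂ W g₁ g₂ f₁ f₂ h₁ _ _ => h₁.elim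
    obtain ⟨t, _, ht⟩ := h1 x hx
    refine ⟨⟨⟨t⟩, fun y => ht y ?_⟩⟩
    intro Y f hf
    exact hf.elim
  exact ⟨IsInitial.ofUnique (h := fun Z => (huniq Z).some) _⟩

/-- For an object `X` of a category `C`, the empty sieve on `X` is covering for the canonical topology
of `C` (the finest topology for which every representable presheaf is a sheaf) if and only if `X` is
a strict initial object: `X` is initial and every morphism with target `X` is an isomorphism. (The
source phrases the first condition as: for some topology coarser than the canonical one the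
associated sheaf of `h_X` is initial; that sheaf is initial exactly when the empty sieve covers `X`,
and coverage by the empty sieve passes to the finer canonical topology.) -/
theorem result
    {C : Type u} [Category.{v} C] (X : C) :
    (⊥ : Sieve X) ∈ Sheaf.canonicalTopology C X ↔
      (Nonempty (IsInitial X) ∧ ∀ (Y : C) (f : Y ⟶ X), IsIso f) := by
  constructor
  · intro h
    refine ⟨initial_of_bot_mem X h, ?_⟩
    intro Y f
    have hY : (⊥ : Sieve Y) ∈ Sheaf.canonicalTopology C Y := by
      have := (Sheaf.canonicalTopology C).pullback_stable f h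
      rwa [Sieve.pullback_bot] at this
    obtain ⟨hX⟩ := initial_of_bot_mem X h
    obtain ⟨hYi⟩ := initial_of_bot_mem Y hY
    exact ⟨hX.to Y, hYi.hom_ext _ _, hX.hom_ext _ _⟩
  · rintro ⟨⟨hX⟩, hiso⟩
    apply Sheaf.mem_finestTopology_of_forall_isSheafFor
    rintro P ⟨Z, rfl⟩ Y f
    rw [Sieve.pullback_bot]
    have := hiso Y f
    have hY : IsInitial Y := hX.ofIso (asIso f).symm
    intro x _
    refine ⟨hY.to Z, ?_, ?_⟩
    · intro W g hg
      exact hg.elim
    · intro y _
      exact hY.hom_ext _ _

end Groth.Agent.S6139
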