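import Mathlib
import Groth.Statements.S6141
-- import your own Groth.Agent.* helpers here

set_option autoImplicit false
open CategoryTheory
universe u
open SGA4

namespace Groth.Agent.S6141

/-- Let `u : C ⥤ C'` be a functor between small sites which is continuous and cocontinuous. If `u` is
full and faithful, then the left adjoint `u_!` of the restriction functor `u^*` on sheaves of sets
is full and faithful. -/
theorem result
    {C : Type u} [SmallCategory C] {C' : Type u} [SmallCategory C']
    (J : GrothendieckTopology C) (K : GrothendieckTopology C') (u : C ⥤ C')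
    [u.IsContinuous J K] [u.IsCocontinuous J K] [u.Full] [u.Faithful] :
    (u.sheafPullback (Type u) J K).Full ∧ (u.sheafPullback (Type u) J K).Faithful := by
  have t : Adjunction.Triple (u.sheafPullback (Type u) J K)
      (u.sheafPushforwardContinuous (Type u) J K) (u.sheafPushforwardCocontinuous (Type u) J K) :=
    ⟨u.sheafAdjunctionContinuous (Type u) J K, u.sheafAdjunctionCocontinuous (Type u) J K⟩
  have hran : (u.op.ran : (Cᵒᵖ ⥤ Type u) ⥤ (C'ᵒᵖ ⥤ Type u)).FullyFaithful :=
    (u.op.ranAdjunction (Type u)).fullyFaithfulROfIsIsoCounit
  have h1 : (sheafToPresheaf J (Type u) ⋙ u.op.ran).FullyFaithful :=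
    (fullyFaithfulSheafToPresheaf J (Type u)).comp hran
  have h2 : (u.sheafPushforwardCocontinuous (Type u) J K ⋙ sheafToPresheaf K (Type u)).FullyFaithful :=
    h1.ofIso (u.sheafPushforwardCocontinuousCompSheafToPresheafIso (Type u) J K).symm
  have h3 : (u.sheafPushforwardCocontinuous (Type u) J K).FullyFaithful :=
    Functor.FullyFaithful.ofCompFaithful h2
  have h4 := t.fullyFaithfulEquiv.symm h3
  exact ⟨h4.full, h4.faithful⟩

end Groth.Agent.S6141
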