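import Mathlib
import Groth.Statements.S6142
-- import your own Groth.Agent.* helpers here

set_option autoImplicit false
open CategoryTheory
universe u
open SGA4

namespace Groth.Agent.S6142

/-- Let `u : C ⥤ C'` be a continuous and cocontinuous functor between small sites whose topologies are
subcanonical. If the left adjoint `u_!` of the restriction functor `u^*` on sheaves of sets is full
and faithful, then `u` is full and faithful. -/
theorem result
    {C : Type u} [SmallCategory C] {C' : Type u} [SmallCategory C']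
    (J : GrothendieckTopology C) (K : GrothendieckTopology C') [J.Subcanonical] [K.Subcanonical]
    (u : C ⥤ C') [u.IsContinuous J K] [u.IsCocontinuous J K]
    (h : (u.sheafPullback (Type u) J K).Full ∧ (u.sheafPullback (Type u) J K).Faithful) :
    u.Full ∧ u.Faithful := by
  obtain ⟨hfull, hfaith⟩ := h
  let L := u.sheafPullback (Type u) J K
  let R := u.sheafPushforwardContinuous (Type u) J K
  let adj : L ⊣ R := u.sheafAdjunctionContinuous (Type u) J K
  let e : ∀ (X : C) (G : Sheaf K (Type u)),
      (L.obj (J.yoneda.obj X) ⟶ G) ≃ (K.yoneda.obj (u.obj X) ⟶ G) :=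
    fun X G => (adj.homEquiv _ _).trans
      ((J.yonedaEquiv (F := R.obj G)).trans (K.yonedaEquiv (F := G)).symm)
  have e_right : ∀ (X : C) (G G' : Sheaf K (Type u)) (a : L.obj (J.yoneda.obj X) ⟶ G) (g : G ⟶ G'),
      e X G' (a ≫ g) = e X G a ≫ g := by
    intro X G G' a g
    show K.yonedaEquiv.symm (J.yonedaEquiv (adj.homEquiv _ _ (a ≫ g))) =
      K.yonedaEquiv.symm (J.yonedaEquiv (adj.homEquiv _ _ a)) ≫ g
    rw [adj.homEquiv_naturality_right, J.yonedaEquiv_comp, K.yonedaEquiv_symm_naturality_right]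
    rfl
  have e_left : ∀ (X X' : C) (f : X ⟶ X') (G : Sheaf K (Type u)) (a : L.obj (J.yoneda.obj X') ⟶ G),
      e X G (L.map (J.yoneda.map f) ≫ a) = K.yoneda.map (u.map f) ≫ e X' G a := by
    intro X X' f G a
    show K.yonedaEquiv.symm (J.yonedaEquiv (adj.homEquiv _ _ (L.map (J.yoneda.map f) ≫ a))) =
      K.yoneda.map (u.map f) ≫ K.yonedaEquiv.symm (J.yonedaEquiv (adj.homEquiv _ _ a))
    rw [adj.homEquiv_naturality_left, ← J.yonedaEquiv_naturality]
    exact K.yonedaEquiv_symm_map (u.map f).op (F := G) _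
  let ψ : ∀ X : C, K.yoneda.obj (u.obj X) ⟶ L.obj (J.yoneda.obj X) := fun X => e X _ (𝟙 _)
  let φ : ∀ X : C, L.obj (J.yoneda.obj X) ⟶ K.yoneda.obj (u.obj X) := fun X => (e X _).symm (𝟙 _)
  have hψφ : ∀ X, ψ X ≫ φ X = 𝟙 _ := by
    intro X
    show e X _ (𝟙 _) ≫ φ X = 𝟙 _
    rw [← e_right, Category.id_comp]
    exact (e X _).apply_symm_apply _
  have key : ∀ (X X' : C) (f : X ⟶ X'),
      e X _ (L.map (J.yoneda.map f)) = K.yoneda.map (u.map f) ≫ ψ X' := by
    intro X X' f
    have := e_left X X' f _ (𝟙 _)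
    rwa [Category.comp_id] at this
  have hψmono : ∀ (X : C) {Z : Sheaf K (Type u)} (a b : Z ⟶ K.yoneda.obj (u.obj X)),
      a ≫ ψ X = b ≫ ψ X → a = b := by
    intro X Z a b hab
    have := congrArg (· ≫ φ X) hab
    simpa [Category.assoc, hψφ] using this
  constructor
  · constructor
    intro X X' g
    obtain ⟨b, hb⟩ := hfull.map_surjective ((e X _).symm (K.yoneda.map g ≫ ψ X'))
    obtain ⟨f, hf⟩ := (J.yoneda).map_surjective b
    refine ⟨f, ?_⟩
    have h1 : e X _ (L.map (J.yoneda.map f)) = K.yoneda.map g ≫ ψ X' := by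
      rw [hf]
      show e X _ ((u.sheafPullback (Type u) J K).map b) = _
      rw [hb]
      exact (e X _).apply_symm_apply _
    rw [key] at h1
    have h2 := hψmono X' _ _ h1
    exact (K.yoneda).map_injective h2
  · constructor
    intro X X' f g hfg
    have h1 : e X _ (L.map (J.yoneda.map f)) = e X _ (L.map (J.yoneda.map g)) := by
      rw [key, key, hfg]
    have h2 := (e X _).injective h1
    have h3 : J.yoneda.map f = J.yoneda.map g := hfaith.map_injective h2
    exact (J.yoneda).map_injective h3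

end Groth.Agent.S6142
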