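import Mathlib
import Groth.Statements.S6144
-- import your own Groth.Agent.* helpers here

set_option autoImplicit false
open CategoryTheory CategoryTheory.Limits
universe w v u
open SGA4

namespace Groth.Agent.S6144

/-- Let `E` be a category with `v`-small hom-sets and pullbacks, admitting a detecting family of objects
indexed by a `v`-small type (maps out of the family jointly reflect isomorphisms). Then every
detecting family `Y : I → E`, indexed by an arbitrary type, contains a detecting subfamily indexed
by a `v`-small subset of `I`. -/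
theorem result
    {E : Type u} [Category.{v} E] [HasPullbacks E] {κ : Type v} (G : κ → E)
    (hG : (ObjectProperty.ofObj G).IsDetecting) {I : Type w} (Y : I → E)
    (hY : (ObjectProperty.ofObj Y).IsDetecting) :
    ∃ J : Set I, Small.{v} J ∧ (ObjectProperty.ofObj (fun j : J => Y j)).IsDetecting := by
  classical
  have : ObjectProperty.Small.{v} (ObjectProperty.ofObj G) := inferInstance
  have : WellPowered.{v} E := wellPowered_of_isDetecting hG
  -- for each proper subobject of `G k`, a witness
  have hex : ∀ (x : {p : Σ k, Subobject (G k) // p.2 ≠ ⊤}),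
      ∃ (i : I) (g : Y i ⟶ G x.1.1), ¬ x.1.2.Factors g := by
    rintro ⟨⟨k, S⟩, hS⟩
    by_contra hcon
    push Not at hcon
    apply hS
    rw [← Subobject.isIso_arrow_iff_eq_top]
    apply hY
    intro Z hZ h
    obtain ⟨i⟩ := hZ
    have hfac : S.Factors h := hcon i h
    refine ⟨S.factorThru h hfac, S.factorThru_arrow h hfac, ?_⟩
    intro b hb
    rw [← cancel_mono S.arrow, hb, S.factorThru_arrow h hfac]
  choose ι g hg using hex
  refine ⟨Set.range ι, inferInstance, ?_⟩
  -- mono case
  have hmono : ∀ ⦃A B : E⦄ (f : A ⟶ B), Mono f →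
      (∀ (Z : E) (_ : ObjectProperty.ofObj (fun j : Set.range ι => Y j) Z),
        ∀ (h : Z ⟶ B), ∃! h' : Z ⟶ A, h' ≫ f = h) → IsIso f := by
    intro A B f hf hlift
    apply hG
    intro Z hZ h
    obtain ⟨k⟩ := hZ
    have hpbmono : Mono (pullback.fst h f) := inferInstance
    have htop : Subobject.mk (pullback.fst h f) = ⊤ := by
      by_contra hne
      let x : {p : Σ k, Subobject (G k) // p.2 ≠ ⊤} := ⟨⟨k, Subobject.mk (pullback.fst h f)⟩, hne⟩
      apply hg x
      obtain ⟨a, ha, -⟩ := hlift (Y (ι x))
        (ObjectProperty.ofObj_apply (fun j : Set.range ι => Y j) ⟨ι x, x, rfl⟩) (g x ≫ h)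
      show (Subobject.mk (pullback.fst h f)).Factors (g x)
      rw [Subobject.mk_factors_iff]
      exact ⟨pullback.lift (g x) a ha.symm, pullback.lift_fst _ _ _⟩
    have hiso : IsIso (pullback.fst h f) := (Subobject.isIso_iff_mk_eq_top _).mpr htop
    refine ⟨inv (pullback.fst h f) ≫ pullback.snd h f, ?_, ?_⟩
    · show (inv (pullback.fst h f) ≫ pullback.snd h f) ≫ f = h
      rw [Category.assoc, ← pullback.condition, IsIso.inv_hom_id_assoc]
    · intro h' hh'
      rw [← cancel_mono f]
      rw [hh', Category.assoc, ← pullback.condition, IsIso.inv_hom_id_assoc]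
  intro A B f hf
  have hd : IsIso (pullback.diagonal f) := by
    apply hmono _ inferInstance
    intro Z hZ h
    have e : h ≫ pullback.fst f f = h ≫ pullback.snd f f := by
      obtain ⟨c, -, hc⟩ := hf Z hZ (h ≫ pullback.fst f f ≫ f)
      rw [hc (h ≫ pullback.fst f f) (by simp),
        hc (h ≫ pullback.snd f f) (by simp [pullback.condition])]
    refine ⟨h ≫ pullback.fst f f, ?_, ?_⟩
    · apply pullback.hom_ext
      · simp
      · simp [e]
    · intro b hb
      rw [← hb]
      simp
  have hm : Mono f := (pullback.isIso_diagonal_iff f).mp hd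
  exact hmono f hm hf

end Groth.Agent.S6144
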