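import Groth.Statements.S6152
import Mathlib
import Groth.Agent.Lib.helper23.ModSec

set_option autoImplicit false
universe u
open CategoryTheory
open ModSite

namespace Groth.Agent.S6152

/-- Second assertion (ringed topos of sheaves on a small site (C, J) with commutative structure sheaf
O): if G is a topologically generating family of objects (every object of C admits a covering family
by members of G), then the free O-modules A_X = j_{X!}(O|X), X in G, form a generating family of the
category of O-modules; stated as: this family detects isomorphisms and is separating. -/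
theorem result {C : Type u} [SmallCategory C] {J : GrothendieckTopology C}
    (O : Sheaf J CommRingCat.{u}) (G : Set C)
    (hG : ∀ X : C, ∃ (ι : Type u) (Y : ι → C) (f : ∀ i, Y i ⟶ X), Sieve.ofArrows Y f ∈ J X ∧ ∀ i, Y i ∈ G) :
    (ObjectProperty.ofObj fun X : G => ModSite.freeOn O (X : C)).IsDetecting ∧
    (ObjectProperty.ofObj fun X : G => ModSite.freeOn O (X : C)).IsSeparating := by
  constructor
  · intro F F' f hf
    apply Groth.Agent.Lib.helper23.ModSec.isIso_of_bijective_on O G hG f
    intro X hX
    have hP : (ObjectProperty.ofObj fun X : G => ModSite.freeOn O (X : C)) (ModSite.freeOn O X) :=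
      ObjectProperty.ofObj_apply (fun X : G => ModSite.freeOn O (X : C)) ⟨X, hX⟩
    constructor
    · intro x1 x2 h12
      let h1 := (Groth.Agent.Lib.helper23.ModSec.homEquiv O X F).symm x1
      let h2 := (Groth.Agent.Lib.helper23.ModSec.homEquiv O X F).symm x2
      have e : h1 ≫ f = h2 ≫ f := by
        apply (Groth.Agent.Lib.helper23.ModSec.homEquiv O X F').injective
        rw [Groth.Agent.Lib.helper23.ModSec.homEquiv_comp,
          Groth.Agent.Lib.helper23.ModSec.homEquiv_comp]
        simp only [h1, h2, Equiv.apply_symm_apply]
        exact h12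
      obtain ⟨h', -, hu⟩ := hf _ hP (h1 ≫ f)
      have e1 : h1 = h2 := (hu h1 rfl).trans (hu h2 e.symm).symm
      have := congrArg (Groth.Agent.Lib.helper23.ModSec.homEquiv O X F) e1
      simpa [h1, h2] using this
    · intro y
      obtain ⟨h', hh', -⟩ := hf _ hP ((Groth.Agent.Lib.helper23.ModSec.homEquiv O X F').symm y)
      refine ⟨Groth.Agent.Lib.helper23.ModSec.homEquiv O X F h', ?_⟩
      have := Groth.Agent.Lib.helper23.ModSec.homEquiv_comp O X h' f
      rw [hh'] at this
      simpa using this.symm
  · intro F F' f g hfg
    apply Groth.Agent.Lib.helper23.ModSec.eq_of_eq_on O G hG f g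
    intro X hX x
    have hP : (ObjectProperty.ofObj fun X : G => ModSite.freeOn O (X : C)) (ModSite.freeOn O X) :=
      ObjectProperty.ofObj_apply (fun X : G => ModSite.freeOn O (X : C)) ⟨X, hX⟩
    have e := hfg _ hP ((Groth.Agent.Lib.helper23.ModSec.homEquiv O X F).symm x)
    have e' := congrArg (Groth.Agent.Lib.helper23.ModSec.homEquiv O X F') e
    rw [Groth.Agent.Lib.helper23.ModSec.homEquiv_comp,
      Groth.Agent.Lib.helper23.ModSec.homEquiv_comp] at e'
    simpa using e'

end Groth.Agent.S6152
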