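import Mathlib
import Groth.Agent.Lib.helper23.ModSec
import Groth.Agent.Lib.helper10.RestrDer
import Groth.Statements.S6153

set_option autoImplicit false
universe u
open CategoryTheory
open ModSite

namespace Groth.Agent.S6153

/-- Morphisms of ringed sites between small sites with commutative structure sheaves: for a morphism of
ringed sites f : (C, O_C) -> (D, O_D) given by a functor u : D -> C and every object X of D, the
inverse image f^*(A'_X) of the free O_D-module on X is isomorphic to the free O_C-module A_{u(X)} on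
u(X). Existence of an isomorphism of modules only (the source's isomorphism is the canonical one). -/
theorem result {C D : Type u} [SmallCategory C] [SmallCategory D] {J : GrothendieckTopology C}
    {K : GrothendieckTopology D} {O_C : Sheaf J CommRingCat.{u}} {O_D : Sheaf K CommRingCat.{u}}
    (f : ModSite.RMor O_C O_D) (X : D) :
    Nonempty (f.pull.obj (ModSite.freeOn O_D X) ≅ ModSite.freeOn O_C (f.fn.obj X)) := by
  let hD := fun (F : ModSite.Mod O_D) => Groth.Agent.Lib.helper23.ModSec.homEquiv O_D X F
  let hC := fun (F : ModSite.Mod O_C) => Groth.Agent.Lib.helper23.ModSec.homEquiv O_C (f.fn.obj X) F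
  let E : ∀ F : ModSite.Mod O_C, (f.push.obj F).val.obj (Opposite.op X) ≃
      F.val.obj (Opposite.op (f.fn.obj X)) := fun F => Equiv.refl _
  let φ : ∀ F : ModSite.Mod O_C, (f.pull.obj (ModSite.freeOn O_D X) ⟶ F) ≃
      (ModSite.freeOn O_C (f.fn.obj X) ⟶ F) := fun F =>
    (f.adj.homEquiv _ F).trans ((hD (f.push.obj F)).trans ((E F).trans (hC F).symm))
  refine ⟨Groth.Agent.Lib.helper10.RestrDer.isoOfHomEquiv φ ?_⟩
  intro F G h g
  apply (hC G).injective
  have h1 : hC G (φ G (h ≫ g)) = E G (hD (f.push.obj G) (f.adj.homEquiv _ G (h ≫ g))) :=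
    (hC G).apply_symm_apply _
  have h2 : hC G (φ F h ≫ g) = g.val.app (Opposite.op (f.fn.obj X)) (hC F (φ F h)) :=
    Groth.Agent.Lib.helper23.ModSec.homEquiv_comp O_C (f.fn.obj X) (φ F h) g
  have h3 : hC F (φ F h) = E F (hD (f.push.obj F) (f.adj.homEquiv _ F h)) :=
    (hC F).apply_symm_apply _
  have h4 : f.adj.homEquiv _ G (h ≫ g) = f.adj.homEquiv _ F h ≫ f.push.map g :=
    CategoryTheory.Adjunction.homEquiv_naturality_right _ _ _
  have h5 : hD (f.push.obj G) (f.adj.homEquiv _ F h ≫ f.push.map g) =
      (f.push.map g).val.app (Opposite.op X) (hD (f.push.obj F) (f.adj.homEquiv _ F h)) :=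
    Groth.Agent.Lib.helper23.ModSec.homEquiv_comp O_D X _ _
  rw [h1, h2, h3, h4, h5]
  rfl

end Groth.Agent.S6153
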