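import Mathlib
import Groth.Statements.S6160
-- import your own Groth.Agent.* helpers here

set_option autoImplicit false
universe u
open CategoryTheory
open ModSite

namespace Groth.Agent.S6160

open CategoryTheory.Limits in
/-- If `a ⊣ i` with `i` fully faithful and `a ⋙ T` preserves colimits, then `T` preserves
colimits (when the ambient category has them). -/
lemma preservesColimit_of_reflective {S P S' K : Type*} [Category S] [Category P] [Category S']
    [Category K] (i : S ⥤ P) (a : P ⥤ S) (adj : a ⊣ i) [i.Full] [i.Faithful] (T : S ⥤ S')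
    (D : K ⥤ S) [HasColimit (D ⋙ i)] [PreservesColimit (D ⋙ i) (a ⋙ T)] :
    PreservesColimit D T := by
  have : PreservesColimit (D ⋙ i) a := adj.leftAdjoint_preservesColimits.preservesColimitsOfShape.preservesColimit
  have h1 : IsColimit (a.mapCocone (colimit.cocone (D ⋙ i))) :=
    isColimitOfPreserves a (colimit.isColimit _)
  have h2 : IsColimit ((a ⋙ T).mapCocone (colimit.cocone (D ⋙ i))) :=
    isColimitOfPreserves (a ⋙ T) (colimit.isColimit _)
  have h3 : PreservesColimit ((D ⋙ i) ⋙ a) T :=
    preservesColimit_of_preserves_colimit_cocone h1 h2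
  have e : (D ⋙ i) ⋙ a ≅ D :=
    Functor.associator _ _ _ ≪≫ Functor.isoWhiskerLeft D (asIso adj.counit) ≪≫ Functor.rightUnitor _
  exact preservesColimit_of_iso_diagram T e

open CategoryTheory.Limits in
lemma toSheaf_preservesColimits {C : Type u} [SmallCategory C]
    {J : GrothendieckTopology C} (R : Sheaf J RingCat.{u}) :
    PreservesColimitsOfSize.{u, u} (SheafOfModules.toSheaf.{u} R) := by
  constructor
  intro K _
  constructor
  intro D
  let α : R.obj ⟶ R.obj := 𝟙 _
  have hpres : PreservesColimitsOfSize.{u, u}
      (PresheafOfModules.sheafification.{u} α ⋙ SheafOfModules.toSheaf.{u} R) := by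
    have : PreservesColimitsOfSize.{u, u}
        (PresheafOfModules.toPresheaf.{u} R.obj ⋙ presheafToSheaf J AddCommGrpCat.{u}) :=
      inferInstance
    exact preservesColimits_of_natIso (PresheafOfModules.sheafificationCompToSheaf α).symm
  exact preservesColimit_of_reflective
    (SheafOfModules.forget.{u} R ⋙ PresheafOfModules.restrictScalars α)
    (PresheafOfModules.sheafification.{u} α) (PresheafOfModules.sheafificationAdjunction α)
    (SheafOfModules.toSheaf.{u} R) D

open CategoryTheory.Limits in
lemma toSheaf_preservesLimits {C : Type u} [SmallCategory C]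
    {J : GrothendieckTopology C} (R : Sheaf J RingCat.{u}) :
    PreservesLimitsOfSize.{u, u} (SheafOfModules.toSheaf.{u} R) := by
  have : PreservesLimitsOfSize.{u, u} (SheafOfModules.toSheaf.{u} R ⋙ sheafToPresheaf _ _) :=
    inferInstanceAs (PreservesLimitsOfSize.{u, u}
      (SheafOfModules.forget.{u} R ⋙ PresheafOfModules.toPresheaf R.obj))
  exact preservesLimits_of_reflects_of_preserves _ (sheafToPresheaf _ _)

open CategoryTheory.Limits in
/-- Ringed topos of sheaves on a small site; u : A -> B a morphism of sheaves of rings: the
restriction-of-scalars functor from B-Modules to A-Modules commutes with all u-small limits and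
colimits and is conservative. -/
theorem result {C : Type u} [SmallCategory C]
    {J : GrothendieckTopology C} {A B : Sheaf J RingCat.{u}} (φ : A ⟶ B) :
    PreservesLimitsOfSize.{u, u} (SheafOfModules.restrictScalars.{u} φ) ∧
    PreservesColimitsOfSize.{u, u} (SheafOfModules.restrictScalars.{u} φ) ∧
    (SheafOfModules.restrictScalars.{u} φ).ReflectsIsomorphisms := by
  have e : SheafOfModules.restrictScalars.{u} φ ⋙ SheafOfModules.toSheaf.{u} A ≅
      SheafOfModules.toSheaf.{u} B := Iso.refl _
  have hA1 := toSheaf_preservesColimits A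
  have hB1 := toSheaf_preservesColimits B
  have hA2 := toSheaf_preservesLimits A
  have hB2 := toSheaf_preservesLimits B
  have hAr1 : ReflectsColimitsOfSize.{u, u} (SheafOfModules.toSheaf.{u} A) :=
    reflectsColimits_of_reflectsIsomorphisms
  have hAr2 : ReflectsLimitsOfSize.{u, u} (SheafOfModules.toSheaf.{u} A) :=
    reflectsLimits_of_reflectsIsomorphisms
  refine ⟨?_, ?_, ?_⟩
  · have : PreservesLimitsOfSize.{u, u}
        (SheafOfModules.restrictScalars.{u} φ ⋙ SheafOfModules.toSheaf.{u} A) :=
      preservesLimits_of_natIso e.symm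
    exact preservesLimits_of_reflects_of_preserves _ (SheafOfModules.toSheaf.{u} A)
  · have : PreservesColimitsOfSize.{u, u}
        (SheafOfModules.restrictScalars.{u} φ ⋙ SheafOfModules.toSheaf.{u} A) :=
      preservesColimits_of_natIso e.symm
    exact preservesColimits_of_reflects_of_preserves _ (SheafOfModules.toSheaf.{u} A)
  · have : (SheafOfModules.restrictScalars.{u} φ ⋙ SheafOfModules.toSheaf.{u} A).ReflectsIsomorphisms :=
      inferInstanceAs (SheafOfModules.toSheaf.{u} B).ReflectsIsomorphisms
    exact reflectsIsomorphisms_of_comp _ (SheafOfModules.toSheaf.{u} A)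

end Groth.Agent.S6160
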