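import Groth.Statements.S6172
-- import your own Groth.Agent.* helpers here

set_option autoImplicit false
universe u
open CategoryTheory
open SGA4

namespace Groth.Agent.S6172

open CategoryTheory.Limits MonoidalCategory in
/-- Topos E of sheaves of sets on a small site, localised at an object Z: with j_Z : E/Z -> E the
localisation morphism, j_Z^* X = Z x X over Z, and j_{Z*} its right adjoint (taken as an instance
hypothesis, which holds in any topos), j_{Z*} j_Z^* Y is isomorphic to the internal hom Hom(Z, Y)
for every object Y. Existence of an isomorphism only (the source's is canonical). -/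
theorem result {C : Type u} [SmallCategory C] (J : GrothendieckTopology C)
    (Z Y : Sheaf J (Type u)) [(Over.star Z).IsLeftAdjoint] :
    Nonempty (((Over.star Z).rightAdjoint).obj ((Over.star Z).obj Y) ≅ (ihom Z).obj Y) := by
  let R := (Over.star Z).rightAdjoint
  let adjR : Over.star Z ⊣ R := Adjunction.ofIsLeftAdjoint (Over.star Z)
  let adj1 : Over.star Z ⋙ Over.forget Z ⊣ Over.star Z ⋙ R := adjR.comp (Over.forgetAdjStar Z)
  let iso : ∀ T : Sheaf J (Type u), (Z ⨯ T) ≅ (Z ⊗ T) := fun T =>
    IsLimit.conePointUniqueUpToIso (prodIsProd Z T)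
      (CartesianMonoidalCategory.tensorProductIsBinaryProduct Z T)
  have key1 : ∀ T : Sheaf J (Type u),
      (iso T).hom ≫ SemiCartesianMonoidalCategory.fst Z T = prod.fst := fun T =>
    IsLimit.conePointUniqueUpToIso_hom_comp _ _ (Discrete.mk WalkingPair.left)
  have key2 : ∀ T : Sheaf J (Type u),
      (iso T).hom ≫ SemiCartesianMonoidalCategory.snd Z T = prod.snd := fun T =>
    IsLimit.conePointUniqueUpToIso_hom_comp _ _ (Discrete.mk WalkingPair.right)
  let e : Over.star Z ⋙ Over.forget Z ≅ tensorLeft Z :=
    NatIso.ofComponents iso (by
      intro T T' f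
      apply CartesianMonoidalCategory.hom_ext
      · have h1 : ((Over.star Z ⋙ Over.forget Z).map f ≫ (iso T').hom) ≫
            SemiCartesianMonoidalCategory.fst Z T' = prod.fst :=
          (Category.assoc _ _ _).trans
            ((congrArg (fun t => (Over.star Z ⋙ Over.forget Z).map f ≫ t) (key1 T')).trans
              (by simp; exact (prod.map_fst (𝟙 Z) f).trans (Category.comp_id _)))
        have h2 : ((iso T).hom ≫ (tensorLeft Z).map f) ≫
            SemiCartesianMonoidalCategory.fst Z T' = prod.fst :=
          (Category.assoc _ _ _).trans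
            ((congrArg (fun t => (iso T).hom ≫ t)
              (CartesianMonoidalCategory.whiskerLeft_fst Z f)).trans (key1 T))
        exact h1.trans h2.symm
      · have h1 : ((Over.star Z ⋙ Over.forget Z).map f ≫ (iso T').hom) ≫
            SemiCartesianMonoidalCategory.snd Z T' = prod.snd ≫ f :=
          (Category.assoc _ _ _).trans
            ((congrArg (fun t => (Over.star Z ⋙ Over.forget Z).map f ≫ t) (key2 T')).trans
              (by simp; exact prod.map_snd (𝟙 Z) f))
        have h2 : ((iso T).hom ≫ (tensorLeft Z).map f) ≫
            SemiCartesianMonoidalCategory.snd Z T' = prod.snd ≫ f :=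
          (Category.assoc _ _ _).trans
            ((congrArg (fun t => (iso T).hom ≫ t)
              (CartesianMonoidalCategory.whiskerLeft_snd Z f)).trans
              ((Category.assoc _ _ _).symm.trans (congrArg (fun t => t ≫ f) (key2 T))))
        exact h1.trans h2.symm)
  let adj1' : tensorLeft Z ⊣ Over.star Z ⋙ R := adj1.ofNatIsoLeft e
  exact ⟨(adj1'.rightAdjointUniq (ihom.adjunction Z)).app Y⟩

end Groth.Agent.S6172
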