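import Mathlib
import Groth.Statements.S6173
-- import your own Groth.Agent.* helpers here

set_option autoImplicit false
universe u
open CategoryTheory
open SGA4

namespace Groth.Agent.S6173

/-- Second assertion (topos of sheaves on a small site (C, J); E/X_i the induced topoi, modelled by the
sites (C/X_i, J/X_i); 'enough points' = a small conservative family of points, equivalently all
fibre functors together are conservative): if (X_i) is a family of objects covering the final object
and every E/X_i has enough points, then E has enough points. (The first assertion, that E/X inherits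
enough points from E, is Mathlib's instance.) -/
theorem result {C : Type u} [SmallCategory C] (J : GrothendieckTopology C) {ι : Type u}
    (X : ι → C) (hX : J.CoversTop X) (h : ∀ i, GrothendieckTopology.HasEnoughPoints.{u} (J.over (X i))) :
    GrothendieckTopology.HasEnoughPoints.{u} J := by
  classical
  choose P hPsmall hPcons using fun i => (h i).exists_objectProperty
  let Q : ObjectProperty (GrothendieckTopology.Point.{u} J) :=
    ObjectProperty.ofObj (fun ψ : Σ i, (P i).FullSubcategory => ψ.2.obj.map (Over.forget (X ψ.1)) J)
  have : ∀ i, ObjectProperty.Small.{u} (P i) := hPsmall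
  refine ⟨Q, inferInstance, ⟨⟨?_⟩⟩⟩
  intro F G f hf
  apply Sheaf.isIso_of_coversTop hX
  intro i
  have := (hPcons i).jointlyReflectIsomorphisms_type
  suffices hall : ∀ Ψ : (P i).FullSubcategory,
      IsIso (Ψ.obj.sheafFiber.map ((J.overPullback (Type u) (X i)).map f)) from this.isIso _
  intro Ψ
  let Φ : Q.FullSubcategory := ⟨Ψ.obj.map (Over.forget (X i)) J,
    ObjectProperty.ofObj_apply (fun ψ : Σ i, (P i).FullSubcategory =>
      ψ.2.obj.map (Over.forget (X ψ.1)) J) ⟨i, Ψ⟩⟩
  have h1 : IsIso (Φ.obj.sheafFiber.map f) := hf Φ
  have e := Ψ.obj.sheafFiberMapIso (Over.forget (X i)) J (Type u)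
  have h2 : IsIso (((Over.forget (X i)).sheafPushforwardContinuous (Type u) (J.over (X i)) J ⋙
      Ψ.obj.sheafFiber).map f) :=
    (NatIso.isIso_map_iff e f).mp h1
  exact h2

end Groth.Agent.S6173
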