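import Mathlib
import Groth.Statements.S6176
-- import your own Groth.Agent.* helpers here

set_option autoImplicit false
universe u
open CategoryTheory
open SGA4

namespace Groth.Agent.S6176

open CategoryTheory.Limits in
/-- The clause on products (topos of sheaves of sets on a small site; j : E/U -> E the open embedding
defined by an open U, i.e. a subobject of the final object, so that j_! is the forgetful functor
from objects over U): j_! commutes with products indexed by a nonempty u-small set. (Commutation
with fibre products and cofiltered limits, the other clauses, holds for the forgetful functor of any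
slice.) -/
theorem result {C : Type u} [SmallCategory C] (J : GrothendieckTopology C)
    (U : Sheaf J (Type u)) (hU : SGA4.IsOpen U) (I : Type u) [Nonempty I] :
    PreservesLimitsOfShape (Discrete I) (Over.forget U) := by
  have hsub : ∀ {T : Sheaf J (Type u)} (a b : T ⟶ U), a = b := by
    intro T a b
    have : Mono (terminal.from U) := hU
    rw [← cancel_mono (terminal.from U)]
    exact Subsingleton.elim _ _
  obtain ⟨i₀⟩ := ‹Nonempty I›
  constructor
  intro F
  constructor
  intro c hc
  refine ⟨?_⟩
  let mkCone : Cone (F ⋙ Over.forget U) → Cone F := fun s =>
    { pt := Over.mk (s.π.app ⟨i₀⟩ ≫ (F.obj ⟨i₀⟩).hom)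
      π := Discrete.natTrans (fun j => Over.homMk (s.π.app j) (hsub _ _)) }
  refine
    { lift := fun s => (hc.lift (mkCone s)).left
      fac := ?_
      uniq := ?_ }
  · intro s j
    have := hc.fac (mkCone s) j
    have h2 := congrArg CommaMorphism.left this
    exact h2
  · intro s m hm
    let m' : (mkCone s).pt ⟶ c.pt := Over.homMk m (hsub _ _)
    have : m' = hc.lift (mkCone s) := by
      apply hc.uniq (mkCone s) m'
      intro j
      apply Over.OverMorphism.ext
      exact hm j
    have h2 := congrArg CommaMorphism.left this
    exact h2

end Groth.Agent.S6176
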