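import Mathlib
import Groth.Statements.S6177
-- import your own Groth.Agent.* helpers here

set_option autoImplicit false
universe u
open CategoryTheory
open SGA4

namespace Groth.Agent.S6177

open CategoryTheory.Limits in
/-- Topos of sheaves of sets on a small site; U an open, i.e. a subobject of the final object; X_CU the
pushout of U <- U x X -> X along the two projections: (ii) <=> (iii): the canonical map X -> X_CU is
an isomorphism if and only if the projection U x X -> U is an isomorphism (X belongs to the closed
complement of U); and (i) => (iii): if X is isomorphic to Y_CU for some Y then X belongs to the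
closed complement of U ((iii) => (i) with Y = X is then immediate from (ii)). -/
theorem result {C : Type u} [SmallCategory C] (J : GrothendieckTopology C)
    (U : Sheaf J (Type u)) (hU : SGA4.IsOpen U) (X : Sheaf J (Type u)) :
    (SGA4.closedCompl U X ↔ IsIso (pushout.inr (prod.fst : U ⨯ X ⟶ U) (prod.snd : U ⨯ X ⟶ X))) ∧
    ((∃ Y : Sheaf J (Type u), Nonempty (X ≅ pushout (prod.fst : U ⨯ Y ⟶ U) (prod.snd : U ⨯ Y ⟶ Y))) →
      SGA4.closedCompl U X) := by
  have hsub : ∀ {T : Sheaf J (Type u)} (a b : T ⟶ U), a = b := by
    intro T a b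
    have : Mono (terminal.from U) := hU
    rw [← cancel_mono (terminal.from U)]
    exact Subsingleton.elim _ _
  -- (c): the pushout always lies in the closed complement
  have hc : ∀ Y : Sheaf J (Type u),
      SGA4.closedCompl U (pushout (prod.fst : U ⨯ Y ⟶ U) (prod.snd : U ⨯ Y ⟶ Y)) := by
    intro Y
    let f : U ⨯ Y ⟶ U := prod.fst
    let g : U ⨯ Y ⟶ Y := prod.snd
    let F : Sheaf J (Type u) ⥤ Sheaf J (Type u) := MonoidalCategory.tensorLeft U
    have : PreservesColimitsOfSize.{0, 0} F :=
      (ihom.adjunction U).leftAdjoint_preservesColimits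
    have hpo : IsPushout (F.map f) (F.map g) (F.map (pushout.inl f g)) (F.map (pushout.inr f g)) :=
      (IsPushout.of_hasPushout f g).map F
    -- `F.map g` is an isomorphism
    have hFg : F.map g = MonoidalCategoryStruct.whiskerLeft U g := rfl
    have hg : IsIso (F.map g) := by
      rw [hFg]
      refine ⟨CartesianMonoidalCategory.lift (CartesianMonoidalCategory.fst U Y)
        (prod.lift (CartesianMonoidalCategory.fst U Y) (CartesianMonoidalCategory.snd U Y)), ?_, ?_⟩
      · apply CartesianMonoidalCategory.hom_ext
        · exact hsub _ _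
        · rw [Category.assoc, CartesianMonoidalCategory.lift_snd, Category.id_comp]
          apply Limits.prod.hom_ext
          · exact hsub _ _
          · rw [Category.assoc, prod.lift_snd]
            exact CartesianMonoidalCategory.whiskerLeft_snd U g
      · apply CartesianMonoidalCategory.hom_ext
        · exact hsub _ _
        · rw [Category.assoc, Category.id_comp]
          have h1 : MonoidalCategoryStruct.whiskerLeft U g ≫ CartesianMonoidalCategory.snd U Y =
              CartesianMonoidalCategory.snd U (U ⨯ Y) ≫ g :=
            CartesianMonoidalCategory.whiskerLeft_snd U g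
          rw [h1, CartesianMonoidalCategory.lift_snd_assoc]
          exact prod.lift_snd _ _
    have hinl : IsIso (F.map (pushout.inl f g)) := hpo.isIso_inl_of_isIso hg
    have hfstUU : IsIso (CartesianMonoidalCategory.fst U U) := by
      refine ⟨CartesianMonoidalCategory.lift (𝟙 U) (𝟙 U), ?_, ?_⟩
      · apply CartesianMonoidalCategory.hom_ext
        · exact hsub _ _
        · exact hsub _ _
      · simp
    -- iso between the two products
    let e : (U ⨯ pushout f g) ≅ (MonoidalCategory.tensorObj U (pushout f g)) :=
      IsLimit.conePointUniqueUpToIso (prodIsProd U (pushout f g))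
        (CartesianMonoidalCategory.tensorProductIsBinaryProduct U (pushout f g))
    have : (prod.fst : U ⨯ pushout f g ⟶ U) =
        e.hom ≫ inv (F.map (pushout.inl f g)) ≫ CartesianMonoidalCategory.fst U U := hsub _ _
    show IsIso (prod.fst : U ⨯ pushout f g ⟶ U)
    rw [this]
    infer_instance
  have hiso : ∀ {X Y : Sheaf J (Type u)} (e : X ≅ Y), SGA4.closedCompl U Y → SGA4.closedCompl U X := by
    intro X Y e hY
    have hY' : IsIso (prod.fst : U ⨯ Y ⟶ U) := hY
    have : (prod.fst : U ⨯ X ⟶ U) = prod.map (𝟙 U) e.hom ≫ (prod.fst : U ⨯ Y ⟶ U) := hsub _ _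
    show IsIso (prod.fst : U ⨯ X ⟶ U)
    rw [this]
    infer_instance
  refine ⟨⟨?_, ?_⟩, ?_⟩
  · intro hX
    have : IsIso (prod.fst : U ⨯ X ⟶ U) := hX
    infer_instance
  · intro hinr
    exact hiso (asIso (pushout.inr (prod.fst : U ⨯ X ⟶ U) (prod.snd : U ⨯ X ⟶ X))) (hc X)
  · rintro ⟨Y, ⟨e⟩⟩
    exact hiso e (hc Y)

end Groth.Agent.S6177
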