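import Mathlib
import Groth.Statements.S6239

set_option autoImplicit false
universe u
open CategoryTheory CategoryTheory.Limits AlgebraicGeometry
attribute [local instance] HasDerivedCategory.standard
open KSix

namespace Groth.Agent.S6239

/-- Let f : X ⟶ Y be a morphism with X quasi-compact and F a cochain complex of O_X-modules which is
perfect relative to f (pseudo-coherent relative to f in chart form, and locally on X of finite
stalkwise tor amplitude over the local rings of Y). Then F has finite perfect amplitude relative to
f: one interval [a, b] works at every point of X. -/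
theorem result {X Y : Scheme.{u}} [CompactSpace X] (f : X ⟶ Y)
    (F : CochainComplex X.Modules ℤ) (hF : DerSch.IsPerfectRel f F) :
    DerSch.HasFinitePerfAmplitudeRel f F := by
  classical
  obtain ⟨hpc, hloc⟩ := hF
  choose V a b hxV hV using hloc
  obtain ⟨t, ht⟩ := CompactSpace.elim_nhds_subcover (fun x => ((V x : X.Opens) : Set X))
    (fun x => (V x).isOpen.mem_nhds (hxV x))
  obtain ⟨B, hB⟩ := (t.image b).exists_le
  obtain ⟨A', hA'⟩ := (t.image (fun x => - a x)).exists_le
  refine ⟨-A', B, hpc, ?_⟩
  intro x'
  have hx' : x' ∈ ⋃ x ∈ t, ((V x : X.Opens) : Set X) := by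
    rw [ht]
    trivial
  simp only [Set.mem_iUnion] at hx'
  obtain ⟨x, hxt, hx'V⟩ := hx'
  obtain ⟨E, hE, hfl, hiso⟩ := hV x x' hx'V
  have h1 : b x ≤ B := hB _ (Finset.mem_image_of_mem _ hxt)
  have h2 : - a x ≤ A' := hA' _ (Finset.mem_image_of_mem (fun x => - a x) hxt)
  refine ⟨E, ?_, hfl, hiso⟩
  intro i hi
  apply hE i
  rcases hi with hi | hi
  · left
    omega
  · right
    omega

end Groth.Agent.S6239
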