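import Groth.Statements.S6264
import Groth.Agent.Lib.helper10.LocPrime

set_option autoImplicit false
universe u
open CAlg

namespace Groth.Agent.S6264

open Groth.Agent.Lib.helper10 in
/-- Let R → S be a ring map with the going-up property and p a prime of R such that exactly one prime q
of S lies over p. Then the localization S_p of S at the image of R - p is a localization of S at q,
i.e. S_p = S_q. -/
theorem result {R S : Type u} [CommRing R] [CommRing S] [Algebra R S] [Algebra.HasGoingUp R S] (p : Ideal R) [p.IsPrime] (q : Ideal S) [q.IsPrime] [q.LiesOver p] (huniq : ∀ q' : Ideal S, q'.IsPrime → q'.under R = p → q' = q) : IsLocalization.AtPrime (Localization (Algebra.algebraMapSubmonoid S p.primeCompl)) q := by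
  apply isLocalization_atPrime_of_forall_le (Algebra.algebraMapSubmonoid S p.primeCompl)
  · rintro _ ⟨r, hr, rfl⟩ hq
    apply hr
    rw [Ideal.LiesOver.over (p := p) (P := q)]
    exact hq
  · intro q' hq' hdisj
    have hle : q'.under R ≤ p := by
      intro r hr
      by_contra hrp
      exact Set.disjoint_left.mp hdisj ⟨r, hrp, rfl⟩ hr
    haveI : q'.LiesOver (q'.under R) := ⟨rfl⟩
    obtain ⟨Q, hQ, hQp, hQo⟩ := Ideal.exists_ideal_ge_liesOver_of_le (p := q'.under R) (q := p) q' hle
    have := huniq Q hQp (Ideal.LiesOver.over (p := p) (P := Q)).symm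
    rw [← this]
    exact hQ

end Groth.Agent.S6264
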