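import Groth.Statements.S6894
import Mathlib
import Groth.Agent.Lib.helper27.Fitting

set_option autoImplicit false
universe u
open TensorProduct
open Fitt

namespace Groth.Agent.S6894aux
open Groth.Agent.Lib.helper27.Fitting TensorProduct


variable {R : Type u} [CommRing R] (M : Type u) [AddCommGroup M] [Module R M] [Module.Finite R M]

lemma not_le_of_loc_gen (S : Submonoid R) (k : ℕ) (p : Ideal R) (hS : Disjoint (S : Set R) (p : Set R))
    (h : ∃ g : Fin k → LocalizedModule S M, Submodule.span (Localization S) (Set.range g) = ⊤) :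
    ¬ Fitt.ideal R M k ≤ p := by
  obtain ⟨g, hg⟩ := h
  have h1 := ideal_eq_top_of_span g hg (le_refl k)
  rw [ideal_localizedModule] at h1
  have h2 := (IsLocalization.map_algebraMap_ne_top_iff_disjoint S (Localization S)
    (Fitt.ideal R M k)).not.1 (by simpa using h1)
  rw [Set.not_disjoint_iff] at h2
  obtain ⟨s, hs1, hs2⟩ := h2
  intro hle
  exact Set.disjoint_left.1 hS hs1 (hle hs2)

lemma loc_gen_of_not_le (k : ℕ) (p : Ideal R) (h : ¬ Fitt.ideal R M k ≤ p) :
    ∃ d : R, d ∉ p ∧ ∀ S : Submonoid R, d ∈ S →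
      ∃ g : Fin k → LocalizedModule S M, Submodule.span (Localization S) (Set.range g) = ⊤ := by
  obtain ⟨n, x, hx⟩ := Module.Finite.exists_fin (R := R) (M := M)
  obtain ⟨z, e, hz, hd⟩ := exists_minor_notMem x hx k p h
  exact ⟨_, hd, fun S hS => exists_fin_span_localizedModule S x hx k (Or.inr ⟨z, e, hz, hS⟩)⟩

theorem part1 (k : ℕ) (p : Ideal R) [p.IsPrime] :
    ¬ Fitt.ideal R M k ≤ p ↔ Module.finrank p.ResidueField (p.ResidueField ⊗[R] M) ≤ k := by
  have hbc : Fitt.ideal p.ResidueField (p.ResidueField ⊗[R] M) k =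
      (Fitt.ideal R M k).map (algebraMap R p.ResidueField) := ideal_baseChange k
  let b := Module.finBasis p.ResidueField (p.ResidueField ⊗[R] M)
  constructor
  · intro h
    by_contra hlt
    push Not at hlt
    have h1 := ideal_eq_bot_of_basis b hlt
    rw [hbc, Ideal.map_eq_bot_iff_le_ker, Ideal.ker_algebraMap_residueField] at h1
    exact h h1
  · intro hle hcon
    have h1 := ideal_eq_top_of_basis b hle
    rw [hbc] at h1
    have h2 : (Fitt.ideal R M k).map (algebraMap R p.ResidueField) = ⊥ := by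
      rw [Ideal.map_eq_bot_iff_le_ker, Ideal.ker_algebraMap_residueField]; exact hcon
    rw [h2] at h1
    exact bot_ne_top h1

theorem part2 (k : ℕ) (p : Ideal R) [p.IsPrime] :
    ¬ Fitt.ideal R M k ≤ p ↔
      ∃ g : Fin k → LocalizedModule p.primeCompl M,
        Submodule.span (Localization.AtPrime p) (Set.range g) = ⊤ := by
  constructor
  · intro h
    obtain ⟨d, hd, hS⟩ := loc_gen_of_not_le M k p h
    exact hS p.primeCompl hd
  · intro h
    refine not_le_of_loc_gen M p.primeCompl k p ?_ h
    rw [Set.disjoint_left]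
    intro a ha hap
    exact ha hap

theorem part3 (k : ℕ) (p : Ideal R) [p.IsPrime] :
    ¬ Fitt.ideal R M k ≤ p ↔ ∃ f : R, f ∉ p ∧
      ∃ g : Fin k → LocalizedModule (Submonoid.powers f) M,
        Submodule.span (Localization.Away f) (Set.range g) = ⊤ := by
  constructor
  · intro h
    obtain ⟨d, hd, hS⟩ := loc_gen_of_not_le M k p h
    exact ⟨d, hd, hS (Submonoid.powers d) (Submonoid.mem_powers d)⟩
  · rintro ⟨f, hf, h⟩
    refine not_le_of_loc_gen M (Submonoid.powers f) k p ?_ h
    rw [Set.disjoint_left]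
    rintro a ⟨m, rfl⟩ hap
    exact hf (Ideal.IsPrime.mem_of_pow_mem inferInstance m hap)

end Groth.Agent.S6894aux

namespace Groth.Agent.S6894

/-- Let `M` be a finite `R`-module, `k ≥ 0` and `𝔭 ⊆ R` a prime. Then each of the following conditions
implies all the others: the Fitting ideal `Fit_k(M)` is not contained in `𝔭`; the fiber `M ⊗_R κ(𝔭)`
has dimension at most `k` over `κ(𝔭)`; some `k` elements span the localization `M_𝔭` over `R_𝔭`; and
for some `f ∉ 𝔭`, the module `M_f` is spanned over `R_f` by `k` elements. -/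
theorem result {R : Type u} [CommRing R] (M : Type u) [AddCommGroup M] [Module R M]
    [Module.Finite R M] (k : ℕ) (p : Ideal R) [p.IsPrime] :
    (¬ Fitt.ideal R M k ≤ p ↔ Module.finrank p.ResidueField (p.ResidueField ⊗[R] M) ≤ k) ∧
    (¬ Fitt.ideal R M k ≤ p ↔
      ∃ g : Fin k → LocalizedModule p.primeCompl M, Submodule.span (Localization.AtPrime p) (Set.range g) = ⊤) ∧
    (¬ Fitt.ideal R M k ≤ p ↔ ∃ f : R, f ∉ p ∧
      ∃ g : Fin k → LocalizedModule (Submonoid.powers f) M,
        Submodule.span (Localization.Away f) (Set.range g) = ⊤) := by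
  exact ⟨Groth.Agent.S6894aux.part1 M k p, Groth.Agent.S6894aux.part2 M k p,
    Groth.Agent.S6894aux.part3 M k p⟩

end Groth.Agent.S6894
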