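import Groth.Statements.S6895
import Mathlib
import Groth.Agent.Lib.helper27.Fitting

set_option autoImplicit false
universe u
open Fitt

namespace Groth.Agent.S6895aux
open Groth.Agent.Lib.helper27.Fitting TensorProduct


variable {R : Type u} [CommRing R] (M : Type u) [AddCommGroup M] [Module R M] [Module.Finite R M]

lemma nontrivial_away {p : Ideal R} [p.IsPrime] {f : R} (hf : f ∉ p) :
    Nontrivial (Localization.Away f) := by
  by_contra h
  rw [not_nontrivial_iff_subsingleton] at h
  have h0 : (0 : R) ∈ Submonoid.powers f := by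
    have : algebraMap R (Localization.Away f) 1 = 0 := Subsingleton.elim _ _
    rw [IsLocalization.map_eq_zero_iff (Submonoid.powers f)] at this
    obtain ⟨s, hs⟩ := this
    rw [mul_one] at hs
    rw [← hs]; exact s.2
  obtain ⟨m, hm⟩ := h0
  have hm' : f ^ m = 0 := hm
  exact hf (Ideal.IsPrime.mem_of_pow_mem inferInstance m (by rw [hm']; exact p.zero_mem))

theorem forward (r : ℕ)
    (h : ∀ (p : Ideal R) [p.IsPrime], ∃ f : R, f ∉ p ∧
      Module.Free (Localization.Away f) (LocalizedModule (Submonoid.powers f) M) ∧
        Module.finrank (Localization.Away f) (LocalizedModule (Submonoid.powers f) M) = r) :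
    (∀ k, k < r → Fitt.ideal R M k = ⊥) ∧ (∀ k, r ≤ k → Fitt.ideal R M k = ⊤) := by
  constructor
  · intro k hk
    rw [eq_bot_iff]
    intro d hd
    rw [Ideal.mem_bot]
    by_contra hd0
    have hI : (Ideal.span {d}).annihilator ≠ ⊤ := by
      intro htop
      have : (1 : R) ∈ (Ideal.span {d}).annihilator := by rw [htop]; trivial
      rw [Submodule.mem_annihilator_span_singleton] at this
      exact hd0 (by simpa using this)
    obtain ⟨p, hp, hIp⟩ := Ideal.exists_le_maximal _ hI
    have : p.IsPrime := hp.isPrime
    obtain ⟨f, hf, hfree, hrank⟩ := h p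
    have : Nontrivial (Localization.Away f) := nontrivial_away hf
    let b := Module.finBasisOfFinrankEq (Localization.Away f)
      (LocalizedModule (Submonoid.powers f) M) hrank
    have h1 := ideal_eq_bot_of_basis b hk
    rw [ideal_localizedModule, eq_bot_iff] at h1
    have h2 : algebraMap R (Localization.Away f) d = 0 := by
      have := h1 (Ideal.mem_map_of_mem _ hd)
      simpa using this
    rw [IsLocalization.map_eq_zero_iff (Submonoid.powers f)] at h2
    obtain ⟨⟨s, m, rfl⟩, hs⟩ := h2
    have hmem : f ^ m ∈ (Ideal.span {d}).annihilator := by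
      rw [Submodule.mem_annihilator_span_singleton]
      simpa using hs
    exact hf (Ideal.IsPrime.mem_of_pow_mem inferInstance m (hIp hmem))
  · intro k hk
    by_contra hne
    obtain ⟨p, hp, hIp⟩ := Ideal.exists_le_maximal _ hne
    have : p.IsPrime := hp.isPrime
    obtain ⟨f, hf, hfree, hrank⟩ := h p
    have : Nontrivial (Localization.Away f) := nontrivial_away hf
    let b := Module.finBasisOfFinrankEq (Localization.Away f)
      (LocalizedModule (Submonoid.powers f) M) hrank
    have h1 := ideal_eq_top_of_basis b hk
    rw [ideal_localizedModule] at h1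
    have h2 := (IsLocalization.map_algebraMap_ne_top_iff_disjoint (Submonoid.powers f)
      (Localization.Away f) (Fitt.ideal R M k)).not.1 (by simpa using h1)
    rw [Set.not_disjoint_iff] at h2
    obtain ⟨s, ⟨m, rfl⟩, hs2⟩ := h2
    exact hf (Ideal.IsPrime.mem_of_pow_mem inferInstance m (hIp hs2))

theorem backward (r : ℕ)
    (h : (∀ k, k < r → Fitt.ideal R M k = ⊥) ∧ (∀ k, r ≤ k → Fitt.ideal R M k = ⊤))
    (p : Ideal R) [p.IsPrime] : ∃ f : R, f ∉ p ∧
      Module.Free (Localization.Away f) (LocalizedModule (Submonoid.powers f) M) ∧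
        Module.finrank (Localization.Away f) (LocalizedModule (Submonoid.powers f) M) = r := by
  have hnot : ¬ Fitt.ideal R M r ≤ p := by
    rw [h.2 r le_rfl, top_le_iff]
    exact Ideal.IsPrime.ne_top inferInstance
  obtain ⟨n, x, hx⟩ := Module.Finite.exists_fin (R := R) (M := M)
  obtain ⟨z, e, hz, hd⟩ := exists_minor_notMem x hx r p hnot
  set d := (Matrix.of fun a b => z b (e a)).det with hd'
  obtain ⟨g, hg⟩ := exists_fin_span_localizedModule (Submonoid.powers d) x hx r
    (Or.inr ⟨z, e, hz, Submonoid.mem_powers d⟩)
  have : Nontrivial (Localization.Away d) := nontrivial_away hd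
  have hli : LinearIndependent (Localization.Away d) g := by
    apply linearIndependent_of_ideal_eq_bot g hg
    intro j hj
    rw [ideal_localizedModule, h.1 j hj, Ideal.map_bot]
  let b : Module.Basis (Fin r) (Localization.Away d) (LocalizedModule (Submonoid.powers d) M) :=
    Module.Basis.mk hli (by rw [hg])
  refine ⟨d, hd, Module.Free.of_basis b, ?_⟩
  rw [Module.finrank_eq_card_basis b, Fintype.card_fin]

end Groth.Agent.S6895aux

namespace Groth.Agent.S6895

/-- (1) ⇔ (3): let `M` be a finite `R`-module and `r ≥ 0`. Then `M` is finite locally free of rank `r`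
(every prime has a basic open neighbourhood `D(f)` with `M_f` free of rank `r` over `R_f`) if and
only if `Fit_k(M) = 0` for `k < r` and `Fit_k(M) = R` for `k ≥ r`. -/
theorem result {R : Type u} [CommRing R] (M : Type u) [AddCommGroup M] [Module R M]
    [Module.Finite R M] (r : ℕ) :
    (∀ (p : Ideal R) [p.IsPrime], ∃ f : R, f ∉ p ∧
      Module.Free (Localization.Away f) (LocalizedModule (Submonoid.powers f) M) ∧
        Module.finrank (Localization.Away f) (LocalizedModule (Submonoid.powers f) M) = r) ↔
    ((∀ k, k < r → Fitt.ideal R M k = ⊥) ∧ (∀ k, r ≤ k → Fitt.ideal R M k = ⊤)) := by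
  exact ⟨fun h => Groth.Agent.S6895aux.forward M r h,
    fun h p _ => Groth.Agent.S6895aux.backward M r h p⟩

end Groth.Agent.S6895
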