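import Groth.Statements.S6266
import Mathlib
import Groth.Agent.S6894
import Groth.Agent.S6895
import Groth.Agent.Lib.helper27.Fitting

set_option autoImplicit false
universe u
open scoped TensorProduct
open CAlg

namespace Groth.Agent.S6266

open Groth.Agent.Lib.helper27.Fitting TensorProduct in
theorem exists_free_away (R : Type u) [CommRing R] [IsReduced R] (M : Type u) [AddCommGroup M]
    [Module R M] [Module.Finite R M]
    (hlc : IsLocallyConstant (fun p : PrimeSpectrum R =>
      Module.finrank p.asIdeal.ResidueField (p.asIdeal.ResidueField ⊗[R] M)))
    (p : Ideal R) [hp : p.IsPrime] : ∃ f : R, f ∉ p ∧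
      Module.Free (Localization.Away f) (LocalizedModule (Submonoid.powers f) M) := by
  classical
  set rk : PrimeSpectrum R → ℕ := fun q =>
    Module.finrank q.asIdeal.ResidueField (q.asIdeal.ResidueField ⊗[R] M) with hrk
  set r := rk ⟨p, hp⟩ with hr
  have hopen : IsOpen {q | rk q = r} := hlc.isOpen_fiber r
  obtain ⟨g, hgp, hgU⟩ : ∃ g : R, g ∉ p ∧ ∀ q : PrimeSpectrum R, g ∉ q.asIdeal → rk q = r := by
    have hmem : (⟨p, hp⟩ : PrimeSpectrum R) ∈ {q | rk q = r} := rfl
    obtain ⟨_, ⟨g, rfl⟩, hpg, hsub⟩ :=
      PrimeSpectrum.isTopologicalBasis_basic_opens.exists_subset_of_mem_open hmem hopen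
    exact ⟨g, hpg, fun q hq => hsub hq⟩
  have hnot : ¬ Fitt.ideal R M r ≤ p := ((Groth.Agent.S6894.result (R := R) M r p).1).mpr le_rfl
  obtain ⟨n, x, hx⟩ := Module.Finite.exists_fin (R := R) (M := M)
  obtain ⟨z, e, hz, hd⟩ := exists_minor_notMem x hx r p hnot
  set d := (Matrix.of fun a b => z b (e a)).det with hd'
  set f := d * g with hf
  have hfp : f ∉ p := fun h => (Ideal.IsPrime.mem_or_mem hp h).elim hd hgp
  obtain ⟨gen, hgen⟩ : ∃ gen : Fin r → LocalizedModule (Submonoid.powers f) M,
      Submodule.span (Localization (Submonoid.powers f)) (Set.range gen) = ⊤ := by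
    by_cases hnr : n ≤ r
    · exact exists_fin_span_localizedModule _ x hx r (Or.inl hnr)
    · have hpos : 0 < n - r := by omega
      let b₀ : Fin (n - r) := ⟨0, hpos⟩
      let z' : Fin (n - r) → Fin n → R := fun b i => if b = b₀ then g * z b i else z b i
      refine exists_fin_span_localizedModule _ x hx r (Or.inr ⟨z', e, ?_, ?_⟩)
      · intro b
        by_cases hb : b = b₀
        · have h1 : ∀ i, z' b i • x i = g • (z b i • x i) := by
            intro i
            simp only [z', hb, if_true, mul_smul]
          simp only [h1, ← Finset.smul_sum, hz b, smul_zero]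
        · have h1 : ∀ i, z' b i • x i = z b i • x i := by
            intro i
            simp only [z', hb, if_false]
          simp only [h1, hz b]
      · have hmat : (Matrix.of fun a b => z' b (e a)) =
            Matrix.updateCol (Matrix.of fun a b => z b (e a)) b₀
              (g • fun a => (Matrix.of fun a b => z b (e a)) a b₀) := by
          ext a b
          by_cases hb : b = b₀
          · subst hb
            simp [z', Matrix.updateCol_self]
          · simp [z', hb, Matrix.updateCol_ne hb]
        have hdet : (Matrix.of fun a b => z' b (e a)).det = f := by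
          rw [hmat, Matrix.det_updateCol_smul, Matrix.updateCol_eq_self, hf, mul_comm]
        rw [hdet]
        exact Submonoid.mem_powers f
  haveI : Nontrivial (Localization.Away f) := Groth.Agent.S6895aux.nontrivial_away hfp
  have hli : LinearIndependent (Localization.Away f) gen := by
    apply linearIndependent_of_ideal_eq_bot gen hgen
    intro j hj
    rw [ideal_localizedModule, eq_bot_iff, Ideal.map_le_iff_le_comap]
    intro a ha
    rw [Ideal.mem_comap, Ideal.mem_bot]
    have hfa : f * a = 0 := by
      have hnil : IsNilpotent (f * a) := by
        rw [nilpotent_iff_mem_prime]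
        intro q hq
        by_cases hfq : f ∈ q
        · exact q.mul_mem_right _ hfq
        · have hgq : g ∉ q := fun h => hfq (q.mul_mem_left _ h)
          have hrq : rk ⟨q, hq⟩ = r := hgU ⟨q, hq⟩ hgq
          have hle : Fitt.ideal R M j ≤ q := by
            by_contra hcon
            have h2 := ((Groth.Agent.S6894.result (R := R) M j q).1).mp hcon
            have h3 : rk ⟨q, hq⟩ ≤ j := h2
            omega
          exact q.mul_mem_left _ (hle ha)
      exact hnil.eq_zero
    rw [IsLocalization.map_eq_zero_iff (Submonoid.powers f)]
    exact ⟨⟨f, Submonoid.mem_powers f⟩, hfa⟩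
  let b : Module.Basis (Fin r) (Localization.Away f) (LocalizedModule (Submonoid.powers f) M) :=
    Module.Basis.mk hli (by rw [hgen])
  exact ⟨f, hfp, Module.Free.of_basis b⟩

/-- Let R be a reduced ring and M an R-module. Then M is a finite projective R-module if and only if M
is finitely generated and the function on Spec R sending a prime p to the dimension of κ(p) ⊗ M over
the residue field κ(p) is locally constant for the Zariski topology. -/
theorem result (R : Type u) [CommRing R] [IsReduced R] (M : Type u) [AddCommGroup M] [Module R M] : (Module.Finite R M ∧ Module.Projective R M) ↔ (Module.Finite R M ∧ IsLocallyConstant (fun p : PrimeSpectrum R => Module.finrank p.asIdeal.ResidueField (p.asIdeal.ResidueField ⊗[R] M))) := by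
  constructor
  · rintro ⟨hfin, hproj⟩
    haveI := hfin
    haveI := hproj
    haveI : Module.FinitePresentation R M := Module.finitePresentation_of_projective R M
    refine ⟨hfin, ?_⟩
    have h := Module.isLocallyConstant_rankAtStalk (R := R) (M := M)
    have heq : (fun p : PrimeSpectrum R =>
        Module.finrank p.asIdeal.ResidueField (p.asIdeal.ResidueField ⊗[R] M)) =
        Module.rankAtStalk M := funext fun p => (Module.rankAtStalk_eq p).symm
    rw [heq]
    exact h
  · rintro ⟨hfin, hlc⟩
    haveI := hfin
    refine ⟨hfin, ?_⟩
    let s : Set R := {f | Module.Free (Localization.Away f)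
      (LocalizedModule (Submonoid.powers f) M)}
    have hs : Ideal.span s = ⊤ := by
      by_contra hne
      obtain ⟨m, hm, hsm⟩ := Ideal.exists_le_maximal _ hne
      haveI := hm.isPrime
      obtain ⟨f, hfm, hfree⟩ := exists_free_away R M hlc m
      exact hfm (hsm (Ideal.subset_span hfree))
    haveI : Module.FinitePresentation R M :=
      Module.FinitePresentation.of_localizationSpan s hs (fun g => by
        haveI : Module.Free (Localization.Away g.1)
          (LocalizedModule (Submonoid.powers g.1) M) := g.2
        exact Module.finitePresentation_of_projective _ _)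
    haveI : Module.Flat R M := Module.flat_of_localized_span (S := R) (M := M) (s := s) (spn := hs) (h := fun g => by
      haveI : Module.Free (Localization.Away g.1)
        (LocalizedModule (Submonoid.powers g.1) M) := g.2
      exact Module.Flat.trans R (Localization.Away g.1) _)
    exact Module.Flat.projective_of_finitePresentation

end Groth.Agent.S6266
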