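import Groth.Statements.S6267
import Groth.Agent.Lib.helper10.Pure
import Mathlib
-- import your own Groth.Agent.* helpers here

set_option autoImplicit false
universe u
open CAlg

namespace Groth.Agent.S6267

theorem inj_of_bot {R : Type u} [CommRing R] {M M' : Type u} [AddCommGroup M] [Module R M]
    [AddCommGroup M'] [Module R M'] (f : M →ₗ[R] M')
    (h : Function.Injective (f.rTensor (R ⧸ (⊥ : Ideal R)))) : Function.Injective f := by
  -- R ⧸ ⊥ ≃ R
  let e : (R ⧸ (⊥ : Ideal R)) ≃ₗ[R] R :=
    (Submodule.quotEquivOfEqBot (⊥ : Ideal R) rfl)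
  have h2 : Function.Injective (f.rTensor R) := by
    have hc : f.rTensor R = (LinearEquiv.lTensor M' e).toLinearMap ∘ₗ (f.rTensor (R ⧸ (⊥ : Ideal R))) ∘ₗ
        (LinearEquiv.lTensor M e.symm).toLinearMap := by
      apply TensorProduct.ext'
      intro m r
      simp
    rw [hc]
    exact (LinearEquiv.injective (LinearEquiv.lTensor M' e)).comp (h.comp (LinearEquiv.injective (LinearEquiv.lTensor M e.symm)))
  intro x y hxy
  have : (f.rTensor R) (x ⊗ₜ[R] (1:R)) = (f.rTensor R) (y ⊗ₜ[R] (1:R)) := by simp [hxy]
  have h3 := h2 this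
  have h4 := congrArg (TensorProduct.rid R M) h3
  simpa using h4

/-- Let R be a ring and f : M → M' a map of R-modules with M' flat. Then f is universally injective
exactly when, for each finitely generated ideal I of R, the induced map M ⊗ R/I → M' ⊗ R/I (that is,
M/IM → M'/IM') is injective. -/
theorem result {R : Type u} [CommRing R] {M M' : Type u} [AddCommGroup M] [Module R M] [AddCommGroup M'] [Module R M'] [Module.Flat R M'] (f : M →ₗ[R] M') : CAlgX.UniversallyInjective R f ↔ ∀ I : Ideal R, I.FG → Function.Injective (f.rTensor (R ⧸ I)) := by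
  constructor
  · intro H I _
    exact H (R ⧸ I)
  · intro h
    have hf : Function.Injective f := inj_of_bot f (h ⊥ Submodule.fg_bot)
    have hex : Function.Exact f (LinearMap.range f).mkQ := LinearMap.exact_map_mkQ_range f
    have hs : Function.Surjective (LinearMap.range f).mkQ := Submodule.mkQ_surjective _
    have : Module.Flat R (M' ⧸ LinearMap.range f) :=
      Groth.Agent.Lib.helper10.flat_right_of_lTensor_quotient_injective f _ hex hs
        (fun I hI => (f.lTensor_inj_iff_rTensor_inj (R ⧸ I)).2 (h I hI))
    intro Q _ _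
    exact Groth.Agent.Lib.helper10.rTensor_injective_of_flat_quotient f _ hf hex hs Q

end Groth.Agent.S6267
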