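import Groth.Statements.S6268
import Mathlib.LinearAlgebra.TensorProduct.RightExactness

set_option autoImplicit false
universe u
open CAlg

namespace Groth.Agent.S6268

open TensorProduct in
theorem mk_injective {R S : Type u} [CommRing R] [CommRing S] [Algebra R S]
    (hS : CAlgX.UniversallyInjective R (Algebra.linearMap R S))
    (M : Type u) [AddCommGroup M] [Module R M] :
    Function.Injective (fun m : M => (1 : S) ⊗ₜ[R] m) := by
  have h := hS M
  have : (fun m : M => (1 : S) ⊗ₜ[R] m) =
      ((Algebra.linearMap R S).rTensor M) ∘ (TensorProduct.lid R M).symm := by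
    funext m
    simp
  rw [this]
  exact h.comp (TensorProduct.lid R M).symm.injective

open TensorProduct in
/-- Suppose the structure map R → S of an R-algebra S is universally injective as an R-linear map. Then
tensoring with S detects injectivity and surjectivity of R-linear maps (and hence reflects
isomorphisms): for an R-linear g : M → N, if S ⊗ g is injective then so is g, and if S ⊗ g is
surjective then so is g. -/
theorem result {R S : Type u} [CommRing R] [CommRing S] [Algebra R S] (hS : CAlgX.UniversallyInjective R (Algebra.linearMap R S)) {M N : Type u} [AddCommGroup M] [Module R M] [AddCommGroup N] [Module R N] (g : M →ₗ[R] N) : (Function.Injective (g.lTensor S) → Function.Injective g) ∧ (Function.Surjective (g.lTensor S) → Function.Surjective g) := by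
  constructor
  · intro h
    rw [injective_iff_map_eq_zero]
    intro m hm
    apply mk_injective hS M
    show (1 : S) ⊗ₜ[R] m = (1 : S) ⊗ₜ[R] (0 : M)
    rw [TensorProduct.tmul_zero]
    apply h
    rw [LinearMap.lTensor_tmul, hm, TensorProduct.tmul_zero, map_zero]
  · intro h
    -- cokernel
    set C := N ⧸ LinearMap.range g
    have hsub : Subsingleton (S ⊗[R] C) := by
      have hex : Function.Exact (g.lTensor S) ((LinearMap.range g).mkQ.lTensor S) :=
        lTensor_exact S (LinearMap.exact_map_mkQ_range g) (Submodule.mkQ_surjective _)
      have hsurj : Function.Surjective ((LinearMap.range g).mkQ.lTensor S) :=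
        LinearMap.lTensor_surjective S (Submodule.mkQ_surjective _)
      refine ⟨fun a b => ?_⟩
      obtain ⟨a', rfl⟩ := hsurj a
      obtain ⟨b', rfl⟩ := hsurj b
      obtain ⟨a'', rfl⟩ := h a'
      obtain ⟨b'', rfl⟩ := h b'
      rw [hex.apply_apply_eq_zero, hex.apply_apply_eq_zero]
    have hC : Subsingleton C := by
      refine ⟨fun a b => ?_⟩
      apply mk_injective hS C
      exact Subsingleton.elim _ _
    rw [← LinearMap.range_eq_top]
    exact Submodule.Quotient.subsingleton_iff.mp hC |> fun h => h

end Groth.Agent.S6268
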