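import Groth.Statements.S6272
import Mathlib
-- import your own Groth.Agent.* helpers here

set_option autoImplicit false
universe u
open scoped TensorProduct
open CAlg

namespace Groth.Agent.S6272

namespace H5S6272
open TensorProduct

variable {R : Type*} [CommRing R]

theorem lift_of_killed (I : Ideal R) {P : Type*} [AddCommGroup P] [Module R P]
    (hP : Module.Projective (R ⧸ I) ((R ⧸ I) ⊗[R] P))
    {M N : Type*} [AddCommGroup M] [Module R M] [AddCommGroup N] [Module R N]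
    (hM : ∀ a ∈ I, ∀ m : M, a • m = 0) (hN : ∀ a ∈ I, ∀ n : N, a • n = 0)
    (g : M →ₗ[R] N) (hg : Function.Surjective g) (f : P →ₗ[R] N) :
    ∃ h : P →ₗ[R] M, g ∘ₗ h = f := by
  have hM' : Module.IsTorsionBySet R M I := fun m a => hM a.1 a.2 m
  have hN' : Module.IsTorsionBySet R N I := fun n a => hN a.1 a.2 n
  letI := hM'.module
  letI := hN'.module
  have hs : Function.Surjective (algebraMap R (R ⧸ I)) := Ideal.Quotient.mk_surjective
  let g' : M →ₗ[R ⧸ I] N := g.extendScalarsOfSurjective hs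
  let f' : (R ⧸ I) ⊗[R] P →ₗ[R ⧸ I] N := f.liftBaseChange (R ⧸ I)
  obtain ⟨h', hh'⟩ := Module.projective_lifting_property g' f' hg
  refine ⟨(h'.restrictScalars R) ∘ₗ (TensorProduct.mk R (R ⧸ I) P 1), ?_⟩
  ext p
  have := LinearMap.congr_fun hh' (1 ⊗ₜ p)
  simpa [g', f'] using this

theorem killed_quot (I : Ideal R) {M : Type*} [AddCommGroup M] [Module R M]
    (N : Submodule R M) (hN : I • (⊤ : Submodule R M) ≤ N) :
    ∀ a ∈ I, ∀ m : M ⧸ N, a • m = 0 := by
  intro a ha m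
  obtain ⟨x, rfl⟩ := Submodule.Quotient.mk_surjective _ m
  rw [← Submodule.Quotient.mk_smul, Submodule.Quotient.mk_eq_zero]
  exact hN (Submodule.smul_mem_smul ha Submodule.mem_top)

theorem coord_mem (I : Ideal R) {P : Type*} (x : P →₀ R)
    (hx : x ∈ I • (⊤ : Submodule R (P →₀ R))) (p : P) : x p ∈ I := by
  induction hx using Submodule.smul_induction_on' with
  | smul a ha y _ => simpa using I.mul_mem_right _ ha
  | add y _ z _ hy hz => simpa using I.add_mem hy hz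

theorem smul_killed (I J : Ideal R) (hIJ : I ⊓ J = ⊥) {P : Type*} [AddCommGroup P] [Module R P]
    (a : R) (ha : a ∈ I) (y : P) (hy : y ∈ J • (⊤ : Submodule R P)) : a • y = 0 := by
  induction hy using Submodule.smul_induction_on' with
  | smul b hb m _ =>
    have : a * b ∈ I ⊓ J := ⟨I.mul_mem_right _ ha, J.mul_mem_left _ hb⟩
    rw [hIJ] at this
    rw [smul_smul, (Submodule.mem_bot R).1 this, zero_smul]
  | add y _ z _ hy hz => rw [smul_add, hy, hz, add_zero]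

theorem main (I J : Ideal R) (hIJ : I ⊓ J = ⊥) (P : Type*) [AddCommGroup P] [Module R P]
    (hI : Module.Projective (R ⧸ I) ((R ⧸ I) ⊗[R] P))
    (hJ : Module.Projective (R ⧸ J) ((R ⧸ J) ⊗[R] P)) : Module.Projective R P := by
  classical
  let π : (P →₀ R) →ₗ[R] P := Finsupp.linearCombination R id
  have hπ : Function.Surjective π := Finsupp.linearCombination_id_surjective R P
  set FI : Submodule R (P →₀ R) := I • ⊤ with hFI
  set FJ : Submodule R (P →₀ R) := J • ⊤ with hFJ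
  set PI : Submodule R P := I • ⊤ with hPI
  set PJ : Submodule R P := J • ⊤ with hPJ
  have hmapI : FI.map π = PI := by
    rw [hFI, Submodule.map_smul'', Submodule.map_top, LinearMap.range_eq_top.2 hπ]
  have hmapJ : FJ.map π = PJ := by
    rw [hFJ, Submodule.map_smul'', Submodule.map_top, LinearMap.range_eq_top.2 hπ]
  have hleI : FI ≤ PI.comap π := by rw [← Submodule.map_le_iff_le_comap, hmapI]
  have hleJ : FJ ≤ PJ.comap π := by rw [← Submodule.map_le_iff_le_comap, hmapJ]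
  let πI : ((P →₀ R) ⧸ FI) →ₗ[R] (P ⧸ PI) := Submodule.mapQ FI PI π hleI
  let πJ : ((P →₀ R) ⧸ FJ) →ₗ[R] (P ⧸ PJ) := Submodule.mapQ FJ PJ π hleJ
  have hπI : Function.Surjective πI := by
    intro y
    obtain ⟨p, rfl⟩ := Submodule.Quotient.mk_surjective _ y
    obtain ⟨x, rfl⟩ := hπ p
    exact ⟨Submodule.Quotient.mk x, rfl⟩
  have hπJ : Function.Surjective πJ := by
    intro y
    obtain ⟨p, rfl⟩ := Submodule.Quotient.mk_surjective _ y
    obtain ⟨x, rfl⟩ := hπ p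
    exact ⟨Submodule.Quotient.mk x, rfl⟩
  obtain ⟨s₁, hs₁⟩ := lift_of_killed I hI (killed_quot I FI le_rfl) (killed_quot I PI le_rfl)
    πI hπI PI.mkQ
  obtain ⟨s₂, hs₂⟩ := lift_of_killed J hJ (killed_quot J FJ le_rfl) (killed_quot J PJ le_rfl)
    πJ hπJ PJ.mkQ
  -- the common quotient
  let q₁ : ((P →₀ R) ⧸ FI) →ₗ[R] ((P →₀ R) ⧸ (FI ⊔ FJ)) := Submodule.factor le_sup_left
  let q₂ : ((P →₀ R) ⧸ FJ) →ₗ[R] ((P →₀ R) ⧸ (FI ⊔ FJ)) := Submodule.factor le_sup_right
  let K : Submodule R (P →₀ R) := LinearMap.ker π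
  let K₁ : Submodule R ((P →₀ R) ⧸ FI) := K.map FI.mkQ
  let K₁₂ : Submodule R ((P →₀ R) ⧸ (FI ⊔ FJ)) := K.map (FI ⊔ FJ).mkQ
  have hq₁K : ∀ x ∈ K₁, q₁ x ∈ K₁₂ := by
    rintro _ ⟨k, hk, rfl⟩
    exact ⟨k, hk, rfl⟩
  let q₁' : K₁ →ₗ[R] K₁₂ := q₁.restrict hq₁K
  have hq₁' : Function.Surjective q₁' := by
    rintro ⟨_, ⟨k, hk, rfl⟩⟩
    exact ⟨⟨FI.mkQ k, ⟨k, hk, rfl⟩⟩, rfl⟩
  let δ : P →ₗ[R] ((P →₀ R) ⧸ (FI ⊔ FJ)) := q₁ ∘ₗ s₁ - q₂ ∘ₗ s₂
  have hδ : ∀ p, δ p ∈ K₁₂ := by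
    intro p
    obtain ⟨x₁, hx₁⟩ := Submodule.Quotient.mk_surjective _ (s₁ p)
    obtain ⟨x₂, hx₂⟩ := Submodule.Quotient.mk_surjective _ (s₂ p)
    have h1 : π x₁ - p ∈ PI := by
      have := LinearMap.congr_fun hs₁ p
      rw [LinearMap.comp_apply, ← hx₁] at this
      exact (Submodule.Quotient.eq PI).1 this
    have h2 : π x₂ - p ∈ PJ := by
      have := LinearMap.congr_fun hs₂ p
      rw [LinearMap.comp_apply, ← hx₂] at this
      exact (Submodule.Quotient.eq PJ).1 this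
    rw [← hmapI] at h1
    rw [← hmapJ] at h2
    obtain ⟨u, hu, hu'⟩ := h1
    obtain ⟨v, hv, hv'⟩ := h2
    have hk : x₁ - x₂ - u + v ∈ K := by
      show π (x₁ - x₂ - u + v) = 0
      rw [map_add, map_sub, map_sub, hu', hv']
      abel
    refine ⟨x₁ - x₂ - u + v, hk, ?_⟩
    show _ = q₁ (s₁ p) - q₂ (s₂ p)
    rw [← hx₁, ← hx₂]
    show (FI ⊔ FJ).mkQ (x₁ - x₂ - u + v) = (FI ⊔ FJ).mkQ x₁ - (FI ⊔ FJ).mkQ x₂
    rw [← map_sub, ← sub_eq_zero, ← map_sub, Submodule.mkQ_apply, Submodule.Quotient.mk_eq_zero]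
    have : x₁ - x₂ - u + v - (x₁ - x₂) = -u + v := by abel
    rw [this]
    exact Submodule.add_mem _ (Submodule.neg_mem _ (Submodule.mem_sup_left hu))
      (Submodule.mem_sup_right hv)
  let δ' : P →ₗ[R] K₁₂ := δ.codRestrict K₁₂ hδ
  have hkill₁ : ∀ a ∈ I, ∀ m : K₁, a • m = 0 := by
    intro a ha m
    ext
    simpa using killed_quot I FI le_rfl a ha m.1
  have hkill₁₂ : ∀ a ∈ I, ∀ m : K₁₂, a • m = 0 := by
    intro a ha m
    ext
    simpa using killed_quot I (FI ⊔ FJ) le_sup_left a ha m.1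
  obtain ⟨δ₁, hδ₁⟩ := lift_of_killed I hI hkill₁ hkill₁₂ q₁' hq₁' δ'
  let s₁' : P →ₗ[R] ((P →₀ R) ⧸ FI) := s₁ - K₁.subtype ∘ₗ δ₁
  have hs₁' : ∀ p, πI (s₁' p) = PI.mkQ p := by
    intro p
    have h0 : πI (δ₁ p : (P →₀ R) ⧸ FI) = 0 := by
      obtain ⟨k, hk, hk'⟩ := (δ₁ p).2
      rw [← hk']
      show Submodule.Quotient.mk (π k) = 0
      rw [show π k = 0 from hk, Submodule.Quotient.mk_zero]
    show πI (s₁ p - (δ₁ p : (P →₀ R) ⧸ FI)) = _
    rw [map_sub, h0, sub_zero]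
    exact LinearMap.congr_fun hs₁ p
  have hcompat : ∀ p, q₁ (s₁' p) = q₂ (s₂ p) := by
    intro p
    have h0 : q₁ (δ₁ p : (P →₀ R) ⧸ FI) = δ p := by
      have := LinearMap.congr_fun hδ₁ p
      exact congrArg Subtype.val this
    show q₁ (s₁ p - (δ₁ p : (P →₀ R) ⧸ FI)) = _
    rw [map_sub, h0]
    show q₁ (s₁ p) - (q₁ (s₁ p) - q₂ (s₂ p)) = _
    abel
  -- gluing
  let Φ : (P →₀ R) →ₗ[R] ((P →₀ R) ⧸ FI) × ((P →₀ R) ⧸ FJ) := FI.mkQ.prod FJ.mkQ
  have hΦ : Function.Injective Φ := by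
    rw [← LinearMap.ker_eq_bot, LinearMap.ker_eq_bot']
    intro x hx
    have h1 : x ∈ FI := by
      have := congrArg Prod.fst hx
      exact (Submodule.Quotient.mk_eq_zero FI).1 this
    have h2 : x ∈ FJ := by
      have := congrArg Prod.snd hx
      exact (Submodule.Quotient.mk_eq_zero FJ).1 this
    ext p
    have : x p ∈ I ⊓ J := ⟨coord_mem I x h1 p, coord_mem J x h2 p⟩
    rw [hIJ] at this
    simpa using this
  let T : P →ₗ[R] ((P →₀ R) ⧸ FI) × ((P →₀ R) ⧸ FJ) := s₁'.prod s₂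
  have hT : ∀ p, T p ∈ LinearMap.range Φ := by
    intro p
    obtain ⟨x, hx⟩ := Submodule.Quotient.mk_surjective _ (s₁' p)
    obtain ⟨y, hy⟩ := Submodule.Quotient.mk_surjective _ (s₂ p)
    have h := hcompat p
    rw [← hx, ← hy] at h
    have h' : x - y ∈ FI ⊔ FJ := (Submodule.Quotient.eq (FI ⊔ FJ)).1 h
    obtain ⟨u, hu, v, hv, huv⟩ := Submodule.mem_sup.1 h'
    refine ⟨x - u, Prod.ext ?_ ?_⟩
    · show FI.mkQ (x - u) = s₁' p
      rw [← hx, map_sub, (Submodule.Quotient.mk_eq_zero FI).2 hu |> fun h => (h : FI.mkQ u = 0),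
        sub_zero]
      rfl
    · show FJ.mkQ (x - u) = s₂ p
      rw [← hy]
      have e : x - u = y + v := by
        have : x = y + (u + v) := by rw [huv]; abel
        rw [this]; abel
      rw [e, map_add, (Submodule.Quotient.mk_eq_zero FJ).2 hv |> fun h => (h : FJ.mkQ v = 0),
        add_zero]
      rfl
  let e := LinearEquiv.ofInjective Φ hΦ
  let s : P →ₗ[R] (P →₀ R) := e.symm.toLinearMap ∘ₗ T.codRestrict (LinearMap.range Φ) hT
  have hsΦ : ∀ p, Φ (s p) = T p := by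
    intro p
    have := e.apply_symm_apply (T.codRestrict (LinearMap.range Φ) hT p)
    exact congrArg Subtype.val this
  have hεI : ∀ p, π (s p) - p ∈ PI := by
    intro p
    have h1 : FI.mkQ (s p) = s₁' p := congrArg Prod.fst (hsΦ p)
    have h2 := hs₁' p
    rw [← h1] at h2
    exact (Submodule.Quotient.eq PI).1 h2
  have hεJ : ∀ p, π (s p) - p ∈ PJ := by
    intro p
    have h1 : FJ.mkQ (s p) = s₂ p := congrArg Prod.snd (hsΦ p)
    have h2 := LinearMap.congr_fun hs₂ p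
    rw [LinearMap.comp_apply, ← h1] at h2
    exact (Submodule.Quotient.eq PJ).1 h2
  let ε : P →ₗ[R] P := π ∘ₗ s - LinearMap.id
  have hε : ∀ p, ε p = π (s p) - p := fun p => rfl
  have hεε : ∀ p, ε (ε p) = 0 := by
    intro p
    have hmem : ε p ∈ PI := hεI p
    have key : ∀ x ∈ PI, ε x = 0 := by
      intro x hx
      induction hx using Submodule.smul_induction_on' with
      | smul a ha m _ =>
        rw [map_smul]
        exact smul_killed I J hIJ a ha _ (hεJ m)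
      | add y _ z _ hy hz => rw [map_add, hy, hz, add_zero]
    exact key _ hmem
  refine Module.Projective.of_split (s ∘ₗ (LinearMap.id - ε)) π ?_
  ext p
  show π (s (p - ε p)) = p
  have h1 : π (s (p - ε p)) = (p - ε p) + ε (p - ε p) := by rw [hε (p - ε p)]; abel
  rw [h1, map_sub, hεε]
  abel

end H5S6272

/-- Over a ring R, take two ideals I and J meeting in zero (I ∩ J = 0) and an R-module P. If the
R/I-module P/IP (that is, R/I ⊗ P) and the R/J-module P/JP (that is, R/J ⊗ P) are both projective,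
then P itself is projective over R. -/
theorem result {R : Type u} [CommRing R] (I J : Ideal R) (hIJ : I ⊓ J = ⊥) (P : Type u) [AddCommGroup P] [Module R P] (hI : Module.Projective (R ⧸ I) ((R ⧸ I) ⊗[R] P)) (hJ : Module.Projective (R ⧸ J) ((R ⧸ J) ⊗[R] P)) : Module.Projective R P := by
  exact H5S6272.main I J hIJ P hI hJ

end Groth.Agent.S6272
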