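import Groth.Statements.S6273
import Mathlib.RingTheory.Spectrum.Prime.Topology
import Mathlib.RingTheory.Localization.Basic

set_option autoImplicit false
universe u
open CAlg

namespace Groth.Agent.S6273

/-- Let R be a ring, S ⊆ R a multiplicative subset and A = S⁻¹R. If the image of Spec(A) → Spec(R) is
closed, then the localization map R → A is surjective; in particular A is isomorphic to R/I for the
ideal I = ker(R → A). -/
theorem result {R : Type u} [CommRing R] (S : Submonoid R) (A : Type u) [CommRing A] [Algebra R A] [IsLocalization S A] (hcl : IsClosed (Set.range (PrimeSpectrum.comap (algebraMap R A)))) : Function.Surjective (algebraMap R A) := by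
  set I := RingHom.ker (algebraMap R A) with hI
  have himg : Set.range (PrimeSpectrum.comap (algebraMap R A)) = PrimeSpectrum.zeroLocus (I : Set R) := by
    rw [← PrimeSpectrum.closure_range_comap, hcl.closure_eq]
  -- every s ∈ S is a unit modulo I
  have hunit : ∀ s ∈ S, ∃ t : R, s * t - 1 ∈ I := by
    intro s hs
    by_contra hcon
    push Not at hcon
    -- the ideal I + (s) is proper
    have hne : I ⊔ Ideal.span {s} ≠ ⊤ := by
      intro htop
      have h1 : (1 : R) ∈ I ⊔ Ideal.span {s} := by rw [htop]; trivial
      obtain ⟨i, hi, j, hj, hij⟩ := Submodule.mem_sup.mp h1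
      obtain ⟨t, rfl⟩ := Ideal.mem_span_singleton'.mp hj
      apply hcon t
      have : s * t - 1 = -i := by rw [← hij]; ring
      rw [this]
      exact I.neg_mem hi
    obtain ⟨m, hm, hle⟩ := Ideal.exists_le_maximal _ hne
    have hmI : (⟨m, hm.isPrime⟩ : PrimeSpectrum R) ∈ PrimeSpectrum.zeroLocus (I : Set R) := by
      rw [PrimeSpectrum.mem_zeroLocus]
      exact fun x hx => hle (Ideal.mem_sup_left hx)
    rw [← himg, PrimeSpectrum.localization_comap_range A S] at hmI
    have hsm : s ∈ m := hle (Ideal.mem_sup_right (Ideal.mem_span_singleton_self s))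
    exact Set.disjoint_left.mp hmI hs hsm
  intro a
  obtain ⟨⟨r, s⟩, hrs⟩ := IsLocalization.surj S a
  obtain ⟨t, ht⟩ := hunit s s.2
  refine ⟨r * t, ?_⟩
  have h1 : algebraMap R A (s * t) = 1 := by
    have : algebraMap R A (s * t - 1) = 0 := ht
    rw [map_sub, map_one, sub_eq_zero] at this
    exact this
  simp only at hrs
  rw [map_mul, ← hrs, mul_assoc, ← map_mul, h1, mul_one]

end Groth.Agent.S6273
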