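import Groth.Statements.S6274
import Mathlib

set_option autoImplicit false
universe u
open CAlg

namespace Groth.Agent.S6274
open TopologicalSpace

section helpers



lemma isOpen_of_closed_stable {X : Type*} [TopologicalSpace X] [NoetherianSpace X] [QuasiSober X]
    (Z : Set X) (hZ : IsClosed Z) (hgen : ∀ x y, y ⤳ x → x ∈ Z → y ∈ Z) : IsOpen Z := by
  rw [← isClosed_compl_iff]
  have hcompl : Zᶜ = ⋃₀ {C | C ∈ irreducibleComponents X ∧ ¬ C ⊆ Z} := by
    ext x
    constructor
    · intro hx
      refine ⟨irreducibleComponent x, ⟨irreducibleComponent_mem_irreducibleComponents x, ?_⟩,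
        mem_irreducibleComponent⟩
      intro hsub
      exact hx (hsub mem_irreducibleComponent)
    · rintro ⟨C, ⟨hC, hCZ⟩, hxC⟩ hxZ
      apply hCZ
      have hirr : IsIrreducible C := hC.1
      have hclosed : IsClosed C := isClosed_of_mem_irreducibleComponents C hC
      have hgp := hirr.isGenericPoint_genericPoint hclosed
      have hη : hirr.genericPoint ∈ Z := hgen x _ (hgp.specializes hxC) hxZ
      rw [← hgp.def]
      exact hZ.closure_subset_iff.2 (Set.singleton_subset_iff.2 hη)
  rw [hcompl, Set.sUnion_eq_biUnion]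
  apply Set.Finite.isClosed_biUnion
  · exact NoetherianSpace.finite_irreducibleComponents.subset (fun C hC => hC.1)
  · intro C hC
    exact isClosed_of_mem_irreducibleComponents C hC.1

lemma fg_case {R : Type u} [CommRing R] (S : Submonoid R) (hS : S.FG) :
    IsOpen {p : PrimeSpectrum R | Disjoint (S : Set R) p.asIdeal} := by
  classical
  obtain ⟨T, hT⟩ := hS
  have : {p : PrimeSpectrum R | Disjoint (S : Set R) p.asIdeal} =
      (PrimeSpectrum.basicOpen (∏ t ∈ T, t) : Set (PrimeSpectrum R)) := by
    ext p
    simp only [Set.mem_ofPred_eq, SetLike.mem_coe, PrimeSpectrum.mem_basicOpen]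
    constructor
    · intro hd hmem
      have hprod : (∏ t ∈ T, t) ∈ S := by
        apply Submonoid.prod_mem
        intro t ht
        rw [← hT]
        exact Submonoid.subset_closure ht
      exact Set.disjoint_left.1 hd hprod hmem
    · intro hnot
      rw [Set.disjoint_left]
      intro x hxS hxp
      have hle : S ≤ p.asIdeal.primeCompl := by
        rw [← hT, Submonoid.closure_le]
        intro t ht htp
        apply hnot
        exact Ideal.mem_of_dvd _ (Finset.dvd_prod_of_mem _ ht) htp
      exact hle hxS hxp
  rw [this]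
  exact (PrimeSpectrum.basicOpen _).2



end helpers

/-- Let R be a ring, S ⊆ R a multiplicative subset and A = S⁻¹R, and assume the image of Spec(A) →
Spec(R) is closed. If Spec(R) is a Noetherian topological space (which holds when R is Noetherian)
or S is finitely generated as a monoid, then R is isomorphic to A × R' for some ring R', by an
isomorphism whose first component is the localization map R → A. -/
theorem result {R : Type u} [CommRing R] (S : Submonoid R) (A : Type u) [CommRing A] [Algebra R A] [IsLocalization S A] (hcl : IsClosed (Set.range (PrimeSpectrum.comap (algebraMap R A)))) (h : TopologicalSpace.NoetherianSpace (PrimeSpectrum R) ∨ S.FG) : ∃ (R' : Type u) (_ : CommRing R') (e : R ≃+* A × R'), ∀ x : R, (e x).1 = algebraMap R A x := by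
  have hrange := PrimeSpectrum.localization_comap_range (S := A) S
  -- the image is open
  have hopen : IsOpen (Set.range (PrimeSpectrum.comap (algebraMap R A))) := by
    rcases h with h | h
    · apply isOpen_of_closed_stable _ hcl
      intro x y hyx hx
      rw [hrange] at hx ⊢
      have hle : y ≤ x := (PrimeSpectrum.le_iff_specializes y x).2 hyx
      exact Set.disjoint_of_subset_right hle hx
    · rw [hrange]
      exact fg_case S h
  obtain ⟨e, he, hZ⟩ := PrimeSpectrum.isClopen_iff.1 ⟨hcl, hopen⟩
  rw [hrange] at hZ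
  -- (i) the image of e in A is 1
  have hmem : ∀ p : PrimeSpectrum R, Disjoint (S : Set R) p.asIdeal ↔ e ∉ p.asIdeal := by
    intro p
    have := Set.ext_iff.1 hZ p
    simpa using this
  have he1 : algebraMap R A e = 1 := by
    have hunit : IsUnit (algebraMap R A e) := by
      by_contra hnu
      obtain ⟨m, hm, hem⟩ := exists_max_ideal_of_mem_nonunits hnu
      have hp : (PrimeSpectrum.comap (algebraMap R A) ⟨m, hm.isPrime⟩) ∈
          Set.range (PrimeSpectrum.comap (algebraMap R A)) := ⟨_, rfl⟩
      rw [hrange] at hp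
      exact (hmem _).1 hp hem
    have hidem : algebraMap R A e * algebraMap R A e = algebraMap R A e := by
      rw [← map_mul, he.eq]
    have := hunit.mul_left_cancel (hidem.trans (mul_one _).symm)
    exact this
  -- (ii) elements of S are units modulo (1 - e)
  have hS : ∀ s ∈ S, ∃ t : R, s * t - 1 ∈ Ideal.span ({1 - e} : Set R) := by
    intro s hs
    have hunit : IsUnit (Ideal.Quotient.mk (Ideal.span ({1 - e} : Set R)) s) := by
      by_contra hnu
      obtain ⟨m, hm, hsm⟩ := exists_max_ideal_of_mem_nonunits hnu
      let p : PrimeSpectrum R :=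
        PrimeSpectrum.comap (Ideal.Quotient.mk (Ideal.span ({1 - e} : Set R))) ⟨m, hm.isPrime⟩
      have h1e : (1 - e) ∈ p.asIdeal := by
        show Ideal.Quotient.mk _ (1 - e) ∈ m
        have h0 : Ideal.Quotient.mk (Ideal.span ({1 - e} : Set R)) (1 - e) = 0 :=
          Ideal.Quotient.eq_zero_iff_mem.2 (Ideal.subset_span (Set.mem_singleton _))
        rw [h0]
        exact m.zero_mem
      have hep : e ∉ p.asIdeal := by
        intro hep
        have h1 : (1 : R) ∈ p.asIdeal := by
          have := p.asIdeal.add_mem h1e hep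
          rwa [sub_add_cancel] at this
        exact p.2.ne_top ((Ideal.eq_top_iff_one _).2 h1)
      have hd := (hmem p).2 hep
      exact Set.disjoint_left.1 hd hs hsm
    obtain ⟨u, hu⟩ := hunit.exists_right_inv
    obtain ⟨t, rfl⟩ := Ideal.Quotient.mk_surjective u
    refine ⟨t, ?_⟩
    rw [← Ideal.Quotient.eq_zero_iff_mem, map_sub, map_mul, hu, map_one, sub_self]
  -- kernel of the localization map
  have hker : ∀ x : R, algebraMap R A x = 0 → x ∈ Ideal.span ({1 - e} : Set R) := by
    intro x hx
    obtain ⟨s, hs⟩ := (IsLocalization.map_eq_zero_iff S A x).1 hx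
    obtain ⟨t, ht⟩ := hS s s.2
    have : x = -(x * (↑s * t - 1)) + t * (↑s * x) := by ring
    rw [this, hs, mul_zero, add_zero]
    exact neg_mem (Ideal.mul_mem_left _ _ ht)
  have h1e0 : algebraMap R A (1 - e) = 0 := by rw [map_sub, map_one, he1, sub_self]
  let φ : R →+* A × (R ⧸ Ideal.span ({e} : Set R)) :=
    (algebraMap R A).prod (Ideal.Quotient.mk (Ideal.span ({e} : Set R)))
  have hinj : Function.Injective φ := by
    rw [injective_iff_map_eq_zero]
    intro x hx
    have hx1 : algebraMap R A x = 0 := congrArg Prod.fst hx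
    have hx2 : Ideal.Quotient.mk (Ideal.span ({e} : Set R)) x = 0 := congrArg Prod.snd hx
    obtain ⟨a, ha⟩ := Ideal.mem_span_singleton'.1 (hker x hx1)
    obtain ⟨b, hb⟩ := Ideal.mem_span_singleton'.1 (Ideal.Quotient.eq_zero_iff_mem.1 hx2)
    -- x = a (1 - e) = b e, so x = x * e + x * (1 - e) = a (1-e) e + b e (1 - e) = 0
    have hee : e * (1 - e) = 0 := by rw [mul_sub, mul_one, he.eq, sub_self]
    calc x = x * e + x * (1 - e) := by ring
      _ = (a * (1 - e)) * e + (b * e) * (1 - e) := by rw [ha, hb]
      _ = (a + b) * (e * (1 - e)) := by ring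
      _ = 0 := by rw [hee, mul_zero]
  have hsurj : Function.Surjective φ := by
    rintro ⟨a, r⟩
    obtain ⟨r, rfl⟩ := Ideal.Quotient.mk_surjective r
    obtain ⟨x, s, rfl⟩ := IsLocalization.exists_mk'_eq S a
    obtain ⟨t, ht⟩ := hS s s.2
    have hy0 : algebraMap R A (x * t) = IsLocalization.mk' A x s := by
      rw [IsLocalization.eq_mk'_iff_mul_eq, ← map_mul]
      have hk : algebraMap R A (x * (↑s * t - 1)) = 0 := by
        obtain ⟨c, hc⟩ := Ideal.mem_span_singleton'.1 ht
        rw [← hc, map_mul, map_mul, h1e0, mul_zero, mul_zero]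
      have : x * t * ↑s = x * (↑s * t - 1) + x := by ring
      rw [this, map_add, hk, zero_add]
    refine ⟨e * (x * t) + (1 - e) * r, ?_⟩
    apply Prod.ext
    · show algebraMap R A (e * (x * t) + (1 - e) * r) = IsLocalization.mk' A x s
      rw [map_add, map_mul (algebraMap R A) e (x * t), map_mul (algebraMap R A) (1 - e) r,
        he1, h1e0, one_mul, zero_mul, add_zero, hy0]
    · show Ideal.Quotient.mk _ (e * (x * t) + (1 - e) * r) = Ideal.Quotient.mk _ r
      rw [Ideal.Quotient.eq]
      have : e * (x * t) + (1 - e) * r - r = e * (x * t - r) := by ring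
      rw [this]
      exact Ideal.mul_mem_right _ _ (Ideal.subset_span rfl)
  exact ⟨R ⧸ Ideal.span ({e} : Set R), inferInstance, RingEquiv.ofBijective φ ⟨hinj, hsurj⟩,
    fun x => rfl⟩

end Groth.Agent.S6274
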