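import Groth.Statements.S6275
import Mathlib.RingTheory.Localization.AtPrime.Basic
import Mathlib.RingTheory.Localization.Away.Basic
import Mathlib.RingTheory.Noetherian.Basic
import Mathlib.RingTheory.Ideal.Operations

set_option autoImplicit false
universe u
open CAlg

namespace Groth.Agent.S6275

/-- Let R be a Noetherian ring and p ⊆ R a prime. Then there is f ∈ R, f ∉ p, such that R_f → R_p is
injective; equivalently every x ∈ R mapping to zero in R_p maps to zero in R_f. (The cases of a
domain and of a reduced ring with finitely many minimal primes are not included here.) -/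
theorem result {R : Type u} [CommRing R] [IsNoetherianRing R] (p : Ideal R) [p.IsPrime] : ∃ f : R, f ∉ p ∧ ∀ x : R, algebraMap R (Localization.AtPrime p) x = 0 → algebraMap R (Localization.Away f) x = 0 := by
  classical
  set K : Ideal R := RingHom.ker (algebraMap R (Localization.AtPrime p)) with hK
  obtain ⟨s, hs⟩ := (IsNoetherian.noetherian K : K.FG)
  have hkill : ∀ y ∈ s, ∃ m : R, m ∉ p ∧ m * y = 0 := by
    intro y hy
    have hyK : y ∈ K := by rw [← hs]; exact Submodule.subset_span hy
    have : algebraMap R (Localization.AtPrime p) y = 0 := hyK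
    rw [IsLocalization.map_eq_zero_iff p.primeCompl] at this
    obtain ⟨m, hm⟩ := this
    exact ⟨m, m.2, hm⟩
  choose! m hmp hm0 using hkill
  refine ⟨∏ y ∈ s, m y, ?_, ?_⟩
  · rw [Ideal.IsPrime.prod_mem_iff]
    push Not
    exact hmp
  · intro x hx
    have hxK : x ∈ K := hx
    rw [IsLocalization.map_eq_zero_iff (Submonoid.powers (∏ y ∈ s, m y))]
    refine ⟨⟨∏ y ∈ s, m y, Submonoid.mem_powers _⟩, ?_⟩
    simp only
    rw [← hs] at hxK
    refine Submodule.span_induction ?_ ?_ ?_ ?_ hxK
    · intro y hy
      rw [← Finset.mul_prod_erase s m hy, mul_comm (m y), mul_assoc, hm0 y hy, mul_zero]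
    · simp
    · intro a b _ _ ha hb
      rw [mul_add, ha, hb, add_zero]
    · intro a b _ hb
      rw [smul_eq_mul, mul_left_comm, hb, mul_zero]

end Groth.Agent.S6275
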