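import Groth.Statements.S6276
import Mathlib

set_option autoImplicit false
universe u
open scoped TensorProduct
open CAlg

namespace Groth.Agent.S6276

open scoped TensorProduct in

/-- Let k be a field, R a Noetherian k-algebra and K/k a finitely generated field extension. Then K ⊗ₖ R
is a Noetherian ring. -/
theorem result (k : Type u) [Field k] (R : Type u) [CommRing R] [Algebra k R] [IsNoetherianRing R] (K : Type u) [Field K] [Algebra k K] (hK : ∃ s : Finset K, IntermediateField.adjoin k (s : Set K) = ⊤) : IsNoetherianRing (K ⊗[k] R) := by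
  obtain ⟨s, hs⟩ := hK
  let A : Subalgebra k K := Algebra.adjoin k (s : Set K)
  have hfr : IsFractionRing A K := by
    refine IsFractionRing.of_field _ _ fun z => ?_
    have hz : z ∈ IntermediateField.adjoin k (s : Set K) := by rw [hs]; trivial
    obtain ⟨x, hx, y, hy, eq⟩ := IntermediateField.mem_adjoin_iff_div.mp hz
    exact ⟨⟨x, hx⟩, ⟨y, hy⟩, eq⟩
  have hft : Algebra.FiniteType k A :=
    (Subalgebra.fg_iff_finiteType _).mp ⟨s, rfl⟩
  -- A ⊗ R is Noetherian
  have hft2 : Algebra.FiniteType R (R ⊗[k] A) := inferInstance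
  have hN1 : IsNoetherianRing (R ⊗[k] A) := Algebra.FiniteType.isNoetherianRing R _
  have hN2 : IsNoetherianRing (A ⊗[k] R) :=
    isNoetherianRing_of_ringEquiv _ (Algebra.TensorProduct.comm k R A).toRingEquiv
  letI : Algebra (A ⊗[k] R) (K ⊗[k] R) :=
    (Algebra.TensorProduct.map (IsScalarTower.toAlgHom k A K) (AlgHom.id k R)).toRingHom.toAlgebra
  have ist : IsScalarTower A (A ⊗[k] R) (K ⊗[k] R) := by
    refine IsScalarTower.of_algebraMap_eq' (R := A) (S := A ⊗[k] R) (A := K ⊗[k] R) ?_
    ext x
    simp only [RingHom.algebraMap_toAlgebra, Algebra.TensorProduct.algebraMap_apply, RingHom.comp_apply,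
      AlgHom.toRingHom_eq_coe, RingHom.coe_coe, Algebra.TensorProduct.map_tmul, map_one]
    rfl
  have hloc : IsLocalization (Algebra.algebraMapSubmonoid (A ⊗[k] R) (nonZeroDivisors A)) (K ⊗[k] R) := by
    refine @IsLocalization.tensorProduct_tensorProduct k R _ _ _ A _ _ (nonZeroDivisors A) K _ _ _ _ _ _ ?_ ?_
    · exact ist
    ext x
    simp [RingHom.algebraMap_toAlgebra]
  exact IsLocalization.isNoetherianRing (Algebra.algebraMapSubmonoid (A ⊗[k] R) (nonZeroDivisors A)) _ hN2

end Groth.Agent.S6276
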