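import Groth.Statements.S6279
import Mathlib
import Groth.Prelude.Def_EGA4b

set_option autoImplicit false
universe u
open CAlg

namespace Groth.Agent.S6279

/-- A finite product of normal rings is normal (a ring is normal when every localization at a prime is
an integrally closed domain). -/
theorem result {ι : Type u} [Finite ι] (A : ι → Type u) [∀ i, CommRing (A i)] (hA : ∀ i, EGA4.IsNormalRing (A i)) : EGA4.IsNormalRing (∀ i, A i) := by
  classical
  intro p hp
  obtain ⟨i, q, hq⟩ := PrimeSpectrum.exists_comap_evalRingHom_eq (⟨p, hp⟩ : PrimeSpectrum (∀ i, A i))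
  have hpq : p = q.asIdeal.comap (Pi.evalRingHom A i) := by
    have := congrArg PrimeSpectrum.asIdeal hq
    exact this.symm
  have hqp := q.isPrime
  obtain ⟨hdom, hic⟩ := hA i q.asIdeal
  let alg : Algebra (∀ i, A i) (Localization.AtPrime q.asIdeal) :=
    ((algebraMap (A i) (Localization.AtPrime q.asIdeal)).comp (Pi.evalRingHom A i)).toAlgebra
  have halg : ∀ x : (∀ i, A i), algebraMap (∀ i, A i) (Localization.AtPrime q.asIdeal) x =
      algebraMap (A i) (Localization.AtPrime q.asIdeal) (x i) := fun x => rfl
  have hloc : IsLocalization p.primeCompl (Localization.AtPrime q.asIdeal) := by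
    rw [isLocalization_iff]
    refine ⟨?_, ?_, ?_⟩
    · rintro ⟨y, hy⟩
      rw [halg]
      have hyi : y i ∈ q.asIdeal.primeCompl := by
        intro h; apply hy; rw [hpq]; exact h
      exact IsLocalization.map_units (Localization.AtPrime q.asIdeal)
        (⟨y i, hyi⟩ : q.asIdeal.primeCompl)
    · intro z
      obtain ⟨⟨a, s⟩, h⟩ := IsLocalization.surj q.asIdeal.primeCompl z
      have hs : Function.update (1 : ∀ i, A i) i s.1 ∈ p.primeCompl := by
        show Function.update (1 : ∀ i, A i) i s.1 ∉ p
        rw [hpq, Ideal.mem_comap, Pi.evalRingHom_apply, Function.update_self]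
        exact s.2
      refine ⟨(Pi.single i a, ⟨Function.update 1 i s.1, hs⟩), ?_⟩
      simp only [halg, Function.update_self, Pi.single_eq_same]
      exact h
    · intro x y hxy
      rw [halg, halg] at hxy
      obtain ⟨c, hc⟩ := (IsLocalization.eq_iff_exists q.asIdeal.primeCompl
        (Localization.AtPrime q.asIdeal)).mp hxy
      have hc' : Pi.single i c.1 ∈ p.primeCompl := by
        show Pi.single i c.1 ∉ p
        rw [hpq, Ideal.mem_comap, Pi.evalRingHom_apply, Pi.single_eq_same]
        exact c.2
      refine ⟨⟨Pi.single i c.1, hc'⟩, ?_⟩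
      funext j
      by_cases hj : j = i
      · subst hj; simpa using hc
      · simp [Pi.single_eq_of_ne hj]
  let e : Localization.AtPrime p ≃ₐ[∀ i, A i] Localization.AtPrime q.asIdeal :=
    IsLocalization.algEquiv p.primeCompl _ _
  exact ⟨e.toRingEquiv.toMulEquiv.isDomain _, IsIntegrallyClosed.of_equiv e.symm.toRingEquiv⟩

end Groth.Agent.S6279
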