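import Groth.Statements.S6281
import Mathlib.RingTheory.Flat.FaithfullyFlat.Basic
import Mathlib.LinearAlgebra.TensorProduct.Tower

set_option autoImplicit false
universe u
open CAlg

namespace Groth.Agent.S6281

open TensorProduct in
/-- For an R-algebra S and an S-module M, flatness of S over R follows once M is both flat over R and
faithfully flat over S. -/
theorem result {R S : Type u} [CommRing R] [CommRing S] [Algebra R S] (M : Type u) [AddCommGroup M] [Module S M] [Module R M] [IsScalarTower R S M] [Module.Flat R M] [Module.FaithfullyFlat S M] : Module.Flat R S := by
  rw [Module.Flat.iff_lTensor_preserves_injective_linearMap]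
  intro N' N _ _ _ _ i hi
  let φ : S ⊗[R] N' →ₗ[S] S ⊗[R] N := i.baseChange S
  have hφ : ⇑(i.lTensor S) = ⇑φ := rfl
  rw [hφ, ← Module.FaithfullyFlat.lTensor_injective_iff_injective S M φ]
  let e' := AlgebraTensorModule.cancelBaseChange R S S M N'
  let e := AlgebraTensorModule.cancelBaseChange R S S M N
  have hcomm : ∀ x, e ((φ.lTensor M) x) = (i.lTensor M) (e' x) := by
    intro x
    induction x using TensorProduct.induction_on with
    | zero => simp
    | add x y hx hy => simp only [map_add, hx, hy]
    | tmul m y =>
      induction y using TensorProduct.induction_on with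
      | zero => simp
      | add x y hx hy => simp only [TensorProduct.tmul_add, map_add, hx, hy]
      | tmul s n => simp [e, e', φ]
  have hinj : Function.Injective ((i.lTensor M) ∘ e') :=
    (Module.Flat.lTensor_preserves_injective_linearMap i hi).comp e'.injective
  have : Function.Injective (e ∘ (φ.lTensor M)) := by
    have heq : (e ∘ (φ.lTensor M)) = ((i.lTensor M) ∘ e') := funext hcomm
    rw [heq]; exact hinj
  exact Function.Injective.of_comp this

end Groth.Agent.S6281
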