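import Groth.Statements.S6282
import Mathlib.RingTheory.Flat.FaithfullyFlat.Basic
import Mathlib.LinearAlgebra.TensorProduct.Tower

set_option autoImplicit false
universe u
open scoped TensorProduct
open CAlg

namespace Groth.Agent.S6282

open TensorProduct

section
variable {R S S' : Type u} [CommRing R] [CommRing S] [CommRing S'] [Algebra R S] [Algebra R S'] [Algebra S S'] [IsScalarTower R S S'] (M : Type u) [AddCommGroup M] [Module S M] [Module R M] [IsScalarTower R S M]

theorem comm_sq {N' N : Type u} [AddCommGroup N'] [Module R N'] [AddCommGroup N] [Module R N]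
    (i : N' →ₗ[R] N) (x : (S' ⊗[S] M) ⊗[R] N') :
    (AlgebraTensorModule.assoc R S S' S' M N) ((i.lTensor (S' ⊗[S] M)) x) =
      ((AlgebraTensorModule.lTensor S M i).lTensor S')
        ((AlgebraTensorModule.assoc R S S' S' M N') x) := by
  induction x using TensorProduct.induction_on with
  | zero => simp
  | add x y hx hy => simp only [map_add, hx, hy]
  | tmul y n =>
    induction y using TensorProduct.induction_on with
    | zero => simp
    | add x y hx hy => simp only [TensorProduct.add_tmul, map_add, hx, hy]
    | tmul s m => simp

theorem flat_baseChange_of_flat [Module.Flat S S'] [Module.Flat R M] :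
    Module.Flat R (S' ⊗[S] M) := by
  rw [Module.Flat.iff_lTensor_preserves_injective_linearMap]
  intro N' N _ _ _ _ i hi
  have h1 : Function.Injective (AlgebraTensorModule.lTensor S M i) :=
    Module.Flat.lTensor_preserves_injective_linearMap i hi
  have h2 : Function.Injective ((AlgebraTensorModule.lTensor S M i).lTensor S') :=
    Module.Flat.lTensor_preserves_injective_linearMap _ h1
  have h3 : Function.Injective (((AlgebraTensorModule.lTensor S M i).lTensor S') ∘
      (AlgebraTensorModule.assoc R S S' S' M N')) :=
    h2.comp (AlgebraTensorModule.assoc R S S' S' M N').injective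
  have h4 : ((AlgebraTensorModule.assoc R S S' S' M N) ∘ (i.lTensor (S' ⊗[S] M))) =
      (((AlgebraTensorModule.lTensor S M i).lTensor S') ∘
      (AlgebraTensorModule.assoc R S S' S' M N')) := funext (comm_sq M i)
  rw [← h4] at h3
  exact Function.Injective.of_comp h3

theorem flat_of_flat_baseChange [Module.FaithfullyFlat S S'] [Module.Flat R (S' ⊗[S] M)] :
    Module.Flat R M := by
  rw [Module.Flat.iff_lTensor_preserves_injective_linearMap]
  intro N' N _ _ _ _ i hi
  have h0 : Function.Injective (i.lTensor (S' ⊗[S] M)) :=
    Module.Flat.lTensor_preserves_injective_linearMap i hi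
  have h3 : Function.Injective ((AlgebraTensorModule.assoc R S S' S' M N) ∘
      (i.lTensor (S' ⊗[S] M))) :=
    (AlgebraTensorModule.assoc R S S' S' M N).injective.comp h0
  have h4 : ((AlgebraTensorModule.assoc R S S' S' M N) ∘ (i.lTensor (S' ⊗[S] M))) =
      (((AlgebraTensorModule.lTensor S M i).lTensor S') ∘
      (AlgebraTensorModule.assoc R S S' S' M N')) := funext (comm_sq M i)
  rw [h4] at h3
  have h5 : Function.Injective ((AlgebraTensorModule.lTensor S M i).lTensor S') := by
    intro a b hab
    have := h3 (a₁ := (AlgebraTensorModule.assoc R S S' S' M N').symm a)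
      (a₂ := (AlgebraTensorModule.assoc R S S' S' M N').symm b) (by simpa using hab)
    simpa using this
  have h6 := (Module.FaithfullyFlat.lTensor_injective_iff_injective S S'
    (AlgebraTensorModule.lTensor S M i)).mp h5
  exact h6

end

/-- Let S → S' be a homomorphism of R-algebras, M an S-module, and M' = S' ⊗_S M with its induced
R-module structure. (1) When S' is flat over S, R-flatness of M passes to M'. (2) When S' is
faithfully flat over S, M is R-flat exactly when M' is. -/
theorem result {R S S' : Type u} [CommRing R] [CommRing S] [CommRing S'] [Algebra R S] [Algebra R S'] [Algebra S S'] [IsScalarTower R S S'] (M : Type u) [AddCommGroup M] [Module S M] [Module R M] [IsScalarTower R S M] : ([Module.Flat S S'] → Module.Flat R M → Module.Flat R (S' ⊗[S] M)) ∧ ([Module.FaithfullyFlat S S'] → (Module.Flat R M ↔ Module.Flat R (S' ⊗[S] M))) := by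
  constructor
  · intro _ h
    exact flat_baseChange_of_flat M
  · intro _
    constructor
    · intro h
      exact flat_baseChange_of_flat M
    · intro h
      exact flat_of_flat_baseChange (S := S) (S' := S') M

end Groth.Agent.S6282
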