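import Groth.Statements.S6283
import Mathlib

set_option autoImplicit false
universe u
open scoped TensorProduct
open CAlg

namespace Groth.Agent.S6283

/-- Let R → S be a flat ring map, M an R-module and m ∈ M. Then Ann_R(m)S = Ann_S(1 ⊗ m), the
annihilator in S of the element 1 ⊗ m of S ⊗_R M. If moreover M is a finite R-module then Ann_R(M)S
= Ann_S(S ⊗_R M). -/
theorem result {R S : Type u} [CommRing R] [CommRing S] [Algebra R S] [Module.Flat R S] (M : Type u) [AddCommGroup M] [Module R M] : (∀ m : M, ((Submodule.span R {m}).annihilator).map (algebraMap R S) = (Submodule.span S {(1 : S) ⊗ₜ[R] m}).annihilator) ∧ (Module.Finite R M → (Module.annihilator R M).map (algebraMap R S) = Module.annihilator S (S ⊗[R] M)) := by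
  classical
  have keyL : ∀ (N : Type u) [AddCommGroup N] [Module R N] (n : N) (a : S), a ⊗ₜ[R] n = 0 →
      a ∈ ((Submodule.span R {n}).annihilator).map (algebraMap R S) := by
    intro N _ _ n a h
    let f : R →ₗ[R] N := LinearMap.toSpanSingleton R N n
    have hker : ∀ r, r ∈ LinearMap.ker f → r ∈ (Submodule.span R {n}).annihilator := by
      intro r hr
      rw [Submodule.mem_annihilator_span_singleton]
      simpa [f] using hr
    have h1 : (f.lTensor S) (a ⊗ₜ[R] (1 : R)) = 0 := by
      simp [f, h]
    have h2 := Module.Flat.lTensor_exact S (LinearMap.exact_subtype_ker_map f)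
    obtain ⟨t, ht⟩ := (h2 _).mp h1
    have h3 : ∀ t : S ⊗[R] (LinearMap.ker f),
        (TensorProduct.rid R S) ((LinearMap.ker f).subtype.lTensor S t) ∈
          ((Submodule.span R {n}).annihilator).map (algebraMap R S) := by
      intro t
      induction t using TensorProduct.induction_on with
      | zero => simp
      | tmul s k =>
        simp only [LinearMap.lTensor_tmul, Submodule.subtype_apply, TensorProduct.rid_tmul]
        rw [Algebra.smul_def]
        exact Ideal.mul_mem_right _ _ (Ideal.mem_map_of_mem _ (hker _ k.2))
      | add x y hx hy => simp only [map_add]; exact Ideal.add_mem _ hx hy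
    have h4 := h3 t
    rw [ht] at h4
    simpa using h4
  have hsm : ∀ (N : Type u) [AddCommGroup N] [Module R N] (n : N) (a : S),
      a • ((1 : S) ⊗ₜ[R] n) = a ⊗ₜ[R] n := by
    intro N _ _ n a
    rw [TensorProduct.smul_tmul', smul_eq_mul, mul_one]
  refine ⟨?_, ?_⟩
  · intro m
    apply le_antisymm
    · rw [Ideal.map_le_iff_le_comap]
      intro r hr
      rw [Submodule.mem_annihilator_span_singleton] at hr
      rw [Ideal.mem_comap, Submodule.mem_annihilator_span_singleton, hsm,
        Algebra.algebraMap_eq_smul_one, TensorProduct.smul_tmul, hr, TensorProduct.tmul_zero]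
    · intro a ha
      rw [Submodule.mem_annihilator_span_singleton, hsm] at ha
      exact keyL M m a ha
  · intro hfin
    obtain ⟨s, hs⟩ := hfin.fg_top
    apply le_antisymm
    · rw [Ideal.map_le_iff_le_comap]
      intro r hr
      rw [Module.mem_annihilator] at hr
      rw [Ideal.mem_comap, Module.mem_annihilator]
      intro x
      rw [algebraMap_smul]
      induction x using TensorProduct.induction_on with
      | zero => simp
      | tmul s' m => rw [TensorProduct.smul_tmul', TensorProduct.smul_tmul, hr, TensorProduct.tmul_zero]
      | add x y hx hy => rw [smul_add, hx, hy, add_zero]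
    · intro a ha
      rw [Module.mem_annihilator] at ha
      let N := (s → M)
      let m' : N := fun i => i.1
      have h1 : a ⊗ₜ[R] m' = 0 := by
        have : m' = ∑ i, Pi.single i (m' i) := (Finset.univ_sum_single m').symm
        rw [this, TensorProduct.tmul_sum]
        refine Finset.sum_eq_zero (fun i _ => ?_)
        have h2 : a ⊗ₜ[R] (Pi.single i (m' i) : N) =
            (LinearMap.single R (fun _ : s => M) i).lTensor S (a ⊗ₜ[R] (m' i)) := by
          simp [N]
        rw [h2, ← hsm, ha, map_zero]
      have h3 := keyL N m' a h1
      refine Ideal.map_mono ?_ h3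
      intro r hr
      rw [Submodule.mem_annihilator_span_singleton] at hr
      rw [Module.mem_annihilator]
      intro x
      have hx : x ∈ Submodule.span R (s : Set M) := by rw [hs]; trivial
      induction hx using Submodule.span_induction with
      | mem y hy => exact congrFun hr ⟨y, hy⟩
      | zero => simp
      | add y z _ _ hy hz => rw [smul_add, hy, hz, add_zero]
      | smul c y _ hy => rw [smul_comm, hy, smul_zero]

end Groth.Agent.S6283
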