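import Groth.Statements.S6892
import Mathlib
import Groth.Agent.Lib.helper27.Fitting

set_option autoImplicit false
universe u
open Fitt

namespace Groth.Agent.S6892aux
open Groth.Agent.Lib.helper27.Fitting


theorem part1 {R : Type u} [CommRing R] (M : Type u) [AddCommGroup M] [Module R M]
    (n : ℕ) (x : Fin n → M) (hx : Submodule.span R (Set.range x) = ⊤) : Fitt.ideal R M n = ⊤ := by
  rw [Ideal.eq_top_iff_one]
  apply Ideal.subset_span
  refine ⟨n, x, 1, hx, fun i hi => ?_, by simp⟩
  omega

theorem part2 {R : Type u} [CommRing R] (M : Type u) [AddCommGroup M] [Module R M]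
    [Module.Finite R M] (k : ℕ) (h : Module.FinitePresentation R M) : (Fitt.ideal R M k).FG := by
  obtain ⟨n, x, hx⟩ := Module.Finite.exists_fin (R := R) (M := M)
  rw [ideal_eq_minors x hx k]
  apply minors_fg_of_fg_ker
  apply Module.FinitePresentation.fg_ker
  rw [← LinearMap.range_eq_top, Fintype.range_linearCombination, hx]

theorem part3 {R : Type u} [CommRing R] (M M' : Type u) [AddCommGroup M] [Module R M]
    [AddCommGroup M'] [Module R M'] (k : ℕ) (f : M →ₗ[R] M') (hf : Function.Surjective f) :
    Fitt.ideal R M k ≤ Fitt.ideal R M' k := by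
  apply Ideal.span_mono
  rintro d ⟨n, x, a, hx, hrel, rfl⟩
  refine ⟨n, f ∘ x, a, ?_, ?_, rfl⟩
  · rw [Set.range_comp, ← Submodule.map_span, hx, Submodule.map_top, LinearMap.range_eq_top]
    exact hf
  · intro i hi
    have := congrArg f (hrel i hi)
    simpa using this

end Groth.Agent.S6892aux

namespace Groth.Agent.S6892

/-- Let `M` be a finite `R`-module. When `n` elements generate `M` one has `Fit_n(M) = R`; when `M` is
of finite presentation every `Fit_k(M)` is finitely generated as an ideal; and a surjection `M → M'`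
onto another module gives `Fit_k(M) ⊆ Fit_k(M')` for every `k`. -/
theorem result {R : Type u} [CommRing R] (M M' : Type u) [AddCommGroup M]
    [Module R M] [Module.Finite R M] [AddCommGroup M'] [Module R M'] (k : ℕ) :
    (∀ (n : ℕ) (x : Fin n → M), Submodule.span R (Set.range x) = ⊤ → Fitt.ideal R M n = ⊤) ∧
    (Module.FinitePresentation R M → (Fitt.ideal R M k).FG) ∧
    (∀ f : M →ₗ[R] M', Function.Surjective f → Fitt.ideal R M k ≤ Fitt.ideal R M' k) := by
  exact ⟨fun n x hx => Groth.Agent.S6892aux.part1 M n x hx,
    fun h => Groth.Agent.S6892aux.part2 M k h,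
    fun f hf => Groth.Agent.S6892aux.part3 M M' k f hf⟩

end Groth.Agent.S6892
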