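import Groth.Statements.S6285
import Mathlib
import Groth.Agent.S6892
import Groth.Agent.S6894

set_option autoImplicit false
universe u
open CAlg

namespace Groth.Agent.S6285

/-- For a ring R and an R-module M of finite presentation, the support Supp(M) is closed in Spec(R), and
its complement in Spec(R) is quasi-compact. -/
theorem result (R : Type u) [CommRing R] (M : Type u) [AddCommGroup M] [Module R M] [Module.FinitePresentation R M] : IsClosed (Module.support R M) ∧ IsCompact (Module.support R M)ᶜ := by
  haveI : Module.Finite R M := inferInstance
  have hfg : (Fitt.ideal R M 0).FG :=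
    (Groth.Agent.S6892.result (R := R) M M 0).2.1 inferInstance
  have hsupp : Module.support R M = PrimeSpectrum.zeroLocus (Fitt.ideal R M 0 : Set R) := by
    ext p
    rw [Module.mem_support_iff_nontrivial_residueField_tensorProduct, PrimeSpectrum.mem_zeroLocus,
      SetLike.coe_subset_coe]
    have h1 := (Groth.Agent.S6894.result (R := R) M 0 p.asIdeal).1
    rw [← Module.finrank_pos_iff (R := p.asIdeal.ResidueField)]
    constructor
    · intro hpos
      by_contra hle
      have := h1.mp hle
      omega
    · intro hle
      by_contra hpos
      have h0 : Module.finrank p.asIdeal.ResidueField (TensorProduct R p.asIdeal.ResidueField M) ≤ 0 := by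
        omega
      exact (h1.mpr h0) hle
  refine ⟨hsupp ▸ PrimeSpectrum.isClosed_zeroLocus _, ?_⟩
  have := (PrimeSpectrum.isCompact_isOpen_iff_ideal
    (s := (Module.support R M)ᶜ)).mpr ⟨Fitt.ideal R M 0, hfg, by rw [hsupp]⟩
  exact this.1

end Groth.Agent.S6285
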