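import Groth.Statements.S6286
import Mathlib

set_option autoImplicit false
universe u
open scoped TensorProduct
open CAlg

namespace Groth.Agent.S6286

/-- Let k be a field, R and S k-algebras, S' ⊆ S a k-subalgebra and f ∈ R ⊗ₖ S', with image f again in R
⊗ₖ S. Then the images in Spec(R) of Spec((R ⊗ₖ S)_f) and of Spec((R ⊗ₖ S')_f) coincide: a prime p of
R is the contraction of a prime of R ⊗ₖ S not containing f if and only if it is the contraction of a
prime of R ⊗ₖ S' not containing f. -/
theorem result (k : Type u) [Field k] (R S : Type u) [CommRing R] [Algebra k R] [CommRing S] [Algebra k S] (S' : Subalgebra k S) (f : R ⊗[k] S') (p : PrimeSpectrum R) : (∃ q : PrimeSpectrum (R ⊗[k] S), Algebra.TensorProduct.map (AlgHom.id k R) S'.val f ∉ q.asIdeal ∧ q.asIdeal.comap (algebraMap R (R ⊗[k] S)) = p.asIdeal) ↔ (∃ q' : PrimeSpectrum (R ⊗[k] S'), f ∉ q'.asIdeal ∧ q'.asIdeal.comap (algebraMap R (R ⊗[k] S')) = p.asIdeal) := by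
  classical
  -- the R-algebra version of the map
  let φR : R ⊗[k] S' →ₐ[R] R ⊗[k] S := Algebra.TensorProduct.map (AlgHom.id R R) S'.val
  have hφ : ∀ x : R ⊗[k] S', Algebra.TensorProduct.map (AlgHom.id k R) S'.val x = φR x := by
    intro x
    induction x using TensorProduct.induction_on with
    | zero => simp
    | tmul a b => simp [φR]
    | add a b ha hb => rw [map_add, map_add, ha, hb]
  rw [hφ]
  constructor
  · rintro ⟨q, hfq, hq⟩
    refine ⟨⟨q.asIdeal.comap φR.toRingHom, inferInstance⟩, ?_, ?_⟩
    · exact hfq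
    · change (q.asIdeal.comap φR.toRingHom).comap (algebraMap R (R ⊗[k] S')) = p.asIdeal
      rw [Ideal.comap_comap, ← hq]
      congr 1
  · rintro ⟨q', hfq', hq'⟩
    -- a k-linear retraction of S' ⊆ S
    obtain ⟨ρ, hρ⟩ := LinearMap.exists_leftInverse_of_injective S'.val.toLinearMap
      (LinearMap.ker_eq_bot.mpr Subtype.val_injective)
    let ψ : R ⊗[k] S →ₗ[R] R ⊗[k] S' :=
      TensorProduct.AlgebraTensorModule.map (LinearMap.id : R →ₗ[R] R) ρ
    have hψ : ψ ∘ₗ φR.toLinearMap = LinearMap.id := by
      apply TensorProduct.AlgebraTensorModule.ext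
      intro a b
      have := LinearMap.congr_fun hρ b
      simp only [LinearMap.coe_comp, Function.comp_apply, AlgHom.toLinearMap_apply,
        LinearMap.id_coe, id_eq] at this
      have h3 : ρ (b : S) = b := this
      simp [ψ, φR, h3]
    let Φ : p.asIdeal.ResidueField ⊗[R] (R ⊗[k] S') →ₐ[R] p.asIdeal.ResidueField ⊗[R] (R ⊗[k] S) :=
      Algebra.TensorProduct.map (AlgHom.id R p.asIdeal.ResidueField) φR
    have hΦ : ∀ x, Φ x = LinearMap.lTensor p.asIdeal.ResidueField φR.toLinearMap x := by
      intro x
      induction x using TensorProduct.induction_on with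
      | zero => simp
      | tmul a b => simp [Φ]
      | add a b ha hb => rw [map_add, map_add, ha, hb]
    have hΦinj : Function.Injective Φ := by
      have hleft : Function.LeftInverse (LinearMap.lTensor p.asIdeal.ResidueField ψ) (LinearMap.lTensor p.asIdeal.ResidueField φR.toLinearMap) := by
        intro x
        rw [← LinearMap.comp_apply, ← LinearMap.lTensor_comp, hψ, LinearMap.lTensor_id,
          LinearMap.id_apply]
      intro x y hxy
      rw [hΦ, hΦ] at hxy
      exact hleft.injective hxy
    -- the point of the fibre corresponding to q'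
    have hq'mem : q' ∈ PrimeSpectrum.comap (algebraMap R (R ⊗[k] S')) ⁻¹' {p} := by
      rw [Set.mem_preimage, Set.mem_singleton_iff]
      exact PrimeSpectrum.ext hq'
    set Q' := PrimeSpectrum.preimageEquivFiber R (R ⊗[k] S') p ⟨q', hq'mem⟩ with hQ'
    have hQ'q' : Q'.comap Algebra.TensorProduct.includeRight.toRingHom = q' := by
      have := (PrimeSpectrum.preimageEquivFiber R (R ⊗[k] S') p).left_inv ⟨q', hq'mem⟩
      exact congrArg Subtype.val this
    have hf1 : (Algebra.TensorProduct.includeRight f : p.asIdeal.ResidueField ⊗[R] (R ⊗[k] S')) ∉ Q'.asIdeal := by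
      intro hmem
      apply hfq'
      rw [← hQ'q']
      exact hmem
    -- the image is not nilpotent
    have hnil : ¬IsNilpotent (Algebra.TensorProduct.includeRight (φR f) : p.asIdeal.ResidueField ⊗[R] (R ⊗[k] S)) := by
      rintro ⟨N, hN⟩
      have h1 : Φ (Algebra.TensorProduct.includeRight f) =
          Algebra.TensorProduct.includeRight (φR f) := by
        simp [Φ]
      rw [← h1] at hN
      have hN' : Φ ((Algebra.TensorProduct.includeRight f) ^ N) = 0 := by
        have := Φ.toRingHom.map_pow (Algebra.TensorProduct.includeRight f) N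
        exact this.trans hN
      have h2 : (Algebra.TensorProduct.includeRight f : p.asIdeal.ResidueField ⊗[R] (R ⊗[k] S')) ^ N = 0 :=
        hΦinj (hN'.trans (Φ.toRingHom.map_zero).symm)
      apply hf1
      exact Q'.isPrime.mem_of_pow_mem N (by rw [h2]; exact Ideal.zero_mem _)
    rw [← mem_nilradical, nilradical_eq_sInf, Ideal.mem_sInf] at hnil
    push Not at hnil
    obtain ⟨J, hJ, hgJ⟩ := hnil
    have hJprime : J.IsPrime := hJ
    set q := (PrimeSpectrum.preimageEquivFiber R (R ⊗[k] S) p).symm ⟨J, hJprime⟩ with hq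
    refine ⟨q.1, ?_, ?_⟩
    · intro hmem
      apply hgJ
      exact hmem
    · have := q.2
      rw [Set.mem_preimage, Set.mem_singleton_iff] at this
      exact congrArg PrimeSpectrum.asIdeal this

end Groth.Agent.S6286
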