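import Groth.Statements.S6291
import Mathlib.RingTheory.Nakayama
import Mathlib.RingTheory.Artinian.Module
import Mathlib.RingTheory.LocalRing.MaximalIdeal.Basic

set_option autoImplicit false
universe u
open CAlg

namespace Groth.Agent.S6291

/-- Let R be a local ring with maximal ideal m and M an R-module of finite length. Then mⁿM = 0 for some
n. -/
theorem result {R : Type u} [CommRing R] [IsLocalRing R] (M : Type u) [AddCommGroup M] [Module R M] (hM : IsFiniteLength R M) : ∃ n : ℕ, (IsLocalRing.maximalIdeal R) ^ n • (⊤ : Submodule R M) = ⊥ := by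
  obtain ⟨hnoeth, hart⟩ := isFiniteLength_iff_isNoetherian_isArtinian.mp hM
  set m := IsLocalRing.maximalIdeal R with hm
  let f : ℕ →o (Submodule R M)ᵒᵈ :=
    { toFun := fun n => OrderDual.toDual (m ^ n • (⊤ : Submodule R M))
      monotone' := by
        intro a b hab
        show m ^ b • (⊤ : Submodule R M) ≤ m ^ a • (⊤ : Submodule R M)
        exact Submodule.smul_mono_left (Ideal.pow_le_pow_right hab) }
  obtain ⟨n, hn⟩ := IsArtinian.monotone_stabilizes f
  refine ⟨n, ?_⟩
  have h1 : m ^ n • (⊤ : Submodule R M) = m ^ (n + 1) • (⊤ : Submodule R M) := by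
    have := hn (n + 1) (Nat.le_succ n)
    exact congrArg OrderDual.ofDual this
  apply Submodule.eq_bot_of_le_smul_of_le_jacobson_bot m _ (IsNoetherian.noetherian _)
  · conv_lhs => rw [h1]
    rw [pow_succ', mul_smul]
  · rw [IsLocalRing.jacobson_eq_maximalIdeal ⊥ bot_ne_top]

end Groth.Agent.S6291
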