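import Groth.Statements.S6294
import Mathlib

set_option autoImplicit false
universe u
open CAlg

namespace Groth.Agent.S6294

/-- Let R be a ring with finitely many minimal primes q₁, …, q_t, and assume that the zerodivisors of R
are precisely the elements of q₁ ∪ … ∪ q_t. Then Q(R), the total ring of fractions of R, equals
R_{q₁} × … × R_{q_t}: the diagonal map R → ∏ R_{q_i} is a localization of R at its non-zerodivisors. -/
theorem result {R : Type u} [CommRing R] {ι : Type} [Fintype ι] (q : ι → Ideal R) [∀ i, (q i).IsPrime] (hinj : Function.Injective q) (hmin : ∀ P : Ideal R, P ∈ minimalPrimes R ↔ P ∈ Set.range q) (hzd : ∀ x : R, x ∈ nonZeroDivisors R ↔ ∀ i, x ∉ q i) : IsLocalization (nonZeroDivisors R) (∀ i, Localization.AtPrime (q i)) := by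
  classical
  have hqmin : ∀ i, q i ∈ minimalPrimes R := fun i => (hmin _).mpr ⟨i, rfl⟩
  have hnil : ∀ j (x : R), x ∈ q j →
      ∃ n : ℕ, algebraMap R (Localization.AtPrime (q j)) (x ^ n) = 0 := by
    intro j x hx
    have h1 := IsLocalization.AtPrime.radical_map_of_mem_minimalPrimes
      (A := Localization.AtPrime (q j)) (q j) ⊥ (hqmin j)
    have h2 : algebraMap R (Localization.AtPrime (q j)) x ∈
        (q j).map (algebraMap R (Localization.AtPrime (q j))) := Ideal.mem_map_of_mem _ hx
    rw [← h1, Ideal.map_bot] at h2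
    obtain ⟨n, hn⟩ := h2
    exact ⟨n, by rw [map_pow]; exact (Ideal.mem_bot).mp hn⟩
  have hy : ∀ i j, ∃ y : R, y ∉ q i ∧
      (j ≠ i → algebraMap R (Localization.AtPrime (q j)) y = 0) := by
    intro i j
    by_cases hji : j = i
    · exact ⟨1, fun h => (inferInstance : (q i).IsPrime).ne_top ((Ideal.eq_top_iff_one _).mpr h),
        fun h => absurd hji h⟩
    · have hnle : ¬ (q j ≤ q i) := by
        intro hle
        have := (hqmin i).2 ⟨inferInstance, bot_le⟩ hle
        exact hji (hinj (le_antisymm hle this))
      obtain ⟨x, hxj, hxi⟩ := Set.not_subset.mp hnle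
      obtain ⟨n, hn⟩ := hnil j x hxj
      exact ⟨x ^ n, fun h => hxi ((inferInstance : (q i).IsPrime).mem_of_pow_mem n h),
        fun _ => hn⟩
  choose y hyi hy0 using hy
  let e : ι → R := fun i => ∏ j, y i j
  have he1 : ∀ i, e i ∉ q i := by
    intro i h
    obtain ⟨j, -, hj⟩ := Ideal.IsPrime.prod_mem_iff.mp h
    exact hyi i j hj
  have he0 : ∀ i j, j ≠ i → algebraMap R (Localization.AtPrime (q j)) (e i) = 0 := by
    intro i j hji
    show algebraMap R (Localization.AtPrime (q j)) (∏ j, y i j) = 0
    rw [map_prod]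
    exact Finset.prod_eq_zero (Finset.mem_univ j) (hy0 i j hji)
  have hsum : ∀ (c : ι → R) (i : ι), algebraMap R (Localization.AtPrime (q i)) (∑ j, e j * c j) =
      algebraMap R (Localization.AtPrime (q i)) (e i) *
        algebraMap R (Localization.AtPrime (q i)) (c i) := by
    intro c i
    rw [map_sum, Finset.sum_eq_single i]
    · rw [map_mul]
    · intro j _ hji
      rw [map_mul, he0 j i (Ne.symm hji), zero_mul]
    · intro h
      exact absurd (Finset.mem_univ i) h
  have hunit : ∀ (i : ι) (x : R), x ∉ q i →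
      IsUnit (algebraMap R (Localization.AtPrime (q i)) x) := fun i x hx =>
    IsLocalization.map_units (Localization.AtPrime (q i)) (⟨x, hx⟩ : (q i).primeCompl)
  have hnzd : ∀ (c : ι → R), (∀ i, c i ∉ q i) → (∑ j, e j * c j) ∈ nonZeroDivisors R := by
    intro c hc
    rw [hzd]
    intro i hmem
    have hu : IsUnit (algebraMap R (Localization.AtPrime (q i)) (∑ j, e j * c j)) := by
      rw [hsum]
      exact (hunit i _ (he1 i)).mul (hunit i _ (hc i))
    exact ((IsLocalization.AtPrime.isUnit_to_map_iff (Localization.AtPrime (q i)) (q i) _).mp hu)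
      hmem
  rw [isLocalization_iff]
  refine ⟨?_, ?_, ?_⟩
  · intro s
    rw [Pi.isUnit_iff]
    intro i
    exact hunit i s ((hzd s).mp s.2 i)
  · intro z
    have hz : ∀ i, ∃ x : R × (q i).primeCompl,
        z i * algebraMap R (Localization.AtPrime (q i)) x.2 =
          algebraMap R (Localization.AtPrime (q i)) x.1 :=
      fun i => IsLocalization.surj (q i).primeCompl (z i)
    choose x hx using hz
    refine ⟨(∑ j, e j * (x j).1, ⟨∑ j, e j * ((x j).2 : R), hnzd _ (fun i => (x i).2.2)⟩), ?_⟩
    funext i
    show z i * algebraMap R (Localization.AtPrime (q i)) (∑ j, e j * ((x j).2 : R)) =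
      algebraMap R (Localization.AtPrime (q i)) (∑ j, e j * (x j).1)
    rw [hsum, hsum, ← hx i]
    ring
  · intro a b hab
    have hc : ∀ i, ∃ c : (q i).primeCompl, (c : R) * a = c * b := by
      intro i
      have hi : algebraMap R (Localization.AtPrime (q i)) a =
          algebraMap R (Localization.AtPrime (q i)) b := congrFun hab i
      exact IsLocalization.exists_of_eq (M := (q i).primeCompl) hi
    choose c hc using hc
    refine ⟨⟨∑ j, e j * ((c j : (q j).primeCompl) : R), hnzd _ (fun i => (c i).2)⟩, ?_⟩
    show (∑ j, e j * ((c j : (q j).primeCompl) : R)) * a = (∑ j, e j * ((c j : (q j).primeCompl) : R)) * b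
    rw [Finset.sum_mul, Finset.sum_mul]
    refine Finset.sum_congr rfl (fun j _ => ?_)
    rw [mul_assoc, mul_assoc, hc j]

end Groth.Agent.S6294
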