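import Groth.Statements.S6295
import Mathlib

set_option autoImplicit false
universe u
open CAlg

namespace Groth.Agent.S6295

/-- Let R be a reduced ring. Then every localization R_p at a minimal prime p is a field and the map R →
∏_{p minimal} R_p is injective (so R is a subring of a product of fields); moreover the set of
zerodivisors of R is the union of the minimal primes. -/
theorem result (R : Type u) [CommRing R] [IsReduced R] : (∀ p : PrimeSpectrum R, p.asIdeal ∈ minimalPrimes R → IsField (Localization.AtPrime p.asIdeal)) ∧ Function.Injective (algebraMap R (∀ p : {p : PrimeSpectrum R // p.asIdeal ∈ minimalPrimes R}, Localization.AtPrime p.1.asIdeal)) ∧ (∀ x : R, x ∉ nonZeroDivisors R ↔ ∃ p ∈ minimalPrimes R, x ∈ p) := by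
  have hsInf : sInf (minimalPrimes R) = (⊥ : Ideal R) := by
    rw [minimalPrimes, Ideal.sInf_minimalPrimes]
    exact (Ideal.radical_eq_iff.mpr (by
      rw [Ideal.isRadical_iff_quotient_reduced]
      exact (isReduced_of_injective (RingEquiv.quotientBot R).toRingHom
        (RingEquiv.quotientBot R).injective)))
  have hex : ∀ y : R, y ≠ 0 → ∃ p ∈ minimalPrimes R, y ∉ p := by
    intro y hy
    by_contra hcon
    push_neg at hcon
    apply hy
    have : y ∈ sInf (minimalPrimes R) := by
      rw [Submodule.mem_sInf]
      exact hcon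
    rw [hsInf] at this
    exact this
  refine ⟨?_, ?_, ?_⟩
  · intro p hp
    have := p.2
    have : Ring.KrullDimLE 0 (Localization.AtPrime p.asIdeal) := .of_isLocalization _ hp _
    exact Ring.KrullDimLE.isField_of_isReduced
  · rw [injective_iff_map_eq_zero]
    intro x hx
    by_contra hx0
    obtain ⟨p, hp, hxp⟩ := hex x hx0
    have hprime : p.IsPrime := hp.1.1
    have h1 := congrFun hx ⟨⟨p, hprime⟩, hp⟩
    simp only [Pi.algebraMap_apply, Pi.zero_apply] at h1
    obtain ⟨⟨s, hs⟩, hsx⟩ := (IsLocalization.map_eq_zero_iff p.primeCompl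
      (Localization.AtPrime p) x).mp h1
    have : s * x ∈ p := by rw [hsx]; exact p.zero_mem
    rcases hprime.mem_or_mem this with h | h
    · exact hs h
    · exact hxp h
  · intro x
    constructor
    · intro hx
      rw [mem_nonZeroDivisors_iff] at hx
      push_neg at hx
      by_cases h : ∃ y, x * y = 0 ∧ y ≠ 0
      · obtain ⟨y, hxy, hy⟩ := h
        obtain ⟨p, hp, hyp⟩ := hex y hy
        refine ⟨p, hp, ?_⟩
        have : x * y ∈ p := by rw [hxy]; exact p.zero_mem
        exact (hp.1.1.mem_or_mem this).resolve_right hyp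
      · push_neg at h
        obtain ⟨y, hyx, hy⟩ := hx (fun y hy => h y hy)
        obtain ⟨p, hp, hyp⟩ := hex y hy
        refine ⟨p, hp, ?_⟩
        have : y * x ∈ p := by rw [hyx]; exact p.zero_mem
        exact (hp.1.1.mem_or_mem this).resolve_left hyp
    · rintro ⟨p, hp, hxp⟩
      exact notMem_nonZeroDivisors_of_mem_mem_minimalPrimes hxp hp

end Groth.Agent.S6295
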