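import Groth.Statements.S6297
import Mathlib
import Groth.Prelude.Def_CAlgX

set_option autoImplicit false
universe u
open CAlg

namespace Groth.Agent.S6297

/-- Let R be a ring, m ≤ n, A an n × m matrix over R and J the ideal generated by the m × m minors of A.
(1) For every f ∈ J there is an m × n matrix B with BA = f · 1. (2) If BA = f · 1 for some m × n
matrix B, then f^m ∈ J. -/
theorem result {R : Type u} [CommRing R] {n m : ℕ} (hmn : m ≤ n) (A : Matrix (Fin n) (Fin m) R) : (∀ f ∈ CAlgX.minorIdeal A m, ∃ B : Matrix (Fin m) (Fin n) R, B * A = f • (1 : Matrix (Fin m) (Fin m) R)) ∧ (∀ (f : R) (B : Matrix (Fin m) (Fin n) R), B * A = f • (1 : Matrix (Fin m) (Fin m) R) → f ^ m ∈ CAlgX.minorIdeal A m) := by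
  classical
  -- weak Cauchy–Binet
  have wcb : ∀ (M : Matrix (Fin m) (Fin n) R) (N : Matrix (Fin n) (Fin m) R),
      (M * N).det = ∑ p : Fin m → Fin n, (∏ i, N (p i) i) * (M.submatrix id p).det := by
    intro M N
    calc (M * N).det
        = ∑ p : Fin m → Fin n, ∑ σ : Equiv.Perm (Fin m),
            (Equiv.Perm.sign σ : ℤ) * ∏ i, M (σ i) (p i) * N (p i) i := by
          simp only [Matrix.det_apply', Matrix.mul_apply, Finset.prod_univ_sum, Finset.mul_sum,
            Fintype.piFinset_univ]
          rw [Finset.sum_comm]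
      _ = ∑ p : Fin m → Fin n, (∏ i, N (p i) i) * (M.submatrix id p).det := by
          refine Finset.sum_congr rfl (fun p _ => ?_)
          rw [Matrix.det_apply', Finset.mul_sum]
          refine Finset.sum_congr rfl (fun σ _ => ?_)
          rw [Finset.prod_mul_distrib]
          simp only [Matrix.submatrix_apply, id_eq]
          ring
  refine ⟨?_, ?_⟩
  · intro f hf
    unfold CAlgX.minorIdeal at hf
    induction hf using Submodule.span_induction with
    | mem x hx =>
      obtain ⟨⟨p, q⟩, rfl⟩ := hx
      let P : Matrix (Fin m) (Fin n) R := (1 : Matrix (Fin n) (Fin n) R).submatrix p id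
      let A₁ : Matrix (Fin m) (Fin m) R := A.submatrix p id
      let Q : Matrix (Fin m) (Fin m) R := (1 : Matrix (Fin m) (Fin m) R).submatrix id q
      have h1 : P * A = A₁ := by
        have := Matrix.one_submatrix_mul (α := R) p (Equiv.refl (Fin n)) A
        simpa using this
      have h2 : A₁ * Q = A.submatrix p q := by
        have := Matrix.mul_submatrix_one (α := R) (Equiv.refl (Fin m)) q A₁
        simpa [A₁] using this
      refine ⟨Q.det • (A₁.adjugate * P), ?_⟩
      show (Q.det • (A₁.adjugate * P)) * A = (A.submatrix p q).det • (1 : Matrix (Fin m) (Fin m) R)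
      rw [Matrix.smul_mul, Matrix.mul_assoc, h1, Matrix.adjugate_mul, ← h2, Matrix.det_mul,
        smul_smul, mul_comm]
    | zero => exact ⟨0, by simp⟩
    | add x y _ _ hx hy =>
      obtain ⟨B₁, h₁⟩ := hx
      obtain ⟨B₂, h₂⟩ := hy
      exact ⟨B₁ + B₂, by rw [Matrix.add_mul, h₁, h₂, add_smul]⟩
    | smul c x _ hx =>
      obtain ⟨B, hB⟩ := hx
      exact ⟨c • B, by rw [Matrix.smul_mul, hB, smul_smul, smul_eq_mul]⟩
  · intro f B hB
    have h1 : f ^ m = (B * A).det := by
      rw [hB, Matrix.det_smul, Matrix.det_one, mul_one, Fintype.card_fin]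
    have h2 : (B * A).det = (A.transpose * B.transpose).det := by
      rw [← Matrix.transpose_mul, Matrix.det_transpose]
    rw [h1, h2, wcb]
    refine Ideal.sum_mem _ (fun p _ => Ideal.mul_mem_left _ _ ?_)
    have h3 : A.transpose.submatrix id p = (A.submatrix p id).transpose := by
      ext i j; simp
    rw [h3, Matrix.det_transpose]
    exact Ideal.subset_span ⟨(p, id), rfl⟩

end Groth.Agent.S6297
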