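import Groth.Statements.S6298
import Mathlib
-- import your own Groth.Agent.* helpers here

set_option autoImplicit false
universe u
open CAlg

namespace Groth.Agent.S6298

/-- Let R be a ring, x ∈ R, I ⊆ R an ideal and p₁, …, p_r prime ideals such that for each i the coset x
+ I is not contained in p_i. Then there is y ∈ I with x + y ∉ p_i for all i. -/
theorem result {R : Type u} [CommRing R] (x : R) (I : Ideal R) {r : ℕ} (p : Fin r → Ideal R) [∀ i, (p i).IsPrime] (h : ∀ i, ∃ y ∈ I, x + y ∉ p i) : ∃ y ∈ I, ∀ i, x + y ∉ p i := by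
  classical
  have key : ∀ s : Finset (Fin r), ∃ y ∈ I, ∀ i ∈ s, x + y ∉ p i := by
    intro s
    induction s using Finset.strongInduction with
    | H s ih =>
      rcases s.eq_empty_or_nonempty with rfl | hne
      · exact ⟨0, I.zero_mem, by simp⟩
      obtain ⟨k, hk, hkmin⟩ := s.exists_minimalFor p hne
      obtain ⟨y₀, hy₀I, hy₀⟩ := ih (s.erase k) (Finset.erase_ssubset hk)
      by_cases hxk : x + y₀ ∉ p k
      · refine ⟨y₀, hy₀I, fun i hi => ?_⟩
        by_cases hik : i = k
        · subst hik; exact hxk
        · exact hy₀ i (Finset.mem_erase.mpr ⟨hik, hi⟩)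
      rw [not_not] at hxk
      -- I ⊄ p k
      have hIk : ¬ I ≤ p k := by
        intro hle
        obtain ⟨y', hy'I, hy'⟩ := h k
        apply hy'
        have : x + y' = (x + y₀) + (y' - y₀) := by ring
        rw [this]
        exact (p k).add_mem hxk ((p k).sub_mem (hle hy'I) (hle hy₀I))
      have hjk : ∀ j ∈ s.erase k, ¬ p j ≤ p k := by
        intro j hj hle
        have hjs : j ∈ s := Finset.mem_of_mem_erase hj
        have hkj : p k ≤ p j := hkmin hjs hle
        exact hy₀ j hj (hkj hxk)
      have hpk : (p k).IsPrime := inferInstance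
      have hprod : ¬ I * (s.erase k).prod p ≤ p k := by
        intro hle
        rcases hpk.mul_le.mp hle with h1 | h1
        · exact hIk h1
        · obtain ⟨j, hj, hle'⟩ := hpk.prod_le.mp h1
          exact hjk j hj hle'
      obtain ⟨z, hz, hzk⟩ := SetLike.not_le_iff_exists.mp hprod
      have hzI : z ∈ I := (Ideal.mul_le_left : I * (s.erase k).prod p ≤ I) hz
      have hzj : ∀ j ∈ s.erase k, z ∈ p j := by
        intro j hj
        have h1 : z ∈ (s.erase k).prod p := (Ideal.mul_le_right : I * (s.erase k).prod p ≤ (s.erase k).prod p) hz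
        have h2 := Ideal.prod_le_inf h1
        exact (Finset.inf_le hj : (s.erase k).inf p ≤ p j) h2
      refine ⟨y₀ + z, I.add_mem hy₀I hzI, fun i hi => ?_⟩
      have hsum : x + (y₀ + z) = (x + y₀) + z := by ring
      rw [hsum]
      by_cases hik : i = k
      · subst hik
        intro hmem
        apply hzk
        have : z = ((x + y₀) + z) - (x + y₀) := by ring
        rw [this]
        exact (p i).sub_mem hmem hxk
      · have hie : i ∈ s.erase k := Finset.mem_erase.mpr ⟨hik, hi⟩
        intro hmem
        apply hy₀ i hie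
        have : x + y₀ = ((x + y₀) + z) - z := by ring
        rw [this]
        exact (p i).sub_mem hmem (hzj i hie)
  have hU := key Finset.univ
  obtain ⟨y, hyI, hy⟩ := hU
  exact ⟨y, hyI, fun i => hy i (Finset.mem_univ i)⟩

end Groth.Agent.S6298
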