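import Groth.Statements.S6300
import Mathlib

set_option autoImplicit false
universe u
open CAlg

namespace Groth.Agent.S6300

/-- Let R be a normal ring (every localization at a prime is an integrally closed domain). Then R[x] is
a normal ring. -/
theorem result (R : Type u) [CommRing R] (hR : EGA4.IsNormalRing R) : EGA4.IsNormalRing (Polynomial R) := by
  intro p hp
  classical
  let q := p.comap Polynomial.C
  haveI hq : q.IsPrime := Ideal.comap_isPrime _ _
  let S := Polynomial (Localization.AtPrime q)
  let pc := Submonoid.map Polynomial.C.toMonoidHom q.primeCompl
  letI : Algebra (Polynomial R) S := Polynomial.algebra R (Localization.AtPrime q)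
  haveI : IsLocalization pc S := Polynomial.isLocalization _ _
  let pS := p.map (algebraMap (Polynomial R) S)
  have disj : Disjoint (pc : Set (Polynomial R)) (p : Set (Polynomial R)) := by
    simpa [pc, q] using! Set.disjoint_image_left.mpr
      (Set.disjoint_compl_left_iff_subset.mpr (fun _ a ↦ a))
  haveI hpS : pS.IsPrime := IsLocalization.isPrime_of_isPrime_disjoint pc _ _ ‹_› disj
  haveI : IsLocalization.AtPrime (Localization.AtPrime pS) p := by
    convert IsLocalization.isLocalization_isLocalization_atPrime_isLocalization pc
      (Localization.AtPrime pS) pS
    exact (IsLocalization.under_map_of_isPrime_disjoint pc _ ‹_› disj).symm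
  obtain ⟨hdom, hic⟩ := hR q
  haveI := hdom
  haveI := hic
  haveI : IsDomain S := inferInstance
  haveI : IsIntegrallyClosed S := inferInstance
  haveI : IsIntegrallyClosed (Localization.AtPrime pS) :=
    isIntegrallyClosed_of_isLocalization _ pS.primeCompl pS.primeCompl_le_nonZeroDivisors
  haveI : IsDomain (Localization.AtPrime pS) := inferInstance
  let e :=
    (IsLocalization.algEquiv p.primeCompl (Localization.AtPrime pS)
      (Localization.AtPrime p)).toRingEquiv
  exact ⟨e.symm.toMulEquiv.isDomain (Localization.AtPrime pS), @IsIntegrallyClosed.of_equiv (Localization.AtPrime pS) (Localization.AtPrime p) _ _ e _⟩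

end Groth.Agent.S6300
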