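import Groth.Statements.S6301
import Mathlib.RingTheory.Flat.EquationalCriterion
import Mathlib.Tactic

set_option autoImplicit false
universe u
open CAlg

namespace Groth.Agent.S6301

/-- An R-module M is flat exactly when, for every finitely presented R-module P and every surjective
R-module map N → M, the induced map Hom_R(P, N) → Hom_R(P, M) is surjective (modules P, N taken in
the same universe). -/
theorem result {R : Type u} [CommRing R] (M : Type u) [AddCommGroup M] [Module R M] : Module.Flat R M ↔ ∀ (P : Type u) [AddCommGroup P] [Module R P], Module.FinitePresentation R P → ∀ (N : Type u) [AddCommGroup N] [Module R N] (g : N →ₗ[R] M), Function.Surjective g → ∀ h : P →ₗ[R] M, ∃ h' : P →ₗ[R] N, g.comp h' = h := by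
  classical
  constructor
  · intro hM P _ _ hP N _ _ g hg h
    obtain ⟨k, h₂, h₃, rfl⟩ := Module.Flat.exists_factorization_of_finitePresentation h
    obtain ⟨h₃', rfl⟩ := Module.projective_lifting_property g h₃ hg
    exact ⟨h₃' ∘ₗ h₂, by rw [LinearMap.comp_assoc]⟩
  · intro H
    apply Module.Flat.of_forall_exists_factorization
    intro l f x hxf
    -- P := quotient of the free module by the span of f
    let K : Submodule R (Fin l →₀ R) := Submodule.span R {f}
    have hK : K ≤ LinearMap.ker x := by
      rw [Submodule.span_le]
      intro v hv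
      rw [Set.mem_singleton_iff] at hv
      rw [hv]
      exact hxf
    have hP : Module.FinitePresentation R ((Fin l →₀ R) ⧸ K) := by
      apply Module.finitePresentation_of_surjective K.mkQ K.mkQ_surjective
      rw [Submodule.ker_mkQ]
      exact Submodule.fg_span_singleton f
    let g : (M →₀ R) →ₗ[R] M := Finsupp.linearCombination R id
    have hg : Function.Surjective g := fun m => ⟨Finsupp.single m 1, by simp [g]⟩
    obtain ⟨h', hh'⟩ := H ((Fin l →₀ R) ⧸ K) hP (M →₀ R) g hg (K.liftQ x hK)
    let a' : (Fin l →₀ R) →ₗ[R] (M →₀ R) := h' ∘ₗ K.mkQ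
    have ha'f : a' f = 0 := by
      have : K.mkQ f = 0 := by
        rw [Submodule.mkQ_apply, Submodule.Quotient.mk_eq_zero]
        exact Submodule.mem_span_singleton_self f
      simp [a', this]
    have hga' : g ∘ₗ a' = x := by
      rw [← LinearMap.comp_assoc, hh']
      exact Submodule.liftQ_mkQ K x hK
    let s : Finset M := Finset.univ.biUnion (fun i : Fin l => (a' (Finsupp.single i 1)).support)
    have hs : ∀ v, a' v ∈ Finsupp.supported R R (s : Set M) := by
      intro v
      induction v using Finsupp.induction_linear with
      | zero => simp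
      | add u v hu hv => rw [map_add]; exact Submodule.add_mem _ hu hv
      | single i r =>
        have : Finsupp.single i r = r • Finsupp.single i (1 : R) := by simp
        rw [this, map_smul]
        apply Submodule.smul_mem
        rw [Finsupp.mem_supported]
        intro m hm
        exact Finset.mem_biUnion.mpr ⟨i, Finset.mem_univ _, hm⟩
    let a'' : (Fin l →₀ R) →ₗ[R] Finsupp.supported R R (s : Set M) := a'.codRestrict _ hs
    let E : Finsupp.supported R R (s : Set M) ≃ₗ[R] (Fin s.card →₀ R) :=
      Finsupp.supportedEquivFinsupp (s : Set M) ≪≫ₗ Finsupp.domLCongr s.equivFin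
    refine ⟨s.card, E.toLinearMap ∘ₗ a'', g ∘ₗ (Submodule.subtype _) ∘ₗ E.symm.toLinearMap, ?_, ?_⟩
    · rw [← hga']
      ext v
      simp [a'']
    · have : a'' f = 0 := by
        apply Subtype.ext
        simpa [a''] using ha'f
      simp [this]

end Groth.Agent.S6301
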