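import Groth.Statements.S6302
import Mathlib
import Groth.Agent.S2057
-- import your own Groth.Agent.* helpers here

set_option autoImplicit false
universe u
open CAlg

namespace Groth.Agent.S6302

/-- Let 0 → M₁ → M₂ → M₃ → 0 be a short exact sequence of R-modules with M₃ of finite presentation. If
the sequence is universally exact (its first map is universally injective) then it is split: M₂ → M₃
admits a section. (The converse, split implies universally exact, is elementary and not stated.) -/
theorem result {R : Type u} [CommRing R] {M₁ M₂ M₃ : Type u} [AddCommGroup M₁] [Module R M₁] [AddCommGroup M₂] [Module R M₂] [AddCommGroup M₃] [Module R M₃] [Module.FinitePresentation R M₃] (f : M₁ →ₗ[R] M₂) (g : M₂ →ₗ[R] M₃) (hexact : Function.Exact f g) (hg : Function.Surjective g) (hf : CAlgX.UniversallyInjective R f) : ∃ s : M₃ →ₗ[R] M₂, g.comp s = LinearMap.id := by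
  classical
  obtain ⟨n, m, p, A, hp, hex⟩ := Module.FinitePresentation.exists_fin' R M₃
  have hfinj : Function.Injective f := by
    have h := hf R
    intro a b hab
    have h1 : (f.rTensor R) (TensorProduct.tmul R a (1 : R)) =
        (f.rTensor R) (TensorProduct.tmul R b (1 : R)) := by
      rw [LinearMap.rTensor_tmul, LinearMap.rTensor_tmul, hab]
    have h2 := congrArg (TensorProduct.rid R M₁) (h h1)
    simpa using h2
  have hy : ∀ i : Fin n, ∃ y : M₂, g y = p (fun k => if i = k then 1 else 0) := fun i => hg _
  choose y hy using hy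
  have hx : ∀ j : Fin m, ∃ x : M₁,
      f x = ∑ i, (A (fun k => if j = k then 1 else 0)) i • y i := by
    intro j
    apply (hexact _).mp
    rw [map_sum]
    simp_rw [map_smul, hy]
    rw [← LinearMap.pi_apply_eq_sum_univ p (A (fun k => if j = k then 1 else 0))]
    exact hex.apply_apply_eq_zero _
  choose x hx using hx
  obtain ⟨z, hz⟩ := (Groth.Agent.S2057.result f hfinj).mp hf m n x y
    (fun j i => (A (fun k => if j = k then 1 else 0)) i) hx
  let s₀ : (Fin n → R) →ₗ[R] M₂ := Fintype.linearCombination R (fun i => y i - f (z i))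
  have hs₀ : ∀ c, s₀ c = ∑ i, c i • (y i - f (z i)) := fun c => rfl
  have hs₀A : ∀ c, s₀ (A c) = 0 := by
    intro c
    rw [LinearMap.pi_apply_eq_sum_univ A c, map_sum]
    apply Finset.sum_eq_zero
    intro j _
    rw [map_smul, hs₀]
    have : ∑ i, (A (fun k => if j = k then 1 else 0)) i • (y i - f (z i)) = 0 := by
      simp_rw [smul_sub]
      rw [Finset.sum_sub_distrib, ← hx j, hz j, map_sum]
      simp_rw [map_smul]
      exact sub_self _
    rw [this, smul_zero]
  have hgs₀ : ∀ c, g (s₀ c) = p c := by
    intro c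
    rw [hs₀, map_sum, LinearMap.pi_apply_eq_sum_univ p c]
    apply Finset.sum_congr rfl
    intro i _
    rw [map_smul, map_sub, hy, hexact.apply_apply_eq_zero, sub_zero]
  have hker : LinearMap.ker p ≤ LinearMap.ker s₀ := by
    intro c hc
    obtain ⟨d, rfl⟩ := (hex c).mp hc
    exact hs₀A d
  let s : M₃ →ₗ[R] M₂ := ((LinearMap.ker p).liftQ s₀ hker) ∘ₗ
    (LinearMap.quotKerEquivOfSurjective p hp).symm.toLinearMap
  refine ⟨s, ?_⟩
  ext w
  obtain ⟨c, rfl⟩ := hp w
  have h1 : (LinearMap.quotKerEquivOfSurjective p hp).symm (p c) = (LinearMap.ker p).mkQ c := by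
    rw [LinearEquiv.symm_apply_eq]
    rfl
  rw [LinearMap.comp_apply, LinearMap.id_apply]
  change g (((LinearMap.ker p).liftQ s₀ hker) ((LinearMap.quotKerEquivOfSurjective p hp).symm (p c))) = p c
  rw [h1, Submodule.mkQ_apply, Submodule.liftQ_apply, hgs₀]

end Groth.Agent.S6302
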