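import Groth.Statements.S6303
import Mathlib.RingTheory.Flat.EquationalCriterion
import Mathlib.RingTheory.Ideal.Operations

set_option autoImplicit false
universe u
open CAlg

namespace Groth.Agent.S6303

theorem exists_sum_of_mem_smul_top {R : Type u} [CommRing R] (I : Ideal R) {M : Type u}
    [AddCommGroup M] [Module R M] {x : M} (hx : x ∈ I • (⊤ : Submodule R M)) :
    ∃ (s : Finset M) (a : M → R), (∀ i, a i ∈ I) ∧ ∑ i ∈ s, a i • i = x := by
  have h : x ∈ I • Submodule.span R (Set.range (id : M → M)) := by
    simpa using hx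
  obtain ⟨a, ha, hsum⟩ := (Submodule.mem_ideal_smul_span_iff_exists_sum I (id : M → M) x).mp h
  exact ⟨a.support, a, ha, hsum⟩

/-- Let R be a ring, I, J ⊆ R ideals and M a flat R-module. Then IM ∩ JM = (I ∩ J)M. -/
theorem result {R : Type u} [CommRing R] (I J : Ideal R) (M : Type u) [AddCommGroup M] [Module R M] [Module.Flat R M] : (I • (⊤ : Submodule R M)) ⊓ (J • ⊤) = (I ⊓ J) • (⊤ : Submodule R M) := by
  apply le_antisymm
  · rintro x ⟨hxI, hxJ⟩
    obtain ⟨s, a, ha, hsa⟩ := exists_sum_of_mem_smul_top I hxI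
    obtain ⟨t, b, hb, htb⟩ := exists_sum_of_mem_smul_top J hxJ
    -- the relation
    let f : (s ⊕ t) → R := Sum.elim (fun i => a i) (fun j => - b j)
    let z : (s ⊕ t) → M := Sum.elim (fun i => (i : M)) (fun j => (j : M))
    have hrel : ∑ i, f i • z i = 0 := by
      rw [Fintype.sum_sum_type]
      simp only [f, z, Sum.elim_inl, Sum.elim_inr, neg_smul, Finset.sum_neg_distrib]
      rw [Finset.sum_coe_sort s (fun i => a i • i), Finset.sum_coe_sort t (fun i => b i • i),
        hsa, htb, add_neg_cancel]
    obtain ⟨k, c, y, hz, hc⟩ := Module.Flat.isTrivialRelation_of_sum_smul_eq_zero hrel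
    -- the coefficients
    have hrI : ∀ j, (∑ i : s, a i * c (Sum.inl i) j) ∈ I := fun j =>
      I.sum_mem fun i _ => I.mul_mem_right _ (ha i)
    have hrJ : ∀ j, (∑ i : s, a i * c (Sum.inl i) j) ∈ J := by
      intro j
      have h1 := hc j
      rw [Fintype.sum_sum_type] at h1
      simp only [f, Sum.elim_inl, Sum.elim_inr, neg_mul, Finset.sum_neg_distrib] at h1
      rw [add_neg_eq_zero] at h1
      rw [h1]
      exact J.sum_mem fun i _ => J.mul_mem_right _ (hb i)
    have hx : x = ∑ j, (∑ i : s, a i * c (Sum.inl i) j) • y j := by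
      rw [← hsa, ← Finset.sum_coe_sort s (fun i => a i • i)]
      have : ∀ i : s, a i • (i : M) = ∑ j, (a i * c (Sum.inl i) j) • y j := by
        intro i
        have := hz (Sum.inl i)
        simp only [z, Sum.elim_inl] at this
        rw [this, Finset.smul_sum]
        simp only [mul_smul]
      simp only [this]
      rw [Finset.sum_comm]
      simp only [Finset.sum_smul]
    rw [hx]
    exact Submodule.sum_mem _ fun j _ =>
      Submodule.smul_mem_smul ⟨hrI j, hrJ j⟩ Submodule.mem_top
  · exact le_inf (Submodule.smul_mono_left inf_le_left) (Submodule.smul_mono_left inf_le_right)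

end Groth.Agent.S6303
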