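import Groth.Statements.S6304
import Groth.Agent.Lib.helper10.Pure

set_option autoImplicit false
universe u
open CAlg

namespace Groth.Agent.S6304

open Groth.Agent.Lib.helper10 TensorProduct in
/-- In a short exact sequence 0 → M' → M → M'' → 0 of R-modules whose right-hand term M'' is flat, the
middle term M is flat when M' is, and M' is flat when M is. -/
theorem result {R : Type u} [CommRing R] {M' M M'' : Type u} [AddCommGroup M'] [Module R M'] [AddCommGroup M] [Module R M] [AddCommGroup M''] [Module R M''] (f : M' →ₗ[R] M) (g : M →ₗ[R] M'') (hf : Function.Injective f) (hexact : Function.Exact f g) (hg : Function.Surjective g) [Module.Flat R M''] : (Module.Flat R M' → Module.Flat R M) ∧ (Module.Flat R M → Module.Flat R M') := by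
  constructor
  · intro hM'
    rw [Module.Flat.iff_rTensor_injective]
    intro I hI
    rw [injective_iff_map_eq_zero]
    intro b hb
    -- γ (g b) = 0
    have h1 : (I.subtype.rTensor M'') ((g.lTensor I) b) = 0 := by
      rw [← LinearMap.comp_apply, LinearMap.rTensor_comp_lTensor, ← LinearMap.lTensor_comp_rTensor,
        LinearMap.comp_apply, hb, map_zero]
    have h2 : (g.lTensor I) b = 0 := by
      apply Module.Flat.rTensor_preserves_injective_linearMap I.subtype I.injective_subtype
      rw [h1, map_zero]
    obtain ⟨a, rfl⟩ := (lTensor_exact I hexact hg b).mp h2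
    have h3 : (f.lTensor R) ((I.subtype.rTensor M') a) = 0 := by
      rw [← LinearMap.comp_apply, LinearMap.lTensor_comp_rTensor, ← LinearMap.rTensor_comp_lTensor,
        LinearMap.comp_apply, hb]
    have h4 : (I.subtype.rTensor M') a = 0 := by
      apply Module.Flat.lTensor_preserves_injective_linearMap (M := R) f hf
      rw [h3, map_zero]
    have h5 : a = 0 := by
      apply Module.Flat.rTensor_preserves_injective_linearMap I.subtype I.injective_subtype
      rw [h4, map_zero]
    rw [h5, map_zero]
  · intro hM
    exact flat_left_of_lTensor_injective f
      (fun I _ => lTensor_injective_of_flat_quotient f g hf hexact hg I)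

end Groth.Agent.S6304
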