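import Groth.Statements.S6305
import Groth.Agent.Lib.helper10.Pure

set_option autoImplicit false
universe u
open CAlg

namespace Groth.Agent.S6305

open Groth.Agent.Lib.helper10 in
theorem aux {R : Type u} [CommRing R] (M : Type u) [AddCommGroup M] [Module R M]
    (h : ∀ (M₁ M₂ : Type u) [AddCommGroup M₁] [Module R M₁] [AddCommGroup M₂] [Module R M₂] (f : M₁ →ₗ[R] M₂) (g : M₂ →ₗ[R] M), Function.Injective f → Function.Exact f g → Function.Surjective g → CAlgX.UniversallyInjective R f)
    (K F : Type u) [AddCommGroup K] [Module R K] [AddCommGroup F] [Module R F] [Module.Flat R F]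
    (ι : K →ₗ[R] F) (π : F →ₗ[R] M) (hι : Function.Injective ι) (hιπ : Function.Exact ι π)
    (hπ : Function.Surjective π) : Module.Flat R M := by
  have hu := h K F ι π hι hιπ hπ
  have h' : ∀ (Q : Type u) [AddCommGroup Q] [Module R Q], Function.Injective (ι.lTensor Q) :=
    fun Q _ _ => (ι.lTensor_inj_iff_rTensor_inj Q).2 (hu Q)
  exact flat_right_of_lTensor_quotient_injective ι π hιπ hπ (fun I _ => h' (R ⧸ I))

open Groth.Agent.Lib.helper10 in
/-- An R-module M is flat exactly when every short exact sequence 0 → M₁ → M₂ → M → 0 of R-modules is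
universally exact, i.e. its first map M₁ → M₂ is universally injective. -/
theorem result {R : Type u} [CommRing R] (M : Type u) [AddCommGroup M] [Module R M] : Module.Flat R M ↔ ∀ (M₁ M₂ : Type u) [AddCommGroup M₁] [Module R M₁] [AddCommGroup M₂] [Module R M₂] (f : M₁ →ₗ[R] M₂) (g : M₂ →ₗ[R] M), Function.Injective f → Function.Exact f g → Function.Surjective g → CAlgX.UniversallyInjective R f := by
  constructor
  · intro hM M₁ M₂ _ _ _ _ f g hf hexact hg Q _ _
    exact rTensor_injective_of_flat_quotient f g hf hexact hg Q
  · intro h
    have hπ : Function.Surjective (Finsupp.linearCombination R (id : M → M)) :=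
      Finsupp.linearCombination_id_surjective R M
    have hιπ : Function.Exact (LinearMap.ker (Finsupp.linearCombination R (id : M → M))).subtype
        (Finsupp.linearCombination R (id : M → M)) := LinearMap.exact_subtype_ker_map _
    exact aux M h _ (M →₀ R) _ _ (Submodule.injective_subtype _) hιπ hπ

end Groth.Agent.S6305
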