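import Groth.Statements.S6308
import Mathlib

set_option autoImplicit false
universe u
open scoped TensorProduct
open CAlg

namespace Groth.Agent.S6308

theorem surj_iff_subsingleton {A B C : Type*} [AddCommGroup A] [AddCommGroup B] [AddCommGroup C]
    (f : A → B) (g : B →+ C) (hex : Function.Exact f g) (hg : Function.Surjective g) :
    Function.Surjective f ↔ Subsingleton C := by
  constructor
  · intro hf
    refine ⟨fun c c' => ?_⟩
    have key : ∀ c : C, c = 0 := by
      intro c
      obtain ⟨b, rfl⟩ := hg c
      obtain ⟨a, rfl⟩ := hf b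
      exact (hex (f a)).mpr ⟨a, rfl⟩
    rw [key c, key c']
  · intro hC b
    exact (hex b).mp (Subsingleton.elim _ _)

theorem loc_surj_iff {R : Type u} [CommRing R] {M N : Type u} [AddCommGroup M] [Module R M]
    [AddCommGroup N] [Module R N] (φ : M →ₗ[R] N) (S : Submonoid R) :
    Function.Surjective (LocalizedModule.map S φ) ↔
      Subsingleton (LocalizedModule S (N ⧸ LinearMap.range φ)) := by
  have hex : Function.Exact φ (LinearMap.range φ).mkQ := LinearMap.exact_map_mkQ_range φ
  have h1 : Function.Exact (LocalizedModule.map S φ) (LocalizedModule.map S (LinearMap.range φ).mkQ) :=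
    LocalizedModule.map_exact S φ _ hex
  have h2 : Function.Surjective (LocalizedModule.map S (LinearMap.range φ).mkQ) :=
    LocalizedModule.map_surjective S _ (Submodule.mkQ_surjective _)
  exact surj_iff_subsingleton (LocalizedModule.map S φ)
    (LocalizedModule.map S (LinearMap.range φ).mkQ).toAddMonoidHom h1 h2

theorem tensor_surj_iff {R : Type u} [CommRing R] {M N : Type u} [AddCommGroup M] [Module R M]
    [AddCommGroup N] [Module R N] (φ : M →ₗ[R] N) (K : Type u) [AddCommGroup K] [Module R K] :
    Function.Surjective (φ.lTensor K) ↔ Subsingleton (K ⊗[R] (N ⧸ LinearMap.range φ)) := by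
  have hex : Function.Exact φ (LinearMap.range φ).mkQ := LinearMap.exact_map_mkQ_range φ
  have h1 : Function.Exact (φ.lTensor K) ((LinearMap.range φ).mkQ.lTensor K) :=
    lTensor_exact K hex (Submodule.mkQ_surjective _)
  have h2 : Function.Surjective ((LinearMap.range φ).mkQ.lTensor K) :=
    LinearMap.lTensor_surjective K (Submodule.mkQ_surjective _)
  exact surj_iff_subsingleton (φ.lTensor K) ((LinearMap.range φ).mkQ.lTensor K).toAddMonoidHom h1 h2

/-- Let R be a ring and φ : M → N a map of R-modules with N finite. For a prime p, the localization φ_p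
: M_p → N_p is surjective if and only if φ ⊗ κ(p) : M ⊗ κ(p) → N ⊗ κ(p) is surjective; the set U of
such primes is open in Spec(R); and for every f ∈ R with D(f) ⊆ U the map M_f → N_f is surjective. -/
theorem result {R : Type u} [CommRing R] {M N : Type u} [AddCommGroup M] [Module R M] [AddCommGroup N] [Module R N] [Module.Finite R N] (φ : M →ₗ[R] N) : (∀ p : PrimeSpectrum R, Function.Surjective (LocalizedModule.map p.asIdeal.primeCompl φ) ↔ Function.Surjective (φ.lTensor p.asIdeal.ResidueField)) ∧ IsOpen {p : PrimeSpectrum R | Function.Surjective (LocalizedModule.map p.asIdeal.primeCompl φ)} ∧ (∀ f : R, (↑(PrimeSpectrum.basicOpen f) : Set (PrimeSpectrum R)) ⊆ {p : PrimeSpectrum R | Function.Surjective (LocalizedModule.map p.asIdeal.primeCompl φ)} → Function.Surjective (LocalizedModule.map (Submonoid.powers f) φ)) := by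
  have hfin : Module.Finite R (N ⧸ LinearMap.range φ) := inferInstance
  have hU : {p : PrimeSpectrum R | Function.Surjective (LocalizedModule.map p.asIdeal.primeCompl φ)} =
      (Module.support R (N ⧸ LinearMap.range φ))ᶜ := by
    ext p
    rw [Set.mem_ofPred_eq, Set.mem_compl_iff, loc_surj_iff, Module.notMem_support_iff]
  refine ⟨fun p => ?_, ?_, fun f hf => ?_⟩
  · rw [loc_surj_iff, tensor_surj_iff, ← Module.notMem_support_iff,
      Module.mem_support_iff_nontrivial_residueField_tensorProduct, not_nontrivial_iff_subsingleton]
  · rw [hU, isOpen_compl_iff, Module.support_eq_zeroLocus]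
    exact PrimeSpectrum.isClosed_zeroLocus _
  · rw [loc_surj_iff]
    rw [hU] at hf
    change Subsingleton (LocalizedModule.Away f (N ⧸ LinearMap.range φ))
    rw [LocalizedModule.subsingleton_iff_support_subset]
    intro p hp
    by_contra hpf
    have h1 : p ∈ (↑(PrimeSpectrum.basicOpen f) : Set (PrimeSpectrum R)) := by
      rw [PrimeSpectrum.mem_zeroLocus, Set.singleton_subset_iff] at hpf
      exact hpf
    exact hf h1 hp

end Groth.Agent.S6308
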