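import Groth.Statements.S6309
import Mathlib
import Groth.Agent.S4530

set_option autoImplicit false
universe u
open scoped TensorProduct
open CAlg

namespace Groth.Agent.S6309

section helpers



section
variable {R : Type u} [CommRing R] {P₁ P₂ : Type u} [AddCommGroup P₁] [Module R P₁]
  [AddCommGroup P₂] [Module R P₂] [Module.Finite R P₁] [Module.Projective R P₁]
  [Module.Finite R P₂] [Module.Projective R P₂] (φ : P₁ →ₗ[R] P₂)

/-- the ideal of scalars `g` such that `g • id` factors through `φ` on the left -/
def leftIdeal : Ideal R where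
  carrier := {g | ∃ w : P₂ →ₗ[R] P₁, w ∘ₗ φ = g • LinearMap.id}
  add_mem' := by
    rintro a b ⟨w, hw⟩ ⟨w', hw'⟩
    exact ⟨w + w', by rw [LinearMap.add_comp, hw, hw', add_smul]⟩
  zero_mem' := ⟨0, by rw [LinearMap.zero_comp, zero_smul]⟩
  smul_mem' := by
    rintro c a ⟨w, hw⟩
    exact ⟨c • w, by rw [LinearMap.smul_comp, hw, smul_eq_mul, mul_smul]⟩

theorem pow_mem_leftIdeal (f : R)
    (hf : (↑(PrimeSpectrum.basicOpen f) : Set (PrimeSpectrum R)) ⊆
      {p : PrimeSpectrum R | Function.Injective (φ.lTensor p.asIdeal.ResidueField)}) :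
    ∃ n : ℕ, f ^ n ∈ leftIdeal φ := by
  change f ∈ (leftIdeal φ).radical
  rw [Ideal.radical_eq_sInf, Submodule.mem_sInf]
  rintro q ⟨hle, hq⟩
  by_contra hfq
  haveI := hq
  have hinj := hf (show (⟨q, hq⟩ : PrimeSpectrum R) ∈ PrimeSpectrum.basicOpen f from hfq)
  obtain ⟨g, hg, w, hw⟩ := Groth.Agent.S4530.H5S4530.keyK φ q hinj
  exact hg (hle ⟨w, hw⟩)

end



end helpers

/-- Let R be a ring and φ : P₁ → P₂ a map of finite projective R-modules. The set U of primes p of R
such that φ ⊗ κ(p) is injective is open, and for every f ∈ R with D(f) ⊆ U the map (P₁)_f → (P₂)_f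
is injective and Coker(φ)_f is a finite projective module over R_f. -/
theorem result {R : Type u} [CommRing R] {P₁ P₂ : Type u} [AddCommGroup P₁] [Module R P₁] [AddCommGroup P₂] [Module R P₂] [Module.Finite R P₁] [Module.Projective R P₁] [Module.Finite R P₂] [Module.Projective R P₂] (φ : P₁ →ₗ[R] P₂) : IsOpen {p : PrimeSpectrum R | Function.Injective (φ.lTensor p.asIdeal.ResidueField)} ∧ ∀ f : R, (↑(PrimeSpectrum.basicOpen f) : Set (PrimeSpectrum R)) ⊆ {p : PrimeSpectrum R | Function.Injective (φ.lTensor p.asIdeal.ResidueField)} → Function.Injective (LocalizedModule.map (Submonoid.powers f) φ) ∧ Module.Finite (Localization.Away f) (LocalizedModule (Submonoid.powers f) (P₂ ⧸ LinearMap.range φ)) ∧ Module.Projective (Localization.Away f) (LocalizedModule (Submonoid.powers f) (P₂ ⧸ LinearMap.range φ)) := by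
  obtain ⟨htfae, hopen⟩ := Groth.Agent.S4530.result φ
  refine ⟨?_, ?_⟩
  · convert hopen using 1
    ext p
    exact (htfae p).out 1 0
  · intro f hf
    obtain ⟨n, w, hw⟩ := pow_mem_leftIdeal φ f hf
    have hu : IsUnit (algebraMap R (Localization.Away f) (f ^ n)) :=
      IsLocalization.map_units (Localization.Away f) (⟨f ^ n, n, rfl⟩ : Submonoid.powers f)
    obtain ⟨u, hu'⟩ := hu
    have hsmul : ∀ (M : Type u) [AddCommGroup M] [Module R M] (m : M) (s : Submonoid.powers f),
        (u : Localization.Away f) • LocalizedModule.mk m s = LocalizedModule.mk ((f ^ n) • m) s := by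
      intro M _ _ m s
      rw [hu', algebraMap_smul, LocalizedModule.smul'_mk]
    refine ⟨?_, inferInstance, ?_⟩
    · -- injectivity
      have h1 : ∀ x, (LocalizedModule.map (Submonoid.powers f) w)
          ((LocalizedModule.map (Submonoid.powers f) φ) x) = (u : Localization.Away f) • x := by
        intro x
        induction x using LocalizedModule.induction_on with
        | h m s =>
          rw [LocalizedModule.map_mk, LocalizedModule.map_mk, hsmul]
          have := LinearMap.congr_fun hw m
          simp only [LinearMap.comp_apply, LinearMap.smul_apply, LinearMap.id_apply] at this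
          rw [this]
      intro x y hxy
      have := congrArg (LocalizedModule.map (Submonoid.powers f) w) hxy
      rw [h1, h1] at this
      have h2 := congrArg (fun z => (↑u⁻¹ : Localization.Away f) • z) this
      simpa [smul_smul] using h2
    · -- projectivity
      set Q := P₂ ⧸ LinearMap.range φ
      let π : P₂ →ₗ[R] Q := (LinearMap.range φ).mkQ
      let σ : P₂ →ₗ[R] P₂ := (f ^ n) • LinearMap.id - φ ∘ₗ w
      have hσ : LinearMap.range φ ≤ LinearMap.ker σ := by
        rintro _ ⟨x, rfl⟩
        rw [LinearMap.mem_ker]
        have := LinearMap.congr_fun hw x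
        simp only [LinearMap.comp_apply, LinearMap.smul_apply, LinearMap.id_apply] at this
        simp only [σ, LinearMap.sub_apply, LinearMap.smul_apply, LinearMap.id_apply,
          LinearMap.comp_apply, this, map_smul, sub_self]
      let σbar : Q →ₗ[R] P₂ := (LinearMap.range φ).liftQ σ hσ
      have h3 : ∀ y : Q, π (σbar y) = (f ^ n) • y := by
        intro y
        obtain ⟨x, rfl⟩ := (LinearMap.range φ).mkQ_surjective y
        have e1 : σbar ((LinearMap.range φ).mkQ x) = (f ^ n) • x - φ (w x) := by
          change σ x = _
          simp only [σ, LinearMap.sub_apply, LinearMap.smul_apply,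
            LinearMap.id_apply, LinearMap.comp_apply]
        rw [e1, map_sub, map_smul]
        have e2 : π (φ (w x)) = 0 :=
          (Submodule.Quotient.mk_eq_zero _).2 ⟨w x, rfl⟩
        rw [e2, sub_zero]
      let πf := LocalizedModule.map (Submonoid.powers f) π
      let sf := LocalizedModule.map (Submonoid.powers f) σbar
      have hcomp : πf ∘ₗ sf = (u : Localization.Away f) • LinearMap.id := by
        apply LinearMap.ext
        intro x
        induction x using LocalizedModule.induction_on with
        | h m s =>
          simp only [LinearMap.comp_apply, πf, sf, LocalizedModule.map_mk, LinearMap.smul_apply,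
            LinearMap.id_apply]
          rw [h3, hsmul]
      refine Module.Projective.of_split ((↑u⁻¹ : Localization.Away f) • sf) πf ?_
      rw [LinearMap.comp_smul, hcomp, smul_smul, Units.inv_mul, one_smul]

end Groth.Agent.S6309
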