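import Groth.Statements.S6310
import Mathlib

set_option autoImplicit false
universe u
open CAlg

namespace Groth.Agent.S6310



/-- Let R be a ring, S ⊆ R a multiplicative subset, I ⊆ R an ideal and M a finite R-module. If x₁, …,
x_r ∈ M have images generating S⁻¹(M/IM) as an S⁻¹R-module, then there is f ∈ S + I (f = s + i with
s ∈ S, i ∈ I) such that x₁, …, x_r generate M_f as an R_f-module. -/
theorem result {R : Type u} [CommRing R] (S : Submonoid R) (I : Ideal R) (M : Type u) [AddCommGroup M] [Module R M] [Module.Finite R M] {r : ℕ} (x : Fin r → M) (hx : Submodule.span (Localization S) (Set.range fun j => LocalizedModule.mkLinearMap S (M ⧸ (I • (⊤ : Submodule R M))) (Submodule.Quotient.mk (x j))) = ⊤) : ∃ (s : R) (i : R), s ∈ S ∧ i ∈ I ∧ Submodule.span (Localization.Away (s + i)) (Set.range fun j => LocalizedModule.mkLinearMap (Submonoid.powers (s + i)) M (x j)) = ⊤ := by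
  classical
  set Q := M ⧸ (I • (⊤ : Submodule R M)) with hQ
  set N₀ : Submodule R Q := Submodule.span R (Set.range fun j => (Submodule.Quotient.mk (x j) : Q)) with hN₀
  set K : Submodule R M := Submodule.span R (Set.range x) with hK
  -- step (a)
  have ha : ∃ s ∈ S, ∀ z : Q ⧸ N₀, s • z = 0 := by
    have h1 : ∀ w : LocalizedModule S Q, LocalizedModule.map S N₀.mkQ w = 0 := by
      intro w
      have hw : w ∈ Submodule.span (Localization S) (Set.range fun j => LocalizedModule.mkLinearMap S Q (Submodule.Quotient.mk (x j))) := by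
        rw [hx]; exact Submodule.mem_top
      refine Submodule.span_induction (p := fun w _ => LocalizedModule.map S N₀.mkQ w = 0)
        ?_ ?_ ?_ ?_ hw
      · rintro _ ⟨j, rfl⟩
        dsimp only
        rw [LocalizedModule.mkLinearMap_apply, LocalizedModule.map_mk]
        have : N₀.mkQ (Submodule.Quotient.mk (x j)) = 0 := by
          rw [Submodule.mkQ_apply, Submodule.Quotient.mk_eq_zero]
          exact Submodule.subset_span ⟨j, rfl⟩
        rw [this, LocalizedModule.zero_mk]
      · exact map_zero _
      · intro a b _ _ ha hb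
        rw [map_add, ha, hb, add_zero]
      · intro c a _ ha
        rw [map_smul, ha, smul_zero]
    have h2 : ∀ z : Q ⧸ N₀, ∃ s : S, s • z = 0 := by
      intro z
      obtain ⟨q, rfl⟩ := N₀.mkQ_surjective z
      have := h1 (LocalizedModule.mkLinearMap S Q q)
      rw [LocalizedModule.mkLinearMap_apply, LocalizedModule.map_mk,
        ← LocalizedModule.mkLinearMap_apply] at this
      exact (IsLocalizedModule.eq_zero_iff S (LocalizedModule.mkLinearMap S (Q ⧸ N₀))).1 this
    choose sz hsz using h2
    obtain ⟨G, hG⟩ := (Module.finite_def.1 (inferInstance : Module.Finite R (Q ⧸ N₀)))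
    refine ⟨∏ z ∈ G, (sz z : R), Submonoid.prod_mem _ fun z _ => (sz z).2, fun z => ?_⟩
    have hz : z ∈ Submodule.span R (G : Set (Q ⧸ N₀)) := by rw [hG]; exact Submodule.mem_top
    refine Submodule.span_induction (p := fun z _ => (∏ z ∈ G, (sz z : R)) • z = 0) ?_ ?_ ?_ ?_ hz
    · intro z hz
      rw [← Finset.mul_prod_erase G _ hz, mul_comm, mul_smul]
      have : (sz z : R) • z = 0 := hsz z
      rw [this, smul_zero]
    · exact smul_zero _
    · intro a b _ _ ha hb
      rw [smul_add, ha, hb, add_zero]
    · intro c a _ ha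
      rw [smul_comm, ha, smul_zero]
  obtain ⟨s, hsS, hs⟩ := ha
  have ha' : ∀ m : M, s • m ∈ K ⊔ I • (⊤ : Submodule R M) := by
    intro m
    have h1 := hs (N₀.mkQ (Submodule.Quotient.mk m))
    rw [← map_smul, Submodule.mkQ_apply, Submodule.Quotient.mk_eq_zero,
      ← Submodule.Quotient.mk_smul] at h1
    have h2 : N₀ = Submodule.map (I • (⊤ : Submodule R M)).mkQ K := by
      rw [hN₀, hK, Submodule.map_span, ← Set.range_comp]
      rfl
    rw [h2] at h1
    obtain ⟨y, hy, hym⟩ := h1
    have h3 : s • m - y ∈ I • (⊤ : Submodule R M) := by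
      rw [← Submodule.Quotient.mk_eq_zero, Submodule.Quotient.mk_sub, sub_eq_zero]
      exact hym.symm
    have : s • m = y + (s • m - y) := by abel
    rw [this]
    exact Submodule.add_mem_sup hy h3
  -- step (b): Cayley–Hamilton
  set N := M ⧸ K with hN
  have hrange : LinearMap.range (algebraMap R (Module.End R N) s) ≤ I • (⊤ : Submodule R N) := by
    rintro _ ⟨n, rfl⟩
    obtain ⟨m, rfl⟩ := K.mkQ_surjective n
    rw [Module.algebraMap_end_apply, ← map_smul]
    obtain ⟨y, hy, t, ht, hyt⟩ := Submodule.mem_sup.1 (ha' m)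
    rw [← hyt, map_add]
    have : K.mkQ y = 0 := by rw [Submodule.mkQ_apply, Submodule.Quotient.mk_eq_zero]; exact hy
    rw [this, zero_add]
    have h4 : Submodule.map K.mkQ (I • (⊤ : Submodule R M)) ≤ I • (⊤ : Submodule R N) := by
      rw [Submodule.map_smul'']
      exact Submodule.smul_mono le_rfl le_top
    exact h4 ⟨t, ht, rfl⟩
  obtain ⟨p, hpm, -, hpc, hp0⟩ :=
    LinearMap.exists_monic_and_natDegree_eq_and_coeff_mem_pow_and_aeval_eq_zero R
      (algebraMap R (Module.End R N) s) I hrange
  rw [Polynomial.aeval_algebraMap_apply] at hp0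
  set d := p.natDegree with hd
  have he : Polynomial.aeval s p = s ^ d + ∑ k ∈ Finset.range d, p.coeff k * s ^ k := by
    rw [Polynomial.coe_aeval_eq_eval, Polynomial.eval_eq_sum_range, Finset.sum_range_succ,
      ← hd, hpm.coeff_natDegree, one_mul, add_comm]
  set i := ∑ k ∈ Finset.range d, p.coeff k * s ^ k with hi
  have hiI : i ∈ I := by
    refine Ideal.sum_mem _ fun k hk => Ideal.mul_mem_right _ _ ?_
    have := hpc k
    rw [Finset.mem_range] at hk
    exact Ideal.pow_le_self (by omega) this
  have hkill : ∀ m : M, (s ^ d + i) • m ∈ K := by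
    intro m
    have := LinearMap.congr_fun hp0 (K.mkQ m)
    rw [Module.algebraMap_end_apply, LinearMap.zero_apply, he, ← map_smul, Submodule.mkQ_apply,
      Submodule.Quotient.mk_eq_zero] at this
    exact this
  refine ⟨s ^ d, i, pow_mem hsS d, hiI, ?_⟩
  set f₀ := s ^ d + i with hf₀
  rw [eq_top_iff]
  rintro w -
  induction w using LocalizedModule.induction_on with
  | h m t =>
    have hf₀mem : f₀ ∈ Submonoid.powers f₀ := Submonoid.mem_powers f₀
    have h1 : LocalizedModule.mk m t =
        (Localization.mk 1 (⟨f₀, hf₀mem⟩ * t) : Localization.Away f₀) •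
          LocalizedModule.mkLinearMap (Submonoid.powers f₀) M (f₀ • m) := by
      rw [LocalizedModule.mkLinearMap_apply, LocalizedModule.mk_smul_mk, one_smul, mul_one]
      exact (LocalizedModule.mk_cancel_common_left (⟨f₀, hf₀mem⟩ : Submonoid.powers f₀) t m).symm
    rw [h1]
    refine Submodule.smul_mem _ _ ?_
    have h2 : ∀ y ∈ K, LocalizedModule.mkLinearMap (Submonoid.powers f₀) M y ∈
        Submodule.span (Localization.Away f₀)
          (Set.range fun j => LocalizedModule.mkLinearMap (Submonoid.powers f₀) M (x j)) := by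
      intro y hy
      refine Submodule.span_induction (p := fun y _ =>
        LocalizedModule.mkLinearMap (Submonoid.powers f₀) M y ∈
        Submodule.span (Localization.Away f₀)
          (Set.range fun j => LocalizedModule.mkLinearMap (Submonoid.powers f₀) M (x j)))
        ?_ ?_ ?_ ?_ hy
      · rintro _ ⟨j, rfl⟩
        exact Submodule.subset_span ⟨j, rfl⟩
      · rw [map_zero]; exact Submodule.zero_mem _
      · intro a b _ _ ha hb
        rw [map_add]; exact Submodule.add_mem _ ha hb
      · intro c a _ ha
        rw [map_smul, ← algebraMap_smul (Localization.Away f₀)]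
        exact Submodule.smul_mem _ _ ha
    exact h2 _ (hkill m)

end Groth.Agent.S6310
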