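import Groth.Statements.S6311
import Mathlib
import Groth.Agent.Lib.helper28.KZeroLib

set_option autoImplicit false
universe u
open CategoryTheory
open CAlg

namespace Groth.Agent.S6311

open Groth.Agent.Lib.helper28.KZeroLib

/-- Let R be a local ring. Then K₀(R), the Grothendieck group of the category of finite projective
R-modules, is isomorphic to ℤ via the rank; precisely, there is an isomorphism K₀(R) ≅ ℤ of abelian
groups sending the class [R] to 1 (such an isomorphism is then unique, K₀(R) being generated by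
[R]). -/
theorem result (R : Type u) [CommRing R] [IsLocalRing R] : ∃ e : KZero.K0sub (fun M : ModuleCat.{u} R => Module.Finite R M ∧ Module.Projective R M) ≃+ ℤ, e (KZero.clSub (fun M : ModuleCat.{u} R => Module.Finite R M ∧ Module.Projective R M) (ModuleCat.of R R)) = 1 := by
  classical
  obtain ⟨P, hPdef⟩ : ∃ P : ObjectProperty (ModuleCat.{u} R),
      P = fun M : ModuleCat.{u} R => Module.Finite R M ∧ Module.Projective R M := ⟨_, rfl⟩
  rw [← hPdef]
  have hP : ∀ M : ModuleCat.{u} R, P M ↔ Module.Finite R M ∧ Module.Projective R M := by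
    intro M; rw [hPdef]
  have hfree : ∀ M : ModuleCat.{u} R, P M → Module.Free R M := by
    intro M hM
    obtain ⟨h1, h2⟩ := (hP M).mp hM
    exact Module.free_of_flat_of_isLocalRing
  have hφ : ∀ (S : ShortComplex (ModuleCat.{u} R)) (h₁ : P S.X₁) (h₂ : P S.X₂) (h₃ : P S.X₃),
      S.ShortExact → (fun M : Subtype P => (Module.finrank R M.1 : ℤ)) ⟨S.X₂, h₂⟩ =
        (fun M : Subtype P => (Module.finrank R M.1 : ℤ)) ⟨S.X₁, h₁⟩ +
          (fun M : Subtype P => (Module.finrank R M.1 : ℤ)) ⟨S.X₃, h₃⟩ := by
    intro S h1 h2 h3 hS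
    simp only
    obtain ⟨f1, p1⟩ := (hP _).mp h1
    obtain ⟨f3, p3⟩ := (hP _).mp h3
    have fr1 := hfree _ h1
    have fr3 := hfree _ h3
    have hinj := (ModuleCat.mono_iff_injective _).mp hS.mono_f
    have hsurj := (ModuleCat.epi_iff_surjective _).mp hS.epi_g
    have hex := (ShortComplex.ShortExact.moduleCat_exact_iff_function_exact S).mp hS.exact
    obtain ⟨l, hl⟩ := Module.projective_lifting_property S.g.hom LinearMap.id hsurj
    have e := (Function.Exact.splitSurjectiveEquiv (f := S.f.hom) (g := S.g.hom) hex hinj ⟨l, hl⟩).1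
    rw [LinearEquiv.finrank_eq e, Module.finrank_prod]
    push_cast
    rfl
  let e0 : KZero.K0sub P →+ ℤ := lift P (fun M : Subtype P => (Module.finrank R M.1 : ℤ)) hφ
  have hPR : P (ModuleCat.of R R) := (hP _).mpr ⟨inferInstanceAs (Module.Finite R R), inferInstanceAs (Module.Projective R R)⟩
  have hPpi : ∀ n : ℕ, P (ModuleCat.of R (Fin n → R)) := fun n =>
    (hP _).mpr ⟨inferInstanceAs (Module.Finite R (Fin n → R)), inferInstanceAs (Module.Projective R (Fin n → R))⟩
  have hPprod : ∀ n : ℕ, P (ModuleCat.of R (R × (Fin n → R))) := fun n =>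
    (hP _).mpr ⟨inferInstanceAs (Module.Finite R (R × (Fin n → R))), inferInstanceAs (Module.Projective R (R × (Fin n → R)))⟩
  have hP0 : P (ModuleCat.of R PUnit.{u + 1}) :=
    (hP _).mpr ⟨inferInstanceAs (Module.Finite R PUnit.{u + 1}), inferInstanceAs (Module.Projective R PUnit.{u + 1})⟩
  have he0R : e0 (KZero.clSub P (ModuleCat.of R R)) = 1 := by
    simp only [e0]
    rw [lift_cl P _ hφ _ hPR]
    simp only
    have : Module.finrank R (ModuleCat.of R R) = 1 := Module.finrank_self R
    rw [this]; rfl
  have hgen : ∀ x : KZero.K0sub P, x = (e0 x) • KZero.clSub P (ModuleCat.of R R) := by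
    intro x
    have hx := exists_rep P x
    induction hx using AddSubgroup.closure_induction with
    | mem y hy =>
      obtain ⟨M, rfl⟩ := hy
      simp only [e0]
      rw [lift_cl P _ hφ _ M.2]
      simp only
      obtain ⟨f1, p1⟩ := (hP _).mp M.2
      have fr := hfree _ M.2
      have e := (Module.finBasis R M.1).equivFun
      have h1 : KZero.clSub P M.1 = KZero.clSub P (ModuleCat.of R (Fin (Module.finrank R M.1) → R)) :=
        cl_iso' P (X := M.1) e M.2 (hPpi _) hP0
      rw [h1, cl_pi_fin P hPpi hPR hPprod hP0, natCast_zsmul]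
    | zero => simp
    | add a b _ _ ha hb =>
      rw [map_add, add_smul, ← ha, ← hb]
    | neg a _ ha =>
      rw [map_neg, neg_smul, ← ha]
  refine ⟨AddEquiv.ofBijective e0 ⟨?_, ?_⟩, he0R⟩
  · rw [injective_iff_map_eq_zero]
    intro x hx
    rw [hgen x, hx, zero_smul]
  · intro k
    refine ⟨k • KZero.clSub P (ModuleCat.of R R), ?_⟩
    rw [map_zsmul, he0R, smul_eq_mul, mul_one]

end Groth.Agent.S6311
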