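import Groth.Statements.S6314
import Mathlib

set_option autoImplicit false
universe u
open CategoryTheory
open CAlg

namespace Groth.Agent.S6314

open MonoidalCategory in
/-- Let R be a ring and M a flat R-module. Then Torᵢᴿ(M, N) = 0 for all R-modules N and all i > 0. -/
theorem result (R : Type u) [CommRing R] (M : Type u) [AddCommGroup M] [Module R M] [Module.Flat R M] (N : ModuleCat.{u} R) (i : ℕ) (hi : 0 < i) : Limits.IsZero (((CategoryTheory.Tor (ModuleCat.{u} R) i).obj (ModuleCat.of R M)).obj N) := by
  obtain ⟨j, rfl⟩ : ∃ j, i = j + 1 := ⟨i - 1, by omega⟩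
  let P := ProjectiveResolution.of N
  let F : ModuleCat.{u} R ⥤ ModuleCat.{u} R := tensorLeft (ModuleCat.of R M)
  have hF : ((CategoryTheory.Tor (ModuleCat.{u} R) (j + 1)).obj (ModuleCat.of R M)).obj N =
      (F.leftDerived (j + 1)).obj N := rfl
  rw [hF]
  refine Limits.IsZero.of_iso ?_ (P.isoLeftDerivedObj F (j + 1))
  show Limits.IsZero (((F.mapHomologicalComplex _).obj P.complex).homology (j + 1))
  rw [← HomologicalComplex.exactAt_iff_isZero_homology, HomologicalComplex.exactAt_iff]
  have h1 : (P.complex.sc (j + 1)).Exact := (HomologicalComplex.exactAt_iff _ _).1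
    (P.complex_exactAt_succ j)
  exact Module.Flat.lTensor_shortComplex_exact (ModuleCat.of R M) _ h1
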