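import Groth.Statements.S6319
import Mathlib

set_option autoImplicit false
universe u
open CategoryTheory
open CAlg

namespace Groth.Agent.S6319

/-- Let R be an Artinian local ring. The length function defines a homomorphism of abelian groups
length_R : K'₀(R) → ℤ on the Grothendieck group of finite R-modules, sending the class of a finite
module M to its (finite) length. -/
theorem result (R : Type u) [CommRing R] [IsArtinianRing R] [IsLocalRing R] : ∃ φ : KZero.K0sub (fun M : ModuleCat.{u} R => Module.Finite R M) →+ ℤ, ∀ (M : ModuleCat.{u} R), Module.Finite R M → (φ (KZero.clSub (fun M : ModuleCat.{u} R => Module.Finite R M) M) : ℤ) = (Module.length R M).toNat := by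
  classical
  let ψ : FreeAbelianGroup (Subtype (fun M : ModuleCat.{u} R => Module.Finite R M)) →+ ℤ :=
    FreeAbelianGroup.lift (fun M => ((Module.length R M.1).toNat : ℤ))
  have hker : KZero.relSub (fun M : ModuleCat.{u} R => Module.Finite R M) ≤ ψ.ker := by
    unfold KZero.relSub
    rw [AddSubgroup.closure_le]
    rintro x ⟨S, h1, h2, h3, hS, rfl⟩
    simp only [SetLike.mem_coe, AddMonoidHom.mem_ker, map_sub, ψ, FreeAbelianGroup.lift_apply_of]
    have : Module.Finite R S.X₁ := h1
    have : Module.Finite R S.X₂ := h2
    have : Module.Finite R S.X₃ := h3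
    have hadd := Module.length_eq_add_of_exact S.f.hom S.g.hom
      ((ModuleCat.mono_iff_injective _).mp hS.mono_f) ((ModuleCat.epi_iff_surjective _).mp hS.epi_g)
      ((ShortComplex.ShortExact.moduleCat_exact_iff_function_exact S).mp hS.exact)
    have f1 : Module.length R S.X₁ ≠ ⊤ := Module.length_ne_top
    have f3 : Module.length R S.X₃ ≠ ⊤ := Module.length_ne_top
    rw [hadd, ENat.toNat_add f1 f3]
    push_cast
    ring
  refine ⟨QuotientAddGroup.lift _ ψ hker, fun M hM => ?_⟩
  unfold KZero.clSub
  rw [dif_pos hM]
  simp [ψ]

end Groth.Agent.S6319
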