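import Groth.Statements.S6321
import Mathlib

set_option autoImplicit false
universe u
open CAlg

namespace Groth.Agent.S6321

open TensorProduct in

/-- Let R be a ring and (Sᵢ, φᵢⱼ) a directed system of faithfully flat R-algebras whose transition maps
are R-algebra maps. Then S = colim Sᵢ is a faithfully flat R-algebra: for any index i the composite
R → Sᵢ → S is faithfully flat. -/
theorem result {R : Type u} [CommRing R] {ι : Type u} [Preorder ι] [Nonempty ι] [IsDirected ι (· ≤ ·)] (G : ι → Type u) [∀ i, CommRing (G i)] [∀ i, Algebra R (G i)] (f : ∀ i j, i ≤ j → G i →+* G j) [DirectedSystem G fun i j h => f i j h] (hcompat : ∀ i j (h : i ≤ j), (f i j h).comp (algebraMap R (G i)) = algebraMap R (G j)) (hff : ∀ i, (algebraMap R (G i)).FaithfullyFlat) (i : ι) : ((Ring.DirectLimit.of G (fun i j h => f i j h) i).comp (algebraMap R (G i))).FaithfullyFlat := by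
  have hff' : ∀ j, Module.FaithfullyFlat R (G j) := fun j =>
    (RingHom.faithfullyFlat_algebraMap_iff).mp (hff j)
  set S := Ring.DirectLimit G fun i j h => f i j h with hS
  set φ : ∀ j, G j →+* S := fun j => Ring.DirectLimit.of G (fun i j h => f i j h) j with hφ
  set g : R →+* S := (φ i).comp (algebraMap R (G i)) with hg
  have hφf : ∀ j l (h : j ≤ l) (x : G j), φ l (f j l h x) = φ j x := fun j l h x =>
    Ring.DirectLimit.of_f _ _
  have hgj : ∀ j (r : R), φ j (algebraMap R (G j) r) = g r := by
    intro j r
    obtain ⟨k, hik, hjk⟩ := exists_ge_ge i j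
    have h1 : φ j (algebraMap R (G j) r) = φ k (algebraMap R (G k) r) := by
      rw [← hcompat j k hjk, RingHom.comp_apply, hφf]
    have h2 : g r = φ k (algebraMap R (G k) r) := by
      rw [hg, RingHom.comp_apply, ← hcompat i k hik, RingHom.comp_apply, hφf]
    rw [h1, h2]
  letI : Algebra R S := g.toAlgebra
  show Module.FaithfullyFlat R S
  let φA : ∀ j, G j →ₐ[R] S := fun j => { φ j with commutes' := hgj j }
  let fA : ∀ j l, j ≤ l → G j →ₐ[R] G l := fun j l h =>
    { f j l h with commutes' := fun r => RingHom.congr_fun (hcompat j l h) r }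
  have hφA : ∀ j l (h : j ≤ l), (φA l).comp (fA j l h) = φA j := by
    intro j l h
    ext x
    exact hφf j l h x
  have hflat : Module.Flat R S := by
    rw [Module.Flat.iff_rTensor_injective']
    intro I
    -- every element comes from a finite stage
    have hrange : ∀ z : ↥I ⊗[R] S, ∃ j, ∃ w : ↥I ⊗[R] G j, (φA j).toLinearMap.lTensor ↥I w = z := by
      intro z
      induction z using TensorProduct.induction_on with
      | zero => exact ⟨i, 0, by simp⟩
      | tmul a s =>
        obtain ⟨j, t, rfl⟩ := Ring.DirectLimit.exists_of s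
        exact ⟨j, a ⊗ₜ t, by simp [φA, φ]⟩
      | add z1 z2 h1 h2 =>
        obtain ⟨j, w1, rfl⟩ := h1
        obtain ⟨k, w2, rfl⟩ := h2
        obtain ⟨l, hjl, hkl⟩ := exists_ge_ge j k
        refine ⟨l, (fA j l hjl).toLinearMap.lTensor ↥I w1 + (fA k l hkl).toLinearMap.lTensor ↥I w2, ?_⟩
        rw [map_add, ← LinearMap.comp_apply, ← LinearMap.comp_apply, ← LinearMap.lTensor_comp,
          ← LinearMap.lTensor_comp, ← AlgHom.comp_toLinearMap, ← AlgHom.comp_toLinearMap,
          hφA, hφA]
    rw [injective_iff_map_eq_zero]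
    intro z hz
    obtain ⟨j, w, rfl⟩ := hrange z
    -- the element of `G j`
    set y : G j := TensorProduct.lid R (G j) (I.subtype.rTensor (G j) w) with hy
    have hy0 : φ j y = 0 := by
      have h1 : TensorProduct.lid R S (I.subtype.rTensor S ((φA j).toLinearMap.lTensor ↥I w)) =
          φA j (TensorProduct.lid R (G j) (I.subtype.rTensor (G j) w)) := by
        generalize w = w'
        induction w' using TensorProduct.induction_on with
        | zero => simp
        | tmul a t => simp
        | add a b ha hb => simp only [map_add, ha, hb]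
      rw [hz, map_zero] at h1
      exact h1.symm
    obtain ⟨l, hjl, hl⟩ := Ring.DirectLimit.of.zero_exact hy0
    have hw' : (fA j l hjl).toLinearMap.lTensor ↥I w = 0 := by
      have hinj := (Module.Flat.iff_rTensor_injective' (R := R) (M := G l)).mp inferInstance I
      apply hinj
      rw [map_zero]
      apply (TensorProduct.lid R (G l)).injective
      rw [map_zero]
      have h1 : TensorProduct.lid R (G l) (I.subtype.rTensor (G l)
          ((fA j l hjl).toLinearMap.lTensor ↥I w)) =
          fA j l hjl (TensorProduct.lid R (G j) (I.subtype.rTensor (G j) w)) := by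
        generalize w = w'
        induction w' using TensorProduct.induction_on with
        | zero => simp
        | tmul a t => simp
        | add a b ha hb => simp only [map_add, ha, hb]
      rw [h1]
      exact hl
    rw [← hφA j l hjl, AlgHom.comp_toLinearMap, LinearMap.lTensor_comp, LinearMap.comp_apply, hw',
      map_zero]
  rw [Module.FaithfullyFlat.iff_flat_and_proper_ideal]
  refine ⟨hflat, ?_⟩
  intro m hm
  -- the ideal `T`
  let T : Ideal S :=
    { carrier := {z | ∃ j, ∃ y ∈ m.map (algebraMap R (G j)), φ j y = z}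
      zero_mem' := ⟨i, 0, Ideal.zero_mem _, map_zero _⟩
      add_mem' := by
        rintro _ _ ⟨j, y, hy, rfl⟩ ⟨k, y', hy', rfl⟩
        obtain ⟨l, hjl, hkl⟩ := exists_ge_ge j k
        refine ⟨l, f j l hjl y + f k l hkl y', Ideal.add_mem _ ?_ ?_, by rw [map_add, hφf, hφf]⟩
        · have := Ideal.mem_map_of_mem (f j l hjl) hy
          rwa [Ideal.map_map, hcompat] at this
        · have := Ideal.mem_map_of_mem (f k l hkl) hy'
          rwa [Ideal.map_map, hcompat] at this
      smul_mem' := by
        rintro c _ ⟨j, y, hy, rfl⟩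
        obtain ⟨k, t, rfl⟩ := Ring.DirectLimit.exists_of c
        obtain ⟨l, hjl, hkl⟩ := exists_ge_ge j k
        refine ⟨l, f k l hkl t * f j l hjl y, Ideal.mul_mem_left _ _ ?_, ?_⟩
        · have := Ideal.mem_map_of_mem (f j l hjl) hy
          rwa [Ideal.map_map, hcompat] at this
        · rw [map_mul, hφf, hφf]; rfl }
  intro htop
  have h1 : (1 : S) ∈ m • (⊤ : Submodule R S) := by rw [htop]; trivial
  have hle : m • (⊤ : Submodule R S) ≤ T.restrictScalars R := by
    rw [Submodule.smul_le]
    intro r hr s _
    obtain ⟨k, t, rfl⟩ := Ring.DirectLimit.exists_of s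
    refine ⟨k, algebraMap R (G k) r * t, Ideal.mul_mem_right _ _ (Ideal.mem_map_of_mem _ hr), ?_⟩
    rw [map_mul, hgj, Algebra.smul_def]
    rfl
  obtain ⟨j, y, hy, hy1⟩ := hle h1
  have h0 : φ j (1 - y) = 0 := by rw [map_sub, hy1, map_one, sub_self]
  obtain ⟨l, hjl, hl⟩ := Ring.DirectLimit.of.zero_exact h0
  rw [map_sub, map_one, sub_eq_zero] at hl
  have hmem : (1 : G l) ∈ m.map (algebraMap R (G l)) := by
    rw [hl]
    have := Ideal.mem_map_of_mem (f j l hjl) hy
    rwa [Ideal.map_map, hcompat] at this
  have hne := (Module.FaithfullyFlat.iff_flat_and_proper_ideal R (G l)).mp (hff' l) |>.2 m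
    hm
  apply hne
  rw [Ideal.smul_top_eq_map, (Ideal.eq_top_iff_one _).mpr hmem]
  rfl

end Groth.Agent.S6321
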