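import Groth.Statements.S6322
import Mathlib
import Groth.Agent.Lib.helper28.PureRes

set_option autoImplicit false
universe u
open CategoryTheory
open CAlg

namespace Groth.Agent.S6322
open CategoryTheory
open Groth.Agent.Lib.helper28.PureRes

section helpers



variable {R : Type u} [CommRing R]

/-- categorical form of the lifting step for projective modules -/
theorem lift_proj {X Y Z W : ModuleCat.{u} R} [Module.Projective R X] (a : Y ⟶ Z) (b : Z ⟶ W)
    (hab : Function.Exact a.hom b.hom)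
    (φ : X ⟶ Z) (hφ : φ ≫ b = 0) : ∃ ψ : X ⟶ Y, ψ ≫ a = φ := by
  have hmem : ∀ x, φ.hom x ∈ LinearMap.range a.hom := by
    intro x
    have : b.hom (φ.hom x) = 0 := by
      have := congrArg (fun t => t.hom x) hφ
      simpa using this
    exact (hab _).mp this
  obtain ⟨ψ, hψ⟩ := Module.projective_lifting_property a.hom.rangeRestrict
    (φ.hom.codRestrict (LinearMap.range a.hom) hmem) a.hom.surjective_rangeRestrict
  refine ⟨ModuleCat.ofHom ψ, ModuleCat.hom_ext ?_⟩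
  ext x
  have := congrArg Subtype.val (LinearMap.congr_fun hψ x)
  simpa using this

variable {N' : ChainComplex (ModuleCat.{u} R) ℕ} {N : ModuleCat.{u} R}
    {ε : N' ⟶ (ChainComplex.single₀ (ModuleCat.{u} R)).obj N}

theorem exists_lift' (P : ChainComplex (ModuleCat.{u} R) ℕ)
    (τ : P ⟶ (ChainComplex.single₀ (ModuleCat.{u} R)).obj N)
    (hP : ∀ n, Module.Projective R (P.X n))
    (surj : Function.Surjective (ε.f 0).hom)
    (ex0 : Function.Exact (N'.d 1 0).hom (ε.f 0).hom)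
    (exS : ∀ n, Function.Exact (N'.d (n+2) (n+1)).hom (N'.d (n+1) n).hom) :
    ∃ φ : P ⟶ N', φ ≫ ε = τ := by
  obtain ⟨z, hz⟩ : ∃ z : P.X 0 ⟶ N'.X 0, z ≫ ε.f 0 = τ.f 0 := by
    obtain ⟨ψ, hψ⟩ := Module.projective_lifting_property (ε.f 0).hom (τ.f 0).hom surj
    exact ⟨ModuleCat.ofHom ψ, ModuleCat.hom_ext hψ⟩
  obtain ⟨o, ho⟩ : ∃ o : P.X 1 ⟶ N'.X 1, o ≫ N'.d 1 0 = P.d 1 0 ≫ z :=
    lift_proj (N'.d 1 0) (ε.f 0) ex0 (P.d 1 0 ≫ z) (by
      rw [Category.assoc, hz, d_comp_toSingle])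
  have hsucc : ∀ (n : ℕ) (p : Σ' (f : P.X n ⟶ N'.X n) (f' : P.X (n + 1) ⟶ N'.X (n + 1)),
          f' ≫ N'.d (n + 1) n = P.d (n + 1) n ≫ f),
      ∃ f'' : P.X (n + 2) ⟶ N'.X (n + 2), f'' ≫ N'.d (n + 2) (n + 1) = P.d (n + 2) (n + 1) ≫ p.2.1 := by
    rintro n ⟨f, f', w⟩
    exact lift_proj (N'.d (n+2) (n+1)) (N'.d (n+1) n) (exS n)
      (P.d (n + 2) (n + 1) ≫ f') (by rw [Category.assoc, w]; simp)
  refine ⟨ChainComplex.mkHom P N' z o ho (fun n p => ⟨(hsucc n p).choose, (hsucc n p).choose_spec⟩), ?_⟩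
  apply HomologicalComplex.to_single_hom_ext
  simpa using hz

theorem exists_homotopy_zero' (P : ChainComplex (ModuleCat.{u} R) ℕ)
    (hP : ∀ n, Module.Projective R (P.X n))
    (ex0 : Function.Exact (N'.d 1 0).hom (ε.f 0).hom)
    (exS : ∀ n, Function.Exact (N'.d (n+2) (n+1)).hom (N'.d (n+1) n).hom)
    (e : P ⟶ N') (he : e ≫ ε = 0) :
    Nonempty (Homotopy e 0) := by
  have he0 : e.f 0 ≫ ε.f 0 = 0 := by
    have := congrArg (fun t => HomologicalComplex.Hom.f t 0) he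
    simpa using this
  obtain ⟨z, hz⟩ : ∃ z : P.X 0 ⟶ N'.X 1, z ≫ N'.d 1 0 = e.f 0 :=
    lift_proj (N'.d 1 0) (ε.f 0) ex0 (e.f 0) he0
  obtain ⟨o, ho⟩ : ∃ o : P.X 1 ⟶ N'.X 2, o ≫ N'.d 2 1 = e.f 1 - P.d 1 0 ≫ z :=
    lift_proj (N'.d 2 1) (N'.d 1 0) (exS 0) _ (by
      rw [Preadditive.sub_comp, Category.assoc, hz, e.comm 1 0, sub_self])
  have hsucc : ∀ (n : ℕ) (p : Σ' (f : P.X n ⟶ N'.X (n+1)) (f' : P.X (n+1) ⟶ N'.X (n+2)),
        e.f (n+1) = P.d (n+1) n ≫ f + f' ≫ N'.d (n+2) (n+1)),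
      ∃ f'' : P.X (n+2) ⟶ N'.X (n+3),
        e.f (n+2) = P.d (n+2) (n+1) ≫ p.2.1 + f'' ≫ N'.d (n+3) (n+2) := by
    rintro n ⟨f, f', w⟩
    obtain ⟨f'', h''⟩ := lift_proj (N'.d (n+3) (n+2)) (N'.d (n+2) (n+1)) (exS (n+1))
      (e.f (n+2) - P.d (n+2) (n+1) ≫ f') (by
        rw [Preadditive.sub_comp, Category.assoc, e.comm (n+2) (n+1)]
        have : f' ≫ N'.d (n+2) (n+1) = e.f (n+1) - P.d (n+1) n ≫ f := by rw [w]; abel
        rw [this, Preadditive.comp_sub, ← Category.assoc (P.d (n+2) (n+1)), P.d_comp_d]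
        simp)
    exact ⟨f'', by rw [h'']; abel⟩
  exact ⟨Homotopy.mkInductive e z hz.symm o (by rw [ho]; abel)
    (fun n p => ⟨(hsucc n p).choose, (hsucc n p).choose_spec⟩)⟩



end helpers

/-- Let R be a ring, M → N a map of R-modules, N• → N a resolution (a chain complex with a
quasi-isomorphism onto N placed in degree 0) and … → F₁ → F₀ → M a complex with every Fᵢ free (F• a
chain complex with an augmentation to M in degree 0, exactness not required). Then (1) there is a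
map of complexes F• → N• compatible with M → N through the augmentations, and (2) any two such maps
are homotopic. -/
theorem result (R : Type u) [CommRing R] (M N : ModuleCat.{u} R) (g : M ⟶ N) (F Nc : ChainComplex (ModuleCat.{u} R) ℕ) (hF : ∀ i, Module.Free R (F.X i)) (εF : F ⟶ (ChainComplex.single₀ (ModuleCat.{u} R)).obj M) (εN : Nc ⟶ (ChainComplex.single₀ (ModuleCat.{u} R)).obj N) [QuasiIso εN] : (∃ φ : F ⟶ Nc, φ ≫ εN = εF ≫ (ChainComplex.single₀ (ModuleCat.{u} R)).map g) ∧ ∀ α β : F ⟶ Nc, α ≫ εN = εF ≫ (ChainComplex.single₀ (ModuleCat.{u} R)).map g → β ≫ εN = εF ≫ (ChainComplex.single₀ (ModuleCat.{u} R)).map g → Nonempty (Homotopy α β) := by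
  have hq : QuasiIso εN := inferInstance
  have h0 := (quasiIsoAt_zero_iff Nc _ εN (HomologicalComplex.single_obj_d _ _ _ _ _)).mp (hq.quasiIsoAt 0)
  have hS : ∀ n, Function.Exact (Nc.d (n+2) (n+1)).hom (Nc.d (n+1) n).hom := fun n =>
    (quasiIsoAt_succ_iff Nc _ εN n
      (HomologicalComplex.isZero_single_obj_X (ComplexShape.down ℕ) 0 N (n+1) (by simp))).mp
      (hq.quasiIsoAt (n+1))
  have hP : ∀ n, Module.Projective R (F.X n) := fun n => by
    have := hF n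
    infer_instance
  constructor
  · exact exists_lift' F _ hP h0.2 h0.1 hS
  · intro α β hα hβ
    obtain ⟨H⟩ := exists_homotopy_zero' (ε := εN) F hP h0.1 hS (α - β)
      (by rw [Preadditive.sub_comp, hα, hβ, sub_self])
    exact ⟨(Homotopy.equivSubZero).symm H⟩

end Groth.Agent.S6322
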