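import Groth.Statements.S6324
import Mathlib

set_option autoImplicit false
universe u
open CAlg

namespace Groth.Agent.S6324

open Polynomial

/-- `X^d + Σ_{j<d} C (c j) X^j` -/
noncomputable def mkP {R : Type*} [CommRing R] (d : ℕ) (c : ℕ → R) : R[X] :=
  X ^ d + ∑ j ∈ Finset.range d, C (c j) * X ^ j

lemma degree_sum_lt {R : Type*} [CommRing R] (d : ℕ) (c : ℕ → R) :
    degree (∑ j ∈ Finset.range d, C (c j) * X ^ j) < d :=
  (degree_sum_le _ _).trans_lt <|
    (Finset.sup_lt_iff <| WithBot.bot_lt_coe d).2 fun k hk =>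
      (degree_C_mul_X_pow_le _ _).trans_lt <| WithBot.coe_lt_coe.2 (Finset.mem_range.1 hk)

lemma monic_mkP {R : Type*} [CommRing R] (d : ℕ) (c : ℕ → R) : (mkP d c).Monic :=
  monic_X_pow_add (degree_sum_lt d c)

lemma natDegree_mkP {R : Type*} [CommRing R] [Nontrivial R] (d : ℕ) (c : ℕ → R) :
    (mkP d c).natDegree = d :=
  by
    rw [mkP, natDegree_add_eq_left_of_degree_lt, natDegree_X_pow]
    rw [degree_X_pow]
    exact degree_sum_lt d c

lemma coeff_mkP {R : Type*} [CommRing R] (d : ℕ) (c : ℕ → R) (j : ℕ) (hj : j < d) :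
    (mkP d c).coeff j = c j := by
  rw [mkP, coeff_add, coeff_X_pow, if_neg (by omega), zero_add, finsetSum_coeff]
  rw [Finset.sum_eq_single j]
  · simp
  · intro b _ hb
    rw [coeff_C_mul, coeff_X_pow, if_neg (by omega), mul_zero]
  · intro h
    exact absurd (Finset.mem_range.2 hj) h

lemma eval₂_mkP {R S : Type*} [CommRing R] [CommRing S] (f : R →+* S) (x : S) (d : ℕ)
    (c : ℕ → R) : eval₂ f x (mkP d c) = x ^ d + ∑ j ∈ Finset.range d, f (c j) * x ^ j := by
  simp [mkP, eval₂_add, eval₂_finsetSum]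

lemma eq_mkP {R : Type*} [CommRing R] {p : R[X]} (hp : p.Monic) :
    p = mkP p.natDegree p.coeff := hp.as_sum

section
variable {R S : Type u} [CommRing R] [CommRing S] [Algebra R S] (I : Ideal R)

/-- the structure map `A → S[t]` from the Rees algebra. -/
noncomputable def φ : reesAlgebra I →+* S[X] :=
  (Polynomial.mapRingHom (algebraMap R S)).comp (reesAlgebra I).val.toRingHom

lemma φ_apply (a : reesAlgebra I) : φ (S := S) I a = (a : R[X]).map (algebraMap R S) := rfl

end


/-- Let R → S be a ring map, I ⊆ R an ideal and A = Σ Iⁿtⁿ ⊆ R[t] the Rees algebra of I. For s ∈ S,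
being integral over I is equivalent to s·t ∈ S[t] being integral over A (via A ⊆ R[t] → S[t]). -/
theorem result {R S : Type u} [CommRing R] [CommRing S] [Algebra R S] (I : Ideal R) (s : S) : W4stkalgebra1.IsIntegralOverIdeal I s ↔ ((Polynomial.mapRingHom (algebraMap R S)).comp (reesAlgebra I).val.toRingHom).IsIntegralElem (Polynomial.C s * Polynomial.X) := by
  show W4stkalgebra1.IsIntegralOverIdeal I s ↔ (φ (S := S) I).IsIntegralElem (C s * X)
  constructor
  · rintro ⟨p, hpm, hpc, hp0⟩
    set d := p.natDegree with hd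
    let c' : ℕ → reesAlgebra I := fun j =>
      if h : j < d then ⟨monomial (d - j) (p.coeff j), reesAlgebra.monomial_mem.2 (hpc j h)⟩ else 0
    refine ⟨mkP d c', monic_mkP d c', ?_⟩
    rw [eval₂_mkP]
    have hp0' : s ^ d + ∑ j ∈ Finset.range d, algebraMap R S (p.coeff j) * s ^ j = 0 := by
      rw [eq_mkP hpm, eval₂_mkP] at hp0
      exact hp0
    have hterm : ∀ j ∈ Finset.range d, φ (S := S) I (c' j) * (C s * X) ^ j =
        C (algebraMap R S (p.coeff j) * s ^ j) * X ^ d := by
      intro j hj
      have hjd : j < d := Finset.mem_range.1 hj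
      have e1 : φ (S := S) I (c' j) = C (algebraMap R S (p.coeff j)) * X ^ (d - j) := by
        rw [φ_apply]
        simp only [c', dif_pos hjd]
        rw [Polynomial.map_monomial, ← C_mul_X_pow_eq_monomial]
      rw [e1, mul_pow, ← C_pow, C_mul]
      have e2 : X ^ (d - j) * X ^ j = (X : S[X]) ^ d := by
        rw [← pow_add]; congr 1; omega
      calc C ((algebraMap R S) (p.coeff j)) * X ^ (d - j) * (C (s ^ j) * X ^ j)
          = C ((algebraMap R S) (p.coeff j)) * C (s ^ j) * (X ^ (d - j) * X ^ j) := by ring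
        _ = C ((algebraMap R S) (p.coeff j)) * C (s ^ j) * X ^ d := by rw [e2]
    rw [Finset.sum_congr rfl hterm, mul_pow, ← C_pow, ← Finset.sum_mul, ← add_mul,
      ← map_sum, ← C_add, hp0', C_0, zero_mul]
  · rintro ⟨q, hqm, hq0⟩
    set d := q.natDegree with hd
    let c : ℕ → R := fun j => ((q.coeff j : reesAlgebra I) : R[X]).coeff (d - j)
    have hc : ∀ j, c j ∈ I ^ (d - j) := fun j => (q.coeff j).2 (d - j)
    have heval : Polynomial.eval₂ (algebraMap R S) s (mkP d c) = 0 := by
      rw [eval₂_mkP]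
      rw [eq_mkP hqm, eval₂_mkP] at hq0
      have h1 := congrArg (fun f : S[X] => f.coeff d) hq0
      simp only [coeff_add, coeff_zero, finsetSum_coeff] at h1
      have e0 : ((C s * X) ^ d : S[X]).coeff d = s ^ d := by
        rw [mul_pow, ← C_pow, coeff_C_mul, coeff_X_pow, if_pos rfl, mul_one]
      have e1 : ∀ j ∈ Finset.range d, (φ (S := S) I (q.coeff j) * (C s * X) ^ j).coeff d =
          algebraMap R S (c j) * s ^ j := by
        intro j hj
        have hjd : j < d := Finset.mem_range.1 hj
        rw [mul_pow, ← C_pow, ← mul_assoc, coeff_mul_X_pow', if_pos hjd.le, coeff_mul_C,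
          φ_apply, coeff_map]
      rw [e0, Finset.sum_congr rfl e1] at h1
      exact h1
    rcases subsingleton_or_nontrivial R with hR | hR
    · refine ⟨mkP d c, monic_mkP d c, ?_, heval⟩
      intro j _
      rw [Subsingleton.elim ((mkP d c).coeff j) 0]
      exact zero_mem _
    · refine ⟨mkP d c, monic_mkP d c, ?_, heval⟩
      intro j hj
      rw [natDegree_mkP] at hj ⊢
      rw [coeff_mkP d c j hj]
      exact hc j

end Groth.Agent.S6324
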