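import Groth.Statements.S6325
import Groth.Agent.S6324
import Mathlib

set_option autoImplicit false
universe u
open CAlg

namespace Groth.Agent.S6325

open Polynomial Groth.Agent.S6324

section
variable {R S : Type u} [CommRing R] [CommRing S] [Algebra R S] (I : Ideal R)

lemma iff_elem (s : S) :
    W4stkalgebra1.IsIntegralOverIdeal I s ↔ (φ (S := S) I).IsIntegralElem (C s * X) :=
  Groth.Agent.S6324.result I s

lemma φ_algebraMap (r : R) : φ (S := S) I (algebraMap R (reesAlgebra I) r) = C (algebraMap R S r) := by
  rw [φ_apply]
  show (C r : R[X]).map (algebraMap R S) = _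
  rw [Polynomial.map_C]

lemma isIntegralElem_C_of_isIntegral (s : S) (hs : IsIntegral R s) :
    (φ (S := S) I).IsIntegralElem (C s) := by
  obtain ⟨p, hpm, hp0⟩ := hs
  refine ⟨p.map (algebraMap R (reesAlgebra I)), hpm.map _, ?_⟩
  rw [eval₂_map]
  have hcomp : (φ (S := S) I).comp (algebraMap R (reesAlgebra I)) =
      (C : S →+* S[X]).comp (algebraMap R S) := by
    ext r : 1
    exact φ_algebraMap I r
  rw [hcomp, ← Polynomial.hom_eval₂, hp0, map_zero]

end


/-- Let R → S be a ring map and I ⊆ R an ideal. The elements of S integral over I form an R-submodule of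
S; moreover, the product s s' is integral over I for any s ∈ S integral over R and any s' ∈ S
integral over I. -/
theorem result {R S : Type u} [CommRing R] [CommRing S] [Algebra R S] (I : Ideal R) : (∃ N : Submodule R S, ∀ s : S, s ∈ N ↔ W4stkalgebra1.IsIntegralOverIdeal I s) ∧ (∀ s s' : S, IsIntegral R s → W4stkalgebra1.IsIntegralOverIdeal I s' → W4stkalgebra1.IsIntegralOverIdeal I (s * s')) := by
  constructor
  · refine ⟨{ carrier := {s | W4stkalgebra1.IsIntegralOverIdeal I s}
              add_mem' := ?_
              zero_mem' := ?_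
              smul_mem' := ?_ }, fun s => Iff.rfl⟩
    · intro a b ha hb
      simp only [Set.mem_setOf_eq] at ha hb ⊢
      rw [iff_elem] at ha hb ⊢
      rw [C_add, add_mul]
      exact RingHom.IsIntegralElem.add _ ha hb
    · simp only [Set.mem_setOf_eq]
      rw [iff_elem, C_0, zero_mul]
      exact (φ (S := S) I).isIntegralElem_zero
    · intro r a ha
      simp only [Set.mem_setOf_eq] at ha ⊢
      rw [iff_elem] at ha ⊢
      have e : C (r • a) * X = φ (S := S) I (algebraMap R (reesAlgebra I) r) * (C a * X) := by
        rw [φ_algebraMap, Algebra.smul_def, C_mul, mul_assoc]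
      rw [e]
      exact RingHom.IsIntegralElem.mul _ ((φ (S := S) I).isIntegralElem_map) ha
  · intro s s' hs hs'
    rw [iff_elem] at hs' ⊢
    rw [C_mul, mul_assoc]
    exact RingHom.IsIntegralElem.mul _ (isIntegralElem_C_of_isIntegral I s hs) hs'

end Groth.Agent.S6325
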