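import Groth.Statements.S6326
import Mathlib

set_option autoImplicit false
universe u
open CategoryTheory CategoryTheory.Limits
open CAlg

namespace Groth.Agent.S6326

namespace H5S6326
variable (R : Type u) [CommRing R] (N : Type u) [AddCommGroup N] [Module R N]

/-- finitely generated submodules -/
abbrev J := {N' : Submodule R N // N'.FG}

instance : IsDirected (J R N) (· ≤ ·) :=
  ⟨fun a b => ⟨⟨a.1 ⊔ b.1, a.2.sup b.2⟩, le_sup_left, le_sup_right⟩⟩
instance : Nonempty (J R N) := ⟨⟨⊥, Submodule.fg_bot⟩⟩

/-- the quotient system -/
noncomputable def F : J R N ⥤ ModuleCat.{u} R where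
  obj N' := ModuleCat.of R (N ⧸ N'.1)
  map {a b} f := ModuleCat.ofHom (Submodule.factor (leOfHom f))
  map_id a := by
    ext x
    simp [Submodule.factor]
  map_comp f g := by
    ext x
    simp [Submodule.factor]

end H5S6326



/-- Let R be a ring and N an R-module such that whenever M is the colimit of a filtered diagram (Mᵢ) of
R-modules (indexed by a filtered category in the same universe), the comparison map colim Hom_R(N,
Mᵢ) → Hom_R(N, M) is injective. Then N is finitely generated. (The implication from finite
generation back to this injectivity also holds; only the characterizing direction is stated here.) -/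
theorem result (R : Type u) [CommRing R] (N : Type u) [AddCommGroup N] [Module R N] (h : ∀ (J : Type u) [SmallCategory J] [IsFiltered J] (F : J ⥤ ModuleCat.{u} R), Function.Injective (colimit.post F (coyoneda.obj (Opposite.op (ModuleCat.of R N))))) : Module.Finite R N := by
  classical
  have hinj := h (H5S6326.J R N) (H5S6326.F R N)
  set G := H5S6326.F R N ⋙ coyoneda.obj (Opposite.op (ModuleCat.of R N)) with hG
  let b0 : H5S6326.J R N := ⟨⊥, Submodule.fg_bot⟩
  let q : ModuleCat.of R N ⟶ (H5S6326.F R N).obj b0 := ModuleCat.ofHom (Submodule.mkQ _)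
  have hpost : ∀ (i : H5S6326.J R N) (f : ModuleCat.of R N ⟶ (H5S6326.F R N).obj i),
      colimit.post (H5S6326.F R N) (coyoneda.obj (Opposite.op (ModuleCat.of R N))) (colimit.ι G i f)
        = f ≫ colimit.ι (H5S6326.F R N) i := by
    intro i f
    exact ConcreteCategory.congr_hom (colimit.ι_post (H5S6326.F R N) (coyoneda.obj (Opposite.op (ModuleCat.of R N))) i) f
  have hq0 : q ≫ colimit.ι (H5S6326.F R N) b0 = 0 := by
    ext n
    simp only [ModuleCat.hom_comp, LinearMap.coe_comp, Function.comp_apply, ModuleCat.hom_zero,
      LinearMap.zero_apply]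
    let bn : H5S6326.J R N := ⟨Submodule.span R {n}, Submodule.fg_span_singleton n⟩
    have hle : b0 ≤ bn := Subtype.mk_le_mk.mpr bot_le
    have hw := ConcreteCategory.congr_hom (colimit.w (H5S6326.F R N) (homOfLE hle)) (q n)
    simp only [CategoryTheory.comp_apply] at hw
    rw [← hw]
    have : (H5S6326.F R N).map (homOfLE hle) (q n) = 0 := by
      change Submodule.factor (leOfHom (homOfLE hle)) (Submodule.Quotient.mk n) = 0
      rw [← Submodule.mkQ_apply, Submodule.factor_mk, Submodule.mkQ_apply, Submodule.Quotient.mk_eq_zero]
      exact Submodule.mem_span_singleton_self n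
    rw [this, map_zero]
  have hxy : colimit.ι G b0 q = colimit.ι G b0 (0 : ModuleCat.of R N ⟶ (H5S6326.F R N).obj b0) := by
    apply hinj
    rw [hpost, hpost, hq0, Limits.zero_comp]
  obtain ⟨k, f, g, hk⟩ := (Types.FilteredColimit.colimit_eq_iff (F := G)).mp hxy
  have hk' : q ≫ (H5S6326.F R N).map f = 0 := by
    have : (0 : ModuleCat.of R N ⟶ (H5S6326.F R N).obj b0) ≫ (H5S6326.F R N).map g = 0 := Limits.zero_comp
    rw [← this]
    exact hk
  have htop : k.1 = ⊤ := by
    rw [eq_top_iff]
    intro n _
    have := ConcreteCategory.congr_hom hk' n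
    simp only [CategoryTheory.comp_apply] at this
    have h2 : (H5S6326.F R N).map f (q n) = Submodule.Quotient.mk n := by
      change Submodule.factor (leOfHom f) (Submodule.Quotient.mk n) = _
      rw [← Submodule.mkQ_apply, Submodule.factor_mk, Submodule.mkQ_apply]
    rw [h2] at this
    exact (Submodule.Quotient.mk_eq_zero _).mp this
  exact Module.finite_def.mpr (htop ▸ k.2)

end Groth.Agent.S6326
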