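import Groth.Statements.S6327
import Mathlib
import Groth.Agent.S6326

set_option autoImplicit false
universe u
open CategoryTheory CategoryTheory.Limits
open CAlg

namespace Groth.Agent.S6327

namespace H5S6327
variable (R : Type u) [CommRing R] {n : ℕ} (K : Submodule R (Fin n → R))

/-- finitely generated submodules of K -/
abbrev J := {K' : Submodule R (Fin n → R) // K'.FG ∧ K' ≤ K}

instance : IsDirected (J R K) (· ≤ ·) :=
  ⟨fun a b => ⟨⟨a.1 ⊔ b.1, a.2.1.sup b.2.1, sup_le a.2.2 b.2.2⟩,
    Subtype.mk_le_mk.mpr le_sup_left, Subtype.mk_le_mk.mpr le_sup_right⟩⟩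
instance : Nonempty (J R K) := ⟨⟨⊥, Submodule.fg_bot, bot_le⟩⟩

/-- the quotient system -/
noncomputable def F : J R K ⥤ ModuleCat.{u} R where
  obj K' := ModuleCat.of R ((Fin n → R) ⧸ K'.1)
  map {a b} f := ModuleCat.ofHom (Submodule.factor (leOfHom f))
  map_id a := by
    ext x
    simp [Submodule.factor]
  map_comp f g := by
    ext x
    simp [Submodule.factor]

end H5S6327



/-- Let R be a ring and N an R-module such that whenever M is the colimit of a filtered diagram (Mᵢ) of
R-modules (indexed by a filtered category in the same universe), the comparison map colim Hom_R(N,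
Mᵢ) → Hom_R(N, M) is bijective. Then N is finitely presented. (The implication from finite
presentation back to this bijectivity also holds; only the characterizing direction is stated here.) -/
theorem result (R : Type u) [CommRing R] (N : Type u) [AddCommGroup N] [Module R N] (h : ∀ (J : Type u) [SmallCategory J] [IsFiltered J] (F : J ⥤ ModuleCat.{u} R), Function.Bijective (colimit.post F (coyoneda.obj (Opposite.op (ModuleCat.of R N))))) : Module.FinitePresentation R N := by
  classical
  have hfin : Module.Finite R N := Groth.Agent.S6326.result R N (fun J _ _ F => (h J F).1)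
  obtain ⟨n, f, hf⟩ := Module.Finite.exists_fin' R N
  set K := LinearMap.ker f with hK
  have hsurj := (h (H5S6327.J R K) (H5S6327.F R K)).2
  set G := H5S6327.F R K ⋙ coyoneda.obj (Opposite.op (ModuleCat.of R N)) with hG
  let b0 : H5S6327.J R K := ⟨⊥, Submodule.fg_bot, bot_le⟩
  have hpost : ∀ (i : H5S6327.J R K) (g : ModuleCat.of R N ⟶ (H5S6327.F R K).obj i),
      colimit.post (H5S6327.F R K) (coyoneda.obj (Opposite.op (ModuleCat.of R N))) (colimit.ι G i g)
        = g ≫ colimit.ι (H5S6327.F R K) i := by
    intro i g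
    exact ConcreteCategory.congr_hom (colimit.ι_post (H5S6327.F R K) (coyoneda.obj (Opposite.op (ModuleCat.of R N))) i) g
  -- the map (Fin n → R) → colimit
  let θ : (Fin n → R) →ₗ[R] (colimit (H5S6327.F R K) : ModuleCat.{u} R) :=
    (colimit.ι (H5S6327.F R K) b0).hom ∘ₗ (Submodule.mkQ _)
  have hθK : K ≤ LinearMap.ker θ := by
    intro x hx
    rw [LinearMap.mem_ker]
    let bx : H5S6327.J R K := ⟨Submodule.span R {x}, Submodule.fg_span_singleton x,
      (Submodule.span_singleton_le_iff_mem _ _).mpr hx⟩
    have hle : b0 ≤ bx := Subtype.mk_le_mk.mpr bot_le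
    have hw := ConcreteCategory.congr_hom (colimit.w (H5S6327.F R K) (homOfLE hle)) (Submodule.Quotient.mk x)
    simp only [CategoryTheory.comp_apply] at hw
    change colimit.ι (H5S6327.F R K) b0 (Submodule.Quotient.mk x) = 0
    rw [← hw]
    have : (H5S6327.F R K).map (homOfLE hle) (Submodule.Quotient.mk x) = 0 := by
      change Submodule.factor (leOfHom (homOfLE hle)) (Submodule.Quotient.mk x) = 0
      rw [← Submodule.mkQ_apply, Submodule.factor_mk, Submodule.mkQ_apply,
        Submodule.Quotient.mk_eq_zero]
      exact Submodule.mem_span_singleton_self x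
    rw [this, map_zero]
  let ψ : N →ₗ[R] (colimit (H5S6327.F R K) : ModuleCat.{u} R) :=
    (K.liftQ θ hθK) ∘ₗ (f.quotKerEquivOfSurjective hf).symm.toLinearMap
  have hψ : ∀ x, ψ (f x) = θ x := by
    intro x
    simp only [ψ, LinearMap.coe_comp, LinearEquiv.coe_coe, Function.comp_apply]
    have : (f.quotKerEquivOfSurjective hf).symm (f x) = Submodule.Quotient.mk x := by
      rw [LinearEquiv.symm_apply_eq]; rfl
    rw [this, Submodule.liftQ_apply]
  -- the cocone to N
  let dK : ∀ i : H5S6327.J R K, (H5S6327.F R K).obj i ⟶ ModuleCat.of R N := fun i =>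
    ModuleCat.ofHom (i.1.liftQ f i.2.2)
  let c : Cocone (H5S6327.F R K) :=
    { pt := ModuleCat.of R N
      ι := { app := dK
             naturality := by
               intro a b g
               ext x
               obtain ⟨x, rfl⟩ := Submodule.Quotient.mk_surjective _ x
               rfl } }
  let d : colimit (H5S6327.F R K) ⟶ ModuleCat.of R N := colimit.desc (H5S6327.F R K) c
  have hd : ∀ i, colimit.ι (H5S6327.F R K) i ≫ d = dK i := fun i => colimit.ι_desc c i
  have hdψ : d.hom ∘ₗ ψ = LinearMap.id := by
    apply LinearMap.ext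
    intro z
    obtain ⟨x, rfl⟩ := hf z
    simp only [LinearMap.coe_comp, Function.comp_apply, LinearMap.id_coe, id_eq]
    rw [hψ]
    have := ConcreteCategory.congr_hom (hd b0) (Submodule.Quotient.mk x)
    simp only [CategoryTheory.comp_apply] at this
    change d (colimit.ι (H5S6327.F R K) b0 (Submodule.Quotient.mk x)) = f x
    rw [this]
    rfl
  -- lift ψ
  obtain ⟨y, hy⟩ := hsurj (ModuleCat.ofHom ψ)
  obtain ⟨i, ψ', rfl⟩ := Types.jointly_surjective_of_isColimit (colimit.isColimit G) y
  change ModuleCat.of R N ⟶ (H5S6327.F R K).obj i at ψ'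
  replace hy : ψ' ≫ colimit.ι (H5S6327.F R K) i = ModuleCat.ofHom ψ := (hpost i ψ').symm.trans hy
  have hretr : (dK i).hom ∘ₗ ψ'.hom = LinearMap.id := by
    rw [← hdψ]
    have h1 : ψ' ≫ dK i = ModuleCat.ofHom ψ ≫ d := by
      rw [← hy, Category.assoc, hd]
    have h2 := congrArg ModuleCat.Hom.hom h1
    simpa using h2
  -- N is a retract of the finitely presented module (H5S6327.F R K).obj i
  have hfp : Module.FinitePresentation R ((Fin n → R) ⧸ i.1) :=
    Module.finitePresentation_of_surjective (Submodule.mkQ i.1) (Submodule.mkQ_surjective _)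
      (by rw [Submodule.ker_mkQ]; exact i.2.1)
  let r : ((Fin n → R) ⧸ i.1) →ₗ[R] N := (dK i).hom
  let s : N →ₗ[R] ((Fin n → R) ⧸ i.1) := ψ'.hom
  have hrs : ∀ z, r (s z) = z := fun z => LinearMap.congr_fun hretr z
  have hrsurj : Function.Surjective r := fun z => ⟨s z, hrs z⟩
  have hker : LinearMap.ker r = LinearMap.range (LinearMap.id - s ∘ₗ r) := by
    ext z
    constructor
    · intro hz
      refine ⟨z, ?_⟩
      simp only [LinearMap.sub_apply, LinearMap.id_coe, id_eq, LinearMap.coe_comp,
        Function.comp_apply]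
      rw [LinearMap.mem_ker.mp hz, map_zero, sub_zero]
    · rintro ⟨w, rfl⟩
      rw [LinearMap.mem_ker]
      simp only [LinearMap.sub_apply, LinearMap.id_coe, id_eq, LinearMap.coe_comp,
        Function.comp_apply, map_sub, hrs, sub_self]
  refine Module.finitePresentation_of_surjective r hrsurj ?_
  rw [hker, LinearMap.range_eq_map]
  exact Submodule.FG.map _ (Module.Finite.fg_top)

end Groth.Agent.S6327
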