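import Groth.Statements.S6328
import Mathlib

set_option autoImplicit false
universe u
open CAlg

namespace Groth.Agent.S6328

namespace H5S6328
variable (R : Type u) [CommRing R] (M : Type u) [AddCommGroup M] [Module R M]

/-- the free module on `M` (wrapped, so that instance paths are uniform) -/
def P : Type u := M →₀ R
noncomputable instance : AddCommGroup (P R M) := inferInstanceAs (AddCommGroup (M →₀ R))
noncomputable instance : Module R (P R M) := inferInstanceAs (Module R (M →₀ R))

/-- canonical surjection -/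
noncomputable def π : P R M →ₗ[R] M := Finsupp.linearCombination R id

/-- basis vectors -/
noncomputable def e (m : M) : P R M := Finsupp.single m (1 : R)

lemma π_e (m : M) : π R M (e R M m) = m := by
  show Finsupp.linearCombination R id (Finsupp.single m (1 : R)) = m
  rw [Finsupp.linearCombination_single, one_smul]
  rfl

/-- finite free piece -/
noncomputable def A (S : Finset M) : Submodule R (P R M) := Finsupp.supported R R (S : Set M)

lemma e_mem (m : M) (S : Finset M) (h : m ∈ S) : e R M m ∈ A R M S :=
  Finsupp.single_mem_supported R 1 (by exact_mod_cast h)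

lemma A_mono' {S T : Finset M} (h : S ⊆ T) : A R M S ≤ A R M T :=
  Finsupp.supported_mono (by exact_mod_cast h)

instance (S : Finset M) : Module.Finite R (A R M S) :=
  Module.Finite.equiv (Finsupp.supportedEquivFinsupp (M := R) (R := R) (S : Set M)).symm

instance (S : Finset M) : Module.Free R (A R M S) :=
  Module.Free.of_equiv (Finsupp.supportedEquivFinsupp (M := R) (R := R) (S : Set M)).symm

/-- index type -/
abbrev I : Type u := {p : Finset M × Submodule R (P R M) //
  p.2.FG ∧ p.2 ≤ A R M p.1 ⊓ LinearMap.ker (π R M)}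

open scoped Classical in
instance : IsDirected (I R M) (· ≤ ·) :=
  ⟨fun a b => ⟨⟨(a.1.1 ∪ b.1.1, a.1.2 ⊔ b.1.2), a.2.1.sup b.2.1, by
      refine sup_le ?_ ?_
      · exact a.2.2.trans (inf_le_inf_right _ (A_mono' R M Finset.subset_union_left))
      · exact b.2.2.trans (inf_le_inf_right _ (A_mono' R M Finset.subset_union_right))⟩,
    ⟨Finset.subset_union_left, le_sup_left⟩, ⟨Finset.subset_union_right, le_sup_right⟩⟩⟩

instance : Nonempty (I R M) := ⟨⟨(∅, ⊥), Submodule.fg_bot, bot_le⟩⟩

/-- the modules -/
def G (i : I R M) : Type u := ↥(A R M i.1.1) ⧸ (i.1.2.comap (A R M i.1.1).subtype)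

noncomputable instance (i : I R M) : AddCommGroup (G R M i) :=
  inferInstanceAs (AddCommGroup (↥(A R M i.1.1) ⧸ (i.1.2.comap (A R M i.1.1).subtype)))
noncomputable instance (i : I R M) : Module R (G R M i) :=
  inferInstanceAs (Module R (↥(A R M i.1.1) ⧸ (i.1.2.comap (A R M i.1.1).subtype)))

/-- quotient map -/
noncomputable def mk (i : I R M) : ↥(A R M i.1.1) →ₗ[R] G R M i :=
  Submodule.mkQ (i.1.2.comap (A R M i.1.1).subtype)

lemma mk_surjective (i : I R M) : Function.Surjective (mk R M i) :=
  Submodule.mkQ_surjective _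

lemma mk_eq_zero (i : I R M) (x : A R M i.1.1) : mk R M i x = 0 ↔ (x : P R M) ∈ i.1.2 :=
  Submodule.Quotient.mk_eq_zero (Submodule.comap (A R M i.1.1).subtype i.1.2)

lemma A_mono {i j : I R M} (h : i ≤ j) : A R M i.1.1 ≤ A R M j.1.1 :=
  A_mono' R M h.1

/-- transition maps -/
noncomputable def f (i j : I R M) (h : i ≤ j) : G R M i →ₗ[R] G R M j :=
  Submodule.mapQ _ _ (Submodule.inclusion (A_mono R M h)) (by
    intro x hx
    exact h.2 hx)

lemma f_mk (i j : I R M) (h : i ≤ j) (x : A R M i.1.1) :
    f R M i j h (mk R M i x) = mk R M j (Submodule.inclusion (A_mono R M h) x) :=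
  rfl

instance : DirectedSystem (G R M) (fun i j h => f R M i j h) where
  map_self i x := by
    obtain ⟨x, rfl⟩ := mk_surjective R M i x
    rfl
  map_map k j i hij hjk x := by
    obtain ⟨x, rfl⟩ := mk_surjective R M i x
    rfl

/-- maps to `M` -/
noncomputable def g (i : I R M) : G R M i →ₗ[R] M :=
  Submodule.liftQ _ (π R M ∘ₗ (A R M i.1.1).subtype) (by
    intro x hx
    exact (i.2.2 hx).2)

lemma g_mk (i : I R M) (x : A R M i.1.1) : g R M i (mk R M i x) = π R M x := rfl

lemma g_f (i j : I R M) (h : i ≤ j) (x : G R M i) : g R M j (f R M i j h x) = g R M i x := by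
  obtain ⟨x, rfl⟩ := mk_surjective R M i x
  rfl

instance (i : I R M) : Module.FinitePresentation R (G R M i) := by
  have : Module.FinitePresentation R (A R M i.1.1) := Module.finitePresentation_of_projective R _
  refine Module.finitePresentation_of_surjective (mk R M i) (mk_surjective R M i) ?_
  have hker : LinearMap.ker (mk R M i) = i.1.2.comap (A R M i.1.1).subtype :=
    Submodule.ker_mkQ (Submodule.comap (A R M i.1.1).subtype i.1.2)
  rw [hker]
  apply Submodule.fg_of_fg_map_injective (A R M i.1.1).subtype (Submodule.injective_subtype _)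
  rw [Submodule.map_comap_subtype, inf_eq_right.mpr (i.2.2.trans inf_le_left)]
  exact i.2.1

end H5S6328



/-- Every module M over a ring R can be written as the direct limit of a directed system (Mᵢ, μᵢⱼ) of
finitely presented R-modules. -/
theorem result (R : Type u) [CommRing R] (M : Type u) [AddCommGroup M] [Module R M] : ∃ (ι : Type u) (_ : Preorder ι) (_ : IsDirected ι (· ≤ ·)) (_ : Nonempty ι) (_ : DecidableEq ι) (G : ι → Type u) (_ : ∀ i, AddCommGroup (G i)) (_ : ∀ i, Module R (G i)) (f : ∀ i j, i ≤ j → G i →ₗ[R] G j) (_ : DirectedSystem G fun i j h => f i j h), (∀ i, Module.FinitePresentation R (G i)) ∧ Nonempty (Module.DirectLimit G f ≃ₗ[R] M) := by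
  let dec : DecidableEq (H5S6328.I R M) := Classical.decEq _
  refine ⟨H5S6328.I R M, inferInstance, inferInstance, inferInstance, dec, H5S6328.G R M,
    inferInstance, inferInstance, H5S6328.f R M, inferInstance, inferInstance, ?_⟩
  let L := Module.DirectLimit.lift R (H5S6328.I R M) (H5S6328.G R M) (H5S6328.f R M) (H5S6328.g R M) (H5S6328.g_f R M)
  have hsurj : Function.Surjective L := by
    intro m
    let i : H5S6328.I R M := ⟨(({m} : Finset M), ⊥), Submodule.fg_bot, bot_le⟩
    refine ⟨Module.DirectLimit.of R (H5S6328.I R M) (H5S6328.G R M) (H5S6328.f R M) i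
      (H5S6328.mk R M i ⟨H5S6328.e R M m, H5S6328.e_mem R M m _ (Finset.mem_singleton_self m)⟩), ?_⟩
    simp only [L, Module.DirectLimit.lift_of, H5S6328.g_mk, H5S6328.π_e]
  have hinj : Function.Injective L := by
    rw [injective_iff_map_eq_zero]
    intro z hz
    obtain ⟨i, x, rfl⟩ := Module.DirectLimit.exists_of z
    obtain ⟨a, rfl⟩ := H5S6328.mk_surjective R M i x
    simp only [L, Module.DirectLimit.lift_of, H5S6328.g_mk] at hz
    let j : H5S6328.I R M := ⟨(i.1.1, i.1.2 ⊔ Submodule.span R {(a : H5S6328.P R M)}),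
      i.2.1.sup (Submodule.fg_span_singleton _), by
        refine sup_le i.2.2 ?_
        rw [Submodule.span_singleton_le_iff_mem]
        exact ⟨a.2, hz⟩⟩
    have hij : i ≤ j := ⟨le_rfl, le_sup_left⟩
    rw [← Module.DirectLimit.of_f (hij := hij), H5S6328.f_mk]
    have : H5S6328.mk R M j (Submodule.inclusion (H5S6328.A_mono R M hij) a) = 0 := by
      rw [H5S6328.mk_eq_zero]
      exact Submodule.mem_sup_right (Submodule.mem_span_singleton_self _)
    rw [this, map_zero]
  exact ⟨LinearEquiv.ofBijective L ⟨hinj, hsurj⟩⟩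

end Groth.Agent.S6328
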