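import Groth.Statements.S6329
import Mathlib

set_option autoImplicit false
universe u
open CAlg

namespace Groth.Agent.S6329

section helpers


variable {R : Type u} [CommRing R] (m : Ideal R) [m.IsMaximal]

/-- length of the localization at m -/
noncomputable def L (N : Type u) [AddCommGroup N] [Module R N] : ℕ∞ :=
  Module.length (Localization.AtPrime m) (LocalizedModule m.primeCompl N)

theorem L_exact {N₁ N₂ N₃ : Type u} [AddCommGroup N₁] [Module R N₁] [AddCommGroup N₂] [Module R N₂]
    [AddCommGroup N₃] [Module R N₃] (f : N₁ →ₗ[R] N₂) (g : N₂ →ₗ[R] N₃)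
    (hf : Function.Injective f) (hg : Function.Surjective g) (H : Function.Exact f g) :
    L m N₂ = L m N₁ + L m N₃ := by
  unfold L
  refine Module.length_eq_add_of_exact (LocalizedModule.map m.primeCompl f)
    (LocalizedModule.map m.primeCompl g) (LocalizedModule.map_injective _ f hf)
    (LocalizedModule.map_surjective _ g hg) ?_
  exact LocalizedModule.map_exact m.primeCompl f g H

theorem L_equiv {N₁ N₂ : Type u} [AddCommGroup N₁] [Module R N₁] [AddCommGroup N₂] [Module R N₂]
    (e : N₁ ≃ₗ[R] N₂) : L m N₁ = L m N₂ := by
  unfold L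
  exact LinearEquiv.length_eq (IsLocalizedModule.mapEquiv m.primeCompl
    (LocalizedModule.mkLinearMap m.primeCompl N₁) (LocalizedModule.mkLinearMap m.primeCompl N₂)
    (Localization.AtPrime m) e)

theorem L_simple (Q : Type u) [AddCommGroup Q] [Module R Q] [IsSimpleModule R Q] :
    L m Q = if Module.annihilator R Q = m then 1 else 0 := by
  unfold L
  split_ifs with h
  · rw [Module.length_eq_one_iff, isSimpleModule_iff_toSpanSingleton_surjective]
    have hann : ∀ q : Q, q ≠ 0 → ∀ s : R, s • q = 0 → s ∈ m := by
      intro q hq s hs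
      have hle : m ≤ LinearMap.ker (LinearMap.toSpanSingleton R Q q) := by
        intro r hr
        rw [← h] at hr
        rw [LinearMap.mem_ker, LinearMap.toSpanSingleton_apply]
        exact Module.mem_annihilator.1 hr q
      have hne : LinearMap.ker (LinearMap.toSpanSingleton R Q q) ≠ ⊤ := by
        intro htop
        have : (1 : R) ∈ LinearMap.ker (LinearMap.toSpanSingleton R Q q) := by rw [htop]; trivial
        rw [LinearMap.mem_ker, LinearMap.toSpanSingleton_apply, one_smul] at this
        exact hq this
      have heq := Ideal.IsMaximal.eq_of_le ‹m.IsMaximal› hne hle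
      rw [heq, LinearMap.mem_ker, LinearMap.toSpanSingleton_apply]
      exact hs
    have hmk0 : ∀ (q : Q) (s : m.primeCompl), LocalizedModule.mk q s = 0 → q = 0 := by
      intro q s hqs
      by_contra hq
      rw [← LocalizedModule.zero_mk s, LocalizedModule.mk_eq] at hqs
      obtain ⟨u, hu⟩ := hqs
      rw [smul_zero, smul_zero] at hu
      have h1 : ((u * s : m.primeCompl) : R) • q = 0 := by
        rw [← hu]
        simp [Submonoid.smul_def, mul_smul]
      exact (u * s).2 (hann q hq _ h1)
    constructor
    · have : Nontrivial Q := IsSimpleModule.nontrivial R Q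
      obtain ⟨q, hq⟩ := exists_ne (0 : Q)
      exact ⟨⟨LocalizedModule.mk q 1, 0, fun h0 => hq (hmk0 q 1 h0)⟩⟩
    · intro x hx y
      induction x using LocalizedModule.induction_on with
      | h q s =>
        induction y using LocalizedModule.induction_on with
        | h q' s' =>
          have hq : q ≠ 0 := by
            rintro rfl
            exact hx (LocalizedModule.zero_mk s)
          obtain ⟨r, hr⟩ := IsSimpleModule.toSpanSingleton_surjective R hq q'
          rw [LinearMap.toSpanSingleton_apply] at hr
          refine ⟨Localization.mk (r * s) s', ?_⟩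
          rw [LinearMap.toSpanSingleton_apply, LocalizedModule.mk_smul_mk, ← hr, mul_comm r,
            mul_smul]
          exact LocalizedModule.mk_cancel_common_right s' s (r • q)
  · rw [Module.length_eq_zero_iff, LocalizedModule.subsingleton_iff]
    have hmax := IsSimpleModule.annihilator_isMaximal (R := R) (M := Q)
    have : ¬ Module.annihilator R Q ≤ m := by
      intro hle
      exact h (hmax.eq_of_le (Ideal.IsMaximal.ne_top ‹_›) hle)
    obtain ⟨x, hx, hxm⟩ := SetLike.not_le_iff_exists.1 this
    intro q
    exact ⟨x, hxm, Module.mem_annihilator.1 hx q⟩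

variable {M : Type u} [AddCommGroup M] [Module R M]

theorem L_step (N₁ N₂ : Submodule R M) (hcov : N₁ ⋖ N₂) :
    L m N₂ = L m N₁ + (if N₁.colon (N₂ : Set M) = m then 1 else 0) := by
  have hle : N₁ ≤ N₂ := hcov.le
  have hsimple : IsSimpleModule R (N₂ ⧸ Submodule.comap N₂.subtype N₁) :=
    (covBy_iff_quot_is_simple hle).1 hcov
  have hann : Module.annihilator R (N₂ ⧸ Submodule.comap N₂.subtype N₁) = N₁.colon (N₂ : Set M) := by
    ext r
    rw [Module.mem_annihilator, Submodule.mem_colon]
    constructor
    · intro h x hx
      have := h (Submodule.Quotient.mk ⟨x, hx⟩)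
      rw [← Submodule.Quotient.mk_smul, Submodule.Quotient.mk_eq_zero, Submodule.mem_comap] at this
      exact this
    · intro h q
      induction q using Submodule.Quotient.induction_on with
      | H x =>
        rw [← Submodule.Quotient.mk_smul, Submodule.Quotient.mk_eq_zero, Submodule.mem_comap]
        exact h x.1 x.2
  rw [L_exact m (Submodule.inclusion hle) (Submodule.comap N₂.subtype N₁).mkQ
    (Submodule.inclusion_injective hle) (Submodule.mkQ_surjective _) ?_,
    L_simple m (N₂ ⧸ Submodule.comap N₂.subtype N₁), hann]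
  rw [LinearMap.exact_iff, Submodule.ker_mkQ, Submodule.range_inclusion]

theorem L_chain (f : ℕ → Submodule R M) (hf0 : f 0 = ⊥) :
    ∀ n : ℕ, (∀ j < n, f j ⋖ f (j + 1)) →
      L m (f n) = ∑ j ∈ Finset.range n, (if (f j).colon (f (j + 1) : Set M) = m then 1 else 0) := by
  intro n
  induction n with
  | zero =>
    intro _
    rw [Finset.range_zero, Finset.sum_empty, hf0]
    unfold L
    rw [Module.length_eq_zero_iff]
    infer_instance
  | succ n ih =>
    intro h
    rw [Finset.sum_range_succ, ← ih (fun j hj => h j (Nat.lt_succ_of_lt hj)),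
      L_step m (f n) (f (n + 1)) (h n (Nat.lt_succ_self n))]



end helpers

/-- Let R be a ring, M an R-module and 0 = M₀ ⊂ M₁ ⊂ … ⊂ Mₙ = M a maximal chain of submodules (a
composition series; each Mᵢ/Mᵢ₋₁ is simple, of the form R/mᵢ with mᵢ = (Mᵢ₋₁ : Mᵢ) maximal). Then
for every maximal ideal m of R the number of indices i with mᵢ = m equals length_{R_m}(M_m). -/
theorem result {R : Type u} [CommRing R] (M : Type u) [AddCommGroup M] [Module R M] (s : CompositionSeries (Submodule R M)) (h0 : s.head = ⊥) (h1 : s.last = ⊤) (m : Ideal R) [m.IsMaximal] : ((Finset.univ.filter fun i : Fin s.length => (s i.castSucc).colon (s i.succ : Set M) = m).card : ℕ∞) = Module.length (Localization.AtPrime m) (LocalizedModule m.primeCompl M) := by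
  classical
  set f : ℕ → Submodule R M := fun j => if h : j ≤ s.length then s ⟨j, Nat.lt_succ_of_le h⟩ else ⊤
    with hf
  have hfi : ∀ i : Fin (s.length + 1), f i.val = s i := by
    intro i
    have : i.val ≤ s.length := Nat.le_of_lt_succ i.2
    simp only [hf, this, dif_pos]
  have hf0 : f 0 = ⊥ := by
    rw [← h0]
    exact hfi 0
  have hstep : ∀ j < s.length, f j ⋖ f (j + 1) := by
    intro j hj
    have h := s.step ⟨j, hj⟩
    have e1 : f j = s (Fin.castSucc ⟨j, hj⟩) := hfi (Fin.castSucc ⟨j, hj⟩)
    have e2 : f (j + 1) = s (Fin.succ ⟨j, hj⟩) := hfi (Fin.succ ⟨j, hj⟩)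
    rw [e1, e2]
    exact h
  have hmain := L_chain m f hf0 s.length hstep
  have hlast : f s.length = ⊤ := by
    rw [← h1]
    exact hfi (Fin.last _)
  have hL : L m (f s.length) = L m M := by
    rw [hlast]
    exact L_equiv m Submodule.topEquiv
  rw [hL] at hmain
  change _ = L m M
  rw [hmain, Finset.card_filter, Nat.cast_sum, Finset.sum_range]
  apply Finset.sum_congr rfl
  intro i _
  have e1 : f i.val = s i.castSucc := hfi i.castSucc
  have e2 : f (i.val + 1) = s i.succ := hfi i.succ
  rw [e1, e2]
  split_ifs <;> simp

end Groth.Agent.S6329
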