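import Groth.Statements.S6330
import Mathlib

set_option autoImplicit false
universe u
open scoped TensorProduct
open CAlg

namespace Groth.Agent.S6330

namespace S6330aux

variable {R : Type u} [CommRing R] {P₁ P₂ : Type u} [AddCommGroup P₁] [Module R P₁]
  [AddCommGroup P₂] [Module R P₂]

lemma surj_iff (φ : P₁ →ₗ[R] P₂) (k : Type u) [CommRing k] [Algebra R k] :
    Function.Surjective (φ.lTensor k) ↔ Subsingleton (k ⊗[R] (P₂ ⧸ LinearMap.range φ)) := by
  have hex : Function.Exact φ (LinearMap.range φ).mkQ := by
    intro y
    rw [Submodule.mkQ_apply, Submodule.Quotient.mk_eq_zero]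
    rfl
  have hs : Function.Surjective (LinearMap.range φ).mkQ := Submodule.mkQ_surjective _
  have hex' := lTensor_exact k hex hs
  have hs' : Function.Surjective ((LinearMap.range φ).mkQ.lTensor k) :=
    LinearMap.lTensor_surjective k hs
  constructor
  · intro h
    refine ⟨fun a b => ?_⟩
    have : ∀ z : k ⊗[R] (P₂ ⧸ LinearMap.range φ), z = 0 := by
      intro z
      obtain ⟨w, rfl⟩ := hs' z
      obtain ⟨v, rfl⟩ := h w
      exact (hex' _).2 ⟨v, rfl⟩
    rw [this a, this b]
  · intro h w
    exact (hex' w).1 (Subsingleton.elim _ _)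

lemma map_surj (φ : P₁ →ₗ[R] P₂) (S : Submonoid R)
    (h : Subsingleton (LocalizedModule S (P₂ ⧸ LinearMap.range φ))) :
    Function.Surjective (LocalizedModule.map S φ) := by
  intro y
  induction y using LocalizedModule.induction_on with
  | h m s =>
    have h0 : LocalizedModule.mk ((LinearMap.range φ).mkQ m) s = 0 := Subsingleton.elim _ _
    rw [← LocalizedModule.zero_mk s, LocalizedModule.mk_eq] at h0
    obtain ⟨c, hc⟩ := h0
    simp only [Submonoid.smul_def, smul_zero] at hc
    rw [← map_smul, ← map_smul, Submodule.mkQ_apply, Submodule.Quotient.mk_eq_zero] at hc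
    obtain ⟨x, hx⟩ := hc
    refine ⟨LocalizedModule.mk x ((c * s) * s), ?_⟩
    rw [LocalizedModule.map_mk, hx, LocalizedModule.mk_eq]
    refine ⟨1, ?_⟩
    simp only [one_smul, smul_smul, Submonoid.smul_def, Submonoid.coe_mul]
    congr 1
    ring

lemma ker_loc (φ : P₁ →ₗ[R] P₂) (S : Submonoid R) :
    LinearMap.range (LocalizedModule.map S (LinearMap.ker φ).subtype) =
      LinearMap.ker (LocalizedModule.map S φ) := by
  apply le_antisymm
  · rintro _ ⟨x, rfl⟩
    induction x using LocalizedModule.induction_on with
    | h m s =>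
      rw [LinearMap.mem_ker, LocalizedModule.map_mk, LocalizedModule.map_mk]
      have : φ ((LinearMap.ker φ).subtype m) = 0 := m.2
      rw [this, LocalizedModule.zero_mk]
  · intro y hy
    induction y using LocalizedModule.induction_on with
    | h m s =>
      rw [LinearMap.mem_ker, LocalizedModule.map_mk, ← LocalizedModule.zero_mk s,
        LocalizedModule.mk_eq] at hy
      obtain ⟨c, hc⟩ := hy
      simp only [Submonoid.smul_def, smul_zero] at hc
      rw [← map_smul, ← map_smul] at hc
      refine ⟨LocalizedModule.mk ⟨_, hc⟩ ((c * s) * s), ?_⟩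
      rw [LocalizedModule.map_mk, LocalizedModule.mk_eq]
      refine ⟨1, ?_⟩
      simp only [one_smul, smul_smul, Submonoid.smul_def, Submonoid.coe_mul, Submodule.subtype_apply]
      congr 1
      ring

lemma ker_fin_proj {A : Type u} [CommRing A] {M N : Type u} [AddCommGroup M] [Module A M]
    [AddCommGroup N] [Module A N] [Module.Finite A M] [Module.Projective A M]
    [Module.Projective A N] (ψ : M →ₗ[A] N) (hψ : Function.Surjective ψ) :
    Module.Finite A (LinearMap.ker ψ) ∧ Module.Projective A (LinearMap.ker ψ) := by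
  obtain ⟨σ, hσ⟩ := Module.projective_lifting_property ψ LinearMap.id hψ
  let π : M →ₗ[A] LinearMap.ker ψ :=
    LinearMap.codRestrict (LinearMap.ker ψ) (LinearMap.id - σ ∘ₗ ψ) (fun m => by
      rw [LinearMap.mem_ker, LinearMap.sub_apply, map_sub, LinearMap.id_apply,
        LinearMap.comp_apply]
      have := LinearMap.congr_fun hσ (ψ m)
      simp only [LinearMap.comp_apply, LinearMap.id_apply] at this
      rw [this, sub_self])
  have hπ : π ∘ₗ (LinearMap.ker ψ).subtype = LinearMap.id := by
    ext ⟨m, hm⟩
    simp only [π, LinearMap.comp_apply, Submodule.subtype_apply, LinearMap.codRestrict_apply,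
      LinearMap.sub_apply, LinearMap.id_apply]
    rw [LinearMap.mem_ker] at hm
    rw [hm, map_zero, sub_zero]
  have hsurj : Function.Surjective π := fun m => ⟨m.1, LinearMap.congr_fun hπ m⟩
  exact ⟨Module.Finite.of_surjective π hsurj,
    Module.Projective.of_split (LinearMap.ker ψ).subtype π hπ⟩

end S6330aux

/-- Let R be a ring and φ : P₁ → P₂ a map of finite projective R-modules. The set W of primes p of R
such that φ ⊗ κ(p) is surjective is open, and for every f ∈ R with D(f) ⊆ W the map (P₁)_f → (P₂)_f
is surjective and Ker(φ)_f is a finite projective module over R_f. -/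
theorem result {R : Type u} [CommRing R] {P₁ P₂ : Type u} [AddCommGroup P₁] [Module R P₁] [AddCommGroup P₂] [Module R P₂] [Module.Finite R P₁] [Module.Projective R P₁] [Module.Finite R P₂] [Module.Projective R P₂] (φ : P₁ →ₗ[R] P₂) : IsOpen {p : PrimeSpectrum R | Function.Surjective (φ.lTensor p.asIdeal.ResidueField)} ∧ ∀ f : R, (↑(PrimeSpectrum.basicOpen f) : Set (PrimeSpectrum R)) ⊆ {p : PrimeSpectrum R | Function.Surjective (φ.lTensor p.asIdeal.ResidueField)} → Function.Surjective (LocalizedModule.map (Submonoid.powers f) φ) ∧ Module.Finite (Localization.Away f) (LocalizedModule (Submonoid.powers f) (LinearMap.ker φ)) ∧ Module.Projective (Localization.Away f) (LocalizedModule (Submonoid.powers f) (LinearMap.ker φ)) := by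
  have hW : {p : PrimeSpectrum R | Function.Surjective (φ.lTensor p.asIdeal.ResidueField)} =
      (Module.support R (P₂ ⧸ LinearMap.range φ))ᶜ := by
    ext p
    rw [Set.mem_compl_iff, Module.mem_support_iff_nontrivial_residueField_tensorProduct,
      not_nontrivial_iff_subsingleton]
    exact S6330aux.surj_iff φ _
  rw [hW]
  refine ⟨(Module.isClosed_support).isOpen_compl, fun f hf => ?_⟩
  have hsub : Subsingleton (LocalizedModule (Submonoid.powers f) (P₂ ⧸ LinearMap.range φ)) := by
    have := (LocalizedModule.subsingleton_iff_disjoint (M := P₂ ⧸ LinearMap.range φ) (f := f)).2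
      (Set.disjoint_left.2 fun p hp hp' => hf hp hp')
    exact this
  have hsurj := S6330aux.map_surj φ (Submonoid.powers f) hsub
  refine ⟨hsurj, ?_⟩
  obtain ⟨h1, h2⟩ := S6330aux.ker_fin_proj (LocalizedModule.map (Submonoid.powers f) φ) hsurj
  have hinj : Function.Injective (LocalizedModule.map (Submonoid.powers f) (LinearMap.ker φ).subtype) :=
    LocalizedModule.map_injective _ _ (Submodule.subtype_injective _)
  let e : LocalizedModule (Submonoid.powers f) (LinearMap.ker φ) ≃ₗ[Localization.Away f]
      LinearMap.ker (LocalizedModule.map (Submonoid.powers f) φ) :=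
    (LinearEquiv.ofInjective _ hinj).trans (LinearEquiv.ofEq _ _ (S6330aux.ker_loc φ _))
  exact ⟨Module.Finite.equiv e.symm, Module.Projective.of_equiv e.symm⟩

end Groth.Agent.S6330
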