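import Groth.Statements.S6331
import Mathlib

set_option autoImplicit false
universe u
open CAlg

namespace Groth.Agent.S6331

/-- Let R be a ring, I ⊆ R an ideal all of whose elements are nilpotent, and n ≥ 1 an integer whose
image in R/I is invertible. Then (1) raising to the n-th power is a bijection of the subset 1 + I of
R onto itself: for every y ∈ I there is exactly one x ∈ I with (1 + x)ⁿ = 1 + y; (2) a unit u of R
has an n-th root in R exactly when the residue class of u has an n-th root in R/I. -/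
theorem result {R : Type u} [CommRing R] (I : Ideal R) (hI : ∀ x ∈ I, IsNilpotent x) (n : ℕ) (hn : 1 ≤ n) (hinv : IsUnit ((n : ℕ) : R ⧸ I)) : (∀ y ∈ I, ∃! x : R, x ∈ I ∧ (1 + x) ^ n = 1 + y) ∧ (∀ u : Rˣ, (∃ v : R, v ^ n = (u : R)) ↔ ∃ w : R ⧸ I, w ^ n = Ideal.Quotient.mk I (u : R)) := by
  classical
  -- `n` is a unit of `R`
  have hnil : ∀ x ∈ I, IsUnit (1 + x) := fun x hx => (hI x hx).isUnit_one_add
  have hn_unit : IsUnit ((n : ℕ) : R) := by
    obtain ⟨w, hw⟩ := hinv.exists_right_inv
    obtain ⟨m, rfl⟩ := Ideal.Quotient.mk_surjective w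
    have h1 : Ideal.Quotient.mk I ((n : R) * m - 1) = 0 := by
      rw [map_sub, map_mul, map_natCast, hw, map_one, sub_self]
    rw [Ideal.Quotient.eq_zero_iff_mem] at h1
    have h2 : IsUnit ((n : R) * m) := by
      have := hnil _ h1
      rwa [add_sub_cancel] at this
    exact isUnit_of_mul_isUnit_left h2
  -- key: if `x` nilpotent and `(1+x)^n = 1 + y` with `y ∈ I` then `x ∈ I`
  have key : ∀ x : R, IsNilpotent x → ∀ y ∈ I, (1 + x) ^ n = 1 + y → x ∈ I := by
    intro x hx y hy hxy
    obtain ⟨k, hk⟩ := Polynomial.powAddExpansion (1 : R) x n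
    rw [hxy, one_pow, one_pow, mul_one] at hk
    have h1 : y = x * ((n : R) + k * x) := by
      have : y = (n : R) * x + k * x ^ 2 := by linear_combination hk
      rw [this]; ring
    have h2 : IsUnit ((n : R) + k * x) := by
      refine IsNilpotent.isUnit_add_left_of_commute ?_ hn_unit (Commute.all _ _)
      exact (Commute.all _ _).isNilpotent_mul_left hx
    obtain ⟨c, hc⟩ := h2.exists_right_inv
    have h3 : x = y * c := by rw [h1, mul_assoc, hc, mul_one]
    rw [h3]
    exact I.mul_mem_right _ hy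
  have part1 : ∀ y ∈ I, ∃! x : R, x ∈ I ∧ (1 + x) ^ n = 1 + y := by
    intro y hy
    let P : Polynomial R := Polynomial.X ^ n - Polynomial.C (1 + y)
    have hP : ∀ r : R, Polynomial.aeval r P = r ^ n - (1 + y) := by
      intro r; simp [P]
    have hP' : ∀ r : R, Polynomial.aeval r (Polynomial.derivative P) = (n : R) * r ^ (n - 1) := by
      intro r; simp [P, Polynomial.derivative_X_pow]
    have h1 : IsNilpotent (Polynomial.aeval (1 : R) P) := by
      rw [hP, one_pow]
      have : (1 : R) - (1 + y) = -y := by ring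
      rw [this]
      exact (hI y hy).neg
    have h2 : IsUnit (Polynomial.aeval (1 : R) (Polynomial.derivative P)) := by
      rw [hP', one_pow, mul_one]; exact hn_unit
    obtain ⟨r, ⟨hr1, hr2⟩, hr3⟩ := Polynomial.existsUnique_nilpotent_sub_and_aeval_eq_zero (P := P) h1 h2
    rw [hP, sub_eq_zero] at hr2
    have hx_nil : IsNilpotent (r - 1) := by
      have : r - 1 = -(1 - r) := by ring
      rw [this]; exact hr1.neg
    have hx_pow : (1 + (r - 1)) ^ n = 1 + y := by
      rw [add_sub_cancel]; exact hr2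
    refine ⟨r - 1, ⟨key _ hx_nil y hy hx_pow, hx_pow⟩, ?_⟩
    rintro x' ⟨hx'I, hx'⟩
    have : 1 + x' = r := by
      apply hr3
      refine ⟨?_, ?_⟩
      · have : (1 : R) - (1 + x') = -x' := by ring
        rw [this]; exact (hI x' hx'I).neg
      · rw [hP, hx', sub_self]
    rw [← this]; ring
  refine ⟨part1, ?_⟩
  intro u
  constructor
  · rintro ⟨v, hv⟩
    exact ⟨Ideal.Quotient.mk I v, by rw [← map_pow, hv]⟩
  · rintro ⟨w, hw⟩
    obtain ⟨v₀, rfl⟩ := Ideal.Quotient.mk_surjective w
    rw [← map_pow, Ideal.Quotient.eq] at hw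
    -- v₀^n = u (1 + y)
    set i := v₀ ^ n - (u : R) with hi
    set y := ((u⁻¹ : Rˣ) : R) * i with hy
    have hyI : y ∈ I := I.mul_mem_left _ hw
    have h1 : v₀ ^ n = (u : R) * (1 + y) := by
      rw [hy, mul_add, mul_one, ← mul_assoc, Units.mul_inv, one_mul, hi]; ring
    obtain ⟨e, he⟩ := (hnil y hyI).exists_right_inv
    have he' : e - 1 ∈ I := by
      have : e - 1 = -(y * e) := by linear_combination he
      rw [this]
      exact I.neg_mem (I.mul_mem_right _ hyI)
    obtain ⟨z, ⟨hzI, hz⟩, -⟩ := part1 (e - 1) he'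
    refine ⟨v₀ * (1 + z), ?_⟩
    rw [mul_pow, hz, h1, add_sub_cancel, mul_assoc, he, mul_one]

end Groth.Agent.S6331
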