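import Groth.Statements.S6332
import Mathlib

set_option autoImplicit false
universe u
open Fields

namespace Groth.Agent.S6332

open IntermediateField in
/-- Let L/K be a finite Galois extension of fields of characteristic p > 0 whose degree equals the prime
p (equivalently, the Galois group is cyclic of order p). Then there is an element z of L with z ^ p
- z in K which generates L over K. -/
theorem result {K L : Type u} [Field K] [Field L] [Algebra K L] (p : ℕ)
    [Fact p.Prime] [CharP K p] [FiniteDimensional K L] [IsGalois K L]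
    (hdeg : Module.finrank K L = p) :
    ∃ z : L, z ^ p - z ∈ Set.range (algebraMap K L) ∧ K⟮z⟯ = ⊤ := by
  classical
  have hp : p.Prime := Fact.out
  have hcard : Nat.card (L ≃ₐ[K] L) = p := by rw [IsGalois.card_aut_eq_finrank, hdeg]
  have hcyc : IsCyclic (L ≃ₐ[K] L) := isCyclic_of_prime_card hcard
  obtain ⟨σ, hσ⟩ := IsCyclic.exists_generator (α := L ≃ₐ[K] L)
  have hCharL : CharP L p := charP_of_injective_algebraMap (algebraMap K L).injective p
  have hfix : ∀ x : L, σ x = x → x ∈ Set.range (algebraMap K L) := by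
    intro x hx
    rw [← IntermediateField.mem_bot, IsGalois.mem_bot_iff_fixed]
    intro τ
    have h1 : σ ∈ MulAction.stabilizer (L ≃ₐ[K] L) x := by
      rw [MulAction.mem_stabilizer_iff]; exact hx
    have h2 : Subgroup.zpowers σ ≤ MulAction.stabilizer (L ≃ₐ[K] L) x :=
      Subgroup.zpowers_le.mpr h1
    have h3 := h2 (hσ τ)
    rw [MulAction.mem_stabilizer_iff] at h3
    exact h3
  have hσp : σ ^ p = 1 := by rw [← hcard]; exact pow_card_eq_one'
  obtain ⟨N, hN⟩ : ∃ N : Module.End K L, N = σ.toLinearMap - 1 := ⟨_, rfl⟩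
  have hNapp : ∀ x, N x = σ x - x := by
    intro x; rw [hN]; rfl
  have hpow : ∀ (n : ℕ) (x : L), (σ.toLinearMap ^ n : Module.End K L) x = (σ ^ n) x := by
    intro n
    induction n with
    | zero => intro x; rfl
    | succ n ih =>
      intro x
      rw [pow_succ, pow_succ, Module.End.mul_apply, ih]
      rfl
  have hNp : N ^ p = 0 := by
    have hCharE : CharP (Module.End K L) p :=
      charP_of_injective_algebraMap (algebraMap K (Module.End K L)).injective p
    rw [hN, sub_pow_char_of_commute p (Commute.one_right _), one_pow]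
    apply LinearMap.ext
    intro x
    rw [LinearMap.sub_apply, hpow, hσp]
    simp
  -- an element not in K
  obtain ⟨x, hx⟩ : ∃ x : L, x ∉ Set.range (algebraMap K L) := by
    by_contra hcon
    push Not at hcon
    have h1 : (⊥ : IntermediateField K L) = ⊤ := by
      apply le_antisymm bot_le
      intro y _
      rw [IntermediateField.mem_bot]
      exact hcon y
    rw [IntermediateField.bot_eq_top_iff_finrank_eq_one, hdeg] at h1
    exact hp.one_lt.ne' h1
  have hNx : N x ≠ 0 := by
    intro h
    rw [hNapp, sub_eq_zero] at h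
    exact hx (hfix x h)
  have hex : ∃ m : ℕ, (N ^ (m + 1)) x = 0 := by
    refine ⟨p - 1, ?_⟩
    rw [Nat.sub_add_cancel hp.one_le, hNp]
    rfl
  obtain ⟨m, hm1, hm2⟩ : ∃ m : ℕ, (N ^ (m + 1)) x = 0 ∧ ∀ k < m, (N ^ (k + 1)) x ≠ 0 :=
    ⟨Nat.find hex, Nat.find_spec hex, fun k hk => Nat.find_min hex hk⟩
  obtain ⟨m', rfl⟩ : ∃ m', m = m' + 1 := by
    rcases m with _ | m'
    · exfalso
      rw [zero_add, pow_one] at hm1
      exact hNx hm1
    · exact ⟨m', rfl⟩
  have hy0 : (N ^ (m' + 1)) x ≠ 0 := hm2 m' (Nat.lt_succ_self _)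
  have hNy : N ((N ^ (m' + 1)) x) = 0 := by
    rw [← Module.End.mul_apply, ← pow_succ']
    exact hm1
  obtain ⟨c, hc⟩ : (N ^ (m' + 1)) x ∈ Set.range (algebraMap K L) := by
    apply hfix
    have := hNy
    rw [hNapp, sub_eq_zero] at this
    exact this
  have hc0 : c ≠ 0 := by
    intro h
    rw [h, map_zero] at hc
    exact hy0 hc.symm
  obtain ⟨z, hz⟩ : ∃ z : L, z = c⁻¹ • (N ^ m') x := ⟨_, rfl⟩
  have hNz : N z = 1 := by
    rw [hz, map_smul, ← Module.End.mul_apply, ← pow_succ', ← hc, Algebra.smul_def, ← map_mul,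
      inv_mul_cancel₀ hc0, map_one]
  have hσz : σ z = z + 1 := by
    rw [hNapp] at hNz
    rw [← hNz]; ring
  refine ⟨z, ?_, ?_⟩
  · apply hfix
    rw [map_sub, map_pow, hσz, add_pow_char, one_pow]
    ring
  · have hsimple : IsSimpleOrder (IntermediateField K L) :=
      IntermediateField.isSimpleOrder_of_finrank_prime K L (by rw [hdeg]; exact hp)
    rcases eq_bot_or_eq_top (IntermediateField.adjoin K ({z} : Set L)) with h | h
    · exfalso
      have hzmem : z ∈ (⊥ : IntermediateField K L) := by
        rw [← h]; exact IntermediateField.mem_adjoin_simple_self K z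
      rw [IsGalois.mem_bot_iff_fixed] at hzmem
      have := hzmem σ
      rw [hσz] at this
      exact one_ne_zero (add_eq_left.mp this)
    · exact h

end Groth.Agent.S6332
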