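import Groth.Statements.S6333
import Mathlib

set_option autoImplicit false
universe u
open Fields

namespace Groth.Agent.S6333

open scoped IntermediateField.algebraAdjoinAdjoin in
theorem li_transfer {k K : Type*} [Field k] [Field K] [Algebra k K] (s : Set K)
    (hs : AlgebraicIndependent k ((↑) : s → K))
    (L : IntermediateField k K) [Algebra.IsAlgebraic k L]
    {ι : Type*} [Fintype ι] (x : ι → L) (hx : LinearIndependent k x) :
    LinearIndependent (Algebra.adjoin k s) (fun i => (x i : K)) := by
  classical
  have hsL : AlgebraicIndependent L ((↑) : s → K) := hs.extendScalars L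
  rw [Fintype.linearIndependent_iff]
  intro g hg i
  -- each g i is aeval of a polynomial
  have hrep : ∀ i, ∃ P : MvPolynomial s k, MvPolynomial.aeval ((↑) : s → K) P = (g i : K) := by
    intro i
    have h1 : (g i : K) ∈ Algebra.adjoin k (Set.range ((↑) : s → K)) := by
      rw [Subtype.range_coe]; exact (g i).2
    rw [Algebra.adjoin_range_eq_range_aeval] at h1
    exact h1
  choose P hP using hrep
  let Q : MvPolynomial s L := ∑ j, MvPolynomial.map (algebraMap k L) (P j) * MvPolynomial.C (x j)
  have hQ : MvPolynomial.aeval ((↑) : s → K) Q = 0 := by
    rw [map_sum, ← hg]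
    refine Finset.sum_congr rfl fun j _ => ?_
    rw [map_mul, MvPolynomial.aeval_C, MvPolynomial.aeval_map_algebraMap, hP]
    rfl
  have hQ0 : Q = 0 := by
    have := hsL
    rw [algebraicIndependent_iff_injective_aeval] at this
    exact this (by rw [hQ, map_zero])
  have hcoef : ∀ μ, ∀ j, (P j).coeff μ = 0 := by
    intro μ
    have h1 : Q.coeff μ = 0 := by rw [hQ0]; simp
    simp only [Q, MvPolynomial.coeff_sum] at h1
    have h2 : ∑ j, (P j).coeff μ • x j = 0 := by
      rw [← h1]
      refine Finset.sum_congr rfl fun j _ => ?_
      rw [Algebra.smul_def, mul_comm _ (MvPolynomial.C (x j)), MvPolynomial.coeff_C_mul,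
        MvPolynomial.coeff_map, mul_comm]
    exact Fintype.linearIndependent_iff.mp hx _ h2
  have : P i = 0 := by
    ext μ
    simp [hcoef μ i]
  apply Subtype.val_injective
  rw [← hP i, this, map_zero]
  rfl


open scoped IntermediateField.algebraAdjoinAdjoin in
theorem aux {k K : Type u} [Field k] [Field K] [Algebra k K]
    (hfg : (⊤ : IntermediateField k K).FG) :
    FiniteDimensional k (algebraicClosure k K) := by
  classical
  have hess : Algebra.EssFiniteType k K := IntermediateField.fg_top_iff.mp hfg
  obtain ⟨s, hs⟩ := exists_isTranscendenceBasis k K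
  have halgK : Algebra.IsAlgebraic (IntermediateField.adjoin k s) K := by
    have := hs.isAlgebraic_field
    rwa [Subtype.range_coe] at this
  have hfinK : Module.Finite (IntermediateField.adjoin k s) K := by
    apply +allowSynthFailures Algebra.finite_of_essFiniteType_of_isAlgebraic
    exact .of_comp k _ _
  set d := Module.finrank (IntermediateField.adjoin k s) K with hd
  have hL : Algebra.IsAlgebraic k (algebraicClosure k K) := inferInstance
  have hrank : Module.rank k (algebraicClosure k K) ≤ d := by
    apply rank_le
    intro t ht
    have h1 := li_transfer s hs.1 (algebraicClosure k K) (fun i : t => (i : algebraicClosure k K)) ht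
    have h2 : LinearIndependent (IntermediateField.adjoin k s)
        (fun i : t => ((i : algebraicClosure k K) : K)) :=
      (LinearIndependent.iff_fractionRing (Algebra.adjoin k s) (IntermediateField.adjoin k s)).mp h1
    have := h2.fintype_card_le_finrank
    simpa using this
  exact Module.rank_lt_aleph0_iff.mp (lt_of_le_of_lt hrank (Cardinal.natCast_lt_aleph0 (n := d)))


/-- For a finitely generated field extension K/k, the algebraic closure of k inside K is a finite
extension of k. -/
theorem result {k K : Type u} [Field k] [Field K] [Algebra k K]
    (hfg : (⊤ : IntermediateField k K).FG) :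
    FiniteDimensional k (algebraicClosure k K) := by
  exact aux hfg

end Groth.Agent.S6333
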