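import Groth.Statements.S6335
import Mathlib

set_option autoImplicit false
universe u
open Fields

namespace Groth.Agent.S6335

/-- Let K be a field of characteristic p > 0, L/K a separable algebraic extension and a an element of L.
If a is a root of a polynomial P over K which is separable (pairwise distinct roots in an algebraic
closure) and all of whose coefficients are p-th powers in K, then a is a p-th power in L. (Part (1),
the case where P is the minimal polynomial of a, is a special case.) -/
theorem result {K L : Type u} [Field K] [Field L] [Algebra K L]
    (p : ℕ) [Fact p.Prime] [CharP K p] [Algebra.IsSeparable K L] (a : L) (P : Polynomial K)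
    (hroot : Polynomial.aeval a P = 0) (hsep : P.Separable) (hcoeff : ∀ i : ℕ, ∃ b : K, b ^ p = P.coeff i) :
    ∃ c : L, c ^ p = a := by
  classical
  have hp : p.Prime := Fact.out
  have : CharP L p := charP_of_injective_algebraMap (algebraMap K L).injective p
  have : ExpChar L p := ExpChar.prime hp
  let E := AlgebraicClosure L
  have : CharP E p := charP_of_injective_algebraMap (algebraMap L E).injective p
  obtain ⟨c, hc⟩ := IsAlgClosed.exists_pow_nat_eq (algebraMap L E a) (n := p) hp.pos
  choose b hb using hcoeff
  let Q : Polynomial K := ∑ i ∈ P.support, Polynomial.monomial i (b i)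
  have hQ : Q.map (frobenius K p) = P := by
    simp only [Q, Polynomial.map_sum, Polynomial.map_monomial, frobenius_def, hb]
    exact (Polynomial.as_sum_support P).symm
  have hQsep : Q.Separable := (Polynomial.separable_map (frobenius K p)).mp (by rw [hQ]; exact hsep)
  -- c is a root of Q
  have hroot' : Polynomial.aeval c Q = 0 := by
    have h1 : (Polynomial.aeval c Q) ^ p = 0 := by
      rw [← map_pow, ← Polynomial.map_frobenius_expand, Polynomial.map_expand, hQ,
        Polynomial.expand_aeval, hc]
      rw [Polynomial.aeval_algebraMap_apply, hroot, map_zero]
    exact pow_eq_zero_iff (hp.ne_zero) |>.mp h1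
  have hsepc : IsSeparable L c := by
    have h2 : Polynomial.aeval c (Q.map (algebraMap K L)) = 0 := by
      rw [Polynomial.aeval_map_algebraMap]; exact hroot'
    exact (hQsep.map (f := algebraMap K L)).of_dvd (minpoly.dvd L c h2)
  have h1 : Algebra.IsSeparable L (IntermediateField.adjoin L {c}) :=
    (IntermediateField.isSeparable_adjoin_simple_iff_isSeparable L E).mpr hsepc
  have h2 : IsPurelyInseparable L (IntermediateField.adjoin L {c}) := by
    rw [IntermediateField.isPurelyInseparable_adjoin_simple_iff_pow_mem L E p]
    exact ⟨1, a, by rw [pow_one, hc]⟩
  have h3 := IntermediateField.eq_bot_of_isPurelyInseparable_of_isSeparable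
    (IntermediateField.adjoin L {c})
  have h4 : c ∈ (⊥ : IntermediateField L E) := by
    rw [← h3]; exact IntermediateField.mem_adjoin_simple_self L c
  obtain ⟨c₀, rfl⟩ := IntermediateField.mem_bot.mp h4
  refine ⟨c₀, ?_⟩
  apply (algebraMap L E).injective
  rw [map_pow, hc]

end Groth.Agent.S6335
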