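import Groth.Statements.S6336
import Mathlib.Tactic

set_option autoImplicit false
universe u
open Fields

namespace Groth.Agent.S6336

open IntermediateField Polynomial in
/-- With an added hypothesis: let L/K be a finite extension of degree e generated by a single element a
whose e-th power lies in K, and assume that the polynomial X ^ e - 1 splits into linear factors over
K (so every e-th root of unity of any extension of K already lies in K; this holds when K contains a
primitive e-th root of unity, and when e is a power of the characteristic). Then every intermediate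
field of L/K is generated by a ^ d for some divisor d of e. (The published statement has no
hypothesis on roots of unity; for K the rationals and a a primitive 8-th root of unity, e = 4 and a
^ 4 = -1, the intermediate field generated by a + a⁻¹, a square root of 2, is none of K(a), K(a ^
2), K(a ^ 4); the published proof uses that the e-th roots of unity met are fixed by the
automorphisms it constructs, which the splitting hypothesis guarantees.) -/
theorem result {K L : Type u} [Field K] [Field L] [Algebra K L]
    [FiniteDimensional K L] (a : L) (ha : K⟮a⟯ = ⊤)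
    (hpow : a ^ Module.finrank K L ∈ Set.range (algebraMap K L))
    (hroots : (X ^ Module.finrank K L - 1 : K[X]).Splits) (L' : IntermediateField K L) :
    ∃ d : ℕ, d ∣ Module.finrank K L ∧ L' = K⟮a ^ d⟯ := by
  classical
  set e := Module.finrank K L with he
  set m := Module.finrank L' L with hm
  have he_pos : 0 < e := Module.finrank_pos
  have hm_pos : 0 < m := Module.finrank_pos
  have hme : Module.finrank K L' * m = e := Module.finrank_mul_finrank K L' L
  -- (1) a ^ m ∈ L'
  have hmem : a ^ m ∈ L' := by
    by_cases ha0 : a = 0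
    · rw [ha0, zero_pow hm_pos.ne']
      exact L'.zero_mem
    obtain ⟨c, hc⟩ := hpow
    let ν' : L' := Algebra.norm L' a
    have h1 : ν' ^ e = (algebraMap K L' c) ^ m := by
      have : (algebraMap L' L) (algebraMap K L' c) = a ^ e := by
        rw [← IsScalarTower.algebraMap_apply, hc]
      simp only [ν']
      rw [← map_pow, ← this, Algebra.norm_algebraMap]
    have h2 : (algebraMap L' L ν') ^ e = (a ^ m) ^ e := by
      rw [← map_pow, h1, map_pow, ← IsScalarTower.algebraMap_apply, hc, ← pow_mul, ← pow_mul,
        mul_comm]
    have ham : a ^ m ≠ 0 := pow_ne_zero _ ha0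
    set x : L := algebraMap L' L ν' / a ^ m with hx
    have hxe : x ^ e = 1 := by
      rw [hx, div_pow, h2, div_self (pow_ne_zero _ ham)]
    have hne : (X ^ e - 1 : K[X]) ≠ 0 := by
      have := X_pow_sub_C_ne_zero (R := K) he_pos (1 : K)
      simpa using this
    have hroot : ((X ^ e - 1 : K[X]).map (algebraMap K L)).IsRoot x := by
      simp [hxe]
    obtain ⟨ζ, hζ⟩ := hroots.mem_range_of_isRoot hne hroot
    have hx0 : x ≠ 0 := by
      intro h
      rw [h, zero_pow he_pos.ne'] at hxe
      exact zero_ne_one hxe
    have h3 : a ^ m = algebraMap L' L ν' * (algebraMap K L ζ)⁻¹ := by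
      rw [hζ, eq_mul_inv_iff_mul_eq₀ hx0, hx]
      field_simp
    rw [h3]
    exact L'.mul_mem ν'.2 (L'.inv_mem (L'.algebraMap_mem ζ))
  refine ⟨m, Dvd.intro_left _ hme, ?_⟩
  symm
  have hle : K⟮a ^ m⟯ ≤ L' := by
    rw [adjoin_simple_le_iff]
    exact hmem
  apply eq_of_le_of_finrank_le' hle
  -- (2) finrank K⟮a^m⟯ L ≤ m
  have htop : (K⟮a ^ m⟯)⟮a⟯ = ⊤ := adjoin_eq_top_of_adjoin_eq_top (F := K) ha
  rw [Field.primitive_element_iff_minpoly_natDegree_eq] at htop
  rw [← htop]
  let am : K⟮a ^ m⟯ := ⟨a ^ m, mem_adjoin_simple_self K (a ^ m)⟩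
  have hdvd : minpoly K⟮a ^ m⟯ a ∣ (X ^ m - C am : (K⟮a ^ m⟯)[X]) := by
    apply minpoly.dvd
    simp [am]
  have hne : (X ^ m - C am : (K⟮a ^ m⟯)[X]) ≠ 0 := X_pow_sub_C_ne_zero hm_pos am
  calc (minpoly K⟮a ^ m⟯ a).natDegree ≤ (X ^ m - C am : (K⟮a ^ m⟯)[X]).natDegree :=
        natDegree_le_of_dvd hdvd hne
    _ = m := natDegree_X_pow_sub_C

end Groth.Agent.S6336
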