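import Groth.Statements.S6337
import Groth.Agent.Lib.helper3.ML
import Groth.Agent.S6338
-- import your own Groth.Agent.* helpers here

set_option autoImplicit false
universe u
open CAlg

namespace Groth.Agent.S6337

open TensorProduct DirectSum in
theorem directSumLeft_apply_eq (R : Type u) [CommRing R] {ι : Type u} [DecidableEq ι] (M : ι → Type u)
    [∀ i, AddCommGroup (M i)] [∀ i, Module R (M i)] (N : Type u) [AddCommGroup N] [Module R N]
    (x : (⨁ i, M i) ⊗[R] N) (i : ι) :
    TensorProduct.directSumLeft R R M N x i = (DirectSum.component R ι M i).rTensor N x := by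
  induction x using TensorProduct.induction_on with
  | zero => simp only [map_zero]; rfl
  | tmul m n => rw [TensorProduct.directSumLeft_tmul, LinearMap.rTensor_tmul]; rfl
  | add a b ha hb =>
    rw [map_add, map_add, ← ha, ← hb]
    rfl

/-- A direct sum of modules is Mittag-Leffler if and only if each summand is Mittag-Leffler. -/
theorem result (R : Type u) [CommRing R] {ι : Type u} (M : ι → Type u)
    [∀ i, AddCommGroup (M i)] [∀ i, Module R (M i)] :
    CAlg.IsMittagLeffler R (DirectSum ι M) ↔ ∀ i, CAlg.IsMittagLeffler R (M i) := by
  classical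
  constructor
  · intro h i
    refine Groth.Agent.S6338.result R (DirectSum.lof R ι M i) ?_ h
    intro Q _ _
    have hli : (DirectSum.component R ι M i) ∘ₗ (DirectSum.lof R ι M i) = LinearMap.id := by
      ext m
      simp
    apply Function.LeftInverse.injective (g := (DirectSum.component R ι M i).rTensor Q)
    intro z
    rw [← LinearMap.comp_apply, ← LinearMap.rTensor_comp, hli, LinearMap.rTensor_id,
      LinearMap.id_apply]
  · intro h κ Q _ _
    rw [injective_iff_map_eq_zero]
    intro x hx
    apply (TensorProduct.directSumLeft R R M (∀ j, Q j)).injective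
    rw [map_zero]
    apply DFinsupp.ext
    intro i
    rw [directSumLeft_apply_eq]
    apply h i κ Q
    rw [Groth.Agent.Lib.helper3.ML.piRightHom_rTensor, hx]
    have h0 : ((0 : DirectSum ι fun i => TensorProduct R (M i) (∀ j, Q j)) i) = 0 := rfl
    rw [h0, map_zero]
    funext j
    simp

end Groth.Agent.S6337
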