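import Groth.Statements.S6340
import Groth.Agent.Lib.helper3.ML
-- import your own Groth.Agent.* helpers here

set_option autoImplicit false
universe u
open CAlg

namespace Groth.Agent.S6340

/-- Let M₁ → M₂ → M₃ → 0 be exact with M₁ finitely generated; if M₂ is Mittag-Leffler then so is M₃.
Equivalently, as stated here: the quotient of a Mittag-Leffler module by a finitely generated
submodule is Mittag-Leffler. -/
theorem result (R : Type u) [CommRing R] {M : Type u} [AddCommGroup M] [Module R M]
    (N : Submodule R M) (hN : N.FG) (hM : CAlg.IsMittagLeffler R M) :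
    CAlg.IsMittagLeffler R (M ⧸ N) := by
  intro ι Q _ _
  have : Module.Finite R N := Module.Finite.iff_fg.mpr hN
  have hex : Function.Exact N.subtype N.mkQ := LinearMap.exact_subtype_mkQ N
  have hs : Function.Surjective N.mkQ := Submodule.mkQ_surjective N
  rw [injective_iff_map_eq_zero]
  intro x₃ hx₃
  obtain ⟨x₂, rfl⟩ := LinearMap.rTensor_surjective (∀ i, Q i) hs x₃
  rw [Groth.Agent.Lib.helper3.ML.piRightHom_rTensor] at hx₃
  have h1 : ∀ i, ∃ z : TensorProduct R N (Q i), N.subtype.rTensor (Q i) z =
      TensorProduct.piRightHom R R M Q x₂ i := by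
    intro i
    have := congrFun hx₃ i
    exact (rTensor_exact (Q i) hex hs _).mp this
  choose z hz using h1
  obtain ⟨x₁, hx₁⟩ := Groth.Agent.Lib.helper3.ML.piRightHom_surjective_of_finite N Q z
  have h2 : N.subtype.rTensor _ x₁ = x₂ := by
    apply hM ι Q
    rw [Groth.Agent.Lib.helper3.ML.piRightHom_rTensor, hx₁]
    funext i
    exact hz i
  rw [← h2, ← LinearMap.comp_apply, ← LinearMap.rTensor_comp]
  have : N.mkQ ∘ₗ N.subtype = 0 := by
    ext v
    simp
  rw [this, LinearMap.rTensor_zero, LinearMap.zero_apply]

end Groth.Agent.S6340
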