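import Groth.Statements.S6341
import Groth.Agent.Lib.helper3.ML
-- import your own Groth.Agent.* helpers here

set_option autoImplicit false
universe u
open CAlg

namespace Groth.Agent.S6341

open TensorProduct Module in
theorem of_rTensor_injective (R : Type u) [CommRing R] {ι : Type u}
    [Preorder ι] [IsDirected ι (· ≤ ·)] [DecidableEq ι] (G : ι → Type u) [∀ i, AddCommGroup (G i)]
    [∀ i, Module R (G i)] (f : ∀ i j, i ≤ j → G i →ₗ[R] G j) [DirectedSystem G fun i j h => f i j h]
    (hf : ∀ i j (h : i ≤ j), CAlgX.UniversallyInjective R (f i j h))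
    (Q : Type u) [AddCommGroup Q] [Module R Q] (i : ι) :
    Function.Injective ((Module.DirectLimit.of R ι G f i).rTensor Q) := by
  rw [injective_iff_map_eq_zero]
  intro x hx
  have h1 := congrArg (TensorProduct.directLimitLeft f Q) hx
  rw [TensorProduct.directLimitLeft_rTensor_of, map_zero] at h1
  obtain ⟨j, hij, hj⟩ := Module.DirectLimit.of.zero_exact h1
  exact hf i j hij Q (hj.trans (map_zero _).symm)

/-- The colimit of a directed system of Mittag-Leffler modules with universally injective transition
maps is Mittag-Leffler. -/
theorem result (R : Type u) [CommRing R] {ι : Type u}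
    [Preorder ι] [IsDirected ι (· ≤ ·)] [DecidableEq ι] (G : ι → Type u) [∀ i, AddCommGroup (G i)]
    [∀ i, Module R (G i)] (f : ∀ i j, i ≤ j → G i →ₗ[R] G j) [DirectedSystem G fun i j h => f i j h]
    (hf : ∀ i j (h : i ≤ j), CAlgX.UniversallyInjective R (f i j h))
    (hG : ∀ i, CAlg.IsMittagLeffler R (G i)) :
    CAlg.IsMittagLeffler R (Module.DirectLimit G f) := by
  intro κ Q _ _
  rw [injective_iff_map_eq_zero]
  intro x hx
  rcases isEmpty_or_nonempty ι with hι | hι
  · -- the direct limit is trivial
    have hsub : Subsingleton (Module.DirectLimit G f) :=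
      (Module.DirectLimit.unique (R := R) G f).instSubsingleton
    exact Subsingleton.elim _ _
  · obtain ⟨i, xi, hxi⟩ := Module.DirectLimit.exists_of
      (TensorProduct.directLimitLeft f (∀ k, Q k) x)
    rw [← TensorProduct.directLimitLeft_rTensor_of] at hxi
    have hx' : x = (Module.DirectLimit.of R ι G f i).rTensor _ xi :=
      ((TensorProduct.directLimitLeft f (∀ k, Q k)).injective hxi).symm
    rw [hx'] at hx ⊢
    rw [Groth.Agent.Lib.helper3.ML.piRightHom_rTensor] at hx
    have h0 : xi = 0 := by
      apply hG i κ Q
      rw [map_zero]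
      funext k
      apply of_rTensor_injective R G f hf (Q k) i
      have := congrFun hx k
      simp only [Pi.zero_apply, map_zero] at this ⊢
      exact this
    rw [h0, map_zero]

end Groth.Agent.S6341
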