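import Groth.Statements.S6343
import Mathlib.Tactic
import Groth.Agent.Lib.helper10.ML

set_option autoImplicit false
universe u
open scoped TensorProduct
open CAlg

namespace Groth.Agent.S6343

/-- The tensor product of two Mittag-Leffler modules over a commutative ring is Mittag-Leffler. -/
theorem result (R : Type u) [CommRing R] (M N : Type u) [AddCommGroup M] [Module R M]
    [AddCommGroup N] [Module R N] (hM : CAlg.IsMittagLeffler R M) (hN : CAlg.IsMittagLeffler R N) :
    CAlg.IsMittagLeffler R (M ⊗[R] N) := by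
  classical
  apply Groth.Agent.Lib.helper10.ML.ML_of_dominating
  intro n f
  obtain ⟨M₀, N₀, hM₀, hN₀, hsub⟩ := TensorProduct.exists_finite_submodule_of_setFinite
    (Set.range fun k : Fin n => f (Pi.single k 1)) (Set.finite_range _)
  obtain ⟨a, π₁, hπ₁⟩ := Module.Finite.exists_fin' R M₀
  obtain ⟨b, π₂, hπ₂⟩ := Module.Finite.exists_fin' R N₀
  set u : (Fin a → R) →ₗ[R] M := M₀.subtype ∘ₗ π₁ with hu
  set v : (Fin b → R) →ₗ[R] N := N₀.subtype ∘ₗ π₂ with hv
  have hw : ∀ k : Fin n, ∃ w : (Fin a → R) ⊗[R] (Fin b → R),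
      TensorProduct.map u v w = f (Pi.single k 1) := by
    intro k
    obtain ⟨y, hy⟩ := hsub ⟨k, rfl⟩
    obtain ⟨w, rfl⟩ := TensorProduct.map_surjective hπ₁ hπ₂ y
    refine ⟨w, ?_⟩
    have hy' : (TensorProduct.mapIncl M₀ N₀) ((TensorProduct.map π₁ π₂) w) = f (Pi.single k 1) := hy
    rw [← hy', TensorProduct.mapIncl, ← LinearMap.comp_apply, ← TensorProduct.map_comp]
  choose w hw using hw
  let f₀ : (Fin n → R) →ₗ[R] (Fin a → R) ⊗[R] (Fin b → R) := (Pi.basisFun R (Fin n)).constr R w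
  have hf₀ : f = TensorProduct.map u v ∘ₗ f₀ := by
    apply (Pi.basisFun R (Fin n)).ext
    intro k
    simp [f₀, hw]
  obtain ⟨Q₁, _, _, hQ₁, g₁, h₁, hfac₁, hker₁⟩ :=
    Groth.Agent.Lib.helper10.ML.exists_dominating_of_ML hM u
  obtain ⟨Q₂, _, _, hQ₂, g₂, h₂, hfac₂, hker₂⟩ :=
    Groth.Agent.Lib.helper10.ML.exists_dominating_of_ML hN v
  have hQ : Module.FinitePresentation R (Q₁ ⊗[R] Q₂) := Groth.Agent.Lib.helper10.ML.fp_tensor Q₁ Q₂
  refine ⟨Q₁ ⊗[R] Q₂, inferInstance, inferInstance, hQ, TensorProduct.map g₁ g₂ ∘ₗ f₀, ?_⟩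
  have d1 : Groth.Agent.Lib.helper10.ML.Dom u g₁ := fun X _ _ => (hker₁ X).le
  have d2 : Groth.Agent.Lib.helper10.ML.Dom v g₂ := fun X _ _ => (hker₂ X).le
  have D1 : Groth.Agent.Lib.helper10.ML.Dom (TensorProduct.map u v) (TensorProduct.map g₁ g₂) := by
    have s1 : Groth.Agent.Lib.helper10.ML.Dom (TensorProduct.map u v) (TensorProduct.map g₁ v) := by
      have := (d1.rTensor N).comp_right (v.lTensor (Fin a → R))
      rwa [LinearMap.rTensor_comp_lTensor, LinearMap.rTensor_comp_lTensor] at this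
    have s2 : Groth.Agent.Lib.helper10.ML.Dom (TensorProduct.map g₁ v) (TensorProduct.map g₁ g₂) := by
      have := (d2.lTensor Q₁).comp_right (g₁.rTensor (Fin b → R))
      rwa [LinearMap.lTensor_comp_rTensor, LinearMap.lTensor_comp_rTensor] at this
    exact s1.trans s2
  have D2 : Groth.Agent.Lib.helper10.ML.Dom (TensorProduct.map g₁ g₂) (TensorProduct.map u v) := by
    have : TensorProduct.map u v = TensorProduct.map h₁ h₂ ∘ₗ TensorProduct.map g₁ g₂ := by
      rw [← TensorProduct.map_comp, ← hfac₁, ← hfac₂]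
    rw [this]
    exact Groth.Agent.Lib.helper10.ML.Dom.of_comp _ _
  intro X _ _
  rw [hf₀]
  exact le_antisymm ((D1.comp_right f₀) X) ((D2.comp_right f₀) X)

end Groth.Agent.S6343
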