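import Groth.Statements.S6344
import Groth.Agent.Lib.helper3.ML
-- import your own Groth.Agent.* helpers here

set_option autoImplicit false
universe u
open CAlg

namespace Groth.Agent.S6344

/-- general form: if the comparison map for `S` is bijective then Mittag-Leffler descends along
restriction of scalars. -/
theorem key (R S : Type u) [CommRing R] [CommRing S] [Algebra R S]
    (M : Type u) [AddCommGroup M] [Module S M] [Module R M] [IsScalarTower R S M]
    (hS : ∀ (ι : Type u) (Q : ι → Type u) [∀ i, AddCommGroup (Q i)] [∀ i, Module R (Q i)],
      Function.Bijective (TensorProduct.piRightHom R R S Q))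
    (hM : CAlg.IsMittagLeffler S M) : CAlg.IsMittagLeffler R M := by
  intro ι Q _ _
  let P : TensorProduct R S (∀ i, Q i) →ₗ[S] (∀ i, TensorProduct R S (Q i)) :=
    TensorProduct.piRightHom R S S Q
  have hPfun : ∀ z, P z = TensorProduct.piRightHom R R S Q z := by
    intro z
    induction z using TensorProduct.induction_on with
    | zero => simp only [map_zero]
    | tmul s q => rfl
    | add a b ha hb => rw [map_add, map_add, ha, hb]
  have hP : Function.Bijective P := by
    have : (P : _ → _) = TensorProduct.piRightHom R R S Q := funext hPfun
    rw [this]
    exact hS ι Q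
  let Pe : TensorProduct R S (∀ i, Q i) ≃ₗ[S] (∀ i, TensorProduct R S (Q i)) :=
    LinearEquiv.ofBijective P hP
  have hPM : Function.Injective (P.lTensor M) := by
    have : P.lTensor M = (LinearEquiv.lTensor M Pe).toLinearMap := by
      ext m z
      rfl
    rw [this]
    exact (LinearEquiv.lTensor M Pe).injective
  have hM' := hM ι (fun i => TensorProduct R S (Q i))
  have hcomm : ∀ x : TensorProduct R M (∀ i, Q i),
      (fun i => (TensorProduct.AlgebraTensorModule.cancelBaseChange R S S M (Q i)).symm
        (TensorProduct.piRightHom R R M Q x i)) =
      TensorProduct.piRightHom S S M (fun i => TensorProduct R S (Q i))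
        ((P.lTensor M)
          ((TensorProduct.AlgebraTensorModule.cancelBaseChange R S S M (∀ i, Q i)).symm x)) := by
    intro x
    induction x using TensorProduct.induction_on with
    | zero => simp only [map_zero]; rfl
    | tmul m q => rfl
    | add a b ha hb =>
      rw [map_add, map_add, map_add, map_add, ← ha, ← hb]
      funext i
      simp only [Pi.add_apply, map_add]
  rw [injective_iff_map_eq_zero]
  intro x hx
  have h1 := hcomm x
  rw [hx] at h1
  have h2 : (P.lTensor M)
      ((TensorProduct.AlgebraTensorModule.cancelBaseChange R S S M (∀ i, Q i)).symm x) = 0 := by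
    apply hM'
    rw [← h1, map_zero]
    funext i
    simp
  have h3 := hPM (h2.trans (map_zero _).symm)
  exact (LinearEquiv.map_eq_zero_iff _).mp h3

/-- Let R → S be a finite and finitely presented ring map and M an S-module. If M is Mittag-Leffler over
S then M is Mittag-Leffler over R. -/
theorem result (R S : Type u) [CommRing R] [CommRing S]
    [Algebra R S] [Module.Finite R S] [Algebra.FinitePresentation R S]
    (M : Type u) [AddCommGroup M] [Module S M] [Module R M] [IsScalarTower R S M]
    (hM : CAlg.IsMittagLeffler S M) : CAlg.IsMittagLeffler R M := by
  have : Module.FinitePresentation R S :=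
    Module.FinitePresentation.of_finite_of_finitePresentation R S
  exact key R S M (fun ι Q _ _ =>
    Groth.Agent.Lib.helper3.ML.piRightHom_bijective_of_finitePresentation S Q) hM

end Groth.Agent.S6344
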