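import Groth.Statements.S6345
import Groth.Agent.Lib.helper3.ML
import Groth.Agent.S6344
-- import your own Groth.Agent.* helpers here

set_option autoImplicit false
universe u
open CAlg

namespace Groth.Agent.S6345

theorem mk_smul_eq (R : Type u) [CommRing R] (I : Ideal R) (N : Type u) [AddCommGroup N]
    [Module (R ⧸ I) N] [Module R N] [IsScalarTower R (R ⧸ I) N] (a : R) (n : N) :
    (Ideal.Quotient.mk I a) • n = a • n := by
  have : (Ideal.Quotient.mk I a) = a • (1 : R ⧸ I) := by
    rw [Algebra.smul_def, mul_one]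
    rfl
  rw [this, smul_assoc, one_smul]

theorem compat (R : Type u) [CommRing R] (I : Ideal R) (M N : Type u) [AddCommGroup M]
    [Module (R ⧸ I) M] [Module R M] [IsScalarTower R (R ⧸ I) M] [AddCommGroup N]
    [Module (R ⧸ I) N] [Module R N] [IsScalarTower R (R ⧸ I) N] :
    TensorProduct.CompatibleSMul R (R ⧸ I) M N where
  smul_tmul := by
    intro r m n
    obtain ⟨a, rfl⟩ := Ideal.Quotient.mk_surjective r
    rw [mk_smul_eq, mk_smul_eq, TensorProduct.smul_tmul]

theorem forward (R : Type u) [CommRing R] (I : Ideal R)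
    (M : Type u) [AddCommGroup M] [Module (R ⧸ I) M] [Module R M] [IsScalarTower R (R ⧸ I) M]
    (ι : Type u) (Q : ι → Type u) [∀ i, AddCommGroup (Q i)]
    [∀ i, Module (R ⧸ I) (Q i)] [∀ i, Module R (Q i)] [∀ i, IsScalarTower R (R ⧸ I) (Q i)]
    (hM : Function.Injective (TensorProduct.piRightHom R R M Q)) :
    Function.Injective (TensorProduct.piRightHom (R ⧸ I) (R ⧸ I) M Q) := by
  have c1 : ∀ i, TensorProduct.CompatibleSMul R (R ⧸ I) M (Q i) := fun i => compat R I M (Q i)
  have c2 : TensorProduct.CompatibleSMul R (R ⧸ I) M (∀ i, Q i) := compat R I M (∀ i, Q i)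
  have hcomm : ∀ x : TensorProduct (R ⧸ I) M (∀ i, Q i),
      (fun i => TensorProduct.equivOfCompatibleSMul R (R ⧸ I) R M (Q i)
        (TensorProduct.piRightHom (R ⧸ I) (R ⧸ I) M Q x i)) =
      TensorProduct.piRightHom R R M Q
        (TensorProduct.equivOfCompatibleSMul R (R ⧸ I) R M (∀ i, Q i) x) := by
    intro x
    induction x using TensorProduct.induction_on with
    | zero => simp only [map_zero]; rfl
    | tmul m q => rfl
    | add a b ha hb =>
      rw [map_add, map_add, map_add, ← ha, ← hb]
      funext i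
      simp only [Pi.add_apply, map_add]
  rw [injective_iff_map_eq_zero]
  intro x hx
  apply (TensorProduct.equivOfCompatibleSMul R (R ⧸ I) R M (∀ i, Q i)).injective
  apply hM
  rw [← hcomm, hx, map_zero, map_zero]
  funext i
  simp

/-- Let I be a finitely generated ideal of a commutative ring R and M an R/I-module. Then M is
Mittag-Leffler over R if and only if it is Mittag-Leffler over R/I. -/
theorem result (R : Type u) [CommRing R] (I : Ideal R) (hI : I.FG)
    (M : Type u) [AddCommGroup M] [Module (R ⧸ I) M] [Module R M] [IsScalarTower R (R ⧸ I) M] :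
    CAlg.IsMittagLeffler R M ↔ CAlg.IsMittagLeffler (R ⧸ I) M := by
  constructor
  · intro hM ι Q _ _
    let _ : ∀ i, Module R (Q i) := fun i => Module.compHom (Q i) (algebraMap R (R ⧸ I))
    have : ∀ i, IsScalarTower R (R ⧸ I) (Q i) := fun i =>
      IsScalarTower.of_algebraMap_smul (fun r x => rfl)
    exact forward R I M ι Q (hM ι Q)
  · intro hM
    have hfp : Module.FinitePresentation R (R ⧸ I) :=
      Module.finitePresentation_of_surjective (Submodule.mkQ I) (Submodule.mkQ_surjective I)
        (by rw [Submodule.ker_mkQ]; exact hI)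
    exact Groth.Agent.S6344.key R (R ⧸ I) M (fun ι Q _ _ =>
      Groth.Agent.Lib.helper3.ML.piRightHom_bijective_of_finitePresentation (R ⧸ I) Q) hM

end Groth.Agent.S6345
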