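import Groth.Statements.S6379
import Mathlib.Tactic
import Mathlib.RingTheory.Flat.Basic
import Mathlib.LinearAlgebra.TensorProduct.Finiteness
import Mathlib.LinearAlgebra.TensorProduct.Pi

set_option autoImplicit false
universe u
open scoped TensorProduct
open CAlg

namespace Groth.Agent.S6379

/-- Let M be a flat Mittag-Leffler module over a commutative ring R, F an R-module and x ∈ F ⊗_R M. Then
among the submodules F' of F with x in the image of F' ⊗ M → F ⊗ M there is a smallest one, and it
is a finitely generated module. -/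
theorem result (R : Type u) [CommRing R] (M : Type u)
    [AddCommGroup M] [Module R M] [Module.Flat R M] (hM : CAlg.IsMittagLeffler R M)
    (F : Type u) [AddCommGroup F] [Module R F] (x : F ⊗[R] M) :
    ∃ F' : Submodule R F, F'.FG ∧ x ∈ LinearMap.range (F'.subtype.rTensor M) ∧
      ∀ F'' : Submodule R F, x ∈ LinearMap.range (F''.subtype.rTensor M) → F' ≤ F'' := by
  classical
  have hmk : ∀ F' : Submodule R F, x ∈ LinearMap.range (F'.subtype.rTensor M) →
      F'.mkQ.rTensor M x = 0 := by
    rintro F' ⟨y, rfl⟩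
    rw [← LinearMap.comp_apply, ← LinearMap.rTensor_comp]
    have : F'.mkQ ∘ₗ F'.subtype = 0 := by
      ext a
      simp
    rw [this]
    simp
  let S := {F' : Submodule R F // x ∈ LinearMap.range (F'.subtype.rTensor M)}
  let φ : F →ₗ[R] (∀ s : S, F ⧸ s.1) := LinearMap.pi (fun s => s.1.mkQ)
  have hφx : φ.rTensor M x = 0 := by
    apply (TensorProduct.comm R _ M).injective
    rw [map_zero]
    apply hM S (fun s => F ⧸ s.1)
    rw [map_zero]
    funext s
    have key : ∀ y : F ⊗[R] M, TensorProduct.piRightHom R R M (fun s : S => F ⧸ s.1)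
        (TensorProduct.comm R _ M (φ.rTensor M y)) s =
          TensorProduct.comm R _ M (s.1.mkQ.rTensor M y) := by
      intro y
      induction y using TensorProduct.induction_on with
      | zero => simp
      | tmul a m => simp [φ]
      | add a b ha hb => simp only [map_add, Pi.add_apply, ha, hb]
    rw [key, hmk s.1 s.2, map_zero]
    rfl
  have hex : Function.Exact ((LinearMap.ker φ).subtype.rTensor M) (φ.rTensor M) :=
    Module.Flat.rTensor_exact M (LinearMap.exact_subtype_ker_map φ)
  obtain ⟨y, hy⟩ := (hex x).mp hφx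
  have hKle : ∀ F'' : Submodule R F, x ∈ LinearMap.range (F''.subtype.rTensor M) →
      LinearMap.ker φ ≤ F'' := by
    intro F'' hF'' a ha
    have := congrFun (LinearMap.mem_ker.mp ha) ⟨F'', hF''⟩
    simpa [φ] using this
  obtain ⟨K', hK', hsub⟩ := TensorProduct.exists_finite_submodule_left_of_setFinite
    ({y} : Set ((LinearMap.ker φ) ⊗[R] M)) (Set.finite_singleton y)
  obtain ⟨y', hy'⟩ := hsub (Set.mem_singleton y)
  set K'' : Submodule R F := K'.map (LinearMap.ker φ).subtype with hK''def
  have hK''fg : K''.FG := (Module.Finite.iff_fg.mp hK').map _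
  have hK''le : K'' ≤ LinearMap.ker φ := by
    rintro _ ⟨a, -, rfl⟩
    exact a.2
  have hxK'' : x ∈ LinearMap.range (K''.subtype.rTensor M) := by
    let ι : K' →ₗ[R] K'' := ((LinearMap.ker φ).subtype ∘ₗ K'.subtype).codRestrict K''
      (fun a => ⟨a.1, a.2, rfl⟩)
    refine ⟨ι.rTensor M y', ?_⟩
    rw [← LinearMap.comp_apply, ← LinearMap.rTensor_comp]
    have : K''.subtype ∘ₗ ι = (LinearMap.ker φ).subtype ∘ₗ K'.subtype := by
      ext a
      rfl
    rw [this, LinearMap.rTensor_comp, LinearMap.comp_apply, hy', hy]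
  have hKeq : LinearMap.ker φ = K'' := le_antisymm (hKle K'' hxK'') hK''le
  exact ⟨LinearMap.ker φ, hKeq ▸ hK''fg, ⟨y, hy⟩, hKle⟩

end Groth.Agent.S6379
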