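import Groth.Statements.S6346
import Mathlib.Tactic
import Mathlib.RingTheory.Flat.Basic
import Mathlib.LinearAlgebra.TensorProduct.Finiteness
import Mathlib.LinearAlgebra.TensorProduct.Pi
import Groth.Agent.S6379

set_option autoImplicit false
universe u
open scoped TensorProduct
open CAlg

namespace Groth.Agent.S6346

/-- Let M be a flat module over a commutative ring R. Then M is Mittag-Leffler exactly when, for each
finite free module F = R^n and each element x of F ⊗ M there is a smallest submodule F' of F such
that x lies in the image of F' ⊗ M → F ⊗ M. -/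
theorem result (R : Type u) [CommRing R] (M : Type u)
    [AddCommGroup M] [Module R M] [Module.Flat R M] :
    CAlg.IsMittagLeffler R M ↔
      ∀ (n : ℕ) (x : (Fin n → R) ⊗[R] M), ∃ F' : Submodule R (Fin n → R),
        x ∈ LinearMap.range (F'.subtype.rTensor M) ∧
        ∀ F'' : Submodule R (Fin n → R), x ∈ LinearMap.range (F''.subtype.rTensor M) → F' ≤ F'' := by
  constructor
  · intro hM n x
    obtain ⟨F', -, h1, h2⟩ := Groth.Agent.S6379.result R M hM (Fin n → R) x
    exact ⟨F', h1, h2⟩
  · intro H ι Q _ _
    rw [injective_iff_map_eq_zero]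
    intro z hz
    obtain ⟨L₀, hL₀, hsub⟩ := TensorProduct.exists_finite_submodule_right_of_setFinite
      ({z} : Set (M ⊗[R] (∀ i, Q i))) (Set.finite_singleton z)
    obtain ⟨z₀, rfl⟩ := hsub (Set.mem_singleton z)
    obtain ⟨n, π, hπ⟩ := Module.Finite.exists_fin' R L₀
    obtain ⟨z₁, rfl⟩ := LinearMap.lTensor_surjective M hπ z₀
    set q : (Fin n → R) →ₗ[R] (∀ i, Q i) := L₀.subtype ∘ₗ π with hq
    have e1 : ∀ t, (LinearMap.lTensor M L₀.subtype) ((LinearMap.lTensor M π) t) =
        (LinearMap.lTensor M q) t := by
      intro t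
      rw [hq, LinearMap.lTensor_comp, LinearMap.comp_apply]
    rw [e1] at hz ⊢
    have key : ∀ (t : M ⊗[R] (Fin n → R)) (α : ι),
        TensorProduct.piRightHom R R M Q ((q.lTensor M) t) α =
          ((LinearMap.proj α ∘ₗ q).lTensor M) t := by
      intro t α
      induction t using TensorProduct.induction_on with
      | zero => simp
      | tmul m v => simp
      | add a b ha hb => simp only [map_add, Pi.add_apply, ha, hb]
    obtain ⟨F', ⟨y, hy⟩, hmin⟩ := H n (TensorProduct.comm R M (Fin n → R) z₁)
    have hle : ∀ α, F' ≤ LinearMap.ker (LinearMap.proj α ∘ₗ q) := by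
      intro α
      apply hmin
      have h0 : ((LinearMap.proj α ∘ₗ q).lTensor M) z₁ = 0 := by
        rw [← key, hz]
        rfl
      have hex : Function.Exact
          ((LinearMap.ker (LinearMap.proj α ∘ₗ q)).subtype.lTensor M)
          ((LinearMap.proj α ∘ₗ q).lTensor M) :=
        Module.Flat.lTensor_exact M (LinearMap.exact_subtype_ker_map _)
      obtain ⟨w, hw⟩ := (hex z₁).mp h0
      refine ⟨TensorProduct.comm R M _ w, ?_⟩
      rw [LinearMap.rTensor_comm, hw]
    have hle' : F' ≤ LinearMap.ker q := by
      intro a ha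
      rw [LinearMap.mem_ker]
      funext α
      exact hle α ha
    have h1 : (q.rTensor M) (TensorProduct.comm R M (Fin n → R) z₁) = 0 := by
      rw [← hy, ← LinearMap.comp_apply, ← LinearMap.rTensor_comp]
      have : q ∘ₗ F'.subtype = 0 := by
        ext a
        exact congrFun (hle' a.2) _
      rw [this]
      simp
    rw [LinearMap.rTensor_comm] at h1
    exact (TensorProduct.comm R M _).injective (h1.trans (map_zero _).symm)

end Groth.Agent.S6346
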