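import Groth.Statements.S6349
import Mathlib
import Groth.Agent.Lib.helper24.NilFlat2

set_option autoImplicit false
universe u
open scoped TensorProduct
open CAlg

namespace Groth.Agent.S6349

open Groth.Agent.Lib.helper24 NilFlat in

/-- Let I be an ideal of a commutative ring R and M an R-module such that M/IM is flat over R/I and
Tor_1^R(R/I, M) = 0, i.e. the map I ⊗_R M → M is injective. Then M/IⁿM is flat over R/Iⁿ for every n
≥ 1. (When I is nilpotent this yields flatness of M itself, a standard companion statement.) -/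
theorem result (R : Type u) [CommRing R] (I : Ideal R) (M : Type u)
    [AddCommGroup M] [Module R M] [Module.Flat (R ⧸ I) ((R ⧸ I) ⊗[R] M)]
    (htor : Function.Injective ((Submodule.subtype I).rTensor M)) (n : ℕ) (hn : 1 ≤ n) :
    Module.Flat (R ⧸ I ^ n) ((R ⧸ I ^ n) ⊗[R] M) := by
  set K : Ideal R := I ^ n with hK
  have hKI : K ≤ I := by
    rw [hK]
    exact Ideal.pow_le_self (by omega)
  set Ib : Ideal (R ⧸ K) := I.map (Ideal.Quotient.mk K) with hIb
  have hIbn : Ib ^ n = ⊥ := by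
    rw [hIb, ← Ideal.map_pow, Ideal.map_eq_bot_iff_le_ker, Ideal.mk_ker]
  let algQ : Algebra (R ⧸ I) ((R ⧸ K) ⧸ Ib) :=
    (Ideal.quotientMap Ib (Ideal.Quotient.mk K) Ideal.le_comap_map).toAlgebra
  have : IsScalarTower R (R ⧸ I) ((R ⧸ K) ⧸ Ib) :=
    IsScalarTower.of_algebraMap_eq (fun r => rfl)
  have F1a : Module.Flat ((R ⧸ K) ⧸ Ib) (((R ⧸ K) ⧸ Ib) ⊗[R] M) :=
    flat_baseChange_of_flat_baseChange R (R ⧸ I) ((R ⧸ K) ⧸ Ib) M
  have F1 : Module.Flat ((R ⧸ K) ⧸ Ib)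
      (((R ⧸ K) ⧸ Ib) ⊗[R ⧸ K] ((R ⧸ K) ⊗[R] M)) :=
    flat_baseChange_baseChange R (R ⧸ K) ((R ⧸ K) ⧸ Ib) M
  refine flat_of_isNilpotent Ib ((R ⧸ K) ⊗[R] M) ⟨n, hIbn⟩ ?_
  rw [rTensor_baseChange_injective_iff (R ⧸ K) M Ib.subtype]
  -- now an `R`-linear statement
  let π : ↥I →ₗ[R] ↥Ib :=
    { toFun := fun x => ⟨Ideal.Quotient.mk K x, Ideal.mem_map_of_mem _ x.2⟩
      map_add' := fun a b => Subtype.ext (map_add _ _ _)
      map_smul' := fun a b => Subtype.ext (by simp [Algebra.smul_def]) }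
  have hπ : Function.Surjective π := by
    rintro ⟨y, hy⟩
    obtain ⟨x, hx, rfl⟩ := (Ideal.mem_map_iff_of_surjective _ Ideal.Quotient.mk_surjective).mp hy
    exact ⟨⟨x, hx⟩, rfl⟩
  let ι : ↥K →ₗ[R] ↥I := Submodule.inclusion hKI
  have hπι : π ∘ₗ ι = 0 := by
    ext x : 1
    refine Subtype.ext ?_
    show Ideal.Quotient.mk K (x : R) = 0
    exact Ideal.Quotient.eq_zero_iff_mem.mpr x.2
  have hcomp1 : (Ib.subtype.restrictScalars R) ∘ₗ π = K.mkQ ∘ₗ I.subtype := LinearMap.ext fun _ => rfl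
  rw [injective_iff_map_eq_zero]
  intro z hz
  obtain ⟨x, rfl⟩ := LinearMap.rTensor_surjective M hπ z
  have e1 : K.mkQ.rTensor M (I.subtype.rTensor M x) = 0 := by
    rw [← hz, ← LinearMap.comp_apply, ← LinearMap.comp_apply, ← LinearMap.rTensor_comp,
      ← LinearMap.rTensor_comp, hcomp1]
  obtain ⟨y, hy⟩ := (rTensor_exact M (LinearMap.exact_subtype_mkQ K)
    (Submodule.mkQ_surjective K) _).mp e1
  have e2 : ι.rTensor M y = x := by
    apply htor
    rw [← hy, ← LinearMap.comp_apply, ← LinearMap.rTensor_comp]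
    rfl
  rw [← e2, ← LinearMap.comp_apply, ← LinearMap.rTensor_comp, hπι, LinearMap.rTensor_zero,
    LinearMap.zero_apply]

end Groth.Agent.S6349
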