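import Groth.Statements.S6353
import Mathlib.Tactic
import Mathlib.RingTheory.Ideal.Pure
import Mathlib.RingTheory.Spectrum.Prime.Topology

set_option autoImplicit false
universe u
open CAlg

namespace Groth.Agent.S6353

open PrimeSpectrum in
theorem key1 {R : Type u} [CommRing R] (Z : Set (PrimeSpectrum R))
    (hZ : StableUnderGeneralization Z) (a : R) (ha : a ∈ vanishingIdeal Z)
    (p : PrimeSpectrum R) (hp : p ∈ Z) : ∃ (n : ℕ) (s : R), s ∉ p.asIdeal ∧ s * a ^ n = 0 := by
  by_contra hcon
  push Not at hcon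
  set T : Submonoid R := p.asIdeal.primeCompl ⊔ Submonoid.powers a with hT
  have hdisj : Disjoint ((⊥ : Ideal R) : Set R) T := by
    rw [Set.disjoint_left]
    intro x hx hxT
    rw [SetLike.mem_coe, Ideal.mem_bot] at hx
    subst hx
    obtain ⟨s, hs, z, ⟨n, rfl⟩, hsz⟩ := Submonoid.mem_sup.mp hxT
    exact hcon n s hs hsz
  obtain ⟨q, hq, -, hqT⟩ := Ideal.exists_le_prime_disjoint ⊥ T hdisj
  have hqp : q ≤ p.asIdeal := by
    intro x hx
    by_contra hxp
    exact Set.disjoint_left.mp hqT hx (Submonoid.mem_sup_left hxp)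
  have haq : a ∉ q := fun h =>
    Set.disjoint_left.mp hqT h (Submonoid.mem_sup_right (Submonoid.mem_powers a))
  have hqZ : (⟨q, hq⟩ : PrimeSpectrum R) ∈ Z :=
    hZ ((le_iff_specializes (⟨q, hq⟩ : PrimeSpectrum R) p).mp hqp) hp
  exact haq ((mem_vanishingIdeal _ _).mp ha _ hqZ)

open PrimeSpectrum in
theorem key2 {R : Type u} [CommRing R] (Z : Set (PrimeSpectrum R)) (hZc : IsClosed Z)
    (hZ : StableUnderGeneralization Z) (a : R) (ha : a ∈ vanishingIdeal Z) :
    ∃ n : ℕ, ∀ p ∈ Z, ∃ s : R, s ∉ p.asIdeal ∧ s * a ^ n = 0 := by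
  classical
  have h1 : ∀ p : Z, ∃ (n : ℕ) (s : R), s ∉ p.1.asIdeal ∧ s * a ^ n = 0 :=
    fun p => key1 Z hZ a ha p.1 p.2
  choose n s hs hsn using h1
  obtain ⟨t, ht⟩ := hZc.isCompact.elim_finite_subcover
    (fun p : Z => (basicOpen (s p) : Set (PrimeSpectrum R)))
    (fun p => (basicOpen (s p)).isOpen)
    (fun p hp => Set.mem_iUnion.mpr ⟨⟨p, hp⟩, hs ⟨p, hp⟩⟩)
  refine ⟨t.sup n, fun p hp => ?_⟩
  obtain ⟨i, hi⟩ := Set.mem_iUnion.mp (ht hp)
  obtain ⟨hit, hpi⟩ := Set.mem_iUnion.mp hi
  refine ⟨s i, hpi, ?_⟩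
  have hle : n i ≤ t.sup n := Finset.le_sup hit
  obtain ⟨k, hk⟩ := Nat.exists_eq_add_of_le hle
  rw [hk, pow_add, ← mul_assoc, hsn, zero_mul]


open PrimeSpectrum in
/-- For a commutative ring R, I ↦ V(I) is a bijection between pure ideals (R/I flat over R) and closed
subsets of Spec R stable under generalization. Stated here as: V(I) is stable under generalization
for I pure, and every closed generalization-stable subset is V(I) for some pure I (injectivity on
pure ideals being the standard fact that pure ideals with the same zero locus coincide). -/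
theorem result (R : Type u) [CommRing R] :
    (∀ I : Ideal R, I.Pure → StableUnderGeneralization (zeroLocus (I : Set R))) ∧
      ∀ Z : Set (PrimeSpectrum R), IsClosed Z → StableUnderGeneralization Z →
        ∃ I : Ideal R, I.Pure ∧ zeroLocus (I : Set R) = Z := by
  constructor
  · intro I hI p' p hpp' hp'
    rw [mem_zeroLocus] at hp' ⊢
    intro x hx
    have : I.Pure := hI
    obtain ⟨y, hy, hxy⟩ := Ideal.exists_eq_mul_of_pure (I := I) hx
    have hle : p.asIdeal ≤ p'.asIdeal := (le_iff_specializes p p').mpr hpp'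
    have h1 : x * (1 - y) = 0 := by rw [mul_sub, mul_one, ← hxy, sub_self]
    have h2 : x * (1 - y) ∈ p.asIdeal := by rw [h1]; exact p.asIdeal.zero_mem
    rcases p.isPrime.mem_or_mem h2 with h3 | h3
    · exact h3
    · exfalso
      have h4 : (1 - y) ∈ p'.asIdeal := hle h3
      have h5 : y ∈ p'.asIdeal := hp' hy
      have h6 : (1 : R) ∈ p'.asIdeal := by
        have := p'.asIdeal.add_mem h4 h5
        simpa using this
      exact p'.isPrime.ne_top ((Ideal.eq_top_iff_one _).mpr h6)
  · intro Z hZc hZ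
    have hVJ : zeroLocus (vanishingIdeal Z : Set R) = Z := by
      rw [zeroLocus_vanishingIdeal_eq_closure, hZc.closure_eq]
    let I₁ : Ideal R :=
      { carrier := {x | ∀ p ∈ Z, ∃ s : R, s ∉ p.asIdeal ∧ s * x = 0}
        add_mem' := by
          intro x y hx hy p hp
          obtain ⟨s₁, hs₁, h₁⟩ := hx p hp
          obtain ⟨s₂, hs₂, h₂⟩ := hy p hp
          refine ⟨s₁ * s₂, fun h => ?_, ?_⟩
          · rcases p.isPrime.mem_or_mem h with h | h
            · exact hs₁ h
            · exact hs₂ h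
          · rw [mul_add, mul_right_comm, h₁, zero_mul, mul_assoc, h₂, mul_zero, add_zero]
        zero_mem' := fun p _ => ⟨1, p.asIdeal.one_notMem, by simp⟩
        smul_mem' := by
          intro c x hx p hp
          obtain ⟨s, hs, h⟩ := hx p hp
          exact ⟨s, hs, by rw [smul_eq_mul, mul_left_comm, h, mul_zero]⟩ }
    have hmem : ∀ x, x ∈ I₁ ↔ ∀ p ∈ Z, ∃ s : R, s ∉ p.asIdeal ∧ s * x = 0 := fun x => Iff.rfl
    have hpow : ∀ a ∈ vanishingIdeal Z, ∃ n : ℕ, a ^ n ∈ I₁ := by
      intro a ha
      obtain ⟨n, hn⟩ := key2 Z hZc hZ a ha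
      exact ⟨n, (hmem _).mpr hn⟩
    have hmax : ∀ K : Ideal R, vanishingIdeal Z ≤ K → K ≠ ⊤ → ∃ m : PrimeSpectrum R,
        m ∈ Z ∧ K ≤ m.asIdeal := by
      intro K hJK hK
      obtain ⟨m, hm, hKm⟩ := Ideal.exists_le_maximal K hK
      refine ⟨⟨m, hm.isPrime⟩, ?_, hKm⟩
      rw [← hVJ, mem_zeroLocus]
      exact hJK.trans hKm
    have hy : ∀ x ∈ I₁, ∃ y ∈ I₁, x = x * y := by
      intro x hx
      have htop : (Ideal.span {x}).annihilator ⊔ vanishingIdeal Z = ⊤ := by
        by_contra hne
        obtain ⟨m, hmZ, hm⟩ := hmax _ le_sup_right hne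
        obtain ⟨s, hs, hsx⟩ := (hmem x).mp hx m hmZ
        apply hs
        apply hm
        apply Ideal.mem_sup_left
        rw [Submodule.mem_annihilator_span_singleton]
        exact hsx
      obtain ⟨b, hb, a, ha, hba⟩ := Submodule.mem_sup.mp ((Ideal.eq_top_iff_one _).mp htop)
      rw [Submodule.mem_annihilator_span_singleton, smul_eq_mul] at hb
      have hxa : x = x * a := by
        have : x * (b + a) = x := by rw [hba, mul_one]
        rw [mul_add, mul_comm x b, hb, zero_add] at this
        exact this.symm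
      obtain ⟨n, hn⟩ := hpow a ha
      refine ⟨a ^ n, hn, ?_⟩
      clear hn
      induction n with
      | zero => simp
      | succ k ih => rw [pow_succ, ← mul_assoc, ← ih, ← hxa]
    refine ⟨I₁, ?_, ?_⟩
    · apply Ideal.Pure.of_inf_eq_mul
      intro J' _
      apply le_antisymm _ Ideal.mul_le_inf
      intro x hx
      obtain ⟨y, hyI, hxy⟩ := hy x hx.1
      have hxJ : x ∈ J' := hx.2
      rw [hxy, mul_comm x y]
      exact Ideal.mul_mem_mul hyI hxJ
    · apply Set.Subset.antisymm
      · intro p hp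
        by_contra hpZ
        rw [mem_zeroLocus] at hp
        have htop : p.asIdeal ⊔ vanishingIdeal Z = ⊤ := by
          by_contra hne
          obtain ⟨m, hmZ, hm⟩ := hmax _ le_sup_right hne
          have hpm : p ≤ m := le_sup_left.trans hm
          exact hpZ (hZ ((le_iff_specializes p m).mp hpm) hmZ)
        obtain ⟨u, hu, a, ha, hua⟩ := Submodule.mem_sup.mp ((Ideal.eq_top_iff_one _).mp htop)
        obtain ⟨n, hn⟩ := hpow a ha
        have hap : a ∈ p.asIdeal := p.isPrime.mem_of_pow_mem n (hp hn)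
        have : (1 : R) ∈ p.asIdeal := by
          rw [← hua]
          exact p.asIdeal.add_mem hu hap
        exact p.isPrime.ne_top ((Ideal.eq_top_iff_one _).mpr this)
      · intro p hp
        rw [mem_zeroLocus]
        intro x hx
        obtain ⟨s, hs, hsx⟩ := (hmem x).mp hx p hp
        have : s * x ∈ p.asIdeal := by rw [hsx]; exact p.asIdeal.zero_mem
        rcases p.isPrime.mem_or_mem this with h | h
        · exact absurd h hs
        · exact h

end Groth.Agent.S6353
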