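import Groth.Statements.S6354
import Mathlib.Tactic
import Mathlib.RingTheory.Ideal.Pure
import Mathlib.RingTheory.Ideal.IdempotentFG
import Mathlib.RingTheory.Spectrum.Prime.Topology
import Mathlib.Algebra.Module.Projective
import Mathlib.RingTheory.Flat.Basic

set_option autoImplicit false
universe u
open CAlg

namespace Groth.Agent.S6354

theorem span_idem {R : Type u} [CommRing R] {e : R} (he : IsIdempotentElem e) :
    IsIdempotentElem (Ideal.span {e} : Ideal R) := by
  change Ideal.span {e} * Ideal.span {e} = Ideal.span {e}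
  rw [Ideal.span_singleton_mul_span_singleton, he.eq]

theorem pure_span {R : Type u} [CommRing R] {e : R} (he : IsIdempotentElem e) :
    (Ideal.span {e} : Ideal R).Pure :=
  Ideal.Pure.of_isIdempotentElem ⟨{e}, by simp⟩ (span_idem he)


open PrimeSpectrum in
/-- For an ideal I of a commutative ring R these four conditions are equivalent: (1) I is finitely
generated and pure; (2) I = (e) for some idempotent e; (3) I is pure with V(I) open in Spec R; (4)
R/I is projective as an R-module. -/
theorem result (R : Type u) [CommRing R] (I : Ideal R) :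
    List.TFAE [I.Pure ∧ I.FG, ∃ e : R, IsIdempotentElem e ∧ I = Ideal.span {e},
      I.Pure ∧ IsOpen (zeroLocus (I : Set R)), Module.Projective R (R ⧸ I)] := by
  tfae_have 1 → 2 := by
    rintro ⟨hp, hfg⟩
    haveI : I.Pure := hp
    exact (Ideal.isIdempotentElem_iff_of_fg I hfg).mp (Ideal.isIdempotentElem_of_pure I)
  tfae_have 2 → 1 := by
    rintro ⟨e, he, rfl⟩
    exact ⟨pure_span he, ⟨{e}, by simp⟩⟩
  tfae_have 2 → 3 := by
    rintro ⟨e, he, rfl⟩
    refine ⟨pure_span he, ?_⟩
    rw [zeroLocus_span]
    have : IsClopen (zeroLocus ({e} : Set R)) :=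
      isClopen_iff_mul_add_zeroLocus.mpr ⟨e, 1 - e, by rw [mul_sub, mul_one, he.eq, sub_self],
        by ring, rfl⟩
    exact this.isOpen
  tfae_have 3 → 2 := by
    rintro ⟨hp, hopen⟩
    have hclopen : IsClopen (zeroLocus (I : Set R)) := ⟨isClosed_zeroLocus _, hopen⟩
    obtain ⟨e, f, hef, hadd, hV⟩ := isClopen_iff_mul_add_zeroLocus.mp hclopen
    have he : IsIdempotentElem e := (IsIdempotentElem.of_mul_add hef hadd).1
    refine ⟨e, he, ?_⟩
    haveI : I.Pure := hp
    haveI : (Ideal.span {e} : Ideal R).Pure := pure_span he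
    apply Ideal.zeroLocus_inj_of_pure.mp
    rw [hV, zeroLocus_span]
  tfae_have 2 → 4 := by
    rintro ⟨e, he, rfl⟩
    have hle : (Ideal.span {e} : Ideal R) ≤ LinearMap.ker ((1 - e) • (LinearMap.id : R →ₗ[R] R)) := by
      intro x hx
      obtain ⟨r, rfl⟩ := Ideal.mem_span_singleton'.mp hx
      rw [LinearMap.mem_ker, LinearMap.smul_apply, LinearMap.id_apply, smul_eq_mul]
      calc (1 - e) * (r * e) = r * (e - e * e) := by ring
        _ = 0 := by rw [he.eq, sub_self, mul_zero]
    refine Module.Projective.of_split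
      (Submodule.liftQ (Ideal.span {e}) ((1 - e) • (LinearMap.id : R →ₗ[R] R)) hle)
      (Submodule.mkQ (Ideal.span {e})) ?_
    ext
    simp only [LinearMap.comp_apply, Submodule.mkQ_apply, Submodule.liftQ_apply,
      LinearMap.smul_apply, LinearMap.id_apply, smul_eq_mul, mul_one]
    rw [eq_comm, ← sub_eq_zero, ← Submodule.Quotient.mk_sub, Submodule.Quotient.mk_eq_zero]
    have : (1 : R) - (1 - e) = e := by ring
    rw [this]
    exact Ideal.subset_span rfl
  tfae_have 4 → 1 := by
    intro hproj
    refine ⟨(inferInstance : Module.Flat R (R ⧸ I)), ?_⟩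
    obtain ⟨σ, hσ⟩ := Module.projective_lifting_property (Submodule.mkQ I)
      (LinearMap.id : (R ⧸ I) →ₗ[R] (R ⧸ I)) (Submodule.mkQ_surjective I)
    set e' : R := 1 - σ (Submodule.mkQ I 1) with he'
    have he'I : e' ∈ I := by
      rw [← Submodule.Quotient.mk_eq_zero I, he', Submodule.Quotient.mk_sub]
      have := LinearMap.congr_fun hσ (Submodule.mkQ I 1)
      simp only [LinearMap.comp_apply, LinearMap.id_apply] at this
      change Submodule.mkQ I 1 - Submodule.mkQ I (σ ((Submodule.mkQ I) 1)) = 0
      rw [this, sub_self]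
    refine ⟨{e'}, ?_⟩
    apply le_antisymm
    · rw [Finset.coe_singleton, Ideal.span_le, Set.singleton_subset_iff]
      exact he'I
    · intro x hx
      rw [Finset.coe_singleton, Ideal.mem_span_singleton']
      refine ⟨x, ?_⟩
      have h0 : Submodule.mkQ I x = 0 := (Submodule.Quotient.mk_eq_zero I).mpr hx
      have h1 : σ (Submodule.mkQ I x) = x * σ (Submodule.mkQ I 1) := by
        have : Submodule.mkQ I x = x • Submodule.mkQ I 1 := by
          rw [← map_smul, smul_eq_mul, mul_one]
        rw [this, map_smul, smul_eq_mul]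
      rw [h0, map_zero] at h1
      rw [he', mul_sub, mul_one, ← h1, sub_zero]
  tfae_finish

end Groth.Agent.S6354
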