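import Groth.Statements.S6355
import Mathlib
import Groth.Agent.S6353
import Groth.Agent.S6354
-- import your own Groth.Agent.* helpers here

set_option autoImplicit false
universe u
open CAlg

namespace Groth.Agent.S6355

open Module LocalizedModule

section
variable {R : Type u} [CommRing R] (M : Type u) [AddCommGroup M] [Module R M] [Module.Finite R M]
  [Module.Flat R M]

attribute [local instance] Module.free_of_flat_of_isLocalRing

/-- L1: a map from a free module of the right rank, surjective near `p`. -/
theorem exists_away_surj (p : Ideal R) [p.IsPrime] :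
    ∃ (φ : (Fin (rankAtStalk M ⟨p, inferInstance⟩) →₀ R) →ₗ[R] M), ∃ a : R, a ∉ p ∧
      ∀ m : M ⧸ LinearMap.range φ, a • m = 0 := by
  let Rₚ := Localization.AtPrime p
  let n := rankAtStalk M ⟨p, inferInstance⟩
  let f : (Fin n →₀ R) →ₗ[R] Fin n →₀ Rₚ := Finsupp.mapRange.linearMap (Algebra.linearMap R Rₚ)
  let g : M →ₗ[R] LocalizedModule.AtPrime p M := LocalizedModule.mkLinearMap p.primeCompl M
  obtain ⟨φ, -, -, hφps⟩ := exists_localizedMap_surjective_of_surjective p.primeCompl f g
    ((finBasis Rₚ (LocalizedModule.AtPrime p M)).repr.restrictScalars R).symm.surjective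
  have hφ : Function.Surjective (LocalizedModule.map p.primeCompl φ) := by
    simpa [LocalizedModule.coe_map_eq f g]
  rw [φ.localizedMap_surjective_iff_subsingleton_localized_coker] at hφ
  have hns : (⟨p, inferInstance⟩ : PrimeSpectrum R) ∉ Module.support R (M ⧸ LinearMap.range φ) := by
    rw [Module.notMem_support_iff]
    exact hφ
  rw [Module.support_eq_zeroLocus, PrimeSpectrum.mem_zeroLocus, Set.not_subset] at hns
  obtain ⟨a, ha, hap⟩ := hns
  exact ⟨φ, a, hap, fun m => Module.mem_annihilator.mp ha m⟩

omit [Module.Finite R M] [Module.Flat R M] in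
/-- L2: the rank is bounded near `p`. -/
theorem rank_le_of_surj {n : ℕ} (φ : (Fin n →₀ R) →ₗ[R] M) (a : R)
    (ha : ∀ m : M ⧸ LinearMap.range φ, a • m = 0) (q : PrimeSpectrum R) (hq : a ∉ q.asIdeal) :
    rankAtStalk M q ≤ n := by
  have hs : Function.Surjective (LocalizedModule.map q.asIdeal.primeCompl φ) := by
    rw [φ.localizedMap_surjective_iff_subsingleton_localized_coker, LocalizedModule.subsingleton_iff]
    intro m
    exact ⟨a, hq, ha m⟩
  have h1 := LinearMap.finrank_le_finrank_of_surjective hs
  have h2 : Module.finrank (Localization.AtPrime q.asIdeal)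
      (LocalizedModule q.asIdeal.primeCompl (Fin n →₀ R)) = n := by
    have := Module.finrank_of_isLocalizedModule_of_free (M := Fin n →₀ R)
      (Mₛ := LocalizedModule q.asIdeal.primeCompl (Fin n →₀ R)) (Localization.AtPrime q.asIdeal)
      q.asIdeal.primeCompl (LocalizedModule.mkLinearMap q.asIdeal.primeCompl (Fin n →₀ R))
    rw [this]
    haveI : Nontrivial R :=
      ⟨⟨0, 1, fun h => q.2.ne_top ((Ideal.eq_top_iff_one _).mpr (h ▸ q.asIdeal.zero_mem))⟩⟩
    simp
  rw [h2] at h1
  exact h1

set_option backward.isDefEq.respectTransparency false in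
/-- L3: if the rank is constant on `D(a)` and `φ` is surjective on `D(a)`, then `M_a` is finitely
presented. -/
theorem fp_away {n : ℕ} (φ : (Fin n →₀ R) →ₗ[R] M) (a : R)
    (ha : ∀ m : M ⧸ LinearMap.range φ, a • m = 0)
    (hr : ∀ q : PrimeSpectrum R, a ∉ q.asIdeal → rankAtStalk M q = n) :
    Module.FinitePresentation (Localization.Away a) (LocalizedModule.Away a M) := by
  have hs : Function.Surjective (LocalizedModule.map (Submonoid.powers a) φ) := by
    rw [φ.localizedMap_surjective_iff_subsingleton_localized_coker, LocalizedModule.subsingleton_iff]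
    intro m
    exact ⟨a, Submonoid.mem_powers a, ha m⟩
  let φₐ : LocalizedModule.Away a (Fin n →₀ R) →ₗ[Localization.Away a] LocalizedModule.Away a M :=
    LocalizedModule.map (Submonoid.powers a) φ
  have hs' : Function.Surjective φₐ := hs
  have hb : Function.Bijective φₐ := by
    refine bijective_of_surjective_of_rankAtStalk_eq (M := LocalizedModule.Away a (Fin n →₀ R))
      (N := LocalizedModule.Away a M) (φ := φₐ) hs' (fun m _ => ?_)
    have hnm : a ∉ (PrimeSpectrum.comap (algebraMap R (Localization.Away a)) ⟨m, inferInstance⟩).asIdeal := by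
      intro h
      have h1 : algebraMap R (Localization.Away a) a ∈ m := h
      exact Ideal.IsPrime.ne_top inferInstance
        (Ideal.eq_top_of_isUnit_mem _ h1 (IsLocalization.Away.algebraMap_isUnit a))
    haveI : Nontrivial R :=
      ⟨⟨0, 1, fun h => (PrimeSpectrum.comap (algebraMap R (Localization.Away a)) ⟨m, inferInstance⟩).2.ne_top
        ((Ideal.eq_top_iff_one _).mpr (h ▸ Ideal.zero_mem _))⟩⟩
    rw [rankAtStalk_isBaseChange (LocalizedModule.isBaseChange (Submonoid.powers a) _),
      rankAtStalk_isBaseChange (LocalizedModule.isBaseChange (Submonoid.powers a) _),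
      hr _ hnm, rankAtStalk_eq_finrank_of_free]
    simp
  haveI : Module.FinitePresentation (Localization.Away a) (LocalizedModule.Away a (Fin n →₀ R)) :=
    inferInstance
  exact Module.FinitePresentation.of_equiv (M := LocalizedModule.Away a (Fin n →₀ R))
    (LinearEquiv.ofBijective φₐ hb)

omit [Module.Flat R M] in
/-- L4: finite presentation is local. -/
theorem fp_of_local (h : ∀ p : Ideal R, p.IsPrime → ∃ a : R, a ∉ p ∧
      Module.FinitePresentation (Localization.Away a) (LocalizedModule.Away a M)) :
    Module.FinitePresentation R M := by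
  obtain ⟨k, π, hπ⟩ := Module.Finite.exists_fin' R M
  let s : Set R := {a | Module.FinitePresentation (Localization.Away a) (LocalizedModule.Away a M)}
  have hs : Ideal.span s = ⊤ := by
    by_contra hne
    obtain ⟨m, hm, hle⟩ := Ideal.exists_le_maximal _ hne
    obtain ⟨a, ham, ha⟩ := h m hm.isPrime
    exact ham (hle (Ideal.subset_span ha))
  refine Module.finitePresentation_of_surjective π hπ ?_
  apply Submodule.of_localizationSpan s hs
  rintro ⟨g, hg⟩
  haveI : Module.FinitePresentation (Localization.Away g) (LocalizedModule.Away g M) := hg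
  have h1 := LinearMap.localized'_ker_eq_ker_localizedMap (Localization.Away g) (Submonoid.powers g)
    (mkLinearMap (Submonoid.powers g) (Fin k → R)) (mkLinearMap (Submonoid.powers g) M) π
  rw [Submodule.localized, h1]
  exact Module.FinitePresentation.fg_ker _ (LocalizedModule.map_surjective _ _ hπ)

/-- (1) ⇒ (2). -/
theorem main (H : ∀ Z : Set (PrimeSpectrum R), IsClosed Z → StableUnderGeneralization Z → IsOpen Z) :
    Module.Projective R M := by
  have hopen_le : ∀ n, IsOpen {q : PrimeSpectrum R | rankAtStalk M q ≤ n} := by
    intro n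
    rw [isOpen_iff_forall_mem_open]
    intro p hp
    obtain ⟨φ, a, hap, ha⟩ := exists_away_surj M p.asIdeal
    refine ⟨PrimeSpectrum.basicOpen a, ?_, (PrimeSpectrum.basicOpen a).isOpen, hap⟩
    intro q hq
    exact (rank_le_of_surj M φ a ha q hq).trans hp
  have hopen_ge : ∀ n, IsOpen {q : PrimeSpectrum R | n ≤ rankAtStalk M q} := by
    intro n
    rcases n with _ | n
    · simp
    · apply H
      · have : {q : PrimeSpectrum R | n + 1 ≤ rankAtStalk M q} =
            {q : PrimeSpectrum R | rankAtStalk M q ≤ n}ᶜ := by
          ext q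
          simp only [Set.mem_ofPred_eq, Set.mem_compl_iff, not_le]
          omega
        rw [this]
        exact (hopen_le n).isClosed_compl
      · intro x y hyx hx
        have hle : y ≤ x := (PrimeSpectrum.le_iff_specializes y x).mpr hyx
        have := rankAtStalk_eq_of_le_of_finite_of_flat M hle
        simp only [Set.mem_ofPred_eq] at hx ⊢
        rw [this]
        exact hx
  haveI : Module.FinitePresentation R M := by
    apply fp_of_local M
    intro p hp
    let P : PrimeSpectrum R := ⟨p, hp⟩
    obtain ⟨φ, a, hap, ha⟩ := exists_away_surj M p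
    have hU : IsOpen ({q : PrimeSpectrum R | rankAtStalk M q ≤ rankAtStalk M P} ∩
        {q : PrimeSpectrum R | rankAtStalk M P ≤ rankAtStalk M q}) :=
      (hopen_le _).inter (hopen_ge _)
    have hPU : P ∈ ({q : PrimeSpectrum R | rankAtStalk M q ≤ rankAtStalk M P} ∩
        {q : PrimeSpectrum R | rankAtStalk M P ≤ rankAtStalk M q}) :=
      ⟨(le_refl (rankAtStalk M P) : rankAtStalk M P ≤ rankAtStalk M P),
        (le_refl (rankAtStalk M P) : rankAtStalk M P ≤ rankAtStalk M P)⟩
    obtain ⟨v, ⟨b, rfl⟩, hPv, hvU⟩ :=
      PrimeSpectrum.isTopologicalBasis_basic_opens.exists_subset_of_mem_open hPU hU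
    have hbp : b ∉ p := hPv
    refine ⟨a * b, fun h => (hp.mem_or_mem h).elim hap hbp, ?_⟩
    apply fp_away M φ (a * b)
    · intro m
      rw [mul_comm, mul_smul, ha, smul_zero]
    · intro q hq
      have hbq : b ∉ q.asIdeal := fun h => hq (Ideal.mul_mem_left _ _ h)
      have := hvU hbq
      exact le_antisymm this.1 this.2
  exact Module.Flat.projective_of_finitePresentation

end

/-- For a commutative ring R the following are equivalent: (1) every subset of Spec R which is closed
and stable under generalization is open; (2) every finite flat R-module is finite locally free, i.e.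
(for finite modules) projective. -/
theorem result (R : Type u) [CommRing R] :
    (∀ Z : Set (PrimeSpectrum R), IsClosed Z → StableUnderGeneralization Z → IsOpen Z) ↔
      ∀ (M : Type u) [AddCommGroup M] [Module R M], Module.Finite R M → Module.Flat R M →
        Module.Projective R M := by
  constructor
  · intro H M _ _ hfin hflat
    exact main M H
  · intro H Z hZc hZg
    obtain ⟨I, hI, rfl⟩ := (Groth.Agent.S6353.result R).2 Z hZc hZg
    have hproj : Module.Projective R (R ⧸ I) := H (R ⧸ I) inferInstance hI
    have h43 := (Groth.Agent.S6354.result R I).out 3 2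
    exact (h43.mp hproj).2
  

end Groth.Agent.S6355
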