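import Groth.Statements.S6359
import Mathlib.Tactic
import Groth.Agent.S6302

set_option autoImplicit false
universe u
open CAlg

namespace Groth.Agent.S6359

theorem aux_univInj {R : Type u} [CommRing R] {M N M' : Type u}
    [AddCommGroup M] [Module R M] [AddCommGroup N] [Module R N] [AddCommGroup M'] [Module R M']
    (f : M →ₗ[R] N) (g : M →ₗ[R] M')
    (H : ∀ (Q : Type u) [AddCommGroup Q] [Module R Q],
      LinearMap.ker (f.rTensor Q) ≤ LinearMap.ker (g.rTensor Q)) :
    CAlgX.UniversallyInjective R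
      ((LinearMap.range (g.prod (-f))).mkQ ∘ₗ LinearMap.inl R M' N) := by
  intro Q _ _
  rw [injective_iff_map_eq_zero]
  intro t ht
  set φ : M →ₗ[R] M' × N := g.prod (-f) with hφ
  have hex : Function.Exact (φ.rTensor Q) ((LinearMap.range φ).mkQ.rTensor Q) :=
    rTensor_exact Q (LinearMap.exact_map_mkQ_range φ) (Submodule.mkQ_surjective _)
  rw [LinearMap.rTensor_comp, LinearMap.comp_apply] at ht
  obtain ⟨w, hw⟩ := (hex _).mp ht
  have h1 : (LinearMap.fst R M' N).rTensor Q ((LinearMap.inl R M' N).rTensor Q t) = t := by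
    rw [← LinearMap.comp_apply, ← LinearMap.rTensor_comp, LinearMap.fst_comp_inl,
      LinearMap.rTensor_id, LinearMap.id_apply]
  have h2 : (LinearMap.snd R M' N).rTensor Q ((LinearMap.inl R M' N).rTensor Q t) = 0 := by
    rw [← LinearMap.comp_apply, ← LinearMap.rTensor_comp, LinearMap.snd_comp_inl,
      LinearMap.rTensor_zero, LinearMap.zero_apply]
  rw [← hw, ← LinearMap.comp_apply, ← LinearMap.rTensor_comp] at h1 h2
  have e1 : LinearMap.fst R M' N ∘ₗ φ = g := by
    ext x; simp [hφ]
  have e2 : LinearMap.snd R M' N ∘ₗ φ = -f := by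
    ext x; simp [hφ]
  rw [e1] at h1
  rw [e2, LinearMap.rTensor_neg, LinearMap.neg_apply, neg_eq_zero] at h2
  rw [← h1]
  exact H Q h2


/-- Let f : M → N and g : M → M' be maps of R-modules such that the cokernel of f is finitely presented.
Then g dominates f (for every module Q the kernel of f ⊗ id_Q is contained in the kernel of g ⊗
id_Q) if and only if g factors through f. -/
theorem result (R : Type u) [CommRing R] {M N M' : Type u}
    [AddCommGroup M] [Module R M] [AddCommGroup N] [Module R N] [AddCommGroup M'] [Module R M']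
    (f : M →ₗ[R] N) (g : M →ₗ[R] M') [Module.FinitePresentation R (N ⧸ LinearMap.range f)] :
    (∀ (Q : Type u) [AddCommGroup Q] [Module R Q], LinearMap.ker (f.rTensor Q) ≤ LinearMap.ker (g.rTensor Q)) ↔
      ∃ h : N →ₗ[R] M', g = h ∘ₗ f := by
  constructor
  · intro H
    set φ : M →ₗ[R] M' × N := g.prod (-f) with hφ
    set f' : M' →ₗ[R] (M' × N) ⧸ LinearMap.range φ :=
      (LinearMap.range φ).mkQ ∘ₗ LinearMap.inl R M' N with hf'
    set g' : N →ₗ[R] (M' × N) ⧸ LinearMap.range φ :=
      (LinearMap.range φ).mkQ ∘ₗ LinearMap.inr R M' N with hg'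
    have hcomm : f' ∘ₗ g = g' ∘ₗ f := by
      ext m
      simp only [hf', hg', LinearMap.comp_apply, Submodule.mkQ_apply, LinearMap.inl_apply,
        LinearMap.inr_apply]
      rw [Submodule.Quotient.eq]
      refine ⟨m, ?_⟩
      simp [hφ]
    have hUI : CAlgX.UniversallyInjective R f' := aux_univInj f g H
    have hinj : Function.Injective f' := by
      have h := hUI R
      intro a b hab
      have h1 : (f'.rTensor R) (TensorProduct.tmul R a (1 : R)) =
          (f'.rTensor R) (TensorProduct.tmul R b (1 : R)) := by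
        rw [LinearMap.rTensor_tmul, LinearMap.rTensor_tmul, hab]
      have h2 := congrArg (TensorProduct.rid R M') (h h1)
      simpa using h2
    let π₀ : M' × N →ₗ[R] N ⧸ LinearMap.range f :=
      (LinearMap.range f).mkQ ∘ₗ LinearMap.snd R M' N
    have hπ₀ : LinearMap.range φ ≤ LinearMap.ker π₀ := by
      rintro _ ⟨m, rfl⟩
      simp only [LinearMap.mem_ker, π₀, LinearMap.comp_apply, hφ, LinearMap.prod_apply,
        LinearMap.snd_apply, Submodule.mkQ_apply,
        Submodule.Quotient.mk_eq_zero]
      exact (LinearMap.range f).neg_mem ⟨m, rfl⟩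
    let π : ((M' × N) ⧸ LinearMap.range φ) →ₗ[R] N ⧸ LinearMap.range f :=
      (LinearMap.range φ).liftQ π₀ hπ₀
    have hπsurj : Function.Surjective π := by
      intro y
      obtain ⟨n, rfl⟩ := Submodule.mkQ_surjective _ y
      exact ⟨(LinearMap.range φ).mkQ (0, n), by simp [π, π₀]⟩
    have hexact : Function.Exact f' π := by
      intro x
      constructor
      · intro hx
        obtain ⟨⟨m', n⟩, rfl⟩ := Submodule.mkQ_surjective _ x
        have hn : n ∈ LinearMap.range f := by
          simpa [π, π₀] using hx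
        obtain ⟨m, rfl⟩ := hn
        refine ⟨m' + g m, ?_⟩
        simp only [hf', LinearMap.comp_apply, Submodule.mkQ_apply, LinearMap.inl_apply]
        rw [Submodule.Quotient.eq]
        refine ⟨m, ?_⟩
        simp [hφ]
      · rintro ⟨m', rfl⟩
        simp [hf', π, π₀]
    obtain ⟨s, hs⟩ := Groth.Agent.S6302.result f' π hexact hπsurj hUI
    obtain ⟨r, hr⟩ := ((Function.Exact.split_tfae hexact hinj hπsurj).out 0 1 rfl rfl).mp ⟨s, hs⟩
    refine ⟨r ∘ₗ g', ?_⟩
    rw [LinearMap.comp_assoc, ← hcomm, ← LinearMap.comp_assoc, hr, LinearMap.id_comp]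
  · rintro ⟨h, rfl⟩ Q _ _ t ht
    rw [LinearMap.mem_ker] at ht ⊢
    rw [LinearMap.rTensor_comp, LinearMap.comp_apply, ht, map_zero]

end Groth.Agent.S6359
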