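import Groth.Statements.S6357
import Mathlib.Tactic
import Groth.Agent.Lib.helper10.ML
import Groth.Agent.S6359

set_option autoImplicit false
universe u
open CAlg

namespace Groth.Agent.S6357

/-- Given finitely presented R-modules G_i forming a directed system over a nonempty directed index set,
with transition maps f_ij and colimit M, the module M is Mittag-Leffler exactly when every index i
admits some j ≥ i for which f_ij factors through f_ik whenever k ≥ i. -/
theorem result (R : Type u) [CommRing R] {ι : Type u}
    [Preorder ι] [IsDirected ι (· ≤ ·)] [Nonempty ι] [DecidableEq ι] (G : ι → Type u)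
    [∀ i, AddCommGroup (G i)] [∀ i, Module R (G i)] [∀ i, Module.FinitePresentation R (G i)]
    (f : ∀ i j, i ≤ j → G i →ₗ[R] G j) [DirectedSystem G fun i j h => f i j h] :
    CAlg.IsMittagLeffler R (Module.DirectLimit G f) ↔
      ∀ i, ∃ (j : ι) (hij : i ≤ j), ∀ (k : ι) (hik : i ≤ k),
        ∃ h : G k →ₗ[R] G j, f i j hij = h ∘ₗ f i k hik := by
  have hof : ∀ (i k : ι) (hik : i ≤ k), Module.DirectLimit.of R ι G f i =
      Module.DirectLimit.of R ι G f k ∘ₗ f i k hik := by
    intro i k hik
    ext x
    simp [Module.DirectLimit.of_f]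
  constructor
  · intro hM i
    obtain ⟨xt, h0, huniv⟩ := Groth.Agent.Lib.helper10.ML.universal_element hM
      (Module.DirectLimit.of R ι G f i)
    obtain ⟨j, hij, hj⟩ := Groth.Agent.Lib.helper10.ML.tensor_zero_stage f _ xt h0
    refine ⟨j, hij, ?_⟩
    intro k hik
    have hdom := huniv (f i j hij) hj
    haveI : Module.FinitePresentation R (G k ⧸ LinearMap.range (f i k hik)) :=
      Module.finitePresentation_of_surjective (LinearMap.range (f i k hik)).mkQ
        (Submodule.mkQ_surjective _) (by
          rw [Submodule.ker_mkQ, LinearMap.range_eq_map]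
          exact (Module.Finite.fg_top).map _)
    apply (Groth.Agent.S6359.result R (f i k hik) (f i j hij)).mp
    intro N _ _ t ht
    apply hdom N
    rw [LinearMap.mem_ker] at ht ⊢
    rw [hof i k hik, LinearMap.rTensor_comp, LinearMap.comp_apply, ht, map_zero]
  · intro H κ Q _ _
    rw [injective_iff_map_eq_zero]
    intro z hz
    obtain ⟨i, zi, rfl⟩ := Groth.Agent.Lib.helper10.ML.tensor_exists_of f _ z
    obtain ⟨j, hij, hj⟩ := H i
    have h1 : (f i j hij).rTensor _ zi = 0 := by
      apply Groth.Agent.Lib.helper10.ML.piRightHom_injective (G j) Q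
      funext α
      rw [Groth.Agent.Lib.helper10.ML.piRightHom_rTensor, map_zero]
      have h2 : (Module.DirectLimit.of R ι G f i).rTensor (Q α)
          (TensorProduct.piRightHom R R (G i) Q zi α) = 0 := by
        rw [← Groth.Agent.Lib.helper10.ML.piRightHom_rTensor, hz]
        rfl
      obtain ⟨k, hik, hk⟩ := Groth.Agent.Lib.helper10.ML.tensor_zero_stage f (Q α) _ h2
      obtain ⟨h, hh⟩ := hj k hik
      rw [hh, LinearMap.rTensor_comp, LinearMap.comp_apply, hk, map_zero]
      rfl
    rw [hof i j hij, LinearMap.rTensor_comp, LinearMap.comp_apply, h1, map_zero]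

end Groth.Agent.S6357
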