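import Groth.Statements.S6361
import Mathlib.Tactic
import Mathlib.Algebra.DirectSum.Module
import Groth.Agent.Lib.helper10.ML
import Groth.Agent.S6359

set_option autoImplicit false
universe u
open CAlg

namespace Groth.Agent.S6361

open Groth.Agent.Lib.helper10.ML

/-- a finitely presented module with a map to `M` -/
structure Stage (R : Type u) [CommRing R] (M : Type u) [AddCommGroup M] [Module R M] where
  Q : Type u
  [acg : AddCommGroup Q]
  [mod : Module R Q]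
  [fp : Module.FinitePresentation R Q]
  h : Q →ₗ[R] M

attribute [instance] Stage.acg Stage.mod Stage.fp

section

variable {R : Type u} [CommRing R] {M : Type u} [AddCommGroup M] [Module R M]

theorem step (hML : CAlg.IsMittagLeffler R M) (s : Stage R M) (m : M) :
    ∃ (s' : Stage R M) (t : s.Q →ₗ[R] s'.Q),
      s'.h ∘ₗ t = s.h ∧ m ∈ LinearMap.range s'.h ∧ Dom s.h t := by
  let f' : s.Q × R →ₗ[R] M := s.h.coprod (LinearMap.toSpanSingleton R M m)
  obtain ⟨Q', _, _, hQ', g, h', hfac, hker⟩ := exists_dominating_of_ML hML f'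
  refine ⟨⟨Q', h'⟩, g ∘ₗ LinearMap.inl R s.Q R, ?_, ?_, ?_⟩
  · change h' ∘ₗ (g ∘ₗ LinearMap.inl R s.Q R) = s.h
    rw [← LinearMap.comp_assoc, ← hfac]
    exact LinearMap.coprod_inl _ _
  · refine ⟨g (0, 1), ?_⟩
    change h' (g (0, 1)) = m
    rw [← LinearMap.comp_apply, ← hfac]
    simp [f']
  · have h1 : s.h = f' ∘ₗ LinearMap.inl R s.Q R := (LinearMap.coprod_inl _ _).symm
    have h2 : Dom f' g := fun X _ _ => (hker X).le
    have h3 := h2.comp_right (LinearMap.inl R s.Q R)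
    rw [← h1] at h3
    exact h3

variable (hML : CAlg.IsMittagLeffler R M)

noncomputable def next (s : Stage R M) (m : M) : Stage R M := (step hML s m).choose

noncomputable def tmap (s : Stage R M) (m : M) : s.Q →ₗ[R] (next hML s m).Q :=
  (step hML s m).choose_spec.choose

theorem tmap_spec (s : Stage R M) (m : M) :
    (next hML s m).h ∘ₗ tmap hML s m = s.h ∧ m ∈ LinearMap.range (next hML s m).h ∧
      Dom s.h (tmap hML s m) :=
  (step hML s m).choose_spec.choose_spec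

variable (s₀ : Stage R M) (e : ℕ → M)

noncomputable def seq : ℕ → Stage R M
  | 0 => s₀
  | n + 1 => next hML (seq n) (e n)

noncomputable def tr (n : ℕ) : (seq hML s₀ e n).Q →ₗ[R] (seq hML s₀ e (n + 1)).Q :=
  tmap hML (seq hML s₀ e n) (e n)

theorem tr_h (n : ℕ) : (seq hML s₀ e (n + 1)).h ∘ₗ tr hML s₀ e n = (seq hML s₀ e n).h :=
  (tmap_spec hML (seq hML s₀ e n) (e n)).1

theorem e_mem (n : ℕ) : e n ∈ LinearMap.range (seq hML s₀ e (n + 1)).h :=
  (tmap_spec hML (seq hML s₀ e n) (e n)).2.1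

theorem tr_dom (n : ℕ) : Dom (seq hML s₀ e n).h (tr hML s₀ e n) :=
  (tmap_spec hML (seq hML s₀ e n) (e n)).2.2

theorem factor (n : ℕ) : ∃ h : (seq hML s₀ e (n + 2)).Q →ₗ[R] (seq hML s₀ e (n + 1)).Q,
    tr hML s₀ e n = h ∘ₗ (tr hML s₀ e (n + 1) ∘ₗ tr hML s₀ e n) := by
  have : Module.FinitePresentation R ((seq hML s₀ e (n + 2)).Q ⧸
      LinearMap.range (tr hML s₀ e (n + 1) ∘ₗ tr hML s₀ e n)) :=
    Module.finitePresentation_of_surjective (LinearMap.range _).mkQ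
      (Submodule.mkQ_surjective _) (by
        rw [Submodule.ker_mkQ, LinearMap.range_eq_map]
        exact (Module.Finite.fg_top).map _)
  apply (Groth.Agent.S6359.result R (tr hML s₀ e (n + 1) ∘ₗ tr hML s₀ e n) (tr hML s₀ e n)).mp
  intro X _ _
  have h1 : (seq hML s₀ e n).h =
      (seq hML s₀ e (n + 2)).h ∘ₗ (tr hML s₀ e (n + 1) ∘ₗ tr hML s₀ e n) := by
    rw [← LinearMap.comp_assoc, tr_h, tr_h]
  intro t ht
  apply tr_dom hML s₀ e n X
  rw [h1]
  exact Dom.of_comp _ _ X ht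

theorem lift_exists (n : ℕ) (y : (seq hML s₀ e n).Q →ₗ[R] (seq hML s₀ e 1).Q)
    (hy : ∃ a : (seq hML s₀ e (n + 1)).Q →ₗ[R] (seq hML s₀ e 1).Q, y = a ∘ₗ tr hML s₀ e n) :
    ∃ y' : (seq hML s₀ e (n + 1)).Q →ₗ[R] (seq hML s₀ e 1).Q,
      (∃ a : (seq hML s₀ e (n + 2)).Q →ₗ[R] (seq hML s₀ e 1).Q, y' = a ∘ₗ tr hML s₀ e (n + 1)) ∧
      y' ∘ₗ tr hML s₀ e n = y := by
  obtain ⟨a, rfl⟩ := hy
  obtain ⟨h, hh⟩ := factor hML s₀ e n
  refine ⟨(a ∘ₗ h) ∘ₗ tr hML s₀ e (n + 1), ⟨a ∘ₗ h, rfl⟩, ?_⟩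
  conv_rhs => rw [hh]
  simp only [LinearMap.comp_assoc]

noncomputable def Y : (n : ℕ) → {y : (seq hML s₀ e n).Q →ₗ[R] (seq hML s₀ e 1).Q //
    ∃ a : (seq hML s₀ e (n + 1)).Q →ₗ[R] (seq hML s₀ e 1).Q, y = a ∘ₗ tr hML s₀ e n}
  | 0 => ⟨tr hML s₀ e 0, LinearMap.id, (LinearMap.id_comp _).symm⟩
  | n + 1 => ⟨(lift_exists hML s₀ e n (Y n).1 (Y n).2).choose,
      (lift_exists hML s₀ e n (Y n).1 (Y n).2).choose_spec.1⟩

theorem Y_succ (n : ℕ) : (Y hML s₀ e (n + 1)).1 ∘ₗ tr hML s₀ e n = (Y hML s₀ e n).1 :=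
  (lift_exists hML s₀ e n (Y hML s₀ e n).1 (Y hML s₀ e n).2).choose_spec.2

theorem Y_zero : (Y hML s₀ e 0).1 = tr hML s₀ e 0 := rfl

theorem Y_ker (n : ℕ) : LinearMap.ker (seq hML s₀ e n).h ≤ LinearMap.ker (Y hML s₀ e n).1 := by
  intro q hq
  obtain ⟨a, ha⟩ := (Y hML s₀ e n).2
  have h1 := (tr_dom hML s₀ e n).ker_le hq
  rw [LinearMap.mem_ker] at h1 ⊢
  rw [ha, LinearMap.comp_apply, h1, map_zero]

noncomputable def H : (DirectSum ℕ fun n => (seq hML s₀ e n).Q) →ₗ[R] M :=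
  DirectSum.toModule R ℕ M (fun n => (seq hML s₀ e n).h)

noncomputable def Z : (DirectSum ℕ fun n => (seq hML s₀ e n).Q) →ₗ[R] (seq hML s₀ e 1).Q :=
  DirectSum.toModule R ℕ _ (fun n => (Y hML s₀ e n).1)

theorem H_lof (n : ℕ) (q : (seq hML s₀ e n).Q) :
    H hML s₀ e (DirectSum.lof R ℕ (fun n => (seq hML s₀ e n).Q) n q) = (seq hML s₀ e n).h q := by
  unfold H
  exact DirectSum.toModule_lof (M := fun n => (seq hML s₀ e n).Q)
    (φ := fun n => (seq hML s₀ e n).h) R n q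

theorem Z_lof (n : ℕ) (q : (seq hML s₀ e n).Q) :
    Z hML s₀ e (DirectSum.lof R ℕ (fun n => (seq hML s₀ e n).Q) n q) = (Y hML s₀ e n).1 q := by
  unfold Z
  exact DirectSum.toModule_lof (M := fun n => (seq hML s₀ e n).Q)
    (φ := fun n => (Y hML s₀ e n).1) R n q

theorem push (N N' : ℕ) (hNN' : N ≤ N') (a : M) (b : (seq hML s₀ e 1).Q)
    (h : ∃ q : (seq hML s₀ e N).Q, (seq hML s₀ e N).h q = a ∧ (Y hML s₀ e N).1 q = b) :
    ∃ q : (seq hML s₀ e N').Q, (seq hML s₀ e N').h q = a ∧ (Y hML s₀ e N').1 q = b := by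
  induction N', hNN' using Nat.le_induction with
  | base => exact h
  | succ k hk ih =>
    obtain ⟨q, h1, h2⟩ := ih
    refine ⟨tr hML s₀ e k q, ?_, ?_⟩
    · rw [← LinearMap.comp_apply, tr_h, h1]
    · rw [← LinearMap.comp_apply, Y_succ, h2]

theorem rep (d : DirectSum ℕ fun n => (seq hML s₀ e n).Q) :
    ∃ (N : ℕ) (q : (seq hML s₀ e N).Q), (seq hML s₀ e N).h q = H hML s₀ e d ∧
      (Y hML s₀ e N).1 q = Z hML s₀ e d := by
  induction d using DirectSum.induction_on with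
  | zero => exact ⟨0, 0, by simp, by simp⟩
  | of n q =>
    refine ⟨n, q, ?_, ?_⟩
    · exact (H_lof hML s₀ e n q).symm
    · exact (Z_lof hML s₀ e n q).symm
  | add d₁ d₂ h₁ h₂ =>
    obtain ⟨N₁, q₁, ha₁, hb₁⟩ := h₁
    obtain ⟨N₂, q₂, ha₂, hb₂⟩ := h₂
    obtain ⟨q₁', ha₁', hb₁'⟩ := push hML s₀ e N₁ (max N₁ N₂) (le_max_left _ _) _ _ ⟨q₁, ha₁, hb₁⟩
    obtain ⟨q₂', ha₂', hb₂'⟩ := push hML s₀ e N₂ (max N₁ N₂) (le_max_right _ _) _ _ ⟨q₂, ha₂, hb₂⟩
    refine ⟨max N₁ N₂, q₁' + q₂', ?_, ?_⟩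
    · rw [map_add, map_add, ha₁', ha₂']
    · rw [map_add, map_add, hb₁', hb₂']

theorem H_ker_le : LinearMap.ker (H hML s₀ e) ≤ LinearMap.ker (Z hML s₀ e) := by
  intro d hd
  obtain ⟨N, q, h1, h2⟩ := rep hML s₀ e d
  rw [LinearMap.mem_ker] at hd ⊢
  rw [hd] at h1
  rw [← h2]
  exact Y_ker hML s₀ e N h1

theorem H_surj (he : Submodule.span R (Set.range e) = ⊤) : Function.Surjective (H hML s₀ e) := by
  rw [← LinearMap.range_eq_top, eq_top_iff, ← he]
  apply Submodule.span_le.mpr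
  rintro _ ⟨n, rfl⟩
  obtain ⟨q, hq⟩ := e_mem hML s₀ e n
  exact ⟨DirectSum.lof R ℕ _ (n + 1) q, by
    rw [← hq]; exact H_lof hML s₀ e (n + 1) q⟩

theorem exists_z (he : Submodule.span R (Set.range e) = ⊤) :
    ∃ z : M →ₗ[R] (seq hML s₀ e 1).Q, z ∘ₗ s₀.h = tr hML s₀ e 0 := by
  have hH := H_surj hML s₀ e he
  refine ⟨((LinearMap.ker (H hML s₀ e)).liftQ (Z hML s₀ e) (H_ker_le hML s₀ e)) ∘ₗ
    (LinearMap.quotKerEquivOfSurjective (H hML s₀ e) hH).symm.toLinearMap, ?_⟩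
  ext q
  have h0 : s₀.h q = H hML s₀ e (DirectSum.lof R ℕ (fun n => (seq hML s₀ e n).Q) 0 q) :=
    (H_lof hML s₀ e 0 q).symm
  have h1 : (LinearMap.quotKerEquivOfSurjective (H hML s₀ e) hH).symm
      (H hML s₀ e (DirectSum.lof R ℕ (fun n => (seq hML s₀ e n).Q) 0 q)) =
      (LinearMap.ker (H hML s₀ e)).mkQ (DirectSum.lof R ℕ (fun n => (seq hML s₀ e n).Q) 0 q) := by
    rw [LinearEquiv.symm_apply_eq]
    rfl
  simp only [LinearMap.comp_apply, LinearEquiv.coe_coe]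
  rw [h0, h1, Submodule.mkQ_apply, Submodule.liftQ_apply]
  exact Z_lof hML s₀ e 0 q

end


/-- Let M be a Mittag-Leffler, countably generated module over a commutative ring R, and f : P → M a
linear map with P finitely generated. Then there is an endomorphism a of M which factors through
some finitely presented module and satisfies a ∘ f = f. -/
theorem result (R : Type u)
    [CommRing R] (M : Type u) [AddCommGroup M] [Module R M] (hML : CAlg.IsMittagLeffler R M)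
    (hc : CAlg.IsCountablyGenerated R M) {P : Type u} [AddCommGroup P] [Module R P] [Module.Finite R P]
    (f : P →ₗ[R] M) :
    ∃ (Q : Type u) (_ : AddCommGroup Q) (_ : Module R Q) (_ : Module.FinitePresentation R Q)
      (b : M →ₗ[R] Q) (c : Q →ₗ[R] M), (c ∘ₗ b) ∘ₗ f = f := by
  classical
  obtain ⟨S, hS, hspan⟩ := hc
  obtain ⟨e, he⟩ := (hS.insert 0).exists_eq_range (Set.insert_nonempty _ _)
  have hspan' : Submodule.span R (Set.range e) = ⊤ := by
    rw [← he, Submodule.span_insert_zero, hspan]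
  obtain ⟨k, π, hπ⟩ := Module.Finite.exists_fin' R P
  let s₀ : Stage R M := ⟨Fin k → R, f ∘ₗ π⟩
  obtain ⟨z, hz⟩ := exists_z hML s₀ e hspan'
  refine ⟨(seq hML s₀ e 1).Q, inferInstance, inferInstance, inferInstance, z,
    (seq hML s₀ e 1).h, ?_⟩
  ext x
  obtain ⟨v, rfl⟩ := hπ x
  have h1 : z (f (π v)) = tr hML s₀ e 0 v := by
    rw [← hz]
    rfl
  simp only [LinearMap.comp_apply]
  rw [h1, ← LinearMap.comp_apply, tr_h]
  rfl

end Groth.Agent.S6361
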