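import Groth.Statements.S6362
import Mathlib

set_option autoImplicit false
universe u
open scoped TensorProduct
open Fields

namespace Groth.Agent.S6362

/-- Let K/F be a finite separable extension and L/F an extension with L algebraically closed. Then the
L-algebra map K ⊗_F L → ∏_σ L, indexed by the F-algebra maps σ : K → L and sending a ⊗ b to (σ(a)
b)_σ, is an isomorphism; stated as bijectivity of that map. -/
theorem result {F K L : Type u} [Field F] [Field K] [Field L]
    [Algebra F K] [Algebra F L] [FiniteDimensional F K] [Algebra.IsSeparable F K] [IsAlgClosed L] :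
    Function.Bijective (fun x : K ⊗[F] L => fun σ : K →ₐ[F] L =>
      Algebra.TensorProduct.lift σ (AlgHom.id F L) (fun a b => Commute.all (σ a) b) x) := by
  classical
  let b : Module.Basis (Module.Free.ChooseBasisIndex F K) F K := Module.Free.chooseBasis F K
  let T : (Module.Free.ChooseBasisIndex F K → L) →ₗ[L] ((K →ₐ[F] L) → L) :=
    LinearMap.pi (fun σ => ∑ i, (σ (b i)) • LinearMap.proj i)
  have hT : ∀ c σ, T c σ = ∑ i, σ (b i) * c i := by
    intro c σ
    simp [T]
  have hcard : Fintype.card (K →ₐ[F] L) = Fintype.card (Module.Free.ChooseBasisIndex F K) := by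
    rw [AlgHom.card F K L, Module.finrank_eq_card_chooseBasisIndex]
  have hTsurj : Function.Surjective T := by
    rw [← LinearMap.range_eq_top]
    by_contra hne
    obtain ⟨φ, hφ0, hφ⟩ := Submodule.exists_le_ker_of_lt_top _ (lt_top_iff_ne_top.mpr hne)
    apply hφ0
    have hli := linearIndependent_toLinearMap F K L
    rw [Fintype.linearIndependent_iff] at hli
    have hzero : ∀ σ : K →ₐ[F] L, φ (fun τ => if σ = τ then 1 else 0) = 0 := by
      apply hli (fun σ => φ (fun τ => if σ = τ then 1 else 0))
      apply b.ext
      intro i
      simp only [LinearMap.sum_apply, LinearMap.smul_apply, AlgHom.toLinearMap_apply,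
        LinearMap.zero_apply]
      have h1 : T (fun j => if i = j then 1 else 0) ∈ LinearMap.range T := ⟨_, rfl⟩
      have h2 := hφ h1
      rw [LinearMap.mem_ker, LinearMap.pi_apply_eq_sum_univ φ] at h2
      refine Eq.trans ?_ h2
      refine Finset.sum_congr rfl (fun σ _ => ?_)
      have hTe : T (fun j => if i = j then 1 else 0) σ = σ (b i) := by
        rw [hT]
        simp
      rw [hTe, smul_eq_mul, smul_eq_mul, mul_comm]
    apply LinearMap.ext
    intro v
    rw [LinearMap.pi_apply_eq_sum_univ φ v]
    simp [hzero]
  have hTinj : Function.Injective T := by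
    rw [LinearMap.injective_iff_surjective_of_finrank_eq_finrank]
    · exact hTsurj
    · rw [Module.finrank_fintype_fun_eq_card, Module.finrank_fintype_fun_eq_card, hcard]
  let e : K ⊗[F] L ≃ₗ[F] (Module.Free.ChooseBasisIndex F K →₀ L) :=
    TensorProduct.equivFinsuppOfBasisLeft b
  have hΦ : ∀ (x : K ⊗[F] L) (σ : K →ₐ[F] L),
      Algebra.TensorProduct.lift σ (AlgHom.id F L) (fun a b => Commute.all (σ a) b) x =
        T (fun i => e x i) σ := by
    intro x σ
    induction x using TensorProduct.induction_on with
    | zero =>
      rw [map_zero, hT]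
      simp
    | tmul a c =>
      rw [Algebra.TensorProduct.lift_tmul, hT]
      simp only [e, TensorProduct.equivFinsuppOfBasisLeft_apply_tmul_apply, AlgHom.id_apply]
      have h1 : σ a = ∑ i, b.repr a i • σ (b i) := by
        conv_lhs => rw [← b.sum_repr a]
        rw [map_sum]
        refine Finset.sum_congr rfl (fun i _ => ?_)
        rw [map_smul]
      rw [h1, Finset.sum_mul]
      refine Finset.sum_congr rfl (fun i _ => ?_)
      rw [Algebra.smul_def, Algebra.smul_def]
      ring
    | add x y hx hy =>
      rw [map_add, hx, hy, hT, hT, hT, ← Finset.sum_add_distrib]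
      refine Finset.sum_congr rfl (fun i _ => ?_)
      rw [map_add, Finsupp.add_apply, mul_add]
  constructor
  · intro x y hxy
    have h1 : T (fun i => e x i) = T (fun i => e y i) := by
      funext σ
      rw [← hΦ, ← hΦ]
      exact congrFun hxy σ
    have h2 := hTinj h1
    apply e.injective
    apply Finsupp.ext
    intro i
    exact congrFun h2 i
  · intro v
    obtain ⟨c, hc⟩ := hTsurj v
    refine ⟨e.symm (Finsupp.equivFunOnFinite.symm c), ?_⟩
    funext σ
    change Algebra.TensorProduct.lift σ (AlgHom.id F L) (fun a b => Commute.all (σ a) b) _ = v σ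
    rw [hΦ, ← hc]
    have hec : (fun i => e (e.symm (Finsupp.equivFunOnFinite.symm c)) i) = c := by
      funext i
      rw [LinearEquiv.apply_symm_apply]
      rfl
    rw [hec]

end Groth.Agent.S6362
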