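import Groth.Statements.S6363
import Mathlib

set_option autoImplicit false
universe u
open scoped TensorProduct
open Fields

namespace Groth.Agent.S6363

/-- For a finite field extension L/K and a normal closure M of L/K, some K-algebra homomorphism from the
n-fold tensor power L ⊗_K ⋯ ⊗_K L to M is surjective, where n = [L : K]_s is the separable degree
(so n ≤ [L : K]). -/
theorem result {K L M : Type u} [Field K] [Field L] [Field M]
    [Algebra K L] [Algebra K M] [Algebra L M] [IsScalarTower K L M] [FiniteDimensional K L]
    [IsNormalClosure K L M] :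
    ∃ f : (⨂[K] _ : Fin (Field.finSepDegree K L), L) →ₐ[K] M, Function.Surjective f := by
  classical
  have hN : Normal K M := IsNormalClosure.normal (K := L)
  have halg : Algebra.IsAlgebraic K M := hN.toIsAlgebraic
  have hsplit := (Algebra.IsAlgebraic.isNormalClosure_iff (F := K) (K := L) (L := M)).mp inferInstance
  have hcard : Field.finSepDegree K L = Nat.card (L →ₐ[K] M) :=
    Field.finSepDegree_eq_of_adjoin_splits K L M (IntermediateField.adjoin_univ K L)
      (fun s _ => ⟨Algebra.IsIntegral.isIntegral s, hsplit.1 s⟩)
  have : Finite (L →ₐ[K] M) := inferInstance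
  let σ : Fin (Field.finSepDegree K L) ≃ (L →ₐ[K] M) := (Finite.equivFinOfCardEq hcard.symm).symm
  let g : MultilinearMap K (fun _ : Fin (Field.finSepDegree K L) => L) M :=
    (MultilinearMap.mkPiAlgebra K (Fin (Field.finSepDegree K L)) M).compLinearMap
      (fun i => (σ i).toLinearMap)
  have hg : ∀ x, g x = ∏ i, σ i (x i) := fun x => by
    simp [g, MultilinearMap.mkPiAlgebra_apply]
  let f : (⨂[K] _ : Fin (Field.finSepDegree K L), L) →ₐ[K] M :=
    PiTensorProduct.liftAlgHom g (by simp [hg]) (by
      intro x y
      simp only [hg, Pi.mul_apply, map_mul, Finset.prod_mul_distrib])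
  have hf : ∀ x, f (PiTensorProduct.tprod K x) = g x := fun x => PiTensorProduct.lift.tprod x
  refine ⟨f, ?_⟩
  rw [← AlgHom.range_eq_top]
  have h1 : ∀ τ : L →ₐ[K] M, τ.fieldRange ≤ subalgebraEquivIntermediateField f.range := by
    intro τ y hy
    obtain ⟨x, rfl⟩ := hy
    rw [mem_subalgebraEquivIntermediateField]
    obtain ⟨i, rfl⟩ := σ.surjective τ
    refine ⟨PiTensorProduct.singleAlgHom i x, ?_⟩
    rw [PiTensorProduct.singleAlgHom_apply]
    change f (PiTensorProduct.tprod K _) = σ i x
    rw [hf, hg]
    rw [Finset.prod_eq_single i]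
    · simp
    · intro j _ hj
      simp [MonoidHom.mulSingle_apply, Pi.mulSingle_eq_of_ne hj]
    · simp
  have h2 : subalgebraEquivIntermediateField f.range = ⊤ := by
    rw [eq_top_iff, ← hsplit.2, normalClosure_def]
    exact iSup_le h1
  rw [eq_top_iff]
  intro y _
  have : y ∈ subalgebraEquivIntermediateField f.range := h2 ▸ IntermediateField.mem_top
  exact mem_subalgebraEquivIntermediateField.mp this

end Groth.Agent.S6363
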