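import Groth.Statements.S6367
import Mathlib

set_option autoImplicit false
universe u
open CAlg

namespace Groth.Agent.S6367

/-- Let 0 → M₁ → M₂ → M₃ → 0 be a short exact sequence of R-modules (f injective, g surjective, image of
f = kernel of g). If M₁ and M₃ are coherent — finitely generated with every finitely generated
submodule finitely presented — then so is M₂. -/
theorem result (R : Type u) [CommRing R] {M₁ M₂ M₃ : Type u}
    [AddCommGroup M₁] [Module R M₁] [AddCommGroup M₂] [Module R M₂] [AddCommGroup M₃] [Module R M₃]
    (f : M₁ →ₗ[R] M₂) (g : M₂ →ₗ[R] M₃) (hf : Function.Injective f) (hg : Function.Surjective g)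
    (hfg : LinearMap.range f = LinearMap.ker g)
    (h₁ : (Module.Finite R M₁ ∧ ∀ N : Submodule R M₁, N.FG → Module.FinitePresentation R N))
    (h₃ : (Module.Finite R M₃ ∧ ∀ N : Submodule R M₃, N.FG → Module.FinitePresentation R N)) :
    (Module.Finite R M₂ ∧ ∀ N : Submodule R M₂, N.FG → Module.FinitePresentation R N) := by
  classical
  obtain ⟨hfin₁, hc₁⟩ := h₁
  obtain ⟨hfin₃, hc₃⟩ := h₃
  have hfin₂ : Module.Finite R M₂ := by
    rw [Module.finite_def]
    apply Submodule.fg_of_fg_map_of_fg_inf_ker g
    · rw [Submodule.map_top, LinearMap.range_eq_top.mpr hg]; exact Module.Finite.fg_top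
    · rw [top_inf_eq, ← hfg, LinearMap.range_eq_map]; exact Module.Finite.fg_top.map f
  refine ⟨hfin₂, ?_⟩
  intro N hN
  have : Module.Finite R N := Module.Finite.iff_fg.mpr hN
  let l : N →ₗ[R] (N.map g) :=
    g.restrict (p := N) (q := N.map g) (fun x hx => Submodule.mem_map_of_mem hx)
  have hl : Function.Surjective l := by
    rintro ⟨y, x, hx, rfl⟩
    exact ⟨⟨x, hx⟩, rfl⟩
  have : Module.FinitePresentation R (N.map g) := hc₃ _ (hN.map g)
  have hker : (LinearMap.ker l).FG := Module.FinitePresentation.fg_ker l hl
  let N₁ : Submodule R M₁ := N.comap f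
  let e : N₁ →ₗ[R] LinearMap.ker l :=
    LinearMap.codRestrict (LinearMap.ker l) (f.restrict (p := N₁) (q := N) (fun x hx => hx)) (by
      intro x
      rw [LinearMap.mem_ker]
      apply Subtype.ext
      show g (f x) = 0
      have : f x ∈ LinearMap.ker g := hfg ▸ LinearMap.mem_range_self f x
      exact this)
  have he : Function.Bijective e := by
    constructor
    · intro x y hxy
      apply Subtype.ext
      apply hf
      have := congrArg (fun z : LinearMap.ker l => ((z : N) : M₂)) hxy
      exact this
    · rintro ⟨⟨y, hyN⟩, hy⟩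
      have hy' : g y = 0 := by
        have := congrArg Subtype.val (LinearMap.mem_ker.mp hy)
        exact this
      have : y ∈ LinearMap.range f := by rw [hfg]; exact hy'
      obtain ⟨x, rfl⟩ := this
      exact ⟨⟨x, hyN⟩, rfl⟩
  let E := LinearEquiv.ofBijective e he
  have : Module.Finite R (LinearMap.ker l) := Module.Finite.iff_fg.mpr hker
  have hN₁ : N₁.FG := by
    rw [← Module.Finite.iff_fg]
    exact Module.Finite.equiv E.symm
  have : Module.FinitePresentation R N₁ := hc₁ _ hN₁
  have : Module.FinitePresentation R (LinearMap.ker l) := Module.FinitePresentation.of_equiv E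
  exact Module.finitePresentation_of_ker l hl

end Groth.Agent.S6367
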