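import Groth.Statements.S6366
import Mathlib
import Groth.Agent.S6367

set_option autoImplicit false
universe u
open CAlg

namespace Groth.Agent.S6366

/-- Let R be a coherent ring, i.e. every finitely generated ideal of R is finitely presented. Then an
R-module is coherent (finitely generated, and every finitely generated submodule is finitely
presented) if and only if it is finitely presented. -/
theorem result (R : Type u) [CommRing R]
    (hR : ∀ I : Ideal R, I.FG → Module.FinitePresentation R I) (M : Type u) [AddCommGroup M] [Module R M] :
    (Module.Finite R M ∧ ∀ N : Submodule R M, N.FG → Module.FinitePresentation R N) ↔ Module.FinitePresentation R M := by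
  classical
  constructor
  · rintro ⟨hfin, hc⟩
    have : Module.FinitePresentation R (⊤ : Submodule R M) := hc ⊤ Module.Finite.fg_top
    exact Module.FinitePresentation.of_equiv (Submodule.topEquiv : (⊤ : Submodule R M) ≃ₗ[R] M)
  · intro hM
    -- Step 1: R is coherent as a module
    have cohR : (Module.Finite R R ∧ ∀ N : Submodule R R, N.FG → Module.FinitePresentation R N) :=
      ⟨inferInstance, fun N hN => hR N hN⟩
    -- Step 2: Rⁿ is coherent
    have cohRn : ∀ n : ℕ, (Module.Finite R (Fin n → R) ∧
        ∀ N : Submodule R (Fin n → R), N.FG → Module.FinitePresentation R N) := by
      intro n
      induction n with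
      | zero =>
        refine ⟨inferInstance, fun N _ => ?_⟩
        have : Subsingleton N := by
          constructor
          intro a b
          apply Subtype.ext
          exact Subsingleton.elim _ _
        infer_instance
      | succ n ih =>
        let f : R →ₗ[R] (Fin (n + 1) → R) := LinearMap.single R (fun _ => R) 0
        let g : (Fin (n + 1) → R) →ₗ[R] (Fin n → R) := LinearMap.funLeft R R Fin.succ
        have hf : Function.Injective f := by
          intro a b hab
          have := congrFun hab 0
          simpa [f] using this
        have hg : Function.Surjective g := by
          intro y
          refine ⟨Fin.cons 0 y, ?_⟩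
          funext i
          simp [g, LinearMap.funLeft_apply]
        have hfg : LinearMap.range f = LinearMap.ker g := by
          ext x
          rw [LinearMap.mem_range, LinearMap.mem_ker]
          constructor
          · rintro ⟨r, rfl⟩
            funext i
            simp [g, f, LinearMap.funLeft_apply, Fin.succ_ne_zero]
          · intro h
            refine ⟨x 0, ?_⟩
            funext i
            induction i using Fin.cases with
            | zero => simp [f]
            | succ j =>
              have := congrFun h j
              simp only [g, LinearMap.funLeft_apply, Pi.zero_apply] at this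
              simp [f, this, Fin.succ_ne_zero]
        exact Groth.Agent.S6367.result R f g hf hg hfg cohR ih
    -- Step 3: quotient
    obtain ⟨n, K, e, hK⟩ := Module.FinitePresentation.exists_fin R M
    let π : (Fin n → R) →ₗ[R] M := e.symm.toLinearMap ∘ₗ K.mkQ
    have hπ : Function.Surjective π := by
      rw [LinearMap.coe_comp]
      exact e.symm.surjective.comp K.mkQ_surjective
    have hkerπ : LinearMap.ker π = K := by
      simp [π, LinearMap.ker_comp]
    refine ⟨inferInstance, ?_⟩
    intro N hN
    let N' : Submodule R (Fin n → R) := N.comap π
    have hN' : N'.FG := by
      apply Submodule.fg_of_fg_map_of_fg_inf_ker π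
      · rw [Submodule.map_comap_eq_of_surjective hπ]; exact hN
      · rw [inf_eq_right.mpr (LinearMap.ker_le_comap π), hkerπ]; exact hK
    have : Module.FinitePresentation R N' := (cohRn n).2 N' hN'
    let l : N' →ₗ[R] N := π.restrict (p := N') (q := N) (fun x hx => hx)
    have hl : Function.Surjective l := by
      rintro ⟨y, hy⟩
      obtain ⟨x, rfl⟩ := hπ y
      exact ⟨⟨x, hy⟩, rfl⟩
    have hker : (LinearMap.ker l).FG := by
      apply Submodule.fg_of_fg_map_injective N'.subtype N'.subtype_injective
      have : (LinearMap.ker l).map N'.subtype = K := by
        rw [← hkerπ]
        ext x
        simp only [Submodule.mem_map, LinearMap.mem_ker, Submodule.subtype_apply]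
        constructor
        · rintro ⟨y, hy, rfl⟩
          exact congrArg Subtype.val hy
        · intro hx
          have hxN' : x ∈ N' := by
            show π x ∈ N
            rw [hx]; exact N.zero_mem
          exact ⟨⟨x, hxN'⟩, Subtype.ext hx, rfl⟩
      rw [this]; exact hK
    exact Module.finitePresentation_of_surjective l hl hker

end Groth.Agent.S6366
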