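import Groth.Statements.S6368
import Mathlib.Tactic
import Mathlib.RingTheory.Flat.FaithfullyFlat.Basic
import Mathlib.LinearAlgebra.TensorProduct.Tower

set_option autoImplicit false
universe u
open scoped TensorProduct
open CAlg

namespace Groth.Agent.S6368

/-- Let R → S be faithfully flat and M an R-module. If the S-module S ⊗_R M is countably generated then
M is countably generated. -/
theorem result (R S : Type u) [CommRing R] [CommRing S] [Algebra R S]
    [Module.FaithfullyFlat R S] (M : Type u) [AddCommGroup M] [Module R M]
    (h : CAlg.IsCountablyGenerated S (S ⊗[R] M)) : CAlg.IsCountablyGenerated R M := by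
  classical
  obtain ⟨s, hs, hspan⟩ := h
  have hrep : ∀ t : S ⊗[R] M, ∃ F : Finset (S × M), t = ∑ i ∈ F, i.1 ⊗ₜ[R] i.2 :=
    fun t => TensorProduct.exists_finset t
  choose F hF using hrep
  set T : Set M := ⋃ t ∈ s, ((F t).image Prod.snd : Set M) with hT
  have hTc : T.Countable := by
    apply Set.Countable.biUnion hs
    intro t _
    exact (Finset.finite_toSet _).countable
  refine ⟨T, hTc, ?_⟩
  set N : Submodule R M := Submodule.span R T with hN
  have hker : ∀ t ∈ s, (LinearMap.baseChange S N.mkQ) t = 0 := by
    intro t ht
    rw [hF t, map_sum]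
    apply Finset.sum_eq_zero
    intro i hi
    rw [LinearMap.baseChange_tmul]
    have : i.2 ∈ N := by
      apply Submodule.subset_span
      rw [hT]
      simp only [Set.mem_iUnion]
      exact ⟨t, ht, by simpa using ⟨i.1, hi⟩⟩
    rw [Submodule.mkQ_apply, (Submodule.Quotient.mk_eq_zero N).mpr this, TensorProduct.tmul_zero]
  have hzero : LinearMap.baseChange S N.mkQ = 0 := by
    have h1 : Submodule.span S s ≤ LinearMap.ker (LinearMap.baseChange S N.mkQ) := by
      apply Submodule.span_le.mpr
      intro t ht
      exact hker t ht
    rw [hspan, top_le_iff, LinearMap.ker_eq_top] at h1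
    exact h1
  have hsurj : Function.Surjective (LinearMap.baseChange S N.mkQ) :=
    LinearMap.lTensor_surjective S (Submodule.mkQ_surjective N)
  have hsub : Subsingleton (S ⊗[R] (M ⧸ N)) := by
    constructor
    intro a b
    obtain ⟨a', rfl⟩ := hsurj a
    obtain ⟨b', rfl⟩ := hsurj b
    rw [hzero]
    rfl
  have hsub' : Subsingleton (M ⧸ N) := Module.FaithfullyFlat.lTensor_reflects_triviality R S (M ⧸ N)
  exact Submodule.Quotient.subsingleton_iff.mp hsub'

end Groth.Agent.S6368
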