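import Groth.Statements.S6369
import Mathlib.Tactic
import Mathlib.RingTheory.DedekindDomain.Ideal.Lemmas
import Mathlib.RingTheory.DedekindDomain.Ideal.Basic

set_option autoImplicit false
universe u
open CAlg

namespace Groth.Agent.S6369

section
variable {D : Type u} [CommRing D] [IsDomain D]

/-- Integral formulation of invertibility of an ideal. -/
def Inv (I : Ideal D) : Prop := ∃ (J : Ideal D) (a : D), a ≠ 0 ∧ I * J = Ideal.span {a}

lemma Inv.of_mul_left {I I' : Ideal D} (h : Inv (I * I')) : Inv I := by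
  obtain ⟨J, a, ha, hJ⟩ := h
  exact ⟨I' * J, a, ha, by rw [← mul_assoc, hJ]⟩

lemma Inv.of_mul_right {I I' : Ideal D} (h : Inv (I * I')) : Inv I' := by
  rw [mul_comm] at h
  exact h.of_mul_left

lemma Inv.mul {I I' : Ideal D} (h : Inv I) (h' : Inv I') : Inv (I * I') := by
  obtain ⟨J, a, ha, hJ⟩ := h
  obtain ⟨J', a', ha', hJ'⟩ := h'
  refine ⟨J * J', a * a', mul_ne_zero ha ha', ?_⟩
  rw [mul_mul_mul_comm, hJ, hJ', Ideal.span_singleton_mul_span_singleton]

lemma Inv.span_singleton {a : D} (ha : a ≠ 0) : Inv (Ideal.span {a}) :=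
  ⟨⊤, a, ha, by rw [Ideal.mul_top]⟩

lemma Inv.top : Inv (⊤ : Ideal D) := by
  rw [← Ideal.span_singleton_one]
  exact Inv.span_singleton one_ne_zero

lemma Inv.mul_left_cancel {I A B : Ideal D} (h : Inv I) (hAB : I * A = I * B) : A = B := by
  obtain ⟨J, a, ha, hJ⟩ := h
  have : Ideal.span {a} * A = Ideal.span {a} * B := by
    rw [← hJ, mul_comm I J, mul_assoc, hAB, mul_assoc]
  exact (Ideal.span_singleton_mul_right_inj ha).mp this

lemma Inv.ne_bot {I : Ideal D} (h : Inv I) : I ≠ ⊥ := by
  obtain ⟨J, a, ha, hJ⟩ := h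
  rintro rfl
  rw [Ideal.bot_mul] at hJ
  exact ha (Ideal.span_singleton_eq_bot.mp hJ.symm)

lemma Inv.of_mem_of_prod {s : Multiset (Ideal D)} (h : Inv s.prod) {p : Ideal D} (hp : p ∈ s) :
    Inv p := by
  classical
  rw [← Multiset.cons_erase hp, Multiset.prod_cons] at h
  exact h.of_mul_left

lemma Inv.multiset_prod {s : Multiset (Ideal D)} (h : ∀ p ∈ s, Inv p) : Inv s.prod := by
  induction s using Multiset.induction_on with
  | empty =>
    rw [Multiset.prod_zero, Ideal.one_eq_top]
    exact Inv.top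
  | cons p s ih =>
    rw [Multiset.prod_cons]
    exact (h p (Multiset.mem_cons_self p s)).mul (ih fun q hq => h q (Multiset.mem_cons_of_mem hq))

/-- Uniqueness of factorization into invertible primes. -/
lemma unique_factorization_inv (s t : Multiset (Ideal D))
    (hs : ∀ p ∈ s, p.IsPrime ∧ Inv p) (ht : ∀ p ∈ t, p.IsPrime ∧ Inv p)
    (h : s.prod = t.prod) : s = t := by
  classical
  induction s using Multiset.strongInductionOn generalizing t with
  | ih s ih =>
    by_cases hs0 : s = 0
    · subst hs0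
      by_contra hne
      obtain ⟨q, hq⟩ := Multiset.exists_mem_of_ne_zero (Ne.symm hne)
      have h1 : t.prod ≤ q := (Ideal.multiset_prod_le_inf).trans (Multiset.inf_le hq)
      rw [← h, Multiset.prod_zero, Ideal.one_eq_top, top_le_iff] at h1
      exact (ht q hq).1.ne_top h1
    · -- choose a minimal element of s
      obtain ⟨P, hPs, hPmin⟩ : ∃ P ∈ s, ∀ P' ∈ s, P' ≤ P → P' = P := by
        have hne : s.toFinset.Nonempty := by
          obtain ⟨q, hq⟩ := Multiset.exists_mem_of_ne_zero hs0
          exact ⟨q, Multiset.mem_toFinset.mpr hq⟩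
        obtain ⟨P, hP, hmin⟩ := s.toFinset.exists_minimal hne
        refine ⟨P, Multiset.mem_toFinset.mp hP, ?_⟩
        intro P' hP' hle
        exact le_antisymm hle (hmin (Multiset.mem_toFinset.mpr hP') hle)
      have hPprime := (hs P hPs).1
      have h1 : t.prod ≤ P := by
        rw [← h]
        exact (Ideal.multiset_prod_le_inf).trans (Multiset.inf_le hPs)
      obtain ⟨Q, hQt, hQP⟩ := (hPprime.multiset_prod_le).mp h1
      have hQprime := (ht Q hQt).1
      have h2 : s.prod ≤ Q := by
        rw [h]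
        exact (Ideal.multiset_prod_le_inf).trans (Multiset.inf_le hQt)
      obtain ⟨P', hP's, hP'Q⟩ := (hQprime.multiset_prod_le).mp h2
      have hP'P : P' = P := hPmin P' hP's (hP'Q.trans hQP)
      have hQeq : Q = P := le_antisymm hQP (hP'P ▸ hP'Q)
      subst hQeq
      have hs' : s = Q ::ₘ s.erase Q := (Multiset.cons_erase hPs).symm
      have ht' : t = Q ::ₘ t.erase Q := (Multiset.cons_erase hQt).symm
      have h3 : (s.erase Q).prod = (t.erase Q).prod := by
        apply (hs Q hPs).2.mul_left_cancel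
        rw [← Multiset.prod_cons, ← Multiset.prod_cons, ← hs', ← ht', h]
      have := ih (s.erase Q) (Multiset.erase_lt.mpr hPs) (t.erase Q)
        (fun p hp => hs p (Multiset.mem_of_mem_erase hp))
        (fun p hp => ht p (Multiset.mem_of_mem_erase hp)) h3
      rw [hs', ht', this]

end

section
variable {R : Type u} [CommRing R] [IsDomain R]

lemma isMaximal_of_inv_prime
    (hfac : ∀ I : Ideal R, I ≠ ⊥ →
      ∃ s : Multiset (Ideal R), (∀ p ∈ s, p.IsPrime ∧ p ≠ ⊥) ∧ s.prod = I)
    (P : Ideal R) [hP : P.IsPrime] (hinv : Inv P) : P.IsMaximal := by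
  classical
  rw [Ideal.isMaximal_iff]
  refine ⟨(Ideal.ne_top_iff_one P).mp hP.ne_top, ?_⟩
  intro J a hPJ haP haJ
  suffices hA : P ⊔ Ideal.span {a} = ⊤ by
    have : P ⊔ Ideal.span {a} ≤ J := sup_le hPJ ((Ideal.span_singleton_le_iff_mem _).mpr haJ)
    rw [hA, top_le_iff] at this
    exact (Ideal.eq_top_iff_one J).mp this
  set A := P ⊔ Ideal.span {a} with hA
  set B := P ⊔ Ideal.span {a ^ 2} with hB
  have hP0 : P ≠ ⊥ := hinv.ne_bot
  have hA0 : A ≠ ⊥ := ne_bot_of_le_ne_bot hP0 le_sup_left
  have hB0 : B ≠ ⊥ := ne_bot_of_le_ne_bot hP0 le_sup_left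
  obtain ⟨s, hs, hsA⟩ := hfac A hA0
  obtain ⟨t, ht, htB⟩ := hfac B hB0
  let π : R →+* (R ⧸ P) := Ideal.Quotient.mk P
  have hπ : Function.Surjective π := Ideal.Quotient.mk_surjective
  have hker : RingHom.ker π = P := Ideal.mk_ker
  have ha0 : π a ≠ 0 := by rwa [Ne, Ideal.Quotient.eq_zero_iff_mem]
  have hmapP : P.map π = ⊥ := Ideal.map_quotient_self P
  have hAmap : A.map π = Ideal.span {π a} := by
    rw [hA, Ideal.map_sup, hmapP, bot_sup_eq, Ideal.map_span, Set.image_singleton]
  have hBmap : B.map π = Ideal.span {π a} * Ideal.span {π a} := by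
    rw [hB, Ideal.map_sup, hmapP, bot_sup_eq, Ideal.map_span, Set.image_singleton, map_pow,
      Ideal.span_singleton_mul_span_singleton, sq]
  have hsP : ∀ p ∈ s, P ≤ p := by
    intro p hp
    have h1 : s.prod ≤ p := Ideal.multiset_prod_le_inf.trans (Multiset.inf_le hp)
    rw [hsA] at h1
    exact (le_sup_left : P ≤ A).trans h1
  have htP : ∀ p ∈ t, P ≤ p := by
    intro p hp
    have h1 : t.prod ≤ p := Ideal.multiset_prod_le_inf.trans (Multiset.inf_le hp)
    rw [htB] at h1
    exact (le_sup_left : P ≤ B).trans h1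
  have hsmap : (s.map (Ideal.map π)).prod = Ideal.span {π a} := by
    rw [← hAmap, ← hsA]
    exact (map_multiset_prod (Ideal.mapHom π) s).symm
  have htmap : (t.map (Ideal.map π)).prod = Ideal.span {π a} * Ideal.span {π a} := by
    rw [← hBmap, ← htB]
    exact (map_multiset_prod (Ideal.mapHom π) t).symm
  have hinv1 : Inv (Ideal.span {π a}) := Inv.span_singleton ha0
  have hs' : ∀ q ∈ s.map (Ideal.map π), q.IsPrime ∧ Inv q := by
    intro q hq
    obtain ⟨p, hp, rfl⟩ := Multiset.mem_map.mp hq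
    haveI := (hs p hp).1
    refine ⟨Ideal.map_isPrime_of_surjective hπ (hker.le.trans (hsP p hp)), ?_⟩
    exact Inv.of_mem_of_prod (hsmap ▸ hinv1) hq
  have ht' : ∀ q ∈ t.map (Ideal.map π), q.IsPrime ∧ Inv q := by
    intro q hq
    obtain ⟨p, hp, rfl⟩ := Multiset.mem_map.mp hq
    haveI := (ht p hp).1
    refine ⟨Ideal.map_isPrime_of_surjective hπ (hker.le.trans (htP p hp)), ?_⟩
    exact Inv.of_mem_of_prod (htmap ▸ hinv1.mul hinv1) hq
  have key : t.map (Ideal.map π) = (s + s).map (Ideal.map π) := by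
    apply unique_factorization_inv _ _ ht'
    · intro q hq
      rw [Multiset.map_add, Multiset.mem_add] at hq
      rcases hq with hq | hq <;> exact hs' q hq
    · rw [htmap, Multiset.map_add, Multiset.prod_add, hsmap]
  have hcm : ∀ p : Ideal R, P ≤ p → Ideal.comap π (Ideal.map π p) = p := by
    intro p hp
    rw [Ideal.comap_map_of_surjective π hπ, ← RingHom.ker_eq_comap_bot, hker, sup_eq_left.mpr hp]
  have hts : t = s + s := by
    have h1 := congrArg (Multiset.map (Ideal.comap π)) key
    rw [Multiset.map_map, Multiset.map_map] at h1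
    have e1 : t.map (Ideal.comap π ∘ Ideal.map π) = t := by
      conv_rhs => rw [← Multiset.map_id t]
      apply Multiset.map_congr rfl
      intro p hp
      exact hcm p (htP p hp)
    have e2 : (s + s).map (Ideal.comap π ∘ Ideal.map π) = s + s := by
      conv_rhs => rw [← Multiset.map_id (s + s)]
      apply Multiset.map_congr rfl
      intro p hp
      rw [Multiset.mem_add] at hp
      exact hcm p (hsP p (hp.elim id id))
    rw [e1, e2] at h1
    exact h1
  have hBA : B = A * A := by rw [← htB, hts, Multiset.prod_add, hsA]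
  have hPA : P ≤ P * A := by
    intro x hx
    have hxB : x ∈ A * A := hBA ▸ (le_sup_left : P ≤ B) hx
    have hAA : A * A = P * A ⊔ Ideal.span {a} * A := by
      conv_lhs => rw [hA, Ideal.sup_mul]
    rw [hAA, Submodule.mem_sup] at hxB
    obtain ⟨y, hy, z, hz, rfl⟩ := hxB
    obtain ⟨w, hw, rfl⟩ := Ideal.mem_span_singleton_mul.mp hz
    have hyP : y ∈ P := (Ideal.mul_le_left : P * A ≤ P) hy
    have hawP : a * w ∈ P := by
      have := P.sub_mem hx hyP
      simpa using this
    have hwP : w ∈ P := (hP.mem_or_mem hawP).resolve_left haP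
    refine (P * A).add_mem hy ?_
    rw [mul_comm a w]
    exact Ideal.mul_mem_mul hwP (Ideal.mem_sup_right (Ideal.mem_span_singleton_self a))
  have hPA' : P * A = P * ⊤ := by
    rw [Ideal.mul_top]
    exact le_antisymm Ideal.mul_le_left hPA
  exact hinv.mul_left_cancel hPA'

end

section
variable {R : Type u} [CommRing R] [IsDomain R]

lemma inv_of_prime
    (hfac : ∀ I : Ideal R, I ≠ ⊥ →
      ∃ s : Multiset (Ideal R), (∀ p ∈ s, p.IsPrime ∧ p ≠ ⊥) ∧ s.prod = I)
    (P : Ideal R) [hP : P.IsPrime] (hP0 : P ≠ ⊥) : Inv P := by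
  obtain ⟨c, hcP, hc0⟩ := Submodule.exists_mem_ne_zero_of_ne_bot hP0
  have hspan : Ideal.span {c} ≠ ⊥ := by
    rwa [Ne, Ideal.span_singleton_eq_bot]
  obtain ⟨s, hs, hsc⟩ := hfac _ hspan
  have hle : s.prod ≤ P := by
    rw [hsc]
    exact (Ideal.span_singleton_le_iff_mem _).mpr hcP
  obtain ⟨p, hp, hpP⟩ := (hP.multiset_prod_le).mp hle
  haveI := (hs p hp).1
  have hpinv : Inv p := Inv.of_mem_of_prod (hsc ▸ Inv.span_singleton hc0) hp
  have hpmax : p.IsMaximal := isMaximal_of_inv_prime hfac p hpinv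
  have : p = P := hpmax.eq_of_le hP.ne_top hpP
  exact this ▸ hpinv

lemma inv_of_ne_bot
    (hfac : ∀ I : Ideal R, I ≠ ⊥ →
      ∃ s : Multiset (Ideal R), (∀ p ∈ s, p.IsPrime ∧ p ≠ ⊥) ∧ s.prod = I)
    (I : Ideal R) (hI : I ≠ ⊥) : Inv I := by
  obtain ⟨s, hs, rfl⟩ := hfac I hI
  apply Inv.multiset_prod
  intro p hp
  haveI := (hs p hp).1
  exact inv_of_prime hfac p (hs p hp).2

open FractionalIdeal in
lemma isUnit_coeIdeal_of_inv {I : Ideal R} (h : Inv I) :
    IsUnit (I : FractionalIdeal (nonZeroDivisors R) (FractionRing R)) := by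
  obtain ⟨J, a, ha, hJ⟩ := h
  have h1 : (I : FractionalIdeal (nonZeroDivisors R) (FractionRing R)) *
      (J : FractionalIdeal (nonZeroDivisors R) (FractionRing R)) =
      spanSingleton _ (algebraMap R (FractionRing R) a) := by
    rw [← coeIdeal_mul, hJ, coeIdeal_span_singleton]
  have ha' : algebraMap R (FractionRing R) a ≠ 0 := by
    rwa [Ne, IsFractionRing.to_map_eq_zero_iff]
  have h2 : (I : FractionalIdeal (nonZeroDivisors R) (FractionRing R)) *
      ((J : FractionalIdeal (nonZeroDivisors R) (FractionRing R)) *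
        spanSingleton _ (algebraMap R (FractionRing R) a)⁻¹) = 1 := by
    rw [← mul_assoc, h1, spanSingleton_mul_spanSingleton, mul_inv_cancel₀ ha', spanSingleton_one]
  exact IsUnit.of_mul_eq_one _ h2

end

/-- (1) ⇒ (3): let R be a domain such that every nonzero ideal is a product of nonzero prime ideals,
uniquely up to permutation of the factors. Then R is Noetherian, integrally closed and of dimension
at most one, i.e. a Dedekind domain in the Noetherian sense. (The converse and the description by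
discrete valuation rings at maximal ideals are the standard equivalences.) -/
theorem result (R : Type u) [CommRing R] [IsDomain R]
    (h : ∀ I : Ideal R, I ≠ ⊥ → ∃! s : Multiset (Ideal R), (∀ p ∈ s, p.IsPrime ∧ p ≠ ⊥) ∧ s.prod = I) :
    IsDedekindDomain R := by
  have hfac : ∀ I : Ideal R, I ≠ ⊥ →
      ∃ s : Multiset (Ideal R), (∀ p ∈ s, p.IsPrime ∧ p ≠ ⊥) ∧ s.prod = I := fun I hI =>
    (h I hI).exists
  rw [isDedekindDomain_iff_mul_inv_cancel (K := FractionRing R)]
  intro I hI
  rw [FractionalIdeal.mul_inv_cancel_iff_isUnit]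
  obtain ⟨a, aI, ha, hIeq⟩ := FractionalIdeal.exists_eq_spanSingleton_mul I
  have haI : aI ≠ ⊥ := by
    rintro rfl
    apply hI
    rw [hIeq]
    simp
  have h1 : IsUnit (aI : FractionalIdeal (nonZeroDivisors R) (FractionRing R)) :=
    isUnit_coeIdeal_of_inv (inv_of_ne_bot hfac aI haI)
  have ha' : algebraMap R (FractionRing R) a ≠ 0 := by
    rwa [Ne, IsFractionRing.to_map_eq_zero_iff]
  have h2 : IsUnit (FractionalIdeal.spanSingleton (nonZeroDivisors R)
      (algebraMap R (FractionRing R) a)⁻¹) := by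
    apply IsUnit.of_mul_eq_one (FractionalIdeal.spanSingleton (nonZeroDivisors R)
      (algebraMap R (FractionRing R) a))
    rw [FractionalIdeal.spanSingleton_mul_spanSingleton, inv_mul_cancel₀ ha',
      FractionalIdeal.spanSingleton_one]
  rw [hIeq]
  exact h2.mul h1

end Groth.Agent.S6369
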