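import Groth.Statements.S6371
import Groth.Agent.Lib.helper10.Epi

set_option autoImplicit false
universe u
open CAlg

namespace Groth.Agent.S6371

/-- A ring map R → S is an epimorphism of rings if and only if for every prime p of R the localized map
R_p → S_p is an epimorphism, where S_p is S localized at the image of R ∖ p. -/
theorem result (R S : Type u) [CommRing R] [CommRing S] [Algebra R S] :
    Algebra.IsEpi R S ↔ ∀ (p : Ideal R) [p.IsPrime],
      Algebra.IsEpi (Localization.AtPrime p) (Localization (Algebra.algebraMapSubmonoid S p.primeCompl)) := by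
  constructor
  · intro hepi p hp
    apply Groth.Agent.Lib.helper10.isEpi_of_ringHom_ext
    intro T _ f g hfg
    let Sₚ := Localization (Algebra.algebraMapSubmonoid S p.primeCompl)
    have h1 : (f.comp (algebraMap S Sₚ)).comp (algebraMap R S) =
        (g.comp (algebraMap S Sₚ)).comp (algebraMap R S) := by
      have e : (algebraMap S Sₚ).comp (algebraMap R S) =
          (algebraMap (Localization.AtPrime p) Sₚ).comp (algebraMap R (Localization.AtPrime p)) := by
        ext r
        simp only [RingHom.comp_apply]
        rw [← IsScalarTower.algebraMap_apply R S Sₚ,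
          ← IsScalarTower.algebraMap_apply R (Localization.AtPrime p) Sₚ]
      rw [RingHom.comp_assoc, RingHom.comp_assoc, e, ← RingHom.comp_assoc, ← RingHom.comp_assoc, hfg]
    have h2 := Groth.Agent.Lib.helper10.ringHom_ext_of_isEpi (R := R) _ _ h1
    exact IsLocalization.ringHom_ext (Algebra.algebraMapSubmonoid S p.primeCompl) h2
  · intro hloc
    apply Groth.Agent.Lib.helper10.isEpi_of_ringHom_ext
    intro T _ f g hfg
    ext s
    by_contra hne
    letI : Algebra R T := (f.comp (algebraMap R S)).toAlgebra
    let d : T := f s - g s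
    let I : Ideal R := LinearMap.ker (LinearMap.toSpanSingleton R T d)
    have hI : I ≠ ⊤ := by
      intro h
      have : (1 : R) ∈ I := h ▸ Submodule.mem_top
      have h1 : (1 : R) • d = 0 := by simpa [I] using this
      rw [one_smul] at h1
      exact hne (sub_eq_zero.mp h1)
    obtain ⟨p, hpmax, hIp⟩ := Ideal.exists_le_maximal I hI
    haveI : p.IsPrime := hpmax.isPrime
    let Sₚ := Localization (Algebra.algebraMapSubmonoid S p.primeCompl)
    let Tₚ := Localization (Algebra.algebraMapSubmonoid T p.primeCompl)
    have hf : Algebra.algebraMapSubmonoid S p.primeCompl ≤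
        (Algebra.algebraMapSubmonoid T p.primeCompl).comap f := by
      rintro _ ⟨r, hr, rfl⟩
      exact ⟨r, hr, rfl⟩
    have hg : Algebra.algebraMapSubmonoid S p.primeCompl ≤
        (Algebra.algebraMapSubmonoid T p.primeCompl).comap g := by
      rintro _ ⟨r, hr, rfl⟩
      exact ⟨r, hr, RingHom.congr_fun hfg r⟩
    let fₚ : Sₚ →+* Tₚ := IsLocalization.map Tₚ f hf
    let gₚ : Sₚ →+* Tₚ := IsLocalization.map Tₚ g hg
    have hfgₚ : fₚ.comp (algebraMap (Localization.AtPrime p) Sₚ) =
        gₚ.comp (algebraMap (Localization.AtPrime p) Sₚ) := by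
      apply IsLocalization.ringHom_ext p.primeCompl
      ext r
      simp only [RingHom.comp_apply]
      rw [← IsScalarTower.algebraMap_apply R (Localization.AtPrime p) Sₚ,
        IsScalarTower.algebraMap_apply R S Sₚ]
      simp only [fₚ, gₚ, IsLocalization.map_eq]
      exact congrArg _ (RingHom.congr_fun hfg r)
    haveI := hloc p
    have h3 := Groth.Agent.Lib.helper10.ringHom_ext_of_isEpi (R := Localization.AtPrime p) fₚ gₚ hfgₚ
    have h4 := RingHom.congr_fun h3 (algebraMap S Sₚ s)
    simp only [fₚ, gₚ, IsLocalization.map_eq] at h4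
    obtain ⟨⟨c, hc⟩, hc'⟩ := (IsLocalization.eq_iff_exists
      (Algebra.algebraMapSubmonoid T p.primeCompl) Tₚ).1 h4
    obtain ⟨r, hr, rfl⟩ := hc
    apply hr
    apply hIp
    change LinearMap.toSpanSingleton R T d r = 0
    simp only [LinearMap.toSpanSingleton_apply, d, Algebra.smul_def, mul_sub]
    exact sub_eq_zero.mpr hc'

end Groth.Agent.S6371
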