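import Groth.Statements.S6372
import Mathlib.RingTheory.Flat.FaithfullyFlat.Basic
import Mathlib.Algebra.Algebra.Epi

set_option autoImplicit false
universe u
open CAlg

namespace Groth.Agent.S6372

open TensorProduct in
/-- Auxiliary: faithfully flat epimorphism is bijective. -/
theorem bijective_of_faithfullyFlat_of_isEpi (R S : Type u) [CommRing R] [CommRing S] [Algebra R S]
    [Module.FaithfullyFlat R S] [Algebra.IsEpi R S] : Function.Bijective (algebraMap R S) := by
  have key : Function.Bijective ((Algebra.linearMap R S).lTensor S) := by
    -- multiplication map
    let μ : S ⊗[R] S →ₗ[R] S := TensorProduct.lift (LinearMap.mul R S)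
    have hμinj : Function.Injective μ := Algebra.IsEpi.injective_lift_mul
    -- the composite S ⊗ R → S ⊗ S → S is the iso `rid`
    have hcomp : μ ∘ₗ ((Algebra.linearMap R S).lTensor S) = (TensorProduct.rid R S).toLinearMap := by
      ext s
      simp [μ]
    have hbij : Function.Bijective (μ ∘ ((Algebra.linearMap R S).lTensor S)) := by
      have : (μ ∘ ((Algebra.linearMap R S).lTensor S)) = ⇑(TensorProduct.rid R S) := by
        funext x
        exact congrArg (fun f => f x) hcomp
      rw [this]
      exact (TensorProduct.rid R S).bijective
    refine ⟨hbij.1.of_comp, ?_⟩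
    -- surjectivity: μ injective and μ ∘ g surjective
    intro y
    obtain ⟨x, hx⟩ := hbij.2 (μ y)
    exact ⟨x, hμinj hx⟩
  have := (Module.FaithfullyFlat.lTensor_bijective_iff_bijective R S (Algebra.linearMap R S)).mp key
  exact this

/-- A faithfully flat epimorphism of rings is an isomorphism: if R → S is faithfully flat and an
epimorphism in the category of rings then it is bijective. -/
theorem result (R S : Type u) [CommRing R] [CommRing S] [Algebra R S]
    [Module.FaithfullyFlat R S] [Algebra.IsEpi R S] : Function.Bijective (algebraMap R S) := by
  exact bijective_of_faithfullyFlat_of_isEpi R S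

end Groth.Agent.S6372
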