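import Groth.Statements.S6374
import Mathlib.Tactic
import Mathlib.Algebra.Algebra.Epi
import Mathlib.RingTheory.LocalRing.ResidueField.Fiber
import Mathlib.LinearAlgebra.Dual.Lemmas

set_option autoImplicit false
universe u
open CAlg

namespace Groth.Agent.S6374

open TensorProduct in
theorem ringHom_ext_of_isEpi {R S T : Type u} [CommRing R] [CommRing S] [CommRing T] [Algebra R S]
    [Algebra.IsEpi R S] (f g : S →+* T)
    (h : f.comp (algebraMap R S) = g.comp (algebraMap R S)) : f = g := by
  letI : Algebra R T := (g.comp (algebraMap R S)).toAlgebra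
  let f' : S →ₐ[R] T := ⟨f, fun r => RingHom.congr_fun h r⟩
  let g' : S →ₐ[R] T := ⟨g, fun _ => rfl⟩
  ext s
  have H := (Algebra.isEpi_iff_forall_one_tmul_eq R S).mp inferInstance s
  have := congrArg (Algebra.TensorProduct.lift f' g' (fun _ _ => .all _ _)) H
  simp only [Algebra.TensorProduct.lift_tmul, map_one, one_mul, mul_one] at this
  exact this.symm

open TensorProduct in
theorem isEpi_baseChange (R S K : Type u) [CommRing R] [CommRing S] [CommRing K] [Algebra R S]
    [Algebra R K] [Algebra.IsEpi R S] : Algebra.IsEpi K (K ⊗[R] S) := by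
  rw [Algebra.isEpi_iff_forall_one_tmul_eq]
  let ι : S →+* K ⊗[R] S := (Algebra.TensorProduct.includeRight (R := R) (A := K) (B := S)).toRingHom
  let φ₁ : K ⊗[R] S →+* (K ⊗[R] S) ⊗[K] (K ⊗[R] S) := Algebra.TensorProduct.includeLeftRingHom
  let φ₂ : K ⊗[R] S →+* (K ⊗[R] S) ⊗[K] (K ⊗[R] S) :=
    (Algebra.TensorProduct.includeRight (R := K) (A := K ⊗[R] S) (B := K ⊗[R] S)).toRingHom
  have key : φ₁.comp ι = φ₂.comp ι := by
    apply ringHom_ext_of_isEpi (R := R)
    ext r
    simp only [RingHom.comp_apply, ι, φ₁, φ₂, AlgHom.toRingHom_eq_coe, RingHom.coe_coe,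
      Algebra.TensorProduct.includeRight_apply, Algebra.TensorProduct.includeLeftRingHom_apply]
    have h1 : ((1 : K) ⊗ₜ[R] (algebraMap R S r) : K ⊗[R] S) =
        algebraMap R K r • ((1 : K) ⊗ₜ[R] (1 : S)) := by
      rw [TensorProduct.smul_tmul', smul_eq_mul, mul_one, Algebra.algebraMap_eq_smul_one r,
        Algebra.algebraMap_eq_smul_one r, TensorProduct.tmul_smul, TensorProduct.smul_tmul']
    rw [h1, TensorProduct.smul_tmul]
    simp only [Algebra.TensorProduct.one_def]
  intro x
  induction x using TensorProduct.induction_on with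
  | zero => simp
  | tmul c s =>
    have h2 : (c ⊗ₜ[R] s : K ⊗[R] S) = c • ι s := by
      simp [ι, TensorProduct.smul_tmul']
    rw [h2, TensorProduct.tmul_smul, ← TensorProduct.smul_tmul']
    congr 1
    exact (RingHom.congr_fun key s).symm
  | add x y hx hy => rw [TensorProduct.tmul_add, TensorProduct.add_tmul, hx, hy]

open TensorProduct in
theorem field_epi (k A : Type u) [Field k] [CommRing A] [Algebra k A] [Algebra.IsEpi k A] :
    Subsingleton A ∨ Function.Bijective (algebraMap k A) := by
  rcases subsingleton_or_nontrivial A with h | h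
  · exact Or.inl h
  · right
    refine ⟨(algebraMap k A).injective, ?_⟩
    intro a
    by_cases h1 : (1 : A) ∈ Submodule.span k {a}
    · obtain ⟨c, hc⟩ := Submodule.mem_span_singleton.mp h1
      have hc0 : c ≠ 0 := by
        rintro rfl
        rw [zero_smul] at hc
        exact zero_ne_one hc
      refine ⟨c⁻¹, ?_⟩
      rw [Algebra.algebraMap_eq_smul_one, ← hc, smul_smul, inv_mul_cancel₀ hc0, one_smul]
    · obtain ⟨φ, hφ1, hφ⟩ := Submodule.exists_dual_map_eq_bot_of_notMem h1 inferInstance
      have hφa : φ a = 0 := by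
        have : φ a ∈ (Submodule.span k {a}).map φ :=
          Submodule.mem_map_of_mem (Submodule.mem_span_singleton_self a)
        rw [hφ] at this
        exact (Submodule.mem_bot k).mp this
      have H := (Algebra.isEpi_iff_forall_one_tmul_eq k A).mp inferInstance a
      have H2 := congrArg ((TensorProduct.lid k A).toLinearMap ∘ₗ (φ.rTensor A)) H
      simp only [LinearMap.comp_apply, LinearMap.rTensor_tmul, LinearEquiv.coe_coe,
        TensorProduct.lid_tmul, hφa, zero_smul] at H2
      have ha : a = 0 := by
        rcases smul_eq_zero.mp H2 with h3 | h3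
        · exact absurd h3 hφ1
        · exact h3
      exact ⟨0, by rw [ha, map_zero]⟩


/-- For an epimorphism of rings R → S, the induced map Spec S → Spec R is injective and induces trivial
residue field extensions; stated in the form the proof gives: for every prime p of R the fibre ring
S ⊗_R κ(p) is either zero or κ(p) → S ⊗_R κ(p) is bijective, together with injectivity of Spec S →
Spec R. -/
theorem result (R S : Type u) [CommRing R] [CommRing S] [Algebra R S]
    [Algebra.IsEpi R S] :
    Function.Injective (PrimeSpectrum.comap (algebraMap R S)) ∧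
      ∀ (p : Ideal R) [p.IsPrime],
        Subsingleton (p.Fiber S) ∨ Function.Bijective (algebraMap p.ResidueField (p.Fiber S)) := by
  have hfib : ∀ (p : Ideal R) [p.IsPrime],
      Subsingleton (p.Fiber S) ∨ Function.Bijective (algebraMap p.ResidueField (p.Fiber S)) := by
    intro p _
    haveI : Algebra.IsEpi p.ResidueField (p.Fiber S) := isEpi_baseChange R S p.ResidueField
    exact field_epi _ _
  refine ⟨?_, fun p _ => hfib p⟩
  intro q₁ q₂ h
  set p := PrimeSpectrum.comap (algebraMap R S) q₁ with hp
  have hsub : Subsingleton (PrimeSpectrum (p.asIdeal.Fiber S)) := by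
    rcases hfib p.asIdeal with h1 | h1
    · exact ⟨fun a => (IsEmpty.false a).elim⟩
    · let e : p.asIdeal.ResidueField ≃+* p.asIdeal.Fiber S := RingEquiv.ofBijective _ h1
      exact (PrimeSpectrum.comapEquiv e).symm.injective.subsingleton
  have h1 : q₁ ∈ PrimeSpectrum.comap (algebraMap R S) ⁻¹' {p} := rfl
  have h2 : q₂ ∈ PrimeSpectrum.comap (algebraMap R S) ⁻¹' {p} := h.symm
  have := (PrimeSpectrum.preimageEquivFiber R S p).injective
    (Subsingleton.elim ((PrimeSpectrum.preimageEquivFiber R S p) ⟨q₁, h1⟩)
      ((PrimeSpectrum.preimageEquivFiber R S p) ⟨q₂, h2⟩))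
  exact congrArg Subtype.val this

end Groth.Agent.S6374
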