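import Groth.Statements.S6375
import Mathlib.RingTheory.TensorProduct.DirectLimitFG
import Mathlib.LinearAlgebra.TensorProduct.Vanishing
import Mathlib.SetTheory.Cardinal.Arithmetic

set_option autoImplicit false
universe u
open CAlg

namespace Groth.Agent.S6375

open TensorProduct Cardinal

section aux
variable {R S : Type u} [CommRing R] [CommRing S] [Algebra R S]

/-- zigzag relation -/
def Rel (k k' : ℕ) (a : (Fin 2 ⊕ Fin k) → Fin k' → R) (s : S) : Prop :=
  ∃ (m : (Fin 2 ⊕ Fin k) → S) (y : Fin k' → S),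
    m (Sum.inl 0) = s ∧ m (Sum.inl 1) = 1 ∧ (∀ j, ∑ i, a i j • m i = 0) ∧
    (∑ j, a (Sum.inl 0) j • y j = 1) ∧ (∑ j, a (Sum.inl 1) j • y j = -s) ∧
    ∀ i, ∑ j, a (Sum.inr i) j • y j = 0

lemma rel_unique {k k' : ℕ} {a : (Fin 2 ⊕ Fin k) → Fin k' → R} {s s' : S}
    (h : Rel k k' a s) (h' : Rel k k' a s') : s = s' := by
  obtain ⟨m, y, hm0, hm1, hm, -, -, -⟩ := h
  obtain ⟨m', y', -, -, -, hy0, hy1, hy⟩ := h'
  have e1 : ∑ i, ∑ j, a i j • (m i * y' j) = 0 := by
    rw [Finset.sum_comm]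
    have : ∀ j, ∑ i, a i j • (m i * y' j) = (∑ i, a i j • m i) * y' j := by
      intro j
      rw [Finset.sum_mul]
      simp
    simp [this, hm]
  have e2 : ∑ i, ∑ j, a i j • (m i * y' j) = s - s' := by
    have : ∀ i, ∑ j, a i j • (m i * y' j) = m i * ∑ j, a i j • y' j := by
      intro i
      rw [Finset.mul_sum]
      simp
    simp only [this, Fintype.sum_sum_type, Fin.sum_univ_two, hy0, hy1, hy, hm0, hm1]
    simp
    ring
  rw [e1] at e2
  exact (sub_eq_zero.mp e2.symm)

lemma exists_rel [Algebra.IsEpi R S] (s : S) :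
    ∃ (k k' : ℕ) (a : (Fin 2 ⊕ Fin k) → Fin k' → R), Rel k k' a s := by
  classical
  let P : Submodule R S := Submodule.span R {s, 1}
  have hP : P.FG := Submodule.fg_span (by simp)
  have hs : s ∈ P := Submodule.subset_span (by simp)
  have h1 : (1 : S) ∈ P := Submodule.subset_span (by simp)
  let t : P ⊗[R] S := (⟨s, hs⟩ : P) ⊗ₜ[R] (1 : S) - (⟨1, h1⟩ : P) ⊗ₜ[R] s
  have ht : LinearMap.rTensor S P.subtype t = 0 := by
    simp [t, (Algebra.isEpi_iff_forall_one_tmul_eq R S).1 inferInstance s]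
  obtain ⟨Q, hPQ, hQ, hQt⟩ := TensorProduct.eq_zero_of_fg_of_subtype_eq_zero hP ht
  obtain ⟨k, q, hq⟩ := Submodule.fg_iff_exists_fin_generating_family.1 hQ
  have hqQ : ∀ i, q i ∈ Q := fun i => hq ▸ Submodule.subset_span ⟨i, rfl⟩
  let mm : (Fin 2 ⊕ Fin k) → Q := Sum.elim ![⟨s, hPQ hs⟩, ⟨1, hPQ h1⟩] (fun i => ⟨q i, hqQ i⟩)
  let nn : (Fin 2 ⊕ Fin k) → S := Sum.elim ![1, -s] 0
  have hspan : Submodule.span R (Set.range mm) = ⊤ := by
    apply Submodule.map_injective_of_injective (Submodule.injective_subtype Q)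
    rw [Submodule.map_span, Submodule.map_top, Submodule.range_subtype]
    apply le_antisymm
    · rw [Submodule.span_le]
      rintro _ ⟨x, -, rfl⟩
      exact x.2
    · refine (le_of_eq hq.symm).trans ?_
      apply Submodule.span_mono
      rintro _ ⟨i, rfl⟩
      exact ⟨mm (Sum.inr i), ⟨_, rfl⟩, rfl⟩
  have hsum : ∑ i, mm i ⊗ₜ[R] nn i = 0 := by
    rw [← hQt]
    simp [Fintype.sum_sum_type, Fin.sum_univ_two, mm, nn, t, tmul_neg, sub_eq_add_neg]
    rfl
  obtain ⟨k', a, y, hy, ha⟩ := TensorProduct.vanishesTrivially_of_sum_tmul_eq_zero R hspan hsum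
  refine ⟨k, k', a, fun i => (mm i : S), y, rfl, rfl, ?_, ?_, ?_, ?_⟩
  · intro j
    have := congrArg Q.subtype (ha j)
    simpa using this
  · exact (hy (Sum.inl 0)).symm
  · exact (hy (Sum.inl 1)).symm
  · intro i
    exact (hy (Sum.inr i)).symm

lemma card_fun_le (α : Type) [Finite α] (β : Type u) [Infinite β] : #(α → β) ≤ #β := by
  obtain ⟨n, ⟨e⟩⟩ := Finite.exists_equiv_fin α
  rw [Cardinal.mk_congr (e.arrowCongr (Equiv.refl β)), Cardinal.mk_arrow]
  simp only [lift_uzero, mk_fintype, Fintype.card_fin, lift_natCast]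
  exact Cardinal.power_nat_le (Cardinal.aleph0_le_mk β)

end aux

/-- For an infinite source ring: if R → S is an epimorphism of rings with R infinite, then |S| ≤ |R| as
cardinals. (For finite R the published statement also asserts |S| ≤ |R|, but its proof only gives
that S is countable and omits the rest, so that case is not included.) -/
theorem result (R S : Type u) [CommRing R] [CommRing S] [Algebra R S] [Algebra.IsEpi R S]
    [Infinite R] : Cardinal.mk S ≤ Cardinal.mk R := by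
  classical
  let f : ℕ × ℕ → Set S := fun c => {s | ∃ a : (Fin 2 ⊕ Fin c.1) → Fin c.2 → R, Rel c.1 c.2 a s}
  have hU : (⋃ c, f c) = Set.univ := by
    ext s
    simp only [Set.mem_iUnion, Set.mem_univ, iff_true]
    obtain ⟨k, k', a, h⟩ := exists_rel (R := R) s
    exact ⟨(k, k'), a, h⟩
  have hf : ∀ c, #(f c) ≤ #R := by
    intro c
    have : ∀ s : f c, ∃ a : (Fin 2 ⊕ Fin c.1) → Fin c.2 → R, Rel c.1 c.2 a s.1 := fun s => s.2
    choose g hg using this
    have hinj : Function.Injective g := by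
      intro s s' hss
      apply Subtype.ext
      have h1 := hg s
      have h2 := hg s'
      rw [hss] at h1
      exact rel_unique h1 h2
    refine (Cardinal.mk_le_of_injective hinj).trans ?_
    rw [Cardinal.mk_congr (Equiv.curry (Fin 2 ⊕ Fin c.1) (Fin c.2) R).symm]
    exact card_fun_le _ R
  have key := Cardinal.mk_iUnion_le_lift f
  rw [hU, Cardinal.mk_univ] at key
  simp only [lift_uzero] at key
  refine key.trans ?_
  have h2 : (⨆ c, #(f c)) ≤ #R := ciSup_le' hf
  calc lift.{u} #(ℕ × ℕ) * ⨆ c, #(f c) ≤ ℵ₀ * #R := by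
        gcongr
        simp
    _ = #R := Cardinal.aleph0_mul_eq (Cardinal.aleph0_le_mk R)

end Groth.Agent.S6375
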