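import Groth.Statements.S6376
import Mathlib.Algebra.Algebra.Epi

set_option autoImplicit false
universe u
open CAlg

namespace Groth.Agent.S6376

open TensorProduct in
/-- A ring map R → S is an epimorphism if and only if for all S-modules N₁, N₂ every R-linear map N₁ →
N₂ is S-linear, i.e. restriction of scalars from S-modules to R-modules is fully faithful. -/
theorem result (R S : Type u) [CommRing R] [CommRing S] [Algebra R S] :
    Algebra.IsEpi R S ↔
      ∀ (N₁ N₂ : Type u) [AddCommGroup N₁] [Module S N₁] [Module R N₁] [IsScalarTower R S N₁]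
        [AddCommGroup N₂] [Module S N₂] [Module R N₂] [IsScalarTower R S N₂] (φ : N₁ →ₗ[R] N₂),
        ∀ (s : S) (x : N₁), φ (s • x) = s • φ x := by
  constructor
  · intro h N₁ N₂ _ _ _ _ _ _ _ _ φ s x
    -- bilinear map (a, b) ↦ a • φ (b • x)
    let F : S ⊗[R] S →ₗ[R] N₂ := TensorProduct.lift
      { toFun := fun a =>
          { toFun := fun b => a • φ (b • x)
            map_add' := by intro b c; simp [add_smul, smul_add]
            map_smul' := by
              intro r b
              simp only [RingHom.id_apply]
              rw [smul_assoc, map_smul, smul_comm] }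
        map_add' := by intro a b; ext c; simp [add_smul]
        map_smul' := by
          intro r a; ext c
          simp only [LinearMap.coe_mk, AddHom.coe_mk, RingHom.id_apply, LinearMap.smul_apply]
          rw [smul_assoc] }
    have h1 : F ((1 : S) ⊗ₜ[R] s) = φ (s • x) := by simp [F]
    have h2 : F (s ⊗ₜ[R] (1 : S)) = s • φ x := by simp [F]
    rw [← h1, ← h2, (Algebra.isEpi_iff_forall_one_tmul_eq R S).mp h s]
  · intro h
    rw [Algebra.isEpi_iff_forall_one_tmul_eq]
    intro a
    let φ : S →ₗ[R] S ⊗[R] S :=
      { toFun := fun b => (1 : S) ⊗ₜ[R] b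
        map_add' := fun b c => TensorProduct.tmul_add _ _ _
        map_smul' := fun r b => TensorProduct.tmul_smul _ _ _ }
    have := h S (S ⊗[R] S) φ a 1
    simp only [φ, LinearMap.coe_mk, AddHom.coe_mk, smul_eq_mul, mul_one] at this
    rw [this, TensorProduct.smul_tmul', smul_eq_mul, mul_one]

end Groth.Agent.S6376
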