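import Groth.Statements.S6381
import Mathlib

set_option autoImplicit false
universe u
open CAlg

namespace Groth.Agent.S6381
open Polynomial

section helpers


section denom
variable {R : Type u} [CommRing R] (p : Ideal R) [p.IsPrime]

theorem exists_denom (x : p.ResidueField) :
    ∃ s : R, s ∉ p ∧ algebraMap R p.ResidueField s * x ∈ Set.range (algebraMap R p.ResidueField) := by
  obtain ⟨y, rfl⟩ := IsLocalRing.residue_surjective x
  obtain ⟨b, s, rfl⟩ := IsLocalization.exists_mk'_eq p.primeCompl y
  refine ⟨s.1, s.2, b, ?_⟩
  rw [IsScalarTower.algebraMap_apply R (Localization.AtPrime p) p.ResidueField,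
    IsScalarTower.algebraMap_apply R (Localization.AtPrime p) p.ResidueField,
    IsLocalRing.ResidueField.algebraMap_eq, ← map_mul, IsLocalization.mk'_spec']

theorem exists_common_denom (T : Finset ℕ) (c : ℕ → p.ResidueField) :
    ∃ s : R, s ∉ p ∧ ∀ i ∈ T,
      algebraMap R p.ResidueField s * c i ∈ Set.range (algebraMap R p.ResidueField) := by
  classical
  induction T using Finset.induction_on with
  | empty => exact ⟨1, fun h => ‹p.IsPrime›.ne_top ((Ideal.eq_top_iff_one p).2 h), by simp⟩
  | insert j T hj ih =>
    obtain ⟨s', hs', h'⟩ := ih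
    obtain ⟨s, hs, b, hb⟩ := exists_denom p (c j)
    refine ⟨s * s', fun h => (‹p.IsPrime›.mem_or_mem h).elim hs hs', ?_⟩
    intro i hi
    rw [Finset.mem_insert] at hi
    rcases hi with rfl | hi
    · refine ⟨s' * b, ?_⟩
      rw [map_mul, hb, map_mul]; ring
    · obtain ⟨b', hb'⟩ := h' i hi
      refine ⟨s * b', ?_⟩
      rw [map_mul, hb', map_mul]; ring

end denom

theorem step (R : Type u) [CommRing R] (p : Ideal R) [p.IsPrime]
    (L : Type u) [Field L] [Algebra p.ResidueField L] [FiniteDimensional p.ResidueField L]
    [Algebra R L] [IsScalarTower R p.ResidueField L] (α : L) :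
    ∃ (R₁ : Type u) (_ : CommRing R₁) (_ : Algebra R R₁) (_ : Module.Finite R R₁)
      (_ : Module.Free R R₁) (_ : (p.map (algebraMap R R₁)).IsPrime)
      (_ : Algebra (p.map (algebraMap R R₁)).ResidueField L) (_ : Algebra R₁ L)
      (_ : IsScalarTower R₁ (p.map (algebraMap R R₁)).ResidueField L) (_ : IsScalarTower R R₁ L)
      (φ : p.ResidueField →+* (p.map (algebraMap R R₁)).ResidueField),
      (∀ x, algebraMap (p.map (algebraMap R R₁)).ResidueField L (φ x) =
        algebraMap p.ResidueField L x) ∧
      α ∈ Set.range (algebraMap (p.map (algebraMap R R₁)).ResidueField L) := by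
  classical
  set κ := p.ResidueField with hκ
  set alg := algebraMap R κ with halg
  set ι := algebraMap R L with hι
  set j := algebraMap κ L with hj
  have hιj : ∀ r, ι r = j (alg r) := fun r => IsScalarTower.algebraMap_apply R κ L r
  have hιj' : ι = j.comp alg := RingHom.ext hιj
  have hint : IsIntegral κ α := Algebra.IsIntegral.isIntegral α
  set f := minpoly κ α with hf
  have hfm : f.Monic := minpoly.monic hint
  set d := f.natDegree with hd
  obtain ⟨s, hs, hsc⟩ := exists_common_denom p (Finset.range d) (fun i => f.coeff i)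
  have hs0 : alg s ≠ 0 := fun h => hs (Ideal.algebraMap_residueField_eq_zero.1 h)
  set f' := scaleRoots f (alg s) with hf'
  have hf'm : f'.Monic := (monic_scaleRoots_iff _).2 hfm
  have hf'd : f'.natDegree = d := natDegree_scaleRoots _ _
  have hlifts : f' ∈ lifts alg := by
    rw [lifts_iff_coeff_lifts]
    intro n
    rw [hf', coeff_scaleRoots]
    rcases lt_trichotomy n d with hn | hn | hn
    · obtain ⟨b, hb⟩ := hsc n (Finset.mem_range.2 hn)
      change alg b = alg s * f.coeff n at hb
      refine ⟨b * s ^ (d - n - 1), ?_⟩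
      have e : alg s ^ (d - n) = alg s ^ (d - n - 1) * alg s := by
        rw [← pow_succ]; congr 1; omega
      change alg (b * s ^ (d - n - 1)) = f.coeff n * alg s ^ (d - n)
      rw [e, map_mul, map_pow, hb]; ring
    · refine ⟨1, ?_⟩
      rw [hn, ← hd, Nat.sub_self, pow_zero, mul_one, map_one, hd]
      exact hfm.coeff_natDegree.symm
    · refine ⟨0, ?_⟩
      rw [map_zero, coeff_eq_zero_of_natDegree_lt hn, zero_mul]
  obtain ⟨G, hGf, hGd, hGm⟩ := lifts_and_natDegree_eq_and_monic hlifts hf'm
  set α' := j (alg s) * α with hα'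
  have hroot : aeval α' f' = 0 := scaleRoots_aeval_eq_zero (minpoly.aeval κ α)
  have hev : G.eval₂ ι α' = 0 := by
    rw [hιj', ← eval₂_map, hGf]
    exact hroot
  let R₁ := AdjoinRoot G
  have hfree : Module.Free R R₁ := Module.Free.of_basis (AdjoinRoot.powerBasis' hGm).basis
  have hfin : Module.Finite R R₁ := (AdjoinRoot.powerBasis' hGm).finite
  set ψ : R₁ →+* L := AdjoinRoot.lift ι α' hev with hψ
  have hψof : ∀ r : R, ψ (algebraMap R R₁ r) = ι r := by
    intro r
    rw [hψ, AdjoinRoot.algebraMap_eq, AdjoinRoot.lift_of]
  set p₁ : Ideal R₁ := p.map (algebraMap R R₁) with hp₁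
  have hle : p₁ ≤ RingHom.ker ψ := by
    rw [hp₁, Ideal.map_le_iff_le_comap]
    intro r hr
    rw [Ideal.mem_comap, RingHom.mem_ker, hψof, hιj, Ideal.algebraMap_residueField_eq_zero.2 hr,
      map_zero]
  -- linear independence of the powers of α'
  set pb := AdjoinRoot.powerBasis' hGm with hpb
  have hdim : pb.dim = (minpoly κ α).natDegree := by
    rw [hpb, AdjoinRoot.powerBasis'_dim, hGd, hf'd]
  have hli : LinearIndependent κ (fun i : Fin pb.dim => α' ^ (i : ℕ)) := by
    have h1 := (linearIndependent_pow (K := κ) α).comp (Fin.cast hdim) (Fin.cast_injective _)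
    have h2 := h1.units_smul (fun i => (Units.mk0 (alg s) hs0) ^ (i : ℕ))
    convert h2 using 1
    ext i
    simp only [Pi.smul_apply', Function.comp_apply, Fin.val_cast, Units.smul_def, Units.val_pow_eq_pow_val,
      Units.val_mk0, hα', mul_pow, Algebra.smul_def, map_pow]
    rfl
  have hge : RingHom.ker ψ ≤ p₁ := by
    intro x hx
    rw [RingHom.mem_ker] at hx
    have hx' := pb.basis.sum_repr x
    have hgen : ∀ i, pb.basis i = (AdjoinRoot.root G) ^ (i : ℕ) := by
      intro i
      have hgen0 : pb.gen = AdjoinRoot.root G := AdjoinRoot.powerBasis'_gen hGm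
      rw [PowerBasis.basis_eq_pow, hgen0]
    have h0 : ∑ i, alg (pb.basis.repr x i) • α' ^ (i : ℕ) = 0 := by
      have e1 : ψ (∑ i, (pb.basis.repr x) i • pb.basis i) =
          ∑ i, alg (pb.basis.repr x i) • α' ^ (i : ℕ) := by
        rw [map_sum]
        apply Finset.sum_congr rfl
        intro i _
        rw [Algebra.smul_def, map_mul, hψof, hgen, map_pow, hψ, AdjoinRoot.lift_root,
          Algebra.smul_def, hιj]
      rw [← e1, hx', hx]
    have h1 := Fintype.linearIndependent_iff.1 hli _ h0
    rw [← hx']
    refine Ideal.sum_mem _ (fun i _ => ?_)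
    rw [Algebra.smul_def]
    exact Ideal.mul_mem_right _ _ (Ideal.mem_map_of_mem _
      (Ideal.algebraMap_residueField_eq_zero.1 (h1 i)))
  have hker : RingHom.ker ψ = p₁ := le_antisymm hge hle
  have hprime : p₁.IsPrime := by
    rw [← hker]
    exact RingHom.ker_isPrime ψ
  set Λ : p₁.ResidueField →+* L := Ideal.ResidueField.lift p₁ ψ hle (by
    intro x hx
    rw [Submonoid.mem_comap, IsUnit.mem_submonoid_iff, isUnit_iff_ne_zero]
    intro h0
    exact hx (hge h0)) with hΛ
  have hΛalg : ∀ x : R₁, Λ (algebraMap R₁ p₁.ResidueField x) = ψ x := by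
    intro x
    rw [hΛ, Ideal.ResidueField.lift_algebraMap]
  have hnotin : ∀ r : R, r ∉ p → algebraMap R R₁ r ∉ p₁ := by
    intro r hr h
    have := hle h
    rw [RingHom.mem_ker, hψof, hιj] at this
    exact hr (Ideal.algebraMap_residueField_eq_zero.1 ((map_eq_zero j).1 this))
  set φ : κ →+* p₁.ResidueField := Ideal.ResidueField.lift p
    ((algebraMap R₁ p₁.ResidueField).comp (algebraMap R R₁)) (by
      intro r hr
      rw [RingHom.mem_ker, RingHom.comp_apply]
      exact Ideal.algebraMap_residueField_eq_zero.2 (Ideal.mem_map_of_mem _ hr)) (by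
      intro r hr
      rw [Submonoid.mem_comap, IsUnit.mem_submonoid_iff, isUnit_iff_ne_zero, RingHom.comp_apply]
      intro h0
      exact hnotin r hr (Ideal.algebraMap_residueField_eq_zero.1 h0)) with hφ
  have hφalg : ∀ r : R, φ (alg r) = algebraMap R₁ p₁.ResidueField (algebraMap R R₁ r) := by
    intro r
    rw [hφ, halg, Ideal.ResidueField.lift_algebraMap]
    rfl
  have hcomp : Λ.comp φ = j := by
    apply Ideal.ResidueField.ringHom_ext
    ext r
    simp only [RingHom.comp_apply]
    rw [← halg, hφalg, hΛalg, hψof, hιj]
  refine ⟨R₁, inferInstance, inferInstance, hfin, hfree, hprime, Λ.toAlgebra, ψ.toAlgebra, ?_, ?_, φ,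
    ?_, ?_⟩
  · let _ : Algebra p₁.ResidueField L := Λ.toAlgebra
    let _ : Algebra R₁ L := ψ.toAlgebra
    exact IsScalarTower.of_algebraMap_eq (fun x => (hΛalg x).symm)
  · let _ : Algebra R₁ L := ψ.toAlgebra
    exact IsScalarTower.of_algebraMap_eq (fun r => (hψof r).symm)
  · intro x
    exact RingHom.congr_fun hcomp x
  · refine ⟨algebraMap R₁ p₁.ResidueField (AdjoinRoot.root G) /
      algebraMap R₁ p₁.ResidueField (algebraMap R R₁ s), ?_⟩
    change Λ _ = α
    rw [map_div₀, hΛalg, hΛalg, hψof, hψ, AdjoinRoot.lift_root, hα', hιj]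
    field_simp [(map_ne_zero j).2 hs0]

theorem base (R : Type u) [CommRing R] (p : Ideal R) [p.IsPrime]
    (L : Type u) [Field L] [Algebra p.ResidueField L] [Algebra R L] [IsScalarTower R p.ResidueField L]
    (hsurj : Function.Surjective (algebraMap p.ResidueField L)) (I : Ideal R) (hI : I = p) :
    ∃ (_ : I.IsPrime) (e : I.ResidueField ≃+* L),
      ∀ r, e (algebraMap R I.ResidueField r) = algebraMap R L r := by
  subst hI
  exact ⟨inferInstance, RingEquiv.ofBijective (algebraMap I.ResidueField L)
    ⟨(algebraMap I.ResidueField L).injective, hsurj⟩,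
    fun r => (IsScalarTower.algebraMap_apply R I.ResidueField L r).symm⟩

theorem transport {R S L : Type u} [CommRing R] [CommRing S] [Algebra R S] [Field L] [Algebra R L]
    (I J : Ideal S) (h : I = J) [J.IsPrime] (e : J.ResidueField ≃+* L)
    (he : ∀ r : R, e (algebraMap R J.ResidueField r) = algebraMap R L r) :
    ∃ (_ : I.IsPrime) (e : I.ResidueField ≃+* L),
      ∀ r : R, e (algebraMap R I.ResidueField r) = algebraMap R L r := by
  subst h
  exact ⟨inferInstance, e, he⟩

theorem main : ∀ (d : ℕ) (R : Type u) [CommRing R] (p : Ideal R) [p.IsPrime]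
    (L : Type u) [Field L] [Algebra p.ResidueField L] [FiniteDimensional p.ResidueField L]
    [Algebra R L] [IsScalarTower R p.ResidueField L], Module.finrank p.ResidueField L = d →
    ∃ (S : Type u) (_ : CommRing S) (_ : Algebra R S) (_ : Module.Finite R S) (_ : Module.Free R S)
      (_ : (p.map (algebraMap R S)).IsPrime)
      (e : (p.map (algebraMap R S)).ResidueField ≃+* L),
      ∀ r : R, e (algebraMap R (p.map (algebraMap R S)).ResidueField r) = algebraMap R L r := by
  intro d
  induction d using Nat.strong_induction_on with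
  | _ d ih =>
    intro R _ p _ L _ _ _ _ _ hd
    by_cases hsurj : Function.Surjective (algebraMap p.ResidueField L)
    · exact ⟨R, inferInstance, inferInstance, inferInstance, inferInstance,
        base R p L hsurj _ (Ideal.map_id p)⟩
    · have : ∃ α : L, α ∉ Set.range (algebraMap p.ResidueField L) := by
        by_contra hcon
        push Not at hcon
        exact hsurj hcon
      obtain ⟨α, hα⟩ := this
      obtain ⟨R₁, _, _, hfin, hfree, hprime, _, _, _, _, φ, hφ, hαr⟩ := step R p L α
      let _ : Algebra p.ResidueField (p.map (algebraMap R R₁)).ResidueField := φ.toAlgebra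
      have htower : IsScalarTower p.ResidueField (p.map (algebraMap R R₁)).ResidueField L :=
        IsScalarTower.of_algebraMap_eq (fun x => (hφ x).symm)
      have hfinK : Module.Finite (p.map (algebraMap R R₁)).ResidueField L :=
        Module.Finite.of_restrictScalars_finite p.ResidueField _ L
      have hfin1 : FiniteDimensional p.ResidueField (p.map (algebraMap R R₁)).ResidueField :=
        FiniteDimensional.left p.ResidueField _ L
      have hmul := Module.finrank_mul_finrank p.ResidueField
        (p.map (algebraMap R R₁)).ResidueField L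
      have h1 : 0 < Module.finrank p.ResidueField (p.map (algebraMap R R₁)).ResidueField :=
        Module.finrank_pos
      have h2 : 0 < Module.finrank (p.map (algebraMap R R₁)).ResidueField L := Module.finrank_pos
      have h3 : Module.finrank p.ResidueField (p.map (algebraMap R R₁)).ResidueField ≠ 1 := by
        intro h
        have hbt := Subalgebra.bot_eq_top_of_finrank_eq_one h
        have hs : Function.Surjective (algebraMap p.ResidueField
            (p.map (algebraMap R R₁)).ResidueField) :=
          Algebra.surjective_algebraMap_iff.2 hbt.symm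
        obtain ⟨y, hy⟩ := hαr
        obtain ⟨x, rfl⟩ := hs y
        apply hα
        exact ⟨x, by rw [← hy, ← IsScalarTower.algebraMap_apply]⟩
      have hlt : Module.finrank (p.map (algebraMap R R₁)).ResidueField L < d := by
        rw [← hd, ← hmul]
        have : 2 ≤ Module.finrank p.ResidueField (p.map (algebraMap R R₁)).ResidueField := by
          omega
        nlinarith
      obtain ⟨S, _, _, hSfin, hSfree, hSprime, e, he⟩ :=
        ih _ hlt R₁ (p.map (algebraMap R R₁)) L rfl
      let _ : Algebra R S := ((algebraMap R₁ S).comp (algebraMap R R₁)).toAlgebra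
      have hst : IsScalarTower R R₁ S := IsScalarTower.of_algebraMap_eq (fun _ => rfl)
      have hideal : p.map (algebraMap R S) =
          (p.map (algebraMap R R₁)).map (algebraMap R₁ S) := by
        rw [Ideal.map_map]
        rfl
      refine ⟨S, inferInstance, inferInstance, Module.Finite.trans R₁ S, Module.Free.trans (R := R) (S := R₁) (M := S), ?_⟩
      refine transport _ _ hideal e ?_
      intro r
      rw [IsScalarTower.algebraMap_apply R R₁ L, ← he]
      rfl


end helpers

/-- Let R be a ring, p ⊆ R a prime and L a finite extension of the residue field κ(p). Then one can find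
a ring map R → S, with S finite free over R, for which q = pS is a prime of S and the residue field
κ(q) is isomorphic to L over κ(p) (stated as a ring isomorphism κ(q) ≅ L compatible with the maps
from R, which determines compatibility with κ(p)). -/
theorem result (R : Type u) [CommRing R] (p : Ideal R) [p.IsPrime]
    (L : Type u) [Field L] [Algebra p.ResidueField L] [FiniteDimensional p.ResidueField L]
    [Algebra R L] [IsScalarTower R p.ResidueField L] :
    ∃ (S : Type u) (_ : CommRing S) (_ : Algebra R S) (_ : Module.Finite R S) (_ : Module.Free R S)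
      (_ : (p.map (algebraMap R S)).IsPrime)
      (e : (p.map (algebraMap R S)).ResidueField ≃+* L),
      ∀ r : R, e (algebraMap R (p.map (algebraMap R S)).ResidueField r) = algebraMap R L r := by
  exact main _ R p L rfl

end Groth.Agent.S6381
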