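import Groth.Statements.S6382
import Mathlib
import Groth.Agent.S0390
import Groth.Agent.S0392

set_option autoImplicit false
set_option linter.style.haveILetI false
universe u
open CAlg

namespace Groth.Agent.S6382

open TensorProduct

/-- a flat base change `S' ⊗[S] M` of an `R`-flat `S`-module is `R`-flat -/
theorem flat_tensor {R S S' M : Type u} [CommRing R] [CommRing S] [CommRing S'] [Algebra R S]
    [Algebra S S'] [Algebra R S'] [IsScalarTower R S S'] [Module.Flat S S']
    [AddCommGroup M] [Module S M] [Module R M] [IsScalarTower R S M] [Module.Flat R M] :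
    Module.Flat R (S' ⊗[S] M) := by
  rw [Module.Flat.iff_lTensor_preserves_injective_linearMap]
  intro N N' _ _ _ _ f hf
  let e₁ := TensorProduct.AlgebraTensorModule.assoc R S S' S' M N
  let e₂ := TensorProduct.AlgebraTensorModule.assoc R S S' S' M N'
  let g : M ⊗[R] N →ₗ[S] M ⊗[R] N' := TensorProduct.AlgebraTensorModule.lTensor S M f
  have hg : Function.Injective g := Module.Flat.lTensor_preserves_injective_linearMap (M := M) f hf
  have hg' : Function.Injective (g.lTensor S') :=
    Module.Flat.lTensor_preserves_injective_linearMap (M := S') g hg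
  have hcomm : ∀ z, e₂ (f.lTensor (S' ⊗[S] M) z) = g.lTensor S' (e₁ z) := by
    intro z
    induction z using TensorProduct.induction_on with
    | zero => simp
    | add x y hx hy => simp only [map_add, hx, hy]
    | tmul x n =>
      induction x using TensorProduct.induction_on with
      | zero => simp
      | add x y hx hy => simp only [add_tmul, map_add, hx, hy]
      | tmul s m =>
        simp [e₁, e₂, g]
  rw [injective_iff_map_eq_zero]
  intro z hz
  have h1 := hcomm z
  rw [hz, map_zero] at h1
  have h2 : e₁ z = 0 := hg' (by rw [← h1, map_zero])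
  exact e₁.injective (by rw [h2, map_zero])

theorem result (R S R' S' : Type u) [CommRing R] [CommRing S]
    [CommRing R'] [CommRing S'] [IsLocalRing R] [IsLocalRing S] [IsLocalRing R'] [IsLocalRing S']
    [Algebra R S] [Algebra R R'] [Algebra S S'] [Algebra R' S'] [Algebra R S']
    [IsScalarTower R S S'] [IsScalarTower R R' S']
    [IsLocalHom (algebraMap R S)] [IsLocalHom (algebraMap R R')] [IsLocalHom (algebraMap S S')]
    [IsLocalHom (algebraMap R' S')] [Module.Flat R R'] [Module.Flat S S']
    [IsNoetherianRing R'] [IsNoetherianRing S']
    (hm : (IsLocalRing.maximalIdeal R).map (algebraMap R R') = IsLocalRing.maximalIdeal R')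
    (M : Type u) [AddCommGroup M] [Module S M] [Module R M] [IsScalarTower R S M] [Module.Finite S M]
    [Module.Flat R M]
    (M' : Type u) [AddCommGroup M'] [Module S' M'] [Module S M'] [IsScalarTower S S' M'] [Module R' M']
    [IsScalarTower R' S' M'] (j : M →ₗ[S] M') (hj : IsBaseChange S' j) :
    Module.Flat R' M' := by
  let _ : Module R M' := Module.compHom M' (algebraMap R S')
  have hdef : ∀ (r : R) (x : M'), r • x = algebraMap R S' r • x := fun _ _ => rfl
  have : IsScalarTower R S' M' := IsScalarTower.of_algebraMap_smul (fun r x => rfl)
  have : IsScalarTower R R' M' := IsScalarTower.of_algebraMap_smul (fun r x => by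
    rw [hdef, IsScalarTower.algebraMap_apply R R' S', algebraMap_smul S' (algebraMap R R' r) x])
  -- flatness of `M'` over `R`
  have : Module.Flat R (S' ⊗[S] M) := flat_tensor
  have : Module.Flat R M' :=
    Module.Flat.of_linearEquiv (hj.equiv.restrictScalars R).symm
  have : Module.Finite S' M' := Module.Finite.equiv hj.equiv
  have h1 := Groth.Agent.S0392.step1 (R := R) (S := R') (M := M') (IsLocalRing.maximalIdeal R)
  rw [hm] at h1
  exact Groth.Agent.S0390.result (R := R') (S := S') (M := M') h1

end Groth.Agent.S6382
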