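import Groth.Statements.S6383
import Mathlib

set_option autoImplicit false
universe u
open scoped TensorProduct
open CAlg

namespace Groth.Agent.S6383
open scoped TensorProduct

section helpers



theorem exists_countable_W (R S : Type u) [CommRing R] [CommRing S] [Algebra R S]
    (M : Type u) [AddCommGroup M] [Module R M] (y : S ⊗[R] M) :
    ∃ W : Set M, W.Countable ∧ y ∈ Submodule.span S ((TensorProduct.mk R S M 1) '' W) := by
  induction y using TensorProduct.induction_on with
  | zero => exact ⟨∅, Set.countable_empty, Submodule.zero_mem _⟩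
  | tmul s m =>
    refine ⟨{m}, Set.countable_singleton m, ?_⟩
    have : s ⊗ₜ[R] m = s • ((TensorProduct.mk R S M 1) m) := by
      simp [TensorProduct.smul_tmul']
    rw [this]
    exact Submodule.smul_mem _ _ (Submodule.subset_span ⟨m, rfl, rfl⟩)
  | add x y hx hy =>
    obtain ⟨W1, h1, h1'⟩ := hx
    obtain ⟨W2, h2, h2'⟩ := hy
    refine ⟨W1 ∪ W2, h1.union h2, Submodule.add_mem _ ?_ ?_⟩
    · exact Submodule.span_mono (Set.image_mono Set.subset_union_left) h1'
    · exact Submodule.span_mono (Set.image_mono Set.subset_union_right) h2'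

theorem span_image_span (R S : Type u) [CommRing R] [CommRing S] [Algebra R S]
    (M : Type u) [AddCommGroup M] [Module R M] (s : Set M) :
    Submodule.span S ((TensorProduct.mk R S M 1) '' (Submodule.span R s : Set M)) =
      Submodule.span S ((TensorProduct.mk R S M 1) '' s) := by
  apply le_antisymm
  · rw [Submodule.span_le]
    rintro _ ⟨m, hm, rfl⟩
    induction hm using Submodule.span_induction with
    | mem x hx => exact Submodule.subset_span ⟨x, hx, rfl⟩
    | zero => simp
    | add x y _ _ hx hy => rw [map_add]; exact Submodule.add_mem _ hx hy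
    | smul a x _ hx =>
      have : (TensorProduct.mk R S M 1) (a • x) = (algebraMap R S a) • (TensorProduct.mk R S M 1) x := by
        rw [map_smul, algebraMap_smul]
      rw [this]
      exact Submodule.smul_mem _ _ hx
  · exact Submodule.span_mono (Set.image_mono Submodule.subset_span)



end helpers

/-- For a ring map R → S and an R-module M whose base change S ⊗_R M is an internal direct sum of
countably generated S-submodules Q_i (i ∈ I), every countably generated submodule N ≤ M can be
enlarged to a countably generated submodule N' ≤ M, together with a subset I' ⊆ I, so that the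
S-span of the image 1 ⊗ N' inside S ⊗_R M equals the sum of the Q_i over i ∈ I'. -/
theorem result (R S : Type u) [CommRing R] [CommRing S] [Algebra R S]
    (M : Type u) [AddCommGroup M] [Module R M] {I : Type u} [DecidableEq I] (Q : I → Submodule S (S ⊗[R] M))
    (hQ : DirectSum.IsInternal Q) (hQc : ∀ i, ∃ t : Set (S ⊗[R] M), t.Countable ∧ Submodule.span S t = Q i)
    (N : Submodule R M) (hN : ∃ s : Set M, s.Countable ∧ Submodule.span R s = N) :
    ∃ (N' : Submodule R M) (I' : Set I), N ≤ N' ∧ (∃ s : Set M, s.Countable ∧ Submodule.span R s = N') ∧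
      Submodule.span S ((TensorProduct.mk R S M 1) '' (N' : Set M)) = ⨆ i ∈ I', Q i := by
  classical
  obtain ⟨s₀, hs₀c, hs₀⟩ := hN
  choose t htc ht using hQc
  -- supports
  have hsupp : ∀ x : S ⊗[R] M, ∃ F : Finset I, x ∈ ⨆ i ∈ F, Q i := by
    intro x
    have : x ∈ ⨆ i, Q i := by rw [hQ.submodule_iSup_eq_top]; trivial
    exact Submodule.mem_iSup_iff_exists_finset.mp this
  choose supp hsuppmem using hsupp
  choose W hWc hW using exists_countable_W R S M
  let J : Set M → Set I := fun s => ⋃ m ∈ s, (supp ((TensorProduct.mk R S M 1) m) : Set I)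
  let step : Set M → Set M := fun s => s ∪ ⋃ i ∈ J s, ⋃ y ∈ t i, W y
  let sq : ℕ → Set M := fun k => step^[k] s₀
  have hJc : ∀ s : Set M, s.Countable → (J s).Countable := fun s hs =>
    hs.biUnion (fun m _ => (Finset.countable_toSet _))
  have hstepc : ∀ s : Set M, s.Countable → (step s).Countable := fun s hs =>
    hs.union ((hJc s hs).biUnion (fun i _ => (htc i).biUnion (fun y _ => hWc y)))
  have hsqc : ∀ k, (sq k).Countable := by
    intro k
    induction k with
    | zero => exact hs₀c
    | succ k ih =>
      show (step^[k+1] s₀).Countable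
      rw [Function.iterate_succ_apply']
      exact hstepc _ ih
  let U : Set M := ⋃ k, sq k
  have hUc : U.Countable := Set.countable_iUnion hsqc
  refine ⟨Submodule.span R U, ⋃ k, J (sq k), ?_, ⟨U, hUc, rfl⟩, ?_⟩
  · rw [← hs₀]
    apply Submodule.span_mono
    exact Set.subset_iUnion sq 0
  · rw [span_image_span]
    apply le_antisymm
    · rw [Submodule.span_le]
      rintro _ ⟨m, hm, rfl⟩
      obtain ⟨k, hk⟩ := Set.mem_iUnion.mp hm
      have h1 := hsuppmem ((TensorProduct.mk R S M 1) m)
      refine (iSup₂_mono' ?_ : (⨆ i ∈ supp ((TensorProduct.mk R S M 1) m), Q i) ≤ _) h1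
      intro i hi
      refine ⟨i, ?_, le_rfl⟩
      exact Set.mem_iUnion.mpr ⟨k, Set.mem_biUnion hk (Finset.mem_coe.mpr hi)⟩
    · apply iSup₂_le
      intro i hi
      obtain ⟨k, hk⟩ := Set.mem_iUnion.mp hi
      rw [← ht i, Submodule.span_le]
      intro y hy
      have hsub : W y ⊆ U := by
        intro m hm
        apply Set.mem_iUnion.mpr
        refine ⟨k+1, ?_⟩
        show m ∈ step^[k+1] s₀
        rw [Function.iterate_succ_apply']
        right
        exact Set.mem_biUnion hk (Set.mem_biUnion hy hm)
      exact Submodule.span_mono (Set.image_mono hsub) (hW y)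

end Groth.Agent.S6383
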