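import Groth.Statements.S6384
import Mathlib
import Groth.Agent.Lib.helper24.NilFlat2

set_option autoImplicit false
universe u
open scoped TensorProduct
open CAlg

namespace Groth.Agent.S6384

open Groth.Agent.Lib.helper24 NilFlat in

/-- Let φ : R → R' be a ring map, I ⊆ R an ideal and M an R-module such that M/IM is R/I-flat and R' ⊗_R
M is R'-flat. Put I₂ = φ⁻¹(φ(I²) R'). Then M/I₂M is flat over R/I₂. -/
theorem result (R R' : Type u) [CommRing R] [CommRing R'] [Algebra R R']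
    (I : Ideal R) (M : Type u) [AddCommGroup M] [Module R M] [Module.Flat (R ⧸ I) ((R ⧸ I) ⊗[R] M)]
    [Module.Flat R' (R' ⊗[R] M)] :
    Module.Flat (R ⧸ ((I ^ 2).map (algebraMap R R')).comap (algebraMap R R'))
      ((R ⧸ ((I ^ 2).map (algebraMap R R')).comap (algebraMap R R')) ⊗[R] M) := by
  set J' : Ideal R' := (I ^ 2).map (algebraMap R R') with hJ'
  set 𝔫' : Ideal R := J'.comap (algebraMap R R') with h𝔫'
  let alg : Algebra (R ⧸ 𝔫') (R' ⧸ J') :=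
    (Ideal.quotientMap J' (algebraMap R R') le_rfl).toAlgebra
  have : IsScalarTower R (R ⧸ 𝔫') (R' ⧸ J') := IsScalarTower.of_algebraMap_eq (fun r => rfl)
  have hinj' : Function.Injective (algebraMap (R ⧸ 𝔫') (R' ⧸ J')) := Ideal.quotientMap_injective
  set Ib : Ideal (R ⧸ 𝔫') := I.map (Ideal.Quotient.mk 𝔫') with hIb
  have hIbn : Ib ^ 2 = ⊥ := by
    rw [hIb, ← Ideal.map_pow, Ideal.map_eq_bot_iff_le_ker, Ideal.mk_ker]
    exact Ideal.le_comap_map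
  have F2a : Module.Flat (R' ⧸ J') ((R' ⧸ J') ⊗[R] M) :=
    flat_baseChange_of_flat_baseChange R R' (R' ⧸ J') M
  have F2 : Module.Flat (R' ⧸ J') ((R' ⧸ J') ⊗[R ⧸ 𝔫'] ((R ⧸ 𝔫') ⊗[R] M)) :=
    flat_baseChange_baseChange R (R ⧸ 𝔫') (R' ⧸ J') M
  let algQ : Algebra (R ⧸ I) ((R ⧸ 𝔫') ⧸ Ib) :=
    (Ideal.quotientMap Ib (Ideal.Quotient.mk 𝔫') Ideal.le_comap_map).toAlgebra
  have : IsScalarTower R (R ⧸ I) ((R ⧸ 𝔫') ⧸ Ib) :=
    IsScalarTower.of_algebraMap_eq (fun r => rfl)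
  have F1a : Module.Flat ((R ⧸ 𝔫') ⧸ Ib) (((R ⧸ 𝔫') ⧸ Ib) ⊗[R] M) :=
    flat_baseChange_of_flat_baseChange R (R ⧸ I) ((R ⧸ 𝔫') ⧸ Ib) M
  have F1 : Module.Flat ((R ⧸ 𝔫') ⧸ Ib)
      (((R ⧸ 𝔫') ⧸ Ib) ⊗[R ⧸ 𝔫'] ((R ⧸ 𝔫') ⊗[R] M)) :=
    flat_baseChange_baseChange R (R ⧸ 𝔫') ((R ⧸ 𝔫') ⧸ Ib) M
  exact flat_of_injective hinj' Ib ⟨2, hIbn⟩ ((R ⧸ 𝔫') ⊗[R] M)

end Groth.Agent.S6384
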