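import Groth.Statements.S6386
import Mathlib

set_option autoImplicit false
universe u
open CAlg

namespace Groth.Agent.S6386

namespace S6386aux
open Cardinal

variable {A B : Type u} [CommRing A] [CommRing B] [Algebra A B]

structure Triv (l : ℕ) (f : Fin l → A) (x : Fin l → B) where
  k : ℕ
  a : Fin l → Fin k → A
  y : Fin k → B
  hx : ∀ i, x i = ∑ j, a i j • y j
  hf : ∀ j, ∑ i, f i * a i j = 0

noncomputable def triv [Module.Flat A B] {l : ℕ} {f : Fin l → A} {x : Fin l → B}
    (h : ∑ i, f i • x i = 0) : Triv l f x :=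
  Classical.choice (by
    obtain ⟨k, a, y, h1, h2⟩ := Module.Flat.iff_forall_isTrivialRelation.mp ‹_› h
    exact ⟨⟨k, a, y, h1, h2⟩⟩)

/-- relations with entries in a subalgebra -/
abbrev Rel (E : Subalgebra A B) : Type u := Σ n : ℕ, Fin n → (A × E)

def Y [Module.Flat A B] (E : Subalgebra A B) (r : Rel E) : Set B :=
  {b | ∃ h : ∑ i, (r.2 i).1 • ((r.2 i).2 : B) = 0, b ∈ Set.range (triv h).y}

theorem Y_finite [Module.Flat A B] (E : Subalgebra A B) (r : Rel E) : (Y E r).Finite := by
  by_cases h : ∑ i, (r.2 i).1 • ((r.2 i).2 : B) = 0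
  · refine (Set.finite_range (triv h).y).subset ?_
    rintro b ⟨_, hb⟩
    exact hb
  · have : Y E r = ∅ := by
      ext b
      simp only [Y, Set.mem_ofPred_eq, Set.mem_empty_iff_false, iff_false]
      rintro ⟨h', _⟩
      exact h h'
    rw [this]
    exact Set.finite_empty

noncomputable def step [Module.Flat A B] (E : Subalgebra A B) : Subalgebra A B :=
  Algebra.adjoin A ((E : Set B) ∪ ⋃ r, Y E r)

theorem le_step [Module.Flat A B] (E : Subalgebra A B) : E ≤ step E := by
  intro x hx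
  exact Algebra.subset_adjoin (Or.inl hx)

theorem mk_rel_le (E : Subalgebra A B) (hE : #E ≤ max #A ℵ₀) : #(Rel E) ≤ max #A ℵ₀ := by
  have hκ : ℵ₀ ≤ max #A ℵ₀ := le_max_right _ _
  have : #(Rel E) = #(List (A × E)) := Cardinal.mk_congr List.equivSigmaTuple.symm
  rw [this]
  refine (Cardinal.mk_list_le_max _).trans (max_le hκ ?_)
  rw [Cardinal.mk_prod, Cardinal.lift_id, Cardinal.lift_id]
  exact Cardinal.mul_le_of_le hκ (le_max_left _ _) hE

theorem mk_step_le [Module.Flat A B] (E : Subalgebra A B) (hE : #E ≤ max #A ℵ₀) :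
    #(step E) ≤ max #A ℵ₀ := by
  have hκ : ℵ₀ ≤ max #A ℵ₀ := le_max_right _ _
  refine (Algebra.cardinalMk_adjoin_le A _).trans ?_
  refine max_le (max_le (le_max_left _ _) ?_) hκ
  refine (Cardinal.mk_union_le _ _).trans (Cardinal.add_le_of_le hκ hE ?_)
  refine (Cardinal.mk_iUnion_le _).trans (Cardinal.mul_le_of_le hκ (mk_rel_le E hE) ?_)
  refine (ciSup_le' fun r => ?_).trans hκ
  exact (Y_finite E r).lt_aleph0.le

noncomputable def Es [Module.Flat A B] (E : Subalgebra A B) : ℕ → Subalgebra A B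
  | 0 => E
  | n + 1 => step (Es E n)

theorem Es_mono [Module.Flat A B] (E : Subalgebra A B) : Monotone (Es E) :=
  monotone_nat_of_le_succ fun n => le_step (Es E n)

theorem mk_Es_le [Module.Flat A B] (E : Subalgebra A B) (hE : #E ≤ max #A ℵ₀) (n : ℕ) :
    #(Es E n) ≤ max #A ℵ₀ := by
  induction n with
  | zero => exact hE
  | succ n ih => exact mk_step_le _ ih

end S6386aux

/-- The key step of its proof: let A be a ring, κ = max(|A|, ℵ₀), and B a flat A-algebra. Then every
A-subalgebra E ⊆ B with at most κ elements lies inside a flat A-subalgebra B' ⊆ B with at most κ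
elements. Consequently B is the filtered colimit (union) of its flat A-subalgebras of cardinality at
most κ. -/
theorem result (A B : Type u) [CommRing A] [CommRing B] [Algebra A B]
    [Module.Flat A B] (E : Subalgebra A B) (hE : Cardinal.mk E ≤ max (Cardinal.mk A) Cardinal.aleph0) :
    ∃ B' : Subalgebra A B, E ≤ B' ∧ Module.Flat A B' ∧ Cardinal.mk B' ≤ max (Cardinal.mk A) Cardinal.aleph0 := by
  have hκ : Cardinal.aleph0 ≤ max (Cardinal.mk A) Cardinal.aleph0 := le_max_right _ _
  have hdir : Directed (· ≤ ·) (S6386aux.Es E) := (S6386aux.Es_mono E).directed_le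
  have hmem : ∀ x : B, x ∈ (⨆ n, S6386aux.Es E n) ↔ ∃ n, x ∈ S6386aux.Es E n := by
    intro x
    rw [← SetLike.mem_coe, Subalgebra.coe_iSup_of_directed hdir, Set.mem_iUnion]
    rfl
  refine ⟨⨆ n, S6386aux.Es E n, le_iSup (S6386aux.Es E) 0, ?_, ?_⟩
  · rw [Module.Flat.iff_forall_isTrivialRelation]
    intro l f x hfx
    -- all x i lie in a common stage
    have hx : ∀ i, ∃ n, (x i : B) ∈ S6386aux.Es E n := fun i => (hmem _).mp (x i).2
    choose n hn using hx
    obtain ⟨N, hN⟩ : ∃ N, ∀ i, n i ≤ N := ⟨Finset.univ.sup n, fun i => Finset.le_sup (Finset.mem_univ i)⟩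
    have hxN : ∀ i, (x i : B) ∈ S6386aux.Es E N := fun i => S6386aux.Es_mono E (hN i) (hn i)
    let r : S6386aux.Rel (S6386aux.Es E N) := ⟨l, fun i => (f i, ⟨x i, hxN i⟩)⟩
    have hr : ∑ i, (r.2 i).1 • ((r.2 i).2 : B) = 0 := by
      have := congrArg (Subtype.val) hfx
      simpa using this
    have hy : ∀ j, (S6386aux.triv hr).y j ∈ (⨆ n, S6386aux.Es E n) := by
      intro j
      rw [hmem]
      refine ⟨N + 1, ?_⟩
      change _ ∈ S6386aux.step (S6386aux.Es E N)
      refine Algebra.subset_adjoin (Or.inr ?_)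
      rw [Set.mem_iUnion]
      exact ⟨r, hr, j, rfl⟩
    refine ⟨(S6386aux.triv hr).k, (S6386aux.triv hr).a, fun j => ⟨(S6386aux.triv hr).y j, hy j⟩,
      ?_, (S6386aux.triv hr).hf⟩
    intro i
    apply Subtype.ext
    have := (S6386aux.triv hr).hx i
    simpa using this
  · have hcoe : ((⨆ n, S6386aux.Es E n : Subalgebra A B) : Set B) = ⋃ n, (S6386aux.Es E n : Set B) :=
      Subalgebra.coe_iSup_of_directed hdir
    have h1 : Cardinal.mk (⨆ n, S6386aux.Es E n : Subalgebra A B) =
        Cardinal.mk (⋃ n, (S6386aux.Es E n : Set B) : Set B) := by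
      rw [← hcoe]; rfl
    rw [h1]
    have h2 := Cardinal.mk_iUnion_le_lift (fun n => (S6386aux.Es E n : Set B))
    rw [Cardinal.lift_id'.{0, u}] at h2
    simp only [Cardinal.lift_id'.{0, u}, Cardinal.mk_nat, Cardinal.lift_aleph0] at h2
    refine h2.trans (Cardinal.mul_le_of_le hκ hκ ?_)
    exact ciSup_le' fun n => S6386aux.mk_Es_le E hE n

end Groth.Agent.S6386
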