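import Groth.Statements.S6388
import Mathlib
-- import your own Groth.Agent.* helpers here

set_option autoImplicit false
universe u
open CAlg

namespace Groth.Agent.S6388

/-- Let f : M → N and g : M → M' be maps of R-modules and let N' be their pushout, realised as the
quotient of M' × N by the submodule of elements (g x, -f x). Then g dominates f — for every module Q
the kernel of f ⊗ id_Q is contained in the kernel of g ⊗ id_Q — if and only if the canonical map M'
→ N' is universally injective. -/
theorem result (R : Type u) [CommRing R] {M N M' : Type u}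
    [AddCommGroup M] [Module R M] [AddCommGroup N] [Module R N] [AddCommGroup M'] [Module R M']
    (f : M →ₗ[R] N) (g : M →ₗ[R] M') :
    (∀ (Q : Type u) [AddCommGroup Q] [Module R Q], LinearMap.ker (f.rTensor Q) ≤ LinearMap.ker (g.rTensor Q)) ↔
      CAlgX.UniversallyInjective R
        ((LinearMap.range (g.prod (-f))).mkQ ∘ₗ LinearMap.inl R M' N) := by
  have h1 : LinearMap.fst R M' N ∘ₗ (g.prod (-f)) = g := by
    ext x; simp
  have h2 : LinearMap.snd R M' N ∘ₗ (g.prod (-f)) = -f := by
    ext x; simp
  have h3 : LinearMap.fst R M' N ∘ₗ LinearMap.inl R M' N = LinearMap.id := by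
    ext x; simp
  have h4 : LinearMap.snd R M' N ∘ₗ LinearMap.inl R M' N = 0 := by
    ext x; simp
  have h5 : ((LinearMap.range (g.prod (-f))).mkQ ∘ₗ LinearMap.inl R M' N) ∘ₗ g =
      ((LinearMap.range (g.prod (-f))).mkQ ∘ₗ LinearMap.inr R M' N) ∘ₗ f := by
    ext x
    simp only [LinearMap.comp_apply, Submodule.mkQ_apply, LinearMap.inl_apply, LinearMap.inr_apply]
    rw [Submodule.Quotient.eq]
    refine ⟨x, ?_⟩
    simp
  constructor
  · intro H Q _ _
    rw [injective_iff_map_eq_zero]
    intro t ht
    rw [LinearMap.rTensor_comp, LinearMap.comp_apply] at ht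
    have hex : Function.Exact ((g.prod (-f)).rTensor Q)
        ((LinearMap.range (g.prod (-f))).mkQ.rTensor Q) :=
      rTensor_exact Q (LinearMap.exact_map_mkQ_range (g.prod (-f)))
        (Submodule.mkQ_surjective _)
    obtain ⟨w, hw⟩ := (hex _).mp ht
    have e1 := congrArg ((LinearMap.snd R M' N).rTensor Q) hw
    rw [← LinearMap.comp_apply, ← LinearMap.comp_apply, ← LinearMap.rTensor_comp,
      ← LinearMap.rTensor_comp, h2, h4, LinearMap.rTensor_zero, LinearMap.zero_apply,
      LinearMap.rTensor_neg, LinearMap.neg_apply, neg_eq_zero] at e1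
    have e2 : (g.rTensor Q) w = 0 := H Q e1
    have e3 := congrArg ((LinearMap.fst R M' N).rTensor Q) hw
    rw [← LinearMap.comp_apply, ← LinearMap.comp_apply, ← LinearMap.rTensor_comp,
      ← LinearMap.rTensor_comp, h1, h3, LinearMap.rTensor_id, LinearMap.id_apply, e2] at e3
    exact e3.symm
  · intro H Q _ _ w hw
    rw [LinearMap.mem_ker] at hw ⊢
    apply H Q
    rw [map_zero, ← LinearMap.comp_apply, ← LinearMap.rTensor_comp, h5, LinearMap.rTensor_comp,
      LinearMap.comp_apply, hw, map_zero]

end Groth.Agent.S6388
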