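import Groth.Statements.S6389
import Mathlib

set_option autoImplicit false
universe u
open CAlg

namespace Groth.Agent.S6389

section helpers



/-- complement iso: if A ⊓ C = ⊥ and A ⊔ C = B then C ≃ B / (A ∩ B). -/
noncomputable def complEquiv {R : Type u} [CommRing R] {M : Type u} [AddCommGroup M] [Module R M]
    (A B C : Submodule R M) (h1 : A ⊓ C = ⊥) (h2 : A ⊔ C = B) :
    C ≃ₗ[R] (↥B ⧸ Submodule.comap B.subtype A) := by
  have hCB : C ≤ B := h2 ▸ le_sup_right
  let f : C →ₗ[R] (↥B ⧸ Submodule.comap B.subtype A) :=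
    (Submodule.mkQ _) ∘ₗ (Submodule.inclusion hCB)
  refine LinearEquiv.ofBijective f ⟨?_, ?_⟩
  · rw [← LinearMap.ker_eq_bot, LinearMap.ker_eq_bot']
    intro c hc
    have h0 : (Submodule.inclusion hCB c) ∈ Submodule.comap B.subtype A :=
      (Submodule.Quotient.mk_eq_zero _).1 hc
    have hcA : (c : M) ∈ A := h0
    have h3 : (c : M) ∈ A ⊓ C := ⟨hcA, c.2⟩
    rw [h1] at h3
    exact Subtype.ext ((Submodule.mem_bot R).1 h3)
  · intro y
    obtain ⟨b, rfl⟩ := Submodule.Quotient.mk_surjective _ y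
    have hb : (b : M) ∈ A ⊔ C := h2 ▸ b.2
    obtain ⟨a, ha, c, hc, hac⟩ := Submodule.mem_sup.1 hb
    refine ⟨⟨c, hc⟩, ?_⟩
    show Submodule.Quotient.mk (Submodule.inclusion hCB ⟨c, hc⟩) = Submodule.Quotient.mk b
    rw [Submodule.Quotient.eq]
    show ((Submodule.inclusion hCB ⟨c, hc⟩ - b : B) : M) ∈ A
    have : ((Submodule.inclusion hCB ⟨c, hc⟩ - b : B) : M) = -a := by
      simp [← hac]
    rw [this]
    exact A.neg_mem ha



end helpers

/-- Let (M_s)_{s ∈ S} be a direct sum dévissage of an R-module M: an increasing family of submodules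
indexed by a well-ordered set S with M_s = ⋃_{t<s} M_t at every index s that is not a successor (in
particular the first term is 0), ⋃_s M_s = M, and M_s a direct summand of M_t whenever t is the
successor of s. Then M is isomorphic to the direct sum, over the successor steps s ⋖ t, of the
quotients M_t/M_s (existence of an isomorphism; the map in the source depends on chosen
complements). -/
theorem result (R : Type u) [CommRing R] (M : Type u)
    [AddCommGroup M] [Module R M] (S : Type u) [LinearOrder S] [WellFoundedLT S] (Mf : S → Submodule R M)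
    (hmono : Monotone Mf) :
    (∀ s : S, Order.IsSuccPrelimit s → Mf s = ⨆ t : {t : S // t < s}, Mf t.1) →
      (⨆ s, Mf s) = ⊤ →
      (∀ s t : S, s ⋖ t → ∃ C : Submodule R M, Mf s ⊓ C = ⊥ ∧ Mf s ⊔ C = Mf t) →
      Nonempty (M ≃ₗ[R] DirectSum {p : S × S // p.1 ⋖ p.2}
        fun p => ↥(Mf p.1.2) ⧸ Submodule.comap (Mf p.1.2).subtype (Mf p.1.1)) := by
  intro hlim htop hC
  classical
  choose C hC1 hC2 using fun p : {p : S × S // p.1 ⋖ p.2} => hC p.1.1 p.1.2 p.2
  have hC_le : ∀ p : {p : S × S // p.1 ⋖ p.2}, C p ≤ Mf p.1.2 := fun p => (hC2 p) ▸ le_sup_right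
  have key : ∀ s : S, Mf s ≤ ⨆ p : {p : S × S // p.1 ⋖ p.2}, ⨆ (_ : p.1.2 ≤ s), C p := by
    intro s
    induction s using WellFoundedLT.induction with
    | ind s ih =>
      by_cases hs : Order.IsSuccPrelimit s
      · rw [hlim s hs]
        refine iSup_le fun t => (ih t.1 t.2).trans ?_
        refine iSup_le fun p => iSup_le fun hp => ?_
        exact le_iSup_of_le p (le_iSup_of_le (hp.trans t.2.le) le_rfl)
      · rw [Order.not_isSuccPrelimit_iff_exists_covBy] at hs
        obtain ⟨s', hs'⟩ := hs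
        rw [← hC2 ⟨(s', s), hs'⟩]
        refine sup_le ((ih s' hs'.lt).trans ?_) ?_
        · refine iSup_le fun p => iSup_le fun hp => ?_
          exact le_iSup_of_le p (le_iSup_of_le (hp.trans hs'.lt.le) le_rfl)
        · exact le_iSup_of_le ⟨(s', s), hs'⟩ (le_iSup_of_le le_rfl le_rfl)
  have hsup : (⨆ p, C p) = ⊤ := by
    rw [eq_top_iff, ← htop]
    refine iSup_le fun s => (key s).trans ?_
    exact iSup_le fun p => iSup_le fun _ => le_iSup C p
  have hind : iSupIndep C := by
    apply iSupIndep_of_dfinsupp_lsum_injective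
    rw [← LinearMap.ker_eq_bot, LinearMap.ker_eq_bot']
    intro v hv
    by_contra hne
    have hsne : v.support.Nonempty := by
      rw [Finset.nonempty_iff_ne_empty, Ne, DFinsupp.support_eq_empty]
      exact hne
    obtain ⟨p₀, hp₀, hmax⟩ := Finset.exists_max_image v.support (fun p => p.1.2) hsne
    have hsum : ∑ p ∈ v.support, ((v p : C p) : M) = 0 := by
      rw [DFinsupp.lsum_apply_apply, DFinsupp.sumAddHom_apply] at hv
      exact hv
    rw [← Finset.add_sum_erase _ _ hp₀] at hsum
    have hmem : ∑ p ∈ v.support.erase p₀, ((v p : C p) : M) ∈ Mf p₀.1.1 := by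
      refine Submodule.sum_mem _ fun p hp => ?_
      rw [Finset.mem_erase] at hp
      have hle : p.1.2 ≤ p₀.1.2 := hmax p hp.2
      have hlt : p.1.2 < p₀.1.2 := by
        rcases lt_or_eq_of_le hle with h | h
        · exact h
        · exfalso
          apply hp.1
          have h1 : p.1.1 = p₀.1.1 := by
            have := p.2
            rw [h] at this
            exact this.unique_left p₀.2
          exact Subtype.ext (Prod.ext h1 h)
      have hle' : p.1.2 ≤ p₀.1.1 := p₀.2.le_of_lt hlt
      exact hmono hle' (hC_le p (v p).2)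
    have h0 : ((v p₀ : C p₀) : M) ∈ Mf p₀.1.1 := by
      have : ((v p₀ : C p₀) : M) = - ∑ p ∈ v.support.erase p₀, ((v p : C p) : M) :=
        eq_neg_of_add_eq_zero_left hsum
      rw [this]
      exact Submodule.neg_mem _ hmem
    have h1 : ((v p₀ : C p₀) : M) ∈ Mf p₀.1.1 ⊓ C p₀ := ⟨h0, (v p₀).2⟩
    rw [hC1 p₀] at h1
    have h2 : v p₀ = 0 := Subtype.ext ((Submodule.mem_bot R).1 h1)
    exact (DFinsupp.mem_support_iff.1 hp₀) h2
  have hint : DirectSum.IsInternal C :=
    (DirectSum.isInternal_submodule_iff_iSupIndep_and_iSup_eq_top C).2 ⟨hind, hsup⟩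
  let e1 : (DirectSum _ fun p => C p) ≃ₗ[R] M :=
    LinearEquiv.ofBijective (DirectSum.coeLinearMap C) hint
  let e2 : (DirectSum _ fun p => C p) ≃ₗ[R] DirectSum {p : S × S // p.1 ⋖ p.2}
        fun p => ↥(Mf p.1.2) ⧸ Submodule.comap (Mf p.1.2).subtype (Mf p.1.1) :=
    DFinsupp.mapRange.linearEquiv (fun p => complEquiv (Mf p.1.1) (Mf p.1.2) (C p) (hC1 p) (hC2 p))
  exact ⟨e1.symm.trans e2⟩

end Groth.Agent.S6389
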