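import Groth.Statements.S6390
import Groth.Agent.Lib.helper1.Kap4

set_option autoImplicit false
universe u
open scoped Classical
open CAlg

namespace Groth.Agent.S6390

/-- An R-module M is a direct sum of countably generated modules if and only if it admits a Kaplansky
dévissage, i.e. an increasing family of submodules (M_s) indexed by a well-ordered set S with M_s =
⋃_{t<s} M_t at non-successor indices (so the first term is 0), ⋃_s M_s = M, and, whenever t is the
successor of s, M_s a direct summand of M_t with M_t/M_s countably generated. -/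
theorem result (R : Type u) [CommRing R] (M : Type u)
    [AddCommGroup M] [Module R M] :
    (∃ (ι : Type u) (N : ι → Submodule R M), DirectSum.IsInternal N ∧ ∀ i, CAlg.IsCountablyGenerated R (N i)) ↔
      ∃ (S : Type u) (_ : LinearOrder S) (_ : WellFoundedLT S) (Mf : S → Submodule R M), Monotone Mf ∧
        (∀ s : S, Order.IsSuccPrelimit s → Mf s = ⨆ t : {t : S // t < s}, Mf t.1) ∧
        (⨆ s, Mf s) = ⊤ ∧
        (∀ s t : S, s ⋖ t → ∃ C : Submodule R M, Mf s ⊓ C = ⊥ ∧ Mf s ⊔ C = Mf t ∧
          CAlg.IsCountablyGenerated R (↥(Mf t) ⧸ Submodule.comap (Mf t).subtype (Mf s))) := by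
  constructor
  · rintro ⟨ι, N, hN, hc⟩
    have hI : iSupIndep N := hN.submodule_iSupIndep
    have hsup : ⨆ i, N i = ⊤ := hN.submodule_iSup_eq_top
    have hcg : ∀ i, Kap.CG (N i) := by
      intro i
      obtain ⟨s, hs, hspan⟩ := hc i
      refine ⟨(N i).subtype '' s, hs.image _, ?_⟩
      rw [← Submodule.map_span, hspan, Submodule.map_top, Submodule.range_subtype]
    obtain ⟨S, lo, wf, Mf, h1, h2, h3, h4⟩ := Kap.devissage_of_directSum N hI hsup hcg
    exact ⟨S, lo, wf, Mf, h1, h2, h3, h4⟩
  · rintro ⟨S, lo, wf, Mf, h1, h2, h3, h4⟩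
    obtain ⟨C, hCi, hCs, hCc⟩ := Kap.directSum_of_devissage S Mf h1 h2 h3 h4
    refine ⟨S, C, DirectSum.isInternal_submodule_of_iSupIndep_of_iSup_eq_top (dec_ι := _) hCi hCs,
      fun s => ?_⟩
    show ∃ s₀ : Set (C s), s₀.Countable ∧ Submodule.span R s₀ = ⊤
    exact Kap.CG.exists_of_injective (R := R) (X := C s) (C s).subtype
      (Submodule.injective_subtype _) (Submodule.range_subtype _) (hCc s)

end Groth.Agent.S6390
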