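import Groth.Statements.S6392
import Mathlib.Tactic
import Groth.Agent.S6357

set_option autoImplicit false
universe u
open CAlg

namespace Groth.Agent.S6392

/-- closure of a set under a unary and a binary operation, by stages -/
def clos {ι : Type u} (S₀ : Set ι) (J : ι → ι) (ub : ι → ι → ι) : ℕ → Set ι
  | 0 => S₀
  | n + 1 => clos S₀ J ub n ∪ J '' clos S₀ J ub n ∪ Set.image2 ub (clos S₀ J ub n) (clos S₀ J ub n)

theorem clos_countable {ι : Type u} (S₀ : Set ι) (hS₀ : S₀.Countable) (J : ι → ι)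
    (ub : ι → ι → ι) (n : ℕ) : (clos S₀ J ub n).Countable := by
  induction n with
  | zero => exact hS₀
  | succ n ih => exact (ih.union (ih.image J)).union (ih.image2 ih ub)

theorem clos_mono {ι : Type u} (S₀ : Set ι) (J : ι → ι) (ub : ι → ι → ι) {n m : ℕ}
    (h : n ≤ m) : clos S₀ J ub n ⊆ clos S₀ J ub m := by
  induction m, h using Nat.le_induction with
  | base => exact le_rfl
  | succ k hk ih =>
    intro a ha
    exact Or.inl (Or.inl (ih ha))


/-- Suppose M is the colimit of finitely presented R-modules G_i along a directed system over a nonempty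
directed index set (transition maps f_ij), and M is both Mittag-Leffler and countably generated.
Then some countable directed subset I' of the indices already computes M: the canonical map from the
colimit of the G_i with i ∈ I' to M is bijective. -/
theorem result (R : Type u) [CommRing R]
    {ι : Type u} [Preorder ι] [IsDirected ι (· ≤ ·)] [Nonempty ι] [DecidableEq ι] (G : ι → Type u)
    [∀ i, AddCommGroup (G i)] [∀ i, Module R (G i)] [∀ i, Module.FinitePresentation R (G i)]
    (f : ∀ i j, i ≤ j → G i →ₗ[R] G j) [DirectedSystem G fun i j h => f i j h]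
    (hML : CAlg.IsMittagLeffler R (Module.DirectLimit G f))
    (hc : CAlg.IsCountablyGenerated R (Module.DirectLimit G f)) :
    ∃ I' : Set ι, I'.Countable ∧ DirectedOn (· ≤ ·) I' ∧
      Function.Bijective (Module.DirectLimit.lift R I' (fun i : I' => G i.1)
        (fun (i j : I') (h : i ≤ j) => f i.1 j.1 h)
        (fun i : I' => Module.DirectLimit.of R ι G f i.1)
        (fun (i j : I') (h : i ≤ j) (x : G i.1) => Module.DirectLimit.of_f)) := by
  classical
  have hfac := (Groth.Agent.S6357.result R G f).mp hML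
  choose J hJ hJfac using hfac
  have hker : ∀ (i : ι) (x : G i), Module.DirectLimit.of R ι G f i x = 0 →
      f i (J i) (hJ i) x = 0 := by
    intro i x hx
    obtain ⟨k, hik, hk⟩ := Module.DirectLimit.of.zero_exact hx
    obtain ⟨h, hh⟩ := hJfac i k hik
    rw [hh, LinearMap.comp_apply, hk, map_zero]
  have hub : ∀ i j : ι, ∃ k, i ≤ k ∧ j ≤ k := fun i j => exists_ge_ge i j
  choose ub hub1 hub2 using hub
  obtain ⟨S, hS, hspan⟩ := hc
  have hidx : ∀ m : Module.DirectLimit G f, ∃ (i : ι) (x : G i),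
      Module.DirectLimit.of R ι G f i x = m := fun m => Module.DirectLimit.exists_of m
  choose idx xs hxs using hidx
  obtain ⟨i₀⟩ := ‹Nonempty ι›
  set S₀ : Set ι := insert i₀ (idx '' S) with hS₀def
  have hS₀ : S₀.Countable := (hS.image idx).insert i₀
  set I' : Set ι := ⋃ n, clos S₀ J ub n with hI'def
  have hI'count : I'.Countable := Set.countable_iUnion (fun n => clos_countable S₀ hS₀ J ub n)
  have hS₀I' : S₀ ⊆ I' := fun a ha => Set.mem_iUnion.mpr ⟨0, ha⟩
  have hJI' : ∀ a ∈ I', J a ∈ I' := by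
    intro a ha
    obtain ⟨n, hn⟩ := Set.mem_iUnion.mp ha
    exact Set.mem_iUnion.mpr ⟨n + 1, Or.inl (Or.inr ⟨a, hn, rfl⟩)⟩
  have hubI' : ∀ a ∈ I', ∀ b ∈ I', ub a b ∈ I' := by
    intro a ha b hb
    obtain ⟨n, hn⟩ := Set.mem_iUnion.mp ha
    obtain ⟨m, hm⟩ := Set.mem_iUnion.mp hb
    have hn' := clos_mono S₀ J ub (le_max_left n m) hn
    have hm' := clos_mono S₀ J ub (le_max_right n m) hm
    exact Set.mem_iUnion.mpr ⟨max n m + 1, Or.inr ⟨a, hn', b, hm', rfl⟩⟩
  have hdir : DirectedOn (· ≤ ·) I' := by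
    intro a ha b hb
    exact ⟨ub a b, hubI' a ha b hb, hub1 a b, hub2 a b⟩
  refine ⟨I', hI'count, hdir, ?_⟩
  haveI : Nonempty I' := ⟨⟨i₀, hS₀I' (Set.mem_insert _ _)⟩⟩
  haveI : IsDirected I' (· ≤ ·) :=
    ⟨fun a b => ⟨⟨ub a.1 b.1, hubI' a.1 a.2 b.1 b.2⟩, hub1 a.1 b.1, hub2 a.1 b.1⟩⟩
  constructor
  · rw [injective_iff_map_eq_zero]
    intro z hz
    obtain ⟨i, x, rfl⟩ := Module.DirectLimit.exists_of z
    rw [Module.DirectLimit.lift_of] at hz
    have h1 := hker i.1 x hz
    have h2 := Module.DirectLimit.of_f (R := R) (ι := I') (G := fun i : I' => G i.1)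
      (f := fun (i j : I') (h : i ≤ j) => f i.1 j.1 h) (i := i) (j := ⟨J i.1, hJI' i.1 i.2⟩)
      (hij := hJ i.1) (x := x)
    rw [← h2]
    change (Module.DirectLimit.of R I' (fun i : I' => G i.1)
      (fun (i j : I') (h : i ≤ j) => f i.1 j.1 h) ⟨J i.1, hJI' i.1 i.2⟩) (f i.1 (J i.1) (hJ i.1) x) = 0
    rw [h1, map_zero]
  · rw [← LinearMap.range_eq_top, eq_top_iff, ← hspan]
    apply Submodule.span_le.mpr
    intro m hm
    have hmem : idx m ∈ I' := hS₀I' (Set.mem_insert_of_mem _ ⟨m, hm, rfl⟩)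
    refine ⟨Module.DirectLimit.of R I' (fun i : I' => G i.1)
      (fun (i j : I') (h : i ≤ j) => f i.1 j.1 h) ⟨idx m, hmem⟩ (xs m), ?_⟩
    rw [Module.DirectLimit.lift_of]
    exact hxs m

end Groth.Agent.S6392
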