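import Groth.Statements.S6393

set_option autoImplicit false
open CategoryTheory
universe v₂ u₂ v u
open FibCat

namespace Groth.Agent.S6393

/-- Given `p : S ⥤ C`, saying that p is fibred in groupoids is equivalent to saying that p is a fibred
functor whose fibre category over every object of C is a groupoid. -/
theorem result {C : Type u} [Category.{v} C] {S : Type u₂} [Category.{v₂} S] (p : S ⥤ C) :
    FibCat.IsFibGrpd p ↔ (p.IsFibered ∧ ∀ U : C, IsGroupoid (p.Fiber U)) := by
  constructor
  · intro h
    refine ⟨?_, ?_⟩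
    · apply Functor.IsFibered.of_exists_isStronglyCartesian
      intro a R f
      obtain ⟨b, φ, hφ⟩ := h.exists_lift (x := a) f
      obtain rfl : p.obj b = R := IsHomLift.domain_eq p f φ
      obtain rfl : f = p.map φ := IsHomLift.eq_of_isHomLift p f φ
      exact ⟨b, φ, h.isStronglyCartesian φ⟩
    · intro U
      constructor
      intro X Y f
      haveI : p.IsHomLift (𝟙 U) f.1 := f.2
      haveI hsc : p.IsStronglyCartesian (p.map f.1) f.1 := h.isStronglyCartesian f.1
      haveI hiso : IsIso (p.map f.1) := by
        have := IsHomLift.fac' p (𝟙 U) f.1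
        rw [this]
        infer_instance
      haveI : IsIso f.1 := Functor.IsStronglyCartesian.isIso_of_base_isIso p (p.map f.1) f.1
      refine ⟨⟨⟨inv f.1, inferInstance⟩, ?_, ?_⟩⟩
      · apply Subtype.ext
        exact IsIso.hom_inv_id f.1
      · apply Subtype.ext
        exact IsIso.inv_hom_id f.1
  · rintro ⟨hfib, hgrp⟩
    constructor
    · intro x V f
      obtain ⟨y, φ, hφ⟩ := Functor.IsPreFibered.exists_isCartesian' (p := p) (a := x) f
      exact ⟨y, φ, inferInstance⟩
    · intro y x φ
      obtain ⟨y', ψ, hψ⟩ := Functor.IsPreFibered.exists_isCartesian' (p := p) (a := x) (p.map φ)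
      haveI : p.IsStronglyCartesian (p.map φ) ψ :=
        Functor.IsFibered.isStronglyCartesian_of_isCartesian p (p.map φ) ψ
      haveI : p.IsHomLift (p.map φ) φ := IsHomLift.map p φ
      let χ : y ⟶ y' := Functor.IsStronglyCartesian.map p (p.map φ) ψ (f' := p.map φ)
        (g := 𝟙 _) (Category.id_comp _).symm φ
      have hχ : χ ≫ ψ = φ := Functor.IsStronglyCartesian.fac p (p.map φ) ψ _ φ
      haveI hχl : p.IsHomLift (𝟙 (p.obj y)) χ :=
        Functor.IsStronglyCartesian.map_isHomLift p (p.map φ) ψ _ φ
      haveI : IsIso (Functor.Fiber.homMk p (p.obj y) χ) :=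
        (hgrp (p.obj y)).all_isIso (Functor.Fiber.homMk p (p.obj y) χ)
      haveI : IsIso χ := by
        have : IsIso (Functor.Fiber.fiberInclusion.map (Functor.Fiber.homMk p (p.obj y) χ)) :=
          inferInstance
        rwa [Functor.Fiber.fiberInclusion_homMk] at this
      have hsc : p.IsStronglyCartesian (𝟙 _ ≫ p.map φ) (χ ≫ ψ) := inferInstance
      rw [hχ, Category.id_comp] at hsc
      exact hsc

end Groth.Agent.S6393
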