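import Groth.Statements.S6395
import Groth.Agent.Lib.helper10.EquivOver

set_option autoImplicit false
open CategoryTheory
universe v u
open FibCat

namespace Groth.Agent.S6395

/-- An equivalence `F : 𝒳 ⟶ 𝒴` in the 2-category of categories over `C` maps strongly cartesian
morphisms to strongly cartesian morphisms. -/
theorem result {C : Type u} [Category.{v} C] {𝒳 𝒴 : BasedCategory.{v, max u v} C} (F : 𝒳 ⥤ᵇ 𝒴) (hF : FibCat.IsEquivOver F)
    {R S : C} (f : R ⟶ S) {a b : 𝒳.obj} (φ : a ⟶ b) [𝒳.p.IsStronglyCartesian f φ] :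
    𝒴.p.IsStronglyCartesian f (F.map φ) := by
  haveI : F.toFunctor.IsEquivalence := Groth.Agent.Lib.helper10.EquivOver.isEquivalence F hF
  exact
    { universal_property' := by
        intro a' g τ hτ
        obtain ⟨a₀, θ, hθ⟩ := Groth.Agent.Lib.helper10.EquivOver.exists_iso F hF a'
        haveI := hθ
        haveI hθinv : 𝒴.p.IsHomLift (𝟙 (𝒴.p.obj a')) θ.inv := IsHomLift.lift_id_inv _ _ θ
        -- transport to the domain of `g`
        have hdom : 𝒳.p.obj a₀ = 𝒴.p.obj a' := by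
          rw [← F.w_obj a₀]
          exact IsHomLift.domain_eq 𝒴.p (𝟙 (𝒴.p.obj a')) θ.hom
        obtain ⟨τ₀, hτ₀⟩ := F.toFunctor.map_surjective (θ.hom ≫ τ)
        have hl1 : 𝒴.p.IsHomLift (𝟙 (𝒴.p.obj a') ≫ (g ≫ f)) (θ.hom ≫ τ) := inferInstance
        rw [Category.id_comp] at hl1
        have hl2 : 𝒴.p.IsHomLift (g ≫ f) (F.map τ₀) := by
          change 𝒴.p.IsHomLift (g ≫ f) (F.toFunctor.map τ₀)
          rw [hτ₀]
          exact hl1
        haveI hl3 : 𝒳.p.IsHomLift (g ≫ f) τ₀ := (F.isHomLift_iff (g ≫ f) τ₀).mp hl2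
        let χ₀ : a₀ ⟶ a := Functor.IsStronglyCartesian.map 𝒳.p f φ (f' := g ≫ f) (g := g) rfl τ₀
        haveI hχ₀l : 𝒳.p.IsHomLift g χ₀ := Functor.IsStronglyCartesian.map_isHomLift 𝒳.p f φ rfl τ₀
        have hχ₀ : χ₀ ≫ φ = τ₀ := Functor.IsStronglyCartesian.fac 𝒳.p f φ rfl τ₀
        refine ⟨θ.inv ≫ F.map χ₀, ⟨?_, ?_⟩, ?_⟩
        · have : 𝒴.p.IsHomLift (𝟙 (𝒴.p.obj a') ≫ g) (θ.inv ≫ F.map χ₀) := inferInstance
          rwa [Category.id_comp] at this
        · rw [Category.assoc]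
          change θ.inv ≫ F.toFunctor.map χ₀ ≫ F.toFunctor.map φ = τ
          rw [← F.toFunctor.map_comp, hχ₀, hτ₀, Iso.inv_hom_id_assoc]
        · rintro χ' ⟨k1, k2⟩
          haveI := k1
          obtain ⟨χ₀', hχ₀'⟩ := F.toFunctor.map_surjective (θ.hom ≫ χ')
          have hl4 : 𝒴.p.IsHomLift (𝟙 (𝒴.p.obj a') ≫ g) (θ.hom ≫ χ') := inferInstance
          rw [Category.id_comp] at hl4
          have hl5 : 𝒴.p.IsHomLift g (F.map χ₀') := by
            change 𝒴.p.IsHomLift g (F.toFunctor.map χ₀')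
            rw [hχ₀']
            exact hl4
          haveI hl6 : 𝒳.p.IsHomLift g χ₀' := (F.isHomLift_iff g χ₀').mp hl5
          have h7 : χ₀' ≫ φ = τ₀ := by
            apply F.toFunctor.map_injective
            rw [F.toFunctor.map_comp, hχ₀', hτ₀, Category.assoc]
            congr 1
          have h8 : χ₀' = χ₀ := Functor.IsStronglyCartesian.map_uniq 𝒳.p f φ rfl τ₀ χ₀' h7
          rw [← h8]
          change χ' = θ.inv ≫ F.toFunctor.map χ₀'
          rw [hχ₀', Iso.inv_hom_id_assoc] }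

end Groth.Agent.S6395
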