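import Groth.Statements.S6394
import Groth.Agent.Lib.helper10.EquivOver
import Groth.Agent.S6395

set_option autoImplicit false
open CategoryTheory
universe v u
open FibCat

namespace Groth.Agent.S6394

theorem fibered_of_equiv {C : Type u} [Category.{v} C] {𝒳 𝒴 : BasedCategory.{v, max u v} C}
    (F : 𝒳 ⥤ᵇ 𝒴) (hF : FibCat.IsEquivOver F) (h : 𝒳.p.IsFibered) : 𝒴.p.IsFibered := by
  apply Functor.IsFibered.of_exists_isStronglyCartesian
  intro a' R f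
  obtain ⟨a₀, θ, hθ⟩ := Groth.Agent.Lib.helper10.EquivOver.exists_iso F hF a'
  haveI := hθ
  have hdom : 𝒳.p.obj a₀ = 𝒴.p.obj a' := by
    rw [← F.w_obj a₀]
    exact IsHomLift.domain_eq 𝒴.p (𝟙 (𝒴.p.obj a')) θ.hom
  obtain ⟨b₀, φ₀, hφ₀⟩ := IsPreFibered.exists_isCartesian 𝒳.p hdom f
  haveI : 𝒳.p.IsStronglyCartesian f φ₀ :=
    Functor.IsFibered.isStronglyCartesian_of_isCartesian 𝒳.p f φ₀
  haveI h1 : 𝒴.p.IsStronglyCartesian f (F.map φ₀) := Groth.Agent.S6395.result F hF f φ₀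
  haveI h2 : 𝒴.p.IsStronglyCartesian (𝟙 (𝒴.p.obj a')) θ.hom := inferInstance
  have h3 : 𝒴.p.IsStronglyCartesian (f ≫ 𝟙 (𝒴.p.obj a')) (F.map φ₀ ≫ θ.hom) := inferInstance
  rw [Category.comp_id] at h3
  exact ⟨F.obj b₀, F.map φ₀ ≫ θ.hom, h3⟩


/-- If `F : 𝒳 ⟶ 𝒴` is an equivalence in the 2-category of categories over `C`, then `𝒳` is fibred over
`C` if and only if `𝒴` is. -/
theorem result {C : Type u} [Category.{v} C] {𝒳 𝒴 : BasedCategory.{v, max u v} C} (F : 𝒳 ⥤ᵇ 𝒴) (hF : FibCat.IsEquivOver F) :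
    𝒳.p.IsFibered ↔ 𝒴.p.IsFibered := by
  constructor
  · exact fibered_of_equiv F hF
  · obtain ⟨G, η, ε⟩ := hF
    exact fibered_of_equiv G ⟨F, ε, η⟩

end Groth.Agent.S6394
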