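import Mathlib.Tactic
import Groth.Agent.Lib.helper10.FiberFun
import Groth.Agent.Lib.helper10.EquivOfEq
import Groth.Statements.S6399

set_option autoImplicit false
open CategoryTheory
universe v u
open FibCat

namespace Groth.Agent.S6399

open Groth.Agent.Lib.helper10 in
lemma diag_obj_iso_hom {C : Type u} [Category.{v} C] {𝒳 𝒴 : BasedCategory.{v, max u v} C}
    (G : 𝒳 ⥤ᵇ 𝒴) (a : 𝒳.obj) : ((FibCat.diag G).obj a).obj.iso.hom = 𝟙 (G.obj a) := rfl

lemma diag_map_fst {C : Type u} [Category.{v} C] {𝒳 𝒴 : BasedCategory.{v, max u v} C}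
    (G : 𝒳 ⥤ᵇ 𝒴) {a b : 𝒳.obj} (φ : a ⟶ b) : ((FibCat.diag G).map φ).hom.fst = φ := rfl

lemma diag_map_snd {C : Type u} [Category.{v} C] {𝒳 𝒴 : BasedCategory.{v, max u v} C}
    (G : 𝒳 ⥤ᵇ 𝒴) {a b : 𝒳.obj} (φ : a ⟶ b) : ((FibCat.diag G).map φ).hom.snd = φ := rfl


/-- A functor `G : 𝒳 ⟶ 𝒴` over `C` between categories fibred in groupoids is fully faithful if and only
if the diagonal `𝒳 ⟶ 𝒳 ×_𝒴 𝒳` is an equivalence over `C`. -/
theorem result {C : Type u} [Category.{v} C] {𝒳 𝒴 : BasedCategory.{v, max u v} C} (G : 𝒳 ⥤ᵇ 𝒴) (h𝒳 : FibCat.IsFibGrpd 𝒳.p) (h𝒴 : FibCat.IsFibGrpd 𝒴.p) :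
    (G.toFunctor.Full ∧ G.toFunctor.Faithful) ↔ FibCat.IsEquivOver (FibCat.diag G) := by
  have h𝒳f := Groth.Agent.Lib.helper10.FiberFun.isFibered_of_isFibGrpd h𝒳
  constructor
  · rintro ⟨hfull, hfaith⟩
    have hD1 : (FibCat.diag G).toFunctor.Faithful := by
      constructor
      intro a b φ ψ h
      have := congrArg (fun m => m.hom.fst) h
      exact this
    have hD2 : (FibCat.diag G).toFunctor.Full := by
      constructor
      intro a b M
      have hw := M.hom.w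
      have e1 : ((FibCat.diag G).obj b).obj.iso.hom = 𝟙 _ := rfl
      have e2 : ((FibCat.diag G).obj a).obj.iso.hom = 𝟙 _ := rfl
      rw [e1, e2] at hw
      have hw' : G.toFunctor.map M.hom.fst = G.toFunctor.map M.hom.snd :=
        (Category.comp_id _).symm.trans (hw.trans (Category.id_comp _))
      have e : M.hom.fst = M.hom.snd := G.toFunctor.map_injective hw'
      refine ⟨M.hom.fst, ?_⟩
      apply ObjectProperty.hom_ext
      apply Limits.CategoricalPullback.hom_ext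
      · rfl
      · exact e
    have hD3 : (FibCat.diag G).toFunctor.EssSurj := by
      constructor
      intro T
      let γ' : T.obj.fst ≅ T.obj.snd := G.toFunctor.preimageIso T.obj.iso
      refine ⟨T.obj.fst, ⟨ObjectProperty.isoMk _ (Limits.CategoricalPullback.mkIso (Iso.refl _) γ' ?_)⟩⟩
      change G.toFunctor.map (𝟙 T.obj.fst) ≫ T.obj.iso.hom = 𝟙 _ ≫ G.toFunctor.map γ'.hom
      simp [γ']
    have : (FibCat.diag G).toFunctor.IsEquivalence := { faithful := hD1, full := hD2, essSurj := hD3 }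
    exact Groth.Agent.Lib.helper10.EquivOfEq.isEquivOver_of_isEquivalence (FibCat.diag G)
  · intro hD
    have hE := Groth.Agent.Lib.helper10.EquivOver.isEquivalence (FibCat.diag G) hD
    have hfaith : G.toFunctor.Faithful := by
      constructor
      intro a b φ ψ hφψ
      let M : (FibCat.diag G).obj a ⟶ (FibCat.diag G).obj b := ObjectProperty.homMk
        ({ fst := φ, snd := ψ, w := by
            have e1 : ((FibCat.diag G).obj b).obj.iso.hom = 𝟙 _ := rfl
            have e2 : ((FibCat.diag G).obj a).obj.iso.hom = 𝟙 _ := rfl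
            rw [e1, e2]
            exact (Category.comp_id _).trans (hφψ.trans (Category.id_comp _).symm) } :
          Limits.CategoricalPullback.Hom (F := G.toFunctor) (G := G.toFunctor)
            ((FibCat.diag G).obj a).obj ((FibCat.diag G).obj b).obj)
      obtain ⟨χ, hχ⟩ := (FibCat.diag G).toFunctor.map_surjective M
      have e1 : χ = φ := congrArg (fun m => m.hom.fst) hχ
      have e2 : χ = ψ := congrArg (fun m => m.hom.snd) hχ
      rw [← e1, e2]
    refine ⟨?_, hfaith⟩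
    apply Groth.Agent.Lib.helper10.FiberFun.full_of_fiber_full G h𝒳 h𝒴
    intro U
    constructor
    intro a b θ
    obtain ⟨θ₁, hθ₁⟩ : ∃ θ₁ : G.obj a.1 ⟶ G.obj b.1, θ₁ = θ.1 := ⟨θ.1, rfl⟩
    have hθl : 𝒴.p.IsHomLift (𝟙 U) θ₁ := by rw [hθ₁]; exact θ.2
    have hθsc : 𝒴.p.IsStronglyCartesian (𝟙 U) θ₁ :=
      Groth.Agent.Lib.helper10.FiberFun.sc_of_isFibGrpd h𝒴 _ _
    have hθiso : IsIso θ₁ := Functor.IsStronglyCartesian.isIso_of_base_isIso 𝒴.p (𝟙 U) θ₁
    have hprop : 𝒴.p.IsHomLift (𝟙 (𝒳.p.obj a.1)) θ₁ := by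
      rw [a.2]; exact hθl
    let T : (FibCat.fp G G).obj := ⟨⟨a.1, b.1, asIso θ₁⟩, hprop⟩
    obtain ⟨x, ⟨j⟩⟩ := Functor.EssSurj.mem_essImage (F := (FibCat.diag G).toFunctor) T
    have hw := j.hom.hom.w
    have e2 : ((FibCat.diag G).obj x).obj.iso.hom = 𝟙 _ := rfl
    rw [e2] at hw
    obtain ⟨p, hp⟩ : ∃ p : x ⟶ a.1, p = j.hom.hom.fst := ⟨_, rfl⟩
    obtain ⟨q, hq⟩ : ∃ q : x ⟶ b.1, q = j.hom.hom.snd := ⟨_, rfl⟩
    have hw' : G.toFunctor.map p ≫ θ₁ = G.toFunctor.map q := by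
      rw [hp, hq]
      exact hw.trans (Category.id_comp _)
    have hj : IsIso j.hom.hom := by
      have : IsIso ((FibCat.fpProp G G).ι.map j.hom) := inferInstance
      exact this
    have hfst : IsIso p := by
      rw [hp]
      exact inferInstanceAs (IsIso ((Limits.CategoricalPullback.π₁ _ _).mapIso (asIso j.hom.hom)).hom)
    let φ : a.1 ⟶ b.1 := inv p ≫ q
    have hGφ : G.map φ = θ₁ := by
      change G.toFunctor.map (inv p ≫ q) = θ₁
      rw [Functor.map_comp, Functor.map_inv, IsIso.inv_comp_eq]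
      exact hw'.symm
    have hφl : 𝒳.p.IsHomLift (𝟙 U) φ := by
      rw [← BasedFunctor.isHomLift_iff G, hGφ]; exact hθl
    refine ⟨⟨φ, hφl⟩, ?_⟩
    apply Functor.Fiber.hom_ext
    exact hGφ.trans hθ₁

end Groth.Agent.S6399
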