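import Mathlib.Tactic
import Groth.Agent.Lib.helper10.FiberFun
import Groth.Agent.Lib.helper10.EquivOver
import Groth.Statements.S6405

set_option autoImplicit false
open CategoryTheory
universe v u
open FibCat

namespace Groth.Agent.S6405

/-- (2) ⇒ (1): if `𝒳` is fibred in groupoids over `C` and the canonical functor `I_𝒳 ⟶ 𝒳` from its
inertia is an equivalence over `C`, then `𝒳` is fibred in setoids. (The published statement is an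
equivalence; this row states only that the inertia condition implies that `𝒳` is fibred in setoids.) -/
theorem result {C : Type u} [Category.{v} C] {𝒳 : BasedCategory.{v, max u v} C} (h𝒳 : FibCat.IsFibGrpd 𝒳.p)
    (h : FibCat.IsEquivOver (FibCat.inertiaToBase (FibCat.toSelf 𝒳))) : FibCat.IsFibSetoid 𝒳.p := by
  refine ⟨h𝒳, ?_⟩
  have hE := Groth.Agent.Lib.helper10.EquivOver.isEquivalence _ h
  have hfull : (FibCat.inertiaToBase (FibCat.toSelf 𝒳)).toFunctor.Full := hE.full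
  intro U a b
  constructor
  intro φ ψ
  obtain ⟨a1, ha⟩ := a
  subst ha
  apply Functor.Fiber.hom_ext
  obtain ⟨φ₁, hφ₁⟩ : ∃ φ₁ : a1 ⟶ b.1, φ₁ = φ.1 := ⟨_, rfl⟩
  obtain ⟨ψ₁, hψ₁⟩ : ∃ ψ₁ : a1 ⟶ b.1, ψ₁ = ψ.1 := ⟨_, rfl⟩
  change φ.1 = ψ.1
  rw [← hφ₁, ← hψ₁]
  have hφl : 𝒳.p.IsHomLift (𝟙 (𝒳.p.obj a1)) φ₁ := by rw [hφ₁]; exact φ.2
  have hψl : 𝒳.p.IsHomLift (𝟙 (𝒳.p.obj a1)) ψ₁ := by rw [hψ₁]; exact ψ.2
  have hψsc : 𝒳.p.IsStronglyCartesian (𝟙 (𝒳.p.obj a1)) ψ₁ :=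
    Groth.Agent.Lib.helper10.FiberFun.sc_of_isFibGrpd h𝒳 _ _
  have hφsc : 𝒳.p.IsStronglyCartesian (𝟙 (𝒳.p.obj a1)) φ₁ :=
    Groth.Agent.Lib.helper10.FiberFun.sc_of_isFibGrpd h𝒳 _ _
  have hψiso : IsIso ψ₁ := Functor.IsStronglyCartesian.isIso_of_base_isIso 𝒳.p (𝟙 (𝒳.p.obj a1)) ψ₁
  have hφiso : IsIso φ₁ := Functor.IsStronglyCartesian.isIso_of_base_isIso 𝒳.p (𝟙 (𝒳.p.obj a1)) φ₁
  have hψinv : 𝒳.p.IsHomLift (𝟙 (𝒳.p.obj a1)) (inv ψ₁) :=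
    IsHomLift.lift_id_inv_isIso 𝒳.p _ ψ₁
  let α : a1 ≅ a1 := asIso φ₁ ≪≫ (asIso ψ₁).symm
  have hαl : 𝒳.p.IsHomLift (𝟙 (𝒳.p.obj a1)) α.hom := by
    change 𝒳.p.IsHomLift (𝟙 (𝒳.p.obj a1)) (φ₁ ≫ inv ψ₁)
    infer_instance
  have hαmap : (FibCat.toSelf 𝒳).map α.hom = 𝟙 ((FibCat.toSelf 𝒳).obj a1) :=
    (IsHomLift.eq_of_isHomLift 𝒳.p (𝟙 (𝒳.p.obj a1)) α.hom).symm
  let T : (FibCat.inertia (FibCat.toSelf 𝒳)).obj := ⟨a1, α, hαmap⟩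
  let T0 : (FibCat.inertia (FibCat.toSelf 𝒳)).obj := ⟨a1, Iso.refl a1, (FibCat.toSelf 𝒳).map_id a1⟩
  obtain ⟨θ, hθ⟩ := Functor.map_surjective (F := (FibCat.inertiaToBase (FibCat.toSelf 𝒳)).toFunctor)
    (X := T) (Y := T0) (𝟙 a1)
  have hθ' : θ.hom = 𝟙 a1 := hθ
  have hc := θ.comm
  rw [hθ'] at hc
  have hα1 : α.hom = 𝟙 a1 := by
    have : α.hom ≫ 𝟙 a1 = 𝟙 a1 ≫ 𝟙 a1 := hc
    simpa using this
  have : φ₁ ≫ inv ψ₁ = 𝟙 a1 := hα1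
  rw [← cancel_mono (inv ψ₁), this, IsIso.hom_inv_id]

end Groth.Agent.S6405
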