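import Groth.Statements.S6408

set_option autoImplicit false
open CategoryTheory
universe v u
open FibCat

namespace Groth.Agent.S6408

/-- Between categories fibred in sets over `C` the only 2-morphisms over `C` are identities. -/
theorem result {C : Type u} [Category.{v} C] {𝒳 𝒴 : BasedCategory.{v, max u v} C} (h𝒳 : FibCat.IsFibSet 𝒳.p) (h𝒴 : FibCat.IsFibSet 𝒴.p) {F G : 𝒳 ⥤ᵇ 𝒴} (α : F ⟶ G) :
    ∃ h : F = G, α = eqToHom h := by
  obtain ⟨-, hdisc⟩ := h𝒴
  have key : ∀ a : 𝒳.obj, ∃ h : F.obj a = G.obj a, α.toNatTrans.app a = eqToHom h := by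
    intro a
    haveI := hdisc (𝒳.p.obj a)
    haveI : 𝒴.p.IsHomLift (𝟙 (𝒳.p.obj a)) (α.toNatTrans.app a) := α.isHomLift' a
    let f := Functor.Fiber.homMk 𝒴.p (𝒳.p.obj a) (α.toNatTrans.app a)
    have h1 := IsDiscrete.eq_of_hom f
    have h2 : f = eqToHom h1 := Subsingleton.elim _ _
    have h3 := congrArg (Functor.Fiber.fiberInclusion.map) h2
    rw [Functor.Fiber.fiberInclusion_homMk, eqToHom_map] at h3
    exact ⟨congrArg Functor.Fiber.fiberInclusion.obj h1, h3⟩
  choose hobj happ using key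
  have hFG : F.toFunctor = G.toFunctor := by
    refine Functor.ext hobj (fun a b φ => ?_)
    have := α.toNatTrans.naturality φ
    rw [happ a, happ b] at this
    rw [← Category.assoc, ← this]
    simp
  obtain ⟨F', wF⟩ := F
  obtain ⟨G', wG⟩ := G
  simp only at hFG
  subst hFG
  refine ⟨rfl, ?_⟩
  apply BasedNatTrans.ext
  ext a
  rw [happ a]
  simp

end Groth.Agent.S6408
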