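import Groth.Statements.S6417
import Mathlib.Tactic

set_option autoImplicit false
open CategoryTheory CategoryTheory.Limits
universe v₁ u₁ v₂ u₂
open FibCat

namespace Groth.Agent.S6417

open Functor in
/-- For `p : 𝒮 ⥤ C`, a strongly cartesian `φ : x ⟶ y`, any `ψ : z ⟶ y`, and a strongly cartesian `a : w
⟶ z` lying over the second projection of `p x ×_{p y} p z`, the object `w` is a fibre product `x ×_y
z`: there is `b : w ⟶ x` over the first projection with `(b, a)` a pullback square. -/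
theorem result {𝒮 : Type u₁} [Category.{v₁} 𝒮] {C : Type u₂} [Category.{v₂} C] (p : 𝒮 ⥤ C) {x y z w : 𝒮} (φ : x ⟶ y) (ψ : z ⟶ y)
    [p.IsStronglyCartesian (p.map φ) φ] [HasPullback (p.map φ) (p.map ψ)] (a : w ⟶ z)
    [p.IsStronglyCartesian (pullback.snd (p.map φ) (p.map ψ)) a] :
    ∃ b : w ⟶ x, p.IsHomLift (pullback.fst (p.map φ) (p.map ψ)) b ∧ IsPullback b a φ ψ := by
  have hw : p.obj w = pullback (p.map φ) (p.map ψ) :=
    IsHomLift.domain_eq p (pullback.snd (p.map φ) (p.map ψ)) a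
  have hpa : p.map a = eqToHom hw ≫ pullback.snd (p.map φ) (p.map ψ) := by
    have := IsHomLift.fac' p (pullback.snd (p.map φ) (p.map ψ)) a
    simpa using this
  have inst1 : p.IsHomLift (pullback.fst (p.map φ) (p.map ψ) ≫ p.map φ) (a ≫ ψ) := by
    rw [pullback.condition]
    infer_instance
  let b : w ⟶ x := IsStronglyCartesian.map p (p.map φ) φ
    (g := pullback.fst (p.map φ) (p.map ψ)) rfl (a ≫ ψ)
  have hb1 : p.IsHomLift (pullback.fst (p.map φ) (p.map ψ)) b :=
    IsStronglyCartesian.map_isHomLift p (p.map φ) φ rfl (a ≫ ψ)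
  have hb2 : b ≫ φ = a ≫ ψ := IsStronglyCartesian.fac p (p.map φ) φ rfl (a ≫ ψ)
  have hpb : p.map b = eqToHom hw ≫ pullback.fst (p.map φ) (p.map ψ) := by
    have := IsHomLift.fac' p (pullback.fst (p.map φ) (p.map ψ)) b
    simpa using this
  have key : ∀ s : PullbackCone φ ψ, ∃! l : s.pt ⟶ w, l ≫ b = s.fst ∧ l ≫ a = s.snd := by
    intro s
    let g : p.obj s.pt ⟶ pullback (p.map φ) (p.map ψ) :=
      pullback.lift (p.map s.fst) (p.map s.snd) (by rw [← p.map_comp, ← p.map_comp, s.condition])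
    have hg2 : p.map s.snd = g ≫ pullback.snd (p.map φ) (p.map ψ) := (pullback.lift_snd _ _ _).symm
    have hg1 : g ≫ pullback.fst (p.map φ) (p.map ψ) = p.map s.fst := pullback.lift_fst _ _ _
    let l : s.pt ⟶ w := IsStronglyCartesian.map p (pullback.snd (p.map φ) (p.map ψ)) a hg2 s.snd
    have hl1 : p.IsHomLift g l := IsStronglyCartesian.map_isHomLift p _ a hg2 s.snd
    have hl2 : l ≫ a = s.snd := IsStronglyCartesian.fac p _ a hg2 s.snd
    have hlb : l ≫ b = s.fst := by
      have i1 : p.IsHomLift (p.map s.fst) (l ≫ b) := by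
        rw [← hg1]
        infer_instance
      apply IsStronglyCartesian.ext p (p.map φ) φ (p.map s.fst)
      rw [Category.assoc, hb2, ← Category.assoc, hl2, s.condition]
    refine ⟨l, ⟨hlb, hl2⟩, ?_⟩
    rintro m ⟨hm1, hm2⟩
    have hgm : g = p.map m ≫ eqToHom hw := by
      apply pullback.hom_ext
      · rw [hg1, Category.assoc, ← hpb, ← p.map_comp, hm1]
      · rw [← hg2, Category.assoc, ← hpa, ← p.map_comp, hm2]
    have i2 : p.IsHomLift g m := by
      rw [hgm]
      exact IsHomLift.of_fac' p _ m rfl hw (by simp)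
    exact IsStronglyCartesian.map_uniq p _ a hg2 s.snd m hm2
  refine ⟨b, hb1, ⟨⟨hb2⟩, ⟨PullbackCone.IsLimit.mk _ (fun s => (key s).choose)
    (fun s => (key s).choose_spec.1.1) (fun s => (key s).choose_spec.1.2)
    (fun s m h1 h2 => (key s).choose_spec.2 m ⟨h1, h2⟩)⟩⟩⟩

end Groth.Agent.S6417
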