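import Groth.Statements.S6418

set_option autoImplicit false
open CategoryTheory
universe v₁ u₁ v₂ u₂
open FibCat

namespace Groth.Agent.S6418


section aux
variable {𝒮 : Type u₁} [Category.{v₁} 𝒮] {C : Type u₂} [Category.{v₂} C] {U : C} (p' : 𝒮 ⥤ Over U)

lemma key {a b : 𝒮} (φ : b ⟶ a)
    [(p' ⋙ Over.forget U).IsStronglyCartesian ((p' ⋙ Over.forget U).map φ) φ] :
    p'.IsStronglyCartesian (p'.map φ) φ where
  universal_property' := by
    intro a' g φ' hφ'
    have e : g ≫ p'.map φ = p'.map φ' := IsHomLift.eq_of_isHomLift p' _ φ'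
    obtain ⟨gl, hgl⟩ : ∃ gl : (p' ⋙ Over.forget U).obj a' ⟶ (p' ⋙ Over.forget U).obj b,
      gl = g.left := ⟨_, rfl⟩
    have e' : gl ≫ (p' ⋙ Over.forget U).map φ = (p' ⋙ Over.forget U).map φ' := by
      have := congrArg CommaMorphism.left e
      rw [hgl]
      simpa using this
    have : (p' ⋙ Over.forget U).IsHomLift (gl ≫ (p' ⋙ Over.forget U).map φ) φ' := by
      rw [e']
      exact IsHomLift.map (p' ⋙ Over.forget U) φ'
    obtain ⟨χ, ⟨hχ1, hχ2⟩, hχ3⟩ := Functor.IsStronglyCartesian.universal_property'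
      (p := p' ⋙ Over.forget U) (f := (p' ⋙ Over.forget U).map φ) (φ := φ)
      (a' := a') gl φ'
    refine ⟨χ, ⟨?_, hχ2⟩, ?_⟩
    · have h1 : gl = (p' ⋙ Over.forget U).map χ :=
        IsHomLift.eq_of_isHomLift (p' ⋙ Over.forget U) gl χ
      have h2 : g = p'.map χ := by
        ext
        rw [← hgl]
        exact h1
      rw [h2]
      infer_instance
    · rintro χ' ⟨h1, h2⟩
      apply hχ3
      refine ⟨?_, h2⟩
      have h3 : g = p'.map χ' := IsHomLift.eq_of_isHomLift p' g χ'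
      have h4 : gl = (p' ⋙ Over.forget U).map χ' := by
        rw [hgl, h3]
        rfl
      rw [h4]
      exact IsHomLift.map (p' ⋙ Over.forget U) χ'

end aux

/-- If `p' : 𝒮 ⥤ C/U` composed with the forgetful functor `C/U ⥤ C` is a fibred category, then so is
`p'`. -/
theorem result {𝒮 : Type u₁} [Category.{v₁} 𝒮] {C : Type u₂} [Category.{v₂} C] {U : C} (p' : 𝒮 ⥤ Over U) [(p' ⋙ Over.forget U).IsFibered] : p'.IsFibered := by
  apply Functor.IsFibered.of_exists_isStronglyCartesian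
  intro a R f
  obtain ⟨Rl, ⟨⟨⟩⟩, Rh⟩ := R
  obtain ⟨fl, hfl⟩ : ∃ fl : Rl ⟶ (p' ⋙ Over.forget U).obj a, fl = f.left := ⟨_, rfl⟩
  obtain ⟨b, φ, hφ⟩ := Functor.IsPreFibered.exists_isCartesian' (p := p' ⋙ Over.forget U) (a := a)
    (R := Rl) fl
  have hφ' : (p' ⋙ Over.forget U).IsStronglyCartesian fl φ :=
    Functor.IsFibered.isStronglyCartesian_of_isCartesian (p' ⋙ Over.forget U) fl φ
  obtain rfl : (p' ⋙ Over.forget U).obj b = Rl := IsHomLift.domain_eq (p' ⋙ Over.forget U) fl φ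
  have h2 : fl = (p' ⋙ Over.forget U).map φ :=
    IsHomLift.eq_of_isHomLift (p' ⋙ Over.forget U) fl φ
  subst h2
  obtain rfl : Rh = (p'.obj b).hom := by
    have w1 := Over.w f
    have w2 := Over.w (p'.map φ)
    rw [← hfl] at w1
    exact w1.symm.trans w2
  have h3 : f = p'.map φ := by
    ext
    exact hfl.symm
  subst h3
  exact ⟨b, φ, key p' φ⟩

end Groth.Agent.S6418
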