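import Groth.Statements.S6419
import Groth.Agent.S6418

set_option autoImplicit false
open CategoryTheory
universe v₁ u₁ v₂ u₂
open FibCat

namespace Groth.Agent.S6419

/-- If `p' : 𝒮 ⥤ C/U` composed with the forgetful functor `C/U ⥤ C` is fibred in groupoids, then so is
`p'`. -/
theorem result {𝒮 : Type u₁} [Category.{v₁} 𝒮] {C : Type u₂} [Category.{v₂} C] {U : C} (p' : 𝒮 ⥤ Over U) (h : FibCat.IsFibGrpd (p' ⋙ Over.forget U)) : FibCat.IsFibGrpd p' := by
  constructor
  · intro x V f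
    obtain ⟨Vl, ⟨⟨⟩⟩, Vh⟩ := V
    obtain ⟨fl, hfl⟩ : ∃ fl : Vl ⟶ (p' ⋙ Over.forget U).obj x, fl = f.left := ⟨_, rfl⟩
    obtain ⟨y, φ, hφ⟩ := h.exists_lift (x := x) fl
    obtain rfl : (p' ⋙ Over.forget U).obj y = Vl := IsHomLift.domain_eq (p' ⋙ Over.forget U) fl φ
    have h2 : fl = (p' ⋙ Over.forget U).map φ :=
      IsHomLift.eq_of_isHomLift (p' ⋙ Over.forget U) fl φ
    subst h2
    obtain rfl : Vh = (p'.obj y).hom := by
      have w1 := Over.w f
      have w2 := Over.w (p'.map φ)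
      rw [← hfl] at w1
      exact w1.symm.trans w2
    have h3 : f = p'.map φ := by
      ext
      exact hfl.symm
    subst h3
    exact ⟨y, φ, IsHomLift.map p' φ⟩
  · intro y x φ
    haveI := h.isStronglyCartesian φ
    exact Groth.Agent.S6418.key p' φ

end Groth.Agent.S6419
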