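import Groth.Statements.S6421
import Mathlib.Tactic
import Groth.Agent.S6420

set_option autoImplicit false
open CategoryTheory CategoryTheory.Limits
universe v u
open FibCat

namespace Groth.Agent.S6421

section
variable {X Y Z A B C : Type u} [Category.{v} X] [Category.{v} Y] [Category.{v} Z] [Category.{v} A]
  [Category.{v} B] [Category.{v} C] {H : X ⥤ Z} {I : Y ⥤ Z} {F : A ⥤ C} {G : B ⥤ C}
  (ψ : CatCospanTransform H I F G)

theorem map_obj_iso_hom (x : CategoricalPullback H I) :
    ((FibCat.categoricalPullbackMap ψ).obj x).iso.hom =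
      ψ.squareLeft.iso.inv.app x.fst ≫ ψ.base.map x.iso.hom ≫
        ψ.squareRight.iso.hom.app x.snd := by
  simp [FibCat.categoricalPullbackMap]
  rfl

theorem full_of [ψ.left.Full] [ψ.left.Faithful] [ψ.right.Full] [ψ.right.Faithful]
    [ψ.base.Faithful] : (FibCat.categoricalPullbackMap ψ).Full := by
  constructor
  intro x y h
  have hw := h.w
  rw [map_obj_iso_hom, map_obj_iso_hom] at hw
  obtain ⟨f₁, hf₁⟩ : ∃ f₁ : x.fst ⟶ y.fst, ψ.left.map f₁ = h.fst := ⟨ψ.left.preimage h.fst,
    ψ.left.map_preimage h.fst⟩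
  obtain ⟨f₂, hf₂⟩ : ∃ f₂ : x.snd ⟶ y.snd, ψ.right.map f₂ = h.snd := ⟨ψ.right.preimage h.snd,
    ψ.right.map_preimage h.snd⟩
  have n1 : F.map (ψ.left.map f₁) ≫ ψ.squareLeft.iso.inv.app y.fst =
      ψ.squareLeft.iso.inv.app x.fst ≫ ψ.base.map (H.map f₁) :=
    ψ.squareLeft.iso.inv.naturality f₁
  have n2 : ψ.base.map (I.map f₂) ≫ ψ.squareRight.iso.hom.app y.snd =
      ψ.squareRight.iso.hom.app x.snd ≫ G.map (ψ.right.map f₂) :=
    ψ.squareRight.iso.hom.naturality f₂
  have w : H.map f₁ ≫ y.iso.hom = x.iso.hom ≫ I.map f₂ := by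
    apply ψ.base.map_injective
    simp only [Functor.map_comp]
    rw [← hf₁, ← hf₂] at hw
    have hw2 : ψ.squareLeft.iso.inv.app x.fst ≫
        (ψ.base.map (H.map f₁) ≫ ψ.base.map y.iso.hom) ≫
          ψ.squareRight.iso.hom.app y.snd =
        ψ.squareLeft.iso.inv.app x.fst ≫
        (ψ.base.map x.iso.hom ≫ ψ.base.map (I.map f₂)) ≫
          ψ.squareRight.iso.hom.app y.snd := by
      calc _ = (ψ.squareLeft.iso.inv.app x.fst ≫ ψ.base.map (H.map f₁)) ≫
              ψ.base.map y.iso.hom ≫ ψ.squareRight.iso.hom.app y.snd := by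
            simp only [Category.assoc]
        _ = (F.map (ψ.left.map f₁) ≫ ψ.squareLeft.iso.inv.app y.fst) ≫
              ψ.base.map y.iso.hom ≫ ψ.squareRight.iso.hom.app y.snd := by rw [n1]
        _ = (ψ.squareLeft.iso.inv.app x.fst ≫ ψ.base.map x.iso.hom ≫
              ψ.squareRight.iso.hom.app x.snd) ≫ G.map (ψ.right.map f₂) := by
            rw [Category.assoc]
            exact hw
        _ = ψ.squareLeft.iso.inv.app x.fst ≫ ψ.base.map x.iso.hom ≫
              (ψ.squareRight.iso.hom.app x.snd ≫ G.map (ψ.right.map f₂)) := by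
            simp only [Category.assoc]
        _ = ψ.squareLeft.iso.inv.app x.fst ≫ ψ.base.map x.iso.hom ≫
              (ψ.base.map (I.map f₂) ≫ ψ.squareRight.iso.hom.app y.snd) := by rw [n2]
        _ = _ := by simp only [Category.assoc]
    have hw3 := (cancel_epi _).mp hw2
    exact (cancel_mono _).mp hw3
  exact ⟨⟨f₁, f₂, w⟩, by
    apply CategoricalPullback.hom_ext
    · exact hf₁
    · exact hf₂⟩

end


/-- For a 2-commutative morphism of cospans of categories whose outer functors `X ⥤ A`, `Y ⥤ B` are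
fully faithful and whose middle functor `Z ⥤ C` is faithful, the induced functor `X ×_Z Y ⥤ A ×_C B`
is fully faithful. -/
theorem result {X Y Z A B C : Type u} [Category.{v} X] [Category.{v} Y] [Category.{v} Z] [Category.{v} A] [Category.{v} B] [Category.{v} C] {H : X ⥤ Z} {I : Y ⥤ Z} {F : A ⥤ C} {G : B ⥤ C} (ψ : CatCospanTransform H I F G) [ψ.left.Full] [ψ.left.Faithful] [ψ.right.Full] [ψ.right.Faithful] [ψ.base.Faithful] :
    (FibCat.categoricalPullbackMap ψ).Full ∧ (FibCat.categoricalPullbackMap ψ).Faithful := by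
  exact ⟨full_of ψ, Groth.Agent.S6420.result ψ⟩

end Groth.Agent.S6421
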