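import Groth.Statements.S6422
import Mathlib.Tactic
import Groth.Agent.S6421

set_option autoImplicit false
open CategoryTheory CategoryTheory.Limits
universe v u
open FibCat

namespace Groth.Agent.S6422

/-- For a 2-commutative morphism of cospans of categories whose outer functors `X ⥤ A`, `Y ⥤ B` are
equivalences and whose middle functor `Z ⥤ C` is fully faithful, the induced functor `X ×_Z Y ⥤ A
×_C B` is an equivalence of categories. -/
theorem result {X Y Z A B C : Type u} [Category.{v} X] [Category.{v} Y] [Category.{v} Z] [Category.{v} A] [Category.{v} B] [Category.{v} C] {H : X ⥤ Z} {I : Y ⥤ Z} {F : A ⥤ C} {G : B ⥤ C} (ψ : CatCospanTransform H I F G) [ψ.left.IsEquivalence] [ψ.right.IsEquivalence] [ψ.base.Full] [ψ.base.Faithful] :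
    (FibCat.categoricalPullbackMap ψ).IsEquivalence := by
  haveI : (FibCat.categoricalPullbackMap ψ).Full := Groth.Agent.S6421.full_of ψ
  haveI : (FibCat.categoricalPullbackMap ψ).Faithful := Groth.Agent.S6420.result ψ
  haveI : (FibCat.categoricalPullbackMap ψ).EssSurj := by
    constructor
    intro t
    obtain ⟨a, b, γ⟩ := t
    let x₁ : X := ψ.left.objPreimage a
    let e₁ : ψ.left.obj x₁ ≅ a := ψ.left.objObjPreimageIso a
    let y₁ : Y := ψ.right.objPreimage b
    let e₂ : ψ.right.obj y₁ ≅ b := ψ.right.objObjPreimageIso b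
    let δ : ψ.base.obj (H.obj x₁) ≅ ψ.base.obj (I.obj y₁) :=
      ψ.squareLeft.iso.app x₁ ≪≫ F.mapIso e₁ ≪≫ γ ≪≫ (G.mapIso e₂).symm ≪≫
        (ψ.squareRight.iso.app y₁).symm
    let φ : H.obj x₁ ≅ I.obj y₁ := ψ.base.preimageIso δ
    refine ⟨⟨x₁, y₁, φ⟩, ⟨CategoricalPullback.mkIso e₁ e₂ ?_⟩⟩
    rw [Groth.Agent.S6421.map_obj_iso_hom]
    have hφ : ψ.base.map φ.hom = δ.hom := by
      simp [φ]
    change F.map e₁.hom ≫ γ.hom = (ψ.squareLeft.iso.inv.app x₁ ≫ ψ.base.map φ.hom ≫
      ψ.squareRight.iso.hom.app y₁) ≫ G.map e₂.hom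
    rw [hφ]
    simp [δ]
  exact { }

end Groth.Agent.S6422
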