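import Groth.Statements.S6423
import Mathlib.Tactic

set_option autoImplicit false
open CategoryTheory CategoryTheory.Limits
universe v u
open CatLim

namespace Groth.Agent.S6423

section
variable {C : Type u} [Category.{v} C] {J : Type} [SmallCategory J]

/-- A "good" partial cone over the object set `S`: jointly monic projections through which every
cone factors. -/
def Good (F : J ⥤ C) (S : Set J) : Prop :=
  ∃ (P : C) (π : ∀ j, j ∈ S → (P ⟶ F.obj j)),
    (∀ (T : C) (u v : T ⟶ P), (∀ j hj, u ≫ π j hj = v ≫ π j hj) → u = v) ∧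
    (∀ c : Cone F, ∃ u : c.pt ⟶ P, ∀ j hj, u ≫ π j hj = c.π.app j)

lemma good_singleton (F : J ⥤ C) (j₀ : J) : Good F {j₀} := by
  refine ⟨F.obj j₀, fun j hj => eqToHom (by rw [Set.mem_singleton_iff.mp hj]), ?_, ?_⟩
  · intro T u v h
    simpa using h j₀ rfl
  · intro c
    refine ⟨c.π.app j₀, ?_⟩
    intro j hj
    obtain rfl := Set.mem_singleton_iff.mp hj
    simp

open Classical in
lemma good_insert_of_hom_to [HasPullbacks C] (F : J ⥤ C) (S : Set J) (h : Good F S) {j j' : J}
    (hj : j ∈ S) (a : j' ⟶ j) : Good F (insert j' S) := by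
  obtain ⟨P, π, hmono, hfac⟩ := h
  by_cases hj' : j' ∈ S
  · rw [Set.insert_eq_of_mem hj']
    exact ⟨P, π, hmono, hfac⟩
  refine ⟨pullback (π j hj) (F.map a), fun i hi =>
    if hi' : i = j' then pullback.snd _ _ ≫ eqToHom (by rw [hi'])
    else pullback.fst _ _ ≫ π i (Set.mem_of_mem_insert_of_ne hi hi'), ?_, ?_⟩
  · intro T u v huv
    apply pullback.hom_ext
    · apply hmono
      intro i hi
      have hi' : i ≠ j' := fun h => hj' (h ▸ hi)
      have := huv i (Set.mem_insert_of_mem _ hi)
      simpa [dif_neg hi'] using this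
    · have := huv j' (Set.mem_insert _ _)
      simpa using this
  · intro c
    obtain ⟨u, hu⟩ := hfac c
    refine ⟨pullback.lift u (c.π.app j') (by rw [hu j hj, c.w]), ?_⟩
    intro i hi
    by_cases hi' : i = j'
    · subst hi'
      simp [pullback.lift_snd]
    · simp only [dif_neg hi']
      rw [pullback.lift_fst_assoc, hu]

open Classical in
lemma good_insert_of_hom_from (F : J ⥤ C) (S : Set J) (h : Good F S) {j j' : J}
    (hj : j ∈ S) (a : j ⟶ j') : Good F (insert j' S) := by
  obtain ⟨P, π, hmono, hfac⟩ := h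
  by_cases hj' : j' ∈ S
  · rw [Set.insert_eq_of_mem hj']
    exact ⟨P, π, hmono, hfac⟩
  refine ⟨P, fun i hi =>
    if hi' : i = j' then π j hj ≫ F.map a ≫ eqToHom (by rw [hi'])
    else π i (Set.mem_of_mem_insert_of_ne hi hi'), ?_, ?_⟩
  · intro T u v huv
    apply hmono
    intro i hi
    have hi' : i ≠ j' := fun h => hj' (h ▸ hi)
    have := huv i (Set.mem_insert_of_mem _ hi)
    simpa [dif_neg hi'] using this
  · intro c
    obtain ⟨u, hu⟩ := hfac c
    refine ⟨u, ?_⟩
    intro i hi
    by_cases hi' : i = j'
    · subst hi'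
      simp [reassoc_of% (hu j hj)]
    · simp [dif_neg hi', hu]

lemma good_univ [HasPullbacks C] [Finite J] [IsConnected J] (F : J ⥤ C) : Good F Set.univ := by
  obtain ⟨j₀⟩ : Nonempty J := inferInstance
  obtain ⟨S, hS, hmax⟩ := Finite.exists_le_maximal (p := Good F) (good_singleton F j₀)
  have hall : ∀ j, j ∈ S := by
    apply induct_on_objects S (hS (Set.mem_singleton j₀))
    intro j₁ j₂ a
    constructor
    · intro h1
      have := hmax.2 (good_insert_of_hom_from F S hmax.1 h1 a) (Set.subset_insert _ _)
      exact this (Set.mem_insert _ _)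
    · intro h2
      have := hmax.2 (good_insert_of_hom_to F S hmax.1 h2 a) (Set.subset_insert _ _)
      exact this (Set.mem_insert _ _)
  have : S = Set.univ := Set.eq_univ_of_forall hall
  rw [← this]
  exact hmax.1

/-- Iterated equalizers. -/
lemma exists_joint_equalizer [HasEqualizers C] {ι : Type*} (P : C) (X : ι → C)
    (f g : ∀ k, P ⟶ X k) (K : Finset ι) :
    ∃ (E : C) (e : E ⟶ P), Mono e ∧ (∀ k ∈ K, e ≫ f k = e ≫ g k) ∧
      ∀ (T : C) (t : T ⟶ P), (∀ k ∈ K, t ≫ f k = t ≫ g k) → ∃ u : T ⟶ E, u ≫ e = t := by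
  classical
  induction K using Finset.induction_on with
  | empty => exact ⟨P, 𝟙 P, inferInstance, by simp, fun T t _ => ⟨t, by simp⟩⟩
  | insert k K hk ih =>
    obtain ⟨E, e, he, heq, huniv⟩ := ih
    refine ⟨equalizer (e ≫ f k) (e ≫ g k), equalizer.ι _ _ ≫ e, mono_comp _ _, ?_, ?_⟩
    · intro l hl
      rcases Finset.mem_insert.mp hl with rfl | hl
      · simpa using equalizer.condition (e ≫ f l) (e ≫ g l)
      · simp [heq l hl]
    · intro T t ht
      obtain ⟨u, hu⟩ := huniv T t (fun l hl => ht l (Finset.mem_insert_of_mem hl))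
      have h2 := ht k (Finset.mem_insert_self _ _)
      rw [← hu, Category.assoc, Category.assoc] at h2
      exact ⟨equalizer.lift u h2, by simp [hu]⟩

end

/-- (2) ⇒ (1): a category with equalizers and fibre products has all finite connected limits. -/
theorem result {C : Type u} [Category.{v} C] [HasEqualizers C] [HasPullbacks C]
    (J : Type) [SmallCategory J] [FinCategory J] [IsConnected J] : HasLimitsOfShape J C := by
  classical
  constructor
  intro F
  obtain ⟨P, π, hmono, hfac⟩ := good_univ F
  obtain ⟨E, e, he, heq, huniv⟩ := exists_joint_equalizer P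
    (fun k : (Σ j j' : J, j ⟶ j') => F.obj k.2.1)
    (fun k => π k.1 (Set.mem_univ _) ≫ F.map k.2.2) (fun k => π k.2.1 (Set.mem_univ _)) Finset.univ
  let c : Cone F :=
    { pt := E
      π :=
        { app := fun j => e ≫ π j (Set.mem_univ _)
          naturality := by
            intro j j' a
            have := heq ⟨j, j', a⟩ (Finset.mem_univ _)
            simpa using this.symm } }
  refine HasLimit.mk ⟨c, ?_⟩
  refine
    { lift := fun s => (huniv s.pt (hfac s).choose (by
        intro k _
        have h := (hfac s).choose_spec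
        rw [reassoc_of% (h k.1 (Set.mem_univ _)), h k.2.1 (Set.mem_univ _), s.w])).choose
      fac := ?_
      uniq := ?_ }
  · intro s j
    have h1 := (huniv s.pt (hfac s).choose (by
        intro k _
        have h := (hfac s).choose_spec
        rw [reassoc_of% (h k.1 (Set.mem_univ _)), h k.2.1 (Set.mem_univ _), s.w])).choose_spec
    have h := (hfac s).choose_spec
    dsimp only [c]
    rw [reassoc_of% h1, h j (Set.mem_univ _)]
  · intro s m hm
    have h1 := (huniv s.pt (hfac s).choose (by
        intro k _
        have h := (hfac s).choose_spec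
        rw [reassoc_of% (h k.1 (Set.mem_univ _)), h k.2.1 (Set.mem_univ _), s.w])).choose_spec
    have h := (hfac s).choose_spec
    rw [← cancel_mono e]
    apply hmono
    intro j hj
    rw [h1, h j hj, Category.assoc]
    exact hm j

end Groth.Agent.S6423
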