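import Groth.Statements.S6424
import Mathlib.CategoryTheory.Limits.Constructions.FiniteProductsOfBinaryProducts
import Mathlib.CategoryTheory.Limits.Constructions.LimitsOfProductsAndEqualizers

set_option autoImplicit false
open CategoryTheory CategoryTheory.Limits
universe v u
open CatLim

namespace Groth.Agent.S6424


section aux
variable {C : Type u} [Category.{v} C] [HasBinaryProducts C]

theorem hasProduct_fin_succ : ∀ (n : ℕ) (f : Fin (n + 1) → C), HasProduct f
  | 0 => fun f => by
    have h0 : ∀ i : Fin (0 + 1), i = 0 := fun i => Fin.ext (by have := i.isLt; omega)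
    refine HasLimit.mk ⟨Fan.mk (f 0) (fun i => eqToHom (by rw [h0 i])), ?_⟩
    refine Fan.IsLimit.mk _ (fun s => s.proj 0) ?_ ?_
    · intro s i
      obtain rfl : i = 0 := h0 i
      simp
    · intro s m hm
      have := hm 0
      simpa using this
  | n + 1 => fun f =>
    have := hasProduct_fin_succ n
    HasLimit.mk ⟨_, extendFanIsLimit f (limit.isLimit _) (limit.isLimit _)⟩

theorem hasProduct_of_finite_nonempty {ι : Type} [Finite ι] [Nonempty ι] (f : ι → C) :
    HasProduct f := by
  obtain ⟨n, ⟨e⟩⟩ := Finite.exists_equiv_fin ι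
  obtain ⟨m, rfl⟩ : ∃ m, n = m + 1 := by
    cases n with
    | zero => exact (IsEmpty.false (e (Classical.arbitrary ι))).elim
    | succ m => exact ⟨m, rfl⟩
  have := hasProduct_fin_succ m (f ∘ e.symm)
  exact hasProduct_of_equiv_of_iso (f ∘ e.symm) f e (fun i => eqToIso (by simp))

end aux

/-- (2) ⇒ (1): a category with products of pairs and equalizers has all finite nonempty limits. -/
theorem result {C : Type u} [Category.{v} C] [HasBinaryProducts C] [HasEqualizers C]
    (J : Type) [SmallCategory J] [FinCategory J] [Nonempty J] : HasLimitsOfShape J C := by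
  refine ⟨fun F => ?_⟩
  have : HasLimit (Discrete.functor F.obj) := hasProduct_of_finite_nonempty F.obj
  have : Nonempty (Σ p : J × J, p.1 ⟶ p.2) :=
    ⟨⟨(Classical.arbitrary J, Classical.arbitrary J), 𝟙 _⟩⟩
  have : Finite (Σ p : J × J, p.1 ⟶ p.2) := inferInstance
  have : HasLimit (Discrete.functor fun f : Σ p : J × J, p.1 ⟶ p.2 => F.obj f.1.2) :=
    hasProduct_of_finite_nonempty _
  exact hasLimit_of_equalizer_and_product F

end Groth.Agent.S6424
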