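import Groth.Statements.S6425
import Mathlib

set_option autoImplicit false
open CategoryTheory CategoryTheory.Limits
universe v
open CatLim

namespace Groth.Agent.S6425

theorem prod_ext_type {A B : Type v} (z1 z2 : (A ⨯ B : Type v))
    (h1 : (prod.fst : A ⨯ B ⟶ A) z1 = (prod.fst : A ⨯ B ⟶ A) z2)
    (h2 : (prod.snd : A ⨯ B ⟶ B) z1 = (prod.snd : A ⨯ B ⟶ B) z2) : z1 = z2 := by
  apply Types.limit_ext
  rintro ⟨_ | _⟩
  · exact h1
  · exact h2

theorem exists_prod_type {A B : Type v} (a : A) (b : B) : ∃ z : (A ⨯ B : Type v),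
    (prod.fst : A ⨯ B ⟶ A) z = a ∧ (prod.snd : A ⨯ B ⟶ B) z = b := by
  refine ⟨(Types.binaryProductIso A B).inv ((a, b) : A × B), ?_, ?_⟩
  · have h2 := ConcreteCategory.congr_hom (Types.binaryProductIso_inv_comp_fst A B) ((a, b) : A × B)
    simp
  · have h2 := ConcreteCategory.congr_hom (Types.binaryProductIso_inv_comp_snd A B) ((a, b) : A × B)
    simp


/-- Over an index category in which any two objects map to a common object, the comparison map `colim (M
× N) → colim M × colim N` for diagrams of sets is surjective. -/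
theorem result {I : Type v} [SmallCategory I]
    (hI : ∀ x y : I, ∃ (z : I) (_ : x ⟶ z) (_ : y ⟶ z), True) (M N : I ⥤ Type v) :
    Function.Surjective (prodComparison (colim : (I ⥤ Type v) ⥤ Type v) M N) := by
  intro z
  obtain ⟨x, m, hm⟩ := Types.jointly_surjective_of_isColimit (colimit.isColimit M)
    ((prod.fst : colim.obj M ⨯ colim.obj N ⟶ colim.obj M) z)
  obtain ⟨y, n, hn⟩ := Types.jointly_surjective_of_isColimit (colimit.isColimit N)
    ((prod.snd : colim.obj M ⨯ colim.obj N ⟶ colim.obj N) z)
  obtain ⟨w, a, b, -⟩ := hI x y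
  let ev := (evaluation I (Type v)).obj w
  obtain ⟨q0, hq01, hq02⟩ := exists_prod_type (M.map a m) (N.map b n)
  let q : (M ⨯ N).obj w := (PreservesLimitPair.iso ev M N).inv q0
  have hq1 : (prod.fst : M ⨯ N ⟶ M).app w q = M.map a m := by
    have h1 := ConcreteCategory.congr_hom (PreservesLimitPair.iso_inv_fst ev M N) q0
    simp only [CategoryTheory.comp_apply] at h1
    exact h1.trans hq01
  have hq2 : (prod.snd : M ⨯ N ⟶ N).app w q = N.map b n := by
    have h1 := ConcreteCategory.congr_hom (PreservesLimitPair.iso_inv_snd ev M N) q0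
    simp only [CategoryTheory.comp_apply] at h1
    exact h1.trans hq02
  refine ⟨colimit.ι (M ⨯ N) w q, ?_⟩
  apply prod_ext_type
  · have h3 := ConcreteCategory.congr_hom (prodComparison_fst (colim : (I ⥤ Type v) ⥤ Type v) (A := M) (B := N)) (colimit.ι (M ⨯ N) w q)
    simp only [CategoryTheory.comp_apply] at h3
    rw [h3, ← hm]
    have h4 := ConcreteCategory.congr_hom (colimit.ι_map (prod.fst : M ⨯ N ⟶ M) w) q
    simp only [CategoryTheory.comp_apply] at h4
    rw [h4, hq1]
    have h5 := ConcreteCategory.congr_hom (colimit.w M a) m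
    simp only [CategoryTheory.comp_apply] at h5
    exact h5
  · have h3 := ConcreteCategory.congr_hom (prodComparison_snd (colim : (I ⥤ Type v) ⥤ Type v) (A := M) (B := N)) (colimit.ι (M ⨯ N) w q)
    simp only [CategoryTheory.comp_apply] at h3
    rw [h3, ← hn]
    have h4 := ConcreteCategory.congr_hom (colimit.ι_map (prod.snd : M ⨯ N ⟶ N) w) q
    simp only [CategoryTheory.comp_apply] at h4
    rw [h4, hq2]
    have h5 := ConcreteCategory.congr_hom (colimit.w N b) n
    simp only [CategoryTheory.comp_apply] at h5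
    exact h5

end Groth.Agent.S6425
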