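import Groth.Statements.S6426
import Mathlib

set_option autoImplicit false
open CategoryTheory CategoryTheory.Limits
universe v
open CatLim

namespace Groth.Agent.S6426

/-- Over a nonempty index category in which any two objects map to a common object, the set-theoretic
colimit of a diagram of abelian groups surjects onto its colimit in abelian groups. (The published
statement does not require the index category to be nonempty; this row assumes it, because for the
empty index category the colimit of sets is empty while the colimit of abelian groups is the zero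
group.) -/
theorem result {I : Type v} [SmallCategory I] [Nonempty I]
    (hI : ∀ x y : I, ∃ (z : I) (_ : x ⟶ z) (_ : y ⟶ z), True) (M : I ⥤ AddCommGrpCat.{v}) :
    Function.Surjective (colimit.post M (forget AddCommGrpCat.{v})) := by
  have hw : ∀ {i j : I} (a : i ⟶ j) (m : M.obj i),
      colimit.ι M j (M.map a m) = colimit.ι M i m := by
    intro i j a m
    exact ConcreteCategory.congr_hom (colimit.w M a) m
  let H : AddSubgroup (colimit M : AddCommGrpCat.{v}) :=
    { carrier := {c | ∃ (i : I) (m : M.obj i), colimit.ι M i m = c}
      zero_mem' := by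
        obtain ⟨i⟩ := ‹Nonempty I›
        exact ⟨i, 0, map_zero _⟩
      add_mem' := by
        rintro _ _ ⟨i, m, rfl⟩ ⟨j, m', rfl⟩
        obtain ⟨k, a, b, -⟩ := hI i j
        refine ⟨k, M.map a m + M.map b m', ?_⟩
        rw [map_add, hw, hw]
      neg_mem' := by
        rintro _ ⟨i, m, rfl⟩
        exact ⟨i, -m, map_neg _ _⟩ }
  have hH : H = ⊤ := by
    let π : (colimit M : AddCommGrpCat.{v}) ⟶ AddCommGrpCat.of ((colimit M : AddCommGrpCat.{v}) ⧸ H) :=
      AddCommGrpCat.ofHom (QuotientAddGroup.mk' H)
    have hπ : π = 0 := by
      apply colimit.hom_ext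
      intro i
      ext m
      simp only [π, AddCommGrpCat.hom_comp, AddMonoidHom.coe_comp, Function.comp_apply,
        AddCommGrpCat.hom_ofHom, QuotientAddGroup.mk'_apply, Limits.comp_zero,
        AddCommGrpCat.hom_zero, AddMonoidHom.zero_apply]
      rw [QuotientAddGroup.eq_zero_iff]
      exact ⟨i, m, rfl⟩
    rw [eq_top_iff]
    intro c _
    have : π c = 0 := by rw [hπ]; rfl
    simpa [π, QuotientAddGroup.eq_zero_iff] using this
  intro c
  have hc : (c : (colimit M : AddCommGrpCat.{v})) ∈ H := hH ▸ AddSubgroup.mem_top _
  obtain ⟨i, m, hm⟩ := hc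
  refine ⟨colimit.ι (M ⋙ forget AddCommGrpCat.{v}) i m, ?_⟩
  have := ConcreteCategory.congr_hom (colimit.ι_post M (forget AddCommGrpCat.{v}) i) m
  simp only [CategoryTheory.comp_apply] at this
  rw [this]
  exact hm

end Groth.Agent.S6426
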