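import Groth.Statements.S6437
import Mathlib.Tactic

set_option autoImplicit false
open CategoryTheory CategoryTheory.Limits
universe v
open CatLim

namespace Groth.Agent.S6437

section
variable {I : Type v} [SmallCategory I]

lemma colim_map_ι_apply {F G : I ⥤ Type v} (α : F ⟶ G) (i : I) (x : F.obj i) :
    colim.map α (colimit.ι F i x) = colimit.ι G i (α.app i x) :=
  colimit.ι_map_apply α i x

lemma ι_eq_iff
    (h1 : ∀ ⦃w x y : I⦄ (a : w ⟶ x) (b : w ⟶ y), ∃ (z : I) (c : x ⟶ z) (d : y ⟶ z), a ≫ c = b ≫ d)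
    (M : I ⥤ Type v) {i i' : I} (y : M.obj i) (y' : M.obj i') :
    colimit.ι M i y = colimit.ι M i' y' ↔
      ∃ (t : I) (p : i ⟶ t) (q : i' ⟶ t), M.map p y = M.map q y' := by
  constructor
  · intro h
    have h' := Types.colimit_eq h
    let R : (Σ j, M.obj j) → (Σ j, M.obj j) → Prop := fun a b =>
      ∃ (t : I) (p : a.1 ⟶ t) (q : b.1 ⟶ t), M.map p a.2 = M.map q b.2
    have hR : Equivalence R := by
      refine ⟨fun a => ⟨a.1, 𝟙 _, 𝟙 _, rfl⟩, ?_, ?_⟩
      · rintro a b ⟨t, p, q, h⟩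
        exact ⟨t, q, p, h.symm⟩
      · rintro a b c ⟨t, p, q, h⟩ ⟨t', p', q', h'⟩
        obtain ⟨z, c', d', hcd⟩ := h1 q p'
        refine ⟨z, p ≫ c', q' ≫ d', ?_⟩
        rw [Functor.map_comp_apply, h, ← Functor.map_comp_apply, hcd, Functor.map_comp_apply, h',
          ← Functor.map_comp_apply]
    have hsub : ∀ a b, M.ColimitTypeRel a b → R a b := by
      rintro a b ⟨f, hf⟩
      exact ⟨b.1, f, 𝟙 _, by rw [hf, Functor.map_id_apply]⟩
    exact (hR.eqvGen_iff).mp (Relation.EqvGen.mono hsub _ _ h')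
  · rintro ⟨t, p, q, h⟩
    exact Types.colimit_sound' p q h

lemma exists_map_eq
    (h1 : ∀ ⦃w x y : I⦄ (a : w ⟶ x) (b : w ⟶ y), ∃ (z : I) (c : x ⟶ z) (d : y ⟶ z), a ≫ c = b ≫ d)
    (h2 : ∀ ⦃x y : I⦄ (a b : x ⟶ y), ∃ (z : I) (c : y ⟶ z), a ≫ c = b ≫ c)
    (M : I ⥤ Type v) {i : I} (y y' : M.obj i) (h : colimit.ι M i y = colimit.ι M i y') :
    ∃ (t : I) (u : i ⟶ t), M.map u y = M.map u y' := by
  obtain ⟨t, p, q, hpq⟩ := (ι_eq_iff h1 M y y').mp h
  obtain ⟨z, c, hc⟩ := h2 p q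
  refine ⟨z, p ≫ c, ?_⟩
  conv_rhs => rw [hc]
  rw [Functor.map_comp_apply, Functor.map_comp_apply, hpq]

lemma exists_refine
    (h1 : ∀ ⦃w x y : I⦄ (a : w ⟶ x) (b : w ⟶ y), ∃ (z : I) (c : x ⟶ z) (d : y ⟶ z), a ≫ c = b ≫ d)
    {A : Type*} (i : I) (t : A → I) (u : ∀ a, i ⟶ t a) (S : Finset A) :
    ∃ (m : I) (w : i ⟶ m), ∀ a ∈ S, ∃ r : t a ⟶ m, u a ≫ r = w := by
  classical
  induction S using Finset.induction_on with
  | empty => exact ⟨i, 𝟙 i, by simp⟩
  | insert a S ha ih =>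
    obtain ⟨m, w, hw⟩ := ih
    obtain ⟨m', c, d, hcd⟩ := h1 w (u a)
    refine ⟨m', w ≫ c, ?_⟩
    intro b hb
    rcases Finset.mem_insert.mp hb with rfl | hb
    · exact ⟨d, hcd.symm⟩
    · obtain ⟨r, hr⟩ := hw b hb
      exact ⟨r ≫ c, by rw [← Category.assoc, hr]⟩

lemma exists_upper_bound
    (h1 : ∀ ⦃w x y : I⦄ (a : w ⟶ x) (b : w ⟶ y), ∃ (z : I) (c : x ⟶ z) (d : y ⟶ z), a ≫ c = b ≫ d)
    {J : Type} [SmallCategory J] [FinCategory J] [IsConnected J] (idx : J → I)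
    (hcospan : ∀ ⦃j j' : J⦄ (_ : j ⟶ j'), ∃ (t : I), Nonempty (idx j ⟶ t) ∧ Nonempty (idx j' ⟶ t)) :
    ∃ (m : I), ∀ j, Nonempty (idx j ⟶ m) := by
  classical
  let E : I → I → Prop := fun x y => ∃ t : I, Nonempty (x ⟶ t) ∧ Nonempty (y ⟶ t)
  have hsymm : ∀ {x y}, E x y → E y x := fun ⟨t, h, h'⟩ => ⟨t, h', h⟩
  have htrans : ∀ {x y z}, E x y → E y z → E x z := by
    rintro x y z ⟨t, ⟨p⟩, ⟨q⟩⟩ ⟨t', ⟨p'⟩, ⟨q'⟩⟩
    obtain ⟨w, c, d, -⟩ := h1 q p'
    exact ⟨w, ⟨p ≫ c⟩, ⟨q' ≫ d⟩⟩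
  obtain ⟨j₀⟩ : Nonempty J := inferInstance
  have hall : ∀ j, E (idx j) (idx j₀) := by
    apply induct_on_objects {j | E (idx j) (idx j₀)} (j₀ := j₀)
    · exact ⟨idx j₀, ⟨𝟙 _⟩, ⟨𝟙 _⟩⟩
    · intro j₁ j₂ a
      constructor
      · intro h
        exact htrans (hsymm (hcospan a)) h
      · intro h
        exact htrans (hcospan a) h
  have key : ∀ S : Finset J, ∃ m : I, Nonempty (idx j₀ ⟶ m) ∧ ∀ j ∈ S, Nonempty (idx j ⟶ m) := by
    intro S
    induction S using Finset.induction_on with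
    | empty => exact ⟨idx j₀, ⟨𝟙 _⟩, by simp⟩
    | insert j S hj ih =>
      obtain ⟨m, ⟨f₀⟩, hm⟩ := ih
      obtain ⟨t, ⟨g⟩, ⟨g₀⟩⟩ := hall j
      obtain ⟨z, c, d, -⟩ := h1 f₀ g₀
      refine ⟨z, ⟨f₀ ≫ c⟩, ?_⟩
      intro j' hj'
      rcases Finset.mem_insert.mp hj' with rfl | hj'
      · exact ⟨g ≫ d⟩
      · obtain ⟨f⟩ := hm j' hj'
        exact ⟨f ≫ c⟩
  obtain ⟨m, -, hm⟩ := key Finset.univ
  exact ⟨m, fun j => hm j (Finset.mem_univ _)⟩

end

/-- Over an index category in which spans can be completed to commutative squares and parallel pairs can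
be coequalized (a disjoint union of filtered categories), colimits of sets commute with finite
connected limits. -/
theorem result {I : Type v} [SmallCategory I]
    (h1 : ∀ ⦃w x y : I⦄ (a : w ⟶ x) (b : w ⟶ y), ∃ (z : I) (c : x ⟶ z) (d : y ⟶ z), a ≫ c = b ≫ d)
    (h2 : ∀ ⦃x y : I⦄ (a b : x ⟶ y), ∃ (z : I) (c : y ⟶ z), a ≫ c = b ≫ c)
    (J : Type) [SmallCategory J] [FinCategory J] [IsConnected J] :
    PreservesLimitsOfShape J (colim : (I ⥤ Type v) ⥤ Type v) := by
  classical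
  constructor
  intro K
  apply preservesLimit_of_preserves_limit_cone (limit.isLimit K)
  apply Nonempty.some
  rw [Types.isLimit_iff]
  -- evaluation at `t` gives limit cones in `Type v`
  have ht : ∀ t : I, ∀ s ∈ (K ⋙ (evaluation I (Type v)).obj t).sections,
      ∃! x : (limit K).obj t, ∀ j, (limit.π K j).app t x = s j := fun t =>
    (Types.isLimit_iff (((evaluation I (Type v)).obj t).mapCone (limit.cone K))).mp
      ⟨isLimitOfPreserves _ (limit.isLimit K)⟩
  -- uniqueness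
  have huniq : ∀ x x' : colimit (limit K),
      (∀ j, colim.map (limit.π K j) x = colim.map (limit.π K j) x') → x = x' := by
    intro x x' hxx'
    obtain ⟨i, Z, rfl⟩ := Types.jointly_surjective' x
    obtain ⟨i', Z', rfl⟩ := Types.jointly_surjective' x'
    obtain ⟨j₀⟩ : Nonempty J := inferInstance
    have h0 := hxx' j₀
    rw [colim_map_ι_apply, colim_map_ι_apply] at h0
    obtain ⟨t₀, p₀, q₀, -⟩ := (ι_eq_iff h1 _ _ _).mp h0
    have e1 : colimit.ι (limit K) i Z = colimit.ι (limit K) t₀ ((limit K).map p₀ Z) :=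
      (colimit.w_apply (limit K) p₀ Z).symm
    have e2 : colimit.ι (limit K) i' Z' = colimit.ι (limit K) t₀ ((limit K).map q₀ Z') :=
      (colimit.w_apply (limit K) q₀ Z').symm
    rw [e1, e2] at hxx' ⊢
    generalize (limit K).map p₀ Z = Z₁ at hxx' ⊢
    generalize (limit K).map q₀ Z' = Z₂ at hxx' ⊢
    have h3 : ∀ j, ∃ (t : I) (u : t₀ ⟶ t),
        (K.obj j).map u ((limit.π K j).app t₀ Z₁) = (K.obj j).map u ((limit.π K j).app t₀ Z₂) := by
      intro j
      have := hxx' j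
      rw [colim_map_ι_apply, colim_map_ι_apply] at this
      exact exists_map_eq h1 h2 _ _ _ this
    choose t u hu using h3
    obtain ⟨n, w, hw⟩ := exists_refine h1 t₀ t u Finset.univ
    have h4 : (limit K).map w Z₁ = (limit K).map w Z₂ := by
      have hsec : (fun j => (limit.π K j).app n ((limit K).map w Z₁)) ∈
          (K ⋙ (evaluation I (Type v)).obj n).sections :=
        (Types.sectionOfCone (((evaluation I (Type v)).obj n).mapCone (limit.cone K))
          ((limit K).map w Z₁)).2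
      refine (ht n _ hsec).unique (fun j => rfl) ?_
      intro j
      obtain ⟨r, hr⟩ := hw j (Finset.mem_univ _)
      rw [NatTrans.naturality_apply, NatTrans.naturality_apply, ← hr, Functor.map_comp_apply,
        Functor.map_comp_apply, hu j]
    rw [← colimit.w_apply (limit K) w Z₁, ← colimit.w_apply (limit K) w Z₂, h4]
  intro s hs
  -- existence
  have hex : ∃ x : colimit (limit K), ∀ j, colim.map (limit.π K j) x = s j := by
    have h0 : ∀ j, ∃ (i : I) (y : (K.obj j).obj i), colimit.ι (K.obj j) i y = s j := fun j =>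
      Types.jointly_surjective' (s j)
    choose idx y hy using h0
    have hs' : ∀ ⦃j j' : J⦄ (a : j ⟶ j'), colim.map (K.map a) (s j) = s j' := fun j j' a => hs a
    have hcospan : ∀ ⦃j j' : J⦄ (_ : j ⟶ j'),
        ∃ (t : I), Nonempty (idx j ⟶ t) ∧ Nonempty (idx j' ⟶ t) := by
      intro j j' a
      have := hs' a
      rw [← hy j, ← hy j', colim_map_ι_apply] at this
      obtain ⟨t, p, q, -⟩ := (ι_eq_iff h1 _ _ _).mp this
      exact ⟨t, ⟨p⟩, ⟨q⟩⟩
    obtain ⟨m, hm⟩ := exists_upper_bound h1 idx hcospan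
    let u : ∀ j, idx j ⟶ m := fun j => (hm j).some
    let y' : ∀ j, (K.obj j).obj m := fun j => (K.obj j).map (u j) (y j)
    have hy' : ∀ j, colimit.ι (K.obj j) m (y' j) = s j := by
      intro j
      rw [← hy j]
      exact colimit.w_apply (K.obj j) (u j) (y j)
    have h3 : ∀ a : (Σ j j' : J, j ⟶ j'), ∃ (t : I) (v : m ⟶ t),
        (K.obj a.2.1).map v ((K.map a.2.2).app m (y' a.1)) = (K.obj a.2.1).map v (y' a.2.1) := by
      rintro ⟨j, j', a⟩
      apply exists_map_eq h1 h2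
      have := hs' a
      rw [← hy' j, colim_map_ι_apply] at this
      rw [this, hy' j']
    choose t v hv using h3
    obtain ⟨n, w, hw⟩ := exists_refine h1 m t v Finset.univ
    let z : ∀ j, (K.obj j).obj n := fun j => (K.obj j).map w (y' j)
    have hz : z ∈ (K ⋙ (evaluation I (Type v)).obj n).sections := by
      intro j j' a
      obtain ⟨r, hr⟩ := hw ⟨j, j', a⟩ (Finset.mem_univ _)
      have h5 := hv ⟨j, j', a⟩
      dsimp only at h5
      change (K.map a).app n ((K.obj j).map w (y' j)) = (K.obj j').map w (y' j')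
      rw [NatTrans.naturality_apply, ← hr, Functor.map_comp_apply, Functor.map_comp_apply, h5]
    obtain ⟨Z, hZ, -⟩ := ht n z hz
    refine ⟨colimit.ι (limit K) n Z, ?_⟩
    intro j
    rw [colim_map_ι_apply, hZ j, ← hy' j]
    exact colimit.w_apply (K.obj j) w (y' j)
  obtain ⟨x, hx⟩ := hex
  refine ⟨x, hx, ?_⟩
  intro x' hx'
  apply huniq
  intro j
  exact (hx' j).trans (hx j).symm

end Groth.Agent.S6437
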