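import Groth.Statements.S6427
import Groth.Agent.S6437
import Mathlib.Tactic

set_option autoImplicit false
open CategoryTheory CategoryTheory.Limits
universe v
open CatLim

namespace Groth.Agent.S6427

/-- Over an index category in which every pair of morphisms with common source can be completed to a
commutative square, colimits of sets preserve injective morphisms of diagrams. -/
theorem result {I : Type v} [SmallCategory I]
    (hI : ∀ ⦃x y z : I⦄ (f : x ⟶ y) (g : x ⟶ z), ∃ (w : I) (f' : y ⟶ w) (g' : z ⟶ w), f ≫ f' = g ≫ g')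
    {M N : I ⥤ Type v} (φ : M ⟶ N) (hφ : ∀ i, Function.Injective (φ.app i)) :
    Function.Injective (colimMap φ) := by
  intro x x' h
  obtain ⟨i, y, rfl⟩ := Types.jointly_surjective' x
  obtain ⟨i', y', rfl⟩ := Types.jointly_surjective' x'
  rw [colimit.ι_map_apply, colimit.ι_map_apply] at h
  obtain ⟨t, p, q, hpq⟩ := (Groth.Agent.S6437.ι_eq_iff hI N _ _).mp h
  rw [← NatTrans.naturality_apply, ← NatTrans.naturality_apply] at hpq
  exact (Groth.Agent.S6437.ι_eq_iff hI M _ _).mpr ⟨t, p, q, hφ t hpq⟩

end Groth.Agent.S6427
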