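import Groth.Statements.S6428
import Mathlib.Tactic

set_option autoImplicit false
open CategoryTheory CategoryTheory.Limits
universe v₁ u₁ v₂ u₂ v₃ u₃
open CatLim

namespace Groth.Agent.S6428

section
variable {I : Type u₁} [Category.{v₁} I] {I' : Type u₂} [Category.{v₂} I'] (F : I ⥤ I')

/-- A morphism out of `x'` to `S` transports the fibre over `S` into the structured arrows. -/
def G {x' S : I'} (β : x' ⟶ S) : F.Fiber S ⥤ StructuredArrow x' F where
  obj a := StructuredArrow.mk (Y := a.1) (β ≫ eqToHom a.2.symm)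
  map {a b} φ := StructuredArrow.homMk φ.1 (by
    have := φ.2
    have h := IsHomLift.fac' F (𝟙 S) φ.1
    simp [h])
  map_id a := by
    ext
    rfl
  map_comp φ ψ := by
    ext
    rfl

lemma final_of_fibers
    (h1 : ∀ x' : I', IsConnected (F.Fiber x'))
    (h2 : ∀ ⦃x' y' : I'⦄ (α' : x' ⟶ y'), ∃ (x y : I) (hx : F.obj x = x') (hy : F.obj y = y')
      (α : x ⟶ y), F.map α = eqToHom hx ≫ α' ≫ eqToHom hy.symm) : F.Final := by
  constructor
  intro x'
  have := h1 x'
  obtain ⟨a₀⟩ : Nonempty (F.Fiber x') := inferInstance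
  let B₀ : StructuredArrow x' F := (G F (𝟙 x')).obj a₀
  have : Nonempty (StructuredArrow x' F) := ⟨B₀⟩
  have key : ∀ Z : StructuredArrow x' F, Zigzag Z B₀ := by
    intro Z
    let y : I := Z.right
    let β : x' ⟶ F.obj y := Z.hom
    obtain ⟨x, y₁, hx, hy, α, hα⟩ := h2 β
    have := h1 (F.obj y)
    -- step 1: (y, β) ~ (y₁, β ≫ eqToHom)
    have z1 : Zigzag ((G F β).obj ⟨y, rfl⟩) ((G F β).obj ⟨y₁, hy⟩) :=
      zigzag_obj_of_zigzag (G F β) (isPreconnected_zigzag _ _)
    have e1 : Z ⟶ (G F β).obj ⟨y, rfl⟩ :=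
      StructuredArrow.homMk (𝟙 y) (by simp [G, β, y])
    -- step 2: (x, eqToHom) → (y₁, β ≫ eqToHom)
    have e2 : (G F (𝟙 x')).obj ⟨x, hx⟩ ⟶ (G F β).obj ⟨y₁, hy⟩ :=
      StructuredArrow.homMk α (by simp [G, hα])
    -- step 3: within the fibre over x'
    have z3 : Zigzag ((G F (𝟙 x')).obj ⟨x, hx⟩) ((G F (𝟙 x')).obj a₀) :=
      zigzag_obj_of_zigzag (G F (𝟙 x')) (isPreconnected_zigzag _ _)
    exact ((Zigzag.of_hom e1).trans z1).trans ((Zigzag.of_inv e2).trans z3)
  apply zigzag_isConnected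
  intro Z₁ Z₂
  exact (key Z₁).trans (key Z₂).symm

end

/-- If `F : I ⥤ I'` has connected fibre categories and is surjective on morphisms, then for every
diagram `M : I' ⥤ C` the colimit of `F ⋙ M` exists if and only if that of `M` does, and the
canonical comparison between them is then an isomorphism. -/
theorem result {I : Type u₁} [Category.{v₁} I] {I' : Type u₂} [Category.{v₂} I'] {C : Type u₃} [Category.{v₃} C] (F : I ⥤ I')
    (h1 : ∀ x' : I', IsConnected (F.Fiber x'))
    (h2 : ∀ ⦃x' y' : I'⦄ (α' : x' ⟶ y'), ∃ (x y : I) (hx : F.obj x = x') (hy : F.obj y = y') (α : x ⟶ y), F.map α = eqToHom hx ≫ α' ≫ eqToHom hy.symm)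
    (M : I' ⥤ C) :
    (HasColimit (F ⋙ M) ↔ HasColimit M) ∧ ∀ [HasColimit (F ⋙ M)] [HasColimit M], IsIso (colimit.pre M F) := by
  have := final_of_fibers F h1 h2
  refine ⟨⟨fun _ => Functor.Final.hasColimit_of_comp F, fun _ => inferInstance⟩, ?_⟩
  intro _ _
  infer_instance

end Groth.Agent.S6428
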