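import Groth.Statements.S6429
import Mathlib.Tactic

set_option autoImplicit false
open CategoryTheory CategoryTheory.MonoidalCategory
universe v u
open MonCat

namespace Groth.Agent.S6429

section
variable {C : Type u} [Category.{v} C] [MonoidalCategory C]

/-- The equivalence given by tensoring on the left with an invertible object. -/
def leftEquiv {X X' : C} (e₁ : X ⊗ X' ≅ 𝟙_ C) (e₂ : X' ⊗ X ≅ 𝟙_ C) : C ≌ C :=
  CategoryTheory.Equivalence.mk (tensorLeft X) (tensorLeft X')
    (NatIso.ofComponents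
      (fun Y => (λ_ Y).symm ≪≫ whiskerRightIso e₂.symm Y ≪≫ α_ X' X Y)
      (by
        intro Y Z f
        dsimp
        simp only [Category.assoc, whiskerRightIso_hom, whiskerLeftIso_hom, Iso.symm_hom]
        rw [← associator_naturality_right, ← whisker_exchange_assoc, ← leftUnitor_inv_naturality_assoc]))
    (NatIso.ofComponents
      (fun Y => (α_ X X' Y).symm ≪≫ whiskerRightIso e₁ Y ≪≫ λ_ Y)
      (by
        intro Y Z f
        dsimp
        simp only [Category.assoc, whiskerRightIso_hom, whiskerLeftIso_hom, Iso.symm_hom]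
        rw [associator_inv_naturality_right_assoc, whisker_exchange_assoc, leftUnitor_naturality]))

/-- The equivalence given by tensoring on the right with an invertible object. -/
def rightEquiv {X X' : C} (e₁ : X ⊗ X' ≅ 𝟙_ C) (e₂ : X' ⊗ X ≅ 𝟙_ C) : C ≌ C :=
  CategoryTheory.Equivalence.mk (tensorRight X) (tensorRight X')
    (NatIso.ofComponents
      (fun Y => (ρ_ Y).symm ≪≫ whiskerLeftIso Y e₁.symm ≪≫ (α_ Y X X').symm)
      (by
        intro Y Z f
        dsimp
        simp only [Category.assoc, whiskerRightIso_hom, whiskerLeftIso_hom, Iso.symm_hom]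
        rw [← associator_inv_naturality_left, whisker_exchange_assoc,
          ← rightUnitor_inv_naturality_assoc]))
    (NatIso.ofComponents
      (fun Y => α_ Y X' X ≪≫ whiskerLeftIso Y e₂ ≪≫ ρ_ Y)
      (by
        intro Y Z f
        dsimp
        simp only [Category.assoc, whiskerRightIso_hom, whiskerLeftIso_hom, Iso.symm_hom]
        rw [associator_naturality_left_assoc, ← whisker_exchange_assoc, rightUnitor_naturality]))

end

/-- An object `X` of a monoidal category is invertible (some `X'` has `X ⊗ X' ≅ 𝟙` and `X' ⊗ X ≅ 𝟙`) if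
and only if tensoring on the left by `X` is an equivalence, if and only if tensoring on the right by
`X` is an equivalence. -/
theorem result {C : Type u} [Category.{v} C] [MonoidalCategory C] (X : C) :
    ((tensorLeft X).IsEquivalence ↔ ∃ X' : C, Nonempty (X ⊗ X' ≅ 𝟙_ C) ∧ Nonempty (X' ⊗ X ≅ 𝟙_ C)) ∧
      ((tensorRight X).IsEquivalence ↔ ∃ X' : C, Nonempty (X ⊗ X' ≅ 𝟙_ C) ∧ Nonempty (X' ⊗ X ≅ 𝟙_ C)) := by
  constructor
  · constructor
    · intro h
      let X' := (tensorLeft X).objPreimage (𝟙_ C)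
      let e₁ : X ⊗ X' ≅ 𝟙_ C := (tensorLeft X).objObjPreimageIso (𝟙_ C)
      refine ⟨X', ⟨e₁⟩, ⟨(tensorLeft X).preimageIso ?_⟩⟩
      exact (α_ X X' X).symm ≪≫ whiskerRightIso e₁ X ≪≫ λ_ X ≪≫ (ρ_ X).symm
    · rintro ⟨X', ⟨e₁⟩, ⟨e₂⟩⟩
      change (leftEquiv e₁ e₂).functor.IsEquivalence
      exact (leftEquiv e₁ e₂).isEquivalence_functor
  · constructor
    · intro h
      let X' := (tensorRight X).objPreimage (𝟙_ C)
      let e₂ : X' ⊗ X ≅ 𝟙_ C := (tensorRight X).objObjPreimageIso (𝟙_ C)
      refine ⟨X', ⟨(tensorRight X).preimageIso ?_⟩, ⟨e₂⟩⟩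
      exact α_ X X' X ≪≫ whiskerLeftIso X e₂ ≪≫ ρ_ X ≪≫ (λ_ X).symm
    · rintro ⟨X', ⟨e₁⟩, ⟨e₂⟩⟩
      change (rightEquiv e₁ e₂).functor.IsEquivalence
      exact (rightEquiv e₁ e₂).isEquivalence_functor

end Groth.Agent.S6429
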