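import Mathlib.Tactic
import Groth.Agent.Lib.helper10.FiberFun
import Groth.Statements.S6430

set_option autoImplicit false
open CategoryTheory
universe v₂ u₂ v u
open FibCat

namespace Groth.Agent.S6430

/-- For a fibred category `p : 𝒮 ⥤ C`, the wide subcategory of `𝒮` on the strongly cartesian morphisms
is fibred in groupoids over `C`. -/
theorem result {C : Type u} [Category.{v} C] {𝒮 : Type u₂} [Category.{v₂} 𝒮] (p : 𝒮 ⥤ C) [p.IsFibered] :
    FibCat.IsFibGrpd (FibCat.cartSubProj p) := by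
  have hlift : ∀ {R S : C} (f : R ⟶ S) {a b : FibCat.cartSub p} (Ψ : a ⟶ b),
      (FibCat.cartSubProj p).IsHomLift f Ψ ↔ p.IsHomLift f Ψ.hom := by
    intro R S f a b Ψ
    constructor
    · intro h
      have h1 := IsHomLift.domain_eq (FibCat.cartSubProj p) f Ψ
      have h2 := IsHomLift.codomain_eq (FibCat.cartSubProj p) f Ψ
      have h3 := IsHomLift.fac' (FibCat.cartSubProj p) f Ψ
      exact IsHomLift.of_fac' p f Ψ.hom h1 h2 h3
    · intro h
      have h1 := IsHomLift.domain_eq p f Ψ.hom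
      have h2 := IsHomLift.codomain_eq p f Ψ.hom
      have h3 := IsHomLift.fac' p f Ψ.hom
      exact IsHomLift.of_fac' (FibCat.cartSubProj p) f Ψ h1 h2 h3
  refine ⟨?_, ?_⟩
  · intro x V f
    change V ⟶ p.obj x.obj at f
    obtain ⟨y, φ, hφ⟩ := IsPreFibered.exists_isCartesian p (rfl : p.obj x.obj = _) f
    have hsc : p.IsStronglyCartesian f φ :=
      Functor.IsFibered.isStronglyCartesian_of_isCartesian p f φ
    have hsc' : p.IsStronglyCartesian (p.map φ) φ :=
      Groth.Agent.Lib.helper10.FiberFun.sc_map_of_sc p f φ hsc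
    let Φ : (⟨y⟩ : FibCat.cartSub p) ⟶ x := ⟨φ, hsc'⟩
    exact ⟨⟨y⟩, Φ, (hlift f Φ).2 inferInstance⟩
  · intro y x Φ
    have hφ : p.IsStronglyCartesian (p.map Φ.hom) Φ.hom := Φ.property
    refine { toIsHomLift := inferInstance, universal_property' := ?_ }
    intro z g τ hτ
    change p.obj z.obj ⟶ p.obj y.obj at g
    have hτ1 : p.IsHomLift (g ≫ p.map Φ.hom) τ.hom := (hlift _ τ).1 hτ
    have hτsc : p.IsStronglyCartesian (g ≫ p.map Φ.hom) τ.hom :=
      Groth.Agent.Lib.helper10.FiberFun.sc_of_sc_map p _ τ.hom τ.property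
    let χ : z.obj ⟶ y.obj :=
      Functor.IsStronglyCartesian.map p (p.map Φ.hom) Φ.hom (g := g) rfl τ.hom
    have hχ : p.IsHomLift g χ :=
      Functor.IsStronglyCartesian.map_isHomLift p (p.map Φ.hom) Φ.hom (g := g) rfl τ.hom
    have hχf : χ ≫ Φ.hom = τ.hom :=
      Functor.IsStronglyCartesian.fac p (p.map Φ.hom) Φ.hom (g := g) rfl τ.hom
    have hχsc : p.IsStronglyCartesian g χ := by
      have h2 : p.IsStronglyCartesian (g ≫ p.map Φ.hom) (χ ≫ Φ.hom) := by rw [hχf]; exact hτsc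
      exact Functor.IsStronglyCartesian.of_comp p (f := g) (g := p.map Φ.hom) (φ := χ)
        (ψ := Φ.hom)
    have hχsc' : p.IsStronglyCartesian (p.map χ) χ :=
      Groth.Agent.Lib.helper10.FiberFun.sc_map_of_sc p g χ hχsc
    let X : z ⟶ y := ⟨χ, hχsc'⟩
    refine ⟨X, ⟨(hlift g X).2 hχ, ?_⟩, ?_⟩
    · apply WideSubcategory.hom_ext
      exact hχf
    · rintro X' ⟨h1, h2⟩
      apply WideSubcategory.hom_ext
      have h1' : p.IsHomLift g X'.hom := (hlift g X').1 h1
      have h2' : X'.hom ≫ Φ.hom = τ.hom := congrArg (fun m => m.hom) h2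
      exact Functor.IsStronglyCartesian.map_uniq p (p.map Φ.hom) Φ.hom (g := g) rfl τ.hom
        X'.hom h2'

end Groth.Agent.S6430
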