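import Groth.Statements.S6434
import Mathlib

set_option autoImplicit false
open CategoryTheory
universe v u v' u'
open CatLoc

namespace Groth.Agent.S6434
open CategoryTheory CategoryTheory.Limits

section helpers



section
variable {C : Type u} [Category.{v} C] {D : Type u'} [Category.{v'} D] (W : MorphismProperty C)
  (L : C ⥤ D) [L.IsLocalization W] [W.HasLeftCalculusOfFractions]

omit [W.HasLeftCalculusOfFractions] in
include W in
theorem isIso_map {X Y : C} (s : X ⟶ Y) (hs : W s) : IsIso (L.map s) :=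
  Localization.inverts L W s hs

/-- common denominators for finite families (Finset version) -/
theorem common_denom_finset {ι : Type} [DecidableEq ι] {Y : C} (Z : ι → C) (t : ∀ i, Y ⟶ Z i)
    (ht : ∀ i, W (t i)) (s : Finset ι) :
    ∃ (Y' : C) (w : Y ⟶ Y'), W w ∧ ∀ i ∈ s, ∃ u : Z i ⟶ Y', t i ≫ u = w := by
  induction s using Finset.induction_on with
  | empty => exact ⟨Y, 𝟙 Y, W.id_mem Y, fun i hi => absurd hi (Finset.notMem_empty i)⟩
  | insert a s ha ih =>
    obtain ⟨Y', w, hw, H⟩ := ih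
    obtain ⟨ψ, hψ⟩ := MorphismProperty.HasLeftCalculusOfFractions.exists_leftFraction
      (W := W) (⟨t a, ht a, w⟩ : W.RightFraction (Z a) Y')
    dsimp at hψ
    refine ⟨ψ.Y', w ≫ ψ.s, W.comp_mem _ _ hw ψ.hs, ?_⟩
    intro i hi
    rcases Finset.mem_insert.1 hi with rfl | hi'
    · exact ⟨ψ.f, hψ.symm⟩
    · obtain ⟨u, hu⟩ := H i hi'
      exact ⟨u ≫ ψ.s, by rw [← Category.assoc, hu]⟩

theorem common_denom {ι : Type} [Finite ι] {Y : C} (Z : ι → C) (t : ∀ i, Y ⟶ Z i)
    (ht : ∀ i, W (t i)) :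
    ∃ (Y' : C) (w : Y ⟶ Y'), W w ∧ ∀ i, ∃ u : Z i ⟶ Y', t i ≫ u = w := by
  classical
  haveI := Fintype.ofFinite ι
  obtain ⟨Y', w, hw, H⟩ := common_denom_finset W Z t ht Finset.univ
  exact ⟨Y', w, hw, fun i => H i (Finset.mem_univ i)⟩

include W in
theorem key {J : Type} [SmallCategory J] [FinCategory J] (K : J ⥤ C) (c : Cocone K)
    (hc : IsColimit c) (Y : C) (φ : ∀ j, L.obj (K.obj j) ⟶ L.obj Y)
    (hφ : ∀ {j j' : J} (a : j ⟶ j'), L.map (K.map a) ≫ φ j' = φ j) :
    ∃! m : L.obj c.pt ⟶ L.obj Y, ∀ j, L.map (c.ι.app j) ≫ m = φ j := by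
  -- Step 1: fractions
  have h1 : ∀ j, ∃ ψ : W.LeftFraction (K.obj j) Y, φ j = ψ.map L (Localization.inverts L W) :=
    fun j => Localization.exists_leftFraction L W (φ j)
  choose ψ hψ using h1
  have h1' : ∀ j, φ j ≫ L.map (ψ j).s = L.map (ψ j).f := by
    intro j
    rw [hψ j]
    exact MorphismProperty.LeftFraction.map_comp_map_s _ _ _
  -- Step 2: common denominator
  obtain ⟨Y', t, ht, H2⟩ := common_denom W (fun j => (ψ j).Y') (fun j => (ψ j).s)
    (fun j => (ψ j).hs)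
  choose u hu using H2
  obtain ⟨h, h_def⟩ : ∃ h : ∀ j, K.obj j ⟶ Y', ∀ j, h j = (ψ j).f ≫ u j := ⟨_, fun _ => rfl⟩
  have hh : ∀ j, φ j ≫ L.map t = L.map (h j) := by
    intro j
    rw [h_def j, ← hu j, L.map_comp, ← Category.assoc, h1' j, ← L.map_comp]
  -- Step 3: compatibility after postcomposition
  have h3 : ∀ (p : (j : J) × (j' : J) × (j ⟶ j')), ∃ (Z : C) (s : Y' ⟶ Z) (_ : W s),
      (K.map p.2.2 ≫ h p.2.1) ≫ s = h p.1 ≫ s := by
    rintro ⟨j, j', a⟩
    rw [← MorphismProperty.map_eq_iff_postcomp L W]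
    dsimp
    rw [L.map_comp, ← hh j', ← hh j, ← Category.assoc, hφ a]
  choose Zp sp hsp hp using h3
  obtain ⟨Y'', w, hw, H4⟩ := common_denom W Zp sp hsp
  choose v hv using H4
  have hcomp : ∀ {j j' : J} (a : j ⟶ j'), K.map a ≫ (h j' ≫ w) = h j ≫ w := by
    intro j j' a
    have := hp ⟨j, j', a⟩
    dsimp only at this
    rw [← hv ⟨j, j', a⟩]
    simp only [← Category.assoc]
    rw [this]
  let cc : Cocone K :=
    { pt := Y''
      ι :=
        { app := fun j => h j ≫ w
          naturality := fun j j' a => by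
            dsimp
            rw [hcomp a, Category.comp_id] } }
  let d : c.pt ⟶ Y'' := hc.desc cc
  have hd : ∀ j, c.ι.app j ≫ d = h j ≫ w := fun j => hc.fac cc j
  have htw : W (t ≫ w) := W.comp_mem _ _ ht hw
  haveI : IsIso (L.map (t ≫ w)) := isIso_map W L _ htw
  have he1 : ∀ j, L.map (c.ι.app j) ≫ L.map d = φ j ≫ L.map (t ≫ w) := by
    intro j
    rw [← L.map_comp, hd j, L.map_comp, ← hh j, Category.assoc, ← L.map_comp]
  refine ⟨L.map d ≫ inv (L.map (t ≫ w)), ?_, ?_⟩
  · intro j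
    rw [← Category.assoc, he1 j, Category.assoc, IsIso.hom_inv_id, Category.comp_id]
  · -- uniqueness
    intro m' hm'
    rw [IsIso.eq_comp_inv]
    -- write m' as a fraction
    obtain ⟨ψ', hψ'⟩ := Localization.exists_leftFraction L W (m' ≫ L.map (t ≫ w))
    have h5 : (m' ≫ L.map (t ≫ w)) ≫ L.map ψ'.s = L.map ψ'.f := by
      rw [hψ']
      exact MorphismProperty.LeftFraction.map_comp_map_s _ _ _
    -- compare c.ι j ≫ ψ'.f and c.ι j ≫ d ≫ ψ'.s
    have h6 : ∀ j, ∃ (Z : C) (s : ψ'.Y' ⟶ Z) (_ : W s),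
        (c.ι.app j ≫ ψ'.f) ≫ s = (c.ι.app j ≫ d ≫ ψ'.s) ≫ s := by
      intro j
      rw [← MorphismProperty.map_eq_iff_postcomp L W]
      have e2 : L.map (c.ι.app j) ≫ L.map ψ'.f = (φ j ≫ L.map (t ≫ w)) ≫ L.map ψ'.s := by
        rw [← h5]
        simp only [← Category.assoc]
        rw [hm' j]
      have e3 : L.map (c.ι.app j) ≫ L.map (d ≫ ψ'.s) =
          (φ j ≫ L.map (t ≫ w)) ≫ L.map ψ'.s := by
        rw [L.map_comp, ← Category.assoc, he1 j]
      rw [L.map_comp (c.ι.app j) ψ'.f, L.map_comp (c.ι.app j) (d ≫ ψ'.s), e2, e3]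
    choose Zq sq hsq hq using h6
    obtain ⟨Y3, w3, hw3, H7⟩ := common_denom W Zq sq hsq
    choose v3 hv3 using H7
    have h8 : ψ'.f ≫ w3 = (d ≫ ψ'.s) ≫ w3 := by
      apply hc.hom_ext
      intro j
      have := hq j
      rw [← hv3 j]
      simp only [Category.assoc] at this ⊢
      rw [reassoc_of% this]
    haveI : IsIso (L.map w3) := isIso_map W L _ hw3
    haveI : IsIso (L.map ψ'.s) := isIso_map W L _ ψ'.hs
    have h9 : L.map ψ'.f = L.map (d ≫ ψ'.s) := by
      rw [← cancel_mono (L.map w3), ← L.map_comp, ← L.map_comp, h8]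
    rw [← cancel_mono (L.map ψ'.s), h5, h9, L.map_comp]

end



end helpers

/-- The localization functor at a left multiplicative system commutes with finite colimits. -/
theorem result {C : Type u} [Category.{v} C] {D : Type u'} [Category.{v'} D] (W : MorphismProperty C) (L : C ⥤ D) [L.IsLocalization W] [W.HasLeftCalculusOfFractions] :
    Limits.PreservesFiniteColimits L := by
  refine ⟨fun J _ _ => ⟨fun {K} => ⟨fun {c} hc => ⟨?_⟩⟩⟩⟩
  apply IsColimit.ofExistsUnique
  intro s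
  haveI := Localization.essSurj L W
  obtain ⟨Y, ⟨e⟩⟩ : ∃ Y, Nonempty (L.obj Y ≅ s.pt) := ⟨_, ⟨L.objObjPreimageIso s.pt⟩⟩
  obtain ⟨m, hm, huniq⟩ := key W L K c hc Y (fun j => s.ι.app j ≫ e.inv) (by
    intro j j' a
    have := s.w a
    dsimp at this
    rw [← Category.assoc, this])
  refine ⟨m ≫ e.hom, ?_, ?_⟩
  · intro j
    dsimp
    rw [← Category.assoc, hm j, Category.assoc, e.inv_hom_id]
    exact Category.comp_id _
  · intro m' hm'
    have : m' ≫ e.inv = m := huniq _ (fun j => by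
      have := hm' j
      dsimp at this
      rw [← Category.assoc, this])
    rw [← this, Category.assoc, e.inv_hom_id, Category.comp_id]

end Groth.Agent.S6434
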