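import Groth.Statements.S6438
import Mathlib.CategoryTheory.Limits.Shapes.FiniteMultiequalizer
import Mathlib.CategoryTheory.FinCategory.AsType
import Mathlib.CategoryTheory.Limits.IsConnected
import Mathlib.Tactic

set_option autoImplicit false
open CategoryTheory
universe v u
open CatLim

namespace Groth.Agent.S6438

open CategoryTheory.Limits

section
variable {I : Type u} [Category.{v} I] (gen : Finset (Σ x y : I, x ⟶ y))

/-- The bipartite shape: objects of `I` on the left, generators on the right. -/
abbrev Sh : MulticospanShape.{u, max u v} where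
  L := I
  R := gen
  fst r := r.1.1
  snd r := r.1.2.1

/-- The index: a generator `f : x ⟶ y` gives `x ⟶ y ⟵ y`. -/
abbrev idx : MulticospanIndex (Sh gen) I where
  left := id
  right r := r.1.2.1
  fst r := r.1.2.2
  snd _ := 𝟙 _

/-- The functor from the finite bipartite category. -/
def F₀ : WalkingMulticospan (Sh gen) ⥤ I := (idx gen).multicospan

@[simp] lemma F₀_obj_left (x : I) : (F₀ gen).obj (.left x) = x := rfl
@[simp] lemma F₀_obj_right (r : gen) : (F₀ gen).obj (.right r) = r.1.2.1 := rfl
@[simp] lemma F₀_map_fst (r : gen) :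
    (F₀ gen).map (WalkingMulticospan.Hom.fst (J := Sh gen) r) = r.1.2.2 := rfl
@[simp] lemma F₀_map_snd (r : gen) :
    (F₀ gen).map (WalkingMulticospan.Hom.snd (J := Sh gen) r) = 𝟙 _ := rfl

lemma zz_congr {d : I} {Y : WalkingMulticospan (Sh gen)} {Z : StructuredArrow d (F₀ gen)}
    {f g : d ⟶ (F₀ gen).obj Y} (h : f = g) (z : Zigzag Z (StructuredArrow.mk f)) :
    Zigzag Z (StructuredArrow.mk g) := h ▸ z

lemma zz_congr' {d : I} {Y : WalkingMulticospan (Sh gen)} {Z : CostructuredArrow (F₀ gen) d}
    {f g : (F₀ gen).obj Y ⟶ d} (h : f = g) (z : Zigzag (CostructuredArrow.mk f) Z) :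
    Zigzag (CostructuredArrow.mk g) Z := h ▸ z

variable (hgen : ∀ P : MorphismProperty I, P.IsMultiplicative → (∀ a ∈ gen, P a.2.2) → P = ⊤)
include hgen

lemma zigzag_structuredArrow (d : I) {x : I} (g : d ⟶ x) :
    Zigzag (StructuredArrow.mk (Y := WalkingMulticospan.left (J := Sh gen) d) (T := F₀ gen) (𝟙 d))
      (StructuredArrow.mk (Y := WalkingMulticospan.left (J := Sh gen) x) (T := F₀ gen) g) := by
  let P : MorphismProperty I := fun x y g => ∀ (d : I) (h : d ⟶ x),
    Zigzag (StructuredArrow.mk (Y := WalkingMulticospan.left (J := Sh gen) x) (T := F₀ gen) h)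
      (StructuredArrow.mk (Y := WalkingMulticospan.left (J := Sh gen) y) (T := F₀ gen) (h ≫ g))
  have hP : P.IsMultiplicative :=
    { id_mem := by
        intro x d h
        exact zz_congr gen (Y := .left x) (Category.comp_id h).symm (Zigzag.refl _)
      comp_mem := by
        intro x y z f g hf hg d h
        have := (hf d h).trans (hg d (h ≫ f))
        exact zz_congr gen (Y := .left z) (Category.assoc h f g) this }
  have hPgen : ∀ a ∈ gen, P a.2.2 := by
    intro a ha d h
    let r : gen := ⟨a, ha⟩
    let M : StructuredArrow d (F₀ gen) :=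
      StructuredArrow.mk (Y := WalkingMulticospan.right (J := Sh gen) r) (h ≫ a.2.2)
    have m1 : StructuredArrow.mk (Y := WalkingMulticospan.left (J := Sh gen) a.1) (T := F₀ gen) h ⟶ M :=
      StructuredArrow.homMk (WalkingMulticospan.Hom.fst (J := Sh gen) r) (by simp [M, r])
    have m2 : StructuredArrow.mk (Y := WalkingMulticospan.left (J := Sh gen) a.2.1) (T := F₀ gen)
        (h ≫ a.2.2) ⟶ M :=
      StructuredArrow.homMk (WalkingMulticospan.Hom.snd (J := Sh gen) r) (by simp [M, r])
    exact Zigzag.of_hom_inv m1 m2
  have := hgen P hP hPgen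
  have hg : P g := by rw [this]; trivial
  have := hg d (𝟙 d)
  exact zz_congr gen (Y := .left x) (Category.id_comp g) this

lemma zigzag_costructuredArrow (d : I) {x : I} (g : x ⟶ d) :
    Zigzag (CostructuredArrow.mk (Y := WalkingMulticospan.left (J := Sh gen) x) (S := F₀ gen) g)
      (CostructuredArrow.mk (Y := WalkingMulticospan.left (J := Sh gen) d) (S := F₀ gen) (𝟙 d)) := by
  let P : MorphismProperty I := fun x y g => ∀ (d : I) (h : y ⟶ d),
    Zigzag (CostructuredArrow.mk (Y := WalkingMulticospan.left (J := Sh gen) x) (S := F₀ gen) (g ≫ h))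
      (CostructuredArrow.mk (Y := WalkingMulticospan.left (J := Sh gen) y) (S := F₀ gen) h)
  have hP : P.IsMultiplicative :=
    { id_mem := by
        intro x d h
        exact zz_congr' gen (Y := .left x) (Category.id_comp h).symm (Zigzag.refl _)
      comp_mem := by
        intro x y z f g hf hg d h
        have := (hf d (g ≫ h)).trans (hg d h)
        exact zz_congr' gen (Y := .left x) (Category.assoc f g h).symm this }
  have hPgen : ∀ a ∈ gen, P a.2.2 := by
    intro a ha d h
    let r : gen := ⟨a, ha⟩
    let M : CostructuredArrow (F₀ gen) d :=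
      CostructuredArrow.mk (Y := WalkingMulticospan.right (J := Sh gen) r) h
    have m1 : CostructuredArrow.mk (Y := WalkingMulticospan.left (J := Sh gen) a.1) (S := F₀ gen)
        (a.2.2 ≫ h) ⟶ M :=
      CostructuredArrow.homMk (WalkingMulticospan.Hom.fst (J := Sh gen) r) (by simp [M, r])
    have m2 : CostructuredArrow.mk (Y := WalkingMulticospan.left (J := Sh gen) a.2.1) (S := F₀ gen)
        h ⟶ M :=
      CostructuredArrow.homMk (WalkingMulticospan.Hom.snd (J := Sh gen) r) (by simp [M, r])
    exact Zigzag.of_hom_inv m1 m2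
  have := hgen P hP hPgen
  have hg : P g := by rw [this]; trivial
  have := hg d (𝟙 d)
  exact zz_congr' gen (Y := .left x) (Category.comp_id g) this

lemma final_F₀ : (F₀ gen).Final := by
  constructor
  intro d
  have : Nonempty (StructuredArrow d (F₀ gen)) :=
    ⟨StructuredArrow.mk (Y := WalkingMulticospan.left (J := Sh gen) d) (𝟙 d)⟩
  have key : ∀ Z : StructuredArrow d (F₀ gen),
      Zigzag (StructuredArrow.mk (Y := WalkingMulticospan.left (J := Sh gen) d) (T := F₀ gen) (𝟙 d)) Z := by
    rintro ⟨⟨⟩, Y, g⟩
    rcases Y with x | r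
    · exact zigzag_structuredArrow gen hgen d g
    · refine (zigzag_structuredArrow gen hgen d (x := r.1.2.1) g).trans (Zigzag.of_hom ?_)
      exact StructuredArrow.homMk (WalkingMulticospan.Hom.snd (J := Sh gen) r)
        (Category.comp_id _)
  apply zigzag_isConnected
  intro Z₁ Z₂
  exact (key Z₁).symm.trans (key Z₂)

lemma initial_F₀ : (F₀ gen).Initial := by
  constructor
  intro d
  have : Nonempty (CostructuredArrow (F₀ gen) d) :=
    ⟨CostructuredArrow.mk (Y := WalkingMulticospan.left (J := Sh gen) d) (𝟙 d)⟩
  have key : ∀ Z : CostructuredArrow (F₀ gen) d,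
      Zigzag Z (CostructuredArrow.mk (Y := WalkingMulticospan.left (J := Sh gen) d) (S := F₀ gen) (𝟙 d)) := by
    rintro ⟨Y, ⟨⟩, g⟩
    rcases Y with x | r
    · exact zigzag_costructuredArrow gen hgen d g
    · refine (Zigzag.of_inv ?_).trans (zigzag_costructuredArrow gen hgen d (x := r.1.2.1) g)
      exact CostructuredArrow.homMk (WalkingMulticospan.Hom.snd (J := Sh gen) r)
        (Category.id_comp _)
  apply zigzag_isConnected
  intro Z₁ Z₂
  exact (key Z₁).trans (key Z₂).symm

end

/-- A category with finitely many objects whose morphisms are generated under composition by finitely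
many of them receives a functor from a finite category which is both final and initial, the finite
category being connected (resp. nonempty) exactly when the given one is. (The published statement
says that limits and colimits of every diagram are computed after restriction along the functor;
this is expressed here through finality and initiality.) -/
theorem result {I : Type u} [Category.{v} I] [Finite I]
    (gen : Finset (Σ x y : I, x ⟶ y))
    (hgen : ∀ P : MorphismProperty I, P.IsMultiplicative → (∀ a ∈ gen, P a.2.2) → P = ⊤) :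
    ∃ (J : Type) (_ : SmallCategory J) (_ : FinCategory J) (F : J ⥤ I),
      F.Final ∧ F.Initial ∧ (IsConnected J ↔ IsConnected I) ∧ (Nonempty J ↔ Nonempty I) := by
  classical
  have : Fintype I := Fintype.ofFinite I
  have : Fintype (Sh gen).L := ‹Fintype I›
  have : Fintype (Sh gen).R := inferInstanceAs (Fintype gen)
  have : DecidableEq (Sh gen).L := inferInstanceAs (DecidableEq I)
  have : DecidableEq (Sh gen).R := inferInstanceAs (DecidableEq gen)
  have := final_F₀ gen hgen
  have := initial_F₀ gen hgen
  let e := FinCategory.equivAsType (WalkingMulticospan (Sh gen))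
  have : (e.functor ⋙ F₀ gen).Final := Functor.final_comp _ _
  have : (e.functor ⋙ F₀ gen).Initial := Functor.initial_comp _ _
  refine ⟨FinCategory.AsType (WalkingMulticospan (Sh gen)), inferInstance, inferInstance,
    e.functor ⋙ F₀ gen, inferInstance, inferInstance, ?_, ?_⟩
  · exact Functor.isConnected_iff_of_final (e.functor ⋙ F₀ gen)
  · constructor
    · rintro ⟨j⟩
      exact ⟨(e.functor ⋙ F₀ gen).obj j⟩
    · rintro ⟨i⟩
      exact ⟨e.inverse.obj (.left i)⟩

end Groth.Agent.S6438
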