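import Mathlib.Tactic
import Groth.Agent.Lib.helper10.OverRepr
import Groth.Statements.S6443

set_option autoImplicit false
open CategoryTheory
universe v u
open FibCat

namespace Groth.Agent.S6443

open Groth.Agent.Lib.helper10.OverRepr in
/-- an endofunctor of a slice, over `C`, isomorphic to the identity is classified by the identity -/
lemma cls_eq_id {C : Type u} [Category.{v} C] {X : C}
    (T : FibCat.overCat X ⥤ᵇ FibCat.overCat X) (θ : T ⟶ BasedFunctor.id (FibCat.overCat X)) :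
    cls T = 𝟙 X := by
  have hl : (FibCat.overCat X).p.IsHomLift (𝟙 (Over.mk (𝟙 X)).left) (θ.toNatTrans.app (Over.mk (𝟙 X))) :=
    θ.isHomLift' (Over.mk (𝟙 X))
  obtain ⟨m, hm⟩ : ∃ m : (T.obj (Over.mk (𝟙 X)) : Over X) ⟶ Over.mk (𝟙 X),
    m = θ.toNatTrans.app (Over.mk (𝟙 X)) := ⟨_, rfl⟩
  rw [← hm] at hl
  obtain ⟨h1, h2, h3⟩ := (over_lift_iff (U := X) _ m).mp hl
  have hw : m.left ≫ (Over.mk (𝟙 X)).hom = (T.obj (Over.mk (𝟙 X)) : Over X).hom := Over.w m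
  unfold cls
  rw [← hw, h3]
  simp


open Groth.Agent.Lib.helper10.OverRepr in
lemma cls_comp {C : Type u} [Category.{v} C] {X Y Z : C} (a : X ⟶ Y) (b : Y ⟶ Z) :
    cls (BasedFunctor.comp (ovMap a) (ovMap b)) = a ≫ b := by
  unfold cls
  change eqToHom _ ≫ ((𝟙 X ≫ a) ≫ b) = a ≫ b
  simp

/-- If a category `𝒮` fibred in groupoids over `C` is represented by `X` via `j : 𝒮 ⟶ C/X` and by `X'`
via `j' : 𝒮 ⟶ C/X'` (equivalences over `C`), then there is an isomorphism `X' ≅ X` under which `j'`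
becomes 2-isomorphic to `j` over `C`. -/
theorem result {C : Type u} [Category.{v} C] {𝒮 : BasedCategory.{v, max u v} C} (h𝒮 : FibCat.IsFibGrpd 𝒮.p)
    {X X' : C} (j : 𝒮 ⥤ᵇ FibCat.overCat X) (j' : 𝒮 ⥤ᵇ FibCat.overCat X') (hj : FibCat.IsEquivOver j) (hj' : FibCat.IsEquivOver j') :
    ∃ e : X' ≅ X, Nonempty (BasedFunctor.comp j' (⟨Over.map e.hom, Over.mapForget_eq e.hom⟩ : FibCat.overCat X' ⥤ᵇ FibCat.overCat X) ≅ j) := by
  obtain ⟨k, ⟨η⟩, ⟨ε⟩⟩ := hj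
  obtain ⟨k', ⟨η'⟩, ⟨ε'⟩⟩ := hj'
  obtain ⟨i⟩ := Groth.Agent.Lib.helper10.OverRepr.slice_iso (BasedFunctor.comp k' j)
  obtain ⟨i'⟩ := Groth.Agent.Lib.helper10.OverRepr.slice_iso (BasedFunctor.comp k j')
  obtain ⟨u, hu⟩ : ∃ u : X' ⟶ X, u = Groth.Agent.Lib.helper10.OverRepr.cls (BasedFunctor.comp k' j) := ⟨_, rfl⟩
  obtain ⟨u', hu'⟩ : ∃ u' : X ⟶ X', u' = Groth.Agent.Lib.helper10.OverRepr.cls (BasedFunctor.comp k j') := ⟨_, rfl⟩
  rw [← hu] at i
  rw [← hu'] at i'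
  -- F ⋙ F' ≅ id
  have a1 : BasedFunctor.comp (BasedFunctor.comp k' j) (BasedFunctor.comp k j') ≅
      BasedFunctor.id (FibCat.overCat X') :=
    (Stk.restr k' _).mapIso ((Groth.Agent.Lib.helper10.StkEquiv.post j' _).mapIso η) ≪≫ ε'
  have a2 : BasedFunctor.comp (BasedFunctor.comp k j') (BasedFunctor.comp k' j) ≅
      BasedFunctor.id (FibCat.overCat X) :=
    (Stk.restr k _).mapIso ((Groth.Agent.Lib.helper10.StkEquiv.post j _).mapIso η') ≪≫ ε
  have b1 : BasedFunctor.comp (Groth.Agent.Lib.helper10.OverRepr.ovMap u)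
      (Groth.Agent.Lib.helper10.OverRepr.ovMap u') ≅ BasedFunctor.id (FibCat.overCat X') :=
    (Groth.Agent.Lib.helper10.StkEquiv.post (Groth.Agent.Lib.helper10.OverRepr.ovMap u') _).mapIso i.symm ≪≫
      (Stk.restr (BasedFunctor.comp k' j) _).mapIso i'.symm ≪≫ a1
  have b2 : BasedFunctor.comp (Groth.Agent.Lib.helper10.OverRepr.ovMap u')
      (Groth.Agent.Lib.helper10.OverRepr.ovMap u) ≅ BasedFunctor.id (FibCat.overCat X) :=
    (Groth.Agent.Lib.helper10.StkEquiv.post (Groth.Agent.Lib.helper10.OverRepr.ovMap u) _).mapIso i'.symm ≪≫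
      (Stk.restr (BasedFunctor.comp k j') _).mapIso i.symm ≪≫ a2
  have c1 : u ≫ u' = 𝟙 X' := by
    rw [← cls_comp u u']
    exact cls_eq_id _ b1.hom
  have c2 : u' ≫ u = 𝟙 X := by
    rw [← cls_comp u' u]
    exact cls_eq_id _ b2.hom
  refine ⟨⟨u, u', c1, c2⟩, ⟨?_⟩⟩
  exact (Stk.restr j' _).mapIso i.symm ≪≫
    (Groth.Agent.Lib.helper10.StkEquiv.post j _).mapIso η'

end Groth.Agent.S6443
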