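import Mathlib.Tactic
import Groth.Statements.S6445

set_option autoImplicit false
open CategoryTheory CategoryTheory.Limits
universe v u
open FibCat

namespace Groth.Agent.S6445

open CategoryTheory.Limits in
/-- the functor `((a, c, φ), e, ψ) ↦ (a, (c, e, ψ), φ)` -/
def fwd {A B C D E : Type u} [Category.{v} A] [Category.{v} B] [Category.{v} C] [Category.{v} D] [Category.{v} E]
    (F : A ⥤ B) (G : C ⥤ B) (H : C ⥤ D) (K : E ⥤ D) :
    CategoricalPullback (CategoricalPullback.π₂ F G ⋙ H) K ⥤ CategoricalPullback F (CategoricalPullback.π₁ H K ⋙ G) where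
  obj x := ⟨x.fst.fst, ⟨x.fst.snd, x.snd, x.iso⟩, x.fst.iso⟩
  map {x y} f :=
    { fst := f.fst.fst
      snd := { fst := f.fst.snd, snd := f.snd, w := f.w }
      w := f.fst.w }
  map_id x := rfl
  map_comp f g := rfl

open CategoryTheory.Limits in
/-- the functor `(a, (c, e, ψ), φ) ↦ ((a, c, φ), e, ψ)` -/
def bwd {A B C D E : Type u} [Category.{v} A] [Category.{v} B] [Category.{v} C] [Category.{v} D] [Category.{v} E]
    (F : A ⥤ B) (G : C ⥤ B) (H : C ⥤ D) (K : E ⥤ D) :
    CategoricalPullback F (CategoricalPullback.π₁ H K ⋙ G) ⥤ CategoricalPullback (CategoricalPullback.π₂ F G ⋙ H) K where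
  obj y := ⟨⟨y.fst, y.snd.fst, y.iso⟩, y.snd.snd, y.snd.iso⟩
  map {x y} f :=
    { fst := { fst := f.fst, snd := f.snd.fst, w := f.w }
      snd := f.snd.snd
      w := f.snd.w }
  map_id x := rfl
  map_comp f g := rfl


/-- Associativity of 2-fibre products of categories: `(A ×_B C) ×_D E` and `A ×_B (C ×_D E)` are
isomorphic categories, by an equivalence whose functor and inverse compose to the identity functors
on both sides and whose functor sends `((a, c, φ), e, ψ)` to an object with components `a`, `c`,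
`e`. (The published statement gives the isomorphism by the formula `((a, c, φ), e, ψ) ↦ (a, (c, e,
ψ), φ)`; this row pins the components `a`, `c`, `e` of the functor on objects and asks the functor
and its inverse to be mutually inverse on the nose.) -/
theorem result {A B C D E : Type u} [Category.{v} A] [Category.{v} B] [Category.{v} C] [Category.{v} D] [Category.{v} E]
    (F : A ⥤ B) (G : C ⥤ B) (H : C ⥤ D) (K : E ⥤ D) :
    ∃ e : CategoricalPullback (CategoricalPullback.π₂ F G ⋙ H) K ≌ CategoricalPullback F (CategoricalPullback.π₁ H K ⋙ G),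
      e.functor ⋙ e.inverse = 𝟭 _ ∧ e.inverse ⋙ e.functor = 𝟭 _ ∧
      ∀ x, (e.functor.obj x).fst = x.fst.fst ∧ (e.functor.obj x).snd.fst = x.fst.snd ∧ (e.functor.obj x).snd.snd = x.snd := by
  have h1 : fwd F G H K ⋙ bwd F G H K = 𝟭 _ := rfl
  have h2 : bwd F G H K ⋙ fwd F G H K = 𝟭 _ := rfl
  refine ⟨CategoryTheory.Equivalence.mk (fwd F G H K) (bwd F G H K) (eqToIso h1.symm) (eqToIso h2), ?_, ?_, ?_⟩
  · exact h1
  · exact h2
  · intro x
    exact ⟨rfl, rfl, rfl⟩

end Groth.Agent.S6445
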