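import Mathlib
import Groth.Statements.S6446

set_option autoImplicit false
open CategoryTheory CategoryTheory.Limits Opposite
universe v u
open CatLim

namespace Groth.Agent.S6446

/-- (2) ⇒ (1): over a filtered index category, a diagram `M` with a cocone `(X, M_i → X)` inducing
bijections `colim_i Mor(W, M_i) → Mor(W, X)` for all `W` is essentially constant as an ind-object
with value `X`. -/
theorem result {I : Type v} [SmallCategory I] [IsFiltered I] {C : Type u} [Category.{v} C]
    (M : I ⥤ C) (c : Cocone M)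
    (h : ∀ W : C, Function.Bijective (colimit.desc (M ⋙ coyoneda.obj (op W)) ((coyoneda.obj (op W)).mapCocone c))) :
    CatLim.IsEssConstInd M c := by
  have hsur := (h c.pt).2 (𝟙 c.pt)
  obtain ⟨y, hy⟩ := hsur
  obtain ⟨i, s0, rfl⟩ := Types.jointly_surjective_of_isColimit
    (colimit.isColimit (M ⋙ coyoneda.obj (op c.pt))) y
  let s : c.pt ⟶ M.obj i := s0
  have hs : s ≫ c.ι.app i = 𝟙 c.pt := by
    have := ConcreteCategory.congr_hom
      (colimit.ι_desc ((coyoneda.obj (op c.pt)).mapCocone c) i) s0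
    exact this.symm.trans hy
  refine ⟨i, s, hs, ?_⟩
  intro j
  let t : M.obj j ⟶ M.obj i := c.ι.app j ≫ s
  let e : M.obj j ⟶ M.obj j := 𝟙 (M.obj j)
  have e1 : colimit.desc (M ⋙ coyoneda.obj (op (M.obj j))) ((coyoneda.obj (op (M.obj j))).mapCocone c)
      (colimit.ι (M ⋙ coyoneda.obj (op (M.obj j))) j e) = c.ι.app j := by
    have := ConcreteCategory.congr_hom
      (colimit.ι_desc ((coyoneda.obj (op (M.obj j))).mapCocone c) j) e
    exact this.trans (Category.id_comp _)
  have e2 : colimit.desc (M ⋙ coyoneda.obj (op (M.obj j))) ((coyoneda.obj (op (M.obj j))).mapCocone c)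
      (colimit.ι (M ⋙ coyoneda.obj (op (M.obj j))) i t) = c.ι.app j := by
    have := ConcreteCategory.congr_hom
      (colimit.ι_desc ((coyoneda.obj (op (M.obj j))).mapCocone c) i) t
    refine this.trans ?_
    change (c.ι.app j ≫ s) ≫ c.ι.app i = c.ι.app j
    rw [Category.assoc, hs]
    exact Category.comp_id _
  have e3 := (h (M.obj j)).1 (e1.trans e2.symm)
  obtain ⟨k, b, a, hk⟩ := (Types.FilteredColimit.colimit_eq_iff (M ⋙ coyoneda.obj (op (M.obj j)))).1 e3
  refine ⟨k, a, b, ?_⟩
  have hk' : 𝟙 (M.obj j) ≫ M.map b = (c.ι.app j ≫ s) ≫ M.map a := hk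
  rw [Category.id_comp, Category.assoc] at hk'
  exact hk'

end Groth.Agent.S6446
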