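import Mathlib.Tactic
import Groth.Statements.S6447

set_option autoImplicit false
open CategoryTheory CategoryTheory.Limits
universe v u
open FibCat

namespace Groth.Agent.S6447

section
universe u₁ u₂ u₃ u₄ u₅ u₆ v₁ v₂ v₃ v₄ v₅ v₆
variable {X : Type u₁} {Y : Type u₂} {Z : Type u₃} {A : Type u₄} {B : Type u₅} {C : Type u₆}
  [Category.{v₁} X] [Category.{v₂} Y] [Category.{v₃} Z] [Category.{v₄} A]
  [Category.{v₅} B] [Category.{v₆} C] {H : X ⥤ Z} {I : Y ⥤ Z} {F : A ⥤ C} {G : B ⥤ C}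
  (ψ : CatCospanTransform H I F G)

theorem map_obj_iso_hom (x : CategoricalPullback H I) :
    ((FibCat.categoricalPullbackMap ψ).obj x).iso.hom =
      ψ.squareLeft.iso.inv.app x.fst ≫ ψ.base.map x.iso.hom ≫
        ψ.squareRight.iso.hom.app x.snd := by
  simp [FibCat.categoricalPullbackMap]
  rfl
end

section
variable {X Y V : Type u} [Category.{v} X] [Category.{v} Y] [Category.{v} V] (p : X ⥤ Y) (q : V ⥤ Y)

abbrev ΔU : CategoricalPullback p q ⥤ CategoricalPullback (CategoricalPullback.π₂ p q) (CategoricalPullback.π₂ p q) :=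
  (CategoricalPullback.CatCommSqOver.toFunctorToCategoricalPullback (CategoricalPullback.π₂ p q) (CategoricalPullback.π₂ p q) (CategoricalPullback p q)).obj ⟨𝟭 _, 𝟭 _, Iso.refl _⟩

abbrev ΔX : X ⥤ CategoricalPullback p p :=
  (CategoricalPullback.CatCommSqOver.toFunctorToCategoricalPullback p p X).obj ⟨𝟭 _, 𝟭 _, Iso.refl _⟩

abbrev ψ : CatCospanTransform (CategoricalPullback.π₂ p q) (CategoricalPullback.π₂ p q) p p :=
  ⟨CategoricalPullback.π₁ p q, q, CategoricalPullback.π₁ p q, ⟨(CatCommSq.iso (CategoricalPullback.π₁ p q) (CategoricalPullback.π₂ p q) p q).symm⟩, ⟨(CatCommSq.iso (CategoricalPullback.π₁ p q) (CategoricalPullback.π₂ p q) p q).symm⟩⟩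

noncomputable abbrev Gm := FibCat.categoricalPullbackMap (ψ p q)

lemma Gm_iso_hom (t : CategoricalPullback (CategoricalPullback.π₂ p q) (CategoricalPullback.π₂ p q)) :
    ((Gm p q).obj t).iso.hom = t.fst.iso.hom ≫ q.map t.iso.hom ≫ t.snd.iso.inv := by
  have h := map_obj_iso_hom (ψ p q) t
  exact h

lemma Gm_obj_fst (t : CategoricalPullback (CategoricalPullback.π₂ p q) (CategoricalPullback.π₂ p q)) :
    ((Gm p q).obj t).fst = t.fst.fst := rfl

lemma Gm_obj_snd (t : CategoricalPullback (CategoricalPullback.π₂ p q) (CategoricalPullback.π₂ p q)) :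
    ((Gm p q).obj t).snd = t.snd.fst := rfl

lemma Gm_map_fst {t t' : CategoricalPullback (CategoricalPullback.π₂ p q) (CategoricalPullback.π₂ p q)} (f : t ⟶ t') :
    ((Gm p q).map f).fst = f.fst.fst := rfl

lemma Gm_map_snd {t t' : CategoricalPullback (CategoricalPullback.π₂ p q) (CategoricalPullback.π₂ p q)} (f : t ⟶ t') :
    ((Gm p q).map f).snd = f.snd.fst := rfl

lemma Gm_diag_iso_hom (u : CategoricalPullback p q) :
    ((Gm p q).obj ((ΔU p q).obj u)).iso.hom = 𝟙 (p.obj u.fst) := by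
  rw [Gm_iso_hom]
  change u.iso.hom ≫ q.map (𝟙 _) ≫ u.iso.inv = 𝟙 _
  rw [q.map_id, Category.id_comp, Iso.hom_inv_id]

/-- the filling 2-isomorphism -/
noncomputable def eIso : CategoricalPullback.π₁ p q ⋙ ΔX p ≅ ΔU p q ⋙ Gm p q :=
  NatIso.ofComponents (fun u => CategoricalPullback.mkIso (Iso.refl _) (Iso.refl _) (by
    have h := Gm_diag_iso_hom p q u
    exact (congrArg (fun t => p.map (𝟙 u.fst) ≫ t) h).trans
      ((Category.comp_id _).trans (Category.id_comp _).symm))) (by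
    intro u u' f
    apply CategoricalPullback.hom_ext
    · change f.fst ≫ 𝟙 _ = 𝟙 _ ≫ f.fst
      rw [Category.comp_id, Category.id_comp]
    · change f.fst ≫ 𝟙 _ = 𝟙 _ ≫ f.fst
      rw [Category.comp_id, Category.id_comp])

lemma eIso_hom_fst (u : CategoricalPullback p q) : ((eIso p q).hom.app u).fst = 𝟙 _ := rfl
lemma eIso_hom_snd (u : CategoricalPullback p q) : ((eIso p q).hom.app u).snd = 𝟙 _ := rfl

/-- the comparison functor -/
noncomputable abbrev Φ : CategoricalPullback p q ⥤ CategoricalPullback (ΔX p) (Gm p q) :=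
  (CategoricalPullback.CatCommSqOver.toFunctorToCategoricalPullback (ΔX p) (Gm p q) (CategoricalPullback p q)).obj
    ⟨CategoricalPullback.π₁ p q, ΔU p q, eIso p q⟩

lemma Φ_faithful : (Φ p q).Faithful := by
  constructor
  intro u u' n n' h
  exact congrArg (fun m => m.snd.fst) h

lemma Φ_full : (Φ p q).Full := by
  constructor
  intro u u' h
  have hw := h.w
  have h1 : h.fst ≫ 𝟙 _ = 𝟙 _ ≫ h.snd.fst.fst := congrArg (fun m => m.fst) hw
  have h2 : h.fst ≫ 𝟙 _ = 𝟙 _ ≫ h.snd.snd.fst := congrArg (fun m => m.snd) hw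
  rw [Category.comp_id, Category.id_comp] at h1 h2
  have h3 : h.snd.fst.snd ≫ 𝟙 _ = 𝟙 _ ≫ h.snd.snd.snd := h.snd.w
  rw [Category.comp_id, Category.id_comp] at h3
  have h4 : h.snd.fst = h.snd.snd := by
    apply CategoricalPullback.hom_ext
    · exact h1.symm.trans h2
    · exact h3
  refine ⟨h.snd.fst, ?_⟩
  apply CategoricalPullback.hom_ext
  · exact h1.symm
  · apply CategoricalPullback.hom_ext
    · rfl
    · exact h4

omit [Category.{v} X] [Category.{v} V] in
lemma aux_alg {P Q R S T : Y} (a : P ⟶ Q) (ai : Q ⟶ P) (hai : ai ≫ a = 𝟙 Q) (b : P ⟶ R)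
    (i₁ : Q ⟶ S) (k : S ⟶ T) (i₂inv : T ⟶ R) (i₂ : R ⟶ T) (h2 : i₂inv ≫ i₂ = 𝟙 T)
    (hw : a ≫ i₁ ≫ k ≫ i₂inv = b) : (ai ≫ b) ≫ i₂ = i₁ ≫ k := by
  rw [← hw]
  simp only [Category.assoc]
  rw [h2, Category.comp_id, ← Category.assoc, hai, Category.id_comp]

lemma Φ_essSurj : (Φ p q).EssSurj := by
  constructor
  intro z
  -- components of z
  obtain ⟨u₁, hu₁⟩ : ∃ u₁ : CategoricalPullback p q, u₁ = z.snd.fst := ⟨_, rfl⟩
  obtain ⟨u₂, hu₂⟩ : ∃ u₂ : CategoricalPullback p q, u₂ = z.snd.snd := ⟨_, rfl⟩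
  let α₁ : z.fst ≅ z.snd.fst.fst := (CategoricalPullback.π₁ p p).mapIso z.iso
  let α₂ : z.fst ≅ z.snd.snd.fst := (CategoricalPullback.π₂ p p).mapIso z.iso
  have hw : p.map α₁.hom ≫ ((Gm p q).obj z.snd).iso.hom = 𝟙 _ ≫ p.map α₂.hom := z.iso.hom.w
  rw [Gm_iso_hom, Category.id_comp] at hw
  -- the isomorphism β : u₁ ≅ u₂
  have compat : p.map (α₁.symm ≪≫ α₂).hom ≫ z.snd.snd.iso.hom = z.snd.fst.iso.hom ≫ q.map z.snd.iso.hom := by
    have := aux_alg (p.map α₁.hom) (p.map α₁.inv) (by rw [← p.map_comp, Iso.inv_hom_id, p.map_id])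
      (p.map α₂.hom) z.snd.fst.iso.hom (q.map z.snd.iso.hom) z.snd.snd.iso.inv z.snd.snd.iso.hom
      (Iso.inv_hom_id _) hw
    refine Eq.trans ?_ this
    exact congrArg (fun t => t ≫ z.snd.snd.iso.hom) (p.map_comp α₁.inv α₂.hom)
  let β : z.snd.fst ≅ z.snd.snd := CategoricalPullback.mkIso (α₁.symm ≪≫ α₂) z.snd.iso compat
  have compat2 : (CategoricalPullback.π₂ p q).map (Iso.refl z.snd.fst).hom ≫ z.snd.iso.hom =
      ((ΔU p q).obj z.snd.fst).iso.hom ≫ (CategoricalPullback.π₂ p q).map β.hom :=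
    (Category.id_comp z.snd.iso.hom).trans (Category.id_comp z.snd.iso.hom).symm
  let γ : (ΔU p q).obj z.snd.fst ≅ z.snd := CategoricalPullback.mkIso (Iso.refl _) β compat2
  have compat3 : (ΔX p).map α₁.symm.hom ≫ z.iso.hom =
      ((Φ p q).obj z.snd.fst).iso.hom ≫ (Gm p q).map γ.hom := by
    apply CategoricalPullback.hom_ext
    · change α₁.inv ≫ α₁.hom = 𝟙 _ ≫ 𝟙 _
      rw [Iso.inv_hom_id, Category.id_comp]
    · change α₁.inv ≫ α₂.hom = 𝟙 _ ≫ (α₁.inv ≫ α₂.hom)
      rw [Category.id_comp]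
  exact ⟨z.snd.fst, ⟨CategoricalPullback.mkIso α₁.symm γ compat3⟩⟩

end


/-- For a 2-fibre product `U = X ×_Y V` of categories, the square formed by `U ⟶ X`, the diagonals `U ⟶
U ×_V U`, `X ⟶ X ×_Y X` and the induced functor `U ×_V U ⟶ X ×_Y X` is 2-cartesian. (The filling
2-isomorphism is the one whose two components at every object are identities; it exists and is
unique with that property.) -/
theorem result {X Y V : Type u} [Category.{v} X] [Category.{v} Y] [Category.{v} V] (p : X ⥤ Y) (q : V ⥤ Y) :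
    ∃ e, (∀ u, (e.hom.app u).fst = 𝟙 _ ∧ (e.hom.app u).snd = 𝟙 _) ∧ FibCat.IsTwoCart
      (CategoricalPullback.π₁ p q)
      ((CategoricalPullback.CatCommSqOver.toFunctorToCategoricalPullback (CategoricalPullback.π₂ p q) (CategoricalPullback.π₂ p q) (CategoricalPullback p q)).obj ⟨𝟭 _, 𝟭 _, Iso.refl _⟩)
      ((CategoricalPullback.CatCommSqOver.toFunctorToCategoricalPullback p p X).obj ⟨𝟭 _, 𝟭 _, Iso.refl _⟩)
      (FibCat.categoricalPullbackMap (⟨CategoricalPullback.π₁ p q, q, CategoricalPullback.π₁ p q, ⟨(CatCommSq.iso (CategoricalPullback.π₁ p q) (CategoricalPullback.π₂ p q) p q).symm⟩, ⟨(CatCommSq.iso (CategoricalPullback.π₁ p q) (CategoricalPullback.π₂ p q) p q).symm⟩⟩ : CatCospanTransform (CategoricalPullback.π₂ p q) (CategoricalPullback.π₂ p q) p p))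
      e := by
  refine ⟨eIso p q, fun u => ⟨eIso_hom_fst p q u, eIso_hom_snd p q u⟩, ?_⟩
  have h1 := Φ_faithful p q
  have h2 := Φ_full p q
  have h3 := Φ_essSurj p q
  exact ({ } : (Φ p q).IsEquivalence)

end Groth.Agent.S6447
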