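import Groth.Statements.S6457
import Mathlib

set_option autoImplicit false
universe u
open CategoryTheory AlgebraicGeometry
open Cyc

namespace Groth.Agent.S6457

/-- Let f : X → Y be a quasi-compact morphism of schemes and {Z_i} a locally finite collection of closed
subsets of X. Then the closures of the images f(Z_i) form a locally finite collection of closed
subsets of Y. (The published statement takes X and Y locally of finite type over a base; this row
allows arbitrary schemes, only quasi-compactness of f being used.) -/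
theorem result (X Y : Scheme.{u}) (f : X ⟶ Y) [QuasiCompact f] (ι : Type u) (Z : ι → Set X) (hZ : ∀ i, IsClosed (Z i)) (hlf : LocallyFinite Z) : LocallyFinite (fun i => closure (f '' Z i)) := by
  intro y
  obtain ⟨V, hV, hyV⟩ : ∃ V : Y.Opens, IsAffineOpen V ∧ y ∈ V := by
    obtain ⟨_, ⟨V, hV, rfl⟩, hyV, -⟩ :=
      (Y.isBasis_affineOpens).exists_subset_of_mem_open (Set.mem_univ y) isOpen_univ
    exact ⟨V, hV, hyV⟩
  have hc : IsCompact ((f ⁻¹ᵁ V : X.Opens) : Set X) :=
    QuasiCompact.isCompact_preimage (f := f) _ V.2 hV.isCompact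
  refine ⟨V, V.2.mem_nhds hyV, ?_⟩
  refine (hlf.finite_nonempty_inter_compact hc).subset ?_
  rintro i ⟨z, hz1, hz2⟩
  -- z ∈ closure (f '' Z i) ∩ V
  have : ((f '' Z i) ∩ (V : Set Y)).Nonempty := by
    have := mem_closure_iff.mp hz1 V V.2 hz2
    obtain ⟨w, hwV, hw⟩ := this
    exact ⟨w, hw, hwV⟩
  obtain ⟨w, ⟨x, hx, rfl⟩, hwV⟩ := this
  exact ⟨x, hx, hwV⟩

end Groth.Agent.S6457
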