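import Groth.Statements.S6460
import Mathlib
import Groth.Agent.Lib.helper7.LocNoeth

set_option autoImplicit false
universe u
open CategoryTheory AlgebraicGeometry
open Cyc

namespace Groth.Agent.S6460

theorem eq_of_specializes_of_closure_mem {T : Type*} [TopologicalSpace T] [T0Space T] {y y' : T}
    (hy : closure {y} ∈ irreducibleComponents T) (h : y' ⤳ y) : y' = y := by
  have h1 : closure {y} ⊆ closure {y'} := specializes_iff_closure_subset.1 h
  have h2 : closure {y'} ⊆ closure {y} := hy.2 isIrreducible_singleton.closure h1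
  exact (h.antisymm (specializes_iff_closure_subset.2 h2)).eq

theorem exists_maximal_generization {T : Type*} [TopologicalSpace T] [QuasiSober T] [T0Space T] (y : T) :
    ∃ y' : T, y' ⤳ y ∧ closure {y'} ∈ irreducibleComponents T := by
  have hirr : IsIrreducible (irreducibleComponent y) := isIrreducible_irreducibleComponent
  have hcl : IsClosed (irreducibleComponent y) := isClosed_irreducibleComponent
  obtain ⟨η, hη⟩ := QuasiSober.sober hirr hcl
  have hcl' : closure {η} = irreducibleComponent y := hη.def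
  refine ⟨η, ?_, ?_⟩
  · rw [specializes_iff_mem_closure, hcl']
    exact mem_irreducibleComponent
  · rw [hcl']
    exact irreducibleComponent_mem_irreducibleComponents y

theorem isLocallyConstant_of_maximal {T : Type*} [TopologicalSpace T] [QuasiSober T] [T0Space T]
    (hT : ∀ x : T, ∃ W : TopologicalSpace.Opens T, x ∈ W ∧ TopologicalSpace.NoetherianSpace W)
    (δ c : T → ℤ) (h : ∀ x ξ : T, (∀ ξ' : T, ξ' ⤳ ξ → ξ' = ξ) → ξ ⤳ x → δ ξ = c x) :
    IsLocallyConstant c := by
  rw [IsLocallyConstant.iff_exists_open]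
  intro x
  obtain ⟨W, hxW, hW⟩ := hT x
  haveI : QuasiSober W := W.isOpen.isOpenEmbedding_subtypeVal.quasiSober
  have hfin := TopologicalSpace.NoetherianSpace.finite_irreducibleComponents (α := W)
  let Bad : Set (Set W) := {Z | Z ∈ irreducibleComponents W ∧ (⟨x, hxW⟩ : W) ∉ Z}
  have hBadfin : Bad.Finite := hfin.subset (fun Z hZ => hZ.1)
  have hclosed : IsClosed (⋃₀ Bad) := by
    rw [Set.sUnion_eq_biUnion]
    exact hBadfin.isClosed_biUnion (fun Z hZ => isClosed_of_mem_irreducibleComponents Z hZ.1)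
  let V : Set T := Subtype.val '' (⋃₀ Bad)ᶜ
  have hVopen : IsOpen V := W.isOpen.isOpenEmbedding_subtypeVal.isOpenMap _ hclosed.isOpen_compl
  refine ⟨V, hVopen, ⟨⟨x, hxW⟩, ?_, rfl⟩, ?_⟩
  · rintro ⟨Z, hZ, hxZ⟩; exact hZ.2 hxZ
  · rintro _ ⟨⟨y, hyW⟩, hy, rfl⟩
    obtain ⟨ξ, hξy, hξ⟩ := exists_maximal_generization y
    have hξmax : ∀ ξ', ξ' ⤳ ξ → ξ' = ξ := fun z hz => eq_of_specializes_of_closure_mem hξ hz
    have hξW : ξ ∈ W := hξy.mem_open W.isOpen hyW
    let ξW : W := ⟨ξ, hξW⟩
    let Z := irreducibleComponent ξW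
    have hZmem : Z ∈ irreducibleComponents W := irreducibleComponent_mem_irreducibleComponents ξW
    have hZcl : IsClosed Z := isClosed_irreducibleComponent
    have hZirr : IsIrreducible Z := isIrreducible_irreducibleComponent
    obtain ⟨η, hη⟩ := QuasiSober.sober hZirr hZcl
    have hηZ : closure {η} = Z := hη.def
    have hηξ : η ⤳ ξW := by
      rw [specializes_iff_mem_closure, hηZ]; exact mem_irreducibleComponent
    have hηξ' : (η : T) ⤳ ξ := (subtype_specializes_iff η ξW).1 hηξ
    have hηeq : η = ξW := Subtype.ext (hξmax _ hηξ')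
    have hyZ : (⟨y, hyW⟩ : W) ∈ Z := by
      have : ξW ⤳ (⟨y, hyW⟩ : W) := (subtype_specializes_iff ξW ⟨y, hyW⟩).2 hξy
      exact this.mem_closed hZcl mem_irreducibleComponent
    have hxZ : (⟨x, hxW⟩ : W) ∈ Z := by
      by_contra hx
      exact hy ⟨Z, ⟨hZmem, hx⟩, hyZ⟩
    have hξx : ξ ⤳ x := by
      have : ξW ⤳ (⟨x, hxW⟩ : W) := by
        rw [specializes_iff_mem_closure, ← hηeq, hηZ]; exact hxZ
      exact (subtype_specializes_iff ξW ⟨x, hxW⟩).1 this
    have h1 := h x ξ hξmax hξx
    have h2 := h y ξ hξmax hξy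
    show c y = c x
    rw [← h1, ← h2]


/-- (3) ⇒ (1): suppose that for every x ∈ X there is an integer n_x with δ(ξ) = n_x for every generic
point ξ of an irreducible component of X containing x. Then X decomposes into open and closed
subschemes X_n (n ∈ ℤ) such that every irreducible component of X_n has δ-dimension n; stated as the
existence of a locally constant c : X → ℤ with δ(ξ) = c(ξ) for every point ξ that is maximal under
specialization. (The converse implications are immediate and not stated.) Here a pair (X, δ) with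
Cyc.IsSetup plays the role of a scheme locally of finite type over the base (S, δ) (X locally
Noetherian with universally catenary local rings, δ a dimension function). -/
theorem result (X : Scheme.{u}) (δ : X → ℤ) (hX : Cyc.IsSetup X δ) (h3 : ∀ x : X, ∃ n : ℤ, ∀ ξ : X, (∀ ξ' : X, ξ' ⤳ ξ → ξ' = ξ) → ξ ⤳ x → δ ξ = n) : ∃ c : X → ℤ, IsLocallyConstant c ∧ ∀ ξ : X, (∀ ξ' : X, ξ' ⤳ ξ → ξ' = ξ) → δ ξ = c ξ := by
  haveI : IsLocallyNoetherian X := hX.1
  choose c hc using h3
  refine ⟨c, ?_, fun ξ hξ => hc ξ ξ hξ specializes_rfl⟩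
  exact Groth.Agent.S6460.isLocallyConstant_of_maximal
    (fun x => Groth.Agent.Lib.helper7.exists_noetherianSpace_nhd_of_isLocallyNoetherian X x) δ c
    (fun x ξ hξ hξx => hc x ξ hξ hξx)

end Groth.Agent.S6460
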