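import Groth.Statements.S6461
import Groth.Agent.Lib.helper26.DimFun5

set_option autoImplicit false
universe u
open CategoryTheory AlgebraicGeometry
open Cyc

namespace Groth.Agent.S6461



/-- If all local rings of X are Cohen–Macaulay then every x ∈ X has an open neighbourhood U and an
integer n with δ(ξ) = n for every generic point ξ of an irreducible component of U (every point of U
maximal under specialization). Here a pair (X, δ) with Cyc.IsSetup plays the role of a scheme
locally of finite type over the base (S, δ) (X locally Noetherian with universally catenary local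
rings, δ a dimension function). -/
theorem result (X : Scheme.{u}) (δ : X → ℤ) (hX : Cyc.IsSetup X δ) (hCM : ∀ x : X, LocCoh.IsCohenMacaulayLocalRing ↑(X.presheaf.stalk x)) (x : X) : ∃ (U : X.Opens) (n : ℤ), x ∈ U ∧ ∀ ξ : X, ξ ∈ U → (∀ ξ' : X, ξ' ⤳ ξ → ξ' = ξ) → δ ξ = n := by
  haveI := hX.1
  haveI := hCM x
  obtain ⟨d, hd⟩ := Groth.Agent.Lib.helper26.DimFun5.exists_nat_dim (X.presheaf.stalk x)
  obtain ⟨U, hxU, H⟩ := Groth.Agent.Lib.helper26.DimFun5.exists_open_maximal_specializes x
  refine ⟨U, δ x + d, hxU, ?_⟩
  intro ξ hξU hmax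
  exact Groth.Agent.Lib.helper26.DimFun5.delta_eq_of_CM δ hX.2.2 x ξ (H ξ hξU hmax) hmax d hd

end Groth.Agent.S6461
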