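import Groth.Statements.S6476
import Mathlib

set_option autoImplicit false
universe u v
open CycAlg

namespace Groth.Agent.S6476

namespace S6476aux

/-- over a Noetherian ring, a finite module all of whose support primes are maximal has finite
length. -/
theorem isFiniteLength_of_support_maximal {A : Type u} [CommRing A] [IsNoetherianRing A]
    {N : Type v} [AddCommGroup N] [Module A N] (hfin : Module.Finite A N)
    (h : ∀ p ∈ Module.support A N, p.asIdeal.IsMaximal) : IsFiniteLength A N := by
  induction hfin using IsNoetherianRing.induction_on_isQuotientEquivQuotientPrime A with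
  | subsingleton N => exact IsFiniteLength.of_subsingleton
  | quotient N p f =>
    have hp : p ∈ Module.support A N := by
      rw [f.support_eq, Module.mem_support_iff_of_finite, Ideal.annihilator_quotient]
    haveI : p.asIdeal.IsMaximal := h p hp
    haveI : IsSimpleModule A N := isSimpleModule_iff_quot_maximal.2 ⟨p.asIdeal, inferInstance, ⟨f⟩⟩
    rw [← Module.length_ne_top_iff, Module.length_eq_one_iff.2 inferInstance]
    exact ENat.one_ne_top
  | exact N₁ N₂ N₃ f g hf hg hfg h₁ h₃ =>
    have hsupp := Module.support_of_exact hfg hf hg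
    have h1 := h₁ (fun p hp => h p (by rw [hsupp]; exact Or.inl hp))
    have h3 := h₃ (fun p hp => h p (by rw [hsupp]; exact Or.inr hp))
    rw [← Module.length_ne_top_iff] at h1 h3 ⊢
    rw [Module.length_eq_add_of_exact f g hf hg hfg]
    rw [Ne, ENat.add_eq_top]
    exact not_or.2 ⟨h1, h3⟩


/-- an injective endomorphism of a finite module is surjective at the minimal primes of the
support, i.e. these primes are not in the support of the cokernel. -/
theorem notMem_support_coker {A : Type u} [CommRing A] [IsNoetherianRing A] {M : Type v}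
    [AddCommGroup M] [Module A M] [Module.Finite A M] (θ : M →ₗ[A] M)
    (hθ : Function.Injective θ) (p : PrimeSpectrum A)
    (hmin : ∀ q ∈ Module.support A M, q ≤ p → q = p) :
    p ∉ Module.support A (M ⧸ LinearMap.range θ) := by
  have hsupp : ∀ Q ∈ Module.support (Localization.AtPrime p.asIdeal)
      (LocalizedModule p.asIdeal.primeCompl M), Q.asIdeal.IsMaximal := by
    intro Q hQ
    rw [Module.mem_support_iff_exists_annihilator] at hQ
    obtain ⟨x, hx⟩ := hQ
    induction x using LocalizedModule.induction_on with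
    | h m s =>
      let q : PrimeSpectrum A := PrimeSpectrum.comap (algebraMap A (Localization.AtPrime p.asIdeal)) Q
      have hq : q ∈ Module.support A M := by
        rw [Module.mem_support_iff_exists_annihilator]
        refine ⟨m, fun a ha => ?_⟩
        have ham : a • m = 0 := (Submodule.mem_annihilator_span_singleton _ _).1 ha
        change algebraMap A (Localization.AtPrime p.asIdeal) a ∈ Q.asIdeal
        apply hx
        rw [Submodule.mem_annihilator_span_singleton, algebraMap_smul, LocalizedModule.smul'_mk,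
          ham, LocalizedModule.zero_mk]
      have hqp : q ≤ p := by
        intro a ha
        by_contra hap
        have hunit : IsUnit (algebraMap A (Localization.AtPrime p.asIdeal) a) :=
          IsLocalization.map_units (Localization.AtPrime p.asIdeal)
            (⟨a, hap⟩ : p.asIdeal.primeCompl)
        exact Q.2.ne_top (Ideal.eq_top_of_isUnit_mem _ ha hunit)
      have hqeq : q = p := hmin q hq hqp
      have hle : IsLocalRing.maximalIdeal (Localization.AtPrime p.asIdeal) ≤ Q.asIdeal := by
        intro z hz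
        obtain ⟨a, t, rfl⟩ := IsLocalization.exists_mk'_eq p.asIdeal.primeCompl z
        rw [IsLocalization.AtPrime.mk'_mem_maximal_iff (Localization.AtPrime p.asIdeal)
          p.asIdeal] at hz
        have ha : a ∈ q.asIdeal := by rw [hqeq]; exact hz
        rw [IsLocalization.mk'_eq_mul_mk'_one]
        exact Ideal.mul_mem_right _ _ ha
      have := (IsLocalRing.maximalIdeal.isMaximal (Localization.AtPrime p.asIdeal)).eq_of_le
        Q.2.ne_top hle
      rw [← this]
      infer_instance
  have hfl := isFiniteLength_of_support_maximal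
    (inferInstance : Module.Finite (Localization.AtPrime p.asIdeal)
      (LocalizedModule p.asIdeal.primeCompl M)) hsupp
  haveI : IsArtinian (Localization.AtPrime p.asIdeal) (LocalizedModule p.asIdeal.primeCompl M) :=
    (isFiniteLength_iff_isNoetherian_isArtinian.1 hfl).2
  have hinj : Function.Injective (LocalizedModule.map p.asIdeal.primeCompl θ) :=
    LocalizedModule.map_injective _ θ hθ
  have hsurj := IsArtinian.surjective_of_injective_endomorphism _ hinj
  rw [Module.notMem_support_iff']
  intro n
  obtain ⟨m, rfl⟩ := Submodule.mkQ_surjective _ n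
  obtain ⟨y, hy⟩ := hsurj (LocalizedModule.mk m 1)
  induction y using LocalizedModule.induction_on with
  | h m' s =>
    rw [LocalizedModule.map_mk, LocalizedModule.mk_eq] at hy
    obtain ⟨t, ht⟩ := hy
    simp only [one_smul, Submonoid.smul_def] at ht
    refine ⟨(t : A) * (s : A), (t * s).2, ?_⟩
    rw [← map_smul, Submodule.mkQ_apply, Submodule.Quotient.mk_eq_zero, mul_smul, ← ht,
      ← map_smul]
    exact ⟨_, rfl⟩

end S6476aux

/-- Let A be a Noetherian local ring, M a finite A-module of dimension 1, and φ, ψ : M → M injective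
with φ(ψ(M)) = ψ(φ(M)) (e.g. φ, ψ commute). Then length_A(M/φψM) is finite and (M/φψM, φ, ψ) is an
exact (2, 1)-periodic complex; here φ', ψ' denote the endomorphisms of M/φψM induced by φ and ψ, and
exactness says both cohomology modules (CycAlg.perH) are trivial. -/
theorem result {A : Type u} [CommRing A] [IsNoetherianRing A] [IsLocalRing A] {M : Type v} [AddCommGroup M] [Module A M] [Module.Finite A M] (hdim : Module.supportDim A M = 1) (φ ψ : M →ₗ[A] M) (hφ : Function.Injective φ) (hψ : Function.Injective ψ) (hcomm : Submodule.map φ (LinearMap.range ψ) = Submodule.map ψ (LinearMap.range φ)) (φ' ψ' : (M ⧸ LinearMap.range (φ ∘ₗ ψ)) →ₗ[A] (M ⧸ LinearMap.range (φ ∘ₗ ψ))) (hφ' : φ' ∘ₗ (LinearMap.range (φ ∘ₗ ψ)).mkQ = (LinearMap.range (φ ∘ₗ ψ)).mkQ ∘ₗ φ) (hψ' : ψ' ∘ₗ (LinearMap.range (φ ∘ₗ ψ)).mkQ = (LinearMap.range (φ ∘ₗ ψ)).mkQ ∘ₗ ψ) : Module.length A (M ⧸ LinearMap.range (φ ∘ₗ ψ)) < ⊤ ∧ CycAlg.IsPeriodic φ' ψ' ∧ Subsingleton (CycAlg.perH φ' ψ') ∧ Subsingleton (CycAlg.perH ψ' φ') := by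
  have hφm : ∀ m, φ' ((LinearMap.range (φ ∘ₗ ψ)).mkQ m) = (LinearMap.range (φ ∘ₗ ψ)).mkQ (φ m) :=
    fun m => LinearMap.congr_fun hφ' m
  have hψm : ∀ m, ψ' ((LinearMap.range (φ ∘ₗ ψ)).mkQ m) = (LinearMap.range (φ ∘ₗ ψ)).mkQ (ψ m) :=
    fun m => LinearMap.congr_fun hψ' m
  have hzero : ∀ m, (LinearMap.range (φ ∘ₗ ψ)).mkQ m = 0 ↔ ∃ m', φ (ψ m') = m := by
    intro m
    rw [Submodule.mkQ_apply, Submodule.Quotient.mk_eq_zero]
    rfl
  -- swapping
  have hswap : ∀ m, ∃ m', ψ (φ m) = φ (ψ m') := by
    intro m
    have : ψ (φ m) ∈ Submodule.map ψ (LinearMap.range φ) := ⟨φ m, ⟨m, rfl⟩, rfl⟩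
    rw [← hcomm] at this
    obtain ⟨_, ⟨m', rfl⟩, h⟩ := this
    exact ⟨m', h.symm⟩
  have hswap' : ∀ m, ∃ m', φ (ψ m) = ψ (φ m') := by
    intro m
    have : φ (ψ m) ∈ Submodule.map φ (LinearMap.range ψ) := ⟨ψ m, ⟨m, rfl⟩, rfl⟩
    rw [hcomm] at this
    obtain ⟨_, ⟨m', rfl⟩, h⟩ := this
    exact ⟨m', h.symm⟩
  refine ⟨?_, ⟨?_, ?_⟩, ?_, ?_⟩
  · -- finite length
    have hθ : Function.Injective (φ ∘ₗ ψ) := hφ.comp hψ
    have hfl : IsFiniteLength A (M ⧸ LinearMap.range (φ ∘ₗ ψ)) := by
      apply S6476aux.isFiniteLength_of_support_maximal inferInstance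
      intro p hp
      by_contra hnm
      apply S6476aux.notMem_support_coker (φ ∘ₗ ψ) hθ p _ hp
      intro q hq hqp
      by_contra hne
      have hqlt : q < p := lt_of_le_of_ne hqp hne
      have hpM : p ∈ Module.support A M :=
        Module.support_subset_of_surjective _ (Submodule.mkQ_surjective _) hp
      have hple : p ≤ IsLocalRing.closedPoint A := IsLocalRing.le_maximalIdeal p.2.ne_top
      have hplt : p < IsLocalRing.closedPoint A := by
        refine lt_of_le_of_ne hple fun h => hnm ?_
        rw [h]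
        exact IsLocalRing.maximalIdeal.isMaximal A
      have hmM : IsLocalRing.closedPoint A ∈ Module.support A M :=
        Module.mem_support_mono hple hpM
      let c : LTSeries (Module.support A M) :=
        { length := 2
          toFun := ![⟨q, hq⟩, ⟨p, hpM⟩, ⟨IsLocalRing.closedPoint A, hmM⟩]
          step := by
            intro i
            fin_cases i
            · exact hqlt
            · exact hplt }
      have h2 := Order.LTSeries.length_le_krullDim c
      have : Module.supportDim A M = Order.krullDim (Module.support A M) := rfl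
      rw [← this, hdim] at h2
      change ((2 : ℕ) : WithBot ℕ∞) ≤ 1 at h2
      norm_cast at h2
    exact lt_top_iff_ne_top.2 (Module.length_ne_top_iff.2 hfl)
  · refine LinearMap.ext fun n => ?_
    obtain ⟨m, rfl⟩ := Submodule.mkQ_surjective _ n
    simp only [LinearMap.comp_apply, LinearMap.zero_apply, hψm, hφm]
    exact (hzero _).2 ⟨m, rfl⟩
  · refine LinearMap.ext fun n => ?_
    obtain ⟨m, rfl⟩ := Submodule.mkQ_surjective _ n
    simp only [LinearMap.comp_apply, LinearMap.zero_apply, hψm, hφm]
    obtain ⟨m', hm'⟩ := hswap m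
    exact (hzero _).2 ⟨m', hm'.symm⟩
  · rw [Submodule.Quotient.subsingleton_iff, Submodule.submoduleOf_eq_top]
    intro n hn
    obtain ⟨m, rfl⟩ := Submodule.mkQ_surjective _ n
    rw [LinearMap.mem_ker, hφm, hzero] at hn
    obtain ⟨m', hm'⟩ := hn
    have : ψ m' = m := hφ hm'
    exact ⟨(LinearMap.range (φ ∘ₗ ψ)).mkQ m', by rw [hψm, this]⟩
  · rw [Submodule.Quotient.subsingleton_iff, Submodule.submoduleOf_eq_top]
    intro n hn
    obtain ⟨m, rfl⟩ := Submodule.mkQ_surjective _ n
    rw [LinearMap.mem_ker, hψm, hzero] at hn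
    obtain ⟨m', hm'⟩ := hn
    obtain ⟨m'', hm''⟩ := hswap' m'
    have : φ m'' = m := hψ (by rw [← hm'', hm'])
    exact ⟨(LinearMap.range (φ ∘ₗ ψ)).mkQ m'', by rw [hφm, this]⟩

end Groth.Agent.S6476
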