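import Groth.Statements.S6501
import Mathlib

set_option autoImplicit false
universe u
open DPow

namespace Groth.Agent.S6501

/-- DP structure on any ideal of a ring in which all factorials are units. -/
noncomputable def dpB {B : Type*} [CommRing B] (J : Ideal B) [DecidablePred (fun x ↦ x ∈ J)]
    (hB : ∀ n : ℕ, IsUnit ((n.factorial : ℕ) : B)) : DividedPowers J where
  dpow := DividedPowers.OfInvertibleFactorial.dpow J
  dpow_null hx := DividedPowers.OfInvertibleFactorial.dpow_null hx
  dpow_zero hx := DividedPowers.OfInvertibleFactorial.dpow_zero hx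
  dpow_one hx := DividedPowers.OfInvertibleFactorial.dpow_one hx
  dpow_mem hn hx := DividedPowers.OfInvertibleFactorial.dpow_mem hn hx
  dpow_add {n} _ _ hx hy := DividedPowers.OfInvertibleFactorial.dpow_add_of_lt (hB _) (n.lt_succ_self) hx hy
  dpow_mul hx := DividedPowers.OfInvertibleFactorial.dpow_mul hx
  mul_dpow {m} k _ hx := DividedPowers.OfInvertibleFactorial.dpow_mul_of_add_lt (hB _) (m + k).lt_succ_self hx
  dpow_comp hk hx := DividedPowers.OfInvertibleFactorial.dpow_comp_of_mul_lt (hB _) hk (lt_add_one _) hx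

theorem pow_mem_of_gens {A : Type u} [CommRing A] (I : Ideal A) (S : Set A)
    (hS : Ideal.span S = I)
    (h : ∀ x ∈ S, ∀ n : ℕ, 1 ≤ n → x ^ n ∈ Ideal.span {(Nat.factorial n : A)} * I) :
    ∀ x ∈ I, ∀ n : ℕ, 1 ≤ n → x ^ n ∈ Ideal.span {(Nat.factorial n : A)} * I := by
  intro x hx
  rw [← hS] at hx
  induction hx using Submodule.span_induction with
  | mem x hx => exact h x hx
  | zero =>
    intro n hn
    rw [zero_pow (by omega)]
    exact Submodule.zero_mem _
  | add x y hx hy ihx ihy =>
    intro n hn
    rw [add_pow]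
    refine Ideal.sum_mem _ fun k hk => ?_
    rw [Finset.mem_range] at hk
    rcases Nat.eq_zero_or_pos k with rfl | hk0
    · simp only [pow_zero, one_mul, Nat.sub_zero, Nat.choose_zero_right, Nat.cast_one, mul_one]
      exact ihy n hn
    rcases Nat.eq_or_lt_of_le (Nat.lt_succ_iff.mp hk) with rfl | hkn
    · simp only [Nat.sub_self, pow_zero, mul_one, Nat.choose_self, Nat.cast_one]
      exact ihx k hn
    obtain ⟨a, ha, hxa⟩ := Ideal.mem_span_singleton_mul.mp (ihx k hk0)
    obtain ⟨c, hc, hyc⟩ := Ideal.mem_span_singleton_mul.mp (ihy (n - k) (by omega))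
    rw [Ideal.mem_span_singleton_mul]
    refine ⟨a * c, Ideal.mul_mem_right _ _ ha, ?_⟩
    rw [← hxa, ← hyc]
    have : ((n.factorial : ℕ) : A) = (k.factorial : A) * ((n - k).factorial : A) * (n.choose k : A) := by
      rw [← Nat.choose_mul_factorial_mul_factorial (Nat.le_of_lt hkn)]
      push_cast
      ring
    rw [this]
    ring
  | smul a x hx ihx =>
    intro n hn
    rw [smul_eq_mul, mul_pow]
    exact Ideal.mul_mem_left _ _ (ihx n hn)

/-- Let A be a commutative ring whose additive group is torsion free and I an ideal of A. Then I carries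
at most one divided power structure, and it carries one if and only if I is generated by a set S
such that for every x in S and every n ≥ 1 the power x^n lies in the ideal generated by the products
of n! with elements of I. -/
theorem result {A : Type u} [CommRing A] [IsAddTorsionFree A] (I : Ideal A) :
    Subsingleton (DividedPowers I) ∧
    (Nonempty (DividedPowers I) ↔ ∃ S : Set A, Ideal.span S = I ∧
      ∀ x ∈ S, ∀ n : ℕ, 1 ≤ n → x ^ n ∈ Ideal.span {(Nat.factorial n : A)} * I) := by
  classical
  have htf : ∀ (n : ℕ) (a c : A), n ≠ 0 → (n : A) * a = (n : A) * c → a = c := by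
    intro n a c hn h
    rw [← nsmul_eq_mul, ← nsmul_eq_mul] at h
    exact nsmul_right_injective hn h
  refine ⟨⟨fun γ γ' => ?_⟩, ⟨?_, ?_⟩⟩
  · refine DividedPowers.ext _ _ fun n x hx => ?_
    apply htf n.factorial _ _ (Nat.factorial_ne_zero n)
    rw [DividedPowers.factorial_mul_dpow_eq_pow γ hx, DividedPowers.factorial_mul_dpow_eq_pow γ' hx]
  · rintro ⟨γ⟩
    refine ⟨(I : Set A), Ideal.span_eq I, fun x hx n hn => ?_⟩
    rw [Ideal.mem_span_singleton_mul]
    exact ⟨γ.dpow n x, γ.dpow_mem (by omega) hx, DividedPowers.factorial_mul_dpow_eq_pow γ hx⟩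
  · rintro ⟨S, hS, h⟩
    have hall := pow_mem_of_gens I S hS h
    let M : Submonoid A := (nonZeroDivisors ℕ).map (Nat.castRingHom A : ℕ →* A)
    have hM : M ≤ nonZeroDivisors A := by
      rintro _ ⟨n, hn, rfl⟩
      have hn0 : n ≠ 0 := nonZeroDivisors.ne_zero hn
      rw [mem_nonZeroDivisors_iff_right]
      intro a ha
      apply htf n a 0 hn0
      rw [mul_zero, ← ha]
      simp [mul_comm]
    let B := Localization M
    let f : A →+* B := algebraMap A B
    have hf : Function.Injective f := IsLocalization.injective B hM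
    have hB : ∀ n : ℕ, IsUnit ((n.factorial : ℕ) : B) := by
      intro n
      have : ((n.factorial : ℕ) : B) = f ((n.factorial : ℕ) : A) := by simp [f]
      rw [this]
      exact IsLocalization.map_units B (⟨_, ⟨n.factorial, mem_nonZeroDivisors_of_ne_zero (Nat.factorial_ne_zero n), rfl⟩⟩ : M)
    refine ⟨DividedPowers.ofInjective I (I.map f) f hf (dpB (I.map f) hB) rfl ?_⟩
    intro n x hx
    rcases Nat.eq_zero_or_pos n with rfl | hn
    · refine ⟨1, fun h => absurd rfl h, ?_⟩
      rw [map_one]
      exact ((dpB (I.map f) hB).dpow_zero (Ideal.mem_map_of_mem f hx)).symm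
    · obtain ⟨a, ha, hxa⟩ := Ideal.mem_span_singleton_mul.mp (hall x hx n hn)
      refine ⟨a, fun _ => ha, ?_⟩
      change f a = DividedPowers.OfInvertibleFactorial.dpow (I.map f) n (f x)
      rw [DividedPowers.OfInvertibleFactorial.dpow_eq_of_mem (Ideal.mem_map_of_mem f hx),
        ← map_pow, ← hxa, map_mul, map_natCast, ← mul_assoc, Ring.inverse_mul_cancel _ (hB n), one_mul]

end Groth.Agent.S6501
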