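import Groth.Statements.S6575
import Mathlib
import Groth.Agent.S10890

set_option autoImplicit false
universe u
open Curves

namespace Groth.Agent.S6575aux

open Matrix

variable {S : Type u} [CommRing S]

/-- the ideal of `r`-minors indexed by injective maps -/
def J {m n : ℕ} (Jm : Matrix (Fin m) (Fin n) S) (r : ℕ) : Ideal S :=
  Ideal.span {d : S | ∃ (ρ : Fin r → Fin m) (γ : Fin r → Fin n), Function.Injective ρ ∧
    Function.Injective γ ∧ d = (Jm.submatrix ρ γ).det}

theorem minorIdeal_le_J {m n : ℕ} (Jm : Matrix (Fin m) (Fin n) S) (r : ℕ) :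
    CAlgX.minorIdeal Jm r ≤ J Jm r := by
  rw [CAlgX.minorIdeal, Ideal.span_le]
  rintro _ ⟨⟨ρ, γ⟩, rfl⟩
  simp only [SetLike.mem_coe]
  by_cases hρ : Function.Injective ρ
  · by_cases hγ : Function.Injective γ
    · exact Ideal.subset_span ⟨ρ, γ, hρ, hγ, rfl⟩
    · obtain ⟨a, b, hab, hne⟩ : ∃ a b, γ a = γ b ∧ a ≠ b := by
        unfold Function.Injective at hγ; push Not at hγ; exact hγ
      rw [Matrix.det_zero_of_column_eq hne (by intro k; simp [hab])]
      exact zero_mem _
  · obtain ⟨a, b, hab, hne⟩ : ∃ a b, ρ a = ρ b ∧ a ≠ b := by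
      unfold Function.Injective at hρ; push Not at hρ; exact hρ
    rw [Matrix.det_zero_of_row_eq hne (by funext k; simp [hab])]
    exact zero_mem _

/-- one inclusion, for a general derivation family -/
theorem one_side {k : Type*} [CommRing k] [Algebra k S] {n m l : ℕ} (D : Fin n → Derivation k S S) (r : ℕ)
    (f : Fin m → S) (g : Fin l → S)
    (hfg : Ideal.span (Set.range f) ≤ Ideal.span (Set.range g)) :
    J (Matrix.of fun (j : Fin m) (i : Fin n) => D i (f j)) r ≤
      J (Matrix.of fun (j : Fin l) (i : Fin n) => D i (g j)) r ⊔ Ideal.span (Set.range g) := by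
  classical
  set I := Ideal.span (Set.range g) with hI
  set Jf : Matrix (Fin m) (Fin n) S := Matrix.of fun j i => D i (f j) with hJf
  set Jg : Matrix (Fin l) (Fin n) S := Matrix.of fun j i => D i (g j) with hJg
  have hex : ∀ j : Fin m, ∃ c : Fin l → S, ∑ s, c s * g s = f j := by
    intro j
    have : f j ∈ Ideal.span (Set.range g) := hfg (Ideal.subset_span ⟨j, rfl⟩)
    exact (Ideal.mem_span_range_iff_exists_fun).mp this
  choose a ha using hex
  let aM : Matrix (Fin m) (Fin l) S := Matrix.of fun j s => a j s
  -- entrywise congruence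
  have hentry : ∀ j i, Jf j i - (aM * Jg) j i ∈ I := by
    intro j i
    have : Jf j i - (aM * Jg) j i = ∑ s, g s * D i (a j s) := by
      simp only [hJf, hJg, aM, Matrix.of_apply, Matrix.mul_apply]
      rw [← ha j, map_sum, ← Finset.sum_sub_distrib]
      apply Finset.sum_congr rfl
      intro s _
      rw [Derivation.leibniz]
      simp only [smul_eq_mul]
      ring
    rw [this]
    exact Ideal.sum_mem _ fun s _ => Ideal.mul_mem_right _ _ (Ideal.subset_span ⟨s, rfl⟩)
  unfold J
  rw [Ideal.span_le]
  rintro _ ⟨ρ, γ, hρ, hγ, rfl⟩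
  simp only [SetLike.mem_coe]
  -- compare determinants modulo I
  have hdet : (Jf.submatrix ρ γ).det - ((aM * Jg).submatrix ρ γ).det ∈ I := by
    rw [← Ideal.Quotient.eq_zero_iff_mem, map_sub, RingHom.map_det, RingHom.map_det, sub_eq_zero]
    congr 1
    ext x y
    simp only [RingHom.mapMatrix_apply, Matrix.map_apply, Matrix.submatrix_apply]
    rw [← sub_eq_zero, ← map_sub, Ideal.Quotient.eq_zero_iff_mem]
    exact hentry _ _
  have h2 : ((aM * Jg).submatrix ρ γ).det ∈ J Jg r := by
    apply minorIdeal_le_J
    apply Groth.Agent.S10890aux.minorIdeal_mul_left_le aM Jg r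
    exact Ideal.subset_span ⟨(ρ, γ), rfl⟩
  have : (Jf.submatrix ρ γ).det =
      ((aM * Jg).submatrix ρ γ).det + ((Jf.submatrix ρ γ).det - ((aM * Jg).submatrix ρ γ).det) := by
    ring
  rw [this]
  exact Ideal.add_mem _ (Ideal.mem_sup_left h2) (Ideal.mem_sup_right hdet)


theorem main (k : Type u) [Field k] (n m l r : ℕ)
    (f : Fin m → MvPowerSeries (Fin n) k) (g : Fin l → MvPowerSeries (Fin n) k)
    (hfg : Ideal.span (Set.range f) = Ideal.span (Set.range g)) :
    Ideal.span {d : MvPowerSeries (Fin n) k | ∃ (ρ : Fin r → Fin m) (γ : Fin r → Fin n), Function.Injective ρ ∧ Function.Injective γ ∧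
          d = ((Matrix.of fun (j : Fin m) (i : Fin n) => MvPowerSeries.pderiv k i (f j)).submatrix ρ γ).det} ⊔ Ideal.span (Set.range f) =
      Ideal.span {d : MvPowerSeries (Fin n) k | ∃ (ρ : Fin r → Fin l) (γ : Fin r → Fin n), Function.Injective ρ ∧ Function.Injective γ ∧
          d = ((Matrix.of fun (j : Fin l) (i : Fin n) => MvPowerSeries.pderiv k i (g j)).submatrix ρ γ).det} ⊔ Ideal.span (Set.range g) := by
  apply le_antisymm
  · apply sup_le
    · exact one_side (fun i => MvPowerSeries.pderiv k i) r f g hfg.le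
    · rw [hfg]; exact le_sup_right
  · apply sup_le
    · exact one_side (fun i => MvPowerSeries.pderiv k i) r g f hfg.ge
    · rw [← hfg]; exact le_sup_right

end Groth.Agent.S6575aux

namespace Groth.Agent.S6575

/-- Let k be a field, A = k[[x_1, …, x_n]] and I ⊆ A an ideal generated by f_1, …, f_m and also by g_1,
…, g_l. Then for every r ≥ 0 the ideal of A/I generated by the r × r minors of (∂f_j/∂x_i) equals
the one generated by the r × r minors of (∂g_s/∂x_i); stated in A as equality of the ideals
generated by the minors together with I. (The published result also asserts independence of the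
regular system of parameters x_1, …, x_n, which is not stated here.) -/
theorem result (k : Type u) [Field k] (n m l r : ℕ)
    (f : Fin m → MvPowerSeries (Fin n) k) (g : Fin l → MvPowerSeries (Fin n) k)
    (hfg : Ideal.span (Set.range f) = Ideal.span (Set.range g)) :
    Ideal.span {d : MvPowerSeries (Fin n) k | ∃ (ρ : Fin r → Fin m) (γ : Fin r → Fin n), Function.Injective ρ ∧ Function.Injective γ ∧
          d = ((Matrix.of fun (j : Fin m) (i : Fin n) => MvPowerSeries.pderiv k i (f j)).submatrix ρ γ).det} ⊔ Ideal.span (Set.range f) =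
      Ideal.span {d : MvPowerSeries (Fin n) k | ∃ (ρ : Fin r → Fin l) (γ : Fin r → Fin n), Function.Injective ρ ∧ Function.Injective γ ∧
          d = ((Matrix.of fun (j : Fin l) (i : Fin n) => MvPowerSeries.pderiv k i (g j)).submatrix ρ γ).det} ⊔ Ideal.span (Set.range g) := by
  exact Groth.Agent.S6575aux.main k n m l r f g hfg

end Groth.Agent.S6575
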