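import Groth.Statements.S6580
import Mathlib
-- import your own Groth.Agent.* helpers here

set_option autoImplicit false
universe v u
open CategoryTheory CategoryTheory.Limits
open CohDer

namespace Groth.Agent.S6580

section helpers

lemma idem_lift {R : Type*} [Ring R] (x : R) (h : (x * x - x) * (x * x - x) = 0) :
    (3 • (x * x) - 2 • (x * x * x)) * (3 • (x * x) - 2 • (x * x * x)) =
      3 • (x * x) - 2 • (x * x * x) := by
  have key : (3 • (x * x) - 2 • (x * x * x)) * (3 • (x * x) - 2 • (x * x * x)) -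
      (3 • (x * x) - 2 • (x * x * x)) =
      -(((x * x - x) * (x * x - x)) * ((3 - 2 • x) * (1 + 2 • x))) := by
    noncomm_ring
  rw [h, zero_mul, neg_zero, sub_eq_zero] at key
  exact key

end helpers

open CategoryTheory.Pretriangulated in
/-- Let (X, Y, Z, f, g, h) be a distinguished triangle of a pretriangulated category, and let a : X ⟶ X
and c : Z ⟶ Z be idempotents with h ≫ a⟦1⟧ = c ≫ h. Then there is an idempotent b : Y ⟶ Y such that
(a, b, c) is an endomorphism of the triangle. -/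
theorem result {D : Type u} [Category.{v} D] [Preadditive D] [HasZeroObject D] [HasShift D ℤ]
    [∀ n : ℤ, (shiftFunctor D n).Additive] [Pretriangulated D]
    (T : Triangle D) (hT : T ∈ distinguishedTriangles) (a : T.obj₁ ⟶ T.obj₁) (c : T.obj₃ ⟶ T.obj₃)
    (ha : a ≫ a = a) (hc : c ≫ c = c) (comm : T.mor₃ ≫ (shiftFunctor D (1 : ℤ)).map a = c ≫ T.mor₃) :
    ∃ b : T.obj₂ ⟶ T.obj₂, b ≫ b = b ∧ T.mor₁ ≫ b = a ≫ T.mor₁ ∧ T.mor₂ ≫ c = b ≫ T.mor₂ := by
  obtain ⟨b₀, hb1, hb2⟩ := complete_distinguished_triangle_morphism₂ T T hT hT a c comm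
  have h1 : T.mor₁ ≫ (b₀ ≫ b₀ - b₀) = 0 := by
    rw [Preadditive.comp_sub, ← Category.assoc, hb1, Category.assoc, hb1, ← Category.assoc, ha,
      sub_self]
  have h2 : (b₀ ≫ b₀ - b₀) ≫ T.mor₂ = 0 := by
    rw [Preadditive.sub_comp, Category.assoc, ← hb2, ← Category.assoc, ← hb2, Category.assoc, hc,
      sub_self]
  obtain ⟨β, hβ⟩ := Triangle.yoneda_exact₂ T hT (b₀ ≫ b₀ - b₀) h1
  have hδδ : (b₀ ≫ b₀ - b₀) ≫ (b₀ ≫ b₀ - b₀) = 0 := by
    calc (b₀ ≫ b₀ - b₀) ≫ (b₀ ≫ b₀ - b₀) = (b₀ ≫ b₀ - b₀) ≫ T.mor₂ ≫ β := by rw [← hβ]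
      _ = 0 := by rw [← Category.assoc, h2, zero_comp]
  have hidem := idem_lift (R := End T.obj₂) b₀ hδδ
  refine ⟨3 • (b₀ ≫ b₀) - 2 • (b₀ ≫ b₀ ≫ b₀), hidem, ?_, ?_⟩
  · have e2 : T.mor₁ ≫ b₀ ≫ b₀ = a ≫ T.mor₁ := by
      rw [← Category.assoc, hb1, Category.assoc, hb1, ← Category.assoc, ha]
    have e3 : T.mor₁ ≫ b₀ ≫ b₀ ≫ b₀ = a ≫ T.mor₁ := by
      rw [← Category.assoc, hb1, Category.assoc, e2, ← Category.assoc, ha]
    rw [Preadditive.comp_sub, Preadditive.comp_nsmul, Preadditive.comp_nsmul, e2, e3]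
    rw [show (3 : ℕ) = 2 + 1 from rfl, add_smul, one_smul]
    abel
  · have e2 : b₀ ≫ b₀ ≫ T.mor₂ = T.mor₂ ≫ c := by
      rw [← hb2, ← Category.assoc, ← hb2, Category.assoc, hc]
    have e3 : b₀ ≫ b₀ ≫ b₀ ≫ T.mor₂ = T.mor₂ ≫ c := by
      rw [e2, ← Category.assoc, ← hb2, Category.assoc, hc]
    have e3' : b₀ ≫ T.mor₂ ≫ c = T.mor₂ ≫ c := by
      rw [← Category.assoc, ← hb2, Category.assoc, hc]
    rw [Preadditive.sub_comp, Preadditive.nsmul_comp, Preadditive.nsmul_comp, Category.assoc,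
      Category.assoc, Category.assoc, e2, e3']
    rw [show (3 : ℕ) = 2 + 1 from rfl, add_smul, one_smul]
    abel

end Groth.Agent.S6580
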