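import Groth.Statements.S6581
import Mathlib
import Groth.Agent.Lib.helper2.CoprodTriangle
-- import your own Groth.Agent.* helpers here

set_option autoImplicit false
universe v u
open CategoryTheory CategoryTheory.Limits
open CohDer

namespace Groth.Agent.S6581

section helpers

set_option linter.unusedSectionVars false

open CategoryTheory.Pretriangulated Groth.Agent.Lib.helper2.CoprodTriangle

variable {D : Type u} [Category.{v} D] [Preadditive D] [HasZeroObject D] [HasShift D ℤ]
    [∀ n : ℤ, (shiftFunctor D n).Additive] [Pretriangulated D]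

/-- the direct sum triangle -/
noncomputable def sumTriangle (T T' : Triangle D) : Triangle D :=
  Triangle.mk (biprod.map T.mor₁ T'.mor₁) (biprod.map T.mor₂ T'.mor₂)
    (biprod.desc (T.mor₃ ≫ (shiftFunctor D (1 : ℤ)).map biprod.inl)
      (T'.mor₃ ≫ (shiftFunctor D (1 : ℤ)).map biprod.inr))

/-- a coproduct indexed by `WalkingPair` is the biproduct -/
noncomputable def sigmaIsoBiprod (X : WalkingPair → D) :
    (∐ X) ≅ X WalkingPair.left ⊞ X WalkingPair.right where
  hom := Sigma.desc (fun j => match j with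
    | WalkingPair.left => biprod.inl
    | WalkingPair.right => biprod.inr)
  inv := biprod.desc (Sigma.ι X WalkingPair.left) (Sigma.ι X WalkingPair.right)
  hom_inv_id := by
    apply Sigma.hom_ext
    intro j
    cases j <;> simp
  inv_hom_id := by
    apply biprod.hom_ext' <;> simp

lemma sumTriangle_distinguished' (Tj : WalkingPair → Triangle D)
    (hTj : ∀ j, Tj j ∈ distTriang D) :
    sumTriangle (Tj WalkingPair.left) (Tj WalkingPair.right) ∈ distTriang D := by
  have h := coproductTriangle_distinguished Tj hTj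
  refine isomorphic_distinguished _ h _ (Iso.symm ?_)
  refine Triangle.isoMk _ _ (sigmaIsoBiprod (fun j => (Tj j).obj₁))
    (sigmaIsoBiprod (fun j => (Tj j).obj₂)) (sigmaIsoBiprod (fun j => (Tj j).obj₃)) ?_ ?_ ?_
  · apply Sigma.hom_ext
    intro j
    dsimp only [coproductTriangle, sumTriangle, sigmaIsoBiprod, Triangle.mk]
    cases j
    · rw [Sigma.ι_map_assoc, Sigma.ι_desc, Sigma.ι_desc_assoc]
      exact (biprod.inl_map _ _).symm
    · rw [Sigma.ι_map_assoc, Sigma.ι_desc, Sigma.ι_desc_assoc]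
      exact (biprod.inr_map _ _).symm
  · apply Sigma.hom_ext
    intro j
    dsimp only [coproductTriangle, sumTriangle, sigmaIsoBiprod, Triangle.mk]
    cases j
    · rw [Sigma.ι_map_assoc, Sigma.ι_desc, Sigma.ι_desc_assoc]
      exact (biprod.inl_map _ _).symm
    · rw [Sigma.ι_map_assoc, Sigma.ι_desc, Sigma.ι_desc_assoc]
      exact (biprod.inr_map _ _).symm
  · apply Sigma.hom_ext
    intro j
    dsimp only [coproductTriangle, sumTriangle, sigmaIsoBiprod, Triangle.mk]
    cases j
    · rw [Sigma.ι_desc_assoc, Sigma.ι_desc_assoc, Category.assoc, ← Functor.map_comp, Sigma.ι_desc]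
      exact (biprod.inl_desc _ _).symm
    · rw [Sigma.ι_desc_assoc, Sigma.ι_desc_assoc, Category.assoc, ← Functor.map_comp, Sigma.ι_desc]
      exact (biprod.inr_desc _ _).symm

lemma sumTriangle_distinguished (T T' : Triangle D) (hT : T ∈ distTriang D)
    (hT' : T' ∈ distTriang D) : sumTriangle T T' ∈ distTriang D := by
  have := sumTriangle_distinguished' (fun j => match j with
    | WalkingPair.left => T
    | WalkingPair.right => T') (by
      intro j; cases j
      · exact hT
      · exact hT')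
  exact this

lemma desc_fst (T T' : Triangle D) :
    biprod.desc (T.mor₃ ≫ (shiftFunctor D (1 : ℤ)).map biprod.inl)
      (T'.mor₃ ≫ (shiftFunctor D (1 : ℤ)).map biprod.inr) ≫
      (shiftFunctor D (1 : ℤ)).map (biprod.fst : T.obj₁ ⊞ T'.obj₁ ⟶ T.obj₁) =
    biprod.fst ≫ T.mor₃ := by
  apply biprod.hom_ext'
  · rw [biprod.inl_desc_assoc, Category.assoc, ← Functor.map_comp, biprod.inl_fst,
      CategoryTheory.Functor.map_id, Category.comp_id, biprod.inl_fst_assoc]
  · rw [biprod.inr_desc_assoc, Category.assoc, ← Functor.map_comp, biprod.inr_fst,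
      Functor.map_zero, comp_zero, biprod.inr_fst_assoc, zero_comp]

lemma desc_snd (T T' : Triangle D) :
    biprod.desc (T.mor₃ ≫ (shiftFunctor D (1 : ℤ)).map biprod.inl)
      (T'.mor₃ ≫ (shiftFunctor D (1 : ℤ)).map biprod.inr) ≫
      (shiftFunctor D (1 : ℤ)).map (biprod.snd : T.obj₁ ⊞ T'.obj₁ ⟶ T'.obj₁) =
    biprod.snd ≫ T'.mor₃ := by
  apply biprod.hom_ext'
  · rw [biprod.inl_desc_assoc, Category.assoc, ← Functor.map_comp, biprod.inl_snd,
      Functor.map_zero, comp_zero, biprod.inl_snd_assoc, zero_comp]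
  · rw [biprod.inr_desc_assoc, Category.assoc, ← Functor.map_comp, biprod.inr_snd,
      CategoryTheory.Functor.map_id, Category.comp_id, biprod.inr_snd_assoc]

/-- both summands of a distinguished direct sum triangle are distinguished -/
lemma summands_distinguished (T T' : Triangle D) (hS : sumTriangle T T' ∈ distTriang D) :
    T ∈ distTriang D ∧ T' ∈ distTriang D := by
  obtain ⟨Z₁, g₁, h₁, hT₁⟩ := distinguished_cocone_triangle T.mor₁
  obtain ⟨Z₁', g₁', h₁', hT₁'⟩ := distinguished_cocone_triangle T'.mor₁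
  -- the comparison maps
  obtain ⟨a, ha1, ha2⟩ : ∃ a : Z₁ ⟶ T.obj₃ ⊞ T'.obj₃,
      g₁ ≫ a = biprod.inl ≫ biprod.map T.mor₂ T'.mor₂ ∧
      h₁ ≫ (shiftFunctor D (1 : ℤ)).map biprod.inl = a ≫
        biprod.desc (T.mor₃ ≫ (shiftFunctor D (1 : ℤ)).map biprod.inl)
          (T'.mor₃ ≫ (shiftFunctor D (1 : ℤ)).map biprod.inr) :=
    complete_distinguished_triangle_morphism _ _ hT₁ hS biprod.inl biprod.inl
      (biprod.inl_map _ _).symm
  obtain ⟨a', ha1', ha2'⟩ : ∃ a' : Z₁' ⟶ T.obj₃ ⊞ T'.obj₃,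
      g₁' ≫ a' = biprod.inr ≫ biprod.map T.mor₂ T'.mor₂ ∧
      h₁' ≫ (shiftFunctor D (1 : ℤ)).map biprod.inr = a' ≫
        biprod.desc (T.mor₃ ≫ (shiftFunctor D (1 : ℤ)).map biprod.inl)
          (T'.mor₃ ≫ (shiftFunctor D (1 : ℤ)).map biprod.inr) :=
    complete_distinguished_triangle_morphism _ _ hT₁' hS biprod.inr biprod.inr
      (biprod.inr_map _ _).symm
  have hc1 : g₁ ≫ a ≫ biprod.fst = T.mor₂ := by
    rw [← Category.assoc, ha1, Category.assoc, biprod.map_fst, biprod.inl_fst_assoc]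
  have hc2 : h₁ = (a ≫ biprod.fst) ≫ T.mor₃ := by
    have := congrArg (fun z => z ≫ (shiftFunctor D (1 : ℤ)).map
      (biprod.fst : T.obj₁ ⊞ T'.obj₁ ⟶ T.obj₁)) ha2
    simp only [Category.assoc, desc_fst] at this
    rw [← Functor.map_comp, biprod.inl_fst, CategoryTheory.Functor.map_id, Category.comp_id] at this
    rw [this, Category.assoc]
  have hc1' : g₁' ≫ a' ≫ biprod.snd = T'.mor₂ := by
    rw [← Category.assoc, ha1', Category.assoc, biprod.map_snd, biprod.inr_snd_assoc]
  have hc2' : h₁' = (a' ≫ biprod.snd) ≫ T'.mor₃ := by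
    have := congrArg (fun z => z ≫ (shiftFunctor D (1 : ℤ)).map
      (biprod.snd : T.obj₁ ⊞ T'.obj₁ ⟶ T'.obj₁)) ha2'
    simp only [Category.assoc, desc_snd] at this
    rw [← Functor.map_comp, biprod.inr_snd, CategoryTheory.Functor.map_id, Category.comp_id] at this
    rw [this, Category.assoc]
  -- the morphism of direct sum triangles
  let Φ : sumTriangle (Triangle.mk T.mor₁ g₁ h₁) (Triangle.mk T'.mor₁ g₁' h₁') ⟶ sumTriangle T T' :=
    { hom₁ := 𝟙 _
      hom₂ := 𝟙 _
      hom₃ := biprod.map (a ≫ biprod.fst) (a' ≫ biprod.snd)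
      comm₁ := by
        change biprod.map T.mor₁ T'.mor₁ ≫ 𝟙 _ = 𝟙 _ ≫ biprod.map T.mor₁ T'.mor₁
        rw [Category.comp_id, Category.id_comp]
      comm₂ := by
        change biprod.map g₁ g₁' ≫ biprod.map (a ≫ biprod.fst) (a' ≫ biprod.snd) =
          𝟙 _ ≫ biprod.map T.mor₂ T'.mor₂
        rw [Category.id_comp]
        apply biprod.hom_ext'
        · rw [biprod.inl_map_assoc, biprod.inl_map, biprod.inl_map, ← Category.assoc, hc1]
        · rw [biprod.inr_map_assoc, biprod.inr_map, biprod.inr_map, ← Category.assoc, hc1']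
      comm₃ := by
        change biprod.desc (h₁ ≫ (shiftFunctor D (1 : ℤ)).map biprod.inl)
            (h₁' ≫ (shiftFunctor D (1 : ℤ)).map biprod.inr) ≫ (shiftFunctor D (1 : ℤ)).map (𝟙 _) =
          biprod.map (a ≫ biprod.fst) (a' ≫ biprod.snd) ≫
            biprod.desc (T.mor₃ ≫ (shiftFunctor D (1 : ℤ)).map biprod.inl)
              (T'.mor₃ ≫ (shiftFunctor D (1 : ℤ)).map biprod.inr)
        rw [CategoryTheory.Functor.map_id, Category.comp_id]
        apply biprod.hom_ext'
        · rw [biprod.inl_desc, biprod.inl_map_assoc, biprod.inl_desc, hc2, Category.assoc]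
        · rw [biprod.inr_desc, biprod.inr_map_assoc, biprod.inr_desc, hc2', Category.assoc] }
  have hM : IsIso (biprod.map (a ≫ biprod.fst) (a' ≫ biprod.snd)) :=
    isIso₃_of_isIso₁₂ Φ (sumTriangle_distinguished _ _ hT₁ hT₁') hS
      (show IsIso (𝟙 _) from inferInstance) (show IsIso (𝟙 _) from inferInstance)
  have hc : IsIso (a ≫ biprod.fst) := by
    refine ⟨⟨biprod.inl ≫ inv (biprod.map (a ≫ biprod.fst) (a' ≫ biprod.snd)) ≫ biprod.fst, ?_, ?_⟩⟩
    · rw [← Category.assoc, ← biprod.inl_map (a ≫ biprod.fst) (a' ≫ biprod.snd), Category.assoc,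
        IsIso.hom_inv_id_assoc, biprod.inl_fst]
    · rw [Category.assoc, Category.assoc, ← biprod.map_fst (a ≫ biprod.fst) (a' ≫ biprod.snd),
        IsIso.inv_hom_id_assoc, biprod.inl_fst]
  have hc' : IsIso (a' ≫ biprod.snd) := by
    refine ⟨⟨biprod.inr ≫ inv (biprod.map (a ≫ biprod.fst) (a' ≫ biprod.snd)) ≫ biprod.snd, ?_, ?_⟩⟩
    · rw [← Category.assoc, ← biprod.inr_map (a ≫ biprod.fst) (a' ≫ biprod.snd), Category.assoc,
        IsIso.hom_inv_id_assoc, biprod.inr_snd]
    · rw [Category.assoc, Category.assoc, ← biprod.map_snd (a ≫ biprod.fst) (a' ≫ biprod.snd),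
        IsIso.inv_hom_id_assoc, biprod.inr_snd]
  constructor
  · refine isomorphic_distinguished _ hT₁ _ (Iso.symm ?_)
    refine Triangle.isoMk (Triangle.mk T.mor₁ g₁ h₁) T (Iso.refl _) (Iso.refl _)
      (@asIso _ _ _ _ (a ≫ biprod.fst) hc) ?_ ?_ ?_
    · exact (Category.comp_id _).trans (Category.id_comp _).symm
    · exact hc1.trans (Category.id_comp _).symm
    · change h₁ ≫ (shiftFunctor D (1 : ℤ)).map (𝟙 _) = (a ≫ biprod.fst) ≫ T.mor₃
      rw [CategoryTheory.Functor.map_id, Category.comp_id]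
      exact hc2
  · refine isomorphic_distinguished _ hT₁' _ (Iso.symm ?_)
    refine Triangle.isoMk (Triangle.mk T'.mor₁ g₁' h₁') T' (Iso.refl _) (Iso.refl _)
      (@asIso _ _ _ _ (a' ≫ biprod.snd) hc') ?_ ?_ ?_
    · exact (Category.comp_id _).trans (Category.id_comp _).symm
    · exact hc1'.trans (Category.id_comp _).symm
    · change h₁' ≫ (shiftFunctor D (1 : ℤ)).map (𝟙 _) = (a' ≫ biprod.snd) ≫ T'.mor₃
      rw [CategoryTheory.Functor.map_id, Category.comp_id]
      exact hc2'

end helpers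

open CategoryTheory.Pretriangulated in
/-- Let T = (X, Y, Z, f, g, h) and T' = (X', Y', Z', f', g', h') be triangles in a pretriangulated
category. The direct sum triangle (X ⊞ X', Y ⊞ Y', Z ⊞ Z', f ⊕ f', g ⊕ g', h ⊕ h') (whose third map
Z ⊞ Z' ⟶ (X ⊞ X')⟦1⟧ has components h ≫ inl⟦1⟧ and h' ≫ inr⟦1⟧) is distinguished if and only if T
and T' are both distinguished. -/
theorem result {D : Type u} [Category.{v} D] [Preadditive D] [HasZeroObject D] [HasShift D ℤ]
    [∀ n : ℤ, (shiftFunctor D n).Additive] [Pretriangulated D]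
    (T T' : Triangle D) :
    Triangle.mk (biprod.map T.mor₁ T'.mor₁) (biprod.map T.mor₂ T'.mor₂)
        (biprod.desc (T.mor₃ ≫ (shiftFunctor D (1 : ℤ)).map biprod.inl) (T'.mor₃ ≫ (shiftFunctor D (1 : ℤ)).map biprod.inr)) ∈ distinguishedTriangles ↔
      (T ∈ distinguishedTriangles ∧ T' ∈ distinguishedTriangles) := by
  constructor
  · intro hS
    exact summands_distinguished T T' hS
  · rintro ⟨hT, hT'⟩
    exact sumTriangle_distinguished T T' hT hT'

end Groth.Agent.S6581
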