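import Groth.Statements.S6583
import Mathlib.CategoryTheory.Triangulated.HomologicalFunctor
import Mathlib.CategoryTheory.Triangulated.Subcategory

set_option autoImplicit false
universe v u v' u'
open CategoryTheory CategoryTheory.Limits
open CohDer

namespace Groth.Agent.S6583

set_option backward.defeqAttrib.useBackward true in
set_option backward.isDefEq.respectTransparency false in
open CategoryTheory.Pretriangulated ZeroObject in
/-- Let H : D ⥤ A be a homological functor from a pretriangulated category to an abelian category. The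
full subcategory of D on the objects X with H(X⟦n⟧) = 0 for all n ≪ 0 is a strictly full
pretriangulated subcategory (zero object, stable under shifts and isomorphisms, closed under
extensions) and is saturated: if X ⊞ Y belongs to it then so do X and Y. -/
theorem result {D : Type u} [Category.{v} D] [Preadditive D] [HasZeroObject D] [HasShift D ℤ]
    [∀ n : ℤ, (shiftFunctor D n).Additive] [Pretriangulated D]
    {A : Type u'} [Category.{v'} A] [Abelian A] (H : D ⥤ A) [H.IsHomological] :
    (ObjectProperty.IsTriangulated (fun X : D => ∃ N : ℤ, ∀ n : ℤ, n ≤ N → IsZero (H.obj ((shiftFunctor D n).obj X)))) ∧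
    (ObjectProperty.IsClosedUnderIsomorphisms (fun X : D => ∃ N : ℤ, ∀ n : ℤ, n ≤ N → IsZero (H.obj ((shiftFunctor D n).obj X)))) ∧
    (∀ X Y : D, (∃ N : ℤ, ∀ n : ℤ, n ≤ N → IsZero (H.obj ((shiftFunctor D n).obj (X ⊞ Y)))) →
      (∃ N : ℤ, ∀ n : ℤ, n ≤ N → IsZero (H.obj ((shiftFunctor D n).obj X))) ∧
      (∃ N : ℤ, ∀ n : ℤ, n ≤ N → IsZero (H.obj ((shiftFunctor D n).obj Y)))) := by
  refine ⟨?_, ?_, ?_⟩
  · exact
      { exists_zero := ⟨0, isZero_zero D, 0, fun n _ =>
          (shiftFunctor D n ⋙ H).map_isZero (isZero_zero D)⟩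
        isStableUnderShiftBy := fun a =>
          { le_shift := fun X hX => by
              obtain ⟨N, hN⟩ := hX
              refine ⟨N - a, fun n hn => ?_⟩
              exact (hN (a + n) (by omega)).of_iso (H.mapIso ((shiftFunctorAdd D a n).app X).symm) }
        ext₂' := fun T hT h₁ h₃ => by
          obtain ⟨N₁, h₁⟩ := h₁
          obtain ⟨N₃, h₃⟩ := h₃
          refine ⟨T.obj₂, ⟨min N₁ N₃, fun n hn => ?_⟩, ⟨Iso.refl _⟩⟩
          exact (H.map_distinguished_exact _
            (Triangle.shift_distinguished T hT n)).isZero_of_both_zeros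
              ((h₁ n (le_trans hn (min_le_left _ _))).eq_of_src _ _) ((h₃ n (le_trans hn (min_le_right _ _))).eq_of_tgt _ _) }
  · exact ⟨fun e hX => by
      obtain ⟨N, hN⟩ := hX
      exact ⟨N, fun n hn => (hN n hn).of_iso ((shiftFunctor D n ⋙ H).mapIso e.symm)⟩⟩
  · intro X Y h
    obtain ⟨N, hN⟩ := h
    constructor
    · refine ⟨N, fun n hn => ?_⟩
      have h := hN n hn
      rw [IsZero.iff_id_eq_zero]
      have : 𝟙 (H.obj ((shiftFunctor D n).obj X)) =
          (shiftFunctor D n ⋙ H).map (biprod.inl : X ⟶ X ⊞ Y) ≫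
            (shiftFunctor D n ⋙ H).map (biprod.fst : X ⊞ Y ⟶ X) := by
        rw [← CategoryTheory.Functor.map_comp, biprod.inl_fst, CategoryTheory.Functor.map_id]; rfl
      rw [this, h.eq_of_tgt ((shiftFunctor D n ⋙ H).map (biprod.inl : X ⟶ X ⊞ Y)) 0, zero_comp]
    · refine ⟨N, fun n hn => ?_⟩
      have h := hN n hn
      rw [IsZero.iff_id_eq_zero]
      have : 𝟙 (H.obj ((shiftFunctor D n).obj Y)) =
          (shiftFunctor D n ⋙ H).map (biprod.inr : Y ⟶ X ⊞ Y) ≫
            (shiftFunctor D n ⋙ H).map (biprod.snd : X ⊞ Y ⟶ Y) := by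
        rw [← CategoryTheory.Functor.map_comp, biprod.inr_snd, CategoryTheory.Functor.map_id]; rfl
      rw [this, h.eq_of_tgt ((shiftFunctor D n ⋙ H).map (biprod.inr : Y ⟶ X ⊞ Y)) 0, zero_comp]

end Groth.Agent.S6583
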