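import Groth.Statements.S6585
import Mathlib.CategoryTheory.Triangulated.Orthogonal
import Mathlib.CategoryTheory.Triangulated.Generators

set_option autoImplicit false
universe v u
open CategoryTheory CategoryTheory.Limits
open CohDer

namespace Groth.Agent.S6585

open CategoryTheory.Pretriangulated in
/-- Let D be a triangulated category and E, K objects of D. Then Hom(E, K⟦i⟧) = 0 for all integers i if
and only if Hom(E', K) = 0 for every E' in ⟨E⟩, the smallest strictly full saturated triangulated
subcategory of D containing E (the objects obtained from E by shifts, finite direct sums, direct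
summands and extensions). -/
theorem result {D : Type u} [Category.{v} D] [Preadditive D] [HasZeroObject D] [HasShift D ℤ]
    [∀ n : ℤ, (shiftFunctor D n).Additive] [Pretriangulated D] [IsTriangulated D]
    (E K : D) :
    (∀ (i : ℤ) (f : E ⟶ (shiftFunctor D i).obj K), f = 0) ↔
      ∀ (E' : D), (ObjectProperty.singleton E).triangEnvelope E' → ∀ f : E' ⟶ K, f = 0 := by
  let R : ObjectProperty D := (ObjectProperty.singleton K).shiftClosure ℤ
  have hretr : R.leftOrthogonal.IsStableUnderRetracts := by
    refine ⟨fun {X Y} r hY Z f hZ => ?_⟩
    have : f = r.i ≫ (r.r ≫ f) := by rw [← Category.assoc, r.retract, Category.id_comp]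
    rw [this, hY (r.r ≫ f) hZ, comp_zero]
  have hRK : R K := ObjectProperty.le_shiftClosure _ _ (by simp)
  constructor
  · intro h
    have hE : R.leftOrthogonal E := by
      intro Y f hY
      obtain ⟨Y', a, e, hY'⟩ := hY
      rw [ObjectProperty.singleton_iff] at hY'
      subst hY'
      have := h a (f ≫ e.hom)
      rw [← cancel_mono e.hom, this, zero_comp]
    have hle : (ObjectProperty.singleton E).triangEnvelope ≤ R.leftOrthogonal := by
      rw [ObjectProperty.triangEnvelope_le_iff, ObjectProperty.singleton_le_iff]
      exact hE
    intro E' hE' f
    exact hle _ hE' f hRK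
  · intro h i f
    have hE : (ObjectProperty.singleton E).triangEnvelope E :=
      ObjectProperty.le_triangEnvelope _ _ (by simp)
    have hE' : (ObjectProperty.singleton E).triangEnvelope ((shiftFunctor D (-i)).obj E) :=
      (ObjectProperty.singleton E).triangEnvelope.le_shift (-i) _ hE
    have e : (shiftFunctor D (-i)).obj ((shiftFunctor D i).obj K) ≅ K :=
      (shiftFunctorCompIsoId D i (-i) (add_neg_cancel i)).app K
    have h0 := h _ hE' ((shiftFunctor D (-i)).map f ≫ e.hom)
    have h1 : (shiftFunctor D (-i)).map f = 0 := by
      rw [← cancel_mono e.hom, h0, zero_comp]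
    apply (shiftFunctor D (-i)).map_injective
    rw [h1, Functor.map_zero]

end Groth.Agent.S6585
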