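import Groth.Statements.S6586
import Mathlib
-- import your own Groth.Agent.* helpers here

set_option autoImplicit false
universe v u
open CategoryTheory CategoryTheory.Limits
open CohDer

namespace Groth.Agent.S6586

/-- Fix a triangulated category D together with an object E in it. Suppose E classically generates D,
i.e. ⟨E⟩ = D; then E is a generator of D: an object K with Hom(E, K⟦n⟧) = 0 for all n is zero. -/
theorem result {D : Type u} [Category.{v} D] [Preadditive D] [HasZeroObject D] [HasShift D ℤ]
    [∀ n : ℤ, (shiftFunctor D n).Additive] [Pretriangulated D] [IsTriangulated D]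
    (E : D) (hE : (ObjectProperty.singleton E).IsClassicalTriangulatedGenerator) :
    CohDer.Generates (fun _ : PUnit.{1} => E) := by
  intro K hK
  let P : ObjectProperty D := fun Z => ∃ n : ℤ, Nonempty (Z ≅ (shiftFunctor D n).obj K)
  have : P.IsStableUnderShift ℤ :=
    ⟨fun a => ⟨fun Z ⟨n, ⟨e⟩⟩ => ⟨n + a, ⟨(shiftFunctor D a).mapIso e ≪≫
      ((shiftFunctorAdd' D n a (n + a) rfl).app K).symm⟩⟩⟩⟩
  have : P.leftOrthogonal.IsStableUnderRetracts :=
    ⟨fun {X Y} r hY Z f hZ => by
      have h1 : f = r.i ≫ r.r ≫ f := by rw [r.retract_assoc]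
      rw [h1, hY (r.r ≫ f) hZ, comp_zero]⟩
  have hle : ObjectProperty.triangEnvelope (ObjectProperty.singleton E) ≤ P.leftOrthogonal := by
    rw [ObjectProperty.triangEnvelope_le_iff]
    intro Y hY Z f ⟨n, ⟨e⟩⟩
    rw [ObjectProperty.singleton_iff] at hY
    subst hY
    have := hK PUnit.unit n (f ≫ e.hom)
    rw [← cancel_mono e.hom, this, zero_comp]
  rw [ObjectProperty.isClassicalTriangulatedGenerator_iff] at hE
  have hKK : P.leftOrthogonal K := hle K (by rw [hE]; trivial)
  have h0 : 𝟙 K = 0 := by
    have := hKK (𝟙 K ≫ ((shiftFunctorZero D ℤ).app K).inv) ⟨0, ⟨Iso.refl _⟩⟩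
    rw [Category.id_comp] at this
    rw [← cancel_mono ((shiftFunctorZero D ℤ).app K).inv, this, zero_comp, comp_zero]
  exact (IsZero.iff_id_eq_zero K).mpr h0

end Groth.Agent.S6586
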