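import Groth.Statements.S6587
import Mathlib
-- import your own Groth.Agent.* helpers here

set_option autoImplicit false
universe v u
open CategoryTheory CategoryTheory.Limits Opposite
open CohDer

namespace Groth.Agent.S6587

open CategoryTheory.Pretriangulated in
/-- Let D be a triangulated category and let X_n → Y_n → Z_n → X_n⟦1⟧ be an inverse system of
distinguished triangles of D indexed by ℕ (levelwise maps f, g, h of inverse systems, each level
distinguished). If the inverse system (Z_n) is pro-zero, then the levelwise map f : (X_n) → (Y_n) is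
a pro-isomorphism. -/
theorem result {D : Type u} [Category.{v} D] [Preadditive D] [HasZeroObject D] [HasShift D ℤ]
    [∀ n : ℤ, (shiftFunctor D n).Additive] [Pretriangulated D] [IsTriangulated D]
    (X Y Z : ARSys.PS D) (f : X ⟶ Y) (g : Y ⟶ Z) (h : Z ⟶ X ⋙ shiftFunctor D (1 : ℤ))
    (hT : ∀ n : ℕ, Triangle.mk (f.app (op n)) (g.app (op n)) (h.app (op n)) ∈ distinguishedTriangles)
    (hZ : DerCA.IsProZero Z) :
    DerCA.IsProIso f := by
  classical
  -- composition of transition maps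
  have trc : ∀ (W : ARSys.PS D) {a b c : ℕ} (h1 : a ≤ b) (h2 : b ≤ c),
      ARSys.tr W h2 ≫ ARSys.tr W h1 = ARSys.tr W (h1.trans h2) := by
    intro W a b c h1 h2
    dsimp only [ARSys.tr]
    rw [← W.map_comp]
    rfl
  -- Step A
  have stepA : ∀ n : ℕ, ∃ (m : ℕ) (hm : n ≤ m) (b : Y.obj (op m) ⟶ X.obj (op n)),
      b ≫ f.app (op n) = ARSys.tr Y hm := by
    intro n
    obtain ⟨m, hm, hz⟩ := hZ n
    have h0 : ARSys.tr Y hm ≫ g.app (op n) = 0 := by
      have := g.naturality (homOfLE hm).op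
      dsimp only [ARSys.tr] at hz ⊢
      rw [this, hz, comp_zero]
    obtain ⟨b, hb⟩ : ∃ b : Y.obj (op m) ⟶ X.obj (op n), ARSys.tr Y hm = b ≫ f.app (op n) :=
      Triangle.coyoneda_exact₂ _ (hT n) (ARSys.tr Y hm) h0
    exact ⟨m, hm, b, hb.symm⟩
  -- Step B
  have stepB : ∀ n : ℕ, ∃ (m : ℕ) (hm : n ≤ m), ∀ (W : D) (ε : W ⟶ X.obj (op m)),
      ε ≫ f.app (op m) = 0 → ε ≫ ARSys.tr X hm = 0 := by
    intro n
    obtain ⟨m, hm, hz⟩ := hZ n
    refine ⟨m, hm, fun W ε hε => ?_⟩
    have h1 : (shiftFunctor D (1 : ℤ)).map ε ≫ (shiftFunctor D (1 : ℤ)).map (f.app (op m)) = 0 := by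
      rw [← Functor.map_comp, hε, Functor.map_zero]
    obtain ⟨γ, hγ⟩ : ∃ γ : (shiftFunctor D (1 : ℤ)).obj W ⟶ Z.obj (op m),
        (shiftFunctor D (1 : ℤ)).map ε = γ ≫ h.app (op m) :=
      Triangle.coyoneda_exact₁ _ (hT m) ((shiftFunctor D (1 : ℤ)).map ε) h1
    apply (shiftFunctor D (1 : ℤ)).map_injective
    rw [Functor.map_comp, hγ, Functor.map_zero, Category.assoc]
    have hn := h.naturality (homOfLE hm).op
    dsimp only [ARSys.tr, Functor.comp_map] at hz hn ⊢
    rw [← hn, hz, zero_comp, comp_zero]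
  intro n
  obtain ⟨m₁, hm₁, hB⟩ := stepB n
  obtain ⟨m₂, hm₂, b₁, hb₁⟩ := stepA m₁
  refine ⟨m₂, hm₁.trans hm₂, b₁ ≫ ARSys.tr X hm₁, ?_, ?_⟩
  · have hε : (f.app (op m₂) ≫ b₁ - ARSys.tr X hm₂) ≫ f.app (op m₁) = 0 := by
      rw [Preadditive.sub_comp, Category.assoc, hb₁]
      have := f.naturality (homOfLE hm₂).op
      dsimp only [ARSys.tr]
      rw [this, sub_self]
    have := hB _ _ hε
    rw [Preadditive.sub_comp, sub_eq_zero, Category.assoc, trc X hm₁ hm₂] at this
    exact this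
  · rw [Category.assoc]
    have := f.naturality (homOfLE hm₁).op
    dsimp only [ARSys.tr] at this ⊢
    rw [this, ← Category.assoc]
    have hb₁' : b₁ ≫ f.app (op m₁) = Y.map (homOfLE hm₂).op := hb₁
    rw [hb₁', ← Y.map_comp]
    rfl

end Groth.Agent.S6587
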