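import Groth.Statements.S6615
import Mathlib
-- import your own Groth.Agent.* helpers here

set_option autoImplicit false
universe v u
open CategoryTheory CategoryTheory.Limits Opposite
open CohDer

namespace Groth.Agent.S6615


section helpers
set_option linter.unusedSectionVars false
open CategoryTheory.Pretriangulated

variable {D : Type u} [Category.{v} D]

lemma tr_comp (X : ARSys.PS D) {n m l : ℕ} (h₁ : n ≤ m) (h₂ : m ≤ l) :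
    ARSys.tr X h₂ ≫ ARSys.tr X h₁ = ARSys.tr X (h₁.trans h₂) := by
  dsimp only [ARSys.tr]
  rw [← X.map_comp]
  rfl

lemma tr_comp_assoc (X : ARSys.PS D) {n m l : ℕ} (h₁ : n ≤ m) (h₂ : m ≤ l) {W : D}
    (w : X.obj (op n) ⟶ W) :
    ARSys.tr X h₂ ≫ ARSys.tr X h₁ ≫ w = ARSys.tr X (h₁.trans h₂) ≫ w := by
  rw [← Category.assoc, tr_comp]

lemma cone_tr (X : ARSys.PS D) (A : D) (c : (Functor.const ℕᵒᵖ).obj A ⟶ X) {n m : ℕ} (h : n ≤ m) :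
    c.app (op m) ≫ ARSys.tr X h = c.app (op n) := by
  have := c.naturality (homOfLE h).op
  simp only [Functor.const_obj_obj, Functor.const_obj_map, Category.id_comp] at this
  exact this.symm

lemma cone_tr_assoc (X : ARSys.PS D) (A : D) (c : (Functor.const ℕᵒᵖ).obj A ⟶ X) {n m : ℕ}
    (h : n ≤ m) {W : D} (w : X.obj (op n) ⟶ W) :
    c.app (op m) ≫ ARSys.tr X h ≫ w = c.app (op n) ≫ w := by
  rw [← Category.assoc, cone_tr]

lemma nat_tr {X Y : ARSys.PS D} (f : X ⟶ Y) {n m : ℕ} (h : n ≤ m) :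
    f.app (op m) ≫ ARSys.tr Y h = ARSys.tr X h ≫ f.app (op n) :=
  (f.naturality (homOfLE h).op).symm

lemma nat_tr_assoc {X Y : ARSys.PS D} (f : X ⟶ Y) {n m : ℕ} (h : n ≤ m) {W : D}
    (w : Y.obj (op n) ⟶ W) :
    f.app (op m) ≫ ARSys.tr Y h ≫ w = ARSys.tr X h ≫ f.app (op n) ≫ w := by
  rw [← Category.assoc, nat_tr, Category.assoc]

/-- essential constancy data at a fixed index -/
structure EC (X : ARSys.PS D) (A : D) (c : (Functor.const ℕᵒᵖ).obj A ⟶ X) (i : ℕ)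
    (s : X.obj (op i) ⟶ A) : Prop where
  sec : c.app (op i) ≫ s = 𝟙 A
  fac : ∀ j : ℕ, ∃ (k : ℕ) (hi : i ≤ k) (hj : j ≤ k),
    ARSys.tr X hj = ARSys.tr X hi ≫ s ≫ c.app (op j)

lemma EC.fac_ge {X : ARSys.PS D} {A : D} {c : (Functor.const ℕᵒᵖ).obj A ⟶ X} {i : ℕ}
    {s : X.obj (op i) ⟶ A} (hE : EC X A c i s) (j : ℕ) :
    ∃ k₀ : ℕ, i ≤ k₀ ∧ j ≤ k₀ ∧ ∀ (k : ℕ) (_ : k₀ ≤ k) (hi : i ≤ k) (hj : j ≤ k),
      ARSys.tr X hj = ARSys.tr X hi ≫ s ≫ c.app (op j) := by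
  obtain ⟨k₀, hi₀, hj₀, h₀⟩ := hE.fac j
  refine ⟨k₀, hi₀, hj₀, fun k hk hi hj => ?_⟩
  rw [← tr_comp X hj₀ hk, h₀, tr_comp_assoc]

lemma EC.shift {X : ARSys.PS D} {A : D} {c : (Functor.const ℕᵒᵖ).obj A ⟶ X} {i : ℕ}
    {s : X.obj (op i) ⟶ A} (hE : EC X A c i s) {i' : ℕ} (hi : i ≤ i') :
    EC X A c i' (ARSys.tr X hi ≫ s) := by
  refine ⟨?_, fun j => ?_⟩
  · rw [cone_tr_assoc, hE.sec]
  · obtain ⟨k₀, hi₀, hj₀, h₀⟩ := hE.fac_ge j
    refine ⟨max k₀ i', le_max_right _ _, hj₀.trans (le_max_left _ _), ?_⟩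
    rw [h₀ (max k₀ i') (le_max_left _ _) (hi₀.trans (le_max_left _ _)) (hj₀.trans (le_max_left _ _)),
      Category.assoc, tr_comp_assoc]

variable [Preadditive D] [HasZeroObject D] [HasShift D ℤ]
    [∀ n : ℤ, (shiftFunctor D n).Additive] [Pretriangulated D]

lemma nat_h {X Z : ARSys.PS D} (h : Z ⟶ X ⋙ shiftFunctor D (1 : ℤ)) {n m : ℕ} (hnm : n ≤ m) :
    h.app (op m) ≫ (ARSys.tr X hnm)⟦(1 : ℤ)⟧' = ARSys.tr Z hnm ≫ h.app (op n) :=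
  (h.naturality (homOfLE hnm).op).symm

lemma nat_h_assoc {X Z : ARSys.PS D} (h : Z ⟶ X ⋙ shiftFunctor D (1 : ℤ)) {n m : ℕ} (hnm : n ≤ m)
    {W : D} (w : (X.obj (op n))⟦(1 : ℤ)⟧ ⟶ W) :
    h.app (op m) ≫ (ARSys.tr X hnm)⟦(1 : ℤ)⟧' ≫ w = ARSys.tr Z hnm ≫ h.app (op n) ≫ w := by
  rw [← Category.assoc, nat_h, Category.assoc]

lemma isIso_of_triangle_endo (T : Triangle D) (hT : T ∈ distinguishedTriangles)
    (φ : T.obj₂ ⟶ T.obj₂) (h₁ : T.mor₁ ≫ φ = T.mor₁) (h₂ : φ ≫ T.mor₂ = T.mor₂) : IsIso φ := by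
  let Φ : T ⟶ T :=
    { hom₁ := 𝟙 _
      hom₂ := φ
      hom₃ := 𝟙 _
      comm₁ := by rw [h₁, Category.id_comp]
      comm₂ := by rw [h₂, Category.comp_id]
      comm₃ := by simp }
  have i₁ : IsIso Φ.hom₁ := inferInstanceAs (IsIso (𝟙 _))
  have i₃ : IsIso Φ.hom₃ := inferInstanceAs (IsIso (𝟙 _))
  exact isIso₂_of_isIso₁₃ Φ hT hT i₁ i₃

end helpers

open CategoryTheory.Pretriangulated in
/-- Essential constancy of the middle system: in a triangulated category D, take an ℕ-indexed inverse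
system of distinguished triangles with vertices A_n, B_n, C_n. When (A_n) and (C_n) are both
essentially constant, the middle system (B_n) is too. (The published statement also says the values
fit in a distinguished triangle receiving a map of triangles from some level; this row asserts only
the essential constancy of the middle system.) -/
theorem result {D : Type u} [Category.{v} D] [Preadditive D] [HasZeroObject D] [HasShift D ℤ]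
    [∀ n : ℤ, (shiftFunctor D n).Additive] [Pretriangulated D] [IsTriangulated D]
    (X Y Z : ARSys.PS D) (f : X ⟶ Y) (g : Y ⟶ Z) (h : Z ⟶ X ⋙ shiftFunctor D (1 : ℤ))
    (hT : ∀ n : ℕ, Triangle.mk (f.app (op n)) (g.app (op n)) (h.app (op n)) ∈ distinguishedTriangles)
    (hX : ∃ (A : D) (cA : (Functor.const ℕᵒᵖ).obj A ⟶ X), DerCA.IsEssConstant X A cA)
    (hZ : ∃ (C : D) (cC : (Functor.const ℕᵒᵖ).obj C ⟶ Z), DerCA.IsEssConstant Z C cC) :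
    ∃ (B : D) (cB : (Functor.const ℕᵒᵖ).obj B ⟶ Y), DerCA.IsEssConstant Y B cB := by
  obtain ⟨A, cA, iA, sA₀, hsA, hfA⟩ := hX
  obtain ⟨C, cC, iC, sC₀, hsC, hfC⟩ := hZ
  have EA₀ : EC X A cA iA sA₀ := ⟨hsA, hfA⟩
  have EC₀ : EC Z C cC iC sC₀ := ⟨hsC, hfC⟩
  obtain ⟨i₁, sA₁, sC₁, EA₁, EC₁⟩ : ∃ (i₁ : ℕ) (sA₁ : X.obj (op i₁) ⟶ A) (sC₁ : Z.obj (op i₁) ⟶ C),
      EC X A cA i₁ sA₁ ∧ EC Z C cC i₁ sC₁ :=
    ⟨_, _, _, EA₀.shift (le_max_left iA iC), EC₀.shift (le_max_right iA iC)⟩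
  obtain ⟨m, sA, sC, EA, EC, hcompat⟩ : ∃ (m : ℕ) (sA : X.obj (op m) ⟶ A) (sC : Z.obj (op m) ⟶ C),
      EC X A cA m sA ∧ EC Z C cC m sC ∧
      h.app (op m) ≫ sA⟦(1 : ℤ)⟧' = sC ≫ cC.app (op m) ≫ h.app (op m) ≫ sA⟦(1 : ℤ)⟧' := by
    obtain ⟨m, hm1, hm2, hm⟩ := EC₁.fac i₁
    refine ⟨m, _, _, EA₁.shift hm1, EC₁.shift hm1, ?_⟩
    simp only [Functor.map_comp, Category.assoc]
    rw [nat_h_assoc h hm1, cone_tr_assoc]
    have hm' : ARSys.tr Z hm1 = ARSys.tr Z hm1 ≫ sC₁ ≫ cC.app (op i₁) := hm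
    conv_lhs => rw [hm']
    simp only [Category.assoc]
  clear EA₁ EC₁ EA₀ EC₀ hsA hfA hsC hfC sA₁ sC₁ sA₀ sC₀
  set δ : C ⟶ A⟦(1 : ℤ)⟧ := cC.app (op m) ≫ h.app (op m) ≫ sA⟦(1 : ℤ)⟧' with hδdef
  -- the cone property of δ
  have hδ : ∀ n : ℕ, δ ≫ (cA.app (op n))⟦(1 : ℤ)⟧' = cC.app (op n) ≫ h.app (op n) := by
    intro n
    obtain ⟨k, hkm, hkn, hk⟩ := EA.fac n
    calc δ ≫ (cA.app (op n))⟦(1 : ℤ)⟧'
        = cC.app (op m) ≫ h.app (op m) ≫ sA⟦(1 : ℤ)⟧' ≫ (cA.app (op n))⟦(1 : ℤ)⟧' := by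
          rw [hδdef]; simp only [Category.assoc]
      _ = cC.app (op k) ≫ ARSys.tr Z hkm ≫ h.app (op m) ≫ sA⟦(1 : ℤ)⟧' ≫
            (cA.app (op n))⟦(1 : ℤ)⟧' := by rw [cone_tr_assoc]
      _ = cC.app (op k) ≫ h.app (op k) ≫ (ARSys.tr X hkm)⟦(1 : ℤ)⟧' ≫ sA⟦(1 : ℤ)⟧' ≫
            (cA.app (op n))⟦(1 : ℤ)⟧' := by rw [nat_h_assoc]
      _ = cC.app (op k) ≫ h.app (op k) ≫ (ARSys.tr X hkn)⟦(1 : ℤ)⟧' := by
          rw [hk]; simp only [Functor.map_comp]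
      _ = cC.app (op k) ≫ ARSys.tr Z hkn ≫ h.app (op n) := by rw [nat_h]
      _ = cC.app (op n) ≫ h.app (op n) := by rw [cone_tr_assoc]
  obtain ⟨B, a, b, hB⟩ := distinguished_cocone_triangle₂ δ
  obtain ⟨β, hβ1, hβ2⟩ : ∃ β : Y.obj (op m) ⟶ B, f.app (op m) ≫ β = sA ≫ a ∧
      g.app (op m) ≫ sC = β ≫ b :=
    complete_distinguished_triangle_morphism₂ _ _ (hT m) hB sA sC hcompat
  -- sections
  have hb : ∀ (k : ℕ) (hk : m ≤ k), ∃ bk : B ⟶ Y.obj (op k),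
      a ≫ bk = cA.app (op k) ≫ f.app (op k) ∧ bk ≫ g.app (op k) = b ≫ cC.app (op k) ∧
      bk ≫ ARSys.tr Y hk ≫ β = 𝟙 B := by
    intro k hk
    obtain ⟨bk, h1, h2⟩ : ∃ bk : B ⟶ Y.obj (op k), a ≫ bk = cA.app (op k) ≫ f.app (op k) ∧
        b ≫ cC.app (op k) = bk ≫ g.app (op k) :=
      complete_distinguished_triangle_morphism₂ _ _ hB (hT k)
        (cA.app (op k)) (cC.app (op k)) (hδ k)
    have e1 : a ≫ (bk ≫ ARSys.tr Y hk ≫ β) = a := by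
      calc a ≫ (bk ≫ ARSys.tr Y hk ≫ β) = (a ≫ bk) ≫ ARSys.tr Y hk ≫ β := by
            simp only [Category.assoc]
        _ = cA.app (op k) ≫ f.app (op k) ≫ ARSys.tr Y hk ≫ β := by
            rw [h1, Category.assoc]
        _ = cA.app (op k) ≫ ARSys.tr X hk ≫ f.app (op m) ≫ β := by rw [nat_tr_assoc]
        _ = cA.app (op m) ≫ sA ≫ a := by rw [cone_tr_assoc, hβ1]
        _ = a := by rw [← Category.assoc, EA.sec]; exact Category.id_comp a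
    have e2 : (bk ≫ ARSys.tr Y hk ≫ β) ≫ b = b := by
      calc (bk ≫ ARSys.tr Y hk ≫ β) ≫ b = bk ≫ ARSys.tr Y hk ≫ g.app (op m) ≫ sC := by
            simp only [Category.assoc]; rw [hβ2]
        _ = bk ≫ g.app (op k) ≫ ARSys.tr Z hk ≫ sC := by rw [nat_tr_assoc]
        _ = b ≫ cC.app (op k) ≫ ARSys.tr Z hk ≫ sC := by
            rw [← Category.assoc, ← h2, Category.assoc]
        _ = b ≫ cC.app (op m) ≫ sC := by rw [cone_tr_assoc]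
        _ = b := by rw [EC.sec]; exact Category.comp_id b
    have hiso : IsIso (bk ≫ ARSys.tr Y hk ≫ β) :=
      isIso_of_triangle_endo (Triangle.mk a b δ) hB _ e1 e2
    refine ⟨inv (bk ≫ ARSys.tr Y hk ≫ β) ≫ bk, ?_, ?_, ?_⟩
    · have : a ≫ inv (bk ≫ ARSys.tr Y hk ≫ β) = a := by
        rw [IsIso.comp_inv_eq, e1]
      rw [← Category.assoc, this, h1]
    · have : inv (bk ≫ ARSys.tr Y hk ≫ β) ≫ b = b := by
        rw [IsIso.inv_comp_eq, e2]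
      rw [Category.assoc, ← h2, ← Category.assoc, this]
    · rw [Category.assoc, IsIso.inv_hom_id]
  have hepi : ∀ (k : ℕ) (hk : m ≤ k), Epi (ARSys.tr Y hk ≫ β) := by
    intro k hk
    obtain ⟨bk, -, -, h3⟩ := hb k hk
    exact SplitEpi.epi ⟨bk, h3⟩
  -- key factorization
  have key : ∀ n : ℕ, ∃ (k : ℕ) (hk : m ≤ k) (hn : n ≤ k) (t : B ⟶ Y.obj (op n)),
      ARSys.tr Y hn = ARSys.tr Y hk ≫ β ≫ t := by
    intro n
    obtain ⟨m₁, hm₁m, hm₁n, hX1⟩ := EA.fac n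
    obtain ⟨k, hkm, hkm₁, hZ1⟩ := EC.fac m₁
    obtain ⟨bk, bk1, bk2, bk3⟩ := hb k hkm
    obtain ⟨bm, bm1, bm2, bm3⟩ := hb m₁ hm₁m
    have hkn : n ≤ k := hm₁n.trans hkm₁
    have hP : (ARSys.tr Y hkm ≫ β ≫ bk) ≫ g.app (op k) ≫ ARSys.tr Z hkm₁ =
        g.app (op k) ≫ ARSys.tr Z hkm₁ := by
      calc (ARSys.tr Y hkm ≫ β ≫ bk) ≫ g.app (op k) ≫ ARSys.tr Z hkm₁
          = ARSys.tr Y hkm ≫ β ≫ (bk ≫ g.app (op k)) ≫ ARSys.tr Z hkm₁ := by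
            simp only [Category.assoc]
        _ = ARSys.tr Y hkm ≫ (β ≫ b) ≫ cC.app (op k) ≫ ARSys.tr Z hkm₁ := by
            rw [bk2]; simp only [Category.assoc]
        _ = ARSys.tr Y hkm ≫ g.app (op m) ≫ sC ≫ cC.app (op m₁) := by
            rw [← hβ2, cone_tr]; simp only [Category.assoc]
        _ = g.app (op k) ≫ ARSys.tr Z hkm ≫ sC ≫ cC.app (op m₁) := by rw [nat_tr_assoc]
        _ = g.app (op k) ≫ ARSys.tr Z hkm₁ := by rw [← hZ1]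
    have hv : ((𝟙 _ - ARSys.tr Y hkm ≫ β ≫ bk) ≫ ARSys.tr Y hkm₁) ≫ g.app (op m₁) = 0 := by
      rw [Category.assoc, ← nat_tr g hkm₁, Preadditive.sub_comp, Category.id_comp, hP, sub_self]
    have hQ : f.app (op m₁) ≫ (ARSys.tr Y hm₁m ≫ β ≫ bm) ≫ ARSys.tr Y hm₁n =
        f.app (op m₁) ≫ ARSys.tr Y hm₁n := by
      calc f.app (op m₁) ≫ (ARSys.tr Y hm₁m ≫ β ≫ bm) ≫ ARSys.tr Y hm₁n
          = f.app (op m₁) ≫ ARSys.tr Y hm₁m ≫ β ≫ bm ≫ ARSys.tr Y hm₁n := by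
            simp only [Category.assoc]
        _ = ARSys.tr X hm₁m ≫ (f.app (op m) ≫ β) ≫ bm ≫ ARSys.tr Y hm₁n := by
            rw [nat_tr_assoc]; simp only [Category.assoc]
        _ = ARSys.tr X hm₁m ≫ sA ≫ (a ≫ bm) ≫ ARSys.tr Y hm₁n := by
            rw [hβ1]; simp only [Category.assoc]
        _ = ARSys.tr X hm₁m ≫ sA ≫ cA.app (op m₁) ≫ f.app (op m₁) ≫ ARSys.tr Y hm₁n := by
            rw [bm1]; simp only [Category.assoc]
        _ = ARSys.tr X hm₁m ≫ sA ≫ cA.app (op m₁) ≫ ARSys.tr X hm₁n ≫ f.app (op n) := by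
            rw [nat_tr f hm₁n]
        _ = (ARSys.tr X hm₁m ≫ sA ≫ cA.app (op n)) ≫ f.app (op n) := by
            rw [cone_tr_assoc]; simp only [Category.assoc]
        _ = ARSys.tr X hm₁n ≫ f.app (op n) := by rw [← hX1]
        _ = f.app (op m₁) ≫ ARSys.tr Y hm₁n := by rw [nat_tr f hm₁n]
    have hv' : f.app (op m₁) ≫ ((𝟙 _ - ARSys.tr Y hm₁m ≫ β ≫ bm) ≫ ARSys.tr Y hm₁n) = 0 := by
      rw [Preadditive.sub_comp, Category.id_comp, Preadditive.comp_sub, hQ, sub_self]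
    obtain ⟨ψ, hψ⟩ : ∃ ψ : Y.obj (op k) ⟶ X.obj (op m₁),
        (𝟙 _ - ARSys.tr Y hkm ≫ β ≫ bk) ≫ ARSys.tr Y hkm₁ = ψ ≫ f.app (op m₁) :=
      Triangle.coyoneda_exact₂ _ (hT m₁) _ hv
    have hzero : ((𝟙 _ - ARSys.tr Y hkm ≫ β ≫ bk) ≫ ARSys.tr Y hkm₁) ≫
        ((𝟙 _ - ARSys.tr Y hm₁m ≫ β ≫ bm) ≫ ARSys.tr Y hm₁n) = 0 := by
      rw [hψ, Category.assoc, hv', comp_zero]
    have hπ : (𝟙 _ - ARSys.tr Y hkm ≫ β ≫ bk) ≫ ARSys.tr Y hkm ≫ β = 0 := by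
      rw [Preadditive.sub_comp, Category.id_comp]
      simp only [Category.assoc]
      rw [bk3, Category.comp_id, sub_self]
    have hexp : ((𝟙 _ - ARSys.tr Y hkm ≫ β ≫ bk) ≫ ARSys.tr Y hkm₁) ≫
        ((𝟙 _ - ARSys.tr Y hm₁m ≫ β ≫ bm) ≫ ARSys.tr Y hm₁n) =
        (𝟙 _ - ARSys.tr Y hkm ≫ β ≫ bk) ≫ ARSys.tr Y hkn := by
      have e1 : ARSys.tr Y hkm₁ ≫ (ARSys.tr Y hm₁m ≫ β ≫ bm) ≫ ARSys.tr Y hm₁n =
          (ARSys.tr Y hkm ≫ β) ≫ bm ≫ ARSys.tr Y hm₁n := by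
        simp only [Category.assoc]
        rw [tr_comp_assoc]
      calc ((𝟙 _ - ARSys.tr Y hkm ≫ β ≫ bk) ≫ ARSys.tr Y hkm₁) ≫
            ((𝟙 _ - ARSys.tr Y hm₁m ≫ β ≫ bm) ≫ ARSys.tr Y hm₁n)
          = (𝟙 _ - ARSys.tr Y hkm ≫ β ≫ bk) ≫ (ARSys.tr Y hkm₁ ≫ ARSys.tr Y hm₁n -
              ARSys.tr Y hkm₁ ≫ (ARSys.tr Y hm₁m ≫ β ≫ bm) ≫ ARSys.tr Y hm₁n) := by
            rw [Preadditive.sub_comp (𝟙 _) (ARSys.tr Y hm₁m ≫ β ≫ bm), Category.id_comp,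
              Category.assoc, Preadditive.comp_sub]
        _ = (𝟙 _ - ARSys.tr Y hkm ≫ β ≫ bk) ≫ ARSys.tr Y hkn -
              ((𝟙 _ - ARSys.tr Y hkm ≫ β ≫ bk) ≫ ARSys.tr Y hkm ≫ β) ≫ bm ≫ ARSys.tr Y hm₁n := by
            rw [e1, tr_comp, Preadditive.comp_sub]
            simp only [Category.assoc]
        _ = (𝟙 _ - ARSys.tr Y hkm ≫ β ≫ bk) ≫ ARSys.tr Y hkn := by
            rw [hπ, zero_comp, sub_zero]
    rw [hexp, Preadditive.sub_comp, Category.id_comp, sub_eq_zero] at hzero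
    refine ⟨k, hkm, hkn, bk ≫ ARSys.tr Y hkn, ?_⟩
    rw [hzero]
    simp only [Category.assoc]
    rw [reassoc_of% bk3]
  choose k hk hn t ht using key
  have huniq : ∀ (n k' : ℕ) (hk' : m ≤ k') (hn' : n ≤ k') (t' : B ⟶ Y.obj (op n)),
      ARSys.tr Y hn' = ARSys.tr Y hk' ≫ β ≫ t' → t' = t n := by
    intro n k' hk' hn' t' ht'
    have hK1 : k' ≤ max k' (k n) := le_max_left _ _
    have hK2 : k n ≤ max k' (k n) := le_max_right _ _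
    have e1 : ARSys.tr Y (hn'.trans hK1) = (ARSys.tr Y (hk'.trans hK1) ≫ β) ≫ t' := by
      rw [← tr_comp Y hn' hK1, ht', tr_comp_assoc, Category.assoc]
    have e2 : ARSys.tr Y (hn'.trans hK1) = (ARSys.tr Y (hk'.trans hK1) ≫ β) ≫ t n := by
      rw [← tr_comp Y (hn n) hK2, ht n, tr_comp_assoc, Category.assoc]
    have := hepi _ (hk'.trans hK1)
    rw [← cancel_epi (ARSys.tr Y (hk'.trans hK1) ≫ β), ← e1, ← e2]
  have hnat : ∀ (n n' : ℕ) (hnn' : n' ≤ n), t n ≫ ARSys.tr Y hnn' = t n' := by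
    intro n n' hnn'
    apply huniq n' (k n) (hk n) (hnn'.trans (hn n))
    rw [← tr_comp Y hnn' (hn n), ht n]
    simp only [Category.assoc]
  let cB : (Functor.const ℕᵒᵖ).obj B ⟶ Y :=
    { app := fun n => t n.unop
      naturality := by
        intro n n' φ
        have hφ : φ = (homOfLE (leOfHom φ.unop)).op := by
          apply Quiver.Hom.unop_inj
          apply Subsingleton.elim
        dsimp
        rw [Category.id_comp, hφ]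
        exact (hnat n.unop n'.unop (leOfHom φ.unop)).symm }
  refine ⟨B, cB, m, β, ?_, fun j => ?_⟩
  · have h1 := ht m
    have := hepi _ (hk m)
    rw [← cancel_epi (ARSys.tr Y (hk m) ≫ β)]
    change (ARSys.tr Y (hk m) ≫ β) ≫ t m ≫ β = _
    rw [Category.assoc, ← Category.assoc β, ← Category.assoc (ARSys.tr Y (hk m)), ← h1,
      Category.comp_id]
  · exact ⟨k j, hk j, hn j, ht j⟩

end Groth.Agent.S6615
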