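import Groth.Statements.S6589
import Mathlib
import Groth.Agent.S6615
import Groth.Agent.Lib.helper2.DerTrunc
-- import your own Groth.Agent.* helpers here

set_option autoImplicit false
universe w v u
open CategoryTheory CategoryTheory.Limits Opposite
open CohDer

namespace Groth.Agent.S6589


section helpers
set_option linter.unusedSectionVars false
open CategoryTheory.Pretriangulated CategoryTheory.Triangulated DerivedCategory
open Groth.Agent.Lib.helper2
open ZeroObject

lemma essConst_of_isZero {C : Type*} [Category C] [HasZeroMorphisms C] [HasZeroObject C]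
    (X : ARSys.PS C) (hX : ∀ n : ℕ, IsZero (X.obj (op n))) :
    ∃ (L : C) (c : (Functor.const ℕᵒᵖ).obj L ⟶ X), DerCA.IsEssConstant X L c :=
  ⟨0, 0, 0, 0, (isZero_zero C).eq_of_src _ _, fun j =>
    ⟨j, Nat.zero_le j, le_refl j, (hX j).eq_of_src _ _⟩⟩

lemma essConst_of_iso {C : Type*} [Category C] {X Y : ARSys.PS C} (e : X ≅ Y) {L : C}
    {c : (Functor.const ℕᵒᵖ).obj L ⟶ X} (h : DerCA.IsEssConstant X L c) :
    DerCA.IsEssConstant Y L (c ≫ e.hom) := by
  obtain ⟨i, s, hs, hf⟩ := h
  refine ⟨i, e.inv.app (op i) ≫ s, ?_, fun j => ?_⟩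
  · simp [hs]
  · obtain ⟨k, hi, hj, hk⟩ := hf j
    refine ⟨k, hi, hj, ?_⟩
    have h1 : ARSys.tr Y hj = e.inv.app (op k) ≫ ARSys.tr X hj ≫ e.hom.app (op j) := by
      dsimp only [ARSys.tr]
      rw [e.hom.naturality, Iso.inv_hom_id_app_assoc]
    have h2 : ARSys.tr Y hi ≫ e.inv.app (op i) = e.inv.app (op k) ≫ ARSys.tr X hi :=
      e.inv.naturality _
    rw [h1, hk]
    simp only [NatTrans.comp_app, Category.assoc]
    rw [reassoc_of% h2]

variable {A : Type u} [Category.{v} A] [Abelian A] [HasDerivedCategory.{w} A]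

lemma homology_map_injective (b : ℤ) (L M : DerivedCategory A) [L.IsGE b] [L.IsLE b]
    [M.IsGE b] [M.IsLE b] (φ₁ φ₂ : L ⟶ M)
    (h : (homologyFunctor A b).map φ₁ = (homologyFunctor A b).map φ₂) : φ₁ = φ₂ := by
  obtain ⟨eL⟩ := DerTrunc.exists_iso_single_homology L b
  obtain ⟨eM⟩ := DerTrunc.exists_iso_single_homology M b
  have key : ∀ (P Q : A) (ψ₁ ψ₂ : (singleFunctor A b).obj P ⟶ (singleFunctor A b).obj Q),
      (homologyFunctor A b).map ψ₁ = (homologyFunctor A b).map ψ₂ → ψ₁ = ψ₂ := by
    intro P Q ψ₁ ψ₂ hψ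
    obtain ⟨θ₁, rfl⟩ := (singleFunctor A b).map_surjective ψ₁
    obtain ⟨θ₂, rfl⟩ := (singleFunctor A b).map_surjective ψ₂
    congr 1
    have n₁ := (singleFunctorCompHomologyFunctorIso A b).hom.naturality θ₁
    have n₂ := (singleFunctorCompHomologyFunctorIso A b).hom.naturality θ₂
    dsimp at n₁ n₂
    rw [← cancel_epi ((singleFunctorCompHomologyFunctorIso A b).hom.app P), ← n₁, ← n₂, hψ]
  have := key _ _ (eL.inv ≫ φ₁ ≫ eM.hom) (eL.inv ≫ φ₂ ≫ eM.hom)
    (by simp only [Functor.map_comp, h])
  rwa [cancel_epi, cancel_mono] at this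

lemma homology_map_surjective (b : ℤ) (L M : DerivedCategory A) [L.IsGE b] [L.IsLE b]
    [M.IsGE b] [M.IsLE b]
    (θ : (homologyFunctor A b).obj L ⟶ (homologyFunctor A b).obj M) :
    ∃ φ : L ⟶ M, (homologyFunctor A b).map φ = θ := by
  obtain ⟨eL⟩ := DerTrunc.exists_iso_single_homology L b
  obtain ⟨eM⟩ := DerTrunc.exists_iso_single_homology M b
  let ι := singleFunctorCompHomologyFunctorIso A b
  let ψ : (homologyFunctor A b).obj L ⟶ (homologyFunctor A b).obj M :=
    ι.inv.app _ ≫ (homologyFunctor A b).map eL.inv ≫ θ ≫ (homologyFunctor A b).map eM.hom ≫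
      ι.hom.app _
  refine ⟨eL.hom ≫ (singleFunctor A b).map ψ ≫ eM.inv, ?_⟩
  have n := ι.hom.naturality ψ
  dsimp at n
  have hn : (homologyFunctor A b).map ((singleFunctor A b).map ψ) =
      ι.hom.app _ ≫ ψ ≫ ι.inv.app _ := by
    rw [← reassoc_of% n]
    simp
  rw [Functor.map_comp, Functor.map_comp, hn]
  dsimp only [ψ]
  simp

lemma essConst_single_degree (b : ℤ) (X : ARSys.PS (DerivedCategory A))
    (hGE : ∀ n : ℕ, (X.obj (op n)).IsGE b) (hLE : ∀ n : ℕ, (X.obj (op n)).IsLE b)
    (B₀ : A) (c₀ : (Functor.const ℕᵒᵖ).obj B₀ ⟶ X ⋙ homologyFunctor A b)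
    (h : DerCA.IsEssConstant (X ⋙ homologyFunctor A b) B₀ c₀) :
    ∃ (L : DerivedCategory A) (c : (Functor.const ℕᵒᵖ).obj L ⟶ X), DerCA.IsEssConstant X L c := by
  obtain ⟨i, s₀, hs₀, hf₀⟩ := h
  let ι := (singleFunctorCompHomologyFunctorIso A b).app B₀
  have hc : ∀ n : ℕ, ∃ cn : (singleFunctor A b).obj B₀ ⟶ X.obj (op n),
      (homologyFunctor A b).map cn = ι.hom ≫ c₀.app (op n) := fun n =>
    have := hGE n
    have := hLE n
    homology_map_surjective b _ _ _
  choose cn hcn using hc
  obtain ⟨s, hs⟩ : ∃ s : X.obj (op i) ⟶ (singleFunctor A b).obj B₀,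
      (homologyFunctor A b).map s = s₀ ≫ ι.inv :=
    have := hGE i
    have := hLE i
    homology_map_surjective b _ _ _
  let c : (Functor.const ℕᵒᵖ).obj ((singleFunctor A b).obj B₀) ⟶ X :=
    { app := fun n => cn n.unop
      naturality := by
        intro n n' φ
        have := hGE n'.unop
        have := hLE n'.unop
        refine homology_map_injective b ((singleFunctor A b).obj B₀) (X.obj n') _ _ ?_
        have := c₀.naturality φ
        dsimp at this ⊢
        rw [Category.id_comp] at this ⊢
        rw [Functor.map_comp, hcn, hcn, Category.assoc, ← this] }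
  refine ⟨(singleFunctor A b).obj B₀, c, i, s, ?_, fun j => ?_⟩
  · refine homology_map_injective b ((singleFunctor A b).obj B₀) ((singleFunctor A b).obj B₀) _ _ ?_
    change (homologyFunctor A b).map (cn i ≫ s) = _
    rw [Functor.map_comp, hcn, hs, CategoryTheory.Functor.map_id, Category.assoc,
      reassoc_of% hs₀]
    exact (congrArg (fun z => ι.hom ≫ z) (Category.id_comp ι.inv)).trans ι.hom_inv_id
  · obtain ⟨k, hi, hj, hk⟩ := hf₀ j
    refine ⟨k, hi, hj, ?_⟩
    have := hGE k
    have := hLE k
    have := hGE j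
    have := hLE j
    apply homology_map_injective b
    change _ = (homologyFunctor A b).map (ARSys.tr X hi ≫ s ≫ cn j)
    rw [Functor.map_comp, Functor.map_comp, hcn, hs]
    simp only [Category.assoc, Iso.inv_hom_id_assoc]
    exact hk

lemma main (a : ℤ) (N : ℕ) : ∀ (X : ARSys.PS (DerivedCategory A)),
    (∀ (n : ℕ) (i : ℤ), i < a ∨ a + N ≤ i →
      IsZero ((homologyFunctor A i).obj (X.obj (op n)))) →
    (∀ i : ℤ, ∃ (B : A) (c : (Functor.const ℕᵒᵖ).obj B ⟶ X ⋙ homologyFunctor A i),
      DerCA.IsEssConstant (X ⋙ homologyFunctor A i) B c) →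
    ∃ (L : DerivedCategory A) (c : (Functor.const ℕᵒᵖ).obj L ⟶ X), DerCA.IsEssConstant X L c := by
  induction N with
  | zero =>
    intro X hX _
    apply essConst_of_isZero
    intro n
    have h1 : (X.obj (op n)).IsLE (a - 1) :=
      (isLE_iff _ _).2 (fun i hi => hX n i (Or.inr (by push_cast; omega)))
    have h2 : (X.obj (op n)).IsGE a := (isGE_iff _ _).2 (fun i hi => hX n i (Or.inl hi))
    exact TStructure.t.isZero (X.obj (op n)) (a - 1) a (by omega)
  | succ N ih =>
    intro X hX hH
    obtain ⟨b, hb⟩ : ∃ b : ℤ, b = a + N := ⟨_, rfl⟩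
    let t : TStructure (DerivedCategory A) := TStructure.t
    let X' : ARSys.PS (DerivedCategory A) := X ⋙ t.truncLT b
    let X'' : ARSys.PS (DerivedCategory A) := X ⋙ t.truncGE b
    let f : X' ⟶ X :=
      { app := fun n => (t.truncLTι b).app (X.obj n)
        naturality := fun _ _ φ => (t.truncLTι b).naturality (X.map φ) }
    let g : X ⟶ X'' :=
      { app := fun n => (t.truncGEπ b).app (X.obj n)
        naturality := fun _ _ φ => (t.truncGEπ b).naturality (X.map φ) }
    let h : X'' ⟶ X' ⋙ shiftFunctor (DerivedCategory A) (1 : ℤ) :=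
      { app := fun n => (t.truncGEδLT b).app (X.obj n)
        naturality := fun _ _ φ => (t.truncGEδLT b).naturality (X.map φ) }
    have hT : ∀ n : ℕ, Triangle.mk (f.app (op n)) (g.app (op n)) (h.app (op n)) ∈
        distinguishedTriangles := fun n => t.triangleLTGE_distinguished b (X.obj (op n))
    have hLE' : ∀ n : ℕᵒᵖ, t.IsLE ((t.truncLT b).obj (X.obj n)) (b - 1) := fun n => inferInstance
    have hGE'' : ∀ n : ℕᵒᵖ, t.IsGE ((t.truncGE b).obj (X.obj n)) b := fun n => inferInstance
    have hX' : ∃ (L : DerivedCategory A) (c : (Functor.const ℕᵒᵖ).obj L ⟶ X'),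
        DerCA.IsEssConstant X' L c := by
      apply ih X'
      · intro n i hi
        rcases hi with hi | hi
        · have := DerTrunc.isIso_homology_map_truncLTι (X.obj (op n)) b i (by omega)
          exact (hX n i (Or.inl hi)).of_iso
            (asIso ((homologyFunctor A i).map ((t.truncLTι b).app (X.obj (op n)))))
        · have := hLE' (op n)
          exact DerivedCategory.isZero_of_isLE ((t.truncLT b).obj (X.obj (op n))) (b - 1) i
            (by omega)
      · intro i
        by_cases hi : i < b
        · obtain ⟨B, c, hc⟩ := hH i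
          have h1 : ∀ n, IsIso ((Functor.whiskerRight f (homologyFunctor A i)).app n) := fun n =>
            DerTrunc.isIso_homology_map_truncLTι (X.obj n) b i hi
          have h2 : IsIso (Functor.whiskerRight f (homologyFunctor A i)) :=
            NatIso.isIso_of_isIso_app _
          exact ⟨B, _, essConst_of_iso (asIso (Functor.whiskerRight f (homologyFunctor A i))).symm hc⟩
        · apply essConst_of_isZero
          intro n
          have := hLE' (op n)
          exact DerivedCategory.isZero_of_isLE ((t.truncLT b).obj (X.obj (op n))) (b - 1) i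
            (by omega)
    have hX'' : ∃ (L : DerivedCategory A) (c : (Functor.const ℕᵒᵖ).obj L ⟶ X''),
        DerCA.IsEssConstant X'' L c := by
      obtain ⟨B, c, hc⟩ := hH b
      have h1 : ∀ n, IsIso ((Functor.whiskerRight g (homologyFunctor A b)).app n) := fun n =>
        DerTrunc.isIso_homology_map_truncGEπ (X.obj n) b b le_rfl
      have h2 : IsIso (Functor.whiskerRight g (homologyFunctor A b)) :=
        NatIso.isIso_of_isIso_app _
      have h3 := essConst_of_iso (asIso (Functor.whiskerRight g (homologyFunctor A b))) hc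
      refine essConst_single_degree b X'' (fun n => hGE'' (op n)) (fun n => ?_) B _ h3
      refine (isLE_iff _ _).2 (fun i hi => ?_)
      have := DerTrunc.isIso_homology_map_truncGEπ (X.obj (op n)) b i (by omega)
      exact (hX n i (Or.inr (by push_cast; omega))).of_iso
        (asIso ((homologyFunctor A i).map ((t.truncGEπ b).app (X.obj (op n))))).symm
    exact Groth.Agent.S6615.result X' X X'' f g h hT hX' hX''

end helpers

/-- Let A be an abelian category and (X_n) an ℕ-indexed inverse system of objects of D(A). Assume (1)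
there are a ≤ b with Hⁱ(X_n) = 0 for all n and all i outside [a, b], and (2) for every i the inverse
system Hⁱ(X_n) of A is essentially constant. Then (X_n) is an essentially constant inverse system of
D(A). (The published statement also identifies Hⁱ of the value with the value of the system Hⁱ(X_n);
this row does not assert that identification.) -/
theorem result {A : Type u} [Category.{v} A] [Abelian A] [HasDerivedCategory.{w} A]
    (X : ARSys.PS (DerivedCategory A)) (a b : ℤ) (hab : a ≤ b)
    (hX : ∀ (n : ℕ) (i : ℤ), i < a ∨ b < i → IsZero ((DerivedCategory.homologyFunctor A i).obj (X.obj (op n))))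
    (hH : ∀ i : ℤ, ∃ (B : A) (c : (Functor.const ℕᵒᵖ).obj B ⟶ X ⋙ DerivedCategory.homologyFunctor A i),
      DerCA.IsEssConstant (X ⋙ DerivedCategory.homologyFunctor A i) B c) :
    ∃ (L : DerivedCategory A) (c : (Functor.const ℕᵒᵖ).obj L ⟶ X), DerCA.IsEssConstant X L c := by
  refine main a (b - a + 1).toNat X (fun n i hi => hX n i ?_) hH
  rcases hi with hi | hi
  · exact Or.inl hi
  · right
    have : ((b - a + 1).toNat : ℤ) = b - a + 1 := Int.toNat_of_nonneg (by omega)
    omega

end Groth.Agent.S6589
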