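import Groth.Statements.S6588
import Mathlib
import Groth.Agent.S6589
-- import your own Groth.Agent.* helpers here

set_option autoImplicit false
universe w v u
open CategoryTheory CategoryTheory.Limits Opposite
open CohDer

namespace Groth.Agent.S6588


section helpers
set_option linter.unusedSectionVars false
open CategoryTheory.Pretriangulated CategoryTheory.Triangulated DerivedCategory
open Groth.Agent.Lib.helper2
open Groth.Agent.S6615 (tr_comp tr_comp_assoc nat_tr nat_tr_assoc nat_h nat_h_assoc)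

section general

variable {D : Type*} [Category D]

/-- injectivity of `colim Hom(Y_n, W) → colim Hom(X_n, W)` -/
def PInj [Preadditive D] {X Y : ARSys.PS D} (f : X ⟶ Y) : Prop :=
  ∀ (n : ℕ) (W : D) (u : Y.obj (op n) ⟶ W), f.app (op n) ≫ u = 0 →
    ∃ (m : ℕ) (h : n ≤ m), ARSys.tr Y h ≫ u = 0

/-- surjectivity of `colim Hom(Y_n, W) → colim Hom(X_n, W)` -/
def PSurj {X Y : ARSys.PS D} (f : X ⟶ Y) : Prop :=
  ∀ (n : ℕ) (W : D) (x : X.obj (op n) ⟶ W),
    ∃ (m : ℕ) (h : n ≤ m) (y : Y.obj (op m) ⟶ W), f.app (op m) ≫ y = ARSys.tr X h ≫ x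

lemma pinj_of_proIso [Preadditive D] {X Y : ARSys.PS D} {f : X ⟶ Y} (hf : DerCA.IsProIso f) :
    PInj f := by
  intro n W u hu
  obtain ⟨m, h, b, h1, h2⟩ := hf n
  exact ⟨m, h, by rw [← h2, Category.assoc, hu, comp_zero]⟩

lemma psurj_of_proIso {X Y : ARSys.PS D} {f : X ⟶ Y} (hf : DerCA.IsProIso f) : PSurj f := by
  intro n W x
  obtain ⟨m, h, b, h1, h2⟩ := hf n
  exact ⟨m, h, b ≫ x, by rw [← Category.assoc, h1]⟩

lemma proIso_whiskerRight {E : Type*} [Category E] {X Y : ARSys.PS D} {f : X ⟶ Y} (F : D ⥤ E)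
    (hf : DerCA.IsProIso f) : DerCA.IsProIso (Functor.whiskerRight f F) := by
  intro n
  obtain ⟨m, h, b, h1, h2⟩ := hf n
  refine ⟨m, h, F.map b, ?_, ?_⟩
  · change F.map (f.app (op m)) ≫ F.map b = F.map (ARSys.tr X h)
    rw [← F.map_comp, h1]
  · change F.map b ≫ F.map (f.app (op n)) = F.map (ARSys.tr Y h)
    rw [← F.map_comp, h2]

lemma proIso_of_pinj_psurj [Preadditive D] {X Y : ARSys.PS D} {f : X ⟶ Y} (hi : PInj f)
    (hs : PSurj f) : DerCA.IsProIso f := by
  intro n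
  obtain ⟨m, h, y, hy⟩ := hs n _ (𝟙 (X.obj (op n)))
  rw [Category.comp_id] at hy
  have hu : f.app (op m) ≫ (y ≫ f.app (op n) - ARSys.tr Y h) = 0 := by
    rw [Preadditive.comp_sub, ← Category.assoc, hy, nat_tr f h, sub_self]
  obtain ⟨m', h', hm'⟩ := hi m _ _ hu
  rw [Preadditive.comp_sub, sub_eq_zero, tr_comp] at hm'
  refine ⟨m', h.trans h', ARSys.tr Y h' ≫ y, ?_, ?_⟩
  · rw [nat_tr_assoc f h', hy, tr_comp]
  · rw [Category.assoc, hm']

lemma proIso_of_isZero [HasZeroMorphisms D] {X Y : ARSys.PS D} (f : X ⟶ Y)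
    (hX : ∀ n : ℕ, IsZero (X.obj (op n))) (hY : ∀ n : ℕ, IsZero (Y.obj (op n))) :
    DerCA.IsProIso f := fun n =>
  ⟨n, le_refl n, 0, (hX n).eq_of_src _ _, (hY n).eq_of_src _ _⟩

lemma proIso_transfer {X Y X₂ Y₂ : ARSys.PS D} (f : X ⟶ Y) (f₂ : X₂ ⟶ Y₂) (eX : X₂ ≅ X)
    (eY : Y₂ ≅ Y) (comm : f₂ ≫ eY.hom = eX.hom ≫ f) (hf : DerCA.IsProIso f) :
    DerCA.IsProIso f₂ := by
  intro n
  obtain ⟨m, h, b, h1, h2⟩ := hf n
  have cm : ∀ k : ℕ, f₂.app (op k) ≫ eY.hom.app (op k) = eX.hom.app (op k) ≫ f.app (op k) :=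
    fun k => by rw [← NatTrans.comp_app, comm, NatTrans.comp_app]
  refine ⟨m, h, eY.hom.app (op m) ≫ b ≫ eX.inv.app (op n), ?_, ?_⟩
  · rw [reassoc_of% (cm m), reassoc_of% h1]
    have := eX.inv.naturality (homOfLE h).op
    change ARSys.tr X h ≫ eX.inv.app (op n) = eX.inv.app (op m) ≫ ARSys.tr X₂ h at this
    rw [this, Iso.hom_inv_id_app_assoc]
  · have cn : eX.inv.app (op n) ≫ f₂.app (op n) = f.app (op n) ≫ eY.inv.app (op n) := by
      rw [← cancel_mono (eY.hom.app (op n)), Category.assoc, Category.assoc, cm n,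
        Iso.inv_hom_id_app_assoc, Iso.inv_hom_id_app, Category.comp_id]
    simp only [Category.assoc]
    rw [cn, reassoc_of% h2]
    have := eY.inv.naturality (homOfLE h).op
    change ARSys.tr Y h ≫ eY.inv.app (op n) = eY.inv.app (op m) ≫ ARSys.tr Y₂ h at this
    rw [this, Iso.hom_inv_id_app_assoc]

end general

section tri

variable {D : Type*} [Category D] [Preadditive D] [HasZeroObject D] [HasShift D ℤ]
    [∀ n : ℤ, (shiftFunctor D n).Additive] [Pretriangulated D]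

lemma exists_ext_mor₁ (T : Triangle D) (hT : T ∈ distinguishedTriangles) {W : D}
    (y : T.obj₁ ⟶ W) (hy : T.mor₃ ≫ y⟦(1 : ℤ)⟧' = 0) : ∃ y₂ : T.obj₂ ⟶ W, T.mor₁ ≫ y₂ = y := by
  obtain ⟨g, hg⟩ := Triangle.yoneda_exact₃ T.rotate (rot_of_distTriang _ hT) (y⟦(1 : ℤ)⟧') hy
  obtain ⟨g₀, rfl⟩ := (shiftFunctor D (1 : ℤ)).map_surjective g
  refine ⟨-g₀, (shiftFunctor D (1 : ℤ)).map_injective ?_⟩
  rw [hg, Functor.map_comp]
  change _ ≫ (shiftFunctor D (1 : ℤ)).map (-g₀) = (-(shiftFunctor D (1 : ℤ)).map T.mor₁) ≫ _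
  rw [(shiftFunctor D (1 : ℤ)).map_neg, Preadditive.comp_neg, Preadditive.neg_comp]
  rfl

lemma proIso_middle (X' X X'' Y' Y Y'' : ARSys.PS D)
    (α : X' ⟶ X) (β : X ⟶ X'') (γ : X'' ⟶ X' ⋙ shiftFunctor D (1 : ℤ))
    (α' : Y' ⟶ Y) (β' : Y ⟶ Y'') (γ' : Y'' ⟶ Y' ⋙ shiftFunctor D (1 : ℤ))
    (hTX : ∀ n : ℕ, Triangle.mk (α.app (op n)) (β.app (op n)) (γ.app (op n)) ∈
      distinguishedTriangles)
    (hTY : ∀ n : ℕ, Triangle.mk (α'.app (op n)) (β'.app (op n)) (γ'.app (op n)) ∈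
      distinguishedTriangles)
    (f' : X' ⟶ Y') (f : X ⟶ Y) (f'' : X'' ⟶ Y'')
    (c₁ : ∀ n : ℕ, α.app (op n) ≫ f.app (op n) = f'.app (op n) ≫ α'.app (op n))
    (c₂ : ∀ n : ℕ, β.app (op n) ≫ f''.app (op n) = f.app (op n) ≫ β'.app (op n))
    (c₃ : ∀ n : ℕ, γ.app (op n) ≫ (f'.app (op n))⟦(1 : ℤ)⟧' = f''.app (op n) ≫ γ'.app (op n))
    (hf' : DerCA.IsProIso f') (hf'' : DerCA.IsProIso f'') : DerCA.IsProIso f := by
  have hi' := pinj_of_proIso hf'
  have hs' := psurj_of_proIso hf'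
  have hi'' := pinj_of_proIso hf''
  have hs'' := psurj_of_proIso hf''
  have hs'1 := psurj_of_proIso (proIso_whiskerRight (shiftFunctor D (1 : ℤ)) hf')
  apply proIso_of_pinj_psurj
  · -- injectivity
    intro n W u hu
    have e1 : f'.app (op n) ≫ α'.app (op n) ≫ u = 0 := by
      rw [← Category.assoc, ← c₁, Category.assoc, hu, comp_zero]
    obtain ⟨m₁, h₁, hu₁⟩ := hi' n W _ e1
    have e2 : α'.app (op m₁) ≫ ARSys.tr Y h₁ ≫ u = 0 := by
      rw [nat_tr_assoc α' h₁, hu₁]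
    obtain ⟨w, hw⟩ : ∃ w : Y''.obj (op m₁) ⟶ W, ARSys.tr Y h₁ ≫ u = β'.app (op m₁) ≫ w :=
      Triangle.yoneda_exact₂ _ (hTY m₁) _ e2
    have e3 : β.app (op m₁) ≫ f''.app (op m₁) ≫ w = 0 := by
      rw [← Category.assoc, c₂, Category.assoc, ← hw, nat_tr_assoc f h₁, hu, comp_zero]
    obtain ⟨v, hv⟩ : ∃ v : (X'.obj (op m₁))⟦(1 : ℤ)⟧ ⟶ W,
        f''.app (op m₁) ≫ w = γ.app (op m₁) ≫ v :=
      Triangle.yoneda_exact₃ _ (hTX m₁) _ e3
    obtain ⟨m₂, h₂, v', hv'⟩ := hs'1 m₁ W v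
    change (f'.app (op m₂))⟦(1 : ℤ)⟧' ≫ v' = (ARSys.tr X' h₂)⟦(1 : ℤ)⟧' ≫ v at hv'
    have e4 : f''.app (op m₂) ≫ (ARSys.tr Y'' h₂ ≫ w - γ'.app (op m₂) ≫ v') = 0 := by
      rw [Preadditive.comp_sub, nat_tr_assoc f'' h₂, hv, ← Category.assoc (f''.app (op m₂)),
        ← c₃, Category.assoc, hv', nat_h_assoc γ h₂, sub_self]
    obtain ⟨m₃, h₃, hw₂⟩ := hi'' m₂ W _ e4
    rw [Preadditive.comp_sub, sub_eq_zero, tr_comp_assoc] at hw₂
    refine ⟨m₃, h₁.trans (h₂.trans h₃), ?_⟩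
    rw [← tr_comp_assoc Y h₁ (h₂.trans h₃), hw, ← nat_tr_assoc β' (h₂.trans h₃), hw₂,
      ← nat_h_assoc γ' h₃]
    have : β'.app (op m₃) ≫ γ'.app (op m₃) = 0 := comp_distTriang_mor_zero₂₃ _ (hTY m₃)
    rw [reassoc_of% this, zero_comp]
  · -- surjectivity
    intro n W x
    obtain ⟨m₁, h₁, y', hy'⟩ := hs' n W (α.app (op n) ≫ x)
    have e1 : f''.app (op m₁) ≫ γ'.app (op m₁) ≫ y'⟦(1 : ℤ)⟧' = 0 := by
      rw [← Category.assoc, ← c₃, Category.assoc, ← Functor.map_comp, hy']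
      simp only [Functor.map_comp]
      rw [nat_h_assoc γ h₁]
      have : γ.app (op n) ≫ (α.app (op n))⟦(1 : ℤ)⟧' = 0 :=
        comp_distTriang_mor_zero₃₁ _ (hTX n)
      rw [reassoc_of% this, zero_comp, comp_zero]
    obtain ⟨m₂, h₂, hz⟩ := hi'' m₁ _ _ e1
    have e2 : γ'.app (op m₂) ≫ (ARSys.tr Y' h₂ ≫ y')⟦(1 : ℤ)⟧' = 0 := by
      rw [Functor.map_comp, nat_h_assoc γ' h₂, hz]
    obtain ⟨y₂, hy₂⟩ : ∃ y₂ : Y.obj (op m₂) ⟶ W, α'.app (op m₂) ≫ y₂ = ARSys.tr Y' h₂ ≫ y' :=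
      exists_ext_mor₁ _ (hTY m₂) _ e2
    have e3 : α.app (op m₂) ≫ (f.app (op m₂) ≫ y₂ - ARSys.tr X (h₁.trans h₂) ≫ x) = 0 := by
      rw [Preadditive.comp_sub, ← Category.assoc, c₁, Category.assoc, hy₂, nat_tr_assoc f' h₂,
        hy', tr_comp_assoc, nat_tr_assoc α (h₁.trans h₂), sub_self]
    obtain ⟨e, he⟩ : ∃ e : X''.obj (op m₂) ⟶ W,
        f.app (op m₂) ≫ y₂ - ARSys.tr X (h₁.trans h₂) ≫ x = β.app (op m₂) ≫ e :=
      Triangle.yoneda_exact₂ _ (hTX m₂) _ e3
    obtain ⟨m₃, h₃, y'', hy''⟩ := hs'' m₂ W e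
    refine ⟨m₃, h₁.trans (h₂.trans h₃), ARSys.tr Y h₃ ≫ y₂ - β'.app (op m₃) ≫ y'', ?_⟩
    rw [Preadditive.comp_sub, nat_tr_assoc f h₃, ← Category.assoc (f.app (op m₃)), ← c₂,
      Category.assoc, hy'', nat_tr_assoc β h₃, ← he, Preadditive.comp_sub, tr_comp_assoc]
    abel

end tri

section der

variable {A : Type u} [Category.{v} A] [Abelian A] [HasDerivedCategory.{w} A]

open Groth.Agent.S6589 (homology_map_injective homology_map_surjective)

lemma proIso_single_degree (b : ℤ) (X Y : ARSys.PS (DerivedCategory A)) (f : X ⟶ Y)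
    (hXGE : ∀ n : ℕ, (X.obj (op n)).IsGE b) (hXLE : ∀ n : ℕ, (X.obj (op n)).IsLE b)
    (hYGE : ∀ n : ℕ, (Y.obj (op n)).IsGE b) (hYLE : ∀ n : ℕ, (Y.obj (op n)).IsLE b)
    (h : DerCA.IsProIso (Functor.whiskerRight f (homologyFunctor A b))) : DerCA.IsProIso f := by
  intro n
  obtain ⟨m, hm, b₀, h1, h2⟩ := h n
  have := hXGE n
  have := hXLE n
  have := hYGE n
  have := hYLE n
  have := hXGE m
  have := hXLE m
  have := hYGE m
  have := hYLE m
  obtain ⟨b', hb'⟩ : ∃ b' : Y.obj (op m) ⟶ X.obj (op n), (homologyFunctor A b).map b' = b₀ :=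
    homology_map_surjective b _ _ b₀
  refine ⟨m, hm, b', ?_, ?_⟩
  · apply homology_map_injective b
    rw [Functor.map_comp, hb']
    exact h1
  · apply homology_map_injective b
    rw [Functor.map_comp, hb']
    exact h2

lemma main (a : ℤ) (N : ℕ) : ∀ (X Y : ARSys.PS (DerivedCategory A)) (f : X ⟶ Y),
    (∀ (n : ℕ) (i : ℤ), i < a ∨ a + N ≤ i →
      IsZero ((homologyFunctor A i).obj (X.obj (op n)))) →
    (∀ (n : ℕ) (i : ℤ), i < a ∨ a + N ≤ i →
      IsZero ((homologyFunctor A i).obj (Y.obj (op n)))) →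
    (∀ i : ℤ, DerCA.IsProIso (Functor.whiskerRight f (homologyFunctor A i))) →
    DerCA.IsProIso f := by
  induction N with
  | zero =>
    intro X Y f hX hY _
    have hz : ∀ (Z : ARSys.PS (DerivedCategory A)), (∀ (n : ℕ) (i : ℤ), i < a ∨ a + (0 : ℕ) ≤ i →
        IsZero ((homologyFunctor A i).obj (Z.obj (op n)))) → ∀ n : ℕ, IsZero (Z.obj (op n)) := by
      intro Z hZ n
      have h1 : (Z.obj (op n)).IsLE (a - 1) :=
        (isLE_iff _ _).2 (fun i hi => hZ n i (Or.inr (by push_cast; omega)))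
      have h2 : (Z.obj (op n)).IsGE a := (isGE_iff _ _).2 (fun i hi => hZ n i (Or.inl hi))
      exact TStructure.t.isZero (Z.obj (op n)) (a - 1) a (by omega)
    exact proIso_of_isZero f (hz X hX) (hz Y hY)
  | succ N ih =>
    intro X Y f hX hY hH
    obtain ⟨b, hb⟩ : ∃ b : ℤ, b = a + N := ⟨_, rfl⟩
    let t : TStructure (DerivedCategory A) := TStructure.t
    -- auxiliary construction for one system
    let tl : ∀ (Z : ARSys.PS (DerivedCategory A)), (Z ⋙ t.truncLT b ⟶ Z) := fun Z =>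
      { app := fun n => (t.truncLTι b).app (Z.obj n)
        naturality := fun _ _ φ => (t.truncLTι b).naturality (Z.map φ) }
    let tg : ∀ (Z : ARSys.PS (DerivedCategory A)), (Z ⟶ Z ⋙ t.truncGE b) := fun Z =>
      { app := fun n => (t.truncGEπ b).app (Z.obj n)
        naturality := fun _ _ φ => (t.truncGEπ b).naturality (Z.map φ) }
    let td : ∀ (Z : ARSys.PS (DerivedCategory A)),
        (Z ⋙ t.truncGE b ⟶ (Z ⋙ t.truncLT b) ⋙ shiftFunctor (DerivedCategory A) (1 : ℤ)) :=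
      fun Z =>
      { app := fun n => (t.truncGEδLT b).app (Z.obj n)
        naturality := fun _ _ φ => (t.truncGEδLT b).naturality (Z.map φ) }
    have hT : ∀ (Z : ARSys.PS (DerivedCategory A)) (n : ℕ),
        Triangle.mk ((tl Z).app (op n)) ((tg Z).app (op n)) ((td Z).app (op n)) ∈
        distinguishedTriangles := fun Z n => t.triangleLTGE_distinguished b (Z.obj (op n))
    have hLE' : ∀ (Z : ARSys.PS (DerivedCategory A)) (n : ℕᵒᵖ),
        t.IsLE ((t.truncLT b).obj (Z.obj n)) (b - 1) := fun Z n => inferInstance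
    have hGE'' : ∀ (Z : ARSys.PS (DerivedCategory A)) (n : ℕᵒᵖ),
        t.IsGE ((t.truncGE b).obj (Z.obj n)) b := fun Z n => inferInstance
    -- vanishing for the truncated systems
    have hvan' : ∀ (Z : ARSys.PS (DerivedCategory A)), (∀ (n : ℕ) (i : ℤ), i < a ∨ a + (N + 1 : ℕ) ≤ i →
        IsZero ((homologyFunctor A i).obj (Z.obj (op n)))) → ∀ (n : ℕ) (i : ℤ), i < a ∨ a + N ≤ i →
        IsZero ((homologyFunctor A i).obj ((Z ⋙ t.truncLT b).obj (op n))) := by
      intro Z hZ n i hi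
      rcases hi with hi | hi
      · have := DerTrunc.isIso_homology_map_truncLTι (Z.obj (op n)) b i (by omega)
        exact (hZ n i (Or.inl hi)).of_iso
          (asIso ((homologyFunctor A i).map ((t.truncLTι b).app (Z.obj (op n)))))
      · have := hLE' Z (op n)
        exact DerivedCategory.isZero_of_isLE ((t.truncLT b).obj (Z.obj (op n))) (b - 1) i
          (by omega)
    have hLE'' : ∀ (Z : ARSys.PS (DerivedCategory A)), (∀ (n : ℕ) (i : ℤ), i < a ∨ a + (N + 1 : ℕ) ≤ i →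
        IsZero ((homologyFunctor A i).obj (Z.obj (op n)))) → ∀ (n : ℕ),
        ((Z ⋙ t.truncGE b).obj (op n)).IsLE b := by
      intro Z hZ n
      refine (isLE_iff _ _).2 (fun i hi => ?_)
      have := DerTrunc.isIso_homology_map_truncGEπ (Z.obj (op n)) b i (by omega)
      exact (hZ n i (Or.inr (by push_cast; omega))).of_iso
        (asIso ((homologyFunctor A i).map ((t.truncGEπ b).app (Z.obj (op n))))).symm
    let f' : X ⋙ t.truncLT b ⟶ Y ⋙ t.truncLT b := Functor.whiskerRight f (t.truncLT b)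
    let f'' : X ⋙ t.truncGE b ⟶ Y ⋙ t.truncGE b := Functor.whiskerRight f (t.truncGE b)
    have c₁ : tl X ≫ f = f' ≫ tl Y := by
      ext n
      exact ((t.truncLTι b).naturality (f.app n)).symm
    have c₂ : tg X ≫ f'' = f ≫ tg Y := by
      ext n
      exact ((t.truncGEπ b).naturality (f.app n)).symm
    have c₃ : ∀ n : ℕ, (td X).app (op n) ≫ (f'.app (op n))⟦(1 : ℤ)⟧' =
        f''.app (op n) ≫ (td Y).app (op n) := fun n =>
      ((t.truncGEδLT b).naturality (f.app (op n))).symm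
    have hf' : DerCA.IsProIso f' := by
      apply ih _ _ f' (hvan' X hX) (hvan' Y hY)
      intro i
      by_cases hi : i < b
      · have h1 : ∀ (Z : ARSys.PS (DerivedCategory A)),
            IsIso (Functor.whiskerRight (tl Z) (homologyFunctor A i)) := fun Z => by
          have : ∀ n, IsIso ((Functor.whiskerRight (tl Z) (homologyFunctor A i)).app n) := fun n =>
            DerTrunc.isIso_homology_map_truncLTι (Z.obj n) b i hi
          exact NatIso.isIso_of_isIso_app _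
        have := h1 X
        have := h1 Y
        refine proIso_transfer (Functor.whiskerRight f (homologyFunctor A i)) _
          (asIso (Functor.whiskerRight (tl X) (homologyFunctor A i)))
          (asIso (Functor.whiskerRight (tl Y) (homologyFunctor A i))) ?_ (hH i)
        dsimp only [asIso_hom]
        rw [← Functor.whiskerRight_comp, ← Functor.whiskerRight_comp, c₁]
      · apply proIso_of_isZero
        · intro n
          have := hLE' X (op n)
          exact DerivedCategory.isZero_of_isLE ((t.truncLT b).obj (X.obj (op n))) (b - 1) i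
            (by omega)
        · intro n
          have := hLE' Y (op n)
          exact DerivedCategory.isZero_of_isLE ((t.truncLT b).obj (Y.obj (op n))) (b - 1) i
            (by omega)
    have hf'' : DerCA.IsProIso f'' := by
      apply proIso_single_degree b _ _ f'' (fun n => hGE'' X (op n)) (hLE'' X hX)
        (fun n => hGE'' Y (op n)) (hLE'' Y hY)
      have h1 : ∀ (Z : ARSys.PS (DerivedCategory A)),
          IsIso (Functor.whiskerRight (tg Z) (homologyFunctor A b)) := fun Z => by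
        have : ∀ n, IsIso ((Functor.whiskerRight (tg Z) (homologyFunctor A b)).app n) := fun n =>
          DerTrunc.isIso_homology_map_truncGEπ (Z.obj n) b b le_rfl
        exact NatIso.isIso_of_isIso_app _
      have := h1 X
      have := h1 Y
      refine proIso_transfer (Functor.whiskerRight f (homologyFunctor A b)) _
        (asIso (Functor.whiskerRight (tg X) (homologyFunctor A b))).symm
        (asIso (Functor.whiskerRight (tg Y) (homologyFunctor A b))).symm ?_ (hH b)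
      dsimp only [Iso.symm_hom, asIso_inv]
      rw [IsIso.comp_inv_eq, Category.assoc, IsIso.eq_inv_comp, ← Functor.whiskerRight_comp,
        ← Functor.whiskerRight_comp, c₂]
    exact proIso_middle _ X _ _ Y _ (tl X) (tg X) (td X) (tl Y) (tg Y) (td Y) (hT X) (hT Y)
      f' f f'' (fun n => by rw [← NatTrans.comp_app, c₁, NatTrans.comp_app])
      (fun n => by rw [← NatTrans.comp_app, c₂, NatTrans.comp_app]) c₃ hf' hf''

end der

end helpers

/-- Let A be an abelian category and let (X_n) → (Y_n) be an ℕ-indexed inverse system of maps of D(A).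
Assume (1) there are a ≤ b with Hⁱ(X_n) = 0 and Hⁱ(Y_n) = 0 for all n and all i outside [a, b], and
(2) for every i the maps Hⁱ(X_n) → Hⁱ(Y_n) form a pro-isomorphism of inverse systems of A. Then
(X_n) → (Y_n) is a pro-isomorphism of inverse systems of D(A). -/
theorem result {A : Type u} [Category.{v} A] [Abelian A] [HasDerivedCategory.{w} A]
    (X Y : ARSys.PS (DerivedCategory A)) (f : X ⟶ Y) (a b : ℤ) (hab : a ≤ b)
    (hX : ∀ (n : ℕ) (i : ℤ), i < a ∨ b < i → IsZero ((DerivedCategory.homologyFunctor A i).obj (X.obj (op n))))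
    (hY : ∀ (n : ℕ) (i : ℤ), i < a ∨ b < i → IsZero ((DerivedCategory.homologyFunctor A i).obj (Y.obj (op n))))
    (hH : ∀ i : ℤ, DerCA.IsProIso (Functor.whiskerRight f (DerivedCategory.homologyFunctor A i))) :
    DerCA.IsProIso f := by
  refine main a (b - a + 1).toNat X Y f (fun n i hi => hX n i ?_) (fun n i hi => hY n i ?_) hH
  all_goals
    have : ((b - a + 1).toNat : ℤ) = b - a + 1 := Int.toNat_of_nonneg (by omega)
    omega

end Groth.Agent.S6588
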