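import Groth.Statements.S6592
import Mathlib
-- import your own Groth.Agent.* helpers here

set_option autoImplicit false
universe v u
open CategoryTheory CategoryTheory.Limits
open DerLim

namespace Groth.Agent.S6592

section helpers

set_option linter.unusedSectionVars false

open CategoryTheory.Pretriangulated

variable {D : Type u} [Category.{v} D] [Preadditive D] (F : ℕ ⥤ D) (n : ℕ → ℕ) (hn : StrictMono n)

lemma tr1 [HasCoproduct (fun m : ℕ => F.obj m)] {m l l' : ℕ} (h : m ≤ l) (h' : m ≤ l')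
    (e : l = l') :
    F.map (homOfLE h) ≫ Sigma.ι (fun m : ℕ => F.obj m) l =
      F.map (homOfLE h') ≫ Sigma.ι (fun m : ℕ => F.obj m) l' := by
  subst e; rfl

lemma tr2 [HasCoproduct (fun i : ℕ => F.obj (n i))] {m k k' : ℕ} (h : m ≤ n k) (h' : m ≤ n k')
    (e : k = k') :
    F.map (homOfLE h) ≫ Sigma.ι (fun i : ℕ => F.obj (n i)) k =
      F.map (homOfLE h') ≫ Sigma.ι (fun i : ℕ => F.obj (n i)) k' := by
  subst e; rfl

/-- the image of `K_m` in `K_{m+d}`, placed in degree `m+d` -/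
noncomputable def uu [HasCoproduct (fun m : ℕ => F.obj m)] (m d : ℕ) :
    F.obj m ⟶ ∐ (fun m : ℕ => F.obj m) :=
  F.map (homOfLE (Nat.le_add_right m d)) ≫ Sigma.ι (fun m : ℕ => F.obj m) (m + d)

lemma uu_zero [HasCoproduct (fun m : ℕ => F.obj m)] (m : ℕ) :
    uu F m 0 = Sigma.ι (fun m : ℕ => F.obj m) m := by
  have : F.map (homOfLE (Nat.le_add_right m 0)) = 𝟙 _ := by
    rw [← F.map_id]; rfl
  rw [uu, this, Category.id_comp]
  rfl

lemma uu_eq [HasCoproduct (fun m : ℕ => F.obj m)] (m d l : ℕ) (h : m ≤ l) (e : m + d = l) :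
    uu F m d = F.map (homOfLE h) ≫ Sigma.ι (fun m : ℕ => F.obj m) l :=
  tr1 F _ _ e

lemma uu_shift [HasCoproduct (fun m : ℕ => F.obj m)] (m d : ℕ) :
    uu F m d ≫ DerLim.shiftMap (fun m : ℕ => F.obj m)
      (fun m : ℕ => F.map (homOfLE (Nat.le_succ m))) = uu F m (d + 1) := by
  rw [uu, Category.assoc, DerLim.shiftMap, Sigma.ι_desc, ← Category.assoc, ← F.map_comp]
  rfl

lemma map_uu [HasCoproduct (fun m : ℕ => F.obj m)] (m d : ℕ) :
    F.map (homOfLE (Nat.le_succ m)) ≫ uu F (m + 1) d = uu F m (d + 1) := by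
  rw [uu, ← Category.assoc, ← F.map_comp]
  exact tr1 F _ _ (by omega)

lemma sum_uu_comp [HasCoproduct (fun m : ℕ => F.obj m)] (m N : ℕ) :
    (∑ d ∈ Finset.range N, uu F m d) ≫
      (𝟙 _ - DerLim.shiftMap (fun m : ℕ => F.obj m)
        (fun m : ℕ => F.map (homOfLE (Nat.le_succ m)))) = uu F m 0 - uu F m N := by
  rw [Preadditive.sum_comp]
  have : ∀ d ∈ Finset.range N, uu F m d ≫ (𝟙 _ - DerLim.shiftMap (fun m : ℕ => F.obj m)
        (fun m : ℕ => F.map (homOfLE (Nat.le_succ m)))) = uu F m d - uu F m (d + 1) := by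
    intro d _
    rw [Preadditive.comp_sub, Category.comp_id, uu_shift]
  rw [Finset.sum_congr rfl this, Finset.sum_range_sub']

include hn in
lemma ex_idx (m : ℕ) : ∃ k, m ≤ n k := ⟨m, hn.le_apply⟩

/-- the least index `k` with `m ≤ n k` -/
noncomputable def idx (m : ℕ) : ℕ := by
  classical exact Nat.find (ex_idx n hn m)

lemma idx_spec (m : ℕ) : m ≤ n (idx n hn m) := by
  classical exact Nat.find_spec (ex_idx n hn m)

lemma idx_min (m k : ℕ) (hk : k < idx n hn m) : n k < m := by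
  classical exact not_le.1 (Nat.find_min (ex_idx n hn m) hk)

lemma idx_eq (m k : ℕ) (h1 : m ≤ n k) (h2 : ∀ k', k' < k → n k' < m) : idx n hn m = k := by
  classical
  exact (Nat.find_eq_iff (ex_idx n hn m)).2 ⟨h1, fun k' hk' => not_le.2 (h2 k' hk')⟩

lemma idx_n (k : ℕ) : idx n hn (n k) = k :=
  idx_eq n hn _ _ le_rfl (fun _ hk' => hn hk')

lemma idx_succ_of_lt (m : ℕ) (h : m < n (idx n hn m)) : idx n hn (m + 1) = idx n hn m :=
  idx_eq n hn _ _ h (fun k' hk' => lt_trans (idx_min n hn m k' hk') (Nat.lt_succ_self m))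

lemma idx_between (k m : ℕ) (h1 : n k < m) (h2 : m ≤ n (k + 1)) : idx n hn m = k + 1 :=
  idx_eq n hn _ _ h2 (fun k' hk' => lt_of_le_of_lt (hn.monotone (Nat.le_of_lt_succ hk')) h1)

variable [HasCoproduct (fun m : ℕ => F.obj m)] [HasCoproduct (fun i : ℕ => F.obj (n i))]

/-- `σ` -/
noncomputable def sg : (∐ (fun i : ℕ => F.obj (n i))) ⟶ ∐ (fun m : ℕ => F.obj m) :=
  Sigma.desc (fun k => ∑ d ∈ Finset.range (n (k + 1) - n k), uu F (n k) d)

/-- `j` -/
noncomputable def jj : (∐ (fun i : ℕ => F.obj (n i))) ⟶ ∐ (fun m : ℕ => F.obj m) :=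
  Sigma.desc (fun k => Sigma.ι (fun m : ℕ => F.obj m) (n k))

/-- `τ` -/
noncomputable def ta : (∐ (fun m : ℕ => F.obj m)) ⟶ ∐ (fun i : ℕ => F.obj (n i)) :=
  Sigma.desc (fun m => F.map (homOfLE (idx_spec n hn m)) ≫
    Sigma.ι (fun i : ℕ => F.obj (n i)) (idx n hn m))

open Classical in
/-- `ρ` -/
noncomputable def rh : (∐ (fun m : ℕ => F.obj m)) ⟶ ∐ (fun i : ℕ => F.obj (n i)) :=
  Sigma.desc (fun m => if m = n (idx n hn m) then F.map (homOfLE (idx_spec n hn m)) ≫
    Sigma.ι (fun i : ℕ => F.obj (n i)) (idx n hn m) else 0)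

/-- the homotopy `h` -/
noncomputable def hh : (∐ (fun m : ℕ => F.obj m)) ⟶ ∐ (fun m : ℕ => F.obj m) :=
  Sigma.desc (fun m => ∑ d ∈ Finset.range (n (idx n hn m) - m), uu F m d)

local notation "sS" => DerLim.shiftMap (fun m : ℕ => F.obj m)
        (fun m : ℕ => F.map (homOfLE (Nat.le_succ m)))
local notation "sS'" => DerLim.shiftMap (fun i : ℕ => F.obj (n i))
        (fun i : ℕ => F.map (homOfLE (hn.monotone (Nat.le_succ i))))

/-- (E0) -/
lemma e0 : (𝟙 _ - sS') ≫ jj F n = sg F n ≫ (𝟙 _ - sS) := by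
  apply Sigma.hom_ext
  intro k
  rw [Preadditive.sub_comp, Category.id_comp, Preadditive.comp_sub, DerLim.shiftMap]
  rw [Sigma.ι_desc_assoc, Category.assoc]
  rw [jj, Sigma.ι_desc, Sigma.ι_desc]
  rw [sg, Sigma.ι_desc_assoc, sum_uu_comp, uu_zero]
  congr 1
  exact (uu_eq F _ _ _ _ (by have : n k ≤ n (k + 1) := hn.monotone (Nat.le_succ k); omega)).symm

lemma map_id' (m : ℕ) (h : m ≤ m) : F.map (homOfLE h) = 𝟙 _ := by
  rw [← F.map_id]; rfl

lemma map_map' {a b c : ℕ} (h : a ≤ b) (h' : b ≤ c) :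
    F.map (homOfLE h) ≫ F.map (homOfLE h') = F.map (homOfLE (h.trans h')) := by
  rw [← F.map_comp]; rfl

/-- (E1) -/
lemma e1 : (𝟙 _ - sS) ≫ ta F n hn = rh F n hn ≫ (𝟙 _ - sS') := by
  classical
  apply Sigma.hom_ext
  intro m
  rw [Preadditive.sub_comp, Category.id_comp, Preadditive.comp_sub, DerLim.shiftMap]
  rw [Sigma.ι_desc_assoc, Category.assoc]
  rw [ta, Sigma.ι_desc, Sigma.ι_desc]
  rw [rh, Sigma.ι_desc_assoc]
  rw [← Category.assoc, map_map']
  by_cases hm : m = n (idx n hn m)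
  · rw [if_pos hm, Preadditive.comp_sub, Category.comp_id, Category.assoc, DerLim.shiftMap,
      Sigma.ι_desc, ← Category.assoc, map_map']
    congr 1
    refine tr2 F n _ _ ?_
    exact idx_between n hn _ _ (by omega) (by have : n (idx n hn m) < n (idx n hn m + 1) := hn (Nat.lt_succ_self _); omega)
  · rw [if_neg hm, zero_comp]
    have hlt : m < n (idx n hn m) := lt_of_le_of_ne (idx_spec n hn m) hm
    rw [sub_eq_zero]
    refine tr2 F n _ _ ?_
    exact (idx_succ_of_lt n hn m hlt).symm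

/-- (E3) -/
lemma e3 : jj F n ≫ ta F n hn = 𝟙 _ := by
  apply Sigma.hom_ext
  intro k
  rw [jj, Sigma.ι_desc_assoc, ta, Sigma.ι_desc, Category.comp_id]
  rw [tr2 F n (idx_spec n hn (n k)) le_rfl (idx_n n hn k), map_id', Category.id_comp]

/-- (E2) -/
lemma e2 : sg F n ≫ rh F n hn = 𝟙 _ := by
  classical
  apply Sigma.hom_ext
  intro k
  rw [sg, Sigma.ι_desc_assoc, Category.comp_id, Preadditive.sum_comp]
  have hk : n k < n (k + 1) := hn (Nat.lt_succ_self k)
  rw [Finset.sum_eq_single 0]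
  · rw [uu_zero, rh, Sigma.ι_desc, if_pos (by rw [idx_n])]
    rw [tr2 F n (idx_spec n hn (n k)) le_rfl (idx_n n hn k), map_id', Category.id_comp]
  · intro d hd hd0
    rw [Finset.mem_range] at hd
    have hidx : idx n hn (n k + d) = k + 1 := idx_between n hn k _ (by omega) (by omega)
    rw [uu, Category.assoc, rh, Sigma.ι_desc, if_neg (by rw [hidx]; omega), comp_zero]
  · intro h0
    exact absurd (Finset.mem_range.2 (by omega)) h0

/-- (E5) -/
lemma e5 : 𝟙 _ - ta F n hn ≫ jj F n = hh F n hn ≫ (𝟙 _ - sS) := by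
  apply Sigma.hom_ext
  intro m
  rw [Preadditive.comp_sub, Category.comp_id, ta, Sigma.ι_desc_assoc, Category.assoc, jj,
    Sigma.ι_desc, hh, Sigma.ι_desc_assoc, sum_uu_comp, uu_zero]
  congr 1
  exact (uu_eq F _ _ _ _ (by have := idx_spec n hn m; omega)).symm

/-- (E4) -/
lemma e4 : 𝟙 _ - rh F n hn ≫ sg F n = (𝟙 _ - sS) ≫ hh F n hn := by
  classical
  apply Sigma.hom_ext
  intro m
  rw [Preadditive.comp_sub, Category.comp_id, Preadditive.sub_comp, Category.id_comp,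
    Preadditive.comp_sub, DerLim.shiftMap, Sigma.ι_desc_assoc, Category.assoc, rh,
    Sigma.ι_desc_assoc, hh, Sigma.ι_desc, Sigma.ι_desc, Preadditive.comp_sum]
  have hmap : ∀ d ∈ Finset.range (n (idx n hn (m + 1)) - (m + 1)),
      F.map (homOfLE (Nat.le_succ m)) ≫ uu F (m + 1) d = uu F m (d + 1) := fun d _ => map_uu F m d
  rw [Finset.sum_congr rfl hmap]
  by_cases hm : m = n (idx n hn m)
  · rw [if_pos hm, Category.assoc, sg, Sigma.ι_desc, Preadditive.comp_sum]
    have hidx : idx n hn (m + 1) = idx n hn m + 1 :=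
      idx_between n hn _ _ (by omega) (by have : n (idx n hn m) < n (idx n hn m + 1) := hn (Nat.lt_succ_self _); omega)
    have hmap2 : ∀ d ∈ Finset.range (n (idx n hn m + 1) - n (idx n hn m)),
        F.map (homOfLE (idx_spec n hn m)) ≫ uu F (n (idx n hn m)) d = uu F m d := by
      intro d _
      rw [uu, ← Category.assoc, map_map']
      exact tr1 F _ _ (by omega)
    rw [Finset.sum_congr rfl hmap2, hidx]
    have h0 : n (idx n hn m) - m = 0 := by omega
    have h1 : n (idx n hn m + 1) - n (idx n hn m) = (n (idx n hn m + 1) - (m + 1)) + 1 := by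
      have : n (idx n hn m) < n (idx n hn m + 1) := hn (Nat.lt_succ_self _); omega
    rw [h0, Finset.range_zero, Finset.sum_empty, h1, Finset.sum_range_succ', uu_zero]
    abel
  · rw [if_neg hm, zero_comp, sub_zero]
    have hlt : m < n (idx n hn m) := lt_of_le_of_ne (idx_spec n hn m) hm
    rw [idx_succ_of_lt n hn m hlt]
    have h1 : n (idx n hn m) - m = (n (idx n hn m) - (m + 1)) + 1 := by omega
    rw [h1, Finset.sum_range_succ', uu_zero]
    abel

end helpers

/-- Let D be a triangulated category, (K_m, f_m) a system of objects of D indexed by ℕ (given as a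
functor F : ℕ ⥤ D) and n₁ < n₂ < … a strictly increasing sequence. Assume ⨁ K_m and ⨁ K_{n_i} exist.
If L is a homotopy colimit of (K_m) and L' a homotopy colimit of the subsequence (K_{n_i}) (with the
composite transition maps), then there is an isomorphism L' ≅ L under which the structure map
K_{n_i} ⟶ L' corresponds to K_{n_i} ⟶ L for every i. -/
theorem result {D : Type u} [Category.{v} D] [Preadditive D] [HasZeroObject D] [HasShift D ℤ]
    [∀ n : ℤ, (shiftFunctor D n).Additive] [Pretriangulated D] [IsTriangulated D]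
    (F : ℕ ⥤ D) (n : ℕ → ℕ) (hn : StrictMono n)
    [HasCoproduct (fun m : ℕ => F.obj m)] [HasCoproduct (fun i : ℕ => F.obj (n i))]
    (L : D) (ι : ∀ m : ℕ, F.obj m ⟶ L)
    (hL : DerLim.IsHocolim (fun m : ℕ => F.obj m) (fun m : ℕ => F.map (homOfLE (Nat.le_succ m))) L ι)
    (L' : D) (ι' : ∀ i : ℕ, F.obj (n i) ⟶ L')
    (hL' : DerLim.IsHocolim (fun i : ℕ => F.obj (n i)) (fun i : ℕ => F.map (homOfLE (hn.monotone (Nat.le_succ i)))) L' ι') :
    ∃ e : L' ≅ L, ∀ i : ℕ, ι' i ≫ e.hom = ι (n i) := by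
  classical
  open CategoryTheory.Pretriangulated in
  obtain ⟨c, hT⟩ := hL
  obtain ⟨c', hT'⟩ := hL'
  obtain ⟨μ, hμ1, hμ2⟩ : ∃ μ : L' ⟶ L, Sigma.desc ι' ≫ μ = jj F n ≫ Sigma.desc ι ∧
      c' ≫ (shiftFunctor D (1 : ℤ)).map (sg F n) = μ ≫ c :=
    Pretriangulated.complete_distinguished_triangle_morphism _ _ hT' hT
      (sg F n) (jj F n) (e0 F n hn)
  obtain ⟨lam, hl1, hl2⟩ : ∃ lam : L ⟶ L', Sigma.desc ι ≫ lam = ta F n hn ≫ Sigma.desc ι' ∧
      c ≫ (shiftFunctor D (1 : ℤ)).map (rh F n hn) = lam ≫ c' :=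
    Pretriangulated.complete_distinguished_triangle_morphism _ _ hT hT'
      (rh F n hn) (ta F n hn) (e1 F n hn)
  -- μ ≫ lam is an isomorphism
  have hiso1 : IsIso (μ ≫ lam) := by
    let φ : Pretriangulated.Triangle.mk (𝟙 (∐ fun i : ℕ => F.obj (n i)) -
        DerLim.shiftMap (fun i : ℕ => F.obj (n i))
          (fun i : ℕ => F.map (homOfLE (hn.monotone (Nat.le_succ i))))) (Sigma.desc ι') c' ⟶
        Pretriangulated.Triangle.mk (𝟙 (∐ fun i : ℕ => F.obj (n i)) -
        DerLim.shiftMap (fun i : ℕ => F.obj (n i))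
          (fun i : ℕ => F.map (homOfLE (hn.monotone (Nat.le_succ i))))) (Sigma.desc ι') c' :=
      { hom₁ := 𝟙 _
        hom₂ := 𝟙 _
        hom₃ := μ ≫ lam
        comm₁ := by simp
        comm₂ := by
          change Sigma.desc ι' ≫ (μ ≫ lam) = 𝟙 _ ≫ Sigma.desc ι'
          rw [Category.id_comp, ← Category.assoc, hμ1, Category.assoc, hl1, ← Category.assoc,
            e3, Category.id_comp]
        comm₃ := by
          change c' ≫ (shiftFunctor D (1 : ℤ)).map (𝟙 _) = (μ ≫ lam) ≫ c'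
          rw [CategoryTheory.Functor.map_id, Category.comp_id, Category.assoc, ← hl2,
            ← Category.assoc, ← hμ2, Category.assoc, ← Functor.map_comp, e2,
            CategoryTheory.Functor.map_id, Category.comp_id] }
    exact Pretriangulated.isIso₃_of_isIso₁₂ φ hT' hT' (show IsIso (𝟙 _) from inferInstance)
      (show IsIso (𝟙 _) from inferInstance)
  -- θ
  have hθ1 : Sigma.desc ι ≫ (𝟙 L - lam ≫ μ) = 0 := by
    rw [Preadditive.comp_sub, Category.comp_id, ← Category.assoc, hl1, Category.assoc, hμ1,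
      ← Category.assoc]
    have : Sigma.desc ι - (ta F n hn ≫ jj F n) ≫ Sigma.desc ι =
        (𝟙 _ - ta F n hn ≫ jj F n) ≫ Sigma.desc ι := by
      rw [Preadditive.sub_comp, Category.id_comp]
    rw [this, e5, Category.assoc]
    have h0 : (𝟙 (∐ fun m : ℕ => F.obj m) - DerLim.shiftMap (fun m : ℕ => F.obj m)
        (fun m : ℕ => F.map (homOfLE (Nat.le_succ m)))) ≫ Sigma.desc ι = 0 :=
      Pretriangulated.comp_distTriang_mor_zero₁₂ _ hT
    rw [h0, comp_zero]
  have hθ2 : (𝟙 L - lam ≫ μ) ≫ c = 0 := by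
    rw [Preadditive.sub_comp, Category.id_comp, Category.assoc, ← hμ2, ← Category.assoc, ← hl2,
      Category.assoc, ← Functor.map_comp]
    have : c - c ≫ (shiftFunctor D (1 : ℤ)).map (rh F n hn ≫ sg F n) =
        c ≫ (shiftFunctor D (1 : ℤ)).map (𝟙 _ - rh F n hn ≫ sg F n) := by
      rw [Functor.map_sub, CategoryTheory.Functor.map_id, Preadditive.comp_sub, Category.comp_id]
    rw [this, e4, Functor.map_comp, ← Category.assoc]
    have h0 : c ≫ (shiftFunctor D (1 : ℤ)).map (𝟙 (∐ fun m : ℕ => F.obj m) -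
        DerLim.shiftMap (fun m : ℕ => F.obj m)
        (fun m : ℕ => F.map (homOfLE (Nat.le_succ m)))) = 0 :=
      Pretriangulated.comp_distTriang_mor_zero₃₁ _ hT
    rw [h0, zero_comp]
  obtain ⟨θ, hθ⟩ : ∃ θ : L ⟶ L, θ = 𝟙 L - lam ≫ μ := ⟨_, rfl⟩
  rw [← hθ] at hθ1 hθ2
  obtain ⟨β, hβ⟩ : ∃ β : (shiftFunctor D (1 : ℤ)).obj (∐ fun m : ℕ => F.obj m) ⟶ L,
      θ = c ≫ β := Pretriangulated.Triangle.yoneda_exact₃ _ hT _ hθ1
  have hθθ : θ ≫ θ = 0 := by
    calc θ ≫ θ = θ ≫ c ≫ β := by rw [← hβ]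
      _ = 0 := by rw [← Category.assoc, hθ2, zero_comp]
  have hlm : lam ≫ μ = 𝟙 L - θ := by rw [hθ]; abel
  have hl : ((𝟙 L + θ) ≫ lam) ≫ μ = 𝟙 L := by
    rw [Category.assoc, hlm, Preadditive.comp_sub, Preadditive.add_comp, Preadditive.add_comp,
      Category.id_comp, Category.comp_id, Category.id_comp, hθθ]
    abel
  have hr : μ ≫ (lam ≫ inv (μ ≫ lam)) = 𝟙 L' := by
    rw [← Category.assoc, IsIso.hom_inv_id]
  have hr' : (lam ≫ inv (μ ≫ lam)) ≫ μ = 𝟙 L := by
    calc (lam ≫ inv (μ ≫ lam)) ≫ μ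
        = ((((𝟙 L + θ) ≫ lam) ≫ μ) ≫ (lam ≫ inv (μ ≫ lam))) ≫ μ := by
          rw [hl, Category.id_comp]
      _ = ((𝟙 L + θ) ≫ lam) ≫ (μ ≫ (lam ≫ inv (μ ≫ lam))) ≫ μ := by
          simp only [Category.assoc]
      _ = 𝟙 L := by rw [hr, Category.id_comp, hl]
  refine ⟨⟨μ, lam ≫ inv (μ ≫ lam), hr, hr'⟩, ?_⟩
  intro i
  have := congrArg (fun z => Sigma.ι (fun i : ℕ => F.obj (n i)) i ≫ z) hμ1
  simp only [Sigma.ι_desc_assoc, jj, Sigma.ι_desc] at this
  exact this

end Groth.Agent.S6592
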