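import Groth.Statements.S6594
import Mathlib
-- import your own Groth.Agent.* helpers here

set_option autoImplicit false
universe v u
open CategoryTheory CategoryTheory.Limits
open CohDer

namespace Groth.Agent.S6594

open CategoryTheory.Pretriangulated in
/-- (1) ⇔ (3): let D be a pretriangulated category and f : X ⟶ Y a morphism. Then f has a kernel if and
only if f is isomorphic to a composite K ⊞ Z → Z → Z ⊞ Q of a projection and a coprojection for some
objects K, Z, Q. -/
theorem result {D : Type u} [Category.{v} D] [Preadditive D] [HasZeroObject D] [HasShift D ℤ]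
    [∀ n : ℤ, (shiftFunctor D n).Additive] [Pretriangulated D]
    {X Y : D} (f : X ⟶ Y) :
    HasKernel f ↔ ∃ (K Z Q : D) (e₁ : X ≅ K ⊞ Z) (e₂ : Y ≅ Z ⊞ Q),
      f = e₁.hom ≫ biprod.snd ≫ biprod.inl ≫ e₂.inv := by
  classical
  constructor
  · intro hk
    -- the kernel is a split mono
    have hkm : Mono (kernel.ι f) := inferInstance
    obtain ⟨Z, p, h, hT₁⟩ := distinguished_cocone_triangle (kernel.ι f)
    have hh : h = 0 := Triangle.mor₃_eq_zero_of_mono₁ _ hT₁ hkm
    obtain ⟨e₁, he₁, he₁'⟩ : ∃ e₁ : X ≅ kernel f ⊞ Z, kernel.ι f ≫ e₁.hom = biprod.inl ∧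
        p = e₁.hom ≫ biprod.snd := exists_iso_binaryBiproduct_of_distTriang _ hT₁ hh
    -- f factors through p
    obtain ⟨f', hf'⟩ : ∃ f' : Z ⟶ Y, f = p ≫ f' :=
      Triangle.yoneda_exact₂ _ hT₁ f (kernel.condition f)
    have hkp : kernel.ι f ≫ p = 0 := comp_distTriang_mor_zero₁₂ _ hT₁
    have hσ : (biprod.inr ≫ e₁.inv) ≫ p = 𝟙 Z := by
      rw [he₁', Category.assoc, e₁.inv_hom_id_assoc, biprod.inr_snd]
    have hf'm : Mono f' := by
      rw [Preadditive.mono_iff_cancel_zero]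
      intro W w hw
      have h1 : (w ≫ biprod.inr ≫ e₁.inv) ≫ f = 0 := by
        refine (congrArg (fun z => (w ≫ biprod.inr ≫ e₁.inv) ≫ z) hf').trans ?_
        rw [Category.assoc, ← Category.assoc (biprod.inr ≫ e₁.inv), hσ, Category.id_comp, hw]
      have h2 : w ≫ biprod.inr ≫ e₁.inv = kernel.lift f _ h1 ≫ kernel.ι f :=
        (kernel.lift_ι f _ h1).symm
      calc w = (w ≫ biprod.inr ≫ e₁.inv) ≫ p := by
            rw [Category.assoc, hσ, Category.comp_id]
        _ = 0 := by rw [h2, Category.assoc, hkp, comp_zero]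
    obtain ⟨Q, q, h', hT₂⟩ := distinguished_cocone_triangle f'
    have hh' : h' = 0 := Triangle.mor₃_eq_zero_of_mono₁ _ hT₂ hf'm
    obtain ⟨e₂, he₂, _⟩ : ∃ e₂ : Y ≅ Z ⊞ Q, f' ≫ e₂.hom = biprod.inl ∧
        q = e₂.hom ≫ biprod.snd := exists_iso_binaryBiproduct_of_distTriang _ hT₂ hh'
    refine ⟨kernel f, Z, Q, e₁, e₂, ?_⟩
    have : f' = biprod.inl ≫ e₂.inv := by rw [← he₂, Category.assoc, e₂.hom_inv_id, Category.comp_id]
    refine hf'.trans ?_
    rw [he₁', this, Category.assoc]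
  · rintro ⟨K, Z, Q, e₁, e₂, hf⟩
    have hw : (biprod.inl ≫ e₁.inv : K ⟶ X) ≫ f = 0 := by
      rw [hf, Category.assoc, e₁.inv_hom_id_assoc, biprod.inl_snd_assoc, zero_comp]
    have hmono : Mono (biprod.inl ≫ e₂.inv : Z ⟶ Y) := inferInstance
    have hlim : IsLimit (KernelFork.ofι (biprod.inl ≫ e₁.inv : K ⟶ X) hw) := by
      refine KernelFork.IsLimit.ofι _ _ (fun g _ => g ≫ e₁.hom ≫ biprod.fst) ?_ ?_
      · intro W g hg
        have h1 : (g ≫ e₁.hom ≫ biprod.snd) ≫ (biprod.inl ≫ e₂.inv : Z ⟶ Y) = 0 := by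
          rw [hf] at hg
          simpa only [Category.assoc] using hg
        have h2 : g ≫ e₁.hom ≫ biprod.snd = 0 := by
          rw [← cancel_mono (biprod.inl ≫ e₂.inv : Z ⟶ Y), h1, zero_comp]
        have h3 : g ≫ e₁.hom = (g ≫ e₁.hom ≫ biprod.fst) ≫ biprod.inl := by
          calc g ≫ e₁.hom = (g ≫ e₁.hom) ≫ (biprod.fst ≫ biprod.inl + biprod.snd ≫ biprod.inr) := by
                rw [biprod.total, Category.comp_id]
            _ = (g ≫ e₁.hom ≫ biprod.fst) ≫ biprod.inl := by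
                have h2' : (g ≫ e₁.hom) ≫ biprod.snd ≫ (biprod.inr : Z ⟶ K ⊞ Z) = 0 := by
                  rw [← Category.assoc, Category.assoc g, h2, zero_comp]
                rw [Preadditive.comp_add, h2', add_zero]
                simp only [Category.assoc]
        calc (g ≫ e₁.hom ≫ biprod.fst) ≫ biprod.inl ≫ e₁.inv
            = ((g ≫ e₁.hom ≫ biprod.fst) ≫ biprod.inl) ≫ e₁.inv := by simp only [Category.assoc]
          _ = g := by rw [← h3, Category.assoc, e₁.hom_inv_id, Category.comp_id]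
      · intro W g hg b hb
        rw [← hb]
        simp
    exact ⟨⟨⟨_, hlim⟩⟩⟩

end Groth.Agent.S6594
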