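import Groth.Statements.S6596
import Mathlib
import Groth.Agent.S1051
import Groth.Agent.S6595
-- import your own Groth.Agent.* helpers here

set_option autoImplicit false
universe v u
open CategoryTheory CategoryTheory.Limits
open CohDer

namespace Groth.Agent.S6596

open CategoryTheory.Pretriangulated in
/-- Let D be a triangulated category and φ : X ⟶ X' a morphism of chain complexes in D considered in
degrees ≤ n, where a Postnikov system for the complex X_n → … → X_0 consists of objects Y_k, an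
isomorphism Y_0 ⟶ X_0, and for 0 ≤ k < n distinguished triangles Y_{k+1} ⟶ X_{k+1} ⟶ Y_k ⟶
Y_{k+1}⟦1⟧ with X_{k+1} ⟶ Y_k ⟶ X_k the differential. Suppose X and X' carry Postnikov systems (Y,
a, b, c) and (Y', a', b', c'). If Hom(X_i⟦i - j - 1⟧, X'_j) = 0 for all j + 1 < i ≤ n, then φ
extends to a morphism of Postnikov systems: morphisms y_k : Y_k ⟶ Y'_k for k ≤ n forming, with the
φ_k, morphisms of the distinguished triangles and compatible with Y_0 ⟶ X_0 and Y'_0 ⟶ X'_0. -/
theorem result {D : Type u} [Category.{v} D] [Preadditive D] [HasZeroObject D] [HasShift D ℤ]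
    [∀ n : ℤ, (shiftFunctor D n).Additive] [Pretriangulated D] [IsTriangulated D]
    (X X' : ChainComplex D ℕ) (φ : X ⟶ X') (n : ℕ)
    (Y : ℕ → D) (a : ∀ k, Y k ⟶ X.X k) (b : ∀ k, X.X (k + 1) ⟶ Y k)
    (c : ∀ k, Y k ⟶ (shiftFunctor D (1 : ℤ)).obj (Y (k + 1)))
    (h0 : IsIso (a 0))
    (hP : ∀ k, k < n → Triangle.mk (a (k + 1)) (b k) (c k) ∈ distinguishedTriangles ∧ b k ≫ a k = X.d (k + 1) k)
    (qY : ℕ → D) (qa : ∀ k, qY k ⟶ X'.X k) (qb : ∀ k, X'.X (k + 1) ⟶ qY k)
    (qc : ∀ k, qY k ⟶ (shiftFunctor D (1 : ℤ)).obj (qY (k + 1)))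
    (qh0 : IsIso (qa 0))
    (qhP : ∀ k, k < n → Triangle.mk (qa (k + 1)) (qb k) (qc k) ∈ distinguishedTriangles ∧ qb k ≫ qa k = X'.d (k + 1) k)
    (hX : ∀ i j : ℕ, j + 1 < i → i ≤ n → ∀ ψ : (shiftFunctor D ((i : ℤ) - j - 1)).obj (X.X i) ⟶ X'.X j, ψ = 0) :
    ∃ y : ∀ k, Y k ⟶ qY k,
      (∀ k, k ≤ n → y k ≫ qa k = a k ≫ φ.f k) ∧
      (∀ k, k < n → b k ≫ y k = φ.f (k + 1) ≫ qb k ∧ c k ≫ (shiftFunctor D (1 : ℤ)).map (y (k + 1)) = y k ≫ qc k) := by
  open Groth.Agent.S1051 CategoryTheory.Pretriangulated in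
  classical
  -- vanishing of the obstruction
  have hΔ : ∀ m, m < n → ∀ ym : Y m ⟶ qY m, ym ≫ qa m = a m ≫ φ.f m →
      b m ≫ ym = φ.f (m + 1) ≫ qb m := by
    intro m hm ym hym
    have h1 : (b m ≫ ym - φ.f (m + 1) ≫ qb m) ≫ qa m = 0 := by
      rw [Preadditive.sub_comp, Category.assoc, hym, ← Category.assoc, (hP m hm).2,
        Category.assoc, (qhP m hm).2, sub_eq_zero]
      exact (φ.comm (m + 1) m).symm
    rw [← sub_eq_zero]
    cases m with
    | zero =>
      rw [← cancel_mono (qa 0), h1, zero_comp]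
    | succ m' =>
      obtain ⟨hT, -⟩ := qhP m' (by omega)
      refine eq_zero_of_comp_eq_zero (qa (m' + 1)) (qb m') (qc m') hT _ ?_ _ h1
      exact zero_of_shift_eq (by push_cast; ring)
        (fun ψ => Groth.Agent.S6595.result X X' n qY qa qb qc qh0 qhP hX (m' + 1 + 1) m'
          (by omega) (by omega) ψ)
  suffices h : ∀ m, m ≤ n → ∃ y : ∀ k, Y k ⟶ qY k,
      (∀ k, k ≤ m → y k ≫ qa k = a k ≫ φ.f k) ∧
      (∀ k, k < m → b k ≫ y k = φ.f (k + 1) ≫ qb k ∧
        c k ≫ (shiftFunctor D (1 : ℤ)).map (y (k + 1)) = y k ≫ qc k) from h n le_rfl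
  intro m
  induction m with
  | zero =>
    intro _
    refine ⟨Function.update (fun _ => 0) 0 (a 0 ≫ φ.f 0 ≫ inv (qa 0)), ?_, ?_⟩
    · intro k hk
      obtain rfl : k = 0 := by omega
      rw [Function.update_self]
      simp
    · intro k hk
      omega
  | succ m ih =>
    intro hm
    obtain ⟨y, hy1, hy2⟩ := ih (by omega)
    have hbm := hΔ m (by omega) (y m) (hy1 m le_rfl)
    obtain ⟨ynew, hnew1, hnew2⟩ := complete_distinguished_triangle_morphism₁ _ _
      (hP m (by omega)).1 (qhP m (by omega)).1 (φ.f (m + 1)) (y m) hbm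
    replace hnew1 : a (m + 1) ≫ φ.f (m + 1) = ynew ≫ qa (m + 1) := hnew1
    replace hnew2 : c m ≫ (shiftFunctor D (1 : ℤ)).map ynew = y m ≫ qc m := hnew2
    refine ⟨Function.update y (m + 1) ynew, ?_, ?_⟩
    · intro k hk
      by_cases hk' : k = m + 1
      · subst hk'
        rw [Function.update_self]
        exact hnew1.symm
      · rw [Function.update_of_ne hk']
        exact hy1 k (by omega)
    · intro k hk
      have hk1 : k ≠ m + 1 := by omega
      rw [Function.update_of_ne hk1]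
      by_cases hk' : k = m
      · subst hk'
        rw [Function.update_self]
        exact ⟨hbm, hnew2⟩
      · have hk2 : k + 1 ≠ m + 1 := by omega
        rw [Function.update_of_ne hk2]
        exact hy2 k (by omega)

end Groth.Agent.S6596
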