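import Groth.Statements.S6597
import Mathlib
import Groth.Agent.Lib.helper2.ShiftHom
-- import your own Groth.Agent.* helpers here

set_option autoImplicit false
universe v u
open CategoryTheory CategoryTheory.Limits
open CohDer

namespace Groth.Agent.S6597

open CategoryTheory.Pretriangulated in
/-- Let D be a triangulated category, φ : X ⟶ X' a morphism of chain complexes in D considered in
degrees ≤ n, where a Postnikov system for the complex X_n → … → X_0 consists of objects Y_k, an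
isomorphism Y_0 ⟶ X_0, and for 0 ≤ k < n distinguished triangles Y_{k+1} ⟶ X_{k+1} ⟶ Y_k ⟶
Y_{k+1}⟦1⟧ with X_{k+1} ⟶ Y_k ⟶ X_k the differential; let (Y, a, b, c) and (Y', a', b', c') be
Postnikov systems for X and X'. If Hom(X_i⟦i⟧, Y'_n⟦n⟧) = 0 for i = 1, …, n, then two morphisms of
Postnikov systems extending φ agree on Y_n. (The published statement says there is at most one
morphism of Postnikov systems; the argument, by induction along Y_0 → Y_1⟦1⟧ → … → Y_n⟦n⟧,
determines the component in degree n, which is what is asserted here.) -/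
theorem result {D : Type u} [Category.{v} D] [Preadditive D] [HasZeroObject D] [HasShift D ℤ]
    [∀ n : ℤ, (shiftFunctor D n).Additive] [Pretriangulated D] [IsTriangulated D]
    (X X' : ChainComplex D ℕ) (φ : X ⟶ X') (n : ℕ)
    (Y : ℕ → D) (a : ∀ k, Y k ⟶ X.X k) (b : ∀ k, X.X (k + 1) ⟶ Y k)
    (c : ∀ k, Y k ⟶ (shiftFunctor D (1 : ℤ)).obj (Y (k + 1)))
    (h0 : IsIso (a 0))
    (hP : ∀ k, k < n → Triangle.mk (a (k + 1)) (b k) (c k) ∈ distinguishedTriangles ∧ b k ≫ a k = X.d (k + 1) k)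
    (qY : ℕ → D) (qa : ∀ k, qY k ⟶ X'.X k) (qb : ∀ k, X'.X (k + 1) ⟶ qY k)
    (qc : ∀ k, qY k ⟶ (shiftFunctor D (1 : ℤ)).obj (qY (k + 1)))
    (qh0 : IsIso (qa 0))
    (qhP : ∀ k, k < n → Triangle.mk (qa (k + 1)) (qb k) (qc k) ∈ distinguishedTriangles ∧ qb k ≫ qa k = X'.d (k + 1) k)
    (hv : ∀ i : ℕ, 1 ≤ i → i ≤ n → ∀ ψ : (shiftFunctor D (i : ℤ)).obj (X.X i) ⟶ (shiftFunctor D (n : ℤ)).obj (qY n), ψ = 0)
    (y z : ∀ k, Y k ⟶ qY k)
    (hy : (∀ k, k ≤ n → y k ≫ qa k = a k ≫ φ.f k) ∧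
      (∀ k, k < n → b k ≫ y k = φ.f (k + 1) ≫ qb k ∧ c k ≫ (shiftFunctor D (1 : ℤ)).map (y (k + 1)) = y k ≫ qc k))
    (hz : (∀ k, k ≤ n → z k ≫ qa k = a k ≫ φ.f k) ∧
      (∀ k, k < n → b k ≫ z k = φ.f (k + 1) ≫ qb k ∧ c k ≫ (shiftFunctor D (1 : ℤ)).map (z (k + 1)) = z k ≫ qc k)) :
    y n = z n := by
  classical
  open Groth.Agent.Lib.helper2.ShiftHom in
  -- the difference
  have W1 : ∀ k, k ≤ n → (y k - z k) ≫ qa k = 0 := by
    intro k hk
    rw [Preadditive.sub_comp, hy.1 k hk, hz.1 k hk, sub_self]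
  have W3 : ∀ k, k < n → c k ≫ (shiftFunctor D (1 : ℤ)).map (y (k + 1) - z (k + 1)) =
      (y k - z k) ≫ qc k := by
    intro k hk
    rw [Functor.map_sub, Preadditive.comp_sub, Preadditive.sub_comp, (hy.2 k hk).2, (hz.2 k hk).2]
  have W0 : y 0 - z 0 = 0 := by
    haveI := qh0
    rw [← cancel_mono (qa 0), W1 0 (Nat.zero_le _), zero_comp]
  have claim : ∀ k, k ≤ n → ∀ (N : D) (t : ℤ) (_ : t = -(k : ℤ))
      (γ : qY k ⟶ (shiftFunctor D t).obj N),
      (∀ i : ℕ, 1 ≤ i → i ≤ k → HT (X.X i) N (-(i : ℤ))) → (y k - z k) ≫ γ = 0 := by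
    intro k
    induction k with
    | zero =>
      intro _ N t _ γ _
      rw [W0, zero_comp]
    | succ k ih =>
      intro hk N t ht γ hN
      have hk' : k < n := hk
      have hadd : t + 1 = -(k : ℤ) := by rw [ht]; push_cast; ring
      have h1 := ih (le_of_lt hk') N (-(k : ℤ)) rfl
        (qc k ≫ (shiftFunctor D (1 : ℤ)).map γ ≫ ((shiftFunctorAdd' D t 1 (-(k : ℤ)) hadd).app N).inv)
        (fun i hi hik => hN i hi (le_trans hik (Nat.le_succ k)))
      have h2 : (y k - z k) ≫ qc k ≫ (shiftFunctor D (1 : ℤ)).map γ = 0 := by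
        rw [← cancel_mono ((shiftFunctorAdd' D t 1 (-(k : ℤ)) hadd).app N).inv, zero_comp]
        simpa only [Category.assoc] using h1
      have h3 : c k ≫ (shiftFunctor D (1 : ℤ)).map ((y (k + 1) - z (k + 1)) ≫ γ) = 0 := by
        rw [Functor.map_comp, ← Category.assoc, W3 k hk', Category.assoc, h2]
      obtain ⟨g, hg⟩ := exists_factor_of_comp_shift_eq_zero (a (k + 1)) (b k) (c k) (hP k hk').1
        ((y (k + 1) - z (k + 1)) ≫ γ) h3
      have hg0 : g = 0 := by
        have := hN (k + 1) (Nat.succ_le_succ (Nat.zero_le _)) le_rfl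
        exact (ht_of_eq ht.symm this) g
      rw [hg, hg0, comp_zero]
  have hfin := claim n le_rfl ((shiftFunctor D (n : ℤ)).obj (qY n)) (-(n : ℤ)) rfl
    ((shiftFunctorCompIsoId D (n : ℤ) (-(n : ℤ)) (by omega)).inv.app (qY n))
    (fun i hi hin => (hs_iff_ht (i : ℤ) (-(i : ℤ)) (by omega)).1 (hv i hi hin))
  have : y n - z n = 0 := by
    rw [← cancel_mono ((shiftFunctorCompIsoId D (n : ℤ) (-(n : ℤ)) (by omega)).inv.app (qY n)),
      hfin, zero_comp]
  exact sub_eq_zero.1 this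

end Groth.Agent.S6597
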