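import Groth.Statements.S6598
import Mathlib
-- import your own Groth.Agent.* helpers here

set_option autoImplicit false
universe v u
open CategoryTheory CategoryTheory.Limits
open CohDer

namespace Groth.Agent.S6598

/-- Let α : K ⟶ L be a morphism of cochain complexes over an additive category. There is a factorization
K ⟶ L' ⟶ L of α such that (1) K ⟶ L' is a termwise split injection (in each degree isomorphic to the
inclusion of a direct summand) and (2) L' ⟶ L admits a section s : L ⟶ L' (s followed by L' ⟶ L is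
the identity) such that L' ⟶ L followed by s is homotopic to the identity of L'. Moreover if K and L
are both bounded below, resp. both bounded above, then L' may be chosen bounded below, resp. bounded
above. -/
theorem result {V : Type u} [Category.{v} V] [Preadditive V] [HasBinaryBiproducts V] [HasZeroObject V]
    (K L : CochainComplex V ℤ) (α : K ⟶ L) :
    ∃ (L' : CochainComplex V ℤ) (α' : K ⟶ L') (π : L' ⟶ L) (s : L ⟶ L'),
      α' ≫ π = α ∧ s ≫ π = 𝟙 L ∧ Nonempty (Homotopy (π ≫ s) (𝟙 L')) ∧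
      (∀ n : ℤ, ∃ (C : V) (e : L'.X n ≅ K.X n ⊞ C), α'.f n ≫ e.hom = biprod.inl) ∧
      (∀ a : ℤ, K.IsStrictlyGE a → L.IsStrictlyGE a → ∃ a' : ℤ, L'.IsStrictlyGE a') ∧
      (∀ a : ℤ, K.IsStrictlyLE a → L.IsStrictlyLE a → ∃ a' : ℤ, L'.IsStrictlyLE a') := by
  classical
  open CochainComplex HomComplex in
  refine ⟨mappingCone (𝟙 K) ⊞ L, biprod.lift (mappingCone.inr (𝟙 K)) α, biprod.snd, biprod.inr,
    by simp, by simp, ⟨?_⟩, ?_, ?_, ?_⟩
  · exact
      let h₀ : Homotopy (𝟙 (mappingCone (𝟙 K))) 0 :=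
        mappingCone.liftHomotopy _ _ _ (mappingCone.snd _) 0 (by simp) (by simp)
      let h₁ := (h₀.compRight
        (biprod.inl : _ ⟶ mappingCone (𝟙 K) ⊞ L)).compLeft
          (biprod.fst : mappingCone (𝟙 K) ⊞ L ⟶ _)
      let h₂ := Homotopy.add h₁ (Homotopy.refl (biprod.snd ≫ biprod.inr))
      (Homotopy.ofEq (by simp)).trans (h₂.symm.trans (Homotopy.ofEq (by simp)))
  · intro n
    -- structure maps of the biproduct of complexes in degree n
    have r1 : (biprod.inl : mappingCone (𝟙 K) ⟶ mappingCone (𝟙 K) ⊞ L).f n ≫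
        (biprod.fst : mappingCone (𝟙 K) ⊞ L ⟶ mappingCone (𝟙 K)).f n = 𝟙 _ := by
      rw [← HomologicalComplex.comp_f, biprod.inl_fst, HomologicalComplex.id_f]
    have r2 : (biprod.inl : mappingCone (𝟙 K) ⟶ mappingCone (𝟙 K) ⊞ L).f n ≫
        (biprod.snd : mappingCone (𝟙 K) ⊞ L ⟶ L).f n = 0 := by
      rw [← HomologicalComplex.comp_f, biprod.inl_snd, HomologicalComplex.zero_f]
    have r3 : (biprod.inr : L ⟶ mappingCone (𝟙 K) ⊞ L).f n ≫
        (biprod.fst : mappingCone (𝟙 K) ⊞ L ⟶ mappingCone (𝟙 K)).f n = 0 := by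
      rw [← HomologicalComplex.comp_f, biprod.inr_fst, HomologicalComplex.zero_f]
    have r4 : (biprod.inr : L ⟶ mappingCone (𝟙 K) ⊞ L).f n ≫
        (biprod.snd : mappingCone (𝟙 K) ⊞ L ⟶ L).f n = 𝟙 _ := by
      rw [← HomologicalComplex.comp_f, biprod.inr_snd, HomologicalComplex.id_f]
    have r5 : (biprod.fst : mappingCone (𝟙 K) ⊞ L ⟶ mappingCone (𝟙 K)).f n ≫
        (biprod.inl : mappingCone (𝟙 K) ⟶ mappingCone (𝟙 K) ⊞ L).f n +
        (biprod.snd : mappingCone (𝟙 K) ⊞ L ⟶ L).f n ≫
        (biprod.inr : L ⟶ mappingCone (𝟙 K) ⊞ L).f n = 𝟙 _ := by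
      rw [← HomologicalComplex.comp_f, ← HomologicalComplex.comp_f,
        ← HomologicalComplex.add_f_apply, biprod.total, HomologicalComplex.id_f]
    have c1 := mappingCone.inl_v_fst_v (𝟙 K) (n + 1) n rfl
    have c2 := mappingCone.inl_v_snd_v (𝟙 K) (n + 1) n (by omega)
    have c3 := mappingCone.inr_f_fst_v (𝟙 K) n (n + 1) rfl
    have c4 := mappingCone.inr_f_snd_v (𝟙 K) n
    have c5 := mappingCone.id_X (𝟙 K) n (n + 1) rfl
    have hα' : (biprod.lift (mappingCone.inr (𝟙 K)) α : K ⟶ mappingCone (𝟙 K) ⊞ L).f n =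
        (mappingCone.inr (𝟙 K)).f n ≫
          (biprod.inl : mappingCone (𝟙 K) ⟶ mappingCone (𝟙 K) ⊞ L).f n +
        α.f n ≫ (biprod.inr : L ⟶ mappingCone (𝟙 K) ⊞ L).f n := by
      rw [← HomologicalComplex.comp_f, ← HomologicalComplex.comp_f,
        ← HomologicalComplex.add_f_apply]
      congr 1
      apply biprod.hom_ext <;> simp
    refine ⟨K.X (n + 1) ⊞ L.X n,
      { hom := biprod.lift
          ((biprod.fst : mappingCone (𝟙 K) ⊞ L ⟶ mappingCone (𝟙 K)).f n ≫
            (mappingCone.snd (𝟙 K)).v n n (add_zero n))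
          (biprod.lift
            ((biprod.fst : mappingCone (𝟙 K) ⊞ L ⟶ mappingCone (𝟙 K)).f n ≫
              (mappingCone.fst (𝟙 K)).1.v n (n + 1) rfl)
            ((biprod.snd : mappingCone (𝟙 K) ⊞ L ⟶ L).f n -
              ((biprod.fst : mappingCone (𝟙 K) ⊞ L ⟶ mappingCone (𝟙 K)).f n ≫
                (mappingCone.snd (𝟙 K)).v n n (add_zero n)) ≫ α.f n))
        inv := biprod.desc
          ((mappingCone.inr (𝟙 K)).f n ≫
              (biprod.inl : mappingCone (𝟙 K) ⟶ mappingCone (𝟙 K) ⊞ L).f n +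
            α.f n ≫ (biprod.inr : L ⟶ mappingCone (𝟙 K) ⊞ L).f n)
          (biprod.desc
            ((mappingCone.inl (𝟙 K)).v (n + 1) n (by omega) ≫
              (biprod.inl : mappingCone (𝟙 K) ⟶ mappingCone (𝟙 K) ⊞ L).f n)
            ((biprod.inr : L ⟶ mappingCone (𝟙 K) ⊞ L).f n))
        hom_inv_id := ?_
        inv_hom_id := ?_ }, ?_⟩
    · rw [biprod.lift_desc, biprod.lift_desc]
      have tot : (biprod.fst : mappingCone (𝟙 K) ⊞ L ⟶ mappingCone (𝟙 K)).f n ≫
          ((mappingCone.fst (𝟙 K)).1.v n (n + 1) rfl ≫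
            (mappingCone.inl (𝟙 K)).v (n + 1) n (by omega) +
           (mappingCone.snd (𝟙 K)).v n n (add_zero n) ≫ (mappingCone.inr (𝟙 K)).f n) ≫
          (biprod.inl : mappingCone (𝟙 K) ⟶ mappingCone (𝟙 K) ⊞ L).f n +
          (biprod.snd : mappingCone (𝟙 K) ⊞ L ⟶ L).f n ≫
          (biprod.inr : L ⟶ mappingCone (𝟙 K) ⊞ L).f n = 𝟙 _ := by
        rw [c5, Category.id_comp, r5]
      rw [← tot]
      simp only [Preadditive.comp_add, Preadditive.add_comp, Preadditive.sub_comp, Category.assoc]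
      abel
    · apply biprod.hom_ext'
      · apply biprod.hom_ext
        · simp [reassoc_of% r1, reassoc_of% r3, c4]
        · apply biprod.hom_ext
          · simp [reassoc_of% r1, reassoc_of% r3, c3]
          · simp [reassoc_of% r1, reassoc_of% r3, r2, r4, c4]
      · apply biprod.hom_ext'
        · apply biprod.hom_ext
          · simp [reassoc_of% r1, c2]
          · apply biprod.hom_ext
            · simp [reassoc_of% r1, c1]
            · simp [reassoc_of% r1, r2, c2]
        · apply biprod.hom_ext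
          · simp [reassoc_of% r3]
          · apply biprod.hom_ext
            · simp [reassoc_of% r3]
            · simp [reassoc_of% r3, r4]
    · rw [hα']
      apply biprod.hom_ext
      · simp [reassoc_of% r1, reassoc_of% r3, c4]
      · apply biprod.hom_ext
        · simp [reassoc_of% r1, reassoc_of% r3, c3]
        · simp [reassoc_of% r1, reassoc_of% r3, r2, r4, c4]
  · intro a hKa hLa
    refine ⟨a - 1, ?_⟩
    rw [CochainComplex.isStrictlyGE_iff]
    intro i hi
    refine IsZero.of_iso ?_ ((HomologicalComplex.eval V (ComplexShape.up ℤ) i).mapBiprod _ _)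
    simp only [HomologicalComplex.eval_obj, biprod_isZero_iff,
      CochainComplex.mappingCone.isZero_X_iff]
    exact ⟨⟨K.isZero_of_isStrictlyGE a _ (by omega), K.isZero_of_isStrictlyGE a _ (by omega)⟩,
      L.isZero_of_isStrictlyGE a i (by omega)⟩
  · intro a hKa hLa
    refine ⟨a, ?_⟩
    rw [CochainComplex.isStrictlyLE_iff]
    intro i hi
    refine IsZero.of_iso ?_ ((HomologicalComplex.eval V (ComplexShape.up ℤ) i).mapBiprod _ _)
    simp only [HomologicalComplex.eval_obj, biprod_isZero_iff,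
      CochainComplex.mappingCone.isZero_X_iff]
    exact ⟨⟨K.isZero_of_isStrictlyLE a _ (by omega), K.isZero_of_isStrictlyLE a _ (by omega)⟩,
      L.isZero_of_isStrictlyLE a i (by omega)⟩

end Groth.Agent.S6598
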