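import Groth.Statements.S6600
import Mathlib.CategoryTheory.Triangulated.Orthogonal

set_option autoImplicit false
universe v u
open CategoryTheory CategoryTheory.Limits
open CohDer

namespace Groth.Agent.S6600

set_option backward.defeqAttrib.useBackward true in
set_option backward.isDefEq.respectTransparency false in
open CategoryTheory.Pretriangulated in
/-- Let D be a triangulated category, A ⊂ D a full subcategory invariant under all shifts, and X → Y → Z
→ X⟦1⟧ a distinguished triangle. Then Z lies in the right orthogonal A^⊥ if and only if Hom(A, X) →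
Hom(A, Y) is bijective for every object A of A. -/
theorem result {D : Type u} [Category.{v} D] [Preadditive D] [HasZeroObject D] [HasShift D ℤ]
    [∀ n : ℤ, (shiftFunctor D n).Additive] [Pretriangulated D] [IsTriangulated D]
    (P : ObjectProperty D) [P.IsStableUnderShift ℤ] (T : Triangle D) (hT : T ∈ distinguishedTriangles) :
    P.rightOrthogonal T.obj₃ ↔ ∀ A : D, P A → Function.Bijective (fun u : A ⟶ T.obj₁ => u ≫ T.mor₁) := by
  constructor
  · intro hZ A hA
    have hZ' : P.rightOrthogonal ((shiftFunctor D (-1 : ℤ)).obj T.obj₃) :=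
      P.rightOrthogonal.le_shift (-1 : ℤ) _ hZ
    constructor
    · intro u₁ u₂ h
      have h0 : (u₁ - u₂) ≫ T.mor₁ = 0 := by
        rw [Preadditive.sub_comp]
        exact sub_eq_zero.mpr h
      obtain ⟨g, hg⟩ := Triangle.coyoneda_exact₂ _ (inv_rot_of_distTriang _ hT) (u₁ - u₂) h0
      rw [hZ' g hA, zero_comp] at hg
      exact sub_eq_zero.mp hg
    · intro v
      obtain ⟨u, hu⟩ := Triangle.coyoneda_exact₂ _ hT v (hZ _ hA)
      exact ⟨u, hu.symm⟩
  · intro h A w hA
    have h1 : w ≫ T.mor₃ = 0 := by
      set adj := (shiftEquiv D (1 : ℤ)).symm.toAdjunction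
      obtain ⟨a', ha'⟩ := (adj.homEquiv _ _).surjective (w ≫ T.mor₃)
      have h2 : adj.homEquiv _ _ (a' ≫ T.mor₁) = 0 := by
        rw [Adjunction.homEquiv_naturality_right, ha', Category.assoc]
        have := comp_distTriang_mor_zero₃₁ T hT
        dsimp [adj] at this ⊢
        rw [this, comp_zero]
      have h3 : a' ≫ T.mor₁ = 0 := by
        apply (adj.homEquiv _ _).injective
        rw [h2, Adjunction.homEquiv_unit]
        simp
      have h4 : a' = 0 := by
        apply (h _ (P.le_shift (-1 : ℤ) _ hA)).1
        simp only [h3, zero_comp]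
      rw [← ha', h4, Adjunction.homEquiv_unit]
      simp
    obtain ⟨v, hv⟩ := Triangle.coyoneda_exact₃ T hT w h1
    obtain ⟨u, hu⟩ := (h A hA).2 v
    rw [hv, ← hu]
    simp only [Category.assoc]
    rw [comp_distTriang_mor_zero₁₂ T hT, comp_zero]

end Groth.Agent.S6600
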