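import Groth.Statements.S6602
import Groth.Agent.S6601
import Mathlib.CategoryTheory.Adjunction.Comma

set_option autoImplicit false
universe v u
open CategoryTheory CategoryTheory.Limits
open CohDer

namespace Groth.Agent.S6602

set_option backward.defeqAttrib.useBackward true in
set_option backward.isDefEq.respectTransparency false in
open CategoryTheory.Pretriangulated in
/-- (1) ⇔ (2): let D be a triangulated category and B a full triangulated subcategory. The inclusion
functor B → D has a left adjoint if and only if for every X in D there is a distinguished triangle A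
→ X → B → A⟦1⟧ with B in B and A in the left orthogonal ^⊥B. (The published statement further
asserts that B is then saturated and, when strictly full, equals the right orthogonal of its left
orthogonal; this row asserts only the equivalence.) -/
theorem result {D : Type u} [Category.{v} D] [Preadditive D] [HasZeroObject D] [HasShift D ℤ]
    [∀ n : ℤ, (shiftFunctor D n).Additive] [Pretriangulated D] [IsTriangulated D]
    (P : ObjectProperty D) [P.IsTriangulated] :
    P.ι.IsRightAdjoint ↔ ∀ X : D, ∃ (A B : D) (f : A ⟶ X) (g : X ⟶ B) (h : B ⟶ (shiftFunctor D (1 : ℤ)).obj A),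
      Triangle.mk f g h ∈ distinguishedTriangles ∧ P B ∧ P.leftOrthogonal A := by
  constructor
  · intro hR X
    let L := P.ι.leftAdjoint
    let adj : L ⊣ P.ι := Adjunction.ofIsRightAdjoint P.ι
    obtain ⟨A, f, h, hT⟩ := distinguished_cocone_triangle₁ (adj.unit.app X)
    refine ⟨A, (L.obj X).obj, f, adj.unit.app X, h, hT, (L.obj X).property, ?_⟩
    refine (Groth.Agent.S6601.result P _ hT).2 ?_
    intro B hB
    have key : (fun u : (L.obj X).obj ⟶ B => adj.unit.app X ≫ u) =
        (adj.homEquiv X ⟨B, hB⟩) ∘ (ObjectProperty.homMk (X := L.obj X) (Y := ⟨B, hB⟩)) := by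
      funext u
      rw [Function.comp_apply, Adjunction.homEquiv_unit]
      rfl
    change Function.Bijective (fun u : (L.obj X).obj ⟶ B => adj.unit.app X ≫ u)
    rw [key]
    refine (adj.homEquiv X ⟨B, hB⟩).bijective.comp ⟨?_, ObjectProperty.homMk_surjective⟩
    intro u₁ u₂ h12
    exact congrArg InducedCategory.Hom.hom h12
  · intro H
    have : ∀ X : D, HasInitial (StructuredArrow X P.ι) := by
      intro X
      obtain ⟨A, B, f, g, h, hT, hB, hA⟩ := H X
      have hbij := (Groth.Agent.S6601.result P _ hT).1 hA
      let B' : P.FullSubcategory := ⟨B, hB⟩
      let g' : X ⟶ P.ι.obj B' := g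
      have : IsInitial (StructuredArrow.mk g') := by
        refine IsInitial.ofUniqueHom (fun Y => ?_) (fun Y m => ?_)
        · exact StructuredArrow.homMk (ObjectProperty.homMk ((hbij Y.right.obj Y.right.property).2 Y.hom).choose)
            ((hbij Y.right.obj Y.right.property).2 Y.hom).choose_spec
        · ext
          apply (hbij Y.right.obj Y.right.property).1
          have h1 := ((hbij Y.right.obj Y.right.property).2 Y.hom).choose_spec
          have h2 := StructuredArrow.w m
          simp only [Triangle.mk_obj₃, Triangle.mk_mor₂, StructuredArrow.homMk_right,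
            ObjectProperty.homMk_hom] at h1 h2 ⊢
          rw [h1]
          exact h2
      exact this.hasInitial
    exact isRightAdjointOfStructuredArrowInitials _

end Groth.Agent.S6602
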