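import Groth.Statements.S6603
import Groth.Agent.S6788

set_option autoImplicit false
universe v u v' u'
open CategoryTheory CategoryTheory.Limits
open CohDer

namespace Groth.Agent.S6603

set_option backward.defeqAttrib.useBackward true in
set_option backward.isDefEq.respectTransparency false in
open ZeroObject in
open CategoryTheory.Pretriangulated in
/-- (1) ⇔ (2) ⇔ (3) ⇔ (4): let D be a pretriangulated category, S a multiplicative system compatible
with the triangulated structure, and Q : D → S⁻¹D the localization functor. For an object Z of D the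
following are equivalent: (1) Q(Z) = 0; (2) 0 : Z ⟶ Z' is in S for some Z'; (3) 0 : Z' ⟶ Z is in S
for some Z'; (4) there are an object Z' and a distinguished triangle (X, Y, Z ⊞ Z', f, g, h) with f
∈ S. (The further equivalences (5)–(7) for saturated S are not asserted.) -/
theorem result {D : Type u} [Category.{v} D] [Preadditive D] [HasZeroObject D] [HasShift D ℤ]
    [∀ n : ℤ, (shiftFunctor D n).Additive] [Pretriangulated D]
    (S : MorphismProperty D) [S.HasLeftCalculusOfFractions] [S.HasRightCalculusOfFractions]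
    [S.IsCompatibleWithTriangulation]
    {E : Type u'} [Category.{v'} E] (Q : D ⥤ E) [Q.IsLocalization S] (Z : D) :
    (IsZero (Q.obj Z) ↔ ∃ Z' : D, S (0 : Z ⟶ Z')) ∧
    (IsZero (Q.obj Z) ↔ ∃ Z' : D, S (0 : Z' ⟶ Z)) ∧
    (IsZero (Q.obj Z) ↔ ∃ (Z' X Y : D) (f : X ⟶ Y) (g : Y ⟶ Z ⊞ Z') (h : Z ⊞ Z' ⟶ (shiftFunctor D (1 : ℤ)).obj X),
      Triangle.mk f g h ∈ distinguishedTriangles ∧ S f) := by
  have h12 := Groth.Agent.S6788.result Q S
  refine ⟨(h12 Z).1, (h12 Z).2, ?_⟩
  constructor
  · intro hZ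
    obtain ⟨Z'', hZ''⟩ := (h12 Z).2.1 hZ
    obtain ⟨C, g, h, hT⟩ := distinguished_cocone_triangle (0 : Z'' ⟶ Z)
    obtain ⟨e, he₁, he₂⟩ := exists_iso_binaryBiproduct_of_distTriang _ (rot_of_distTriang _ hT)
      (by simp)
    dsimp at e he₁ he₂
    refine ⟨(shiftFunctor D (1 : ℤ)).obj Z'', Z'', Z, 0, biprod.inl, biprod.snd, ?_, hZ''⟩
    refine isomorphic_distinguished _ hT _
      (Triangle.isoMk _ _ (Iso.refl _) (Iso.refl _) e.symm ?_ ?_ ?_)
    · simp
    · simp [← he₁]
    · simp [he₂]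
  · rintro ⟨Z', X, Y, f, g, h, hT, hf⟩
    obtain ⟨c, hc, -⟩ := MorphismProperty.compatible_with_triangulation
      (contractibleTriangle X) (Triangle.mk f g h) (contractible_distinguished X) hT (𝟙 X) f
      (S.id_mem X) hf (by simp)
    dsimp at c hc
    have hc0 : c = 0 := (isZero_zero D).eq_of_src _ _
    rw [hc0] at hc
    have hzero : IsZero (Q.obj (Z ⊞ Z')) := (h12 (Z ⊞ Z')).2.2 ⟨0, hc⟩
    let _ : Preadditive E := Localization.preadditive Q S
    rw [IsZero.iff_id_eq_zero]
    have : 𝟙 (Q.obj Z) = Q.map biprod.inl ≫ Q.map (biprod.fst : Z ⊞ Z' ⟶ Z) := by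
      rw [← Q.map_comp, biprod.inl_fst, Q.map_id]
    rw [this, hzero.eq_of_src (Q.map biprod.fst) 0, comp_zero]

end Groth.Agent.S6603
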