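import Groth.Statements.S6606
import Mathlib
import Groth.Agent.Lib.helper2.LiftProj
-- import your own Groth.Agent.* helpers here

set_option autoImplicit false
universe v u
open CategoryTheory CategoryTheory.Limits
open CohDer

namespace Groth.Agent.S6606

/-- Let A be an abelian category, β : P ⟶ L and α : E ⟶ L morphisms of cochain complexes and n an
integer. Assume P is a bounded complex of projective objects with Pⁱ = 0 for i < n, and that Hⁱ(α)
is an isomorphism for i > n and an epimorphism for i = n. Then there is γ : P ⟶ E such that γ ≫ α is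
homotopic to β. -/
theorem result {A : Type u} [Category.{v} A] [Abelian A]
    (P E L : CochainComplex A ℤ) (β : P ⟶ L) (α : E ⟶ L) (n b : ℤ) [P.IsStrictlyGE n] [P.IsStrictlyLE b]
    (hP : ∀ i : ℤ, Projective (P.X i))
    (hiso : ∀ i : ℤ, n < i → IsIso (HomologicalComplex.homologyMap α i)) (hepi : Epi (HomologicalComplex.homologyMap α n)) :
    ∃ γ : P ⟶ E, Nonempty (Homotopy (γ ≫ α) β) := by
  open Groth.Agent.Lib.helper2 in
  let _ : HasDerivedCategory A := HasDerivedCategory.standard A
  have := hP
  have : P.IsKProjective := CochainComplex.isKProjective_of_projective P b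
  obtain ⟨γ', hγ'⟩ := LiftProj.exists_lift P n b hP (DerivedCategory.Q.map α)
    (fun i hi => (LiftProj.isIso_homologyFunctor_map_Q_iff α i).2 (hiso i hi))
    ((LiftProj.epi_homologyFunctor_map_Q_iff α n).2 hepi) (DerivedCategory.Q.map β)
  obtain ⟨γ, rfl⟩ := ConeRep.exists_chain_map P E γ'
  refine ⟨γ, ⟨HomotopyCategory.homotopyOfEq _ _ ?_⟩⟩
  apply (CochainComplex.IsKProjective.Qh_map_bijective P
    ((HomotopyCategory.quotient A (ComplexShape.up ℤ)).obj L)).injective
  rw [← DerivedCategory.Q.map_comp] at hγ'
  exact hγ'

end Groth.Agent.S6606
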