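import Groth.Statements.S6607
import Groth.Agent.S6601

set_option autoImplicit false
universe v u
open CategoryTheory CategoryTheory.Limits
open CohDer

namespace Groth.Agent.S6607

open CategoryTheory.Pretriangulated

section aux

variable {D : Type u} [Category.{v} D] [Preadditive D] [HasZeroObject D] [HasShift D ℤ]
    [∀ n : ℤ, (shiftFunctor D n).Additive] [Pretriangulated D]

set_option backward.defeqAttrib.useBackward true in
set_option backward.isDefEq.respectTransparency false in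
/-- A five-lemma-type statement for morphisms of distinguished triangles and `Hom(-, Z)`. -/
lemma five (T T' : Triangle D) (hT : T ∈ distinguishedTriangles) (hT' : T' ∈ distinguishedTriangles)
    (g₁ : T.obj₁ ⟶ T'.obj₁) (g₂ : T.obj₂ ⟶ T'.obj₂) (g₃ : T.obj₃ ⟶ T'.obj₃)
    (comm₁ : T.mor₁ ≫ g₂ = g₁ ≫ T'.mor₁) (comm₂ : T.mor₂ ≫ g₃ = g₂ ≫ T'.mor₂)
    (comm₃ : T.mor₃ ≫ (shiftFunctor D (1 : ℤ)).map g₁ = g₃ ≫ T'.mor₃) (Z : D)
    (U1 : Function.Injective (fun u : T'.obj₁ ⟶ Z => g₁ ≫ u))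
    (U1s : Function.Bijective (fun u : (shiftFunctor D (1 : ℤ)).obj T'.obj₁ ⟶ Z =>
      (shiftFunctor D (1 : ℤ)).map g₁ ≫ u))
    (U2 : Function.Bijective (fun u : T'.obj₂ ⟶ Z => g₂ ≫ u))
    (U2s : Function.Surjective (fun u : (shiftFunctor D (1 : ℤ)).obj T'.obj₂ ⟶ Z =>
      (shiftFunctor D (1 : ℤ)).map g₂ ≫ u)) :
    Function.Bijective (fun u : T'.obj₃ ⟶ Z => g₃ ≫ u) := by
  have inj0 : ∀ u : T'.obj₃ ⟶ Z, g₃ ≫ u = 0 → u = 0 := by
    intro u hu
    have h1 : T'.mor₂ ≫ u = 0 := by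
      apply U2.1
      change g₂ ≫ T'.mor₂ ≫ u = g₂ ≫ 0
      rw [← Category.assoc, ← comm₂, Category.assoc, hu, comp_zero, comp_zero]
    obtain ⟨w, hw⟩ := Triangle.yoneda_exact₃ T' hT' u h1
    have h2 : T.mor₃ ≫ ((shiftFunctor D (1 : ℤ)).map g₁ ≫ w) = 0 := by
      rw [← Category.assoc, comm₃, Category.assoc, ← hw, hu]
    obtain ⟨z, hz⟩ := Triangle.yoneda_exact₃ _ (rot_of_distTriang _ hT) _ h2
    obtain ⟨z', hz'⟩ := U2s z
    have h3 : w = -((shiftFunctor D (1 : ℤ)).map T'.mor₁ ≫ z') := by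
      apply U1s.1
      change (shiftFunctor D (1 : ℤ)).map g₁ ≫ w =
        (shiftFunctor D (1 : ℤ)).map g₁ ≫ (-((shiftFunctor D (1 : ℤ)).map T'.mor₁ ≫ z'))
      rw [hz, ← hz']
      simp only [Triangle.rotate_mor₃, Preadditive.neg_comp, Preadditive.comp_neg]
      rw [← Category.assoc, ← Category.assoc, ← CategoryTheory.Functor.map_comp,
        ← CategoryTheory.Functor.map_comp, comm₁]
    rw [hw, h3, Preadditive.comp_neg, ← Category.assoc, comp_distTriang_mor_zero₃₁ T' hT',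
      zero_comp, neg_zero]
  constructor
  · intro u₁ u₂ h
    have := inj0 (u₁ - u₂) (by
      rw [Preadditive.comp_sub]
      exact sub_eq_zero.mpr h)
    exact sub_eq_zero.mp this
  · intro x
    obtain ⟨y, hy⟩ := U2.2 (T.mor₂ ≫ x)
    have hy' : g₂ ≫ y = T.mor₂ ≫ x := hy
    have h1 : T'.mor₁ ≫ y = 0 := by
      apply U1
      change g₁ ≫ T'.mor₁ ≫ y = g₁ ≫ 0
      rw [← Category.assoc, ← comm₁, Category.assoc, hy', ← Category.assoc,
        comp_distTriang_mor_zero₁₂ T hT, zero_comp, comp_zero]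
    obtain ⟨v, hv⟩ := Triangle.yoneda_exact₂ T' hT' y h1
    have h2 : T.mor₂ ≫ (x - g₃ ≫ v) = 0 := by
      rw [Preadditive.comp_sub, ← Category.assoc, comm₂, Category.assoc, ← hv, hy', sub_self]
    obtain ⟨w, hw⟩ := Triangle.yoneda_exact₃ T hT _ h2
    obtain ⟨w', hw'⟩ := U1s.2 w
    have hw'' : (shiftFunctor D (1 : ℤ)).map g₁ ≫ w' = w := hw'
    refine ⟨v + T'.mor₃ ≫ w', ?_⟩
    change g₃ ≫ (v + T'.mor₃ ≫ w') = x
    rw [Preadditive.comp_add, ← Category.assoc, ← comm₃, Category.assoc, hw'', ← hw]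
    abel

end aux

section main

variable {D : Type u} [Category.{v} D] [Preadditive D] [HasZeroObject D] [HasShift D ℤ]
    [∀ n : ℤ, (shiftFunctor D n).Additive] [Pretriangulated D] [IsTriangulated D]
    (B : ObjectProperty D) [B.IsTriangulated]

/-- The decomposition property. -/
def Dec : ObjectProperty D := fun X : D =>
  ∃ (A Y : D) (f : A ⟶ X) (g : X ⟶ Y) (h : Y ⟶ (shiftFunctor D (1 : ℤ)).obj A),
      Triangle.mk f g h ∈ distinguishedTriangles ∧ B Y ∧ B.leftOrthogonal A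

set_option backward.defeqAttrib.useBackward true in
set_option backward.isDefEq.respectTransparency false in
omit [IsTriangulated D] in
lemma dec_shift (X : D) (hX : Dec B X) (n : ℤ) : Dec B ((shiftFunctor D n).obj X) := by
  obtain ⟨A, Y, f, g, h, hT, hY, hA⟩ := hX
  have hT' := Triangle.shift_distinguished _ hT n
  exact ⟨_, _, _, _, _, hT', B.le_shift n _ hY, B.leftOrthogonal.le_shift n _ hA⟩

set_option backward.defeqAttrib.useBackward true in
set_option backward.isDefEq.respectTransparency false in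
lemma dec_ext₃ (T : Triangle D) (hT : T ∈ distinguishedTriangles) (h₁ : Dec B T.obj₁)
    (h₂ : Dec B T.obj₂) : Dec B T.obj₃ := by
  obtain ⟨A₁, Y₁, f₁, g₁, k₁, hT₁, hY₁, hA₁⟩ := h₁
  obtain ⟨A₂, Y₂, f₂, g₂, k₂, hT₂, hY₂, hA₂⟩ := h₂
  have U1 := (Groth.Agent.S6601.result B _ hT₁).1 hA₁
  have U2 := (Groth.Agent.S6601.result B _ hT₂).1 hA₂
  have U1s : ∀ Z : D, B Z → Function.Bijective
      (fun u : (shiftFunctor D (1 : ℤ)).obj Y₁ ⟶ Z => (shiftFunctor D (1 : ℤ)).map g₁ ≫ u) :=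
    fun Z hZ => by
      have := (Groth.Agent.S6601.result B ((Triangle.shiftFunctor D 1).obj (Triangle.mk f₁ g₁ k₁))
        (Triangle.shift_distinguished _ hT₁ 1)).1
        (B.leftOrthogonal.le_shift (1 : ℤ) _ hA₁) Z hZ
      simp only [Triangle.shiftFunctor_obj, Triangle.mk_obj₃, Triangle.mk_mor₂, Int.negOnePow_one,
        Units.neg_smul, one_smul] at this
      have e : (fun u : (shiftFunctor D (1 : ℤ)).obj Y₁ ⟶ Z => (shiftFunctor D (1 : ℤ)).map g₁ ≫ u) =
          (fun v => -v) ∘ (fun u => (-(shiftFunctor D (1 : ℤ)).map g₁) ≫ u) := by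
        funext u
        simp
      rw [e]
      exact (Equiv.neg _).bijective.comp this
  have U2s : ∀ Z : D, B Z → Function.Bijective
      (fun u : (shiftFunctor D (1 : ℤ)).obj Y₂ ⟶ Z => (shiftFunctor D (1 : ℤ)).map g₂ ≫ u) :=
    fun Z hZ => by
      have := (Groth.Agent.S6601.result B ((Triangle.shiftFunctor D 1).obj (Triangle.mk f₂ g₂ k₂))
        (Triangle.shift_distinguished _ hT₂ 1)).1
        (B.leftOrthogonal.le_shift (1 : ℤ) _ hA₂) Z hZ
      simp only [Triangle.shiftFunctor_obj, Triangle.mk_obj₃, Triangle.mk_mor₂, Int.negOnePow_one,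
        Units.neg_smul, one_smul] at this
      have e : (fun u : (shiftFunctor D (1 : ℤ)).obj Y₂ ⟶ Z => (shiftFunctor D (1 : ℤ)).map g₂ ≫ u) =
          (fun v => -v) ∘ (fun u => (-(shiftFunctor D (1 : ℤ)).map g₂) ≫ u) := by
        funext u
        simp
      rw [e]
      exact (Equiv.neg _).bijective.comp this
  obtain ⟨a', ha'⟩ := (U1 Y₂ hY₂).2 (T.mor₁ ≫ g₂)
  have ha'' : g₁ ≫ a' = T.mor₁ ≫ g₂ := ha'
  obtain ⟨Y₃, b', c', hT'⟩ := distinguished_cocone_triangle a'
  obtain ⟨Y₃', hY₃', ⟨e⟩⟩ := B.ext_of_isTriangulatedClosed₃' _ hT' hY₁ hY₂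
  have hT'' : Triangle.mk a' (b' ≫ e.hom) (e.inv ≫ c') ∈ distinguishedTriangles := by
    refine isomorphic_distinguished _ hT' _ ?_
    refine Triangle.isoMk _ _ (Iso.refl _) (Iso.refl _) e.symm ?_ ?_ ?_
    · simp
    · simp
    · simp
  obtain ⟨g₃, hg₃, hg₃'⟩ := complete_distinguished_triangle_morphism T _ hT hT'' g₁ g₂ ha''.symm
  have hbij : ∀ Z : D, B Z → Function.Bijective (fun u : Y₃' ⟶ Z => g₃ ≫ u) := by
    intro Z hZ
    exact five T _ hT hT'' g₁ g₂ g₃ ha''.symm hg₃ hg₃' Z (U1 Z hZ).1 (U1s Z hZ) (U2 Z hZ)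
      (U2s Z hZ).2
  obtain ⟨A₃, f₃, k₃, hT₃⟩ := distinguished_cocone_triangle₁ g₃
  refine ⟨A₃, Y₃', f₃, g₃, k₃, hT₃, hY₃', ?_⟩
  exact (Groth.Agent.S6601.result B _ hT₃).2 hbij

end main

set_option backward.defeqAttrib.useBackward true in
set_option backward.isDefEq.respectTransparency false in
open CategoryTheory.Pretriangulated in
/-- Let D be a triangulated category and B a full triangulated subcategory. Let P(X) be the property:
there is a distinguished triangle A → X → B → A⟦1⟧ with B in B and A in ^⊥B. Then P satisfies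
two-out-of-three in distinguished triangles, i.e. it is stable under all shifts and closed under
extensions (a triangulated object property). -/
theorem result {D : Type u} [Category.{v} D] [Preadditive D] [HasZeroObject D] [HasShift D ℤ]
    [∀ n : ℤ, (shiftFunctor D n).Additive] [Pretriangulated D] [IsTriangulated D]
    (B : ObjectProperty D) [B.IsTriangulated] :
    ObjectProperty.IsTriangulated (fun X : D => ∃ (A Y : D) (f : A ⟶ X) (g : X ⟶ Y) (h : Y ⟶ (shiftFunctor D (1 : ℤ)).obj A),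
      Triangle.mk f g h ∈ distinguishedTriangles ∧ B Y ∧ B.leftOrthogonal A) := by
  change ObjectProperty.IsTriangulated (Dec B)
  refine { exists_zero := ?_, isStableUnderShiftBy := ?_, ext₂' := ?_ }
  · obtain ⟨Z, hZ, hBZ⟩ := B.exists_prop_of_containsZero
    refine ⟨Z, hZ, Z, Z, 𝟙 Z, 0, 0, ?_, hBZ, ?_⟩
    · refine isomorphic_distinguished _ (contractible_distinguished Z) _ ?_
      refine Triangle.isoMk _ _ (Iso.refl _) (Iso.refl _) (hZ.isoZero) ?_ ?_ ?_
      · simp
      · simp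
      · simp
    · intro Y f _
      exact hZ.eq_of_src _ _
  · intro n
    exact ⟨fun X hX => dec_shift B X hX n⟩
  · intro T hT h₁ h₃
    apply ObjectProperty.le_isoClosure
    exact dec_ext₃ B T.invRotate (inv_rot_of_distTriang _ hT) (dec_shift B _ h₃ (-1)) h₁

end Groth.Agent.S6607
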