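import Groth.Statements.S6608
import Mathlib.CategoryTheory.Localization.Triangulated

set_option autoImplicit false
universe v u
open CategoryTheory CategoryTheory.Limits
open CohDer

namespace Groth.Agent.S6608

set_option backward.defeqAttrib.useBackward true in
set_option backward.isDefEq.respectTransparency false in
open CategoryTheory.Pretriangulated ZeroObject in
/-- Let D be a pretriangulated category and S a set of arrows of D containing the identities and
satisfying MS6 (compatibility with the triangulated structure; here together with stability under
shifts, MS5). Then every isomorphism of D lies in S. -/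
theorem result {D : Type u} [Category.{v} D] [Preadditive D] [HasZeroObject D] [HasShift D ℤ]
    [∀ n : ℤ, (shiftFunctor D n).Additive] [Pretriangulated D]
    (S : MorphismProperty D) [S.ContainsIdentities] [S.IsCompatibleWithTriangulation]
    {X Y : D} (f : X ⟶ Y) [IsIso f] : S f := by
  have hT₁ : Triangle.mk (0 : (0 : D) ⟶ X) (𝟙 X) 0 ∈ distTriang D := contractible_distinguished₁ X
  have hT₂ : Triangle.mk (0 : (0 : D) ⟶ X) f 0 ∈ distTriang D := by
    refine isomorphic_distinguished _ hT₁ _ ?_
    exact Triangle.isoMk _ _ (Iso.refl _) (Iso.refl _) (asIso f).symm
      (by simp) (by simp) (by simp)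
  obtain ⟨c, hc, hc₁, _⟩ := MorphismProperty.compatible_with_triangulation
    (W := S) _ _ hT₁ hT₂ (𝟙 _) (𝟙 X) (S.id_mem _) (S.id_mem _) (by simp)
  have : c = f := by simpa using hc₁
  rwa [← this]

end Groth.Agent.S6608
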