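import Groth.Statements.S6609
import Mathlib.CategoryTheory.Localization.Triangulated

set_option autoImplicit false
universe v u
open CategoryTheory CategoryTheory.Limits
open CohDer

namespace Groth.Agent.S6609

set_option backward.defeqAttrib.useBackward true in
set_option backward.isDefEq.respectTransparency false in
open CategoryTheory.Pretriangulated in
/-- Let D be a pretriangulated category and S a set of arrows satisfying MS1 (identities, stable under
composition), MS5 (stable under shifts in both directions) and MS6 (compatibility with distinguished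
triangles). Then MS2 holds: (LMS2) for f : X ⟶ Y and t : X ⟶ X' in S there are f' : X' ⟶ Y' and s' :
Y ⟶ Y' in S with f ≫ s' = t ≫ f'; (RMS2) for f : X ⟶ Y and s : Y' ⟶ Y in S there are f' : X' ⟶ Y'
and t' : X' ⟶ X in S with t' ≫ f = f' ≫ s. -/
theorem result {D : Type u} [Category.{v} D] [Preadditive D] [HasZeroObject D] [HasShift D ℤ]
    [∀ n : ℤ, (shiftFunctor D n).Additive] [Pretriangulated D]
    (S : MorphismProperty D) [S.IsMultiplicative] [S.IsCompatibleWithTriangulation] :
    (∀ {X Y X' : D} (f : X ⟶ Y) (t : X ⟶ X'), S t →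
      ∃ (Y' : D) (f' : X' ⟶ Y') (s' : Y ⟶ Y'), S s' ∧ f ≫ s' = t ≫ f') ∧
    (∀ {X Y Y' : D} (f : X ⟶ Y) (s : Y' ⟶ Y), S s →
      ∃ (X' : D) (f' : X' ⟶ Y') (t' : X' ⟶ X), S t' ∧ t' ≫ f = f' ≫ s) := by
  constructor
  · intro X Y X' f t ht
    obtain ⟨Z, g, h, hT⟩ := distinguished_cocone_triangle₁ f
    obtain ⟨Y', f', h', hT'⟩ := distinguished_cocone_triangle (g ≫ t)
    obtain ⟨c, hc, hc₁, _⟩ := MorphismProperty.compatible_with_triangulation
      (W := S) _ _ hT hT' (𝟙 Z) t (S.id_mem _) ht (by simp)
    exact ⟨Y', f', c, hc, by simpa using hc₁⟩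
  · intro X Y Y' f s hs
    obtain ⟨Z, g, h, hT⟩ := distinguished_cocone_triangle f
    obtain ⟨X', f', h', hT'⟩ := distinguished_cocone_triangle₁ (s ≫ g)
    have hR := rot_of_distTriang _ hT
    have hR' := rot_of_distTriang _ hT'
    obtain ⟨c, hc, _, hc₂⟩ := MorphismProperty.compatible_with_triangulation
      (W := S) _ _ hR' hR s (𝟙 Z) hs (S.id_mem _) (by simp)
    refine ⟨X', f', (shiftFunctor D (1 : ℤ)).preimage c, ?_, ?_⟩
    · rw [← MorphismProperty.IsCompatibleWithShift.iff S _ (1 : ℤ), Functor.map_preimage]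
      exact hc
    · apply (shiftFunctor D (1 : ℤ)).map_injective
      rw [Functor.map_comp, Functor.map_comp, Functor.map_preimage]
      simp only [Triangle.rotate_mor₃, Triangle.mk_mor₁, Triangle.mk_obj₁, Triangle.mk_obj₂,
        Preadditive.neg_comp, Preadditive.comp_neg, neg_inj] at hc₂
      exact hc₂.symm

end Groth.Agent.S6609
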