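import Groth.Statements.S6611
import Mathlib.Algebra.Homology.DerivedCategory.KInjective

set_option autoImplicit false
universe v u
open CategoryTheory CategoryTheory.Limits
open CohDer

namespace Groth.Agent.S6611

/-- Let A be an abelian category, α : K ⟶ L a quasi-isomorphism of cochain complexes which is injective
in every degree, I a bounded below complex of injective objects and γ : K ⟶ I a morphism. Then there
is a morphism β : L ⟶ I with α ≫ β = γ. -/
theorem result {A : Type u} [Category.{v} A] [Abelian A]
    (K L I : CochainComplex A ℤ) (α : K ⟶ L) [QuasiIso α] (hα : ∀ n : ℤ, Mono (α.f n))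
    (a : ℤ) [I.IsStrictlyGE a] (hI : ∀ n : ℤ, Injective (I.X n)) (γ : K ⟶ I) :
    ∃ β : L ⟶ I, α ≫ β = γ := by
  classical
  have hI' : ∀ n, Injective (I.X n) := hI
  have hKI : I.IsKInjective := CochainComplex.isKInjective_of_injective I a
  letI := HasDerivedCategory.standard A
  have hbij := CochainComplex.IsKInjective.Qh_map_bijective
    ((HomotopyCategory.quotient _ _).obj L) I
  have hbij' := CochainComplex.IsKInjective.Qh_map_bijective
    ((HomotopyCategory.quotient _ _).obj K) I
  have hiso : IsIso (DerivedCategory.Qh.map ((HomotopyCategory.quotient _ _).map α)) := by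
    apply Localization.inverts DerivedCategory.Qh (HomotopyCategory.quasiIso A (ComplexShape.up ℤ))
    rw [HomotopyCategory.quotient_map_mem_quasiIso_iff]
    exact (inferInstance : QuasiIso α)
  obtain ⟨g, hg⟩ := hbij.surjective
    (inv (DerivedCategory.Qh.map ((HomotopyCategory.quotient _ _).map α)) ≫
      DerivedCategory.Qh.map ((HomotopyCategory.quotient _ _).map γ))
  have hg' : (HomotopyCategory.quotient _ _).map α ≫ g = (HomotopyCategory.quotient _ _).map γ := by
    apply hbij'.injective
    rw [Functor.map_comp, hg, IsIso.hom_inv_id_assoc]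
  obtain ⟨β₀, rfl⟩ := (HomotopyCategory.quotient _ _).map_surjective g
  rw [← Functor.map_comp] at hg'
  have hh : Homotopy (α ≫ β₀) γ := HomotopyCategory.homotopyOfEq _ _ hg'
  let hom' : ∀ i j, L.X i ⟶ I.X j := fun i j => Injective.factorThru (hh.hom i j) (α.f i)
  have hhom' : ∀ i j, α.f i ≫ hom' i j = hh.hom i j := fun i j => Injective.comp_factorThru _ _
  refine ⟨β₀ - Homotopy.nullHomotopicMap hom', ?_⟩
  rw [Preadditive.comp_sub, Homotopy.comp_nullHomotopicMap]
  simp only [hhom']
  ext i
  have := hh.comm i
  simp only [HomologicalComplex.sub_f_apply, Homotopy.nullHomotopicMap]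
  rw [this]
  abel

end Groth.Agent.S6611
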