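import Groth.Statements.S6612
import Mathlib
-- import your own Groth.Agent.* helpers here

set_option autoImplicit false
universe v u
open CategoryTheory CategoryTheory.Limits
open CohDer

namespace Groth.Agent.S6612

/-- Let A be an additive category and 0 → A₂ → B₂ → C₂ → 0 a termwise split exact sequence of complexes.
Given a chain map b from a complex B₁ into B₂ and a chain map b' from B₂ into a complex B₃, suppose
that both composites b ≫ (B₂ → C₂) and (A₂ → B₂) ≫ b' are null-homotopic. Then b ≫ b' is homotopic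
to zero. (The published statement has three termwise split sequences Aᵢ → Bᵢ → Cᵢ and asks both
squares of each diagram to commute up to homotopy; this row keeps only the middle sequence and the
two conditions at B₂ that the argument uses, so it is more general.) -/
theorem result {V : Type u} [Category.{v} V] [Preadditive V] [HasBinaryBiproducts V]
    (S : ShortComplex (CochainComplex V ℤ))
    (σ : ∀ n : ℤ, (S.map (HomologicalComplex.eval V (ComplexShape.up ℤ) n)).Splitting)
    {B₁ B₃ : CochainComplex V ℤ} (b : B₁ ⟶ S.X₂) (b' : S.X₂ ⟶ B₃)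
    (hb : Nonempty (Homotopy (b ≫ S.g) 0)) (hb' : Nonempty (Homotopy (S.f ≫ b') 0)) :
    Nonempty (Homotopy (b ≫ b') 0) := by
  classical
  obtain ⟨H⟩ := hb
  obtain ⟨H'⟩ := hb'
  -- the splittings, with explicit types
  have hr : ∀ n : ℤ, ∃ (r : S.X₂.X n ⟶ S.X₁.X n) (s : S.X₃.X n ⟶ S.X₂.X n),
      S.f.f n ≫ r = 𝟙 _ ∧ s ≫ S.g.f n = 𝟙 _ ∧ r ≫ S.f.f n + S.g.f n ≫ s = 𝟙 _ :=
    fun n => ⟨(σ n).r, (σ n).s, (σ n).f_r, (σ n).s_g, (σ n).id⟩
  choose r s hfr hsg hid using hr
  let hom : ∀ i j, B₁.X i ⟶ S.X₂.X j := fun i j => H.hom i j ≫ s j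
  have hom_zero : ∀ i j, ¬ (ComplexShape.up ℤ).Rel j i → hom i j = 0 := fun i j w => by
    simp only [hom, H.zero i j w, zero_comp]
  have hν : Homotopy.nullHomotopicMap hom ≫ S.g = b ≫ S.g := by
    rw [Homotopy.nullHomotopicMap_comp]
    have : (fun i j => hom i j ≫ S.g.f j) = H.hom := by
      funext i j
      simp only [hom, Category.assoc, hsg, Category.comp_id]
    rw [this]
    ext n
    have := H.comm n
    rw [HomologicalComplex.zero_f_apply, add_zero] at this
    rw [this]
    rfl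
  -- b₁
  obtain ⟨b₁, hb₁⟩ : ∃ b₁ : B₁ ⟶ S.X₂, b₁ = b - Homotopy.nullHomotopicMap hom := ⟨_, rfl⟩
  have hb₁g : b₁ ≫ S.g = 0 := by
    rw [hb₁, Preadditive.sub_comp, hν, sub_self]
  have key : ∀ n : ℤ, b₁.f n = (b₁.f n ≫ r n) ≫ S.f.f n := by
    intro n
    have h1 : b₁.f n ≫ S.g.f n = 0 := by
      have := congrArg (fun φ => φ.f n) hb₁g
      simpa using this
    calc b₁.f n = b₁.f n ≫ (r n ≫ S.f.f n + S.g.f n ≫ s n) := by rw [hid, Category.comp_id]
      _ = (b₁.f n ≫ r n) ≫ S.f.f n := by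
        rw [Preadditive.comp_add, ← Category.assoc (b₁.f n) (S.g.f n), h1, zero_comp, add_zero,
          Category.assoc]
  let a : B₁ ⟶ S.X₁ :=
    { f := fun n => b₁.f n ≫ r n
      comm' := by
        intro i j _
        have hm : ∀ (x y : B₁.X i ⟶ S.X₁.X j), x ≫ S.f.f j = y ≫ S.f.f j → x = y := by
          intro x y hxy
          have := congrArg (fun z => z ≫ r j) hxy
          simpa only [Category.assoc, hfr, Category.comp_id] using this
        apply hm
        calc ((b₁.f i ≫ r i) ≫ S.X₁.d i j) ≫ S.f.f j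
            = ((b₁.f i ≫ r i) ≫ S.f.f i) ≫ S.X₂.d i j := by
              simp only [Category.assoc, S.f.comm i j]
          _ = b₁.f i ≫ S.X₂.d i j := by rw [← key]
          _ = B₁.d i j ≫ b₁.f j := b₁.comm i j
          _ = B₁.d i j ≫ ((b₁.f j ≫ r j) ≫ S.f.f j) := by rw [← key]
          _ = (B₁.d i j ≫ (b₁.f j ≫ r j)) ≫ S.f.f j := by simp only [Category.assoc] }
  have ha : b₁ = a ≫ S.f := by
    ext n
    exact key n
  have h1 : Homotopy (b ≫ b') (b₁ ≫ b') := by
    have e : b = b₁ + Homotopy.nullHomotopicMap hom := by rw [hb₁]; abel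
    have h0 : Homotopy (b₁ + Homotopy.nullHomotopicMap hom) (b₁ + 0) :=
      Homotopy.add (Homotopy.refl b₁) (Homotopy.nullHomotopy hom hom_zero)
    have h0' : Homotopy b b₁ :=
      (Homotopy.ofEq e).trans (h0.trans (Homotopy.ofEq (add_zero b₁)))
    exact h0'.compRight b'
  have h2 : Homotopy (b₁ ≫ b') 0 := by
    have h3 : Homotopy (a ≫ (S.f ≫ b')) (a ≫ 0) := H'.compLeft a
    exact (Homotopy.ofEq (by rw [ha, Category.assoc])).trans
      (h3.trans (Homotopy.ofEq comp_zero))
  exact ⟨h1.trans h2⟩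

end Groth.Agent.S6612
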