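import Groth.Statements.S6613
import Mathlib.CategoryTheory.Localization.LocalizerMorphism
import Mathlib.CategoryTheory.Localization.CalculusOfFractions

set_option autoImplicit false
universe v u v' u'
open CategoryTheory CategoryTheory.Limits
open CohDer

namespace Groth.Agent.S6613


section aux

variable {D : Type u} [Category.{v} D] (P : ObjectProperty D) (S : MorphismProperty D)
  [S.HasRightCalculusOfFractions] (hP : ∀ X : D, ∃ (X' : D) (s : X' ⟶ X), P X' ∧ S s)

include hP in
lemma hasRight : (S.inverseImage P.ι).HasRightCalculusOfFractions where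
  exists_rightFraction X Y φ := by
    obtain ⟨ψ, hψ⟩ := (MorphismProperty.LeftFraction.mk φ.f.hom φ.s.hom φ.hs :
      S.LeftFraction X.obj Y.obj).exists_rightFraction
    obtain ⟨Z, t, hZ, ht⟩ := hP ψ.X'
    refine ⟨⟨(ObjectProperty.homMk (t ≫ ψ.s) : (⟨Z, hZ⟩ : P.FullSubcategory) ⟶ X),
      S.comp_mem _ _ ht ψ.hs, ObjectProperty.homMk (t ≫ ψ.f)⟩, ?_⟩
    ext
    simpa using t ≫= hψ
  ext X Y Y' f₁ f₂ s hs h := by
    obtain ⟨X', t, ht, h'⟩ := MorphismProperty.HasRightCalculusOfFractions.ext f₁.hom f₂.hom s.hom hs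
      (congrArg InducedCategory.Hom.hom h)
    obtain ⟨Z, u, hZ, hu⟩ := hP X'
    refine ⟨⟨Z, hZ⟩, ObjectProperty.homMk (u ≫ t), S.comp_mem _ _ hu ht, ?_⟩
    ext
    simpa using u ≫= h'

include hP in
lemma main {E : Type u'} [Category.{v'} E] (Q : D ⥤ E) [Q.IsLocalization S] :
    (P.ι ⋙ Q).IsLocalization (S.inverseImage P.ι) := by
  have hW' : (S.inverseImage P.ι).HasRightCalculusOfFractions := hasRight P S hP
  let Φ : LocalizerMorphism (S.inverseImage P.ι) S := ⟨P.ι, le_rfl⟩
  let L₁ := (S.inverseImage P.ι).Q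
  let F := Φ.localizedFunctor L₁ Q
  let e : P.ι ⋙ Q ≅ L₁ ⋙ F := (Φ.catCommSq L₁ Q).iso
  have hL₁ : L₁.EssSurj := Localization.essSurj L₁ (S.inverseImage P.ι)
  have nat : ∀ {X Y : P.FullSubcategory} (h : X ⟶ Y),
      F.map (L₁.map h) = e.inv.app X ≫ Q.map h.hom ≫ e.hom.app Y := by
    intro X Y h
    have := e.inv.naturality h
    simp only [Functor.comp_map] at this
    calc F.map (L₁.map h) = (F.map (L₁.map h) ≫ e.inv.app Y) ≫ e.hom.app Y := by simp
      _ = _ := by
        rw [this]
        simp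
  have hfull : F.Full := by
    refine F.full_of_comp_essSurj L₁ (fun X₁ X₂ φ ↦ ?_)
    obtain ⟨φ', hφ'⟩ : ∃ φ', φ = e.inv.app X₁ ≫ φ' ≫ e.hom.app X₂ :=
      ⟨e.hom.app X₁ ≫ φ ≫ e.inv.app X₂, by simp⟩
    obtain ⟨f, hf⟩ := Localization.exists_rightFraction Q S φ'
    obtain ⟨Z, t, hZ, ht⟩ := hP f.X'
    let g : (S.inverseImage P.ι).RightFraction X₁ X₂ :=
      { X' := ⟨Z, hZ⟩
        s := ObjectProperty.homMk (t ≫ f.s)
        hs := S.comp_mem _ _ ht f.hs
        f := ObjectProperty.homMk (t ≫ f.f) }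
    have := Localization.inverts L₁ _ _ g.hs
    refine ⟨g.map L₁ (Localization.inverts _ _), ?_⟩
    rw [← cancel_epi (F.map (L₁.map g.s)), ← Functor.map_comp,
      MorphismProperty.RightFraction.map_s_comp_map]
    have h1 : F.map (L₁.map g.s) = e.inv.app _ ≫ Q.map (t ≫ f.s) ≫ e.hom.app _ := nat g.s
    have h2 : F.map (L₁.map g.f) = e.inv.app _ ≫ Q.map (t ≫ f.f) ≫ e.hom.app _ := nat g.f
    rw [h1, h2, hφ', hf]
    simp
  have hfaith : F.Faithful := by
    refine F.faithful_of_comp_essSurj L₁ (fun X₁ X₂ a b hab ↦ ?_)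
    obtain ⟨φ, rfl⟩ := Localization.exists_rightFraction L₁ (S.inverseImage P.ι) a
    obtain ⟨ψ, rfl⟩ := Localization.exists_rightFraction L₁ (S.inverseImage P.ι) b
    rw [MorphismProperty.RightFraction.map_eq_iff]
    let toD : (S.inverseImage P.ι).RightFraction X₁ X₂ → S.RightFraction X₁.obj X₂.obj :=
      fun χ => ⟨χ.s.hom, (show S χ.s.hom from χ.hs), χ.f.hom⟩
    let φ' : S.RightFraction X₁.obj X₂.obj := toD φ
    let ψ' : S.RightFraction X₁.obj X₂.obj := toD ψ
    have key : ∀ (χ : (S.inverseImage P.ι).RightFraction X₁ X₂),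
        F.map (χ.map L₁ (Localization.inverts _ _)) =
          e.inv.app X₁ ≫ (toD χ).map Q (Localization.inverts _ _) ≫ e.hom.app X₂ := by
      intro χ
      have := Localization.inverts L₁ _ _ χ.hs
      rw [← cancel_epi (F.map (L₁.map χ.s)), ← Functor.map_comp,
        MorphismProperty.RightFraction.map_s_comp_map]
      rw [nat χ.s, nat χ.f]
      simp only [Category.assoc, Iso.hom_inv_id_app_assoc]
      have h := (toD χ).map_s_comp_map Q (Localization.inverts Q S)
      congr 1
      rw [← Category.assoc]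
      congr 1
      exact h.symm
    rw [key φ, key ψ] at hab
    have hab' : φ'.map Q (Localization.inverts _ _) = ψ'.map Q (Localization.inverts _ _) := by
      have := congrArg (fun m => e.hom.app X₁ ≫ m ≫ e.inv.app X₂) hab
      simpa using this
    rw [MorphismProperty.RightFraction.map_eq_iff] at hab'
    obtain ⟨Z, t₁, t₂, hst, hft, ht⟩ := hab'
    obtain ⟨Z', u, hZ', hu⟩ := hP Z
    refine ⟨⟨Z', hZ'⟩, ObjectProperty.homMk (u ≫ t₁), ObjectProperty.homMk (u ≫ t₂), ?_, ?_, ?_⟩
    · ext
      simpa [φ', ψ'] using u ≫= hst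
    · ext
      simpa [φ', ψ'] using u ≫= hft
    · change S ((u ≫ t₁) ≫ φ.s.hom)
      rw [Category.assoc]
      exact S.comp_mem _ _ hu ht
  have hess : F.EssSurj := by
    refine ⟨fun Y => ?_⟩
    have := Localization.essSurj Q S
    obtain ⟨X', s, hX', hs⟩ := hP (Q.objPreimage Y)
    exact ⟨L₁.obj ⟨X', hX'⟩, ⟨(e.app ⟨X', hX'⟩).symm ≪≫ Localization.isoOfHom Q S s hs ≪≫
      Q.objObjPreimageIso Y⟩⟩
  have : F.IsEquivalence := { }
  haveI : CatCommSq Φ.functor L₁ Q F := Φ.catCommSq L₁ Q
  have : Φ.IsLocalizedEquivalence := LocalizerMorphism.IsLocalizedEquivalence.mk' Φ L₁ Q F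
  exact LocalizerMorphism.IsLocalizedEquivalence.isLocalization Φ Q

end aux

/-- Let D be a pretriangulated category, D' ⊂ D a full pretriangulated subcategory, S a saturated
multiplicative system of D compatible with the triangulated structure and Q : D → S⁻¹D the
localization. Assume every X in D admits some s : X' ⟶ X in S with X' in D'. Then, with S' = S ∩
Arrows(D'), the functor (S')⁻¹D' → S⁻¹D is an equivalence; equivalently the composite D' → D → S⁻¹D
is a localization of D' at S'. (The published result additionally claims that the intersection S' =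
S ∩ Arrows(D') forms a multiplicative system on D' which is saturated and respects the triangulated
structure of D'; this row asserts only the localization property.) -/
theorem result {D : Type u} [Category.{v} D] [Preadditive D] [HasZeroObject D] [HasShift D ℤ]
    [∀ n : ℤ, (shiftFunctor D n).Additive] [Pretriangulated D]
    (P : ObjectProperty D) [P.IsTriangulated]
    (S : MorphismProperty D) [S.HasLeftCalculusOfFractions] [S.HasRightCalculusOfFractions] [S.IsCompatibleWithTriangulation]
    {E : Type u'} [Category.{v'} E] (Q : D ⥤ E) [Q.IsLocalization S]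
    (hsat : ∀ {X Y : D} (f : X ⟶ Y), IsIso (Q.map f) → S f)
    (hP : ∀ X : D, ∃ (X' : D) (s : X' ⟶ X), P X' ∧ S s) :
    (P.ι ⋙ Q).IsLocalization (S.inverseImage P.ι) := by
  exact main P S hP Q

end Groth.Agent.S6613
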