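import Groth.Statements.S6614
import Mathlib
-- import your own Groth.Agent.* helpers here

set_option autoImplicit false
universe v u
open CategoryTheory CategoryTheory.Limits Opposite
open CohDer

namespace Groth.Agent.S6614

/-- Let D be a triangulated category and (A_n) an ℕ-indexed inverse system of D which is essentially
constant with value A relative to the cone c. Then there are an index i and direct sum
decompositions A_{i+j} ≅ A ⊞ Z_j (j ≥ 0) such that (a) c_{i+j} is the inclusion of the summand A and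
the transition maps A_{i+k} → A_{i+j} are 𝟙_A ⊕ (Z_k → Z_j), and (b) for every j there is k ≥ j with
Z_k → Z_j zero. (The published statement is an equivalence whose converse is given without proof;
this row states only the forward implication.) -/
theorem result {D : Type u} [Category.{v} D] [Preadditive D] [HasZeroObject D] [HasShift D ℤ]
    [∀ n : ℤ, (shiftFunctor D n).Additive] [Pretriangulated D] [IsTriangulated D]
    (X : ARSys.PS D) (A : D) (c : (Functor.const ℕᵒᵖ).obj A ⟶ X) (hX : DerCA.IsEssConstant X A c) :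
    ∃ (i : ℕ) (Z : ℕ → D) (e : ∀ j : ℕ, X.obj (op (i + j)) ≅ A ⊞ Z j) (z : ∀ j k : ℕ, j ≤ k → (Z k ⟶ Z j)),
      (∀ j : ℕ, c.app (op (i + j)) ≫ (e j).hom = biprod.inl) ∧
      (∀ (j k : ℕ) (hjk : j ≤ k), (e k).inv ≫ ARSys.tr X (Nat.add_le_add_left hjk i) = biprod.map (𝟙 A) (z j k hjk) ≫ (e j).inv) ∧
      (∀ j : ℕ, ∃ (k : ℕ) (hjk : j ≤ k), z j k hjk = 0) := by
  obtain ⟨i, s, hs, hfac⟩ := hX
  -- naturality of the cone
  have hc : ∀ (n m : ℕ) (h : n ≤ m), c.app (op m) ≫ ARSys.tr X h = c.app (op n) := by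
    intro n m h
    have := c.naturality (homOfLE h).op
    simp only [Functor.const_obj_obj, Functor.const_obj_map, Category.id_comp] at this
    exact this.symm
  have htr : ∀ (n m l : ℕ) (h₁ : n ≤ m) (h₂ : m ≤ l),
      ARSys.tr X h₂ ≫ ARSys.tr X h₁ = ARSys.tr X (h₁.trans h₂) := by
    intro n m l h₁ h₂
    dsimp only [ARSys.tr]
    rw [← X.map_comp]
    rfl
  -- choose cones of the c's
  have hex : ∀ j : ℕ, ∃ (Z : D) (g : X.obj (op (i + j)) ⟶ Z) (h : Z ⟶ A⟦(1 : ℤ)⟧),
      Pretriangulated.Triangle.mk (c.app (op (i + j))) g h ∈ Pretriangulated.distinguishedTriangles :=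
    fun j => Pretriangulated.distinguished_cocone_triangle (c.app (op (i + j)))
  choose Z g h hT using hex
  let r : ∀ j : ℕ, X.obj (op (i + j)) ⟶ A := fun j => ARSys.tr X (Nat.le_add_right i j) ≫ s
  have hcr : ∀ j, c.app (op (i + j)) ≫ r j = 𝟙 A := by
    intro j
    dsimp only [r]
    rw [← Category.assoc, hc, hs]
  have hcg : ∀ j, c.app (op (i + j)) ≫ g j = 0 := fun j =>
    Pretriangulated.comp_distTriang_mor_zero₁₂ _ (hT j)
  have hh : ∀ j, h j = 0 := by
    intro j
    have : Mono (c.app (op (i + j))) := SplitMono.mono ⟨r j, hcr j⟩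
    exact Pretriangulated.Triangle.mor₃_eq_zero_of_mono₁ _ (hT j) this
  have hiso : ∀ j, IsIso (biprod.lift (r j) (g j)) := by
    intro j
    have c₁ : c.app (op (i + j)) ≫ biprod.lift (r j) (g j) = 𝟙 A ≫ biprod.inl := by
      rw [Category.id_comp]
      ext
      · simp [hcr]
      · simp [hcg]
    have c₂ : g j ≫ 𝟙 (Z j) = biprod.lift (r j) (g j) ≫ biprod.snd := by simp
    have c₃ : h j ≫ (𝟙 A)⟦(1 : ℤ)⟧' = 𝟙 (Z j) ≫ 0 := by simp [hh]
    let φ : Pretriangulated.Triangle.mk (c.app (op (i + j))) (g j) (h j) ⟶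
        Pretriangulated.binaryBiproductTriangle A (Z j) :=
      { hom₁ := 𝟙 A
        hom₂ := biprod.lift (r j) (g j)
        hom₃ := 𝟙 (Z j)
        comm₁ := c₁
        comm₂ := c₂
        comm₃ := c₃ }
    have i₁ : IsIso φ.hom₁ := inferInstanceAs (IsIso (𝟙 A))
    have i₃ : IsIso φ.hom₃ := inferInstanceAs (IsIso (𝟙 (Z j)))
    exact Pretriangulated.isIso₂_of_isIso₁₃ φ (hT j)
      (Pretriangulated.binaryBiproductTriangle_distinguished _ _) i₁ i₃
  let e : ∀ j : ℕ, X.obj (op (i + j)) ≅ A ⊞ Z j := fun j =>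
    haveI := hiso j
    asIso (biprod.lift (r j) (g j))
  have ehom : ∀ j, (e j).hom = biprod.lift (r j) (g j) := fun j => rfl
  have hce : ∀ j, c.app (op (i + j)) ≫ (e j).hom = biprod.inl := by
    intro j
    rw [ehom]
    ext
    · simp [hcr]
    · simp [hcg]
  have hinl : ∀ j, biprod.inl ≫ (e j).inv = c.app (op (i + j)) := by
    intro j
    rw [Iso.comp_inv_eq]
    exact (hce j).symm
  have hrk : ∀ (j k : ℕ) (hjk : j ≤ k), ARSys.tr X (Nat.add_le_add_left hjk i) ≫ r j = r k := by
    intro j k hjk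
    dsimp only [r]
    rw [← Category.assoc, htr]
  refine ⟨i, Z, e, fun j k hjk => biprod.inr ≫ (e k).inv ≫
    ARSys.tr X (Nat.add_le_add_left hjk i) ≫ g j, hce, ?_, ?_⟩
  · intro j k hjk
    rw [← cancel_mono (e j).hom]
    simp only [Category.assoc, Iso.inv_hom_id, Category.comp_id]
    apply biprod.hom_ext'
    · rw [← Category.assoc, hinl, ← Category.assoc, hc, hce]
      simp
    · apply biprod.hom_ext
      · rw [ehom j]
        simp only [Category.assoc, biprod.lift_fst, biprod.inr_map_assoc, biprod.inr_fst, comp_zero]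
        rw [hrk j k hjk]
        have : (e k).inv ≫ r k = biprod.fst := by
          rw [Iso.inv_comp_eq, ehom k, biprod.lift_fst]
        rw [this, biprod.inr_fst]
      · rw [ehom j]
        simp only [Category.assoc, biprod.lift_snd, biprod.inr_map, biprod.inr_snd, Category.comp_id]
  · intro j
    obtain ⟨k', hi, hj, hk⟩ := hfac (i + j)
    obtain ⟨k, rfl⟩ : ∃ k, k' = i + k := ⟨k' - i, by omega⟩
    refine ⟨k, by omega, ?_⟩
    change biprod.inr ≫ (e k).inv ≫ ARSys.tr X hj ≫ g j = 0
    rw [hk]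
    simp only [Category.assoc, hcg, comp_zero]

end Groth.Agent.S6614
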