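import Groth.Statements.S6618
import Mathlib
import Groth.Agent.Lib.helper18.RDPlus2

set_option autoImplicit false
universe v v' u u'
open CategoryTheory CategoryTheory.Limits
open CohDer

namespace Groth.Agent.S6618

/-- Part (2): (3), in the case where A has enough injectives: let F : A ⥤ B be an additive functor
between abelian categories, A with enough injectives. Then R⁰F is left exact; moreover, F itself is
left exact exactly when the canonical comparison morphism from F to R⁰F is invertible. -/
theorem result {A : Type u} [Category.{v} A] [Abelian A] [EnoughInjectives A]
    {B : Type u'} [Category.{v'} B] [Abelian B] (F : A ⥤ B) [F.Additive] :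
    PreservesFiniteLimits (F.rightDerived 0) ∧ (IsIso F.toRightDerivedZero ↔ PreservesFiniteLimits F) := by
  have hadd : (F.rightDerived 0).Additive :=
    { map_add := by
        intro X Y f g
        have hf := InjectiveResolution.desc_commutes f (injectiveResolution Y) (injectiveResolution X)
        have hg := InjectiveResolution.desc_commutes g (injectiveResolution Y) (injectiveResolution X)
        rw [F.rightDerived_map_eq 0 (f + g) (P := injectiveResolution X) (Q := injectiveResolution Y)
            (InjectiveResolution.desc f (injectiveResolution Y) (injectiveResolution X) +
              InjectiveResolution.desc g (injectiveResolution Y) (injectiveResolution X))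
            (by rw [Preadditive.comp_add, hf, hg, Functor.map_add, Preadditive.add_comp]),
          F.rightDerived_map_eq 0 f _ hf, F.rightDerived_map_eq 0 g _ hg]
        simp only [Functor.map_add, Preadditive.add_comp, Preadditive.comp_add] }
  have hR0 : PreservesFiniteLimits (F.rightDerived 0) := by
    rw [Functor.preservesFiniteLimits_iff_forall_exact_map_and_mono]
    intro S hS
    obtain ⟨⟨w, ex⟩, -⟩ := Groth.Agent.H18.RDPlus.rightDerived_homologySequence F S hS 0
    exact ⟨ex, Groth.Agent.H18.RDPlus.mono_rightDerived_zero_map F S hS⟩
  refine ⟨hR0, ?_, ?_⟩
  · intro h
    exact preservesFiniteLimits_of_natIso (asIso F.toRightDerivedZero).symm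
  · intro h
    infer_instance

end Groth.Agent.S6618
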