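import Groth.Statements.S6623
import Mathlib
import Groth.Agent.Lib.helper2.ShiftHom
-- import your own Groth.Agent.* helpers here

set_option autoImplicit false
universe v u
open CategoryTheory CategoryTheory.Limits
open CohDer

namespace Groth.Agent.S6623

open CategoryTheory.Pretriangulated in
/-- Let D be a triangulated category, φ : X ⟶ X' a morphism of chain complexes in D considered in
degrees ≤ n, where a Postnikov system for the complex X_n → … → X_0 consists of objects Y_k, an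
isomorphism Y_0 ⟶ X_0, and for 0 ≤ k < n distinguished triangles Y_{k+1} ⟶ X_{k+1} ⟶ Y_k ⟶
Y_{k+1}⟦1⟧ with X_{k+1} ⟶ Y_k ⟶ X_k the differential; let (Y, a, b, c) and (Y', a', b', c') be
Postnikov systems for X and X'. If Hom(X_{j-i}⟦1-i⟧, X'_j) = 0 and Hom(X_j, X'_{j-i}⟦-i⟧) = 0 for
all 0 < i ≤ j ≤ n, then there is at most one morphism of Postnikov systems extending φ: two such
morphisms agree on Y_k for every k ≤ n. -/
theorem result {D : Type u} [Category.{v} D] [Preadditive D] [HasZeroObject D] [HasShift D ℤ]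
    [∀ n : ℤ, (shiftFunctor D n).Additive] [Pretriangulated D] [IsTriangulated D]
    (X X' : ChainComplex D ℕ) (φ : X ⟶ X') (n : ℕ)
    (Y : ℕ → D) (a : ∀ k, Y k ⟶ X.X k) (b : ∀ k, X.X (k + 1) ⟶ Y k)
    (c : ∀ k, Y k ⟶ (shiftFunctor D (1 : ℤ)).obj (Y (k + 1)))
    (h0 : IsIso (a 0))
    (hP : ∀ k, k < n → Triangle.mk (a (k + 1)) (b k) (c k) ∈ distinguishedTriangles ∧ b k ≫ a k = X.d (k + 1) k)
    (qY : ℕ → D) (qa : ∀ k, qY k ⟶ X'.X k) (qb : ∀ k, X'.X (k + 1) ⟶ qY k)
    (qc : ∀ k, qY k ⟶ (shiftFunctor D (1 : ℤ)).obj (qY (k + 1)))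
    (qh0 : IsIso (qa 0))
    (qhP : ∀ k, k < n → Triangle.mk (qa (k + 1)) (qb k) (qc k) ∈ distinguishedTriangles ∧ qb k ≫ qa k = X'.d (k + 1) k)
    (hv : ∀ i j : ℕ, 0 < i → i ≤ j → j ≤ n →
      (∀ ψ : (shiftFunctor D (1 - (i : ℤ))).obj (X.X (j - i)) ⟶ X'.X j, ψ = 0) ∧
      (∀ ψ : X.X j ⟶ (shiftFunctor D (-(i : ℤ))).obj (X'.X (j - i)), ψ = 0))
    (y z : ∀ k, Y k ⟶ qY k)
    (hy : (∀ k, k ≤ n → y k ≫ qa k = a k ≫ φ.f k) ∧
      (∀ k, k < n → b k ≫ y k = φ.f (k + 1) ≫ qb k ∧ c k ≫ (shiftFunctor D (1 : ℤ)).map (y (k + 1)) = y k ≫ qc k))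
    (hz : (∀ k, k ≤ n → z k ≫ qa k = a k ≫ φ.f k) ∧
      (∀ k, k < n → b k ≫ z k = φ.f (k + 1) ≫ qb k ∧ c k ≫ (shiftFunctor D (1 : ℤ)).map (z (k + 1)) = z k ≫ qc k))
    (k : ℕ) (hk : k ≤ n) :
    y k = z k := by
  classical
  open Groth.Agent.Lib.helper2.ShiftHom in
  -- the difference
  have W1 : ∀ k, k ≤ n → (y k - z k) ≫ qa k = 0 := by
    intro k hk
    rw [Preadditive.sub_comp, hy.1 k hk, hz.1 k hk, sub_self]
  have W3 : ∀ k, k < n → c k ≫ (shiftFunctor D (1 : ℤ)).map (y (k + 1) - z (k + 1)) =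
      (y k - z k) ≫ qc k := by
    intro k hk
    rw [Functor.map_sub, Preadditive.comp_sub, Preadditive.sub_comp, (hy.2 k hk).2, (hz.2 k hk).2]
  have W0 : y 0 - z 0 = 0 := by
    haveI := qh0
    rw [← cancel_mono (qa 0), W1 0 (Nat.zero_le _), zero_comp]
  -- reformulated vanishing hypotheses
  have hA : ∀ a i : ℕ, 0 < i → a + i ≤ n → ∀ u : ℤ, u = 1 - (i : ℤ) →
      HS (X.X a) (X'.X (a + i)) u := by
    intro a i hi hai u hu
    have := (hv i (a + i) hi (Nat.le_add_left _ _) hai).1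
    rw [Nat.add_sub_cancel] at this
    subst hu
    exact this
  have hB : ∀ a i : ℕ, 0 < i → a + i ≤ n → ∀ t : ℤ, t = -(i : ℤ) →
      HT (X.X (a + i)) (X'.X a) t := by
    intro a i hi hai t ht
    have := (hv i (a + i) hi (Nat.le_add_left _ _) hai).2
    rw [Nat.add_sub_cancel] at this
    subst ht
    exact this
  -- Lemma A
  have LA : ∀ j : ℕ, 1 ≤ j → j ≤ n → ∀ m : ℕ, m < j → ∀ u : ℤ, u = (m : ℤ) + 1 - (j : ℤ) →
      HS (Y m) (X'.X j) u := by
    intro j hj1 hjn m
    induction m with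
    | zero =>
      intro _ u hu
      haveI := h0
      have h1 := hA 0 j hj1 (by omega) u (by rw [hu]; push_cast; ring)
      rw [Nat.zero_add] at h1
      exact hs_of_iso_left (asIso (a 0)).symm h1
    | succ m ih =>
      intro hm u hu
      have hmn : m < n := by omega
      have ihm := ih (by omega) (u - 1) (by rw [hu]; push_cast; ring)
      rw [hs_iff_ht u (-u) (by omega)]
      intro ψ
      -- c m ≫ ψ⟦1⟧ = 0
      have hc0 : c m ≫ (shiftFunctor D (1 : ℤ)).map ψ = 0 := by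
        have h2 : HT (Y m) (X'.X j) (1 - u) := (hs_iff_ht (u - 1) (1 - u) (by omega)).1 ihm
        have h3 : HT (Y m) ((shiftFunctor D (-u)).obj (X'.X j)) 1 :=
          (ht_shift_iff (-u) 1 (1 - u) (by omega)).2 h2
        exact h3 _
      obtain ⟨g, hg⟩ := exists_factor_of_comp_shift_eq_zero (a (m + 1)) (b m) (c m) (hP m hmn).1
        ψ hc0
      have hg0 : g = 0 := by
        have h4 : HS (X.X (m + 1)) (X'.X (m + 1 + (j - (m + 1)))) u :=
          hA (m + 1) (j - (m + 1)) (by omega) (by omega) u (by rw [hu]; push_cast [Nat.cast_sub (le_of_lt hm)]; ring)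
        have h5 : m + 1 + (j - (m + 1)) = j := by omega
        rw [h5] at h4
        exact ((hs_iff_ht u (-u) (by omega)).1 h4) g
      rw [hg, hg0, comp_zero]
  -- Lemma B
  have LB : ∀ j : ℕ, 1 ≤ j → j ≤ n → ∀ m : ℕ, m < j → ∀ t : ℤ, t = (m : ℤ) - (j : ℤ) →
      HT (X.X j) (qY m) t := by
    intro j hj1 hjn m
    induction m with
    | zero =>
      intro _ t ht
      haveI := qh0
      have h1 := hB 0 j hj1 (by omega) t (by rw [ht]; push_cast; ring)
      rw [Nat.zero_add] at h1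
      exact ht_of_iso_right (asIso (qa 0)).symm h1
    | succ m ih =>
      intro hm t ht
      have hmn : m < n := by omega
      have ihm := ih (by omega) (t - 1) (by rw [ht]; push_cast; ring)
      rw [← hs_iff_ht (-t) t (by omega)]
      intro ψ
      have hM : HS ((shiftFunctor D (-t)).obj (X.X j)) (qY m) 1 := by
        rw [hs_shift_iff (-t) 1 (1 - t) (by omega)]
        exact (hs_iff_ht (1 - t) (t - 1) (by omega)).2 ihm
      have hψa : ψ ≫ qa (m + 1) = 0 := by
        have h4 : HT (X.X (m + 1 + (j - (m + 1)))) (X'.X (m + 1)) t :=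
          hB (m + 1) (j - (m + 1)) (by omega) (by omega) t (by rw [ht]; push_cast [Nat.cast_sub (le_of_lt hm)]; ring)
        have h5 : m + 1 + (j - (m + 1)) = j := by omega
        rw [h5] at h4
        exact ((hs_iff_ht (-t) t (by omega)).2 h4) _
      exact eq_zero_of_comp_eq_zero (qa (m + 1)) (qb m) (qc m) (qhP m hmn).1 _ hM ψ hψa
  -- main induction
  have main : ∀ k, k ≤ n → y k - z k = 0 := by
    intro k
    induction k with
    | zero => intro _; exact W0
    | succ k ih =>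
      intro hk
      have hk' : k < n := hk
      have h1 : c k ≫ (shiftFunctor D (1 : ℤ)).map (y (k + 1) - z (k + 1)) = 0 := by
        rw [W3 k hk', ih (le_of_lt hk'), zero_comp]
      obtain ⟨t, ht⟩ := exists_factor_of_comp_shift_eq_zero (a (k + 1)) (b k) (c k) (hP k hk').1
        (y (k + 1) - z (k + 1)) h1
      have h2 : a (k + 1) ≫ (t ≫ qa (k + 1)) = 0 := by
        rw [← Category.assoc, ← ht, W1 (k + 1) hk]
      obtain ⟨r, hr⟩ : ∃ r : Y k ⟶ X'.X (k + 1), t ≫ qa (k + 1) = b k ≫ r :=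
        Triangle.yoneda_exact₂ _ (hP k hk').1 (t ≫ qa (k + 1)) h2
      have hr0 : r = 0 :=
        hs_zero_iff.1 (LA (k + 1) (by omega) hk k (Nat.lt_succ_self k) 0 (by push_cast; ring)) r
      have h3 : t ≫ qa (k + 1) = 0 := by rw [hr, hr0, comp_zero]
      have hM : HS (X.X (k + 1)) (qY k) 1 :=
        (hs_iff_ht 1 (-1) (by omega)).2
          (LB (k + 1) (by omega) hk k (Nat.lt_succ_self k) (-1) (by push_cast; ring))
      have ht0 : t = 0 :=
        eq_zero_of_comp_eq_zero (qa (k + 1)) (qb k) (qc k) (qhP k hk').1 _ hM t h3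
      rw [ht, ht0, comp_zero]
  exact sub_eq_zero.1 (main k hk)

end Groth.Agent.S6623
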