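import Groth.Statements.S6639
import Groth.Agent.Lib.helper13.QLinear
import Groth.Agent.Lib.helper13.PLinear

set_option autoImplicit false
universe u
open scoped TensorProduct
open EtBase

namespace Groth.Agent.S6639

/-- Let k ⟶ k' be a homomorphism of algebraically closed fields of characteristic p > 0 (an extension of
algebraically closed fields), V a finite-dimensional k-vector space, F : V ⟶ V additive with F(c •
v) = c^p • F(v), and F' the additive endomorphism of V' = k' ⊗_k V satisfying F'(c ⊗ v) = c^p ⊗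
F(v). Then v ↦ 1 ⊗ v maps the fixed vectors of F bijectively onto the fixed vectors of F'. -/
theorem result {k k' V : Type u} [Field k] [IsAlgClosed k] [Field k']
    [IsAlgClosed k'] [Algebra k k'] (p : ℕ) [Fact p.Prime] [CharP k p]
    [AddCommGroup V] [Module k V] [FiniteDimensional k V] (F : V →+ V)
    (hF : ∀ (c : k) (v : V), F (c • v) = c ^ p • F v)
    (F' : k' ⊗[k] V →+ k' ⊗[k] V) (hF' : ∀ (c : k') (v : V), F' (c ⊗ₜ[k] v) = (c ^ p) ⊗ₜ[k] F v) :
    Set.BijOn (fun v : V => (1 : k') ⊗ₜ[k] v) {v : V | F v = v} {w : k' ⊗[k] V | F' w = w} := by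
  classical
  have : CharP k' p := charP_of_injective_algebraMap (algebraMap k k').injective p
  have hq : ∀ (c : k) (v : V), F (c • v) = c ^ (p ^ 1) • F v := by
    intro c v; rw [pow_one]; exact hF c v
  have hF'smul : ∀ (c : k') (w : k' ⊗[k] V), F' (c • w) = c ^ (p ^ 1) • F' w := by
    intro c w
    rw [pow_one]
    induction w using TensorProduct.induction_on with
    | zero => simp
    | tmul a v =>
      rw [TensorProduct.smul_tmul', hF', hF', smul_eq_mul, mul_pow, TensorProduct.smul_tmul',
        smul_eq_mul]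
    | add x y hx hy => rw [smul_add, map_add, map_add, hx, hy, smul_add]
  let G := Groth.Agent.Lib.helper13.QLinear.ofAdd (p := p) (r := 1) F hq
  let G' := Groth.Agent.Lib.helper13.QLinear.ofAdd (p := p) (r := 1) F' hF'smul
  have hG'coe : (⇑G' : k' ⊗[k] V → k' ⊗[k] V) = ⇑F' := rfl
  have hGcoe : (⇑G : V → V) = ⇑F := rfl
  refine ⟨?_, ?_, ?_⟩
  · intro v hv
    show F' (1 ⊗ₜ[k] v) = 1 ⊗ₜ[k] v
    have hv' : F v = v := hv
    rw [hF', one_pow, hv']
  · intro v _ v' _ h
    exact Module.Flat.tensorProduct_mk_injective k V k' h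
  · intro w hw
    have hw' : F' w = w := hw
    obtain ⟨b, hb, hrep⟩ := Groth.Agent.Lib.helper13.QLinear.Vss_basis (p := p) (r := 1)
      Nat.one_pos G
    -- iterates of F' on pure tensors
    have hiter : ∀ (m : ℕ) (c : k') (v : V),
        (⇑F')^[m] (c ⊗ₜ[k] v) = (c ^ (p ^ m)) ⊗ₜ[k] ((⇑F)^[m] v) := by
      intro m
      induction m with
      | zero => intro c v; simp
      | succ m ih =>
        intro c v
        rw [Function.iterate_succ_apply', ih, hF', Function.iterate_succ_apply', ← pow_mul,
          pow_succ]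
    -- Claim A
    obtain ⟨m, hm, -⟩ := Groth.Agent.Lib.helper13.QLinear.Vss_eq G
    have hA1 : ∀ x : k' ⊗[k] V, (⇑F')^[m] x ∈
        Submodule.span k' ((fun v : V => (1 : k') ⊗ₜ[k] v) ''
          (Groth.Agent.Lib.helper13.QLinear.Vss G : Set V)) := by
      intro x
      induction x using TensorProduct.induction_on with
      | zero =>
        rw [← hG'coe, Groth.Agent.Lib.helper13.QLinear.iter_zero]
        exact Submodule.zero_mem _
      | tmul c v =>
        rw [hiter]
        have : (c ^ (p ^ m)) ⊗ₜ[k] ((⇑F)^[m] v) = (c ^ (p ^ m)) • ((1 : k') ⊗ₜ[k] ((⇑F)^[m] v)) := by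
          rw [TensorProduct.smul_tmul', smul_eq_mul, mul_one]
        rw [this]
        apply Submodule.smul_mem
        apply Submodule.subset_span
        refine ⟨(⇑F)^[m] v, ?_, rfl⟩
        rw [hm]
        exact Submodule.subset_span ⟨v, rfl⟩
      | add x y hx hy =>
        rw [← hG'coe, Groth.Agent.Lib.helper13.QLinear.iter_add]
        exact Submodule.add_mem _ hx hy
    have hwm : (⇑F')^[m] w = w := by
      rw [← hG'coe]
      exact Groth.Agent.Lib.helper13.QLinear.iter_fixed G' m hw'
    have hA2 : w ∈ Submodule.span k' (Set.range (fun i => (1 : k') ⊗ₜ[k] (b i : V))) := by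
      have h1 := hA1 w
      rw [hwm] at h1
      refine Submodule.span_le.mpr ?_ h1
      rintro _ ⟨u, hu, rfl⟩
      have hu' := congrArg Subtype.val (b.sum_repr ⟨u, hu⟩)
      simp only [Submodule.coe_sum, Submodule.coe_smul] at hu'
      show (1 : k') ⊗ₜ[k] u ∈ _
      rw [← hu', TensorProduct.tmul_sum]
      apply Submodule.sum_mem
      intro i _
      rw [TensorProduct.tmul_smul, ← algebraMap_smul k' (b.repr ⟨u, hu⟩ i)]
      exact Submodule.smul_mem _ _ (Submodule.subset_span ⟨i, rfl⟩)
    -- Claim B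
    have hli0 : LinearIndependent k (fun i => (b i : V)) :=
      b.linearIndependent.map' (Groth.Agent.Lib.helper13.QLinear.Vss G).subtype
        (Submodule.ker_subtype _)
    have hli : LinearIndependent k' (fun i => (1 : k') ⊗ₜ[k] (b i : V)) :=
      Module.Flat.linearIndependent_one_tmul hli0
    obtain ⟨c, hc⟩ := (Submodule.mem_span_range_iff_exists_fun k').mp hA2
    -- apply F'
    have hfix' : ∀ i, F' ((1 : k') ⊗ₜ[k] (b i : V)) = (1 : k') ⊗ₜ[k] (b i : V) := by
      intro i
      rw [hF', one_pow]
      have := hb i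
      rw [hGcoe] at this
      rw [this]
    have hFw : F' w = ∑ i, (c i) ^ p • ((1 : k') ⊗ₜ[k] (b i : V)) := by
      rw [← hc, map_sum]
      apply Finset.sum_congr rfl
      intro i _
      rw [hF'smul, pow_one, hfix']
    have hcp : ∀ i, (c i) ^ p = c i := by
      have h0 : ∑ i, (c i) ^ p • ((1 : k') ⊗ₜ[k] (b i : V)) =
          ∑ i, c i • ((1 : k') ⊗ₜ[k] (b i : V)) := by
        rw [← hFw, hc, hw']
      exact hli.eq_coords_of_eq h0
    have hint : ∀ i, ∃ n : ℤ, (n : k') = c i :=
      fun i => Groth.Agent.Lib.helper13.PLinear.exists_int_of_pow_eq (p := p) (c i) (hcp i)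
    choose n hn using hint
    refine ⟨∑ i, n i • (b i : V), ?_, ?_⟩
    · show F (∑ i, n i • (b i : V)) = ∑ i, n i • (b i : V)
      rw [map_sum]
      apply Finset.sum_congr rfl
      intro i _
      rw [map_zsmul]
      have := hb i
      rw [hGcoe] at this
      rw [this]
    · show (1 : k') ⊗ₜ[k] (∑ i, n i • (b i : V)) = w
      rw [← hc, TensorProduct.tmul_sum]
      apply Finset.sum_congr rfl
      intro i _
      rw [← hn i, Int.cast_smul_eq_zsmul, TensorProduct.tmul_smul]

end Groth.Agent.S6639
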