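import Groth.Statements.S6685
import Mathlib
import Groth.Agent.Lib.helper23.InjRestr

set_option autoImplicit false
universe u
open CategoryTheory CategoryTheory.Limits AlgebraicGeometry Opposite
open BigSite

namespace Groth.Agent.S6685

/-- Let S be a scheme, I an injective abelian sheaf on the big etale site of S and f : T → S a scheme
over S. Then (b) the restriction I|_{S_et} of I to the small etale site of S is injective, and (a)
the restriction i_f⁻¹ I of I to the small etale site of T (sections over an etale U → T are the
sections of I over U → S) is injective. -/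
theorem result (S : Scheme.{u}) (I : BigSite.Ab Scheme.etalePrecoverage S) [Injective I]
    {T : Scheme.{u}} (f : T ⟶ S) :
    Injective ((BigSite.resEt Scheme.etalePrecoverage S).obj I) ∧
      Injective ((BigSite.resEtAlong Scheme.etalePrecoverage f).obj I) := by
  have hflat : ∀ (Z : Scheme.{u}), PreservesFiniteLimits ((EtFppf.a Z).op.lan :
      (Z.Etaleᵒᵖ ⥤ AddCommGrpCat.{u + 1}) ⥤ ((Over Z)ᵒᵖ ⥤ AddCommGrpCat.{u + 1})) := by
    intro Z
    have : PreservesFiniteLimits (EtFppf.a Z) :=
      inferInstanceAs (PreservesFiniteLimits (Scheme.Etale.forget Z))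
    have : RepresentablyFlat (EtFppf.a Z) := flat_of_preservesFiniteLimits _
    exact FlatLan.lan_preservesFiniteLimits_of_flat (EtFppf.a Z)
  refine ⟨?_, ?_⟩
  · exact InjRestr.injective_pushforward (EtFppf.a S) S.smallEtaleTopology
      (QuotSh.J Scheme.etalePrecoverage S) (hflat S) I
  · have h1 : PreservesFiniteLimits (BigSite.shriekAb Scheme.etalePrecoverage f) :=
      OverShriek.sheafPullback_preservesFiniteLimits f (QuotSh.J Scheme.etalePrecoverage T)
        (QuotSh.J Scheme.etalePrecoverage S)
    have h2 : Injective ((BigSite.pullBig Scheme.etalePrecoverage f AddCommGrpCat.{u + 1}).obj I) :=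
      Injective.injective_of_adjoint (BigSite.shriekAbAdj Scheme.etalePrecoverage f) I
    exact InjRestr.injective_pushforward (EtFppf.a T) T.smallEtaleTopology
      (QuotSh.J Scheme.etalePrecoverage T) (hflat T) _

end Groth.Agent.S6685
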