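import Groth.Statements.S6686
import Mathlib
import Groth.Agent.Lib.helper23.OverShriek
import Groth.Agent.Lib.helper23.RDPrecomp
import Groth.Agent.Lib.helper18.RDCompExact
import Groth.Agent.S12465
import Groth.Agent.Lib.helper23.BigSmall

set_option autoImplicit false
universe u
open CategoryTheory CategoryTheory.Limits AlgebraicGeometry Opposite
open BigSite

namespace Groth.Agent.S6686

/-- Part (3): for an abelian sheaf and degree by degree: let f : T → S be a morphism of schemes, g : S'
→ S a scheme over S and T' = S' ×_S T with projections g' : T' → T and f' : T' → S'. For an abelian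
sheaf F on the big etale site of T and every q ≥ 0, the restriction i_g⁻¹ (R^q f_{big,*} F) to the
small etale site of S' is isomorphic to R^q f'_{small,*} (i_{g'}⁻¹ F), where i_h⁻¹ restricts a
big-etale sheaf over a base to the small etale site of a scheme h over that base. (Existence of an
isomorphism only: the comparison map is not constructed here. For g the identity of S this gives
(R^q f_{big,*} F)|_{S_et} ≅ R^q f_{small,*} (F|_{T_et}).) -/
theorem result {T S T' S' : Scheme.{u}} (f : T ⟶ S) (g : S' ⟶ S)
    (g' : T' ⟶ T) (f' : T' ⟶ S') (c : IsPullback g' f' f g) (F : BigSite.Ab Scheme.etalePrecoverage T) (q : ℕ) :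
    Nonempty ((BigSite.resEtAlong Scheme.etalePrecoverage g).obj ((BigSite.RpushBig Scheme.etalePrecoverage f q).obj F) ≅
      (EtCoh.Rpush f' q).obj ((BigSite.resEtAlong Scheme.etalePrecoverage g').obj F)) := by
  classical
  let K := Scheme.etalePrecoverage.{u}
  -- exactness of the restriction functors
  haveI hg_l : PreservesLimitsOfSize.{0, 0} (BigSite.pullBig K g AddCommGrpCat.{u + 1}) :=
    (BigSite.shriekAbAdj K g).rightAdjoint_preservesLimits
  haveI hg_c : PreservesColimitsOfSize.{0, 0} (BigSite.pullBig K g AddCommGrpCat.{u + 1}) :=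
    (BigSite.bigAdj K g AddCommGrpCat.{u + 1}).leftAdjoint_preservesColimits
  haveI hg'_l : PreservesLimitsOfSize.{0, 0} (BigSite.pullBig K g' AddCommGrpCat.{u + 1}) :=
    (BigSite.shriekAbAdj K g').rightAdjoint_preservesLimits
  haveI hg'_c : PreservesColimitsOfSize.{0, 0} (BigSite.pullBig K g' AddCommGrpCat.{u + 1}) :=
    (BigSite.bigAdj K g' AddCommGrpCat.{u + 1}).leftAdjoint_preservesColimits
  haveI : PreservesFiniteLimits (BigSite.pullBig K g AddCommGrpCat.{u + 1}) :=
    PreservesLimitsOfSize.preservesFiniteLimits _
  haveI : PreservesFiniteColimits (BigSite.pullBig K g AddCommGrpCat.{u + 1}) :=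
    PreservesColimitsOfSize.preservesFiniteColimits _
  haveI : PreservesFiniteLimits (BigSite.pullBig K g' AddCommGrpCat.{u + 1}) :=
    PreservesLimitsOfSize.preservesFiniteLimits _
  haveI : PreservesFiniteColimits (BigSite.pullBig K g' AddCommGrpCat.{u + 1}) :=
    PreservesColimitsOfSize.preservesFiniteColimits _
  haveI := BigSmall.resEt_preservesFiniteLimits S'
  haveI := BigSmall.resEt_preservesFiniteColimits S'
  haveI := BigSmall.resEt_preservesFiniteLimits T'
  haveI := BigSmall.resEt_preservesFiniteColimits T'
  haveI : PreservesFiniteLimits (BigSite.resEtAlong K g) := comp_preservesFiniteLimits _ _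
  haveI : PreservesFiniteColimits (BigSite.resEtAlong K g) := comp_preservesFiniteColimits _ _
  haveI : PreservesFiniteLimits (BigSite.resEtAlong K g') := comp_preservesFiniteLimits _ _
  haveI : PreservesFiniteColimits (BigSite.resEtAlong K g') := comp_preservesFiniteColimits _ _
  haveI : (BigSite.resEtAlong K g).Additive := inferInstance
  haveI : (BigSite.resEtAlong K g').Additive := inferInstance
  haveI hPg : (BigSite.resEtAlong K g).PreservesHomology := {}
  haveI hPg' : (BigSite.resEtAlong K g').PreservesHomology := {}
  -- restriction preserves injectives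
  have hinj : ∀ I : BigSite.Ab K T, Injective I →
      Injective ((BigSite.resEtAlong K g').obj I) := by
    intro I hI
    haveI : PreservesFiniteLimits (BigSite.shriekAb K g') :=
      OverShriek.sheafPullback_preservesFiniteLimits g' (QuotSh.J K T') (QuotSh.J K T)
    haveI : Injective ((BigSite.pullBig K g' AddCommGrpCat.{u + 1}).obj I) :=
      Injective.injective_of_adjoint (BigSite.shriekAbAdj K g') I
    haveI := BigSmall.piEtPull_preservesFiniteLimits T'
    exact Injective.injective_of_adjoint (BigSite.piEtAdj K T')
      ((BigSite.pullBig K g' AddCommGrpCat.{u + 1}).obj I)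
  -- base change for the underived functors
  obtain ⟨e⟩ : Nonempty (BigSite.pushBig K f AddCommGrpCat.{u + 1} ⋙
      BigSite.resEtAlong K g ≅ BigSite.resEtAlong K g' ⋙ EtCoh.push f') :=
    Groth.Agent.S12465.result f g g' f' c
  haveI : (BigSite.pushBig K f AddCommGrpCat.{u + 1} ⋙ BigSite.resEtAlong K g).Additive :=
    inferInstance
  haveI : (BigSite.resEtAlong K g' ⋙ EtCoh.push f').Additive := inferInstance
  exact ⟨(Groth.Agent.H18.RDCompExact.natIso (BigSite.pushBig K f AddCommGrpCat.{u + 1})
      (BigSite.resEtAlong K g) q).app F ≪≫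
    (RDPrecomp.rightDerivedIsoOfIso e q).app F ≪≫
    RDPrecomp.objIso (BigSite.resEtAlong K g') hinj (EtCoh.push f') F q⟩

end Groth.Agent.S6686
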