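import Groth.Statements.S6696
import Mathlib
import Groth.Agent.Lib.helper23.OverShriek
import Groth.Agent.Lib.helper23.RDPrecomp
import Groth.Agent.Lib.helper18.RDCompExact
import Groth.Agent.S12464

set_option autoImplicit false
universe u
open CategoryTheory CategoryTheory.Limits AlgebraicGeometry Opposite
open BigSite

namespace Groth.Agent.S6696

/-- Part (5): for an abelian sheaf and degree by degree: let f : T → S be a morphism of schemes, g : S'
→ S a scheme over S and T' = S' ×_S T with projections g' : T' → T and f' : T' → S'. For an abelian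
sheaf F on the big etale site of T and every q ≥ 0, the restriction g_big⁻¹ (R^q f_{big,*} F) of the
big-site higher direct image to the big etale site of S' is isomorphic to R^q f'_{big,*} (g'_big⁻¹
F). (Existence of an isomorphism only.) -/
theorem result {T S T' S' : Scheme.{u}} (f : T ⟶ S) (g : S' ⟶ S)
    (g' : T' ⟶ T) (f' : T' ⟶ S') (c : IsPullback g' f' f g) (F : BigSite.Ab Scheme.etalePrecoverage T) (q : ℕ) :
    Nonempty ((BigSite.pullBig Scheme.etalePrecoverage g AddCommGrpCat.{u + 1}).obj
        ((BigSite.RpushBig Scheme.etalePrecoverage f q).obj F) ≅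
      (BigSite.RpushBig Scheme.etalePrecoverage f' q).obj
        ((BigSite.pullBig Scheme.etalePrecoverage g' AddCommGrpCat.{u + 1}).obj F)) := by
  classical
  let K := Scheme.etalePrecoverage.{u}
  -- exactness of the restriction functors
  haveI hg_l : PreservesLimitsOfSize.{0, 0} (BigSite.pullBig K g AddCommGrpCat.{u + 1}) :=
    (BigSite.shriekAbAdj K g).rightAdjoint_preservesLimits
  haveI hg_c : PreservesColimitsOfSize.{0, 0} (BigSite.pullBig K g AddCommGrpCat.{u + 1}) :=
    (BigSite.bigAdj K g AddCommGrpCat.{u + 1}).leftAdjoint_preservesColimits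
  haveI hg'_l : PreservesLimitsOfSize.{0, 0} (BigSite.pullBig K g' AddCommGrpCat.{u + 1}) :=
    (BigSite.shriekAbAdj K g').rightAdjoint_preservesLimits
  haveI hg'_c : PreservesColimitsOfSize.{0, 0} (BigSite.pullBig K g' AddCommGrpCat.{u + 1}) :=
    (BigSite.bigAdj K g' AddCommGrpCat.{u + 1}).leftAdjoint_preservesColimits
  haveI : PreservesFiniteLimits (BigSite.pullBig K g AddCommGrpCat.{u + 1}) :=
    PreservesLimitsOfSize.preservesFiniteLimits _
  haveI : PreservesFiniteColimits (BigSite.pullBig K g AddCommGrpCat.{u + 1}) :=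
    PreservesColimitsOfSize.preservesFiniteColimits _
  haveI : PreservesFiniteLimits (BigSite.pullBig K g' AddCommGrpCat.{u + 1}) :=
    PreservesLimitsOfSize.preservesFiniteLimits _
  haveI : PreservesFiniteColimits (BigSite.pullBig K g' AddCommGrpCat.{u + 1}) :=
    PreservesColimitsOfSize.preservesFiniteColimits _
  haveI hPg : (BigSite.pullBig K g AddCommGrpCat.{u + 1}).PreservesHomology := {}
  haveI hPg' : (BigSite.pullBig K g' AddCommGrpCat.{u + 1}).PreservesHomology := {}
  -- restriction preserves injectives
  have hinj : ∀ I : BigSite.Ab K T, Injective I →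
      Injective ((BigSite.pullBig K g' AddCommGrpCat.{u + 1}).obj I) := by
    intro I hI
    haveI : PreservesFiniteLimits (BigSite.shriekAb K g') :=
      OverShriek.sheafPullback_preservesFiniteLimits g' (QuotSh.J K T') (QuotSh.J K T)
    exact Injective.injective_of_adjoint (BigSite.shriekAbAdj K g') I
  -- base change for the underived functors
  obtain ⟨e⟩ : Nonempty (BigSite.pushBig K f AddCommGrpCat.{u + 1} ⋙
      BigSite.pullBig K g AddCommGrpCat.{u + 1} ≅
      BigSite.pullBig K g' AddCommGrpCat.{u + 1} ⋙ BigSite.pushBig K f' AddCommGrpCat.{u + 1}) :=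
    (Groth.Agent.S12464.result f g g' f' c AddCommGrpCat.{u + 1}).2
  haveI : (BigSite.pushBig K f AddCommGrpCat.{u + 1} ⋙
      BigSite.pullBig K g AddCommGrpCat.{u + 1}).Additive := inferInstance
  haveI : (BigSite.pullBig K g' AddCommGrpCat.{u + 1} ⋙
      BigSite.pushBig K f' AddCommGrpCat.{u + 1}).Additive := inferInstance
  exact ⟨(Groth.Agent.H18.RDCompExact.natIso (BigSite.pushBig K f AddCommGrpCat.{u + 1})
      (BigSite.pullBig K g AddCommGrpCat.{u + 1}) q).app F ≪≫
    (RDPrecomp.rightDerivedIsoOfIso e q).app F ≪≫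
    RDPrecomp.objIso (BigSite.pullBig K g' AddCommGrpCat.{u + 1}) hinj
      (BigSite.pushBig K f' AddCommGrpCat.{u + 1}) F q⟩

end Groth.Agent.S6696
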