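import Groth.Statements.S6697
import Mathlib
import Groth.Agent.Lib.helper23.KInjAdj
import Groth.Agent.Lib.helper23.BigSmall

set_option autoImplicit false
universe u
open CategoryTheory CategoryTheory.Limits AlgebraicGeometry Opposite
open BigSite

namespace Groth.Agent.S6697

/-- Let S be a scheme, I a K-injective complex of abelian sheaves on the big etale site of S (every
morphism from an acyclic complex to I is null-homotopic) and f : T → S a scheme over S. Then (b) the
termwise restriction I|_{S_et} to the small etale site of S is K-injective, and (a) the termwise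
restriction i_f⁻¹ I to the small etale site of T is K-injective. -/
theorem result (S : Scheme.{u})
    (I : CochainComplex (BigSite.Ab Scheme.etalePrecoverage S) ℤ) [I.IsKInjective] {T : Scheme.{u}} (f : T ⟶ S) :
    CochainComplex.IsKInjective (((BigSite.resEt Scheme.etalePrecoverage S).mapHomologicalComplex (ComplexShape.up ℤ)).obj I) ∧
      CochainComplex.IsKInjective (((BigSite.resEtAlong Scheme.etalePrecoverage f).mapHomologicalComplex (ComplexShape.up ℤ)).obj I) := by
  have hL : ∀ Z : Scheme.{u}, PreservesFiniteLimits (BigSite.piEtPull Scheme.etalePrecoverage Z) :=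
    fun Z => BigSmall.piEtPull_preservesFiniteLimits Z
  have hL' : ∀ Z : Scheme.{u}, PreservesFiniteColimits (BigSite.piEtPull Scheme.etalePrecoverage Z) :=
    fun Z => BigSmall.piEtPull_preservesFiniteColimits Z
  have hA : ∀ Z : Scheme.{u}, (BigSite.piEtPull Scheme.etalePrecoverage Z).Additive :=
    fun Z => (BigSite.piEtAdj Scheme.etalePrecoverage Z).left_adjoint_additive
  refine ⟨?_, ?_⟩
  · have := hL S
    have := hL' S
    have := hA S
    exact KInjAdj.isKInjective_map (BigSite.piEtAdj Scheme.etalePrecoverage S) I
  · have := hL T
    have := hL' T
    have := hA T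
    have h1 : PreservesFiniteLimits (BigSite.shriekAb Scheme.etalePrecoverage f) :=
      OverShriek.sheafPullback_preservesFiniteLimits f (QuotSh.J Scheme.etalePrecoverage T)
        (QuotSh.J Scheme.etalePrecoverage S)
    have h2 : PreservesFiniteColimits (BigSite.shriekAb Scheme.etalePrecoverage f) := by
      have := (BigSite.shriekAbAdj Scheme.etalePrecoverage f).leftAdjoint_preservesColimits
      infer_instance
    have h3 : (BigSite.shriekAb Scheme.etalePrecoverage f).Additive :=
      (BigSite.shriekAbAdj Scheme.etalePrecoverage f).left_adjoint_additive
    exact KInjAdj.isKInjective_map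
      ((BigSite.piEtAdj Scheme.etalePrecoverage T).comp
        (BigSite.shriekAbAdj Scheme.etalePrecoverage f)) I

end Groth.Agent.S6697
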