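import Groth.Statements.S6703
import Mathlib
-- import your own Groth.Agent.* helpers here

set_option autoImplicit false
universe v v' u u'
open CategoryTheory
open DEquiv

namespace Groth.Agent.S6703

section helpers
open CategoryTheory Limits Pretriangulated
set_option linter.unusedSectionVars false

lemma bij_transfer {α β γ δ : Type*} (σ : α → γ) (τ : β → δ) (φ : α → β) (ψ : γ → δ)
    (hσ : Function.Bijective σ) (hτ : Function.Bijective τ) (h : ∀ a, ψ (σ a) = τ (φ a))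
    (hφ : Function.Bijective φ) : Function.Bijective ψ := by
  have : ψ ∘ σ = τ ∘ φ := funext h
  have h2 : Function.Bijective (ψ ∘ σ) := by rw [this]; exact hτ.comp hφ
  exact (Function.Bijective.of_comp_iff ψ hσ).1 h2

lemma bij_conj {C : Type*} [Category C] {C' : Type*} [Category C'] (Φ : C ⥤ C') [Φ.Full] [Φ.Faithful]
    {X Y : C} {X' Y' : C'} (a : X' ≅ Φ.obj X) (b : Φ.obj Y ≅ Y') :
    Function.Bijective (fun g : X ⟶ Y => a.hom ≫ Φ.map g ≫ b.hom) := by
  constructor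
  · intro g g' h
    simp only [cancel_epi, cancel_mono] at h
    exact Φ.map_injective h
  · intro k
    obtain ⟨g, hg⟩ := Φ.map_surjective (a.inv ≫ k ≫ b.inv)
    exact ⟨g, by simp [hg]⟩

section
variable {D : Type u} [Category.{v} D] [Preadditive D] [HasZeroObject D] [HasShift D ℤ]
    [∀ n : ℤ, (shiftFunctor D n).Additive] [Pretriangulated D]
    {D' : Type u'} [Category.{v'} D'] [Preadditive D'] [HasZeroObject D'] [HasShift D' ℤ]
    [∀ n : ℤ, (shiftFunctor D' n).Additive] [Pretriangulated D']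
    (F : D ⥤ D') [F.CommShift ℤ]

def Good (X : D) : Prop := ∀ Y : D, Function.Bijective (fun f : X ⟶ Y => F.map f)

lemma good_shift (X : D) (hX : Good F X) (n : ℤ) : Good F (X⟦n⟧) := by
  intro Y
  let e : (Y⟦-n⟧)⟦n⟧ ≅ Y := (shiftFunctorCompIsoId D (-n) n (by omega)).app Y
  let c := F.commShiftIso n
  refine bij_transfer (fun g : X ⟶ Y⟦-n⟧ => 𝟙 _ ≫ (shiftFunctor D n).map g ≫ e.hom)
    (fun k : F.obj X ⟶ F.obj (Y⟦-n⟧) => (c.app X).hom ≫ (shiftFunctor D' n).map k ≫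
      ((c.app (Y⟦-n⟧)).symm ≪≫ F.mapIso e).hom)
    (fun g => F.map g) _ (bij_conj (shiftFunctor D n) (Iso.refl _) e)
    (bij_conj (shiftFunctor D' n) (c.app X) ((c.app (Y⟦-n⟧)).symm ≪≫ F.mapIso e)) ?_ (hX (Y⟦-n⟧))
  intro g
  have := c.hom.naturality g
  dsimp at this ⊢
  simp only [Category.id_comp, Functor.map_comp, ← Category.assoc]
  congr 1
  rw [← this]
  simp [c]


lemma bij_post {C : Type*} [Category C] {X Y Y' : C} (e : Y ≅ Y') :
    Function.Bijective (fun g : X ⟶ Y => g ≫ e.hom) :=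
  ⟨fun _ _ h => (cancel_mono e.hom).1 h, fun k => ⟨k ≫ e.inv, by simp⟩⟩

lemma counit_iso {G : D' ⥤ D} (adj : G ⊣ F) (E : D) (S : Set D)
    (h3 : ∀ K : D, (∀ E ∈ S, ∀ (i : ℤ) (f : K ⟶ (shiftFunctor D i).obj E), f = 0) → IsZero K)
    (hE : ∀ E' ∈ S, ∀ i : ℤ,
      Function.Bijective (fun f : E ⟶ (shiftFunctor D i).obj E' => F.map f)) :
    IsIso (adj.counit.app E) := by
  obtain ⟨C, p, q, hT⟩ := distinguished_cocone_triangle (adj.counit.app E)
  suffices IsZero C from (Triangle.isZero₃_iff_isIso₁ _ hT).1 this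
  apply h3
  intro E' hE' i x
  have key : ∀ B : D, Function.Bijective (fun f : E ⟶ B => F.map f) →
      Function.Bijective (fun f : E ⟶ B => adj.counit.app E ≫ f) := by
    intro B hB
    have : (fun f : E ⟶ B => adj.counit.app E ≫ f) =
        (adj.homEquiv _ _).symm ∘ (fun f => F.map f) := by
      funext f
      simp [Adjunction.homEquiv_counit]
    rw [this]
    exact (Equiv.bijective _).comp hB
  have b1 := key _ (hE E' hE' i)
  have b2 : Function.Bijective (fun f : E ⟶ (E'⟦i⟧)⟦(-1 : ℤ)⟧ => F.map f) := by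
    let e : E'⟦i-1⟧ ≅ (E'⟦i⟧)⟦(-1:ℤ)⟧ := (shiftFunctorAdd' D i (-1) (i-1) (by omega)).app E'
    exact bij_transfer (fun g : E ⟶ E'⟦i-1⟧ => g ≫ e.hom) (fun k => k ≫ (F.mapIso e).hom)
      (fun g => F.map g) _ (bij_post e) (bij_post (F.mapIso e)) (by intro g; simp)
      (hE E' hE' (i-1))
  have b2' := key _ b2
  have h1 : p ≫ x = 0 := b1.1 (by
    have : adj.counit.app E ≫ p = 0 := comp_distTriang_mor_zero₁₂ _ hT
    change adj.counit.app E ≫ p ≫ x = adj.counit.app E ≫ 0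
    rw [← Category.assoc, this, zero_comp, comp_zero])
  obtain ⟨y, rfl⟩ := Triangle.yoneda_exact₃ _ hT x h1
  have adjS : shiftFunctor D (1:ℤ) ⊣ shiftFunctor D (-1 : ℤ) := (shiftEquiv D (1:ℤ)).toAdjunction
  obtain ⟨z', hz'⟩ := b2'.2 (adjS.homEquiv _ _ y)
  have : y = (adj.counit.app E)⟦(1:ℤ)⟧' ≫ (adjS.homEquiv _ _).symm z' := by
    apply (adjS.homEquiv _ _).injective
    erw [Adjunction.homEquiv_naturality_left]
    rw [Equiv.apply_symm_apply]
    exact hz'.symm
  rw [this]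
  have h31 : q ≫ (adj.counit.app E)⟦(1:ℤ)⟧' = 0 := comp_distTriang_mor_zero₃₁ _ hT
  change q ≫ (adj.counit.app E)⟦(1:ℤ)⟧' ≫ _ = 0
  rw [← Category.assoc, h31, zero_comp]

lemma unit_iso {H : D' ⥤ D} (adj' : F ⊣ H) (A : D) (S : Set D)
    (h2 : ∀ K : D, (∀ E ∈ S, ∀ (i : ℤ) (f : E ⟶ (shiftFunctor D i).obj K), f = 0) → IsZero K)
    (hgood : ∀ E ∈ S, Good F E) : IsIso (adj'.unit.app A) := by
  obtain ⟨C, p, q, hT⟩ := distinguished_cocone_triangle (adj'.unit.app A)
  suffices IsZero C from (Triangle.isZero₃_iff_isIso₁ _ hT).1 this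
  apply h2
  intro E hE i f
  have adjS : shiftFunctor D (-i) ⊣ shiftFunctor D i := (shiftEquiv D i).symm.toAdjunction
  obtain ⟨f₀, rfl⟩ := (adjS.homEquiv _ _).surjective f
  suffices f₀ = 0 by
    rw [this, Adjunction.homEquiv_unit, Functor.map_zero, comp_zero]
  have gB : Good F (E⟦-i⟧) := good_shift F E (hgood E hE) (-i)
  have gB1 : Good F ((E⟦-i⟧)⟦(-1:ℤ)⟧) := good_shift F _ gB (-1)
  have key : ∀ B, Good F B → Function.Bijective (fun g : B ⟶ A => g ≫ adj'.unit.app A) := by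
    intro B hB
    have : (fun g : B ⟶ A => g ≫ adj'.unit.app A) =
        (adj'.homEquiv _ _) ∘ (fun g => F.map g) := by
      funext g
      simp [Adjunction.homEquiv_unit]
    rw [this]
    exact (Equiv.bijective _).comp (hB A)
  have adj1 : shiftFunctor D (-1 : ℤ) ⊣ shiftFunctor D (1 : ℤ) :=
    (shiftEquiv D (1:ℤ)).symm.toAdjunction
  have h31 : q ≫ (adj'.unit.app A)⟦(1:ℤ)⟧' = 0 := comp_distTriang_mor_zero₃₁ _ hT
  have h1 : f₀ ≫ q = 0 := by
    have e : (adj1.homEquiv _ _).symm ((f₀ ≫ q) ≫ (adj'.unit.app A)⟦(1:ℤ)⟧') =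
        (adj1.homEquiv _ _).symm (f₀ ≫ q) ≫ adj'.unit.app A :=
      Adjunction.homEquiv_naturality_right_symm adj1 (f₀ ≫ q) (adj'.unit.app A)
    have e0 : (f₀ ≫ q) ≫ (adj'.unit.app A)⟦(1:ℤ)⟧' = 0 := by rw [Category.assoc, h31, comp_zero]
    have z0 : ∀ (X Y : D), (adj1.homEquiv X Y).symm 0 = 0 := fun X Y => by
      rw [Adjunction.homEquiv_counit, Functor.map_zero, zero_comp]
    have e1 : (adj1.homEquiv _ _).symm (f₀ ≫ q) = 0 := by
      apply (key _ gB1).1
      dsimp only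
      rw [← e, e0, zero_comp, z0]
    apply (adj1.homEquiv _ _).symm.injective
    rw [e1, z0]
  obtain ⟨v, rfl⟩ := Triangle.coyoneda_exact₃ _ hT f₀ h1
  obtain ⟨w, rfl⟩ := (key _ gB).2 v
  have h12 : adj'.unit.app A ≫ p = 0 := comp_distTriang_mor_zero₁₂ _ hT
  change (w ≫ adj'.unit.app A) ≫ p = 0
  rw [Category.assoc, h12, comp_zero]


theorem main [F.IsLeftAdjoint] [F.IsRightAdjoint] (S : Set D)
    (h2 : ∀ K : D, (∀ E ∈ S, ∀ (i : ℤ) (f : E ⟶ (shiftFunctor D i).obj K), f = 0) → IsZero K)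
    (h3 : ∀ K : D, (∀ E ∈ S, ∀ (i : ℤ) (f : K ⟶ (shiftFunctor D i).obj E), f = 0) → IsZero K)
    (h4 : ∀ E ∈ S, ∀ E' ∈ S, ∀ i : ℤ,
      Function.Bijective (fun f : E ⟶ (shiftFunctor D i).obj E' => F.map f)) :
    F.Full ∧ F.Faithful := by
  have adj := Adjunction.ofIsRightAdjoint F
  have adj' := Adjunction.ofIsLeftAdjoint F
  have hgood : ∀ E ∈ S, Good F E := by
    intro E hE Y
    have := counit_iso F adj E S h3 (h4 E hE)
    have e : (fun f : E ⟶ Y => F.map f) =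
        (adj.homEquiv _ _) ∘ (fun f : E ⟶ Y => adj.counit.app E ≫ f) := by
      funext f
      simp [Adjunction.homEquiv_unit]
    rw [e]
    refine (Equiv.bijective _).comp ⟨fun a b h => (cancel_epi _).1 h, fun k => ?_⟩
    exact ⟨inv (adj.counit.app E) ≫ k, by simp⟩
  have : ∀ A, IsIso (adj'.unit.app A) := fun A => unit_iso F adj' A S h2 hgood
  have : IsIso adj'.unit := NatIso.isIso_of_isIso_app _
  exact ⟨adj'.fullyFaithfulLOfIsIsoUnit.full, adj'.fullyFaithfulLOfIsIsoUnit.faithful⟩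

end


end helpers

open CategoryTheory.Limits CategoryTheory.Pretriangulated in
/-- Let F : D ⥤ D' be an exact functor of triangulated categories admitting both a left and a right
adjoint, and let S be a set of objects of D such that an object K of D is zero as soon as Hom(E,
K⟦i⟧) = 0 for all E ∈ S and i ∈ ℤ, and also as soon as Hom(K, E⟦i⟧) = 0 for all E ∈ S and i ∈ ℤ. If
for all E, E' ∈ S and i ∈ ℤ the map Hom(E, E'⟦i⟧) → Hom(F E, F (E'⟦i⟧)) given by F is bijective,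
then F is full and faithful. -/
theorem result
    {D : Type u} [Category.{v} D] [Preadditive D] [HasZeroObject D] [HasShift D ℤ]
    [∀ n : ℤ, (shiftFunctor D n).Additive] [Pretriangulated D] [IsTriangulated D]
    {D' : Type u'} [Category.{v'} D'] [Preadditive D'] [HasZeroObject D'] [HasShift D' ℤ]
    [∀ n : ℤ, (shiftFunctor D' n).Additive] [Pretriangulated D'] [IsTriangulated D']
    (F : D ⥤ D') [F.CommShift ℤ] [F.IsTriangulated] [F.IsLeftAdjoint] [F.IsRightAdjoint]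
    (S : Set D)
    (h2 : ∀ K : D, (∀ E ∈ S, ∀ (i : ℤ) (f : E ⟶ (shiftFunctor D i).obj K), f = 0) → IsZero K)
    (h3 : ∀ K : D, (∀ E ∈ S, ∀ (i : ℤ) (f : K ⟶ (shiftFunctor D i).obj E), f = 0) → IsZero K)
    (h4 : ∀ E ∈ S, ∀ E' ∈ S, ∀ i : ℤ,
      Function.Bijective (fun f : E ⟶ (shiftFunctor D i).obj E' => F.map f)) :
    F.Full ∧ F.Faithful := by
  exact main F S h2 h3 h4

end Groth.Agent.S6703
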