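import Groth.Statements.S6707
-- import your own Groth.Agent.* helpers here

set_option autoImplicit false
set_option linter.style.haveILetI false
universe w v u
open CategoryTheory
open DEquiv

namespace Groth.Agent.S6707

open CategoryTheory.Limits in
/-- Let A be an abelian category in which every object X is the target of an epimorphism N ⟶ X with
Hom(X, N) = 0. Let f : X ⟶ X' be a morphism between bounded objects of D(A) and b an integer with
H^i(X) = 0 for i > b and H^i(X') = 0 for i ≥ b. Then there exist an object N of A and a morphism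
N⟦-b⟧ ⟶ X (N placed in degree b) inducing an epimorphism N ⟶ H^b(X), with Hom(H^b(X), N) = 0, and
whose composite with f is zero. -/
theorem result
    {A : Type u} [Category.{v} A] [Abelian A] [HasDerivedCategory.{w} A]
    (hneg : ∀ X : A, ∃ (N : A) (p : N ⟶ X), Epi p ∧ ∀ f : X ⟶ N, f = 0)
    (X X' : DerivedCategory A) (f : X ⟶ X') (a b a' : ℤ) [X.IsGE a] [X.IsLE b] [X'.IsGE a']
    [X'.IsLE (b - 1)] :
    ∃ (N : A) (g : (DerivedCategory.singleFunctor A b).obj N ⟶ X),
      Epi ((DerivedCategory.homologyFunctor A b).map g) ∧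
        (∀ φ : (DerivedCategory.homologyFunctor A b).obj X ⟶ N, φ = 0) ∧ g ≫ f = 0 := by
  classical
  obtain ⟨K, hK, ⟨eX⟩⟩ := DerivedCategory.exists_iso_Q_obj_of_isLE X b
  obtain ⟨K', hK', ⟨eX'⟩⟩ := DerivedCategory.exists_iso_Q_obj_of_isLE X' (b - 1)
  obtain ⟨K'', hK'', s, hs, γ, hfac⟩ :=
    DerivedCategory.right_fac_of_isStrictlyLE (eX.inv ≫ f ≫ eX'.hom) b
  obtain ⟨N, p, hp, hN⟩ := hneg (K''.X b)
  have hd : K''.d b (b + 1) = 0 :=
    (K''.isZero_of_isStrictlyLE b (b + 1) (by lia)).eq_of_tgt _ _
  let S := (HomologicalComplex.single A (ComplexShape.up ℤ) b).obj N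
  let ι : S ⟶ K'' :=
    HomologicalComplex.mkHomFromSingle p (fun k hk => by
      obtain rfl : b + 1 = k := hk
      rw [hd, Limits.comp_zero])
  haveI : IsIso (K''.iCycles b) := K''.isIso_iCycles b (b + 1) (by simp) hd
  let t : DerivedCategory.Q.obj K'' ⟶ X := DerivedCategory.Q.map s ≫ eX.inv
  haveI : IsIso t := by dsimp only [t]; infer_instance
  obtain ⟨a1, b2, ha1, hb2, h3⟩ : ∃ (a1 : (DerivedCategory.homologyFunctor A b).obj (DerivedCategory.Q.obj S) ⟶ S.homology b)
      (b2 : (DerivedCategory.homologyFunctor A b).obj (DerivedCategory.Q.obj K'') ⟶ K''.homology b), IsIso a1 ∧ IsIso b2 ∧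
        (DerivedCategory.homologyFunctor A b).map (DerivedCategory.Q.map ι) ≫ b2 = a1 ≫ HomologicalComplex.homologyMap ι b :=
    ⟨(DerivedCategory.homologyFunctorFactors A b).hom.app S, (DerivedCategory.homologyFunctorFactors A b).hom.app K'', (inferInstance : IsIso ((DerivedCategory.homologyFunctorFactors A b).hom.app S)),
      (inferInstance : IsIso ((DerivedCategory.homologyFunctorFactors A b).hom.app K'')),
      DerivedCategory.homologyFunctorFactors_hom_naturality ι b⟩
  let q : K''.X b ⟶ (DerivedCategory.homologyFunctor A b).obj X := inv (K''.iCycles b) ≫ K''.homologyπ b ≫ inv b2 ≫ (DerivedCategory.homologyFunctor A b).map t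
  haveI : Epi q := by dsimp only [q]; infer_instance
  have hf : f = eX.hom ≫ inv (DerivedCategory.Q.map s) ≫ DerivedCategory.Q.map γ ≫ eX'.inv := by
    have := congrArg (fun z => eX.hom ≫ z ≫ eX'.inv) hfac
    simpa using this
  have hιγ : ι ≫ γ = 0 := by
    ext
    exact (K'.isZero_of_isStrictlyLE (b - 1) b (by lia)).eq_of_tgt _ _
  have hQ0 : DerivedCategory.Q.map ι ≫ DerivedCategory.Q.map γ = 0 := by
    rw [← Functor.map_comp, hιγ, Functor.map_zero]
  have hQ0' : ∀ {Z : DerivedCategory A} (h : DerivedCategory.Q.obj K' ⟶ Z),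
      DerivedCategory.Q.map ι ≫ DerivedCategory.Q.map γ ≫ h = 0 := by
    intro Z h
    rw [← Category.assoc, hQ0, Limits.zero_comp]
  obtain ⟨c1, hc1⟩ : ∃ (c1 : (DerivedCategory.singleFunctor A b).obj N ⟶
      DerivedCategory.Q.obj S), IsIso c1 :=
    ⟨(DerivedCategory.singleFunctorIsoCompQ A b).hom.app N,
      (inferInstance : IsIso ((DerivedCategory.singleFunctorIsoCompQ A b).hom.app N))⟩
  refine ⟨N, c1 ≫ DerivedCategory.Q.map ι ≫ t, ?_, ?_, ?_⟩
  · have hcyc : Epi (HomologicalComplex.cyclesMap ι b) := by
      have h1 := HomologicalComplex.cyclesMap_i ι b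
      haveI : IsIso (S.iCycles b) := S.isIso_iCycles b (b + 1) (by simp) (by simp [S])
      haveI : Epi (ι.f b) := by
        dsimp only [ι]
        rw [HomologicalComplex.mkHomFromSingle_f]
        infer_instance
      have h2 : HomologicalComplex.cyclesMap ι b =
          S.iCycles b ≫ ι.f b ≫ inv (K''.iCycles b) := by
        rw [← Category.assoc, ← h1, Category.assoc, IsIso.hom_inv_id, Category.comp_id]
      rw [h2]
      infer_instance
    have hhom : Epi (HomologicalComplex.homologyMap ι b) := by
      have h1 := HomologicalComplex.homologyπ_naturality ι b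
      haveI : Epi (S.homologyπ b ≫ HomologicalComplex.homologyMap ι b) := by
        rw [h1]
        infer_instance
      exact epi_of_epi (S.homologyπ b) _
    have hQ : Epi ((DerivedCategory.homologyFunctor A b).map (DerivedCategory.Q.map ι)) := by
      haveI : Epi ((DerivedCategory.homologyFunctor A b).map (DerivedCategory.Q.map ι) ≫ b2) := by
        rw [h3]
        infer_instance
      have h4 : (DerivedCategory.homologyFunctor A b).map (DerivedCategory.Q.map ι) =
          ((DerivedCategory.homologyFunctor A b).map (DerivedCategory.Q.map ι) ≫ b2) ≫ inv b2 := by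
        rw [Category.assoc, IsIso.hom_inv_id, Category.comp_id]
      rw [h4]
      infer_instance
    rw [Functor.map_comp, Functor.map_comp]
    infer_instance
  · intro φ
    have h0 : q ≫ φ = 0 := hN _
    rw [← cancel_epi q, h0, Limits.comp_zero]
  · rw [hf]
    dsimp only [t]
    simp only [Category.assoc, Iso.inv_hom_id_assoc, IsIso.hom_inv_id_assoc]
    rw [hQ0', Limits.comp_zero]

end Groth.Agent.S6707
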