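import Groth.Statements.S6708

set_option autoImplicit false
universe v u
open CategoryTheory
open DEquiv

namespace Groth.Agent.S6708

set_option backward.defeqAttrib.useBackward true in
set_option backward.isDefEq.respectTransparency false in
open CategoryTheory.Limits CategoryTheory.Pretriangulated in
/-- Let D be a pretriangulated category, D' ⊆ D a full triangulated subcategory (given as a property of
objects that is triangulated in Mathlib's sense) and X an object of D. Then the category of arrows E
⟶ X with E in D' is filtered. -/
theorem result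
    {D : Type u} [Category.{v} D] [Preadditive D] [HasZeroObject D] [HasShift D ℤ]
    [∀ n : ℤ, (shiftFunctor D n).Additive] [Pretriangulated D]
    (P : ObjectProperty D) [P.IsTriangulated] (X : D) :
    IsFiltered (CostructuredArrow P.ι X) := by
  have hne : Nonempty (CostructuredArrow P.ι X) := by
    obtain ⟨Z, hZ, hPZ⟩ := P.exists_prop_of_containsZero
    exact ⟨CostructuredArrow.mk (Y := (⟨Z, hPZ⟩ : P.FullSubcategory)) (0 : Z ⟶ X)⟩
  have : IsFilteredOrEmpty (CostructuredArrow P.ι X) := by
    constructor
    · intro E₁ E₂
      obtain ⟨Y, hY, ⟨e⟩⟩ := P.ext_of_isTriangulatedClosed₂' _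
        (binaryBiproductTriangle_distinguished E₁.left.obj E₂.left.obj)
        E₁.left.property E₂.left.property
      dsimp at e
      let Y' : P.FullSubcategory := ⟨Y, hY⟩
      let E₃ : CostructuredArrow P.ι X :=
        CostructuredArrow.mk (Y := Y') (e.inv ≫ biprod.desc E₁.hom E₂.hom)
      refine ⟨E₃, CostructuredArrow.homMk (ObjectProperty.homMk (biprod.inl ≫ e.hom)) ?_,
        CostructuredArrow.homMk (ObjectProperty.homMk (biprod.inr ≫ e.hom)) ?_, trivial⟩
      · simp [E₃]
      · simp [E₃]
    · intro E₁ E₂ a b
      obtain ⟨C, c, d, hT⟩ := distinguished_cocone_triangle (a.left.hom - b.left.hom)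
      obtain ⟨C', hC', ⟨e⟩⟩ := P.ext_of_isTriangulatedClosed₃' _ hT
        E₁.left.property E₂.left.property
      dsimp at e
      have h0 : (a.left.hom - b.left.hom) ≫ E₂.hom = 0 := by
        have ha := CostructuredArrow.w a
        have hb := CostructuredArrow.w b
        simp only [ObjectProperty.ι_map] at ha hb
        rw [Preadditive.sub_comp, ha, hb, sub_self]
      obtain ⟨f₃, hf₃⟩ := Triangle.yoneda_exact₂ _ hT E₂.hom h0
      dsimp at f₃ hf₃
      let C'' : P.FullSubcategory := ⟨C', hC'⟩
      let E₃ : CostructuredArrow P.ι X := CostructuredArrow.mk (Y := C'') (e.inv ≫ f₃)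
      refine ⟨E₃, CostructuredArrow.homMk (ObjectProperty.homMk (c ≫ e.hom)) ?_, ?_⟩
      · simp [E₃, hf₃]
      · ext
        have := comp_distTriang_mor_zero₁₂ _ hT
        dsimp at this
        rw [Preadditive.sub_comp, sub_eq_zero] at this
        simp [reassoc_of% this]
  exact { }

end Groth.Agent.S6708
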