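import Groth.Statements.S6713
import Groth.Agent.Lib.helper18.DbCount

set_option autoImplicit false
set_option linter.style.haveILetI false
universe w v u
open CategoryTheory
open DEquiv

namespace Groth.Agent.S6713

/-- Let A be an abelian category which is countable: Hom(X, Y) is countable for all objects X, Y and
there are countably many isomorphism classes of objects. Then the bounded derived category D^b(A) is
countable in the same sense. -/
theorem result
    {A : Type u} [Category.{v} A] [Abelian A] [HasDerivedCategory.{w} A]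
    (hhom : ∀ X Y : A, Countable (X ⟶ Y))
    (hiso : ∃ e : ℕ → A, ∀ X : A, ∃ n : ℕ, Nonempty (X ≅ e n)) :
    (∀ K L : DerivedCategory.Bounded A, Countable (K ⟶ L)) ∧
      ∃ e : ℕ → DerivedCategory.Bounded A, ∀ K : DerivedCategory.Bounded A,
        ∃ n : ℕ, Nonempty (K ≅ e n) := by
  classical
  haveI : ∀ X Y : A, Countable (X ⟶ Y) := hhom
  obtain ⟨e, he⟩ := hiso
  obtain ⟨cx, hcx, hfam⟩ := Groth.Agent.Lib.helper18.DbCount.exists_family e he
  refine ⟨?_, ?_⟩
  · intro K L
    obtain ⟨⟨a, ha⟩, ⟨b, hb⟩⟩ := K.property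
    obtain ⟨⟨a', ha'⟩, ⟨b', hb'⟩⟩ := L.property
    haveI : K.obj.IsGE a := ha
    haveI : K.obj.IsLE b := hb
    haveI : L.obj.IsGE a' := ha'
    haveI : L.obj.IsLE b' := hb'
    haveI : Countable ((DerivedCategory.TStructure.t (C := A)).bounded.ι.obj K ⟶
        (DerivedCategory.TStructure.t (C := A)).bounded.ι.obj L) :=
      Groth.Agent.Lib.helper18.DbCount.countable_hom_derived cx hcx hfam K.obj L.obj a b a' b'
    exact ((DerivedCategory.TStructure.t (C := A)).bounded.ι.map_injective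
      (X := K) (Y := L)).countable
  · have hb : ∀ k, (DerivedCategory.TStructure.t (C := A)).bounded (DerivedCategory.Q.obj (cx k)) := by
      intro k
      obtain ⟨a, b, h⟩ := hcx k
      haveI := Groth.Agent.Lib.helper18.DbCount.isStrictlyGE_of_mem_Bdd h
      haveI := Groth.Agent.Lib.helper18.DbCount.isStrictlyLE_of_mem_Bdd h
      exact ⟨⟨a, inferInstance⟩, ⟨b, inferInstance⟩⟩
    refine ⟨fun k => ⟨DerivedCategory.Q.obj (cx k), hb k⟩, ?_⟩
    intro K
    obtain ⟨⟨a, ha⟩, ⟨b, hb'⟩⟩ := K.property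
    haveI : K.obj.IsGE a := ha
    haveI : K.obj.IsLE b := hb'
    obtain ⟨X, hXa, hXb, ⟨eK⟩⟩ := DerivedCategory.exists_iso_Q_obj_of_isGE_of_isLE K.obj a b
    obtain ⟨k, _, ⟨θ⟩⟩ := hfam a b X (Groth.Agent.Lib.helper18.DbCount.mem_Bdd_of_isStrictly X)
    exact ⟨k, ⟨(DerivedCategory.TStructure.t (C := A)).bounded.isoMk
      (eK ≪≫ DerivedCategory.Q.mapIso θ)⟩⟩

end Groth.Agent.S6713
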