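import Groth.Statements.S6718
import Mathlib
-- import your own Groth.Agent.* helpers here

set_option autoImplicit false
universe w v u
open CategoryTheory
open DEquiv

namespace Groth.Agent.S6718

section helpers
set_option linter.unusedSectionVars false

section linalg
variable {k : Type w} [Field k] {U V : Type v} [AddCommGroup U] [Module k U] [AddCommGroup V] [Module k V]

lemma sep (e : U ≃ₗ[k] Module.Dual k V) (v w : V) (h : ∀ u, e u v = e u w) : v = w := by
  rw [← sub_eq_zero, ← Module.forall_dual_apply_eq_zero_iff k]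
  intro ξ
  obtain ⟨u, rfl⟩ := e.surjective ξ
  rw [map_sub, h, sub_self]

lemma ex [Module.Finite k V] (e : U ≃ₗ[k] Module.Dual k V) (ξ : Module.Dual k U) :
    ∃ v : V, ∀ u, e u v = ξ u := by
  refine ⟨(Module.evalEquiv k V).symm (ξ ∘ₗ e.symm.toLinearMap), fun u => ?_⟩
  have := Module.apply_evalEquiv_symm_apply k V (e u) (ξ ∘ₗ e.symm.toLinearMap)
  rw [this]
  simp

/-- transpose of an equivalence `U ≃ Dual V` to `V ≃ Dual U` (finite-dimensional). -/
noncomputable def transp [Module.Finite k V] (e : U ≃ₗ[k] Module.Dual k V) : V ≃ₗ[k] Module.Dual k U :=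
  (Module.evalEquiv k V) ≪≫ₗ e.dualMap

lemma transp_apply [Module.Finite k V] (e : U ≃ₗ[k] Module.Dual k V) (v : V) (u : U) :
    transp e v u = e u v := by
  simp [transp]

end linalg

section
variable {k : Type w} [Field k] {T : Type u} [Category.{v} T] [Preadditive T] [Linear k T]
  [∀ X Y : T, Module.Finite k (X ⟶ Y)]
variable (SX : T → T) (e : ∀ X Y : T, (Y ⟶ SX X) ≃ₗ[k] Module.Dual k (X ⟶ Y))
  (he : ∀ (X Y Y' : T) (g : Y' ⟶ Y) (f : Y ⟶ SX X),
    e X Y' (g ≫ f) = (e X Y f) ∘ₗ Linear.rightComp k X g)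

/-- the trace form -/
noncomputable def tr (X : T) : Module.Dual k (X ⟶ SX X) := e X (SX X) (𝟙 _)

include he in
lemma e_eq (X Y : T) (g : Y ⟶ SX X) (u : X ⟶ Y) : e X Y g u = tr SX e X (u ≫ g) := by
  have := he X (SX X) Y g (𝟙 _)
  rw [Category.comp_id] at this
  rw [this]
  rfl

noncomputable def Smap {X' X : T} (a : X' ⟶ X) : SX X' ⟶ SX X :=
  (e X (SX X')).symm (tr SX e X' ∘ₗ Linear.leftComp k (SX X') a)

include he in
lemma Smap_spec {X' X : T} (a : X' ⟶ X) (Y : T) (g : Y ⟶ SX X') (u : X ⟶ Y) :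
    e X Y (g ≫ Smap SX e a) u = e X' Y g (a ≫ u) := by
  rw [he X (SX X') Y g (Smap SX e a)]
  simp only [Smap, LinearMap.comp_apply, LinearEquiv.apply_symm_apply]
  rw [e_eq SX e he X' Y g (a ≫ u)]
  simp


include he in
lemma Smap_ext {X' X : T} (φ ψ : SX X' ⟶ SX X)
    (h : ∀ u : X ⟶ SX X', e X (SX X') φ u = e X (SX X') ψ u) : φ = ψ := by
  apply (e X (SX X')).injective
  ext u
  exact h u

include he in
lemma Smap_spec' {X' X : T} (a : X' ⟶ X) (u : X ⟶ SX X') :
    e X (SX X') (Smap SX e a) u = tr SX e X' (a ≫ u) := by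
  have := Smap_spec SX e he a (SX X') (𝟙 _) u
  rw [Category.id_comp] at this
  rw [this]
  rfl

noncomputable def Sfun : T ⥤ T where
  obj := SX
  map a := Smap SX e a
  map_id X := by
    apply Smap_ext SX e he
    intro u
    rw [Smap_spec' SX e he, Category.id_comp]
    rfl
  map_comp {X'' X' X} a' a := by
    apply Smap_ext SX e he
    intro u
    rw [Smap_spec' SX e he, Smap_spec SX e he a (SX X'') (Smap SX e a') u,
      Smap_spec' SX e he, Category.assoc]

noncomputable def cc (X Y : T) : (X ⟶ Y) ≃ₗ[k] Module.Dual k (Y ⟶ SX X) := transp (e X Y)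

lemma cc_apply (X Y : T) (u : X ⟶ Y) (g : Y ⟶ SX X) : cc SX e X Y u g = e X Y g u :=
  transp_apply _ _ _

include he in
lemma Smap_eq {X' X : T} (a : X' ⟶ X) :
    Smap SX e a = (e X (SX X')).symm (cc SX e X' X a) := by
  apply (e X (SX X')).injective
  rw [LinearEquiv.apply_symm_apply]
  ext u
  rw [Smap_spec' SX e he, cc_apply, e_eq SX e he]

include he in
lemma Sfun_map_bijective (X' X : T) :
    Function.Bijective (fun a : X' ⟶ X => (Sfun SX e he).map a) := by
  have : (fun a : X' ⟶ X => (Sfun SX e he).map a) =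
      (e X (SX X')).symm ∘ (cc SX e X' X) := by
    funext a
    exact Smap_eq SX e he a
  rw [this]
  exact (LinearEquiv.bijective _).comp (LinearEquiv.bijective _)


include he in
lemma cc_hc₁ (X Y Y' : T) (f : X ⟶ Y) (g : Y ⟶ Y') :
    cc SX e X Y' (f ≫ g) = (cc SX e X Y f) ∘ₗ Linear.leftComp k (SX X) g := by
  ext h
  rw [cc_apply, LinearMap.comp_apply, Linear.leftComp_apply, cc_apply, he X Y' Y g h]
  rfl

include he in
lemma cc_hc₂ (X' X Y : T) (a : X' ⟶ X) (f : X ⟶ Y) :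
    cc SX e X' Y (a ≫ f) = (cc SX e X Y f) ∘ₗ Linear.rightComp k Y ((Sfun SX e he).map a) := by
  ext h
  change cc SX e X' Y (a ≫ f) h = cc SX e X Y f (h ≫ Smap SX e a)
  rw [cc_apply, cc_apply]
  exact (Smap_spec SX e he a Y h f).symm

instance : (Sfun SX e he).Additive where
  map_add {X' X a b} := by
    change Smap SX e (a + b) = Smap SX e a + Smap SX e b
    rw [Smap_eq SX e he, Smap_eq SX e he, Smap_eq SX e he, map_add, map_add]

instance : (Sfun SX e he).Linear k where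
  map_smul {X' X} a r := by
    change Smap SX e (r • a) = r • Smap SX e a
    rw [Smap_eq SX e he, Smap_eq SX e he, map_smul, map_smul]

instance : (Sfun SX e he).Full where
  map_surjective {X' X} := (Sfun_map_bijective SX e he X' X).2

instance : (Sfun SX e he).Faithful where
  map_injective {X' X} := (Sfun_map_bijective SX e he X' X).1

variable (RX : T → T) (e' : ∀ X Y : T, (RX X ⟶ Y) ≃ₗ[k] Module.Dual k (Y ⟶ X))
  (he' : ∀ (X Y Y' : T) (g : Y ⟶ Y') (f : RX X ⟶ Y),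
    e' X Y' (f ≫ g) = (e' X Y f) ∘ₗ Linear.leftComp k X g)

noncomputable def tr' (X : T) : Module.Dual k (RX X ⟶ X) := e' X (RX X) (𝟙 _)

include he' in
lemma e'_eq (X Y : T) (f : RX X ⟶ Y) (u : Y ⟶ X) : e' X Y f u = tr' RX e' X (f ≫ u) := by
  have := he' X (RX X) Y f (𝟙 _)
  rw [Category.id_comp] at this
  rw [this]
  rfl

include he he' in
lemma essSurj_aux (X : T) : Nonempty (SX (RX X) ≅ X) := by
  obtain ⟨φ, hφ⟩ := ex (cc SX e (RX X) X) (tr' RX e' X)
  obtain ⟨ψ, hψ⟩ := ex (e' X (SX (RX X))) (tr SX e (RX X))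
  simp only [cc_apply] at hφ
  refine ⟨⟨ψ, φ, ?_, ?_⟩⟩
  · refine sep (cc SX e (RX X) (SX (RX X))) _ _ (fun u => ?_)
    rw [cc_apply, cc_apply, e_eq SX e he, ← Category.assoc, ← e_eq SX e he, hφ,
      ← e'_eq RX e' he', hψ]
    rfl
  · refine sep (e' X X) _ _ (fun u => ?_)
    rw [e'_eq RX e' he', ← Category.assoc, ← e'_eq RX e' he', hψ, ← e_eq SX e he, hφ,
      e'_eq RX e' he' X X u (𝟙 _), Category.comp_id]

include he' in
lemma Sfun_essSurj : (Sfun SX e he).EssSurj where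
  mem_essImage X := ⟨RX X, essSurj_aux SX e he RX e' he' X⟩

end

section fwd
variable {k : Type w} [Field k] {T : Type u} [Category.{v} T] [Preadditive T] [Linear k T]
  [∀ X Y : T, Module.Finite k (X ⟶ Y)]
  (S : T ≌ T) (c : ∀ X Y : T, (X ⟶ Y) ≃ₗ[k] Module.Dual k (Y ⟶ S.functor.obj X))
  (hc₁ : ∀ (X Y Y' : T) (f : X ⟶ Y) (g : Y ⟶ Y'),
      c X Y' (f ≫ g) = (c X Y f) ∘ₗ Linear.leftComp k (S.functor.obj X) g)

include hc₁ in
lemma fwd1 (X : T) : ∃ (SX : T) (e : ∀ Y : T, (Y ⟶ SX) ≃ₗ[k] Module.Dual k (X ⟶ Y)),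
    ∀ (Y Y' : T) (g : Y' ⟶ Y) (f : Y ⟶ SX),
      e Y' (g ≫ f) = (e Y f) ∘ₗ Linear.rightComp k X g := by
  refine ⟨S.functor.obj X, fun Y => transp (c X Y), fun Y Y' g f => ?_⟩
  ext u
  rw [transp_apply, LinearMap.comp_apply, Linear.rightComp_apply, transp_apply, hc₁ X Y' Y u g]
  rfl

include hc₁ in
lemma fwd2 (X : T) : ∃ (RX : T) (e : ∀ Y : T, (RX ⟶ Y) ≃ₗ[k] Module.Dual k (Y ⟶ X)),
    ∀ (Y Y' : T) (g : Y ⟶ Y') (f : RX ⟶ Y),
      e Y' (f ≫ g) = (e Y f) ∘ₗ Linear.leftComp k X g := by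
  let ε : S.functor.obj (S.inverse.obj X) ≅ X := S.counitIso.app X
  refine ⟨S.inverse.obj X, fun Y => (c (S.inverse.obj X) Y) ≪≫ₗ
    (Linear.homCongr k (Iso.refl Y) ε.symm).dualMap, fun Y Y' g f => ?_⟩
  ext u
  simp only [LinearEquiv.trans_apply, LinearEquiv.dualMap_apply, LinearMap.comp_apply,
    Linear.leftComp_apply, hc₁ _ Y Y' f g]
  simp [Linear.homCongr_apply]

end fwd


end helpers

open CategoryTheory.Limits CategoryTheory.Pretriangulated in
/-- Let k be a field and T a k-linear (pre)triangulated category with dim_k Hom(X, Y) < ∞ for all X, Y.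
The following are equivalent: (1) there are a k-linear equivalence S : T ⥤ T and k-linear
isomorphisms c_{X,Y} : Hom(X, Y) ≅ Hom(Y, S X)^∨ natural in X and in Y; (2) for every object X the
functor Y ↦ Hom(X, Y)^∨ is representable and the functor Y ↦ Hom(Y, X)^∨ is corepresentable, by
k-linear isomorphisms natural in Y. (Here V^∨ is the k-linear dual.) -/
theorem result
    {k : Type w} [Field k]
    {T : Type u} [Category.{v} T] [Preadditive T] [Linear k T] [HasZeroObject T] [HasShift T ℤ]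
    [∀ n : ℤ, (shiftFunctor T n).Additive] [∀ n : ℤ, (shiftFunctor T n).Linear k] [Pretriangulated T]
    [∀ X Y : T, Module.Finite k (X ⟶ Y)] :
    (∃ (S : T ≌ T) (_ : S.functor.Additive) (_ : S.functor.Linear k)
        (c : ∀ X Y : T, (X ⟶ Y) ≃ₗ[k] Module.Dual k (Y ⟶ S.functor.obj X)),
        (∀ (X Y Y' : T) (f : X ⟶ Y) (g : Y ⟶ Y'),
          c X Y' (f ≫ g) = (c X Y f) ∘ₗ Linear.leftComp k (S.functor.obj X) g) ∧
        (∀ (X' X Y : T) (a : X' ⟶ X) (f : X ⟶ Y),
          c X' Y (a ≫ f) = (c X Y f) ∘ₗ Linear.rightComp k Y (S.functor.map a))) ↔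
    ((∀ X : T, ∃ (SX : T) (e : ∀ Y : T, (Y ⟶ SX) ≃ₗ[k] Module.Dual k (X ⟶ Y)),
        ∀ (Y Y' : T) (g : Y' ⟶ Y) (f : Y ⟶ SX),
          e Y' (g ≫ f) = (e Y f) ∘ₗ Linear.rightComp k X g) ∧
      (∀ X : T, ∃ (RX : T) (e : ∀ Y : T, (RX ⟶ Y) ≃ₗ[k] Module.Dual k (Y ⟶ X)),
        ∀ (Y Y' : T) (g : Y ⟶ Y') (f : RX ⟶ Y),
          e Y' (f ≫ g) = (e Y f) ∘ₗ Linear.leftComp k X g)) := by
  constructor
  · rintro ⟨S, _, _, c, hc₁, _⟩
    exact ⟨fun X => fwd1 S c hc₁ X, fun X => fwd2 S c hc₁ X⟩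
  · rintro ⟨h1, h2⟩
    choose SX e he using h1
    choose RX e' he' using h2
    haveI : (Sfun SX e he).EssSurj := Sfun_essSurj SX e he RX e' he'
    haveI : (Sfun SX e he).IsEquivalence := { }
    refine ⟨(Sfun SX e he).asEquivalence, (inferInstance : (Sfun SX e he).Additive),
      (inferInstance : (Sfun SX e he).Linear k), cc SX e, ?_, ?_⟩
    · exact cc_hc₁ SX e he
    · exact cc_hc₂ SX e he

end Groth.Agent.S6718
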