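import Groth.Statements.S6731
import Mathlib
-- import your own Groth.Agent.* helpers here

set_option autoImplicit false
universe w v u
open CategoryTheory
open DEquiv

namespace Groth.Agent.S6731

section helpers

section linalg
variable {k : Type w} [Field k] {U V : Type v} [AddCommGroup U] [Module k U] [AddCommGroup V] [Module k V]

lemma sep (e : U ≃ₗ[k] Module.Dual k V) (v w : V) (h : ∀ u, e u v = e u w) : v = w := by
  rw [← sub_eq_zero, ← Module.forall_dual_apply_eq_zero_iff k]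
  intro ξ
  obtain ⟨u, rfl⟩ := e.surjective ξ
  rw [map_sub, h, sub_self]

lemma ex [Module.Finite k V] (e : U ≃ₗ[k] Module.Dual k V) (ξ : Module.Dual k U) :
    ∃ v : V, ∀ u, e u v = ξ u := by
  refine ⟨(Module.evalEquiv k V).symm (ξ ∘ₗ e.symm.toLinearMap), fun u => ?_⟩
  have := Module.apply_evalEquiv_symm_apply k V (e u) (ξ ∘ₗ e.symm.toLinearMap)
  rw [this]
  simp

end linalg


section serre
variable {k : Type w} [Field k] {T : Type u} [Category.{v} T] [Preadditive T] [Linear k T]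
  [∀ X Y : T, Module.Finite k (X ⟶ Y)]
  (S S' : T ⥤ T)
  (c : ∀ X Y : T, (X ⟶ Y) ≃ₗ[k] Module.Dual k (Y ⟶ S.obj X))
  (hc₁ : ∀ (X Y Y' : T) (f : X ⟶ Y) (g : Y ⟶ Y'),
      c X Y' (f ≫ g) = (c X Y f) ∘ₗ Linear.leftComp k (S.obj X) g)
  (hc₂ : ∀ (X' X Y : T) (a : X' ⟶ X) (f : X ⟶ Y),
      c X' Y (a ≫ f) = (c X Y f) ∘ₗ Linear.rightComp k Y (S.map a))
  (c' : ∀ X Y : T, (X ⟶ Y) ≃ₗ[k] Module.Dual k (Y ⟶ S'.obj X))
  (hc'₁ : ∀ (X Y Y' : T) (f : X ⟶ Y) (g : Y ⟶ Y'),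
      c' X Y' (f ≫ g) = (c' X Y f) ∘ₗ Linear.leftComp k (S'.obj X) g)
  (hc'₂ : ∀ (X' X Y : T) (a : X' ⟶ X) (f : X ⟶ Y),
      c' X' Y (a ≫ f) = (c' X Y f) ∘ₗ Linear.rightComp k Y (S'.map a))

include hc₁ hc'₁ in
lemma exists_comp (X : T) : ∃ φ : S.obj X ⟶ S'.obj X,
    ∀ (Y : T) (f : X ⟶ Y) (h : Y ⟶ S.obj X), c X Y f h = c' X Y f (h ≫ φ) := by
  obtain ⟨φ, hφ⟩ := ex (c' X (S.obj X)) (c X X (𝟙 X))
  refine ⟨φ, fun Y f h => ?_⟩
  have e1 : c X Y f h = c X X (𝟙 X) (f ≫ h) := by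
    have := hc₁ X X Y (𝟙 X) f
    rw [Category.id_comp] at this
    rw [this]
    rfl
  have e2 : c' X Y f (h ≫ φ) = c' X (S.obj X) (f ≫ h) φ := by
    rw [hc'₁ X Y (S.obj X) f h]
    rfl
  rw [e1, e2, hφ]

omit [∀ X Y : T, Module.Finite k (X ⟶ Y)] in
lemma uniq_comp (X : T) (φ φ' : S.obj X ⟶ S'.obj X)
    (hφ : ∀ (f : X ⟶ S.obj X), c X (S.obj X) f (𝟙 _) = c' X (S.obj X) f φ)
    (hφ' : ∀ (f : X ⟶ S.obj X), c X (S.obj X) f (𝟙 _) = c' X (S.obj X) f φ') : φ = φ' :=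
  sep (c' X (S.obj X)) φ φ' (fun u => by rw [← hφ u, ← hφ' u])

omit [∀ X Y : T, Module.Finite k (X ⟶ Y)] in
include hc₂ hc'₂ in
lemma nat_comp (φ : ∀ X : T, S.obj X ⟶ S'.obj X)
    (hφ : ∀ (X Y : T) (f : X ⟶ Y) (h : Y ⟶ S.obj X), c X Y f h = c' X Y f (h ≫ φ X))
    {X' X : T} (a : X' ⟶ X) : S.map a ≫ φ X = φ X' ≫ S'.map a := by
  refine sep (c' X (S.obj X')) _ _ (fun f => ?_)
  -- LHS
  have l1 : c' X (S.obj X') f (S.map a ≫ φ X) = c X (S.obj X') f (S.map a) := by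
    rw [hφ X (S.obj X') f (S.map a)]
  have l2 : c X (S.obj X') f (S.map a) = c X' (S.obj X') (a ≫ f) (𝟙 _) := by
    rw [hc₂ X' X (S.obj X') a f]
    simp
  have r1 : c' X (S.obj X') f (φ X' ≫ S'.map a) = c' X' (S.obj X') (a ≫ f) (φ X') := by
    rw [hc'₂ X' X (S.obj X') a f]
    rfl
  have r2 : c' X' (S.obj X') (a ≫ f) (φ X') = c X' (S.obj X') (a ≫ f) (𝟙 _) := by
    rw [hφ X' (S.obj X') (a ≫ f) (𝟙 _), Category.id_comp]
  rw [l1, l2, r1, r2]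


include hc₁ hc₂ hc'₁ hc'₂ in
theorem main : ∃! φ : S ≅ S', ∀ (X Y : T) (f : X ⟶ Y),
    c X Y f = (c' X Y f) ∘ₗ Linear.rightComp k Y (φ.hom.app X) := by
  choose φ hφ using exists_comp S S' c hc₁ c' hc'₁
  choose ψ hψ using exists_comp S' S c' hc'₁ c hc₁
  have hφψ : ∀ X, φ X ≫ ψ X = 𝟙 _ := fun X => by
    refine sep (c X (S.obj X)) _ _ (fun u => ?_)
    rw [← hψ X (S.obj X) u (φ X)]
    have := hφ X (S.obj X) u (𝟙 _)
    rw [Category.id_comp] at this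
    rw [this]
  have hψφ : ∀ X, ψ X ≫ φ X = 𝟙 _ := fun X => by
    refine sep (c' X (S'.obj X)) _ _ (fun u => ?_)
    rw [← hφ X (S'.obj X) u (ψ X)]
    have := hψ X (S'.obj X) u (𝟙 _)
    rw [Category.id_comp] at this
    rw [this]
  let Φ : S ≅ S' := NatIso.ofComponents (fun X => ⟨φ X, ψ X, hφψ X, hψφ X⟩)
    (fun a => nat_comp S S' c hc₂ c' hc'₂ φ hφ a)
  refine ⟨Φ, ?_, ?_⟩
  · intro X Y f
    ext h
    exact hφ X Y f h
  · intro Φ' hΦ'
    ext X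
    refine uniq_comp S S' c c' X _ _ (fun f => ?_) (fun f => ?_)
    · have := congr_arg (fun l => l (𝟙 _)) (hΦ' X (S.obj X) f)
      simpa using this
    · have := hφ X (S.obj X) f (𝟙 _)
      rw [Category.id_comp] at this
      exact this

end serre


end helpers

open CategoryTheory.Limits CategoryTheory.Pretriangulated in
/-- Let k be a field and T a k-linear triangulated category with dim_k Hom(X, Y) < ∞ for all X, Y. Let
(S, c) and (S', c') be Serre functors: k-linear equivalences T ⥤ T with k-linear isomorphisms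
c_{X,Y} : Hom(X, Y) ≅ Hom(Y, S X)^∨ natural in X and Y (likewise c'). Then there is a unique
isomorphism of functors φ : S ≅ S' compatible with c and c', i.e. c_{X,Y}(f) is c'_{X,Y}(f) composed
with postcomposition by φ_X. -/
theorem result
    {k : Type w} [Field k]
    {T : Type u} [Category.{v} T] [Preadditive T] [Linear k T] [HasZeroObject T] [HasShift T ℤ]
    [∀ n : ℤ, (shiftFunctor T n).Additive] [∀ n : ℤ, (shiftFunctor T n).Linear k] [Pretriangulated T]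
    [IsTriangulated T] [∀ X Y : T, Module.Finite k (X ⟶ Y)]
    (S : T ≌ T) [S.functor.Additive] [S.functor.Linear k]
    (c : ∀ X Y : T, (X ⟶ Y) ≃ₗ[k] Module.Dual k (Y ⟶ S.functor.obj X))
    (hc₁ : ∀ (X Y Y' : T) (f : X ⟶ Y) (g : Y ⟶ Y'),
      c X Y' (f ≫ g) = (c X Y f) ∘ₗ Linear.leftComp k (S.functor.obj X) g)
    (hc₂ : ∀ (X' X Y : T) (a : X' ⟶ X) (f : X ⟶ Y),
      c X' Y (a ≫ f) = (c X Y f) ∘ₗ Linear.rightComp k Y (S.functor.map a))
    (S' : T ≌ T) [S'.functor.Additive] [S'.functor.Linear k]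
    (c' : ∀ X Y : T, (X ⟶ Y) ≃ₗ[k] Module.Dual k (Y ⟶ S'.functor.obj X))
    (hc'₁ : ∀ (X Y Y' : T) (f : X ⟶ Y) (g : Y ⟶ Y'),
      c' X Y' (f ≫ g) = (c' X Y f) ∘ₗ Linear.leftComp k (S'.functor.obj X) g)
    (hc'₂ : ∀ (X' X Y : T) (a : X' ⟶ X) (f : X ⟶ Y),
      c' X' Y (a ≫ f) = (c' X Y f) ∘ₗ Linear.rightComp k Y (S'.functor.map a)) :
    ∃! φ : S.functor ≅ S'.functor, ∀ (X Y : T) (f : X ⟶ Y),
      c X Y f = (c' X Y f) ∘ₗ Linear.rightComp k Y (φ.hom.app X) := by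
  exact main S.functor S'.functor c hc₁ hc₂ c' hc'₁ hc'₂

end Groth.Agent.S6731
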