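import Groth.Statements.S6769
import Mathlib
import Groth.Agent.Lib.helper28.EW

set_option autoImplicit false
universe u
open CategoryTheory CategoryTheory.Limits TensorProduct
open scoped ModuleCat.Algebra
open FunMor

namespace Groth.Agent.S6769
open CategoryTheory CategoryTheory.Limits TensorProduct
open scoped ModuleCat.Algebra
open Groth.Agent.Lib.helper28.EW

section helpers




section
variable {A B : Type u} [CommRing A] [CommRing B]
  (F F' : ModuleCat.{u} A ⥤ ModuleCat.{u} B)
  [PreservesFiniteColimits F] [PreservesFiniteColimits F']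

theorem fm_eq_smul (a : A) : fm (ModuleCat.of A A) a = a • 𝟙 (ModuleCat.of A A) := by
  apply ModuleCat.hom_ext
  ext
  simp [fm]

variable (hsum : ∀ J : Type u, PreservesColimitsOfShape (Discrete J) F)
variable (hsum' : ∀ J : Type u, PreservesColimitsOfShape (Discrete J) F')

include hsum in
theorem nat_ext (t t' : F ⟶ F') (h : t.app (ModuleCat.of A A) = t'.app (ModuleCat.of A A)) :
    t = t' := by
  ext M y
  obtain ⟨x, rfl⟩ := eta_surj F hsum M y
  induction x using TensorProduct.induction_on with
  | zero => simp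
  | tmul k m =>
    rw [eta_tmul]
    have h1 := congrArg (fun g => g.hom k) (t.naturality (fm M m))
    have h2 := congrArg (fun g => g.hom k) (t'.naturality (fm M m))
    simp only [ModuleCat.hom_comp, LinearMap.comp_apply] at h1 h2
    refine h1.trans ?_
    rw [h]
    exact h2.symm
  | add x y hx hy =>
    rw [map_add, map_add, map_add, hx, hy]

variable (φ : F.obj (ModuleCat.of A A) ⟶ F'.obj (ModuleCat.of A A))
  (hφ : ∀ a : A, F.map (a • 𝟙 (ModuleCat.of A A)) ≫ φ = φ ≫ F'.map (a • 𝟙 (ModuleCat.of A A)))

/-- `φ` as an `A`-linear map `KK F → KK F'`. -/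
def phiA : KK F →ₗ[A] KK F' where
  toFun := fun k => φ.hom k
  map_add' := fun k k' => φ.hom.map_add k k'
  map_smul' := fun a k => by
    show φ.hom ((F.map (fm (ModuleCat.of A A) a)).hom k) = (F'.map (fm (ModuleCat.of A A) a)).hom (φ.hom k)
    have := congrArg (fun g => g.hom k) (hφ a)
    rw [fm_eq_smul]
    exact this

theorem phiA_apply (k : KK F) : phiA F F' φ hφ k = φ.hom k := rfl

def gLin (M : ModuleCat.{u} A) : KK F ⊗[A] M →ₗ[B] F'.obj M where
  toFun := fun x => eta F' M (LinearMap.rTensor M (phiA F F' φ hφ) x)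
  map_add' := fun x y => by rw [map_add, map_add]
  map_smul' := fun b x => by
    induction x using TensorProduct.induction_on with
    | zero => simp
    | tmul k m =>
      have h0 : phiA F F' φ hφ (b • k) = b • phiA F F' φ hφ k := φ.hom.map_smul b k
      show eta F' M (LinearMap.rTensor M (phiA F F' φ hφ) (b • (k ⊗ₜ[A] m))) =
        b • eta F' M (LinearMap.rTensor M (phiA F F' φ hφ) (k ⊗ₜ[A] m))
      rw [TensorProduct.smul_tmul', LinearMap.rTensor_tmul, LinearMap.rTensor_tmul, h0,
        ← TensorProduct.smul_tmul', map_smul]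
    | add x y hx hy =>
      simp only [smul_add, map_add, hx, hy]

theorem gLin_apply (M : ModuleCat.{u} A) (x : KK F ⊗[A] M) :
    gLin F F' φ hφ M x = eta F' M (LinearMap.rTensor M (phiA F F' φ hφ) x) := rfl

noncomputable def tM (M : ModuleCat.{u} A) : F.obj M ⟶ F'.obj M :=
  ModuleCat.ofHom (gLin F F' φ hφ M ∘ₗ (etaEquiv F hsum M).symm.toLinearMap)

theorem tM_eta (M : ModuleCat.{u} A) (x : KK F ⊗[A] M) :
    (tM F F' hsum φ hφ M).hom (eta F M x) = eta F' M (LinearMap.rTensor M (phiA F F' φ hφ) x) := by
  rw [tM, ModuleCat.hom_ofHom, LinearMap.comp_apply]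
  have : (etaEquiv F hsum M).symm.toLinearMap (eta F M x) = x :=
    (etaEquiv F hsum M).symm_apply_apply x
  rw [this, gLin_apply]

noncomputable def tNat : F ⟶ F' where
  app M := tM F F' hsum φ hφ M
  naturality M N f := by
    apply ModuleCat.hom_ext
    ext y
    obtain ⟨x, rfl⟩ := eta_surj F hsum M y
    rw [ModuleCat.hom_comp, ModuleCat.hom_comp, LinearMap.comp_apply, LinearMap.comp_apply,
      ← eta_nat, tM_eta, tM_eta, ← eta_nat]
    congr 1
    rw [← LinearMap.comp_apply, ← LinearMap.comp_apply, LinearMap.rTensor_comp_lTensor,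
      LinearMap.lTensor_comp_rTensor]

omit hsum in
theorem eta_A_one (k : KK F) : eta F (ModuleCat.of A A) (k ⊗ₜ[A] (1 : A)) = k := by
  rw [eta_tmul, fm_one, F.map_id]; rfl

theorem tNat_app_A : (tNat F F' hsum φ hφ).app (ModuleCat.of A A) = φ := by
  apply ModuleCat.hom_ext
  ext y
  have key : ∀ k : KK F, (tM F F' hsum φ hφ (ModuleCat.of A A)).hom k = φ.hom k := by
    intro k
    have h1 := tM_eta F F' hsum φ hφ (ModuleCat.of A A) (k ⊗ₜ[A] (1 : A))
    rw [eta_A_one, LinearMap.rTensor_tmul, eta_A_one] at h1
    exact h1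
  exact key y

end



end helpers

/-- Let R be a commutative ring and A, B commutative R-algebras; Mod_A and Mod_B are R-linear
categories. Suppose F, F' : Mod_A ⥤ Mod_B are R-linear functors, each of which preserves finite
colimits (so is right exact) and also preserves direct sums indexed by any set. Then: (i) there is
an A ⊗_R B-module K — a module over A and over B with commuting actions on which the two R-actions
agree — and B-linear isomorphisms K ⊗_A M ≅ F(M) natural in the A-module M; (ii) a natural
transformation F ⟶ F' is determined by its component at A, and a B-linear map φ : F(A) ⟶ F'(A) is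
the component at A of some natural transformation F ⟶ F' if and only if it commutes with the
A-actions, i.e. F(a · id_A) ≫ φ = φ ≫ F'(a · id_A) for all a ∈ A. (Together: K ↦ (- ⊗_A K) is an
equivalence from Mod_{A ⊗_R B} onto the category of such functors.) -/
theorem result
    (R : Type u) [CommRing R] (A B : Type u) [CommRing A] [CommRing B] [Algebra R A] [Algebra R B]
    (F F' : ModuleCat.{u} A ⥤ ModuleCat.{u} B) [F.Additive] [F.Linear R] [F'.Additive] [F'.Linear R]
    [PreservesFiniteColimits F] [∀ J : Type u, PreservesColimitsOfShape (Discrete J) F]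
    [PreservesFiniteColimits F'] [∀ J : Type u, PreservesColimitsOfShape (Discrete J) F'] :
    (∃ (K : Type u) (_ : AddCommGroup K) (_ : Module A K) (_ : Module B K) (_ : SMulCommClass A B K),
      (∀ (r : R) (x : K), algebraMap R A r • x = algebraMap R B r • x) ∧
      ∃ η : ∀ M : ModuleCat.{u} A, (K ⊗[A] M) ≃ₗ[B] F.obj M,
        ∀ (M N : ModuleCat.{u} A) (f : M ⟶ N) (x : K ⊗[A] M),
          η N (LinearMap.lTensor K f.hom x) = F.map f (η M x)) ∧
    (∀ t t' : F ⟶ F', t.app (ModuleCat.of A A) = t'.app (ModuleCat.of A A) → t = t') ∧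
    (∀ φ : F.obj (ModuleCat.of A A) ⟶ F'.obj (ModuleCat.of A A),
      (∃ t : F ⟶ F', t.app (ModuleCat.of A A) = φ) ↔
        ∀ a : A, F.map (a • 𝟙 (ModuleCat.of A A)) ≫ φ = φ ≫ F'.map (a • 𝟙 (ModuleCat.of A A))) := by
  have hsum : ∀ J : Type u, PreservesColimitsOfShape (Discrete J) F := fun J => inferInstance
  have hsum' : ∀ J : Type u, PreservesColimitsOfShape (Discrete J) F' := fun J => inferInstance
  refine ⟨⟨KK F, inferInstance, instModA F, inferInstance, inferInstance, ?_,
    fun M => etaEquiv F hsum M, fun M N f x => eta_nat F f x⟩, ?_, ?_⟩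
  · intro r x
    rw [smul_def]
    have h1 : fm (ModuleCat.of A A) (algebraMap R A r) = r • 𝟙 (ModuleCat.of A A) := by
      apply ModuleCat.hom_ext
      ext
      simp [fm, Algebra.smul_def]
    rw [h1]
    have h2 : F.map (r • 𝟙 (ModuleCat.of A A)) = r • 𝟙 (F.obj (ModuleCat.of A A)) := by
      have := F.map_smul (R := R) r (𝟙 (ModuleCat.of A A))
      rw [F.map_id] at this
      refine Eq.trans ?_ this
      congr 1
      apply ModuleCat.hom_ext
      ext
      show r • (1 : A) = algebraMap R A r • (1 : A)
      rw [Algebra.smul_def]; rfl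
    rw [h2]
    rfl
  · exact fun t t' h => nat_ext F F' hsum t t' h
  · intro φ
    constructor
    · rintro ⟨t, rfl⟩ a
      exact t.naturality _
    · intro hφ
      exact ⟨tNat F F' hsum φ hφ, tNat_app_A F F' hsum φ hφ⟩

end Groth.Agent.S6769
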