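import Groth.Statements.S6774
-- import your own Groth.Agent.* helpers here

set_option autoImplicit false
open CategoryTheory
universe v u v' u'
open DeltaF

namespace Groth.Agent.S6774

/-- Two universal cohomological delta-functors (indexed by `ℕ`) with isomorphic degree-`0` functors are
isomorphic as delta-functors, by a unique isomorphism extending the given one in degree `0`. -/
theorem result {A : Type u} [Category.{v} A] [Abelian A] {B : Type u'} [Category.{v'} B] [Abelian B] (T T' : DeltaF.CohDeltaFunctor A B ℕ) (hT : T.IsUniversal) (hT' : T'.IsUniversal) (e : T.F 0 ≅ T'.F 0) : ∃! φ : T ≅ T', φ.hom.app 0 = e.hom := by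
  obtain ⟨τ, hτ, hτu⟩ := hT T' e.hom
  obtain ⟨σ, hσ, hσu⟩ := hT' T e.inv
  obtain ⟨ι, hι, hιu⟩ := hT T (𝟙 _)
  obtain ⟨ι', hι', hι'u⟩ := hT' T' (𝟙 _)
  have h1 : τ ≫ σ = 𝟙 T := by
    have a : τ ≫ σ = ι := hιu _ (by show (τ ≫ σ).app 0 = _; rw [CohDeltaFunctor.comp_app, hτ, hσ, e.hom_inv_id])
    have b : 𝟙 T = ι := hιu _ (by show (𝟙 T : T ⟶ T).app 0 = _; rw [CohDeltaFunctor.id_app])
    rw [a, b]
  have h2 : σ ≫ τ = 𝟙 T' := by
    have a : σ ≫ τ = ι' := hι'u _ (by show (σ ≫ τ).app 0 = _; rw [CohDeltaFunctor.comp_app, hτ, hσ, e.inv_hom_id])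
    have b : 𝟙 T' = ι' := hι'u _ (by show (𝟙 T' : T' ⟶ T').app 0 = _; rw [CohDeltaFunctor.id_app])
    rw [a, b]
  refine ⟨⟨τ, σ, h1, h2⟩, hτ, ?_⟩
  intro φ hφ
  apply Iso.ext
  exact hτu φ.hom hφ

end Groth.Agent.S6774
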