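import Groth.Statements.S6775

set_option autoImplicit false
open CategoryTheory CategoryTheory.Limits
universe v u
open CategoryTheory CategoryTheory.Abelian

namespace Groth.Agent.S6775

/-- In an abelian category a cartesian square whose bottom arrow `k` is an epimorphism is also
cocartesian, and the arrow `f` opposite to `k` is an epimorphism. -/
theorem result {A : Type u} [Category.{v} A] [Abelian A] {w x y z : A} (f : w ⟶ y) (g : w ⟶ x) (h : y ⟶ z) (k : x ⟶ z) (sq : IsPullback f g h k) [Epi k] : IsPushout f g h k ∧ Epi f := by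
  have hf : Epi f := Abelian.epi_fst_of_isLimit h k sq.isLimit
  refine ⟨?_, hf⟩
  -- k is the cokernel of its kernel
  have hcok : IsColimit (CokernelCofork.ofπ k (kernel.condition k)) :=
    Abelian.epiIsCokernelOfKernel (KernelFork.ofι (kernel.ι k) (kernel.condition k))
      (kernelIsKernel k)
  -- lift of the kernel to w
  have hlift : (0 : kernel k ⟶ y) ≫ h = kernel.ι k ≫ k := by simp
  refine IsPushout.of_isColimit' ⟨sq.w⟩ ?_
  refine PushoutCocone.IsColimit.mk sq.w
    (fun s => hcok.desc (CokernelCofork.ofπ s.inr (by
      have h1 : kernel.ι k = sq.lift 0 (kernel.ι k) hlift ≫ g := (sq.lift_snd _ _ _).symm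
      rw [h1, Category.assoc, ← s.condition, ← Category.assoc, sq.lift_fst, zero_comp])))
    ?_ ?_ ?_
  · intro s
    rw [← cancel_epi f, ← Category.assoc, sq.w, Category.assoc]
    have := hcok.fac (CokernelCofork.ofπ s.inr (by
      have h1 : kernel.ι k = sq.lift 0 (kernel.ι k) hlift ≫ g := (sq.lift_snd _ _ _).symm
      rw [h1, Category.assoc, ← s.condition, ← Category.assoc, sq.lift_fst, zero_comp]))
      WalkingParallelPair.one
    simp only [Cofork.ofπ_pt, Cofork.ofπ_ι_app] at this
    rw [this, s.condition]
  · intro s
    have := hcok.fac (CokernelCofork.ofπ s.inr (by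
      have h1 : kernel.ι k = sq.lift 0 (kernel.ι k) hlift ≫ g := (sq.lift_snd _ _ _).symm
      rw [h1, Category.assoc, ← s.condition, ← Category.assoc, sq.lift_fst, zero_comp]))
      WalkingParallelPair.one
    simpa using this
  · intro s m hm₁ hm₂
    rw [← cancel_epi k, hm₂]
    have := hcok.fac (CokernelCofork.ofπ s.inr (by
      have h1 : kernel.ι k = sq.lift 0 (kernel.ι k) hlift ≫ g := (sq.lift_snd _ _ _).symm
      rw [h1, Category.assoc, ← s.condition, ← Category.assoc, sq.lift_fst, zero_comp]))
      WalkingParallelPair.one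
    simpa using this.symm

end Groth.Agent.S6775
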