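import Groth.Statements.S6776

set_option autoImplicit false
open CategoryTheory CategoryTheory.Limits
universe v u
open CategoryTheory CategoryTheory.Abelian

namespace Groth.Agent.S6776

/-- In an abelian category a cocartesian square whose left arrow `g` is a monomorphism is also
cartesian, and the arrow `h` opposite to `g` is a monomorphism. -/
theorem result {A : Type u} [Category.{v} A] [Abelian A] {w x y z : A} (f : w ⟶ y) (g : w ⟶ x) (h : y ⟶ z) (k : x ⟶ z) (sq : IsPushout f g h k) [Mono g] : IsPullback f g h k ∧ Mono h := by
  have hh : Mono h := Abelian.mono_inl_of_isColimit f g sq.isColimit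
  refine ⟨?_, hh⟩
  -- g is the kernel of its cokernel
  have hker : IsLimit (KernelFork.ofι g (cokernel.condition g)) :=
    Abelian.monoIsKernelOfCokernel (CokernelCofork.ofπ (cokernel.π g) (cokernel.condition g))
      (cokernelIsCokernel g)
  have hdesc : f ≫ (0 : y ⟶ cokernel g) = g ≫ cokernel.π g := by simp
  refine IsPullback.of_isLimit' ⟨sq.w⟩ ?_
  refine PullbackCone.IsLimit.mk sq.w
    (fun s => hker.lift (KernelFork.ofι s.snd (by
      have h1 : cokernel.π g = k ≫ sq.desc 0 (cokernel.π g) hdesc := (sq.inr_desc _ _ _).symm
      rw [h1, ← Category.assoc, ← s.condition, Category.assoc, sq.inl_desc, comp_zero])))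
    ?_ ?_ ?_
  · intro s
    rw [← cancel_mono h, Category.assoc, sq.w, ← Category.assoc]
    have := hker.fac (KernelFork.ofι s.snd (by
      have h1 : cokernel.π g = k ≫ sq.desc 0 (cokernel.π g) hdesc := (sq.inr_desc _ _ _).symm
      rw [h1, ← Category.assoc, ← s.condition, Category.assoc, sq.inl_desc, comp_zero])) WalkingParallelPair.zero
    simp only [Fork.ofι_pt, Fork.ofι_π_app] at this
    rw [this, s.condition]
  · intro s
    have := hker.fac (KernelFork.ofι s.snd (by
      have h1 : cokernel.π g = k ≫ sq.desc 0 (cokernel.π g) hdesc := (sq.inr_desc _ _ _).symm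
      rw [h1, ← Category.assoc, ← s.condition, Category.assoc, sq.inl_desc, comp_zero])) WalkingParallelPair.zero
    simpa using this
  · intro s m hm₁ hm₂
    rw [← cancel_mono g, hm₂]
    have := hker.fac (KernelFork.ofι s.snd (by
      have h1 : cokernel.π g = k ≫ sq.desc 0 (cokernel.π g) hdesc := (sq.inr_desc _ _ _).symm
      rw [h1, ← Category.assoc, ← s.condition, Category.assoc, sq.inl_desc, comp_zero])) WalkingParallelPair.zero
    simpa using this.symm

end Groth.Agent.S6776
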