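import Groth.Statements.S6785
import Groth.Agent.Lib.helper13.TrivFib

set_option autoImplicit false
open CategoryTheory
universe u
open SSet

namespace Groth.Agent.S6785

/-- A trivial Kan fibration `f : X ⟶ Y` of simplicial sets is a homotopy equivalence; more precisely it
has a section `g`, and `g ∘ f` is homotopic to the identity of `X` by a single homotopy in each
direction. (The published statement only asserts a homotopy equivalence; the section and the
one-step homotopies are what its proof constructs.) -/
theorem result {X Y : SSet.{u}} (f : X ⟶ Y) (hf : SSet.modelCategoryQuillen.I.rlp f) : ∃ g : Y ⟶ X, g ≫ f = 𝟙 Y ∧ Nonempty (SSet.Homotopy (𝟙 X) (f ≫ g)) ∧ Nonempty (SSet.Homotopy (f ≫ g) (𝟙 X)) := by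
  have hf' : (MorphismProperty.monomorphisms SSet.{u}).rlp f := by
    rw [SSet.rlp_monomorphisms]
    exact hf
  have sq : CommSq (SSet.Subcomplex.isInitialBot.to X) (⊥ : Y.Subcomplex).ι f (𝟙 Y) :=
    ⟨SSet.Subcomplex.isInitialBot.hom_ext _ _⟩
  have hl : HasLiftingProperty (⊥ : Y.Subcomplex).ι f :=
    hf' _ (MorphismProperty.monomorphisms.infer_property _)
  have hg : sq.lift ≫ f = 𝟙 Y := sq.fac_right
  refine ⟨sq.lift, hg, ?_, ?_⟩
  · exact Groth.Agent.Lib.helper13.TrivFib.homotopy_of_comp_eq f hf' _ _
      (by rw [Category.id_comp, Category.assoc, hg, Category.comp_id])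
  · exact Groth.Agent.Lib.helper13.TrivFib.homotopy_of_comp_eq f hf' _ _
      (by rw [Category.id_comp, Category.assoc, hg, Category.comp_id])

end Groth.Agent.S6785
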