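import Groth.Statements.S6786
import Mathlib
-- import your own Groth.Agent.* helpers here

set_option autoImplicit false
open CategoryTheory CategoryTheory.Limits
universe u
open HomAlg3

namespace Groth.Agent.S6786

namespace H5S6786

lemma nonempty_sections_of_ML (F : ℕᵒᵖ ⥤ Type u) (hF : F.IsMittagLeffler)
    (hne : ∀ j, Nonempty (F.obj j)) : Nonempty F.sections := by
  haveI := hne
  have hsurj : ∀ n, Function.Surjective
      (F.toEventualRanges.map (homOfLE (Nat.le_succ n)).op) :=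
    fun n => F.surjective_toEventualRanges hF _
  obtain ⟨z⟩ := F.toEventualRanges_nonempty hF ⟨0⟩
  obtain ⟨s, -⟩ := Types.surjective_π_app_zero_of_surjective_map
    (Types.limitConeIsLimit F.toEventualRanges) hsurj z
  exact ⟨F.toEventualRangesSectionsEquiv s⟩


section
variable {A B C : ℕᵒᵖ ⥤ AddCommGrpCat.{u}} (a : A ⟶ B) (b : B ⟶ C)
  (x : ∀ i, C.obj i) (hx : ∀ {i j : ℕᵒᵖ} (f : i ⟶ j), (C.map f).hom (x i) = x j)

lemma nat_apply {i j : ℕᵒᵖ} (f : i ⟶ j) (y : B.obj i) :
    (b.app j).hom ((B.map f).hom y) = (C.map f).hom ((b.app i).hom y) := by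
  have := b.naturality f
  have h2 := congrArg (fun g => g.hom y) this
  simpa using h2

/-- the system of fibres -/
def E : ℕᵒᵖ ⥤ Type u where
  obj i := {y : B.obj i // (b.app i).hom y = x i}
  map {i j} f := TypeCat.ofHom (fun y => ⟨(B.map f).hom y.1, by
    rw [nat_apply, y.2, hx]⟩)
  map_id i := by
    ext y
    simp
  map_comp f g := by
    ext y
    simp


lemma E_map_val {i j : ℕᵒᵖ} (f : i ⟶ j) (y : (E b x hx).obj i) :
    ((E b x hx).map f y).1 = (B.map f).hom y.1 := rfl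

lemma E_core (hB : ∀ i, (b.app i).hom.ker = (a.app i).hom.range)
    {i j k : ℕᵒᵖ} (f : i ⟶ j) (h : k ⟶ i)
    (hf : Set.range ((A ⋙ forget AddCommGrpCat).map f) ⊆
      Set.range ((A ⋙ forget AddCommGrpCat).map (h ≫ f)))
    (z : (E b x hx).obj k) (y : (E b x hx).obj i) :
    ∃ z' : (E b x hx).obj k, (E b x hx).map (h ≫ f) z' = (E b x hx).map f y := by
  have hz : (b.app i).hom ((B.map h).hom z.1) = x i := by rw [nat_apply, z.2, hx]
  have hker : y.1 - (B.map h).hom z.1 ∈ (b.app i).hom.ker := by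
    rw [AddMonoidHom.mem_ker, map_sub, hz, y.2, sub_self]
  rw [hB] at hker
  obtain ⟨w, hw⟩ := hker
  obtain ⟨v, hv⟩ := hf ⟨w, rfl⟩
  have hv' : (A.map (h ≫ f)).hom v = (A.map f).hom w := hv
  have hav : (b.app k).hom ((a.app k).hom v) = 0 := by
    have : (a.app k).hom v ∈ (b.app k).hom.ker := by rw [hB]; exact ⟨v, rfl⟩
    exact this
  refine ⟨⟨z.1 + (a.app k).hom v, by rw [map_add, hav, z.2, add_zero]⟩, ?_⟩
  apply Subtype.ext
  rw [E_map_val, E_map_val]
  show (B.map (h ≫ f)).hom (z.1 + (a.app k).hom v) = (B.map f).hom y.1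
  rw [map_add, ← nat_apply a, hv', nat_apply a, hw, B.map_comp]
  simp


lemma E_ML (hB : ∀ i, (b.app i).hom.ker = (a.app i).hom.range)
    (hA : (A ⋙ forget AddCommGrpCat).IsMittagLeffler)
    (hne : ∀ i, Nonempty ((E b x hx).obj i)) : (E b x hx).IsMittagLeffler := by
  intro j
  obtain ⟨i, f, hf⟩ := hA j
  refine ⟨i, f, fun k g => ?_⟩
  rintro _ ⟨y, rfl⟩
  -- a common refinement of `k` and `i`
  let k' : ℕᵒᵖ := Opposite.op (max k.unop i.unop)
  let h1 : k' ⟶ k := (homOfLE (le_max_left k.unop i.unop)).op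
  let h2 : k' ⟶ i := (homOfLE (le_max_right k.unop i.unop)).op
  have hcomm : h2 ≫ f = h1 ≫ g := Subsingleton.elim _ _
  obtain ⟨z⟩ := hne k'
  obtain ⟨z', hz'⟩ := E_core a b x hx hB f h2 (hf _) z y
  refine ⟨(E b x hx).map h1 z', ?_⟩
  rw [← hz', hcomm, (E b x hx).map_comp]
  rfl

include hx in
lemma exists_family (hB : ∀ i, (b.app i).hom.ker = (a.app i).hom.range)
    (hA : (A ⋙ forget AddCommGrpCat).IsMittagLeffler)
    (hxb : ∀ i, x i ∈ (b.app i).hom.range) :
    ∃ y : ∀ i, B.obj i, (∀ {i j : ℕᵒᵖ} (f : i ⟶ j), (B.map f).hom (y i) = y j) ∧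
      ∀ i, (b.app i).hom (y i) = x i := by
  have hne : ∀ i, Nonempty ((E b x hx).obj i) := fun i => by
    obtain ⟨y, hy⟩ := hxb i
    exact ⟨⟨y, hy⟩⟩
  obtain ⟨s⟩ := nonempty_sections_of_ML _ (E_ML a b x hx hB hA hne) hne
  refine ⟨fun i => (s.1 i).1, fun {i j} f => ?_, fun i => (s.1 i).2⟩
  have := congrArg Subtype.val (s.2 f)
  exact this

end


lemma limMap_apply {B C : ℕᵒᵖ ⥤ AddCommGrpCat.{u}} (b : B ⟶ C) (i : ℕᵒᵖ) (η : ↑(limit B)) :
    (limit.π C i).hom ((limMap b).hom η) = (b.app i).hom ((limit.π B i).hom η) := by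
  have h2 := congrArg (fun g => g.hom η) (limMap_π b i)
  simpa using h2

theorem main {A B C D : ℕᵒᵖ ⥤ AddCommGrpCat.{u}} (a : A ⟶ B) (b : B ⟶ C) (c : C ⟶ D)
    (hB : ∀ i, (b.app i).hom.ker = (a.app i).hom.range)
    (hC : ∀ i, (c.app i).hom.ker = (b.app i).hom.range)
    (hA : (A ⋙ forget AddCommGrpCat).IsMittagLeffler) :
    (limMap c).hom.ker = (limMap b).hom.range := by
  apply le_antisymm
  · intro ξ hξ
    rw [AddMonoidHom.mem_ker] at hξ
    let x : ∀ i, C.obj i := fun i => (limit.π C i).hom ξ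
    have hx : ∀ {i j : ℕᵒᵖ} (f : i ⟶ j), (C.map f).hom (x i) = x j := by
      intro i j f
      have h2 : ((limit.π C i) ≫ C.map f).hom ξ = (limit.π C j).hom ξ := by rw [limit.w C f]
      exact h2
    have hxb : ∀ i, x i ∈ (b.app i).hom.range := by
      intro i
      rw [← hC, AddMonoidHom.mem_ker]
      show (c.app i).hom ((limit.π C i).hom ξ) = 0
      rw [← limMap_apply, hξ, map_zero]
    obtain ⟨y, hy, hyx⟩ := exists_family a b x hx hB hA hxb
    let hlim := isLimitOfPreserves (forget AddCommGrpCat) (limit.isLimit B)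
    let s : (B ⋙ forget AddCommGrpCat).sections := ⟨y, fun f => hy f⟩
    let η : ↑(limit B) := (Types.isLimitEquivSections hlim).symm s
    have hη : ∀ i, (limit.π B i).hom η = y i :=
      fun i => Types.isLimitEquivSections_symm_apply hlim s i
    refine ⟨η, ?_⟩
    apply Concrete.limit_ext
    intro i
    show (limit.π C i).hom ((limMap b).hom η) = (limit.π C i).hom ξ
    rw [limMap_apply, hη, hyx]
  · rintro _ ⟨η, rfl⟩
    rw [AddMonoidHom.mem_ker]
    apply Concrete.limit_ext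
    intro i
    show (limit.π D i).hom ((limMap c).hom ((limMap b).hom η)) = (limit.π D i).hom 0
    rw [limMap_apply, limMap_apply, map_zero]
    have : (b.app i).hom ((limit.π B i).hom η) ∈ (c.app i).hom.ker := by
      rw [hC]; exact ⟨_, rfl⟩
    exact this

end H5S6786


/-- For a sequence `(A_i) ⟶ (B_i) ⟶ (C_i) ⟶ (D_i)` of inverse systems of abelian groups over `ℕ` that is
exact levelwise at the two middle places, if `(A_i)` is Mittag-Leffler then `lim B_i ⟶ lim C_i ⟶ lim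
D_i` is exact. -/
theorem result {A B C D : ℕᵒᵖ ⥤ AddCommGrpCat.{u}} (a : A ⟶ B) (b : B ⟶ C) (c : C ⟶ D) (hB : ∀ i, (b.app i).hom.ker = (a.app i).hom.range) (hC : ∀ i, (c.app i).hom.ker = (b.app i).hom.range) (hA : (A ⋙ forget AddCommGrpCat).IsMittagLeffler) : (limMap c).hom.ker = (limMap b).hom.range := by
  exact H5S6786.main a b c hB hC hA

end Groth.Agent.S6786
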