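import Groth.Statements.S6790
import Mathlib.Tactic

set_option autoImplicit false
open CategoryTheory CategoryTheory.Limits MonoidalCategory
universe v u
open CategoryTheory CategoryTheory.Monoidal

namespace Groth.Agent.S6790

section
variable {A : Type u} [Category.{v} A] [MonoidalCategory A]

open ExactPairing in
lemma ev_coev_aux {X X₁ Y Y₁ : A} [ExactPairing X Y] (i : X₁ ⟶ X) (p : X ⟶ X₁) (hip : i ≫ p = 𝟙 X₁)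
    (j : Y₁ ⟶ Y) (q : Y ⟶ Y₁)
    (h : (q ≫ j) ▷ X ≫ ε_ X Y = Y ◁ (p ≫ i) ≫ ε_ X Y) :
    (η_ X Y ≫ p ▷ Y ≫ X₁ ◁ q) ▷ X₁ ≫ (α_ _ _ _).hom ≫ X₁ ◁ (j ▷ X₁ ≫ Y ◁ i ≫ ε_ X Y) =
      (λ_ X₁).hom ≫ (ρ_ X₁).inv := by
  calc _ = η_ X Y ▷ X₁ ⊗≫ p ▷ Y ▷ X₁ ⊗≫ X₁ ◁ ((q ≫ j) ▷ X₁ ≫ Y ◁ i) ⊗≫ X₁ ◁ ε_ X Y := by
        monoidal
    _ = η_ X Y ▷ X₁ ⊗≫ p ▷ Y ▷ X₁ ⊗≫ X₁ ◁ Y ◁ i ⊗≫ X₁ ◁ ((q ≫ j) ▷ X ≫ ε_ X Y) := by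
        rw [← whisker_exchange]; monoidal
    _ = η_ X Y ▷ X₁ ⊗≫ p ▷ Y ▷ X₁ ⊗≫ X₁ ◁ Y ◁ ((i ≫ p) ≫ i) ⊗≫ X₁ ◁ ε_ X Y := by
        rw [h]; monoidal
    _ = η_ X Y ▷ X₁ ⊗≫ (p ▷ (Y ⊗ X₁) ≫ X₁ ◁ (Y ◁ i)) ⊗≫ X₁ ◁ ε_ X Y := by
        rw [hip, Category.id_comp]; monoidal
    _ = (η_ X Y ▷ X₁ ≫ (X ⊗ Y) ◁ i) ⊗≫ (p ▷ (Y ⊗ X) ≫ X₁ ◁ ε_ X Y) := by
        rw [← whisker_exchange]; monoidal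
    _ = 𝟙 _ ⊗≫ 𝟙_ A ◁ i ⊗≫ (η_ X Y ▷ X ⊗≫ X ◁ ε_ X Y) ⊗≫ p ▷ 𝟙_ A ⊗≫ 𝟙 _ := by
        rw [← whisker_exchange, ← whisker_exchange]; monoidal
    _ = (λ_ X₁).hom ≫ (i ≫ p) ≫ (ρ_ X₁).inv := by
        rw [evaluation_coevaluation'']; monoidal
    _ = _ := by rw [hip, Category.id_comp]


open ExactPairing in
lemma coev_ev_aux {X X₁ Y Y₁ : A} [ExactPairing X Y] (i : X₁ ⟶ X) (p : X ⟶ X₁)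
    (j : Y₁ ⟶ Y) (q : Y ⟶ Y₁) (hjq : j ≫ q = 𝟙 Y₁)
    (h : (q ≫ j) ▷ X ≫ ε_ X Y = Y ◁ (p ≫ i) ≫ ε_ X Y) :
    Y₁ ◁ (η_ X Y ≫ p ▷ Y ≫ X₁ ◁ q) ≫ (α_ _ _ _).inv ≫ (j ▷ X₁ ≫ Y ◁ i ≫ ε_ X Y) ▷ Y₁ =
      (ρ_ Y₁).hom ≫ (λ_ Y₁).inv := by
  calc _ = Y₁ ◁ η_ X Y ⊗≫ Y₁ ◁ p ▷ Y ⊗≫
          ((Y₁ ⊗ X₁) ◁ q ≫ (j ▷ X₁ ≫ Y ◁ i ≫ ε_ X Y) ▷ Y₁) := by
        monoidal
    _ = (Y₁ ◁ (η_ X Y ≫ p ▷ Y) ≫ j ▷ (X₁ ⊗ Y)) ⊗≫ (Y ◁ i ≫ ε_ X Y) ▷ Y ⊗≫ 𝟙_ A ◁ q := by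
        rw [whisker_exchange]; monoidal
    _ = j ▷ 𝟙_ A ⊗≫ Y ◁ η_ X Y ⊗≫ (Y ◁ (p ≫ i) ≫ ε_ X Y) ▷ Y ⊗≫ 𝟙_ A ◁ q := by
        rw [whisker_exchange]; monoidal
    _ = j ▷ 𝟙_ A ⊗≫ (Y ◁ η_ X Y ≫ (q ≫ j) ▷ (X ⊗ Y)) ⊗≫ ε_ X Y ▷ Y ⊗≫ 𝟙_ A ◁ q := by
        rw [← h]; monoidal
    _ = ((j ≫ q) ≫ j) ▷ 𝟙_ A ⊗≫ (Y ◁ η_ X Y ⊗≫ ε_ X Y ▷ Y) ⊗≫ 𝟙_ A ◁ q := by
        rw [whisker_exchange]; monoidal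
    _ = j ▷ 𝟙_ A ⊗≫ (Y ◁ η_ X Y ⊗≫ ε_ X Y ▷ Y) ⊗≫ 𝟙_ A ◁ q := by
        rw [hjq, Category.id_comp]
    _ = (ρ_ Y₁).hom ≫ (j ≫ q) ≫ (λ_ Y₁).inv := by
        rw [coevaluation_evaluation'']; monoidal
    _ = _ := by rw [hjq, Category.id_comp]


/-- Exact pairing on a retract. -/
lemma pairing_aux {X X₁ Y Y₁ : A} [ExactPairing X Y] (i : X₁ ⟶ X) (p : X ⟶ X₁) (hip : i ≫ p = 𝟙 X₁)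
    (j : Y₁ ⟶ Y) (q : Y ⟶ Y₁) (hjq : j ≫ q = 𝟙 Y₁)
    (h : (q ≫ j) ▷ X ≫ ε_ X Y = Y ◁ (p ≫ i) ≫ ε_ X Y) :
    Nonempty (ExactPairing X₁ Y₁) :=
  ⟨{ coevaluation' := η_ X Y ≫ p ▷ Y ≫ X₁ ◁ q
     evaluation' := j ▷ X₁ ≫ Y ◁ i ≫ ε_ X Y
     coevaluation_evaluation' := coev_ev_aux i p j q hjq h
     evaluation_coevaluation' := ev_coev_aux i p hip j q h }⟩

end

/-- In an idempotent-complete additive monoidal category, a direct summand of an object admitting a dual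
(with coevaluation `𝟙_ A ⟶ X ⊗ Y` and evaluation `Y ⊗ X ⟶ 𝟙_ A`) again admits such a dual. -/
theorem result {A : Type u} [Category.{v} A] [Preadditive A] [HasFiniteBiproducts A] [MonoidalCategory A] [MonoidalPreadditive A] [IsIdempotentComplete A] {X X₁ : A} (i : X₁ ⟶ X) (p : X ⟶ X₁) (hip : i ≫ p = 𝟙 X₁) [HasRightDual X] : Nonempty (HasRightDual X₁) := by
  have hidem : ((p ≫ i)ᘁ) ≫ ((p ≫ i)ᘁ) = ((p ≫ i)ᘁ) := by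
    rw [← comp_rightAdjointMate]
    congr 1
    rw [Category.assoc, reassoc_of% hip]
  obtain ⟨Y₁, j, q, hjq, hqj⟩ := IsIdempotentComplete.idempotents_split (Xᘁ) ((p ≫ i)ᘁ) hidem
  obtain ⟨h⟩ := pairing_aux (Y := Xᘁ) i p hip j q hjq (by
    rw [hqj, rightAdjointMate_comp_evaluation])
  exact ⟨⟨Y₁⟩⟩

end Groth.Agent.S6790
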