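import Mathlib
import Groth.Statements.S6791

set_option autoImplicit false
open CategoryTheory CategoryTheory.Limits
universe v u v' u' v'' u''
open CategoryTheory CategoryTheory.SerreClass

namespace Groth.Agent.S6791

/-- For an exact functor `F : A ⥤ B` of abelian categories and a Serre class `P` of `A` killed by `F`,
with `L : A ⥤ Q` a model of the quotient `A/P` and `Fbar : Q ⥤ B` the induced functor, `P` is
exactly the kernel of `F` if and only if `Fbar` is faithful. -/
theorem result {A : Type u} [Category.{v} A] [Abelian A] {B : Type u'} [Category.{v'} B] [Abelian B] (F : A ⥤ B) [F.Additive] [PreservesFiniteLimits F] [PreservesFiniteColimits F] (P : ObjectProperty A) [P.IsSerreClass] (hP : ∀ X : A, P X → IsZero (F.obj X)) {Q : Type u''} [Category.{v''} Q] [Abelian Q] (L : A ⥤ Q) [L.IsLocalization P.isoModSerre] [L.Additive] [PreservesFiniteLimits L] [PreservesFiniteColimits L] (Fbar : Q ⥤ B) (e : L ⋙ Fbar ≅ F) : (∀ X : A, IsZero (F.obj X) → P X) ↔ Fbar.Faithful := by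
  have hadd : (L ⋙ Fbar).Additive := Functor.additive_of_iso e.symm
  have hFbar : Fbar.Additive := (Localization.functor_additive_iff L P.isoModSerre Fbar).2 hadd
  constructor
  · intro h
    have key : ∀ {M N : Q} (g : M ⟶ N), Fbar.map g = 0 → g = 0 := by
      intro M N g hg
      obtain ⟨f', ⟨iso⟩⟩ :=
        (Localization.essSurj_mapArrow L P.isoModSerre).mem_essImage (Arrow.mk g)
      -- iso : L.mapArrow.obj f' ≅ Arrow.mk g
      let a : L.obj f'.left ⟶ M := iso.hom.left
      let b : L.obj f'.right ⟶ N := iso.hom.right
      have ha : IsIso a := inferInstanceAs (IsIso iso.hom.left)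
      have hb : IsIso b := inferInstanceAs (IsIso iso.hom.right)
      have hw : a ≫ g = L.map f'.hom ≫ b := iso.hom.w
      have hLf : Fbar.map (L.map f'.hom) = 0 := by
        have h1 : Fbar.map (L.map f'.hom) ≫ Fbar.map b = 0 := by
          rw [← Fbar.map_comp, ← hw, Fbar.map_comp, hg, comp_zero]
        exact (cancel_mono (Fbar.map b)).1 (by rw [h1, zero_comp])
      have hFf : F.map f'.hom = 0 := by
        have := e.hom.naturality f'.hom
        dsimp at this
        rw [hLf, zero_comp] at this
        have h2 : F.map f'.hom = e.inv.app _ ≫ (e.hom.app _ ≫ F.map f'.hom) := by simp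
        rw [h2, ← this, comp_zero]
      have hzero : IsZero (F.obj (Abelian.image f'.hom)) := by
        have h3 : F.map (Abelian.factorThruImage f'.hom) ≫ F.map (Abelian.image.ι f'.hom) = 0 := by
          rw [← F.map_comp, Abelian.image.fac, hFf]
        have h4 : F.map (Abelian.image.ι f'.hom) = 0 :=
          (cancel_epi (F.map (Abelian.factorThruImage f'.hom))).1 (by rw [h3, comp_zero])
        exact IsZero.of_mono_eq_zero _ h4
      have hPim : P (Abelian.image f'.hom) := h _ hzero
      have hL0 : L.map f'.hom = 0 := (ObjectProperty.SerreClassLocalization.map_eq_zero_iff L P f'.hom).2 hPim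
      rw [hL0, zero_comp] at hw
      exact (cancel_epi a).1 (by rw [hw, comp_zero])
    constructor
    intro M N g₁ g₂ hg
    have := key (g₁ - g₂) (by rw [Fbar.map_sub, hg, sub_self])
    exact sub_eq_zero.1 this
  · intro hfaith X hX
    rw [← ObjectProperty.SerreClassLocalization.isZero_obj_iff L P X]
    have h1 : IsZero (Fbar.obj (L.obj X)) := IsZero.of_iso hX (e.app X)
    rw [IsZero.iff_id_eq_zero]
    apply Fbar.map_injective
    rw [Fbar.map_id, Fbar.map_zero]
    exact (IsZero.iff_id_eq_zero _).1 h1

end Groth.Agent.S6791
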