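import Groth.Statements.S6795
import Mathlib.Tactic

set_option autoImplicit false
open CategoryTheory CategoryTheory.Limits
universe v u
open CategoryTheory CategoryTheory.Preadditive

namespace Groth.Agent.S6795

/-- A preadditive category with countable products in which split epimorphisms have kernels is
idempotent complete (Karoubian). -/
theorem result {D : Type u} [Category.{v} D] [Preadditive D] [HasCountableProducts D] (hk : ∀ ⦃X Y : D⦄ (f : X ⟶ Y), IsSplitEpi f → HasKernel f) : IsIdempotentComplete D := by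
  constructor
  intro X e he
  let P : D := ∏ᶜ (fun _ : ℕ => X)
  let π : ∀ n : ℕ, P ⟶ X := fun n => Pi.π (fun _ : ℕ => X) n
  let s : P ⟶ P := Pi.lift (fun n => π (n + 1) ≫ e)
  let f : P ⟶ P := 𝟙 P - s
  let σ : P ⟶ P := Pi.lift (fun n => π n ≫ (𝟙 X - e) - (∑ k ∈ Finset.range n, π k) ≫ e)
  have hsπ : ∀ n, s ≫ π n = π (n + 1) ≫ e := fun n => Pi.lift_π _ _
  have hσπ : ∀ n, σ ≫ π n = π n ≫ (𝟙 X - e) - (∑ k ∈ Finset.range n, π k) ≫ e :=
    fun n => Pi.lift_π _ _
  have hfπ : ∀ n, f ≫ π n = π n - π (n + 1) ≫ e := by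
    intro n
    simp only [f, sub_comp, Category.id_comp, hsπ]
  have hσ : σ ≫ f = 𝟙 P := by
    apply Pi.hom_ext
    intro n
    change (σ ≫ f) ≫ π n = 𝟙 P ≫ π n
    rw [Category.assoc, hfπ, comp_sub, ← Category.assoc, hσπ, hσπ, Finset.sum_range_succ]
    simp only [sub_comp, comp_sub, add_comp, Category.assoc, Category.comp_id, he, Category.id_comp]
    abel
  haveI : IsSplitEpi f := IsSplitEpi.mk' ⟨σ, hσ⟩
  haveI : HasKernel f := hk f inferInstance
  let ι : kernel f ⟶ P := kernel.ι f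
  let c : X ⟶ P := Pi.lift (fun _ => e)
  have hcπ : ∀ n, c ≫ π n = e := fun n => Pi.lift_π _ _
  have hc : c ≫ f = 0 := by
    apply Pi.hom_ext
    intro n
    change (c ≫ f) ≫ π n = 0 ≫ π n
    rw [Category.assoc, hfπ, comp_sub, hcπ, ← Category.assoc, hcπ, he, sub_self, zero_comp]
  have h1 : ∀ n, ι ≫ π n = ι ≫ π (n + 1) ≫ e := by
    intro n
    have : (ι ≫ f) ≫ π n = 0 := by rw [kernel.condition, zero_comp]
    rw [Category.assoc, hfπ, comp_sub, sub_eq_zero] at this
    exact this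
  have h2 : ∀ n, ι ≫ π n ≫ e = ι ≫ π n := by
    intro n
    rw [← Category.assoc, h1 n, Category.assoc, Category.assoc, he]
  have h3 : ∀ n, ι ≫ π (n + 1) = ι ≫ π n := by
    intro n
    rw [h1 n, h2 (n + 1)]
  have h4 : ∀ n, ι ≫ π n = ι ≫ π 0 := by
    intro n
    induction n with
    | zero => rfl
    | succ n ih => rw [h3, ih]
  refine ⟨kernel f, ι ≫ π 0, kernel.lift f c hc, ?_, ?_⟩
  · rw [← cancel_mono (kernel.ι f), Category.assoc, Category.assoc, kernel.lift_ι, Category.id_comp]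
    apply Pi.hom_ext
    intro n
    change (ι ≫ π 0 ≫ c) ≫ π n = ι ≫ π n
    rw [Category.assoc, Category.assoc, hcπ, h2, h4 n]
  · rw [← Category.assoc, kernel.lift_ι, hcπ]

end Groth.Agent.S6795
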