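import Groth.Statements.S6805
import Mathlib

set_option autoImplicit false
open CategoryTheory
universe u
open SSet

namespace Groth.Agent.S6805

/-- The simplicial set freely generated by an `m`-truncated simplicial set (its image under the left
adjoint of `m`-truncation) has only degenerate simplices above dimension `m`. -/
theorem result (m : ℕ) (U : SSet.Truncated.{u} m) : ((SSet.Truncated.sk m).obj U).HasDimensionLT (m + 1) := by
  let L := (SimplexCategory.Truncated.inclusion m).op
  have hp := Functor.isPointwiseLeftKanExtensionLeftKanExtensionUnit L U
  refine ⟨fun n hn => ?_⟩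
  ext x
  simp only [Set.top_eq_univ, Set.mem_univ, iff_true]
  obtain ⟨g, y, hy⟩ := Limits.Types.jointly_surjective_of_isColimit (hp (Opposite.op (SimplexCategory.mk n))) x
  refine ⟨g.left.unop.obj.len, lt_of_le_of_lt g.left.unop.property hn, g.hom.unop, ?_⟩
  refine ⟨(L.leftKanExtensionUnit U).app g.left y, ?_⟩
  exact hy

end Groth.Agent.S6805
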