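import Groth.Statements.S6807
import Mathlib
import Groth.Agent.Lib.helper5.LimCx
import Groth.Agent.S6786
import Groth.Agent.S6787
-- import your own Groth.Agent.* helpers here

set_option autoImplicit false
open CategoryTheory CategoryTheory.Limits
universe u
open HomAlg3

namespace Groth.Agent.S6807

/-- For an inverse system of cochain complexes of abelian groups over `ℕ` whose terms in degrees `n-2`
and `n-1` form Mittag-Leffler systems and whose degree-`(n-1)` cohomologies form an essentially
constant system, the canonical map from the degree-`n` cohomology of the limit complex to the limit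
of the degree-`n` cohomologies is an isomorphism. (The published statement is for four-term
complexes in degrees `-2, …, 1`; only those four degrees of a longer complex enter.) -/
theorem result (K : ℕᵒᵖ ⥤ HomologicalComplex AddCommGrpCat.{u} (ComplexShape.up ℤ)) (n : ℤ) (h2 : ((K ⋙ HomologicalComplex.eval _ _ (n - 2)) ⋙ forget AddCommGrpCat).IsMittagLeffler) (h1 : ((K ⋙ HomologicalComplex.eval _ _ (n - 1)) ⋙ forget AddCommGrpCat).IsMittagLeffler) (hH : ∃ (C₀ : AddCommGrpCat.{u}) (c : (Functor.const ℕᵒᵖ).obj C₀ ⟶ K ⋙ HomologicalComplex.homologyFunctor _ _ (n - 1)), DerCA.IsEssConstant (K ⋙ HomologicalComplex.homologyFunctor _ _ (n - 1)) C₀ c) : IsIso (limit.post K (HomologicalComplex.homologyFunctor _ _ n)) := by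
  obtain ⟨C₀, c0, hc0⟩ := hH
  have e1 : n - 1 + 1 = n := by ring
  have e2 : n - 2 + 1 = n - 1 := by ring
  -- Mittag-Leffler for the cycles in degree `n - 1`
  have hZ : ((H5LimCx.Zn K (n - 1)) ⋙ forget AddCommGrpCat).IsMittagLeffler := by
    rw [Groth.Agent.S6787.H5S6787.ML_iff]
    refine Groth.Agent.S6787.H5S6787.ML_ext (H5LimCx.tNat K (n - 2) (n - 1)) (H5LimCx.πNat K (n - 1))
      (fun i => H5LimCx.πNat_surj K (n - 1) i) (fun i => H5LimCx.πNat_ker K (n - 2) (n - 1) e2 i)
      ?_ ?_
    · exact (Groth.Agent.S6787.H5S6787.ML_iff _).mp h2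
    · exact Groth.Agent.S6787.H5S6787.MLnat_of_ess c0 hc0
  have hsurj := H5LimCx.post_surjective K n (n + 1) rfl (fun x hx =>
    Groth.Agent.S6786.H5S6786.exists_family (H5LimCx.tNat K (n - 1) n) (H5LimCx.πNat K n) x hx
      (fun i => H5LimCx.πNat_ker K (n - 1) n e1 i) h1
      (fun i => by
        obtain ⟨z, hz⟩ := H5LimCx.πNat_surj K n i (x i)
        exact ⟨z, hz⟩))
  have hinj := H5LimCx.post_injective K (n - 1) n e1 (fun y hy hyr =>
    Groth.Agent.S6786.H5S6786.exists_family (H5LimCx.iNat K (n - 1)) (H5LimCx.dNat K (n - 1) n) y hy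
      (fun i => H5LimCx.dNat_ker K (n - 1) n e1 i) hZ hyr)
  exact (ConcreteCategory.isIso_iff_bijective _).mpr ⟨hinj, hsurj⟩

end Groth.Agent.S6807
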