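import Groth.Statements.S6808

set_option autoImplicit false
open CategoryTheory Opposite
universe u
open SSet

namespace Groth.Agent.S6808

/-- A map of simplicial sets preserving non-degeneracy of simplices and injective on non-degenerate
simplices is injective in every dimension. -/
theorem result {U V : SSet.{u}} (f : U ⟶ V) (ha : ∀ (n : ℕ) (x : U.obj (op (SimplexCategory.mk n))), x ∈ U.nonDegenerate n → f.app (op (SimplexCategory.mk n)) x ∈ V.nonDegenerate n) (hb : ∀ n : ℕ, Set.InjOn (f.app (op (SimplexCategory.mk n))) (U.nonDegenerate n)) (n : ℕ) : Function.Injective (f.app (op (SimplexCategory.mk n))) := by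
  intro x x' hxx'
  obtain ⟨m, σ, hσ, y, hy⟩ := SSet.exists_nonDegenerate U x
  obtain ⟨m', σ', hσ', y', hy'⟩ := SSet.exists_nonDegenerate U x'
  have nat : ∀ {k : ℕ} (τ : SimplexCategory.mk n ⟶ SimplexCategory.mk k)
      (z : U.obj (op (SimplexCategory.mk k))),
      f.app (op (SimplexCategory.mk n)) (U.map τ.op z) =
        V.map τ.op (f.app (op (SimplexCategory.mk k)) z) := by
    intro k τ z
    exact NatTrans.naturality_apply f τ.op z
  have e1 : f.app (op (SimplexCategory.mk n)) x =
      V.map σ.op (f.app (op (SimplexCategory.mk m)) y.1) := by rw [hy, nat]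
  have e2 : f.app (op (SimplexCategory.mk n)) x =
      V.map σ'.op (f.app (op (SimplexCategory.mk m')) y'.1) := by rw [hxx', hy', nat]
  have hm : m = m' := SSet.unique_nonDegenerate_dim V (f.app (op (SimplexCategory.mk n)) x)
    σ ⟨_, ha m y.1 y.2⟩ e1 σ' ⟨_, ha m' y'.1 y'.2⟩ e2
  subst hm
  have h1 := SSet.unique_nonDegenerate_simplex V (f.app (op (SimplexCategory.mk n)) x)
    σ ⟨_, ha m y.1 y.2⟩ e1 σ' ⟨_, ha m y'.1 y'.2⟩ e2
  have h2 := SSet.unique_nonDegenerate_map V (f.app (op (SimplexCategory.mk n)) x)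
    σ ⟨_, ha m y.1 y.2⟩ e1 σ' ⟨_, ha m y'.1 y'.2⟩ e2
  have h3 : y.1 = y'.1 := hb m y.2 y'.2 (congrArg Subtype.val h1)
  rw [hy, hy', h2, h3]

end Groth.Agent.S6808
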