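import Groth.Statements.S6815
import Mathlib.CategoryTheory.Limits.FunctorCategory.Basic

set_option autoImplicit false
open CategoryTheory CategoryTheory.Limits
universe w v u
open CategoryTheory CategoryTheory.SimplicialObject

namespace Groth.Agent.S6815


section aux
open Opposite
variable {C : Type u} [Category.{v} C] {T : Type w} [HasLimitsOfShape (Discrete T) C]
  (Y : T → SimplicialObject C) (k : SimplexCategoryᵒᵖ)

noncomputable def isLim :
    IsLimit (((evaluation SimplexCategoryᵒᵖ C).obj k).mapCone (limit.cone (Discrete.functor Y))) :=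
  isLimitOfPreserves _ (limit.isLimit _)

lemma hext {W : C} (u v : W ⟶ (∏ᶜ Y).obj k)
    (h : ∀ t, u ≫ (Pi.π Y t).app k = v ≫ (Pi.π Y t).app k) : u = v :=
  (isLim Y k).hom_ext (fun ⟨t⟩ => h t)

noncomputable def lift {W : C} (φ : ∀ t, W ⟶ (Y t).obj k) : W ⟶ (∏ᶜ Y).obj k :=
  (isLim Y k).lift ⟨W, Discrete.natTrans (fun ⟨t⟩ => φ t)⟩

@[reassoc (attr := simp)]
lemma lift_π {W : C} (φ : ∀ t, W ⟶ (Y t).obj k) (t : T) :
    lift Y k φ ≫ (Pi.π Y t).app k = φ t :=
  (isLim Y k).fac _ ⟨t⟩

lemma map_π {X Y : T → SimplicialObject C} (a : ∀ t, X t ⟶ Y t) (k : SimplexCategoryᵒᵖ) (t : T) :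
    (Limits.Pi.map a).app k ≫ (Pi.π Y t).app k = (Pi.π X t).app k ≫ (a t).app k := by
  rw [← NatTrans.comp_app, ← NatTrans.comp_app, Limits.Pi.map_π]

noncomputable def prodHomotopy {X Y : T → SimplicialObject C} (a b : ∀ t, X t ⟶ Y t)
    (H : ∀ t, SimplicialObject.Homotopy (a t) (b t)) :
    SimplicialObject.Homotopy (Limits.Pi.map a) (Limits.Pi.map b) where
  h {n} i := lift Y (op (SimplexCategory.mk (n + 1)))
    (fun t => (Pi.π X t).app (op (SimplexCategory.mk n)) ≫ (H t).h i)
  h_zero_comp_δ_zero n := by
    apply hext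
    intro t
    simp only [Category.assoc, SimplicialObject.δ_naturality, lift_π_assoc, map_π,
      SimplicialObject.Homotopy.h_zero_comp_δ_zero]
  h_last_comp_δ_last n := by
    apply hext
    intro t
    simp only [Category.assoc, SimplicialObject.δ_naturality, lift_π_assoc, map_π,
      SimplicialObject.Homotopy.h_last_comp_δ_last]
  h_succ_comp_δ_castSucc_of_lt i j hij := by
    apply hext
    intro t
    simp only [Category.assoc, SimplicialObject.δ_naturality, lift_π_assoc, lift_π,
      SimplicialObject.δ_naturality_assoc,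
      (H t).h_succ_comp_δ_castSucc_of_lt i j hij]
  h_succ_comp_δ_castSucc_succ j := by
    apply hext
    intro t
    simp only [Category.assoc, SimplicialObject.δ_naturality, lift_π_assoc,
      (H t).h_succ_comp_δ_castSucc_succ j]
  h_castSucc_comp_δ_succ_of_lt i j hji := by
    apply hext
    intro t
    simp only [Category.assoc, SimplicialObject.δ_naturality, lift_π_assoc, lift_π,
      SimplicialObject.δ_naturality_assoc,
      (H t).h_castSucc_comp_δ_succ_of_lt i j hji]
  h_comp_σ_castSucc_of_le i j hij := by
    apply hext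
    intro t
    simp only [Category.assoc, SimplicialObject.σ_naturality, lift_π_assoc, lift_π,
      SimplicialObject.σ_naturality_assoc,
      (H t).h_comp_σ_castSucc_of_le i j hij]
  h_comp_σ_succ_of_lt i j hji := by
    apply hext
    intro t
    simp only [Category.assoc, SimplicialObject.σ_naturality, lift_π_assoc, lift_π,
      SimplicialObject.σ_naturality_assoc,
      (H t).h_comp_σ_succ_of_lt i j hji]

end aux

/-- Homotopies between the factors of two product morphisms of simplicial objects assemble to a homotopy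
between the products. -/
theorem result {C : Type u} [Category.{v} C] {T : Type w} [HasLimitsOfShape (Discrete T) C] {X Y : T → SimplicialObject C} (a b : ∀ t, X t ⟶ Y t) (h : ∀ t, Nonempty (SimplicialObject.Homotopy (a t) (b t))) : Nonempty (SimplicialObject.Homotopy (Limits.Pi.map a) (Limits.Pi.map b)) := by
  exact ⟨prodHomotopy a b (fun t => (h t).some)⟩

end Groth.Agent.S6815
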