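import Groth.Statements.S6820
import Mathlib

set_option autoImplicit false
universe u
open Smoothing

namespace Groth.Agent.S6820



/-- Let A be a Noetherian ring, M a finite A-module, S a multiplicative subset of A and π an element of
A such that on the localised module S⁻¹M the kernels of multiplication by π and by π² agree. Then
there is an element s of S such that for every n > 0 the kernels of multiplication by sⁿπ and by
(sⁿπ)² on M agree. (Kernel equalities are written as implications, the reverse inclusions being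
automatic.) -/
theorem result {A : Type u} [CommRing A] [IsNoetherianRing A]
    (M : Type u) [AddCommGroup M] [Module A M] [Module.Finite A M] (S : Submonoid A) (π : A)
    (h : ∀ m : LocalizedModule S M, π ^ 2 • m = 0 → π • m = 0) :
    ∃ s ∈ S, ∀ n : ℕ, 0 < n → ∀ m : M, (s ^ n * π) ^ 2 • m = 0 → (s ^ n * π) • m = 0 := by
  classical
  let T : Submodule A M := LinearMap.ker (LocalizedModule.mkLinearMap S M)
  have hTmem : ∀ m : M, m ∈ T ↔ ∃ c : S, c • m = 0 := fun m =>
    IsLocalizedModule.eq_zero_iff S (LocalizedModule.mkLinearMap S M)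
  have hTfg : T.FG := IsNoetherian.noetherian T
  obtain ⟨G, hG⟩ := hTfg
  have hGt : ∀ g ∈ G, ∃ c : S, c • g = 0 := fun g hg =>
    (hTmem g).mp (hG ▸ Submodule.subset_span hg)
  choose! t ht using hGt
  let s₀ : A := ∏ g ∈ G, (t g : A)
  have hs₀ : s₀ ∈ S := Submonoid.prod_mem S (fun g _ => (t g).2)
  have hkill : ∀ m ∈ T, s₀ • m = 0 := by
    intro m hm
    rw [← hG] at hm
    refine Submodule.span_induction (p := fun m _ => s₀ • m = 0) ?_ ?_ ?_ ?_ hm
    · intro g hg
      obtain ⟨c, hc⟩ := Finset.dvd_prod_of_mem (fun g => (t g : A)) hg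
      have h1 : s₀ = c * (t g : A) := by rw [mul_comm]; exact hc
      rw [h1, mul_smul]
      have := ht g hg
      rw [Submonoid.smul_def] at this
      rw [this, smul_zero]
    · exact smul_zero _
    · intro x y _ _ hx hy; rw [smul_add, hx, hy, add_zero]
    · intro a x _ hx; rw [smul_comm, hx, smul_zero]
  -- key: π² m = 0 ⇒ s₀ π m = 0
  have key : ∀ m : M, π ^ 2 • m = 0 → s₀ • π • m = 0 := by
    intro m hm
    apply hkill
    rw [hTmem]
    have h1 : π ^ 2 • (LocalizedModule.mkLinearMap S M m) = 0 := by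
      rw [← map_smul, hm, map_zero]
    have h2 := h _ h1
    rw [← map_smul] at h2
    exact (IsLocalizedModule.eq_zero_iff S (LocalizedModule.mkLinearMap S M)).mp h2
  refine ⟨s₀, hs₀, fun n hn m hm => ?_⟩
  have h1 : π ^ 2 • (s₀ ^ (2 * n) • m) = 0 := by
    rw [smul_smul]
    have : π ^ 2 * s₀ ^ (2 * n) = (s₀ ^ n * π) ^ 2 := by ring
    rw [this, hm]
  have h2 := key _ h1
  have h3 : π • m ∈ T := by
    rw [hTmem]
    refine ⟨⟨s₀ ^ (2 * n + 1), pow_mem hs₀ _⟩, ?_⟩
    rw [Submonoid.smul_def]
    show s₀ ^ (2 * n + 1) • π • m = 0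
    rw [← h2, smul_smul, smul_smul, smul_smul]
    congr 1
    ring
  have h4 := hkill _ h3
  obtain ⟨k, rfl⟩ : ∃ k, n = k + 1 := ⟨n - 1, by omega⟩
  rw [mul_smul, pow_succ, mul_smul, h4, smul_zero]

end Groth.Agent.S6820
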