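import Groth.Statements.S6829
import Mathlib

set_option autoImplicit false
universe u
open Smoothing

namespace Groth.Agent.S6829

section

open TensorProduct MvPolynomial

variable {R A R' : Type u} [CommRing R] [CommRing A] [Algebra R A] [CommRing R'] [Algebra R R']

/-- the base-changed surjection -/
noncomputable def hom' (P : Smoothing.MarkedPresentation R A) :
    MvPolynomial (Fin P.n) R' →ₐ[R'] R' ⊗[R] A :=
  aeval (fun i => (1 : R') ⊗ₜ[R] P.hom (X i))

theorem hom'_map (P : Smoothing.MarkedPresentation R A) (p : MvPolynomial (Fin P.n) R) :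
    hom' (R' := R') P (map (algebraMap R R') p) = (1 : R') ⊗ₜ[R] P.hom p := by
  unfold hom'
  rw [MvPolynomial.aeval_map_algebraMap]
  have h1 : (fun i => (1 : R') ⊗ₜ[R] P.hom (X i)) =
      fun i => (Algebra.TensorProduct.includeRight : A →ₐ[R] R' ⊗[R] A) (P.hom (X i)) := rfl
  rw [h1, ← MvPolynomial.comp_aeval_apply]
  have h2 : aeval (fun i => P.hom (X i)) p = P.hom p :=
    (DFunLike.congr_fun (MvPolynomial.aeval_unique P.hom) p).symm
  rw [h2]
  rfl

/-- Mathlib presentation attached to a marked presentation -/
noncomputable def toPres (P : Smoothing.MarkedPresentation R A) :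
    Algebra.Presentation R A (Fin P.n) (Fin P.m) where
  __ := Algebra.Generators.ofSurjective (fun i => P.hom (X i)) (by
    have : (aeval fun i => P.hom (X i)) = P.hom := (MvPolynomial.aeval_unique P.hom).symm
    rw [this]
    exact P.surj)
  relation := P.rel
  span_range_relation_eq_ker := by
    rw [Algebra.Generators.ker_eq_ker_aeval_val, ← P.ker_eq]
    have : (aeval fun i => P.hom (X i)) = P.hom := (MvPolynomial.aeval_unique P.hom).symm
    ext x
    rw [RingHom.mem_ker, RingHom.mem_ker]
    change P.hom x = 0 ↔ aeval (fun i => P.hom (X i)) x = 0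
    rw [this]

theorem surj_hom' (P : Smoothing.MarkedPresentation R A) :
    Function.Surjective (hom' (R' := R') P) :=
  ((toPres P).baseChange R').aeval_val_surjective

theorem ker_hom' (P : Smoothing.MarkedPresentation R A) :
    RingHom.ker (hom' (R' := R') P).toRingHom =
      Ideal.span (Set.range fun j => map (algebraMap R R') (P.rel j)) :=
  ((toPres P).span_range_relation_eq_ker_baseChange R').symm

/-- the base-changed marked presentation -/
noncomputable def baseChange (P : Smoothing.MarkedPresentation R A) :
    Smoothing.MarkedPresentation R' (R' ⊗[R] A) where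
  n := P.n
  m := P.m
  c := P.c
  hcn := P.hcn
  hcm := P.hcm
  rel := fun j => map (algebraMap R R') (P.rel j)
  hom := hom' P
  surj := surj_hom' P
  ker_eq := ker_hom' P

theorem map_jacobianMinor (P : Smoothing.MarkedPresentation R A) {c : ℕ} (rows : Fin c → Fin P.m)
    (cols : Fin c → Fin P.n) :
    map (algebraMap R R') (Smoothing.jacobianMinor P.rel rows cols) =
      Smoothing.jacobianMinor (fun j => map (algebraMap R R') (P.rel j)) rows cols := by
  unfold Smoothing.jacobianMinor
  rw [RingHom.map_det]
  congr 1
  ext j k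
  simp [pderiv_map]

theorem killsTail_baseChange (P : Smoothing.MarkedPresentation R A) (a : A)
    (h : Smoothing.KillsTail P a) :
    Smoothing.KillsTail (baseChange (R' := R') P) ((1 : R') ⊗ₜ[R] a) := by
  intro (a'' : MvPolynomial (Fin P.n) R') ha'' (j : Fin P.m) hj
  obtain ⟨a', ha'⟩ := P.surj a
  have h0 := h a' ha' j hj
  -- image of the relation for the special lift
  set L : Ideal (MvPolynomial (Fin P.n) R') :=
    Ideal.span ((fun j => map (algebraMap R R') (P.rel j)) '' {j' : Fin P.m | (j' : ℕ) < P.c})
    with hL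
  set T : Ideal (MvPolynomial (Fin P.n) R') :=
    Ideal.span (Set.range fun j => map (algebraMap R R') (P.rel j)) with hT
  have h1 : map (algebraMap R R') (a' * P.rel j) ∈ L ⊔ T ^ 2 := by
    have hmap := Ideal.mem_map_of_mem (map (algebraMap R R')) h0
    rw [Ideal.map_sup, Ideal.map_pow, Ideal.map_span, Ideal.map_span] at hmap
    have e1 : (map (algebraMap R R')) '' (P.rel '' {j' : Fin P.m | (j' : ℕ) < P.c}) =
        (fun j => map (algebraMap R R') (P.rel j)) '' {j' : Fin P.m | (j' : ℕ) < P.c} := by
      rw [Set.image_image]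
    have e2 : (map (algebraMap R R')) '' (Set.range P.rel) =
        Set.range fun j => map (algebraMap R R') (P.rel j) := by
      rw [← Set.range_comp]
      rfl
    rw [e1, e2] at hmap
    exact hmap
  have h2 : a'' - map (algebraMap R R') a' ∈ T := by
    have hk : a'' - map (algebraMap R R') a' ∈ RingHom.ker (hom' (R' := R') P).toRingHom := by
      rw [RingHom.mem_ker]
      change hom' P _ = 0
      have ha3 : hom' (R' := R') P a'' = (1 : R') ⊗ₜ[R] a := ha''
      rw [map_sub, ha3, hom'_map, ha', sub_self]
    rw [ker_hom' P] at hk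
    exact hk
  have h3 : (a'' - map (algebraMap R R') a') * map (algebraMap R R') (P.rel j) ∈ T ^ 2 := by
    rw [pow_two]
    exact Ideal.mul_mem_mul h2 (Ideal.subset_span ⟨j, rfl⟩)
  have h4 : a'' * map (algebraMap R R') (P.rel j) =
      map (algebraMap R R') (a' * P.rel j) +
        (a'' - map (algebraMap R R') a') * map (algebraMap R R') (P.rel j) := by
    rw [map_mul]
    ring
  change a'' * map (algebraMap R R') (P.rel j) ∈ L ⊔ T ^ 2
  rw [h4]
  exact Ideal.add_mem _ h1 (Ideal.mem_sup_right h3)

end

open TensorProduct in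
/-- Let A be a finitely presented R-algebra, R → R' a ring map and a ∈ A. If a is elementary standard,
resp. strictly standard, in A over R, then a ⊗ 1 is elementary standard, resp. strictly standard, in
A ⊗_R R' over R' (written here as 1 ⊗ a in R' ⊗_R A). -/
theorem result {R A R' : Type u} [CommRing R] [CommRing A] [Algebra R A]
    [Algebra.FinitePresentation R A] [CommRing R'] [Algebra R R'] (a : A) :
    (Smoothing.IsElementaryStandard R A a →
        Smoothing.IsElementaryStandard R' (R' ⊗[R] A) ((1 : R') ⊗ₜ[R] a)) ∧
      (Smoothing.IsStrictlyStandard R A a →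
        Smoothing.IsStrictlyStandard R' (R' ⊗[R] A) ((1 : R') ⊗ₜ[R] a)) := by
  constructor
  · rintro ⟨P, ⟨a₀, ha₀⟩, hk⟩
    refine ⟨baseChange P, ⟨(1 : R') ⊗ₜ[R] a₀, ?_⟩, killsTail_baseChange P a hk⟩
    change _ = _ * hom' P (Smoothing.jacobianMinor (fun j => MvPolynomial.map (algebraMap R R') (P.rel j))
      (Fin.castLE P.hcm) (Fin.castLE P.hcn))
    rw [← map_jacobianMinor, hom'_map, Algebra.TensorProduct.tmul_mul_tmul, one_mul, ← ha₀]
  · rintro ⟨P, hmem, hk⟩
    refine ⟨baseChange P, ?_, killsTail_baseChange P a hk⟩
    have hmap := Ideal.mem_map_of_mem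
      (Algebra.TensorProduct.includeRight : A →ₐ[R] R' ⊗[R] A) hmem
    rw [Ideal.map_span, ← Set.range_comp] at hmap
    have e : (fun cols : Fin P.c → Fin P.n =>
        hom' (R' := R') P (Smoothing.jacobianMinor (fun j => MvPolynomial.map (algebraMap R R') (P.rel j))
          (Fin.castLE P.hcm) cols)) =
        (⇑(Algebra.TensorProduct.includeRight : A →ₐ[R] R' ⊗[R] A) ∘ fun cols : Fin P.c → Fin P.n =>
          P.hom (Smoothing.jacobianMinor P.rel (Fin.castLE P.hcm) cols)) := by
      funext cols
      rw [← map_jacobianMinor, hom'_map]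
      rfl
    change _ ∈ Ideal.span (Set.range (fun cols : Fin P.c → Fin P.n =>
        hom' (R' := R') P (Smoothing.jacobianMinor (fun j => MvPolynomial.map (algebraMap R R') (P.rel j))
          (Fin.castLE P.hcm) cols)))
    rw [e]
    exact hmap

end Groth.Agent.S6829
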