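import Groth.Statements.S6857
import Mathlib
import Groth.Agent.Lib.helper23.ClEmb2

set_option autoImplicit false
universe u
open CategoryTheory CategoryTheory.Limits TopologicalSpace
open CohTop

namespace Groth.Agent.S6857

/-- Let i : Z → X be the inclusion of a closed subset of a topological space (a closed embedding). Then
i_* : Ab(Z) → Ab(X) is exact (right exactness being the content, i_* is a right adjoint) and fully
faithful, an abelian sheaf on X lies in its essential image exactly when its stalks at points
outside i(Z) are zero (support contained in Z), and i⁻¹ ∘ i_* is isomorphic to the identity functor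
(existence of an isomorphism of functors is asserted). -/
theorem result {Z X : TopCat.{u}} (i : Z ⟶ X)
    (hi : Topology.IsClosedEmbedding i) :
    PreservesFiniteColimits (CohTop.push i) ∧ (CohTop.push i).Full ∧ (CohTop.push i).Faithful ∧
      (∀ F : CohTop.Ab X, (CohTop.push i).essImage F ↔ ∀ x : X, x ∉ Set.range i → IsZero (CohTop.stalk F x)) ∧
      Nonempty (CohTop.push i ⋙ CohTop.pull i ≅ 𝟭 (CohTop.Ab Z)) := by
  let U : Opens X := ⟨(Set.range i)ᶜ, hi.isClosed_range.isOpen_compl⟩
  have hU : (U : Set X) = (Set.range i)ᶜ := rfl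
  have hind : Topology.IsInducing i := hi.isInducing
  have adj := ClEmb.adjPush U hU hind
  have hfull : (CohTop.push i).Full := ClEmb.full_pushforward AddCommGrpCat.{u} hind
  have hfaith : (CohTop.push i).Faithful := ClEmb.faithful_pushforward AddCommGrpCat.{u} hind
  refine ⟨?_, hfull, hfaith, ?_, ?_⟩
  · have : PreservesColimitsOfSize.{0, 0} (CohTop.push i) := adj.leftAdjoint_preservesColimits
    exact PreservesColimitsOfSize.preservesFiniteColimits _
  · intro F
    constructor
    · rintro ⟨G, ⟨e⟩⟩ x hx
      exact ClEmb.isZero_stalk_of_vanOn U (ClEmb.vanOn_of_iso U e (ClEmb.vanOn_push U hU G)) x hx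
    · intro h
      have hF : ClEmb.VanOn U F := ClEmb.vanOn_of_isZero_stalk U (fun x hx => h x hx)
      exact ⟨ClEmb.sheafG U hU hind F hF, ⟨ClEmb.pushSheafGIso U hU hind F hF⟩⟩
  · have hfull' : (TopCat.Sheaf.pushforward AddCommGrpCat.{u} i).Full := hfull
    have hfaith' : (TopCat.Sheaf.pushforward AddCommGrpCat.{u} i).Faithful := hfaith
    have : IsIso (TopCat.Sheaf.pullbackPushforwardAdjunction AddCommGrpCat.{u} i).counit :=
      Adjunction.counit_isIso_of_R_fully_faithful _
    exact ⟨@asIso _ _ _ _ (TopCat.Sheaf.pullbackPushforwardAdjunction AddCommGrpCat.{u} i).counit this⟩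

end Groth.Agent.S6857
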