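import Groth.Statements.S6860
import Mathlib
-- import your own Groth.Agent.* helpers here

set_option autoImplicit false
universe u
open Smoothing

namespace Groth.Agent.S6860

namespace H5S6860
open MvPolynomial Algebra


/-- kernel of evaluation at a point -/
theorem ker_aeval_point {A : Type u} [CommRing A] (n : ℕ) (e : Fin n → A) :
    RingHom.ker (aeval e : MvPolynomial (Fin n) A →ₐ[A] A) =
      Ideal.span (Set.range fun j : Fin n => (X j - C (e j) : MvPolynomial (Fin n) A)) := by
  set J := Ideal.span (Set.range fun j : Fin n => (X j - C (e j) : MvPolynomial (Fin n) A)) with hJ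
  apply le_antisymm
  · intro f hf
    rw [RingHom.mem_ker] at hf
    have key : ∀ g : MvPolynomial (Fin n) A, g - C (aeval e g) ∈ J := by
      intro g
      induction g using MvPolynomial.induction_on with
      | C a => simp
      | add p q hp hq =>
        have : p + q - C (aeval e (p + q)) = (p - C (aeval e p)) + (q - C (aeval e q)) := by
          rw [map_add, map_add]; ring
        rw [this]; exact J.add_mem hp hq
      | mul_X p i hp =>
        have : p * X i - C (aeval e (p * X i)) =
            (p - C (aeval e p)) * X i + C (aeval e p) * (X i - C (e i)) := by
          rw [map_mul, aeval_X, map_mul]; ring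
        rw [this]
        exact J.add_mem (J.mul_mem_right _ hp)
          (J.mul_mem_left _ (Ideal.subset_span ⟨i, rfl⟩))
    have h2 := key f
    rw [hf, map_zero, sub_zero] at h2
    exact h2
  · rw [hJ, Ideal.span_le]
    rintro _ ⟨j, rfl⟩
    simp [RingHom.mem_ker]

/-- generators of `A` over itself given by a finite family -/
noncomputable def gens {A : Type u} [CommRing A] (n : ℕ) (e : Fin n → A) :
    Algebra.Generators A A (Fin n) where
  val := e
  σ' := fun a => C a
  aeval_val_σ' := fun a => by simp

noncomputable def pres {A : Type u} [CommRing A] (n : ℕ) (e : Fin n → A) :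
    Algebra.Presentation A A (Fin n) (Fin n) where
  toGenerators := gens n e
  relation := fun j => (X j - C (e j) : MvPolynomial (Fin n) A)
  span_range_relation_eq_ker := by
    rw [Generators.ker_eq_ker_aeval_val]
    exact (ker_aeval_point n e).symm

noncomputable def prePres {A : Type u} [CommRing A] (n : ℕ) (e : Fin n → A) :
    Algebra.PreSubmersivePresentation A A (Fin n) (Fin n) where
  toPresentation := pres n e
  map := id
  map_inj := Function.injective_id

theorem jacobiMatrix_prePres {A : Type u} [CommRing A] (n : ℕ) (e : Fin n → A) :
    (prePres n e).jacobiMatrix = 1 := by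
  apply Matrix.ext
  intro i j
  rw [PreSubmersivePresentation.jacobiMatrix_apply]
  change pderiv i (X j - C (e j) : MvPolynomial (Fin n) A) = _
  rw [map_sub, pderiv_X, pderiv_C, sub_zero, Matrix.one_apply, Pi.single_apply]
  by_cases h : i = j
  · rw [if_pos h.symm, if_pos h]
  · rw [if_neg (Ne.symm h), if_neg h]

noncomputable def subPres {A : Type u} [CommRing A] (n : ℕ) (e : Fin n → A) :
    Algebra.SubmersivePresentation A A (Fin n) (Fin n) where
  toPreSubmersivePresentation := prePres n e
  jacobian_isUnit := by
    rw [PreSubmersivePresentation.jacobian_eq_jacobiMatrix_det, jacobiMatrix_prePres,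
      Matrix.det_one, map_one]
    exact isUnit_one

theorem main {R A : Type u} [CommRing R] [CommRing A] [Algebra R A]
    [Algebra.IsStandardSmooth R A] (E : Finset A) :
    ∃ (ι σ : Type) (_ : Finite ι) (_ : Finite σ) (P : Algebra.SubmersivePresentation R A ι σ),
      (↑E : Set A) ⊆ Set.range (P.val ∘ P.map) := by
  obtain ⟨ι, σ, hσ, hι, ⟨P⟩⟩ := Algebra.IsStandardSmooth.out (R := R) (S := A)
  let n := E.card
  let e : Fin n → A := fun i => (E.equivFin.symm i : A)
  let Q := subPres n e
  refine ⟨Fin n ⊕ ι, Fin n ⊕ σ, inferInstance, inferInstance, Q.comp P, ?_⟩
  intro a ha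
  refine ⟨Sum.inl (E.equivFin ⟨a, ha⟩), ?_⟩
  change e (E.equivFin ⟨a, ha⟩) = a
  simp [e]

end H5S6860

/-- Let R → A be standard smooth and E ⊆ A a finite subset. Then A admits a standard smooth presentation
A = R[x₁, …, x_N]/(f₁, …, f_c) (a submersive presentation: finitely many generators and relations,
an injection from the relations to the variables picking the distinguished variables, and the
Jacobian of the relations with respect to the distinguished variables invertible in A) in which
every element of E is the class of a distinguished variable. (The published statement arranges E to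
be exactly the classes of the first n = |E| variables, all of them distinguished, with c ≥ n; this
row states that E is contained in the set of classes of the distinguished variables, which is what
that arrangement gives.) -/
theorem result {R A : Type u} [CommRing R] [CommRing A] [Algebra R A]
    [Algebra.IsStandardSmooth R A] (E : Finset A) :
    ∃ (ι σ : Type) (_ : Finite ι) (_ : Finite σ) (P : Algebra.SubmersivePresentation R A ι σ),
      (↑E : Set A) ⊆ Set.range (P.val ∘ P.map) := by
  exact H5S6860.main E

end Groth.Agent.S6860
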