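import Groth.Statements.S6862
import Mathlib
-- import your own Groth.Agent.* helpers here

set_option autoImplicit false
universe u
open CAlg

namespace Groth.Agent.S6862

/-- the three-fold product rearrangements we need -/
private theorem sf_of_equiv {R : Type u} [CommRing R] {M : Type u} [AddCommGroup M] [Module R M]
    (N F : Type u) [AddCommGroup N] [Module R N] [Module.Finite R N] [Module.Free R N]
    [AddCommGroup F] [Module R F] [Module.Free R F] (e : (M × N) ≃ₗ[R] F) :
    Module.IsStablyFree R M :=
  haveI : Module.Free R (M × N) := Module.Free.of_equiv e.symm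
  Module.IsStablyFree.of_free_prod R M N

/-- Let `R` be a commutative ring and `P'`, `P`, `P''` finitely generated projective `R`-modules in an
exact sequence `0 → P' → P → P'' → 0`. Whenever two of the three are stably free, the remaining one
is stably free too (all three cases are stated). -/
theorem result {R : Type u} [CommRing R] {P' P P'' : Type u}
    [AddCommGroup P'] [Module R P'] [Module.Finite R P'] [Module.Projective R P']
    [AddCommGroup P] [Module R P] [Module.Finite R P] [Module.Projective R P]
    [AddCommGroup P''] [Module R P''] [Module.Finite R P''] [Module.Projective R P'']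
    (f : P' →ₗ[R] P) (g : P →ₗ[R] P'') (hf : Function.Injective f) (hg : Function.Surjective g)
    (hfg : Function.Exact f g) :
    (Module.IsStablyFree R P' → Module.IsStablyFree R P → Module.IsStablyFree R P'') ∧
    (Module.IsStablyFree R P' → Module.IsStablyFree R P'' → Module.IsStablyFree R P) ∧
    (Module.IsStablyFree R P → Module.IsStablyFree R P'' → Module.IsStablyFree R P') := by
  obtain ⟨l, hl⟩ := Module.projective_lifting_property g LinearMap.id hg
  let e : P ≃ₗ[R] P' × P'' := (hfg.splitSurjectiveEquiv hf ⟨l, hl⟩).1
  refine ⟨fun h1 h2 => ?_, fun h1 h2 => ?_, fun h1 h2 => ?_⟩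
  · obtain ⟨F', _, _, _, _, hF'⟩ := Module.IsStablyFree.exist_free_prod R P'
    obtain ⟨F, _, _, _, _, hF⟩ := Module.IsStablyFree.exist_free_prod R P
    -- P'' × ((P' × F') × F) ≃ (P × F) × F'
    let E : (P'' × ((P' × F') × F)) ≃ₗ[R] ((P × F) × F') :=
      { toFun := fun x => ((e.symm (x.2.1.1, x.1), x.2.2), x.2.1.2)
        map_add' := by intro x y; simp [← Prod.mk_add_mk]
        map_smul' := by intro r x; simp [← Prod.smul_mk]
        invFun := fun y => ((e y.1.1).2, (((e y.1.1).1, y.2), y.1.2))
        left_inv := by intro x; simp
        right_inv := by intro y; simp }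
    exact sf_of_equiv ((P' × F') × F) ((P × F) × F') E
  · obtain ⟨F', _, _, _, _, hF'⟩ := Module.IsStablyFree.exist_free_prod R P'
    obtain ⟨F'', _, _, _, _, hF''⟩ := Module.IsStablyFree.exist_free_prod R P''
    let E : (P × (F' × F'')) ≃ₗ[R] ((P' × F') × (P'' × F'')) :=
      { toFun := fun x => (((e x.1).1, x.2.1), ((e x.1).2, x.2.2))
        map_add' := by intro x y; simp
        map_smul' := by intro r x; simp
        invFun := fun y => (e.symm (y.1.1, y.2.1), (y.1.2, y.2.2))
        left_inv := by intro x; simp
        right_inv := by intro y; simp }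
    exact sf_of_equiv (F' × F'') ((P' × F') × (P'' × F'')) E
  · obtain ⟨F, _, _, _, _, hF⟩ := Module.IsStablyFree.exist_free_prod R P
    obtain ⟨F'', _, _, _, _, hF''⟩ := Module.IsStablyFree.exist_free_prod R P''
    let E : (P' × ((P'' × F'') × F)) ≃ₗ[R] ((P × F) × F'') :=
      { toFun := fun x => ((e.symm (x.1, x.2.1.1), x.2.2), x.2.1.2)
        map_add' := by intro x y; simp [← Prod.mk_add_mk]
        map_smul' := by intro r x; simp [← Prod.smul_mk]
        invFun := fun y => ((e y.1.1).1, (((e y.1.1).2, y.2), y.1.2))
        left_inv := by intro x; simp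
        right_inv := by intro y; simp }
    exact sf_of_equiv ((P'' × F'') × F) ((P × F) × F'') E

end Groth.Agent.S6862
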