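import Groth.Statements.S6863
import Mathlib
-- import your own Groth.Agent.* helpers here

set_option autoImplicit false
universe u
open TensorProduct
open CAlg

namespace Groth.Agent.S6863

namespace H5S6863
open TensorProduct


/-- equivalence of kernels induced by a commuting square of equivalences -/
noncomputable def kerEquiv {S A B C D : Type*} [CommRing S] [AddCommGroup A] [AddCommGroup B]
    [AddCommGroup C] [AddCommGroup D] [Module S A] [Module S B] [Module S C] [Module S D]
    (e₁ : A ≃ₗ[S] B) (e₂ : C ≃ₗ[S] D) (f : A →ₗ[S] C) (g : B →ₗ[S] D)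
    (h : ∀ x, e₂ (f x) = g (e₁ x)) : LinearMap.ker f ≃ₗ[S] LinearMap.ker g :=
  LinearEquiv.ofSubmodules e₁ (LinearMap.ker f) (LinearMap.ker g) (by
    ext y
    simp only [Submodule.mem_map, LinearMap.mem_ker]
    constructor
    · rintro ⟨x, hx, rfl⟩
      change g (e₁ x) = 0
      rw [← h, hx, map_zero]
    · intro hy
      refine ⟨e₁.symm y, ?_, by simp⟩
      apply e₂.injective
      rw [h, map_zero]
      simpa using hy)

theorem main {R : Type u} [CommRing R] (I : Ideal R)
    (hI : I ≤ Ideal.jacobson (⊥ : Ideal R)) (E : Type u) [AddCommGroup E] [Module (R ⧸ I) E]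
    [Module.Finite (R ⧸ I) E] [Module.IsStablyFree (R ⧸ I) E] :
    ∃ (M : Type u) (_ : AddCommGroup M) (_ : Module R M), Module.Finite R M ∧ Module.IsStablyFree R M ∧
      Nonempty ((R ⧸ I) ⊗[R] M ≃ₗ[R ⧸ I] E) := by
  classical
  obtain ⟨N, _, _, _, _, hfree⟩ := Module.IsStablyFree.exist_free_prod (R ⧸ I) E
  haveI := hfree
  let ι := Module.Free.ChooseBasisIndex (R ⧸ I) (E × N)
  let κ := Module.Free.ChooseBasisIndex (R ⧸ I) N
  let b := Module.Free.chooseBasis (R ⧸ I) (E × N)
  let c := Module.Free.chooseBasis (R ⧸ I) N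
  let pbar : (ι → R ⧸ I) →ₗ[R ⧸ I] (κ → R ⧸ I) :=
    c.equivFun.toLinearMap ∘ₗ LinearMap.snd (R ⧸ I) E N ∘ₗ b.equivFun.symm.toLinearMap
  have hpbar_surj : Function.Surjective pbar := by
    intro y
    refine ⟨b.equivFun ((0 : E), c.equivFun.symm y), ?_⟩
    change c.equivFun ((b.equivFun.symm (b.equivFun ((0 : E), c.equivFun.symm y))).2) = y
    rw [LinearEquiv.symm_apply_apply]
    exact c.equivFun.apply_symm_apply y
  let mkι : (ι → R) →ₗ[R] (ι → R ⧸ I) := (Ideal.Quotient.mkₐ R I).toLinearMap.compLeft ι
  let mkκ : (κ → R) →ₗ[R] (κ → R ⧸ I) := (Ideal.Quotient.mkₐ R I).toLinearMap.compLeft κ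
  have hmkι_surj : Function.Surjective mkι := by
    intro y
    choose x hx using fun i => Ideal.Quotient.mk_surjective (y i)
    exact ⟨x, funext hx⟩
  have hmkκ_surj : Function.Surjective mkκ := by
    intro y
    choose x hx using fun i => Ideal.Quotient.mk_surjective (y i)
    exact ⟨x, funext hx⟩
  obtain ⟨p, hp⟩ := Module.projective_lifting_property mkκ
    ((pbar.restrictScalars R) ∘ₗ mkι) hmkκ_surj
  have hp' : ∀ x, mkκ (p x) = pbar (mkι x) := fun x => LinearMap.congr_fun hp x
  -- p is surjective by Nakayama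
  have hker_mkκ : ∀ y : κ → R, mkκ y = 0 → y ∈ I • (⊤ : Submodule R (κ → R)) := by
    intro y hy
    have hyj : ∀ j, y j ∈ I := fun j => by
      have := congrFun hy j
      exact Ideal.Quotient.eq_zero_iff_mem.1 this
    have : y = ∑ j, y j • (Pi.single j (1 : R) : κ → R) := by
      ext j'
      simp [Finset.sum_apply, Pi.single_apply]
    rw [this]
    exact Submodule.sum_mem _ fun j _ => Submodule.smul_mem_smul (hyj j) Submodule.mem_top
  have hp_surj : Function.Surjective p := by
    rw [← LinearMap.range_eq_top, eq_top_iff]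
    apply Submodule.le_of_le_smul_of_le_jacobson_bot (Module.Finite.fg_top) hI
    intro y _
    obtain ⟨xbar, hxbar⟩ := hpbar_surj (mkκ y)
    obtain ⟨x, rfl⟩ := hmkι_surj xbar
    have h1 : mkκ (y - p x) = 0 := by
      rw [map_sub, hp', hxbar, sub_self]
    have h2 := hker_mkκ _ h1
    have : y = p x + (y - p x) := by abel
    rw [this]
    exact Submodule.add_mem_sup (LinearMap.mem_range_self p x) h2
  -- the kernel
  let M : Submodule R (ι → R) := LinearMap.ker p
  obtain ⟨s, hs⟩ := Module.projective_lifting_property p LinearMap.id hp_surj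
  have hs' : ∀ y, p (s y) = y := fun y => LinearMap.congr_fun hs y
  let q : (ι → R) →ₗ[R] M := (LinearMap.id - s ∘ₗ p).codRestrict M (fun x => by
    change p (x - s (p x)) = 0
    rw [map_sub, hs', sub_self])
  have hq : ∀ m : M, q m.1 = m := by
    intro m
    apply Subtype.ext
    change m.1 - s (p m.1) = m.1
    have : p m.1 = 0 := m.2
    rw [this, map_zero, sub_zero]
  have hq_surj : Function.Surjective q := fun m => ⟨m.1, hq m⟩
  let e : (ι → R) ≃ₗ[R] M × (κ → R) :=
    LinearEquiv.ofLinearMap (q.prod p) (M.subtype.coprod s)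
      (by
        apply LinearMap.ext
        rintro ⟨m, y⟩
        apply Prod.ext
        · apply Subtype.ext
          change (m.1 + s y) - s (p (m.1 + s y)) = m.1
          have : p m.1 = 0 := m.2
          rw [map_add, this, zero_add, hs']
          abel
        · change p (m.1 + s y) = y
          have : p m.1 = 0 := m.2
          rw [map_add, this, zero_add, hs'])
      (by
        apply LinearMap.ext
        intro x
        change (x - s (p x)) + s (p x) = x
        abel)
  haveI : Module.Finite R M := Module.Finite.of_surjective q hq_surj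
  haveI : Module.Free R (M × (κ → R)) := Module.Free.of_equiv e
  have hstab : Module.IsStablyFree R M := Module.IsStablyFree.of_free_prod R M (κ → R)
  refine ⟨M, inferInstance, inferInstance, inferInstance, hstab, ?_⟩
  -- the tensor computation
  have hexact : Function.Exact M.subtype p := by
    intro x
    constructor
    · intro hx; exact ⟨⟨x, hx⟩, rfl⟩
    · rintro ⟨m, rfl⟩; exact m.2
  have hex2 := lTensor_exact (R ⧸ I) hexact hp_surj
  have hinj : Function.Injective (M.subtype.baseChange (R ⧸ I)) := by
    have hcomp : (q.baseChange (R ⧸ I)) ∘ₗ (M.subtype.baseChange (R ⧸ I)) = LinearMap.id := by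
      rw [← LinearMap.baseChange_comp]
      have : q ∘ₗ M.subtype = LinearMap.id := LinearMap.ext fun m => hq m
      rw [this, LinearMap.baseChange_id]
    exact Function.LeftInverse.injective (g := q.baseChange (R ⧸ I))
      (fun x => LinearMap.congr_fun hcomp x)
  have hrange : LinearMap.range (M.subtype.baseChange (R ⧸ I)) = LinearMap.ker (p.baseChange (R ⧸ I)) := by
    ext x
    rw [LinearMap.mem_ker, LinearMap.mem_range]
    have := hex2 x
    constructor
    · rintro ⟨y, rfl⟩
      exact (this.2 ⟨y, rfl⟩)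
    · intro hx
      exact this.1 hx
  let e₁ : (R ⧸ I) ⊗[R] M ≃ₗ[R ⧸ I] LinearMap.ker (p.baseChange (R ⧸ I)) :=
    (LinearEquiv.ofInjective _ hinj).trans (LinearEquiv.ofEq _ _ hrange)
  let e₂ : LinearMap.ker (p.baseChange (R ⧸ I)) ≃ₗ[R ⧸ I] LinearMap.ker pbar :=
    kerEquiv (TensorProduct.piScalarRight R (R ⧸ I) (R ⧸ I) ι)
      (TensorProduct.piScalarRight R (R ⧸ I) (R ⧸ I) κ) _ _ (by
        intro x
        induction x using TensorProduct.induction_on with
        | zero => simp
        | tmul r v =>
          rw [LinearMap.baseChange_tmul]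
          have h1 : (TensorProduct.piScalarRight R (R ⧸ I) (R ⧸ I) ι) (r ⊗ₜ[R] v) = r • mkι v := by
            ext i
            simp [mkι, Algebra.smul_def, mul_comm]
          have h2 : (TensorProduct.piScalarRight R (R ⧸ I) (R ⧸ I) κ) (r ⊗ₜ[R] p v) = r • mkκ (p v) := by
            ext i
            simp [mkκ, Algebra.smul_def, mul_comm]
          rw [h1, h2, map_smul, hp']
        | add x y hx hy => simp only [map_add, hx, hy])
  let e₃ : LinearMap.ker pbar ≃ₗ[R ⧸ I] LinearMap.ker (LinearMap.snd (R ⧸ I) E N) :=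
    kerEquiv b.equivFun.symm c.equivFun.symm _ _ (by
      intro x
      change c.equivFun.symm (c.equivFun ((b.equivFun.symm x).2)) = (b.equivFun.symm x).2
      exact LinearEquiv.symm_apply_apply _ _)
  let e₄ : LinearMap.ker (LinearMap.snd (R ⧸ I) E N) ≃ₗ[R ⧸ I] E :=
    (LinearEquiv.ofEq _ _ (LinearMap.ker_snd (R ⧸ I) E N)).trans
      (LinearEquiv.ofInjective (LinearMap.inl (R ⧸ I) E N) LinearMap.inl_injective).symm
  exact ⟨e₁.trans (e₂.trans (e₃.trans e₄))⟩

end H5S6863

/-- Let `I` be an ideal of a commutative ring `R` contained in the Jacobson radical (equivalently, `1 +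
i` is a unit for each `i ∈ I`). Then each finitely generated stably free module `E` over `R/I`
lifts: there is a finite stably free `R`-module `M` with `M/IM ≅ E` (existence of an isomorphism
only; the published statement names no map). -/
theorem result {R : Type u} [CommRing R] (I : Ideal R)
    (hI : I ≤ Ideal.jacobson (⊥ : Ideal R)) (E : Type u) [AddCommGroup E] [Module (R ⧸ I) E]
    [Module.Finite (R ⧸ I) E] [Module.IsStablyFree (R ⧸ I) E] :
    ∃ (M : Type u) (_ : AddCommGroup M) (_ : Module R M), Module.Finite R M ∧ Module.IsStablyFree R M ∧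
      Nonempty ((R ⧸ I) ⊗[R] M ≃ₗ[R ⧸ I] E) := by
  exact H5S6863.main I hI E

end Groth.Agent.S6863
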