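import Groth.Statements.S6866
import Mathlib.RingTheory.Flat.Stability
import Mathlib.Algebra.Module.LocalizedModule.Basic
import Mathlib.RingTheory.Flat.TorsionFree
import Mathlib.RingTheory.Localization.FractionRing
import Mathlib.LinearAlgebra.FreeModule.Basic

set_option autoImplicit false
universe u
open TensorProduct
open CAlg

namespace Groth.Agent.S6866

/-- If `M` is a torsion free module over a domain `R` and `R → R'` is a flat ring map to another domain,
then `R' ⊗_R M` is torsion free over `R'`. -/
theorem result (R R' : Type u) [CommRing R] [IsDomain R] [CommRing R']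
    [IsDomain R'] [Algebra R R'] [Module.Flat R R'] (M : Type u) [AddCommGroup M] [Module R M]
    [Module.IsTorsionFree R M] : Module.IsTorsionFree R' (R' ⊗[R] M) := by
  classical
  let S := nonZeroDivisors R
  let V := LocalizedModule S M
  let ι : M →ₗ[R] V := LocalizedModule.mkLinearMap S M
  have hι : Function.Injective ι := by
    rw [← LinearMap.ker_eq_bot, LinearMap.ker_eq_bot']
    intro m hm
    obtain ⟨c, hc⟩ := (IsLocalizedModule.eq_zero_iff S ι).1 hm
    have hc0 : (c : R) ≠ 0 := nonZeroDivisors.ne_zero c.2
    exact (smul_eq_zero_iff_right hc0).1 hc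
  have : Module.Flat (Localization S) V := inferInstance
  have : Module.Flat R V := Module.Flat.trans R (Localization S) V
  rw [Module.isTorsionFree_iff_smul_eq_zero]
  intro r' x hx
  by_contra hcon
  push Not at hcon
  obtain ⟨hr', hx0⟩ := hcon
  apply hx0
  have h1 : Function.Injective (LinearMap.lTensor R' ι) :=
    Module.Flat.lTensor_preserves_injective_linearMap ι hι
  apply h1
  rw [map_zero]
  have hmul : Function.Injective (LinearMap.mulLeft R r') := by
    intro a b hab
    exact mul_left_cancel₀ hr' hab
  have h2 : Function.Injective (LinearMap.rTensor V (LinearMap.mulLeft R r')) :=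
    Module.Flat.rTensor_preserves_injective_linearMap _ hmul
  apply h2
  rw [map_zero]
  have h3 : ∀ y : R' ⊗[R] M, LinearMap.rTensor V (LinearMap.mulLeft R r') (LinearMap.lTensor R' ι y) =
      LinearMap.lTensor R' ι (r' • y) := by
    intro y
    induction y using TensorProduct.induction_on with
    | zero => simp
    | tmul a m => simp [TensorProduct.smul_tmul']
    | add y z hy hz => simp only [map_add, smul_add, hy, hz]
  rw [h3, hx, map_zero]

end Groth.Agent.S6866
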