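import Groth.Statements.S6867
import Mathlib

set_option autoImplicit false
universe u
open CAlg

namespace Groth.Agent.S6867

/-- For a domain `R`, a finite `R`-module `M` is torsion free exactly when it admits an injective
`R`-linear map into `Rⁿ` for some `n`. -/
theorem result (R : Type u) [CommRing R] [IsDomain R] (M : Type u)
    [AddCommGroup M] [Module R M] [Module.Finite R M] :
    Module.IsTorsionFree R M ↔ ∃ (n : ℕ) (f : M →ₗ[R] (Fin n → R)), Function.Injective f := by
  constructor
  · intro hM
    let S := nonZeroDivisors R
    let K := Localization S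
    let V := LocalizedModule S M
    let ι : M →ₗ[R] V := LocalizedModule.mkLinearMap S M
    have hι : Function.Injective ι := by
      rw [injective_iff_map_eq_zero]
      intro m hm
      obtain ⟨s', hs'⟩ := (IsLocalizedModule.eq_zero_iff S ι).mp hm
      have h0 : (s' : R) ≠ 0 := nonZeroDivisors.ne_zero s'.2
      have : (s' : R) • m = 0 := hs'
      exact (smul_eq_zero_iff_right h0).mp this
    have : IsDomain K := inferInstanceAs (IsDomain (FractionRing R))
    let _ : Field K := inferInstanceAs (Field (FractionRing R))
    have : Module.Finite K V := inferInstance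
    let n := Module.finrank K V
    let φ : V ≃ₗ[K] (Fin n → K) := (Module.finBasis K V).equivFun
    obtain ⟨s, hs⟩ := (Module.Finite.fg_top : (⊤ : Submodule R M).FG)
    obtain ⟨b, hb⟩ := IsLocalization.exist_integer_multiples S
      (s ×ˢ (Finset.univ : Finset (Fin n))) (fun p => φ (ι p.1) p.2)
    -- the map `g : M → Kⁿ`
    let g : M →ₗ[R] (Fin n → K) := (b : R) • ((φ.toLinearMap.restrictScalars R) ∘ₗ ι)
    let j : (Fin n → R) →ₗ[R] (Fin n → K) := (Algebra.linearMap R K).compLeft (Fin n)
    have hj : Function.Injective j := by
      intro x y hxy
      funext i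
      have := congrFun hxy i
      exact IsFractionRing.injective R K this
    have hg : ∀ m, g m ∈ LinearMap.range j := by
      intro m
      have hm : m ∈ Submodule.span R (s : Set M) := by rw [hs]; trivial
      induction hm using Submodule.span_induction with
      | mem x hx =>
        have : ∀ i : Fin n, ∃ r : R, algebraMap R K r = (b : R) • φ (ι x) i := by
          intro i
          exact hb (x, i) (by simpa using hx)
        choose r hr using this
        refine ⟨r, ?_⟩
        funext i
        simp only [j, g, LinearMap.compLeft_apply, Function.comp_apply, Algebra.linearMap_apply,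
          LinearMap.smul_apply, LinearMap.coe_comp, LinearMap.coe_restrictScalars,
          LinearEquiv.coe_coe, Pi.smul_apply]
        exact hr i
      | zero => simp
      | add x y _ _ hx hy => rw [map_add]; exact Submodule.add_mem _ hx hy
      | smul a x _ hx => rw [map_smul]; exact Submodule.smul_mem _ _ hx
    let g' : M →ₗ[R] LinearMap.range j := g.codRestrict _ hg
    refine ⟨n, (LinearEquiv.ofInjective j hj).symm.toLinearMap ∘ₗ g', ?_⟩
    rw [LinearMap.coe_comp]
    refine (LinearEquiv.injective _).comp ?_
    intro x y hxy
    have h1 : g x = g y := congrArg Subtype.val hxy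
    have h2 : (b : R) • φ (ι x) = (b : R) • φ (ι y) := h1
    have hb0 : (b : R) ≠ 0 := nonZeroDivisors.ne_zero b.2
    have h3 : φ (ι x) = φ (ι y) := by
      have h4 : algebraMap R K (b : R) ≠ 0 := by
        intro h
        exact hb0 (IsFractionRing.injective R K (by rw [h, map_zero]))
      rw [← algebraMap_smul K (b : R) (φ (ι x)), ← algebraMap_smul K (b : R) (φ (ι y))] at h2
      exact smul_right_injective _ h4 h2
    exact hι (φ.injective h3)
  · rintro ⟨n, f, hf⟩
    exact hf.moduleIsTorsionFree f (fun r m => map_smul f r m)

end Groth.Agent.S6867
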