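import Groth.Statements.S6868
import Groth.Agent.Lib.helper9.Depth10

set_option autoImplicit false
universe u
open CAlg

namespace Groth.Agent.S6868

/-- (1) ⇔ (3) ⇔ (4): for a Noetherian domain `R` and a nonzero finite `R`-module `M`, torsion-freeness
of `M` is equivalent to `(0)` being the unique associated prime of `M`, and also to the conjunction:
`(0)` belongs to the support of `M` and `M` satisfies Serre's condition `(S_1)`. (The published
statement also lists embedding into a finite free module and the absence of embedded associated
primes; this row states the other three conditions.) -/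
lemma tf_iff_ass (R : Type u) [CommRing R]
    [IsDomain R] [IsNoetherianRing R] (M : Type u) [AddCommGroup M] [Module R M] [Nontrivial M] :
    Module.IsTorsionFree R M ↔ associatedPrimes R M = {⊥} := by
  constructor
  · intro hTF
    have hall : ∀ p ∈ associatedPrimes R M, p = ⊥ := by
      intro p hp
      have hp' : IsAssociatedPrime p M := hp
      have hprime := hp'.isPrime
      rw [isAssociatedPrime_iff] at hp'
      obtain ⟨-, x, hx⟩ := hp'
      have hx0 : x ≠ 0 := by
        intro h0
        apply hprime.ne_top
        rw [hx, h0]
        rw [Ideal.eq_top_iff_one, Submodule.mem_colon_singleton]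
        simp
      rw [eq_bot_iff]
      intro r hr
      rw [hx, Submodule.mem_colon_singleton] at hr
      have hr' : r • x = 0 := by simpa using hr
      rcases (Module.isTorsionFree_iff_smul_eq_zero.mp hTF) r x hr' with h | h
      · simpa using h
      · exact absurd h hx0
    obtain ⟨p, hp⟩ := associatedPrimes.nonempty R M
    ext q
    constructor
    · intro hq
      exact hall q hq
    · intro hq
      rw [Set.mem_singleton_iff] at hq
      rw [hq, ← hall p hp]
      exact hp
  · intro hAss
    rw [Module.isTorsionFree_iff_smul_eq_zero]
    intro r m hrm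
    by_cases hm : m = 0
    · exact Or.inr hm
    · left
      have hmem : r ∈ { r : R | ∃ x : M, x ≠ 0 ∧ r • x = 0 } := ⟨m, hm, hrm⟩
      rw [← biUnion_associatedPrimes_eq_zero_divisors R M, hAss] at hmem
      simpa using hmem

theorem result (R : Type u) [CommRing R]
    [IsDomain R] [IsNoetherianRing R] (M : Type u) [AddCommGroup M] [Module R M] [Module.Finite R M] [Nontrivial M] :
    (Module.IsTorsionFree R M ↔ associatedPrimes R M = {⊥}) ∧
    (Module.IsTorsionFree R M ↔
      (⟨⊥, Ideal.isPrime_bot⟩ : PrimeSpectrum R) ∈ Module.support R M ∧ LocCoh.HasSk 1 R M) := by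
  have h1 := tf_iff_ass R M
  refine ⟨h1, ?_⟩
  rw [← Groth.Agent.Lib.helper9.Depth.noEmbedded_iff_hasSk_one M, h1]
  constructor
  · intro hAss
    have hbot : (⊥ : Ideal R) ∈ associatedPrimes R M := by rw [hAss]; rfl
    have hsupp := Groth.Agent.Lib.helper9.Depth.mem_support_of_mem_associatedPrimes hbot
    refine ⟨hsupp, ?_⟩
    intro p hp
    rw [hAss, Set.mem_singleton_iff] at hp
    rw [hp]
    rw [Module.mem_support_iff_of_finite] at hsupp
    have hann : Module.annihilator R M ≤ ⊥ := hsupp
    refine ⟨⟨Ideal.isPrime_bot, hann⟩, ?_⟩
    intro q _ _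
    exact bot_le
  · rintro ⟨hsupp, hmin⟩
    rw [Module.mem_support_iff_of_finite] at hsupp
    have hann : Module.annihilator R M = ⊥ := le_bot_iff.mp hsupp
    rw [hann] at hmin
    have hmp : (⊥ : Ideal R).minimalPrimes = {⊥} :=
      @Ideal.minimalPrimes_eq_subsingleton_self _ _ ⊥ Ideal.isPrime_bot
    rw [hmp] at hmin
    obtain ⟨p, hp⟩ := associatedPrimes.nonempty R M
    ext q
    constructor
    · intro hq
      exact hmin q hq
    · intro hq
      rw [Set.mem_singleton_iff] at hq
      have := hmin p hp
      rw [Set.mem_singleton_iff] at this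
      rw [hq, ← this]
      exact hp

end Groth.Agent.S6868
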