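import Groth.Statements.S6869
import Mathlib
import Groth.Agent.Lib.helper5.TorsFree

set_option autoImplicit false
universe u
open CAlg

namespace Groth.Agent.S6869

/-- For a domain `R` and a finite `R`-module `M`, the evaluation map `M → M**` into the double dual is
injective exactly when `M` is torsion free. -/
theorem result (R : Type u) [CommRing R] [IsDomain R] (M : Type u)
    [AddCommGroup M] [Module R M] [Module.Finite R M] :
    Function.Injective (Module.Dual.eval R M) ↔ Module.IsTorsionFree R M := by
  constructor
  · intro hinj
    exact hinj.moduleIsTorsionFree _ (fun r m => map_smul (Module.Dual.eval R M) r m)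
  · intro hM
    obtain ⟨c, hc, h1, -⟩ := Groth.Agent.H5.TorsFree.dual_eval_sandwich R M
    rw [injective_iff_map_eq_zero]
    intro x hx
    exact (smul_eq_zero_iff_right hc).mp (h1 x hx)

end Groth.Agent.S6869
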