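import Groth.Statements.S6871
import Groth.Agent.Lib.helper28.Refl
import Groth.Agent.Lib.helper28.ReflDepth2

set_option autoImplicit false
universe u
open CAlg

namespace Groth.Agent.S6871

open Groth.Agent.Lib.helper28

theorem fwd (R : Type u) [CommRing R] [IsDomain R] [IsNoetherianRing R] (M : Type u)
    [AddCommGroup M] [Module R M] [Module.Finite R M] [Module.IsReflexive R M]
    (p : Ideal R) [p.IsPrime] :
    Module.IsReflexive (Localization.AtPrime p) (LocalizedModule p.primeCompl M) := by
  have h1 : Module.IsReflexive (Localization.AtPrime p)
      (TensorProduct R (Localization.AtPrime p) M) :=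
    Refl.isReflexive_baseChange R (Localization.AtPrime p) M
  have hb : IsBaseChange (Localization.AtPrime p) (LocalizedModule.mkLinearMap p.primeCompl M) :=
    IsLocalizedModule.isBaseChange p.primeCompl (Localization.AtPrime p) _
  exact Module.equiv hb.equiv

theorem bwd (R : Type u) [CommRing R] [IsNoetherianRing R] (M : Type u)
    [AddCommGroup M] [Module R M] [Module.Finite R M]
    (h : ∀ (m : Ideal R) (hm : m.IsMaximal),
      Module.IsReflexive (Localization.AtPrime m) (LocalizedModule m.primeCompl M)) :
    Module.IsReflexive R M := by
  refine ⟨⟨?_, ?_⟩⟩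
  · rw [injective_iff_map_eq_zero]
    intro x hx
    let I : Ideal R := LinearMap.ker (LinearMap.toSpanSingleton R M x)
    by_contra hne
    have hI : I ≠ ⊤ := by
      intro htop
      have : (1 : R) ∈ I := by rw [htop]; exact Submodule.mem_top
      rw [LinearMap.mem_ker, LinearMap.toSpanSingleton_apply, one_smul] at this
      exact hne this
    obtain ⟨m, hm, hIm⟩ := Ideal.exists_le_maximal I hI
    have := hm.isPrime
    obtain ⟨s, hs⟩ := ReflDepth.ker_eval_torsion m M (h m hm) x hx
    have : (s : R) ∈ I := by
      rw [LinearMap.mem_ker, LinearMap.toSpanSingleton_apply]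
      exact hs
    exact s.2 (hIm this)
  · intro y
    let I : Ideal R := (LinearMap.range (Module.Dual.eval R M)).colon {y}
    by_contra hne
    have hI : I ≠ ⊤ := by
      intro htop
      have : (1 : R) ∈ I := by rw [htop]; exact Submodule.mem_top
      rw [Submodule.mem_colon_singleton, one_smul] at this
      exact hne this
    obtain ⟨m, hm, hIm⟩ := Ideal.exists_le_maximal I hI
    have := hm.isPrime
    obtain ⟨s, g, hs⟩ := ReflDepth.coker_eval_torsion m M (h m hm) y
    have : (s : R) ∈ I := by
      rw [Submodule.mem_colon_singleton]
      exact ⟨g, hs.symm⟩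
    exact s.2 (hIm this)

/-- Let `R` be a Noetherian domain and `M` a finite `R`-module. Then `M` is reflexive if and only if
`M_𝔭` is a reflexive `R_𝔭`-module for every prime `𝔭`, if and only if `M_𝔪` is a reflexive
`R_𝔪`-module for every maximal ideal `𝔪`. -/
theorem result (R : Type u) [CommRing R] [IsDomain R] [IsNoetherianRing R] (M : Type u)
    [AddCommGroup M] [Module R M] [Module.Finite R M] :
    (Module.IsReflexive R M ↔
      ∀ (p : Ideal R) [p.IsPrime], Module.IsReflexive (Localization.AtPrime p) (LocalizedModule p.primeCompl M)) ∧
    (Module.IsReflexive R M ↔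
      ∀ (m : Ideal R) (_ : m.IsMaximal),
        Module.IsReflexive (Localization.AtPrime m) (LocalizedModule m.primeCompl M)) := by
  constructor
  · constructor
    · intro h p _
      exact fwd R M p
    · intro h
      exact bwd R M (fun m hm => by have := hm.isPrime; exact h m)
  · constructor
    · intro h m hm
      have := hm.isPrime
      exact fwd R M m
    · intro h
      exact bwd R M h

end Groth.Agent.S6871
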