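import Groth.Statements.S6877
import Groth.Agent.Lib.helper28.ReflDepth
import Groth.Agent.S18701

set_option autoImplicit false
universe u
open CAlg

namespace Groth.Agent.S6877

open LocCoh Groth.Agent.Lib.helper9 Groth.Agent.Lib.helper28

theorem support_hom_subset (R : Type u) [CommRing R] [IsNoetherianRing R]
    (M N : Type u) [AddCommGroup M] [Module R M] [Module.Finite R M] [AddCommGroup N] [Module R N]
    [Module.Finite R N] : Module.support R (M →ₗ[R] N) ⊆ Module.support R N := by
  intro q hq
  rw [Module.mem_support_iff_of_finite] at hq ⊢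
  refine le_trans ?_ hq
  intro r hr
  rw [Module.mem_annihilator] at hr ⊢
  intro h
  ext m
  rw [LinearMap.smul_apply, hr, LinearMap.zero_apply]

theorem hasSk_hom (R : Type u) [CommRing R] [IsNoetherianRing R]
    (M N : Type u) [AddCommGroup M] [Module R M] [Module.Finite R M] [AddCommGroup N] [Module R N]
    [Module.Finite R N] (k : ℕ) (hk : k = 1 ∨ k = 2) (hN : HasSk k R N) :
    HasSk k R (M →ₗ[R] N) := by
  intro p _
  have hS := hN p
  set B := Localization.AtPrime p
  set Y := LocalizedModule p.primeCompl N
  set X := LocalizedModule p.primeCompl M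
  have : Module.FinitePresentation R M := Module.finitePresentation_of_finite R M
  have e : LocalizedModule p.primeCompl (M →ₗ[R] N) ≃ₗ[B] (X →ₗ[B] Y) :=
    (Module.FinitePresentation.linearEquivMapExtendScalars p.primeCompl
      (M := M) (N := N)).extendScalarsOfIsLocalization p.primeCompl B
  have hd : depth B (LocalizedModule p.primeCompl (M →ₗ[R] N)) = depth B (X →ₗ[B] Y) :=
    Depth.idealDepth_congr _ e
  have hs : Module.supportDim B (LocalizedModule p.primeCompl (M →ₗ[R] N)) ≤
      Module.supportDim B Y :=
    Groth.Agent.S18701.supportDim_loc_le_of_support_subset p (support_hom_subset R M N)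
  rw [hd]
  have h1 : min (k : WithBot ℕ∞) (Module.supportDim B (LocalizedModule p.primeCompl (M →ₗ[R] N))) ≤
      min (k : WithBot ℕ∞) ((depth B Y : ℕ∞) : WithBot ℕ∞) :=
    le_min (min_le_left _ _) ((min_le_min_left _ hs).trans hS)
  refine h1.trans ?_
  have h2 := ReflDepth.min_le_idealDepth_hom (IsLocalRing.maximalIdeal B) X Y k hk
  have h3 : min (k : WithBot ℕ∞) ((depth B Y : ℕ∞) : WithBot ℕ∞) =
      ((min (k : ℕ∞) (depth B Y) : ℕ∞) : WithBot ℕ∞) := by
    rw [WithBot.coe_min]
    rfl
  rw [h3]
  exact WithBot.coe_le_coe.2 h2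

/-- Let `R` be a Noetherian ring and `M, N` finite `R`-modules. If `N` has `(S_1)`, resp. `(S_2)`, then
so does `Hom_R(M, N)`. (The published statement has a third part, over a domain: `N` torsion free
with `(S_2)` implies the same for `Hom_R(M, N)`; this row states parts one and two.) -/
theorem result (R : Type u) [CommRing R] [IsNoetherianRing R]
    (M N : Type u) [AddCommGroup M] [Module R M] [Module.Finite R M] [AddCommGroup N] [Module R N] [Module.Finite R N] :
    (LocCoh.HasSk 1 R N → LocCoh.HasSk 1 R (M →ₗ[R] N)) ∧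
    (LocCoh.HasSk 2 R N → LocCoh.HasSk 2 R (M →ₗ[R] N)) := by
  exact ⟨hasSk_hom R M N 1 (Or.inl rfl), hasSk_hom R M N 2 (Or.inr rfl)⟩

end Groth.Agent.S6877
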