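import Groth.Statements.S6878
import Mathlib

set_option autoImplicit false
universe u
open CAlg

namespace Groth.Agent.S6878

/-- Let `R` be a Noetherian ring and `φ : M → N` a map of `R`-modules. Suppose that for every prime `𝔭`
of `R` either `M_𝔭 → N_𝔭` is injective or `𝔭` is not an associated prime of `M`. Then `φ` is
injective. -/
theorem result (R : Type u) [CommRing R]
    [IsNoetherianRing R] {M N : Type u} [AddCommGroup M] [Module R M] [AddCommGroup N] [Module R N] (φ : M →ₗ[R] N)
    (h : ∀ (p : Ideal R) [p.IsPrime],
      Function.Injective (LocalizedModule.map p.primeCompl φ) ∨ p ∉ associatedPrimes R M) :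
    Function.Injective φ := by
  rw [← LinearMap.ker_eq_bot]
  by_contra hne
  have hnt : Nontrivial (LinearMap.ker φ) := by
    rw [Submodule.nontrivial_iff_ne_bot]
    exact hne
  obtain ⟨p, hp⟩ := associatedPrimes.nonempty R (LinearMap.ker φ)
  have hpM : p ∈ associatedPrimes R M :=
    associatedPrimes.subset_of_injective (f := (LinearMap.ker φ).subtype)
      (Submodule.injective_subtype _) hp
  obtain ⟨hpp, x, hx⟩ := (isAssociatedPrime_iff (I := p) (M := LinearMap.ker φ)).1 hp
  rcases h p with hinj | hnot
  · -- x ∈ ker φ with annihilator p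
    have hx0 : LocalizedModule.mkLinearMap p.primeCompl M (x : M) = 0 := by
      apply hinj
      rw [map_zero]
      have := LocalizedModule.map_mk p.primeCompl φ (x : M) 1
      rw [LocalizedModule.mkLinearMap_apply, this]
      have hxφ : φ (x : M) = 0 := x.2
      rw [hxφ, LocalizedModule.zero_mk]
    rw [IsLocalizedModule.eq_zero_iff p.primeCompl] at hx0
    obtain ⟨s, hs⟩ := hx0
    have : (s : R) ∈ p := by
      have h2 : (s : R) ∈ (⊥ : Submodule R (LinearMap.ker φ)).colon {x} := by
        rw [Submodule.mem_colon_singleton, Submodule.mem_bot]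
        ext
        rw [Submodule.coe_smul, Submodule.coe_zero]
        exact hs
      rw [← hx] at h2
      exact h2
    exact s.2 this
  · exact hnot hpM

end Groth.Agent.S6878
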