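import Groth.Statements.S6879
import Groth.Agent.Lib.helper28.Refl
import Groth.Agent.Lib.helper28.ReflDepth2
import Groth.Agent.Lib.helper9.Depth8
import Groth.Agent.S6871

set_option autoImplicit false
universe u
open CAlg

namespace Groth.Agent.S6879

open LocCoh Groth.Agent.Lib.helper9 Groth.Agent.Lib.helper28

section
variable (R : Type u) [CommRing R] [IsDomain R] [IsNoetherianRing R] (M : Type u)
  [AddCommGroup M] [Module R M] [Module.Finite R M]

/-- If `s ∉ p` kills the kernel and cokernel of `M → M**` then `M_p` is reflexive. -/
theorem isReflexive_loc_of_kills (p : Ideal R) [p.IsPrime] (s : R) (hs : s ∉ p)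
    (hK : ∀ x : M, Module.Dual.eval R M x = 0 → s • x = 0)
    (hC : ∀ y : Module.Dual R (Module.Dual R M), s • y ∈ LinearMap.range (Module.Dual.eval R M)) :
    Module.IsReflexive (Localization.AtPrime p) (LocalizedModule p.primeCompl M) := by
  have : Module.IsReflexive R (Module.Dual R (Module.Dual R M)) :=
    Refl.isReflexive_linearMap R (Module.Dual R M) R
  have h2 := Groth.Agent.S6871.fwd R (Module.Dual R (Module.Dual R M)) p
  have hbij : Function.Bijective (LocalizedModule.map p.primeCompl (Module.Dual.eval R M)) := by
    constructor
    · rw [injective_iff_map_eq_zero]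
      intro z hz
      induction z using LocalizedModule.induction_on with
      | h x t =>
        rw [LocalizedModule.map_mk, ← LocalizedModule.zero_mk 1, LocalizedModule.mk_eq] at hz
        obtain ⟨u, hu⟩ := hz
        rw [smul_zero, smul_zero, one_smul, Submonoid.smul_def, ← map_smul] at hu
        have := hK _ hu
        rw [← LocalizedModule.zero_mk 1, LocalizedModule.mk_eq]
        refine ⟨⟨s, hs⟩ * u, ?_⟩
        rw [smul_zero, smul_zero, one_smul, mul_smul, Submonoid.smul_def, Submonoid.smul_def]
        exact this
    · intro z
      induction z using LocalizedModule.induction_on with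
      | h y t =>
        obtain ⟨g, hg⟩ := hC y
        refine ⟨LocalizedModule.mk g (⟨s, hs⟩ * t), ?_⟩
        rw [LocalizedModule.map_mk, LocalizedModule.mk_eq]
        refine ⟨1, ?_⟩
        rw [one_smul, one_smul, hg, mul_smul, Submonoid.smul_def, Submonoid.smul_def,
          Submonoid.smul_def, smul_comm]
  exact Module.equiv (LinearEquiv.ofBijective _ hbij).symm

end

/-- Let `R` be a Noetherian domain and `M` a finite `R`-module. Then `M` is reflexive if and only if for
every prime `𝔭` of `R` either `M_𝔭` is a reflexive `R_𝔭`-module or `depth(M_𝔭) ≥ 2`. -/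
theorem result (R : Type u) [CommRing R] [IsDomain R]
    [IsNoetherianRing R] (M : Type u) [AddCommGroup M] [Module R M] [Module.Finite R M] :
    Module.IsReflexive R M ↔ ∀ (p : Ideal R) [p.IsPrime],
      Module.IsReflexive (Localization.AtPrime p) (LocalizedModule p.primeCompl M) ∨
        2 ≤ LocCoh.depth (Localization.AtPrime p) (LocalizedModule p.primeCompl M) := by
  constructor
  · intro h p _
    exact Or.inl (Groth.Agent.S6871.fwd R M p)
  · intro h
    classical
    set ev := Module.Dual.eval R M with hev
    set K := LinearMap.ker ev with hK
    set C := Module.Dual R (Module.Dual R M) ⧸ LinearMap.range ev with hC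
    set I : Ideal R := Module.annihilator R K ⊓ Module.annihilator R C with hI
    obtain ⟨c, hc0, hcK, hcC⟩ := Groth.Agent.H5.TorsFree.dual_eval_sandwich R M
    have hcI : c ∈ I := by
      rw [hI, Ideal.mem_inf]
      refine ⟨?_, ?_⟩
      · rw [Module.mem_annihilator]
        intro x
        ext
        rw [Submodule.coe_smul, Submodule.coe_zero]
        exact hcK x x.2
      · rw [Module.mem_annihilator]
        intro q
        obtain ⟨y, rfl⟩ := Submodule.mkQ_surjective _ q
        rw [← map_smul, Submodule.mkQ_apply, Submodule.Quotient.mk_eq_zero]
        exact hcC y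
    have hmemI : ∀ s ∈ I, (∀ x : M, ev x = 0 → s • x = 0) ∧
        ∀ y : Module.Dual R (Module.Dual R M), s • y ∈ LinearMap.range ev := by
      intro s hs
      rw [hI, Ideal.mem_inf] at hs
      constructor
      · intro x hx
        have := (Module.mem_annihilator.1 hs.1) ⟨x, hx⟩
        exact congrArg Subtype.val this
      · intro y
        have := (Module.mem_annihilator.1 hs.2) ((LinearMap.range ev).mkQ y)
        rw [← map_smul, Submodule.mkQ_apply, Submodule.Quotient.mk_eq_zero] at this
        exact this
    have hA : 1 ≤ idealDepth I R := by
      have hreg : RingTheory.Sequence.IsWeaklyRegular R [c] := by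
        rw [RingTheory.Sequence.isWeaklyRegular_singleton_iff]
        intro a b hab
        exact mul_left_cancel₀ hc0 hab
      have := Depth.length_le_idealDepth (I := I) hreg (by
        intro r hr
        rw [List.mem_singleton] at hr
        rw [hr]; exact hcI)
      simpa using this
    apply ReflDepth.isReflexive_of_idealDepth_two I hA M
    · intro p hp
      obtain ⟨s, hsI, hsp⟩ := SetLike.not_le_iff_exists.1 hp
      obtain ⟨h1, h2⟩ := hmemI s hsI
      exact isReflexive_loc_of_kills R M p.asIdeal s hsp h1 h2
    · rw [Depth.idealDepth_eq_iInf_depth_localization]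
      refine le_iInf₂ fun p hp => ?_
      rcases h p.asIdeal with hr | hd
      · exfalso
        -- p ∉ Supp K, p ∉ Supp C
        have h1 : p ∉ Module.support R K := by
          rw [Module.notMem_support_iff']
          intro x
          obtain ⟨s, hs⟩ := ReflDepth.ker_eval_torsion p.asIdeal M hr x x.2
          refine ⟨s, s.2, ?_⟩
          ext
          rw [Submodule.coe_smul, Submodule.coe_zero]
          exact hs
        have h2 : p ∉ Module.support R C := by
          rw [Module.notMem_support_iff']
          intro q
          obtain ⟨y, rfl⟩ := Submodule.mkQ_surjective _ q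
          obtain ⟨s, g, hs⟩ := ReflDepth.coker_eval_torsion p.asIdeal M hr y
          refine ⟨s, s.2, ?_⟩
          rw [← map_smul, Submodule.mkQ_apply, Submodule.Quotient.mk_eq_zero]
          exact ⟨g, hs.symm⟩
        rw [Module.mem_support_iff_of_finite] at h1 h2
        rcases (Ideal.IsPrime.inf_le p.2).1 hp with h3 | h3
        · exact h1 h3
        · exact h2 h3
      · exact hd

end Groth.Agent.S6879
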