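import Groth.Statements.S6881
import Mathlib
import Groth.Agent.Lib.helper6.ReflNormal
import Groth.Agent.Lib.helper9.Depth7
import Groth.Agent.Lib.helper9.Depth8
import Groth.Agent.Lib.helper9.Depth1
import Groth.Agent.Lib.helper9.Serre1

set_option autoImplicit false
universe u
open CAlg

namespace Groth.Agent.S6881

section Aux
open LocCoh Groth.Agent.Lib.helper9 Groth.Agent.Lib.helper9.Depth

/-- an associated prime of a principal ideal in a Noetherian normal domain has height ≤ 1 -/
theorem height_le_one_of_colon (B : Type u) [CommRing B] [IsDomain B] [IsNoetherianRing B]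
    [IsIntegrallyClosed B] (a y : B) (ha : a ≠ 0) (Q : Ideal B) [Q.IsPrime]
    (hQ : ∀ b, b ∈ Q ↔ a ∣ b * y) : Q.height ≤ 1 := by
  by_contra hnot
  rw [not_le] at hnot
  let B' := Localization.AtPrime Q
  haveI : IsDomain B' := IsLocalization.isDomain_localization Q.primeCompl_le_nonZeroDivisors
  haveI : IsIntegrallyClosed B' :=
    isIntegrallyClosed_of_isLocalization B' Q.primeCompl Q.primeCompl_le_nonZeroDivisors
  haveI : IsNoetherianRing B' := IsLocalization.isNoetherianRing Q.primeCompl _ inferInstance
  have hdim : (2 : WithBot ℕ∞) ≤ ringKrullDim B' := by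
    rw [IsLocalization.AtPrime.ringKrullDim_eq_height Q B']
    have h2 : (2 : ℕ∞) ≤ Q.height := by
      have := Order.add_one_le_of_lt hnot
      simpa [one_add_one_eq_two] using this
    exact (WithBot.coe_le_coe.2 h2 : ((2 : ℕ∞) : WithBot ℕ∞) ≤ _)
  have hinj : Function.Injective (algebraMap B B') :=
    IsLocalization.injective B' Q.primeCompl_le_nonZeroDivisors
  set x : B' := algebraMap B B' a with hx
  have hx0 : x ≠ 0 := by
    intro h0
    apply ha
    apply hinj
    rw [map_zero]; exact h0
  refine Serre.not_mem_ass_of_normal B' hdim x hx0 ?_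
  set y' : B' := algebraMap B B' y with hy'
  -- (i) `x ∤ y'`
  have h1 : ¬ x ∣ y' := by
    rintro ⟨c, hc⟩
    obtain ⟨⟨c0, s⟩, hcs⟩ := IsLocalization.mk'_surjective Q.primeCompl c
    simp only at hcs
    have h3 : algebraMap B B' (y * s) = algebraMap B B' (a * c0) := by
      rw [map_mul, map_mul, ← hy', hc, ← hx, ← hcs, mul_assoc, IsLocalization.mk'_spec]
    have h4 := hinj h3
    have h5 : (s : B) ∈ Q := by
      rw [hQ]
      exact ⟨c0, by rw [mul_comm, h4]⟩
    exact s.2 h5
  -- (ii) `m y' ⊆ x B'`
  have h2 : ∀ t ∈ IsLocalRing.maximalIdeal B', x ∣ t * y' := by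
    intro t ht
    obtain ⟨⟨b, s⟩, hbs⟩ := IsLocalization.mk'_surjective Q.primeCompl t
    simp only at hbs
    have hb : b ∈ Q := by
      rw [← hbs] at ht
      exact (IsLocalization.AtPrime.mk'_mem_maximal_iff B' Q b s).1 ht
    obtain ⟨c, hc⟩ := (hQ b).1 hb
    refine ⟨IsLocalization.mk' B' c s, ?_⟩
    rw [← hbs, hy', hx, mul_comm, IsLocalization.mul_mk'_eq_mk'_of_mul,
      IsLocalization.mul_mk'_eq_mk'_of_mul, mul_comm y b, hc]
  -- conclude
  have hne : (Submodule.Quotient.mk y' : QuotSMulTop x B') ≠ 0 := by
    intro h0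
    apply h1
    rw [Submodule.Quotient.mk_eq_zero, Submodule.mem_smul_pointwise_iff_exists] at h0
    obtain ⟨w, -, hw⟩ := h0
    exact ⟨w, by rw [← hw, smul_eq_mul]⟩
  have hle : IsLocalRing.maximalIdeal B' ≤
      (⊥ : Submodule B' (QuotSMulTop x B')).colon {(Submodule.Quotient.mk y' : QuotSMulTop x B')} := by
    intro t ht
    rw [Submodule.mem_colon_singleton, Submodule.mem_bot, ← Submodule.Quotient.mk_smul,
      Submodule.Quotient.mk_eq_zero, Submodule.mem_smul_pointwise_iff_exists]
    obtain ⟨w, hw⟩ := h2 t ht
    exact ⟨w, trivial, by rw [smul_eq_mul, smul_eq_mul, ← hw]⟩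
  have hne_top : (⊥ : Submodule B' (QuotSMulTop x B')).colon
      {(Submodule.Quotient.mk y' : QuotSMulTop x B')} ≠ ⊤ := by
    intro htop
    apply hne
    have : (1 : B') ∈ (⊥ : Submodule B' (QuotSMulTop x B')).colon
      {(Submodule.Quotient.mk y' : QuotSMulTop x B')} := by rw [htop]; trivial
    rw [Submodule.mem_colon_singleton, one_smul, Submodule.mem_bot] at this
    exact this
  have heq : IsLocalRing.maximalIdeal B' = (⊥ : Submodule B' (QuotSMulTop x B')).colon
      {(Submodule.Quotient.mk y' : QuotSMulTop x B')} :=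
    le_antisymm hle (IsLocalRing.le_maximalIdeal hne_top)
  show IsAssociatedPrime (IsLocalRing.maximalIdeal B') (QuotSMulTop x B')
  rw [isAssociatedPrime_iff]
  exact ⟨inferInstance, _, heq⟩

theorem hasSk_two (A : Type u) [CommRing A] [IsDomain A] [IsNoetherianRing A]
    [IsIntegrallyClosed A] (B : Type u) [CommRing B] [IsDomain B] [Algebra A B]
    [FaithfulSMul A B] [Module.Finite A B] [IsIntegrallyClosed B] : HasSk 2 A B := by
  intro p hp
  have hinjAB : Function.Injective (algebraMap A B) := FaithfulSMul.algebraMap_injective A B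
  haveI : NoZeroSMulDivisors A B := by
    refine ⟨fun {c x} h => ?_⟩
    rw [Algebra.smul_def] at h
    rcases mul_eq_zero.1 h with h | h
    · left
      apply hinjAB
      rw [h, map_zero]
    · exact Or.inr h
  haveI : IsNoetherianRing B := IsNoetherianRing.of_finite A B
  haveI : Algebra.IsIntegral A B := Algebra.IsIntegral.of_finite A B
  rw [Groth.Agent.Lib.helper6.ReflNormal.supportDim_localization p]
  refine le_trans ?_ (WithBot.coe_le_coe.2 (idealDepth_le_depth_localization p B p le_rfl))
  by_cases htop : p • (⊤ : Submodule A B) = ⊤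
  · rw [idealDepth_eq_top _ _ htop]
    exact le_top
  by_cases hbot : p = ⊥
  · subst hbot
    rw [Ideal.height_bot]
    exact le_trans (min_le_right _ _) (by exact_mod_cast (zero_le : (0 : ℕ∞) ≤ _))
  obtain ⟨a, hap, ha0⟩ := Submodule.exists_mem_ne_zero_of_ne_bot hbot
  have hreg : IsSMulRegular B a := by
    intro b c hbc
    exact smul_right_injective B ha0 hbc
  have h1 := idealDepth_quotSMulTop_add_one htop hap hreg
  have hone : (1 : ℕ∞) ≤ idealDepth p B := by
    rw [← h1]
    exact le_add_self
  by_cases hht : (2 : ℕ∞) ≤ p.height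
  · have hne : idealDepth p (QuotSMulTop a B) ≠ 0 := by
      intro h0
      have hnr := no_regular_of_idealDepth_eq_zero h0
      haveI : Nontrivial (QuotSMulTop a B) := by
        by_contra hn
        rw [not_nontrivial_iff_subsingleton] at hn
        apply smul_top_quotSMulTop_ne_top hap htop
        ext z
        simp [Subsingleton.elim z 0]
      obtain ⟨P, hP, hpP⟩ := exists_associatedPrime_ge_of_no_regular p (QuotSMulTop a B) hnr
      have hP' : IsAssociatedPrime P (QuotSMulTop a B) := hP
      have hPprime := hP'.isPrime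
      rw [isAssociatedPrime_iff] at hP'
      obtain ⟨-, n, hn⟩ := hP'
      obtain ⟨y₁, rfl⟩ := Submodule.Quotient.mk_surjective _ n
      set a' : B := algebraMap A B a with ha'
      have ha'0 : a' ≠ 0 := by
        intro h
        apply ha0
        apply hinjAB
        rw [map_zero]; exact h
      have hmemP : ∀ x : A, x ∈ P ↔ a' ∣ algebraMap A B x * y₁ := by
        intro x
        rw [hn, Submodule.mem_colon_singleton, Submodule.mem_bot, ← Submodule.Quotient.mk_smul,
          Submodule.Quotient.mk_eq_zero, Submodule.mem_smul_pointwise_iff_exists]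
        constructor
        · rintro ⟨w, -, hw⟩
          exact ⟨w, by rw [← Algebra.smul_def, ← hw, ha', Algebra.smul_def]⟩
        · rintro ⟨w, hw⟩
          exact ⟨w, trivial, by rw [Algebra.smul_def, Algebra.smul_def, hw]⟩
      -- the ideal `(a' : y₁)` of `B`
      set I : Ideal B := (Ideal.span {a'} : Submodule B B).colon {y₁} with hI
      have hmemI : ∀ b : B, b ∈ I ↔ a' ∣ b * y₁ := by
        intro b
        rw [hI, Submodule.mem_colon_singleton, smul_eq_mul, Ideal.mem_span_singleton]
      have hItop : I ≠ ⊤ := by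
        intro h
        have h1I : (1 : B) ∈ I := by rw [h]; trivial
        rw [hmemI] at h1I
        have : (1 : A) ∈ P := by
          rw [hmemP, map_one]
          exact h1I
        exact hPprime.ne_top ((Ideal.eq_top_iff_one _).2 this)
      haveI : Nontrivial (B ⧸ I) := Ideal.Quotient.nontrivial_iff.2 hItop
      obtain ⟨Q, hQ⟩ := associatedPrimes.nonempty B (B ⧸ I)
      have hQ' : IsAssociatedPrime Q (B ⧸ I) := hQ
      haveI hQprime : Q.IsPrime := hQ'.isPrime
      rw [isAssociatedPrime_iff] at hQ'
      obtain ⟨-, m, hm⟩ := hQ'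
      obtain ⟨b₀, rfl⟩ := Ideal.Quotient.mk_surjective m
      have hmemQ : ∀ b : B, b ∈ Q ↔ a' ∣ b * (b₀ * y₁) := by
        intro b
        rw [hm, Submodule.mem_colon_singleton, Submodule.mem_bot]
        change (Ideal.Quotient.mk I) (b * b₀) = 0 ↔ _
        rw [Ideal.Quotient.eq_zero_iff_mem, hmemI, mul_assoc]
      have hQ1 : Q.height ≤ 1 := height_le_one_of_colon B a' (b₀ * y₁) ha'0 Q hmemQ
      have hPQ : P ≤ Q.under A := by
        intro x hx
        rw [Ideal.mem_comap, hmemQ]
        obtain ⟨w, hw⟩ := (hmemP x).1 hx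
        exact ⟨b₀ * w, by rw [mul_left_comm, hw]; ring⟩
      haveI : Q.LiesOver (Q.under A) := ⟨rfl⟩
      have hgd := Ideal.height_eq_height_add_of_liesOver_of_hasGoingDown (Q.under A) Q
      have h5 : (Q.under A).height ≤ Q.height := by
        rw [hgd]
        exact le_self_add
      have h6 : p.height ≤ (Q.under A).height := Ideal.height_mono (hpP.trans hPQ)
      have h7 : (2 : ℕ∞) ≤ 1 := hht.trans (h6.trans (h5.trans hQ1))
      exact absurd h7 (by decide)
    have h2 : (1 : ℕ∞) ≤ idealDepth p (QuotSMulTop a B) := Order.one_le_iff_ne_zero.2 hne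
    have h3 : (2 : ℕ∞) ≤ idealDepth p B := by
      rw [← h1]
      calc (2 : ℕ∞) = 1 + 1 := by norm_num
        _ ≤ _ := by gcongr
    exact le_trans (min_le_left _ _) (WithBot.coe_le_coe.2 h3 : ((2 : ℕ∞) : WithBot ℕ∞) ≤ _)
  · rw [not_le] at hht
    have h4 : p.height ≤ 1 := by
      have := Order.le_of_lt_add_one (by simpa [one_add_one_eq_two] using hht : p.height < 1 + 1)
      exact this
    refine le_trans (min_le_right _ _) ?_
    exact WithBot.coe_le_coe.2 (h4.trans hone)

theorem main (A K L : Type u) [CommRing A] [IsDomain A] [IsNoetherianRing A]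
    [IsIntegrallyClosed A] [Field K] [Algebra A K] [IsFractionRing A K] [Field L] [Algebra K L]
    [FiniteDimensional K L] [Algebra A L] [IsScalarTower A K L]
    [Module.Finite A ↥(integralClosure A L)] :
    Module.IsReflexive A ↥(integralClosure A L) := by
  haveI : IsIntegrallyClosed (integralClosure A L) :=
    integralClosure.isIntegrallyClosedOfFiniteExtension K
  have hinjAL : Function.Injective (algebraMap A L) := by
    rw [IsScalarTower.algebraMap_eq A K L]
    exact (algebraMap K L).injective.comp (IsFractionRing.injective A K)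
  have hinj : Function.Injective (algebraMap A (integralClosure A L)) := by
    intro x y hxy
    apply hinjAL
    have := congrArg (Subtype.val) hxy
    exact this
  haveI : FaithfulSMul A (integralClosure A L) :=
    (faithfulSMul_iff_algebraMap_injective A _).2 hinj
  have h := hasSk_two A (integralClosure A L)
  haveI : NoZeroSMulDivisors A (integralClosure A L) := by
    refine ⟨fun {c x} h => ?_⟩
    rw [Algebra.smul_def] at h
    rcases mul_eq_zero.1 h with h | h
    · left
      apply hinj
      rw [h, map_zero]
    · exact Or.inr h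
  exact Groth.Agent.Lib.helper6.ReflNormal.main.2 ⟨inferInstance, h⟩
end Aux

/-- For `A` a Noetherian integrally closed domain with fraction field `K` and `L/K` a finite field
extension, if the integral closure of `A` in `L` is a finitely generated `A`-module then it is a
reflexive `A`-module. -/
theorem result (A K L : Type u) [CommRing A] [IsDomain A] [IsNoetherianRing A]
    [IsIntegrallyClosed A] [Field K] [Algebra A K] [IsFractionRing A K] [Field L] [Algebra K L] [FiniteDimensional K L]
    [Algebra A L] [IsScalarTower A K L] [Module.Finite A ↥(integralClosure A L)] :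
    Module.IsReflexive A ↥(integralClosure A L) := by
  exact main A K L

end Groth.Agent.S6881
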