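import Groth.Statements.S6882
import Mathlib

set_option autoImplicit false
universe u
open CAlg

namespace Groth.Agent.S6882

/-- For a finite module `M` over a discrete valuation ring `R`, the evaluation map from `M` to its
double dual `M**` is surjective. -/
theorem result (R : Type u) [CommRing R] [IsDomain R]
    [IsDiscreteValuationRing R] (M : Type u) [AddCommGroup M] [Module R M] [Module.Finite R M] :
    Function.Surjective (Module.Dual.eval R M) := by
  intro φ
  set T : Submodule R M := Submodule.torsion R M with hT
  haveI : Module.Free R (M ⧸ T) := Module.free_of_finite_type_torsion_free'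
  -- functionals kill torsion
  have hkill : ∀ f : Module.Dual R M, T ≤ LinearMap.ker f := by
    intro f x hx
    obtain ⟨a, ha⟩ := (Submodule.mem_torsion_iff x).mp hx
    have h1 : (a : R) * f x = 0 := by
      rw [← smul_eq_mul, ← map_smul]
      have : (a : R) • x = 0 := ha
      rw [this, map_zero]
    rcases mul_eq_zero.mp h1 with h | h
    · exact absurd h (nonZeroDivisors.coe_ne_zero a)
    · exact h
  -- ψ ∈ (M/T)**
  let ψ : Module.Dual R (Module.Dual R (M ⧸ T)) :=
    φ ∘ₗ (T.mkQ.dualMap)
  obtain ⟨mbar, hm⟩ := (Module.bijective_dual_eval R (M ⧸ T)).2 ψ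
  obtain ⟨m, rfl⟩ := T.mkQ_surjective mbar
  refine ⟨m, ?_⟩
  ext f
  have hf : f = (T.liftQ f (hkill f)) ∘ₗ T.mkQ := by
    ext x; simp
  have h2 := LinearMap.congr_fun hm (T.liftQ f (hkill f))
  simp only [Module.Dual.eval_apply, ψ, LinearMap.coe_comp, Function.comp_apply,
    LinearMap.dualMap_apply'] at h2
  rw [Module.Dual.eval_apply]
  conv_rhs => rw [hf]
  rw [← h2]
  simp

end Groth.Agent.S6882
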