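import Groth.Statements.S6886
import Mathlib

set_option autoImplicit false
universe u
open TensorProduct
open CAlg

namespace Groth.Agent.S6886

open Polynomial

/-- finite free injective extension -/
def Good (A A' : Type u) [CommRing A] [CommRing A'] [Algebra A A'] : Prop :=
  Module.Finite A A' ∧ Module.Free A A' ∧ Function.Injective (algebraMap A A')

lemma Good.refl (A : Type u) [CommRing A] : Good A A :=
  ⟨inferInstance, inferInstance, fun _ _ h => h⟩

lemma Good.trans (A A₁ A' : Type u) [CommRing A] [CommRing A₁] [CommRing A'] [Algebra A A₁]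
    [Algebra A₁ A'] [Algebra A A'] [IsScalarTower A A₁ A'] (h1 : Good A A₁) (h2 : Good A₁ A') :
    Good A A' := by
  obtain ⟨f1, r1, i1⟩ := h1
  obtain ⟨f2, r2, i2⟩ := h2
  refine ⟨Module.Finite.trans A₁ A', Module.Free.trans (R := A) (S := A₁) (M := A'), ?_⟩
  rw [IsScalarTower.algebraMap_eq A A₁ A']
  exact i2.comp i1

lemma good_adjoinRoot {A : Type u} [CommRing A] (P : A[X]) (hP : P.Monic) (hd : P.natDegree ≠ 0) :
    Good A (AdjoinRoot P) := by
  refine ⟨hP.finite_adjoinRoot, hP.free_adjoinRoot, ?_⟩
  rw [injective_iff_map_eq_zero]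
  intro a ha
  by_contra hne
  haveI := nontrivial_of_ne a 0 hne
  have h1 : (AdjoinRoot.mk P) (C a) = 0 := ha
  rw [AdjoinRoot.mk_eq_zero] at h1
  refine hP.not_dvd_of_degree_lt (q := C a) (by simpa using hne) ?_ h1
  rw [degree_C hne]
  exact natDegree_pos_iff_degree_pos.mp (Nat.pos_of_ne_zero hd)

theorem split1 : ∀ (d : ℕ) (A : Type u) [CommRing A] (P : A[X]), P.Monic → P.natDegree = d →
    ∃ (A' : Type u) (_ : CommRing A') (_ : Algebra A A'), Good A A' ∧
      ∃ α : Fin d → A', P.map (algebraMap A A') = ∏ j, (X - C (α j)) := by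
  intro d
  induction d with
  | zero =>
    intro A _ P hP hd
    refine ⟨A, inferInstance, inferInstance, Good.refl A, Fin.elim0, ?_⟩
    rw [eq_one_of_monic_natDegree_zero hP hd]
    simp
  | succ d ih =>
    intro A _ P hP hd
    rcases subsingleton_or_nontrivial A with hA | hA
    · exfalso
      have : P = 1 := Subsingleton.elim _ _
      rw [this] at hd
      simp at hd
    have hg1 : Good A (AdjoinRoot P) := good_adjoinRoot P hP (by omega)
    haveI : Nontrivial (AdjoinRoot P) := hg1.2.2.nontrivial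
    -- factor
    set r : AdjoinRoot P := AdjoinRoot.root P with hr
    set P' : (AdjoinRoot P)[X] := P.map (algebraMap A (AdjoinRoot P)) with hP'
    have hroot : P'.IsRoot r := by
      rw [IsRoot, hP', eval_map]
      exact AdjoinRoot.eval₂_root P
    have hfac : (X - C r) * (P' /ₘ (X - C r)) = P' := mul_divByMonic_eq_iff_isRoot.mpr hroot
    have hP'm : P'.Monic := hP.map _
    set Q := P' /ₘ (X - C r) with hQ
    have hQm : Q.Monic := by
      have : ((X - C r) * Q).Monic := by rw [hfac]; exact hP'm
      exact (monic_X_sub_C r).of_mul_monic_left this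
    have hQd : Q.natDegree = d := by
      have := congrArg natDegree hfac
      rw [(monic_X_sub_C r).natDegree_mul hQm, natDegree_X_sub_C, hP', hP.natDegree_map] at this
      omega
    obtain ⟨A', _, _, hg2, α, hα⟩ := ih (AdjoinRoot P) Q hQm hQd
    letI : Algebra A A' := ((algebraMap (AdjoinRoot P) A').comp (algebraMap A (AdjoinRoot P))).toAlgebra
    haveI : IsScalarTower A (AdjoinRoot P) A' := IsScalarTower.of_algebraMap_eq (fun _ => rfl)
    refine ⟨A', inferInstance, inferInstance, Good.trans A (AdjoinRoot P) A' hg1 hg2,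
      Fin.cons (algebraMap (AdjoinRoot P) A' r) α, ?_⟩
    rw [IsScalarTower.algebraMap_eq A (AdjoinRoot P) A', ← Polynomial.map_map, ← hP', ← hfac,
      Polynomial.map_mul, hα, Fin.prod_univ_succ]
    simp

theorem splitMany : ∀ (n : ℕ) (A : Type u) [CommRing A] (P : Fin n → A[X]), (∀ i, (P i).Monic) →
    ∃ (A' : Type u) (_ : CommRing A') (_ : Algebra A A'), Good A A' ∧
      ∀ i, ∃ (d : ℕ) (α : Fin d → A'), (P i).map (algebraMap A A') = ∏ j, (X - C (α j)) := by
  intro n
  induction n with
  | zero =>
    intro A _ P hP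
    exact ⟨A, inferInstance, inferInstance, Good.refl A, fun i => i.elim0⟩
  | succ n ih =>
    intro A _ P hP
    obtain ⟨A₁, _, _, hg1, α₀, hα₀⟩ := split1 _ A (P 0) (hP 0) rfl
    obtain ⟨A', _, _, hg2, h2⟩ := ih A₁ (fun i => (P i.succ).map (algebraMap A A₁))
      (fun i => (hP i.succ).map _)
    letI : Algebra A A' := ((algebraMap A₁ A').comp (algebraMap A A₁)).toAlgebra
    haveI : IsScalarTower A A₁ A' := IsScalarTower.of_algebraMap_eq (fun _ => rfl)
    refine ⟨A', inferInstance, inferInstance, Good.trans A A₁ A' hg1 hg2, ?_⟩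
    intro i
    refine Fin.cases ?_ (fun i => ?_) i
    · refine ⟨_, fun j => algebraMap A₁ A' (α₀ j), ?_⟩
      rw [IsScalarTower.algebraMap_eq A A₁ A', ← Polynomial.map_map, hα₀, Polynomial.map_prod]
      simp
    · obtain ⟨d, α, hα⟩ := h2 i
      refine ⟨d, α, ?_⟩
      rw [IsScalarTower.algebraMap_eq A A₁ A', ← Polynomial.map_map, hα]

/-- Let `R → S` be a finite ring map. One can find an extension `R ⊆ R'` of rings, with `R'` finite and
free as an `R`-module, for which the ring `S ⊗_R R'` arises as a quotient of `R'[T_1, …,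
T_n]/(P_1(T_1), …, P_n(T_n))` with each `P_i(T) = ∏_j (T - α_{ij})` a product of linear factors over
`R'`. -/
theorem result (R S : Type u) [CommRing R] [CommRing S] [Algebra R S]
    [Module.Finite R S] :
    ∃ (R' : Type u) (_ : CommRing R') (_ : Algebra R R'), Module.Finite R R' ∧ Module.Free R R' ∧
      Function.Injective (algebraMap R R') ∧
      ∃ (n : ℕ) (d : Fin n → ℕ) (α : (i : Fin n) → Fin (d i) → R')
        (φ : MvPolynomial (Fin n) R' →ₐ[R'] R' ⊗[R] S), Function.Surjective φ ∧
          ∀ i, φ (∏ j, (MvPolynomial.X i - MvPolynomial.C (α i j))) = 0 := by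
  obtain ⟨n, s, hs⟩ := Module.Finite.exists_fin (R := R) (M := S)
  have hint : ∀ i, IsIntegral R (s i) := fun i => Algebra.IsIntegral.isIntegral (s i)
  choose P hPm hPz using hint
  obtain ⟨R', _, _, ⟨hfin, hfree, hinj⟩, h2⟩ := splitMany n R P hPm
  choose d α hα using h2
  refine ⟨R', inferInstance, inferInstance, hfin, hfree, hinj, n, d, α,
    MvPolynomial.aeval (fun i => (1 : R') ⊗ₜ[R] s i), ?_, ?_⟩
  · -- surjective
    rw [← AlgHom.range_eq_top, eq_top_iff]
    have hspan : Submodule.span R' (Set.range fun i => (1 : R') ⊗ₜ[R] s i) = ⊤ := by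
      have := Submodule.baseChange_span (R := R) (A := R') (Set.range s)
      rw [hs, Submodule.baseChange_top] at this
      rw [this, ← Set.range_comp]
      rfl
    intro x _
    have hx : x ∈ Submodule.span R' (Set.range fun i => (1 : R') ⊗ₜ[R] s i) := by rw [hspan]; trivial
    have hle : Submodule.span R' (Set.range fun i => (1 : R') ⊗ₜ[R] s i) ≤
        Subalgebra.toSubmodule (MvPolynomial.aeval (R := R') fun i => (1 : R') ⊗ₜ[R] s i).range := by
      rw [Submodule.span_le]
      rintro _ ⟨i, rfl⟩
      exact ⟨MvPolynomial.X i, by simp⟩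
    exact hle hx
  · intro i
    have h1 : (MvPolynomial.aeval (fun i => (1 : R') ⊗ₜ[R] s i))
        (∏ j, (MvPolynomial.X i - MvPolynomial.C (α i j))) =
        Polynomial.aeval ((1 : R') ⊗ₜ[R] s i) ((P i).map (algebraMap R R')) := by
      rw [hα i, map_prod, map_prod]
      refine Finset.prod_congr rfl fun j _ => ?_
      simp
    rw [h1, Polynomial.aeval_map_algebraMap]
    have h2 : (1 : R') ⊗ₜ[R] s i = (Algebra.TensorProduct.includeRight : S →ₐ[R] R' ⊗[R] S) (s i) := rfl
    rw [h2, Polynomial.aeval_algHom_apply]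
    have : Polynomial.aeval (s i) (P i) = 0 := hPz i
    rw [this, map_zero]

end Groth.Agent.S6886
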