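import Groth.Statements.S6887
import Mathlib.Tactic

set_option autoImplicit false
universe u
open Polynomial
open CAlg

namespace Groth.Agent.S6887

lemma aux (A B : Type u) [CommRing A] [CommRing B]
    [Algebra A B] [Module.Finite A B] (I : Ideal A) (hI : I ≤ Ideal.jacobson (⊥ : Ideal A))
    (B₁ B₂ : Type u) [CommRing B₁] [CommRing B₂] [Algebra A B₁] [Algebra A B₂]
    (J : Ideal B) (hItop : ∀ x : B, x ∈ I • (⊤ : Submodule A B) ↔ x ∈ J)
    (e : (B ⧸ J) ≃ₐ[A] B₁ × B₂) (h₁ : Function.Surjective (algebraMap A B₁)) (b : B)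
    (hb : e (Ideal.Quotient.mk J b) = (1, 0)) :
    ∃ (f : A[X]) (d : ℕ), f.Monic ∧ Polynomial.aeval b f = 0 ∧ 1 ≤ d ∧
      f.map (Ideal.Quotient.mk I) = (X - 1) * X ^ d := by
  classical
  let q := Ideal.Quotient.mk J
  -- `b² - b ∈ J`
  have hbb : b * b - b ∈ J := by
    rw [← Ideal.Quotient.eq_zero_iff_mem]
    apply e.injective
    rw [map_sub, map_mul, map_sub, map_mul, hb, map_zero]
    ext <;> simp
  -- `b x ∈ A b + J`
  have hbx : ∀ x : B, ∃ r : A, b * x - r • b ∈ J := by
    intro x
    obtain ⟨r, hr⟩ := h₁ (e (q x)).1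
    refine ⟨r, ?_⟩
    rw [← Ideal.Quotient.eq_zero_iff_mem]
    apply e.injective
    have h1 : q (r • b) = r • q b := by
      rw [Algebra.smul_def, map_mul, Algebra.smul_def]
      rfl
    change e (q (b * x - r • b)) = e 0
    rw [map_sub, map_mul, h1, map_sub, map_mul, map_smul, hb, map_zero]
    ext
    · simp [Algebra.smul_def, hr]
    · simp
  -- generators
  obtain ⟨n, β, hβ⟩ := Module.Finite.exists_fin (R := A) (M := B)
  let β' : Option (Fin n) → B := fun o => o.elim 0 β
  have hβ' : Submodule.span A (Set.range β') = ⊤ := by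
    rw [eq_top_iff, ← hβ]
    apply Submodule.span_mono
    rintro _ ⟨k, rfl⟩
    exact ⟨some k, rfl⟩
  let g : Option (Option (Fin n)) → B := fun o => o.elim b (fun k => (1 - b) * β' k)
  have h1b : ∀ y : B, (1 - b) * y ∈ Submodule.span A (Set.range g) := by
    intro y
    have hys : y ∈ Submodule.span A (Set.range β') := by rw [hβ']; trivial
    induction hys using Submodule.span_induction with
    | mem y hy =>
      obtain ⟨k, rfl⟩ := hy
      exact Submodule.subset_span ⟨some k, rfl⟩
    | zero => rw [mul_zero]; exact Submodule.zero_mem _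
    | add y z _ _ hy hz => rw [mul_add]; exact Submodule.add_mem _ hy hz
    | smul a y _ hy => rw [mul_smul_comm]; exact Submodule.smul_mem _ _ hy
  have hg : Submodule.span A (Set.range g) = ⊤ := by
    rw [eq_top_iff]
    apply Submodule.le_of_le_smul_of_le_jacobson_bot Module.Finite.fg_top hI
    intro x _
    obtain ⟨r, hr⟩ := hbx x
    have hx : x = (r • b + (1 - b) * x) + (b * x - r • b) := by ring
    rw [hx]
    apply Submodule.add_mem _ (Submodule.mem_sup_left _) (Submodule.mem_sup_right _)
    · apply Submodule.add_mem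
      · exact Submodule.smul_mem _ _ (Submodule.subset_span ⟨none, rfl⟩)
      · exact h1b x
    · exact (hItop _).mpr hr
  -- the matrix
  let D : Option (Option (Fin n)) → A := fun i => if i = none then 1 else 0
  have hmem : ∀ j, b * g j - D j • g j ∈ I • Submodule.span A (Set.range g) := by
    intro j
    rw [hg, hItop]
    rcases j with _ | k
    · simpa [g, D] using hbb
    · have : b * g (some k) - D (some k) • g (some k) = -((b * b - b) * β' k) := by
        simp only [g, D, Option.elim_some, reduceCtorEq, if_false, zero_smul]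
        ring
      rw [this]
      exact J.neg_mem (J.mul_mem_right _ hbb)
  have hcoef : ∀ j, ∃ c : Option (Option (Fin n)) → A, (∀ i, c i ∈ I) ∧
      ∑ i, c i • g i = b * g j - D j • g j := by
    intro j
    obtain ⟨a, ha, hsum⟩ := (Submodule.mem_ideal_smul_span_iff_exists_sum I g _).mp (hmem j)
    refine ⟨a, ha, ?_⟩
    rw [← hsum, Finsupp.sum_fintype]
    intro i
    exact zero_smul _ _
  choose c hcI hcsum using hcoef
  let Φ : Matrix (Option (Option (Fin n))) (Option (Option (Fin n))) A :=
    Matrix.of (fun i j => c j i) + Matrix.diagonal D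
  have hrep : Φ.Represents g (Algebra.lmul A B b) := by
    rw [Matrix.represents_iff']
    intro j
    simp only [Φ, Matrix.add_apply, Matrix.of_apply, add_smul, Finset.sum_add_distrib, hcsum j]
    rw [Matrix.diagonal]
    simp only [Matrix.of_apply]
    rw [Finset.sum_eq_single j]
    · simp
    · intro i _ hij
      simp [hij]
    · simp
  refine ⟨Φ.charpoly, Fintype.card (Option (Fin n)), Φ.charpoly_monic, ?_, ?_, ?_⟩
  · -- Cayley–Hamilton
    let A' : Matrix.isRepresentation A g := ⟨Φ, Algebra.lmul A B b, hrep⟩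
    have h1 : Matrix.isRepresentation.toEnd A g hg A' = Algebra.lmul A B b :=
      Matrix.isRepresentation.eq_toEnd_of_represents A g hg A' hrep
    have h2 : Polynomial.aeval (Algebra.lmul A B b) Φ.charpoly = 0 := by
      rw [← h1, Polynomial.aeval_algHom_apply,
        ← map_zero (Matrix.isRepresentation.toEnd A g hg)]
      congr 1
      ext1
      rw [Polynomial.aeval_subalgebra_coe, Matrix.aeval_self_charpoly, Subalgebra.coe_zero]
    rw [Polynomial.aeval_algHom_apply] at h2
    have h3 := LinearMap.congr_fun h2 1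
    simpa using h3
  · simp
  · rw [← Matrix.charpoly_map]
    have hΦ : Φ.map (Ideal.Quotient.mk I) = Matrix.diagonal (fun i => if i = none then 1 else 0) := by
      ext i j
      simp only [Φ, Matrix.map_apply, Matrix.add_apply, Matrix.of_apply, map_add,
        Ideal.Quotient.eq_zero_iff_mem.mpr (hcI j i), zero_add]
      by_cases hij : i = j
      · subst hij
        simp only [Matrix.diagonal_apply_eq, D]
        split_ifs <;> simp
      · simp [Matrix.diagonal_apply_ne _ hij]
    rw [hΦ, Matrix.charpoly_diagonal, Fintype.prod_option]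
    simp

/-- Let `(A, I)` be a Zariski pair (`I` inside the Jacobson radical) and `A → B` a finite ring map.
Suppose `B/IB ≅ B₁ × B₂` as `A`-algebras with `A → B₁` surjective, and `b ∈ B` maps to `(1, 0)`.
Then there is a monic `f ∈ A[x]` with `f(b) = 0` whose reduction modulo `I` is `(x - 1) x^d` for
some `d ≥ 1`. -/
theorem result (A B : Type u) [CommRing A] [CommRing B]
    [Algebra A B] [Module.Finite A B] (I : Ideal A) (hI : I ≤ Ideal.jacobson (⊥ : Ideal A))
    (B₁ B₂ : Type u) [CommRing B₁] [CommRing B₂] [Algebra A B₁] [Algebra A B₂]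
    (e : (B ⧸ I.map (algebraMap A B)) ≃ₐ[A] B₁ × B₂) (h₁ : Function.Surjective (algebraMap A B₁)) (b : B)
    (hb : e (Ideal.Quotient.mk (I.map (algebraMap A B)) b) = (1, 0)) :
    ∃ (f : A[X]) (d : ℕ), f.Monic ∧ Polynomial.aeval b f = 0 ∧ 1 ≤ d ∧
      f.map (Ideal.Quotient.mk I) = (X - 1) * X ^ d := by
  apply aux A B I hI B₁ B₂ (I.map (algebraMap A B)) _ e h₁ b hb
  intro x
  rw [Ideal.smul_top_eq_map]
  rfl

end Groth.Agent.S6887
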