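import Groth.Statements.S6888
import Mathlib.Tactic

set_option autoImplicit false
universe u
open Polynomial
open CAlg

namespace Groth.Agent.S6888

/-- Idempotents that agree modulo an ideal contained in the Jacobson radical are equal. -/
lemma idem_unique {A : Type u} [CommRing A] (I : Ideal A) (hI : I ≤ Ideal.jacobson (⊥ : Ideal A))
    {E E' : A} (hE : IsIdempotentElem E) (hE' : IsIdempotentElem E') (h : E - E' ∈ I) : E = E' := by
  have hE2 : E * E = E := hE
  have hE'2 : E' * E' = E' := hE'
  set x := E - E' with hx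
  have h3 : x * (1 - x * x) = 0 := by
    rw [hx]
    linear_combination (-E + 3 * E' - 1 + 0) * hE2 + (1 - 3 * E + E' + 0) * hE'2 + (0 : A) * hE2
  have hmem : -(x * x) ∈ Ideal.jacobson (⊥ : Ideal A) := hI (I.neg_mem (I.mul_mem_left x h))
  have hunit : IsUnit (1 - x * x) := by
    have := (Ideal.mem_jacobson_bot.mp hmem) 1
    rwa [mul_one, neg_add_eq_sub] at this
  have : x = 0 := hunit.mul_left_eq_zero.mp h3
  exact sub_eq_zero.mp this

/-- Let `A` be absolutely integrally closed (every monic polynomial over `A` is a product of linear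
factors) and `I ⊆ A` an ideal contained in the Jacobson radical such that `A → A/I` is surjective
(hence bijective) on idempotents. Then `(A, I)` is a henselian pair. (The published statement also
records the converse, which holds for every henselian pair; this row states the sufficiency only.) -/
theorem result (A : Type u) [CommRing A]
    (hA : ∀ f : A[X], f.Monic → ∃ s : Multiset A, f = (s.map fun a => X - C a).prod) (I : Ideal A)
    (hI : I ≤ Ideal.jacobson (⊥ : Ideal A))
    (hidem : ∀ e : A ⧸ I, IsIdempotentElem e → ∃ e' : A, IsIdempotentElem e' ∧ Ideal.Quotient.mk I e' = e) :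
    HenselianRing A I := by
  classical
  refine ⟨hI, ?_⟩
  intro f hf a₀ h₀ hu
  obtain ⟨s, hs⟩ := hA f hf
  set T := s.toEnumFinset with hT
  have hfT : f = ∏ i ∈ T, (X - C i.1) := by
    rw [hs]
    conv_lhs => rw [← Multiset.map_toEnumFinset_fst s]
    rw [Multiset.map_map]
    rfl
  let π := Ideal.Quotient.mk I
  let b : A × ℕ → A := fun i => a₀ - i.1
  have heval : f.eval a₀ = ∏ i ∈ T, b i := by
    rw [hfT, eval_prod]
    simp [b]
  have hderiv : f.derivative.eval a₀ = ∑ i ∈ T, ∏ j ∈ T.erase i, b j := by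
    rw [hfT, derivative_prod_finset, eval_finsetSum]
    apply Finset.sum_congr rfl
    intro i _
    simp [eval_prod, b]
  let c : A × ℕ → A ⧸ I := fun i => ∏ j ∈ T.erase i, π (b j)
  have hprod0 : ∏ j ∈ T, π (b j) = 0 := by
    rw [← map_prod, ← heval]
    exact Ideal.Quotient.eq_zero_iff_mem.mpr h₀
  have hbc : ∀ i ∈ T, π (b i) * c i = 0 := by
    intro i hi
    change π (b i) * ∏ j ∈ T.erase i, π (b j) = 0
    rw [Finset.mul_prod_erase T (fun j => π (b j)) hi, hprod0]
  have hcc : ∀ i ∈ T, ∀ i' ∈ T, i ≠ i' → c i * c i' = 0 := by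
    intro i hi i' hi' hne
    have hi'' : i' ∈ T.erase i := Finset.mem_erase.mpr ⟨hne.symm, hi'⟩
    have : c i = π (b i') * ∏ j ∈ (T.erase i).erase i', π (b j) :=
      (Finset.mul_prod_erase (T.erase i) _ hi'').symm
    rw [this, mul_assoc, mul_comm (∏ j ∈ (T.erase i).erase i', π (b j)), ← mul_assoc, hbc i' hi',
      zero_mul]
  have hsumc : ∑ i ∈ T, c i = π (f.derivative.eval a₀) := by
    rw [hderiv, map_sum]
    apply Finset.sum_congr rfl
    intro i _
    rw [map_prod]
  obtain ⟨v, hv⟩ := hu.exists_right_inv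
  let e : A × ℕ → A ⧸ I := fun i => c i * v
  have hsum1 : ∑ i ∈ T, e i = 1 := by
    rw [← Finset.sum_mul, hsumc, hv]
  have hee : ∀ i ∈ T, ∀ i' ∈ T, i ≠ i' → e i * e i' = 0 := by
    intro i hi i' hi' hne
    have := hcc i hi i' hi' hne
    calc e i * e i' = (c i * c i') * (v * v) := by simp only [e]; ring
      _ = 0 := by rw [this, zero_mul]
  have hidem_e : ∀ i ∈ T, IsIdempotentElem (e i) := by
    intro i hi
    have h1 : e i = e i * ∑ k ∈ T, e k := by rw [hsum1, mul_one]
    rw [Finset.mul_sum, Finset.sum_eq_single_of_mem i hi] at h1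
    · exact h1.symm
    · intro k hk hki
      exact hee i hi k hk hki.symm
  have hbe : ∀ i ∈ T, π (b i) * e i = 0 := by
    intro i hi
    simp only [e]
    rw [← mul_assoc, hbc i hi, zero_mul]
  -- lift the idempotents
  have hlift : ∀ i : A × ℕ, ∃ E : A, IsIdempotentElem E ∧ (i ∈ T → π E = e i) := by
    intro i
    by_cases hi : i ∈ T
    · obtain ⟨E, hE, hE'⟩ := hidem (e i) (hidem_e i hi)
      exact ⟨E, hE, fun _ => hE'⟩
    · exact ⟨0, IsIdempotentElem.zero, fun h => absurd h hi⟩
  choose E hEidem hEe using hlift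
  have hEE : ∀ i ∈ T, ∀ i' ∈ T, i ≠ i' → E i * E i' = 0 := by
    intro i hi i' hi' hne
    apply idem_unique I hI ((hEidem i).mul (hEidem i')) IsIdempotentElem.zero
    rw [sub_zero, ← Ideal.Quotient.eq_zero_iff_mem, map_mul]
    change π (E i) * π (E i') = 0
    rw [hEe i hi, hEe i' hi', hee i hi i' hi' hne]
  have hEsum : ∑ i ∈ T, E i = 1 := by
    apply idem_unique I hI _ IsIdempotentElem.one
    · rw [← Ideal.Quotient.eq_zero_iff_mem, map_sub, map_sum, map_one, sub_eq_zero]
      rw [← hsum1]
      apply Finset.sum_congr rfl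
      intro i hi
      exact hEe i hi
    · change (∑ i ∈ T, E i) * (∑ i ∈ T, E i) = ∑ i ∈ T, E i
      rw [Finset.sum_mul]
      apply Finset.sum_congr rfl
      intro i hi
      rw [Finset.mul_sum, Finset.sum_eq_single_of_mem i hi]
      · exact hEidem i
      · intro k hk hki
        exact hEE i hi k hk hki.symm
  let a : A := ∑ i ∈ T, E i * i.1
  have hEa : ∀ i ∈ T, E i * a = E i * i.1 := by
    intro i hi
    simp only [a]
    rw [Finset.mul_sum, Finset.sum_eq_single_of_mem i hi]
    · rw [← mul_assoc, (hEidem i).eq]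
    · intro k hk hki
      rw [← mul_assoc, hEE i hi k hk hki.symm, zero_mul]
  refine ⟨a, ?_, ?_⟩
  · change f.eval a = 0
    have hfa : f.eval a = ∏ k ∈ T, (a - k.1) := by
      rw [hfT, eval_prod]
      simp
    have hzero : ∀ i ∈ T, E i * f.eval a = 0 := by
      intro i hi
      rw [hfa, ← Finset.mul_prod_erase T _ hi, ← mul_assoc, mul_sub, hEa i hi, sub_self, zero_mul]
    calc f.eval a = (∑ i ∈ T, E i) * f.eval a := by rw [hEsum, one_mul]
      _ = ∑ i ∈ T, E i * f.eval a := Finset.sum_mul _ _ _
      _ = 0 := Finset.sum_eq_zero hzero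
  · rw [← Ideal.Quotient.eq_zero_iff_mem, map_sub, sub_eq_zero]
    change π a = π a₀
    have h1 : π a = ∑ i ∈ T, e i * π i.1 := by
      simp only [a, map_sum, map_mul]
      apply Finset.sum_congr rfl
      intro i hi
      rw [hEe i hi]
    have h2 : π a₀ = ∑ i ∈ T, e i * π a₀ := by
      rw [← Finset.sum_mul, hsum1, one_mul]
    rw [h1, h2]
    apply Finset.sum_congr rfl
    intro i hi
    have := hbe i hi
    simp only [b, map_sub] at this
    linear_combination (-1 : A ⧸ I) * this

end Groth.Agent.S6888
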