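import Groth.Statements.S6891
import Mathlib

set_option autoImplicit false
universe u
open Fitt

namespace Groth.Agent.S6891aux


variable {R : Type u} [CommRing R] {M : Type u} [AddCommGroup M] [Module R M]

theorem det_smul_eq_zero {n : ℕ} (x : Fin n → M) (a : Matrix (Fin n) (Fin n) R)
    (ha : ∀ i, ∑ j, a i j • x j = 0) (j : Fin n) : a.det • x j = 0 := by
  have h1 : a.adjugate * a = a.det • (1 : Matrix (Fin n) (Fin n) R) := Matrix.adjugate_mul a
  have h2 : ∑ l, (a.adjugate * a) j l • x l = 0 := by
    simp only [Matrix.mul_apply, Finset.sum_smul, mul_smul]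
    rw [Finset.sum_comm]
    simp only [← Finset.smul_sum, ha, smul_zero, Finset.sum_const_zero]
  rw [h1] at h2
  simp only [Matrix.smul_apply, Matrix.one_apply, smul_eq_mul, mul_ite, mul_one, mul_zero, ite_smul,
    zero_smul, Finset.sum_ite_eq, Finset.mem_univ, if_true] at h2
  exact h2

theorem fit0_le_ann : Fitt.ideal R M 0 ≤ Module.annihilator R M := by
  unfold Fitt.ideal
  rw [Ideal.span_le]
  rintro d ⟨n, x, a, hx, ha, rfl⟩
  rw [SetLike.mem_coe, Module.mem_annihilator]
  intro m
  have hm : m ∈ Submodule.span R (Set.range x) := by rw [hx]; trivial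
  induction hm using Submodule.span_induction with
  | mem y hy =>
    obtain ⟨j, rfl⟩ := hy
    exact det_smul_eq_zero x a (fun i => ha i (by have := i.2; omega)) j
  | zero => simp
  | add y z _ _ hy hz => rw [smul_add, hy, hz, add_zero]
  | smul r y _ hy => rw [smul_comm, hy, smul_zero]

theorem exists_pow_mem_fit0 [Module.Finite R M] : ∃ n : ℕ, ∀ s ∈ Module.annihilator R M,
    s ^ n ∈ Fitt.ideal R M 0 := by
  obtain ⟨n, x, hx⟩ := Module.Finite.exists_fin (R := R) (M := M)
  refine ⟨n, fun s hs => ?_⟩
  unfold Fitt.ideal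
  apply Ideal.subset_span
  refine ⟨n, x, s • (1 : Matrix (Fin n) (Fin n) R), hx, ?_, ?_⟩
  · intro i _
    rw [Module.mem_annihilator] at hs
    simp only [Matrix.smul_apply, Matrix.one_apply, smul_eq_mul, mul_ite, mul_one, mul_zero, ite_smul,
      zero_smul, Finset.sum_ite_eq, Finset.mem_univ, if_true]
    exact hs _
  · rw [Matrix.det_smul, Matrix.det_one, mul_one, Fintype.card_fin]


end Groth.Agent.S6891aux

open Groth.Agent.S6891aux

namespace Groth.Agent.S6891

/-- Let `M` be a finite `R`-module. Then `Fit_0(M) ⊆ Ann_R(M)`, the closed set `V(Fit_0(M))` equals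
`Supp(M)`, and for an ideal `I` one has `Fit_0(R/I) = I`. -/
theorem result {R : Type u} [CommRing R] (M : Type u) [AddCommGroup M]
    [Module R M] [Module.Finite R M] (I : Ideal R) :
    Fitt.ideal R M 0 ≤ Module.annihilator R M ∧
    PrimeSpectrum.zeroLocus (Fitt.ideal R M 0 : Set R) = Module.support R M ∧
    Fitt.ideal R (R ⧸ I) 0 = I := by
  refine ⟨fit0_le_ann, ?_, ?_⟩
  · rw [Module.support_eq_zeroLocus]
    apply le_antisymm
    · intro p hp
      rw [PrimeSpectrum.mem_zeroLocus] at hp ⊢
      obtain ⟨n, hn⟩ := exists_pow_mem_fit0 (R := R) (M := M)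
      intro s hs
      have : s ^ n ∈ p.asIdeal := hp (hn s hs)
      exact p.2.mem_of_pow_mem n this
    · exact PrimeSpectrum.zeroLocus_anti_mono fit0_le_ann
  · apply le_antisymm
    · have := fit0_le_ann (R := R) (M := R ⧸ I)
      rwa [Ideal.annihilator_quotient] at this
    · intro i hi
      unfold Fitt.ideal
      apply Ideal.subset_span
      refine ⟨1, fun _ => (1 : R ⧸ I), Matrix.of (fun _ _ => i), ?_, ?_, ?_⟩
      · rw [eq_top_iff]
        intro y _
        obtain ⟨r, rfl⟩ := Ideal.Quotient.mk_surjective y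
        have : (Ideal.Quotient.mk I r) = r • (1 : R ⧸ I) := by
          rw [Algebra.smul_def, mul_one]; rfl
        rw [this]
        exact Submodule.smul_mem _ _ (Submodule.subset_span ⟨0, rfl⟩)
      · intro j _
        simp only [Fin.sum_univ_one, Matrix.of_apply]
        rw [Algebra.smul_def, mul_one]
        exact Ideal.Quotient.eq_zero_iff_mem.2 hi
      · simp

end Groth.Agent.S6891
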