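import Groth.Statements.S6893
import Mathlib
import Groth.Agent.Lib.helper24.NilFlat2

set_option autoImplicit false
universe u
open TensorProduct
open CAlg

namespace Groth.Agent.S6893

open Groth.Agent.Lib.helper24 NilFlat in
theorem inf_bot {R : Type u} [CommRing R] (M : Type u) [AddCommGroup M] [Module R M]
    (I₁ I₂ : Ideal R) (h : I₁ ⊓ I₂ = ⊥)
    [Module.Flat (R ⧸ I₁) ((R ⧸ I₁) ⊗[R] M)] [Module.Flat (R ⧸ I₂) ((R ⧸ I₂) ⊗[R] M)] :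
    Module.Flat R M := by
  rw [Module.Flat.iff_rTensor_injective']
  intro J
  let 𝔟 : Ideal R := J ⊓ I₁
  have hmul : ∀ i ∈ I₂, ∀ x ∈ I₁, i * x = 0 := by
    intro i hi x hx
    have : i * x ∈ I₁ ⊓ I₂ := ⟨I₁.mul_mem_left i hx, I₂.mul_mem_right x hi⟩
    rw [h] at this
    exact this
  let f1 : ↥𝔟 →ₗ[R] ↥J := Submodule.inclusion inf_le_left
  let K1 := LinearMap.range f1
  have hK1 : K1 ≤ LinearMap.ker (I₁.mkQ ∘ₗ J.subtype) := by
    rintro _ ⟨x, rfl⟩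
    rw [LinearMap.mem_ker, LinearMap.comp_apply, Submodule.mkQ_apply, Submodule.Quotient.mk_eq_zero]
    exact x.2.2
  let c0 : (↥J ⧸ K1) →ₗ[R] (R ⧸ I₁) := K1.liftQ (I₁.mkQ ∘ₗ J.subtype) hK1
  have hc0 : Function.Injective c0 := by
    rw [← LinearMap.ker_eq_bot, Submodule.ker_liftQ, eq_bot_iff, Submodule.map_le_iff_le_comap]
    intro x hx
    rw [LinearMap.mem_ker, LinearMap.comp_apply, Submodule.mkQ_apply,
      Submodule.Quotient.mk_eq_zero] at hx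
    rw [Submodule.mem_comap, Submodule.mem_bot, Submodule.mkQ_apply, Submodule.Quotient.mk_eq_zero]
    exact ⟨⟨(x : R), ⟨x.2, hx⟩⟩, rfl⟩
  have hk1 : ∀ i ∈ I₁, ∀ q : (↥J ⧸ K1), i • q = 0 := by
    intro i hi q
    obtain ⟨x, rfl⟩ := Submodule.Quotient.mk_surjective _ q
    rw [← Submodule.Quotient.mk_smul, Submodule.Quotient.mk_eq_zero]
    exact ⟨⟨i * (x : R), ⟨J.mul_mem_left i x.2, I₁.mul_mem_right _ hi⟩⟩, rfl⟩
  have hk2 : ∀ i ∈ I₁, ∀ q : (R ⧸ I₁), i • q = 0 := by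
    intro i hi q
    obtain ⟨x, rfl⟩ := Submodule.Quotient.mk_surjective _ q
    rw [← Submodule.Quotient.mk_smul, Submodule.Quotient.mk_eq_zero]
    exact I₁.mul_mem_right _ hi
  have hc : Function.Injective (c0.rTensor M) := P1 I₁ M hk1 hk2 c0 hc0
  -- f2
  let d0 : ↥𝔟 →ₗ[R] (R ⧸ I₂) := I₂.mkQ ∘ₗ 𝔟.subtype
  have hd0 : Function.Injective d0 := by
    rw [← LinearMap.ker_eq_bot, eq_bot_iff]
    intro x hx
    rw [LinearMap.mem_ker, LinearMap.comp_apply, Submodule.mkQ_apply,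
      Submodule.Quotient.mk_eq_zero] at hx
    have : (x : R) ∈ I₁ ⊓ I₂ := ⟨x.2.2, hx⟩
    rw [h] at this
    exact Subtype.ext this
  have hk3 : ∀ i ∈ I₂, ∀ x : ↥𝔟, i • x = 0 := by
    intro i hi x
    exact Subtype.ext (hmul i hi _ x.2.2)
  have hk4 : ∀ i ∈ I₂, ∀ q : (R ⧸ I₂), i • q = 0 := by
    intro i hi q
    obtain ⟨x, rfl⟩ := Submodule.Quotient.mk_surjective _ q
    rw [← Submodule.Quotient.mk_smul, Submodule.Quotient.mk_eq_zero]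
    exact I₂.mul_mem_right _ hi
  have hd : Function.Injective (d0.rTensor M) := P1 I₂ M hk3 hk4 d0 hd0
  have hf2 : Function.Injective (𝔟.subtype.rTensor M) := by
    have : d0.rTensor M = (I₂.mkQ.rTensor M) ∘ₗ (𝔟.subtype.rTensor M) := by
      rw [← LinearMap.rTensor_comp]
    rw [this] at hd
    exact Function.Injective.of_comp hd
  have hex : Function.Exact (f1.rTensor M) (K1.mkQ.rTensor M) :=
    rTensor_exact M (LinearMap.exact_map_mkQ_range f1) (Submodule.mkQ_surjective K1)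
  refine chaseA (f1.rTensor M) (K1.mkQ.rTensor M) (𝔟.subtype.rTensor M) (I₁.mkQ.rTensor M)
    LinearMap.id (J.subtype.rTensor M) (c0.rTensor M) hex ?_ ?_ Function.injective_id hc hf2
  · intro x
    rw [← LinearMap.comp_apply, ← LinearMap.rTensor_comp]
    rfl
  · intro x
    rw [← LinearMap.comp_apply, ← LinearMap.comp_apply, ← LinearMap.rTensor_comp,
      ← LinearMap.rTensor_comp]
    rfl

open Groth.Agent.Lib.helper24 NilFlat in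

/-- Let `M` be a module over a ring `R` and `I₁, I₂ ⊆ R` ideals. Suppose flatness of `M/I₁M` as an
`R/I₁`-module holds, and likewise `M/I₂M` is a flat `R/I₂`-module; then the quotient `M/(I₁ ∩ I₂)M`
is also flat as a module over `R/(I₁ ∩ I₂)`. -/
theorem result {R : Type u} [CommRing R] (M : Type u) [AddCommGroup M] [Module R M]
    (I₁ I₂ : Ideal R) [Module.Flat (R ⧸ I₁) ((R ⧸ I₁) ⊗[R] M)] [Module.Flat (R ⧸ I₂) ((R ⧸ I₂) ⊗[R] M)] :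
    Module.Flat (R ⧸ (I₁ ⊓ I₂)) ((R ⧸ (I₁ ⊓ I₂)) ⊗[R] M) := by
  set K : Ideal R := I₁ ⊓ I₂ with hK
  set J₁ : Ideal (R ⧸ K) := I₁.map (Ideal.Quotient.mk K) with hJ₁
  set J₂ : Ideal (R ⧸ K) := I₂.map (Ideal.Quotient.mk K) with hJ₂
  have hcomap : ∀ I : Ideal R, K ≤ I →
      (I.map (Ideal.Quotient.mk K)).comap (Ideal.Quotient.mk K) = I := by
    intro I hI
    rw [Ideal.comap_map_of_surjective _ Ideal.Quotient.mk_surjective, ← RingHom.ker_eq_comap_bot,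
      Ideal.mk_ker]
    exact sup_eq_left.mpr hI
  have hinf : J₁ ⊓ J₂ = ⊥ := by
    apply Ideal.comap_injective_of_surjective _ (Ideal.Quotient.mk_surjective (I := K))
    rw [Ideal.comap_inf, hJ₁, hJ₂, hcomap I₁ inf_le_left, hcomap I₂ inf_le_right,
      ← RingHom.ker_eq_comap_bot, Ideal.mk_ker]
  let alg1 : Algebra (R ⧸ I₁) ((R ⧸ K) ⧸ J₁) :=
    (Ideal.quotientMap J₁ (Ideal.Quotient.mk K) Ideal.le_comap_map).toAlgebra
  have : IsScalarTower R (R ⧸ I₁) ((R ⧸ K) ⧸ J₁) := IsScalarTower.of_algebraMap_eq (fun r => rfl)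
  have F1a : Module.Flat ((R ⧸ K) ⧸ J₁) (((R ⧸ K) ⧸ J₁) ⊗[R] M) :=
    flat_baseChange_of_flat_baseChange R (R ⧸ I₁) ((R ⧸ K) ⧸ J₁) M
  have F1 : Module.Flat ((R ⧸ K) ⧸ J₁) (((R ⧸ K) ⧸ J₁) ⊗[R ⧸ K] ((R ⧸ K) ⊗[R] M)) :=
    flat_baseChange_baseChange R (R ⧸ K) ((R ⧸ K) ⧸ J₁) M
  let alg2 : Algebra (R ⧸ I₂) ((R ⧸ K) ⧸ J₂) :=
    (Ideal.quotientMap J₂ (Ideal.Quotient.mk K) Ideal.le_comap_map).toAlgebra
  have : IsScalarTower R (R ⧸ I₂) ((R ⧸ K) ⧸ J₂) := IsScalarTower.of_algebraMap_eq (fun r => rfl)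
  have F2a : Module.Flat ((R ⧸ K) ⧸ J₂) (((R ⧸ K) ⧸ J₂) ⊗[R] M) :=
    flat_baseChange_of_flat_baseChange R (R ⧸ I₂) ((R ⧸ K) ⧸ J₂) M
  have F2 : Module.Flat ((R ⧸ K) ⧸ J₂) (((R ⧸ K) ⧸ J₂) ⊗[R ⧸ K] ((R ⧸ K) ⊗[R] M)) :=
    flat_baseChange_baseChange R (R ⧸ K) ((R ⧸ K) ⧸ J₂) M
  exact inf_bot ((R ⧸ K) ⊗[R] M) J₁ J₂ hinf

end Groth.Agent.S6893
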