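import Groth.Statements.S6896
import Mathlib
import Groth.Agent.Lib.helper27.Fitting

set_option autoImplicit false
universe u
open Fitt

namespace Groth.Agent.S6896aux
open Groth.Agent.Lib.helper27.Fitting


variable {R : Type u} [CommRing R] {M : Type u} [AddCommGroup M] [Module R M]

/-- Cramer-type identity: replacing row `a₀` of the minor by the `j`-th column of the relation
matrix and summing against `x j` gives zero. -/
lemma cramer_identity {n p : ℕ} (x : Fin n → M) (z : Fin p → Fin n → R) (e : Fin p → Fin n)
    (hz : ∀ b, ∑ i, z b i • x i = 0) (a₀ : Fin p) :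
    ∑ j, (Matrix.of fun a b => z b (Function.update e a₀ j a)).det • x j = 0 := by
  classical
  let Z1 : Fin p → Fin p → R := fun a b => z b (e a)
  let L : (Fin p → R) →ₗ[R] R :=
    (Matrix.detRowAlternating (R := R) (n := Fin p)).toMultilinearMap.toLinearMap Z1 a₀
  have hL : ∀ j, (Matrix.of fun a b => z b (Function.update e a₀ j a)).det = L (fun b => z b j) := by
    intro j
    simp only [L, MultilinearMap.toLinearMap_apply]
    show _ = Matrix.det (Matrix.of (Function.update Z1 a₀ fun b => z b j))
    congr 1
    ext a b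
    by_cases h : a = a₀
    · subst h; simp
    · simp [Function.update_of_ne h, Z1]
  have hlin : ∀ v : Fin p → R, L v = ∑ b, v b * L (Pi.single b 1) := by
    intro v
    conv_lhs => rw [← Finset.univ_sum_single v]
    rw [map_sum]
    apply Finset.sum_congr rfl
    intro b _
    have : (Pi.single b (v b) : Fin p → R) = v b • Pi.single b 1 := by
      ext c; simp [Pi.single_apply]
    rw [this, map_smul, smul_eq_mul]
  simp only [hL]
  calc ∑ j, L (fun b => z b j) • x j = ∑ j, ∑ b, (z b j * L (Pi.single b 1)) • x j := by
        apply Finset.sum_congr rfl; intro j _; rw [hlin, Finset.sum_smul]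
    _ = ∑ b, L (Pi.single b 1) • ∑ j, z b j • x j := by
        rw [Finset.sum_comm]
        apply Finset.sum_congr rfl; intro b _
        rw [Finset.smul_sum]
        apply Finset.sum_congr rfl; intro j _
        rw [mul_comm, mul_smul]
    _ = 0 := by simp [hz]

lemma exists_unit_minor [IsLocalRing R] {n p : ℕ} (x : Fin n → M) (f : R) (hf0 : f ≠ 0)
    (h : (minors x p : Ideal R) = Ideal.span {f}) :
    ∃ (z : Fin p → Fin n → R) (e : Fin p → Fin n) (u : R), (∀ b, ∑ i, z b i • x i = 0) ∧ IsUnit u ∧
      (Matrix.of fun a b => z b (e a)).det = f * u := by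
  by_contra hcon
  push Not at hcon
  have hle : (minors x p : Ideal R) ≤ Ideal.span {f} * IsLocalRing.maximalIdeal R := by
    apply Ideal.span_le.2
    rintro d ⟨z, e, hz, rfl⟩
    have hd : (Matrix.of fun a b => z b (e a)).det ∈ (minors x p : Ideal R) :=
      Ideal.subset_span ⟨z, e, hz, rfl⟩
    rw [h, Ideal.mem_span_singleton'] at hd
    obtain ⟨s, hs⟩ := hd
    have hsu : ¬ IsUnit s := fun hu => hcon z e s hz hu (by rw [← hs, mul_comm])
    rw [SetLike.mem_coe, Ideal.mem_span_singleton_mul]
    exact ⟨s, (IsLocalRing.mem_maximalIdeal s).2 hsu, by rw [← hs, mul_comm]⟩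
  have hf : f ∈ Ideal.span {f} * IsLocalRing.maximalIdeal R := by
    apply hle
    rw [h]; exact Ideal.mem_span_singleton_self f
  rw [Ideal.mem_span_singleton_mul] at hf
  obtain ⟨t, ht, hft⟩ := hf
  have hu : IsUnit (1 - t) := IsLocalRing.isUnit_one_sub_self_of_mem_nonunits t
    ((IsLocalRing.mem_maximalIdeal t).1 ht)
  have : f * (1 - t) = 0 := by rw [mul_sub, mul_one, hft, sub_self]
  exact hf0 ((hu.mul_left_eq_zero).1 this)

theorem main [IsLocalRing R] [Module.Finite R M] (k : ℕ) (f : R)
    (hf : Fitt.ideal R M k = Ideal.span {f}) :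
    ∃ g : Fin k → M ⧸ LinearMap.ker (f • (LinearMap.id : M →ₗ[R] M)),
      Submodule.span R (Set.range g) = ⊤ := by
  classical
  obtain ⟨n, x, hx⟩ := Module.Finite.exists_fin (R := R) (M := M)
  set N := LinearMap.ker (f • (LinearMap.id : M →ₗ[R] M)) with hN
  have hxQ : Submodule.span R (Set.range (fun j => N.mkQ (x j))) = ⊤ := by
    have : Set.range (fun j => N.mkQ (x j)) = N.mkQ '' Set.range x := by
      rw [← Set.range_comp]; rfl
    rw [this, ← Submodule.map_span, hx, Submodule.map_top, Submodule.range_mkQ]
  -- reduction: enough to find a set `C` of at most `k` indices whose images span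
  suffices hC : ∃ C : Finset (Fin n), C.card ≤ k ∧
      ∀ j, N.mkQ (x j) ∈ Submodule.span R ((fun j => N.mkQ (x j)) '' (C : Set (Fin n))) by
    obtain ⟨C, hCk, hCs⟩ := hC
    let eC : C ≃ Fin C.card := C.equivFin
    refine ⟨fun i => if h : (i : ℕ) < C.card then N.mkQ (x (eC.symm ⟨i, h⟩)) else 0, ?_⟩
    rw [eq_top_iff, ← hxQ]
    apply Submodule.span_le.2
    rintro _ ⟨j, rfl⟩
    refine Submodule.span_mono ?_ (hCs j)
    rintro _ ⟨j', hj', rfl⟩
    refine ⟨⟨eC ⟨j', hj'⟩, lt_of_lt_of_le (eC ⟨j', hj'⟩).2 hCk⟩, ?_⟩
    simp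
  by_cases hf0 : f = 0
  · refine ⟨∅, by simp, fun j => ?_⟩
    have : N = ⊤ := by rw [hN, hf0]; simp
    have h0 : N.mkQ (x j) = 0 := by
      rw [Submodule.mkQ_apply, Submodule.Quotient.mk_eq_zero, this]; trivial
    rw [h0]; exact Submodule.zero_mem _
  by_cases hnk : n ≤ k
  · refine ⟨Finset.univ, by simpa using hnk, fun j => ?_⟩
    exact Submodule.subset_span ⟨j, by simp, rfl⟩
  push Not at hnk
  rw [ideal_eq_minors x hx k] at hf
  obtain ⟨z, e, u, hz, hu, hdet⟩ := exists_unit_minor x f hf0 hf
  have hinj : Function.Injective e := by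
    intro a b hab
    by_contra hne
    have : (Matrix.of fun a b => z b (e a)).det = 0 := by
      apply Matrix.det_zero_of_row_eq hne
      ext c; simp [hab]
    rw [this] at hdet
    exact hf0 ((hu.mul_left_eq_zero).1 hdet.symm)
  refine ⟨Finset.univ.filter (fun j => j ∉ Set.range e), ?_, ?_⟩
  · have h1 : (Finset.univ.filter (fun j => j ∉ Set.range e)) = (Finset.univ.image e)ᶜ := by
      ext j; simp
    rw [h1, Finset.card_compl, Finset.card_image_of_injective _ hinj]
    simp; omega
  · set W := Submodule.span R ((fun j => N.mkQ (x j)) ''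
      ((Finset.univ.filter (fun j => j ∉ Set.range e) : Finset (Fin n)) : Set (Fin n))) with hW
    intro j
    by_cases hj : j ∈ Set.range e
    · obtain ⟨a₀, rfl⟩ := hj
      -- all modified minors are multiples of f
      have hβ : ∀ j, ∃ β, (Matrix.of fun a b => z b (Function.update e a₀ j a)).det = f * β := by
        intro j
        have : (Matrix.of fun a b => z b (Function.update e a₀ j a)).det ∈
            (minors x (n - k) : Ideal R) := Ideal.subset_span ⟨z, _, hz, rfl⟩
        rw [hf, Ideal.mem_span_singleton'] at this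
        obtain ⟨β, hβ⟩ := this
        exact ⟨β, by rw [← hβ, mul_comm]⟩
      choose β hβ using hβ
      let γ : Fin n → R := fun j => if j = e a₀ then u else if j ∈ Set.range e then 0 else β j
      have hγ : ∀ j, (Matrix.of fun a b => z b (Function.update e a₀ j a)).det = f * γ j := by
        intro j
        simp only [γ]
        split_ifs with h1 h2
        · subst h1
          rw [Function.update_eq_self]; exact hdet
        · obtain ⟨a, rfl⟩ := h2
          have hne : a ≠ a₀ := fun h => h1 (by rw [h])
          rw [mul_zero]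
          apply Matrix.det_zero_of_row_eq hne
          ext c
          simp [Function.update_of_ne hne]
        · exact hβ j
      have hid := cramer_identity x z e hz a₀
      simp only [hγ, mul_smul] at hid
      rw [← Finset.smul_sum] at hid
      have hmem : ∑ j, γ j • x j ∈ N := by
        rw [hN, LinearMap.mem_ker]
        show f • ∑ j, γ j • x j = 0
        exact hid
      have hQ : ∑ j, γ j • N.mkQ (x j) = 0 := by
        have := (Submodule.Quotient.mk_eq_zero N).2 hmem
        rw [← this, ← Submodule.mkQ_apply, map_sum]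
        simp
      rw [← Finset.add_sum_erase _ _ (Finset.mem_univ (e a₀))] at hQ
      have hγ0 : γ (e a₀) = u := by simp [γ]
      rw [hγ0] at hQ
      have hrest : ∑ j ∈ Finset.univ.erase (e a₀), γ j • N.mkQ (x j) ∈ W := by
        apply Submodule.sum_mem
        intro j hj
        have hne : j ≠ e a₀ := (Finset.mem_erase.1 hj).1
        by_cases hjr : j ∈ Set.range e
        · have : γ j = 0 := by
            simp only [γ]; rw [if_neg hne, if_pos hjr]
          rw [this, zero_smul]; exact Submodule.zero_mem _
        · apply Submodule.smul_mem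
          exact Submodule.subset_span ⟨j, by simpa using hjr, rfl⟩
      have hu' : u • N.mkQ (x (e a₀)) ∈ W := by
        have : u • N.mkQ (x (e a₀)) = - ∑ j ∈ Finset.univ.erase (e a₀), γ j • N.mkQ (x j) :=
          eq_neg_of_add_eq_zero_left hQ
        rw [this]; exact Submodule.neg_mem _ hrest
      obtain ⟨u', rfl⟩ := hu
      have := Submodule.smul_mem W (↑u'⁻¹ : R) hu'
      rwa [smul_smul, Units.inv_mul, one_smul] at this
    · exact Submodule.subset_span ⟨j, by simpa using hj, rfl⟩

end Groth.Agent.S6896aux

namespace Groth.Agent.S6896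

/-- Let `R` be a local ring, `M` a finite `R`-module and `k ≥ 0` with `Fit_k(M) = (f)` principal. Then
the quotient `M'` of `M` by the submodule `{x ∈ M | f x = 0}` can be generated by `k` elements. -/
theorem result {R : Type u} [CommRing R] [IsLocalRing R]
    (M : Type u) [AddCommGroup M] [Module R M] [Module.Finite R M] (k : ℕ) (f : R)
    (hf : Fitt.ideal R M k = Ideal.span {f}) :
    ∃ g : Fin k → M ⧸ LinearMap.ker (f • (LinearMap.id : M →ₗ[R] M)),
      Submodule.span R (Set.range g) = ⊤ := by
  exact Groth.Agent.S6896aux.main k f hf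

end Groth.Agent.S6896
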