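import Groth.Statements.S6898
import Mathlib

set_option autoImplicit false
universe u
open TensorProduct
open CAlg

namespace Groth.Agent.S6898

open TensorProduct in
theorem one_tmul_eq_zero_iff {A : Type u} [CommRing A] [IsLocalRing A] {M : Type u}
    [AddCommGroup M] [Module A M] (m : M) :
    ((1 : IsLocalRing.ResidueField A) ⊗ₜ[A] m = 0) ↔
      m ∈ IsLocalRing.maximalIdeal A • (⊤ : Submodule A M) := by
  have h := TensorProduct.quotTensorEquivQuotSMul_mk_one_tmul (M := M)
    (IsLocalRing.maximalIdeal A) m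
  constructor
  · intro h0
    have h0' : ((1 : A ⧸ IsLocalRing.maximalIdeal A) ⊗ₜ[A] m :
        (A ⧸ IsLocalRing.maximalIdeal A) ⊗[A] M) = 0 := h0
    rw [h0', map_zero] at h
    exact (Submodule.Quotient.mk_eq_zero _).mp h.symm
  · intro hm
    have : (Submodule.Quotient.mk m : M ⧸ _) = 0 := (Submodule.Quotient.mk_eq_zero _).mpr hm
    rw [this] at h
    exact (LinearEquiv.map_eq_zero_iff _).mp h

open TensorProduct Classical in
theorem claimQ {A : Type u} [CommRing A] [IsLocalRing A] {M N : Type u} [AddCommGroup M]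
    [Module A M] [AddCommGroup N] [Module A N] [Module.Flat A N] (u : M →ₗ[A] N)
    (hu : Function.Injective (u.baseChange (IsLocalRing.ResidueField A))) (x : M) (I : Ideal A)
    (hx : IsLeast {J : Ideal A | x ∈ J • (⊤ : Submodule A M)} I) (J : Ideal A)
    (hJ : u x ∈ J • (⊤ : Submodule A N)) :
    ∀ (n : ℕ) (ι : Type u) [Fintype ι] (a : ι → A) (m : ι → M), Fintype.card ι = n →
      (∀ i, a i ∈ I) → x - ∑ i, a i • m i ∈ J • (⊤ : Submodule A M) → I ≤ J := by
  intro n
  induction n using Nat.strong_induction_on with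
  | _ n ih =>
  intro ι _ a m hcard ha hxa
  have h1 : ∑ i, a i • u (m i) ∈ J • (⊤ : Submodule A N) := by
    have h2 : u (x - ∑ i, a i • m i) ∈ J • (⊤ : Submodule A N) :=
      Submodule.smul_top_le_comap_smul_top J u hxa
    have h3 : ∑ i, a i • u (m i) = u x - u (x - ∑ i, a i • m i) := by
      rw [map_sub, map_sum]; simp
    rw [h3]; exact Submodule.sub_mem _ hJ h2
  have h1' : ∑ i, a i • u (m i) ∈ J • Submodule.span A (Set.range (id : N → N)) := by
    simpa using h1
  obtain ⟨c, hc, hcsum⟩ :=
    (Submodule.mem_ideal_smul_span_iff_exists_sum J (id : N → N) _).mp h1'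
  let f : ι ⊕ c.support → A := Sum.elim a (fun l => - c l)
  let xs : ι ⊕ c.support → N := Sum.elim (fun i => u (m i)) (fun l => (l : N))
  have hrel : ∑ s, f s • xs s = 0 := by
    rw [Fintype.sum_sum_type]
    simp only [f, xs, Sum.elim_inl, Sum.elim_inr, neg_smul, Finset.sum_neg_distrib]
    rw [← hcsum, Finsupp.sum, ← Finset.sum_coe_sort c.support (fun l => c l • id l)]
    simp
  obtain ⟨k, b, y, hxy, hby⟩ := Module.Flat.isTrivialRelation_of_sum_smul_eq_zero hrel
  have hbJ : ∀ j, ∑ i, a i * b (Sum.inl i) j ∈ J := by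
    intro j
    have := hby j
    rw [Fintype.sum_sum_type] at this
    simp only [f, Sum.elim_inl, Sum.elim_inr, neg_mul, Finset.sum_neg_distrib] at this
    rw [add_neg_eq_zero] at this
    rw [this]
    exact Ideal.sum_mem _ (fun l _ => Ideal.mul_mem_right _ _ (hc l))
  by_cases hb : ∀ i j, b (Sum.inl i) j ∈ IsLocalRing.maximalIdeal A
  · have hm : ∀ i, m i ∈ IsLocalRing.maximalIdeal A • (⊤ : Submodule A M) := by
      intro i
      have h4 : u (m i) ∈ IsLocalRing.maximalIdeal A • (⊤ : Submodule A N) := by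
        have := hxy (Sum.inl i)
        simp only [xs, Sum.elim_inl] at this
        rw [this]
        exact Submodule.sum_mem _
          (fun j _ => Submodule.smul_mem_smul (hb i j) Submodule.mem_top)
      rw [← one_tmul_eq_zero_iff] at h4 ⊢
      apply hu
      rw [map_zero, LinearMap.baseChange_tmul]
      exact h4
    set S : Ideal A := Ideal.span (Set.range a) with hS
    have hSI : S ≤ I := Ideal.span_le.mpr (by rintro _ ⟨i, rfl⟩; exact ha i)
    have h5 : x ∈ (IsLocalRing.maximalIdeal A * S ⊔ J) • (⊤ : Submodule A M) := by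
      have h6 : x = (x - ∑ i, a i • m i) + ∑ i, a i • m i := by abel
      rw [h6, Submodule.sup_smul]
      refine Submodule.add_mem _ (Submodule.mem_sup_right hxa) (Submodule.mem_sup_left ?_)
      refine Submodule.sum_mem _ (fun i _ => ?_)
      rw [mul_comm, Submodule.mul_smul]
      exact Submodule.smul_mem_smul (Ideal.subset_span ⟨i, rfl⟩) (hm i)
    have h7 : I ≤ IsLocalRing.maximalIdeal A * S ⊔ J := hx.2 h5
    have h8 : S ≤ J := by
      apply Submodule.le_of_le_smul_of_le_jacobson_bot (I := IsLocalRing.maximalIdeal A)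
        (N := J) (N' := S)
      · exact Submodule.fg_span (Set.finite_range a)
      · exact IsLocalRing.maximalIdeal_le_jacobson _
      · rw [sup_comm]; exact hSI.trans h7
    exact h7.trans (sup_le (Ideal.mul_le_right.trans h8) le_rfl)
  · push Not at hb
    obtain ⟨i₀, j₀, hunit⟩ := hb
    have hu' : IsUnit (b (Sum.inl i₀) j₀) := by
      by_contra h; exact hunit ((IsLocalRing.mem_maximalIdeal _).mpr h)
    obtain ⟨β', hβ'⟩ := hu'.exists_right_inv
    set bb : ι → A := fun i => b (Sum.inl i) j₀ with hbb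
    have hβ'' : bb i₀ * β' = 1 := hβ'
    let a' : {i // i ≠ i₀} → A := fun i => a i
    let m' : {i // i ≠ i₀} → M := fun i => m i - (β' * bb i) • m i₀
    have hcard' : Fintype.card {i // i ≠ i₀} < n := by
      rw [← hcard]
      exact Fintype.card_subtype_lt (x := i₀) (fun h => h rfl)
    refine ih _ hcard' {i // i ≠ i₀} a' m' rfl (fun i => ha i) ?_
    have h9 : ∑ i, a' i • m' i = ∑ i, a i • m i - (β' * ∑ i, a i * bb i) • m i₀ := by
      have e1 : ∑ i, a i • m i = a i₀ • m i₀ + ∑ i : {i // i ≠ i₀}, a i • m i :=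
        Fintype.sum_eq_add_sum_subtype_ne (fun i => a i • m i) i₀
      have e2 : ∑ i, a i * bb i = a i₀ * bb i₀ + ∑ i : {i // i ≠ i₀}, a i * bb i :=
        Fintype.sum_eq_add_sum_subtype_ne (fun i => a i * bb i) i₀
      have e3 : ∑ i : {i // i ≠ i₀}, a' i • m' i = ∑ i : {i // i ≠ i₀}, a i • m i -
          (β' * ∑ i : {i // i ≠ i₀}, a i * bb i) • m i₀ := by
        simp only [a', m', smul_sub, Finset.sum_sub_distrib]
        congr 1
        rw [Finset.mul_sum, Finset.sum_smul]
        refine Finset.sum_congr rfl (fun i _ => ?_)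
        rw [smul_smul]; congr 1; ring
      rw [e3, e1, e2, mul_add, add_smul]
      have e4 : β' * (a i₀ * bb i₀) = a i₀ := by
        rw [mul_comm β', mul_assoc, hβ'', mul_one]
      rw [e4]; abel
    rw [h9]
    have h10 : x - (∑ i, a i • m i - (β' * ∑ i, a i * bb i) • m i₀) =
        (x - ∑ i, a i • m i) + (β' * ∑ i, a i * bb i) • m i₀ := by abel
    rw [h10]
    exact Submodule.add_mem _ hxa
      (Submodule.smul_mem_smul (Ideal.mul_mem_left _ _ (hbJ j₀)) Submodule.mem_top)

/-- Let `(A, 𝔪)` be a local ring and `u : M → N` a linear map between flat `A`-modules whose reduction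
`M/𝔪M → N/𝔪N` is injective. If `I` is the content ideal of some `x ∈ M` (the least ideal `I` with `x
∈ IM`), then `I` is also the least ideal `J` with `u(x) ∈ J·N`. -/
theorem result {A : Type u} [CommRing A] [IsLocalRing A] {M N : Type u}
    [AddCommGroup M] [Module A M] [Module.Flat A M] [AddCommGroup N] [Module A N] [Module.Flat A N] (u : M →ₗ[A] N)
    (hu : Function.Injective (u.baseChange (IsLocalRing.ResidueField A))) (x : M) (I : Ideal A)
    (hx : IsLeast {J : Ideal A | x ∈ J • (⊤ : Submodule A M)} I) :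
    IsLeast {J : Ideal A | u x ∈ J • (⊤ : Submodule A N)} I := by
  have hx1 : x ∈ I • (⊤ : Submodule A M) := hx.1
  refine ⟨Submodule.smul_top_le_comap_smul_top I u hx1, ?_⟩
  intro J hJ
  have hx1' : x ∈ I • Submodule.span A (Set.range (id : M → M)) := by simpa using hx1
  obtain ⟨c, hc, hcsum⟩ :=
    (Submodule.mem_ideal_smul_span_iff_exists_sum I (id : M → M) _).mp hx1'
  refine claimQ u hu x I hx J hJ _ c.support (fun l => c l) (fun l => (l : M)) rfl
    (fun l => hc l) ?_
  have : ∑ i : c.support, c i • (i : M) = x := by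
    rw [← hcsum, Finsupp.sum, ← Finset.sum_coe_sort c.support (fun l => c l • id l)]
    simp
  rw [this, sub_self]
  exact Submodule.zero_mem _

end Groth.Agent.S6898
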