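import Groth.Statements.S6900
import Groth.Agent.Lib.helper3.MilnorAlg
-- import your own Groth.Agent.* helpers here

set_option autoImplicit false
universe u
open TensorProduct
open EtAlg

namespace Groth.Agent.S6900

/-- Let `B' = B ×_A A'` be a fibre square of rings with `A' → A` surjective. Let `D` be a `B`-algebra
and `C'` an `A'`-algebra with a common base change `C = D ⊗_B A = C' ⊗_{A'} A`, and let `D' = D ×_C
C'` be the fibre product ring with its `B'`-algebra structure. Then `B' → D'` is of finite type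
(resp. flat, resp. flat and of finite presentation, resp. smooth, resp. étale) if and only if `B →
D` and `A' → C'` both are. -/
theorem result (B' B A' A : Type u) [CommRing B'] [CommRing B] [CommRing A'] [CommRing A]
    [Algebra B' B] [Algebra B' A'] [Algebra B A] [Algebra A' A] [Algebra B' A] [IsScalarTower B' B A] [IsScalarTower B' A' A]
    (hsq : EtMil.IsFibreSquare B' B A' A)
    (D' D C' C : Type u) [CommRing D'] [CommRing D] [CommRing C'] [CommRing C]
    [Algebra D' D] [Algebra D' C'] [Algebra D C] [Algebra C' C] [Algebra D' C] [IsScalarTower D' D C] [IsScalarTower D' C' C]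
    (hsq' : EtMil.IsFibreSquare D' D C' C)
    [Algebra B' D'] [Algebra B D] [Algebra A' C'] [Algebra A C]
    [Algebra B' D] [IsScalarTower B' B D] [IsScalarTower B' D' D]
    [Algebra B' C'] [IsScalarTower B' A' C'] [IsScalarTower B' D' C']
    [Algebra B C] [IsScalarTower B A C] [IsScalarTower B D C]
    [Algebra A' C] [IsScalarTower A' A C] [IsScalarTower A' C' C]
    [Algebra.IsPushout B D A C] [Algebra.IsPushout A' C' A C] :
    (Algebra.FiniteType B' D' ↔ Algebra.FiniteType B D ∧ Algebra.FiniteType A' C') ∧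
    (Module.Flat B' D' ↔ Module.Flat B D ∧ Module.Flat A' C') ∧
    (Module.Flat B' D' ∧ Algebra.FinitePresentation B' D' ↔
      (Module.Flat B D ∧ Algebra.FinitePresentation B D) ∧ (Module.Flat A' C' ∧ Algebra.FinitePresentation A' C')) ∧
    (Algebra.Smooth B' D' ↔ Algebra.Smooth B D ∧ Algebra.Smooth A' C') ∧
    (Algebra.Etale B' D' ↔ Algebra.Etale B D ∧ Algebra.Etale A' C') := by
  haveI hp1 : Algebra.IsPushout B' B D' D := Groth.Agent.Lib.helper3.MilnorAlg.isPushout_fst
    (B' := B') (B := B) (A' := A') (A := A) (D' := D') (D := D) (C' := C') (C := C) hsq hsq'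
  haveI hp2 : Algebra.IsPushout B' A' D' C' := Groth.Agent.Lib.helper3.MilnorAlg.isPushout_snd
    (B' := B') (B := B) (A' := A') (A := A) (D' := D') (D := D) (C' := C') (C := C) hsq hsq'
  let e1 : B ⊗[B'] D' ≃ₐ[B] D := Algebra.IsPushout.equiv B' B D' D
  let e2 : A' ⊗[B'] D' ≃ₐ[A'] C' := Algebra.IsPushout.equiv B' A' D' C'
  have flat1 : Module.Flat B' D' → Module.Flat B D := fun h =>
    Module.Flat.of_linearEquiv e1.symm.toLinearEquiv
  have flat2 : Module.Flat B' D' → Module.Flat A' C' := fun h =>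
    Module.Flat.of_linearEquiv e2.symm.toLinearEquiv
  have fp1 : Algebra.FinitePresentation B' D' → Algebra.FinitePresentation B D := fun h =>
    Algebra.FinitePresentation.equiv e1
  have fp2 : Algebra.FinitePresentation B' D' → Algebra.FinitePresentation A' C' := fun h =>
    Algebra.FinitePresentation.equiv e2
  refine ⟨⟨fun h => ⟨?_, ?_⟩, fun h => ?_⟩, ⟨fun h => ⟨flat1 h, flat2 h⟩, fun h => ?_⟩,
    ⟨fun h => ⟨⟨flat1 h.1, fp1 h.2⟩, ⟨flat2 h.1, fp2 h.2⟩⟩, fun h => ?_⟩,
    ⟨fun h => ⟨?_, ?_⟩, fun h => ?_⟩, ⟨fun h => ⟨?_, ?_⟩, fun h => ?_⟩⟩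
  · exact Algebra.FiniteType.equiv inferInstance e1
  · exact Algebra.FiniteType.equiv inferInstance e2
  · exact Groth.Agent.Lib.helper3.MilnorAlg.finiteType_of hsq hsq' h.1 h.2
  · exact Groth.Agent.Lib.helper3.MilnorAlg.flat_of hsq hsq' h.1 h.2
  · exact Groth.Agent.Lib.helper3.MilnorAlg.flat_fp_of hsq hsq' h.1.1 h.1.2 h.2.1 h.2.2
  · exact Algebra.Smooth.of_equiv e1
  · exact Algebra.Smooth.of_equiv e2
  · exact Groth.Agent.Lib.helper3.MilnorAlg.smooth_of hsq hsq' h.1 h.2
  · exact Algebra.Etale.of_equiv e1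
  · exact Algebra.Etale.of_equiv e2
  · exact Groth.Agent.Lib.helper3.MilnorAlg.etale_of hsq hsq' h.1 h.2

end Groth.Agent.S6900
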