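import Groth.Statements.S6909
import Mathlib.Tactic

set_option autoImplicit false
universe u
open CAlg

namespace Groth.Agent.S6909

section
variable {A : Type u} [CommRing A] (I : Ideal A) {M N : Type u} [AddCommGroup M] [Module A M]
  [AddCommGroup N] [Module A N]

lemma map_mem_pow_add (h : M →ₗ[A] N) (k : ℕ) (hk : ∀ y : M, h y ∈ I ^ k • (⊤ : Submodule A N))
    (t : ℕ) {a : M} (ha : a ∈ I ^ t • (⊤ : Submodule A M)) :
    h a ∈ I ^ (t + k) • (⊤ : Submodule A N) := by
  have h1 : h a ∈ (I ^ t • (⊤ : Submodule A M)).map h := Submodule.mem_map_of_mem ha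
  rw [Submodule.map_smul''] at h1
  have h2 : (⊤ : Submodule A M).map h ≤ I ^ k • (⊤ : Submodule A N) := by
    rintro _ ⟨y, -, rfl⟩
    exact hk y
  have h3 := Submodule.smul_mono (le_refl (I ^ t)) h2 h1
  rwa [← Submodule.mul_smul, ← pow_add] at h3

lemma pow_smul_top_anti {s t : ℕ} (h : s ≤ t) :
    I ^ t • (⊤ : Submodule A M) ≤ I ^ s • (⊤ : Submodule A M) :=
  Submodule.smul_mono_left (Ideal.pow_le_pow_right h)

end

section
variable {A : Type u} [CommRing A] (I : Ideal A) {L M N : Type u} [AddCommGroup L] [Module A L]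
  [AddCommGroup M] [Module A M] [AddCommGroup N] [Module A N]

lemma step (f f' : L →ₗ[A] M) (g g' : M →ₗ[A] N) (c : ℕ)
    (hf : (∀ n : ℕ, c ≤ n → LinearMap.range f ⊓ (I ^ n • (⊤ : Submodule A M)) ≤ Submodule.map f (I ^ (n - c) • (⊤ : Submodule A L))))
    (hg : (∀ n : ℕ, c ≤ n → LinearMap.range g ⊓ (I ^ n • (⊤ : Submodule A N)) ≤ Submodule.map g (I ^ (n - c) • (⊤ : Submodule A M))))
    (hex : Function.Exact f g)
    (hff' : ∀ x : L, f x - f' x ∈ I ^ (c + 1) • (⊤ : Submodule A M))
    (hgg' : ∀ y : M, g y - g' y ∈ I ^ (c + 1) • (⊤ : Submodule A N))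
    (t n : ℕ) (htn : t + c + 1 ≤ n) (a : M) (ha : a ∈ I ^ t • (⊤ : Submodule A M))
    (hga : g' a ∈ I ^ n • (⊤ : Submodule A N)) :
    ∃ b : L, a - f' b ∈ I ^ (t + 1) • (⊤ : Submodule A M) := by
  -- g a ∈ I^(t+c+1) N
  have h1 : (g - g') a ∈ I ^ (t + (c + 1)) • (⊤ : Submodule A N) :=
    map_mem_pow_add I (g - g') (c + 1) (fun y => by simpa using hgg' y) t ha
  have h2 : g a ∈ I ^ (t + c + 1) • (⊤ : Submodule A N) := by
    have : g a = g' a + (g - g') a := by simp
    rw [this]
    exact Submodule.add_mem _ (pow_smul_top_anti I htn hga) (by rwa [add_assoc])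
  have h3 := hg (t + c + 1) (by omega) ⟨LinearMap.mem_range_self g a, h2⟩
  obtain ⟨a₁, ha₁, hga₁⟩ := h3
  have ha₁' : a₁ ∈ I ^ (t + 1) • (⊤ : Submodule A M) := by
    have : t + c + 1 - c = t + 1 := by omega
    rwa [this] at ha₁
  have h4 : g (a - a₁) = 0 := by rw [map_sub, hga₁, sub_self]
  obtain ⟨b₀, hb₀⟩ := (hex (a - a₁)).mp h4
  have h5 : a - a₁ ∈ I ^ t • (⊤ : Submodule A M) :=
    Submodule.sub_mem _ ha (pow_smul_top_anti I (Nat.le_succ t) ha₁')
  have h6 : ∃ b : L, b ∈ I ^ (t - c) • (⊤ : Submodule A L) ∧ f b = a - a₁ := by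
    by_cases hct : c ≤ t
    · obtain ⟨b, hb, hfb⟩ := hf t hct ⟨⟨b₀, hb₀⟩, h5⟩
      exact ⟨b, hb, hfb⟩
    · refine ⟨b₀, ?_, hb₀⟩
      have : t - c = 0 := by omega
      rw [this, pow_zero, Ideal.one_eq_top, Submodule.top_smul]
      trivial
  obtain ⟨b, hb, hfb⟩ := h6
  refine ⟨b, ?_⟩
  have h7 : (f - f') b ∈ I ^ ((t - c) + (c + 1)) • (⊤ : Submodule A M) :=
    map_mem_pow_add I (f - f') (c + 1) (fun y => by simpa using hff' y) (t - c) hb
  have h8 : (f - f') b ∈ I ^ (t + 1) • (⊤ : Submodule A M) :=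
    pow_smul_top_anti I (by omega) h7
  have : a - f' b = a₁ + (f - f') b := by
    simp only [LinearMap.sub_apply, hfb]
    abel
  rw [this]
  exact Submodule.add_mem _ ha₁' h8

end

/-- Let `A` be a Noetherian ring, `I ⊆ A` an ideal inside the Jacobson radical, and `L → M → N` two
complexes `(f, g)` and `(f', g')` of finite `A`-modules with `f' ≡ f` modulo `I^{c+1}M` and `g' ≡ g`
modulo `I^{c+1}N`. If `c` works in the Artin–Rees lemma for `f` and for `g` (that is `f(L) ∩ IⁿM ⊆
f(I^{n-c}L)` for `n ≥ c`, and likewise for `g`) and `(f, g)` is exact, then `c` works for `g'` and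
`(f', g')` is exact. -/
theorem result {A : Type u} [CommRing A] [IsNoetherianRing A] (I : Ideal A)
    (hI : I ≤ Ideal.jacobson (⊥ : Ideal A)) {L M N : Type u} [AddCommGroup L] [Module A L] [Module.Finite A L]
    [AddCommGroup M] [Module A M] [Module.Finite A M] [AddCommGroup N] [Module A N] [Module.Finite A N]
    (f f' : L →ₗ[A] M) (g g' : M →ₗ[A] N) (c : ℕ) (hgf : g.comp f = 0) (hgf' : g'.comp f' = 0)
    (hf : (∀ n : ℕ, c ≤ n → LinearMap.range f ⊓ (I ^ n • (⊤ : Submodule A M)) ≤ Submodule.map f (I ^ (n - c) • (⊤ : Submodule A L))))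
    (hg : (∀ n : ℕ, c ≤ n → LinearMap.range g ⊓ (I ^ n • (⊤ : Submodule A N)) ≤ Submodule.map g (I ^ (n - c) • (⊤ : Submodule A M))))
    (hex : Function.Exact f g)
    (hff' : ∀ x : L, f x - f' x ∈ I ^ (c + 1) • (⊤ : Submodule A M))
    (hgg' : ∀ y : M, g y - g' y ∈ I ^ (c + 1) • (⊤ : Submodule A N)) :
    (∀ n : ℕ, c ≤ n → LinearMap.range g' ⊓ (I ^ n • (⊤ : Submodule A N)) ≤ Submodule.map g' (I ^ (n - c) • (⊤ : Submodule A M))) ∧
    Function.Exact f' g' := by
  have hgf'' : ∀ b : L, g' (f' b) = 0 := fun b => LinearMap.congr_fun hgf' b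
  constructor
  · intro n hn y hy
    obtain ⟨⟨a, rfl⟩, hy⟩ := hy
    have key : ∀ t : ℕ, t ≤ n - c → ∃ a' : M, a' ∈ I ^ t • (⊤ : Submodule A M) ∧ g' a' = g' a := by
      intro t
      induction t with
      | zero =>
        intro _
        refine ⟨a, ?_, rfl⟩
        rw [pow_zero, Ideal.one_eq_top, Submodule.top_smul]
        trivial
      | succ t ih =>
        intro ht
        obtain ⟨a', ha', hga'⟩ := ih (by omega)
        obtain ⟨b, hb⟩ := step I f f' g g' c hf hg hex hff' hgg' t n (by omega) a' ha'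
          (by rw [hga']; exact hy)
        exact ⟨a' - f' b, hb, by rw [map_sub, hgf'' b, sub_zero, hga']⟩
    obtain ⟨a', ha', hga'⟩ := key (n - c) le_rfl
    exact ⟨a', ha', hga'⟩
  · intro a
    constructor
    · intro hga
      have key : ∀ t : ℕ, ∃ l : L, a - f' l ∈ I ^ t • (⊤ : Submodule A M) := by
        intro t
        induction t with
        | zero =>
          refine ⟨0, ?_⟩
          rw [pow_zero, Ideal.one_eq_top, Submodule.top_smul]
          trivial
        | succ t ih =>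
          obtain ⟨l, hl⟩ := ih
          obtain ⟨b, hb⟩ := step I f f' g g' c hf hg hex hff' hgg' t (t + c + 1) le_rfl
            (a - f' l) hl (by rw [map_sub, hga, hgf'' l, sub_zero]; exact Submodule.zero_mem _)
          refine ⟨l + b, ?_⟩
          have : a - f' (l + b) = a - f' l - f' b := by rw [map_add]; abel
          rw [this]
          exact hb
      let Q := M ⧸ LinearMap.range f'
      have hQ : (LinearMap.range f').mkQ a ∈ (⨅ i : ℕ, I ^ i • ⊤ : Submodule A Q) := by
        rw [Submodule.mem_iInf]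
        intro t
        obtain ⟨l, hl⟩ := key t
        have h1 : (LinearMap.range f').mkQ a = (LinearMap.range f').mkQ (a - f' l) := by
          rw [map_sub]
          have : (LinearMap.range f').mkQ (f' l) = 0 := by
            rw [Submodule.mkQ_apply, Submodule.Quotient.mk_eq_zero]
            exact LinearMap.mem_range_self f' l
          rw [this, sub_zero]
        rw [h1]
        have h2 : (LinearMap.range f').mkQ (a - f' l) ∈
            (I ^ t • (⊤ : Submodule A M)).map (LinearMap.range f').mkQ :=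
          Submodule.mem_map_of_mem hl
        rw [Submodule.map_smul''] at h2
        exact Submodule.smul_mono le_rfl le_top h2
      rw [Ideal.iInf_pow_smul_eq_bot_of_le_jacobson I hI, Submodule.mem_bot, Submodule.mkQ_apply,
        Submodule.Quotient.mk_eq_zero] at hQ
      exact hQ
    · rintro ⟨l, rfl⟩
      exact hgf'' l

end Groth.Agent.S6909
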