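import Groth.Statements.S6910
import Mathlib

set_option autoImplicit false
universe u
open CAlg

namespace Groth.Agent.S6910

theorem delta_mem {A : Type u} [CommRing A] (I : Ideal A) {M N : Type u} [AddCommGroup M] [Module A M]
    [AddCommGroup N] [Module A N] (δ : M →ₗ[A] N) (k : ℕ)
    (hδ : ∀ y, δ y ∈ I ^ k • (⊤ : Submodule A N)) (r : ℕ) (y : M)
    (hy : y ∈ I ^ r • (⊤ : Submodule A M)) : δ y ∈ I ^ (r + k) • (⊤ : Submodule A N) := by
  refine Submodule.smul_induction_on (p := fun y => δ y ∈ I ^ (r + k) • (⊤ : Submodule A N)) hy ?_ ?_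
  · intro a ha m _
    rw [map_smul, pow_add, Submodule.mul_smul]
    exact Submodule.smul_mem_smul ha (hδ m)
  · intro x y hx hy
    rw [map_add]
    exact Submodule.add_mem _ hx hy

/-- Let `A` be a Noetherian ring, `I ⊆ A` an ideal inside the Jacobson radical, and `L → M → N` two
complexes `(f, g)` and `(f', g')` of finite `A`-modules with `f' ≡ f` modulo `I^{c+1}M` and `g' ≡ g`
modulo `I^{c+1}N`, such that the Artin–Rees bound holds with constant `c` for both `f` and `g`, and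
`(f, g)` is exact. Then for every `n` the submodules `I^{n+1}N + g(M) ∩ IⁿN` and `I^{n+1}N + g'(M) ∩
IⁿN` of `N` are equal; consequently the associated graded modules of `Coker g` and `Coker g'` with
respect to `I` coincide degreewise as subquotients of `N`. -/
theorem result {A : Type u} [CommRing A] [IsNoetherianRing A] (I : Ideal A)
    (hI : I ≤ Ideal.jacobson (⊥ : Ideal A)) {L M N : Type u} [AddCommGroup L] [Module A L] [Module.Finite A L]
    [AddCommGroup M] [Module A M] [Module.Finite A M] [AddCommGroup N] [Module A N] [Module.Finite A N]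
    (f f' : L →ₗ[A] M) (g g' : M →ₗ[A] N) (c : ℕ) (hgf : g.comp f = 0) (hgf' : g'.comp f' = 0)
    (hf : (∀ n : ℕ, c ≤ n → LinearMap.range f ⊓ (I ^ n • (⊤ : Submodule A M)) ≤ Submodule.map f (I ^ (n - c) • (⊤ : Submodule A L))))
    (hg : (∀ n : ℕ, c ≤ n → LinearMap.range g ⊓ (I ^ n • (⊤ : Submodule A N)) ≤ Submodule.map g (I ^ (n - c) • (⊤ : Submodule A M))))
    (hex : Function.Exact f g)
    (hff' : ∀ x : L, f x - f' x ∈ I ^ (c + 1) • (⊤ : Submodule A M))
    (hgg' : ∀ y : M, g y - g' y ∈ I ^ (c + 1) • (⊤ : Submodule A N)) (n : ℕ) :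
    I ^ (n + 1) • (⊤ : Submodule A N) ⊔ (LinearMap.range g ⊓ I ^ n • (⊤ : Submodule A N)) =
      I ^ (n + 1) • (⊤ : Submodule A N) ⊔ (LinearMap.range g' ⊓ I ^ n • (⊤ : Submodule A N)) := by
  have hmono : ∀ {X : Type u} [AddCommGroup X] [Module A X] {i j : ℕ}, i ≤ j →
      (I ^ j • (⊤ : Submodule A X)) ≤ I ^ i • (⊤ : Submodule A X) := fun h =>
    Submodule.smul_mono (Ideal.pow_le_pow_right h) le_rfl
  have hdg : ∀ (r : ℕ) (y : M), y ∈ I ^ r • (⊤ : Submodule A M) →
      g y - g' y ∈ I ^ (r + (c + 1)) • (⊤ : Submodule A N) := fun r y hy =>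
    delta_mem I (g - g') (c + 1) hgg' r y hy
  have hdf : ∀ (r : ℕ) (y : L), y ∈ I ^ r • (⊤ : Submodule A L) →
      f y - f' y ∈ I ^ (r + (c + 1)) • (⊤ : Submodule A M) := fun r y hy =>
    delta_mem I (f - f') (c + 1) hff' r y hy
  have hg'f' : ∀ b, g' (f' b) = 0 := fun b => LinearMap.congr_fun hgf' b
  -- `c` works for `g'`
  have step1 : ∀ m : ℕ, c ≤ m → ∀ a : M, g' a ∈ I ^ m • (⊤ : Submodule A N) →
      ∀ r : ℕ, r ≤ m - c → ∃ a' ∈ I ^ r • (⊤ : Submodule A M), g' a' = g' a := by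
    intro m hm a ha r
    induction r with
    | zero =>
      intro _
      exact ⟨a, by rw [pow_zero, Ideal.one_eq_top, Submodule.top_smul]; exact Submodule.mem_top, rfl⟩
    | succ r ih =>
      intro hr
      obtain ⟨ar, har, hgar⟩ := ih (by omega)
      have h1 : g ar ∈ I ^ (r + c + 1) • (⊤ : Submodule A N) := by
        have : g ar = (g ar - g' ar) + g' ar := by abel
        rw [this]
        refine Submodule.add_mem _ (hdg r ar har) ?_
        rw [hgar]
        exact hmono (by omega) ha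
      obtain ⟨a₁, ha₁, hga₁⟩ := hg (r + c + 1) (by omega) ⟨⟨ar, rfl⟩, h1⟩
      have ha₁' : a₁ ∈ I ^ (r + 1) • (⊤ : Submodule A M) := by
        have : r + c + 1 - c = r + 1 := by omega
        rwa [this] at ha₁
      obtain ⟨b, hb⟩ := (hex (ar - a₁)).1 (by rw [map_sub, hga₁, sub_self])
      have hfb : f b ∈ I ^ r • (⊤ : Submodule A M) := by
        rw [hb]
        exact Submodule.sub_mem _ har (hmono (Nat.le_succ r) ha₁')
      have hb' : ∃ b', f b' = ar - a₁ ∧ f b' - f' b' ∈ I ^ (r + 1) • (⊤ : Submodule A M) := by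
        by_cases hcr : c ≤ r
        · obtain ⟨b', hb'1, hb'2⟩ := hf r hcr ⟨⟨b, rfl⟩, hfb⟩
          refine ⟨b', by rw [hb'2, hb], ?_⟩
          have := hdf (r - c) b' hb'1
          have h2 : r - c + (c + 1) = r + 1 := by omega
          rwa [h2] at this
        · exact ⟨b, hb, hmono (by omega) (hff' b)⟩
      obtain ⟨b', hb'1, hb'2⟩ := hb'
      refine ⟨ar - f' b', ?_, by rw [map_sub, hg'f', sub_zero, hgar]⟩
      have : ar - f' b' = a₁ + (f b' - f' b') := by rw [hb'1]; abel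
      rw [this]
      exact Submodule.add_mem _ ha₁' hb'2
  apply le_antisymm
  · refine sup_le le_sup_left ?_
    rintro x ⟨⟨a₀, rfl⟩, hx⟩
    have h1 : ∃ a, g a = g a₀ ∧ g a - g' a ∈ I ^ (n + 1) • (⊤ : Submodule A N) := by
      by_cases hcn : c ≤ n
      · obtain ⟨a, ha1, ha2⟩ := hg n hcn ⟨⟨a₀, rfl⟩, hx⟩
        refine ⟨a, ha2, ?_⟩
        have := hdg (n - c) a ha1
        have h2 : n - c + (c + 1) = n + 1 := by omega
        rwa [h2] at this
      · exact ⟨a₀, rfl, hmono (by omega) (hgg' a₀)⟩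
    obtain ⟨a, ha1, ha2⟩ := h1
    have : g a₀ = (g a - g' a) + g' a := by rw [← ha1]; abel
    rw [this]
    refine Submodule.add_mem_sup ha2 ⟨⟨a, rfl⟩, ?_⟩
    have : g' a = g a₀ - (g a - g' a) := by rw [← ha1]; abel
    rw [this]
    exact Submodule.sub_mem _ hx (hmono (Nat.le_succ n) ha2)
  · refine sup_le le_sup_left ?_
    rintro x ⟨⟨a₀, rfl⟩, hx⟩
    have h1 : ∃ a, g' a = g' a₀ ∧ g a - g' a ∈ I ^ (n + 1) • (⊤ : Submodule A N) := by
      by_cases hcn : c ≤ n
      · obtain ⟨a, ha1, ha2⟩ := step1 n hcn a₀ hx (n - c) le_rfl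
        refine ⟨a, ha2, ?_⟩
        have := hdg (n - c) a ha1
        have h2 : n - c + (c + 1) = n + 1 := by omega
        rwa [h2] at this
      · exact ⟨a₀, rfl, hmono (by omega) (hgg' a₀)⟩
    obtain ⟨a, ha1, ha2⟩ := h1
    have : g' a₀ = -(g a - g' a) + g a := by rw [← ha1]; abel
    rw [this]
    refine Submodule.add_mem_sup (Submodule.neg_mem _ ha2) ⟨⟨a, rfl⟩, ?_⟩
    have : g a = g' a₀ + (g a - g' a) := by rw [← ha1]; abel
    rw [this]
    exact Submodule.add_mem _ hx (hmono (Nat.le_succ n) ha2)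

end Groth.Agent.S6910
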