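import Groth.Statements.S6911
import Mathlib

set_option autoImplicit false
universe u
open TensorProduct
open CAlg

namespace Groth.Agent.S6911

namespace S6911aux
open TensorProduct

variable {A B : Type u} [CommRing A] [CommRing B] [Algebra A B]
variable {M N : Type u} [AddCommGroup M] [Module A M] [AddCommGroup N] [Module A N]

theorem map_baseChange (f : M →ₗ[A] N) (P : Submodule A M) :
    Submodule.map (f.baseChange B) (P.baseChange B) = (Submodule.map f P).baseChange B := by
  rw [Submodule.baseChange_eq_span, Submodule.baseChange_eq_span, Submodule.map_span]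
  congr 1
  ext x
  constructor
  · rintro ⟨_, ⟨m, hm, rfl⟩, rfl⟩
    exact ⟨f m, ⟨m, hm, rfl⟩, by simp⟩
  · rintro ⟨_, ⟨m, hm, rfl⟩, rfl⟩
    exact ⟨1 ⊗ₜ m, ⟨m, hm, rfl⟩, by simp⟩

theorem range_baseChange (f : M →ₗ[A] N) :
    LinearMap.range (f.baseChange B) = (LinearMap.range f).baseChange B := by
  rw [← Submodule.map_top, ← Submodule.baseChange_top, map_baseChange, Submodule.map_top]

theorem smul_top_baseChange (K : Ideal A) :
    (K.map (algebraMap A B)) • (⊤ : Submodule B (B ⊗[A] N)) =
      (K • (⊤ : Submodule A N)).baseChange B := by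
  apply le_antisymm
  · rw [Submodule.smul_le]
    intro r hr x _
    refine Submodule.span_induction
      (p := fun r _ => ∀ x : B ⊗[A] N, r • x ∈ (K • (⊤ : Submodule A N)).baseChange B)
      ?_ ?_ ?_ ?_ hr x
    · rintro _ ⟨k, hk, rfl⟩ x
      induction x using TensorProduct.induction_on with
      | zero => simp
      | tmul b n =>
        have : algebraMap A B k • (b ⊗ₜ[A] n) = b ⊗ₜ (k • n) := by
          rw [TensorProduct.smul_tmul', TensorProduct.tmul_smul, TensorProduct.smul_tmul',
            smul_eq_mul, Algebra.smul_def]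
        rw [this]
        exact Submodule.tmul_mem_baseChange_of_mem b (Submodule.smul_mem_smul hk trivial)
      | add x y hx hy => rw [smul_add]; exact add_mem hx hy
    · intro x; simp
    · intro a b _ _ ha hb x; rw [add_smul]; exact add_mem (ha x) (hb x)
    · intro a b _ hb x; rw [smul_eq_mul, mul_smul]; exact Submodule.smul_mem _ a (hb x)
  · rw [Submodule.baseChange_eq_span, Submodule.span_le]
    rintro _ ⟨m, hm, rfl⟩
    refine Submodule.smul_induction_on hm ?_ ?_
    · intro k hk n _
      have : (TensorProduct.mk A B N 1) (k • n) = algebraMap A B k • ((1 : B) ⊗ₜ[A] n) := by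
        rw [TensorProduct.mk_apply, TensorProduct.tmul_smul, TensorProduct.smul_tmul',
          TensorProduct.smul_tmul', Algebra.smul_def, smul_eq_mul]
      rw [this]
      exact Submodule.smul_mem_smul (Ideal.mem_map_of_mem _ hk) trivial
    · intro x y hx hy; rw [map_add]; exact add_mem hx hy

theorem inf_baseChange [Module.Flat A B] (P Q : Submodule A N) :
    P.baseChange B ⊓ Q.baseChange B ≤ (P ⊓ Q).baseChange B := by
  intro x ⟨hxP, hxQ⟩
  let φ : N →ₗ[A] (N ⧸ P) × (N ⧸ Q) := P.mkQ.prod Q.mkQ
  have hker : LinearMap.ker φ = P ⊓ Q := by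
    ext n
    simp [φ]
  have hex : Function.Exact (P ⊓ Q).subtype φ := by
    rw [LinearMap.exact_iff, hker, Submodule.range_subtype]
  have hexB := Module.Flat.lTensor_exact B hex
  have h1 : (LinearMap.fst A _ _ ∘ₗ φ) ∘ₗ P.subtype = 0 := by
    ext p; simp [φ]
  have h2 : (LinearMap.snd A _ _ ∘ₗ φ) ∘ₗ Q.subtype = 0 := by
    ext p; simp [φ]
  have hx0 : (φ.lTensor B) x = 0 := by
    apply (TensorProduct.prodRight A A B (N ⧸ P) (N ⧸ Q)).injective
    rw [map_zero]
    have e1 : ∀ z : B ⊗[A] ((N ⧸ P) × (N ⧸ Q)),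
        (TensorProduct.prodRight A A B (N ⧸ P) (N ⧸ Q) z).1 = (LinearMap.fst A _ _).lTensor B z := by
      intro z
      induction z using TensorProduct.induction_on with
      | zero => simp
      | tmul b n => simp
      | add x y hx hy => simp only [map_add, Prod.fst_add, hx, hy]
    have e2 : ∀ z : B ⊗[A] ((N ⧸ P) × (N ⧸ Q)),
        (TensorProduct.prodRight A A B (N ⧸ P) (N ⧸ Q) z).2 = (LinearMap.snd A _ _).lTensor B z := by
      intro z
      induction z using TensorProduct.induction_on with
      | zero => simp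
      | tmul b n => simp
      | add x y hx hy => simp only [map_add, Prod.snd_add, hx, hy]
    apply Prod.ext
    · rw [e1, Prod.fst_zero]
      obtain ⟨y, rfl⟩ := hxP
      rw [LinearMap.baseChange_eq_ltensor, ← LinearMap.comp_apply, ← LinearMap.comp_apply,
        ← LinearMap.lTensor_comp, ← LinearMap.lTensor_comp, h1, LinearMap.lTensor_zero,
        LinearMap.zero_apply]
    · rw [e2, Prod.snd_zero]
      obtain ⟨y, rfl⟩ := hxQ
      rw [LinearMap.baseChange_eq_ltensor, ← LinearMap.comp_apply, ← LinearMap.comp_apply,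
        ← LinearMap.lTensor_comp, ← LinearMap.lTensor_comp, h2, LinearMap.lTensor_zero,
        LinearMap.zero_apply]
  obtain ⟨y, hy⟩ := (hexB x).mp hx0
  exact ⟨y, hy⟩

end S6911aux

open TensorProduct in

/-- Let `A → B` be a flat map of Noetherian rings, `I ⊆ A` an ideal and `f : M → N` a map of finite
`A`-modules such that `c` works for `f` in the Artin–Rees lemma (`f(M) ∩ IⁿN ⊆ f(I^{n-c}M)` for `n ≥
c`). Then `c` works for `f ⊗ 1 : M ⊗_A B → N ⊗_A B` and the ideal `IB`. -/
theorem result {A B : Type u} [CommRing A] [IsNoetherianRing A] [CommRing B]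
    [IsNoetherianRing B] [Algebra A B] [Module.Flat A B] (I : Ideal A) {M N : Type u} [AddCommGroup M] [Module A M]
    [Module.Finite A M] [AddCommGroup N] [Module A N] [Module.Finite A N] (f : M →ₗ[A] N) (c : ℕ)
    (hf : (∀ n : ℕ, c ≤ n → LinearMap.range f ⊓ (I ^ n • (⊤ : Submodule A N)) ≤ Submodule.map f (I ^ (n - c) • (⊤ : Submodule A M)))) :
    ∀ n : ℕ, c ≤ n →
      LinearMap.range (f.baseChange B) ⊓ ((I.map (algebraMap A B)) ^ n • (⊤ : Submodule B (B ⊗[A] N))) ≤
        Submodule.map (f.baseChange B) ((I.map (algebraMap A B)) ^ (n - c) • (⊤ : Submodule B (B ⊗[A] M))) := by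
  intro n hn
  rw [S6911aux.range_baseChange, ← Ideal.map_pow, S6911aux.smul_top_baseChange, ← Ideal.map_pow,
    S6911aux.smul_top_baseChange, S6911aux.map_baseChange]
  exact (S6911aux.inf_baseChange _ _).trans (Submodule.baseChange_mono B (hf n hn))

end Groth.Agent.S6911
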