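import Groth.Statements.S6913
import Mathlib
import Groth.Agent.Lib.helper5.TorsFree

set_option autoImplicit false
universe u
open CAlg

namespace Groth.Agent.S6913

/-- Let `R` be a domain and `M` a finite `R`-module, of (finite) rank `r`. Then: some linear map `M →
R^r` has torsion kernel and torsion cokernel; some nonzero `f ∈ R` makes `M_f` free of rank `r` over
`R_f`; and some injective linear map `R^r → M` has torsion cokernel. -/
theorem result (R : Type u) [CommRing R] [IsDomain R] (M : Type u) [AddCommGroup M]
    [Module R M] [Module.Finite R M] :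
    (∃ h : M →ₗ[R] (Fin (Module.finrank R M) → R),
      (∀ x : M, h x = 0 → ∃ c : R, c ≠ 0 ∧ c • x = 0) ∧
      (∀ y : Fin (Module.finrank R M) → R, ∃ c : R, c ≠ 0 ∧ c • y ∈ LinearMap.range h)) ∧
    (∃ f : R, f ≠ 0 ∧ Module.Free (Localization.Away f) (LocalizedModule (Submonoid.powers f) M) ∧
      Module.finrank (Localization.Away f) (LocalizedModule (Submonoid.powers f) M) = Module.finrank R M) ∧
    (∃ g : (Fin (Module.finrank R M) → R) →ₗ[R] M, Function.Injective g ∧
      ∀ x : M, ∃ c : R, c ≠ 0 ∧ c • x ∈ LinearMap.range g) := by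
  classical
  obtain ⟨F, c, hc, hfree, hfin, hcM⟩ :=
    Groth.Agent.H5.TorsFree.exists_free_submodule_smul_le R M
  -- rank of F
  have hrank : Module.rank R F = Module.rank R M := by
    have h1 := rank_quotient_add_rank_of_isDomain (R := R) (M := M) F
    have h0 : Module.rank R (M ⧸ F) = 0 := by
      rw [rank_eq_zero_iff]
      intro y
      obtain ⟨m, rfl⟩ := Submodule.Quotient.mk_surjective F y
      refine ⟨c, hc, ?_⟩
      rw [← Submodule.Quotient.mk_smul, Submodule.Quotient.mk_eq_zero]
      exact hcM m
    rw [h0, zero_add] at h1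
    exact h1
  have hfr : Module.finrank R F = Module.finrank R M := by
    unfold Module.finrank
    rw [hrank]
  obtain ⟨n, hn⟩ : ∃ n : ℕ, n = Module.finrank R M := ⟨_, rfl⟩
  rw [← hn]
  have hFn : Module.finrank R F = n := by rw [hfr, hn]
  let b : Module.Basis (Fin n) R F := Module.finBasisOfFinrankEq R F hFn
  let e : F ≃ₗ[R] (Fin n → R) := b.equivFun
  let φ : M →ₗ[R] F := LinearMap.codRestrict F (c • LinearMap.id) hcM
  have hφ : ∀ m : M, ((φ m : F) : M) = c • m := fun m => rfl
  refine ⟨?_, ?_, ?_⟩
  · refine ⟨e.toLinearMap.comp φ, ?_, ?_⟩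
    · intro x hx
      refine ⟨c, hc, ?_⟩
      have h1 : φ x = 0 := by
        apply e.injective
        rw [map_zero]
        exact hx
      rw [← hφ, h1]
      rfl
    · intro y
      refine ⟨c, hc, ?_⟩
      refine ⟨((e.symm y : F) : M), ?_⟩
      have h1 : φ ((e.symm y : F) : M) = c • e.symm y := by
        apply Subtype.ext
        rw [hφ]
        rfl
      rw [LinearMap.comp_apply, h1, map_smul]
      simp
  · refine ⟨c, hc, ?_⟩
    -- the composite F → M → M_c is a localization map
    let ψ : F →ₗ[R] LocalizedModule (Submonoid.powers c) M :=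
      (LocalizedModule.mkLinearMap (Submonoid.powers c) M).comp F.subtype
    have hψ : IsLocalizedModule (Submonoid.powers c) ψ := by
      refine ⟨?_, ?_, ?_⟩
      · exact IsLocalizedModule.map_units (LocalizedModule.mkLinearMap (Submonoid.powers c) M)
      · intro y
        obtain ⟨⟨m, s⟩, hms⟩ := IsLocalizedModule.surj (Submonoid.powers c)
          (LocalizedModule.mkLinearMap (Submonoid.powers c) M) y
        refine ⟨(φ m, ⟨c, Submonoid.mem_powers c⟩ * s), ?_⟩
        rw [mul_smul, hms]
        change _ = LocalizedModule.mkLinearMap (Submonoid.powers c) M ((φ m : F) : M)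
        rw [hφ, map_smul]
        rfl
      · intro x₁ x₂ h
        obtain ⟨s, hs⟩ := IsLocalizedModule.exists_of_eq (S := Submonoid.powers c)
          (f := LocalizedModule.mkLinearMap (Submonoid.powers c) M) h
        refine ⟨s, ?_⟩
        apply Subtype.ext
        exact hs
    let bc : Module.Basis (Fin n) (Localization.Away c)
        (LocalizedModule (Submonoid.powers c) M) :=
      b.ofIsLocalizedModule (Localization.Away c) (Submonoid.powers c) ψ
    have hinj : Function.Injective (algebraMap R (Localization.Away c)) :=
      IsLocalization.injective (Localization.Away c)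
        (powers_le_nonZeroDivisors_of_noZeroDivisors hc)
    have : Nontrivial (Localization.Away c) := hinj.nontrivial
    refine ⟨Module.Free.of_basis bc, ?_⟩
    rw [Module.finrank_eq_card_basis bc, Fintype.card_fin]
  · refine ⟨F.subtype.comp e.symm.toLinearMap, ?_, ?_⟩
    · exact F.injective_subtype.comp e.symm.injective
    · intro x
      refine ⟨c, hc, ?_⟩
      refine ⟨e (φ x), ?_⟩
      rw [LinearMap.comp_apply]
      simp only [LinearEquiv.coe_coe, LinearEquiv.symm_apply_apply]
      exact hφ x

end Groth.Agent.S6913
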