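import Groth.Statements.S6918
import Mathlib

set_option autoImplicit false
universe u
open FlatMor

namespace Groth.Agent.S6918

namespace S6918aux
open TensorProduct

/-- localization of an `R`-flat `S`-module at a submonoid of `S` is `R`-flat. -/
theorem flat_localized {R S : Type u} [CommRing R] [CommRing S] [Algebra R S]
    {X Y : Type u} [AddCommMonoid X] [Module R X] [Module S X] [IsScalarTower R S X]
    [AddCommMonoid Y] [Module R Y] [Module S Y] [IsScalarTower R S Y]
    (U : Submonoid S) (g : X →ₗ[S] Y) [IsLocalizedModule U g] (H : Module.Flat R X) :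
    Module.Flat R Y := by
  rw [Module.Flat.iff_lTensor_injectiveₛ] at H ⊢
  intro P _ _ N
  have := H N
  rw [← AlgebraTensorModule.coe_lTensor (A := S)] at this ⊢
  rw [← IsLocalizedModule.map_lTensor (S := U) (f := N.subtype) (g := g)]
  exact IsLocalizedModule.map_injective U _ _ _ this

theorem isLocalizedModule_comp {S : Type u} [CommSemiring S] {X Y Z : Type u} [AddCommMonoid X]
    [Module S X] [AddCommMonoid Y] [Module S Y] [AddCommMonoid Z] [Module S Z]
    (T U : Submonoid S) (hTU : T ≤ U) (g : X →ₗ[S] Y) (h : Y →ₗ[S] Z)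
    [IsLocalizedModule T g] [IsLocalizedModule U h] :
    IsLocalizedModule U (h ∘ₗ g) where
  map_units u := IsLocalizedModule.map_units h u
  surj z := by
    obtain ⟨⟨y, u⟩, hy⟩ := IsLocalizedModule.surj U h z
    obtain ⟨⟨x, t⟩, hx⟩ := IsLocalizedModule.surj T g y
    refine ⟨⟨x, ⟨t.1 * u.1, U.mul_mem (hTU t.2) u.2⟩⟩, ?_⟩
    simp only [Submonoid.smul_def] at hy hx ⊢
    rw [LinearMap.comp_apply, ← hx, map_smul, ← hy, mul_smul]
  exists_of_eq := by
    intro x₁ x₂ e
    rw [LinearMap.comp_apply, LinearMap.comp_apply] at e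
    obtain ⟨u, hu⟩ := IsLocalizedModule.exists_of_eq (S := U) (f := h) e
    simp only [Submonoid.smul_def] at hu
    rw [← map_smul, ← map_smul] at hu
    obtain ⟨t, ht⟩ := IsLocalizedModule.exists_of_eq (S := T) (f := g) hu
    simp only [Submonoid.smul_def] at ht
    refine ⟨⟨t.1 * u.1, U.mul_mem (hTU t.2) u.2⟩, ?_⟩
    simp only [Submonoid.smul_def, mul_smul]
    exact ht

end S6918aux

open TensorProduct in

/-- Let `R → S` be a ring map, `J ⊆ S` an ideal, `M` an `S`-module, `I ⊆ R` an ideal, `R → R'` a ring
map and `I' ⊇ IR'`; put `S' = S ⊗_R R'`, `M' = M ⊗_R R'`. If `M_𝔮` is flat over `R` for all primes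
`𝔮 ⊇ IS + J` of `S`, then `M'_{𝔮'}` is flat over `R'` for all primes `𝔮' ⊇ I'S' + JS'` of `S'`. (The
published statement passes from an arbitrary pair `(R', I')` over `R` to a further pair `(R'',
I'')`; this row takes the first pair to be `(R, I)`.) -/
theorem result {R S R' S' : Type u} [CommRing R] [CommRing S] [CommRing R'] [CommRing S']
    [Algebra R S] [Algebra R R'] [Algebra S S'] [Algebra R' S'] [Algebra R S'] [IsScalarTower R S S']
    [IsScalarTower R R' S'] [Algebra.IsPushout R S R' S']
    (I : Ideal R) (I' : Ideal R') (hII' : I.map (algebraMap R R') ≤ I')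
    {M M' : Type u} [AddCommGroup M] [Module S M] [Module R M] [IsScalarTower R S M]
    [AddCommGroup M'] [Module S' M'] [Module R' M'] [IsScalarTower R' S' M'] [Module S M'] [IsScalarTower S S' M']
    (f : M →ₗ[S] M') (hf : IsBaseChange S' f) (J : Ideal S)
    (h : (∀ (q : Ideal S) [q.IsPrime], I.map (algebraMap R S) ⊔ J ≤ q → FlatCA.FlatAt R q M)) :
    (∀ (q : Ideal S') [q.IsPrime], I'.map (algebraMap R' S') ⊔ J.map (algebraMap S S') ≤ q → FlatCA.FlatAt R' q M') := by
  intro q' _ hq'
  obtain ⟨q, hqdef⟩ : ∃ q : Ideal S, q = q'.comap (algebraMap S S') := ⟨_, rfl⟩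
  haveI : q.IsPrime := by rw [hqdef]; infer_instance
  have hq : I.map (algebraMap R S) ⊔ J ≤ q := by
    refine sup_le ?_ ?_
    · rw [Ideal.map_le_iff_le_comap]
      intro x hx
      rw [Ideal.mem_comap, hqdef, Ideal.mem_comap, ← IsScalarTower.algebraMap_apply,
        IsScalarTower.algebraMap_apply R R' S']
      exact hq' (Ideal.mem_sup_left (Ideal.mem_map_of_mem _ (hII' (Ideal.mem_map_of_mem _ hx))))
    · intro x hx
      rw [hqdef, Ideal.mem_comap]
      exact hq' (Ideal.mem_sup_right (Ideal.mem_map_of_mem _ hx))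
  have hN : Module.Flat R (LocalizedModule q.primeCompl M) := h q hq
  haveI : Algebra.IsPushout R R' S S' := Algebra.IsPushout.symm inferInstance
  have hX : Module.Flat R' (S' ⊗[S] (LocalizedModule q.primeCompl M)) :=
    Module.Flat.of_linearEquiv
      (Algebra.IsPushout.cancelBaseChange R R' S S' (LocalizedModule q.primeCompl M))
  -- the map `g : M' → S' ⊗[S] M_q`
  let mk := LocalizedModule.mkLinearMap q.primeCompl M
  let g : M' →ₗ[S'] S' ⊗[S] (LocalizedModule q.primeCompl M) :=
    hf.lift ((TensorProduct.mk S S' (LocalizedModule q.primeCompl M) 1) ∘ₗ mk)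
  have hg : ∀ m : M, g (f m) = 1 ⊗ₜ mk m := fun m => hf.lift_eq _ m
  -- `g` is a localization at the image of `S ∖ q`
  have hloc0 : IsLocalizedModule q.primeCompl
      (AlgebraTensorModule.rTensor S S' mk) := inferInstance
  have hgS : IsLocalizedModule q.primeCompl (g.restrictScalars S) := by
    have e1 : g.restrictScalars S =
        ((TensorProduct.comm S _ S').toLinearMap ∘ₗ
          ((AlgebraTensorModule.rTensor S S' mk).restrictScalars S)) ∘ₗ
          ((TensorProduct.comm S M S').trans (hf.equiv.restrictScalars S)).symm.toLinearMap := by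
      have e0 : (g.restrictScalars S) ∘ₗ
          ((TensorProduct.comm S M S').trans (hf.equiv.restrictScalars S)).toLinearMap =
          (TensorProduct.comm S _ S').toLinearMap ∘ₗ
          ((AlgebraTensorModule.rTensor S S' mk).restrictScalars S) := by
        apply TensorProduct.ext'
        intro m s'
        simp only [LinearMap.comp_apply, LinearEquiv.coe_coe, LinearEquiv.trans_apply,
          TensorProduct.comm_tmul, LinearEquiv.restrictScalars_apply, hf.equiv_tmul,
          LinearMap.restrictScalars_apply, map_smul, hg, AlgebraTensorModule.rTensor_tmul,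
          TensorProduct.smul_tmul', smul_eq_mul, mul_one]
      apply LinearMap.ext
      intro x
      obtain ⟨y, rfl⟩ :=
        ((TensorProduct.comm S M S').trans (hf.equiv.restrictScalars S)).surjective x
      have := LinearMap.congr_fun e0 y
      simp only [LinearMap.comp_apply, LinearEquiv.coe_coe] at this
      simp only [LinearMap.comp_apply, LinearEquiv.coe_coe, LinearEquiv.symm_apply_apply]
      exact this
    rw [e1]
    haveI : IsLocalizedModule q.primeCompl
        ((AlgebraTensorModule.rTensor S S' mk).restrictScalars S) := by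
      exact hloc0
    infer_instance
  haveI hgT : IsLocalizedModule (Algebra.algebraMapSubmonoid S' q.primeCompl) g :=
    IsLocalizedModule.of_restrictScalars q.primeCompl g
  have hTU : Algebra.algebraMapSubmonoid S' q.primeCompl ≤ q'.primeCompl := by
    rintro _ ⟨s, hs, rfl⟩
    intro hmem
    exact hs (by rw [hqdef]; exact hmem)
  let hmap := LocalizedModule.mkLinearMap q'.primeCompl
    (S' ⊗[S] LocalizedModule q.primeCompl M)
  haveI hcomp : IsLocalizedModule q'.primeCompl (hmap ∘ₗ g) :=
    S6918aux.isLocalizedModule_comp _ _ hTU g hmap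
  have hY : Module.Flat R'
      (LocalizedModule q'.primeCompl (S' ⊗[S] LocalizedModule q.primeCompl M)) :=
    S6918aux.flat_localized q'.primeCompl hmap hX
  let e : LocalizedModule q'.primeCompl M' ≃ₗ[S']
      LocalizedModule q'.primeCompl (S' ⊗[S] LocalizedModule q.primeCompl M) :=
    IsLocalizedModule.iso q'.primeCompl (hmap ∘ₗ g)
  unfold FlatCA.FlatAt
  exact Module.Flat.of_linearEquiv (e.restrictScalars R')

end Groth.Agent.S6918
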