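import Groth.Statements.S6920
import Mathlib
-- import your own Groth.Agent.* helpers here

set_option autoImplicit false
universe u
open CategoryTheory CategoryTheory.Limits MonoidalCategory
open DRing

namespace Groth.Agent.S6920


section Aux

open TensorProduct

/-- for an epimorphism of rings, `R`-linear maps between `S`-modules are `S`-linear -/
lemma smul_of_isEpi {R S : Type u} [CommRing R] [CommRing S] [Algebra R S] [Algebra.IsEpi R S]
    (M N : Type u) [AddCommGroup M] [AddCommGroup N] [Module R M] [Module S M]
    [IsScalarTower R S M] [Module R N] [Module S N] [IsScalarTower R S N]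
    (f : M →ₗ[R] N) (s : S) (m : M) : f (s • m) = s • f m := by
  let G : S ⊗[R] M →ₗ[R] N := TensorProduct.lift (LinearMap.mk₂ R (fun (s : S) (m : M) => s • f m)
    (fun s s' m => add_smul s s' (f m))
    (fun r s m => smul_assoc r s (f m))
    (fun s m m' => by rw [map_add, smul_add])
    (fun r s m => by rw [map_smul, smul_comm]))
  have h1 : (1 : S) ⊗ₜ[R] (s • m) = s ⊗ₜ[R] m :=
    (TensorProduct.lid' R S M).injective (by simp)
  have h2 := congrArg G h1
  simpa [G] using h2

lemma full_restrictScalars {R S : Type u} [CommRing R] [CommRing S] (φ : R →+* S)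
    (hφ : Epi (CommRingCat.ofHom φ)) : (ModuleCat.restrictScalars.{u} φ).Full := by
  letI : Algebra R S := φ.toAlgebra
  have hepi : Algebra.IsEpi R S := CommRingCat.epi_iff_epi.mp hφ
  refine ⟨fun {M N} g => ?_⟩
  letI : Module R M := Module.compHom M φ
  letI : Module R N := Module.compHom N φ
  haveI : IsScalarTower R S M := IsScalarTower.of_algebraMap_smul fun r x => rfl
  haveI : IsScalarTower R S N := IsScalarTower.of_algebraMap_smul fun r x => rfl
  let f : M →ₗ[R] N := g.hom
  refine ⟨ModuleCat.ofHom
    { toFun := f
      map_add' := f.map_add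
      map_smul' := fun s m => smul_of_isEpi M N f s m }, ?_⟩
  ext x
  rfl

/-- a homotopy to zero can be lifted along a fully faithful additive functor -/
noncomputable def homotopyOfFullyFaithful {C D : Type*} [Category C] [Category D] [Preadditive C]
    [Preadditive D] (F : C ⥤ D) [F.Additive] [F.Full] [F.Faithful]
    {K L : CochainComplex C ℤ} (f : K ⟶ L)
    (h : Homotopy ((F.mapHomologicalComplex (ComplexShape.up ℤ)).map f) 0) : Homotopy f 0 where
  hom i j := F.preimage (h.hom i j)
  zero i j hij := F.map_injective (by
    rw [Functor.map_preimage, h.zero i j hij, Functor.map_zero]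
    rfl)
  comm i := F.map_injective (by
    have := h.comm i
    simp only [Functor.mapHomologicalComplex_map_f, HomologicalComplex.zero_f, add_zero,
      dNext_eq _ (show (ComplexShape.up ℤ).Rel i (i + 1) from rfl),
      prevD_eq _ (show (ComplexShape.up ℤ).Rel (i - 1) i by simp),
      Functor.mapHomologicalComplex_obj_d] at this
    simp only [HomologicalComplex.zero_f, add_zero,
      dNext_eq _ (show (ComplexShape.up ℤ).Rel i (i + 1) from rfl),
      prevD_eq _ (show (ComplexShape.up ℤ).Rel (i - 1) i by simp),
      Functor.map_add, Functor.map_comp, Functor.map_preimage]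
    exact this)

end Aux

/-- For an epimorphism of rings `φ : R → S` and a complex `I•` of `S`-modules, if the underlying complex
of `R`-modules of `I•` is K-injective, then `I•` itself is K-injective over `S`. -/
theorem result (R S : Type u) [CommRing R] [CommRing S] (φ : R →+* S)
    (hφ : Epi (CommRingCat.ofHom φ)) (I : DRing.Cx S)
    [CochainComplex.IsKInjective ((DRing.restrictCx φ).obj I)] : CochainComplex.IsKInjective I := by
  have hfull := full_restrictScalars φ hφ
  refine ⟨fun {L} f hL => ?_⟩
  have hL' : ((DRing.restrictCx φ).obj L).Acyclic := by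
    intro i
    rw [HomologicalComplex.exactAt_iff_isZero_homology]
    exact ((ModuleCat.restrictScalars φ).map_isZero (hL i).isZero_homology).of_iso
      ((L.sc i).mapHomologyIso (ModuleCat.restrictScalars φ))
  obtain ⟨h⟩ := CochainComplex.IsKInjective.nonempty_homotopy_zero ((DRing.restrictCx φ).map f) hL'
  exact ⟨homotopyOfFullyFaithful (ModuleCat.restrictScalars.{u} φ) f h⟩

end Groth.Agent.S6920
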