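import Groth.Statements.S6921
import Groth.Agent.Lib.helper3.Milnor
-- import your own Groth.Agent.* helpers here

set_option autoImplicit false
universe u
open TensorProduct
open EtAlg

namespace Groth.Agent.S6921

open Groth.Agent.Lib.helper3.Milnor
section gen
variable {D' D C' C : Type u} [CommRing D'] [CommRing D] [CommRing C'] [CommRing C]
  [Algebra D' D] [Algebra D' C'] [Algebra D C] [Algebra C' C] [Algebra D' C]
  [IsScalarTower D' D C] [IsScalarTower D' C' C]
  {N M' : Type u} [AddCommGroup N] [Module D N] [Module D' N] [IsScalarTower D' D N]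
  [AddCommGroup M'] [Module C' M'] [Module D' M'] [IsScalarTower D' C' M']
  (φ : C ⊗[D] N ≃ₗ[C] C ⊗[C'] M')

theorem glueFst_surj (hs : Function.Surjective (algebraMap C' C)) :
    Function.Surjective (EtMil.glueFst D' φ) := by
  intro n
  obtain ⟨m', hm'⟩ := exists_one_tmul hs M' (φ ((1 : C) ⊗ₜ[D] n))
  exact ⟨⟨(n, m'), hm'⟩, rfl⟩

theorem exists_span_of_phi' (hs : Function.Surjective (algebraMap C' C)) (t : C ⊗[D] N) :
    ∃ y ∈ Submodule.span C' (Set.range (EtMil.glueSnd D' φ)), φ t = (1 : C) ⊗ₜ[C'] y := by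
  induction t using TensorProduct.induction_on with
  | zero => exact ⟨0, Submodule.zero_mem _, by simp⟩
  | tmul a n =>
    obtain ⟨a', rfl⟩ := hs a
    obtain ⟨g, rfl⟩ := glueFst_surj (D' := D') φ hs n
    refine ⟨a' • (EtMil.glueSnd D' φ g), Submodule.smul_mem _ _ (Submodule.subset_span ⟨g, rfl⟩), ?_⟩
    have h1 : (algebraMap C' C a') ⊗ₜ[D] (EtMil.glueFst D' φ g) =
        (algebraMap C' C a') • ((1 : C) ⊗ₜ[D] (EtMil.glueFst D' φ g)) := by
      rw [TensorProduct.smul_tmul', smul_eq_mul, mul_one]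
    have hg : φ ((1 : C) ⊗ₜ[D] (EtMil.glueFst D' φ g)) = (1 : C) ⊗ₜ[C'] (EtMil.glueSnd D' φ g) := g.2
    rw [h1, map_smul, hg, TensorProduct.smul_tmul', smul_eq_mul, mul_one, TensorProduct.tmul_smul,
      TensorProduct.smul_tmul', Algebra.smul_def, mul_one]
  | add t₁ t₂ h₁ h₂ =>
    obtain ⟨y₁, hy₁, e₁⟩ := h₁
    obtain ⟨y₂, hy₂, e₂⟩ := h₂
    exact ⟨y₁ + y₂, Submodule.add_mem _ hy₁ hy₂, by rw [map_add, e₁, e₂, tmul_add]⟩

theorem span_glueSnd' (hs : Function.Surjective (algebraMap C' C)) :
    Submodule.span C' (Set.range (EtMil.glueSnd D' φ)) = ⊤ := by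
  rw [eq_top_iff]
  intro m' _
  obtain ⟨y, hy, e⟩ := exists_span_of_phi' (D' := D') φ hs (φ.symm ((1 : C) ⊗ₜ[C'] m'))
  rw [LinearEquiv.apply_symm_apply] at e
  have h0 : (1 : C) ⊗ₜ[C'] (m' - y) = 0 := by rw [tmul_sub, e, sub_self]
  have h1 := mem_smul_top_of_one_tmul_eq_zero hs M' (m' - y) h0
  have h2 : m' - y ∈ Submodule.span C' (Set.range (EtMil.glueSnd D' φ)) :=
    Submodule.subset_span ⟨⟨((0 : N), m' - y), zero_mem_glue φ _ h1⟩, rfl⟩
  have : m' = (m' - y) + y := by abel
  rw [this]
  exact Submodule.add_mem _ h2 hy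

theorem finite_glue (hs : Function.Surjective (algebraMap C' C))
    (hD : Function.Surjective (algebraMap D' D))
    (hK : ∀ k : C', algebraMap C' C k = 0 →
      ∃ d' : D', algebraMap D' D d' = 0 ∧ algebraMap D' C' d' = k)
    [Module.Finite D N] [Module.Finite C' M'] : Module.Finite D' ↥(EtMil.glue D' φ) := by
  classical
  -- generators for N
  obtain ⟨S₁, hS₁⟩ := (Module.finite_def (R := D) (M := N)).1 inferInstance
  have hS₁' : Submodule.span D' (S₁ : Set N) = ⊤ := by
    rw [← Submodule.restrictScalars_span D' D hD, hS₁]; rfl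
  choose gN hgN using glueFst_surj (D' := D') φ hs
  -- generators for M'
  have hfg : (Submodule.span C' (Set.range (EtMil.glueSnd D' φ))).FG := by
    rw [span_glueSnd' φ hs]; exact (Module.finite_def (R := C') (M := M')).1 inferInstance
  obtain ⟨S₂, hS₂sub, hS₂⟩ := (Submodule.fg_span_iff_fg_span_finset_subset _).1 hfg
  rw [span_glueSnd' φ hs] at hS₂
  choose gM hgM using fun (m : M') (hm : m ∈ S₂) => hS₂sub hm
  let T : Finset (EtMil.glue D' φ) := S₁.image gN ∪ S₂.attach.image (fun m => gM m.1 m.2)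
  refine ⟨⟨T, ?_⟩⟩
  set P : Submodule D' (EtMil.glue D' φ) := Submodule.span D' (T : Set (EtMil.glue D' φ)) with hP
  have hT1 : ∀ n ∈ S₁, gN n ∈ P := fun n hn =>
    Submodule.subset_span (by
      simp only [T, Finset.coe_union, Finset.coe_image, Set.mem_union, Set.mem_image]
      exact Or.inl ⟨n, hn, rfl⟩)
  have hT2 : ∀ (m : M') (hm : m ∈ S₂), gM m hm ∈ P := fun m hm =>
    Submodule.subset_span (by
      simp only [T, Finset.coe_union, Finset.coe_image, Set.mem_union, Set.mem_image]
      exact Or.inr ⟨⟨m, hm⟩, Finset.mem_coe.2 (Finset.mem_attach _ _), rfl⟩)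
  -- step 1: the image of P in N is everything
  have hmap : Submodule.map (EtMil.glueFst D' φ) P = ⊤ := by
    rw [eq_top_iff, ← hS₁', Submodule.span_le]
    intro n hn
    exact ⟨gN n, hT1 n hn, hgN n⟩
  -- step 2: elements (0, k • m'') are in P
  have hker : ∀ m'' : M', ∀ k : C', algebraMap C' C k = 0 →
      ∀ h : ((0 : N), k • m'') ∈ EtMil.glue D' φ, (⟨((0 : N), k • m''), h⟩ : EtMil.glue D' φ) ∈ P := by
    intro m''
    have hm'' : m'' ∈ Submodule.span C' (S₂ : Set M') := by rw [← hS₂]; trivial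
    induction hm'' using Submodule.span_induction with
    | mem m hm =>
      intro k hk h
      obtain ⟨d', hd0, hdk⟩ := hK k hk
      have : (⟨((0 : N), k • m), h⟩ : EtMil.glue D' φ) = d' • gM m hm := by
        apply Subtype.ext
        have e1 : (gM m hm : N × M').2 = m := hgM m hm
        apply Prod.ext
        · show (0 : N) = d' • (gM m hm : N × M').1
          rw [← IsScalarTower.algebraMap_smul D d' (gM m hm : N × M').1, hd0, zero_smul]
        · show k • m = d' • (gM m hm : N × M').2
          rw [← IsScalarTower.algebraMap_smul C' d' (gM m hm : N × M').2, hdk, e1]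
      rw [this]
      exact Submodule.smul_mem _ _ (hT2 m hm)
    | zero =>
      intro k hk h
      have : (⟨((0 : N), k • (0 : M')), h⟩ : EtMil.glue D' φ) = 0 := by
        apply Subtype.ext
        simp
      rw [this]; exact zero_mem _
    | add x y _ _ hx hy =>
      intro k hk h
      have hx' : ((0 : N), k • x) ∈ EtMil.glue D' φ :=
        zero_mem_glue φ _ (Submodule.smul_mem_smul ((RingHom.mem_ker).2 hk) Submodule.mem_top)
      have hy' : ((0 : N), k • y) ∈ EtMil.glue D' φ :=
        zero_mem_glue φ _ (Submodule.smul_mem_smul ((RingHom.mem_ker).2 hk) Submodule.mem_top)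
      have : (⟨((0 : N), k • (x + y)), h⟩ : EtMil.glue D' φ) =
          ⟨((0 : N), k • x), hx'⟩ + ⟨((0 : N), k • y), hy'⟩ := by
        apply Subtype.ext
        simp [smul_add]
      rw [this]
      exact add_mem (hx k hk hx') (hy k hk hy')
    | smul c x _ hx =>
      intro k hk h
      have hkc : algebraMap C' C (k * c) = 0 := by rw [map_mul, hk, zero_mul]
      have hx' : ((0 : N), (k * c) • x) ∈ EtMil.glue D' φ :=
        zero_mem_glue φ _ (Submodule.smul_mem_smul ((RingHom.mem_ker).2 hkc) Submodule.mem_top)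
      have : (⟨((0 : N), k • (c • x)), h⟩ : EtMil.glue D' φ) = ⟨((0 : N), (k * c) • x), hx'⟩ := by
        apply Subtype.ext
        simp [mul_smul]
      rw [this]
      exact hx (k * c) hkc hx'
  -- step 3: ker glueFst ≤ P
  have hker' : ∀ m' : M', m' ∈ (RingHom.ker (algebraMap C' C)) • (⊤ : Submodule C' M') →
      ∀ h : ((0 : N), m') ∈ EtMil.glue D' φ, (⟨((0 : N), m'), h⟩ : EtMil.glue D' φ) ∈ P := by
    intro m' hm'
    induction hm' using Submodule.smul_induction_on' with
    | smul k hk m _ =>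
      intro h
      exact hker m k ((RingHom.mem_ker).1 hk) h
    | add x hx y hy ihx ihy =>
      intro h
      have hx' : ((0 : N), x) ∈ EtMil.glue D' φ := zero_mem_glue φ _ hx
      have hy' : ((0 : N), y) ∈ EtMil.glue D' φ := zero_mem_glue φ _ hy
      have : (⟨((0 : N), x + y), h⟩ : EtMil.glue D' φ) =
          ⟨((0 : N), x), hx'⟩ + ⟨((0 : N), y), hy'⟩ := by
        apply Subtype.ext
        simp
      rw [this]
      exact add_mem (ihx hx') (ihy hy')
  rw [eq_top_iff]
  intro g _
  obtain ⟨p, hp, hpg⟩ : EtMil.glueFst D' φ g ∈ Submodule.map (EtMil.glueFst D' φ) P := by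
    rw [hmap]; trivial
  have hgp : g = (g - p) + p := by abel
  rw [hgp]
  refine add_mem ?_ hp
  have hfst : EtMil.glueFst D' φ (g - p) = 0 := by rw [map_sub, hpg, sub_self]
  obtain ⟨⟨⟨n, m'⟩, hmem⟩, hx⟩ : ∃ x : EtMil.glue D' φ, x = g - p := ⟨_, rfl⟩
  rw [← hx] at hfst ⊢
  have hn : n = 0 := hfst
  subst hn
  have h1 : (1 : C) ⊗ₜ[C'] m' = 0 := by
    have := (mem_glue_iff φ _).mp hmem
    simp only [tmul_zero, map_zero] at this
    exact this.symm
  exact hker' m' (mem_smul_top_of_one_tmul_eq_zero hs M' m' h1) hmem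
end gen

section pushout
variable {B' B A' A : Type u} [CommRing B'] [CommRing B] [CommRing A'] [CommRing A]
    [Algebra B' B] [Algebra B' A'] [Algebra B A] [Algebra A' A] [Algebra B' A] [IsScalarTower B' B A] [IsScalarTower B' A' A]
    {D' D C' C : Type u} [CommRing D'] [CommRing D] [CommRing C'] [CommRing C]
    [Algebra B' D'] [Algebra B D] [Algebra A' C'] [Algebra A C]
    [Algebra D' D] [Algebra B' D] [IsScalarTower B' B D] [IsScalarTower B' D' D] [Algebra.IsPushout B' B D' D]
    [Algebra D' C'] [Algebra B' C'] [IsScalarTower B' A' C'] [IsScalarTower B' D' C'] [Algebra.IsPushout B' A' D' C']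
    [Algebra D' C] [Algebra B' C] [IsScalarTower B' A C] [IsScalarTower B' D' C] [Algebra.IsPushout B' A D' C]
    [Algebra D C] [IsScalarTower D' D C] [Algebra B C] [IsScalarTower B A C] [IsScalarTower B D C]
    [Algebra C' C] [IsScalarTower D' C' C] [Algebra A' C] [IsScalarTower A' A C] [IsScalarTower A' C' C]

/-- base change of a surjection is surjective (pushout form). -/
theorem surj_of_pushout {R S R' S' : Type u} [CommRing R] [CommRing S] [CommRing R'] [CommRing S']
    [Algebra R S] [Algebra R R'] [Algebra S S'] [Algebra R' S'] [Algebra R S']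
    [IsScalarTower R R' S'] [IsScalarTower R S S'] [Algebra.IsPushout R S R' S']
    (hs : Function.Surjective (algebraMap R S)) : Function.Surjective (algebraMap R' S') := by
  intro x
  have h : Algebra.IsPushout R S R' S' := inferInstance
  induction x using h.out.inductionOn with
  | zero => exact ⟨0, map_zero _⟩
  | tmul r' => exact ⟨r', rfl⟩
  | smul s x ih =>
    obtain ⟨y, rfl⟩ := ih
    obtain ⟨r, rfl⟩ := hs s
    refine ⟨algebraMap R R' r * y, ?_⟩
    rw [map_mul, Algebra.smul_def, ← IsScalarTower.algebraMap_apply, ← IsScalarTower.algebraMap_apply]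
  | add x y hx hy =>
    obtain ⟨x', rfl⟩ := hx
    obtain ⟨y', rfl⟩ := hy
    exact ⟨x' + y', map_add _ _ _⟩

theorem surj_C (B' A' A D' C' C : Type u) [CommRing B'] [CommRing A'] [CommRing A]
    [CommRing D'] [CommRing C'] [CommRing C] [Algebra B' A'] [Algebra A' A] [Algebra B' A]
    [IsScalarTower B' A' A] [Algebra B' D'] [Algebra A' C'] [Algebra A C]
    [Algebra D' C'] [Algebra B' C'] [IsScalarTower B' A' C'] [IsScalarTower B' D' C']
    [Algebra D' C] [Algebra B' C] [IsScalarTower B' A C] [IsScalarTower B' D' C] [Algebra.IsPushout B' A D' C]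
    [Algebra C' C] [IsScalarTower D' C' C] [Algebra A' C] [IsScalarTower A' A C] [IsScalarTower A' C' C]
    (hs : Function.Surjective (algebraMap A' A)) :
    Function.Surjective (algebraMap C' C) := by
  intro x
  have h : Algebra.IsPushout B' A D' C := inferInstance
  induction x using h.out.inductionOn with
  | zero => exact ⟨0, map_zero _⟩
  | tmul d' =>
    refine ⟨algebraMap D' C' d', ?_⟩
    rw [← IsScalarTower.algebraMap_apply]; rfl
  | smul a x ih =>
    obtain ⟨y, rfl⟩ := ih
    obtain ⟨a', rfl⟩ := hs a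
    refine ⟨algebraMap A' C' a' * y, ?_⟩
    rw [map_mul, Algebra.smul_def, ← IsScalarTower.algebraMap_apply A' C' C,
      ← IsScalarTower.algebraMap_apply A' A C]
  | add x y hx hy =>
    obtain ⟨x', rfl⟩ := hx
    obtain ⟨y', rfl⟩ := hy
    exact ⟨x' + y', map_add _ _ _⟩

theorem ker_lift (hsq : EtMil.IsFibreSquare B' B A' A) (k : C') (hk : algebraMap C' C k = 0) :
    ∃ d' : D', algebraMap D' D d' = 0 ∧ algebraMap D' C' d' = k := by
  let e' := Algebra.IsPushout.equiv B' A' D' C'
  let e := Algebra.IsPushout.equiv B' A D' C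
  let g : A' →ₗ[B'] A := (IsScalarTower.toAlgHom B' A' A).toLinearMap
  have hg : Function.Surjective g := hsq.1
  have hcomp : ∀ τ : A' ⊗[B'] D', e (g.rTensor D' τ) = algebraMap C' C (e' τ) := by
    intro τ
    induction τ using TensorProduct.induction_on with
    | zero => simp
    | tmul a' d' =>
      rw [LinearMap.rTensor_tmul]
      show e ((algebraMap A' A a') ⊗ₜ d') = _
      rw [Algebra.IsPushout.equiv_tmul, Algebra.IsPushout.equiv_tmul, map_mul,
        ← IsScalarTower.algebraMap_apply A' A C, ← IsScalarTower.algebraMap_apply A' C' C,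
        ← IsScalarTower.algebraMap_apply D' C' C]
    | add x y hx hy => rw [map_add, map_add, map_add, map_add, hx, hy]
  have hex := rTensor_exact D' (LinearMap.exact_subtype_ker_map g) hg
  have h0 : g.rTensor D' (e'.symm k) = 0 := by
    apply e.injective
    rw [hcomp, AlgEquiv.apply_symm_apply, hk, map_zero]
  obtain ⟨σ, hσ⟩ := (hex _).1 h0
  have hk' : k = e' ((LinearMap.ker g).subtype.rTensor D' σ) := by
    rw [hσ, AlgEquiv.apply_symm_apply]
  rw [hk']
  clear hk' hσ h0 hk
  induction σ using TensorProduct.induction_on with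
  | zero => exact ⟨0, map_zero _, by simp⟩
  | tmul i d' =>
    obtain ⟨i, hi⟩ := i
    have hi' : algebraMap A' A i = 0 := hi
    obtain ⟨c, hc0, hci⟩ := exists_of_mem_ker hsq i hi'
    refine ⟨algebraMap B' D' c * d', ?_, ?_⟩
    · rw [map_mul, ← IsScalarTower.algebraMap_apply, IsScalarTower.algebraMap_apply B' B D, hc0,
        map_zero, zero_mul]
    · rw [LinearMap.rTensor_tmul]
      show _ = e' (i ⊗ₜ d')
      rw [Algebra.IsPushout.equiv_tmul, map_mul, ← IsScalarTower.algebraMap_apply, ← hci,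
        ← IsScalarTower.algebraMap_apply]
  | add x y hx hy =>
    obtain ⟨x', hx0, hx1⟩ := hx
    obtain ⟨y', hy0, hy1⟩ := hy
    exact ⟨x' + y', by rw [map_add, hx0, hy0, add_zero], by
      rw [map_add, hx1, hy1, map_add, map_add]⟩

end pushout

/-- Let `B' = B ×_A A'` be a fibre square of rings with `A' → A` surjective, `B' → D'` a ring map, and
`D = D' ⊗_{B'} B`, `C' = D' ⊗_{B'} A'`, `C = D' ⊗_{B'} A`. Let `N` be a finite `D`-module, `M'` a
finite `C'`-module and `φ : N ⊗_D C ≅ M' ⊗_{C'} C` a `C`-linear isomorphism. Then the glued module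
`N ×_φ M'` is a finite `D'`-module. -/
theorem result (B' B A' A : Type u) [CommRing B'] [CommRing B] [CommRing A'] [CommRing A]
    [Algebra B' B] [Algebra B' A'] [Algebra B A] [Algebra A' A] [Algebra B' A] [IsScalarTower B' B A] [IsScalarTower B' A' A]
    (hsq : EtMil.IsFibreSquare B' B A' A)
    (D' D C' C : Type u) [CommRing D'] [CommRing D] [CommRing C'] [CommRing C]
    [Algebra B' D'] [Algebra B D] [Algebra A' C'] [Algebra A C]
    [Algebra D' D] [Algebra B' D] [IsScalarTower B' B D] [IsScalarTower B' D' D] [Algebra.IsPushout B' B D' D]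
    [Algebra D' C'] [Algebra B' C'] [IsScalarTower B' A' C'] [IsScalarTower B' D' C'] [Algebra.IsPushout B' A' D' C']
    [Algebra D' C] [Algebra B' C] [IsScalarTower B' A C] [IsScalarTower B' D' C] [Algebra.IsPushout B' A D' C]
    [Algebra D C] [IsScalarTower D' D C] [Algebra B C] [IsScalarTower B A C] [IsScalarTower B D C]
    [Algebra C' C] [IsScalarTower D' C' C] [Algebra A' C] [IsScalarTower A' A C] [IsScalarTower A' C' C]
    {N M' : Type u} [AddCommGroup N] [Module D N] [Module D' N] [IsScalarTower D' D N]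
    [AddCommGroup M'] [Module C' M'] [Module D' M'] [IsScalarTower D' C' M'] (φ : C ⊗[D] N ≃ₗ[C] C ⊗[C'] M')
    [Module.Finite D N] [Module.Finite C' M'] : Module.Finite D' ↥(EtMil.glue D' φ) := by
  apply finite_glue φ
  · exact surj_C B' A' A D' C' C hsq.1
  · exact surj_of_pushout (R := B') (S := B) (R' := D') (S' := D) (surjective_B hsq)
  · intro k hk
    exact ker_lift (B := B) (A := A) hsq k hk

end Groth.Agent.S6921
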