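import Groth.Statements.S6922
import Groth.Agent.Lib.helper3.Milnor
import Groth.Agent.Lib.helper3.MilnorFlat
import Groth.Agent.Lib.helper3.MilnorRel
import Groth.Agent.S6921
-- import your own Groth.Agent.* helpers here

set_option autoImplicit false
universe u
open TensorProduct
open EtAlg

namespace Groth.Agent.S6922

open Groth.Agent.Lib.helper3 in
/-- the general statement with all auxiliary `B'`-module structures as hypotheses. -/
theorem main (B' B A' A : Type u) [CommRing B'] [CommRing B] [CommRing A'] [CommRing A]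
    [Algebra B' B] [Algebra B' A'] [Algebra B A] [Algebra A' A] [Algebra B' A] [IsScalarTower B' B A] [IsScalarTower B' A' A]
    (hsq : EtMil.IsFibreSquare B' B A' A)
    (D' D C' C : Type u) [CommRing D'] [CommRing D] [CommRing C'] [CommRing C]
    [Algebra B' D'] [Algebra B D] [Algebra A' C'] [Algebra A C]
    [Algebra D' D] [Algebra B' D] [IsScalarTower B' B D] [IsScalarTower B' D' D] [Algebra.IsPushout B' B D' D]
    [Algebra D' C'] [Algebra B' C'] [IsScalarTower B' A' C'] [IsScalarTower B' D' C'] [Algebra.IsPushout B' A' D' C']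
    [Algebra D' C] [Algebra B' C] [IsScalarTower B' A C] [IsScalarTower B' D' C] [Algebra.IsPushout B' A D' C]
    [Algebra D C] [IsScalarTower D' D C] [Algebra B C] [IsScalarTower B A C] [IsScalarTower B D C]
    [Algebra C' C] [IsScalarTower D' C' C] [Algebra A' C] [IsScalarTower A' A C] [IsScalarTower A' C' C]
    {N M' : Type u} [AddCommGroup N] [Module D N] [Module D' N] [IsScalarTower D' D N]
    [AddCommGroup M'] [Module C' M'] [Module D' M'] [IsScalarTower D' C' M'] (φ : C ⊗[D] N ≃ₗ[C] C ⊗[C'] M')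
    [Module B N] [IsScalarTower B D N] [Module A' M'] [IsScalarTower A' C' M']
    [Module.FinitePresentation D N] [Module.Flat B N] [Module.FinitePresentation C' M'] [Module.Flat A' M']
    [Module B' N] [IsScalarTower B' B N] [IsScalarTower B' D' N]
    [Module B' M'] [IsScalarTower B' A' M'] [IsScalarTower B' D' M'] :
    Module.FinitePresentation D' ↥(EtMil.glue D' φ) := by
  classical
  -- the pushouts over `B` and `A'`
  haveI hT1 : IsScalarTower B' D C := IsScalarTower.of_algebraMap_eq fun x => by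
    rw [IsScalarTower.algebraMap_apply B' D' C, IsScalarTower.algebraMap_apply D' D C,
      ← IsScalarTower.algebraMap_apply B' D' D]
  haveI hT2 : IsScalarTower B' C' C := IsScalarTower.of_algebraMap_eq fun x => by
    rw [IsScalarTower.algebraMap_apply B' D' C, IsScalarTower.algebraMap_apply D' C' C,
      ← IsScalarTower.algebraMap_apply B' D' C']
  haveI hP1 : Algebra.IsPushout B A D C :=
    (Algebra.IsPushout.comp_iff B' B D' (S' := D) (T := A) (T' := C)).1 inferInstance
  haveI hP2 : Algebra.IsPushout A' A C' C :=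
    (Algebra.IsPushout.comp_iff B' A' D' (S' := C') (T := A) (T' := C)).1 inferInstance
  -- the glueing isomorphism over `A`
  let cN : C ⊗[D] N ≃ₗ[A] A ⊗[B] N := Algebra.IsPushout.cancelBaseChange B A D C N
  let cM : C ⊗[C'] M' ≃ₗ[A] A ⊗[A'] M' := Algebra.IsPushout.cancelBaseChange A' A C' C M'
  let ψ : A ⊗[B] N ≃ₗ[A] A ⊗[A'] M' := cN.symm ≪≫ₗ (φ.restrictScalars A) ≪≫ₗ cM
  have hcN : ∀ n : N, cN.symm ((1 : A) ⊗ₜ[B] n) = (1 : C) ⊗ₜ[D] n := by
    intro n
    rw [LinearEquiv.symm_apply_eq]
    exact (Algebra.IsPushout.cancelBaseChange_tmul B A D C N n).symm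
  have hcM : ∀ m : M', cM ((1 : C) ⊗ₜ[C'] m) = (1 : A) ⊗ₜ[A'] m := fun m =>
    Algebra.IsPushout.cancelBaseChange_tmul A' A C' C M' m
  have hmem : ∀ x : N × M', x ∈ EtMil.glue B' ψ ↔ x ∈ EtMil.glue D' φ := by
    intro x
    show ψ ((1 : A) ⊗ₜ[B] x.1) = (1 : A) ⊗ₜ[A'] x.2 ↔ φ ((1 : C) ⊗ₜ[D] x.1) = (1 : C) ⊗ₜ[C'] x.2
    have : ψ ((1 : A) ⊗ₜ[B] x.1) = cM (φ ((1 : C) ⊗ₜ[D] x.1)) := by
      show cM (φ (cN.symm _)) = _
      rw [hcN]
    rw [this, ← hcM x.2]
    exact cM.injective.eq_iff
  -- identify the two glued modules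
  let e : ↥(EtMil.glue D' φ) ≃ₗ[B'] ↥(EtMil.glue B' ψ) :=
    { toFun := fun x => ⟨x.1, (hmem x.1).2 x.2⟩
      invFun := fun x => ⟨x.1, (hmem x.1).1 x.2⟩
      map_add' := fun x y => rfl
      map_smul' := fun c x => rfl
      left_inv := fun x => rfl
      right_inv := fun x => rfl }
  -- flatness over `B'`
  let eN : B ⊗[B'] ↥(EtMil.glue B' ψ) ≃ₗ[B] N :=
    LinearEquiv.ofBijective _ (Milnor.liftFst_bijective ψ hsq)
  let eM : A' ⊗[B'] ↥(EtMil.glue B' ψ) ≃ₗ[A'] M' :=
    LinearEquiv.ofBijective _ (Milnor.liftSnd_bijective ψ hsq)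
  have hflatψ : Module.Flat B' ↥(EtMil.glue B' ψ) :=
    MilnorFlat.flat_of_hyp _ hsq ⟨Module.Flat.of_linearEquiv eN, Module.Flat.of_linearEquiv eM⟩
  haveI hflat : Module.Flat B' ↥(EtMil.glue D' φ) := Module.Flat.of_linearEquiv e
  haveI hfin : Module.Finite D' ↥(EtMil.glue D' φ) :=
    Groth.Agent.S6921.result B' B A' A hsq D' D C' C φ
  -- base changes
  have hγN : IsBaseChange B ((EtMil.glueFst D' φ).restrictScalars B') := by
    refine IsBaseChange.of_equiv ((e.baseChange B' B _ _) ≪≫ₗ eN) (fun x => ?_)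
    rw [LinearEquiv.trans_apply, LinearEquiv.baseChange_tmul]
    show LinearMap.liftBaseChange B (EtMil.glueFst B' ψ) ((1 : B) ⊗ₜ[B'] (e x)) = _
    rw [LinearMap.liftBaseChange_tmul, one_smul]
    rfl
  have hγM : IsBaseChange A' ((EtMil.glueSnd D' φ).restrictScalars B') := by
    refine IsBaseChange.of_equiv ((e.baseChange B' A' _ _) ≪≫ₗ eM) (fun x => ?_)
    rw [LinearEquiv.trans_apply, LinearEquiv.baseChange_tmul]
    show LinearMap.liftBaseChange A' (EtMil.glueSnd B' ψ) ((1 : A') ⊗ₜ[B'] (e x)) = _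
    rw [LinearMap.liftBaseChange_tmul, one_smul]
    rfl
  exact MilnorRel.finitePresentation_of_baseChange hsq D C' (EtMil.glueFst D' φ) hγN
    (EtMil.glueSnd D' φ) hγM

/-- In the relative situation (`B' = B ×_A A'` with `A' → A` surjective, `B' → D'`, `D = D' ⊗_{B'} B`,
`C' = D' ⊗_{B'} A'`, `C = D' ⊗_{B'} A`), let `N` be a flat `B`-module that is finitely presented as
a `D`-module and `M'` a flat `A'`-module that is finitely presented as a `C'`-module, with a
`C`-isomorphism `φ : N ⊗_D C ≅ M' ⊗_{C'} C`, and suppose `B' → D'` is the composite of a flat ring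
map `B' → D''` and a ring map `D'' → D'` of finite presentation. Then `N ×_φ M'` is finitely
presented over `D'`. -/
theorem result (B' B A' A : Type u) [CommRing B'] [CommRing B] [CommRing A'] [CommRing A]
    [Algebra B' B] [Algebra B' A'] [Algebra B A] [Algebra A' A] [Algebra B' A] [IsScalarTower B' B A] [IsScalarTower B' A' A]
    (hsq : EtMil.IsFibreSquare B' B A' A)
    (D' D C' C : Type u) [CommRing D'] [CommRing D] [CommRing C'] [CommRing C]
    [Algebra B' D'] [Algebra B D] [Algebra A' C'] [Algebra A C]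
    [Algebra D' D] [Algebra B' D] [IsScalarTower B' B D] [IsScalarTower B' D' D] [Algebra.IsPushout B' B D' D]
    [Algebra D' C'] [Algebra B' C'] [IsScalarTower B' A' C'] [IsScalarTower B' D' C'] [Algebra.IsPushout B' A' D' C']
    [Algebra D' C] [Algebra B' C] [IsScalarTower B' A C] [IsScalarTower B' D' C] [Algebra.IsPushout B' A D' C]
    [Algebra D C] [IsScalarTower D' D C] [Algebra B C] [IsScalarTower B A C] [IsScalarTower B D C]
    [Algebra C' C] [IsScalarTower D' C' C] [Algebra A' C] [IsScalarTower A' A C] [IsScalarTower A' C' C]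
    {N M' : Type u} [AddCommGroup N] [Module D N] [Module D' N] [IsScalarTower D' D N]
    [AddCommGroup M'] [Module C' M'] [Module D' M'] [IsScalarTower D' C' M'] (φ : C ⊗[D] N ≃ₗ[C] C ⊗[C'] M')
    [Module B N] [IsScalarTower B D N] [Module A' M'] [IsScalarTower A' C' M']
    [Module.FinitePresentation D N] [Module.Flat B N] [Module.FinitePresentation C' M'] [Module.Flat A' M']
    (D'' : Type u) [CommRing D''] [Algebra B' D''] [Algebra D'' D'] [IsScalarTower B' D'' D'] [Module.Flat B' D'']
    [Algebra.FinitePresentation D'' D'] :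
    Module.FinitePresentation D' ↥(EtMil.glue D' φ) := by
  letI mN : Module B' N := Module.compHom N (algebraMap B' B)
  have hN : ∀ (b' : B') (n : N), b' • n = algebraMap B' B b' • n := fun _ _ => rfl
  haveI tN : IsScalarTower B' B N := ⟨fun b' b n => by
    rw [Algebra.smul_def, mul_smul, hN]⟩
  haveI tN' : IsScalarTower B' D' N := ⟨fun b' d' n => by
    rw [Algebra.smul_def, mul_smul, hN, ← IsScalarTower.algebraMap_smul D (algebraMap B' D' b') (d' • n),
      ← IsScalarTower.algebraMap_apply B' D' D, IsScalarTower.algebraMap_apply B' B D,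
      IsScalarTower.algebraMap_smul]⟩
  letI mM : Module B' M' := Module.compHom M' (algebraMap B' A')
  have hM : ∀ (b' : B') (m : M'), b' • m = algebraMap B' A' b' • m := fun _ _ => rfl
  haveI tM : IsScalarTower B' A' M' := ⟨fun b' a m => by
    rw [Algebra.smul_def, mul_smul, hM]⟩
  haveI tM' : IsScalarTower B' D' M' := ⟨fun b' d' m => by
    rw [Algebra.smul_def, mul_smul, hM, ← IsScalarTower.algebraMap_smul C' (algebraMap B' D' b') (d' • m),
      ← IsScalarTower.algebraMap_apply B' D' C', IsScalarTower.algebraMap_apply B' A' C',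
      IsScalarTower.algebraMap_smul]⟩
  exact main B' B A' A hsq D' D C' C φ

end Groth.Agent.S6922
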