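import Groth.Statements.S6923
import Mathlib


set_option autoImplicit false
universe u
open Hensel

universe v

namespace H14S6923

open Matrix

section matnil

variable {B : Type u} [CommRing B] {N : ℕ}

theorem pow_entries_mem (X : Matrix (Fin N) (Fin N) B) (J : Ideal B) (hX : ∀ i j, X i j ∈ J) (k : ℕ) :
    ∀ i j, (X ^ k) i j ∈ J ^ k := by
  induction k with
  | zero =>
    intro i j
    simp
  | succ k ih =>
    intro i j
    rw [pow_succ X k, Matrix.mul_apply, pow_succ J k]
    exact Ideal.sum_mem _ (fun l _ => Ideal.mul_mem_mul (ih i l) (hX l j))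

theorem isNilpotent_of_entries (I : Ideal B) (hI : ∀ x ∈ I, IsNilpotent x)
    (X : Matrix (Fin N) (Fin N) B) (hX : ∀ i j, X i j ∈ I) : IsNilpotent X := by
  let J : Ideal B := Ideal.span (Set.range (fun p : Fin N × Fin N => X p.1 p.2))
  have hJfg : J.FG := Submodule.fg_span (Set.finite_range _)
  have hJI : J ≤ I := by
    rw [Ideal.span_le]
    rintro _ ⟨p, rfl⟩
    exact hX p.1 p.2
  have hJnil : IsNilpotent J := by
    rw [hJfg.isNilpotent_iff_le_nilradical]
    intro x hx
    exact (mem_nilradical).mpr (hI x (hJI hx))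
  obtain ⟨k, hk⟩ := hJnil
  refine ⟨k, ?_⟩
  ext i j
  have h := pow_entries_mem X J (fun i j => Ideal.subset_span ⟨(i, j), rfl⟩) k i j
  rw [hk] at h
  simpa using h

theorem sum_single (x : Fin N → B) : x = ∑ i, x i • (Pi.single i 1 : Fin N → B) := by
  conv_lhs => rw [pi_eq_sum_univ x]
  refine Finset.sum_congr rfl (fun i _ => ?_)
  congr 1
  ext k
  simp [Pi.single_apply, eq_comm]

end matnil

section flatnil

variable {B : Type u} [CommRing B]

theorem eq_zero_of_flat_nil (I : Ideal B) (hI : ∀ x ∈ I, IsNilpotent x)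
    {M : Type v} [AddCommGroup M] [Module B M] [Module.Flat B M] {N : ℕ}
    (g : (Fin N → B) →ₗ[B] M) (eL : (Fin N → B) →ₗ[B] (Fin N → B))
    (heL : ∀ x, eL (eL x) = eL x)
    (hs : Function.Surjective (g ∘ₗ eL))
    (hk : ∀ x, eL x = x → g x = 0 → ∀ k, x k ∈ I)
    (x : Fin N → B) (hx1 : eL x = x) (hx : g x = 0) : x = 0 := by
  have hxsum : x = ∑ i, x i • (Pi.single i 1 : Fin N → B) := sum_single x
  have hrel : ∑ i, x i • g (eL (Pi.single i 1)) = 0 := by
    have h0 : g (eL x) = 0 := by rw [hx1, hx]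
    rw [← h0]
    conv_rhs => rw [hxsum]
    simp only [map_sum, map_smul]
  obtain ⟨κ, a, y, hy, ha⟩ := Module.Flat.isTrivialRelation_of_sum_smul_eq_zero hrel
  choose c hc using fun j => hs (y j)
  let z : Fin N → (Fin N → B) := fun i => eL (Pi.single i 1 - ∑ j, a i j • c j)
  have hz1 : ∀ i, eL (z i) = z i := fun i => heL _
  have hz2 : ∀ i, g (z i) = 0 := by
    intro i
    simp only [z, map_sub, map_sum, map_smul]
    have : ∀ j, g (eL (c j)) = y j := hc
    simp only [this]
    rw [← hy i, sub_self]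
  let D : Matrix (Fin N) (Fin N) B := fun i k => z i k
  have hD : ∀ i k, D i k ∈ I := fun i k => hk (z i) (hz1 i) (hz2 i) k
  have hxz : x = ∑ i, x i • z i := by
    have h1 : ∑ i, x i • z i = ∑ i, x i • eL (Pi.single i 1) -
        ∑ j, (∑ i, x i * a i j) • eL (c j) := by
      simp only [z, map_sub, map_sum, map_smul, smul_sub, Finset.sum_sub_distrib]
      congr 1
      simp only [Finset.smul_sum, Finset.sum_smul, smul_smul]
      rw [Finset.sum_comm]
    rw [h1]
    simp only [ha, zero_smul, Finset.sum_const_zero, sub_zero]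
    have h2 : eL x = ∑ i, x i • eL (Pi.single i 1) := by
      conv_lhs => rw [hxsum]
      simp only [map_sum, map_smul]
    rw [← h2, hx1]
  have hx2 : Matrix.vecMul x D = x := by
    ext k
    conv_rhs => rw [hxz]
    simp only [Matrix.vecMul, dotProduct, D, Finset.sum_apply, Pi.smul_apply, smul_eq_mul]
  have hDnil := isNilpotent_of_entries I hI D hD
  have hu : IsUnit (1 - D) := hDnil.isUnit_one_sub
  have h6 : Matrix.vecMul x (1 - D) = 0 := by
    rw [Matrix.vecMul_sub, Matrix.vecMul_one, hx2, sub_self]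
  obtain ⟨U, hU⟩ := hu
  have h7 : x = Matrix.vecMul (Matrix.vecMul x (1 - D)) (↑U⁻¹ : Matrix (Fin N) (Fin N) B) := by
    rw [Matrix.vecMul_vecMul, ← hU, Units.mul_inv, Matrix.vecMul_one]
  rw [h7, h6, Matrix.zero_vecMul]

end flatnil

section stage

theorem nil_le_jacobson {B B₀ : Type u} [CommRing B] [CommRing B₀] (t : B →+* B₀)
    (hnil : ∀ x, t x = 0 → IsNilpotent x) :
    RingHom.ker t ≤ Ideal.jacobson (⊥ : Ideal B) := by
  intro x hx
  apply Ideal.radical_le_jacobson
  obtain ⟨k, hk⟩ := hnil x hx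
  exact ⟨k, by simp [hk]⟩

structure Stage (B : Type u) [CommRing B] (M : Type u) [AddCommGroup M] [Module B M] (N : ℕ) where
  E : Matrix (Fin N) (Fin N) B
  φ : (Fin N → B) →ₗ[B] M
  idem : E * E = E
  φE : ∀ x, φ (E.mulVec x) = φ x
  surj : Function.Surjective φ
  inj : ∀ x, E.mulVec x = x → φ x = 0 → x = 0

namespace Stage

variable {B : Type u} [CommRing B] {M : Type u} [AddCommGroup M] [Module B M] {N : ℕ}
  (S : Stage B M N)

theorem eq_of (x y : Fin N → B) (hx : S.E.mulVec x = x) (hy : S.E.mulVec y = y)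
    (h : S.φ x = S.φ y) : x = y := by
  have h1 : S.E.mulVec (x - y) = x - y := by
    rw [Matrix.mulVec_sub, hx, hy]
  have h2 : S.φ (x - y) = 0 := by rw [map_sub, h, sub_self]
  exact sub_eq_zero.mp (S.inj _ h1 h2)

theorem exists_rep (m : M) : ∃ y, S.E.mulVec y = y ∧ S.φ y = m := by
  obtain ⟨y, hy⟩ := S.surj m
  refine ⟨S.E.mulVec y, ?_, ?_⟩
  · rw [Matrix.mulVec_mulVec, S.idem]
  · rw [S.φE, hy]

end Stage

theorem exists_base (B : Type u) [CommRing B] (M : Type u) [AddCommGroup M] [Module B M]
    [Module.Finite B M] [Module.Projective B M] : ∃ N : ℕ, Nonempty (Stage B M N) := by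
  obtain ⟨N, g, hg⟩ := Module.Finite.exists_fin' B M
  obtain ⟨σ, hσ⟩ := Module.projective_lifting_property g LinearMap.id hg
  have hσ' : ∀ m, g (σ m) = m := fun m => LinearMap.congr_fun hσ m
  refine ⟨N, ⟨{ E := LinearMap.toMatrix' (σ ∘ₗ g), φ := g, idem := ?_, φE := ?_, surj := hg, inj := ?_ }⟩⟩
  · rw [← LinearMap.toMatrix'_comp]
    congr 1
    refine LinearMap.ext fun x => ?_
    simp [hσ']
  · intro x
    rw [LinearMap.toMatrix'_mulVec]
    simp [hσ']
  · intro x hx hx0
    rw [LinearMap.toMatrix'_mulVec] at hx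
    rw [← hx]
    simp [hx0]

theorem exists_step {B B₀ : Type u} [CommRing B] [CommRing B₀] (t : B →+* B₀)
    (ht : Function.Surjective t) (hnil : ∀ x, t x = 0 → IsNilpotent x)
    {M M₀ : Type u} [AddCommGroup M] [Module B M] [AddCommGroup M₀] [Module B₀ M₀]
    (hfin : Module.Finite B M) (hflat : Module.Flat B M)
    (u : M →ₛₗ[t] M₀) (hu : Function.Surjective u)
    (hker : LinearMap.ker u = RingHom.ker t • (⊤ : Submodule B M)) {N : ℕ} (S₀ : Stage B₀ M₀ N) :
    ∃ S : Stage B M N, S.E.map t = S₀.E ∧ ∀ x, u (S.φ x) = S₀.φ (fun i => t (x i)) := by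
  have hkernil : ∀ X ∈ RingHom.ker (RingHom.mapMatrix t : Matrix (Fin N) (Fin N) B →+* _),
      IsNilpotent X := by
    intro X hX
    apply isNilpotent_of_entries (RingHom.ker t) hnil
    intro i j
    rw [RingHom.mem_ker] at hX ⊢
    have := congr_fun (congr_fun hX i) j
    simpa using this
  have hrange : S₀.E ∈ (RingHom.mapMatrix t : Matrix (Fin N) (Fin N) B →+* _).range := by
    choose X hX using fun i j => ht (S₀.E i j)
    refine ⟨Matrix.of X, ?_⟩
    ext i j
    simp [hX]
  obtain ⟨E, hE, hEE⟩ := exists_isIdempotentElem_eq_of_ker_isNilpotent _ hkernil S₀.E hrange S₀.idem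
  have hEE' : E.map t = S₀.E := hEE
  have hcompat : ∀ x : Fin N → B, (fun i => t (E.mulVec x i)) = S₀.E.mulVec (fun i => t (x i)) := by
    intro x
    rw [← hEE']
    funext i
    rw [RingHom.map_mulVec]
    rfl
  have hlift : ∀ y₀ : Fin N → B₀, ∃ y : Fin N → B, (fun i => t (y i)) = y₀ := by
    intro y₀
    choose y hy using fun i => ht (y₀ i)
    exact ⟨y, funext hy⟩
  choose m hm using fun i => hu (S₀.φ (Pi.single i 1))
  let g : (Fin N → B) →ₗ[B] M := Fintype.linearCombination B m
  have hg : ∀ x, u (g x) = S₀.φ (fun i => t (x i)) := by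
    intro x
    rw [Fintype.linearCombination_apply, map_sum]
    conv_rhs => rw [sum_single (fun i => t (x i))]
    rw [map_sum]
    refine Finset.sum_congr rfl (fun i _ => ?_)
    rw [u.map_smulₛₗ, hm, map_smul]
  let φ : (Fin N → B) →ₗ[B] M := g ∘ₗ Matrix.toLin' E
  have hφ : ∀ x, φ x = g (E.mulVec x) := fun x => by
    simp only [φ, LinearMap.comp_apply, Matrix.toLin'_apply]
  have hφE : ∀ x, φ (E.mulVec x) = φ x := by
    intro x
    rw [hφ, hφ, Matrix.mulVec_mulVec, hE.eq]
  have hφu : ∀ x, u (φ x) = S₀.φ (fun i => t (x i)) := by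
    intro x
    rw [hφ, hg, hcompat, S₀.φE]
  have hsurj : Function.Surjective φ := by
    rw [← LinearMap.range_eq_top, eq_top_iff]
    apply Submodule.le_of_le_smul_of_le_jacobson_bot (I := RingHom.ker t) Module.Finite.fg_top
      (nil_le_jacobson t hnil)
    intro m' _
    obtain ⟨y₀, hy₀⟩ := S₀.surj (u m')
    obtain ⟨y, rfl⟩ := hlift y₀
    have h1 : u (φ y) = u m' := by rw [hφu, hy₀]
    have h2 : m' - φ y ∈ LinearMap.ker u := by
      rw [LinearMap.mem_ker, map_sub, h1, sub_self]
    rw [hker] at h2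
    have h3 : m' = φ y + (m' - φ y) := by abel
    rw [h3]
    exact Submodule.add_mem_sup ⟨y, rfl⟩ h2
  have hinj : ∀ x, E.mulVec x = x → φ x = 0 → x = 0 := by
    intro x hx1 hx0
    refine eq_zero_of_flat_nil (RingHom.ker t) (fun x hx => hnil x hx) φ (Matrix.toLin' E)
      ?_ ?_ ?_ x ?_ hx0
    · intro x
      simp only [Matrix.toLin'_apply, Matrix.mulVec_mulVec, hE.eq]
    · intro m'
      obtain ⟨y, hy⟩ := hsurj m'
      refine ⟨y, ?_⟩
      simp only [LinearMap.comp_apply, Matrix.toLin'_apply]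
      rw [hφE, hy]
    · intro x hx1 hx0 k
      rw [Matrix.toLin'_apply] at hx1
      have h1 : S₀.φ (fun i => t (x i)) = 0 := by rw [← hφu, hx0, map_zero]
      have h2 : S₀.E.mulVec (fun i => t (x i)) = (fun i => t (x i)) := by
        rw [← hcompat, hx1]
      have h3 := S₀.inj _ h2 h1
      rw [RingHom.mem_ker]
      exact congr_fun h3 k
    · rw [Matrix.toLin'_apply]
      exact hx1
  exact ⟨{ E := E, φ := φ, idem := hE.eq, φE := hφE, surj := hsurj, inj := hinj }, hEE', hφu⟩

end stage

section invsys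

theorem exists_compatible : ∀ (n : ℕ) (X : ℕ → Type u) (f : ∀ n, X (n + 1) → X n)
    (_ : ∀ n, Function.Surjective (f n)) (a : X n),
    ∃ x : ∀ k, X k, (∀ k, f k (x (k + 1)) = x k) ∧ x n = a := by
  intro n
  induction n with
  | zero =>
    intro X f hf a
    refine ⟨fun k => Nat.rec a (fun k xk => Classical.choose (hf k xk)) k, ?_, rfl⟩
    intro k
    exact Classical.choose_spec (hf k _)
  | succ n ih =>
    intro X f hf a
    obtain ⟨x', hx', hxa⟩ := ih (fun k => X (k + 1)) (fun k => f (k + 1)) (fun k => hf (k + 1)) a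
    refine ⟨fun k => Nat.casesOn k (f 0 (x' 0)) x', ?_, hxa⟩
    intro k
    cases k with
    | zero => rfl
    | succ k => exact hx' k

end invsys

section main

theorem main (A : Type u) [CommRing A] (An : ℕ → Type u)
    [∀ n, CommRing (An n)] (t : ∀ n, An (n + 1) →+* An n) (π : ∀ n, A →+* An n)
    (ht : ∀ n, Function.Surjective (t n)) (hnil : ∀ n (x : An (n + 1)), t n x = 0 → IsNilpotent x)
    (hA1 : ∀ n, (t n).comp (π (n + 1)) = π n)
    (hA2 : ∀ a b : A, (∀ n, π n a = π n b) → a = b)
    (hA3 : ∀ x : ∀ n, An n, (∀ n, t n (x (n + 1)) = x n) → ∃ a : A, ∀ n, π n a = x n)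
    (M : ℕ → Type u) [∀ n, AddCommGroup (M n)] [∀ n, Module (An n) (M n)]
    (u : ∀ n, M (n + 1) →ₛₗ[t n] M n)
    [Module.Projective (An 0) (M 0)] (hfin : ∀ n, Module.Finite (An n) (M n))
    (hflat : ∀ n, Module.Flat (An n) (M n))
    (hu : ∀ n, Function.Surjective (u n) ∧
      LinearMap.ker (u n) = RingHom.ker (t n) • (⊤ : Submodule (An (n + 1)) (M (n + 1)))) :
    ∃ (P : Type u) (_ : AddCommGroup P) (_ : Module A P) (p : ∀ n, P →ₛₗ[π n] M n),
      Module.Finite A P ∧ Module.Projective A P ∧ (∀ n (x : P), u n (p (n + 1) x) = p n x) ∧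
      (∀ n, Function.Surjective (p n) ∧
        LinearMap.ker (p n) = RingHom.ker (π n) • (⊤ : Submodule A P)) ∧
      (∀ x : (∀ n, M n), (∀ n, u n (x (n + 1)) = x n) → ∃! q : P, ∀ n, p n q = x n) := by
  haveI := hfin 0
  obtain ⟨N, ⟨S0⟩⟩ := exists_base (An 0) (M 0)
  obtain ⟨S, hS⟩ : ∃ S : ∀ n, Stage (An n) (M n) N, ∀ n, (S (n + 1)).E.map (t n) = (S n).E ∧
      ∀ x, u n ((S (n + 1)).φ x) = (S n).φ (fun i => t n (x i)) := by
    refine ⟨fun n => Nat.rec S0 (fun n Sn =>
      Classical.choose (exists_step (t n) (ht n) (hnil n) (hfin (n + 1)) (hflat (n + 1)) (u n)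
        (hu n).1 (hu n).2 Sn)) n, fun n => ?_⟩
    exact Classical.choose_spec (exists_step (t n) (ht n) (hnil n) (hfin (n + 1)) (hflat (n + 1))
      (u n) (hu n).1 (hu n).2 _)
  have hπt : ∀ n a, t n (π (n + 1) a) = π n a := fun n a => RingHom.congr_fun (hA1 n) a
  have hEcompat : ∀ i j n, t n ((S (n + 1)).E i j) = (S n).E i j := by
    intro i j n
    have := congr_fun (congr_fun (hS n).1 i) j
    simpa using this
  choose E hE using fun i j => hA3 (fun n => (S n).E i j) (hEcompat i j)
  let EA : Matrix (Fin N) (Fin N) A := Matrix.of E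
  have hEmap : ∀ n, EA.map (π n) = (S n).E := by
    intro n
    ext i j
    simp [EA, hE]
  have hEidem : EA * EA = EA := by
    ext i j
    apply hA2
    intro n
    have h1 : π n ((EA * EA) i j) = ((EA * EA).map (π n)) i j := rfl
    have h2 : π n (EA i j) = (EA.map (π n)) i j := rfl
    rw [h1, h2, Matrix.map_mul, hEmap, (S n).idem]
  have hmulVec : ∀ n (x : Fin N → A),
      (fun i => π n (EA.mulVec x i)) = (S n).E.mulVec (fun i => π n (x i)) := by
    intro n x
    rw [← hEmap]
    funext i
    rw [RingHom.map_mulVec]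
    rfl
  let eL : (Fin N → A) →ₗ[A] (Fin N → A) := Matrix.toLin' EA
  let P : Submodule A (Fin N → A) := LinearMap.range eL
  have hP : ∀ x : P, EA.mulVec x.1 = x.1 := by
    rintro ⟨_, y, rfl⟩
    simp only [eL, Matrix.toLin'_apply, Matrix.mulVec_mulVec, hEidem]
  have hPmem : ∀ z : Fin N → A, EA.mulVec z = z → z ∈ P := by
    intro z hz
    exact ⟨z, by simp only [eL, Matrix.toLin'_apply, hz]⟩
  let p : ∀ n, P →ₛₗ[π n] M n := fun n =>
    { toFun := fun x => (S n).φ (fun i => π n (x.1 i))
      map_add' := fun x y => by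
        rw [← map_add]
        congr 1
        funext i
        simp
      map_smul' := fun r x => by
        rw [← map_smul]
        congr 1
        funext i
        simp }
  have hp : ∀ n (x : P), p n x = (S n).φ (fun i => π n (x.1 i)) := fun n x => rfl
  have hπsurj : ∀ n, Function.Surjective (π n) := by
    intro n a
    obtain ⟨x, hx, hxa⟩ := exists_compatible n An (fun n => t n) ht a
    obtain ⟨a', ha'⟩ := hA3 x hx
    exact ⟨a', by rw [ha', hxa]⟩
  have hfix : ∀ n (x : P), (S n).E.mulVec (fun i => π n (x.1 i)) = (fun i => π n (x.1 i)) := by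
    intro n x
    rw [← hmulVec, hP]
  refine ⟨P, inferInstance, inferInstance, p, ?_, ?_, ?_, ?_, ?_⟩
  · exact Module.Finite.range eL
  · refine Module.Projective.of_split P.subtype eL.rangeRestrict ?_
    refine LinearMap.ext fun x => ?_
    apply Subtype.ext
    show eL x.1 = x.1
    simp only [eL, Matrix.toLin'_apply, hP]
  · intro n x
    show u n ((S (n + 1)).φ (fun i => π (n + 1) (x.1 i))) = (S n).φ (fun i => π n (x.1 i))
    rw [(hS n).2]
    congr 1
    funext i
    exact hπt n _
  · intro n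
    refine ⟨?_, ?_⟩
    · intro m
      obtain ⟨y, hy⟩ := (S n).surj m
      choose z hz using fun i => hπsurj n (y i)
      refine ⟨⟨eL z, LinearMap.mem_range_self eL z⟩, ?_⟩
      rw [hp]
      show (S n).φ (fun i => π n ((eL z) i)) = m
      simp only [eL, Matrix.toLin'_apply]
      rw [hmulVec, (S n).φE]
      have : (fun i => π n (z i)) = y := funext hz
      rw [this, hy]
    · apply le_antisymm
      · intro x hx
        rw [LinearMap.mem_ker, hp] at hx
        have h0 := (S n).inj _ (hfix n x) hx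
        have hxk : ∀ i, x.1 i ∈ RingHom.ker (π n) := fun i => by
          rw [RingHom.mem_ker]
          exact congr_fun h0 i
        have hxsum : x = ∑ i, x.1 i • (⟨eL (Pi.single i 1), LinearMap.mem_range_self eL _⟩ : P) := by
          apply Subtype.ext
          rw [Submodule.coe_sum]
          simp only [Submodule.coe_smul]
          have h1 : x.1 = eL x.1 := by
            simp only [eL, Matrix.toLin'_apply, hP]
          conv_lhs => rw [h1, sum_single x.1]
          simp only [map_sum, map_smul]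
        rw [hxsum]
        exact Submodule.sum_mem _ (fun i _ => Submodule.smul_mem_smul (hxk i) Submodule.mem_top)
      · rw [Submodule.smul_le]
        intro r hr x _
        rw [LinearMap.mem_ker, (p n).map_smulₛₗ, (RingHom.mem_ker).mp hr, zero_smul]
  · intro x hx
    choose y hy1 hy2 using fun n => (S n).exists_rep (x n)
    have hycompat : ∀ n, (fun i => t n (y (n + 1) i)) = y n := by
      intro n
      apply (S n).eq_of _ _ _ (hy1 n)
      · rw [← (hS n).2, hy2 (n + 1), hy2 n, hx]
      · have h1 : (fun i => t n (y (n + 1) i)) =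
            (fun i => t n ((S (n + 1)).E.mulVec (y (n + 1)) i)) := by rw [hy1]
        conv_rhs => rw [h1]
        rw [← (hS n).1]
        funext i
        rw [RingHom.map_mulVec]
        rfl
    choose z hz using fun i => hA3 (fun n => y n i) (fun n => congr_fun (hycompat n) i)
    have hzy : ∀ n, (fun i => π n (z i)) = y n := fun n => funext (fun i => hz i n)
    have hzfix : EA.mulVec z = z := by
      funext i
      apply hA2
      intro n
      have := congr_fun (hmulVec n z) i
      rw [this, hzy, hy1]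
      exact (hz i n).symm
    refine ⟨⟨z, hPmem z hzfix⟩, ?_, ?_⟩
    · intro n
      show (S n).φ (fun i => π n (z i)) = x n
      rw [hzy, hy2]
    · intro q hq
      apply Subtype.ext
      funext i
      apply hA2
      intro n
      have h1 : (fun i => π n (q.1 i)) = y n := by
        apply (S n).eq_of _ _ (hfix n q) (hy1 n)
        rw [hy2, ← hp, hq]
      have := congr_fun h1 i
      rw [this]
      exact (hz i n).symm

end main

end H14S6923

namespace Groth.Agent.S6923

/-- Let `A = lim A_n` be the limit of an inverse system of rings `(A_n)_{n ≥ 0}` in which each map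
`A_{n+1} → A_n` is onto and every element of its kernel is nilpotent. Let `M_n` be `A_n`-modules
with compatible maps `M_{n+1} → M_n` such that `M_0` is finite projective, every `M_n` is finite and
flat over `A_n`, and the maps induce isomorphisms `M_{n+1} ⊗_{A_{n+1}} A_n → M_n` (i.e. are
surjective with kernel `Ker(A_{n+1} → A_n) M_{n+1}`). Then the inverse limit of the `M_n` is a
finitely generated projective `A`-module whose base change to each `A_n` maps onto `M_n`
isomorphically: there is a finite projective `A`-module `P` with compatible maps `P → M_n`, each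
surjective with kernel `Ker(A → A_n) P`, through which `P` maps bijectively onto the compatible
sequences in `∏ M_n`. -/
theorem result (A : Type u) [CommRing A] (An : ℕ → Type u)
    [∀ n, CommRing (An n)] (t : ∀ n, An (n + 1) →+* An n) (π : ∀ n, A →+* An n)
    (ht : ∀ n, Function.Surjective (t n)) (hnil : ∀ n (x : An (n + 1)), t n x = 0 → IsNilpotent x)
    (hA : FlatCA.IsRingLimit A An t π)
    (M : ℕ → Type u) [∀ n, AddCommGroup (M n)] [∀ n, Module (An n) (M n)] (u : ∀ n, M (n + 1) →ₛₗ[t n] M n)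
    [Module.Projective (An 0) (M 0)] (hfin : ∀ n, Module.Finite (An n) (M n)) (hflat : ∀ n, Module.Flat (An n) (M n))
    (hu : ∀ n, Function.Surjective (u n) ∧ LinearMap.ker (u n) = RingHom.ker (t n) • (⊤ : Submodule (An (n + 1)) (M (n + 1)))) :
    ∃ (P : Type u) (_ : AddCommGroup P) (_ : Module A P) (p : ∀ n, P →ₛₗ[π n] M n),
      Module.Finite A P ∧ Module.Projective A P ∧ (∀ n (x : P), u n (p (n + 1) x) = p n x) ∧
      (∀ n, Function.Surjective (p n) ∧ LinearMap.ker (p n) = RingHom.ker (π n) • (⊤ : Submodule A P)) ∧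
      (∀ x : (∀ n, M n), (∀ n, u n (x (n + 1)) = x n) → ∃! q : P, ∀ n, p n q = x n) := by
  obtain ⟨hA1, hA2, hA3⟩ := hA
  exact H14S6923.main A An t π ht hnil hA1 hA2 hA3 M u hfin hflat hu

end Groth.Agent.S6923
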