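import Groth.Statements.S6924
import Mathlib
import Groth.Agent.Lib.helper27.FitBlow
import Groth.Agent.S6895

set_option autoImplicit false
universe u
open TensorProduct
open Fitt

namespace Groth.Agent.S6924aux

open Groth.Agent.Lib.helper27.Fitting Groth.Agent.Lib.helper27.FitBlow TensorProduct


variable {R : Type u} [CommRing R] (M : Type u) [AddCommGroup M] [Module R M] [Module.Finite R M]

lemma nontrivial_away {p : Ideal R} [p.IsPrime] {f : R} (hf : f ∉ p) :
    Nontrivial (Localization.Away f) := by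
  by_contra h
  rw [not_nontrivial_iff_subsingleton] at h
  have h0 : (0 : R) ∈ Submonoid.powers f := by
    have : algebraMap R (Localization.Away f) 1 = 0 := Subsingleton.elim _ _
    rw [IsLocalization.map_eq_zero_iff (Submonoid.powers f)] at this
    obtain ⟨s, hs⟩ := this
    rw [mul_one] at hs
    rw [← hs]; exact s.2
  obtain ⟨m, hm⟩ := h0
  have hm' : f ^ m = 0 := hm
  exact hf (Ideal.IsPrime.mem_of_pow_mem inferInstance m (by rw [hm']; exact p.zero_mem))

variable (f : R) (r : ℕ)
  (hf : ∀ (p : Ideal R) [p.IsPrime], f ∉ p → ∃ g : R, g ∉ p ∧ g ∈ (Ideal.span {f}).radical ∧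
      Module.Free (Localization.Away g) (LocalizedModule (Submonoid.powers g) M) ∧
        Module.finrank (Localization.Away g) (LocalizedModule (Submonoid.powers g) M) = r)

include hf in
lemma f_mem_radical : f ∈ (Fitt.ideal R M r).radical := by
  rw [Ideal.radical_eq_sInf, Ideal.mem_sInf]
  rintro q ⟨hle, hq⟩
  by_contra hfq
  obtain ⟨g, hg, -, hfree, hrank⟩ := hf q hfq
  have : Nontrivial (Localization.Away g) := nontrivial_away hg
  let b := Module.finBasisOfFinrankEq (Localization.Away g)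
    (LocalizedModule (Submonoid.powers g) M) hrank
  have h1 := ideal_eq_top_of_basis b (le_refl r)
  rw [ideal_localizedModule] at h1
  have h2 := (IsLocalization.map_algebraMap_ne_top_iff_disjoint (Submonoid.powers g)
    (Localization.Away g) (Fitt.ideal R M r)).not.1 (by simpa using h1)
  rw [Set.not_disjoint_iff] at h2
  obtain ⟨s, ⟨m, rfl⟩, hs2⟩ := h2
  exact hg (Ideal.IsPrime.mem_of_pow_mem inferInstance m (hle hs2))

include hf in
lemma exists_pow_kill (j : ℕ) (hj : j < r) (c : R) (hc : c ∈ Fitt.ideal R M j) :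
    ∃ N : ℕ, f ^ N * c = 0 := by
  have hrad : f ∈ ((Ideal.span {c}).annihilator).radical := by
    rw [Ideal.radical_eq_sInf, Ideal.mem_sInf]
    rintro p ⟨hJp, hp⟩
    by_contra hfp
    obtain ⟨g, hg, -, hfree, hrank⟩ := hf p hfp
    have : Nontrivial (Localization.Away g) := nontrivial_away hg
    let b := Module.finBasisOfFinrankEq (Localization.Away g)
      (LocalizedModule (Submonoid.powers g) M) hrank
    have h1 := ideal_eq_bot_of_basis b hj
    rw [ideal_localizedModule, eq_bot_iff] at h1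
    have h2 : algebraMap R (Localization.Away g) c = 0 := by
      have := h1 (Ideal.mem_map_of_mem _ hc)
      simpa using this
    rw [IsLocalization.map_eq_zero_iff (Submonoid.powers g)] at h2
    obtain ⟨⟨s, m, rfl⟩, hs⟩ := h2
    have hmem : g ^ m ∈ (Ideal.span {c}).annihilator := by
      rw [Submodule.mem_annihilator_span_singleton]
      simpa using hs
    exact hg (Ideal.IsPrime.mem_of_pow_mem inferInstance m (hJp hmem))
  obtain ⟨N, hN⟩ := hrad
  rw [Submodule.mem_annihilator_span_singleton] at hN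
  exact ⟨N, by simpa using hN⟩

include hf in
theorem main : ∃ I : Ideal R, I.FG ∧ I.radical = (Ideal.span {f}).radical ∧ ∀ a ∈ I,
    ∀ (R₁ : Type u) [CommRing R₁] [Algebra R R₁] (e : R₁ ≃ₐ[R] ↥(BlowUp.affineAlgebra R I a)),
      ∀ (p' : Ideal R₁) [p'.IsPrime], ∃ g : R₁, g ∉ p' ∧
        Module.Free (Localization.Away g) (LocalizedModule (Submonoid.powers g)
          ((R₁ ⊗[R] M) ⧸ FlatCA.powTorsion R₁ (algebraMap R R₁ a) (R₁ ⊗[R] M))) ∧
        Module.finrank (Localization.Away g) (LocalizedModule (Submonoid.powers g)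
          ((R₁ ⊗[R] M) ⧸ FlatCA.powTorsion R₁ (algebraMap R R₁ a) (R₁ ⊗[R] M))) = r := by
  classical
  obtain ⟨n, x, hx⟩ := Module.Finite.exists_fin (R := R) (M := M)
  obtain ⟨N, hN⟩ := f_mem_radical M f r hf
  rw [ideal_eq_minors x hx r] at hN
  obtain ⟨T, hT, hfT⟩ := Submodule.mem_span_finite_of_mem_span hN
  have hch : ∀ d : T, ∃ (z : Fin (n - r) → Fin n → R) (ε : Fin (n - r) → Fin n),
      (∀ c, ∑ i, z c i • x i = 0) ∧ (d : R) = (Matrix.of fun a c => z c (ε a)).det :=
    fun d => hT d.2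
  choose zz εε hzz hdd using hch
  set Z₀ : Set (Fin n → R) := ⋃ d : T, Set.range (zz d) with hZ₀
  have hZ₀fin : Z₀.Finite := Set.finite_iUnion (fun d => Set.finite_range _)
  set K : Submodule R (Fin n → R) := Submodule.span R Z₀ with hK
  have hKfg : K.FG := ⟨hZ₀fin.toFinset, by simp [hK]⟩
  have hKrel : ∀ z ∈ K, ∑ i, z i • x i = 0 := by
    have : K ≤ LinearMap.ker (Fintype.linearCombination R x) := by
      apply Submodule.span_le.2
      rintro z hz
      obtain ⟨d, c, rfl⟩ := Set.mem_iUnion.1 hz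
      rw [SetLike.mem_coe, LinearMap.mem_ker, Fintype.linearCombination_apply]
      exact hzz d c
    intro z hz
    have := this hz
    rwa [LinearMap.mem_ker, Fintype.linearCombination_apply] at this
  set J : Ideal R := Ideal.span {d : R | ∃ (z : Fin (n - r) → Fin n → R) (ε : Fin (n - r) → Fin n),
      (∀ c, z c ∈ K) ∧ d = (Matrix.of fun a c => z c (ε a)).det} with hJ
  have hJfg : J.FG := span_minors_fg R K hKfg (n - r)
  have hfJ : f ^ N ∈ J := by
    have hTJ : (T : Set R) ⊆ J := by
      intro d hd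
      apply Ideal.subset_span
      refine ⟨zz ⟨d, hd⟩, εε ⟨d, hd⟩, fun c => ?_, hdd ⟨d, hd⟩⟩
      exact Submodule.subset_span (Set.mem_iUnion.2 ⟨⟨d, hd⟩, c, rfl⟩)
    exact (Ideal.span_le.2 hTJ) hfT
  refine ⟨Ideal.span {f} * J, ?_, ?_, ?_⟩
  · exact Ideal.FG.mul ⟨{f}, by simp⟩ hJfg
  · apply le_antisymm
    · exact Ideal.radical_mono Ideal.mul_le_left
    · rw [Ideal.radical_le_radical_iff, Ideal.span_singleton_le_iff_mem]
      refine ⟨N + 1, ?_⟩
      rw [pow_succ']
      exact Ideal.mul_mem_mul (Ideal.mem_span_singleton_self f) hfJ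
  · intro a ha R₁ _ _ e p' _
    set a' := algebraMap R R₁ a with ha'
    set f' := algebraMap R R₁ f with hf'
    have hnzd : ∀ t : R₁, a' * t = 0 → t = 0 := a_nzd _ a R₁ e
    have hfnzd : ∀ t : R₁, f' * t = 0 → t = 0 := by
      intro t ht
      have h1 : a ∈ Ideal.span {f} := Ideal.mul_le_left ha
      rw [Ideal.mem_span_singleton'] at h1
      obtain ⟨u, hu⟩ := h1
      apply hnzd
      rw [ha', ← hu, map_mul, mul_assoc, ← hf', ht, mul_zero]
    have hfnzd' : ∀ (m : ℕ) (t : R₁), f' ^ m * t = 0 → t = 0 := by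
      intro m
      induction m with
      | zero => intro t ht; simpa using ht
      | succ m ih =>
        intro t ht
        apply ih
        apply hfnzd
        rw [← mul_assoc, ← pow_succ']
        exact ht
    have hbot : ∀ j, j < r → Fitt.ideal R₁ ((R₁ ⊗[R] M) ⧸
        FlatCA.powTorsion R₁ a' (R₁ ⊗[R] M)) j = ⊥ := by
      intro j hj
      apply fitt_strict_eq_bot R M R₁ j a' hnzd
      rw [eq_bot_iff, Ideal.map_le_iff_le_comap]
      intro c hc
      obtain ⟨m, hm⟩ := exists_pow_kill M f r hf j hj c hc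
      rw [Ideal.mem_comap, Ideal.mem_bot]
      apply hfnzd' m
      rw [hf', ← map_pow, ← map_mul, hm, map_zero]
    set P : Set (Fin (n - r) → Fin n → R) := {z | ∀ c, z c ∈ K} with hP
    have hdiv : ∀ z ∈ P, ∀ ε : Fin (n - r) → Fin n, ∃ b : R₁,
        a' * b = algebraMap R R₁ (f * (Matrix.of fun a c => z c (ε a)).det) := by
      intro z hz ε
      apply exists_div _ a R₁ e
      exact Ideal.mul_mem_mul (Ideal.mem_span_singleton_self f)
        (Ideal.subset_span ⟨z, ε, hz, rfl⟩)
    have hspan : Ideal.span {b : R₁ | ∃ z ∈ P, ∃ ε : Fin (n - r) → Fin n,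
        a' * b = algebraMap R R₁ (f * (Matrix.of fun a c => z c (ε a)).det)} = ⊤ := by
      set B := {b : R₁ | ∃ z ∈ P, ∃ ε : Fin (n - r) → Fin n,
        a' * b = algebraMap R R₁ (f * (Matrix.of fun a c => z c (ε a)).det)} with hB
      have hle : (Ideal.span {f} * J).map (algebraMap R R₁) ≤ Ideal.span {a'} * Ideal.span B := by
        rw [Ideal.map_mul, Ideal.map_span, hJ, Ideal.map_span, Ideal.span_mul_span']
        apply Ideal.span_le.2
        rintro _ ⟨_, ⟨s, hs, rfl⟩, _, ⟨d, ⟨z, ε, hz, rfl⟩, rfl⟩, rfl⟩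
        rw [Set.mem_singleton_iff] at hs
        subst hs
        obtain ⟨b, hb⟩ := hdiv z hz ε
        rw [SetLike.mem_coe]
        show (algebraMap R R₁) s * (algebraMap R R₁) (Matrix.of fun a c => z c (ε a)).det ∈ _
        rw [← map_mul, ← hb]
        exact Ideal.mul_mem_mul (Ideal.mem_span_singleton_self a')
          (Ideal.subset_span ⟨z, hz, ε, hb⟩)
      have h1 : a' ∈ Ideal.span {a'} * Ideal.span B := hle (Ideal.mem_map_of_mem _ ha)
      rw [Ideal.mem_span_singleton_mul] at h1
      obtain ⟨t, ht, hat⟩ := h1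
      have h2 : t - 1 = 0 := hnzd (t - 1) (by rw [mul_sub, hat, mul_one, sub_self])
      rw [Ideal.eq_top_iff_one, ← sub_eq_zero.1 h2]
      exact ht
    have htop : Fitt.ideal R₁ ((R₁ ⊗[R] M) ⧸ FlatCA.powTorsion R₁ a' (R₁ ⊗[R] M)) r = ⊤ :=
      fitt_strict_eq_top_of R M R₁ x hx r a' hnzd f P (fun z hz c => hKrel _ (hz c)) hdiv hspan
    exact (Groth.Agent.S6895.result ((R₁ ⊗[R] M) ⧸
      FlatCA.powTorsion R₁ a' (R₁ ⊗[R] M)) r).2
      ⟨hbot, fun j hj => by rw [eq_top_iff, ← htop]; exact ideal_mono hj⟩ p'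

end Groth.Agent.S6924aux

namespace Groth.Agent.S6924

/-- Let `M` be a finite `R`-module and `f ∈ R` such that every prime of `D(f)` has a basic open
neighbourhood `D(g) ⊆ D(f)` with `M_g` free of rank `r` (in other words `M_f` is, locally on `D(f)`,
free of rank `r`). Then there is a finitely generated ideal `I ⊆ R` with `V(I) = V(f)` such that for
every `a ∈ I` and (a copy `R₁` of) the affine blow-up algebra `R[I/a]`, the strict transform `(M ⊗_R
R₁)/(a-power torsion)` is finite locally free of rank `r` over `R₁`. -/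
theorem result {R : Type u} [CommRing R] (M : Type u) [AddCommGroup M]
    [Module R M] [Module.Finite R M] (f : R) (r : ℕ)
    (hf : ∀ (p : Ideal R) [p.IsPrime], f ∉ p → ∃ g : R, g ∉ p ∧ g ∈ (Ideal.span {f}).radical ∧
      Module.Free (Localization.Away g) (LocalizedModule (Submonoid.powers g) M) ∧
        Module.finrank (Localization.Away g) (LocalizedModule (Submonoid.powers g) M) = r) :
    ∃ I : Ideal R, I.FG ∧ I.radical = (Ideal.span {f}).radical ∧ ∀ a ∈ I, ∀ (R₁ : Type u) [CommRing R₁] [Algebra R R₁] (e : R₁ ≃ₐ[R] ↥(BlowUp.affineAlgebra R I a)),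
      ∀ (p' : Ideal R₁) [p'.IsPrime], ∃ g : R₁, g ∉ p' ∧
        Module.Free (Localization.Away g) (LocalizedModule (Submonoid.powers g) ((R₁ ⊗[R] M) ⧸ FlatCA.powTorsion R₁ (algebraMap R R₁ a) (R₁ ⊗[R] M))) ∧
        Module.finrank (Localization.Away g) (LocalizedModule (Submonoid.powers g) ((R₁ ⊗[R] M) ⧸ FlatCA.powTorsion R₁ (algebraMap R R₁ a) (R₁ ⊗[R] M))) = r := by
  exact Groth.Agent.S6924aux.main M f r hf

end Groth.Agent.S6924
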