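import Groth.Statements.S6929
import Groth.Agent.S2017
-- import your own Groth.Agent.* helpers here

set_option autoImplicit false
universe u
open EtAlg

namespace Groth.Agent.S6929

theorem finiteType_pi (R : Type u) [CommRing R] {ι : Type u} [Fintype ι] (A : ι → Type u)
    [∀ i, CommRing (A i)] [∀ i, Algebra R (A i)] (hA : ∀ i, Algebra.FiniteType R (A i)) :
    Algebra.FiniteType R (∀ i, A i) := by
  classical
  choose S hS using fun i => (hA i).out
  let T : Finset (∀ i, A i) :=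
    (Finset.univ.biUnion fun i => (S i).image (Pi.single i)) ∪
      Finset.univ.image (fun i => Pi.single i (1 : A i))
  refine ⟨⟨T, ?_⟩⟩
  have h1 : ∀ i, (Pi.single i (1 : A i) : ∀ i, A i) ∈ Algebra.adjoin R (T : Set (∀ i, A i)) := by
    intro i
    apply Algebra.subset_adjoin
    simp only [T, Finset.coe_union, Finset.coe_image, Set.mem_union, Set.mem_image]
    exact Or.inr ⟨i, Finset.mem_coe.2 (Finset.mem_univ i), rfl⟩
  have h2 : ∀ i (a : A i), (Pi.single i a : ∀ i, A i) ∈ Algebra.adjoin R (T : Set (∀ i, A i)) := by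
    intro i a
    have ha : a ∈ Algebra.adjoin R (S i : Set (A i)) := by rw [hS i]; trivial
    induction ha using Algebra.adjoin_induction with
    | mem x hx =>
      apply Algebra.subset_adjoin
      simp only [T, Finset.coe_union, Finset.coe_biUnion, Finset.coe_image, Set.mem_union,
        Set.mem_iUnion, Set.mem_image]
      exact Or.inl ⟨i, Finset.mem_coe.2 (Finset.mem_univ i), x, hx, rfl⟩
    | algebraMap r =>
      have : (Pi.single i (algebraMap R (A i) r) : ∀ i, A i) = r • Pi.single i (1 : A i) := by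
        rw [← Pi.single_smul, Algebra.smul_def, mul_one]
      rw [this]
      exact Subalgebra.smul_mem _ (h1 i) r
    | add x y _ _ hx hy =>
      rw [Pi.single_add]; exact add_mem hx hy
    | mul x y _ _ hx hy =>
      rw [Pi.single_mul]; exact mul_mem hx hy
  rw [eq_top_iff]
  intro x _
  rw [← Finset.univ_sum_single x]
  exact sum_mem (fun i _ => h2 i (x i))

theorem finite_pi (R : Type u) [CommRing R] {ι : Type u} [Fintype ι]
    (Q : Type u) [CommRing Q] [Algebra R Q] (B : ι → Type u)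
    [∀ i, CommRing (B i)] [∀ i, Algebra R (B i)] (ψ : ∀ i, Q →ₐ[R] B i)
    (hψ : ∀ i, Function.Surjective (ψ i)) : ((AlgHom.pi ψ).toRingHom).Finite := by
  classical
  unfold RingHom.Finite
  letI : Algebra Q (∀ i, B i) := (AlgHom.pi ψ).toRingHom.toAlgebra
  refine ⟨⟨Finset.univ.image (fun i => (Pi.single i (1 : B i) : ∀ i, B i)), ?_⟩⟩
  rw [eq_top_iff]
  intro x _
  rw [← Finset.univ_sum_single x]
  refine sum_mem (fun i _ => ?_)
  obtain ⟨q, hq⟩ := hψ i (x i)
  have : (Pi.single i (x i) : ∀ i, B i) = q • (Pi.single i (1 : B i) : ∀ i, B i) := by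
    rw [Algebra.smul_def]
    show _ = (AlgHom.pi ψ) q * _
    ext j
    by_cases hj : j = i
    · subst hj
      simp [hq]
    · simp [Pi.single_eq_of_ne hj]
  rw [this]
  refine Submodule.smul_mem _ _ (Submodule.subset_span ?_)
  simp only [Finset.coe_image, Set.mem_image]
  exact ⟨i, Finset.mem_coe.2 (Finset.mem_univ i), rfl⟩

/-- Let `R` be a Noetherian ring, `ι` a finite index type, and `φ_i : A_i → B_i`, `ψ_i : Q → B_i`
surjective `R`-algebra maps, where `Q` and all `A_i`, `B_i` are `R`-algebras of finite type. Then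
the fibre product ring `P = Q ×_{∏ B_i} ∏ A_i` (pairs `(q, a)` with `ψ_i(q) = φ_i(a_i)` for all `i`)
is an `R`-algebra of finite type. -/
theorem result (R : Type u) [CommRing R] [IsNoetherianRing R] {ι : Type u} [Fintype ι]
    (Q : Type u) [CommRing Q] [Algebra R Q] [Algebra.FiniteType R Q] (A B : ι → Type u) [∀ i, CommRing (A i)]
    [∀ i, CommRing (B i)] [∀ i, Algebra R (A i)] [∀ i, Algebra R (B i)] (hA : ∀ i, Algebra.FiniteType R (A i))
    (hB : ∀ i, Algebra.FiniteType R (B i)) (φ : ∀ i, A i →ₐ[R] B i) (ψ : ∀ i, Q →ₐ[R] B i)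
    (hφ : ∀ i, Function.Surjective (φ i)) (hψ : ∀ i, Function.Surjective (ψ i)) :
    Algebra.FiniteType R ↥(AlgHom.equalizer ((AlgHom.pi ψ).comp (AlgHom.fst R Q (∀ i, A i)))
      ((AlgHom.pi fun i => (φ i).comp (Pi.evalAlgHom R A i)).comp (AlgHom.snd R Q (∀ i, A i)))) := by
  haveI : Algebra.FiniteType R (∀ i, A i) := finiteType_pi R A hA
  haveI : Algebra.FiniteType R (∀ i, B i) := finiteType_pi R B hB
  set f : (∀ i, A i) →ₐ[R] (∀ i, B i) := AlgHom.pi fun i => (φ i).comp (Pi.evalAlgHom R A i) with hf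
  set g : Q →ₐ[R] (∀ i, B i) := AlgHom.pi ψ with hg
  have hfs : Function.Surjective f := by
    intro b
    choose a ha using fun i => hφ i (b i)
    refine ⟨a, ?_⟩
    ext i
    exact ha i
  have key := Groth.Agent.S2017.result R (∀ i, A i) (∀ i, B i) Q f hfs g (finite_pi R Q B ψ hψ)
  set E₁ := AlgHom.equalizer (f.comp (AlgHom.fst R (∀ i, A i) Q)) (g.comp (AlgHom.snd R (∀ i, A i) Q))
    with hE₁
  set E₂ := AlgHom.equalizer (g.comp (AlgHom.fst R Q (∀ i, A i))) (f.comp (AlgHom.snd R Q (∀ i, A i)))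
    with hE₂
  let sw : E₁ →ₐ[R] (Q × (∀ i, A i)) :=
    AlgHom.prod ((AlgHom.snd R (∀ i, A i) Q).comp E₁.val) ((AlgHom.fst R (∀ i, A i) Q).comp E₁.val)
  have hsw : ∀ x : E₁, sw x ∈ E₂ := by
    intro x
    have hx : (f.comp (AlgHom.fst R (∀ i, A i) Q)) x.1 = (g.comp (AlgHom.snd R (∀ i, A i) Q)) x.1 :=
      x.2
    rw [hE₂, AlgHom.mem_equalizer]
    exact hx.symm
  let sw' : E₁ →ₐ[R] E₂ := sw.codRestrict E₂ hsw
  refine Algebra.FiniteType.of_surjective sw' ?_
  rintro ⟨⟨q, a⟩, hy⟩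
  have hy' : (g.comp (AlgHom.fst R Q (∀ i, A i))) (q, a) = (f.comp (AlgHom.snd R Q (∀ i, A i))) (q, a) :=
    hy
  refine ⟨⟨(a, q), ?_⟩, ?_⟩
  · rw [hE₁, AlgHom.mem_equalizer]
    exact hy'.symm
  · apply Subtype.ext
    rfl

end Groth.Agent.S6929
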