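import Groth.Statements.S6933
import Mathlib

set_option autoImplicit false
universe u
open CategoryTheory
open InjHull

namespace Groth.Agent.S6933

/-- An abelian group `J` that is injective as an object of the category of abelian groups is divisible:
`n J = J` for every nonzero integer `n`. (The published statement is an equivalence; this row states
the implication from injective to divisible.) -/
theorem result (J : Type u) [AddCommGroup J] (hJ : Injective (AddCommGrpCat.of J))
    (n : ℤ) (hn : n ≠ 0) (x : J) : ∃ y : J, n • y = x := by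
  let Z : AddCommGrpCat.{u} := AddCommGrpCat.of (ULift.{u} ℤ)
  let e : ULift.{u} ℤ →+ ℤ := (AddEquiv.ulift : ULift.{u} ℤ ≃+ ℤ).toAddMonoidHom
  let f : Z ⟶ Z := AddCommGrpCat.ofHom (n • AddMonoidHom.id (ULift.{u} ℤ))
  let g : Z ⟶ AddCommGrpCat.of J := AddCommGrpCat.ofHom ((zmultiplesHom J x).comp e)
  haveI : Mono f := by
    rw [AddCommGrpCat.mono_iff_injective]
    intro a b hab
    have hab' : n • a = n • b := hab
    have h1 : n • a.down = n • b.down := congrArg ULift.down hab'
    have h2 : a.down = b.down := mul_left_cancel₀ hn (by simpa [smul_eq_mul] using h1)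
    exact ULift.ext _ _ h2
  obtain ⟨h, hh⟩ := hJ.factors g f
  refine ⟨h.hom (ULift.up 1), ?_⟩
  have hf1 : f.hom (ULift.up 1) = n • (ULift.up 1 : ULift.{u} ℤ) := rfl
  have hg1 : g.hom (ULift.up 1) = x := by
    show (zmultiplesHom J x) (e (ULift.up 1)) = x
    rw [zmultiplesHom_apply]
    exact one_zsmul x
  calc n • h.hom (ULift.up 1) = h.hom (n • ULift.up 1) := (map_zsmul h.hom n _).symm
    _ = h.hom (f.hom (ULift.up 1)) := by rw [hf1]
    _ = (f ≫ h).hom (ULift.up 1) := rfl
    _ = g.hom (ULift.up 1) := by rw [hh]
    _ = x := hg1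

end Groth.Agent.S6933
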