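import Groth.Statements.S6934
import Mathlib.RingTheory.Localization.Away.Basic
import Mathlib.Tactic

set_option autoImplicit false
universe u
open EtAlg

namespace Groth.Agent.S6934

/-- Let `s : B → R`, `t : R' → R` be ring maps and `B' = B ×_R R'` the fibre product ring, i.e. a ring
`B'` with maps `p : B' → B`, `q : B' → R'`, `s ∘ p = t ∘ q`, such that `(p, q)` is injective with
image the pairs `(b, r')` with `s(b) = t(r')`. Let `h ∈ B'` with images `g = p(h)`, `f = q(h)`. Then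
the square of localizations `B'_h → B_g`, `B'_h → R'_f`, `B_g → R_{s(g)}`, `R'_f → R_{t(f)} =
R_{s(g)}` (the induced maps) is cartesian as well: `B'_h = B_g ×_{R_{s(g)}} R'_f`. -/
theorem result {B R R' B' : Type u} [CommRing B] [CommRing R] [CommRing R'] [CommRing B']
    (s : B →+* R) (t : R' →+* R) (p : B' →+* B) (q : B' →+* R') (hc : s.comp p = t.comp q)
    (hinj : ∀ x y : B', p x = p y → q x = q y → x = y) (hsurj : ∀ (b : B) (r' : R'), s b = t r' → ∃ x : B', p x = b ∧ q x = r')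
    (h : B') (Bh Bg Rf Rsg : Type u) [CommRing Bh] [CommRing Bg] [CommRing Rf] [CommRing Rsg]
    [Algebra B' Bh] [IsLocalization.Away h Bh] [Algebra B Bg] [IsLocalization.Away (p h) Bg]
    [Algebra R' Rf] [IsLocalization.Away (q h) Rf] [Algebra R Rsg] [IsLocalization.Away (s (p h)) Rsg]
    (pL : Bh →+* Bg) (qL : Bh →+* Rf) (sL : Bg →+* Rsg) (tL : Rf →+* Rsg)
    (hp : pL.comp (algebraMap B' Bh) = (algebraMap B Bg).comp p) (hq : qL.comp (algebraMap B' Bh) = (algebraMap R' Rf).comp q)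
    (hs : sL.comp (algebraMap B Bg) = (algebraMap R Rsg).comp s) (ht : tL.comp (algebraMap R' Rf) = (algebraMap R Rsg).comp t) :
    (∀ x y : Bh, pL x = pL y → qL x = qL y → x = y) ∧
    (∀ (b : Bg) (r : Rf), sL b = tL r → ∃ x : Bh, pL x = b ∧ qL x = r) := by
  have hpa : ∀ z : B', pL (algebraMap B' Bh z) = algebraMap B Bg (p z) := fun z =>
    RingHom.congr_fun hp z
  have hqa : ∀ z : B', qL (algebraMap B' Bh z) = algebraMap R' Rf (q z) := fun z =>
    RingHom.congr_fun hq z
  have hsa : ∀ z : B, sL (algebraMap B Bg z) = algebraMap R Rsg (s z) := fun z =>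
    RingHom.congr_fun hs z
  have hta : ∀ z : R', tL (algebraMap R' Rf z) = algebraMap R Rsg (t z) := fun z =>
    RingHom.congr_fun ht z
  have hcc : ∀ z : B', s (p z) = t (q z) := fun z => RingHom.congr_fun hc z
  have hu : IsUnit (algebraMap B' Bh h) := IsLocalization.Away.algebraMap_isUnit h
  have hug : IsUnit (algebraMap B Bg (p h)) := IsLocalization.Away.algebraMap_isUnit (p h)
  have huf : IsUnit (algebraMap R' Rf (q h)) := IsLocalization.Away.algebraMap_isUnit (q h)
  constructor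
  · intro x y hpx hqx
    obtain ⟨n₁, a₁, h₁⟩ := IsLocalization.Away.surj h x
    obtain ⟨n₂, a₂, h₂⟩ := IsLocalization.Away.surj h y
    obtain ⟨X, hX⟩ : ∃ X, X = a₁ * h ^ n₂ := ⟨_, rfl⟩
    obtain ⟨Y, hY⟩ : ∃ Y, Y = a₂ * h ^ n₁ := ⟨_, rfl⟩
    have hXa : algebraMap B' Bh X = x * algebraMap B' Bh h ^ (n₁ + n₂) := by
      rw [hX, map_mul, map_pow, ← h₁, pow_add]; ring
    have hYa : algebraMap B' Bh Y = y * algebraMap B' Bh h ^ (n₁ + n₂) := by
      rw [hY, map_mul, map_pow, ← h₂, pow_add]; ring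
    have e1 : algebraMap B Bg (p X) = algebraMap B Bg (p Y) := by
      rw [← hpa, ← hpa, hXa, hYa, map_mul, map_mul, hpx]
    have e2 : algebraMap R' Rf (q X) = algebraMap R' Rf (q Y) := by
      rw [← hqa, ← hqa, hXa, hYa, map_mul, map_mul, hqx]
    obtain ⟨k, hk⟩ := IsLocalization.Away.exists_of_eq (p h) e1
    obtain ⟨l, hl⟩ := IsLocalization.Away.exists_of_eq (q h) e2
    have e3 : h ^ (k + l) * X = h ^ (k + l) * Y := by
      apply hinj
      · rw [map_mul, map_mul, map_pow]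
        linear_combination (p h ^ l) * hk
      · rw [map_mul, map_mul, map_pow]
        linear_combination (q h ^ k) * hl
    have e4 := congrArg (algebraMap B' Bh) e3
    rw [map_mul, map_mul, hXa, hYa, map_pow] at e4
    have hunit : IsUnit (algebraMap B' Bh h ^ (k + l)) := hu.pow _
    have hunit2 : IsUnit (algebraMap B' Bh h ^ (n₁ + n₂)) := hu.pow _
    have e5 := hunit.mul_left_cancel e4
    exact hunit2.mul_right_cancel e5
  · intro b r hbr
    obtain ⟨n₁, b₀, h₁⟩ := IsLocalization.Away.surj (p h) b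
    obtain ⟨n₂, r₀, h₂⟩ := IsLocalization.Away.surj (q h) r
    obtain ⟨N, hN⟩ : ∃ N, N = n₁ + n₂ := ⟨_, rfl⟩
    obtain ⟨b₁, hb₁⟩ : ∃ b₁, b₁ = b₀ * p h ^ n₂ := ⟨_, rfl⟩
    obtain ⟨r₁, hr₁⟩ : ∃ r₁, r₁ = r₀ * q h ^ n₁ := ⟨_, rfl⟩
    have hb₁a : algebraMap B Bg b₁ = b * algebraMap B Bg (p h) ^ N := by
      rw [hb₁, map_mul, map_pow, ← h₁, hN, pow_add]; ring
    have hr₁a : algebraMap R' Rf r₁ = r * algebraMap R' Rf (q h) ^ N := by
      rw [hr₁, map_mul, map_pow, ← h₂, hN, pow_add]; ring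
    have e1 : algebraMap R Rsg (s b₁) = algebraMap R Rsg (t r₁) := by
      rw [← hsa, ← hta, hb₁a, hr₁a, map_mul, map_mul, map_pow, map_pow, hsa, hta, hbr, hcc]
    obtain ⟨k, hk⟩ := IsLocalization.Away.exists_of_eq (s (p h)) e1
    have e2 : s (p h ^ k * b₁) = t (q h ^ k * r₁) := by
      rw [map_mul, map_mul, map_pow, map_pow, hk, hcc]
    obtain ⟨x₀, hx₀p, hx₀q⟩ := hsurj _ _ e2
    obtain ⟨vinv, hv⟩ : ∃ vinv : Bh, vinv = ((hu.unit⁻¹ : Bhˣ) : Bh) := ⟨_, rfl⟩
    have hvu : vinv * algebraMap B' Bh h = 1 := by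
      rw [hv]
      exact hu.val_inv_mul
    obtain ⟨x, hx⟩ : ∃ x : Bh, x = algebraMap B' Bh x₀ * vinv ^ (k + N) := ⟨_, rfl⟩
    have hxu : x * algebraMap B' Bh h ^ (k + N) = algebraMap B' Bh x₀ := by
      rw [hx, mul_assoc, ← mul_pow, hvu, one_pow, mul_one]
    refine ⟨x, ?_, ?_⟩
    · have e3 : pL x * algebraMap B Bg (p h) ^ (k + N) = b * algebraMap B Bg (p h) ^ (k + N) := by
        calc pL x * algebraMap B Bg (p h) ^ (k + N)
            = pL x * pL (algebraMap B' Bh h ^ (k + N)) := by rw [map_pow, hpa]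
          _ = pL (x * algebraMap B' Bh h ^ (k + N)) := (map_mul _ _ _).symm
          _ = pL (algebraMap B' Bh x₀) := by rw [hxu]
          _ = algebraMap B Bg (p x₀) := hpa _
          _ = algebraMap B Bg (p h) ^ k * (b * algebraMap B Bg (p h) ^ N) := by
              rw [hx₀p, map_mul, map_pow, hb₁a]
          _ = b * algebraMap B Bg (p h) ^ (k + N) := by rw [pow_add]; ring
      exact (hug.pow _).mul_right_cancel e3
    · have e3 : qL x * algebraMap R' Rf (q h) ^ (k + N) = r * algebraMap R' Rf (q h) ^ (k + N) := by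
        calc qL x * algebraMap R' Rf (q h) ^ (k + N)
            = qL x * qL (algebraMap B' Bh h ^ (k + N)) := by rw [map_pow, hqa]
          _ = qL (x * algebraMap B' Bh h ^ (k + N)) := (map_mul _ _ _).symm
          _ = qL (algebraMap B' Bh x₀) := by rw [hxu]
          _ = algebraMap R' Rf (q x₀) := hqa _
          _ = algebraMap R' Rf (q h) ^ k * (r * algebraMap R' Rf (q h) ^ N) := by
              rw [hx₀q, map_mul, map_pow, hr₁a]
          _ = r * algebraMap R' Rf (q h) ^ (k + N) := by rw [pow_add]; ring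
      exact (huf.pow _).mul_right_cancel e3

end Groth.Agent.S6934
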