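import Groth.Statements.S6936
import Mathlib
import Groth.Agent.Lib.helper17.DRingPC
-- import your own Groth.Agent.* helpers here

set_option autoImplicit false
universe u
open CategoryTheory CategoryTheory.Limits
attribute [local instance] HasDerivedCategory.standard
open DRing

open Groth.Agent.Lib.helper17

namespace Groth.Agent.S6936

/-- Let R be a commutative ring, m an integer and K an object of D(R). If H^i(K) = 0 for every i > m +
1, H^(m+1)(K) is a finitely presented R-module and H^m(K) is a finitely generated R-module, then K
is m-pseudo-coherent. -/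
theorem result (R : Type u) [CommRing R]
    (m : ℤ) (K : Dual.D R) (hvan : ∀ i : ℤ, m + 1 < i → Subsingleton (Dual.HD R K i))
    (hfp : Module.FinitePresentation R (Dual.HD R K (m + 1))) (hfin : Module.Finite R (Dual.HD R K m)) :
    DRing.IsPseudoCoherent R m K := by
  rw [DRingPC.isPseudoCoherent_iff_NPC]
  refine PCohTrunc.NPC_of_homology (DRingPC.FF R) (DRingPC.FF_prod R) (DRingPC.FF_hqs R)
    (DRingPC.FF_hql R) m 2 K (m + 1) (by norm_num)
    (fun i hi => by
      have := hvan i hi
      exact ModuleCat.isZero_of_subsingleton _) (fun i hi => ?_)
  rcases hi.eq_or_lt with rfl | hi'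
  · have := (DRingPC.NPC_single_zero_iff_finite R
      ((DerivedCategory.homologyFunctor (ModuleCat.{u} R) m).obj K)).2 hfin
    simpa using this
  · rcases (show m + 1 ≤ i by lia).eq_or_lt with rfl | hi''
    · have := (DRingPC.NPC_single_negOne_iff_finitePresentation R
        ((DerivedCategory.homologyFunctor (ModuleCat.{u} R) (m + 1)).obj K)).2 hfp
      have e : m - (m + 1) = -1 := by ring
      rw [e]
      exact this
    · have := hvan i hi''
      exact PCohLES.NPC_single_of_isZero (DRingPC.FF R) _
        (ModuleCat.isZero_of_subsingleton _) _ _

end Groth.Agent.S6936
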