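import Groth.Statements.S6937
import Mathlib
import Groth.Agent.Lib.helper17.DRingPC
-- import your own Groth.Agent.* helpers here

set_option autoImplicit false
universe u
open CategoryTheory CategoryTheory.Limits
attribute [local instance] HasDerivedCategory.standard
open DRing

open Groth.Agent.Lib.helper17

namespace Groth.Agent.S6937

/-- Let R be a commutative ring, m an integer and K, L objects of D(R). If K ⊕ L is m-pseudo-coherent
then K and L are m-pseudo-coherent; if K ⊕ L is pseudo-coherent (isomorphic in D(R) to a bounded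
above complex of finite free modules) then so are K and L. -/
theorem result (R : Type u) [CommRing R] (m : ℤ) (K L : Dual.D R)
    [HasBinaryBiproduct K L] :
    (DRing.IsPseudoCoherent R m (K ⊞ L) → DRing.IsPseudoCoherent R m K ∧ DRing.IsPseudoCoherent R m L) ∧
      (DRing.IsPseudoCoherent' R (K ⊞ L) → DRing.IsPseudoCoherent' R K ∧ DRing.IsPseudoCoherent' R L) := by
  have key : ∀ m : ℤ, DRing.IsPseudoCoherent R m (K ⊞ L) →
      DRing.IsPseudoCoherent R m K ∧ DRing.IsPseudoCoherent R m L := by
    intro m h
    have := (PCohD.NPC_biprod_iff (DRingPC.FF R) (DRingPC.FF_prod R) (DRingPC.FF_hqs R)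
      (DRingPC.FF_hql R) m K L).1 ((DRingPC.isPseudoCoherent_iff_NPC R m _).1 h)
    exact ⟨(DRingPC.isPseudoCoherent_iff_NPC R m K).2 this.1,
      (DRingPC.isPseudoCoherent_iff_NPC R m L).2 this.2⟩
  refine ⟨key m, fun h => ?_⟩
  rw [DRingPC.isPseudoCoherent'_iff_forall] at h
  exact ⟨(DRingPC.isPseudoCoherent'_iff_forall R K).2 fun m => (key m (h m)).1,
    (DRingPC.isPseudoCoherent'_iff_forall R L).2 fun m => (key m (h m)).2⟩

end Groth.Agent.S6937
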