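import Groth.Statements.S6938
import Mathlib
import Groth.Agent.Lib.helper17.DRingPC
-- import your own Groth.Agent.* helpers here

set_option autoImplicit false
universe u
open CategoryTheory CategoryTheory.Limits
attribute [local instance] HasDerivedCategory.standard
open DRing

open Groth.Agent.Lib.helper17

namespace Groth.Agent.S6938

/-- Let R be a commutative ring, m an integer and K a bounded above cochain complex of R-modules. If the
module K^i is (m - i)-pseudo-coherent for every i, then K is m-pseudo-coherent in D(R). If every K^i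
is a pseudo-coherent module, then K is pseudo-coherent. -/
theorem result (R : Type u) [CommRing R] (m : ℤ)
    (K : DRing.Cx R) (b : ℤ) (hb : DRing.VanishesAbove K b) :
    ((∀ i : ℤ, DRing.IsPseudoCoherentModule R (m - i) (K.X i)) → DRing.IsPseudoCoherent R m (DRing.toD K)) ∧
      ((∀ i : ℤ, DRing.IsPseudoCoherentModule' R (K.X i)) → DRing.IsPseudoCoherent' R (DRing.toD K)) := by
  have key : ∀ m : ℤ, (∀ i : ℤ, DRing.IsPseudoCoherentModule R (m - i) (K.X i)) →
      DRing.IsPseudoCoherent R m (DRing.toD K) := by
    intro m h
    rw [DRingPC.isPseudoCoherent_iff_NPC]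
    exact PCohLES.NPC_of_terms (DRingPC.FF R) (DRingPC.FF_prod R) (DRingPC.FF_hqs R)
      (DRingPC.FF_hql R) m (b - m + 1).toNat K b
      (by have := Int.self_le_toNat (b - m + 1); lia) hb
      (fun i _ => (DRingPC.isPseudoCoherent_iff_NPC R (m - i) _).1 (h i))
  refine ⟨key m, fun h => ?_⟩
  rw [DRingPC.isPseudoCoherent'_iff_forall]
  intro m
  exact key m (fun i => (DRingPC.isPseudoCoherent'_iff_forall R _).1 (h i) _)

end Groth.Agent.S6938
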