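import Groth.Statements.S6940
import Mathlib
import Groth.Agent.Lib.helper17.DRingRes
-- import your own Groth.Agent.* helpers here

set_option autoImplicit false
universe u
open CategoryTheory CategoryTheory.Limits
attribute [local instance] HasDerivedCategory.standard
open DRing

open Groth.Agent.Lib.helper17

namespace Groth.Agent.S6940

/-- Let A → B be a homomorphism of commutative rings making B a pseudo-coherent A-module; let K be an
object of D(B) and m an integer. Then m-pseudo-coherence of K over B is equivalent to
m-pseudo-coherence over A of K with its scalars restricted to A, and likewise pseudo-coherence of K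
over B is equivalent to pseudo-coherence over A of its restriction. -/
theorem result {A B : Type u} [CommRing A]
    [CommRing B] [Algebra A B] (hB : DRing.IsPseudoCoherentModule' A B) (K : Dual.D B) (m : ℤ) :
    (DRing.IsPseudoCoherent B m K ↔ DRing.IsPseudoCoherent A m ((DRing.restrictD (algebraMap A B)).obj K)) ∧
      (DRing.IsPseudoCoherent' B K ↔ DRing.IsPseudoCoherent' A ((DRing.restrictD (algebraMap A B)).obj K)) := by
  have hB' : ∀ k : ℤ, PCohBasic.NPC (DRingPC.FF A) k
      ((DerivedCategory.singleFunctor _ 0).obj
        ((DRingRes.resF (algebraMap A B)).obj (ModuleCat.of B B))) := by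
    intro k
    unfold DRing.IsPseudoCoherentModule' at hB
    rw [DRingPC.isPseudoCoherent'_iff_isPC] at hB
    exact PCohBasic.NPC.of_iso _ (hB k) ((DerivedCategory.singleFunctor _ 0).mapIso
      (DRingBC.restrictSelfEquiv (A := A) (B := B)).toModuleIso.symm)
  have key : ∀ k : ℤ, DRing.IsPseudoCoherent B k K ↔
      DRing.IsPseudoCoherent A k ((DRing.restrictD (algebraMap A B)).obj K) := by
    intro k
    rw [DRingPC.isPseudoCoherent_iff_NPC, DRingPC.isPseudoCoherent_iff_NPC]
    exact ⟨fun h => DRingRes.NPC_resD (algebraMap A B) hB' h,
      fun h => DRingRes.NPC_of_resD (algebraMap A B) hB' k K h⟩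
  refine ⟨key m, ?_⟩
  rw [DRingPC.isPseudoCoherent'_iff_forall, DRingPC.isPseudoCoherent'_iff_forall]
  exact forall_congr' key

end Groth.Agent.S6940
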