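import Groth.Statements.S6944
import Mathlib
import Groth.Agent.Lib.helper17.DRingTA
-- import your own Groth.Agent.* helpers here

set_option autoImplicit false
universe u
open CategoryTheory CategoryTheory.Limits
attribute [local instance] HasDerivedCategory.standard
open DRing

open Groth.Agent.Lib.helper17

namespace Groth.Agent.S6944

/-- Let R be a commutative ring and K a bounded above cochain complex of flat R-modules such that K, as
an object of D(R), has tor amplitude in [a, c] (it is isomorphic in D(R) to a complex of flat
modules vanishing outside [a, c]). Then the cokernel of the differential K^(a-1) → K^a is a flat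
R-module. -/
theorem result (R : Type u) [CommRing R] (K : DRing.Cx R) (b : ℤ)
    (hb : DRing.VanishesAbove K b) (hflat : DRing.TermwiseFlat K) (a c : ℤ)
    (hamp : DRing.HasTorAmplitudeIn R a c (DRing.toD K)) :
    Module.Flat R ((K.X a) ⧸ LinearMap.range (K.d (a - 1) a).hom) := by
  have h1 : DRingTor.Fl R (K.opcycles a) :=
    DRingTA.flat_opcycles_of_torAmp K b hb hflat a c hamp
  have h2 : Module.Flat R (K.opcycles a) := h1
  have e : K.opcycles a ≅ ModuleCat.of R ((K.X a) ⧸ LinearMap.range (K.d (a - 1) a).hom) := by
    have e0 := IsColimit.coconePointUniqueUpToIso (K.opcyclesIsCokernel (a - 1) a (by simp))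
      (ModuleCat.cokernelIsColimit (K.d (a - 1) a))
    exact e0
  exact Module.Flat.of_linearEquiv e.toLinearEquiv.symm

end Groth.Agent.S6944
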