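import Groth.Statements.S6945
import Mathlib
import Groth.Agent.Lib.helper2.LTensorK
import Groth.Agent.Lib.helper2.KProjRes
import Groth.Agent.Lib.helper2.ConeRep
import Groth.Agent.Lib.helper17.DRingTA
import Groth.Agent.Lib.helper4.QisTensor
-- import your own Groth.Agent.* helpers here

set_option autoImplicit false
universe u
open CategoryTheory CategoryTheory.Limits
attribute [local instance] HasDerivedCategory.standard
open DRing

namespace Groth.Agent.S6945


open DerivedCategory MonoidalCategory CohIII
open Groth.Agent.Lib.helper2 Groth.Agent.Lib.helper17.DRingTA Groth.Agent.Lib.helper17.DRingTor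
open Groth.Agent.H4FlatCx

section Aux

variable (R : Type u) [CommRing R]

/-- bounded above free K-projective resolutions -/
lemma exists_res (K : Dual.D R) (b : ℤ)
    (hb : ∀ i : ℤ, b < i → IsZero ((DerivedCategory.homologyFunctor _ i).obj K)) :
    ∃ (E : DRing.Cx R) (b' : ℤ), (∀ i, b' < i → IsZero (E.X i)) ∧
      (∀ i, Module.Free R (E.X i)) ∧ E.IsKProjective ∧ Nonempty (Q.obj E ≅ K) := by
  obtain ⟨E, ⟨⟨b', hb'⟩, hfree⟩, ⟨e⟩⟩ := exists_free_resolution R K b hb
  have hfree' : ∀ i, Module.Free R (E.X i) := hfree
  refine ⟨E, b', hb', hfree', ?_, ⟨e⟩⟩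
  have : E.IsStrictlyLE b' := by
    rw [CochainComplex.isStrictlyLE_iff]
    exact hb'
  have : ∀ n, Projective (E.X n) := fun n => by
    have := hfree' n
    exact (IsProjective.iff_projective (R := R) (E.X n)).1 inferInstance
  exact CochainComplex.isKProjective_of_projective E b'

variable {R}

/-- the cohomology of the derived tensor product, computed on a K-projective representative -/
noncomputable def homIso [∀ M : ModuleCat.{u} R, DRing.HasLTensor R M] {K : Dual.D R}
    (E : DRing.Cx R) [E.IsKProjective] (e : Q.obj E ≅ K) (M : ModuleCat.{u} R) (i : ℤ) :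
    (DerivedCategory.homologyFunctor _ i).obj ((DRing.LTensor R M).obj K) ≅ (TFun E i).obj M :=
  (DerivedCategory.homologyFunctor _ i).mapIso
      ((DRing.LTensor R M).mapIso e.symm ≪≫ LTensorK.LTensorIso M E) ≪≫
    (DerivedCategory.homologyFunctorFactors _ i).app _

end Aux

/-- With the definition of tor amplitude: let R be a commutative ring, K an object of D(R) and a, b
integers, and assume the derived tensor product - ⊗^L_R M exists on D(R) for every R-module M. Then
K is isomorphic in D(R) to a complex of flat R-modules vanishing outside [a, b] if and only if H^i(K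
⊗^L_R M) = 0 for every R-module M and every integer i outside [a, b]. -/
theorem result (R : Type u) [CommRing R]
    [∀ M : ModuleCat.{u} R, DRing.HasLTensor R M] (K : Dual.D R) (a b : ℤ) :
    DRing.HasTorAmplitudeIn R a b K ↔
      ∀ (M : ModuleCat.{u} R) (i : ℤ), (i < a ∨ b < i) → Subsingleton (Dual.HD R ((DRing.LTensor R M).obj K) i) := by
  constructor
  · rintro ⟨F, hFz, hFfl, ⟨eF⟩⟩ M i hi
    have hK : ∀ j : ℤ, b < j → IsZero ((DerivedCategory.homologyFunctor _ j).obj K) := fun j hj =>
      isZero_homology_of_torAmp ⟨F, hFz, hFfl, ⟨eF⟩⟩ j (Or.inr hj)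
    obtain ⟨E, b', hEb, hEfree, hEK, ⟨e⟩⟩ := exists_res R K b hK
    have hEfl : ∀ j, Module.Flat R (E.X j) := fun j => by
      have := hEfree j
      infer_instance
    obtain ⟨g, hg⟩ := ConeRep.exists_chain_map E F (e.hom ≫ eF.inv)
    have hgq : QuasiIso g := by
      rw [← isIso_Q_map_iff_quasiIso, hg]
      infer_instance
    have hq := Groth.Agent.H4Qis.quasiIso_tensor (φ := g) hEfl hFfl ⟨b', hEb⟩
      ⟨b, fun j hj => hFz j (Or.inr hj)⟩ M
    have h1 : IsZero ((tensorObj F M).homology i) := by
      apply isZero_homology_of_isZero_X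
      exact (tensorRight M).map_isZero (hFz i hi)
    have hiso : IsIso (HomologicalComplex.homologyMap
        (((tensorRight M).mapHomologicalComplex (ComplexShape.up ℤ)).map g) i) :=
      (quasiIsoAt_iff_isIso_homologyMap _ i).1 (hq.quasiIsoAt i)
    have h2 : IsZero ((tensorObj E M).homology i) :=
      h1.of_iso (asIso (HomologicalComplex.homologyMap
        (((tensorRight M).mapHomologicalComplex (ComplexShape.up ℤ)).map g) i))
    exact ModuleCat.subsingleton_of_isZero (h2.of_iso (homIso E e M i))
  · intro h
    obtain ⟨P', hP', ⟨e'⟩⟩ := KProjRes.exists_kprojective R K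
    have hK : ∀ i : ℤ, i < a ∨ b < i → IsZero ((DerivedCategory.homologyFunctor _ i).obj K) := by
      intro i hi
      have h1 := h (ModuleCat.of R R) i hi
      have h2 : IsZero ((TFun P' i).obj (ModuleCat.of R R)) :=
        (ModuleCat.isZero_of_subsingleton _).of_iso (homIso P' e' (ModuleCat.of R R) i).symm
      exact (h2.of_iso (TUnitIso P' i).symm).of_iso
        ((DerivedCategory.homologyFunctor _ i).mapIso e'.symm ≪≫
          (DerivedCategory.homologyFunctorFactors _ i).app P')
    obtain ⟨E, b', hEb, hEfree, hEK, ⟨e⟩⟩ := exists_res R K b (fun i hi => hK i (Or.inr hi))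
    have hEfl : ∀ j, Module.Flat R (E.X j) := fun j => by
      have := hEfree j
      infer_instance
    have hT : ∀ (M : ModuleCat.{u} R) (i : ℤ), i < a ∨ b < i → IsZero ((TFun E i).obj M) :=
      fun M i hi => by
        have := h M i hi
        exact (ModuleCat.isZero_of_subsingleton _).of_iso (homIso E e M i).symm
    have hepi : (TFun E (a - 1)).PreservesEpimorphisms :=
      ⟨fun {X Y} f _ => ⟨fun g g' _ => (hT Y (a - 1) (Or.inl (by omega))).eq_of_src _ _⟩⟩
    have hmono : (TFun E a).PreservesMonomorphisms :=
      (preservesEpi_iff_preservesMono E hEfl (a - 1) a (by simp)).1 hepi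
    have hop : Module.Flat R (E.opcycles a) :=
      (preservesMono_iff_flat_opcycles E (a - 1) a (by simp) (a + 1) (by simp) (hEfl (a + 1))).1 hmono
    have hEh : ∀ i, i < a ∨ b < i → IsZero (E.homology i) := fun i hi =>
      (hK i hi).of_iso (((DerivedCategory.homologyFunctorFactors _ i).app E).symm ≪≫
        (DerivedCategory.homologyFunctor _ i).mapIso e)
    exact torAmp_of_iso ((torAmp_iff E b' hEb hEfl a b).2 ⟨hEh, hop⟩) e

end Groth.Agent.S6945
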