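import Groth.Statements.S6952
import Mathlib
import Groth.Agent.Lib.helper2.NilDev
-- import your own Groth.Agent.* helpers here

set_option autoImplicit false
universe u
open CategoryTheory CategoryTheory.Limits
attribute [local instance] HasDerivedCategory.standard
open DRing

namespace Groth.Agent.S6952

/-- Let R' → R be a surjective homomorphism of commutative rings whose kernel is a nilpotent ideal, such
that the derived base change D(R') → D(R) exists. Let K' be an object of D(R') and a, b integers.
Then K' ⊗^L R has tor amplitude in [a, b] over R if and only if K' has tor amplitude in [a, b] over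
R'. -/
theorem result {R' R : Type u} [CommRing R']
    [CommRing R] (φ : R' →+* R) (hφ : Function.Surjective φ) (hnil : IsNilpotent (RingHom.ker φ))
    [DRing.HasLBaseChange φ] (K' : Dual.D R') (a b : ℤ) :
    DRing.HasTorAmplitudeIn R a b ((DRing.LBaseChange φ).obj K') ↔ DRing.HasTorAmplitudeIn R' a b K' := by
  constructor
  · intro h
    obtain ⟨P, hPK, hPfl, ⟨e⟩⟩ := Groth.Agent.Lib.helper2.KProjRes.exists_kprojective_flat R' K'
    letI : Algebra R' R := φ.toAlgebra
    have inst : DRing.HasLBaseChange (algebraMap R' R) :=
      (inferInstance : DRing.HasLBaseChange φ)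
    have h1 : DRing.HasTorAmplitudeIn R a b
        (DerivedCategory.Q.obj ((Groth.Agent.Lib.helper2.KPc.bcCx (algebraMap R' R)).obj P)) := by
      refine Groth.Agent.Lib.helper17.DRingTA.torAmp_of_iso h ?_
      exact (DRing.LBaseChange φ).mapIso e.symm ≪≫
        Groth.Agent.Lib.helper2.KPc.LBaseChangeIso (algebraMap R' R) P
    have h2 := Groth.Agent.Lib.helper2.NilDev.torAmp_of_bc (R := R') (S := R) hφ hnil P hPfl a b h1
    exact Groth.Agent.Lib.helper17.DRingTA.torAmp_of_iso h2 e
  · intro h
    exact Groth.Agent.Lib.helper2.KPc.torAmp_LBaseChange φ K' a b h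

end Groth.Agent.S6952
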