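import Groth.Statements.S6955
import Mathlib
import Groth.Agent.Lib.helper17.PerfRes
import Groth.Agent.S6954
-- import your own Groth.Agent.* helpers here

set_option autoImplicit false
universe u
open CategoryTheory CategoryTheory.Limits
attribute [local instance] HasDerivedCategory.standard
open DRing

open Groth.Agent.Lib.helper17

namespace Groth.Agent.S6955

/-- Let R be a commutative ring and M an R-module. Then M is perfect (M[0] is isomorphic in D(R) to a
bounded complex of finite projective modules) if and only if M admits a projective resolution of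
finite length whose terms are finitely generated, i.e. a resolution 0 → F_d → ... → F_0 → M → 0 by
finite projective modules. -/
theorem result (R : Type u) [CommRing R] (M : Type u)
    [AddCommGroup M] [Module R M] :
    DRing.IsPerfectModule R M ↔
      ∃ (P : ProjectiveResolution (ModuleCat.of R M)) (d : ℕ),
        (∀ i : ℕ, d < i → IsZero (P.complex.X i)) ∧ ∀ i : ℕ, Module.Finite R (P.complex.X i) := by
  constructor
  · intro h
    have h' : DRing.IsPerfect R (Dual.inD R M) := h
    rw [Groth.Agent.S6954.result] at h'
    obtain ⟨hpc, a, b, htor⟩ := h'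
    rw [DRingPC.isPseudoCoherent'_iff_isPC] at hpc
    have h1 : DRing.HasTorAmplitudeIn R (min a 0) (max b 0) (Dual.inD R M) :=
      DRingTA.torAmp_of_le htor (min_le_left _ _) (le_max_left _ _)
    have h2 : DRing.HasTorAmplitudeIn R (min a 0) 0 (Dual.inD R M) :=
      TorAmpTor.torAmp_shrink h1
        (fun i hi => PCohLES.isZero_homology_single (ModuleCat.of R M) 0 i (by lia))
    obtain ⟨E, hP, hz, ⟨e⟩⟩ := DRingTor.exists_FP_complex R (min a 0) 0 _ (hpc _) h2
    have hd : -(((-(min a 0)).toNat : ℕ) : ℤ) = min a 0 := by
      have : min a 0 ≤ 0 := min_le_right _ _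
      rw [Int.toNat_of_nonneg (by lia)]
      ring
    obtain ⟨P, hPz, hPf⟩ := PerfRes.exists_projectiveResolution (ModuleCat.of R M) E
      (-(min a 0)).toNat (fun i hi => hz i (by rw [hd] at hi; exact hi)) hP e
    exact ⟨P, _, hPz, hPf⟩
  · rintro ⟨P, d, hz, hf⟩
    exact PerfRes.perfect_of_projectiveResolution (ModuleCat.of R M) P d hz hf

end Groth.Agent.S6955
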