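import Groth.Statements.S6962
import Mathlib
import Groth.Agent.S6942
import Groth.Agent.Lib.helper2.RegPd
import Groth.Agent.Lib.helper2.GlDimHom
import Groth.Agent.Lib.helper2.PerfCrit
-- import your own Groth.Agent.* helpers here

set_option autoImplicit false
universe u
open CategoryTheory CategoryTheory.Limits
attribute [local instance] HasDerivedCategory.standard
open DRing

namespace Groth.Agent.S6962

/-- cohomology of a complex of finite modules over a Noetherian ring is finite -/
lemma finite_homology {R : Type u} [CommRing R] [IsNoetherianRing R]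
    (E : CochainComplex (ModuleCat.{u} R) ℤ) (i : ℤ) (hE : Module.Finite R (E.X i)) :
    Module.Finite R (E.homology i) := by
  have h1 : Module.Finite R (E.cycles i) := by
    have hinj : Function.Injective (E.iCycles i).hom := by
      have := (ModuleCat.mono_iff_injective (E.iCycles i)).1 inferInstance
      exact this
    exact Module.Finite.of_injective (E.iCycles i).hom hinj
  have hsurj : Function.Surjective (E.homologyπ i).hom := by
    have := (ModuleCat.epi_iff_surjective (E.homologyπ i)).1 inferInstance
    exact this
  exact Module.Finite.of_surjective (E.homologyπ i).hom hsurj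


/-- Let R be a regular commutative ring, i.e. R is Noetherian and its localization at every prime ideal
is a regular local ring. Then an R-module M is perfect (M[0] is isomorphic in D(R) to a bounded
complex of finite projective modules) if and only if M is finitely generated. -/
theorem result (R : Type u) [CommRing R] [IsNoetherianRing R]
    (hreg : ∀ p : PrimeSpectrum R, IsRegularLocalRing (Localization.AtPrime p.asIdeal))
    (M : Type u) [AddCommGroup M] [Module R M] :
    DRing.IsPerfectModule R M ↔ Module.Finite R M := by
  constructor
  · rintro ⟨E, a, b, _, hE, ⟨e⟩⟩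
    have h1 := finite_homology E 0 (hE 0).1
    let φ : (DerivedCategory.homologyFunctor (ModuleCat.{u} R) 0).obj (DerivedCategory.Q.obj E) ≅
        E.homology 0 := (DerivedCategory.homologyFunctorFactors (ModuleCat.{u} R) 0).app E
    let ψ : (DerivedCategory.homologyFunctor (ModuleCat.{u} R) 0).obj
        ((DerivedCategory.singleFunctor (ModuleCat.{u} R) 0).obj (ModuleCat.of R M)) ≅
          ModuleCat.of R M :=
      (DerivedCategory.singleFunctorCompHomologyFunctorIso (ModuleCat.{u} R) 0).app _
    let χ : E.homology 0 ≅ ModuleCat.of R M :=
      φ.symm ≪≫ (DerivedCategory.homologyFunctor (ModuleCat.{u} R) 0).mapIso e ≪≫ ψ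
    exact Module.Finite.equiv χ.toLinearEquiv
  · intro hM
    obtain ⟨n, hn⟩ := Groth.Agent.Lib.helper2.RegPd.exists_hasProjectiveDimensionLT R hreg M
    have hpc : DRing.IsPseudoCoherent' R (Dual.inD R M) :=
      ((Groth.Agent.S6942.result R 0 (Dual.inD R M) M).2).2 hM
    obtain ⟨E, b, h1, h2, h3⟩ := Groth.Agent.Lib.helper2.PerfCrit.perfect_of_pc (Dual.inD R M) hpc
      (-(n : ℤ) - 1) (fun i hi => by
        have : ((DerivedCategory.singleFunctor (ModuleCat.{u} R) 0).obj (ModuleCat.of R M)).IsGE 0 :=
          inferInstance
        exact DerivedCategory.isZero_of_isGE _ 0 i (by lia))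
      (fun G ψ => Groth.Agent.Lib.helper2.GlDimHom.hom_single_eq_zero_of_pd n
        (ModuleCat.of R M) G 0 _ (by lia) ψ)
    exact ⟨E, _, b, h1, h2, h3⟩

end Groth.Agent.S6962
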