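import Groth.Statements.S6964
import Mathlib
import Groth.Agent.Lib.helper2.ProjAmp
-- import your own Groth.Agent.* helpers here

set_option autoImplicit false
universe u
open CategoryTheory CategoryTheory.Limits
attribute [local instance] HasDerivedCategory.standard
open DRing

namespace Groth.Agent.S6964

/-- Let R be a commutative ring, K an object of D(R) and a, b integers. These four conditions are
equivalent: (1) the projective amplitude of K lies in [a, b], meaning K is isomorphic in D(R) to a
complex of projective R-modules vanishing outside [a, b]; (2) Hom(K, N[i]) = 0 in D(R) for every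
R-module N and every integer i outside [-b, -a]; (3) H^n(K) = 0 for all n > b and Hom(K, N[i]) = 0
for every R-module N and every i > -a; (4) H^n(K) = 0 for all n outside [a - 1, b] and Hom(K, N[-a +
1]) = 0 for every R-module N. -/
theorem result (R : Type u) [CommRing R] (K : Dual.D R) (a b : ℤ) :
    [∃ P : DRing.Cx R, DRing.VanishesOutside P a b ∧ (∀ i : ℤ, Module.Projective R (P.X i)) ∧
        Nonempty (DRing.toD P ≅ K),
      ∀ (N : Type u) [AddCommGroup N] [Module R N] (i : ℤ), (i < -b ∨ -a < i) →
        Subsingleton (DRing.ExtD R K (Dual.inD R N) i),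
      (∀ n : ℤ, b < n → Subsingleton (Dual.HD R K n)) ∧
        ∀ (N : Type u) [AddCommGroup N] [Module R N] (i : ℤ), -a < i → Subsingleton (DRing.ExtD R K (Dual.inD R N) i),
      (∀ n : ℤ, (n < a - 1 ∨ b < n) → Subsingleton (Dual.HD R K n)) ∧
        ∀ (N : Type u) [AddCommGroup N] [Module R N], Subsingleton (DRing.ExtD R K (Dual.inD R N) (-a + 1))].TFAE := by
  open Groth.Agent.Lib.helper2.ProjAmp in
  have key : ∀ (F : ModuleCat.{u} R) (i j : ℤ), i + j = 0 →
      (Subsingleton (DRing.ExtD R K (Dual.inD R F) i) ↔
        ∀ ψ : K ⟶ (DerivedCategory.singleFunctor (ModuleCat.{u} R) j).obj F, ψ = 0) := by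
    intro F i j hij
    rw [← hom_single_shift_iff K i j hij F]
    constructor
    · intro h φ
      exact h.elim _ _
    · intro h
      exact ⟨fun φ φ' => by rw [h φ, h φ']⟩
  tfae_have 1 → 2 := by
    rintro ⟨P, hv, hproj, ⟨e⟩⟩ N _ _ i hi
    rw [key (ModuleCat.of R N) i (-i) (by ring)]
    intro ψ
    exact backward K a b P (fun j => by
      have := hproj j
      exact (IsProjective.iff_projective (R := R) (P.X j)).1 this) hv e _ (-i) (by lia) ψ
  tfae_have 2 → 3 := by
    intro h
    refine ⟨fun n hn => ?_, fun N _ _ i hi => h N i (Or.inr hi)⟩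
    have : K.IsLE b := isLE_of_hom_single_eq_zero K b (fun F i hi =>
      (key F (-i) i (by ring)).1 (h F (-i) (Or.inl (by lia))))
    exact ModuleCat.subsingleton_of_isZero (DerivedCategory.isZero_of_isLE K b n hn)
  tfae_have 3 → 4 := by
    rintro ⟨h1, h2⟩
    refine ⟨fun n hn => ?_, fun N _ _ => h2 N (-a + 1) (by lia)⟩
    obtain hn | hn := hn
    · exact ModuleCat.subsingleton_of_isZero
        (isZero_homologyFunctor_of_hom_single_eq_zero K n (fun F =>
          (key F (-n) n (by ring)).1 (h2 F (-n) (by lia))))
    · exact h1 n hn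
  tfae_have 4 → 1 := by
    rintro ⟨h1, h2⟩
    have : K.IsLE b := by
      rw [DerivedCategory.isLE_iff]
      intro i hi
      have := h1 i (Or.inr hi)
      exact ModuleCat.isZero_of_subsingleton _
    obtain ⟨P, hP, h3, h4, ⟨e⟩⟩ := forward_core' K a b (a - 1) (by lia) (fun n hn => by
        have := h1 n (Or.inl hn)
        exact ModuleCat.isZero_of_subsingleton _)
      (fun F => (key F (-a + 1) (a - 1) (by ring)).1 (h2 F))
    refine ⟨P, fun i hi => ?_, fun i => (IsProjective.iff_projective (R := R) (P.X i)).2 (hP i), ⟨e⟩⟩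
    obtain hi | hi := hi
    · exact CochainComplex.isZero_of_isStrictlyGE P a i hi
    · exact CochainComplex.isZero_of_isStrictlyLE P b i hi
  tfae_finish

end Groth.Agent.S6964
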