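import Groth.Statements.S6966
import Mathlib
-- import your own Groth.Agent.* helpers here

set_option autoImplicit false
universe u
open CategoryTheory CategoryTheory.Limits
attribute [local instance] HasDerivedCategory.standard
open CAlg

namespace Groth.Agent.S6966

lemma hom_shift_one_eq_zero_of_projective {R : Type u} [CommRing R] (P N : ModuleCat.{u} R)
    [Projective P]
    (y : (DerivedCategory.singleFunctor (ModuleCat.{u} R) 0).obj P ⟶
      ((DerivedCategory.singleFunctor (ModuleCat.{u} R) 0).obj N)⟦(1 : ℤ)⟧) : y = 0 := by
  have h := Abelian.Ext.eq_zero_of_projective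
    ((Abelian.Ext.homAddEquiv (X := P) (Y := N) (n := 0 + 1)).symm y)
  have h2 := congrArg (Abelian.Ext.homAddEquiv (X := P) (Y := N) (n := 0 + 1)) h
  rw [AddEquiv.apply_symm_apply, map_zero] at h2
  exact h2


/-- Let R be a commutative ring, I an ideal of R and M an R-module. Then the following two conditions
coincide: for each a ∈ I, the endomorphism of M given by multiplication by a can be written as a
composite M → P → M with P some projective R-module; and for every R-module N and every a ∈ I, a
annihilates Ext^1_R(M, N) = Hom(M[0], N[1]) in D(R). -/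
theorem result (R : Type u) [CommRing R] (I : Ideal R) (M : Type u)
    [AddCommGroup M] [Module R M] :
    (∀ a ∈ I, ∃ (P : Type u) (_ : AddCommGroup P) (_ : Module R P) (_ : Module.Projective R P)
        (f : M →ₗ[R] P) (g : P →ₗ[R] M), g ∘ₗ f = a • LinearMap.id) ↔
      ∀ (N : Type u) [AddCommGroup N] [Module R N], ∀ a ∈ I,
        ∀ x : DRing.ExtD R (Dual.inD R M) (Dual.inD R N) 1, a • x = 0 := by
  constructor
  · intro h N _ _ a ha x
    obtain ⟨P, _, _, hP, f, g, hgf⟩ := h a ha
    have h1 : a • x = (a • 𝟙 (Dual.inD R M)) ≫ x := by
      rw [Linear.smul_comp, Category.id_comp]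
    have h2 : a • 𝟙 (Dual.inD R M) =
        (DerivedCategory.singleFunctor (ModuleCat.{u} R) 0).map (ModuleCat.ofHom f) ≫
          (DerivedCategory.singleFunctor (ModuleCat.{u} R) 0).map (ModuleCat.ofHom g) := by
      rw [← CategoryTheory.Functor.map_comp, ← ModuleCat.ofHom_comp, hgf]
      have : ModuleCat.ofHom (a • (LinearMap.id : M →ₗ[R] M)) = a • 𝟙 (ModuleCat.of R M) := rfl
      rw [this, CategoryTheory.Functor.map_smul, CategoryTheory.Functor.map_id]
    have : Projective (ModuleCat.of R P) := by
      rw [← IsProjective.iff_projective]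
      exact hP
    rw [h1, h2, Category.assoc, hom_shift_one_eq_zero_of_projective _ _
      ((DerivedCategory.singleFunctor (ModuleCat.{u} R) 0).map (ModuleCat.ofHom g) ≫ x), comp_zero]
  · intro h a ha
    let F : Type u := M →₀ R
    let p : F →ₗ[R] M := Finsupp.linearCombination R id
    have hp : Function.Surjective p := Finsupp.linearCombination_id_surjective R M
    let K : Submodule R F := LinearMap.ker p
    let S : ShortComplex (ModuleCat.{u} R) :=
      ShortComplex.mk (ModuleCat.ofHom (X := K) (Y := F) K.subtype) (ModuleCat.ofHom (X := F) (Y := M) p) (by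
        apply ModuleCat.hom_ext
        apply LinearMap.ext
        intro x
        exact x.2)
    have hS : S.ShortExact := by
      have hex : S.Exact := by
        rw [ShortComplex.moduleCat_exact_iff]
        intro x hx
        exact ⟨⟨x, hx⟩, rfl⟩
      have : Mono S.f := by
        rw [ModuleCat.mono_iff_injective]
        exact Subtype.val_injective
      have : Epi S.g := by
        rw [ModuleCat.epi_iff_surjective]
        exact hp
      exact ShortComplex.ShortExact.mk hex
    have hξ := h K a ha hS.singleδ
    have h1 : (a • 𝟙 (Dual.inD R M)) ≫ hS.singleδ = 0 := by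
      rw [Linear.smul_comp, Category.id_comp]
      exact hξ
    obtain ⟨φ, hφ⟩ := Pretriangulated.Triangle.coyoneda_exact₃ _ hS.singleTriangle_distinguished
      (a • 𝟙 (Dual.inD R M)) h1
    obtain ⟨φ', rfl⟩ := (DerivedCategory.singleFunctor (ModuleCat.{u} R) 0).map_surjective φ
    have h2 : a • 𝟙 (ModuleCat.of R M) = φ' ≫ S.g := by
      apply (DerivedCategory.singleFunctor (ModuleCat.{u} R) 0).map_injective
      rw [CategoryTheory.Functor.map_comp, CategoryTheory.Functor.map_smul,
        CategoryTheory.Functor.map_id]
      exact hφ
    have : Module.Projective R F := inferInstance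
    refine ⟨F, inferInstance, inferInstance, this, φ'.hom, p, ?_⟩
    have h3 := congrArg ModuleCat.Hom.hom h2
    exact h3.symm

end Groth.Agent.S6966
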