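import Groth.Statements.S6967
import Mathlib.Tactic

set_option autoImplicit false
universe u
open CAlg

namespace Groth.Agent.S6967

/-- Let R be a commutative ring, I an ideal of R and 0 → K → P → M → 0 a short exact sequence of
R-modules with P projective. If multiplication by a on M factors through a projective R-module for
every a ∈ I, then multiplication by a on K factors through a projective R-module for every a ∈ I. -/
theorem result (R : Type u) [CommRing R] (I : Ideal R)
    {K P M : Type u} [AddCommGroup K] [Module R K] [AddCommGroup P] [Module R P] [Module.Projective R P]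
    [AddCommGroup M] [Module R M] (f : K →ₗ[R] P) (g : P →ₗ[R] M) (hf : Function.Injective f)
    (hg : Function.Surjective g) (hfg : LinearMap.range f = LinearMap.ker g)
    (hM : ∀ a ∈ I, ∃ (P : Type u) (_ : AddCommGroup P) (_ : Module R P) (_ : Module.Projective R P)
        (f : M →ₗ[R] P) (g : P →ₗ[R] M), g ∘ₗ f = a • LinearMap.id) :
    ∀ a ∈ I, ∃ (P : Type u) (_ : AddCommGroup P) (_ : Module R P) (_ : Module.Projective R P)
        (f : K →ₗ[R] P) (g : P →ₗ[R] K), g ∘ₗ f = a • LinearMap.id := by
  intro a ha
  obtain ⟨P', _, _, _, f', g', hfg'⟩ := hM a ha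
  -- lift g' : P' → M through g : P → M
  obtain ⟨h, hh⟩ := Module.projective_lifting_property g g' hg
  -- the map a - h f' g : P → P lands in ker g = range f
  let θ : P →ₗ[R] P := a • LinearMap.id - h ∘ₗ f' ∘ₗ g
  have hθ : ∀ x, g (θ x) = 0 := by
    intro x
    have h1 : g (h (f' (g x))) = g' (f' (g x)) := by
      have := congrArg (fun l : P' →ₗ[R] M => l (f' (g x))) hh
      simpa using this
    have h2 : g' (f' (g x)) = a • g x := by
      have := congrArg (fun l : M →ₗ[R] M => l (g x)) hfg'
      simpa using this
    simp only [θ, LinearMap.sub_apply, LinearMap.smul_apply, LinearMap.id_apply, LinearMap.comp_apply,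
      map_sub, map_smul, h1, h2, sub_self]
  have hθ' : ∀ x, θ x ∈ LinearMap.range f := by
    intro x
    rw [hfg, LinearMap.mem_ker]
    exact hθ x
  -- φ : P → K with f ∘ φ = θ
  let e := LinearEquiv.ofInjective f hf
  let φ : P →ₗ[R] K := e.symm.toLinearMap ∘ₗ (θ.codRestrict (LinearMap.range f) hθ')
  have hφ : ∀ x, f (φ x) = θ x := by
    intro x
    have : (e (φ x) : P) = θ x := by
      simp only [φ, LinearMap.comp_apply, LinearEquiv.coe_coe, LinearEquiv.apply_symm_apply]
      rfl
    simpa [e] using this
  refine ⟨P, inferInstance, inferInstance, inferInstance, f, φ, ?_⟩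
  ext k
  apply hf
  rw [LinearMap.comp_apply, hφ]
  have hgf : g (f k) = 0 := by
    have : f k ∈ LinearMap.ker g := by rw [← hfg]; exact ⟨k, rfl⟩
    exact this
  simp only [θ, LinearMap.sub_apply, LinearMap.smul_apply, LinearMap.id_apply, LinearMap.comp_apply,
    hgf, map_zero, sub_zero, map_smul]

end Groth.Agent.S6967
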