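import Groth.Statements.S6968
import Mathlib.LinearAlgebra.Dual.Lemmas
import Mathlib.LinearAlgebra.Finsupp.Supported
import Mathlib.Tactic

set_option autoImplicit false
universe u
open CAlg

namespace Groth.Agent.S6968

/-- Let R be a commutative ring, I an ideal of R and M a finitely generated R-module such that
multiplication by a on M factors through a projective R-module for every a ∈ I. Then multiplication
by a on the dual module Hom_R(M, R) factors through a projective R-module for every a ∈ I. -/
theorem result (R : Type u) [CommRing R] (I : Ideal R) (M : Type u) [AddCommGroup M]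
    [Module R M] [Module.Finite R M]
    (hM : ∀ a ∈ I, ∃ (P : Type u) (_ : AddCommGroup P) (_ : Module R P) (_ : Module.Projective R P)
        (f : M →ₗ[R] P) (g : P →ₗ[R] M), g ∘ₗ f = a • LinearMap.id) :
    ∀ a ∈ I, ∃ (P : Type u) (_ : AddCommGroup P) (_ : Module R P) (_ : Module.Projective R P)
        (f : Module.Dual R M →ₗ[R] P) (g : P →ₗ[R] Module.Dual R M), g ∘ₗ f = a • LinearMap.id := by
  classical
  intro a ha
  obtain ⟨P, _, _, hP, f, g, hfg⟩ := hM a ha
  obtain ⟨s, hs⟩ := Module.projective_def'.1 hP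
  obtain ⟨S, hS⟩ := (Module.Finite.fg_top : (⊤ : Submodule R M).FG)
  set T : Finset P := S.biUnion (fun m => (s (f m)).support) with hT
  have hsup : ∀ m : M, (s ∘ₗ f) m ∈ Finsupp.supported R R (T : Set P) := by
    have hle : Submodule.span R (S : Set M) ≤ (Finsupp.supported R R (T : Set P)).comap (s ∘ₗ f) := by
      rw [Submodule.span_le]
      intro m hm
      rw [SetLike.mem_coe, Submodule.mem_comap, Finsupp.mem_supported]
      intro p hp
      rw [Finset.mem_coe, hT, Finset.mem_biUnion]
      exact ⟨m, hm, hp⟩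
    intro m
    have : m ∈ Submodule.span R (S : Set M) := by rw [hS]; trivial
    exact hle this
  let f₁ : M →ₗ[R] Finsupp.supported R R (T : Set P) := (s ∘ₗ f).codRestrict _ hsup
  let e := Finsupp.supportedEquivFinsupp (M := R) (R := R) (T : Set P)
  let f₀ : M →ₗ[R] ((T : Set P) →₀ R) := e.toLinearMap ∘ₗ f₁
  let g₀ : ((T : Set P) →₀ R) →ₗ[R] M :=
    g ∘ₗ (Finsupp.linearCombination R id) ∘ₗ (Finsupp.supported R R (T : Set P)).subtype ∘ₗ e.symm.toLinearMap
  have h0 : g₀ ∘ₗ f₀ = a • LinearMap.id := by
    rw [← hfg]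
    ext m
    simp only [g₀, f₀, f₁, LinearMap.comp_apply, LinearEquiv.coe_coe, LinearEquiv.symm_apply_apply,
      Submodule.subtype_apply, LinearMap.codRestrict_apply]
    have := congrArg (fun l : P →ₗ[R] P => l (f m)) hs
    simp only [LinearMap.comp_apply, LinearMap.id_apply] at this
    rw [this]
  have : Finite (T : Set P) := Finset.finite_toSet T |>.to_subtype
  refine ⟨Module.Dual R ((T : Set P) →₀ R), inferInstance, inferInstance, inferInstance,
    g₀.dualMap, f₀.dualMap, ?_⟩
  have h1 : f₀.dualMap ∘ₗ g₀.dualMap = (g₀ ∘ₗ f₀).dualMap := (LinearMap.dualMap_comp_dualMap f₀ g₀).symm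
  rw [h1, h0]
  ext φ m
  simp

end Groth.Agent.S6968
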