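import Groth.Statements.S6969
import Mathlib
-- import your own Groth.Agent.* helpers here

set_option autoImplicit false
universe u
open CAlg

namespace Groth.Agent.S6969

/-- Let R be a commutative ring and φ : M → N an R-linear map which factors through a projective
R-module. If M is finitely generated, then φ factors through a finitely generated projective
R-module. -/
theorem result (R : Type u) [CommRing R] {M N : Type u} [AddCommGroup M]
    [Module R M] [Module.Finite R M] [AddCommGroup N] [Module R N] (φ : M →ₗ[R] N)
    (h : ∃ (P : Type u) (_ : AddCommGroup P) (_ : Module R P) (_ : Module.Projective R P) (f : M →ₗ[R] P)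
      (g : P →ₗ[R] N), g ∘ₗ f = φ) :
    ∃ (P : Type u) (_ : AddCommGroup P) (_ : Module R P) (_ : Module.Projective R P) (_ : Module.Finite R P)
      (f : M →ₗ[R] P) (g : P →ₗ[R] N), g ∘ₗ f = φ := by
  classical
  obtain ⟨P, _, _, hP, f, g, hfg⟩ := h
  obtain ⟨s, hs⟩ := Module.projective_def'.mp hP
  let f' : M →ₗ[R] (P →₀ R) := s ∘ₗ f
  have hfg' : (LinearMap.range f').FG := by
    rw [LinearMap.range_eq_map]; exact Module.Finite.fg_top.map f'
  obtain ⟨T, hT⟩ := hfg'
  let t : Finset P := T.biUnion Finsupp.support
  have hsup : LinearMap.range f' ≤ Finsupp.supported R R (t : Set P) := by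
    rw [← hT, Submodule.span_le]
    intro x hx
    rw [SetLike.mem_coe, Finsupp.mem_supported]
    intro p hp
    exact Finset.mem_coe.mpr (Finset.mem_biUnion.mpr ⟨x, hx, hp⟩)
  let e : Finsupp.supported R R (t : Set P) ≃ₗ[R] ((t : Set P) →₀ R) :=
    Finsupp.supportedEquivFinsupp (t : Set P)
  haveI : Module.Finite R (Finsupp.supported R R (t : Set P)) := Module.Finite.equiv e.symm
  haveI : Module.Projective R (Finsupp.supported R R (t : Set P)) := Module.Projective.of_equiv e.symm
  refine ⟨Finsupp.supported R R (t : Set P), inferInstance, inferInstance, inferInstance, inferInstance,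
    f'.codRestrict _ (fun m => hsup (LinearMap.mem_range_self f' m)),
    g ∘ₗ (Finsupp.linearCombination R id) ∘ₗ (Finsupp.supported R R (t : Set P)).subtype, ?_⟩
  ext m
  have h1 : (Finsupp.linearCombination R id) (s (f m)) = f m := by
    have := congrArg (fun k => k (f m)) hs
    simpa using this
  have h2 : g (f m) = φ m := by
    have := congrArg (fun k => k m) hfg
    simpa using this
  simp [f', h1, h2]

end Groth.Agent.S6969
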