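import Groth.Statements.S6971
import Mathlib
import Groth.Agent.Lib.helper2.PCNil
-- import your own Groth.Agent.* helpers here

set_option autoImplicit false
universe u
open CategoryTheory CategoryTheory.Limits
attribute [local instance] HasDerivedCategory.standard
open DRing

namespace Groth.Agent.S6971

/-- Let R' → R be a surjective homomorphism of commutative rings whose kernel is a nilpotent ideal, such
that the derived base change D(R') → D(R) exists, and let K' be an object of D(R'). Then K' ⊗^L R is
pseudo-coherent over R (isomorphic in D(R) to a bounded above complex of finite free modules) if and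
only if K' is pseudo-coherent over R'. -/
theorem result {R' R : Type u} [CommRing R'] [CommRing R]
    (φ : R' →+* R) (hφ : Function.Surjective φ) (hnil : IsNilpotent (RingHom.ker φ))
    [DRing.HasLBaseChange φ] (K' : Dual.D R') :
    DRing.IsPseudoCoherent' R ((DRing.LBaseChange φ).obj K') ↔ DRing.IsPseudoCoherent' R' K' := by
  letI : Algebra R' R := φ.toAlgebra
  have inst : DRing.HasLBaseChange (algebraMap R' R) := (inferInstance : DRing.HasLBaseChange φ)
  constructor
  · intro h
    obtain ⟨P, hPK, hPfl, ⟨e⟩⟩ := Groth.Agent.Lib.helper2.KProjRes.exists_kprojective_flat R' K'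
    rw [Groth.Agent.Lib.helper17.DRingPC.isPseudoCoherent'_iff_isPC] at h ⊢
    have e1 : (DRing.LBaseChange φ).obj K' ≅
        DerivedCategory.Q.obj ((Groth.Agent.Lib.helper2.KPc.bcCx (algebraMap R' R)).obj P) :=
      (DRing.LBaseChange φ).mapIso e.symm ≪≫
        Groth.Agent.Lib.helper2.KPc.LBaseChangeIso (algebraMap R' R) P
    have h1 : PCoh.IsPC (Groth.Agent.Lib.helper17.DRingPC.FF R)
        (DerivedCategory.Q.obj ((Groth.Agent.Lib.helper2.KPc.bcCx (algebraMap R' R)).obj P)) :=
      fun m => Groth.Agent.Lib.helper17.PCohBasic.NPC.of_iso _ (h m) e1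
    have h2 := Groth.Agent.Lib.helper2.PCNil.isPC_of_bc (A := R') (B := R) hφ hnil P hPfl h1
    exact fun m => Groth.Agent.Lib.helper17.PCohBasic.NPC.of_iso _ (h2 m) e
  · rintro ⟨E, b, hb, hE, ⟨e⟩⟩
    have h1 : E.IsStrictlyLE b := by
      rw [CochainComplex.isStrictlyLE_iff]
      exact hb
    have h2 : ∀ i, Projective (E.X i) := fun i => by
      have := (hE i).2
      exact (IsProjective.iff_projective (R := R') (E.X i)).1 inferInstance
    have hEK : E.IsKProjective := CochainComplex.isKProjective_of_projective E b
    refine ⟨(Groth.Agent.Lib.helper2.KPc.bcCx (algebraMap R' R)).obj E, b,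
      fun i hi => (ModuleCat.extendScalars.{u, u, u} (algebraMap R' R)).map_isZero (hb i hi),
      fun i => ?_, ⟨(Groth.Agent.Lib.helper2.KPc.LBaseChangeIso (algebraMap R' R) E).symm ≪≫
        (DRing.LBaseChange φ).mapIso e⟩⟩
    exact Groth.Agent.Lib.helper2.PCNil.FF_bc (A := R') (B := R) _ (hE i)

end Groth.Agent.S6971
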