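import Groth.Statements.S6973
import Groth.Agent.Lib.helper18.FreeLift
import Groth.Agent.S0534

set_option autoImplicit false
universe u
open CategoryTheory CategoryTheory.Limits
attribute [local instance] HasDerivedCategory.standard
open DRing
open TensorProduct

namespace Groth.Agent.S6973

/-- Let (R, I) be a henselian pair such that the derived base change D(R) → D(R/I) exists, K a
pseudo-coherent object of D(R), and E a bounded above cochain complex of finite projective
R/I-modules which is isomorphic in D(R/I) to K ⊗^L_R R/I. Then there is a bounded above cochain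
complex P of finite projective R-modules, isomorphic to K in D(R), whose termwise reduction P ⊗_R
R/I is isomorphic to E as a complex, and such that P^i is free for every i for which E^i is free. -/
theorem result (R : Type u) [CommRing R]
    (I : Ideal R) [HenselianRing R I] [DRing.HasLBaseChange (Ideal.Quotient.mk I)] (K : Dual.D R)
    (hK : DRing.IsPseudoCoherent' R K) (E : DRing.Cx (R ⧸ I)) (b : ℤ) (hEb : DRing.VanishesAbove E b)
    (hEp : DRing.TermwiseFiniteProjective E)
    (hE : Nonempty (DRing.toD E ≅ (DRing.LBaseChange (Ideal.Quotient.mk I)).obj K)) :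
    ∃ (P : DRing.Cx R) (b' : ℤ), DRing.VanishesAbove P b' ∧ DRing.TermwiseFiniteProjective P ∧
      Nonempty (DRing.toD P ≅ K) ∧ Nonempty ((((ModuleCat.extendScalars (Ideal.Quotient.mk I)).mapHomologicalComplex (ComplexShape.up ℤ)).obj P) ≅ E) ∧
      ∀ i : ℤ, Module.Free (R ⧸ I) (E.X i) → Module.Free R (P.X i) := by
  classical
  have hI : I ≤ Ideal.jacobson (⊥ : Ideal R) := HenselianRing.jac
  let Pc : ObjectProperty (ModuleCat.{u} R) :=
    fun X => Module.Finite R X ∧ Module.Projective R X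
  haveI : Pc.IsClosedUnderIsomorphisms :=
    ⟨fun {X Y} e hX => by
      obtain ⟨hf, hs⟩ := hX
      haveI := hf
      haveI := hs
      exact ⟨Module.Finite.equiv e.toLinearEquiv, Module.Projective.of_equiv e.toLinearEquiv⟩⟩
  have h1 : ∀ X : ModuleCat.{u} R, Pc X → Module.Projective R X := fun X hX => hX.2
  have h2 : ∀ X Y : ModuleCat.{u} R, Pc X → (Pc (ModuleCat.of R (X × Y)) ↔ Pc Y) := by
    intro X Y hX
    obtain ⟨hXf, hXp⟩ := hX
    haveI := hXf
    haveI := hXp
    constructor
    · intro hP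
      obtain ⟨hPf, hPp⟩ := hP
      haveI iPf : Module.Finite R (X × Y) := hPf
      haveI iPp : Module.Projective R (X × Y) := hPp
      have hYf : Module.Finite R Y :=
        Module.Finite.of_surjective (LinearMap.snd R X Y) LinearMap.snd_surjective
      have hYp : Module.Projective R Y :=
        Module.Projective.of_split (LinearMap.inr R X Y) (LinearMap.snd R X Y)
          (by ext; simp)
      exact ⟨hYf, hYp⟩
    · intro hY
      obtain ⟨hYf, hYp⟩ := hY
      haveI := hYf
      haveI := hYp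
      have hPf : Module.Finite R (X × Y) := inferInstance
      have hPp : Module.Projective R (X × Y) := inferInstance
      exact ⟨hPf, hPp⟩
  have h3 : ∀ (X Y : ModuleCat.{u} R) (f : X ⟶ Y), Pc X → Pc Y →
      LinearMap.range f.hom ⊔ I • (⊤ : Submodule R Y) = ⊤ → Function.Surjective f.hom := by
    intro X Y f _ hY hr
    haveI := hY.1
    rw [← LinearMap.range_eq_top]
    refine top_le_iff.1 ?_
    exact Submodule.le_of_le_smul_of_le_jacobson_bot Module.Finite.fg_top hI hr.ge
  have hK' : ∃ (Q : DRing.Cx R) (c : ℤ), DRing.VanishesAbove Q c ∧ (∀ i : ℤ, Pc (Q.X i)) ∧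
      Nonempty (DRing.toD Q ≅ K) := by
    obtain ⟨Q₀, c, hQc, hQff, hQe⟩ := hK
    refine ⟨Q₀, c, hQc, fun i => ⟨(hQff i).1, ?_⟩, hQe⟩
    haveI := (hQff i).2
    exact Module.Projective.of_free
  have hEt : ∀ i : ℤ, ∃ X : ModuleCat.{u} R, Pc X ∧
      Nonempty (TensorProduct R (R ⧸ I) X ≃ₗ[R ⧸ I] E.X i) := by
    intro i
    haveI := (hEp i).1
    haveI := (hEp i).2
    obtain ⟨M, iM1, iM2, hMf, hMp, ⟨e⟩⟩ := Groth.Agent.S0534.result R I (E.X i)
    exact ⟨ModuleCat.of R M, ⟨hMf, hMp⟩, ⟨e⟩⟩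
  obtain ⟨Q₀, c, hQc, hQP, ⟨eQ⟩⟩ := hK'
  obtain ⟨eE⟩ := hE
  obtain ⟨P, b', hPb, hPP, hPK, hPE⟩ := Groth.Agent.Lib.helper18.RepLift.exists_rep I Pc h1 h2 h3 K
    Q₀ c hQc hQP eQ E b hEb hEt eE
  refine ⟨P, b', hPb, hPP, hPK, hPE, ?_⟩
  intro i hfree
  obtain ⟨θ⟩ := hPE
  haveI := (hPP i).1
  haveI := (hPP i).2
  let e : ((R ⧸ I) ⊗[R] (P.X i)) ≃ₗ[R ⧸ I] E.X i :=
    (Groth.Agent.Lib.helper17.DRingBC.extendScalarsObjEquiv (A := R) (B := R ⧸ I) (P.X i)).symm.trans
      ((HomologicalComplex.eval _ _ i).mapIso θ).toLinearEquiv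
  have hfree' : Module.Free (R ⧸ I) ((R ⧸ I) ⊗[R] (P.X i)) := Module.Free.of_equiv e.symm
  exact Groth.Agent.Lib.helper18.FreeLift.free_of_free_quot I hI (P.X i) hfree'

end Groth.Agent.S6973
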