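import Groth.Statements.S6975
import Mathlib
import Groth.Agent.Lib.helper17.FiberLB
import Groth.Agent.S6954

set_option autoImplicit false
universe u
open CategoryTheory CategoryTheory.Limits
attribute [local instance] HasDerivedCategory.standard
open DRing

namespace Groth.Agent.S6975

/-- Let R be a local commutative ring with residue field κ such that the derived base change D(R) → D(κ)
exists, and let K be a pseudo-coherent object of D(R). If there is an integer a with H^i(K ⊗^L_R κ)
= 0 for all i < a, then K is perfect. -/
theorem result (R : Type u) [CommRing R] [IsLocalRing R]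
    [DRing.HasLBaseChange (IsLocalRing.residue R)] (K : Dual.D R) (hK : DRing.IsPseudoCoherent' R K) (a : ℤ)
    (h : ∀ i : ℤ, i < a → Subsingleton (Dual.HD (IsLocalRing.ResidueField R)
      ((DRing.LBaseChange (IsLocalRing.residue R)).obj K) i)) :
    DRing.IsPerfect R K := by
  obtain ⟨E, b0, hEb, hE, ⟨e⟩⟩ := hK
  have htor : DRing.HasTorAmplitudeIn R a b0 (DRing.toD E) := by
    refine Groth.Agent.Lib.helper17.FiberTA.torAmp_of_fiber_local R E b0 hEb hE a b0 ?_
    rintro i (hi | hi)
    · exact Groth.Agent.Lib.helper17.FiberLB.isZero_homology_bcCx (IsLocalRing.residue R) E b0 hEb hE K e i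
        (h i hi)
    · rw [← HomologicalComplex.exactAt_iff_isZero_homology]
      exact ShortComplex.exact_of_isZero_X₂ _
        ((ModuleCat.extendScalars.{u, u, u} (IsLocalRing.residue R)).map_isZero (hEb i hi))
  refine (Groth.Agent.S6954.result R K).2 ⟨⟨E, b0, hEb, hE, ⟨e⟩⟩, a, b0, ?_⟩
  exact Groth.Agent.Lib.helper17.DRingTA.torAmp_of_iso htor e

end Groth.Agent.S6975
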