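import Groth.Statements.S6980
import Mathlib
import Groth.Agent.Lib.helper2.PCTwo
import Groth.Agent.S6954
-- import your own Groth.Agent.* helpers here

set_option autoImplicit false
universe u
open CategoryTheory CategoryTheory.Limits
attribute [local instance] HasDerivedCategory.standard
open DRing

namespace Groth.Agent.S6980

open Groth.Agent.Lib.helper2 Groth.Agent.Lib.helper17 in
/-- ring-hom form of the two-ideal descent of perfectness -/
theorem perfect_of_two {A B₁ B₂ : Type u} [CommRing A] [CommRing B₁] [CommRing B₂]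
    (f₁ : A →+* B₁) (f₂ : A →+* B₂) (h₁ : Function.Surjective f₁) (h₂ : Function.Surjective f₂)
    (h12 : RingHom.ker f₁ * RingHom.ker f₂ = ⊥) (P : DRing.Cx A) [P.IsKProjective]
    (hP : ∀ j, Module.Flat A (P.X j))
    (hB₁ : DRing.IsPerfect B₁ (DerivedCategory.Q.obj ((KPc.bcCx f₁).obj P)))
    (hB₂ : DRing.IsPerfect B₂ (DerivedCategory.Q.obj ((KPc.bcCx f₂).obj P))) :
    DRing.IsPerfect A (DerivedCategory.Q.obj P) := by
  let _ : Algebra A B₁ := f₁.toAlgebra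
  let _ : Algebra A B₂ := f₂.toAlgebra
  rw [Groth.Agent.S6954.result] at hB₁ hB₂ ⊢
  obtain ⟨hpc₁, a₁, b₁, htor₁⟩ := hB₁
  obtain ⟨hpc₂, a₂, b₂, htor₂⟩ := hB₂
  rw [DRingPC.isPseudoCoherent'_iff_isPC] at hpc₁ hpc₂ ⊢
  exact ⟨PCTwo.isPC_of_bc (A := A) (B₁ := B₁) (B₂ := B₂) h₁ h₂ h12 P hP hpc₁ hpc₂,
    min a₁ a₂, max b₁ b₂,
    PCTwo.torAmp_of_bc (A := A) (B₁ := B₁) (B₂ := B₂) h₁ h₂ h12 P hP a₁ b₁ a₂ b₂ htor₁ htor₂⟩


/-- Let R be a commutative ring, I and J ideals of R such that the derived base changes D(R) → D(R/I),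
D(R/J), D(R/IJ) exist, and K an object of D(R). If K ⊗^L_R R/I is perfect in D(R/I) and K ⊗^L_R R/J
is perfect in D(R/J), then K ⊗^L_R R/IJ is perfect in D(R/IJ). -/
theorem result (R : Type u) [CommRing R] (I J : Ideal R)
    [DRing.HasLBaseChange (Ideal.Quotient.mk I)] [DRing.HasLBaseChange (Ideal.Quotient.mk J)]
    [DRing.HasLBaseChange (Ideal.Quotient.mk (I * J))] (K : Dual.D R)
    (hI : DRing.IsPerfect (R ⧸ I) ((DRing.LBaseChange (Ideal.Quotient.mk I)).obj K))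
    (hJ : DRing.IsPerfect (R ⧸ J) ((DRing.LBaseChange (Ideal.Quotient.mk J)).obj K)) :
    DRing.IsPerfect (R ⧸ (I * J)) ((DRing.LBaseChange (Ideal.Quotient.mk (I * J))).obj K) := by
  obtain ⟨P, hPK, hPfl, ⟨e⟩⟩ := Groth.Agent.Lib.helper2.KProjRes.exists_kprojective_flat R K
  have hle₁ : I * J ≤ I := Ideal.mul_le_left
  have hle₂ : I * J ≤ J := Ideal.mul_le_right
  let φ := Ideal.Quotient.mk (I * J)
  let f₁ := Ideal.Quotient.factor hle₁
  let f₂ := Ideal.Quotient.factor hle₂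
  have hc₁ : f₁.comp φ = Ideal.Quotient.mk I := Ideal.Quotient.factor_comp_mk hle₁
  have hc₂ : f₂.comp φ = Ideal.Quotient.mk J := Ideal.Quotient.factor_comp_mk hle₂
  have hK₀ := Groth.Agent.Lib.helper2.NilDev.isKProjective_bcCx φ P
  have hfl := Groth.Agent.Lib.helper2.PCTwo.flat_bcCx φ P hPfl
  have h12 : RingHom.ker f₁ * RingHom.ker f₂ = ⊥ := by
    rw [Ideal.Quotient.factor_ker hle₁, Ideal.Quotient.factor_ker hle₂, ← Ideal.map_mul,
      Ideal.map_quotient_self]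
  have hB₁ : DRing.IsPerfect (R ⧸ I) (DerivedCategory.Q.obj
      ((Groth.Agent.Lib.helper2.KPc.bcCx f₁).obj ((Groth.Agent.Lib.helper2.KPc.bcCx φ).obj P))) := by
    refine Groth.Agent.Lib.helper2.PerfRep.isPerfect_of_iso ?_ hI
    exact (DRing.LBaseChange (Ideal.Quotient.mk I)).mapIso e.symm ≪≫
      Groth.Agent.Lib.helper2.KPc.LBaseChangeIso (Ideal.Quotient.mk I) P ≪≫
      DerivedCategory.Q.mapIso (Groth.Agent.Lib.helper2.PCTwo.bcCompIso φ f₁ _ hc₁ P).symm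
  have hB₂ : DRing.IsPerfect (R ⧸ J) (DerivedCategory.Q.obj
      ((Groth.Agent.Lib.helper2.KPc.bcCx f₂).obj ((Groth.Agent.Lib.helper2.KPc.bcCx φ).obj P))) := by
    refine Groth.Agent.Lib.helper2.PerfRep.isPerfect_of_iso ?_ hJ
    exact (DRing.LBaseChange (Ideal.Quotient.mk J)).mapIso e.symm ≪≫
      Groth.Agent.Lib.helper2.KPc.LBaseChangeIso (Ideal.Quotient.mk J) P ≪≫
      DerivedCategory.Q.mapIso (Groth.Agent.Lib.helper2.PCTwo.bcCompIso φ f₂ _ hc₂ P).symm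
  have h := perfect_of_two f₁ f₂ (Ideal.Quotient.factor_surjective hle₁)
    (Ideal.Quotient.factor_surjective hle₂) h12 _ hfl hB₁ hB₂
  refine Groth.Agent.Lib.helper2.PerfRep.isPerfect_of_iso ?_ h
  exact (Groth.Agent.Lib.helper2.KPc.LBaseChangeIso φ P).symm ≪≫
    (DRing.LBaseChange φ).mapIso e

end Groth.Agent.S6980
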