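import Groth.Statements.S6981
import Mathlib
import Groth.Agent.Lib.helper17.DRingRes
-- import your own Groth.Agent.* helpers here

set_option autoImplicit false
universe u
open CategoryTheory CategoryTheory.Limits
attribute [local instance] HasDerivedCategory.standard
open DRing

open Groth.Agent.Lib.helper17

namespace Groth.Agent.S6981

/-- evaluation at `0` as an `R[X]`-linear map onto `R` (restricted along `X ↦ 0`). -/
noncomputable def ev0 (R : Type u) [CommRing R] :
    Polynomial R →ₗ[Polynomial R]
      ((ModuleCat.restrictScalars (Polynomial.evalRingHom (0 : R))).obj (ModuleCat.of R R)) where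
  toFun := fun p => (Polynomial.eval 0 p : R)
  map_add' := fun p q => by
    show (Polynomial.eval 0 (p + q) : R) = (Polynomial.eval 0 p + Polynomial.eval 0 q : R)
    exact Polynomial.eval_add
  map_smul' := fun q p => by
    show (Polynomial.eval 0 (q * p) : R) = (Polynomial.eval 0 q * Polynomial.eval 0 p : R)
    exact Polynomial.eval_mul

lemma ev0_apply (R : Type u) [CommRing R] (p : Polynomial R) :
    ev0 R p = (Polynomial.eval 0 p : R) := rfl

noncomputable def mulX (R : Type u) [CommRing R] : Polynomial R →ₗ[Polynomial R] Polynomial R :=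
  LinearMap.toSpanSingleton (Polynomial R) (Polynomial R) Polynomial.X

lemma mulX_apply (R : Type u) [CommRing R] (p : Polynomial R) :
    mulX R p = p * Polynomial.X := rfl

lemma koszul_zero (R : Type u) [CommRing R] :
    (ModuleCat.ofHom (mulX R)) ≫ (ModuleCat.ofHom (ev0 R)) = 0 := by
  ext
  show ev0 R (mulX R 1) = 0
  rw [mulX_apply, ev0_apply]
  show (Polynomial.eval 0 (1 * Polynomial.X) : R) = (0 : R)
  simp

lemma koszul_shortExact (R : Type u) [CommRing R] :
    (ShortComplex.mk (ModuleCat.ofHom (mulX R)) (ModuleCat.ofHom (ev0 R))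
      (koszul_zero R)).ShortExact := by
  refine ShortComplex.ShortExact.mk' ?_ ?_ ?_
  · rw [ShortComplex.moduleCat_exact_iff]
    intro (p : Polynomial R) hp
    have hp' : (Polynomial.eval 0 p : R) = 0 := hp
    have h1 : Polynomial.X ∣ p := by
      rw [Polynomial.X_dvd_iff, Polynomial.coeff_zero_eq_eval_zero]
      exact hp'
    obtain ⟨q, hq⟩ := h1
    refine ⟨q, ?_⟩
    show q * Polynomial.X = p
    rw [hq, mul_comm]
  · rw [ModuleCat.mono_iff_injective]
    intro (p : Polynomial R) (q : Polynomial R) h
    have h' : p * Polynomial.X = q * Polynomial.X := h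
    exact (Polynomial.isRegular_X (R := R)).right h'
  · rw [ModuleCat.epi_iff_surjective]
    intro (a : R)
    exact ⟨Polynomial.C a, (Polynomial.eval_C : Polynomial.eval 0 (Polynomial.C a) = a)⟩

/-- Let R be a commutative ring, K an object of D(R), m an integer, and R[x] → R the R-algebra
homomorphism sending x to 0. Then K is m-pseudo-coherent over R if and only if K, regarded as an
object of D(R[x]) by restriction of scalars along this map, is m-pseudo-coherent over R[x]. -/
theorem result (R : Type u) [CommRing R] (K : Dual.D R)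
    (m : ℤ) :
    DRing.IsPseudoCoherent R m K ↔
      DRing.IsPseudoCoherent (Polynomial R) m ((DRing.restrictD (Polynomial.evalRingHom (0 : R))).obj K) := by
  let φ : Polynomial R →+* R := Polynomial.evalRingHom (0 : R)
  have hS := koszul_shortExact R
  have hFF : DRingPC.FF (Polynomial R) (ModuleCat.of (Polynomial R) (Polynomial R)) :=
    ⟨inferInstance, inferInstance⟩
  have hB' : ∀ k : ℤ, PCohBasic.NPC (DRingPC.FF (Polynomial R)) k
      ((DerivedCategory.singleFunctor _ 0).obj ((DRingRes.resF φ).obj (ModuleCat.of R R))) := by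
    intro k
    exact (PCohLES.NPC_shortExact (DRingPC.FF (Polynomial R)) (DRingPC.FF_prod _)
      (DRingPC.FF_hqs _) (DRingPC.FF_hql _) hS k).1
      (DRingPC.NPC_single_of_FF _ _ hFF (k + 1)) (DRingPC.NPC_single_of_FF _ _ hFF k)
  rw [DRingPC.isPseudoCoherent_iff_NPC, DRingPC.isPseudoCoherent_iff_NPC]
  exact ⟨fun h => DRingRes.NPC_resD φ hB' h, fun h => DRingRes.NPC_of_resD φ hB' m K h⟩

end Groth.Agent.S6981
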