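import Groth.Statements.S6988
import Mathlib
import Groth.Agent.Lib.helper2.TwoTermQI
-- import your own Groth.Agent.* helpers here

set_option autoImplicit false
universe u
open CategoryTheory CategoryTheory.Limits
attribute [local instance] HasDerivedCategory.standard
open DRing

namespace Groth.Agent.S6988

/-- Let R be a commutative ring, K a pseudo-coherent object of D(R) and i an integer. Then some finitely
presented R-module M admits a morphism K → M[-i] in D(R) that is injective on H^i (here H^i(M[-i]) =
M). -/
theorem result (R : Type u) [CommRing R] (K : Dual.D R)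
    (hK : DRing.IsPseudoCoherent' R K) (i : ℤ) :
    ∃ (M : Type u) (_ : AddCommGroup M) (_ : Module R M) (_ : Module.FinitePresentation R M)
      (f : K ⟶ (shiftFunctor (Dual.D R) (-i)).obj (Dual.inD R M)),
      Mono ((DerivedCategory.homologyFunctor (ModuleCat.{u} R) i).map f) := by
  obtain ⟨E, b, _, hEf, ⟨e⟩⟩ := hK
  have := (hEf i).1
  have := (hEf i).2
  have := (hEf (i - 1)).1
  let dm : E.X (i - 1) →ₗ[R] E.X i := (E.d (i - 1) i).hom
  let M := E.X i ⧸ LinearMap.range dm
  have hfp : Module.FinitePresentation R M := by
    apply Module.finitePresentation_of_free_of_surjective (LinearMap.range dm).mkQ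
      (LinearMap.range dm).mkQ_surjective
    rw [Submodule.ker_mkQ, LinearMap.range_eq_map]
    exact Submodule.FG.map _ Module.Finite.fg_top
  let π : E.X i ⟶ ModuleCat.of R M := ModuleCat.ofHom (LinearMap.range dm).mkQ
  have hπ : ∀ j : ℤ, (ComplexShape.up ℤ).Rel j i → E.d j i ≫ π = 0 := by
    intro j hj
    obtain rfl : j = i - 1 := by simp at hj; lia
    ext x
    show (LinearMap.range dm).mkQ (dm x) = 0
    rw [Submodule.mkQ_apply, Submodule.Quotient.mk_eq_zero]
    exact ⟨x, rfl⟩
  let S : CochainComplex (ModuleCat.{u} R) ℤ :=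
    (HomologicalComplex.single (ModuleCat.{u} R) (ComplexShape.up ℤ) i).obj (ModuleCat.of R M)
  let c : E ⟶ S := HomologicalComplex.mkHomToSingle π hπ
  have hc : c.f i = π ≫ (HomologicalComplex.singleObjXSelf (ComplexShape.up ℤ) i
      (ModuleCat.of R M)).inv := HomologicalComplex.mkHomToSingle_f π hπ
  -- homologyMap c i is mono
  have hSd : S.d (i - 1) i = 0 := by simp [S]
  have hpS : IsIso (S.pOpcycles i) := S.isIso_pOpcycles (i - 1) i (by simp) hSd
  have hop : Mono (HomologicalComplex.opcyclesMap c i) := by
    rw [ModuleCat.mono_iff_injective, injective_iff_map_eq_zero]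
    intro x hx
    obtain ⟨y, rfl⟩ := Groth.Agent.Lib.helper2.TwoTermQI.pOpcycles_surjective E i x
    rw [Groth.Agent.Lib.helper2.TwoTermQI.opcyclesMap_pOpcycles] at hx
    have h1 : c.f i y = 0 := by
      have hinj := (ModuleCat.mono_iff_injective (S.pOpcycles i)).1 inferInstance
      apply hinj
      rw [hx, map_zero]
    rw [hc] at h1
    have h2 : π y = 0 := by
      have hinj := Groth.Agent.Lib.helper2.TwoTermQI.iso_hom_injective
        (HomologicalComplex.singleObjXSelf (ComplexShape.up ℤ) i (ModuleCat.of R M)).symm
      apply hinj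
      rw [map_zero]
      exact h1
    have h3 : y ∈ LinearMap.range dm := by
      have : (LinearMap.range dm).mkQ y = 0 := h2
      rwa [Submodule.mkQ_apply, Submodule.Quotient.mk_eq_zero] at this
    obtain ⟨z, rfl⟩ := h3
    have := ConcreteCategory.congr_hom (E.d_pOpcycles (i - 1) i) z
    exact this
  have hmono : Mono (HomologicalComplex.homologyMap c i) := by
    have h1 : HomologicalComplex.homologyMap c i ≫ S.homologyι i =
        E.homologyι i ≫ HomologicalComplex.opcyclesMap c i :=
      HomologicalComplex.homologyι_naturality c i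
    have h2 : Mono (HomologicalComplex.homologyMap c i ≫ S.homologyι i) := by
      rw [h1]
      infer_instance
    exact mono_of_mono _ (S.homologyι i)
  -- assemble
  let e1 : (DerivedCategory.singleFunctor (ModuleCat.{u} R) i).obj (ModuleCat.of R M) ≅
      DerivedCategory.Q.obj S :=
    (DerivedCategory.singleFunctorIsoCompQ (ModuleCat.{u} R) i).app (ModuleCat.of R M)
  let e2 : (shiftFunctor (Dual.D R) (-i)).obj (Dual.inD R M) ≅
      (DerivedCategory.singleFunctor (ModuleCat.{u} R) i).obj (ModuleCat.of R M) :=
    ((DerivedCategory.singleFunctors (ModuleCat.{u} R)).shiftIso (-i) i 0 (by lia)).app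
      (ModuleCat.of R M)
  refine ⟨M, inferInstance, inferInstance, hfp,
    e.inv ≫ DerivedCategory.Q.map c ≫ e1.inv ≫ e2.inv, ?_⟩
  have hQ : Mono ((DerivedCategory.homologyFunctor (ModuleCat.{u} R) i).map
      (DerivedCategory.Q.map c)) := by
    let φE : (DerivedCategory.homologyFunctor (ModuleCat.{u} R) i).obj (DerivedCategory.Q.obj E) ≅
        E.homology i := (DerivedCategory.homologyFunctorFactors (ModuleCat.{u} R) i).app E
    let φS : (DerivedCategory.homologyFunctor (ModuleCat.{u} R) i).obj (DerivedCategory.Q.obj S) ≅
        S.homology i := (DerivedCategory.homologyFunctorFactors (ModuleCat.{u} R) i).app S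
    have hn : (DerivedCategory.homologyFunctor (ModuleCat.{u} R) i).map (DerivedCategory.Q.map c) ≫
        φS.hom = φE.hom ≫ HomologicalComplex.homologyMap c i :=
      (DerivedCategory.homologyFunctorFactors (ModuleCat.{u} R) i).hom.naturality c
    have : (DerivedCategory.homologyFunctor (ModuleCat.{u} R) i).map (DerivedCategory.Q.map c) =
        φE.hom ≫ HomologicalComplex.homologyMap c i ≫ φS.inv := by
      rw [← Category.assoc, ← hn, Category.assoc, Iso.hom_inv_id, Category.comp_id]
    rw [this]
    infer_instance
  simp only [Functor.map_comp]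
  infer_instance

end Groth.Agent.S6988
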