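import Groth.Statements.S6989
import Mathlib
import Groth.Agent.S6939
import Groth.Agent.S6942
import Groth.Agent.S6988
-- import your own Groth.Agent.* helpers here

set_option autoImplicit false
universe u
open CategoryTheory CategoryTheory.Limits
attribute [local instance] HasDerivedCategory.standard
open DRing

namespace Groth.Agent.S6989

/-- `H^i(M[-i]) ≅ M` -/
noncomputable def ψ {A : Type u} [CommRing A] (i : ℤ) (M : ModuleCat.{u} A) :
    (DerivedCategory.homologyFunctor (ModuleCat.{u} A) i).obj
      ((shiftFunctor (DerivedCategory (ModuleCat.{u} A)) (-i)).obj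
        ((DerivedCategory.singleFunctor (ModuleCat.{u} A) 0).obj M)) ≅ M :=
  (DerivedCategory.homologyFunctor (ModuleCat.{u} A) i).mapIso
    (((DerivedCategory.singleFunctors (ModuleCat.{u} A)).shiftIso (-i) i 0 (by lia)).app M) ≪≫
  (DerivedCategory.singleFunctorCompHomologyFunctorIso (ModuleCat.{u} A) i).app M

lemma ψ_naturality {A : Type u} [CommRing A] (i : ℤ) {M M' : ModuleCat.{u} A} (q : M ⟶ M') :
    (DerivedCategory.homologyFunctor (ModuleCat.{u} A) i).map
      ((shiftFunctor (DerivedCategory (ModuleCat.{u} A)) (-i)).map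
        ((DerivedCategory.singleFunctor (ModuleCat.{u} A) 0).map q)) ≫ (ψ i M').hom =
    (ψ i M).hom ≫ q := by
  have h1 := ((DerivedCategory.singleFunctors (ModuleCat.{u} A)).shiftIso (-i) i 0
    (by lia)).hom.naturality q
  have h2 := (DerivedCategory.singleFunctorCompHomologyFunctorIso (ModuleCat.{u} A) i).hom.naturality q
  dsimp at h1 h2
  dsimp [ψ]
  rw [← Category.assoc, ← CategoryTheory.Functor.map_comp]
  erw [h1]
  rw [CategoryTheory.Functor.map_comp, Category.assoc]
  erw [h2]
  rw [Category.assoc]


/-- Let A be a Noetherian commutative ring, K an object of D(A) whose cohomology vanishes in large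
degrees and whose cohomology modules are all finitely generated, m a maximal ideal of A and i an
integer such that m H^i(K) ≠ H^i(K). Then some finitely generated A-module E killed by a power of m
receives a morphism K → E[-i] in D(A) whose induced map H^i(K) → H^i(E[-i]) is nonzero. -/
theorem result (A : Type u) [CommRing A]
    [IsNoetherianRing A] (K : Dual.D A) (hb : ∃ b : ℤ, ∀ j : ℤ, b < j → Subsingleton (Dual.HD A K j))
    (hfin : ∀ j : ℤ, Module.Finite A (Dual.HD A K j)) (m : Ideal A) [m.IsMaximal] (i : ℤ)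
    (hi : m • (⊤ : Submodule A (Dual.HD A K i)) ≠ ⊤) :
    ∃ (E : Type u) (_ : AddCommGroup E) (_ : Module A E) (_ : Module.Finite A E) (n : ℕ)
      (_ : m ^ n • (⊤ : Submodule A E) = ⊥) (f : K ⟶ (shiftFunctor (Dual.D A) (-i)).obj (Dual.inD A E)),
      (DerivedCategory.homologyFunctor (ModuleCat.{u} A) i).map f ≠ 0 := by
  have hpc : DRing.IsPseudoCoherent' A K := by
    apply (Groth.Agent.S6939.result A 0 K hb).2
    intro j
    exact ((Groth.Agent.S6942.result A 0 K (Dual.HD A K j)).2).2 (hfin j)
  obtain ⟨M, _, _, hfp, f, hf⟩ := Groth.Agent.S6988.result A K hpc i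
  have hMfin : Module.Finite A M := inferInstance
  let g : (DerivedCategory.homologyFunctor (ModuleCat.{u} A) i).obj K ⟶ ModuleCat.of A M :=
    (DerivedCategory.homologyFunctor (ModuleCat.{u} A) i).map f ≫ (ψ i (ModuleCat.of A M)).hom
  have hg : Function.Injective g := by
    rw [← ModuleCat.mono_iff_injective]
    infer_instance
  -- find n and x
  have hex : ∃ (n : ℕ) (x : Dual.HD A K i), g x ∉ (m ^ n • ⊤ : Submodule A M) := by
    by_contra hcon
    push Not at hcon
    apply hi
    rw [eq_top_iff]
    intro x _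
    have hx : g x ∈ (⨅ n : ℕ, m ^ n • ⊤ : Submodule A M) := by
      rw [Submodule.mem_iInf]
      intro n
      exact hcon n x
    obtain ⟨r, hr⟩ := (Ideal.mem_iInf_smul_pow_eq_bot_iff m (g x)).1 hx
    have h1 : g ((r : A) • x) = g x := by
      rw [map_smul]
      exact hr
    rw [← hg h1]
    exact Submodule.smul_mem_smul r.2 Submodule.mem_top
  obtain ⟨n, x, hx⟩ := hex
  let N : Submodule A M := m ^ n • ⊤
  let q : ModuleCat.of A M ⟶ ModuleCat.of A (M ⧸ N) := ModuleCat.ofHom N.mkQ
  refine ⟨M ⧸ N, inferInstance, inferInstance, inferInstance, n, ?_,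
    f ≫ (shiftFunctor (Dual.D A) (-i)).map
      ((DerivedCategory.singleFunctor (ModuleCat.{u} A) 0).map q), ?_⟩
  · rw [eq_bot_iff, Submodule.smul_le]
    intro a ha e _
    obtain ⟨y, rfl⟩ := N.mkQ_surjective e
    rw [Submodule.mem_bot, ← map_smul, Submodule.mkQ_apply, Submodule.Quotient.mk_eq_zero]
    exact Submodule.smul_mem_smul ha Submodule.mem_top
  · intro h0
    apply hx
    rw [CategoryTheory.Functor.map_comp] at h0
    have h1 : g ≫ q = 0 := by
      dsimp only [g]
      rw [Category.assoc, ← ψ_naturality, ← Category.assoc, h0, zero_comp]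
    have h2 := ConcreteCategory.congr_hom h1 x
    have h3 : N.mkQ (g x) = 0 := h2
    rwa [Submodule.mkQ_apply, Submodule.Quotient.mk_eq_zero] at h3

end Groth.Agent.S6989
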