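import Groth.Statements.S6990
import Mathlib
import Groth.Agent.Lib.helper2.ProjAmp
-- import your own Groth.Agent.* helpers here

set_option autoImplicit false
universe u
open CategoryTheory CategoryTheory.Limits
attribute [local instance] HasDerivedCategory.standard
open DRing

namespace Groth.Agent.S6990

open CategoryTheory.Pretriangulated in
/-- Let R be a commutative ring, a, b integers, L an object of D(R) isomorphic to a complex of
projective R-modules vanishing outside [a, b], and K an object of D(R). (1) If H^i(K) = 0 for all i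
≥ a, then every morphism L → K in D(R) is zero. (2) If H^i(K) = 0 for all i ≥ a + 1, then for every
distinguished triangle K → M → L → K[1] there is an isomorphism M ≅ K ⊕ L carrying K → M to the
first inclusion and whose composite with the second projection is M → L. -/
theorem result (R : Type u) [CommRing R] (a b : ℤ)
    (L : Dual.D R) (hL : ∃ P : DRing.Cx R, DRing.VanishesOutside P a b ∧ (∀ i : ℤ, Module.Projective R (P.X i)) ∧
      Nonempty (DRing.toD P ≅ L)) (K : Dual.D R) :
    ((∀ i : ℤ, a ≤ i → Subsingleton (Dual.HD R K i)) → Subsingleton (L ⟶ K)) ∧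
      ((∀ i : ℤ, a + 1 ≤ i → Subsingleton (Dual.HD R K i)) → ∀ (T : Triangle (Dual.D R)), T ∈ distinguishedTriangles →
        T.obj₁ = K → T.obj₃ = L → ∀ [HasBinaryBiproduct T.obj₁ T.obj₃],
          ∃ e : T.obj₂ ≅ T.obj₁ ⊞ T.obj₃, T.mor₁ ≫ e.hom = biprod.inl ∧ e.hom ≫ biprod.snd = T.mor₂) := by
  open Groth.Agent.Lib.helper2.ProjAmp in
  obtain ⟨P, hv, hproj, ⟨e⟩⟩ := hL
  have hP : ∀ n, Projective (P.X n) := fun j =>
    (IsProjective.iff_projective (R := R) (P.X j)).1 (hproj j)
  have : P.IsStrictlyGE a := by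
    rw [CochainComplex.isStrictlyGE_iff]
    exact fun i hi => hv i (Or.inl hi)
  have : P.IsStrictlyLE b := by
    rw [CochainComplex.isStrictlyLE_iff]
    exact fun i hi => hv i (Or.inr hi)
  have key : ∀ (X : Dual.D R), DerivedCategory.IsLE X (a - 1) → ∀ φ : L ⟶ X, φ = 0 := by
    intro X hX φ
    have := hom_eq_zero_of_isLE P a b (a - 1) (by lia) hP X (e.hom ≫ φ)
    rwa [← cancel_epi e.hom, comp_zero]
  have hLE : ∀ (X : Dual.D R) (c : ℤ), (∀ i : ℤ, c < i → Subsingleton (Dual.HD R X i)) →
      DerivedCategory.IsLE X c := by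
    intro X c h
    rw [DerivedCategory.isLE_iff]
    intro i hi
    have := h i hi
    exact ModuleCat.isZero_of_subsingleton _
  constructor
  · intro h
    have hK := hLE K (a - 1) (fun i hi => h i (by lia))
    exact ⟨fun φ φ' => by rw [key K hK φ, key K hK φ']⟩
  · intro h T hT h1 h3 inst
    subst h1 h3
    have hK : DerivedCategory.IsLE T.obj₁ a := hLE T.obj₁ a (fun i hi => h i (by lia))
    have hK1 : DerivedCategory.IsLE ((shiftFunctor (Dual.D R) (1 : ℤ)).obj T.obj₁) (a - 1) :=
      DerivedCategory.TStructure.t.isLE_shift T.obj₁ a 1 (a - 1) (by lia)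
    have hz : T.mor₃ = 0 := key _ hK1 T.mor₃
    obtain ⟨e', he1, he2⟩ := Pretriangulated.exists_iso_binaryBiproduct_of_distTriang T hT hz
    exact ⟨e', he1, he2.symm⟩

end Groth.Agent.S6990
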