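import Groth.Statements.S6991
import Mathlib
import Groth.Agent.Lib.helper17.DerCARel2
-- import your own Groth.Agent.* helpers here

set_option autoImplicit false
universe u
open CAlg

open Groth.Agent.Lib.helper17

namespace Groth.Agent.S6991

/-- Let R → A be a finite type homomorphism of commutative rings, M an A-module, and α : R[x_1, ...,
x_n] → A, β : R[y_1, ..., y_k] → A surjective R-algebra homomorphisms. Then M is finitely presented
as an R[x_1, ..., x_n]-module through α if and only if M is finitely presented as an R[y_1, ...,
y_k]-module through β. If this holds, M is a finitely presented A-module. -/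
theorem result {R A : Type u} [CommRing R] [CommRing A] [Algebra R A]
    [Algebra.FiniteType R A] (M : Type u) [AddCommGroup M] [Module A M] {n k : ℕ}
    (α : MvPolynomial (Fin n) R →ₐ[R] A) (hα : Function.Surjective α)
    (β : MvPolynomial (Fin k) R →ₐ[R] A) (hβ : Function.Surjective β) :
    (@Module.FinitePresentation (MvPolynomial (Fin n) R) M _ _ (Module.compHom M α.toRingHom) ↔
      @Module.FinitePresentation (MvPolynomial (Fin k) R) M _ _ (Module.compHom M β.toRingHom)) ∧
      (@Module.FinitePresentation (MvPolynomial (Fin n) R) M _ _ (Module.compHom M α.toRingHom) →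
        Module.FinitePresentation A M) := by
  classical
  have key : ∀ {n : ℕ} (α : MvPolynomial (Fin n) R →ₐ[R] A) (hα : Function.Surjective α),
      (DerCA.IsRelPseudoCoherentModule R A (-1) M ↔
        @Module.FinitePresentation (MvPolynomial (Fin n) R) M _ _
          (Module.compHom M α.toRingHom)) := by
    intro n α hα
    refine (DerCARel2.relModule_iff_NPC α hα (-1) (ModuleCat.of A M)).trans ?_
    exact (DRingPC.NPC_single_negOne_iff_finitePresentation _ _)
  refine ⟨(key α hα).symm.trans (key β hβ), ?_⟩
  intro hM
  letI : Module (MvPolynomial (Fin n) R) M := Module.compHom M α.toRingHom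
  haveI : Module.FinitePresentation (MvPolynomial (Fin n) R) M := hM
  obtain ⟨N, f, hf⟩ := Module.Finite.exists_fin' (MvPolynomial (Fin n) R) M
  have hker := Module.FinitePresentation.fg_ker f hf
  -- the A-linear map g : A^N → M
  let g : (Fin N → A) →ₗ[A] M := Fintype.linearCombination A (fun i => f (Pi.single i 1))
  have hsmul : ∀ (p : MvPolynomial (Fin n) R) (x : M), p • x = (α p) • x := fun p x => rfl
  have hfg : ∀ y : Fin N → MvPolynomial (Fin n) R, f y = g (fun i => α (y i)) := by
    intro y
    have : y = ∑ i, y i • (Pi.single i 1 : Fin N → MvPolynomial (Fin n) R) := by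
      ext j
      simp [Finset.sum_apply, Pi.single_apply]
    conv_lhs => rw [this]
    rw [map_sum]
    simp only [map_smul, g, Fintype.linearCombination_apply, hsmul]
  have hgs : Function.Surjective g := by
    intro x
    obtain ⟨y, hy⟩ := hf x
    exact ⟨_, (hfg y).symm.trans hy⟩
  refine Module.finitePresentation_of_surjective g hgs ?_
  obtain ⟨S, hS⟩ := hker
  refine ⟨S.image (fun y i => α (y i)), ?_⟩
  apply le_antisymm
  · rw [Submodule.span_le]
    intro z hz
    simp only [Finset.coe_image, Set.mem_image] at hz
    obtain ⟨y, hy, rfl⟩ := hz
    have hy' : y ∈ LinearMap.ker f := hS ▸ Submodule.subset_span hy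
    show g _ = 0
    rw [← hfg]
    exact hy'
  · intro z hz
    have hz0 : g z = 0 := hz
    choose y hy using fun i => hα (z i)
    have hzy : z = fun i => α (y i) := funext fun i => (hy i).symm
    have hyk : y ∈ LinearMap.ker f := by
      show f y = 0
      rw [hfg, ← hzy]; exact hz0
    rw [← hS] at hyk
    rw [hzy]
    refine Submodule.span_induction (p := fun y _ => (fun i => α (y i)) ∈
      Submodule.span A ((S.image (fun y i => α (y i)) : Finset (Fin N → A)) : Set (Fin N → A)))
      ?_ ?_ ?_ ?_ hyk
    · intro y hy
      apply Submodule.subset_span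
      simp only [Finset.coe_image, Set.mem_image]
      exact ⟨y, hy, rfl⟩
    · show (fun i => α ((0 : Fin N → MvPolynomial (Fin n) R) i)) ∈ _
      have : (fun i => α ((0 : Fin N → MvPolynomial (Fin n) R) i)) = (0 : Fin N → A) := by
        ext i; simp
      rw [this]; exact Submodule.zero_mem _
    · intro a b _ _ ha hb
      have : (fun i => α ((a + b) i)) = (fun i => α (a i)) + (fun i => α (b i)) := by
        ext i; simp
      rw [this]; exact Submodule.add_mem _ ha hb
    · intro p a _ ha
      have : (fun i => α ((p • a) i)) = (α p) • (fun i => α (a i)) := by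
        ext i; simp
      rw [this]; exact Submodule.smul_mem _ _ ha

end Groth.Agent.S6991
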