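import Groth.Statements.S6993
import Mathlib
import Groth.Agent.Lib.helper17.CAlgRelFP
-- import your own Groth.Agent.* helpers here

set_option autoImplicit false
universe u
open CAlg

open Groth.Agent.Lib.helper17
open CategoryTheory
attribute [local instance] HasDerivedCategory.standard

namespace Groth.Agent.S6993

/-- Let R → A → B be finite type homomorphisms of commutative rings with A of finite presentation over
R, M a B-module, and α : A[x_1, ..., x_n] → B, β : R[y_1, ..., y_k] → B surjective algebra
homomorphisms over A and R respectively. If M is finitely presented as an A[x_1, ..., x_n]-module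
through α (finitely presented relative to A), then M is finitely presented as an R[y_1, ...,
y_k]-module through β (finitely presented relative to R). -/
theorem result {R A B : Type u} [CommRing R] [CommRing A]
    [CommRing B] [Algebra R A] [Algebra A B] [Algebra R B] [IsScalarTower R A B] [Algebra.FinitePresentation R A]
    [Algebra.FiniteType A B] (M : Type u) [AddCommGroup M] [Module B M] {n k : ℕ}
    (α : MvPolynomial (Fin n) A →ₐ[A] B) (hα : Function.Surjective α)
    (β : MvPolynomial (Fin k) R →ₐ[R] B) (hβ : Function.Surjective β)
    (hM : @Module.FinitePresentation (MvPolynomial (Fin n) A) M _ _ (Module.compHom M α.toRingHom)) :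
    @Module.FinitePresentation (MvPolynomial (Fin k) R) M _ _ (Module.compHom M β.toRingHom) := by
  haveI : Algebra.FiniteType R A := inferInstance
  obtain ⟨n', α₀, hα₀⟩ := Algebra.FiniteType.iff_quotient_mvPolynomial''.1
    (inferInstance : Algebra.FiniteType R A)
  rw [CAlgRelFP.fpVia_iff_rel β hβ, CAlgRelFP.rel_iff_NPC_iterated α₀ hα₀ α hα]
  let α₀r : MvPolynomial (Fin n') R →+* A := (α₀ : MvPolynomial (Fin n') R →+* A)
  let αr : MvPolynomial (Fin n) A →+* B := (α : MvPolynomial (Fin n) A →+* B)
  let Φ : MvPolynomial (Fin n) (MvPolynomial (Fin n') R) →+* MvPolynomial (Fin n) A :=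
    MvPolynomial.map α₀r
  have hΦs : Function.Surjective Φ := MvPolynomial.map_surjective α₀r hα₀
  refine PCohBasic.NPC.of_iso _ ?_ (DRingRes.resDSingle (αr.comp Φ) (ModuleCat.of B M)).symm
  rw [DRingPC.NPC_single_negOne_iff_finitePresentation]
  -- module structures
  letI : Algebra (MvPolynomial (Fin n) (MvPolynomial (Fin n') R)) (MvPolynomial (Fin n) A) :=
    Φ.toAlgebra
  letI : Module (MvPolynomial (Fin n) A) M := Module.compHom M αr
  letI : Module (MvPolynomial (Fin n) (MvPolynomial (Fin n') R)) M :=
    Module.compHom M (αr.comp Φ)
  haveI : IsScalarTower (MvPolynomial (Fin n) (MvPolynomial (Fin n') R)) (MvPolynomial (Fin n) A) M :=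
    IsScalarTower.of_algebraMap_smul fun r x => rfl
  haveI : Module.FinitePresentation (MvPolynomial (Fin n) A) M := hM
  haveI : Module.FinitePresentation (MvPolynomial (Fin n) (MvPolynomial (Fin n') R))
      (MvPolynomial (Fin n) A) := by
    refine Module.finitePresentation_of_surjective
      (Algebra.linearMap (MvPolynomial (Fin n) (MvPolynomial (Fin n') R)) (MvPolynomial (Fin n) A))
      hΦs ?_
    have h1 : (RingHom.ker α₀r).FG := Algebra.FinitePresentation.ker_fG_of_surjective α₀ hα₀
    have h2 : (RingHom.ker Φ).FG := by
      rw [MvPolynomial.ker_map]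
      exact h1.map _
    exact h2
  exact Module.FinitePresentation.trans (MvPolynomial (Fin n) (MvPolynomial (Fin n') R)) M
    (MvPolynomial (Fin n) A)

end Groth.Agent.S6993
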