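import Groth.Statements.S6995
import Mathlib
import Groth.Agent.Lib.helper2.RegGlDim
import Groth.Agent.Lib.helper2.GlDimHom
import Groth.Agent.Lib.helper2.GapSplit
-- import your own Groth.Agent.* helpers here

set_option autoImplicit false
universe u
open CategoryTheory CategoryTheory.Limits
attribute [local instance] HasDerivedCategory.standard
open DRing

namespace Groth.Agent.S6995

/-- Let R be a Noetherian regular commutative ring of finite Krull dimension d ≥ 1, K a perfect object
of D(R) and k an integer such that H^i(K) = 0 for every i with k - d + 2 ≤ i ≤ k. Then K splits in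
D(R) as the direct sum of its canonical truncations: there is an isomorphism K ≅ τ_(≤ k-d+1) K ⊕
τ_(≥ k+1) K under which the truncation map τ_(≤ k-d+1) K → K becomes the first inclusion and K →
τ_(≥ k+1) K the second projection. -/
theorem result (R : Type u) [CommRing R] [IsNoetherianRing R]
    (hreg : ∀ p : PrimeSpectrum R, IsRegularLocalRing (Localization.AtPrime p.asIdeal)) (d : ℕ) (hd1 : 1 ≤ d)
    (hd : ringKrullDim R = d) (K : Dual.D R) (hK : DRing.IsPerfect R K) (k : ℤ)
    (hgap : ∀ i : ℤ, k - d + 2 ≤ i → i ≤ k → Subsingleton (Dual.HD R K i))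
    [HasBinaryBiproduct
      (((DerivedCategory.TStructure.t : Triangulated.TStructure (Dual.D R)).truncLT (k - d + 2)).obj K)
      (((DerivedCategory.TStructure.t : Triangulated.TStructure (Dual.D R)).truncGE (k + 1)).obj K)] :
    ∃ e : K ≅
      ((DerivedCategory.TStructure.t : Triangulated.TStructure (Dual.D R)).truncLT (k - d + 2)).obj K ⊞
        ((DerivedCategory.TStructure.t : Triangulated.TStructure (Dual.D R)).truncGE (k + 1)).obj K,
      ((DerivedCategory.TStructure.t : Triangulated.TStructure (Dual.D R)).truncLTι (k - d + 2)).app K ≫ e.hom =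
          biprod.inl ∧
        e.hom ≫ biprod.snd =
          ((DerivedCategory.TStructure.t : Triangulated.TStructure (Dual.D R)).truncGEπ (k + 1)).app K := by
  have hgl := Groth.Agent.Lib.helper2.RegGlDim.hasProjectiveDimensionLT R hreg d (le_of_eq hd)
  obtain ⟨E, a, b, hE, _, ⟨e⟩⟩ := hK
  have hEle : E.IsStrictlyLE b := by
    rw [CochainComplex.isStrictlyLE_iff]
    exact fun i hi => hE i (Or.inr hi)
  have hKb : K.IsLE b := by
    have : (DerivedCategory.Q.obj E).IsLE b := by
      rw [DerivedCategory.isLE_Q_obj_iff]
      infer_instance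
    exact DerivedCategory.TStructure.t.isLE_of_iso e b
  apply Groth.Agent.Lib.helper2.GapSplit.exists_iso_biprod K (k - d + 2) (k + 1) (by lia)
  · intro i h1 h2
    have := hgap i h1 (by lia)
    exact ModuleCat.isZero_of_subsingleton _
  · intro δ
    have h1 : DerivedCategory.TStructure.t.IsGE
        ((DerivedCategory.TStructure.t.truncGE (k + 1)).obj K) (k + 1) := inferInstance
    have h2 : DerivedCategory.TStructure.t.IsLE
        ((DerivedCategory.TStructure.t.truncGE (k + 1)).obj K) b := by
      have : DerivedCategory.TStructure.t.IsLE K b := hKb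
      infer_instance
    have h3 : DerivedCategory.TStructure.t.IsLE
        ((DerivedCategory.TStructure.t.truncLT (k - d + 2)).obj K) (k - d + 2 - 1) := inferInstance
    have h4 : DerivedCategory.TStructure.t.IsLE
        (((DerivedCategory.TStructure.t.truncLT (k - d + 2)).obj K)⟦(1 : ℤ)⟧) (k - d) :=
      DerivedCategory.TStructure.t.isLE_shift _ (k - d + 2 - 1) 1 (k - d) (by lia)
    have h1' : ((DerivedCategory.TStructure.t.truncGE (k + 1)).obj K).IsGE (k + 1) := h1
    have h2' : ((DerivedCategory.TStructure.t.truncGE (k + 1)).obj K).IsLE b := h2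
    have h4' : (((DerivedCategory.TStructure.t.truncLT (k - d + 2)).obj K)⟦(1 : ℤ)⟧).IsLE (k - d) := h4
    exact Groth.Agent.Lib.helper2.GlDimHom.hom_eq_zero d hgl _ _ k b δ

end Groth.Agent.S6995
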