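import Groth.Statements.S6996
import Mathlib
-- import your own Groth.Agent.* helpers here

set_option autoImplicit false
universe u
open CategoryTheory CategoryTheory.Limits
attribute [local instance] HasDerivedCategory.standard
open DRing

namespace Groth.Agent.S6996

section helpers
universe v
open CategoryTheory Limits CochainComplex HomComplex

section general
variable {C : Type u} [Category.{v} C] [Abelian C]
variable (P : CochainComplex C ℤ) {L L' : CochainComplex C ℤ} (f : L ⟶ L')

/-- postcomposition on cocycles, additive -/
def cocyclePost (n : ℤ) : Cocycle P L n →+ Cocycle P L' n where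
  toFun z := z.postcomp f
  map_zero' := by ext; simp
  map_add' a b := by ext; simp

lemma cocyclePost_cobound (n : ℤ) :
    coboundaries P L n ≤ ((CohomologyClass.mkAddMonoidHom P L' n).comp (cocyclePost P f n)).ker := by
  rintro z ⟨m, hm, β, hβ⟩
  rw [AddMonoidHom.mem_ker]
  change CohomologyClass.mk (z.postcomp f) = 0
  rw [CohomologyClass.mk_eq_zero_iff]
  refine ⟨m, hm, β.comp (Cochain.ofHom f) (add_zero m), ?_⟩
  rw [δ_comp_ofHom, hβ]
  rfl

/-- postcomposition on cohomology classes -/
def classPost (n : ℤ) : CohomologyClass P L n →+ CohomologyClass P L' n :=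
  CohomologyClass.descAddMonoidHom _ (cocyclePost_cobound P f n)

lemma classPost_mk (n : ℤ) (z : Cocycle P L n) :
    classPost P f n (CohomologyClass.mk z) = CohomologyClass.mk (z.postcomp f) := rfl

lemma toHom_classPost (n : ℤ) (x : CohomologyClass P L n) :
    CohomologyClass.toHom (classPost P f n x) =
      CohomologyClass.toHom x ≫ (HomotopyCategory.quotient C _).map (f⟦n⟧') := by
  obtain ⟨z, rfl⟩ := x.mk_surjective
  rw [classPost_mk, CohomologyClass.toHom_mk, CohomologyClass.toHom_mk,
    Cocycle.equivHomShift_symm_postcomp, Functor.map_comp]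


attribute [local instance] HasDerivedCategory.standard in
lemma classPost_bijective [P.IsKProjective] [QuasiIso f] (n : ℤ) :
    Function.Bijective (classPost P f n) := by
  let g := (HomotopyCategory.quotient C (ComplexShape.up ℤ)).map (f⟦n⟧')
  have hq : QuasiIso (f⟦n⟧') := by
    rw [← DerivedCategory.isIso_Q_map_iff_quasiIso]
    have : IsIso (DerivedCategory.Q.map f) := by
      rw [DerivedCategory.isIso_Q_map_iff_quasiIso]; infer_instance
    have e := (DerivedCategory.Q.commShiftIso n).hom.naturality f
    have : DerivedCategory.Q.map (f⟦n⟧') = (DerivedCategory.Q.commShiftIso n).hom.app L ≫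
        (DerivedCategory.Q.map f)⟦n⟧' ≫ (DerivedCategory.Q.commShiftIso n).inv.app L' := by
      rw [← Category.assoc]
      erw [← e]
      simp
    rw [this]
    infer_instance
  have hg : IsIso (DerivedCategory.Qh.map g) := by
    have : IsIso (DerivedCategory.Q.map (f⟦n⟧')) := by
      rw [DerivedCategory.isIso_Q_map_iff_quasiIso]; exact hq
    exact this
  have hpost : Function.Bijective
      (fun a : (HomotopyCategory.quotient C (ComplexShape.up ℤ)).obj P ⟶ _ => a ≫ g) := by
    rw [← Function.Bijective.of_comp_iff'
      (CochainComplex.IsKProjective.Qh_map_bijective P _)]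
    have : (DerivedCategory.Qh.map ∘ fun a : (HomotopyCategory.quotient C (ComplexShape.up ℤ)).obj P ⟶ _ => a ≫ g)
        = (fun b => b ≫ DerivedCategory.Qh.map g) ∘ DerivedCategory.Qh.map := by
      funext a
      simp
    rw [this]
    refine Function.Bijective.comp ?_ (CochainComplex.IsKProjective.Qh_map_bijective P _)
    exact ⟨fun a b h => (cancel_mono _).1 h, fun b => ⟨b ≫ inv (DerivedCategory.Qh.map g), by simp⟩⟩
  rw [← Function.Bijective.of_comp_iff' (CohomologyClass.toHom_bijective P L' n)]
  have : (CohomologyClass.toHom ∘ (classPost P f n) : CohomologyClass P L n → _) =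
      (fun a => a ≫ g) ∘ CohomologyClass.toHom := by
    funext x
    exact toHom_classPost P f n x
  rw [this]
  exact hpost.comp (CohomologyClass.toHom_bijective P L n)


/-- postcomposition on the Ab-valued Hom complexes -/
def postAb : HomComplex P L ⟶ HomComplex P L' where
  f i := AddCommGrpCat.ofHom
    { toFun := fun z : Cochain P L i => z.comp (Cochain.ofHom f) (add_zero i)
      map_zero' := by simp
      map_add' := by intros; simp }
  comm' i j _ := by
    ext z
    change δ i j ((z : Cochain P L i).comp (Cochain.ofHom f) (add_zero i)) =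
      (δ i j (z : Cochain P L i)).comp (Cochain.ofHom f) (add_zero j)
    exact δ_comp_ofHom (z : Cochain P L i) f j

set_option backward.isDefEq.respectTransparency false in
set_option backward.defeqAttrib.useBackward true in
def mapData (n m p : ℤ) (hm : n + 1 = m) (hp : m + 1 = p) :
    ShortComplex.LeftHomologyMapData
      ((HomologicalComplex.shortComplexFunctor' _ _ n m p).map (postAb P f))
      (leftHomologyData' P L n m p hm hp) (leftHomologyData' P L' n m p hm hp) where
  φK := AddCommGrpCat.ofHom (cocyclePost P f m)
  φH := AddCommGrpCat.ofHom (classPost P f m)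
  commi := by ext z; rfl
  commf' := by
    have hi : AddCommGrpCat.ofHom (cocyclePost P f m) ≫ (leftHomologyData' P L' n m p hm hp).i =
        (leftHomologyData' P L n m p hm hp).i ≫
          ((HomologicalComplex.shortComplexFunctor' _ _ n m p).map (postAb P f)).τ₂ := by
      ext z; rfl
    rw [← cancel_mono (leftHomologyData' P L' n m p hm hp).i, Category.assoc, Category.assoc, hi,
      ShortComplex.LeftHomologyData.f'_i_assoc, ShortComplex.LeftHomologyData.f'_i]
    exact (((HomologicalComplex.shortComplexFunctor' _ _ n m p).map (postAb P f)).comm₁₂).symm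
  commπ := by ext z; rfl


lemma quasiIso_postAb [P.IsKProjective] [QuasiIso f] : QuasiIso (postAb P f) := by
  refine ⟨fun n => ?_⟩
  rw [quasiIsoAt_iff' _ (n-1) n (n+1) (by simp) (by simp),
    (mapData P f (n-1) n (n+1) (by omega) rfl).quasiIso_iff]
  exact (ConcreteCategory.isIso_iff_bijective _).2 (classPost_bijective P f n)

end general


section modules
variable {R : Type u} [CommRing R]

abbrev U : ModuleCat.{u} R ⥤ AddCommGrpCat.{u} := forget₂ (ModuleCat.{u} R) AddCommGrpCat.{u}

/-- comparison between the underlying Ab-complex of `DRing.homCx` and Mathlib's `HomComplex` -/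
noncomputable def compIso (P L : DRing.Cx R) :
    ((U (R := R)).mapHomologicalComplex (ComplexShape.up ℤ)).obj (DRing.homCx P L) ≅ HomComplex P L :=
  HomologicalComplex.Hom.isoOfComponents (fun i => Iso.refl _) (by
    intro i j _
    ext z
    rfl)

lemma compIso_nat (P : DRing.Cx R) {L L' : DRing.Cx R} (f : L ⟶ L') :
    ((U (R := R)).mapHomologicalComplex (ComplexShape.up ℤ)).map (DRing.homCxMap P f) ≫ (compIso P L').hom =
      (compIso P L).hom ≫ postAb P f := by
  ext i z
  rfl

lemma quasiIso_homCxMap (P : DRing.Cx R) [P.IsKProjective] {L L' : DRing.Cx R} (f : L ⟶ L')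
    [QuasiIso f] : QuasiIso (DRing.homCxMap P f) := by
  rw [← HomologicalComplex.quasiIso_map_iff_of_preservesHomology _ (U (R := R))]
  have := quasiIso_postAb P f
  exact (quasiIso_iff_of_arrow_mk_iso
    (((U (R := R)).mapHomologicalComplex (ComplexShape.up ℤ)).map (DRing.homCxMap P f)) (postAb P f)
    (Arrow.isoMk (compIso P L) (compIso P L') (compIso_nat P f).symm)).2 this


attribute [local instance] HasDerivedCategory.standard in
theorem main (P : DRing.Cx R) (b : ℤ)
    (hb : DRing.VanishesAbove P b) (hP : ∀ i : ℤ, Module.Projective R (P.X i)) [DRing.HasRHomCx P]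
    (L : DRing.Cx R) :
    Nonempty ((DRing.RHomCx P).obj (DRing.toD L) ≅ DRing.toD (DRing.homCx P L)) := by
  have : P.IsStrictlyLE b := by
    rw [CochainComplex.isStrictlyLE_iff]
    intro i hi
    exact hb i hi
  have : ∀ n : ℤ, Projective (P.X n) := fun n => by
    have := hP n
    exact (IsProjective.iff_projective (R := R) (P.X n)).1 this
  have hK : P.IsKProjective := CochainComplex.isKProjective_of_projective P b
  have hF : (HomologicalComplex.quasiIso (ModuleCat.{u} R) (ComplexShape.up ℤ)).IsInvertedBy
      (DRing.homCxQ P) := by
    intro X Y f hf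
    have : QuasiIso f := hf
    have := quasiIso_homCxMap P f
    change IsIso (DerivedCategory.Q.map (DRing.homCxMap P f))
    rw [DerivedCategory.isIso_Q_map_iff_quasiIso]
    exact this
  have hα := Functor.isIso_of_isRightDerivedFunctor_of_inverts (DRing.RHomCx P)
    ((DRing.homCxQ P).totalRightDerivedUnit DerivedCategory.Q
      (HomologicalComplex.quasiIso (ModuleCat.{u} R) (ComplexShape.up ℤ))) hF
  exact ⟨(asIso (((DRing.homCxQ P).totalRightDerivedUnit DerivedCategory.Q
      (HomologicalComplex.quasiIso (ModuleCat.{u} R) (ComplexShape.up ℤ))).app L)).symm⟩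

end modules


end helpers

/-- Let R be a commutative ring, P a bounded above cochain complex of projective R-modules such that
RHom_R(P, -) exists, and L a cochain complex of R-modules. Then RHom_R(P, L) is isomorphic in D(R)
to the class of the Hom complex Hom(P, L) (existence of an isomorphism only; the canonical one is
the derived-functor comparison map). -/
theorem result (R : Type u) [CommRing R] (P : DRing.Cx R) (b : ℤ)
    (hb : DRing.VanishesAbove P b) (hP : ∀ i : ℤ, Module.Projective R (P.X i)) [DRing.HasRHomCx P]
    (L : DRing.Cx R) :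
    Nonempty ((DRing.RHomCx P).obj (DRing.toD L) ≅ DRing.toD (DRing.homCx P L)) := by
  exact main P b hb hP L

end Groth.Agent.S6996
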