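import Groth.Statements.S6999
import Mathlib
import Groth.Agent.Lib.helper2.PerfCompact
import Groth.Agent.Lib.helper2.ShiftHom
-- import your own Groth.Agent.* helpers here

set_option autoImplicit false
universe u
open CategoryTheory CategoryTheory.Limits
attribute [local instance] HasDerivedCategory.standard
open DRing

namespace Groth.Agent.S6999

open Groth.Agent.Lib.helper2 in
/-- the cone of a map inducing isos on `H^i` for `i > m` and an epi on `H^m` is `≤ m - 1`;
consequences for maps to shifted modules. -/
lemma key {R : Type u} [CommRing R] (m : ℤ) {X K : DerivedCategory (ModuleCat.{u} R)} (α : X ⟶ K)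
    (hiso : ∀ i : ℤ, m < i → IsIso ((DerivedCategory.homologyFunctor (ModuleCat.{u} R) i).map α))
    (hepi : Epi ((DerivedCategory.homologyFunctor (ModuleCat.{u} R) m).map α))
    (N : ModuleCat.{u} R) (n : ℤ) (hn : n ≤ -m) :
    (∀ y : K ⟶ (shiftFunctor (DerivedCategory (ModuleCat.{u} R)) n).obj
      ((DerivedCategory.singleFunctor (ModuleCat.{u} R) 0).obj N), α ≫ y = 0 → y = 0) ∧
    (n < -m → ∀ w : X ⟶ (shiftFunctor (DerivedCategory (ModuleCat.{u} R)) n).obj
      ((DerivedCategory.singleFunctor (ModuleCat.{u} R) 0).obj N), ∃ y, α ≫ y = w) := by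
  obtain ⟨C, β, γ, hT⟩ := Pretriangulated.distinguished_cocone_triangle α
  have hC : C.IsLE (m - 1) := by
    rw [DerivedCategory.isLE_iff]
    intro i hi
    have hepi' : Epi ((DerivedCategory.homologyFunctor (ModuleCat.{u} R) i).map α) := by
      rcases (show m = i ∨ m < i by lia) with rfl | h
      · exact hepi
      · have := hiso i h
        infer_instance
    have hmono' : Mono ((DerivedCategory.homologyFunctor (ModuleCat.{u} R) (i + 1)).map α) := by
      have := hiso (i + 1) (by lia)
      infer_instance
    have h1 := (DerivedCategory.HomologySequence.epi_homologyMap_mor₁_iff _ hT i).1 hepi'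
    have h2 := (DerivedCategory.HomologySequence.mono_homologyMap_mor₁_iff _ hT i (i + 1) rfl).1
      hmono'
    exact (DerivedCategory.HomologySequence.exact₃ _ hT i (i + 1) rfl).isZero_of_both_zeros h1 h2
  have hS : ((DerivedCategory.singleFunctor (ModuleCat.{u} R) 0).obj N).IsGE 0 := inferInstance
  have hS' : ((shiftFunctor (DerivedCategory (ModuleCat.{u} R)) n).obj
      ((DerivedCategory.singleFunctor (ModuleCat.{u} R) 0).obj N)).IsGE (-n) :=
    DerivedCategory.TStructure.t.isGE_shift _ 0 n (-n) (by lia)
  constructor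
  · intro y hy
    obtain ⟨y', hy'⟩ := Pretriangulated.Triangle.yoneda_exact₂ _ hT y hy
    have hC' : DerivedCategory.TStructure.t.IsLE C (m - 1) := hC
    have : (y' : C ⟶ _) = 0 := DerivedCategory.TStructure.t.zero (X := C) y' (m - 1) (-n) (by lia)
    rw [hy', this]
    exact comp_zero
  · intro hn' w
    have hS'' : ((shiftFunctor (DerivedCategory (ModuleCat.{u} R)) (1 : ℤ)).obj
        ((shiftFunctor (DerivedCategory (ModuleCat.{u} R)) n).obj
        ((DerivedCategory.singleFunctor (ModuleCat.{u} R) 0).obj N))).IsGE (-n - 1) :=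
      DerivedCategory.TStructure.t.isGE_shift _ (-n) 1 (-n - 1) (by lia)
    have hC' : DerivedCategory.TStructure.t.IsLE C (m - 1) := hC
    obtain ⟨g, hg⟩ := ShiftHom.exists_factor_of_comp_shift_eq_zero α β γ hT w
      (DerivedCategory.TStructure.t.zero (X := C) _ (m - 1) (-n - 1) (by lia))
    exact ⟨g, hg.symm⟩


/-- Let R be a commutative ring, m an integer, K an m-pseudo-coherent object of D(R), and (M_j) a
diagram of R-modules over a small filtered category with colimit cocone M. Then the canonical map
colim_j Hom(K, M_j[n]) → Hom(K, M[n]) in D(R) is bijective for n < -m and injective for n = -m.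
Unfolded: for n < -m every morphism K → M[n] factors through M_j[n] → M[n] for some j; and for n ≤
-m, a morphism K → M_j[n] whose composite with M_j[n] → M[n] is zero already has zero composite with
M_j[n] → M_(j')[n] for some j → j'. -/
theorem result (R : Type u) [CommRing R] (m : ℤ) (K : Dual.D R)
    (hK : DRing.IsPseudoCoherent R m K) {J : Type u} [SmallCategory J] [IsFiltered J]
    (F : J ⥤ ModuleCat.{u} R) (c : Cocone F) (hc : IsColimit c) :
    (∀ n : ℤ, n < -m → ∀ x : K ⟶ (shiftFunctor (Dual.D R) n).obj (Dual.inD R c.pt),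
      ∃ (j : J) (y : K ⟶ (shiftFunctor (Dual.D R) n).obj (Dual.inD R (F.obj j))),
        y ≫ (shiftFunctor (Dual.D R) n).map
          ((DerivedCategory.singleFunctor (ModuleCat.{u} R) 0).map (c.ι.app j)) = x) ∧
    (∀ n : ℤ, n ≤ -m → ∀ (j : J) (y : K ⟶ (shiftFunctor (Dual.D R) n).obj (Dual.inD R (F.obj j))),
      y ≫ (shiftFunctor (Dual.D R) n).map
          ((DerivedCategory.singleFunctor (ModuleCat.{u} R) 0).map (c.ι.app j)) = 0 →
      ∃ (j' : J) (f : j ⟶ j'), y ≫ (shiftFunctor (Dual.D R) n).map
          ((DerivedCategory.singleFunctor (ModuleCat.{u} R) 0).map (F.map f)) = 0) := by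
  obtain ⟨E, a, b, α, hE, hff, hiso, hepi⟩ := hK
  have hfin : ∀ i, Module.Finite R (E.X i) := fun i => (hff i).1
  have hfree : ∀ i, Module.Free R (E.X i) := fun i => (hff i).2
  have hEle : E.IsStrictlyLE b := by
    rw [CochainComplex.isStrictlyLE_iff]
    exact fun i hi => hE i (Or.inr hi)
  have hproj : ∀ n, Projective (E.X n) := by
    intro n
    have := hfree n
    have : Module.Projective R (E.X n) := Module.Projective.of_free
    rw [← IsProjective.iff_projective]
    exact this
  have hKP : E.IsKProjective := CochainComplex.isKProjective_of_projective E b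
  constructor
  · intro n hn x
    obtain ⟨j, w, hw⟩ := Groth.Agent.Lib.helper2.PerfCompact.exists_lift F c hc E hfin hfree
      (DRing.toD E) (Iso.refl _) n (α ≫ x)
    obtain ⟨y, hy⟩ := (key m α hiso hepi (F.obj j) n hn.le).2 hn w
    refine ⟨j, y, ?_⟩
    let x' : K ⟶ (shiftFunctor (Dual.D R) n).obj (Dual.inD R c.pt) :=
      y ≫ (shiftFunctor (Dual.D R) n).map
          ((DerivedCategory.singleFunctor (ModuleCat.{u} R) 0).map (c.ι.app j))
    have hx' : α ≫ x' = α ≫ x := by
      dsimp only [x']
      rw [← Category.assoc, hy]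
      exact hw
    have := (key m α hiso hepi c.pt n hn.le).1 (x' - x) (by
        rw [Preadditive.comp_sub, hx', sub_self])
    exact sub_eq_zero.1 this
  · intro n hn j y hy
    obtain ⟨j', f, hf⟩ := Groth.Agent.Lib.helper2.PerfCompact.exists_kill F c hc E hfin hfree
      (DRing.toD E) (Iso.refl _) n j (α ≫ y) (by rw [Category.assoc, hy, comp_zero])
    exact ⟨j', f, (key m α hiso hepi (F.obj j') n hn).1 _ (by rw [← Category.assoc]; exact hf)⟩

end Groth.Agent.S6999
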