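import Groth.Statements.S7000
import Mathlib
import Groth.Agent.Lib.helper17.DRingBC
-- import your own Groth.Agent.* helpers here

set_option autoImplicit false
universe u
open CategoryTheory CategoryTheory.Limits
attribute [local instance] HasDerivedCategory.standard
open DRing

open Groth.Agent.Lib.helper17

namespace Groth.Agent.S7000

/-- Let A → B be a flat homomorphism of commutative rings, m an integer and M an A-module. If M is
m-pseudo-coherent then the B-module B ⊗_A M is m-pseudo-coherent; if M is pseudo-coherent then B ⊗_A
M is pseudo-coherent. -/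
theorem result {A B : Type u} [CommRing A] [CommRing B] [Algebra A B]
    [Module.Flat A B] (m : ℤ) (M : Type u) [AddCommGroup M] [Module A M] :
    (DRing.IsPseudoCoherentModule A m M → DRing.IsPseudoCoherentModule B m (TensorProduct A B M)) ∧
      (DRing.IsPseudoCoherentModule' A M → DRing.IsPseudoCoherentModule' B (TensorProduct A B M)) := by
  have key : ∀ k : ℤ, DRing.IsPseudoCoherentModule A k M →
      DRing.IsPseudoCoherentModule B k (TensorProduct A B M) := by
    intro k h
    unfold DRing.IsPseudoCoherentModule at h ⊢
    rw [DRingPC.isPseudoCoherent_iff_NPC] at h ⊢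
    exact PCohBasic.NPC.of_iso _ (DRingBC.NPC_bcD (B := B) h) (DRingBC.bcDSingle (ModuleCat.of A M))
  refine ⟨key m, fun h => ?_⟩
  unfold DRing.IsPseudoCoherentModule' at h ⊢
  rw [DRingPC.isPseudoCoherent'_iff_forall] at h ⊢
  exact fun k => key k (h k)

end Groth.Agent.S7000
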