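import Groth.Statements.S7003
import Mathlib
import Groth.Agent.Lib.helper2.SplitTrunc
-- import your own Groth.Agent.* helpers here

set_option autoImplicit false
universe u
open CategoryTheory CategoryTheory.Limits
attribute [local instance] HasDerivedCategory.standard
open DRing

namespace Groth.Agent.S7003

/-- Let R be a commutative ring, a an integer and K an object of D(R) whose cohomology vanishes in large
degrees. Assume that for every injective R-linear map M → M' the induced map Hom(K, M[-a]) → Hom(K,
M'[-a]) in D(R) is injective. Then K ≅ τ_(≤ a) K ⊕ τ_(≥ a+1) K by an isomorphism carrying τ_(≤ a) K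
→ K to the first inclusion and K → τ_(≥ a+1) K to the second projection, and τ_(≥ a+1) K is
isomorphic in D(R) to a complex of projective modules vanishing outside [a+1, b] for some integer b.
(The published statement also asserts that the decomposition is unique; that part is not restated.) -/
theorem result (R : Type u) [CommRing R] (a : ℤ) (K : Dual.D R)
    (hKb : ∃ b : ℤ, ∀ i : ℤ, b < i → Subsingleton (Dual.HD R K i))
    (h : ∀ (M M' : Type u) [AddCommGroup M] [Module R M] [AddCommGroup M'] [Module R M'] (g : M →ₗ[R] M'),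
      Function.Injective g → Function.Injective (fun x : K ⟶ (shiftFunctor (Dual.D R) (-a)).obj (Dual.inD R M) =>
        x ≫ (shiftFunctor (Dual.D R) (-a)).map
          ((DerivedCategory.singleFunctor (ModuleCat.{u} R) 0).map (ModuleCat.ofHom g))))
    [HasBinaryBiproduct (((DerivedCategory.TStructure.t : Triangulated.TStructure (Dual.D R)).truncLT (a + 1)).obj K) (((DerivedCategory.TStructure.t : Triangulated.TStructure (Dual.D R)).truncGE (a + 1)).obj K)] :
    (∃ e : K ≅ ((DerivedCategory.TStructure.t : Triangulated.TStructure (Dual.D R)).truncLT (a + 1)).obj K ⊞ ((DerivedCategory.TStructure.t : Triangulated.TStructure (Dual.D R)).truncGE (a + 1)).obj K,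
      ((DerivedCategory.TStructure.t : Triangulated.TStructure (Dual.D R)).truncLTι (a + 1)).app K ≫ e.hom = biprod.inl ∧
        e.hom ≫ biprod.snd = ((DerivedCategory.TStructure.t : Triangulated.TStructure (Dual.D R)).truncGEπ (a + 1)).app K) ∧
      ∃ (P : DRing.Cx R) (b : ℤ), DRing.VanishesOutside P (a + 1) b ∧ (∀ i : ℤ, Module.Projective R (P.X i)) ∧
        Nonempty (DRing.toD P ≅ ((DerivedCategory.TStructure.t : Triangulated.TStructure (Dual.D R)).truncGE (a + 1)).obj K) := by
  open Groth.Agent.Lib.helper2 in
  obtain ⟨b, hb⟩ := hKb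
  have hLE : DerivedCategory.IsLE K b := by
    rw [DerivedCategory.isLE_iff]
    intro i hi
    have := hb i hi
    exact ModuleCat.isZero_of_subsingleton _
  let ε := (DerivedCategory.singleFunctors (ModuleCat.{u} R)).shiftIso (-a) a 0 (by simp)
  have hinj : ∀ (F F' : ModuleCat.{u} R) (g : F ⟶ F') [Mono g]
      (x : K ⟶ (DerivedCategory.singleFunctor (ModuleCat.{u} R) a).obj F),
      x ≫ (DerivedCategory.singleFunctor (ModuleCat.{u} R) a).map g = 0 → x = 0 := by
    intro F F' g hg x hx
    have h1 := h F F' g.hom ((ModuleCat.mono_iff_injective g).1 hg)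
    have h2 : (x ≫ ε.inv.app F) ≫ (shiftFunctor (Dual.D R) (-a)).map
        ((DerivedCategory.singleFunctor (ModuleCat.{u} R) 0).map (ModuleCat.ofHom g.hom)) =
        (0 : K ⟶ _) ≫ (shiftFunctor (Dual.D R) (-a)).map
        ((DerivedCategory.singleFunctor (ModuleCat.{u} R) 0).map (ModuleCat.ofHom g.hom)) := by
      rw [zero_comp, Category.assoc]
      have := ε.inv.naturality g
      dsimp at this
      erw [← this]
      rw [reassoc_of% hx, zero_comp]
    have h3 := h1 h2
    rw [← cancel_mono (ε.inv.app F), zero_comp]
    exact h3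
  have hB : ∀ (F : ModuleCat.{u} R)
      (ψ : ((DerivedCategory.TStructure.t : Triangulated.TStructure (Dual.D R)).truncGE (a + 1)).obj K ⟶
        (DerivedCategory.singleFunctor (ModuleCat.{u} R) a).obj F), ψ = 0 := fun F ψ =>
    SplitTrunc.hom_truncGE_single_eq_zero K a (a + 1) rfl hinj F ψ
  refine ⟨SplitTrunc.exists_iso_biprod K (a + 1) b a rfl hB, ?_⟩
  obtain ⟨P, hP, h1, h2, ⟨e⟩⟩ := SplitTrunc.split K (a + 1) b a rfl hB
  refine ⟨P, b, fun i hi => ?_, fun i => (IsProjective.iff_projective (R := R) (P.X i)).2 (hP i), ⟨e⟩⟩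
  obtain hi | hi := hi
  · exact CochainComplex.isZero_of_isStrictlyGE P (a + 1) i hi
  · exact CochainComplex.isZero_of_isStrictlyLE P b i hi

end Groth.Agent.S7003
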