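import Groth.Statements.S7004
import Mathlib
import Groth.Agent.Lib.helper2.SplitTrunc
-- import your own Groth.Agent.* helpers here

set_option autoImplicit false
universe u
open CategoryTheory CategoryTheory.Limits
attribute [local instance] HasDerivedCategory.standard
open DRing

namespace Groth.Agent.S7004

/-- Let R be a commutative ring, a an integer and K an object of D(R) whose cohomology vanishes in large
degrees, such that Hom(K, M[-a]) = 0 in D(R) for every R-module M. Then K ≅ τ_(≤ a-1) K ⊕ τ_(≥ a+1)
K by an isomorphism carrying τ_(≤ a-1) K → K to the first inclusion and K → τ_(≥ a+1) K to the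
second projection, and τ_(≥ a+1) K is isomorphic in D(R) to a complex of projective modules
vanishing outside [a+1, b] for some integer b. (The published statement also asserts that the
decomposition is unique; that part is not restated.) -/
theorem result (R : Type u) [CommRing R] (a : ℤ) (K : Dual.D R)
    (hKb : ∃ b : ℤ, ∀ i : ℤ, b < i → Subsingleton (Dual.HD R K i))
    (h : ∀ (M : Type u) [AddCommGroup M] [Module R M],
      Subsingleton (K ⟶ (shiftFunctor (Dual.D R) (-a)).obj (Dual.inD R M)))
    [HasBinaryBiproduct (((DerivedCategory.TStructure.t : Triangulated.TStructure (Dual.D R)).truncLT a).obj K) (((DerivedCategory.TStructure.t : Triangulated.TStructure (Dual.D R)).truncGE (a + 1)).obj K)] :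
    (∃ e : K ≅ ((DerivedCategory.TStructure.t : Triangulated.TStructure (Dual.D R)).truncLT a).obj K ⊞ ((DerivedCategory.TStructure.t : Triangulated.TStructure (Dual.D R)).truncGE (a + 1)).obj K,
      ((DerivedCategory.TStructure.t : Triangulated.TStructure (Dual.D R)).truncLTι a).app K ≫ e.hom = biprod.inl ∧
        e.hom ≫ biprod.snd = ((DerivedCategory.TStructure.t : Triangulated.TStructure (Dual.D R)).truncGEπ (a + 1)).app K) ∧
      ∃ (P : DRing.Cx R) (b : ℤ), DRing.VanishesOutside P (a + 1) b ∧ (∀ i : ℤ, Module.Projective R (P.X i)) ∧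
        Nonempty (DRing.toD P ≅ ((DerivedCategory.TStructure.t : Triangulated.TStructure (Dual.D R)).truncGE (a + 1)).obj K) := by
  open Groth.Agent.Lib.helper2 in
  obtain ⟨b, hb⟩ := hKb
  have hLE : DerivedCategory.IsLE K b := by
    rw [DerivedCategory.isLE_iff]
    intro i hi
    have := hb i hi
    exact ModuleCat.isZero_of_subsingleton _
  have hK : ∀ (F : ModuleCat.{u} R)
      (ψ : K ⟶ (DerivedCategory.singleFunctor (ModuleCat.{u} R) a).obj F), ψ = 0 := fun F =>
    (ProjAmp.hom_single_shift_iff K (-a) a (by ring) F).1 (fun φ => (h F).elim _ _)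
  have hB : ∀ (F : ModuleCat.{u} R)
      (ψ : ((DerivedCategory.TStructure.t : Triangulated.TStructure (Dual.D R)).truncGE (a + 1)).obj K ⟶
        (DerivedCategory.singleFunctor (ModuleCat.{u} R) a).obj F), ψ = 0 := fun F ψ =>
    SplitTrunc.hom_truncGE_single_eq_zero K a (a + 1) rfl (fun F F' g _ x _ => hK F x) F ψ
  have hH := ProjAmp.isZero_homologyFunctor_of_hom_single_eq_zero K a hK
  refine ⟨SplitTrunc.exists_iso_biprod' K (a + 1) b a rfl hB hH, ?_⟩
  obtain ⟨P, hP, h1, h2, ⟨e⟩⟩ := SplitTrunc.split K (a + 1) b a rfl hB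
  refine ⟨P, b, fun i hi => ?_, fun i => (IsProjective.iff_projective (R := R) (P.X i)).2 (hP i), ⟨e⟩⟩
  obtain hi | hi := hi
  · exact CochainComplex.isZero_of_isStrictlyGE P (a + 1) i hi
  · exact CochainComplex.isZero_of_isStrictlyLE P b i hi

end Groth.Agent.S7004
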