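import Groth.Statements.S7005
import Mathlib

set_option autoImplicit false
universe u
open CAlg

namespace Groth.Agent.S7005

section Aux
open TensorProduct

/-- finite presentation goes up along a surjection with finitely generated kernel. -/
theorem fp_up {P Q T : Type*} [CommRing P] [CommRing Q] [AddCommGroup T] [Module P T] [Module Q T]
    (f : P →+* Q) (hf : Function.Surjective f) (hker : (RingHom.ker f).FG)
    (hsm : ∀ (p : P) (t : T), p • t = f p • t)
    [Module.FinitePresentation Q T] : Module.FinitePresentation P T := by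
  letI : Algebra P Q := f.toAlgebra
  haveI : IsScalarTower P Q T := IsScalarTower.of_algebraMap_smul fun p t => (hsm p t).symm
  haveI : Module.FinitePresentation P Q := by
    refine Module.finitePresentation_of_surjective (Algebra.linearMap P Q) hf ?_
    have : LinearMap.ker (Algebra.linearMap P Q) = RingHom.ker f := by
      ext x
      simp only [LinearMap.mem_ker, Algebra.linearMap_apply, RingHom.mem_ker]
      rfl
    rw [this]
    exact hker
  exact Module.FinitePresentation.trans P T Q

/-- finite presentation goes down along a surjection. -/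
theorem fp_down {P Q T : Type*} [CommRing P] [CommRing Q] [AddCommGroup T] [Module P T] [Module Q T]
    (f : P →+* Q) (hf : Function.Surjective f)
    (hsm : ∀ (p : P) (t : T), p • t = f p • t)
    [Module.FinitePresentation P T] : Module.FinitePresentation Q T := by
  letI : Algebra P Q := f.toAlgebra
  haveI : IsScalarTower P Q T := IsScalarTower.of_algebraMap_smul fun p t => (hsm p t).symm
  let Φ : Q ⊗[P] T →ₗ[Q] T := LinearMap.liftBaseChange Q (LinearMap.id : T →ₗ[P] T)
  have hΦ : ∀ t : T, Φ (1 ⊗ₜ t) = t := by
    intro t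
    simp [Φ]
  have hform : ∀ z : Q ⊗[P] T, ∃ t : T, z = 1 ⊗ₜ t := by
    intro z
    induction z using TensorProduct.induction_on with
    | zero => exact ⟨0, by simp⟩
    | tmul q t =>
      obtain ⟨p, rfl⟩ := hf q
      refine ⟨p • t, ?_⟩
      rw [← TensorProduct.smul_tmul, Algebra.smul_def, mul_one]
      rfl
    | add x y hx hy =>
      obtain ⟨t, rfl⟩ := hx
      obtain ⟨t', rfl⟩ := hy
      exact ⟨t + t', by rw [TensorProduct.tmul_add]⟩
  have hbij : Function.Bijective Φ := by
    constructor
    · rw [injective_iff_map_eq_zero]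
      intro z hz
      obtain ⟨t, rfl⟩ := hform z
      rw [hΦ] at hz
      rw [hz, TensorProduct.tmul_zero]
    · intro t
      exact ⟨1 ⊗ₜ t, hΦ t⟩
  exact Module.FinitePresentation.of_equiv (LinearEquiv.ofBijective Φ hbij)

/-- independence of the presentation. -/
theorem fp_indep {R' A' T : Type u} [CommRing R'] [CommRing A'] [Algebra R' A'] [AddCommGroup T]
    [Module A' T] {σ τ : Type} [Finite σ] [Finite τ]
    (a1 : MvPolynomial σ R' →ₐ[R'] A') (ha1 : Function.Surjective a1)
    (a2 : MvPolynomial τ R' →ₐ[R'] A') (ha2 : Function.Surjective a2)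
    (h1 : @Module.FinitePresentation (MvPolynomial σ R') T _ _
      (Module.compHom T a1.toRingHom)) :
    @Module.FinitePresentation (MvPolynomial τ R') T _ _
      (Module.compHom T a2.toRingHom) := by
  classical
  choose p hp using fun j => ha1 (a2 (MvPolynomial.X j))
  choose q hq using fun i => ha2 (a1 (MvPolynomial.X i))
  let b : MvPolynomial (σ ⊕ τ) R' →ₐ[R'] A' :=
    MvPolynomial.aeval (Sum.elim (fun i => a1 (MvPolynomial.X i)) (fun j => a2 (MvPolynomial.X j)))
  let π1 : MvPolynomial (σ ⊕ τ) R' →ₐ[R'] MvPolynomial σ R' :=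
    MvPolynomial.aeval (Sum.elim MvPolynomial.X p)
  let π2 : MvPolynomial (σ ⊕ τ) R' →ₐ[R'] MvPolynomial τ R' :=
    MvPolynomial.aeval (Sum.elim q MvPolynomial.X)
  have h1b : a1.comp π1 = b := by
    apply MvPolynomial.algHom_ext
    rintro (i | j) <;> simp [π1, b, hp]
  have h2b : a2.comp π2 = b := by
    apply MvPolynomial.algHom_ext
    rintro (i | j) <;> simp [π2, b, hq]
  have hπ1 : Function.Surjective π1 := by
    intro f
    refine ⟨MvPolynomial.rename Sum.inl f, ?_⟩
    simp only [π1, MvPolynomial.aeval_rename, Sum.elim_comp_inl]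
    exact MvPolynomial.aeval_X_left_apply f
  have hπ2 : Function.Surjective π2 := by
    intro f
    refine ⟨MvPolynomial.rename Sum.inr f, ?_⟩
    simp only [π2, MvPolynomial.aeval_rename, Sum.elim_comp_inr]
    exact MvPolynomial.aeval_X_left_apply f
  have hker : (RingHom.ker π1.toRingHom).FG :=
    Algebra.FinitePresentation.ker_fG_of_surjective π1 hπ1
  letI m1 : Module (MvPolynomial σ R') T := Module.compHom T a1.toRingHom
  letI m12 : Module (MvPolynomial (σ ⊕ τ) R') T := Module.compHom T b.toRingHom
  letI m2 : Module (MvPolynomial τ R') T := Module.compHom T a2.toRingHom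
  haveI : Module.FinitePresentation (MvPolynomial σ R') T := h1
  haveI : Module.FinitePresentation (MvPolynomial (σ ⊕ τ) R') T := by
    refine fp_up π1.toRingHom hπ1 hker (fun x t => ?_)
    show b x • t = a1 (π1 x) • t
    rw [← h1b]
    rfl
  refine fp_down π2.toRingHom hπ2 (fun x t => ?_)
  show b x • t = a2 (π2 x) • t
  rw [← h2b]
  rfl

/-- quotient by a finitely generated ideal keeps finite presentation over a ring surjecting onto `C`. -/
theorem fp_quot {Pp C C' N : Type u} [CommRing Pp] [CommRing C] [CommRing C'] [Algebra C C']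
    [AddCommGroup N] [Module C N] [Module Pp N]
    (g : Pp →+* C) (hg : Function.Surjective g)
    (hC : Function.Surjective (algebraMap C C')) (hker : (RingHom.ker (algebraMap C C')).FG)
    (hsm : ∀ (p : Pp) (n : N), p • n = g p • n)
    [Module.FinitePresentation Pp N] :
    @Module.FinitePresentation Pp (C' ⊗[C] N) _ _
      (Module.compHom (C' ⊗[C] N) ((algebraMap C C').comp g)) := by
  letI : Module Pp (C' ⊗[C] N) := Module.compHom (C' ⊗[C] N) ((algebraMap C C').comp g)
  letI : Algebra Pp C := g.toAlgebra
  haveI : IsScalarTower Pp C N := IsScalarTower.of_algebraMap_smul fun p t => (hsm p t).symm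
  haveI : Module.Finite C N := Module.Finite.of_restrictScalars_finite Pp C N
  set I : Ideal C := RingHom.ker (algebraMap C C') with hI
  let ψ : N →ₗ[Pp] (C' ⊗[C] N) :=
    { toFun := fun n => (1 : C') ⊗ₜ[C] n
      map_add' := fun n n' => TensorProduct.tmul_add _ _ _
      map_smul' := fun p n => by
        show (1 : C') ⊗ₜ[C] (p • n) = (algebraMap C C' (g p)) • ((1 : C') ⊗ₜ[C] n)
        rw [hsm, TensorProduct.smul_tmul', smul_eq_mul, mul_one, ← TensorProduct.smul_tmul,
          Algebra.smul_def, mul_one] }
  have hψ : ∀ n, ψ n = (1 : C') ⊗ₜ[C] n := fun _ => rfl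
  have hsurj : Function.Surjective ψ := by
    intro z
    induction z using TensorProduct.induction_on with
    | zero => exact ⟨0, map_zero _⟩
    | tmul c' n =>
      obtain ⟨c, rfl⟩ := hC c'
      refine ⟨c • n, ?_⟩
      rw [hψ, ← TensorProduct.smul_tmul, Algebra.smul_def, mul_one]
    | add x y hx hy =>
      obtain ⟨a, rfl⟩ := hx
      obtain ⟨b, rfl⟩ := hy
      exact ⟨a + b, map_add _ _ _⟩
  have hkerψ : LinearMap.ker ψ = Submodule.restrictScalars Pp (I • (⊤ : Submodule C N)) := by
    ext n
    rw [LinearMap.mem_ker, Submodule.restrictScalars_mem, hψ]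
    constructor
    · intro h0
      have hex := rTensor_exact N (LinearMap.exact_subtype_ker_map (Algebra.linearMap C C')) hC
      have h1 : LinearMap.rTensor N (Algebra.linearMap C C') ((1 : C) ⊗ₜ[C] n) = 0 := by
        rw [LinearMap.rTensor_tmul, Algebra.linearMap_apply, map_one]
        exact h0
      obtain ⟨w, hw⟩ := (hex _).mp h1
      have h2 : ∀ w : (LinearMap.ker (Algebra.linearMap C C')) ⊗[C] N,
          TensorProduct.lid C N (LinearMap.rTensor N
            (LinearMap.ker (Algebra.linearMap C C')).subtype w) ∈ I • (⊤ : Submodule C N) := by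
        intro w
        induction w using TensorProduct.induction_on with
        | zero => simp
        | tmul i n' =>
          rw [LinearMap.rTensor_tmul, TensorProduct.lid_tmul]
          refine Submodule.smul_mem_smul ?_ Submodule.mem_top
          have := i.2
          rw [LinearMap.mem_ker, Algebra.linearMap_apply] at this
          exact this
        | add x y hx hy =>
          rw [map_add, map_add]
          exact Submodule.add_mem _ hx hy
      have h3 := h2 w
      rw [hw, TensorProduct.lid_tmul, one_smul] at h3
      exact h3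
    · intro hn
      refine Submodule.smul_induction_on hn ?_ ?_
      · intro i hi n' _
        rw [← TensorProduct.smul_tmul, Algebra.smul_def, mul_one]
        have : algebraMap C C' i = 0 := hi
        rw [this, TensorProduct.zero_tmul]
      · intro x y hx hy
        rw [TensorProduct.tmul_add, hx, hy, add_zero]
  refine Module.finitePresentation_of_surjective ψ hsurj ?_
  rw [hkerψ]
  refine Submodule.FG.restrictScalars_of_surjective ?_ hg
  exact Submodule.FG.smul hker Module.Finite.fg_top

section Main
attribute [local instance] MvPolynomial.algebraMvPolynomial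

theorem main {R A A' : Type u} [CommRing R] [CommRing A] [CommRing A'] [Algebra R A] [Algebra A A']
    [Algebra R A'] [IsScalarTower R A A'] [Algebra.FinitePresentation A A']
    (M : Type u) [AddCommGroup M] [Module A M] {n k : ℕ}
    (α : MvPolynomial (Fin n) R →ₐ[R] A) (hα : Function.Surjective α)
    (hM : @Module.FinitePresentation (MvPolynomial (Fin n) R) M _ _
      (Module.compHom M α.toRingHom))
    (γ : MvPolynomial (Fin k) R →ₐ[R] A') (hγ : Function.Surjective γ) :
    @Module.FinitePresentation (MvPolynomial (Fin k) R) (TensorProduct A A' M) _ _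
      (Module.compHom (TensorProduct A A' M) γ.toRingHom) := by
  classical
  obtain ⟨m, f, hf, hker⟩ := Algebra.FinitePresentation.out (R := A) (A := A')
  letI algPA : Algebra (MvPolynomial (Fin n) R) A := α.toRingHom.toAlgebra
  letI mPM : Module (MvPolynomial (Fin n) R) M := Module.compHom M α.toRingHom
  haveI : IsScalarTower (MvPolynomial (Fin n) R) A M :=
    IsScalarTower.of_algebraMap_smul fun p x => rfl
  haveI : Module.FinitePresentation (MvPolynomial (Fin n) R) M := hM
  let e1 := Algebra.IsPushout.cancelBaseChange (MvPolynomial (Fin n) R)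
    (MvPolynomial (Fin m) (MvPolynomial (Fin n) R)) A (MvPolynomial (Fin m) A) M
  haveI : Module.FinitePresentation (MvPolynomial (Fin m) (MvPolynomial (Fin n) R))
      (MvPolynomial (Fin m) A ⊗[A] M) :=
    Module.FinitePresentation.of_equiv
      (M := MvPolynomial (Fin m) (MvPolynomial (Fin n) R) ⊗[MvPolynomial (Fin n) R] M)
      (N := MvPolynomial (Fin m) A ⊗[A] M) e1.symm
  letI algAmA' : Algebra (MvPolynomial (Fin m) A) A' := f.toRingHom.toAlgebra
  haveI : IsScalarTower A (MvPolynomial (Fin m) A) A' :=
    IsScalarTower.of_algebraMap_eq fun a => (f.commutes a).symm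
  have hgsurj : Function.Surjective (algebraMap (MvPolynomial (Fin m) (MvPolynomial (Fin n) R))
      (MvPolynomial (Fin m) A)) := by
    rw [MvPolynomial.algebraMap_def]
    exact MvPolynomial.map_surjective _ hα
  have h2 := fp_quot (Pp := MvPolynomial (Fin m) (MvPolynomial (Fin n) R))
    (C := MvPolynomial (Fin m) A) (C' := A') (N := MvPolynomial (Fin m) A ⊗[A] M)
    (algebraMap _ _) hgsurj hf hker (fun p x => (algebraMap_smul (MvPolynomial (Fin m) A) p x).symm)
  let ρ : MvPolynomial (Fin m) (MvPolynomial (Fin n) R) →+* A' :=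
    (algebraMap (MvPolynomial (Fin m) A) A').comp
      (algebraMap (MvPolynomial (Fin m) (MvPolynomial (Fin n) R)) (MvPolynomial (Fin m) A))
  have hρsurj : Function.Surjective ρ := hf.comp hgsurj
  let e2 := TensorProduct.AlgebraTensorModule.cancelBaseChange A (MvPolynomial (Fin m) A) A' A' M
  letI m1 : Module (MvPolynomial (Fin m) (MvPolynomial (Fin n) R))
      (A' ⊗[MvPolynomial (Fin m) A] (MvPolynomial (Fin m) A ⊗[A] M)) := Module.compHom _ ρ
  letI m2 : Module (MvPolynomial (Fin m) (MvPolynomial (Fin n) R)) (A' ⊗[A] M) :=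
    Module.compHom _ ρ
  let e2' : (A' ⊗[MvPolynomial (Fin m) A] (MvPolynomial (Fin m) A ⊗[A] M))
      ≃ₗ[MvPolynomial (Fin m) (MvPolynomial (Fin n) R)] (A' ⊗[A] M) :=
    AddEquiv.toLinearEquiv e2.toAddEquiv (fun p x => e2.map_smul (ρ p) x)
  haveI h3 : Module.FinitePresentation (MvPolynomial (Fin m) (MvPolynomial (Fin n) R))
      (A' ⊗[A] M) :=
    @Module.FinitePresentation.of_equiv _ _ _ _ _ _ _ _ e2' h2
  let s := MvPolynomial.sumAlgEquiv R (Fin m) (Fin n)
  let a1 : MvPolynomial (Fin m ⊕ Fin n) R →ₐ[R] A' :=
    MvPolynomial.aeval (Sum.elim (fun j => f (MvPolynomial.X j))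
      (fun i => algebraMap A A' (α (MvPolynomial.X i))))
  have ha1 : ∀ p1, a1 p1 = ρ (s p1) := by
    intro p1
    induction p1 using MvPolynomial.induction_on with
    | C r =>
      simp only [s, ρ, a1, RingHom.coe_comp, Function.comp_apply]
      rw [MvPolynomial.sumAlgEquiv_C_inl, MvPolynomial.algebraMap_def, MvPolynomial.map_C,
        MvPolynomial.aeval_C]
      show algebraMap R A' r = f (MvPolynomial.C (α (MvPolynomial.C r)))
      rw [← MvPolynomial.algebraMap_eq, ← MvPolynomial.algebraMap_eq, AlgHom.commutes,
        AlgHom.commutes, ← IsScalarTower.algebraMap_apply]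
    | add p q hp hq => rw [map_add, map_add, map_add, hp, hq]
    | mul_X p i hp =>
      rw [map_mul, map_mul, map_mul, hp]
      congr 1
      rcases i with j | i
      · simp only [s, ρ, a1, RingHom.coe_comp, Function.comp_apply]
        rw [MvPolynomial.sumAlgEquiv_X_inl, MvPolynomial.algebraMap_def, MvPolynomial.map_X,
          MvPolynomial.aeval_X]
        rfl
      · simp only [s, ρ, a1, RingHom.coe_comp, Function.comp_apply]
        rw [MvPolynomial.sumAlgEquiv_X_inr, MvPolynomial.algebraMap_def, MvPolynomial.map_C,
          MvPolynomial.aeval_X]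
        show algebraMap A A' (α (MvPolynomial.X i)) = f (MvPolynomial.C (α (MvPolynomial.X i)))
        rw [← MvPolynomial.algebraMap_eq, AlgHom.commutes]
  have ha1surj : Function.Surjective a1 := by
    intro x
    obtain ⟨y, rfl⟩ := hρsurj x
    obtain ⟨z, rfl⟩ := s.surjective y
    exact ⟨z, ha1 z⟩
  letI m3 : Module (MvPolynomial (Fin m ⊕ Fin n) R) (A' ⊗[A] M) :=
    Module.compHom _ a1.toRingHom
  have h4 : Module.FinitePresentation (MvPolynomial (Fin m ⊕ Fin n) R) (A' ⊗[A] M) := by
    refine fp_up s.toRingHom s.surjective ?_ (fun p t => ?_)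
    · have : RingHom.ker s.toRingHom = ⊥ :=
        (RingHom.injective_iff_ker_eq_bot _).mp s.injective
      rw [this]
      exact Submodule.fg_bot
    · show a1 p • t = ρ (s p) • t
      rw [ha1]
  exact fp_indep a1 ha1surj γ hγ h4

end Main


end Aux

/-- Let R → A be a finite type homomorphism of commutative rings, α : R[x_1, ..., x_n] → A a surjective
R-algebra homomorphism and M an A-module which is finitely presented as an R[x_1, ..., x_n]-module
through α. Let A → A' be a ring homomorphism of finite presentation and γ : R[z_1, ..., z_k] → A' a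
surjective R-algebra homomorphism. Then A' ⊗_A M is finitely presented as an R[z_1, ..., z_k]-module
through γ. -/
theorem result {R A A' : Type u} [CommRing R] [CommRing A]
    [CommRing A'] [Algebra R A] [Algebra A A'] [Algebra R A'] [IsScalarTower R A A'] [Algebra.FiniteType R A]
    [Algebra.FinitePresentation A A'] (M : Type u) [AddCommGroup M] [Module A M] {n k : ℕ}
    (α : MvPolynomial (Fin n) R →ₐ[R] A) (hα : Function.Surjective α)
    (hM : @Module.FinitePresentation (MvPolynomial (Fin n) R) (M) _ _ (Module.compHom (M) α.toRingHom))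
    (γ : MvPolynomial (Fin k) R →ₐ[R] A') (hγ : Function.Surjective γ) :
    @Module.FinitePresentation (MvPolynomial (Fin k) R) (TensorProduct A A' M) _ _ (Module.compHom (TensorProduct A A' M) γ.toRingHom) := by
  exact main M α hα hM γ hγ

end Groth.Agent.S7005
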