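import Groth.Statements.S7006
import Mathlib
import Groth.Agent.Lib.helper17.CAlgRelFP
-- import your own Groth.Agent.* helpers here

set_option autoImplicit false
universe u
open CAlg

open Groth.Agent.Lib.helper17
open CategoryTheory
attribute [local instance] HasDerivedCategory.standard

namespace Groth.Agent.S7006

/-- Let R be a commutative ring, f an element of R, A an R_f-algebra with a surjective R_f-algebra
homomorphism α : R_f[x_1, ..., x_n] → A, g an element of A, and M an A-module which is finitely
presented as an R_f[x_1, ..., x_n]-module through α. Then for every surjective R-algebra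
homomorphism γ : R[z_1, ..., z_k] → A_g, the localized module M_g is finitely presented as an R[z_1,
..., z_k]-module through γ. -/
theorem result {R A : Type u} [CommRing R] [CommRing A] (f : R)
    [Algebra R A] [Algebra (Localization.Away f) A] [IsScalarTower R (Localization.Away f) A] {n k : ℕ}
    (α : MvPolynomial (Fin n) (Localization.Away f) →ₐ[Localization.Away f] A) (hα : Function.Surjective α)
    (g : A) (M : Type u) [AddCommGroup M] [Module A M]
    (hM : @Module.FinitePresentation (MvPolynomial (Fin n) (Localization.Away f)) (M) _ _ (Module.compHom (M) α.toRingHom))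
    (γ : MvPolynomial (Fin k) R →ₐ[R] Localization.Away g) (hγ : Function.Surjective γ) :
    @Module.FinitePresentation (MvPolynomial (Fin k) R) (LocalizedModule (Submonoid.powers g) M) _ _ (Module.compHom (LocalizedModule (Submonoid.powers g) M) γ.toRingHom) := by
  haveI : Algebra.FiniteType (Localization.Away f) A := Algebra.FiniteType.of_surjective α hα
  haveI : Algebra.FiniteType R (Localization.Away f) := inferInstance
  haveI : Algebra.FiniteType R A := Algebra.FiniteType.trans (R := R) (S := Localization.Away f)
    (A := A) inferInstance inferInstance
  rw [CAlgRelFP.fpVia_iff_rel γ hγ]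
  have h1 := (CAlgRelFP.fpVia_iff_rel α hα M).1 hM
  have h2 := (DerCARel3.rel_iff_of_intermediate (R := R) (A := Localization.Away f) (B := A)
    (fun k => DerCALoc.rel_away_self f k) _ (-1)).1 h1
  have h3 := CAlgRelFP.rel_bcD_away (R := R) g (-1) _ h2
  exact CAlgRelFP.rel_of_iso h3 (CAlgRelFP.bcDSingleAway g M)

end Groth.Agent.S7006
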