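import Groth.Statements.S7011
import Groth.Agent.Lib.helper18.FreeLift
import Groth.Agent.S6862
import Groth.Agent.S6863

set_option autoImplicit false
universe u
open CategoryTheory CategoryTheory.Limits
attribute [local instance] HasDerivedCategory.standard
open DRing
open TensorProduct

namespace Groth.Agent.S7011

/-- Let R be a commutative ring and I an ideal contained in the Jacobson radical of R (every element of
1 + I is a unit), such that the derived base change D(R) → D(R/I) exists. Let K be a pseudo-coherent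
object of D(R) and E a bounded above cochain complex of finitely generated stably free R/I-modules
which is isomorphic in D(R/I) to K ⊗^L_R R/I. Then there is a bounded above cochain complex P of
finitely generated stably free R-modules, isomorphic to K in D(R), whose termwise reduction P ⊗_R
R/I is isomorphic to E as a complex, and such that P^i is free for every i for which E^i is free. -/
theorem result (R : Type u) [CommRing R] (I : Ideal R)
    (hI : I ≤ Ideal.jacobson (⊥ : Ideal R)) [DRing.HasLBaseChange (Ideal.Quotient.mk I)] (K : Dual.D R)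
    (hK : DRing.IsPseudoCoherent' R K) (E : DRing.Cx (R ⧸ I)) (b : ℤ) (hEb : DRing.VanishesAbove E b)
    (hEs : ∀ i : ℤ, Module.Finite (R ⧸ I) (E.X i) ∧ Module.IsStablyFree (R ⧸ I) (E.X i))
    (hE : Nonempty (DRing.toD E ≅ (DRing.LBaseChange (Ideal.Quotient.mk I)).obj K)) :
    ∃ (P : DRing.Cx R) (b' : ℤ), DRing.VanishesAbove P b' ∧
      (∀ i : ℤ, Module.Finite R (P.X i) ∧ Module.IsStablyFree R (P.X i)) ∧
      Nonempty (DRing.toD P ≅ K) ∧ Nonempty ((((ModuleCat.extendScalars (Ideal.Quotient.mk I)).mapHomologicalComplex (ComplexShape.up ℤ)).obj P) ≅ E) ∧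
      ∀ i : ℤ, Module.Free (R ⧸ I) (E.X i) → Module.Free R (P.X i) := by
  classical
  let Pc : ObjectProperty (ModuleCat.{u} R) :=
    fun X => Module.Finite R X ∧ Module.IsStablyFree R X
  haveI : Pc.IsClosedUnderIsomorphisms :=
    ⟨fun {X Y} e hX => by
      obtain ⟨hf, hs⟩ := hX
      haveI := hf
      haveI := hs
      exact ⟨Module.Finite.equiv e.toLinearEquiv, Module.IsStablyFree.equiv e.toLinearEquiv⟩⟩
  have h1 : ∀ X : ModuleCat.{u} R, Pc X → Module.Projective R X := by
    intro X hX
    haveI := hX.2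
    infer_instance
  have hex : ∀ (X Y : Type u) [AddCommGroup X] [Module R X] [AddCommGroup Y] [Module R Y],
      Function.Exact (LinearMap.inl R X Y) (LinearMap.snd R X Y) := by
    intro X Y _ _ _ _ p
    constructor
    · intro h
      have h' : p.2 = 0 := h
      exact ⟨p.1, Prod.ext rfl h'.symm⟩
    · rintro ⟨x, rfl⟩
      rfl
  have h2 : ∀ X Y : ModuleCat.{u} R, Pc X → (Pc (ModuleCat.of R (X × Y)) ↔ Pc Y) := by
    intro X Y hX
    obtain ⟨hXf, hXs⟩ := hX
    haveI := hXf
    haveI := hXs
    constructor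
    · intro hP
      obtain ⟨hPf, hPs⟩ := hP
      haveI iPf : Module.Finite R (X × Y) := hPf
      haveI iPs : Module.IsStablyFree R (X × Y) := hPs
      haveI iXp : Module.Projective R X := h1 X ⟨hXf, hXs⟩
      haveI iPp : Module.Projective R (X × Y) := by
        obtain ⟨N, _, _, _, _, hfr⟩ := Module.IsStablyFree.exist_free_prod R (X × Y)
        haveI := hfr
        haveI : Module.Projective R ((X × Y) × N) := Module.Projective.of_free
        exact Module.Projective.of_split (LinearMap.inl R (X × Y) N) (LinearMap.fst R (X × Y) N)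
          (LinearMap.ext fun _ => rfl)
      haveI : Module.Finite R Y :=
        Module.Finite.of_surjective (LinearMap.snd R X Y) LinearMap.snd_surjective
      haveI : Module.Projective R Y :=
        Module.Projective.of_split (LinearMap.inr R X Y) (LinearMap.snd R X Y)
          (by ext; simp)
      exact ⟨inferInstance, (Groth.Agent.S6862.result (LinearMap.inl R X Y) (LinearMap.snd R X Y)
        LinearMap.inl_injective LinearMap.snd_surjective (hex X Y)).1 hXs iPs⟩
    · intro hY
      obtain ⟨hYf, hYs⟩ := hY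
      haveI := hYf
      haveI := hYs
      haveI iXp : Module.Projective R X := h1 X ⟨hXf, hXs⟩
      haveI iYp : Module.Projective R Y := h1 Y ⟨hYf, hYs⟩
      haveI iPp : Module.Projective R (X × Y) := inferInstance
      have hPf : Module.Finite R (X × Y) := inferInstance
      have hPs : Module.IsStablyFree R (X × Y) :=
        (Groth.Agent.S6862.result (LinearMap.inl R X Y) (LinearMap.snd R X Y)
          LinearMap.inl_injective LinearMap.snd_surjective (hex X Y)).2.1 hXs hYs
      exact ⟨hPf, hPs⟩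
  have h3 : ∀ (X Y : ModuleCat.{u} R) (f : X ⟶ Y), Pc X → Pc Y →
      LinearMap.range f.hom ⊔ I • (⊤ : Submodule R Y) = ⊤ → Function.Surjective f.hom := by
    intro X Y f _ hY hr
    haveI := hY.1
    rw [← LinearMap.range_eq_top]
    refine top_le_iff.1 ?_
    exact Submodule.le_of_le_smul_of_le_jacobson_bot Module.Finite.fg_top hI hr.ge
  have hK' : ∃ (Q : DRing.Cx R) (c : ℤ), DRing.VanishesAbove Q c ∧ (∀ i : ℤ, Pc (Q.X i)) ∧
      Nonempty (DRing.toD Q ≅ K) := by
    obtain ⟨Q₀, c, hQc, hQff, hQe⟩ := hK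
    refine ⟨Q₀, c, hQc, fun i => ⟨(hQff i).1, ?_⟩, hQe⟩
    haveI := (hQff i).2
    infer_instance
  have hEt : ∀ i : ℤ, ∃ X : ModuleCat.{u} R, Pc X ∧
      Nonempty (TensorProduct R (R ⧸ I) X ≃ₗ[R ⧸ I] E.X i) := by
    intro i
    haveI := (hEs i).1
    haveI := (hEs i).2
    obtain ⟨M, iM1, iM2, hMf, hMs, ⟨e⟩⟩ := Groth.Agent.S6863.result I hI (E.X i)
    exact ⟨ModuleCat.of R M, ⟨hMf, hMs⟩, ⟨e⟩⟩
  obtain ⟨Q₀, c, hQc, hQP, ⟨eQ⟩⟩ := hK'
  obtain ⟨eE⟩ := hE
  obtain ⟨P, b', hPb, hPP, hPK, hPE⟩ := Groth.Agent.Lib.helper18.RepLift.exists_rep I Pc h1 h2 h3 K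
    Q₀ c hQc hQP eQ E b hEb hEt eE
  refine ⟨P, b', hPb, hPP, hPK, hPE, ?_⟩
  intro i hfree
  obtain ⟨θ⟩ := hPE
  haveI := (hPP i).1
  haveI := (hPP i).2
  haveI := h1 _ (hPP i)
  let e : ((R ⧸ I) ⊗[R] (P.X i)) ≃ₗ[R ⧸ I] E.X i :=
    (Groth.Agent.Lib.helper17.DRingBC.extendScalarsObjEquiv (A := R) (B := R ⧸ I) (P.X i)).symm.trans
      ((HomologicalComplex.eval _ _ i).mapIso θ).toLinearEquiv
  have hfree' : Module.Free (R ⧸ I) ((R ⧸ I) ⊗[R] (P.X i)) := Module.Free.of_equiv e.symm
  exact Groth.Agent.Lib.helper18.FreeLift.free_of_free_quot I hI (P.X i) hfree'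

end Groth.Agent.S7011
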