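import Groth.Statements.S7014
import Mathlib
import Groth.Agent.Lib.helper2.HomColim
-- import your own Groth.Agent.* helpers here

set_option autoImplicit false
set_option linter.style.haveILetI false
universe u
open CategoryTheory CategoryTheory.Limits
attribute [local instance] HasDerivedCategory.standard
open DRing

namespace Groth.Agent.S7014

/-- Let R be a commutative ring and K an object of D(R) such that for every sequence (E_n) of objects of
D(R) the canonical map from the direct sum of the Hom(K, E_n) to Hom(K, ⊕_n E_n) is bijective. Let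
L_0 → L_1 → L_2 → ... be a sequence of cochain complexes of R-modules with colimit L (computed
termwise). Then every morphism K → L in D(R) factors through L_n → L for some n, and a morphism K →
L_n in D(R) whose composite with L_n → L vanishes already has vanishing composite with L_n → L_m for
some m ≥ n. -/
theorem result (R : Type u) [CommRing R] (K : Dual.D R)
    (hK : ∀ (E : ℕ → Dual.D R) [HasCoproduct fun i : ULift.{u + 1} ℕ => E i.down],
      Function.Bijective (CohDer.homSumToHomCoprod K (fun i : ULift.{u + 1} ℕ => E i.down)))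
    (L : ℕ ⥤ DRing.Cx R) (c : Cocone L) (hc : IsColimit c) :
    (∀ x : K ⟶ DRing.toD c.pt, ∃ (n : ℕ) (y : K ⟶ DRing.toD (L.obj n)),
        y ≫ DerivedCategory.Q.map (c.ι.app n) = x) ∧
      (∀ (n : ℕ) (y : K ⟶ DRing.toD (L.obj n)), y ≫ DerivedCategory.Q.map (c.ι.app n) = 0 →
        ∃ (m : ℕ) (h : n ≤ m), y ≫ DerivedCategory.Q.map (L.map (homOfLE h)) = 0) := by
  open Groth.Agent.Lib.helper2 in
  haveI : AB5OfSize.{0, 0} (ModuleCat.{u} R) := AB5OfSize_of_univLE.{0, 0, u, u} _
  haveI : HasExactColimitsOfShape ℕ (ModuleCat.{u} R) := AB5OfSize.ofShape ℕ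
  haveI : CountableAB4 (ModuleCat.{u} R) := CountableAB4.of_countableAB5 _
  haveI : HasExactColimitsOfShape (Discrete ℕ) (ModuleCat.{u} R) := CountableAB4.ofShape ℕ
  haveI : HasColimitsOfShape (Discrete ℕ) (Dual.D R) :=
    DerCoprod.hasColimitsOfShape_discrete (ModuleCat.{u} R) ℕ
  haveI : HasColimitsOfShape (Discrete (ULift.{u + 1} ℕ)) (Dual.D R) :=
    hasColimitsOfShape_of_equivalence (Discrete.equivalence Equiv.ulift.symm)
  have hK' : ∀ E : ℕ → Dual.D R, Function.Surjective
      (CohDer.homSumToHomCoprod K (fun i : ULift.{u + 1} ℕ => E i.down)) := fun E => (hK E).2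
  obtain ⟨h1, h2⟩ := HomColim.main K hK' L
  let e : c.pt ≅ colimit L := hc.coconePointUniqueUpToIso (colimit.isColimit L)
  have he : ∀ n, c.ι.app n ≫ e.hom = colimit.ι L n :=
    fun n => IsColimit.comp_coconePointUniqueUpToIso_hom hc _ n
  constructor
  · intro x
    obtain ⟨n, y, hy⟩ := h1 (x ≫ DerivedCategory.Q.map e.hom)
    refine ⟨n, y, ?_⟩
    rw [← cancel_mono (DerivedCategory.Q.map e.hom), Category.assoc, ← Functor.map_comp, he, hy]
  · intro n y hy
    apply h2 n y
    rw [← he, Functor.map_comp, reassoc_of% hy, zero_comp]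

end Groth.Agent.S7014
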