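import Groth.Statements.S7015
import Mathlib

set_option autoImplicit false
universe u
open CategoryTheory MonoidalCategory
open DRing

namespace Groth.Agent.S7015

open TensorProduct in
theorem fin_proj_of_dual_family {R : Type u} [CommRing R] {P : Type u} [AddCommGroup P] [Module R P]
    {ι : Type*} [Fintype ι] (x : ι → P) (φ : ι → P →ₗ[R] R)
    (h : ∀ m : P, ∑ i, φ i m • x i = m) : Module.Finite R P ∧ Module.Projective R P := by
  let i : P →ₗ[R] (ι → R) := LinearMap.pi φ
  let p : (ι → R) →ₗ[R] P := ∑ j, (LinearMap.toSpanSingleton R P (x j)) ∘ₗ LinearMap.proj j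
  have hp : ∀ v, p v = ∑ j, v j • x j := by
    intro v
    simp [p, LinearMap.sum_apply]
  have hpi : p ∘ₗ i = LinearMap.id := by
    refine LinearMap.ext fun m => ?_
    rw [LinearMap.comp_apply, hp, LinearMap.id_apply]
    exact h m
  have hsurj : Function.Surjective p := fun m => ⟨i m, by
    have := congrArg (fun t => t m) hpi
    simpa using this⟩
  exact ⟨Module.Finite.of_surjective p hsurj, Module.Projective.of_split i p hpi⟩

/-- Let R be a commutative ring and M, N R-modules such that N is a left dual of M for the tensor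
product of R-modules, i.e. there are a coevaluation R → M ⊗ N and an evaluation N ⊗ M → R satisfying
the triangle identities (an exact pairing). Then M and N are finitely generated projective
R-modules. -/
theorem result (R : Type u) [CommRing R] (M N : Type u) [AddCommGroup M]
    [Module R M] [AddCommGroup N] [Module R N] [ExactPairing (ModuleCat.of R M) (ModuleCat.of R N)] :
    Module.Finite R M ∧ Module.Projective R M ∧ Module.Finite R N ∧ Module.Projective R N := by
  classical
  let X := ModuleCat.of R M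
  let Y := ModuleCat.of R N
  let coev : 𝟙_ (ModuleCat R) ⟶ X ⊗ Y := ExactPairing.coevaluation' (X := X) (Y := Y)
  let ev : Y ⊗ X ⟶ 𝟙_ (ModuleCat R) := ExactPairing.evaluation' (X := X) (Y := Y)
  have z1 : coev ▷ X ≫ (α_ X Y X).hom ≫ X ◁ ev = (λ_ X).hom ≫ (ρ_ X).inv :=
    ExactPairing.evaluation_coevaluation' (X := X) (Y := Y)
  have z2 : Y ◁ coev ≫ (α_ Y X Y).inv ≫ ev ▷ Y = (ρ_ Y).hom ≫ (λ_ Y).inv :=
    ExactPairing.coevaluation_evaluation' (X := X) (Y := Y)
  obtain ⟨S, hS⟩ := TensorProduct.exists_finset (R := R) (M := M) (N := N) (coev.hom (1 : R))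
  -- linear-algebra form of the zigzag identities
  have z1' : ev.hom.lTensor M ∘ₗ (TensorProduct.assoc R M N M).toLinearMap ∘ₗ coev.hom.rTensor M =
      (TensorProduct.rid R M).symm.toLinearMap ∘ₗ (TensorProduct.lid R M).toLinearMap :=
    congrArg ModuleCat.Hom.hom z1
  have z2' : ev.hom.rTensor N ∘ₗ (TensorProduct.assoc R N M N).symm.toLinearMap ∘ₗ
      coev.hom.lTensor N =
      (TensorProduct.lid R N).symm.toLinearMap ∘ₗ (TensorProduct.rid R N).toLinearMap :=
    congrArg ModuleCat.Hom.hom z2
  have e1 : ∀ m : M, ∑ s : S, (ev.hom ((s.1.2 : N) ⊗ₜ[R] m) : R) • (s.1.1 : M) = m := by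
    intro m
    have h1 := congrArg (fun t => (TensorProduct.rid R M) (t ((1 : R) ⊗ₜ[R] m))) z1'
    simp only [LinearMap.comp_apply, LinearEquiv.coe_toLinearMap, LinearMap.rTensor_tmul,
      TensorProduct.lid_tmul, one_smul, LinearEquiv.apply_symm_apply] at h1
    rw [hS, TensorProduct.sum_tmul, map_sum, map_sum, map_sum] at h1
    refine Eq.trans ?_ h1
    rw [← Finset.sum_coe_sort S]
    refine Finset.sum_congr rfl fun s _ => ?_
    rw [TensorProduct.assoc_tmul, LinearMap.lTensor_tmul, TensorProduct.rid_tmul]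
  have e2 : ∀ n : N, ∑ s : S, (ev.hom (n ⊗ₜ[R] (s.1.1 : M)) : R) • (s.1.2 : N) = n := by
    intro n
    have h1 := congrArg (fun t => (TensorProduct.lid R N) (t (n ⊗ₜ[R] (1 : R)))) z2'
    simp only [LinearMap.comp_apply, LinearEquiv.coe_toLinearMap, LinearMap.lTensor_tmul,
      TensorProduct.rid_tmul, one_smul, LinearEquiv.apply_symm_apply] at h1
    rw [hS, TensorProduct.tmul_sum, map_sum, map_sum, map_sum] at h1
    refine Eq.trans ?_ h1
    rw [← Finset.sum_coe_sort S]
    refine Finset.sum_congr rfl fun s _ => ?_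
    rw [TensorProduct.assoc_symm_tmul, LinearMap.rTensor_tmul, TensorProduct.lid_tmul]
  have hM := fin_proj_of_dual_family (R := R) (P := M) (ι := S) (fun s => s.1.1)
    (fun s => ev.hom ∘ₗ (TensorProduct.mk R N M (s.1.2))) (fun m => e1 m)
  have hN := fin_proj_of_dual_family (R := R) (P := N) (ι := S) (fun s => s.1.2)
    (fun s => ev.hom ∘ₗ (TensorProduct.mk R N M).flip (s.1.1)) (fun n => e2 n)
  exact ⟨hM.1, hM.2, hN.1, hN.2⟩

end Groth.Agent.S7015
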