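import Groth.Statements.S7017
import Mathlib
import Groth.Agent.Lib.helper17.DRingPC
-- import your own Groth.Agent.* helpers here

set_option autoImplicit false
universe u
open CategoryTheory CategoryTheory.Limits
attribute [local instance] HasDerivedCategory.standard
open DRing

open Groth.Agent.Lib.helper17

namespace Groth.Agent.S7017

open CategoryTheory.Pretriangulated in
/-- Let R be a commutative ring and K → L → M → K[1] a distinguished triangle in D(R). Whenever two of
K, L, M are pseudo-coherent (isomorphic in D(R) to bounded above complexes of finite free modules),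
the remaining one is as well. -/
theorem result (R : Type u) [CommRing R] (T : Triangle (Dual.D R))
    (hT : T ∈ distinguishedTriangles) :
    (DRing.IsPseudoCoherent' R T.obj₁ → DRing.IsPseudoCoherent' R T.obj₂ → DRing.IsPseudoCoherent' R T.obj₃) ∧
      (DRing.IsPseudoCoherent' R T.obj₁ → DRing.IsPseudoCoherent' R T.obj₃ → DRing.IsPseudoCoherent' R T.obj₂) ∧
      (DRing.IsPseudoCoherent' R T.obj₂ → DRing.IsPseudoCoherent' R T.obj₃ → DRing.IsPseudoCoherent' R T.obj₁) := by
  have key := fun m : ℤ => PCohTri.NPC_triangle (DRingPC.FF R) (DRingPC.FF_prod R)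
    (DRingPC.FF_hqs R) (DRingPC.FF_hql R) m T hT
  simp only [DRingPC.isPseudoCoherent'_iff_isPC]
  refine ⟨fun h1 h2 m => (key m).1 (h1 _) (h2 _), fun h1 h3 m => (key m).2.1 (h1 _) (h3 _),
    fun h2 h3 m => ?_⟩
  have h2' : PCohBasic.NPC (DRingPC.FF R) (m - 1 + 1) T.obj₂ := by
    have : m - 1 + 1 = m := by ring
    rw [this]; exact h2 m
  have := (key (m - 1)).2.2 h2' (h3 _)
  have e : m - 1 + 1 = m := by ring
  rw [e] at this
  exact this

end Groth.Agent.S7017
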