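import Groth.Statements.S7021
import Mathlib
import Groth.Agent.Lib.helper17.DerCARel2
-- import your own Groth.Agent.* helpers here

set_option autoImplicit false
universe u
open CategoryTheory CategoryTheory.Limits
attribute [local instance] HasDerivedCategory.standard
open DerCA

open Groth.Agent.Lib.helper17

namespace Groth.Agent.S7021

/-- Let R → A be a finite type homomorphism of commutative rings, α : R[x_1, ..., x_n] → A a surjective
R-algebra homomorphism and M an A-module. Then relative 0-pseudo-coherence of M over R amounts to M
being a finitely generated A-module, and relative (-1)-pseudo-coherence of M over R amounts to M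
being finitely presented as an R[x_1, ..., x_n]-module through α. -/
theorem result {R A : Type u} [CommRing R] [CommRing A]
    [Algebra R A] [Algebra.FiniteType R A] {n : ℕ} (α : MvPolynomial (Fin n) R →ₐ[R] A)
    (hα : Function.Surjective α) (M : Type u) [AddCommGroup M] [Module A M] :
    (DerCA.IsRelPseudoCoherentModule R A 0 M ↔ Module.Finite A M) ∧
      (DerCA.IsRelPseudoCoherentModule R A (-1) M ↔
        @Module.FinitePresentation (MvPolynomial (Fin n) R) M _ _ (Module.compHom M α.toRingHom)) := by
  constructor
  · refine (DerCARel2.relModule_iff_NPC α hα 0 (ModuleCat.of A M)).trans ?_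
    refine (DRingPC.NPC_single_zero_iff_finite _ _).trans ?_
    constructor
    · intro h
      exact DRingRes.finite_of_finite_resF (α : MvPolynomial (Fin n) R →+* A) (ModuleCat.of A M) h
    · intro h
      exact DerCARel.finite_resF_of_surjective (α : MvPolynomial (Fin n) R →+* A) hα
        (ModuleCat.of A M) h
  · refine (DerCARel2.relModule_iff_NPC α hα (-1) (ModuleCat.of A M)).trans ?_
    exact (DRingPC.NPC_single_negOne_iff_finitePresentation _ _)

end Groth.Agent.S7021
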