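import Groth.Statements.S7026
import Mathlib
import Groth.Agent.Lib.helper17.DerCARel
-- import your own Groth.Agent.* helpers here

set_option autoImplicit false
universe u
open CategoryTheory CategoryTheory.Limits
attribute [local instance] HasDerivedCategory.standard
open DerCA

open Groth.Agent.Lib.helper17

namespace Groth.Agent.S7026

/-- Let R be a Noetherian commutative ring, R → A a finite type ring homomorphism, m an integer, K an
object of D(A) and M an A-module. Then: m-pseudo-coherence of K relative to R is equivalent to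
H^i(K) vanishing for all large i together with H^i(K) being a finitely generated A-module for each i
≥ m; pseudo-coherence of K relative to R (every degree) is equivalent to the same with H^i(K)
finitely generated for every i; and the A-module M is pseudo-coherent relative to R exactly when M
is finitely generated. -/
theorem result {R A : Type u} [CommRing R]
    [IsNoetherianRing R] [CommRing A] [Algebra R A] [Algebra.FiniteType R A] (m : ℤ) (K : Dual.D A)
    (M : Type u) [AddCommGroup M] [Module A M] :
    (DerCA.IsRelPseudoCoherent R A m K ↔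
      (∃ b : ℤ, ∀ i : ℤ, b < i → Subsingleton (Dual.HD A K i)) ∧ ∀ i : ℤ, m ≤ i → Module.Finite A (Dual.HD A K i)) ∧
    (DerCA.IsRelPseudoCoherentAll R A K ↔
      (∃ b : ℤ, ∀ i : ℤ, b < i → Subsingleton (Dual.HD A K i)) ∧ ∀ i : ℤ, Module.Finite A (Dual.HD A K i)) ∧
    (DerCA.IsRelPseudoCoherentModuleAll R A M ↔ Module.Finite A M) := by
  have key : ∀ (k : ℤ) (X : Dual.D A), DerCA.IsRelPseudoCoherent R A k X ↔
      (∃ b : ℤ, ∀ i : ℤ, b < i → Subsingleton (Dual.HD A X i)) ∧
        ∀ i : ℤ, k ≤ i → Module.Finite A (Dual.HD A X i) := by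
    intro k X
    rw [DerCARel.rel_iff_of_noetherian]
    constructor
    · rintro ⟨⟨b, hb⟩, h⟩
      exact ⟨⟨b, fun i hi => ModuleCat.subsingleton_of_isZero (hb i hi)⟩, h⟩
    · rintro ⟨⟨b, hb⟩, h⟩
      exact ⟨⟨b, fun i hi => by
        have := hb i hi
        exact ModuleCat.isZero_of_subsingleton _⟩, h⟩
  have keyAll : ∀ X : Dual.D A, DerCA.IsRelPseudoCoherentAll R A X ↔
      (∃ b : ℤ, ∀ i : ℤ, b < i → Subsingleton (Dual.HD A X i)) ∧
        ∀ i : ℤ, Module.Finite A (Dual.HD A X i) := by
    intro X
    constructor
    · intro h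
      exact ⟨((key 0 X).1 (h 0)).1, fun i => ((key i X).1 (h i)).2 i le_rfl⟩
    · rintro ⟨hb, hfin⟩ k
      exact (key k X).2 ⟨hb, fun i _ => hfin i⟩
  refine ⟨key m K, keyAll K, ?_⟩
  unfold DerCA.IsRelPseudoCoherentModuleAll
  rw [keyAll]
  constructor
  · rintro ⟨_, hfin⟩
    have h0 := hfin 0
    exact Module.Finite.equiv (PCohLES.homologySingleIso (ModuleCat.of A M) 0).toLinearEquiv
  · intro hM
    refine ⟨⟨0, fun i hi => ModuleCat.subsingleton_of_isZero
      (PCohLES.isZero_homology_single (ModuleCat.of A M) 0 i (by lia))⟩, fun i => ?_⟩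
    by_cases hi : i = 0
    · subst hi
      exact Module.Finite.equiv (PCohLES.homologySingleIso (ModuleCat.of A M) 0).symm.toLinearEquiv
    · have hz := PCohLES.isZero_homology_single (ModuleCat.of A M) 0 i hi
      have := ModuleCat.subsingleton_of_isZero hz
      infer_instance

end Groth.Agent.S7026
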