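import Groth.Statements.S7029
import Mathlib
import Groth.Agent.Lib.helper17.DRingPC
import Groth.Agent.Lib.helper17.PerfTri
-- import your own Groth.Agent.* helpers here

set_option autoImplicit false
universe u
open CategoryTheory CategoryTheory.Limits
attribute [local instance] HasDerivedCategory.standard
open DRing

open Groth.Agent.Lib.helper17

namespace Groth.Agent.S7029

/-- Let R be a commutative ring such that the derived tensor product - ⊗^L_R M exists on D(R) for every
R-module M, and let K be a bounded cochain complex of R-modules each term of which is a perfect
R-module. Then K is a perfect object of D(R). -/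
theorem result (R : Type u) [CommRing R] [∀ M : ModuleCat.{u} R, DRing.HasLTensor R M] (K : DRing.Cx R)
    (a b : ℤ) (hab : DRing.VanishesOutside K a b) (hK : ∀ i : ℤ, DRing.IsPerfectModule R (K.X i)) :
    DRing.IsPerfect R (DRing.toD K) := by
  exact PerfTri.perf_of_terms (DRingPC.FP R) (DRingPC.FP_prod R) (DRingPC.FP_lift R) a
    (b - a + 1).toNat K b (by have := Int.self_le_toNat (b - a + 1); lia) hab hK

end Groth.Agent.S7029
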