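import Groth.Statements.S7030
import Mathlib
import Groth.Agent.Lib.helper17.DRingPC
import Groth.Agent.Lib.helper17.PerfTri
-- import your own Groth.Agent.* helpers here

set_option autoImplicit false
universe u
open CategoryTheory CategoryTheory.Limits
attribute [local instance] HasDerivedCategory.standard
open DRing

open Groth.Agent.Lib.helper17

namespace Groth.Agent.S7030

/-- Let R be a commutative ring such that the derived tensor product - ⊗^L_R M exists on D(R) for every
R-module M, and let K be an object of D(R) whose cohomology vanishes outside a bounded range of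
degrees and whose cohomology modules H^i(K) are all perfect R-modules. Then K is a perfect object of
D(R). -/
theorem result (R : Type u) [CommRing R] [∀ M : ModuleCat.{u} R, DRing.HasLTensor R M] (K : Dual.D R)
    (hb : ∃ a b : ℤ, ∀ i : ℤ, (i < a ∨ b < i) → Subsingleton (Dual.HD R K i))
    (hK : ∀ i : ℤ, DRing.IsPerfectModule R (Dual.HD R K i)) : DRing.IsPerfect R K := by
  obtain ⟨a, b, hb⟩ := hb
  exact PerfTri.perf_of_homology (DRingPC.FP R) (DRingPC.FP_prod R) (DRingPC.FP_lift R) a
    (b - a + 1).toNat K b (by have := Int.self_le_toNat (b - a + 1); lia)
    (fun i hi => by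
      have := hb i hi
      exact ModuleCat.isZero_of_subsingleton _) hK

end Groth.Agent.S7030
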