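import Groth.Statements.S7031
import Mathlib
import Groth.Agent.S6962
import Groth.Agent.Lib.helper2.PerfRep
-- import your own Groth.Agent.* helpers here

set_option autoImplicit false
universe u
open CategoryTheory CategoryTheory.Limits
attribute [local instance] HasDerivedCategory.standard
open DRing

namespace Groth.Agent.S7031

/-- Let R be a regular commutative ring (Noetherian, with regular local rings at all primes) such that
the derived tensor product - ⊗^L_R M exists on D(R) for every R-module M, and let K be an object of
D(R). Then K is perfect if and only if H^i(K) = 0 outside a bounded range of degrees and every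
H^i(K) is a finitely generated R-module. -/
theorem result (R : Type u) [CommRing R] [IsNoetherianRing R]
    (hreg : ∀ p : PrimeSpectrum R, IsRegularLocalRing (Localization.AtPrime p.asIdeal)) [∀ M : ModuleCat.{u} R, DRing.HasLTensor R M] (K : Dual.D R) :
    DRing.IsPerfect R K ↔
      (∃ a b : ℤ, ∀ i : ℤ, (i < a ∨ b < i) → Subsingleton (Dual.HD R K i)) ∧ ∀ i : ℤ, Module.Finite R (Dual.HD R K i) := by
  constructor
  · rintro ⟨E, a, b, hE, hfp, ⟨e⟩⟩
    have hiso : ∀ i : ℤ, (DerivedCategory.homologyFunctor (ModuleCat.{u} R) i).obj K ≅
        E.homology i := fun i =>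
      (DerivedCategory.homologyFunctor (ModuleCat.{u} R) i).mapIso e.symm ≪≫
        (DerivedCategory.homologyFunctorFactors (ModuleCat.{u} R) i).app E
    refine ⟨⟨a, b, fun i hi => ?_⟩, fun i => ?_⟩
    · have hz : IsZero (E.homology i) :=
        (HomologicalComplex.exactAt_iff_isZero_homology _ _).1
          (HomologicalComplex.ExactAt.of_isZero (hE i hi))
      exact ModuleCat.subsingleton_of_isZero (hz.of_iso (hiso i))
    · have := Groth.Agent.S6962.finite_homology E i (hfp i).1
      exact Module.Finite.equiv (hiso i).symm.toLinearEquiv
  · rintro ⟨⟨a, b, hab⟩, hfin⟩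
    have h1 : K.IsGE a := by
      rw [DerivedCategory.isGE_iff]
      intro i hi
      have := hab i (Or.inl hi)
      exact ModuleCat.isZero_of_subsingleton _
    have h2 : K.IsLE b := by
      rw [DerivedCategory.isLE_iff]
      intro i hi
      have := hab i (Or.inr hi)
      exact ModuleCat.isZero_of_subsingleton _
    apply Groth.Agent.Lib.helper2.PerfRep.isPerfect_of_homology K a b
    intro i
    have := hfin i
    exact (Groth.Agent.S6962.result R hreg (Dual.HD R K i)).2 (hfin i)

end Groth.Agent.S7031
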