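import Groth.Statements.S7034
import Mathlib
import Groth.Agent.Lib.helper17.DRingTA
-- import your own Groth.Agent.* helpers here

set_option autoImplicit false
universe u
open CategoryTheory CategoryTheory.Limits
attribute [local instance] HasDerivedCategory.standard
open DRing

open Groth.Agent.Lib.helper17

namespace Groth.Agent.S7034

/-- Let R be a commutative ring of global dimension at most d, i.e. every R-module has projective
dimension at most d, such that the derived tensor product - ⊗^L_R M exists on D(R) for every
R-module M. Then: (1) for every R-module M, M[0] is isomorphic in D(R) to a complex of flat modules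
vanishing outside [-d, 0]; (2) every object K of D(R) with H^i(K) = 0 for all i outside [a, b] is
isomorphic in D(R) to a complex of flat modules vanishing outside [a - d, b]. -/
theorem result (R : Type u) [CommRing R] (d : ℕ)
    (hgl : ∀ (M : Type u) [AddCommGroup M] [Module R M], HasProjectiveDimensionLT (ModuleCat.of R M) (d + 1))
    [∀ M : ModuleCat.{u} R, DRing.HasLTensor R M] :
    (∀ (M : Type u) [AddCommGroup M] [Module R M], DRing.HasTorAmplitudeIn R (-(d : ℤ)) 0 (Dual.inD R M)) ∧
      (∀ (K : Dual.D R) (a b : ℤ), (∀ i : ℤ, (i < a ∨ b < i) → Subsingleton (Dual.HD R K i)) →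
        DRing.HasTorAmplitudeIn R (a - d) b K) := by
  have h1 : ∀ N : ModuleCat.{u} R, DRing.HasTorAmplitudeIn R (-(d : ℤ)) 0
      ((DerivedCategory.singleFunctor (ModuleCat.{u} R) 0).obj N) := fun N =>
    DRingTA.torAmp_single_of_projDim d N (hgl N)
  refine ⟨fun M _ _ => h1 (ModuleCat.of R M), fun K a b hz => ?_⟩
  refine DRingTA.torAmp_of_homology (a - d) b K a b (fun i hi => ?_) (fun i => ?_)
  · have := hz i hi
    exact ModuleCat.isZero_of_subsingleton _
  · by_cases hi : i < a ∨ b < i
    · have := hz i hi
      exact DRingTA.torAmp_of_isZero _
        ((DerivedCategory.singleFunctor (ModuleCat.{u} R) 0).map_isZero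
          (ModuleCat.isZero_of_subsingleton _)) _ _
    · push Not at hi
      exact DRingTA.torAmp_of_le (h1 _) (by lia) (by lia)

end Groth.Agent.S7034
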