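import Groth.Statements.S7036
import Mathlib
import Groth.Agent.Lib.helper2.InjDimR
-- import your own Groth.Agent.* helpers here

set_option autoImplicit false
universe u
open CategoryTheory CategoryTheory.Limits
attribute [local instance] HasDerivedCategory.standard
open DRing

namespace Groth.Agent.S7036

/-- Let R be a commutative ring. (1) If K is an object of D(R) whose cohomology vanishes outside a
bounded range and every cohomology module H^i(K), placed in degree 0, has finite injective
dimension, then K has finite injective dimension. (2) If K is a bounded cochain complex of R-modules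
and every term K^i, placed in degree 0, has finite injective dimension, then K has finite injective
dimension. -/
theorem result (R : Type u) [CommRing R] :
    (∀ (K : Dual.D R), (∃ a b : ℤ, ∀ i : ℤ, (i < a ∨ b < i) → Subsingleton (Dual.HD R K i)) →
        (∀ i : ℤ, DRing.HasFiniteInjDim R (Dual.inD R (Dual.HD R K i))) → DRing.HasFiniteInjDim R K) ∧
      (∀ (K : DRing.Cx R) (a b : ℤ), DRing.VanishesOutside K a b →
        (∀ i : ℤ, DRing.HasFiniteInjDim R (Dual.inD R (K.X i))) → DRing.HasFiniteInjDim R (DRing.toD K)) := by
  open Groth.Agent.Lib.helper2 Groth.Agent.Lib.helper2.InjDimR in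
  let PP : ObjectProperty (DerivedCategory (ModuleCat.{u} R)) := fun X => DRing.HasFiniteInjDim R X
  have hPP : PP.IsClosedUnderIsomorphisms := ⟨fun e h => hasFiniteInjDim_of_iso e h⟩
  have hsingle : ∀ (n : ℤ) (Y : ModuleCat.{u} R),
      DRing.HasFiniteInjDim R ((DerivedCategory.singleFunctor (ModuleCat.{u} R) 0).obj Y) →
      PP ((DerivedCategory.singleFunctor (ModuleCat.{u} R) n).obj Y) := by
    intro n Y h
    exact hasFiniteInjDim_of_iso (DerTrunc.singleIsoShift Y n).symm (hasFiniteInjDim_shift h (-n))
  constructor
  · rintro K ⟨a, b, hK⟩ hH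
    have hGE : DerivedCategory.IsGE K a := by
      rw [DerivedCategory.isGE_iff]
      intro i hi
      have := hK i (Or.inl hi)
      exact ModuleCat.isZero_of_subsingleton _
    have hLE : DerivedCategory.IsLE K b := by
      rw [DerivedCategory.isLE_iff]
      intro i hi
      have := hK i (Or.inr hi)
      exact ModuleCat.isZero_of_subsingleton _
    let P0 : ObjectProperty (ModuleCat.{u} R) := fun Y =>
      DRing.HasFiniteInjDim R ((DerivedCategory.singleFunctor (ModuleCat.{u} R) 0).obj Y)
    have hP : P0.IsClosedUnderIsomorphisms :=
      ⟨fun e h => hasFiniteInjDim_of_iso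
        ((DerivedCategory.singleFunctor (ModuleCat.{u} R) 0).mapIso e) h⟩
    exact DerTrunc.bounded_induction (fun _ => P0) PP (fun X hX => hasFiniteInjDim_of_isZero hX)
      (fun T hT h1 h3 => hasFiniteInjDim_of_distTriang T hT h1 h3) hsingle K a b
      (fun i _ _ => hH i)
  · intro K a b hK hH
    exact Stupid.complex_induction PP (fun X hX => hasFiniteInjDim_of_isZero hX)
      (fun T hT h1 h3 => hasFiniteInjDim_of_distTriang T hT h1 h3) K a b hK
      (fun i => hsingle i _ (hH i))

end Groth.Agent.S7036
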