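import Groth.Statements.S7038
import Groth.Agent.Lib.helper11.PowTors
import Mathlib.Tactic

set_option autoImplicit false
universe u
open LocCoh

namespace Groth.Agent.S7038

/-- For an ideal I of a commutative ring R and an R-module M, if every element of M is killed by a power
of I then the support of M is contained in the closed set V(I); conversely, when I is finitely
generated and the support of M is contained in V(I), every element of M is killed by a power of I.
(Finite generation is used only for the converse.) -/
theorem result {R : Type u} [CommRing R] (I : Ideal R)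
    (M : Type u) [AddCommGroup M] [Module R M] :
    (LocCoh.IsPowerTorsion I M → Module.support R M ⊆ PrimeSpectrum.zeroLocus (I : Set R)) ∧
    (I.FG → Module.support R M ⊆ PrimeSpectrum.zeroLocus (I : Set R) → LocCoh.IsPowerTorsion I M) := by
  refine ⟨fun h p hp => ?_, fun hI hsupp m => ?_⟩
  · rw [Module.mem_support_iff_exists_annihilator] at hp
    obtain ⟨m, hm⟩ := hp
    obtain ⟨n, hn⟩ := h m
    rw [PrimeSpectrum.mem_zeroLocus]
    have h1 : I ^ n ≤ p.asIdeal := by
      intro a ha
      apply hm
      rw [Submodule.mem_annihilator_span_singleton]
      exact hn a ha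
    exact p.2.le_of_pow_le h1
  · apply Groth.Agent.Lib.helper11.PowTors.exists_pow_of_forall_pow I hI m
    intro a ha
    have hrad : a ∈ ((Submodule.span R {m}).annihilator).radical := by
      rw [Ideal.radical_eq_sInf, Ideal.mem_sInf]
      rintro J ⟨hJ, hJp⟩
      have hmem : (⟨J, hJp⟩ : PrimeSpectrum R) ∈ Module.support R M := by
        rw [Module.mem_support_iff_exists_annihilator]
        exact ⟨m, hJ⟩
      have := hsupp hmem
      rw [PrimeSpectrum.mem_zeroLocus] at this
      exact this ha
    obtain ⟨n, hn⟩ := hrad
    refine ⟨n, ?_⟩
    rwa [Submodule.mem_annihilator_span_singleton] at hn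

end Groth.Agent.S7038
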