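import Groth.Statements.S7039
import Groth.Agent.Lib.helper11.PowTors
import Mathlib.Tactic

set_option autoImplicit false
universe u
open LocCoh

namespace Groth.Agent.S7039

/-- For a finitely generated ideal I of a commutative ring R and any R-module M, the quotient of M by
its submodule of I-power torsion elements has no nonzero element annihilated by I. -/
theorem result {R : Type u} [CommRing R] (I : Ideal R) (hI : I.FG)
    (M : Type u) [AddCommGroup M] [Module R M] :
    LocCoh.torsionBy I (M ⧸ DRing.torsionSub I M) = ⊥ := by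
  rw [eq_bot_iff]
  intro y hy
  obtain ⟨x, rfl⟩ := Submodule.Quotient.mk_surjective _ y
  rw [Submodule.mem_bot, Submodule.Quotient.mk_eq_zero]
  rw [Submodule.mem_torsionBySet_iff] at hy
  have key : ∀ a ∈ I, ∃ n : ℕ, a ^ n • x = 0 := by
    intro a ha
    have h1 := hy ⟨a, ha⟩
    change a • (Submodule.Quotient.mk x : M ⧸ DRing.torsionSub I M) = 0 at h1
    rw [← Submodule.Quotient.mk_smul, Submodule.Quotient.mk_eq_zero] at h1
    obtain ⟨n, hn⟩ := h1
    refine ⟨n + 1, ?_⟩
    rw [pow_succ, mul_smul]
    exact hn _ (Ideal.pow_mem_pow ha n)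
  obtain ⟨N, hN⟩ := Groth.Agent.Lib.helper11.PowTors.exists_pow_of_forall_pow I hI x key
  exact ⟨N, hN⟩

end Groth.Agent.S7039
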