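import Groth.Statements.S7040
import Groth.Agent.Lib.helper11.PowTors
import Mathlib.Tactic
import Mathlib.Algebra.Homology.ShortComplex.ModuleCat

set_option autoImplicit false
universe u
open CategoryTheory
open LocCoh

namespace Groth.Agent.S7040

/-- For a finitely generated ideal I of a commutative ring R, the property of being an I-power torsion
module (every element killed by a power of I) is a Serre class in the category of R-modules: it
holds for 0 and is closed under subobjects, quotients and extensions. -/
theorem result {R : Type u} [CommRing R] (I : Ideal R) (hI : I.FG) :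
    ObjectProperty.IsSerreClass (C := ModuleCat.{u} R) (fun M => LocCoh.IsPowerTorsion I M) := by
  have zero : ObjectProperty.ContainsZero (C := ModuleCat.{u} R)
      (fun M => LocCoh.IsPowerTorsion I M) := by
    refine ⟨⟨ModuleCat.of R PUnit, ?_, ?_⟩⟩
    · exact ModuleCat.isZero_of_subsingleton _
    · intro m
      exact ⟨0, fun a _ => Subsingleton.elim _ _⟩
  have sub : ObjectProperty.IsClosedUnderSubobjects (C := ModuleCat.{u} R)
      (fun M => LocCoh.IsPowerTorsion I M) := by
    refine ⟨fun {X Y} f _ hY m => ?_⟩
    obtain ⟨n, hn⟩ := hY (f m)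
    refine ⟨n, fun a ha => ?_⟩
    have hinj : Function.Injective f := (ModuleCat.mono_iff_injective f).1 inferInstance
    apply hinj
    rw [map_smul, hn a ha, map_zero]
  have quot : ObjectProperty.IsClosedUnderQuotients (C := ModuleCat.{u} R)
      (fun M => LocCoh.IsPowerTorsion I M) := by
    refine ⟨fun {X Y} f _ hX y => ?_⟩
    have hsurj : Function.Surjective f := (ModuleCat.epi_iff_surjective f).1 inferInstance
    obtain ⟨x, rfl⟩ := hsurj y
    obtain ⟨n, hn⟩ := hX x
    refine ⟨n, fun a ha => ?_⟩
    rw [← map_smul, hn a ha, map_zero]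
  have ext : ObjectProperty.IsClosedUnderExtensions (C := ModuleCat.{u} R)
      (fun M => LocCoh.IsPowerTorsion I M) := by
    refine ⟨fun {S} hS h₁ h₃ m => ?_⟩
    apply Groth.Agent.Lib.helper11.PowTors.exists_pow_of_forall_pow I hI m
    intro a ha
    obtain ⟨n, hn⟩ := h₃ (S.g m)
    have h1 : S.g (a ^ n • m) = 0 := by
      rw [map_smul]
      exact hn _ (Ideal.pow_mem_pow ha n)
    have hex := hS.exact
    rw [ShortComplex.moduleCat_exact_iff] at hex
    obtain ⟨y, hy⟩ := hex _ h1
    obtain ⟨k, hk⟩ := h₁ y
    refine ⟨k + n, ?_⟩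
    rw [pow_add, mul_smul, ← hy, ← map_smul, hk _ (Ideal.pow_mem_pow ha k), map_zero]
  exact { toContainsZero := zero, toIsClosedUnderSubobjects := sub,
          toIsClosedUnderQuotients := quot, toIsClosedUnderExtensions := ext }

end Groth.Agent.S7040
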