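import Groth.Statements.S7041
import Groth.Agent.Lib.helper11.PowTors
import Mathlib.Algebra.Colimit.TensorProduct
import Mathlib.Tactic

set_option autoImplicit false
universe u
open TensorProduct
open LocCoh

namespace Groth.Agent.S7041


section aux
variable {R R' : Type u} [CommRing R] [CommRing R'] [Algebra R R']

/-- elements of `J R'` kill `m` in the tensor product when `J` kills `m`. -/
theorem tmul_eq_zero_of_mem_map (J : Ideal R) {M : Type u} [AddCommGroup M] [Module R M] (m : M)
    (hm : ∀ a ∈ J, a • m = 0) (s : R') (hs : s ∈ Ideal.map (algebraMap R R') J) :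
    s ⊗ₜ[R] m = 0 := by
  unfold Ideal.map at hs
  induction hs using Submodule.span_induction with
  | mem x hx =>
    obtain ⟨a, ha, rfl⟩ := hx
    rw [Algebra.algebraMap_eq_smul_one, TensorProduct.smul_tmul, hm a ha, TensorProduct.tmul_zero]
  | zero => simp
  | add x y _ _ hx hy => rw [TensorProduct.add_tmul, hx, hy, add_zero]
  | smul c x _ hx =>
    rw [smul_eq_mul, ← smul_eq_mul, ← TensorProduct.smul_tmul', hx, smul_zero]

/-- The `R`-linear comparison map `R/J → R'/JR'`. -/
noncomputable def cmp (J : Ideal R) : (R ⧸ J) →ₗ[R] (R' ⧸ Ideal.map (algebraMap R R') J) :=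
  Submodule.liftQ J (((Ideal.map (algebraMap R R') J).mkQ.restrictScalars R) ∘ₗ Algebra.linearMap R R')
    (by
      intro a ha
      rw [LinearMap.mem_ker]
      change (Ideal.Quotient.mk _ (algebraMap R R' a)) = 0
      rw [Ideal.Quotient.eq_zero_iff_mem]
      exact Ideal.mem_map_of_mem _ ha)

theorem cmp_eq (J : Ideal R) (x : R ⧸ J) :
    cmp (R' := R') J x = Ideal.quotientMap (Ideal.map (algebraMap R R') J) (algebraMap R R')
      Ideal.le_comap_map x := by
  obtain ⟨r, rfl⟩ := Ideal.Quotient.mk_surjective x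
  rfl

end aux

/-- Let R → R' be a homomorphism of commutative rings and I an ideal of R such that the induced map
R/I^n → R'/I^n R' is bijective for every n > 0. Then for every R-module M in which every element is
killed by a power of I, the map M → R' ⊗_R M sending m to 1 ⊗ m is bijective. -/
theorem result {R R' : Type u} [CommRing R] [CommRing R'] [Algebra R R']
    (I : Ideal R)
    (hq : ∀ n : ℕ, 0 < n → Function.Bijective
      (Ideal.quotientMap (Ideal.map (algebraMap R R') (I ^ n)) (algebraMap R R') Ideal.le_comap_map))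
    (M : Type u) [AddCommGroup M] [Module R M] (hM : LocCoh.IsPowerTorsion I M) :
    Function.Bijective (fun m : M => (1 : R') ⊗ₜ[R] m) := by
  constructor
  · -- injectivity
    have hadd : ∀ m₁ m₂ : M, (1 : R') ⊗ₜ[R] (m₁ - m₂) = (1 : R') ⊗ₜ[R] m₁ - (1 : R') ⊗ₜ[R] m₂ :=
      fun m₁ m₂ => TensorProduct.tmul_sub _ _ _
    suffices h0 : ∀ m : M, (1 : R') ⊗ₜ[R] m = 0 → m = 0 by
      intro m₁ m₂ h
      have : (1 : R') ⊗ₜ[R] (m₁ - m₂) = 0 := by
        rw [hadd]; exact sub_eq_zero.2 h
      exact sub_eq_zero.1 (h0 _ this)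
    intro m hm
    have hm' : m ⊗ₜ[R] (1 : R') = 0 := by
      have := congrArg (TensorProduct.comm R R' M) hm
      simpa using this
    -- reduce to a finitely generated submodule
    set N : Submodule R M := Submodule.span R {m} with hN
    have hNfg : N.FG := Submodule.fg_span_singleton m
    have hmN : m ∈ N := Submodule.mem_span_singleton_self m
    have h1 : N.subtype.rTensor R' ((⟨m, hmN⟩ : N) ⊗ₜ[R] (1 : R')) = N.subtype.rTensor R' 0 := by
      rw [LinearMap.rTensor_tmul, map_zero]
      exact hm'
    obtain ⟨N', hN'fg, hle, h2⟩ := hNfg.exists_rTensor_fg_inclusion_eq h1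
    rw [LinearMap.rTensor_tmul, map_zero] at h2
    -- a uniform exponent on N'
    have hexp : ∃ n : ℕ, ∀ x : N', ∀ a ∈ I ^ n, a • x = 0 := by
      obtain ⟨s, hs⟩ := hN'fg
      have hch : ∀ x : M, ∃ n : ℕ, ∀ a ∈ I ^ n, a • x = 0 := hM
      choose e he using hch
      refine ⟨s.sup e, fun x a ha => ?_⟩
      have hx : (x : M) ∈ Submodule.span R (s : Set M) := by rw [hs]; exact x.2
      apply Subtype.ext
      rw [Submodule.coe_smul, Submodule.coe_zero]
      have key : ∀ y ∈ Submodule.span R (s : Set M), a • y = 0 := by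
        intro y hy
        induction hy using Submodule.span_induction with
        | mem y hy => exact he y a (Ideal.pow_le_pow_right (Finset.le_sup hy) ha)
        | zero => simp
        | add y z _ _ hy hz => rw [smul_add, hy, hz, add_zero]
        | smul c y _ hy => rw [smul_comm, hy, smul_zero]
      exact key _ hx
    obtain ⟨n0, hn0⟩ := hexp
    set n := n0 + 1 with hn
    have hnpos : 0 < n := Nat.succ_pos _
    have hkill : ∀ x : N', ∀ a ∈ I ^ n, a • x = 0 := fun x a ha =>
      hn0 x a (Ideal.pow_le_pow_right (Nat.le_succ _) ha)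
    -- the comparison iso
    have hbij : Function.Bijective (cmp (R' := R') (I ^ n)) := by
      have := hq n hnpos
      convert this using 1
      funext x
      exact cmp_eq _ x
    let e := LinearEquiv.ofBijective (cmp (R' := R') (I ^ n)) hbij
    -- action of R/I^n on N'
    let act : (R ⧸ I ^ n) →ₗ[R] (N' →ₗ[R] N') :=
      Submodule.liftQ (I ^ n) (LinearMap.lsmul R N') (by
        intro a ha
        rw [LinearMap.mem_ker]
        ext x
        simp [hkill x a ha])
    let h : R' →ₗ[R] (N' →ₗ[R] N') :=
      act ∘ₗ e.symm.toLinearMap ∘ₗ ((Ideal.map (algebraMap R R') (I ^ n)).mkQ.restrictScalars R)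
    let ψ : N' ⊗[R] R' →ₗ[R] N' := TensorProduct.lift h.flip
    have hψ : ∀ x : N', ψ (x ⊗ₜ[R] (1 : R')) = x := by
      intro x
      change act (e.symm (Submodule.Quotient.mk (1 : R'))) x = x
      have h3 : e.symm (Submodule.Quotient.mk (1 : R')) = Submodule.Quotient.mk (1 : R) := by
        rw [LinearEquiv.symm_apply_eq]
        change _ = cmp (I ^ n) (Submodule.Quotient.mk (1 : R))
        change _ = Submodule.Quotient.mk (algebraMap R R' 1)
        rw [map_one]
      rw [h3]
      change (1 : R) • x = x
      rw [one_smul]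
    have h4 := congrArg ψ h2
    rw [hψ, map_zero] at h4
    have := congrArg Subtype.val h4
    simpa using this
  · -- surjectivity
    intro z
    induction z using TensorProduct.induction_on with
    | zero => exact ⟨0, TensorProduct.tmul_zero _ _⟩
    | add x y hx hy =>
      obtain ⟨a, ha⟩ := hx
      obtain ⟨b, hb⟩ := hy
      refine ⟨a + b, ?_⟩
      change (1 : R') ⊗ₜ[R] (a + b) = _
      rw [TensorProduct.tmul_add]
      exact congrArg₂ (· + ·) ha hb
    | tmul r' m =>
      obtain ⟨n0, hn0⟩ := hM m
      have hkill : ∀ a ∈ I ^ (n0 + 1), a • m = 0 := fun a ha =>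
        hn0 a (Ideal.pow_le_pow_right (Nat.le_succ _) ha)
      obtain ⟨rbar, hr⟩ := (hq (n0 + 1) (Nat.succ_pos _)).2 (Ideal.Quotient.mk _ r')
      obtain ⟨r, rfl⟩ := Ideal.Quotient.mk_surjective rbar
      rw [Ideal.quotientMap_mk, Ideal.Quotient.eq] at hr
      have h0 := tmul_eq_zero_of_mem_map (R' := R') (I ^ (n0 + 1)) m hkill _ hr
      refine ⟨r • m, ?_⟩
      change (1 : R') ⊗ₜ[R] (r • m) = _
      rw [TensorProduct.sub_tmul, sub_eq_zero] at h0
      rw [← h0, Algebra.algebraMap_eq_smul_one, TensorProduct.smul_tmul]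

end Groth.Agent.S7041
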