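import Groth.Statements.S7042
import Mathlib
import Groth.Agent.Lib.helper2.DComplTors
-- import your own Groth.Agent.* helpers here

set_option autoImplicit false
universe u
attribute [local instance] HasDerivedCategory.standard
open DRing

namespace Groth.Agent.S7042

/-- Let I be a finitely generated ideal of a commutative ring A and let M be an A-module which, placed
in degree 0, is derived complete with respect to I, and in which every element is killed by a power
of I. Then a single power of I kills M. -/
theorem result {A : Type u} [CommRing A]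
    (I : Ideal A) (hI : I.FG) (M : Type u) [AddCommGroup M] [Module A M]
    (hc : DRing.IsDerivedComplete I (Dual.inD A M)) (ht : LocCoh.IsPowerTorsion I M) :
    ∃ n : ℕ, I ^ n • (⊤ : Submodule A M) = ⊥ := by
  obtain ⟨s, rfl⟩ := hI
  rw [Groth.Agent.Lib.helper2.DCompl.isDerivedComplete_iff_seq] at hc
  have h1 : ∀ a ∈ s, ∃ n : ℕ, ∀ m : M, a ^ n • m = 0 := by
    intro a ha
    have haI : a ∈ Ideal.span (s : Set A) := Ideal.subset_span ha
    apply Groth.Agent.Lib.helper2.DCompl.exists_pow_smul_eq_zero a M (hc a haI)
    intro m
    obtain ⟨n, hn⟩ := ht m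
    exact ⟨n, hn _ (Ideal.pow_mem_pow haI n)⟩
  obtain ⟨N, hN⟩ := Groth.Agent.Lib.helper2.DCompl.exists_pow_smul_eq_zero_of_finset M s h1
  refine ⟨N, ?_⟩
  rw [eq_bot_iff, Submodule.smul_le]
  intro x hx m _
  rw [Submodule.mem_bot]
  exact hN x hx m

end Groth.Agent.S7042
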