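import Groth.Statements.S7043
import Mathlib
import Groth.Agent.Lib.helper2.DComplSeq2
-- import your own Groth.Agent.* helpers here

set_option autoImplicit false
universe u
attribute [local instance] HasDerivedCategory.standard
open DRing

namespace Groth.Agent.S7043

/-- Let f be an element of a commutative ring A and let M be an A-module which, placed in degree 0, is
derived complete with respect to the ideal (f). Then the ideal J = ⋂ f^n A annihilates the submodule
⋂ f^n M, which is the kernel of M → lim M/f^n M. (The case M = A says that J has square zero when A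
itself is derived complete.) -/
theorem result {A : Type u} [CommRing A] (f : A)
    (M : Type u) [AddCommGroup M] [Module A M]
    (hc : DRing.IsDerivedComplete (Ideal.span {f}) (Dual.inD A M)) :
    (⨅ n : ℕ, Ideal.span {f ^ n}) • (⨅ n : ℕ, (Ideal.span {f ^ n}) • (⊤ : Submodule A M)) = (⊥ : Submodule A M) := by
  rw [Groth.Agent.Lib.helper2.DCompl.isDerivedComplete_iff_seq] at hc
  have hinj := (hc f (Ideal.mem_span_singleton_self f)).1
  rw [eq_bot_iff, Submodule.smul_le]
  intro a ha m hm
  rw [Submodule.mem_bot]
  have ha' : ∀ n : ℕ, ∃ b : A, a = b * f ^ n := by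
    intro n
    have := (Ideal.mem_iInf.1 ha) n
    rw [Ideal.mem_span_singleton] at this
    obtain ⟨b, hb⟩ := this
    exact ⟨b, by rw [hb, mul_comm]⟩
  have hm' : ∀ n : ℕ, ∃ z : M, f ^ n • z = m := by
    intro n
    have := (Submodule.mem_iInf _).1 hm n
    rw [Submodule.ideal_span_singleton_smul, Submodule.mem_smul_pointwise_iff_exists] at this
    obtain ⟨z, _, hz⟩ := this
    exact ⟨z, hz⟩
  choose b hb using ha'
  choose z hz using hm'
  have h0 : Groth.Agent.Lib.helper2.DCompl.Dseq f M (fun n => a • z n) = 0 := by
    funext n
    rw [Groth.Agent.Lib.helper2.DCompl.Dseq_apply, Pi.zero_apply, smul_comm f a, ← smul_sub]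
    rw [hb n, mul_smul, smul_sub, hz n, smul_smul, ← pow_succ, hz (n + 1), sub_self, smul_zero]
  have h1 := hinj (h0.trans (map_zero _).symm)
  have h2 := congrFun h1 0
  have h3 : z 0 = m := by simpa using hz 0
  simpa [h3] using h2

end Groth.Agent.S7043
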