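import Groth.Statements.S7046
import Mathlib
import Groth.Agent.Lib.helper2.DComplNil
import Groth.Agent.S7049
-- import your own Groth.Agent.* helpers here

set_option autoImplicit false
universe u
attribute [local instance] HasDerivedCategory.standard
open DRing

namespace Groth.Agent.S7046

/-- A reduced commutative ring A which, placed in degree 0 of D(A), is derived complete with respect to
a finitely generated ideal I is I-adically complete, i.e. separated and complete for the I-adic
topology. -/
theorem result {A : Type u} [CommRing A] [IsReduced A]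
    (I : Ideal A) (hI : I.FG) (hc : DRing.IsDerivedComplete I (Dual.inD A A)) :
    IsAdicComplete I A := by
  have hsurj := Groth.Agent.S7049.result I hI A hc
  have hprec : IsPrecomplete I A := AdicCompletion.of_surjective_iff.1 hsurj
  obtain ⟨s, rfl⟩ := hI
  rw [Groth.Agent.Lib.helper2.DCompl.isDerivedComplete_iff_seq] at hc
  have hnil := Groth.Agent.Lib.helper2.DCompl.iInf_pow_pow_eq_bot s.card A s le_rfl
    (fun f hf => hc f (Ideal.subset_span hf))
  have hhaus : IsHausdorff (Ideal.span (s : Set A)) A := by
    constructor
    intro x hx
    have hxJ : x ∈ ⨅ n : ℕ, (Ideal.span (s : Set A)) ^ n := by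
      rw [Ideal.mem_iInf]
      intro n
      have := hx n
      rw [SModEq.zero, smul_eq_mul, Ideal.mul_top] at this
      exact this
    have h2 : x ^ (2 ^ s.card) ∈ (⨅ n : ℕ, (Ideal.span (s : Set A)) ^ n) ^ (2 ^ s.card) :=
      Ideal.pow_mem_pow hxJ _
    rw [hnil, Ideal.mem_bot] at h2
    exact IsReduced.eq_zero _ ⟨_, h2⟩
  exact { toIsHausdorff := hhaus, toIsPrecomplete := hprec }

end Groth.Agent.S7046
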