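import Groth.Statements.S7047
import Mathlib
import Groth.Agent.Lib.helper2.DComplIdeal2
-- import your own Groth.Agent.* helpers here

set_option autoImplicit false
universe u
attribute [local instance] HasDerivedCategory.standard
open DRing

namespace Groth.Agent.S7047

/-- For a commutative ring A and an object K of D(A), the set of elements f of A such that every
morphism from A_f (placed in degree 0) to any shift K[n] vanishes is a radical ideal of A. -/
theorem result {A : Type u} [CommRing A] (K : Dual.D A) :
    ∃ J : Ideal A, J.IsRadical ∧
      (J : Set A) = {f : A | ∀ n : ℤ, Subsingleton (Dual.inD A (Localization.Away f) ⟶ K⟦n⟧)} := by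
  refine ⟨Groth.Agent.Lib.helper2.DCompl.completeIdealD K,
    Groth.Agent.Lib.helper2.DCompl.completeIdealD_isRadical K, ?_⟩
  ext f
  rw [SetLike.mem_coe, Groth.Agent.Lib.helper2.DCompl.mem_completeIdealD,
    Groth.Agent.Lib.helper2.Pd1.allShift_iff_subsingleton]
  rfl

end Groth.Agent.S7047
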