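import Groth.Statements.S7052
import Mathlib
import Groth.Agent.Lib.helper2.DCompl
-- import your own Groth.Agent.* helpers here

set_option autoImplicit false
universe u
attribute [local instance] HasDerivedCategory.standard
open DRing

namespace Groth.Agent.S7052

/-- For a commutative ring A, an ideal I, an A-module M and a submodule M₁ such that both M₁ and M/M₁
(placed in degree 0) are derived complete with respect to I, the module M is derived complete with
respect to I. -/
theorem result {A : Type u} [CommRing A] (I : Ideal A)
    (M : Type u) [AddCommGroup M] [Module A M] (M₁ : Submodule A M)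
    (h1 : DRing.IsDerivedComplete I (Dual.inD A M₁)) (h3 : DRing.IsDerivedComplete I (Dual.inD A (M ⧸ M₁))) :
    DRing.IsDerivedComplete I (Dual.inD A M) := by
  let S : CategoryTheory.ShortComplex (ModuleCat.{u} A) :=
    CategoryTheory.ShortComplex.mk (ModuleCat.ofHom M₁.subtype) (ModuleCat.ofHom M₁.mkQ) (by
      ext x
      simp)
  have hS : S.ShortExact :=
    { exact := by
        rw [CategoryTheory.ShortComplex.moduleCat_exact_iff]
        intro x hx
        have hx' : M₁.mkQ x = 0 := hx
        rw [Submodule.mkQ_apply, Submodule.Quotient.mk_eq_zero] at hx'
        exact ⟨⟨x, hx'⟩, rfl⟩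
      mono_f := by
        rw [ModuleCat.mono_iff_injective]
        exact M₁.injective_subtype
      epi_g := by
        rw [ModuleCat.epi_iff_surjective]
        exact M₁.mkQ_surjective }
  exact Groth.Agent.Lib.helper2.DCompl.isDerivedComplete_mid _ hS.singleTriangle_distinguished h1 h3

end Groth.Agent.S7052
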