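import Groth.Statements.S7055
import Mathlib
import Groth.Agent.Lib.helper2.DNak
-- import your own Groth.Agent.* helpers here

set_option autoImplicit false
universe u
attribute [local instance] HasDerivedCategory.standard
open CategoryTheory
open DRing

namespace Groth.Agent.S7055

/-- For a commutative ring A, a finitely generated ideal I and an object K of D(A) which is derived
complete with respect to I, if K ⊗^L_A A/I vanishes then K vanishes. The derived tensor product with
the module A/I is the total left derived functor, assumed to exist. -/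
theorem result {A : Type u} [CommRing A] (I : Ideal A) (hI : I.FG)
    [DRing.HasLTensor A (ModuleCat.of A (A ⧸ I))]
    (K : Dual.D A) (hc : DRing.IsDerivedComplete I K)
    (h0 : Limits.IsZero ((DRing.LTensor A (ModuleCat.of A (A ⧸ I))).obj K)) : Limits.IsZero K := by
  obtain ⟨s, rfl⟩ := hI
  obtain ⟨P, hPK, hPfl, ⟨e⟩⟩ := Groth.Agent.Lib.helper2.KProjRes.exists_kprojective_flat A K
  have hc' : DRing.IsDerivedComplete (Ideal.span (s : Set A)) (DerivedCategory.Q.obj P) :=
    Groth.Agent.Lib.helper2.DCompl.isDerivedComplete_of_iso e.symm hc
  have hT : ∀ i : ℤ, Limits.IsZero ((CohIII.TFun P i).obj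
      (ModuleCat.of A (A ⧸ Ideal.span (s : Set A)))) := fun i =>
    ((DerivedCategory.homologyFunctor (ModuleCat.{u} A) i).map_isZero h0).of_iso
      (Groth.Agent.Lib.helper2.LTensorT.homIso
        (ModuleCat.of A (A ⧸ Ideal.span (s : Set A))) P e i).symm
  have hac := Groth.Agent.Lib.helper2.DNak.acyclic_of_complete s P hPK hPfl hc' hT
  refine Limits.IsZero.of_iso ?_ e.symm
  apply Groth.Agent.Lib.helper2.DGen.isZero_of_homology
  intro n
  exact (hac n).of_iso ((DerivedCategory.homologyFunctorFactors (ModuleCat.{u} A) n).app P)

end Groth.Agent.S7055
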