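import Groth.Statements.S7056
import Mathlib
import Groth.Agent.Lib.helper2.DNak
-- import your own Groth.Agent.* helpers here

set_option autoImplicit false
universe u
attribute [local instance] HasDerivedCategory.standard
open CategoryTheory
open DRing

namespace Groth.Agent.S7056

/-- (1)⇔(2): for a commutative ring A, a finitely generated ideal I and an object K of D(A) which is
derived complete with respect to I, the cohomology of K vanishes in all positive degrees if and only
if the cohomology of K ⊗^L_A A/I does. The derived tensor product with the module A/I is the total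
left derived functor, assumed to exist. -/
theorem result {A : Type u} [CommRing A]
    (I : Ideal A) (hI : I.FG) [DRing.HasLTensor A (ModuleCat.of A (A ⧸ I))]
    (K : Dual.D A) (hc : DRing.IsDerivedComplete I K) :
    (∀ i : ℤ, 0 < i → Subsingleton (Dual.HD A K i)) ↔
      ∀ i : ℤ, 0 < i → Subsingleton (Dual.HD A ((DRing.LTensor A (ModuleCat.of A (A ⧸ I))).obj K) i) := by
  obtain ⟨s, rfl⟩ := hI
  obtain ⟨P, hPK, hPfl, ⟨e⟩⟩ := Groth.Agent.Lib.helper2.KProjRes.exists_kprojective_flat A K
  have hc' : DRing.IsDerivedComplete (Ideal.span (s : Set A)) (DerivedCategory.Q.obj P) :=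
    Groth.Agent.Lib.helper2.DCompl.isDerivedComplete_of_iso e.symm hc
  have eH : ∀ n : ℤ, P.homology n ≅ (DerivedCategory.homologyFunctor (ModuleCat.{u} A) n).obj K :=
    fun n => ((DerivedCategory.homologyFunctorFactors (ModuleCat.{u} A) n).app P).symm ≪≫
      (DerivedCategory.homologyFunctor (ModuleCat.{u} A) n).mapIso e
  constructor
  · intro h i hi
    have h1 : ∀ j : ℤ, 1 ≤ j → Limits.IsZero (P.homology j) := fun j hj => by
      have := h j (by omega)
      exact (ModuleCat.isZero_of_subsingleton _).of_iso (eH j)
    have h2 := Groth.Agent.Lib.helper2.NilDev.isZero_T_of_homology_vanishing P 1 h1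
      (ModuleCat.of A (A ⧸ Ideal.span (s : Set A))) i (by omega)
    exact ModuleCat.subsingleton_of_isZero (h2.of_iso
      (Groth.Agent.Lib.helper2.LTensorT.homIso
        (ModuleCat.of A (A ⧸ Ideal.span (s : Set A))) P e i))
  · intro h i hi
    have hT : ∀ j : ℤ, 1 ≤ j → Limits.IsZero ((CohIII.TFun P j).obj
        (ModuleCat.of A (A ⧸ Ideal.span (s : Set A)))) := fun j hj => by
      have := h j (by omega)
      exact (ModuleCat.isZero_of_subsingleton _).of_iso
        (Groth.Agent.Lib.helper2.LTensorT.homIso
          (ModuleCat.of A (A ⧸ Ideal.span (s : Set A))) P e j).symm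
    have hac := Groth.Agent.Lib.helper2.DNak.acyclic_ge_of_complete 1 s P hPK hPfl hc' hT i
      (by omega)
    exact ModuleCat.subsingleton_of_isZero (hac.of_iso (eH i).symm)

end Groth.Agent.S7056
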