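import Groth.Statements.S7057
import Mathlib
import Groth.Agent.Lib.helper2.DComplRing
import Groth.Agent.Lib.helper2.ExactHomology
-- import your own Groth.Agent.* helpers here

set_option autoImplicit false
universe u
attribute [local instance] HasDerivedCategory.standard
open DRing

namespace Groth.Agent.S7057

/-- For a homomorphism of commutative rings A → B, an ideal I of A and an object L of D(B), L is derived
complete with respect to the extended ideal IB if and only if L viewed in D(A) by restriction of
scalars is derived complete with respect to I. -/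
theorem result {A B : Type u} [CommRing A] [CommRing B] (φ : A →+* B)
    (I : Ideal A) (L : Dual.D B) :
    DRing.IsDerivedComplete (I.map φ) L ↔ DRing.IsDerivedComplete I ((DRing.restrictD φ).obj L) := by
  rw [Groth.Agent.Lib.helper2.DCompl.isDerivedComplete_iff_homology (I := I.map φ) L,
    Groth.Agent.Lib.helper2.DCompl.isDerivedComplete_iff_homology (I := I)
      ((DRing.restrictD φ).obj L)]
  refine forall_congr' (fun i => ?_)
  let N : ModuleCat.{u} B := (DerivedCategory.homologyFunctor (ModuleCat.{u} B) i).obj L
  have e := Groth.Agent.Lib.helper2.ExactHomology.homologyIso (ModuleCat.restrictScalars.{u} φ) L i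
  have key : DRing.IsDerivedComplete (I.map φ) (Dual.inD B N) ↔
      DRing.IsDerivedComplete I (Dual.inD A ((ModuleCat.restrictScalars.{u} φ).obj N)) := by
    rw [Ideal.map, Groth.Agent.Lib.helper2.DCompl.isDerivedComplete_span_iff_seq,
      Groth.Agent.Lib.helper2.DCompl.isDerivedComplete_iff_seq]
    have h1 : ∀ f : A, Function.Bijective (Groth.Agent.Lib.helper2.DCompl.Dseq (φ f) N) ↔
        Function.Bijective (Groth.Agent.Lib.helper2.DCompl.Dseq f
          ((ModuleCat.restrictScalars.{u} φ).obj N)) := by
      intro f
      constructor
      · intro h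
        exact Groth.Agent.Lib.helper2.DCompl.Dseq_bijective_of_addEquiv (A := B) (B := A)
          (M := N) (N := (ModuleCat.restrictScalars.{u} φ).obj N) (AddEquiv.refl _) (φ f) f
          (fun m => rfl) h
      · intro h
        exact Groth.Agent.Lib.helper2.DCompl.Dseq_bijective_of_addEquiv (A := A) (B := B)
          (M := (ModuleCat.restrictScalars.{u} φ).obj N) (N := N) (AddEquiv.refl _) f (φ f)
          (fun m => rfl) h
    constructor
    · intro h f hf
      exact (h1 f).1 (h (φ f) ⟨f, hf, rfl⟩)
    · rintro h _ ⟨f, hf, rfl⟩
      exact (h1 f).2 (h f hf)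
  refine key.trans ?_
  constructor
  · intro h
    exact Groth.Agent.Lib.helper2.DCompl.isDerivedComplete_of_iso
      ((DerivedCategory.singleFunctor (ModuleCat.{u} A) 0).mapIso e.symm) h
  · intro h
    exact Groth.Agent.Lib.helper2.DCompl.isDerivedComplete_of_iso
      ((DerivedCategory.singleFunctor (ModuleCat.{u} A) 0).mapIso e) h

end Groth.Agent.S7057
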