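import Groth.Statements.S7058
import Mathlib
import Groth.Agent.Lib.helper2.DGenLoc
-- import your own Groth.Agent.* helpers here

set_option autoImplicit false
universe u
attribute [local instance] HasDerivedCategory.standard
open CategoryTheory
open DRing

namespace Groth.Agent.S7058

/-- Let A be a commutative ring, I a finitely generated ideal, and assume the derived completion functor
(left adjoint to the inclusion of derived complete objects of D(A)) exists. If K is a cochain
complex of A-modules and some f in I acts bijectively on every term of K, then the derived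
completion of K is zero. -/
theorem result {A : Type u} [CommRing A] (I : Ideal A) (hI : I.FG)
    [DRing.HasDerivedCompletion I] (K : DRing.Cx A) (f : A) (hf : f ∈ I)
    (hK : ∀ i : ℤ, Function.Bijective (fun x : K.X i => f • x)) :
    Limits.IsZero ((DRing.derivedCompletion I).obj (DRing.toD K)).obj := by
  let C := (DRing.derivedCompletion I).obj (DRing.toD K)
  have hzero : ∀ (C' : DRing.DComp I) (ψ : DRing.toD K ⟶ C'.obj), ψ = 0 := by
    intro C' ψ
    exact Groth.Agent.Lib.helper2.DGenLoc.hom_eq_zero K f hK C'.obj
      (fun n ψ' => (C'.property f hf n).elim _ _) ψ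
  have hsub : Subsingleton (DRing.toD K ⟶ (ObjectProperty.ι (DRing.IsDerivedComplete I)).obj C) :=
    ⟨fun a b => by rw [hzero C a, hzero C b]⟩
  have hsub2 : Subsingleton (C ⟶ C) :=
    ((DRing.derivedCompletionAdj I).homEquiv (DRing.toD K) C).subsingleton
  have h1 : 𝟙 C = ObjectProperty.homMk 0 := Subsingleton.elim _ _
  have h2 : 𝟙 C.obj = 0 := congrArg (fun g => g.hom) h1
  exact (Limits.IsZero.iff_id_eq_zero _).2 h2

end Groth.Agent.S7058
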