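import Groth.Statements.S7062
import Mathlib
import Groth.Agent.Lib.helper3.BLTor
-- import your own Groth.Agent.* helpers here

set_option autoImplicit false
universe u
open EtGlue

namespace Groth.Agent.S7062

/-- For a glueing pair (R → R', f), i.e. R/f^nR → R'/f^nR' is bijective for all n > 0 and the sequence 0
→ R → R' ⊕ R_f → R'_f → 0 is exact, the group Tor_1^R(R', f^n R) vanishes for every n > 0 (Tor
computed by resolving the second argument, the ideal f^n R). -/
theorem result {R R' : Type u} [CommRing R] [CommRing R'] [Algebra R R']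
    (f : R) (h : EtGlue.IsGlueingPair R R' f) (n : ℕ) (hn : 0 < n) :
    Subsingleton (DRing.Tor R 1 R' ↥(Ideal.span ({f ^ n} : Set R))) := by
  let p : R →ₗ[R] ↥(Ideal.span ({f ^ n} : Set R)) :=
    (LinearMap.toSpanSingleton R R (f ^ n)).codRestrict _ (fun r => by
      rw [LinearMap.toSpanSingleton_apply]
      exact Ideal.mem_span_singleton'.mpr ⟨r, rfl⟩)
  have hp : Function.Surjective p := by
    rintro ⟨y, hy⟩
    obtain ⟨r, rfl⟩ := Ideal.mem_span_singleton'.mp hy
    exact ⟨r, Subtype.ext (by simp [p, LinearMap.toSpanSingleton_apply])⟩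
  have hbridge := Groth.Agent.Lib.helper3.Tor1.isZero_tor_one_iff (R := R) (P := R) R'
    ↥(Ideal.span ({f ^ n} : Set R)) p hp
  rw [ModuleCat.isZero_iff_subsingleton] at hbridge
  refine hbridge.mpr ?_
  apply Groth.Agent.Lib.helper3.BLTor.lTensor_subtype_injective_of_torsion f h
  intro q hq
  refine ⟨n, ?_⟩
  rw [LinearMap.mem_ker] at hq
  have := congrArg Subtype.val hq
  simp only [p, LinearMap.codRestrict_apply, LinearMap.toSpanSingleton_apply, smul_eq_mul,
    Submodule.coe_zero] at this
  rw [mul_comm]
  exact this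

end Groth.Agent.S7062
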