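import Groth.Statements.S7065
import Mathlib
-- import your own Groth.Agent.* helpers here

set_option autoImplicit false
universe u
open EtGlue

namespace Groth.Agent.S7065

/-- Let R → R' be a homomorphism of commutative rings and f an element of R such that the induced map
R/fR → R'/fR' is bijective. Then Spec(R') ⊔ Spec(R_f) → Spec(R) is surjective: every prime of R is
the contraction of a prime of R' or of a prime of R_f. -/
theorem result {R R' : Type u} [CommRing R] [CommRing R']
    [Algebra R R'] (f : R)
    (hq : Function.Bijective
      (Ideal.quotientMap (Ideal.map (algebraMap R R') (Ideal.span {f})) (algebraMap R R') Ideal.le_comap_map))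
    (p : PrimeSpectrum R) :
    (∃ q : PrimeSpectrum R', PrimeSpectrum.comap (algebraMap R R') q = p) ∨
      ∃ q : PrimeSpectrum (Localization.Away f), PrimeSpectrum.comap (algebraMap R (Localization.Away f)) q = p := by
  by_cases hf : f ∈ p.asIdeal
  · left
    let J : Ideal R := Ideal.span {f}
    have hJp : J ≤ p.asIdeal := by
      rw [Ideal.span_le]
      intro x hx
      rw [Set.mem_singleton_iff] at hx
      rw [hx]
      exact hf
    have hp : p ∈ Set.range (PrimeSpectrum.comap (Ideal.Quotient.mk J)) := by
      rw [range_comap_of_surjective (R ⧸ J) (Ideal.Quotient.mk J)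
        Ideal.Quotient.mk_surjective]
      rw [PrimeSpectrum.mem_zeroLocus, Ideal.mk_ker]
      exact hJp
    obtain ⟨pbar, hpbar⟩ := hp
    let e := RingEquiv.ofBijective _ hq
    refine ⟨PrimeSpectrum.comap (Ideal.Quotient.mk (Ideal.map (algebraMap R R') J))
      (PrimeSpectrum.comap (e.symm : _ →+* _) pbar), ?_⟩
    rw [← hpbar]
    have hpt : ∀ r : R, e.symm (Ideal.Quotient.mk (Ideal.map (algebraMap R R') J)
        (algebraMap R R' r)) = Ideal.Quotient.mk J r := by
      intro r
      rw [RingEquiv.symm_apply_eq]
      change _ = Ideal.quotientMap (Ideal.map (algebraMap R R') J) (algebraMap R R')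
        Ideal.le_comap_map (Ideal.Quotient.mk J r)
      rw [Ideal.quotientMap_mk]
    apply PrimeSpectrum.ext
    ext r
    simp only [PrimeSpectrum.comap_asIdeal, Ideal.mem_comap, RingEquiv.coe_toRingHom]
    rw [hpt r]
  · right
    have hp : p ∈ Set.range (PrimeSpectrum.comap (algebraMap R (Localization.Away f))) := by
      rw [PrimeSpectrum.localization_away_comap_range (Localization.Away f) f]
      exact hf
    exact hp

end Groth.Agent.S7065
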