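import Groth.Statements.S7066
import Mathlib
import Groth.Agent.Lib.helper17.PolyTD
import Groth.Agent.S6954

set_option autoImplicit false
universe u
attribute [local instance] HasDerivedCategory.standard
open MoreMor

namespace Groth.Agent.S7066

/-- A homomorphism of commutative rings A → B is perfect, i.e. pseudo-coherent with B of finite tor
dimension as an A-module, if and only if B is a quotient of a polynomial ring A[x_1, …, x_n] over
which B is a perfect module, i.e. B placed in degree 0 is isomorphic in the derived category of the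
polynomial ring to a bounded complex of finite projective modules. -/
theorem result (A B : Type u) [CommRing A] [CommRing B] [Algebra A B] :
    MoreMor.IsPerfectHom A B ↔
      ∃ (n : ℕ) (φ : MvPolynomial (Fin n) A →ₐ[A] B), Function.Surjective φ ∧
        letI := φ.toRingHom.toAlgebra
        DRing.IsPerfectModule (MvPolynomial (Fin n) A) B := by
  constructor
  · rintro ⟨⟨n, φ, hs, hpc⟩, ⟨d, hd⟩⟩
    refine ⟨n, φ, hs, ?_⟩
    exact (Groth.Agent.S6954.result (MvPolynomial (Fin n) A) _).mpr
      ⟨hpc, ⟨_, _, Groth.Agent.Lib.helper17.PolyTD.torAmp_of_hasTorDimLE n φ d hd⟩⟩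
  · rintro ⟨n, φ, hs, hperf⟩
    obtain ⟨hpc, ⟨a, b, hab⟩⟩ := (Groth.Agent.S6954.result (MvPolynomial (Fin n) A) _).mp hperf
    exact ⟨⟨n, φ, hs, hpc⟩,
      Groth.Agent.Lib.helper17.PolyTD.hasFiniteTorDim_of_torAmp n φ a b hab⟩

end Groth.Agent.S7066
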