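import Groth.Statements.S7071
import Mathlib
import Groth.Agent.Lib.helper17.DerCARel4
-- import your own Groth.Agent.* helpers here

set_option autoImplicit false
universe u
attribute [local instance] HasDerivedCategory.standard
open DerCA

open Groth.Agent.Lib.helper17

namespace Groth.Agent.S7071

/-- Let R → A be a pseudo-coherent homomorphism of commutative rings, m an integer and K an object of
D(A). Then the object K is m-pseudo-coherent as an object of D(A) exactly when, relative to R, it is
m-pseudo-coherent. -/
theorem result (R A : Type u) [CommRing R] [CommRing A]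
    [Algebra R A] (hRA : MoreMor.IsPseudoCoherentHom R A) (m : ℤ) (K : Dual.D A) :
    DerCA.IsRelPseudoCoherent R A m K ↔ DRing.IsPseudoCoherent A m K := by
  obtain ⟨n, φ, hφ, hpc⟩ := hRA
  have hPC : ResKoszul.PCVia (φ : MvPolynomial (Fin n) R →+* A) := by
    intro k
    letI : Algebra (MvPolynomial (Fin n) R) A := φ.toRingHom.toAlgebra
    have h1 : PCoh.IsPC (DRingPC.FF (MvPolynomial (Fin n) R))
        (Dual.inD (MvPolynomial (Fin n) R) A) :=
      (DRingPC.isPseudoCoherent'_iff_isPC _ _).1 hpc
    exact PCohBasic.NPC.of_iso _ (h1 k)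
      ((DerivedCategory.singleFunctor _ 0).mapIso
        (DRingBC.restrictSelfEquiv (A := MvPolynomial (Fin n) R) (B := A)).symm.toModuleIso)
  rw [DerCARel2.rel_iff_NPC φ hφ, DRingPC.isPseudoCoherent_iff_NPC]
  exact (ResKoszul.NPC_resD_iff hPC m K).symm

end Groth.Agent.S7071
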