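import Groth.Statements.S7073
import Mathlib
import Groth.Agent.Lib.helper17.DRingRes
import Groth.Agent.Lib.helper17.DRingTor
-- import your own Groth.Agent.* helpers here

set_option autoImplicit false
universe u
attribute [local instance] HasDerivedCategory.standard
open Dual2

open Groth.Agent.Lib.helper17

namespace Groth.Agent.S7073

/-- For a flat homomorphism of finite presentation R → A of commutative rings, every perfect object of
D(A) is R-perfect, i.e. pseudo-coherent over A and of finite tor dimension as a complex of
R-modules. -/
theorem result (R A : Type u) [CommRing R] [CommRing A] [Algebra R A]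
    [Module.Flat R A] [Algebra.FinitePresentation R A] (K : Dual.D A) (hK : DRing.IsPerfect A K) :
    Dual2.IsRelPerfect R A K := by
  obtain ⟨E, a, b, hz, hE, ⟨e⟩⟩ := hK
  refine ⟨?_, a, b, ?_⟩
  · rw [DRingPC.isPseudoCoherent'_iff_isPC]
    intro k
    exact PCohBasic.NPC.of_iso _
      (DRingTor.NPC_of_FP_complex A E b (fun i hi => hz i (Or.inr hi)) hE k) e
  · refine ⟨(DRingRes.resC (algebraMap R A)).obj E,
      fun i hi => (DRingRes.resF (algebraMap R A)).map_isZero (hz i hi), fun i => ?_,
      ⟨(DRingRes.resDQ (algebraMap R A) E).symm ≪≫ (DRingRes.resD (algebraMap R A)).mapIso e⟩⟩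
    obtain ⟨h1, h2⟩ := hE i
    show Module.Flat R ((ModuleCat.restrictScalars (algebraMap R A)).obj (E.X i))
    letI : Module R (E.X i) := Module.compHom (E.X i) (algebraMap R A)
    haveI : IsScalarTower R A (E.X i) := IsScalarTower.of_algebraMap_smul fun r x => rfl
    exact Module.Flat.trans R A (E.X i)

end Groth.Agent.S7073
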