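import Groth.Statements.S7077
import Mathlib
import Groth.Agent.Lib.helper2.ProjAmp
import Groth.Agent.Lib.helper2.DerTrunc
-- import your own Groth.Agent.* helpers here

set_option autoImplicit false
universe u
attribute [local instance] HasDerivedCategory.standard
open CategoryTheory
open DRing

namespace Groth.Agent.S7077

/-- (1)⇔(2): let R be a commutative ring and K an object of D(R) whose cohomology modules vanish outside
degrees -1 and 0. Then H^{-1}(K) vanishes and H^0(K) is a projective R-module if and only if
Ext^1_R(K, M) = Hom_{D(R)}(K, M[1]) vanishes for every R-module M. -/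
theorem result {R : Type u} [CommRing R] (K : Dual.D R)
    (hK : ∀ i : ℤ, i ≠ -1 → i ≠ 0 → Subsingleton (Dual.HD R K i)) :
    (Subsingleton (Dual.HD R K (-1)) ∧ Module.Projective R (Dual.HD R K 0)) ↔
      ∀ (M : Type u) [AddCommGroup M] [Module R M], Subsingleton (K ⟶ (Dual.inD R M)⟦(1 : ℤ)⟧) := by
  open Groth.Agent.Lib.helper2 in
  have hLE : DerivedCategory.IsLE K 0 := by
    rw [DerivedCategory.isLE_iff]
    intro i hi
    have := hK i (by lia) (by lia)
    exact ModuleCat.isZero_of_subsingleton _
  have key : ∀ (F : ModuleCat.{u} R),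
      (Subsingleton (K ⟶ (Dual.inD R F)⟦(1 : ℤ)⟧) ↔
        ∀ ψ : K ⟶ (DerivedCategory.singleFunctor (ModuleCat.{u} R) (-1)).obj F, ψ = 0) := by
    intro F
    rw [← ProjAmp.hom_single_shift_iff K 1 (-1) (by ring) F]
    constructor
    · intro h φ
      exact h.elim _ _
    · intro h
      exact ⟨fun φ φ' => by rw [h φ, h φ']⟩
  constructor
  · rintro ⟨hs, hp⟩ M _ _
    rw [key (ModuleCat.of R M)]
    have hGE : DerivedCategory.IsGE K 0 := by
      rw [DerivedCategory.isGE_iff]
      intro i hi
      by_cases h : i = -1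
      · subst h
        exact ModuleCat.isZero_of_subsingleton _
      · have := hK i h (by lia)
        exact ModuleCat.isZero_of_subsingleton _
    obtain ⟨e⟩ := DerTrunc.exists_iso_single_homology K 0
    let Y : ModuleCat.{u} R := (DerivedCategory.homologyFunctor (ModuleCat.{u} R) 0).obj K
    have hY : Projective Y := (IsProjective.iff_projective (R := R) Y).1 hp
    let P := (CochainComplex.singleFunctor (ModuleCat.{u} R) 0).obj Y
    have hz : ∀ i : ℤ, (i < 0 ∨ 0 < i) → Limits.IsZero (P.X i) := fun i hi =>
      HomologicalComplex.isZero_single_obj_X (ComplexShape.up ℤ) 0 Y i (by lia)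
    have hP : ∀ i : ℤ, Projective (P.X i) := by
      intro i
      by_cases hi : i = 0
      · subst hi
        exact Projective.of_iso (HomologicalComplex.singleObjXSelf (ComplexShape.up ℤ) 0 Y).symm hY
      · exact (hz i (by lia)).projective
    intro ψ
    exact ProjAmp.backward K 0 0 P hP hz
      ((DerivedCategory.singleFunctorIsoCompQ (ModuleCat.{u} R) 0).symm.app Y ≪≫ e.symm) _ (-1)
      (Or.inl (by lia)) ψ
  · intro h
    have h1 : ∀ n : ℤ, n < -1 → Limits.IsZero
        ((DerivedCategory.homologyFunctor (ModuleCat.{u} R) n).obj K) := by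
      intro n hn
      have := hK n (by lia) (by lia)
      exact ModuleCat.isZero_of_subsingleton _
    obtain ⟨P, hP, _, _, ⟨eP⟩⟩ := ProjAmp.forward_core' K 0 0 (-1) (by norm_num) h1
      (fun F => (key F).1 (h F))
    have hGE : DerivedCategory.IsGE K 0 :=
      DerivedCategory.TStructure.t.isGE_of_iso eP 0
    refine ⟨ModuleCat.subsingleton_of_isZero (DerivedCategory.isZero_of_isGE K 0 (-1) (by lia)), ?_⟩
    obtain ⟨M, ⟨eM⟩⟩ := CochainComplex.exists_iso_single P 0
    have e0 : P.X 0 ≅ M :=
      (show P.X 0 ≅ ((HomologicalComplex.single (ModuleCat.{u} R) (ComplexShape.up ℤ) 0).obj M).X 0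
        from (HomologicalComplex.eval _ _ 0).mapIso eM) ≪≫
        HomologicalComplex.singleObjXSelf (ComplexShape.up ℤ) 0 M
    have hM : Projective M := Projective.of_iso e0 (hP 0)
    let e1 : (DerivedCategory.homologyFunctor (ModuleCat.{u} R) 0).obj K ≅ M :=
      (DerivedCategory.homologyFunctor (ModuleCat.{u} R) 0).mapIso
        (eP.symm ≪≫ DerivedCategory.Q.mapIso eM) ≪≫
        (DerivedCategory.singleFunctorCompHomologyFunctorIso (ModuleCat.{u} R) 0).app M
    exact (IsProjective.iff_projective (R := R) _).2 (Projective.of_iso e1.symm hM)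

end Groth.Agent.S7077
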