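import Groth.Statements.S7078
import Mathlib
import Groth.Agent.Lib.helper2.TwoTermD
-- import your own Groth.Agent.* helpers here

set_option autoImplicit false
universe u
attribute [local instance] HasDerivedCategory.standard
open CategoryTheory
open DRing

namespace Groth.Agent.S7078

/-- For a commutative ring R and an object K of D(R) whose cohomology modules vanish outside degrees -1
and 0, K is represented by a two-term complex K^{-1} → K^0 with K^0 a free R-module. -/
theorem result {R : Type u} [CommRing R] (K : Dual.D R)
    (hK : ∀ i : ℤ, i ≠ -1 → i ≠ 0 → Subsingleton (Dual.HD R K i)) :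
    ∃ E : DRing.Cx R, DRing.VanishesOutside E (-1) 0 ∧ Module.Free R (E.X 0) ∧ Nonempty (DRing.toD E ≅ K) := by
  open Groth.Agent.Lib.helper2.TwoTerm in
  have hGE : DerivedCategory.IsGE K (-1) := by
    rw [DerivedCategory.isGE_iff]
    intro i hi
    have := hK i (by lia) (by lia)
    exact ModuleCat.isZero_of_subsingleton _
  have hLE : DerivedCategory.IsLE K 0 := by
    rw [DerivedCategory.isLE_iff]
    intro i hi
    have := hK i (by lia) (by lia)
    exact ModuleCat.isZero_of_subsingleton _
  obtain ⟨E, hE1, hE2, hE0, ⟨e⟩⟩ := exists_twoTerm_class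
    (fun X : ModuleCat.{u} R => Module.Free R X)
    ⟨ModuleCat.of R PUnit.{u + 1}, ModuleCat.isZero_of_subsingleton _,
      (inferInstance : Module.Free R PUnit.{u + 1})⟩
    (fun X => ⟨ModuleCat.of R (X →₀ R), ModuleCat.ofHom (Finsupp.linearCombination R id),
      (inferInstance : Module.Free R (X →₀ R)), by
        rw [ModuleCat.epi_iff_surjective]
        intro x
        exact ⟨Finsupp.single x 1, by simp⟩⟩)
    (fun {X Y} e h => by
      have : Module.Free R X := h
      exact Module.Free.of_equiv e.toLinearEquiv) K
  refine ⟨E, ?_, hE0, ⟨e⟩⟩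
  rintro i (hi | hi)
  · exact E.isZero_of_isStrictlyGE (-1) i hi
  · exact E.isZero_of_isStrictlyLE 0 i hi

end Groth.Agent.S7078
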