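import Groth.Statements.S7079
import Mathlib
import Groth.Agent.Lib.helper2.FinModel
import Groth.Agent.S7078
-- import your own Groth.Agent.* helpers here

set_option autoImplicit false
universe u
attribute [local instance] HasDerivedCategory.standard
open CategoryTheory
open DRing

namespace Groth.Agent.S7079

/-- For a Noetherian commutative ring R and an object K of D(R) whose cohomology modules vanish outside
degrees -1 and 0 and are finite modules in those two degrees, K is represented by a two-term complex
K^{-1} → K^0 with K^0 finite free and K^{-1} finite. -/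
theorem result {R : Type u} [CommRing R] [IsNoetherianRing R] (K : Dual.D R)
    (hK : ∀ i : ℤ, i ≠ -1 → i ≠ 0 → Subsingleton (Dual.HD R K i))
    (h1 : Module.Finite R (Dual.HD R K (-1))) (h0 : Module.Finite R (Dual.HD R K 0)) :
    ∃ E : DRing.Cx R, DRing.VanishesOutside E (-1) 0 ∧ Module.Free R (E.X 0) ∧ Module.Finite R (E.X 0) ∧
      Module.Finite R (E.X (-1)) ∧ Nonempty (DRing.toD E ≅ K) := by
  open Groth.Agent.Lib.helper2.TwoTermQI in
  obtain ⟨E, hE, _, ⟨e⟩⟩ := Groth.Agent.S7078.result K hK
  have hiso : ∀ i : ℤ, Nonempty ((DerivedCategory.homologyFunctor (ModuleCat.{u} R) i).obj K ≅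
      E.homology i) := fun i =>
    ⟨(DerivedCategory.homologyFunctor (ModuleCat.{u} R) i).mapIso e.symm ≪≫
      (DerivedCategory.homologyFunctorFactors (ModuleCat.{u} R) i).app E⟩
  have h1' : Module.Finite R (E.homology (-1)) := by
    obtain ⟨φ⟩ := hiso (-1)
    exact Module.Finite.equiv φ.toLinearEquiv
  have h0' : Module.Finite R (E.homology 0) := by
    obtain ⟨φ⟩ := hiso 0
    exact Module.Finite.equiv φ.toLinearEquiv
  obtain ⟨E', φ, hφ, hE', hfree, hfin0, hfin1⟩ := exists_finite_model E hE h1' h0'
  have : IsIso (DerivedCategory.Q.map φ) := (DerivedCategory.isIso_Q_map_iff_quasiIso (φ := φ)).2 hφ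
  exact ⟨E', hE', hfree, hfin0, hfin1, ⟨asIso (DerivedCategory.Q.map φ) ≪≫ e⟩⟩

end Groth.Agent.S7079
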