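import Groth.Statements.S7080
import Mathlib
-- import your own Groth.Agent.* helpers here

set_option autoImplicit false
universe u
attribute [local instance] HasDerivedCategory.standard
open CategoryTheory
open DRing

namespace Groth.Agent.S7080

/-- Let R be a commutative ring and α : K → K' a morphism in D(R) between objects whose cohomology
vanishes outside degrees -1 and 0, such that H^0(α) is an isomorphism and H^{-1}(α) is surjective.
If multiplication by an element f of R is the zero endomorphism of K in D(R), then it is also the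
zero endomorphism of K'. -/
theorem result {R : Type u} [CommRing R] {K K' : Dual.D R} (α : K ⟶ K')
    (hK : ∀ i : ℤ, i ≠ -1 → i ≠ 0 → Subsingleton (Dual.HD R K i))
    (hK' : ∀ i : ℤ, i ≠ -1 → i ≠ 0 → Subsingleton (Dual.HD R K' i))
    (h0 : IsIso ((DerivedCategory.homologyFunctor (ModuleCat.{u} R) 0).map α))
    (h1 : Epi ((DerivedCategory.homologyFunctor (ModuleCat.{u} R) (-1)).map α))
    (f : R) (hf : f • (𝟙 K) = 0) : f • (𝟙 K') = 0 := by
  open CategoryTheory.Pretriangulated DerivedCategory in
  obtain ⟨C, β, γ, hT⟩ := distinguished_cocone_triangle α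
  let F := DerivedCategory.homologyFunctor (ModuleCat.{u} R) 0
  have hGE : DerivedCategory.IsGE K' (-1) := by
    rw [DerivedCategory.isGE_iff]
    intro i hi
    have := hK' i (by lia) (by lia)
    exact ModuleCat.isZero_of_subsingleton _
  have hKz : ∀ i : ℤ, 1 ≤ i → Limits.IsZero ((DerivedCategory.homologyFunctor (ModuleCat.{u} R) i).obj K) := by
    intro i hi
    have := hK i (by lia) (by lia)
    exact ModuleCat.isZero_of_subsingleton _
  have hK'z : ∀ i : ℤ, 1 ≤ i → Limits.IsZero ((DerivedCategory.homologyFunctor (ModuleCat.{u} R) i).obj K') := by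
    intro i hi
    have := hK' i (by lia) (by lia)
    exact ModuleCat.isZero_of_subsingleton _
  have hLE : DerivedCategory.IsLE C (-2) := by
    rw [DerivedCategory.isLE_iff]
    intro i hi
    have ha : (DerivedCategory.homologyFunctor (ModuleCat.{u} R) i).map β = 0 := by
      by_cases h : 1 ≤ i
      · exact (hK'z i h).eq_of_src _ _
      · apply (F.homologySequence_epi_shift_map_mor₁_iff _ hT i).1
        obtain rfl | rfl : i = -1 ∨ i = 0 := by lia
        · exact h1
        · change Epi ((DerivedCategory.homologyFunctor (ModuleCat.{u} R) 0).map α)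
          infer_instance
    have hb : F.homologySequenceδ (Triangle.mk α β γ) i (i + 1) rfl = 0 := by
      by_cases h : 0 ≤ i
      · exact (hKz (i + 1) (by lia)).eq_of_tgt _ _
      · obtain rfl : i = -1 := by lia
        apply (F.homologySequence_mono_shift_map_mor₁_iff _ hT (-1) (-1 + 1) rfl).1
        change Mono ((DerivedCategory.homologyFunctor (ModuleCat.{u} R) (-1 + 1)).map α)
        have : IsIso ((DerivedCategory.homologyFunctor (ModuleCat.{u} R) (-1 + 1)).map α) := h0
        infer_instance
    exact (F.homologySequence_exact₃ _ hT i (i + 1) rfl).isZero_of_both_zeros ha hb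
  have h2 : α ≫ (f • 𝟙 K') = 0 := by
    rw [Linear.comp_smul, Category.comp_id, ← Category.id_comp α, ← Linear.smul_comp, hf, Limits.zero_comp]
  obtain ⟨g, hg⟩ := Triangle.yoneda_exact₂ _ hT (f • 𝟙 K') h2
  have hg0 : g = 0 := DerivedCategory.TStructure.t.zero_of_isLE_of_isGE g (-2) (-1) (by lia) hLE hGE
  rw [hg, hg0]
  exact Limits.comp_zero

end Groth.Agent.S7080
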