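import Groth.Statements.S7081
import Mathlib
import Groth.Agent.Lib.helper2.HomZero
-- import your own Groth.Agent.* helpers here

set_option autoImplicit false
universe u
attribute [local instance] HasDerivedCategory.standard
open CategoryTheory
open DRing

namespace Groth.Agent.S7081

/-- Let R be a commutative ring and φ : K₁ → K₂, ψ : K₂ → K₃ morphisms in D(R) between objects whose
cohomology vanishes outside degrees -1 and 0. If φ induces the zero map on H^0 and ψ induces the
zero map on H^{-1}, then the composite K₁ → K₃ is zero. -/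
theorem result {R : Type u} [CommRing R] {K₁ K₂ K₃ : Dual.D R}
    (φ : K₁ ⟶ K₂) (ψ : K₂ ⟶ K₃)
    (h₁ : ∀ i : ℤ, i ≠ -1 → i ≠ 0 → Subsingleton (Dual.HD R K₁ i))
    (h₂ : ∀ i : ℤ, i ≠ -1 → i ≠ 0 → Subsingleton (Dual.HD R K₂ i))
    (h₃ : ∀ i : ℤ, i ≠ -1 → i ≠ 0 → Subsingleton (Dual.HD R K₃ i))
    (hφ : (DerivedCategory.homologyFunctor (ModuleCat.{u} R) 0).map φ = 0)
    (hψ : (DerivedCategory.homologyFunctor (ModuleCat.{u} R) (-1)).map ψ = 0) :
    φ ≫ ψ = 0 := by
  open CategoryTheory.Pretriangulated DerivedCategory Groth.Agent.Lib.helper2 in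
  let t : Triangulated.TStructure (DerivedCategory (ModuleCat.{u} R)) := DerivedCategory.TStructure.t
  have hT := t.triangleLTGE_distinguished 0 K₂
  have hLE1 : DerivedCategory.IsLE K₁ 0 := by
    rw [DerivedCategory.isLE_iff]
    intro i hi
    have := h₁ i (by lia) (by lia)
    exact ModuleCat.isZero_of_subsingleton _
  have hGE3 : DerivedCategory.IsGE K₃ (-1) := by
    rw [DerivedCategory.isGE_iff]
    intro i hi
    have := h₃ i (by lia) (by lia)
    exact ModuleCat.isZero_of_subsingleton _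
  have h1 : φ ≫ (t.truncGEπ 0).app K₂ = 0 := by
    have : DerivedCategory.IsGE ((t.truncGE 0).obj K₂) 0 := by
      change t.IsGE _ _
      infer_instance
    apply TruncDer.eq_zero_of_isLE_of_isGE_of_homology _ _ 0
    rw [Functor.map_comp, hφ, Limits.zero_comp]
  obtain ⟨φ', hφ'⟩ := Triangle.coyoneda_exact₂ _ hT φ h1
  have h2 : (t.truncLTι 0).app K₂ ≫ ψ = 0 := by
    have : DerivedCategory.IsLE ((t.truncLT 0).obj K₂) (-1) := by
      change t.IsLE _ _
      exact t.isLE_truncLT_obj _ 0 (-1) (by lia)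
    apply TruncDer.eq_zero_of_isLE_of_isGE_of_homology _ _ (-1)
    rw [Functor.map_comp, hψ, Limits.comp_zero]
  rw [hφ']
  change (φ' ≫ (t.truncLTι 0).app K₂) ≫ ψ = 0
  rw [Category.assoc]
  exact (congrArg (fun z => φ' ≫ z) h2).trans Limits.comp_zero

end Groth.Agent.S7081
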