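import Groth.Statements.S7084
import Mathlib
import Groth.Agent.Lib.helper2.NilDev
import Groth.Agent.Lib.helper17.DRingRes
-- import your own Groth.Agent.* helpers here

set_option autoImplicit false
universe u
attribute [local instance] HasDerivedCategory.standard
open CategoryTheory
open LocCoh

namespace Groth.Agent.S7084

/-- Parts (1)–(2) in the case of a module killed by a power of the ideal: let R be a commutative ring, I
an ideal and K an object of D(R) such that K ⊗^L_R R/I has no cohomology in positive degrees. Then
for every R-module N annihilated by some power of I, K ⊗^L_R N has no cohomology in positive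
degrees. (The published statement allows any I-power torsion module N; this row takes N annihilated
by a single power of I, the case the published argument carries out in full, which contains the case
N = R/I^n.) The derived tensor products with modules are total left derived functors, assumed to
exist. -/
theorem result {R : Type u} [CommRing R] (I : Ideal R)
    [DRing.HasLTensor R (ModuleCat.of R (R ⧸ I))] (K : Dual.D R)
    (hK : ∀ i : ℤ, 0 < i → Subsingleton (Dual.HD R ((DRing.LTensor R (ModuleCat.of R (R ⧸ I))).obj K) i))
    (N : Type u) [AddCommGroup N] [Module R N] (n : ℕ) (hN : I ^ n • (⊤ : Submodule R N) = ⊥)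
    [DRing.HasLTensor R (ModuleCat.of R N)] (i : ℤ) (hi : 0 < i) :
    Subsingleton (Dual.HD R ((DRing.LTensor R (ModuleCat.of R N)).obj K) i) := by
  obtain ⟨P, hPK, hPfl, ⟨e⟩⟩ := Groth.Agent.Lib.helper2.KProjRes.exists_kprojective_flat R K
  have hker : RingHom.ker (algebraMap R (R ⧸ I)) = I := Ideal.mk_ker
  have hsurj : Function.Surjective (algebraMap R (R ⧸ I)) := Ideal.Quotient.mk_surjective
  -- `T_j(P, R/I) = 0` for `j > 0`
  have h0 : ∀ j : ℤ, 0 < j → Limits.IsZero ((CohIII.TFun P j).obj (ModuleCat.of R (R ⧸ I))) := fun j hj => by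
    have := hK j hj
    exact (ModuleCat.isZero_of_subsingleton _).of_iso
      (Groth.Agent.Lib.helper2.LTensorT.homIso (ModuleCat.of R (R ⧸ I)) P e j).symm
  have hKP := Groth.Agent.Lib.helper2.NilDev.isKProjective_bcCx (algebraMap R (R ⧸ I)) P
  -- the base change has no cohomology in positive degrees
  have h1 : ∀ j : ℤ, 1 ≤ j →
      Limits.IsZero (((Groth.Agent.Lib.helper2.KPc.bcCx (algebraMap R (R ⧸ I))).obj P).homology j) := by
    intro j hj
    apply Groth.Agent.Lib.helper17.DRingRes.isZero_of_isZero_resF (algebraMap R (R ⧸ I))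
    refine Limits.IsZero.of_iso ?_ (Groth.Agent.Lib.helper17.DRingRes.resC_homologyIso
      (algebraMap R (R ⧸ I)) _ j).symm
    exact (h0 j (by omega)).of_iso ((HomologicalComplex.homologyFunctor _ _ j).mapIso
      (Groth.Agent.Lib.helper2.LTensorT.resBcIso (R ⧸ I) P))
  have h2 : ∀ M' : ModuleCat.{u} (R ⧸ I), Limits.IsZero ((CohIII.TFun
      ((Groth.Agent.Lib.helper2.KPc.bcCx (algebraMap R (R ⧸ I))).obj P) i).obj M') := fun M' =>
    Groth.Agent.Lib.helper2.NilDev.isZero_T_of_homology_vanishing _ 1 h1 M' i (by omega)
  have h3 := Groth.Agent.Lib.helper2.NilDev.isZero_T_of_pow I P hPfl i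
    (fun M _ _ hM => Groth.Agent.Lib.helper2.NilDev.isZero_T_of_killed hsurj P i h2 M
      (fun r hr x => hM r (by rwa [hker] at hr) x)) n N
    (fun r hr x => by
      have : r • x ∈ I ^ n • (⊤ : Submodule R N) := Submodule.smul_mem_smul hr Submodule.mem_top
      rw [hN] at this
      exact this)
  exact ModuleCat.subsingleton_of_isZero
    (h3.of_iso (Groth.Agent.Lib.helper2.LTensorT.homIso (ModuleCat.of R N) P e i))

end Groth.Agent.S7084
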