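import Groth.Statements.S7085
import Groth.Agent.Lib.helper11.PowTors
import Mathlib.Tactic

set_option autoImplicit false
universe u
open LocCoh

namespace Groth.Agent.S7085

/-- Let R be a commutative ring, I an ideal generated by finitely many elements f_1, …, f_t, and M an
R-module. Then: M has no nonzero element killed by I if and only if it has no nonzero element killed
by I^n for every n ≥ 1; and M has no nonzero element killed by I if and only if an element of M
vanishing in every localization M_{f_i} is zero. -/
theorem result {R : Type u} [CommRing R] {t : ℕ} (f : Fin t → R)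
    (I : Ideal R) (hI : Ideal.span (Set.range f) = I) (M : Type u) [AddCommGroup M] [Module R M] :
    (LocCoh.torsionBy I M = ⊥ ↔ ∀ n : ℕ, 1 ≤ n → LocCoh.torsionBy (I ^ n) M = ⊥) ∧
    (LocCoh.torsionBy I M = ⊥ ↔
      ∀ m : M, (∀ i : Fin t, LocalizedModule.mkLinearMap (Submonoid.powers (f i)) M m = 0) → m = 0) := by
  have partA : LocCoh.torsionBy I M = ⊥ → ∀ n : ℕ, ∀ m : M, (∀ a ∈ I ^ n, a • m = 0) → m = 0 := by
    intro h n
    induction n with
    | zero =>
      intro m hm
      have := hm 1 (by simp)
      simpa [Submonoid.smul_def] using this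
    | succ n ih =>
      intro m hm
      apply ih
      intro a ha
      have hmem : a • m ∈ LocCoh.torsionBy I M := by
        rw [Submodule.mem_torsionBySet_iff]
        rintro ⟨b, hb⟩
        change b • a • m = 0
        rw [← mul_smul]
        apply hm
        rw [pow_succ, mul_comm b a]
        exact Ideal.mul_mem_mul ha hb
      rw [h] at hmem
      exact (Submodule.mem_bot R).1 hmem
  refine ⟨⟨fun h n _ => ?_, fun h => ?_⟩, ⟨fun h m hm => ?_, fun h => ?_⟩⟩
  · rw [eq_bot_iff]
    intro m hm
    rw [Submodule.mem_torsionBySet_iff] at hm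
    rw [Submodule.mem_bot]
    exact partA h n m fun a ha => hm ⟨a, ha⟩
  · have := h 1 le_rfl
    rwa [pow_one] at this
  · have hfg : I.FG := by
      rw [← hI]
      exact (Submodule.fg_span (Set.finite_range f))
    have hrad : I ≤ ((Submodule.span R {m}).annihilator).radical := by
      rw [← hI, Ideal.span_le]
      rintro _ ⟨i, rfl⟩
      have h1 := hm i
      rw [LocalizedModule.mkLinearMap_apply, ← LocalizedModule.zero_mk 1, LocalizedModule.mk_eq] at h1
      obtain ⟨⟨_, k, rfl⟩, hu⟩ := h1
      refine ⟨k, ?_⟩
      rw [Submodule.mem_annihilator_span_singleton]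
      simpa [Submonoid.smul_def] using hu
    obtain ⟨N, hN⟩ := Ideal.exists_pow_le_of_le_radical_of_fg hrad hfg
    apply partA h N m
    intro b hb
    have := hN hb
    rwa [Submodule.mem_annihilator_span_singleton] at this
  · rw [eq_bot_iff]
    intro m hm
    rw [Submodule.mem_torsionBySet_iff] at hm
    rw [Submodule.mem_bot]
    apply h
    intro i
    rw [LocalizedModule.mkLinearMap_apply, ← LocalizedModule.zero_mk 1, LocalizedModule.mk_eq]
    refine ⟨⟨f i, 1, by simp⟩, ?_⟩
    have hfi : f i ∈ I := by
      rw [← hI]
      exact Ideal.subset_span ⟨i, rfl⟩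
    have := hm ⟨f i, hfi⟩
    simpa [Submonoid.smul_def] using this

end Groth.Agent.S7085
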