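import Groth.Statements.S7090
import Groth.Agent.Lib.helper3.BL
import Groth.Agent.Lib.helper3.FormalGlue
-- import your own Groth.Agent.* helpers here

set_option autoImplicit false
universe u
open TensorProduct
open EtAlg

namespace Groth.Agent.S7090

theorem pow_torsion_of_gens {R : Type u} [CommRing R] {t : ℕ} (f : Fin t → R) (I : Ideal R)
    (hI : Ideal.span (Set.range f) = I) {X : Type u} [AddCommGroup X] [Module R X] (x : X)
    (h : ∀ i, ∃ n : ℕ, f i ^ n • x = 0) : ∃ n : ℕ, ∀ a ∈ I ^ n, a • x = 0 := by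
  let J : Ideal R := LinearMap.ker (LinearMap.toSpanSingleton R X x)
  have hJ : ∀ a, a ∈ J ↔ a • x = 0 := fun a => by
    simp [J, LinearMap.mem_ker]
  have hle : I ≤ J.radical := by
    rw [← hI, Ideal.span_le]
    rintro _ ⟨i, rfl⟩
    obtain ⟨n, hn⟩ := h i
    exact ⟨n, (hJ _).mpr hn⟩
  have hfg : I.FG := by
    rw [← hI]
    exact ⟨(Set.finite_range f).toFinset, by simp⟩
  obtain ⟨n, hn⟩ := Ideal.exists_pow_le_of_le_radical_of_fg hle hfg
  exact ⟨n, fun a ha => (hJ a).mp (hn ha)⟩

theorem gen_pow_mem {R : Type u} [CommRing R] {t : ℕ} (f : Fin t → R) (I : Ideal R)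
    (hI : Ideal.span (Set.range f) = I) (i : Fin t) (n : ℕ) : f i ^ n ∈ I ^ n := by
  apply Ideal.pow_mem_pow
  rw [← hI]
  exact Ideal.subset_span ⟨i, rfl⟩

open TensorProduct in
/-- the normalized case -/
theorem core {R S : Type u} [CommRing R] [CommRing S] [Algebra R S] [Module.Flat R S]
    {t : ℕ} (f : Fin t → R) (I : Ideal R) (hI : Ideal.span (Set.range f) = I)
    (hq : Function.Bijective
      (Ideal.quotientMap (Ideal.map (algebraMap R S) I) (algebraMap R S) Ideal.le_comap_map))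
    (M : Type u) [AddCommGroup M] [Module R M] (x : S ⊗[R] M) (N : ℕ) (m : Fin t → M)
    (ha : ∀ i, f i ^ N • x = (1 : S) ⊗ₜ[R] m i)
    (hb : ∀ i j, f j ^ N • m i = f i ^ N • m j) :
    ∃ μ : M, (1 : S) ⊗ₜ[R] μ = x ∧ ∀ i, ∃ k : ℕ, f i ^ k • (f i ^ N • μ - m i) = 0 := by
  obtain ⟨h1, h2⟩ := Groth.Agent.Lib.helper3.FormalGlue.hyps_of_quotientMap_bijective I hq
  have hfg : I.FG := by
    rw [← hI]
    exact ⟨(Set.finite_range f).toFinset, by simp⟩
  -- the submodule of compatible tuples
  let Z : Submodule R (Fin t → M) :=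
    { carrier := {z | ∀ i j, f j ^ N • z i = f i ^ N • z j}
      add_mem' := by
        intro a b ha hb i j
        simp only [Pi.add_apply, smul_add]
        rw [ha i j, hb i j]
      zero_mem' := by
        intro i j
        simp
      smul_mem' := by
        intro c a ha i j
        simp only [Pi.smul_apply]
        rw [smul_comm, ha i j, smul_comm] }
  let Φ : M →ₗ[R] (Fin t → M) := LinearMap.pi (fun i => f i ^ N • LinearMap.id)
  have hΦZ : ∀ μ, Φ μ ∈ Z := by
    intro μ i j
    simp only [Φ, LinearMap.pi_apply, LinearMap.smul_apply, LinearMap.id_apply]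
    rw [smul_comm]
  let Φ' : M →ₗ[R] Z := Φ.codRestrict Z hΦZ
  let P : Submodule R Z := LinearMap.range Φ'
  let z : Z := ⟨m, fun i j => hb i j⟩
  -- the quotient is killed by the `f k ^ N`
  have hkill : ∀ (c : Z ⧸ P) (k : Fin t), f k ^ N • c = 0 := by
    intro c k
    obtain ⟨w, rfl⟩ := Submodule.Quotient.mk_surjective P c
    rw [← Submodule.Quotient.mk_smul, Submodule.Quotient.mk_eq_zero]
    refine ⟨w.1 k, ?_⟩
    apply Subtype.ext
    funext i
    simp only [Φ', Φ, LinearMap.codRestrict_apply, LinearMap.pi_apply, LinearMap.smul_apply,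
      LinearMap.id_apply, Submodule.coe_smul, Pi.smul_apply]
    exact (w.2 i k).symm
  -- `1 ⊗ z = Φ' x` in `S ⊗ Z`
  have hzx : (1 : S) ⊗ₜ[R] z = Φ'.lTensor S x := by
    have hinj : Function.Injective (Z.subtype.lTensor S) :=
      Module.Flat.lTensor_preserves_injective_linearMap Z.subtype Z.injective_subtype
    apply hinj
    apply (TensorProduct.piRight R R S (fun _ : Fin t => M)).injective
    funext i
    rw [TensorProduct.piRight_apply, TensorProduct.piRight_apply, LinearMap.lTensor_tmul,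
      TensorProduct.piRightHom_tmul]
    have hproj : ∀ y : S ⊗[R] (Fin t → M),
        TensorProduct.piRightHom R R S (fun _ : Fin t => M) y i =
          (LinearMap.proj i : (Fin t → M) →ₗ[R] M).lTensor S y := by
      intro y
      induction y using TensorProduct.induction_on with
      | zero => simp only [map_zero]; rfl
      | tmul s g => rfl
      | add a b ha hb =>
        rw [map_add, map_add, ← ha, ← hb]
        rfl
    rw [hproj, ← LinearMap.comp_apply, ← LinearMap.lTensor_comp, ← LinearMap.comp_apply,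
      ← LinearMap.lTensor_comp]
    have hcomp : ((LinearMap.proj i : (Fin t → M) →ₗ[R] M) ∘ₗ Z.subtype) ∘ₗ Φ' =
        f i ^ N • LinearMap.id := by
      ext μ
      simp [Φ', Φ]
    rw [hcomp, LinearMap.lTensor_smul, LinearMap.lTensor_id, LinearMap.smul_apply,
      LinearMap.id_apply, ha i]
    rfl
  -- hence `[z] = 0`
  have h0 : (1 : S) ⊗ₜ[R] (P.mkQ z) = 0 := by
    have := congrArg (P.mkQ.lTensor S) hzx
    rw [LinearMap.lTensor_tmul, ← LinearMap.comp_apply, ← LinearMap.lTensor_comp] at this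
    rw [this]
    have hz : P.mkQ ∘ₗ Φ' = 0 := by
      ext μ
      simp only [LinearMap.comp_apply, Submodule.mkQ_apply, LinearMap.zero_apply,
        Submodule.Quotient.mk_eq_zero]
      exact ⟨μ, rfl⟩
    rw [hz, LinearMap.lTensor_zero, LinearMap.zero_apply]
  obtain ⟨n, hn⟩ := pow_torsion_of_gens f I hI (P.mkQ z) (fun k => ⟨N, hkill _ k⟩)
  have hz0 := Groth.Agent.Lib.helper3.FormalGlue.eq_zero_of_torsion_of_tmul_eq_zero I h1 h2 n
    (P.mkQ z) hn h0
  rw [Submodule.mkQ_apply, Submodule.Quotient.mk_eq_zero] at hz0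
  obtain ⟨μ₁, hμ₁⟩ := hz0
  have hμ₁' : ∀ i, f i ^ N • μ₁ = m i := by
    intro i
    have := congrArg (fun w : Z => w.1 i) hμ₁
    simpa [Φ', Φ, z] using this
  -- the difference is torsion
  have hdiff : ∀ i, ∃ k : ℕ, f i ^ k • (x - (1 : S) ⊗ₜ[R] μ₁) = 0 := by
    intro i
    refine ⟨N, ?_⟩
    rw [smul_sub, ha i, ← TensorProduct.tmul_smul, hμ₁' i, sub_self]
  obtain ⟨n', hn'⟩ := pow_torsion_of_gens f I hI (x - (1 : S) ⊗ₜ[R] μ₁) hdiff
  obtain ⟨τ, hτ, hτ'⟩ := Groth.Agent.Lib.helper3.FormalGlue.exists_of_torsion_tmul I hfg h1 n'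
    (x - (1 : S) ⊗ₜ[R] μ₁) hn'
  refine ⟨μ₁ + τ, ?_, ?_⟩
  · rw [TensorProduct.tmul_add, hτ']
    abel
  · intro i
    refine ⟨n', ?_⟩
    rw [smul_add, hμ₁' i, add_sub_cancel_left, smul_comm, hτ _ (gen_pow_mem f I hI i n'),
      smul_zero]
theorem pow_smul_of_le {R : Type u} [CommRing R] {X : Type u} [AddCommGroup X] [Module R X]
    (r : R) (x : X) {e E : ℕ} (h : e ≤ E) (hx : r ^ e • x = 0) : r ^ E • x = 0 := by
  obtain ⟨d, rfl⟩ := Nat.exists_eq_add_of_le h
  rw [pow_add, mul_comm, mul_smul, hx, smul_zero]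

/-- Let R → S be a flat homomorphism of commutative rings and I = (f_1, …, f_t) a finitely generated
ideal such that R/I → S/IS is bijective. Then for every R-module M the glueing complex 0 → M → (S
⊗_R M) × ∏ M_{f_i} → ∏ (S ⊗_R M)_{f_i} × ∏ M_{f_i f_j} is exact. Concretely: an element of M with
zero image in S ⊗_R M and in every M_{f_i} is zero; and given x in S ⊗_R M and elements m_1, …, m_t
of M and N ≥ 0 such that x and m_i / f_i^N have the same image in (S ⊗_R M)_{f_i} for each i, and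
m_i / f_i^N, m_j / f_j^N have the same image in M_{f_i f_j} for all i, j, there is m in M with 1 ⊗ m
= x and m / 1 = m_i / f_i^N in M_{f_i} for every i. -/
theorem result {R S : Type u} [CommRing R] [CommRing S] [Algebra R S] [Module.Flat R S]
    {t : ℕ} (f : Fin t → R) (I : Ideal R) (hI : Ideal.span (Set.range f) = I)
    (hq : Function.Bijective
      (Ideal.quotientMap (Ideal.map (algebraMap R S) I) (algebraMap R S) Ideal.le_comap_map))
    (M : Type u) [AddCommGroup M] [Module R M] :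
    (∀ m : M, (1 : S) ⊗ₜ[R] m = 0 →
        (∀ i : Fin t, LocalizedModule.mkLinearMap (Submonoid.powers (f i)) M m = 0) → m = 0) ∧
    ∀ (x : S ⊗[R] M) (N : ℕ) (m : Fin t → M),
      (∀ i : Fin t, EtGlue.locOfTensor R S (f i) M x =
          EtGlue.tensorOfLoc R S (f i) M (LocalizedModule.mk (m i) ⟨f i ^ N, Submonoid.pow_mem _ (Submonoid.mem_powers (f i)) N⟩)) →
      (∀ i j : Fin t, ∃ e : ℕ, (f i * f j) ^ e • (f j ^ N • m i - f i ^ N • m j) = 0) →
        ∃ μ : M, (1 : S) ⊗ₜ[R] μ = x ∧
          ∀ i : Fin t, LocalizedModule.mkLinearMap (Submonoid.powers (f i)) M μ =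
            LocalizedModule.mk (m i) ⟨f i ^ N, Submonoid.pow_mem _ (Submonoid.mem_powers (f i)) N⟩ := by
  obtain ⟨h1, h2⟩ := Groth.Agent.Lib.helper3.FormalGlue.hyps_of_quotientMap_bijective I hq
  constructor
  · intro m hm0 hloc
    obtain ⟨n, hn⟩ := pow_torsion_of_gens f I hI m
      (fun i => Groth.Agent.Lib.helper3.BL.torsion_of_mk_eq_zero (f i) M m (hloc i))
    exact Groth.Agent.Lib.helper3.FormalGlue.eq_zero_of_torsion_of_tmul_eq_zero I h1 h2 n m hn hm0
  · intro x N m ha hb
    -- exponents from (a)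
    have ha1 : ∀ i, ∃ e : ℕ, f i ^ e • (f i ^ N • x - (1 : S) ⊗ₜ[R] m i) = 0 := by
      intro i
      refine Groth.Agent.Lib.helper3.BL.torsion_of_mk_eq_zero (f i) (S ⊗[R] M)
        (f i ^ N • x - (1 : S) ⊗ₜ[R] m i) ?_
      have h3 : f i ^ N • (EtGlue.locOfTensor R S (f i) M) x = f i ^ N •
          (EtGlue.tensorOfLoc R S (f i) M) (LocalizedModule.mk (m i)
            ⟨f i ^ N, Submonoid.pow_mem _ (Submonoid.mem_powers (f i)) N⟩) := by
        rw [ha i]
      rw [← map_smul, ← map_smul, LocalizedModule.smul'_mk] at h3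
      have h4 : LocalizedModule.mk (f i ^ N • m i)
          (⟨f i ^ N, Submonoid.pow_mem _ (Submonoid.mem_powers (f i)) N⟩ :
            Submonoid.powers (f i)) =
          LocalizedModule.mkLinearMap (Submonoid.powers (f i)) M (m i) := by
        rw [LocalizedModule.mkLinearMap_apply]
        exact LocalizedModule.mk_cancel
          (⟨f i ^ N, Submonoid.pow_mem _ (Submonoid.mem_powers (f i)) N⟩ :
            Submonoid.powers (f i)) (m i)
      rw [h4] at h3
      simp only [EtGlue.tensorOfLoc, EtGlue.locOfTensor] at h3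
      rw [IsLocalizedModule.map_apply] at h3
      rw [map_sub, h3, TensorProduct.mk_apply, sub_self]
    choose e₁ he₁ using ha1
    choose e₂ he₂ using hb
    let E : ℕ := (Finset.univ.sup e₁) ⊔ (Finset.univ.sup fun p : Fin t × Fin t => e₂ p.1 p.2)
    have hE₁ : ∀ i, e₁ i ≤ E := fun i =>
      (Finset.le_sup (f := e₁) (Finset.mem_univ i)).trans le_sup_left
    have hE₂ : ∀ i j, e₂ i j ≤ E := fun i j =>
      (Finset.le_sup (f := fun p : Fin t × Fin t => e₂ p.1 p.2)
        (Finset.mem_univ (i, j))).trans le_sup_right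
    have ha' : ∀ i, f i ^ (N + E) • x = (1 : S) ⊗ₜ[R] (f i ^ E • m i) := by
      intro i
      have := pow_smul_of_le (X := S ⊗[R] M) (f i) (f i ^ N • x - (1 : S) ⊗ₜ[R] m i) (hE₁ i) (he₁ i)
      rw [smul_sub, sub_eq_zero, smul_smul, ← pow_add, ← TensorProduct.tmul_smul] at this
      rw [add_comm N E]
      exact this
    have hb' : ∀ i j, f j ^ (N + E) • (f i ^ E • m i) = f i ^ (N + E) • (f j ^ E • m j) := by
      intro i j
      have := pow_smul_of_le (f i * f j) _ (hE₂ i j) (he₂ i j)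
      rw [smul_sub, sub_eq_zero] at this
      calc f j ^ (N + E) • (f i ^ E • m i) = (f i * f j) ^ E • (f j ^ N • m i) := by
            rw [smul_smul, smul_smul]; congr 1; ring
        _ = (f i * f j) ^ E • (f i ^ N • m j) := this
        _ = f i ^ (N + E) • (f j ^ E • m j) := by
            rw [smul_smul, smul_smul]; congr 1; ring
    obtain ⟨μ, hμ, hμ'⟩ := core f I hI hq M x (N + E) (fun i => f i ^ E • m i) ha' hb'
    refine ⟨μ, hμ, fun i => ?_⟩
    obtain ⟨k, hk⟩ := hμ' i
    rw [LocalizedModule.mkLinearMap_apply, LocalizedModule.mk_eq]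
    refine ⟨⟨f i ^ (k + E), Submonoid.pow_mem _ (Submonoid.mem_powers (f i)) _⟩, ?_⟩
    simp only [Submonoid.smul_def, one_smul]
    rw [smul_sub, sub_eq_zero] at hk
    calc f i ^ (k + E) • f i ^ N • μ = f i ^ k • f i ^ (N + E) • μ := by
          rw [smul_smul, smul_smul]; congr 1; ring
      _ = f i ^ k • f i ^ E • m i := hk
      _ = f i ^ (k + E) • m i := by rw [smul_smul, ← pow_add]

end Groth.Agent.S7090
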