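import Groth.Statements.S7093
import Mathlib
import Groth.Agent.Lib.helper17.DRingRes
import Groth.Agent.Lib.helper17.DRingTor
-- import your own Groth.Agent.* helpers here

set_option autoImplicit false
universe u
attribute [local instance] HasDerivedCategory.standard
open CategoryTheory CategoryTheory.Limits
open Dual2

open Groth.Agent.Lib.helper17

namespace Groth.Agent.S7093

/-- For a flat homomorphism of finite presentation R → A of commutative rings, the R-perfect objects of
D(A) (pseudo-coherent over A, finite tor dimension over R) form a strictly full, saturated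
triangulated subcategory: the property is a triangulated object property (contains zero, stable
under shifts and under extensions in distinguished triangles), is closed under isomorphisms, and
passes to direct summands. -/
theorem result (R A : Type u) [CommRing R] [CommRing A] [Algebra R A]
    [Module.Flat R A] [Algebra.FinitePresentation R A] :
    ObjectProperty.IsTriangulated (C := Dual.D A) (fun K => Dual2.IsRelPerfect R A K) ∧
      ObjectProperty.IsClosedUnderIsomorphisms (C := Dual.D A) (fun K => Dual2.IsRelPerfect R A K) ∧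
      ∀ X Y : Dual.D A, Dual2.IsRelPerfect R A (X ⊞ Y) → Dual2.IsRelPerfect R A X ∧ Dual2.IsRelPerfect R A Y := by
  have hiso : ∀ X Y : Dual.D A, (X ≅ Y) → Dual2.IsRelPerfect R A X → Dual2.IsRelPerfect R A Y := by
    rintro X Y e ⟨h1, a, b, h2⟩
    refine ⟨?_, a, b, DRingTA.torAmp_of_iso h2 ((DRingRes.resD (algebraMap R A)).mapIso e)⟩
    rw [DRingPC.isPseudoCoherent'_iff_isPC] at h1 ⊢
    exact fun k => PCohBasic.NPC.of_iso _ (h1 k) e
  obtain ⟨Z, hZ⟩ := Limits.HasZeroObject.zero (C := Dual.D A)
  have hzero : Dual2.IsRelPerfect R A Z := by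
    refine ⟨?_, 0, 0, DRingTA.torAmp_of_isZero _
      ((DRingRes.resD (algebraMap R A)).map_isZero hZ) 0 0⟩
    rw [DRingPC.isPseudoCoherent'_iff_isPC]
    exact fun k => PCohLES.NPC_of_isZero _ _ hZ k
  have hshift : ∀ (X : Dual.D A) (n : ℤ), Dual2.IsRelPerfect R A X →
      Dual2.IsRelPerfect R A (X⟦n⟧) := by
    rintro X n ⟨h1, a, b, h2⟩
    refine ⟨?_, a - n, b - n, DRingTA.torAmp_of_iso (DRingTA.torAmp_shift h2 n)
      (((DRingRes.resD (algebraMap R A)).commShiftIso n).app X).symm⟩
    rw [DRingPC.isPseudoCoherent'_iff_isPC] at h1 ⊢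
    intro k
    have := PCohBasic.NPC.shift _ (h1 (k + n)) n
    have e : k + n - n = k := by ring
    rw [e] at this
    exact this
  have hext : ∀ (T : Pretriangulated.Triangle (Dual.D A)), T ∈ distTriang _ →
      Dual2.IsRelPerfect R A T.obj₁ → Dual2.IsRelPerfect R A T.obj₃ →
      Dual2.IsRelPerfect R A T.obj₂ := by
    rintro T hT ⟨h1, a1, b1, h1'⟩ ⟨h3, a3, b3, h3'⟩
    refine ⟨?_, min a1 a3, max b1 b3, ?_⟩
    · rw [DRingPC.isPseudoCoherent'_iff_isPC] at h1 h3 ⊢
      exact fun m => (PCohTri.NPC_triangle (DRingPC.FF A) (DRingPC.FF_prod A)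
        (DRingPC.FF_hqs A) (DRingPC.FF_hql A) m T hT).2.1 (h1 m) (h3 m)
    · have hT' := (DRingRes.resD (algebraMap R A)).map_distinguished _ hT
      exact (DRingTA.torAmp_triangle (min a1 a3) (max b1 b3) _ hT').2.1
        (DRingTA.torAmp_of_le h1' (min_le_left _ _) (le_max_left _ _))
        (DRingTA.torAmp_of_le h3' (min_le_right _ _) (le_max_right _ _))
  refine ⟨?_, ⟨fun e h => hiso _ _ e h⟩, ?_⟩
  · haveI : ObjectProperty.ContainsZero (C := Dual.D A) (fun K => Dual2.IsRelPerfect R A K) :=
      ⟨⟨Z, hZ, hzero⟩⟩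
    haveI : ObjectProperty.IsStableUnderShift (C := Dual.D A)
        (fun K => Dual2.IsRelPerfect R A K) ℤ :=
      ⟨fun n => ⟨fun X hX => hshift X n hX⟩⟩
    haveI : ObjectProperty.IsTriangulatedClosed₂ (C := Dual.D A)
        (fun K => Dual2.IsRelPerfect R A K) :=
      ⟨fun T hT h1 h3 => ObjectProperty.le_isoClosure _ _ (hext T hT h1 h3)⟩
    exact {}
  · rintro X Y ⟨h1, a, b, h2⟩
    haveI : Limits.PreservesBinaryBiproducts (DRingRes.resD (algebraMap R A)) :=
      Limits.preservesBinaryBiproducts_of_preservesBiproducts _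
    rw [DRingPC.isPseudoCoherent'_iff_isPC] at h1
    have h2' := DRingTA.torAmp_of_biprod _ _ a b
      (DRingTA.torAmp_of_iso h2 ((DRingRes.resD (algebraMap R A)).mapBiprod X Y))
    have h1' := fun k => (PCohD.NPC_biprod_iff (DRingPC.FF A) (DRingPC.FF_prod A)
      (DRingPC.FF_hqs A) (DRingPC.FF_hql A) k X Y).1 (h1 k)
    refine ⟨⟨?_, a, b, h2'.1⟩, ⟨?_, a, b, h2'.2⟩⟩
    · rw [DRingPC.isPseudoCoherent'_iff_isPC]
      exact fun k => (h1' k).1
    · rw [DRingPC.isPseudoCoherent'_iff_isPC]
      exact fun k => (h1' k).2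

end Groth.Agent.S7093
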