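import Groth.Statements.S7098
import Mathlib
import Groth.Agent.Lib.helper2.DGenRes
-- import your own Groth.Agent.* helpers here

set_option autoImplicit false
universe u
attribute [local instance] HasDerivedCategory.standard
open DRing

namespace Groth.Agent.S7098

/-- (1)⇔(2): let A be a commutative ring, f an element of A and K an object of D(A). Then every morphism
A_f[0] → K[n] vanishes for every integer n if and only if every morphism E → K vanishes for every
object E of D(A) obtained by restriction of scalars from D(A_f). -/
theorem result {A : Type u} [CommRing A] (f : A)
    (K : Dual.D A) :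
    (∀ n : ℤ, Subsingleton (Dual.inD A (Localization.Away f) ⟶ K⟦n⟧)) ↔
      ∀ E : Dual.D (Localization.Away f),
        Subsingleton ((DRing.restrictD (algebraMap A (Localization.Away f))).obj E ⟶ K) := by
  have key := Groth.Agent.Lib.helper2.DGenRes.res_orth_iff' A (Localization.Away f) K
  constructor
  · intro h E
    have h1 := key.1 (fun n ψ => (h n).elim _ _) E
    exact ⟨fun a b => by rw [h1 a, h1 b]⟩
  · intro h n
    have h1 := key.2 (fun E ψ => (h E).elim _ _) n
    exact ⟨fun a b => by rw [h1 a, h1 b]⟩

end Groth.Agent.S7098
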