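import Groth.Statements.S7106
import Mathlib
import Groth.Agent.Lib.helper2.TwoTermD
-- import your own Groth.Agent.* helpers here

set_option autoImplicit false
universe u
attribute [local instance] HasDerivedCategory.standard
open CategoryTheory
open DRing

namespace Groth.Agent.S7106

/-- Let R be a commutative ring, M a cochain complex of R-modules with M^i = 0 for i > 0 and M^0
projective, K a cochain complex with K^i = 0 for i outside [-1, 0] and K^0 projective, and a : M → K
a chain map. Then precomposition with a is the zero map Ext^1_R(K, N) → Ext^1_R(M, N) (morphisms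
into N[1] in D(R)) for every R-module N if and only if there is a map h : M^0 → K^{-1} with a^{-1} +
h ∘ d_M^{-1} = 0. (The published statement composes h^0 with the differential K^{-1} → K^0 of K,
which is not defined; this row composes it with the differential M^{-1} → M^0 of M, as the homotopy
in the published proof does.) -/
theorem result {R : Type u} [CommRing R] (M K : DRing.Cx R)
    (hM : ∀ i : ℤ, 0 < i → Limits.IsZero (M.X i)) (hM0 : Module.Projective R (M.X 0))
    (hK : ∀ i : ℤ, i ≠ -1 → i ≠ 0 → Limits.IsZero (K.X i)) (hK0 : Module.Projective R (K.X 0))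
    (a : M ⟶ K) :
    (∀ (N : Type u) [AddCommGroup N] [Module R N] (ξ : DRing.toD K ⟶ (Dual.inD R N)⟦(1 : ℤ)⟧),
        DerivedCategory.Q.map a ≫ ξ = 0) ↔
      ∃ h : M.X 0 ⟶ K.X (-1), a.f (-1) + M.d (-1) 0 ≫ h = 0 := by
  open Groth.Agent.Lib.helper2.TwoTerm in
  have : Projective (M.X 0) := (IsProjective.iff_projective (R := R) (M.X 0)).1 hM0
  have : Projective (K.X 0) := (IsProjective.iff_projective (R := R) (K.X 0)).1 hK0
  have hK' : ∀ i : ℤ, 0 < i → Limits.IsZero (K.X i) := fun i hi => hK i (by lia) (by lia)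
  constructor
  · intro H
    have hx : K.d (-2) (-1) ≫ 𝟙 (K.X (-1)) = 0 := (hK (-2) (by lia) (by lia)).eq_of_src _ _
    have h1 := H (K.X (-1)) (DerivedCategory.Q.map (toS1 K (𝟙 _) hx) ≫ (shiftSingleIso (K.X (-1))).inv)
    rw [← Category.assoc, ← Functor.map_comp] at h1
    have h2 : DerivedCategory.Q.map (a ≫ toS1 K (𝟙 _) hx) = 0 := by
      rw [← cancel_mono (shiftSingleIso (K.X (-1))).inv, Limits.zero_comp]
      exact h1
    obtain ⟨h, hh⟩ := exists_fac_of_Q_map_eq_zero M hM _ h2
    refine ⟨-h, ?_⟩
    rw [Preadditive.comp_neg, ← hh]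
    simp
  · rintro ⟨h, hh⟩ N _ _ ξ
    obtain ⟨x, hx⟩ := exists_chain_map K hK' (ξ ≫ (shiftSingleIso (ModuleCat.of R N)).hom)
    rw [← cancel_mono (shiftSingleIso (ModuleCat.of R N)).hom, Limits.zero_comp, Category.assoc,
      ← hx, ← Functor.map_comp]
    have ha : a.f (-1) = - M.d (-1) 0 ≫ h := eq_neg_of_add_eq_zero_left hh
    obtain ⟨H⟩ := homotopy_zero_of_fac M (a ≫ x) (-h ≫ x.f (-1) ≫ (S1Iso _).hom) (by
      rw [HomologicalComplex.comp_f, ha]
      simp)
    change DerivedCategory.Qh.map ((HomotopyCategory.quotient _ _).map (a ≫ x)) = 0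
    rw [HomotopyCategory.eq_of_homotopy _ _ H, Functor.map_zero, Functor.map_zero]

end Groth.Agent.S7106
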