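import Groth.Statements.S7109
import Mathlib

set_option autoImplicit false
universe u
open CAlg

namespace Groth.Agent.S7109

/-- Let P be a projective module over a ring R and s an element of P. Then there are a finite free
module R^n and a direct summand K of R^n ⊕ P which is finite free and contains (0, s). -/
theorem result (R : Type u) [CommRing R] (P : Type u) [AddCommGroup P]
    [Module R P] [Module.Projective R P] (s : P) :
    ∃ (n : ℕ) (K K' : Submodule R ((Fin n → R) × P)), IsCompl K K' ∧ Module.Free R K ∧ Module.Finite R K ∧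
      ((0, s) : (Fin n → R) × P) ∈ K := by
  classical
  obtain ⟨σ, hσ⟩ := (Module.projective_def (R := R) (P := P)).mp inferInstance
  -- finite support of σ s
  let T : Finset P := (σ s).support
  let n := T.card
  let e : T ≃ Fin n := T.equivFin
  -- α and β
  let β : P →ₗ[R] (Fin n → R) :=
    LinearMap.pi (fun i => (Finsupp.lapply ((e.symm i : T) : P)) ∘ₗ σ)
  let α : (Fin n → R) →ₗ[R] P :=
    (Finsupp.linearCombination R (fun i : Fin n => ((e.symm i : T) : P))) ∘ₗ
      (Finsupp.linearEquivFunOnFinite R R (Fin n)).symm.toLinearMap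
  have hαβ : α (β s) = s := by
    have h1 : α (β s) = ∑ i : Fin n, (σ s) ((e.symm i : T) : P) • ((e.symm i : T) : P) := by
      simp only [α, β, LinearMap.comp_apply, LinearEquiv.coe_coe]
      rw [Finsupp.linearCombination_apply, Finsupp.sum_fintype _ _ (by simp)]
      simp
    rw [h1]
    have h2 : ∑ i : Fin n, (σ s) ((e.symm i : T) : P) • ((e.symm i : T) : P) =
        ∑ t : T, (σ s) (t : P) • (t : P) :=
      Fintype.sum_equiv e.symm _ _ (fun i => rfl)
    rw [h2]
    have h3 : ∑ t : T, (σ s) (t : P) • (t : P) = ∑ t ∈ T, (σ s) t • t :=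
      Finset.sum_coe_sort T (fun t => (σ s) t • t)
    rw [h3]
    have h4 := hσ s
    rw [Finsupp.linearCombination_apply, Finsupp.sum] at h4
    exact h4
  -- the automorphism Φ
  let E₁ : ((Fin n → R) × P) ≃ₗ[R] ((Fin n → R) × P) :=
    { toFun := fun x => (x.1, x.2 + α x.1)
      invFun := fun x => (x.1, x.2 - α x.1)
      map_add' := by
        intro x y; ext <;> simp [add_add_add_comm]
      map_smul' := by
        intro c x; ext <;> simp
      left_inv := by intro x; ext <;> simp
      right_inv := by intro x; ext <;> simp }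
  let E₂ : ((Fin n → R) × P) ≃ₗ[R] ((Fin n → R) × P) :=
    { toFun := fun x => (x.1 - β x.2, x.2)
      invFun := fun x => (x.1 + β x.2, x.2)
      map_add' := by
        intro x y; ext <;> simp [add_sub_add_comm]
      map_smul' := by
        intro c x; ext <;> simp [smul_sub]
      left_inv := by intro x; ext <;> simp
      right_inv := by intro x; ext <;> simp }
  let Φ := E₁.trans E₂
  let K₀ : Submodule R ((Fin n → R) × P) := LinearMap.range (LinearMap.inl R (Fin n → R) P)
  let K₀' : Submodule R ((Fin n → R) × P) := LinearMap.range (LinearMap.inr R (Fin n → R) P)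
  have hcompl : IsCompl (K₀.map Φ.toLinearMap) (K₀'.map Φ.toLinearMap) := by
    have := (LinearMap.isCompl_range_inl_inr (R := R) (M := Fin n → R) (M₂ := P)).map
      (Submodule.orderIsoMapComap Φ)
    exact this
  -- K ≅ R^n
  let ψ : (Fin n → R) ≃ₗ[R] K₀ :=
    LinearEquiv.ofInjective (LinearMap.inl R (Fin n → R) P) LinearMap.inl_injective
  let ψ' : (Fin n → R) ≃ₗ[R] (K₀.map Φ.toLinearMap) := ψ.trans (Φ.submoduleMap K₀)
  refine ⟨n, K₀.map Φ.toLinearMap, K₀'.map Φ.toLinearMap, hcompl,
    Module.Free.of_equiv ψ', Module.Finite.equiv ψ', ?_⟩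
  refine ⟨(β s, 0), ⟨β s, rfl⟩, ?_⟩
  show E₂ (E₁ (β s, 0)) = (0, s)
  ext <;> simp [E₁, E₂, hαβ]

end Groth.Agent.S7109
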