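import Groth.Statements.S7114
import Mathlib.RingTheory.Length
import Mathlib.Tactic

set_option autoImplicit false
universe u
open CAlg

namespace Groth.Agent.S7114


theorem step (R : Type u) [CommRing R] (x : R) (n : ℕ) :
    Module.length R (R ⧸ Ideal.span {x ^ (n + 1)}) ≤
      Module.length R (R ⧸ Ideal.span {x}) + Module.length R (R ⧸ Ideal.span {x ^ n}) ∧
    (x ∈ nonZeroDivisors R → Module.length R (R ⧸ Ideal.span {x ^ (n + 1)}) =
      Module.length R (R ⧸ Ideal.span {x}) + Module.length R (R ⧸ Ideal.span {x ^ n})) := by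
  have hle : (Ideal.span {x ^ (n + 1)} : Ideal R) ≤
      Submodule.comap (LinearMap.id : R →ₗ[R] R) (Ideal.span {x ^ n}) := by
    intro y hy
    obtain ⟨a, rfl⟩ := Ideal.mem_span_singleton'.mp hy
    change a * x ^ (n + 1) ∈ Ideal.span {x ^ n}
    have : a * x ^ (n + 1) = (a * x) * x ^ n := by ring
    rw [this]
    exact Ideal.mul_mem_left _ _ (Ideal.subset_span rfl)
  let g : (R ⧸ Ideal.span {x ^ (n + 1)}) →ₗ[R] (R ⧸ Ideal.span {x ^ n}) :=
    Submodule.mapQ _ _ LinearMap.id hle
  have hg : ∀ r : R, g (Submodule.Quotient.mk r) = Submodule.Quotient.mk r := fun r => rfl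
  have hgsurj : Function.Surjective g := by
    intro y
    obtain ⟨r, rfl⟩ := Submodule.Quotient.mk_surjective _ y
    exact ⟨Submodule.Quotient.mk r, hg r⟩
  have hle2 : (Ideal.span {x} : Ideal R) ≤
      Submodule.comap (LinearMap.mulLeft R (x ^ n)) (Ideal.span {x ^ (n + 1)}) := by
    intro y hy
    obtain ⟨a, rfl⟩ := Ideal.mem_span_singleton'.mp hy
    change x ^ n * (a * x) ∈ Ideal.span {x ^ (n + 1)}
    have : x ^ n * (a * x) = a * x ^ (n + 1) := by ring
    rw [this]
    exact Ideal.mul_mem_left _ _ (Ideal.subset_span rfl)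
  let f : (R ⧸ Ideal.span {x}) →ₗ[R] (R ⧸ Ideal.span {x ^ (n + 1)}) :=
    Submodule.mapQ _ _ (LinearMap.mulLeft R (x ^ n)) hle2
  have hf : ∀ r : R, f (Submodule.Quotient.mk r) = Submodule.Quotient.mk (x ^ n * r) := fun r => rfl
  have hfker : ∀ y, f y ∈ LinearMap.ker g := by
    intro y
    obtain ⟨r, rfl⟩ := Submodule.Quotient.mk_surjective _ y
    rw [LinearMap.mem_ker, hf, hg, Submodule.Quotient.mk_eq_zero]
    exact Ideal.mul_mem_right _ _ (Ideal.subset_span rfl)
  let f' : (R ⧸ Ideal.span {x}) →ₗ[R] LinearMap.ker g := f.codRestrict _ hfker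
  have hf'surj : Function.Surjective f' := by
    rintro ⟨y, hy⟩
    obtain ⟨r, rfl⟩ := Submodule.Quotient.mk_surjective _ y
    rw [LinearMap.mem_ker, hg, Submodule.Quotient.mk_eq_zero] at hy
    obtain ⟨a, rfl⟩ := Ideal.mem_span_singleton'.mp hy
    refine ⟨Submodule.Quotient.mk a, Subtype.ext ?_⟩
    change f (Submodule.Quotient.mk a) = _
    rw [hf, mul_comm]
  have hadd := Module.length_eq_add_of_exact (LinearMap.ker g).subtype g
    (Submodule.subtype_injective _) hgsurj (LinearMap.exact_subtype_ker_map g)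
  refine ⟨?_, ?_⟩
  · rw [hadd]
    exact add_le_add_left (Module.length_le_of_surjective f' hf'surj) _
  · intro hx
    have hf'inj : Function.Injective f' := by
      rw [injective_iff_map_eq_zero]
      intro y hy
      obtain ⟨r, rfl⟩ := Submodule.Quotient.mk_surjective _ y
      have h1 : f (Submodule.Quotient.mk r) = 0 := congrArg Subtype.val hy
      rw [hf, Submodule.Quotient.mk_eq_zero] at h1
      obtain ⟨a, ha⟩ := Ideal.mem_span_singleton'.mp h1
      have h2 : x ^ n * (a * x - r) = 0 := by
        rw [mul_sub, sub_eq_zero, ← ha]; ring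
      have h3 : a * x - r = 0 := by
        have hxn : x ^ n ∈ nonZeroDivisors R := pow_mem hx n
        rw [mul_comm] at h2
        exact (mem_nonZeroDivisors_iff_right.mp hxn) _ h2
      rw [Submodule.Quotient.mk_eq_zero]
      rw [sub_eq_zero] at h3
      rw [← h3]
      exact Ideal.mul_mem_left _ _ (Ideal.subset_span rfl)
    rw [hadd, (LinearEquiv.ofBijective f' ⟨hf'inj, hf'surj⟩).length_eq]

/-- Let R be a Noetherian local ring of Krull dimension one and x an element of the maximal ideal lying
in no minimal prime of R. Then for every n the length of R/xⁿR is at most n times the length of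
R/xR, and equality holds when x is a nonzerodivisor. -/
theorem result (R : Type u) [CommRing R] [IsNoetherianRing R] [IsLocalRing R]
    (hdim : ringKrullDim R = 1) (x : R) (hx : x ∈ IsLocalRing.maximalIdeal R)
    (hmin : ∀ p ∈ minimalPrimes R, x ∉ p) (n : ℕ) :
    Module.length R (R ⧸ Ideal.span {x ^ n}) ≤ (n : ℕ∞) * Module.length R (R ⧸ Ideal.span {x}) ∧
      (x ∈ nonZeroDivisors R →
        Module.length R (R ⧸ Ideal.span {x ^ n}) = (n : ℕ∞) * Module.length R (R ⧸ Ideal.span {x})) := by
  clear hdim hx hmin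
  induction n with
  | zero =>
    have : Subsingleton (R ⧸ Ideal.span {x ^ 0}) := by
      rw [pow_zero, Ideal.span_singleton_one]
      exact Ideal.Quotient.subsingleton_iff.mpr rfl
    rw [Module.length_eq_zero]
    simp
  | succ n ih =>
    obtain ⟨h1, h2⟩ := step R x n
    have hcast : ((n + 1 : ℕ) : ℕ∞) * Module.length R (R ⧸ Ideal.span {x}) =
        Module.length R (R ⧸ Ideal.span {x}) + (n : ℕ∞) * Module.length R (R ⧸ Ideal.span {x}) := by
      rw [Nat.cast_succ, add_mul, one_mul, add_comm]
    rw [hcast]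
    refine ⟨h1.trans (add_le_add_right ih.1 _), ?_⟩
    intro hx
    rw [h2 hx, ih.2 hx]

end Groth.Agent.S7114
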