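import Groth.Statements.S7116
import Mathlib
import Groth.Agent.Lib.helper29.Sop

set_option autoImplicit false
universe u
open CAlg

namespace Groth.Agent.S7116

/-- Let R be a Noetherian local ring of Krull dimension d with maximal ideal m and let f be an element
of m contained in no minimal prime. Then there are g_1, ..., g_{d-1} in m and a natural number N
such that f, g_1, ..., g_{d-1} is a system of parameters (these d elements of m generate an ideal
with radical m) and, for every h in m^N, the elements f + h, g_1, ..., g_{d-1} again form a system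
of parameters and the lengths of R/(f, g_1, ..., g_{d-1}) and R/(f + h, g_1, ..., g_{d-1}) agree. -/
theorem result (R : Type u) [CommRing R] [IsNoetherianRing R] [IsLocalRing R]
    (d : ℕ) (hd : ringKrullDim R = d) (f : R) (hf : f ∈ IsLocalRing.maximalIdeal R)
    (hmin : ∀ p ∈ minimalPrimes R, f ∉ p) :
    ∃ (g : Fin (d - 1) → R) (N : ℕ), (∀ i, g i ∈ IsLocalRing.maximalIdeal R) ∧
      IsLocalRing.maximalIdeal R ≤ (Ideal.span (insert f (Set.range g))).radical ∧
      ∀ h ∈ IsLocalRing.maximalIdeal R ^ N,
        IsLocalRing.maximalIdeal R ≤ (Ideal.span (insert (f + h) (Set.range g))).radical ∧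
        Module.length R (R ⧸ Ideal.span (insert f (Set.range g))) =
          Module.length R (R ⧸ Ideal.span (insert (f + h) (Set.range g))) := by
  obtain ⟨g, -, hgm, hrad⟩ := Groth.Agent.H29.Sop.exists_sop R d hd f hf hmin 1
  set m := IsLocalRing.maximalIdeal R with hm
  set I := Ideal.span (insert f (Set.range g)) with hI
  have hIfg : I.FG := IsNoetherian.noetherian I
  have hmfg : m.FG := IsNoetherian.noetherian m
  obtain ⟨n, hn⟩ := Ideal.exists_pow_le_of_le_radical_of_fg hrad hmfg
  have hIm : I ≤ m := by
    rw [hI, Ideal.span_le]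
    rintro x (rfl | ⟨i, rfl⟩)
    · exact hf
    · exact hgm i
  have key : ∀ h ∈ m ^ (n + 1), Ideal.span (insert (f + h) (Set.range g)) = I := by
    intro h hh
    have hhI : h ∈ m • I := by
      rw [pow_succ'] at hh
      exact Ideal.mul_mono_right hn hh
    have hhI' : h ∈ I := Ideal.mul_le_right (I := m) (J := I) hhI
    apply le_antisymm
    · rw [Ideal.span_le]
      rintro x (rfl | ⟨i, rfl⟩)
      · exact I.add_mem (Ideal.subset_span (Set.mem_insert _ _)) hhI'
      · exact Ideal.subset_span (Set.mem_insert_of_mem _ ⟨i, rfl⟩)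
    · apply Submodule.le_of_le_smul_of_le_jacobson_bot hIfg
        (IsLocalRing.jacobson_eq_maximalIdeal ⊥ bot_ne_top).ge
      rw [hI, Ideal.span_le]
      rintro x (hx | ⟨i, rfl⟩)
      · have : x = (f + h) + (-h) := by rw [hx]; ring
        rw [SetLike.mem_coe, this]
        exact Submodule.add_mem_sup (Ideal.subset_span (Set.mem_insert _ _))
          (Submodule.neg_mem _ hhI)
      · exact Submodule.mem_sup_left (Ideal.subset_span (Set.mem_insert_of_mem _ ⟨i, rfl⟩))
  refine ⟨g, n + 1, hgm, hrad, fun h hh => ?_⟩
  rw [key h hh]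
  exact ⟨hrad, rfl⟩

end Groth.Agent.S7116
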