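import Groth.Statements.S7121
import Mathlib
import Groth.Agent.S2016
import Groth.Agent.Lib.helper5.Bezout

set_option autoImplicit false
universe u
open CAlg

namespace Groth.Agent.S7121


section Aux

variable {R : Type u} [CommRing R] [IsDomain R]

theorem bezout_loc [IsBezout R] (m : Ideal R) [m.IsMaximal] :
    ∀ a b : Localization.AtPrime m, a ∣ b ∨ b ∣ a := by
  intro a b
  obtain ⟨a₀, s, rfl⟩ := IsLocalization.exists_mk'_eq m.primeCompl a
  obtain ⟨b₀, t, rfl⟩ := IsLocalization.exists_mk'_eq m.primeCompl b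
  have key : algebraMap R (Localization.AtPrime m) a₀ ∣ algebraMap R (Localization.AtPrime m) b₀ ∨
      algebraMap R (Localization.AtPrime m) b₀ ∣ algebraMap R (Localization.AtPrime m) a₀ := by
    obtain ⟨a', ha'⟩ := IsBezout.gcd_dvd_left (x := a₀) (y := b₀)
    obtain ⟨b', hb'⟩ := IsBezout.gcd_dvd_right (x := a₀) (y := b₀)
    obtain ⟨x, y, hxy⟩ := IsBezout.gcd_eq_sum a₀ b₀
    set d := IsBezout.gcd a₀ b₀ with hd
    by_cases hd0 : d = 0
    · left
      rw [hb', hd0, zero_mul, map_zero]
      exact dvd_zero _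
    · have h1 : x * a' + y * b' = 1 := by
        apply mul_left_cancel₀ hd0
        rw [mul_one]
        conv_rhs => rw [← hxy]
        conv_rhs => rw [ha', hb']
        ring
      have h2 : algebraMap R (Localization.AtPrime m) (x * a') +
          algebraMap R (Localization.AtPrime m) (y * b') = 1 := by
        rw [← map_add, h1, map_one]
      rcases IsLocalRing.isUnit_or_isUnit_of_add_one h2 with hu | hu
      · left
        rw [map_mul] at hu
        have hua : IsUnit (algebraMap R (Localization.AtPrime m) a') := isUnit_of_mul_isUnit_right hu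
        have : algebraMap R (Localization.AtPrime m) a₀ ∣ algebraMap R (Localization.AtPrime m) d := by
          rw [ha', map_mul]
          obtain ⟨u, hu'⟩ := hua
          refine ⟨↑u⁻¹, ?_⟩
          rw [← hu', mul_assoc, Units.mul_inv, mul_one]
        refine this.trans ?_
        rw [hb', map_mul]
        exact dvd_mul_right _ _
      · right
        rw [map_mul] at hu
        have hub : IsUnit (algebraMap R (Localization.AtPrime m) b') := isUnit_of_mul_isUnit_right hu
        have : algebraMap R (Localization.AtPrime m) b₀ ∣ algebraMap R (Localization.AtPrime m) d := by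
          rw [hb', map_mul]
          obtain ⟨u, hu'⟩ := hub
          refine ⟨↑u⁻¹, ?_⟩
          rw [← hu', mul_assoc, Units.mul_inv, mul_one]
        refine this.trans ?_
        rw [ha', map_mul]
        exact dvd_mul_right _ _
  have hs : IsUnit (algebraMap R (Localization.AtPrime m) s) := IsLocalization.map_units _ s
  have ht : IsUnit (algebraMap R (Localization.AtPrime m) t) := IsLocalization.map_units _ t
  have ea : Associated (IsLocalization.mk' (Localization.AtPrime m) a₀ s)
      (algebraMap R (Localization.AtPrime m) a₀) := by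
    obtain ⟨u, hu⟩ := hs
    refine ⟨u, ?_⟩
    rw [hu, IsLocalization.mk'_spec]
  have eb : Associated (IsLocalization.mk' (Localization.AtPrime m) b₀ t)
      (algebraMap R (Localization.AtPrime m) b₀) := by
    obtain ⟨u, hu⟩ := ht
    refine ⟨u, ?_⟩
    rw [hu, IsLocalization.mk'_spec]
  rcases key with h | h
  · left
    exact (ea.dvd_iff_dvd_left.2 (eb.dvd_iff_dvd_right.2 h))
  · right
    exact (eb.dvd_iff_dvd_left.2 (ea.dvd_iff_dvd_right.2 h))

open Classical in
noncomputable def fp (g : R) : R := if g = 0 then 1 else g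

theorem fp_ne (g : R) : fp g ≠ 0 := by
  unfold fp
  split_ifs with h
  · exact one_ne_zero
  · exact h

open Classical in
noncomputable def kap (g : R) : (R ⧸ Ideal.span {g}) →ₗ[R] R :=
  if h : g = 0 then
    Submodule.liftQ (Ideal.span {g}) LinearMap.id (by rw [h]; simp)
  else 0

theorem kap_eq_zero_imp (g : R) (hg : g = 0) (x : R ⧸ Ideal.span {g}) (hx : kap g x = 0) :
    x = 0 := by
  obtain ⟨r, rfl⟩ := Submodule.Quotient.mk_surjective _ x
  unfold kap at hx
  rw [dif_pos hg] at hx
  change (Submodule.liftQ _ LinearMap.id _) (Submodule.Quotient.mk r) = 0 at hx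
  rw [Submodule.liftQ_apply] at hx
  have : r = 0 := hx
  rw [this]; rfl

theorem kap_torsion (g : R) (x : R ⧸ Ideal.span {g}) (a : R) (ha : a ≠ 0) (hx : a • x = 0) :
    kap g x = 0 := by
  have h1 : a • kap g x = 0 := by rw [← map_smul, hx, map_zero]
  rw [smul_eq_mul] at h1
  exact (mul_eq_zero.1 h1).resolve_left ha

theorem fp_smul (g : R) (x : R ⧸ Ideal.span {fp g}) : fp g • x = 0 := by
  obtain ⟨r, rfl⟩ := Submodule.Quotient.mk_surjective _ x
  rw [← Submodule.Quotient.mk_smul, Submodule.Quotient.mk_eq_zero, smul_eq_mul]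
  exact Ideal.mul_mem_right _ _ (Ideal.mem_span_singleton_self _)

theorem le_fp (g : R) : (Ideal.span {g} : Submodule R R) ≤
    Submodule.comap (LinearMap.id : R →ₗ[R] R) (Ideal.span {fp g} : Submodule R R) := by
  unfold fp
  split_ifs with h
  · rw [h]; simp
  · exact le_rfl

noncomputable def theta (g : R) : (R ⧸ Ideal.span {g}) →ₗ[R] (R ⧸ Ideal.span {fp g}) :=
  Submodule.mapQ _ _ LinearMap.id (le_fp g)

theorem fp_le (g : R) (h : g ≠ 0) : (Ideal.span {fp g} : Submodule R R) ≤
    Submodule.comap (LinearMap.id : R →ₗ[R] R) (Ideal.span {g} : Submodule R R) := by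
  unfold fp
  rw [if_neg h]
  exact le_rfl

open Classical in
noncomputable def rho (g : R) : (R ⧸ Ideal.span {fp g}) →ₗ[R] (R ⧸ Ideal.span {g}) :=
  if h : g = 0 then 0 else Submodule.mapQ _ _ LinearMap.id (fp_le g h)

theorem rho_theta (g : R) (x : R ⧸ Ideal.span {g}) (hx : kap g x = 0) :
    rho g (theta g x) = x := by
  by_cases hg : g = 0
  · rw [kap_eq_zero_imp g hg x hx]
    simp
  · obtain ⟨r, rfl⟩ := Submodule.Quotient.mk_surjective _ x
    unfold rho theta
    rw [dif_neg hg]
    simp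

theorem smul_of_kap (g : R) (x : R ⧸ Ideal.span {g}) (hx : kap g x = 0) : fp g • x = 0 := by
  rw [← rho_theta g x hx, ← map_smul, fp_smul, map_zero]

theorem main [IsBezout R] (M : Type u) [AddCommGroup M] [Module R M]
    [Module.FinitePresentation R M] :
    (∃ r : ℕ, Nonempty (M ≃ₗ[R] ((Fin r → R) × Submodule.torsion R M))) ∧
      ∃ (n : ℕ) (f : Fin n → R), (∀ j, f j ≠ 0) ∧
        ∃ (i : Submodule.torsion R M →ₗ[R] ((j : Fin n) → R ⧸ Ideal.span {f j}))
          (p : ((j : Fin n) → R ⧸ Ideal.span {f j}) →ₗ[R] Submodule.torsion R M),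
          p ∘ₗ i = LinearMap.id := by
  classical
  obtain ⟨n, g, N, _, _, ⟨e⟩⟩ := Groth.Agent.S2016.main (R := R) (M := M)
    (fun m _ => bezout_loc m)
  set T := Submodule.torsion R M with hT
  let c : R := ∏ j, fp (g j)
  have hc : c ≠ 0 := Finset.prod_ne_zero_iff.2 fun j _ => fp_ne (g j)
  have hdvd : ∀ j, ∃ c', c = c' * fp (g j) := fun j =>
    ⟨∏ k ∈ Finset.univ.erase j, fp (g k), (Finset.prod_erase_mul _ _ (Finset.mem_univ j)).symm⟩
  -- torsion elements of the product have vanishing kap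
  have kap_of_tors : ∀ (x : (j : Fin n) → R ⧸ Ideal.span {g j}) (a : R), a ≠ 0 → a • x = 0 →
      ∀ j, kap (g j) (x j) = 0 := by
    intro x a ha hx j
    exact kap_torsion (g j) (x j) a ha (by simpa using congrFun hx j)
  have c_smul_of_kap : ∀ (x : (j : Fin n) → R ⧸ Ideal.span {g j}),
      (∀ j, kap (g j) (x j) = 0) → c • x = 0 := by
    intro x hx
    funext j
    obtain ⟨c', hc'⟩ := hdvd j
    rw [Pi.smul_apply, hc', mul_smul, smul_of_kap (g j) (x j) (hx j), smul_zero]
    rfl
  have mem_T : ∀ (m : M) (a : R), a ≠ 0 → a • m = 0 → m ∈ T := by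
    intro m a ha hm
    rw [hT, Submodule.mem_torsion_iff]
    exact ⟨⟨a, mem_nonZeroDivisors_of_ne_zero ha⟩, hm⟩
  have of_T : ∀ m ∈ T, ∃ a : R, a ≠ 0 ∧ a • m = 0 := by
    intro m hm
    rw [hT, Submodule.mem_torsion_iff] at hm
    obtain ⟨a, ha⟩ := hm
    exact ⟨a.1, nonZeroDivisors.ne_zero a.2, ha⟩
  -- the map lam
  let K : ((j : Fin n) → R ⧸ Ideal.span {g j}) →ₗ[R] (Fin n → R) :=
    LinearMap.pi fun j => kap (g j) ∘ₗ LinearMap.proj j
  let lam : M →ₗ[R] (Fin n → R) := K ∘ₗ e.toLinearMap ∘ₗ LinearMap.inl R M N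
  have hker : LinearMap.ker lam = T := by
    ext m
    rw [LinearMap.mem_ker]
    constructor
    · intro hm
      have h1 : ∀ j, kap (g j) (e (m, 0) j) = 0 := fun j => congrFun hm j
      have h2 := c_smul_of_kap _ h1
      rw [← map_smul] at h2
      have h3 : c • ((m, 0) : M × N) = 0 := e.injective (by rw [h2, map_zero])
      exact mem_T m c hc (by simpa using congrArg Prod.fst h3)
    · intro hm
      obtain ⟨a, ha, ham⟩ := of_T m hm
      have h1 : a • e (m, 0) = 0 := by
        rw [← map_smul, Prod.smul_mk, ham, smul_zero]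
        exact map_zero e
      funext j
      exact kap_of_tors _ a ha h1 j
  -- freeness of the quotient
  let Q := M ⧸ T
  let lamQ : Q →ₗ[R] (Fin n → R) := T.liftQ lam (le_of_eq hker.symm)
  have hinj : Function.Injective lamQ := by
    rw [← LinearMap.ker_eq_bot]
    exact Submodule.ker_liftQ_eq_bot _ _ _ (le_of_eq hker)
  haveI : Module.Free R Q := Groth.Agent.H5.Bezout.free_of_injective_to_fin R n Q lamQ hinj
  obtain ⟨s, hs⟩ := Module.projective_lifting_property T.mkQ (LinearMap.id : Q →ₗ[R] Q)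
    T.mkQ_surjective
  have hs' : ∀ q, T.mkQ (s q) = q := fun q => LinearMap.congr_fun hs q
  have hmemT : ∀ m : M, m - s (T.mkQ m) ∈ T := by
    intro m
    have h0 : m - s (T.mkQ m) ∈ LinearMap.ker T.mkQ := by
      rw [LinearMap.mem_ker, map_sub, hs', sub_self]
    rwa [Submodule.ker_mkQ] at h0
  let E1 : M ≃ₗ[R] (Q × T) :=
    { LinearMap.prod T.mkQ
        (LinearMap.codRestrict T (LinearMap.id - s ∘ₗ T.mkQ) (fun m => hmemT m)) with
      invFun := fun qt => s qt.1 + qt.2.1
      left_inv := fun m => by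
        show s (T.mkQ m) + (m - s (T.mkQ m)) = m
        abel
      right_inv := fun qt => by
        obtain ⟨q, t⟩ := qt
        have ht : T.mkQ t.1 = 0 := by
          rw [← LinearMap.mem_ker, Submodule.ker_mkQ]; exact t.2
        have h5 : T.mkQ (s q + t.1) = q := by rw [map_add, hs', ht, add_zero]
        refine Prod.ext ?_ (Subtype.ext ?_)
        · exact h5
        · show (s q + t.1) - s (T.mkQ (s q + t.1)) = t.1
          rw [h5]
          abel }
  let b := Module.finBasis R Q
  refine ⟨⟨Module.finrank R Q, ⟨E1 ≪≫ₗ LinearEquiv.prodCongr b.equivFun (LinearEquiv.refl R T)⟩⟩,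
    n, fun j => fp (g j), fun j => fp_ne (g j), ?_⟩
  -- second part
  let Θ : ((j : Fin n) → R ⧸ Ideal.span {g j}) →ₗ[R] ((j : Fin n) → R ⧸ Ideal.span {fp (g j)}) :=
    LinearMap.pi fun j => theta (g j) ∘ₗ LinearMap.proj j
  let Ρ : ((j : Fin n) → R ⧸ Ideal.span {fp (g j)}) →ₗ[R] ((j : Fin n) → R ⧸ Ideal.span {g j}) :=
    LinearMap.pi fun j => rho (g j) ∘ₗ LinearMap.proj j
  have hcy : ∀ y : (j : Fin n) → R ⧸ Ideal.span {fp (g j)}, c • y = 0 := by
    intro y
    funext j
    obtain ⟨c', hc'⟩ := hdvd j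
    rw [Pi.smul_apply, hc', mul_smul, fp_smul, smul_zero]
    rfl
  let p0 : ((j : Fin n) → R ⧸ Ideal.span {fp (g j)}) →ₗ[R] M :=
    LinearMap.fst R M N ∘ₗ e.symm.toLinearMap ∘ₗ Ρ
  have hp0 : ∀ y, p0 y ∈ T := by
    intro y
    refine mem_T _ c hc ?_
    rw [← map_smul, hcy, map_zero]
  refine ⟨Θ ∘ₗ e.toLinearMap ∘ₗ LinearMap.inl R M N ∘ₗ T.subtype,
    LinearMap.codRestrict T p0 hp0, ?_⟩
  ext t
  obtain ⟨a, ha, hat⟩ := of_T t.1 t.2
  have h1 : a • e (t.1, 0) = 0 := by
    rw [← map_smul, Prod.smul_mk, hat, smul_zero]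
    exact map_zero e
  have h2 : Ρ (Θ (e (t.1, 0))) = e (t.1, 0) := by
    funext j
    exact rho_theta (g j) _ (kap_of_tors _ a ha h1 j)
  simp only [LinearMap.coe_comp, Function.comp_apply, LinearMap.codRestrict_apply,
    LinearMap.id_coe, id_eq, p0, LinearMap.inl_apply, Submodule.subtype_apply,
    LinearEquiv.coe_coe, LinearMap.fst_apply]
  rw [h2, LinearEquiv.symm_apply_apply]

end Aux

/-- Over a Bézout domain R, a finitely presented module M splits as R^r ⊕ M_tors for some r, and its
torsion part M_tors is a retract (direct summand) of R/f_1R ⊕ … ⊕ R/f_nR for some nonzero f_1, …,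
f_n. -/
theorem result (R : Type u) [CommRing R] [IsDomain R] [IsBezout R]
    (M : Type u) [AddCommGroup M] [Module R M] [Module.FinitePresentation R M] :
    (∃ r : ℕ, Nonempty (M ≃ₗ[R] ((Fin r → R) × Submodule.torsion R M))) ∧
      ∃ (n : ℕ) (f : Fin n → R), (∀ j, f j ≠ 0) ∧
        ∃ (i : Submodule.torsion R M →ₗ[R] ((j : Fin n) → R ⧸ Ideal.span {f j}))
          (p : ((j : Fin n) → R ⧸ Ideal.span {f j}) →ₗ[R] Submodule.torsion R M),
          p ∘ₗ i = LinearMap.id := by
  exact main M

end Groth.Agent.S7121
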