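import Groth.Statements.S7123
import Mathlib.Algebra.DirectSum.Module
import Mathlib.RingTheory.Ideal.Quotient.Basic
import Mathlib.Tactic

set_option autoImplicit false
universe u
open CAlg

namespace Groth.Agent.S7123

open DirectSum in
/-- For a module P over a ring R these two conditions are equivalent: (1) P is a retract (direct
summand) of a direct sum of cyclic modules R/fR, f ranging over R; (2) for every surjection of
R-modules π : B → C whose kernel A satisfies fA = A ∩ fB for every f in R, each linear map P → C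
lifts through π. -/
theorem result (R : Type u) [CommRing R] (P : Type u)
    [AddCommGroup P] [Module R P] :
    (∃ (ι : Type u) (f : ι → R) (i : P →ₗ[R] (⨁ j, R ⧸ Ideal.span {f j}))
        (p : (⨁ j, R ⧸ Ideal.span {f j}) →ₗ[R] P), p ∘ₗ i = LinearMap.id) ↔
      ∀ (B C : Type u) [AddCommGroup B] [Module R B] [AddCommGroup C] [Module R C] (π : B →ₗ[R] C),
        Function.Surjective π →
        (∀ (f : R) (b : B), π (f • b) = 0 → ∃ a : B, π a = 0 ∧ f • a = f • b) →
        ∀ ψ : P →ₗ[R] C, ∃ φ : P →ₗ[R] B, π ∘ₗ φ = ψ := by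
  classical
  constructor
  · rintro ⟨ι, f, i, p, hpi⟩ B C _ _ _ _ π hπ hker ψ
    -- lift each cyclic summand
    have hlift : ∀ j : ι, ∃ b : B, π b = ψ (p (DirectSum.lof R ι (fun j => R ⧸ Ideal.span {f j}) j 1)) ∧
        f j • b = 0 := by
      intro j
      obtain ⟨b, hb⟩ := hπ (ψ (p (DirectSum.lof R ι (fun j => R ⧸ Ideal.span {f j}) j 1)))
      have h0 : π (f j • b) = 0 := by
        rw [map_smul, hb, ← map_smul, ← map_smul, ← map_smul]
        have : f j • (1 : R ⧸ Ideal.span {f j}) = 0 := by
          rw [Algebra.smul_def, mul_one]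
          exact Ideal.Quotient.eq_zero_iff_mem.mpr (Ideal.subset_span rfl)
        rw [this, map_zero, map_zero, map_zero]
      obtain ⟨a, ha0, ha⟩ := hker (f j) b h0
      refine ⟨b - a, by rw [map_sub, ha0, sub_zero, hb], by rw [smul_sub, ha, sub_self]⟩
    choose b hb1 hb2 using hlift
    -- the map R/f_j → B
    let g : ∀ j, (R ⧸ Ideal.span {f j}) →ₗ[R] B := fun j =>
      Submodule.liftQ _ (LinearMap.toSpanSingleton R B (b j)) (by
        rw [Ideal.span_le]
        rintro _ rfl
        change (LinearMap.toSpanSingleton R B (b j)) (f j) = 0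
        rw [LinearMap.toSpanSingleton_apply]
        exact hb2 j)
    have hg1 : ∀ j, g j 1 = b j := by
      intro j
      change (Submodule.liftQ _ _ _) (Submodule.Quotient.mk (1 : R)) = _
      rw [Submodule.liftQ_apply, LinearMap.toSpanSingleton_apply, one_smul]
    let G : (DirectSum ι fun j => R ⧸ Ideal.span {f j}) →ₗ[R] B := DirectSum.toModule R ι B g
    refine ⟨G ∘ₗ i, ?_⟩
    have key : π ∘ₗ G = ψ ∘ₗ p := by
      apply DirectSum.linearMap_ext
      intro j
      apply LinearMap.ext
      intro y
      obtain ⟨r, rfl⟩ := Ideal.Quotient.mk_surjective y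
      have hr : (Ideal.Quotient.mk (Ideal.span {f j}) r) = r • (1 : R ⧸ Ideal.span {f j}) := by
        rw [Algebra.smul_def, mul_one]; rfl
      simp only [LinearMap.comp_apply]
      rw [hr, map_smul, map_smul, map_smul, map_smul, map_smul]
      congr 1
      change π (DirectSum.toModule R ι B g (DirectSum.lof R ι _ j 1)) = _
      rw [DirectSum.toModule_lof, hg1, hb1]
    rw [← LinearMap.comp_assoc, key, LinearMap.comp_assoc, hpi, LinearMap.comp_id]
  · intro h
    -- the universal cover by cyclic modules
    let ι : Type u := {q : R × P // q.1 • q.2 = 0}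
    let f : ι → R := fun q => q.1.1
    let g : ∀ j : ι, (R ⧸ Ideal.span {f j}) →ₗ[R] P := fun j =>
      Submodule.liftQ _ (LinearMap.toSpanSingleton R P j.1.2) (by
        rw [Ideal.span_le]
        rintro _ rfl
        change (LinearMap.toSpanSingleton R P j.1.2) (f j) = 0
        rw [LinearMap.toSpanSingleton_apply]
        exact j.2)
    have hg1 : ∀ j, g j 1 = j.1.2 := by
      intro j
      change (Submodule.liftQ _ _ _) (Submodule.Quotient.mk (1 : R)) = _
      rw [Submodule.liftQ_apply, LinearMap.toSpanSingleton_apply, one_smul]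
    let π : (DirectSum ι fun j => R ⧸ Ideal.span {f j}) →ₗ[R] P := DirectSum.toModule R ι P g
    have hπ1 : ∀ j : ι, π (DirectSum.lof R ι (fun j => R ⧸ Ideal.span {f j}) j 1) = j.1.2 := by
      intro j
      change DirectSum.toModule R ι P g (DirectSum.lof R ι _ j 1) = _
      rw [DirectSum.toModule_lof, hg1]
    have hsurj : Function.Surjective π := by
      intro x
      exact ⟨DirectSum.lof R ι (fun j => R ⧸ Ideal.span {f j}) ⟨(0, x), zero_smul R x⟩ 1, hπ1 _⟩
    have hker : ∀ (r : R) (b : DirectSum ι fun j => R ⧸ Ideal.span {f j}), π (r • b) = 0 →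
        ∃ a, π a = 0 ∧ r • a = r • b := by
      intro r b hb
      rw [map_smul] at hb
      let j : ι := ⟨(r, π b), hb⟩
      refine ⟨b - DirectSum.lof R ι (fun j => R ⧸ Ideal.span {f j}) j 1, ?_, ?_⟩
      · rw [map_sub, hπ1, sub_self]
      · rw [smul_sub, sub_eq_self, ← map_smul]
        have : r • (1 : R ⧸ Ideal.span {f j}) = 0 := by
          rw [Algebra.smul_def, mul_one]
          exact Ideal.Quotient.eq_zero_iff_mem.mpr (Ideal.subset_span rfl)
        rw [this, map_zero]
    obtain ⟨φ, hφ⟩ := h _ P π hsurj hker LinearMap.id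
    exact ⟨ι, f, φ, π, hφ⟩

end Groth.Agent.S7123
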