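import Groth.Statements.S7127
import Mathlib

set_option autoImplicit false
universe u
open EtAlg

namespace Groth.Agent.S7127

open AlgebraicGeometry CategoryTheory in
theorem specWE (R S : Type u) [CommRing R] [CommRing S] [Algebra R S] :
    AlgebraicGeometry.WeaklyEtale (Spec.map (CommRingCat.ofHom (algebraMap R S))) ↔
      Algebra.WeaklyEtale R S := by
  rw [Algebra.weaklyEtale_iff]
  constructor
  · intro h
    refine ⟨?_, ?_⟩
    · have := h.flat
      rw [AlgebraicGeometry.Flat.SpecMap_iff] at this
      simpa [RingHom.flat_algebraMap_iff] using this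
    · have := h.flat_diagonal
      rw [diagonal_SpecMap R S, MorphismProperty.cancel_right_of_respectsIso @Flat,
        Flat.SpecMap_iff] at this
      exact this
  · rintro ⟨h1, h2⟩
    refine ⟨?_, ?_⟩
    · rw [Flat.SpecMap_iff]; simpa [RingHom.flat_algebraMap_iff] using h1
    · rw [diagonal_SpecMap R S, MorphismProperty.cancel_right_of_respectsIso @Flat,
        Flat.SpecMap_iff]
      exact h2

/-- Let A be a ring and B → C an A-algebra homomorphism between weakly étale A-algebras. Then C is
weakly étale over B. -/
theorem result (A B C : Type u) [CommRing A] [CommRing B] [CommRing C]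
    [Algebra A B] [Algebra A C] [Algebra B C] [IsScalarTower A B C] [Algebra.WeaklyEtale A B]
    [Algebra.WeaklyEtale A C] : Algebra.WeaklyEtale B C := by
  have hA : AlgebraicGeometry.WeaklyEtale
      (AlgebraicGeometry.Spec.map (CommRingCat.ofHom (algebraMap A B))) :=
    (specWE A B).2 inferInstance
  have hC : AlgebraicGeometry.WeaklyEtale
      (CategoryTheory.CategoryStruct.comp
        (AlgebraicGeometry.Spec.map (CommRingCat.ofHom (algebraMap B C)))
        (AlgebraicGeometry.Spec.map (CommRingCat.ofHom (algebraMap A B)))) := by
    rw [← AlgebraicGeometry.Spec.map_comp, ← CommRingCat.ofHom_comp,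
      ← IsScalarTower.algebraMap_eq]
    exact (specWE A C).2 inferInstance
  exact (specWE B C).1 (AlgebraicGeometry.WeaklyEtale.of_comp _
    (AlgebraicGeometry.Spec.map (CommRingCat.ofHom (algebraMap A B))))

end Groth.Agent.S7127
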