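import Groth.Statements.S7129
import Mathlib

set_option autoImplicit false
universe u
open EtAlg

namespace Groth.Agent.S7129

/-- Every module over a product of fields ∏ K_i is flat over it (the product is an absolutely flat
ring). -/
theorem result (ι : Type u) (K : ι → Type u) [∀ i, Field (K i)] (M : Type u)
    [AddCommGroup M] [Module (∀ i, K i) M] : Module.Flat (∀ i, K i) M := by
  classical
  rw [Module.Flat.iff_rTensor_injective]
  intro I hI
  obtain ⟨s, hs⟩ := hI
  -- the support of the ideal
  let T : Set ι := {i | ∃ a ∈ s, a i ≠ 0}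
  have hch : ∀ i : ι, i ∈ T → ∃ a ∈ s, a i ≠ 0 := fun i hi => hi
  choose! ch hch1 hch2 using hch
  let e : (∀ i, K i) := fun i => if i ∈ T then 1 else 0
  -- e is a combination of the generators
  have he : e ∈ I := by
    have : e = ∑ a ∈ s, (fun i => if i ∈ T ∧ ch i = a then (a i)⁻¹ else 0 : ∀ i, K i) * a := by
      funext i
      rw [Finset.sum_apply]
      by_cases hi : i ∈ T
      · rw [Finset.sum_eq_single (ch i)]
        · simp only [e, hi, if_true, Pi.mul_apply, and_self]
          rw [inv_mul_cancel₀ (hch2 i hi)]
        · intro b _ hb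
          simp only [Pi.mul_apply]
          rw [if_neg (fun h => hb h.2.symm), zero_mul]
        · intro h
          exact absurd (hch1 i hi) h
      · simp only [e, hi, if_false, Pi.mul_apply, false_and, zero_mul, Finset.sum_const_zero]
    rw [this, ← hs]
    exact Submodule.sum_mem _ fun a ha => Ideal.mul_mem_left _ _ (Submodule.subset_span ha)
  have hmul : ∀ a ∈ I, a * e = a := by
    intro a ha
    rw [← hs] at ha
    refine Submodule.span_induction (p := fun a _ => a * e = a) ?_ ?_ ?_ ?_ ha
    · intro b hb
      funext i
      simp only [Pi.mul_apply, e]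
      by_cases hi : i ∈ T
      · simp [hi]
      · have : b i = 0 := by
          by_contra h
          exact hi ⟨b, hb, h⟩
        simp [hi, this]
    · simp
    · intro x y _ _ hx hy
      rw [add_mul, hx, hy]
    · intro r x _ hx
      rw [smul_eq_mul, mul_assoc, hx]
  let ρ : (∀ i, K i) →ₗ[∀ i, K i] I :=
    { toFun := fun r => ⟨r * e, Ideal.mul_mem_left _ _ he⟩
      map_add' := fun x y => by ext1; simp [add_mul]
      map_smul' := fun c x => by ext1; simp [mul_assoc] }
  have hρ : ρ.comp I.subtype = LinearMap.id := by
    ext x : 2
    exact hmul x.1 x.2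
  have hli : Function.LeftInverse (ρ.rTensor M) (I.subtype.rTensor M) := by
    intro x
    rw [← LinearMap.rTensor_comp_apply, hρ, LinearMap.rTensor_id, LinearMap.id_apply]
  exact hli.injective

end Groth.Agent.S7129
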