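import Groth.Statements.S7130
import Mathlib.RingTheory.Ideal.Pure
import Mathlib.RingTheory.KrullDimension.Zero
import Mathlib.RingTheory.LocalProperties.Reduced
import Mathlib.RingTheory.Flat.Localization
import Mathlib.Tactic

set_option autoImplicit false
universe u
open EtAlg

namespace Groth.Agent.S7130


/-- In a ring all of whose modules are flat, every `x` is of the form `x * x * z`. -/
theorem exists_sq_mul (A : Type u) [CommRing A]
    (h : ∀ (M : Type u) [AddCommGroup M] [Module A M], Module.Flat A M) (x : A) :
    ∃ z : A, x = x * x * z := by
  haveI : (Ideal.span {x}).Pure := h _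
  obtain ⟨y, hy, hxy⟩ := Ideal.exists_eq_mul_of_pure (I := Ideal.span {x})
    (Ideal.subset_span (Set.mem_singleton x))
  rw [Ideal.mem_span_singleton'] at hy
  obtain ⟨z, rfl⟩ := hy
  exact ⟨z, by linear_combination hxy⟩

/-- (2) ⇔ (3) ⇔ (4): for a ring A the following are equivalent: every A-module is flat; A is reduced of
Krull dimension zero, in the sense that every prime ideal of A is maximal; the local ring A_p is a
field for every prime p. (The further equivalent condition 'A has weak dimension at most zero'
coincides with the first condition by definition and is not listed separately.) -/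
theorem result (A : Type u) [CommRing A] :
    List.TFAE [∀ (M : Type u) [AddCommGroup M] [Module A M], Module.Flat A M,
      IsReduced A ∧ ∀ p : Ideal A, p.IsPrime → p.IsMaximal,
      ∀ (p : Ideal A) [p.IsPrime], IsField (Localization.AtPrime p)] := by
  tfae_have 1 → 2 := by
    intro h
    constructor
    · rw [isReduced_iff_pow_one_lt 2 one_lt_two]
      intro x hx
      obtain ⟨z, hz⟩ := exists_sq_mul A h x
      rw [hz, ← pow_two, hx, zero_mul]
    · intro p hp
      rw [Ideal.isMaximal_iff]
      refine ⟨fun h1 => hp.ne_top ((Ideal.eq_top_iff_one p).2 h1), ?_⟩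
      intro J x hpJ hxp hxJ
      obtain ⟨z, hz⟩ := exists_sq_mul A h x
      have h0 : x * (1 - x * z) = 0 := by
        have : x * (1 - x * z) = x - x * x * z := by ring
        rw [this, ← hz, sub_self]
      have h1 : 1 - x * z ∈ p := by
        have : x * (1 - x * z) ∈ p := by rw [h0]; exact p.zero_mem
        rcases hp.mem_or_mem this with h2 | h2
        · exact absurd h2 hxp
        · exact h2
      have : (1 : A) = (1 - x * z) + x * z := by ring
      rw [this]
      exact J.add_mem (hpJ h1) (J.mul_mem_right z hxJ)
  tfae_have 2 → 3 := by
    rintro ⟨hred, hmax⟩ p hp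
    haveI : Ring.KrullDimLE 0 A := Ring.krullDimLE_zero_iff.mpr hmax
    have hpmin : p ∈ minimalPrimes A := by
      rw [Ring.KrullDimLE.minimalPrimes_eq_setOfPred_isPrime]
      exact hp
    haveI : Ring.KrullDimLE 0 (Localization.AtPrime p) :=
      Ring.KrullDimLE.of_isLocalization p hpmin _
    exact Ring.KrullDimLE.isField_of_isReduced
  tfae_have 3 → 1 := by
    intro h M _ _
    apply Module.flat_of_localized_maximal
    intro P hP
    letI : Field (Localization.AtPrime P) := (h P).toField
    haveI : Module.Flat (Localization.AtPrime P) (LocalizedModule P.primeCompl M) := inferInstance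
    exact Module.Flat.trans A (Localization.AtPrime P) (LocalizedModule P.primeCompl M)
  tfae_finish

end Groth.Agent.S7130
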