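import Groth.Statements.S7132
import Mathlib

set_option autoImplicit false
universe u
open EtAlg

namespace Groth.Agent.S7132aux

open IsDiscreteValuationRing IsLocalRing

variable {A B : Type u} [CommRing A] [IsDomain A] [IsDiscreteValuationRing A]
  [CommRing B] [IsDomain B] [IsDiscreteValuationRing B] [Algebra A B]

lemma claim1 [IsLocalHom (algebraMap A B)] {ι : Type u} [Fintype ι] (ω : ι → B)
    (hω : LinearIndependent (ResidueField A) (fun j => residue B (ω j)))
    (πA : A) (hπA : Irreducible πA) (πB : B) (hπB : Irreducible πB) (e : ℕ) (u : Bˣ)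
    (he : algebraMap A B πA = u * πB ^ e)
    (a : Fin e → ι → A)
    (hsum : ∑ i, ∑ j, algebraMap A B (a i j) * (ω j * πB ^ (i : ℕ)) = 0) :
    ∀ i j, a i j ∈ IsLocalRing.maximalIdeal A := by
  classical
  set T : Fin e → B := fun i => ∑ j, algebraMap A B (a i j) * ω j with hT
  have hsum' : ∑ i, T i * πB ^ (i : ℕ) = 0 := by
    rw [← hsum]
    apply Finset.sum_congr rfl
    intro i _
    rw [hT, Finset.sum_mul]
    apply Finset.sum_congr rfl
    intro j _
    ring
  have hmem : ∀ c : A, c ∈ IsLocalRing.maximalIdeal A → algebraMap A B c ∈ Ideal.span {πB ^ e} := by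
    intro c hc
    rw [hπA.maximalIdeal_eq, Ideal.mem_span_singleton] at hc
    obtain ⟨d, rfl⟩ := hc
    rw [map_mul, he, Ideal.mem_span_singleton]
    exact Dvd.intro_left _ (by ring : ↑u * algebraMap A B d * πB ^ e = _)
  have key : ∀ k : ℕ, ∀ i : Fin e, (i : ℕ) < k → ∀ j, a i j ∈ IsLocalRing.maximalIdeal A := by
    intro k
    induction k with
    | zero => intro i hi; exact absurd hi (Nat.not_lt_zero _)
    | succ k ih =>
      intro i hi
      by_cases hik : (i : ℕ) < k
      · exact ih i hik
      have hik' : (i : ℕ) = k := by omega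
      -- all earlier rows are in the maximal ideal
      have hearly : ∀ i' : Fin e, i' < i → T i' * πB ^ (i' : ℕ) ∈ Ideal.span {πB ^ ((i : ℕ) + 1)} := by
        intro i' hi'
        have h1 : T i' ∈ Ideal.span {πB ^ e} := by
          rw [hT]
          refine Ideal.sum_mem _ (fun j _ => Ideal.mul_mem_right _ _ (hmem _ (ih i' (by
            have : (i' : ℕ) < (i : ℕ) := hi'
            omega) j)))
        have h2 : Ideal.span {πB ^ e} ≤ Ideal.span {πB ^ ((i : ℕ) + 1)} := by
          rw [Ideal.span_singleton_le_span_singleton]
          exact pow_dvd_pow _ (by have := i.2; omega)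
        exact Ideal.mul_mem_right _ _ (h2 h1)
      have hlate : ∀ i' : Fin e, i < i' → T i' * πB ^ (i' : ℕ) ∈ Ideal.span {πB ^ ((i : ℕ) + 1)} := by
        intro i' hi'
        refine Ideal.mul_mem_left _ _ ?_
        rw [Ideal.mem_span_singleton]
        exact pow_dvd_pow _ (by
          have : (i : ℕ) < (i' : ℕ) := hi'
          omega)
      have hmid : T i * πB ^ (i : ℕ) ∈ Ideal.span {πB ^ ((i : ℕ) + 1)} := by
        have hsplit := Finset.add_sum_erase Finset.univ (fun i' => T i' * πB ^ (i' : ℕ))
          (Finset.mem_univ i)
        rw [hsum'] at hsplit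
        have : T i * πB ^ (i : ℕ) = - ∑ i' ∈ Finset.univ.erase i, T i' * πB ^ (i' : ℕ) :=
          eq_neg_of_add_eq_zero_left hsplit
        rw [this]
        refine Ideal.neg_mem_iff _ |>.mpr (Ideal.sum_mem _ ?_)
        intro i' hi'
        have hne : i' ≠ i := Finset.ne_of_mem_erase hi'
        rcases lt_or_gt_of_ne hne with h | h
        · exact hearly i' h
        · exact hlate i' h
      have hdvd : πB ∣ T i := by
        rw [Ideal.mem_span_singleton, pow_succ'] at hmid
        exact (mul_dvd_mul_iff_right (pow_ne_zero _ hπB.ne_zero)).mp hmid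
      have hres : residue B (T i) = 0 := by
        rw [residue_eq_zero_iff, hπB.maximalIdeal_eq, Ideal.mem_span_singleton]
        exact hdvd
      rw [hT] at hres
      simp only [map_sum, map_mul] at hres
      have hlin : ∑ j, (residue A (a i j)) • (residue B (ω j)) = 0 := by
        rw [← hres]
        apply Finset.sum_congr rfl
        intro j _
        rw [Algebra.smul_def, ResidueField.algebraMap_residue]
      have := Fintype.linearIndependent_iff.mp hω (fun j => residue A (a i j)) hlin
      intro j
      exact (residue_eq_zero_iff _).mp (this j)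
  intro i j
  exact key ((i : ℕ) + 1) i (Nat.lt_succ_self _) j


lemma indepA (hinj : Function.Injective (algebraMap A B)) [IsLocalHom (algebraMap A B)]
    {ι : Type u} [Fintype ι] (ω : ι → B)
    (hω : LinearIndependent (ResidueField A) (fun j => residue B (ω j)))
    (πA : A) (hπA : Irreducible πA) (πB : B) (hπB : Irreducible πB) (e : ℕ) (u : Bˣ)
    (he : algebraMap A B πA = u * πB ^ e) :
    LinearIndependent A (fun x : Fin e × ι => ω x.2 * πB ^ (x.1 : ℕ)) := by
  classical
  have h0 : algebraMap A B πA ≠ 0 := by
    intro h
    exact hπA.ne_zero (hinj (by rw [h, map_zero]))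
  rw [Fintype.linearIndependent_iff]
  intro g hg
  have key : ∀ N : ℕ, ∀ g : Fin e × ι → A, ∑ x, g x • (ω x.2 * πB ^ (x.1 : ℕ)) = 0 →
      ∀ x, g x ∈ IsLocalRing.maximalIdeal A ^ N := by
    intro N
    induction N with
    | zero => intro g _ x; simp
    | succ N ih =>
      intro g hg x
      have h1 : ∀ x, g x ∈ IsLocalRing.maximalIdeal A := by
        intro x
        refine claim1 ω hω πA hπA πB hπB e u he (fun i j => g (i, j)) ?_ x.1 x.2
        rw [← Fintype.sum_prod_type (f := fun x : Fin e × ι =>
          algebraMap A B (g x) * (ω x.2 * πB ^ (x.1 : ℕ))), ← hg]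
        apply Finset.sum_congr rfl
        intro x _
        rw [Algebra.smul_def]
      have h2 : ∀ x, ∃ c, g x = πA * c := by
        intro x
        have := h1 x
        rw [hπA.maximalIdeal_eq, Ideal.mem_span_singleton] at this
        exact this
      choose g' hg' using h2
      have h3 : ∑ x, g' x • (ω x.2 * πB ^ (x.1 : ℕ)) = 0 := by
        have : algebraMap A B πA * ∑ x, g' x • (ω x.2 * πB ^ (x.1 : ℕ)) = 0 := by
          rw [Finset.mul_sum, ← hg]
          apply Finset.sum_congr rfl
          intro x _
          rw [hg' x, Algebra.smul_def, Algebra.smul_def, map_mul]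
          ring
        exact (mul_eq_zero.mp this).resolve_left h0
      have := ih g' h3 x
      rw [hg' x, pow_succ']
      refine Ideal.mul_mem_mul ?_ this
      rw [hπA.maximalIdeal_eq]
      exact Ideal.mem_span_singleton_self πA
  intro x
  have : g x ∈ ⨅ N, IsLocalRing.maximalIdeal A ^ N := by
    rw [Ideal.mem_iInf]
    intro N
    exact key N g hg x
  rw [Ideal.iInf_pow_eq_bot_of_isLocalRing _ Ideal.IsPrime.ne_top'] at this
  exact this

lemma bound (K L : Type u) (hinj : Function.Injective (algebraMap A B)) [IsLocalHom (algebraMap A B)]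
    [Field K] [Field L] [Algebra A K] [IsFractionRing A K] [Algebra B L] [IsFractionRing B L]
    [Algebra K L] [Algebra A L] [IsScalarTower A K L] [IsScalarTower A B L] [FiniteDimensional K L]
    {ι : Type u} [Fintype ι] (ω : ι → B)
    (hω : LinearIndependent (ResidueField A) (fun j => residue B (ω j)))
    (πA : A) (hπA : Irreducible πA) (πB : B) (hπB : Irreducible πB) (e : ℕ) (u : Bˣ)
    (he : algebraMap A B πA = u * πB ^ e) :
    e * Fintype.card ι ≤ Module.finrank K L := by
  have h1 := indepA hinj ω hω πA hπA πB hπB e u he
  have h2 : LinearIndependent A (fun x : Fin e × ι => algebraMap B L (ω x.2 * πB ^ (x.1 : ℕ))) := by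
    have := h1.map' (IsScalarTower.toAlgHom A B L).toLinearMap
      (LinearMap.ker_eq_bot.mpr (IsFractionRing.injective B L))
    exact this
  have h3 : LinearIndependent K (fun x : Fin e × ι => algebraMap B L (ω x.2 * πB ^ (x.1 : ℕ))) :=
    (LinearIndependent.iff_fractionRing A K).mp h2
  have h4 := h3.fintype_card_le_finrank
  rw [Fintype.card_prod, Fintype.card_fin] at h4
  exact h4


theorem main (K L : Type u) (hinj : Function.Injective (algebraMap A B)) [IsLocalHom (algebraMap A B)]
    [Field K] [Field L] [Algebra A K] [IsFractionRing A K] [Algebra B L] [IsFractionRing B L]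
    [Algebra K L] [Algebra A L] [IsScalarTower A K L] [IsScalarTower A B L] [FiniteDimensional K L] :
    Module.Finite (ResidueField A) (ResidueField B) ∧
      Ideal.ramificationIdx' (IsLocalRing.maximalIdeal A) (IsLocalRing.maximalIdeal B) *
          Module.finrank (ResidueField A) (ResidueField B) ≤ Module.finrank K L := by
  classical
  obtain ⟨πA, hπA⟩ := IsDiscreteValuationRing.exists_irreducible A
  obtain ⟨πB, hπB⟩ := IsDiscreteValuationRing.exists_irreducible B
  have h0 : algebraMap A B πA ≠ 0 := by
    intro h
    exact hπA.ne_zero (hinj (by rw [h, map_zero]))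
  obtain ⟨e, u, he⟩ := eq_unit_mul_pow_irreducible h0 hπB
  have hval : addVal B (algebraMap A B πA) = (e : ℕ∞) := addVal_def _ u hπB e he
  have he0 : e ≠ 0 := by
    rintro rfl
    rw [pow_zero, mul_one] at he
    have h1 : IsUnit (algebraMap A B πA) := he ▸ u.isUnit
    exact hπA.not_isUnit (isUnit_of_map_unit (algebraMap A B) πA h1)
  have hram : Ideal.ramificationIdx' (IsLocalRing.maximalIdeal A) (IsLocalRing.maximalIdeal B) = e := by
    apply Ideal.ramificationIdx'_spec
    · rw [hπA.maximalIdeal_eq, hπB.maximalIdeal_eq, Ideal.map_span, Set.image_singleton,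
        Ideal.span_singleton_pow, Ideal.span_singleton_le_span_singleton, he]
      exact Dvd.intro_left _ rfl
    · rw [hπA.maximalIdeal_eq, hπB.maximalIdeal_eq, Ideal.map_span, Set.image_singleton,
        Ideal.span_singleton_pow, Ideal.span_singleton_le_span_singleton, ← addVal_le_iff_dvd,
        hval, hπB.addVal_pow]
      intro hle
      have : ((e + 1 : ℕ) : ℕ∞) ≤ (e : ℕ∞) := hle
      rw [Nat.cast_le] at this
      omega
  rw [hram]
  -- the bound for every finite independent family of the residue field
  have hb : ∀ {ι : Type u} [Fintype ι] (v : ι → ResidueField B),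
      LinearIndependent (ResidueField A) v → e * Fintype.card ι ≤ Module.finrank K L := by
    intro ι _ v hv
    have hs : Function.Surjective (residue B) := residue_surjective
    refine bound K L hinj (fun j => Function.surjInv hs (v j)) ?_ πA hπA πB hπB e u he
    convert hv using 1
    funext j
    exact Function.surjInv_eq hs (v j)
  have hrank : Module.rank (ResidueField A) (ResidueField B) ≤ (Module.finrank K L : ℕ) := by
    apply rank_le
    intro s hs
    have := hb (fun i : s => (i : ResidueField B)) hs
    rw [Fintype.card_coe] at this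
    calc s.card ≤ e * s.card := Nat.le_mul_of_pos_left _ (Nat.pos_of_ne_zero he0)
      _ ≤ _ := this
  have hfin : Module.Finite (ResidueField A) (ResidueField B) :=
    Module.rank_lt_aleph0_iff.mp (lt_of_le_of_lt hrank Cardinal.natCast_lt_aleph0)
  refine ⟨hfin, ?_⟩
  have hbasis := Module.Free.chooseBasis (ResidueField A) (ResidueField B)
  have := hb (fun i => hbasis i) hbasis.linearIndependent
  rw [← Module.finrank_eq_card_chooseBasisIndex] at this
  exact this

end Groth.Agent.S7132aux

namespace Groth.Agent.S7132

/-- For an injective local homomorphism A → B of discrete valuation rings whose fraction fields K ⊆ L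
form a finite extension, the residue field of B is finite over that of A, and the ramification index
e times the residue degree f is at most [L : K]. -/
theorem result (A B K L : Type u) [CommRing A] [IsDomain A]
    [IsDiscreteValuationRing A] [CommRing B] [IsDomain B] [IsDiscreteValuationRing B] [Algebra A B]
    (hinj : Function.Injective (algebraMap A B)) [IsLocalHom (algebraMap A B)]
    [Field K] [Field L] [Algebra A K] [IsFractionRing A K] [Algebra B L] [IsFractionRing B L]
    [Algebra K L] [Algebra A L] [IsScalarTower A K L] [IsScalarTower A B L] [FiniteDimensional K L] :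
    Module.Finite (IsLocalRing.ResidueField A) (IsLocalRing.ResidueField B) ∧
      Ideal.ramificationIdx' (IsLocalRing.maximalIdeal A) (IsLocalRing.maximalIdeal B) *
          Module.finrank (IsLocalRing.ResidueField A) (IsLocalRing.ResidueField B) ≤
        Module.finrank K L := by
  exact Groth.Agent.S7132aux.main K L hinj

end Groth.Agent.S7132
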