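import Groth.Statements.S7133
import Mathlib

set_option autoImplicit false
universe u
open EtAlg

namespace Groth.Agent.S7133aux

open IsDiscreteValuationRing

variable {A B : Type u} [CommRing A] [IsDomain A] [IsDiscreteValuationRing A]
  [CommRing B] [IsDomain B] [IsDiscreteValuationRing B] [Algebra A B]

/-- the exponent `e` with `f πA = u πB^e`, and the basic facts about it -/
lemma exists_e (hinj : Function.Injective (algebraMap A B)) [IsLocalHom (algebraMap A B)] :
    ∃ e : ℕ, Ideal.ramificationIdx' (IsLocalRing.maximalIdeal A) (IsLocalRing.maximalIdeal B) = e ∧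
      ∀ a : A, a ≠ 0 → ∃ α : ℕ, addVal B (algebraMap A B a) = ((α * e : ℕ) : ℕ∞) := by
  obtain ⟨πA, hπA⟩ := IsDiscreteValuationRing.exists_irreducible A
  obtain ⟨πB, hπB⟩ := IsDiscreteValuationRing.exists_irreducible B
  have h0 : algebraMap A B πA ≠ 0 := by
    intro h
    exact hπA.ne_zero (hinj (by rw [h, map_zero]))
  obtain ⟨e, u, he⟩ := eq_unit_mul_pow_irreducible h0 hπB
  have hval : addVal B (algebraMap A B πA) = (e : ℕ∞) := addVal_def _ u hπB e he
  refine ⟨e, ?_, ?_⟩
  · apply Ideal.ramificationIdx'_spec
    · rw [hπA.maximalIdeal_eq, hπB.maximalIdeal_eq, Ideal.map_span, Set.image_singleton,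
        Ideal.span_singleton_pow, Ideal.span_singleton_le_span_singleton, he]
      exact Dvd.intro_left _ rfl
    · rw [hπA.maximalIdeal_eq, hπB.maximalIdeal_eq, Ideal.map_span, Set.image_singleton,
        Ideal.span_singleton_pow, Ideal.span_singleton_le_span_singleton, ← addVal_le_iff_dvd,
        hval, hπB.addVal_pow]
      intro hle
      have : ((e + 1 : ℕ) : ℕ∞) ≤ (e : ℕ∞) := hle
      rw [Nat.cast_le] at this
      omega
  · intro a ha
    obtain ⟨α, ua, hua⟩ := eq_unit_mul_pow_irreducible ha hπA
    refine ⟨α, ?_⟩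
    have hunit : addVal B (algebraMap A B (ua : A)) = 0 := by
      have := addVal_def' (Units.map (algebraMap A B : A →* B) ua) hπB 0
      simpa using this
    rw [hua, map_mul, map_pow, addVal_mul, addVal_pow, hunit, hval, zero_add]
    simp

theorem main (K L : Type u) (hinj : Function.Injective (algebraMap A B)) [IsLocalHom (algebraMap A B)]
    [Field K] [Field L] [Algebra A K] [IsFractionRing A K] [Algebra B L] [IsFractionRing B L]
    [Algebra K L] [Algebra A L] [IsScalarTower A K L] [IsScalarTower A B L]
    (p : ℕ) (hp : p.Prime) [CharP K p] [IsPurelyInseparable K L] :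
    ∃ k : ℕ, Ideal.ramificationIdx' (IsLocalRing.maximalIdeal A) (IsLocalRing.maximalIdeal B) =
      p ^ k := by
  obtain ⟨e, he, hval⟩ := exists_e (A := A) (B := B) hinj
  rw [he]
  obtain ⟨πB, hπB⟩ := IsDiscreteValuationRing.exists_irreducible B
  have : ExpChar K p := ExpChar.prime hp
  obtain ⟨n, c, hc⟩ := IsPurelyInseparable.pow_mem K p (algebraMap B L πB)
  obtain ⟨a, b, hb, hab⟩ := IsFractionRing.div_surjective (A := A) c
  have hb0 : b ≠ 0 := nonZeroDivisors.ne_zero hb
  have hbK : algebraMap A K b ≠ 0 := by
    intro h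
    exact hb0 (IsFractionRing.injective A K (by rw [h, map_zero]))
  have hL : algebraMap B L (algebraMap A B b * πB ^ p ^ n) = algebraMap B L (algebraMap A B a) := by
    rw [map_mul, map_pow, ← hc, ← IsScalarTower.algebraMap_apply A B L,
      ← IsScalarTower.algebraMap_apply A B L, IsScalarTower.algebraMap_apply A K L,
      IsScalarTower.algebraMap_apply A K L a, ← map_mul, ← hab]
    congr 1
    field_simp
  have hBeq : algebraMap A B b * πB ^ p ^ n = algebraMap A B a := IsFractionRing.injective B L hL
  have hfb : algebraMap A B b ≠ 0 := by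
    intro h
    exact hb0 (hinj (by rw [h, map_zero]))
  have ha0 : a ≠ 0 := by
    rintro rfl
    rw [map_zero] at hBeq
    exact mul_ne_zero hfb (pow_ne_zero _ hπB.ne_zero) hBeq
  obtain ⟨α, hα⟩ := hval a ha0
  obtain ⟨β, hβ⟩ := hval b hb0
  have hv := congrArg (addVal B) hBeq
  rw [addVal_mul, hπB.addVal_pow, hα, hβ] at hv
  have hv' : β * e + p ^ n = α * e := by exact_mod_cast hv
  have hdvd : e ∣ p ^ n := by
    have h1 : e ∣ α * e := Dvd.intro_left _ rfl
    rw [← hv'] at h1
    exact (Nat.dvd_add_right (Dvd.intro_left _ rfl)).mp h1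
  obtain ⟨k, _, hk⟩ := (Nat.dvd_prime_pow hp).mp hdvd
  exact ⟨k, hk⟩

end Groth.Agent.S7133aux

namespace Groth.Agent.S7133

/-- For an injective local homomorphism A → B of discrete valuation rings whose fields of fractions are
K ⊆ L: if K has characteristic p > 0 and L/K is purely inseparable, then the ramification index of B
over A is a power of p. -/
theorem result (A B K L : Type u) [CommRing A] [IsDomain A]
    [IsDiscreteValuationRing A] [CommRing B] [IsDomain B] [IsDiscreteValuationRing B] [Algebra A B]
    (hinj : Function.Injective (algebraMap A B)) [IsLocalHom (algebraMap A B)]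
    [Field K] [Field L] [Algebra A K] [IsFractionRing A K] [Algebra B L] [IsFractionRing B L]
    [Algebra K L] [Algebra A L] [IsScalarTower A K L] [IsScalarTower A B L]
    (p : ℕ) (hp : p.Prime) [CharP K p] [IsPurelyInseparable K L] :
    ∃ k : ℕ, Ideal.ramificationIdx' (IsLocalRing.maximalIdeal A) (IsLocalRing.maximalIdeal B) =
      p ^ k := by
  exact Groth.Agent.S7133aux.main K L hinj p hp

end Groth.Agent.S7133
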