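import Groth.Statements.S7134
import Mathlib
import Groth.Prelude.Def_EGA41
import Groth.Agent.S2451
import Groth.Agent.S2454
import Groth.Agent.S9318
import Groth.Agent.S0543
import Groth.Agent.Lib.helper14.FSField
import Groth.Agent.Lib.helper5.RegLoc
import Groth.Agent.Lib.helper24.AdicLocal


set_option autoImplicit false
universe u
open EtAlg

namespace H14S7134
open IsLocalRing

/-- formal smoothness for an adic base gives formal smoothness over the discrete base -/
theorem adic_of_adicBase {A B : Type u} [CommRing A] [CommRing B] [Algebra A B] (𝔞 : Ideal A)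
    (𝔟 : Ideal B) (hab : 𝔞.map (algebraMap A B) ≤ 𝔟)
    (h : EGA41.IsFormallySmoothAdic A 𝔞 B 𝔟) : CAlgX.IsAdicFormallySmooth A B 𝔟 := by
  intro E _ _ J hJ ψ hψ
  obtain ⟨k, hk⟩ := hψ
  refine h E J ⟨2, hJ⟩ ⟨k * 2, ?_⟩ ψ ⟨k, hk⟩
  rw [pow_mul, Ideal.map_pow, eq_bot_iff, ← hJ]
  refine Ideal.pow_right_mono ?_ 2
  rw [Ideal.map_le_iff_le_comap]
  intro a ha
  rw [Ideal.mem_comap, ← Ideal.Quotient.eq_zero_iff_mem, ← Ideal.Quotient.algebraMap_eq,
    ← IsScalarTower.algebraMap_apply, ← ψ.commutes]
  apply hk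
  exact Ideal.pow_right_mono hab k (by rw [← Ideal.map_pow]; exact Ideal.mem_map_of_mem _ ha)

/-- base change of adic formal smoothness to a quotient of the base -/
theorem adic_quotient {A B : Type u} [CommRing A] [CommRing B] [Algebra A B] (I : Ideal A)
    (𝔫 : Ideal B) (h : CAlgX.IsAdicFormallySmooth A B 𝔫) :
    CAlgX.IsAdicFormallySmooth (A ⧸ I) (B ⧸ I.map (algebraMap A B))
      (𝔫.map (Ideal.Quotient.mk (I.map (algebraMap A B)))) := by
  intro C _ _ J hJ g hg
  obtain ⟨k, hk⟩ := hg
  letI : Algebra A C := ((algebraMap (A ⧸ I) C).comp (Ideal.Quotient.mk I)).toAlgebra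
  haveI : IsScalarTower A (A ⧸ I) C := IsScalarTower.of_algebraMap_eq (fun _ => rfl)
  haveI : IsScalarTower A (A ⧸ I) (C ⧸ J) := IsScalarTower.of_algebraMap_eq (fun _ => rfl)
  let g₀ : B →ₐ[A] C ⧸ J :=
    (g.restrictScalars A).comp (Ideal.Quotient.mkₐ A (I.map (algebraMap A B)))
  have hg₀ : ∀ x ∈ 𝔫 ^ k, g₀ x = 0 := by
    intro x hx
    change g (Ideal.Quotient.mk _ x) = 0
    apply hk
    rw [← Ideal.map_pow]
    exact Ideal.mem_map_of_mem _ hx
  obtain ⟨h₀, hh⟩ := h C J hJ g₀ ⟨k, hg₀⟩
  have hker : ∀ b ∈ I.map (algebraMap A B), h₀ b = 0 := by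
    intro b hb
    have : I.map (algebraMap A B) ≤ RingHom.ker h₀.toRingHom := by
      rw [Ideal.map_le_iff_le_comap]
      intro a ha
      rw [Ideal.mem_comap, RingHom.mem_ker]
      change h₀ (algebraMap A B a) = 0
      rw [h₀.commutes]
      change algebraMap (A ⧸ I) C (Ideal.Quotient.mk I a) = 0
      rw [Ideal.Quotient.eq_zero_iff_mem.2 ha, map_zero]
    exact this hb
  let hbar : (B ⧸ I.map (algebraMap A B)) →ₐ[A] C := Ideal.Quotient.liftₐ _ h₀ hker
  have hbar_mk : ∀ b : B, hbar (Ideal.Quotient.mk _ b) = h₀ b := fun _ => rfl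
  refine ⟨{ toRingHom := hbar.toRingHom
            commutes' := fun x => ?_ }, ?_⟩
  · obtain ⟨a, rfl⟩ := Ideal.Quotient.mk_surjective x
    change hbar (algebraMap (A ⧸ I) (B ⧸ I.map (algebraMap A B)) (Ideal.Quotient.mk I a)) = _
    have : algebraMap (A ⧸ I) (B ⧸ I.map (algebraMap A B)) (Ideal.Quotient.mk I a) =
        Ideal.Quotient.mk _ (algebraMap A B a) := rfl
    rw [this, hbar_mk, h₀.commutes]
    rfl
  · ext x
    obtain ⟨b, rfl⟩ := Ideal.Quotient.mk_surjective x
    have := AlgHom.congr_fun hh b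
    exact this

end H14S7134
namespace H14S7134
open IsLocalRing

section fwd
variable (A B : Type u) [CommRing A] [IsDomain A] [IsDiscreteValuationRing A] [CommRing B]
  [IsDomain B] [IsDiscreteValuationRing B] [Algebra A B]

theorem map_ne_bot (hinj : Function.Injective (algebraMap A B)) :
    (maximalIdeal A).map (algebraMap A B) ≠ ⊥ := by
  intro h0
  have hne : maximalIdeal A ≠ ⊥ := IsDiscreteValuationRing.not_a_field A
  obtain ⟨x, hx, hx0⟩ := Submodule.exists_mem_ne_zero_of_ne_bot hne
  have : algebraMap A B x ∈ (maximalIdeal A).map (algebraMap A B) := Ideal.mem_map_of_mem _ hx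
  rw [h0, Ideal.mem_bot] at this
  exact hx0 (hinj (this.trans (map_zero _).symm))

theorem fwd (hinj : Function.Injective (algebraMap A B)) [IsLocalHom (algebraMap A B)]
    (h : CAlgX.IsAdicFormallySmooth A B (maximalIdeal B)) :
    (maximalIdeal A).map (algebraMap A B) = maximalIdeal B ∧
      Algebra.IsGeometricallyReduced (ResidueField A) (ResidueField B) := by
  set 𝔟 := (maximalIdeal A).map (algebraMap A B) with h𝔟
  have hle : 𝔟 ≤ maximalIdeal B :=
    ((IsLocalRing.local_hom_TFAE (algebraMap A B)).out 0 2).1 ‹IsLocalHom (algebraMap A B)›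
  have hne : 𝔟 ≠ ⊤ := fun h => (maximalIdeal.isMaximal B).ne_top (top_le_iff.1 (h ▸ hle))
  have hq := adic_quotient (maximalIdeal A) (maximalIdeal B) h
  haveI : Nontrivial (B ⧸ 𝔟) := Ideal.Quotient.nontrivial_iff.mpr hne
  haveI : IsLocalRing (B ⧸ 𝔟) :=
    IsLocalRing.of_surjective' (Ideal.Quotient.mk _) Ideal.Quotient.mk_surjective
  have hmaxq : (maximalIdeal B).map (Ideal.Quotient.mk 𝔟) = maximalIdeal (B ⧸ 𝔟) := by
    have : ((maximalIdeal B).map (Ideal.Quotient.mk 𝔟)).IsMaximal :=
      Ideal.IsMaximal.map_of_surjective_of_ker_le Ideal.Quotient.mk_surjective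
        (by rw [Ideal.mk_ker]; exact hle)
    exact IsLocalRing.eq_maximalIdeal this
  rw [hmaxq] at hq
  letI : Algebra (ResidueField A) (B ⧸ 𝔟) :=
    (inferInstance : Algebra (A ⧸ maximalIdeal A) (B ⧸ 𝔟))
  have hq' : CAlgX.IsAdicFormallySmooth (ResidueField A) (B ⧸ 𝔟) (maximalIdeal (B ⧸ 𝔟)) := hq
  haveI : IsRegularLocalRing (B ⧸ 𝔟) := H14.FSField.isRegularLocalRing_of_fs hq'
  haveI : IsDomain (B ⧸ 𝔟) := Groth.Agent.H5.RegLoc.isDomain (B ⧸ 𝔟)
  have hprime : 𝔟.IsPrime := (Ideal.Quotient.isDomain_iff_prime 𝔟).1 inferInstance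
  have hmax : 𝔟.IsMaximal := hprime.isMaximal (map_ne_bot A B hinj)
  have heq : 𝔟 = maximalIdeal B := IsLocalRing.eq_maximalIdeal hmax
  refine ⟨heq, ?_⟩
  -- separability of the residue field
  have hbot : maximalIdeal (B ⧸ 𝔟) = ⊥ := by
    rw [← hmaxq, ← heq, Ideal.map_quotient_self]
  have hfs : Algebra.FormallySmooth (ResidueField A) (B ⧸ 𝔟) := by
    apply Algebra.FormallySmooth.of_comp_surjective
    intro C _ _ J hJ g
    exact hq' C J hJ g ⟨1, fun x hx => by
      rw [pow_one, hbot, Ideal.mem_bot] at hx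
      rw [hx, map_zero]⟩
  -- transport to the residue field of `B`
  let e₀ : (B ⧸ 𝔟) ≃+* ResidueField B := Ideal.quotEquivOfEq heq
  let e : (B ⧸ 𝔟) ≃ₐ[ResidueField A] ResidueField B :=
    { e₀ with
      commutes' := fun x => by
        obtain ⟨a, rfl⟩ := Ideal.Quotient.mk_surjective x
        rfl }
  haveI : Algebra.FormallySmooth (ResidueField A) (ResidueField B) :=
    Algebra.FormallySmooth.of_equiv e
  exact Groth.Agent.S2451.result.1 inferInstance

end fwd
end H14S7134
namespace H14S7134
open IsLocalRing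

section bwd
variable (A B : Type u) [CommRing A] [IsDomain A] [IsDiscreteValuationRing A] [CommRing B]
  [IsDomain B] [IsDiscreteValuationRing B] [Algebra A B]

theorem flat_of_injective (hinj : Function.Injective (algebraMap A B)) : Module.Flat A B := by
  rw [Module.Flat.flat_iff_torsion_eq_bot_of_isBezout, eq_bot_iff]
  intro x hx
  rw [Submodule.mem_torsion_iff] at hx
  obtain ⟨a, ha⟩ := hx
  rw [Submodule.mem_bot]
  have ha0 : (a : A) ≠ 0 := nonZeroDivisors.coe_ne_zero a
  have h1 : algebraMap A B a * x = 0 := by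
    rw [← Algebra.smul_def]; exact ha
  rcases mul_eq_zero.1 h1 with h2 | h2
  · exact absurd (hinj (h2.trans (map_zero _).symm)) ha0
  · exact h2

theorem bwd (hinj : Function.Injective (algebraMap A B)) [IsLocalHom (algebraMap A B)]
    (hwu : (maximalIdeal A).map (algebraMap A B) = maximalIdeal B)
    (hsep : Algebra.IsGeometricallyReduced (ResidueField A) (ResidueField B)) :
    CAlgX.IsAdicFormallySmooth A B (maximalIdeal B) := by
  have fg : (maximalIdeal B).FG := (isNoetherianRing_iff_ideal_fg B).mp inferInstance _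
  rw [Groth.Agent.S9318.result (maximalIdeal B) fg]
  have hI : maximalIdeal B ≠ ⊤ := (maximalIdeal.isMaximal B).ne_top
  set Bh := AdicCompletion (maximalIdeal B) B with hBh
  haveI : IsLocalRing Bh := Groth.Agent.Lib.helper24.AdicLocal.isLocalRing B _ hI
  have hmax : maximalIdeal Bh = (maximalIdeal B).map (algebraMap B Bh) :=
    Groth.Agent.Lib.helper24.AdicLocal.maximalIdeal_eq_map B _ hI
  haveI hlocB : IsLocalHom (algebraMap B Bh) :=
    Groth.Agent.Lib.helper24.AdicLocal.isLocalHom B _ hI
  haveI : IsLocalHom (algebraMap A Bh) := by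
    rw [IsScalarTower.algebraMap_eq A B Bh]
    exact RingHom.isLocalHom_comp _ _
  haveI : IsNoetherianRing Bh := Groth.Agent.S0543.result B _
  haveI : Module.Flat A B := flat_of_injective A B hinj
  haveI : Module.Flat A Bh := Module.Flat.trans A B Bh
  have hmA : (maximalIdeal A).map (algebraMap A Bh) = maximalIdeal Bh := by
    rw [IsScalarTower.algebraMap_eq A B Bh, ← Ideal.map_map, hwu, hmax]
  have hcomplete : IsAdicComplete (maximalIdeal Bh) Bh := by
    rw [hmax]; exact AdicCompletion.isAdicComplete_self _ fg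
  -- residue fields
  haveI : Algebra.FormallySmooth (ResidueField A) (ResidueField B) :=
    Groth.Agent.S2451.result.2 hsep
  let f : ResidueField B →ₐ[ResidueField A] ResidueField Bh :=
    { ResidueField.map (algebraMap B Bh) with
      commutes' := fun x => by
        obtain ⟨a, rfl⟩ := residue_surjective x
        change ResidueField.map (algebraMap B Bh)
          (algebraMap (ResidueField A) (ResidueField B) (residue A a)) = _
        rw [ResidueField.algebraMap_residue, ResidueField.algebraMap_residue,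
          ResidueField.map_residue, ← IsScalarTower.algebraMap_apply] }
  have hf : Function.Bijective f :=
    Groth.Agent.Lib.helper24.AdicLocal.residueField_map_bijective B _ hI
  haveI : Algebra.FormallySmooth (ResidueField A) (ResidueField Bh) :=
    Algebra.FormallySmooth.of_equiv (AlgEquiv.ofBijective f hf)
  have hsep' : Algebra.IsGeometricallyReduced (ResidueField A) (ResidueField Bh) :=
    Groth.Agent.S2451.result.1 inferInstance
  have hcohen : EGA41.IsCohenAlgebra A Bh :=
    ⟨inferInstance, inferInstance, hcomplete, inferInstance, hmA, hsep'⟩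
  have h1 := Groth.Agent.S2454.result hcohen
  have h2 := adic_of_adicBase (maximalIdeal A) (maximalIdeal Bh) hmA.le h1
  rw [hmax] at h2
  exact h2

end bwd
end H14S7134

namespace Groth.Agent.S7134

/-- For an injective local homomorphism A → B of discrete valuation rings, A → B is formally smooth for
the adic topology of the maximal ideal of B if and only if A → B is weakly unramified and the
residue field of B is a separable (possibly transcendental, i.e. geometrically reduced) extension of
the residue field of A. -/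
theorem result (A B : Type u) [CommRing A]
    [IsDomain A] [IsDiscreteValuationRing A] [CommRing B] [IsDomain B] [IsDiscreteValuationRing B] [Algebra A B]
    (hinj : Function.Injective (algebraMap A B)) [IsLocalHom (algebraMap A B)] :
    CAlgX.IsAdicFormallySmooth A B (IsLocalRing.maximalIdeal B) ↔
      EtRam.IsWeaklyUnramified A B ∧
        Algebra.IsGeometricallyReduced (IsLocalRing.ResidueField A) (IsLocalRing.ResidueField B) := by
  constructor
  · intro h; exact H14S7134.fwd A B hinj h
  · rintro ⟨hwu, hsep⟩; exact H14S7134.bwd A B hinj hwu hsep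

end Groth.Agent.S7134
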