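import Groth.Statements.S7135
import Mathlib
import Groth.Agent.Lib.helper24.LinApprox

set_option autoImplicit false
universe u
open CAlg

namespace Groth.Agent.S7135

open Groth.Agent.Lib.helper24 in

/-- Let A be a Noetherian ring, I an ideal and M, N finite A-modules. If M/IⁿM and N/IⁿN are isomorphic
for every n, then the I-adic completions of M and N are isomorphic as modules over the I-adic
completion of A. -/
theorem result (A : Type u) [CommRing A] [IsNoetherianRing A] (I : Ideal A)
    (M N : Type u) [AddCommGroup M] [Module A M] [Module.Finite A M] [AddCommGroup N] [Module A N]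
    [Module.Finite A N]
    (h : ∀ n : ℕ, Nonempty ((M ⧸ (I ^ n • ⊤ : Submodule A M)) ≃ₗ[A] (N ⧸ (I ^ n • ⊤ : Submodule A N)))) :
    Nonempty (AdicCompletion I M ≃ₗ[AdicCompletion I A] AdicCompletion I N) := by
  obtain ⟨c₁, h₁⟩ := LinApprox.exists_approx A I M N
  obtain ⟨c₂, h₂⟩ := LinApprox.exists_approx A I N M
  obtain ⟨φ⟩ := h (max c₁ c₂ + 1)
  obtain ⟨u, hu⟩ := h₁ (max c₁ c₂ + 1) (by omega) φ.toLinearMap
  obtain ⟨w, hw⟩ := h₂ (max c₁ c₂ + 1) (by omega) φ.symm.toLinearMap
  have hu' : ∀ (m : M) (y : N), φ (Submodule.Quotient.mk m) = Submodule.Quotient.mk y →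
      u m - y ∈ I • (⊤ : Submodule A N) := by
    intro m y hmy
    exact Submodule.smul_mono (Ideal.pow_le_self (by omega)) le_rfl (hu m y hmy)
  have hw' : ∀ (y : N) (m : M), φ.symm (Submodule.Quotient.mk y) = Submodule.Quotient.mk m →
      w y - m ∈ I • (⊤ : Submodule A M) := by
    intro y m hmy
    exact Submodule.smul_mono (Ideal.pow_le_self (by omega)) le_rfl (hw y m hmy)
  have hmapw : ∀ x : N, x ∈ I • (⊤ : Submodule A N) → w x ∈ I • (⊤ : Submodule A M) := by
    intro x hx
    have : Submodule.map w (I • ⊤) ≤ I • ⊤ := by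
      rw [Submodule.map_smul'']
      exact Submodule.smul_mono le_rfl le_top
    exact this ⟨x, hx, rfl⟩
  have hmapu : ∀ x : M, x ∈ I • (⊤ : Submodule A M) → u x ∈ I • (⊤ : Submodule A N) := by
    intro x hx
    have : Submodule.map u (I • ⊤) ≤ I • ⊤ := by
      rw [Submodule.map_smul'']
      exact Submodule.smul_mono le_rfl le_top
    exact this ⟨x, hx, rfl⟩
  have hwu : ∀ m, (w ∘ₗ u) m - m ∈ I • (⊤ : Submodule A M) := by
    intro m
    obtain ⟨y, hy⟩ := Submodule.Quotient.mk_surjective _ (φ (Submodule.Quotient.mk m))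
    have h1 := hu' m y hy.symm
    have h2 : φ.symm (Submodule.Quotient.mk y) = Submodule.Quotient.mk m := by
      rw [hy, φ.symm_apply_apply]
    have h3 := hw' y m h2
    have : (w ∘ₗ u) m - m = w (u m - y) + (w y - m) := by
      rw [LinearMap.comp_apply, map_sub]
      abel
    rw [this]
    exact add_mem (hmapw _ h1) h3
  have huw : ∀ y, (u ∘ₗ w) y - y ∈ I • (⊤ : Submodule A N) := by
    intro y
    obtain ⟨m, hm⟩ := Submodule.Quotient.mk_surjective _ (φ.symm (Submodule.Quotient.mk y))
    have h1 := hw' y m hm.symm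
    have h2 : φ (Submodule.Quotient.mk m) = Submodule.Quotient.mk y := by
      rw [hm, φ.apply_symm_apply]
    have h3 := hu' m y h2
    have : (u ∘ₗ w) y - y = u (w y - m) + (u m - y) := by
      rw [LinearMap.comp_apply, map_sub]
      abel
    rw [this]
    exact add_mem (hmapu _ h1) h3
  have b1 := LinApprox.map_bijective_of_sub_id_mem I (w ∘ₗ u) hwu
  have b2 := LinApprox.map_bijective_of_sub_id_mem I (u ∘ₗ w) huw
  rw [← AdicCompletion.map_comp] at b1 b2
  have hinj : Function.Injective (AdicCompletion.map I u) := by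
    have := b1.1
    rw [LinearMap.coe_comp] at this
    exact Function.Injective.of_comp this
  have hsurj : Function.Surjective (AdicCompletion.map I u) := by
    have := b2.2
    rw [LinearMap.coe_comp] at this
    exact Function.Surjective.of_comp this
  exact ⟨LinearEquiv.ofBijective (AdicCompletion.map I u) ⟨hinj, hsurj⟩⟩

end Groth.Agent.S7135
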