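import Groth.Statements.S7136
import Mathlib
import Groth.Agent.Lib.helper24.HomAdic2

set_option autoImplicit false
universe u
open CAlg

namespace Groth.Agent.S7136

open Groth.Agent.Lib.helper24 in

/-- Let A be a Noetherian ring, I an ideal, and M, N finite A-modules; write N_n = N/IⁿN, so that
Hom_A(M/IⁿM, N_n) = Hom_A(M, N_n). Then (1) the inverse system (Hom_A(M, N_n))_n, with transition
maps induced by the projections N_k → N_n, is Mittag-Leffler; (2) there is c ≥ 0 such that for all n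
the kernel and the cokernel of Hom_A(M, N)/IⁿHom_A(M, N) → Hom_A(M, N_n) are annihilated by I^c. -/
theorem result (A : Type u) [CommRing A] [IsNoetherianRing A]
    (I : Ideal A) (M N : Type u) [AddCommGroup M] [Module A M] [Module.Finite A M] [AddCommGroup N] [Module A N]
    [Module.Finite A N] :
    let Nq : ℕ → Submodule A N := fun n => I ^ n • ⊤
    let pr : ∀ n k : ℕ, n ≤ k → (N ⧸ Nq k) →ₗ[A] (N ⧸ Nq n) :=
      fun n k hnk => Submodule.mapQ (Nq k) (Nq n) (LinearMap.id : N →ₗ[A] N) (Submodule.smul_mono_left (Ideal.pow_le_pow_right hnk))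
    let red : ∀ n : ℕ, (M →ₗ[A] N) → (M →ₗ[A] N ⧸ Nq n) := fun n φ => (Nq n).mkQ ∘ₗ φ
    (∀ n : ℕ, ∃ m : ℕ, n ≤ m ∧ ∀ (k : ℕ) (hmk : m ≤ k) (hnm : n ≤ m) (ψ : M →ₗ[A] N ⧸ Nq m),
        ∃ ψ' : M →ₗ[A] N ⧸ Nq k, pr n k (hnm.trans hmk) ∘ₗ ψ' = pr n m hnm ∘ₗ ψ) ∧
    ∃ c : ℕ, ∀ n : ℕ,
      (∀ φ : M →ₗ[A] N, red n φ = 0 → ∀ a ∈ I ^ c, a • φ ∈ (I ^ n • ⊤ : Submodule A (M →ₗ[A] N))) ∧
      (∀ (ψ : M →ₗ[A] N ⧸ Nq n), ∀ a ∈ I ^ c, ∃ φ : M →ₗ[A] N, red n φ = a • ψ) := by
  classical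
  intro Nq pr red
  obtain ⟨r, π, hπ, c₁, h₁⟩ := HomAdic.exists_lift_approx A I M N
  obtain ⟨c₀, h₀⟩ := HomAdic.exists_uniform A I M N
  have hπa : ∀ a : Fin r → A, π a = ∑ j, a j • π (Pi.single j 1) := by
    intro a
    conv_lhs => rw [← Finset.univ_sum_single a]
    rw [map_sum]
    apply Finset.sum_congr rfl
    intro j _
    rw [← map_smul]
    congr 1
    ext i
    simp [Pi.single_apply]
  have hext : ∀ (n : ℕ) (f g : M →ₗ[A] N ⧸ Nq n),
      (∀ j, f (π (Pi.single j 1)) = g (π (Pi.single j 1))) → f = g := by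
    intro n f g h
    refine LinearMap.ext fun x => ?_
    obtain ⟨a, rfl⟩ := hπ x
    rw [hπa, map_sum, map_sum]
    exact Finset.sum_congr rfl fun j _ => by rw [map_smul, map_smul, h j]
  -- a family of lifts is a homomorphism modulo `I^n`
  have hfam : ∀ (n : ℕ) (ψ : M →ₗ[A] N ⧸ Nq n) (y : Fin r → N),
      (∀ j, (Submodule.Quotient.mk (y j) : N ⧸ Nq n) = ψ (π (Pi.single j 1))) →
      ∀ a : Fin r → A, π a = 0 → ∑ j, a j • y j ∈ Nq n := by
    intro n ψ y hy a ha
    rw [← Submodule.Quotient.mk_eq_zero, ← Submodule.mkQ_apply, map_sum]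
    have : ψ (π a) = 0 := by rw [ha, map_zero]
    rw [hπa, map_sum] at this
    rw [← this]
    exact Finset.sum_congr rfl fun j _ => by
      rw [map_smul, map_smul, Submodule.mkQ_apply, hy j]
  constructor
  · intro n
    refine ⟨n + c₁, by omega, fun k hmk hnm ψ => ?_⟩
    choose y hy using fun j => Submodule.Quotient.mk_surjective _ (ψ (π (Pi.single j 1)))
    obtain ⟨u, hu⟩ := h₁ n y (hfam (n + c₁) ψ y hy)
    refine ⟨red k u, hext n _ _ fun j => ?_⟩
    show pr n k (hnm.trans hmk) (red k u _) = pr n (n + c₁) hnm (ψ _)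
    rw [← hy j]
    show (Submodule.Quotient.mk (u (π (Pi.single j 1))) : N ⧸ Nq n) = Submodule.Quotient.mk (y j)
    rw [Submodule.Quotient.eq]
    exact hu j
  · refine ⟨max c₀ c₁, fun n => ⟨?_, ?_⟩⟩
    · intro φ hφ a ha
      apply h₀
      rintro _ ⟨x, rfl⟩
      have hx : φ x ∈ Nq n := by
        rw [← Submodule.Quotient.mk_eq_zero]
        exact LinearMap.congr_fun hφ x
      have ha' : a ∈ I ^ c₀ := Ideal.pow_le_pow_right (le_max_left _ _) ha
      rw [LinearMap.smul_apply, add_comm, pow_add, Submodule.mul_smul]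
      exact Submodule.smul_mem_smul ha' hx
    · intro ψ a ha
      choose y hy using fun j => Submodule.Quotient.mk_surjective _ (ψ (π (Pi.single j 1)))
      have ha' : a ∈ I ^ c₁ := Ideal.pow_le_pow_right (le_max_right _ _) ha
      obtain ⟨u, hu⟩ := h₁ n (fun j => a • y j) (by
        intro b hb
        have h := hfam n ψ y hy b hb
        have : ∑ j, b j • a • y j = a • ∑ j, b j • y j := by
          rw [Finset.smul_sum]
          exact Finset.sum_congr rfl fun j _ => smul_comm _ _ _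
        rw [this, add_comm, pow_add, Submodule.mul_smul]
        exact Submodule.smul_mem_smul ha' h)
      refine ⟨u, hext n _ _ fun j => ?_⟩
      rw [LinearMap.smul_apply, ← hy j]
      show (Submodule.Quotient.mk (u (π (Pi.single j 1))) : N ⧸ Nq n) = a • Submodule.Quotient.mk (y j)
      rw [← Submodule.Quotient.mk_smul, Submodule.Quotient.eq]
      exact hu j

end Groth.Agent.S7136
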