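import Groth.Statements.S7140
import Mathlib

set_option autoImplicit false
universe u
open EtAlg

namespace Groth.Agent.S7140

open Polynomial

noncomputable section

/-- the universal ring ℤ[ζ_p] -/
abbrev OO (p : ℕ) : Type := AdjoinRoot (cyclotomic p ℤ)

variable (p : ℕ) (hp : p.Prime)

include hp in
lemma isDomain_OO : IsDomain (OO p) := by
  have hirr : Irreducible (cyclotomic p ℤ) := cyclotomic.irreducible hp.pos
  exact AdjoinRoot.isDomain_of_prime hirr.prime

include hp in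
lemma of_injective : Function.Injective (AdjoinRoot.of (cyclotomic p ℤ)) := by
  apply AdjoinRoot.of.injective_of_degree_ne_zero
  rw [degree_cyclotomic]
  have : 0 < Nat.totient p := Nat.totient_pos.mpr hp.pos
  exact_mod_cast this.ne'

include hp in
lemma charZero_OO : CharZero (OO p) :=
  charZero_of_injective_ringHom (of_injective p hp)

include hp in
lemma prim : IsPrimitiveRoot (AdjoinRoot.root (cyclotomic p ℤ)) p := by
  haveI := isDomain_OO p hp
  haveI := charZero_OO p hp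
  rw [← isRoot_cyclotomic_iff_charZero hp.pos]
  rw [IsRoot, ← map_cyclotomic p (AdjoinRoot.of (cyclotomic p ℤ)), eval_map]
  exact AdjoinRoot.eval₂_root _

include hp in
lemma w_ne_zero : (1 - AdjoinRoot.root (cyclotomic p ℤ) : OO p) ≠ 0 := by
  intro h
  have h1 : AdjoinRoot.root (cyclotomic p ℤ) = 1 := (sub_eq_zero.mp h).symm
  have := (prim p hp).ne_one hp.one_lt
  exact this h1

include hp in
lemma exists_u : ∃ u : OO p, (p : OO p) = u * (1 - AdjoinRoot.root (cyclotomic p ℤ)) ^ (p - 1) ∧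
    u + 1 ∈ Ideal.span {(1 - AdjoinRoot.root (cyclotomic p ℤ) : OO p)} := by
  haveI := isDomain_OO p hp
  set ζ : OO p := AdjoinRoot.root (cyclotomic p ℤ) with hζ
  set w : OO p := 1 - ζ with hw
  obtain ⟨n, rfl⟩ : ∃ n, p = n + 1 := ⟨p - 1, (Nat.succ_pred_eq_of_pos hp.pos).symm⟩
  have h1 := (prim (n + 1) hp).prod_one_sub_pow_eq_order
  set u : OO (n + 1) := ∏ k ∈ Finset.range n, ∑ l ∈ Finset.range (k + 1), ζ ^ l with hu
  have hpu : ((n + 1 : ℕ) : OO (n + 1)) = u * w ^ n := by
    rw [Nat.cast_add, Nat.cast_one, ← h1, hu]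
    have : ∀ k ∈ Finset.range n, (1 - ζ ^ (k + 1)) = (∑ l ∈ Finset.range (k + 1), ζ ^ l) * w := by
      intro k _
      rw [hw, mul_comm, mul_neg_geom_sum]
    rw [Finset.prod_congr rfl this, Finset.prod_mul_distrib, Finset.prod_const, Finset.card_range]
  refine ⟨u, by simpa using hpu, ?_⟩
  -- u ≡ n! mod w
  have hn1 : 1 ≤ n := by have := hp.two_le; omega
  have hpw : ((n + 1 : ℕ) : OO (n + 1)) ∈ Ideal.span {w} := by
    rw [hpu, Ideal.mem_span_singleton]
    exact Dvd.dvd.mul_left (dvd_pow_self w (by omega)) u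
  have hζ1 : Ideal.Quotient.mk (Ideal.span {w}) ζ = 1 := by
    have : ζ - 1 ∈ Ideal.span {w} := by
      rw [Ideal.mem_span_singleton]
      exact ⟨-1, by rw [hw]; ring⟩
    rw [← sub_eq_zero, ← map_one (Ideal.Quotient.mk (Ideal.span {w})), ← map_sub]
    exact Ideal.Quotient.eq_zero_iff_mem.mpr this
  have hu2 : Ideal.Quotient.mk (Ideal.span {w}) u = ((n.factorial : ℕ) : OO (n + 1) ⧸ Ideal.span {w}) := by
    rw [hu, map_prod]
    simp_rw [map_sum, map_pow, hζ1, one_pow, Finset.sum_const, Finset.card_range, nsmul_eq_mul,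
      mul_one]
    rw [← Finset.prod_range_add_one_eq_factorial, Nat.cast_prod]
  -- Wilson
  haveI : Fact (n + 1).Prime := ⟨hp⟩
  have hwil : (n + 1) ∣ n.factorial + 1 := by
    rw [← ZMod.natCast_eq_zero_iff]
    have := ZMod.wilsons_lemma (p := n + 1)
    simp only [Nat.add_sub_cancel] at this
    rw [Nat.cast_add, this]
    simp
  obtain ⟨c, hc⟩ := hwil
  rw [← Ideal.Quotient.eq_zero_iff_mem, map_add, hu2, map_one]
  have : ((n.factorial : ℕ) : OO (n + 1) ⧸ Ideal.span {w}) + 1 =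
      Ideal.Quotient.mk (Ideal.span {w}) (((n + 1 : ℕ) : OO (n + 1)) * (c : OO (n + 1))) := by
    rw [← Nat.cast_mul, ← hc]
    simp
  rw [this, Ideal.Quotient.eq_zero_iff_mem]
  exact Ideal.mul_mem_right _ _ hpw

def cc (p i : ℕ) : ℕ := p.choose i / p

lemma choose_eq {p : ℕ} (hp : p.Prime) {i : ℕ} (h0 : 0 < i) (h1 : i < p) : p.choose i = p * cc p i :=
  (Nat.mul_div_cancel' (hp.dvd_choose_self h0.ne' h1)).symm

/-- the polynomial -/
def PP {B : Type*} [CommRing B] (p : ℕ) (w u : B) : B[X] :=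
  X ^ p + ∑ i ∈ Finset.Ioo 0 p, C (u * (cc p i : B) * w ^ (i - 1)) * X ^ i

lemma PP_map {B B' : Type*} [CommRing B] [CommRing B'] (f : B →+* B') (p : ℕ) (w u : B) :
    (PP p w u).map f = PP p (f w) (f u) := by
  simp [PP, Polynomial.map_sum]

lemma key1 {B : Type*} [CommRing B] {p : ℕ} (hp : p.Prime) (w u : B)
    (hpu : (p : B) = u * w ^ (p - 1)) :
    C (w ^ p) * PP p w u = (1 + C w * X) ^ p - 1 := by
  rw [add_comm 1 (C w * X), add_pow, Finset.sum_range_succ, Finset.range_eq_Ico,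
    Finset.sum_eq_sum_Ico_succ_bot hp.pos, PP, mul_add, Finset.mul_sum]
  simp only [pow_zero, one_pow, mul_one, Nat.choose_zero_right, Nat.cast_one, Nat.sub_self,
    Nat.choose_self, zero_add]
  rw [mul_pow, ← C_pow]
  have : ∀ i ∈ Finset.Ico 1 p, (C w * X) ^ i * (p.choose i : B[X]) =
      C (w ^ p) * (C (u * (cc p i : B) * w ^ (i - 1)) * X ^ i) := by
    intro i hi
    obtain ⟨h0, h1⟩ := Finset.mem_Ico.mp hi
    rw [choose_eq hp h0 h1, Nat.cast_mul, ← C_eq_natCast, ← C_eq_natCast, hpu, mul_pow, ← C_pow,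
      ← mul_assoc (C (w ^ p)), ← C_mul, ← C_mul]
    have e : w ^ p * (u * (cc p i : B) * w ^ (i - 1)) = w ^ i * (u * w ^ (p - 1) * (cc p i : B)) := by
      have e1 : w ^ p * w ^ (i - 1) = w ^ i * w ^ (p - 1) := by
        rw [← pow_add, ← pow_add]; congr 1; omega
      linear_combination (u * (cc p i : B)) * e1
    rw [e, C_mul (a := w ^ i)]
    ring
  have hI : Finset.Ioo 0 p = Finset.Ico 1 p := by
    ext i; simp only [Finset.mem_Ioo, Finset.mem_Ico]; omega
  rw [hI, Finset.sum_congr rfl this]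
  ring

lemma key2 {B : Type*} [CommRing B] {p : ℕ} (hp : p.Prime) (w u : B)
    (hu1 : u + 1 ∈ Ideal.span {w}) :
    ∃ a : ℕ → B, (∀ i, a i ∈ Ideal.span {w}) ∧
      PP p w u = X ^ p - X + (Finset.Ioo 0 p).sum (fun i => C (a i) * X ^ i) := by
  refine ⟨fun i => if i = 1 then u + 1 else u * (cc p i : B) * w ^ (i - 1), ?_, ?_⟩
  · intro i
    by_cases hi : i = 1
    · simp only [hi, if_true]; exact hu1
    · simp only [hi, if_false]
      rcases Nat.eq_zero_or_pos i with h0 | h0
      · subst h0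
        have : cc p 0 = 0 := by
          simp only [cc, Nat.choose_zero_right]
          exact Nat.div_eq_of_lt hp.one_lt
        simp [this]
      · rw [Ideal.mem_span_singleton]
        exact Dvd.dvd.mul_left (dvd_pow_self w (by omega)) _
  · have h1 : (1 : ℕ) ∈ Finset.Ioo 0 p := Finset.mem_Ioo.mpr ⟨Nat.one_pos, hp.one_lt⟩
    have hc1 : cc p 1 = 1 := by
      simp only [cc, Nat.choose_one_right]
      exact Nat.div_self hp.pos
    rw [PP, ← Finset.add_sum_erase _ _ h1, ← Finset.add_sum_erase (a := 1) _ _ h1]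
    have : ∀ i ∈ (Finset.Ioo 0 p).erase 1,
        C (if i = 1 then u + 1 else u * (cc p i : B) * w ^ (i - 1)) * X ^ i =
        C (u * (cc p i : B) * w ^ (i - 1)) * X ^ i := by
      intro i hi
      rw [if_neg (Finset.ne_of_mem_erase hi)]
    rw [Finset.sum_congr rfl this]
    simp only [if_true, hc1, Nat.cast_one, mul_one, Nat.sub_self, pow_zero, pow_one, C_add, C_1]
    ring

lemma add_formula {D : Type*} [CommRing D] [IsDomain D] (p : ℕ) (w : D) (hw : w ≠ 0) (P : D[X])
    (hP : C (w ^ p) * P = (1 + C w * X) ^ p - 1) (t₁ t₂ : D) :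
    eval (t₁ + t₂ + w * t₁ * t₂) P = eval t₁ P + eval t₂ P + w ^ p * eval t₁ P * eval t₂ P := by
  have key : ∀ t, w ^ p * eval t P = (1 + w * t) ^ p - 1 := fun t => by
    simpa using congrArg (eval t) hP
  apply mul_left_cancel₀ (pow_ne_zero p hw)
  have h1 := key t₁
  have h2 := key t₂
  have h3 := key (t₁ + t₂ + w * t₁ * t₂)
  have e : (1 + w * (t₁ + t₂ + w * t₁ * t₂)) ^ p = (1 + w * t₁) ^ p * (1 + w * t₂) ^ p := by
    rw [← mul_pow]; congr 1; ring
  rw [e] at h3
  generalize (1 + w * t₁) ^ p = a at *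
  generalize (1 + w * t₂) ^ p = b at *
  generalize w ^ p = W at *
  linear_combination h3 - h1 - h2 - (W * eval t₂ P) * h1 - (a - 1) * h2

end

open Polynomial in
/-- Let p be a prime and A a ring with an element ζ satisfying 1 + ζ + ... + ζ^(p-1) = 0 (so that A is
an algebra over the ring of integers of the p-th cyclotomic field); set w = 1 - ζ. Then the
polynomial ((1 + wz)^p - 1)/w^p makes sense in A[z]: there is P in A[z] with w^p·P = (1 + wz)^p - 1,
of the form z^p - z + Σ_{0<i<p} a_i z^i with all a_i in the ideal (w), and P(z₁ + z₂ + w z₁ z₂) =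
P(z₁) + P(z₂) + w^p P(z₁)P(z₂) for all z₁, z₂ in any A-algebra. (The published statement asks only
for a primitive p-th root of unity; this row asks that ζ be a root of the p-th cyclotomic
polynomial, the case its proof treats. With ζ only of multiplicative order p the published statement
fails, for example for ζ = (1, e^{2πi/p}) in ℂ × ℂ.) -/
theorem result (p : ℕ) (hp : p.Prime) (A : Type u) [CommRing A] (ζ : A)
    (hζ : aeval ζ (cyclotomic p ℤ) = 0) :
    ∃ P : A[X], C ((1 - ζ) ^ p) * P = (1 + C (1 - ζ) * X) ^ p - 1 ∧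
      (∃ a : ℕ → A, (∀ i, a i ∈ Ideal.span {1 - ζ}) ∧
        P = X ^ p - X + (Finset.Ioo 0 p).sum (fun i => C (a i) * X ^ i)) ∧
      ∀ (S : Type u) [CommRing S] [Algebra A S] (z₁ z₂ : S),
        aeval (z₁ + z₂ + algebraMap A S (1 - ζ) * z₁ * z₂) P =
          aeval z₁ P + aeval z₂ P + algebraMap A S ((1 - ζ) ^ p) * aeval z₁ P * aeval z₂ P := by
  haveI := isDomain_OO p hp
  obtain ⟨u₀, hpu₀, hu₀⟩ := exists_u p hp
  set ζ₀ : OO p := AdjoinRoot.root (cyclotomic p ℤ) with hζ₀
  let lift : OO p →+* A := AdjoinRoot.lift (Int.castRingHom A) ζ (by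
    rw [← hζ, aeval_def]; congr 1)
  have hlζ : lift ζ₀ = ζ := AdjoinRoot.lift_root _
  have hlw : lift (1 - ζ₀) = 1 - ζ := by rw [map_sub, map_one, hlζ]
  have hpu : (p : A) = lift u₀ * (1 - ζ) ^ (p - 1) := by
    rw [← hlw, ← map_pow, ← map_mul, ← hpu₀, map_natCast]
  have hu1 : lift u₀ + 1 ∈ Ideal.span {1 - ζ} := by
    rw [Ideal.mem_span_singleton] at hu₀ ⊢
    have := map_dvd lift hu₀
    rwa [hlw, map_add, map_one] at this
  refine ⟨PP p (1 - ζ) (lift u₀), key1 hp _ _ hpu, key2 hp _ _ hu1, ?_⟩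
  intro S _ _ z₁ z₂
  -- universal identity
  have huniv := add_formula p (MvPolynomial.C (1 - ζ₀) : MvPolynomial (Fin 2) (OO p))
    (by
      intro h
      exact w_ne_zero p hp ((map_eq_zero_iff _ (MvPolynomial.C_injective _ _)).mp h))
    ((PP p (1 - ζ₀) u₀).map MvPolynomial.C)
    (by
      have := congrArg (Polynomial.map (MvPolynomial.C : OO p →+* MvPolynomial (Fin 2) (OO p)))
        (key1 hp (1 - ζ₀) u₀ hpu₀)
      simpa using this)
    (MvPolynomial.X 0) (MvPolynomial.X 1)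
  let ψ : MvPolynomial (Fin 2) (OO p) →+* S :=
    MvPolynomial.eval₂Hom ((algebraMap A S).comp lift) ![z₁, z₂]
  have hψC : ψ.comp MvPolynomial.C = (algebraMap A S).comp lift := by
    ext x <;> simp [ψ]
  have hψ : ∀ t : MvPolynomial (Fin 2) (OO p),
      ψ (eval t ((PP p (1 - ζ₀) u₀).map MvPolynomial.C)) = aeval (ψ t) (PP p (1 - ζ) (lift u₀)) := by
    intro t
    rw [← eval₂_at_apply, eval₂_map, hψC, ← hlw, ← PP_map, aeval_def, eval₂_map]
  have := congrArg ψ huniv
  simp only [map_add, map_mul, map_pow, hψ] at this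
  have hx0 : ψ (MvPolynomial.X 0) = z₁ := by simp [ψ]
  have hx1 : ψ (MvPolynomial.X 1) = z₂ := by simp [ψ]
  have hw : ψ (MvPolynomial.C (1 - ζ₀)) = algebraMap A S (1 - ζ) := by
    rw [← hlw]; simp [ψ]
  rw [hx0, hx1, hw] at this
  rw [this, map_pow]

end Groth.Agent.S7140
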