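import Groth.Statements.S7144
import Mathlib
-- import your own Groth.Agent.* helpers here

set_option autoImplicit false
universe u
open CAlg

namespace Groth.Agent.S7144

/-- (1) ⇔ (2): let R be a nonzero ring. Then for all a, b in R one of a, b divides the other if and only
if R is local and every finitely generated ideal of R is principal. (The further equivalence with
the total ordering of the set of ideals by inclusion is standard and not restated here.) -/
theorem result (R : Type u) [CommRing R] [Nontrivial R] :
    PreValuationRing R ↔ IsLocalRing R ∧ IsBezout R := by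
  constructor
  · intro h
    refine ⟨inferInstance, ?_⟩
    classical
    rw [IsBezout.iff_span_pair_isPrincipal]
    intro x y
    rw [Ideal.span_insert]
    rcases le_total (Ideal.span {x} : Ideal R) (Ideal.span {y}) with h | h
    · rw [sup_eq_right.mpr h]; exact ⟨⟨_, rfl⟩⟩
    · rw [sup_eq_left.mpr h]; exact ⟨⟨_, rfl⟩⟩
  · rintro ⟨hl, hb⟩
    refine PreValuationRing.iff_dvd_total.mpr ⟨fun a b => ?_⟩
    obtain ⟨g, e : _ = Ideal.span _⟩ := IsBezout.span_pair_isPrincipal a b
    obtain ⟨a, rfl⟩ := Ideal.mem_span_singleton'.mp
        (show a ∈ Ideal.span {g} by rw [← e]; exact Ideal.subset_span (by simp))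
    obtain ⟨b, rfl⟩ := Ideal.mem_span_singleton'.mp
        (show b ∈ Ideal.span {g} by rw [← e]; exact Ideal.subset_span (by simp))
    obtain ⟨x, y, e'⟩ := Ideal.mem_span_pair.mp
        (show g ∈ Ideal.span {a * g, b * g} by rw [e]; exact Ideal.subset_span (by simp))
    -- (1 - (x a + y b)) g = 0
    have hg : (1 - (x * a + y * b)) * g = 0 := by
      have : (x * a + y * b) * g = g := by linear_combination e'
      rw [sub_mul, one_mul, this, sub_self]
    rcases IsLocalRing.isUnit_or_isUnit_one_sub_self (x * a + y * b) with hu | hu
    · -- x a + y b unit; so x a or y b is a unit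
      have hor : IsUnit (x * a) ∨ IsUnit (y * b) := by
        by_contra hcon
        rw [not_or] at hcon
        have h1 : x * a ∈ IsLocalRing.maximalIdeal R := (IsLocalRing.mem_maximalIdeal _).mpr hcon.1
        have h2 : y * b ∈ IsLocalRing.maximalIdeal R := (IsLocalRing.mem_maximalIdeal _).mpr hcon.2
        have h3 := (IsLocalRing.maximalIdeal R).add_mem h1 h2
        exact (IsLocalRing.mem_maximalIdeal _).mp h3 hu
      rcases hor with h' | h'
      · left
        exact mul_dvd_mul_right (isUnit_iff_forall_dvd.mp (isUnit_of_mul_isUnit_right h') _) _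
      · right
        exact mul_dvd_mul_right (isUnit_iff_forall_dvd.mp (isUnit_of_mul_isUnit_right h') _) _
    · have hg0 : g = 0 := by
        obtain ⟨u, hu'⟩ := hu
        have : (u : R) * g = 0 := by rw [hu']; exact hg
        calc g = (↑u⁻¹ * (u : R)) * g := by rw [Units.inv_mul, one_mul]
          _ = ↑u⁻¹ * ((u : R) * g) := by ring
          _ = 0 := by rw [this, mul_zero]
      left
      rw [hg0]; simp

end Groth.Agent.S7144
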