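import Groth.Statements.S7145
import Mathlib

set_option autoImplicit false
universe u
open CategoryTheory CategoryTheory.Limits
open CAlg

namespace Groth.Agent.S7145
open CategoryTheory

section helpers



variable {R : Type u} [CommRing R]

/-- subcomplex given by a family of submodules stable under the differential -/
noncomputable def subCx (F : CochainComplex (ModuleCat.{u} R) ℤ) (Gs : ∀ n, Submodule R (F.X n))
    (h : ∀ i j, ∀ x ∈ Gs i, (F.d i j).hom x ∈ Gs j) : CochainComplex (ModuleCat.{u} R) ℤ where
  X n := ModuleCat.of R (Gs n)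
  d i j := ModuleCat.ofHom ((F.d i j).hom.restrict (h i j))
  shape i j hij := by
    apply ModuleCat.hom_ext
    ext x
    simp [F.shape i j hij]
  d_comp_d' i j k _ _ := by
    apply ModuleCat.hom_ext
    ext x
    have h1 : (F.d i j ≫ F.d j k).hom x.1 = 0 := by rw [F.d_comp_d]; rfl
    exact h1

noncomputable def subι (F : CochainComplex (ModuleCat.{u} R) ℤ) (Gs : ∀ n, Submodule R (F.X n))
    (h : ∀ i j, ∀ x ∈ Gs i, (F.d i j).hom x ∈ Gs j) : subCx F Gs h ⟶ F where
  f n := ModuleCat.ofHom (Gs n).subtype
  comm' i j _ := by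
    apply ModuleCat.hom_ext
    ext x
    rfl

section main

variable (F : CochainComplex (ModuleCat.{u} R) ℤ) [hfree : ∀ n : ℤ, Module.Free R (F.X n)]

/-- basis index -/
abbrev BI (n : ℤ) : Type u := Module.Free.ChooseBasisIndex R (F.X n)

noncomputable abbrev bas (n : ℤ) : Module.Basis (BI F n) R (F.X n) := Module.Free.chooseBasis R (F.X n)

/-- vertices: basis elements in all degrees -/
abbrev V : Type u := Σ n : ℤ, BI F n

/-- successor relation -/
def r (x y : V F) : Prop :=
  x.1 + 1 = y.1 ∧ ((bas F y.1).repr ((F.d x.1 y.1).hom (bas F x.1 x.2))) y.2 ≠ 0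

theorem succ_finite (x : V F) : {y : V F | r F x y}.Finite := by
  classical
  let T : Finset (BI F (x.1+1)) :=
    ((bas F (x.1+1)).repr ((F.d x.1 (x.1+1)).hom (bas F x.1 x.2))).support
  apply Set.Finite.subset (T.image (fun e => (⟨x.1+1, e⟩ : V F))).finite_toSet
  rintro ⟨m, e⟩ ⟨h1, h2⟩
  dsimp only at h1 h2
  subst h1
  simp only [Finset.coe_image, Set.mem_image, Finset.mem_coe]
  exact ⟨e, Finsupp.mem_support_iff.mpr h2, rfl⟩

theorem reach_finite (b : ℤ) (hb : ∀ n : ℤ, b < n → Limits.IsZero (F.X n)) :
    ∀ (k : ℕ) (x : V F), b - x.1 < k → {y : V F | Relation.ReflTransGen (r F) x y}.Finite := by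
  intro k
  induction k with
  | zero =>
    intro x hx
    have hz : Limits.IsZero (F.X x.1) := hb x.1 (by push_cast at hx; omega)
    have hs : Subsingleton (F.X x.1) := ModuleCat.subsingleton_of_isZero hz
    have hno : ∀ y, ¬ r F x y := by
      intro y hy
      apply hy.2
      have : (bas F x.1) x.2 = 0 := Subsingleton.elim _ _
      rw [this, map_zero, map_zero]
      rfl
    apply Set.Finite.subset (Set.finite_singleton x)
    intro y hy
    rcases Relation.ReflTransGen.cases_head hy with h | ⟨x', h1, _⟩
    · exact h.symm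
    · exact absurd h1 (hno x')
  | succ k ih =>
    intro x hx
    have hsub : {y : V F | Relation.ReflTransGen (r F) x y} ⊆
        {x} ∪ ⋃ x' ∈ {y : V F | r F x y}, {y : V F | Relation.ReflTransGen (r F) x' y} := by
      intro y hy
      rcases Relation.ReflTransGen.cases_head hy with h | ⟨x', h1, h2⟩
      · left; exact h.symm
      · right
        exact Set.mem_biUnion (show x' ∈ {y : V F | r F x y} from h1) h2
    apply Set.Finite.subset _ hsub
    apply Set.Finite.union (Set.finite_singleton x)
    apply Set.Finite.biUnion (succ_finite F x)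
    intro x' hx'
    apply ih
    have : x.1 + 1 = x'.1 := hx'.1
    push_cast at hx
    omega

end main



end helpers

/-- Let R be a ring and F a cochain complex of free R-modules that is zero in all sufficiently large
degrees. Given finitely many elements f_i of F, f_i lying in degree n_i, there is a subcomplex G of
F (a map of complexes G → F injective in every degree) through which every f_i passes, such that G
is zero outside a finite range of degrees and each term of G is a finitely generated free R-module. -/
theorem result (R : Type u) [CommRing R]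
    (F : CochainComplex (ModuleCat.{u} R) ℤ) (hfree : ∀ n : ℤ, Module.Free R (F.X n))
    (b : ℤ) (hb : ∀ n : ℤ, b < n → IsZero (F.X n))
    (N : ℕ) (deg : Fin N → ℤ) (f : ∀ i : Fin N, F.X (deg i)) :
    ∃ (G : CochainComplex (ModuleCat.{u} R) ℤ) (ι : G ⟶ F),
      (∀ n : ℤ, Function.Injective (ι.f n)) ∧
      (∃ a c : ℤ, ∀ n : ℤ, (n < a ∨ c < n) → IsZero (G.X n)) ∧
      (∀ n : ℤ, Module.Finite R (G.X n) ∧ Module.Free R (G.X n)) ∧
      ∀ i : Fin N, f i ∈ Set.range (ι.f (deg i)) := by
  classical
  -- seeds
  let Sd : Set (V F) := ⋃ i : Fin N, (fun e => (⟨deg i, e⟩ : V F)) ''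
    (((bas F (deg i)).repr (f i)).support : Set (BI F (deg i)))
  have hSdfin : Sd.Finite :=
    Set.finite_iUnion (fun i => Set.Finite.image _ (Finset.finite_toSet _))
  let S : Set (V F) := ⋃ x ∈ Sd, {y : V F | Relation.ReflTransGen (r F) x y}
  have hSfin : S.Finite := by
    apply Set.Finite.biUnion hSdfin
    intro x _
    exact reach_finite F b hb (b - x.1).toNat.succ x (by push_cast; omega)
  have hSclosed : ∀ x ∈ S, ∀ y, r F x y → y ∈ S := by
    intro x hx y hxy
    simp only [S, Set.mem_iUnion, Set.mem_ofPred_eq] at hx ⊢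
    obtain ⟨x0, hx0, h⟩ := hx
    exact ⟨x0, hx0, h.tail hxy⟩
  let Sn : ∀ n : ℤ, Set (BI F n) := fun n => {e | (⟨n, e⟩ : V F) ∈ S}
  have hSnfin : ∀ n, (Sn n).Finite := by
    intro n
    have : (Sn n) = (fun e => (⟨n, e⟩ : V F)) ⁻¹' S := rfl
    rw [this]
    apply Set.Finite.preimage _ hSfin
    intro e _ e' _ h
    simpa using h
  let Gs : ∀ n, Submodule R (F.X n) := fun n =>
    Submodule.span R (Set.range (fun e : Sn n => bas F n e.1))
  have hrange : ∀ n, Set.range (fun e : Sn n => bas F n e.1) = bas F n '' (Sn n) := by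
    intro n
    ext x
    simp
  have hGs : ∀ n (m : F.X n), m ∈ Gs n ↔ (((bas F n).repr m).support : Set (BI F n)) ⊆ Sn n := by
    intro n m
    simp only [Gs, hrange]
    exact (bas F n).mem_span_image
  have hstable : ∀ i j, ∀ x ∈ Gs i, (F.d i j).hom x ∈ Gs j := by
    intro i j x hx
    have : Submodule.map (F.d i j).hom (Gs i) ≤ Gs j := by
      simp only [Gs]
      rw [Submodule.map_span, Submodule.span_le]
      rintro _ ⟨_, ⟨e, rfl⟩, rfl⟩
      show (F.d i j).hom (bas F i e.1) ∈ Gs j
      rw [hGs]
      intro e' he'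
      by_cases hij : i + 1 = j
      · exact hSclosed ⟨i, e.1⟩ e.2 ⟨j, e'⟩ ⟨hij, Finsupp.mem_support_iff.mp he'⟩
      · exfalso
        have h0 : F.d i j = 0 := F.shape i j hij
        rw [h0] at he'
        simp at he'
    exact this (Submodule.mem_map_of_mem hx)
  refine ⟨subCx F Gs hstable, subι F Gs hstable, ?_, ?_, ?_, ?_⟩
  · intro n
    exact Subtype.val_injective
  · -- boundedness
    obtain ⟨a', ha'⟩ := (Finset.univ.image (fun i => - deg i)).exists_le
    obtain ⟨a, rfl⟩ : ∃ a, a' = -a := ⟨-a', by ring⟩
    have ha : ∀ i, a ≤ deg i := fun i => by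
      have := ha' _ (Finset.mem_image_of_mem (fun i => - deg i) (Finset.mem_univ i))
      omega
    have hdeg : ∀ y ∈ S, a ≤ y.1 := by
      intro y hy
      simp only [S, Set.mem_iUnion, Set.mem_ofPred_eq] at hy
      obtain ⟨x0, hx0, h⟩ := hy
      have hx0a : a ≤ x0.1 := by
        simp only [Sd, Set.mem_iUnion] at hx0
        obtain ⟨i, e, _, rfl⟩ := hx0
        exact ha i
      induction h with
      | refl => exact hx0a
      | tail _ hr ih =>
        have := hr.1
        omega
    refine ⟨a, b, fun n hn => ?_⟩
    have hsub : Subsingleton (Gs n) := by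
      rcases hn with hn | hn
      · have hempty : Sn n = ∅ := by
          ext e
          simp only [Set.mem_empty_iff_false, iff_false]
          intro he
          have := hdeg ⟨n, e⟩ he
          dsimp only at this
          omega
        have hbot : Gs n = ⊥ := by
          simp only [Gs, hrange, hempty, Set.image_empty, Submodule.span_empty]
        rw [hbot]
        infer_instance
      · have hs : Subsingleton (F.X n) := ModuleCat.subsingleton_of_isZero (hb n hn)
        infer_instance
    have : Subsingleton ((subCx F Gs hstable).X n) := hsub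
    exact ModuleCat.isZero_of_subsingleton _
  · intro n
    constructor
    · show Module.Finite R (Gs n)
      have : Finite (Sn n) := (hSnfin n).to_subtype
      exact Module.Finite.span_of_finite R (Set.finite_range _)
    · show Module.Free R (Gs n)
      have hli : LinearIndependent R (fun e : Sn n => bas F n e.1) :=
        (bas F n).linearIndependent.comp _ Subtype.val_injective
      exact Module.Free.of_basis (Module.Basis.span hli)
  · intro i
    have : f i ∈ Gs (deg i) := by
      rw [hGs]
      intro e he
      show (⟨deg i, e⟩ : V F) ∈ S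
      simp only [S, Set.mem_iUnion, Set.mem_ofPred_eq]
      refine ⟨⟨deg i, e⟩, ?_, Relation.ReflTransGen.refl⟩
      simp only [Sd, Set.mem_iUnion]
      exact ⟨i, e, he, rfl⟩
    exact ⟨⟨f i, this⟩, rfl⟩

end Groth.Agent.S7145
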