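import Groth.Statements.S7146
import Mathlib
-- import your own Groth.Agent.* helpers here

set_option autoImplicit false
universe u
open Filter
open CAlg

namespace Groth.Agent.S7146

namespace H5S7146
open Filter

section alg
variable {R : Type u} [CommRing R] {d : ℕ} (g : Fin d → R)

/-- monomials of degree `n` in the `g i` -/
noncomputable def mon (n : ℕ) (s : Sym (Fin d) n) : R := (s.1.map g).prod

theorem mon_mem_pow (n : ℕ) (s : Sym (Fin d) n) : mon g n s ∈ Ideal.span (Set.range g) ^ n := by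
  induction n with
  | zero => simp
  | succ n ih =>
    obtain ⟨a, s, rfl⟩ := Sym.exists_eq_cons_of_succ s
    have : mon g (n + 1) (a ::ₛ s) = g a * mon g n s := by
      simp [mon, Sym.cons]
    rw [this, pow_succ']
    exact Ideal.mul_mem_mul (Ideal.subset_span ⟨a, rfl⟩) (ih s)

theorem pow_le_span_mon (n : ℕ) :
    Ideal.span (Set.range g) ^ n ≤ Ideal.span (Set.range (mon g n)) := by
  induction n with
  | zero =>
    rw [pow_zero, Ideal.one_eq_top, top_le_iff, Ideal.eq_top_iff_one]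
    apply Ideal.subset_span
    refine ⟨Sym.nil, ?_⟩
    simp [mon]
  | succ n ih =>
    rw [pow_succ']
    refine (Ideal.mul_mono_right ih).trans ?_
    rw [Ideal.span_mul_span', Ideal.span_le]
    rintro _ ⟨_, ⟨a, rfl⟩, _, ⟨s, rfl⟩, rfl⟩
    apply Ideal.subset_span
    refine ⟨a ::ₛ s, ?_⟩
    simp [mon, Sym.cons]

end alg

section len
variable {R : Type u} [CommRing R] {d : ℕ} (g : Fin d → R)

local notation "I" => Ideal.span (Set.range g)

/-- multiplication by a monomial, `R/I → R/I^(n+1)` -/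
noncomputable def mu (n : ℕ) (s : Sym (Fin d) n) : (R ⧸ I) →ₗ[R] (R ⧸ I ^ (n + 1)) :=
  Submodule.liftQ I ((Submodule.mkQ (I ^ (n + 1))) ∘ₗ (LinearMap.mulLeft R (mon g n s))) (by
    intro x hx
    rw [LinearMap.mem_ker, LinearMap.comp_apply, LinearMap.mulLeft_apply, Submodule.mkQ_apply,
      Submodule.Quotient.mk_eq_zero, pow_succ]
    exact Ideal.mul_mem_mul (mon_mem_pow g n s) hx)

theorem mu_mk (n : ℕ) (s : Sym (Fin d) n) (x : R) :
    mu g n s (Submodule.Quotient.mk x) = Submodule.Quotient.mk (mon g n s * x) := rfl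

noncomputable def Psi (n : ℕ) : (Sym (Fin d) n → R ⧸ I) →ₗ[R] (R ⧸ I ^ (n + 1)) :=
  ∑ s : Sym (Fin d) n, (mu g n s) ∘ₗ (LinearMap.proj s)

theorem ker_le_range (n : ℕ) :
    LinearMap.ker (Submodule.factor (Ideal.pow_le_pow_right (Nat.le_succ n)) :
      (R ⧸ I ^ (n + 1)) →ₗ[R] (R ⧸ I ^ n)) ≤ LinearMap.range (Psi g n) := by
  intro y hy
  obtain ⟨x, rfl⟩ := Submodule.Quotient.mk_surjective _ y
  rw [LinearMap.mem_ker, ← Submodule.mkQ_apply, Submodule.factor_mk, Submodule.mkQ_apply,
    Submodule.Quotient.mk_eq_zero] at hy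
  have hx := pow_le_span_mon g n hy
  rw [Ideal.span, Submodule.mem_span_range_iff_exists_fun] at hx
  obtain ⟨c, hc⟩ := hx
  refine ⟨fun s => Submodule.Quotient.mk (c s), ?_⟩
  simp only [Psi, LinearMap.sum_apply, LinearMap.comp_apply, LinearMap.proj_apply, mu_mk]
  rw [← hc]
  rw [← Submodule.mkQ_apply, map_sum]
  refine Finset.sum_congr rfl fun s _ => ?_
  rw [Submodule.mkQ_apply, smul_eq_mul, mul_comm]

theorem length_step (n : ℕ) :
    Module.length R (R ⧸ I ^ (n + 1)) ≤
      Module.length R (R ⧸ I ^ n) + (Nat.multichoose d n : ℕ∞) * Module.length R (R ⧸ I) := by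
  let fac : (R ⧸ I ^ (n + 1)) →ₗ[R] (R ⧸ I ^ n) :=
    Submodule.factor (Ideal.pow_le_pow_right (Nat.le_succ n))
  have hsurj : Function.Surjective fac := Submodule.factor_surjective _
  rw [Module.length_eq_add_of_exact (LinearMap.ker fac).subtype fac (Submodule.subtype_injective _)
    hsurj (LinearMap.exact_subtype_ker_map fac), add_comm]
  gcongr
  calc Module.length R (LinearMap.ker fac)
      ≤ Module.length R (LinearMap.range (Psi g n)) :=
        Module.length_le_of_injective (Submodule.inclusion (ker_le_range g n))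
          (Submodule.inclusion_injective _)
    _ ≤ Module.length R (Sym (Fin d) n → R ⧸ I) :=
        Module.length_le_of_surjective (Psi g n).rangeRestrict (LinearMap.surjective_rangeRestrict _)
    _ = (Nat.multichoose d n : ℕ∞) * Module.length R (R ⧸ I) := by
        rw [Module.length_pi, ENat.card_eq_coe_fintype_card, Sym.card_sym_eq_multichoose,
          Fintype.card_fin]

theorem length_bound (n : ℕ) :
    Module.length R (R ⧸ I ^ (n + 1)) ≤ (Nat.multichoose (d + 1) n : ℕ∞) * Module.length R (R ⧸ I) := by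
  induction n with
  | zero =>
    refine (length_step g 0).trans ?_
    have : Subsingleton (R ⧸ I ^ 0) := by
      rw [pow_zero, Ideal.one_eq_top]
      exact Submodule.Quotient.subsingleton_iff.mpr rfl
    rw [Module.length_eq_zero, zero_add, Nat.multichoose_zero_right, Nat.multichoose_zero_right]
  | succ n ih =>
    refine (length_step g (n + 1)).trans ?_
    rw [Nat.multichoose_succ_succ d n, Nat.cast_add, add_mul, add_comm]
    gcongr

end len

section analysis
open Topology

theorem real_bound (d n L t : ℕ) (ht : t ≤ Nat.multichoose (d + 1) n * L) :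
    (d.factorial : ℝ) * (t : ℝ) / ((n + 1 : ℕ) : ℝ) ^ d ≤
      (L : ℝ) * (1 + (d : ℝ) * (1 / ((n : ℝ) + 1))) ^ d := by
  have hN : (0 : ℝ) < (n : ℝ) + 1 := by positivity
  have hch : Nat.multichoose (d + 1) n = (n + d).choose d := by
    rw [Nat.multichoose_eq]
    have : d + 1 + n - 1 = n + d := by omega
    rw [this, Nat.choose_symm_add]
  have h1 : ((n + d).choose d : ℝ) ≤ ((n + d : ℕ) : ℝ) ^ d / (d.factorial : ℝ) :=
    Nat.choose_le_pow_div d (n + d)
  have hfac : (0 : ℝ) < (d.factorial : ℝ) := by exact_mod_cast Nat.factorial_pos d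
  have h2 : (d.factorial : ℝ) * ((n + d).choose d : ℝ) ≤ ((n : ℝ) + d) ^ d := by
    have := mul_le_mul_of_nonneg_left h1 hfac.le
    rw [mul_div_cancel₀ _ hfac.ne'] at this
    push_cast at this
    exact this
  have h3 : (t : ℝ) ≤ ((n + d).choose d : ℝ) * L := by
    rw [hch] at ht
    exact_mod_cast ht
  have h4 : (d.factorial : ℝ) * (t : ℝ) ≤ ((n : ℝ) + d) ^ d * L := by
    calc (d.factorial : ℝ) * (t : ℝ) ≤ (d.factorial : ℝ) * (((n + d).choose d : ℝ) * L) :=
          mul_le_mul_of_nonneg_left h3 hfac.le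
      _ = ((d.factorial : ℝ) * ((n + d).choose d : ℝ)) * L := by ring
      _ ≤ ((n : ℝ) + d) ^ d * L := mul_le_mul_of_nonneg_right h2 (by positivity)
  have h5 : ((n : ℝ) + d) / ((n : ℝ) + 1) ≤ 1 + (d : ℝ) * (1 / ((n : ℝ) + 1)) := by
    rw [div_le_iff₀ hN]
    have : (1 + (d : ℝ) * (1 / ((n : ℝ) + 1))) * ((n : ℝ) + 1) = (n : ℝ) + 1 + d := by
      field_simp
    rw [this]; linarith
  have h6 : (((n : ℝ) + d) / ((n : ℝ) + 1)) ^ d ≤ (1 + (d : ℝ) * (1 / ((n : ℝ) + 1))) ^ d :=
    pow_le_pow_left₀ (by positivity) h5 d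
  calc (d.factorial : ℝ) * (t : ℝ) / ((n + 1 : ℕ) : ℝ) ^ d
      ≤ ((n : ℝ) + d) ^ d * L / ((n + 1 : ℕ) : ℝ) ^ d := by gcongr
    _ = (L : ℝ) * (((n : ℝ) + d) / ((n : ℝ) + 1)) ^ d := by
        push_cast; rw [div_pow]; ring
    _ ≤ (L : ℝ) * (1 + (d : ℝ) * (1 / ((n : ℝ) + 1))) ^ d :=
        mul_le_mul_of_nonneg_left h6 (by positivity)

theorem real_limit (d L : ℕ) :
    Tendsto (fun n : ℕ => (L : ℝ) * (1 + (d : ℝ) * (1 / ((n : ℝ) + 1))) ^ d) atTop (𝓝 (L : ℝ)) := by
  have h0 : Tendsto (fun n : ℕ => 1 / ((n : ℝ) + 1)) atTop (𝓝 0) :=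
    tendsto_one_div_add_atTop_nhds_zero_nat
  have h1 : Tendsto (fun n : ℕ => (1 + (d : ℝ) * (1 / ((n : ℝ) + 1))) ^ d) atTop
      (𝓝 ((1 + (d : ℝ) * 0) ^ d)) :=
    ((h0.const_mul (d : ℝ)).const_add 1).pow d
  have h2 := h1.const_mul (L : ℝ)
  simpa using h2

end analysis

theorem main (R : Type u) [CommRing R] (d : ℕ) (g : Fin d → R) (e : ℕ)
    (he : Tendsto (fun n : ℕ => (d.factorial : ℝ) * ((Module.length R (R ⧸ Ideal.span (Set.range g) ^ n)).toNat : ℝ) / (n : ℝ) ^ d)
      atTop (nhds (e : ℝ))) :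
    (e : ℕ∞) ≤ Module.length R (R ⧸ Ideal.span (Set.range g)) := by
  rcases eq_or_ne (Module.length R (R ⧸ Ideal.span (Set.range g))) ⊤ with htop | hfin
  · rw [htop]; exact le_top
  obtain ⟨L, hL⟩ := ENat.ne_top_iff_exists.mp hfin
  rw [← hL]
  have key : ∀ n : ℕ, (d.factorial : ℝ) *
      ((Module.length R (R ⧸ Ideal.span (Set.range g) ^ (n + 1))).toNat : ℝ) / ((n + 1 : ℕ) : ℝ) ^ d ≤
      (L : ℝ) * (1 + (d : ℝ) * (1 / ((n : ℝ) + 1))) ^ d := by
    intro n
    apply real_bound
    have := length_bound g n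
    rw [← hL] at this
    apply ENat.toNat_le_of_le_natCast
    exact_mod_cast this
  have hlim := real_limit d L
  have hsub := he.comp (tendsto_add_atTop_nat 1)
  have : (e : ℝ) ≤ (L : ℝ) := le_of_tendsto_of_tendsto' hsub hlim (fun n => by
    simpa using key n)
  exact_mod_cast this

end H5S7146

/-- Let R be a Noetherian local ring of Krull dimension d and I the ideal generated by a system of
parameters g_1, ..., g_d (d elements of the maximal ideal generating an ideal with radical the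
maximal ideal); let e_I be the multiplicity of I, i.e. d! times the top coefficient of the numerical
polynomial n ↦ length(R/I^(n+1)), equivalently the limit of d!·length(R/Iⁿ)/n^d. Then e_I ≤
length(R/I). (Stated for a natural number e equal to that limit.) -/
theorem result (R : Type u) [CommRing R] [IsNoetherianRing R] [IsLocalRing R]
    (d : ℕ) (hd : ringKrullDim R = d) (g : Fin d → R) (hg : ∀ i, g i ∈ IsLocalRing.maximalIdeal R)
    (hsop : IsLocalRing.maximalIdeal R ≤ (Ideal.span (Set.range g)).radical) (e : ℕ)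
    (he : Tendsto (fun n : ℕ => (d.factorial : ℝ) * ((Module.length R (R ⧸ Ideal.span (Set.range g) ^ n)).toNat : ℝ) / (n : ℝ) ^ d)
      atTop (nhds (e : ℝ))) :
    (e : ℕ∞) ≤ Module.length R (R ⧸ Ideal.span (Set.range g)) := by
  exact H5S7146.main R d g e he

end Groth.Agent.S7146
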