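import Groth.Statements.S7147
import Mathlib

set_option autoImplicit false
universe u
open CAlg

namespace Groth.Agent.S7147

namespace S7147
variable (R : Type u) [CommRing R] (M : Type u) [AddCommGroup M] [Module R M]
  (x : Ideal R) [x.IsMaximal] (r : ℕ) (s : Fin r → M)

/-- The submodule `B(x)`. -/
noncomputable def Bx : Submodule (R ⧸ x) (M ⧸ (x • ⊤ : Submodule R M)) :=
  Submodule.span (R ⧸ x) ((x • ⊤ : Submodule R M).mkQ '' {m : M | ∀ φ : M →ₗ[R] R, φ m ∈ x})

variable {R M x}

theorem mk_smul_mk (a : R) (m : M) :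
    (Ideal.Quotient.mk x a) • ((x • ⊤ : Submodule R M).mkQ m) = (x • ⊤ : Submodule R M).mkQ (a • m) :=
  rfl

theorem map_mem_of_mem_smul (φ : M →ₗ[R] R) {m : M} (hm : m ∈ (x • ⊤ : Submodule R M)) : φ m ∈ x := by
  refine Submodule.smul_induction_on (p := fun m => φ m ∈ x) hm ?_ ?_
  · intro a ha n _
    rw [map_smul, smul_eq_mul]
    exact Ideal.mul_mem_right _ _ ha
  · intro y z hy hz
    rw [map_add]; exact Ideal.add_mem _ hy hz

/-- the induced functional on `M(x)` vanishes on `B(x)`. -/
theorem map_mem_of_mkQ_mem_Bx (φ : M →ₗ[R] R) :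
    ∀ y ∈ Bx R M x, ∀ m : M, (x • ⊤ : Submodule R M).mkQ m = y → φ m ∈ x := by
  intro y hy
  refine Submodule.span_induction
    (p := fun y _ => ∀ m : M, (x • ⊤ : Submodule R M).mkQ m = y → φ m ∈ x) ?_ ?_ ?_ ?_ hy
  · rintro _ ⟨m₀, hm₀, rfl⟩ m hm
    have h1 : m - m₀ ∈ (x • ⊤ : Submodule R M) := by
      rw [← Submodule.Quotient.mk_eq_zero, Submodule.Quotient.mk_sub, sub_eq_zero]
      exact hm
    have h2 := map_mem_of_mem_smul φ h1
    rw [map_sub] at h2
    have := Ideal.add_mem _ h2 (hm₀ φ)
    rwa [sub_add_cancel] at this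
  · intro m hm
    exact map_mem_of_mem_smul φ ((Submodule.Quotient.mk_eq_zero _).mp hm)
  · intro y z _ _ hy hz m hm
    obtain ⟨m1, rfl⟩ := Submodule.mkQ_surjective _ y
    obtain ⟨m2, rfl⟩ := Submodule.mkQ_surjective _ z
    have h1 : m - (m1 + m2) ∈ (x • ⊤ : Submodule R M) := by
      rw [← Submodule.Quotient.mk_eq_zero, Submodule.Quotient.mk_sub, sub_eq_zero]
      rw [Submodule.Quotient.mk_add]
      exact hm
    have h2 := map_mem_of_mem_smul φ h1
    rw [map_sub, map_add] at h2
    have := Ideal.add_mem _ h2 (Ideal.add_mem _ (hy m1 rfl) (hz m2 rfl))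
    rwa [sub_add_cancel] at this
  · intro c y _ hy m hm
    obtain ⟨a, rfl⟩ := Ideal.Quotient.mk_surjective c
    obtain ⟨m1, rfl⟩ := Submodule.mkQ_surjective _ y
    rw [mk_smul_mk] at hm
    have h1 : m - a • m1 ∈ (x • ⊤ : Submodule R M) := by
      rw [← Submodule.Quotient.mk_eq_zero, Submodule.Quotient.mk_sub, sub_eq_zero]
      exact hm
    have h2 := map_mem_of_mem_smul φ h1
    rw [map_sub, map_smul, smul_eq_mul] at h2
    have := Ideal.add_mem _ h2 (Ideal.mul_mem_left _ a (hy m1 rfl))
    rwa [sub_add_cancel] at this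

theorem sum_eq (c : Fin r → R) :
    ∑ j, (Ideal.Quotient.mk x (c j)) • (Bx R M x).mkQ ((x • ⊤ : Submodule R M).mkQ (s j)) =
      (Bx R M x).mkQ ((x • ⊤ : Submodule R M).mkQ (∑ j, c j • s j)) := by
  rw [map_sum, map_sum]
  refine Finset.sum_congr rfl (fun j _ => ?_)
  rw [← mk_smul_mk, map_smul]


/-- Lemma A: from linear independence in `V(x)` produce linear forms dual mod `x`. -/
theorem exists_forms
    (hli : LinearIndependent (R ⧸ x)
      (fun i => (Bx R M x).mkQ ((x • ⊤ : Submodule R M).mkQ (s i)))) (i : Fin r) :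
    ∃ φ : M →ₗ[R] R, ∀ j, Ideal.Quotient.mk x (φ (s j)) = if i = j then 1 else 0 := by
  classical
  letI : Field (R ⧸ x) := Ideal.Quotient.field x
  let Ψ : (M →ₗ[R] R) →ₗ[R] (Fin r → R ⧸ x) :=
    { toFun := fun φ j => Ideal.Quotient.mk x (φ (s j))
      map_add' := fun φ ψ => by ext j; simp
      map_smul' := fun a φ => by ext j; simp [Algebra.smul_def] }
  let U : Submodule (R ⧸ x) (Fin r → R ⧸ x) :=
    { carrier := Set.range Ψ
      add_mem' := by
        rintro _ _ ⟨φ, rfl⟩ ⟨ψ, rfl⟩
        exact ⟨φ + ψ, map_add _ _ _⟩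
      zero_mem' := ⟨0, map_zero _⟩
      smul_mem' := by
        rintro c _ ⟨φ, rfl⟩
        obtain ⟨a, rfl⟩ := Ideal.Quotient.mk_surjective c
        refine ⟨a • φ, ?_⟩
        rw [map_smul]
        ext j
        simp [Algebra.smul_def] }
  suffices h : (Pi.single i 1 : Fin r → R ⧸ x) ∈ U by
    obtain ⟨φ, hφ⟩ := h
    refine ⟨φ, fun j => ?_⟩
    have := congrFun hφ j
    rw [Pi.single_apply] at this
    refine this.trans ?_
    by_cases hij : i = j
    · rw [if_pos hij, if_pos hij.symm]
    · rw [if_neg hij, if_neg (Ne.symm hij)]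
  by_contra hnot
  obtain ⟨f, hf1, hf2⟩ := Submodule.exists_dual_map_eq_bot_of_notMem hnot
    (Module.Projective.of_free)
  have hfU : ∀ u ∈ U, f u = 0 := by
    intro u hu
    have : f u ∈ U.map f := ⟨u, hu, rfl⟩
    rw [hf2] at this
    exact this
  -- coefficients
  have hc : ∀ j, ∃ a : R, Ideal.Quotient.mk x a = f (Pi.single j 1) :=
    fun j => Ideal.Quotient.mk_surjective _
  choose a ha using hc
  have hfu : ∀ u : Fin r → R ⧸ x, f u = ∑ j, u j * Ideal.Quotient.mk x (a j) := by
    intro u
    rw [LinearMap.pi_apply_eq_sum_univ f u]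
    refine Finset.sum_congr rfl (fun j _ => ?_)
    rw [smul_eq_mul, ha]
    congr 2
    ext k
    rw [Pi.single_apply]
    simp [eq_comm]
  -- the element m := ∑ a_j s_j is killed by all forms mod x
  have hm : ∀ φ : M →ₗ[R] R, φ (∑ j, a j • s j) ∈ x := by
    intro φ
    have h1 := hfU (Ψ φ) ⟨φ, rfl⟩
    rw [hfu] at h1
    rw [← Ideal.Quotient.eq_zero_iff_mem, map_sum, map_sum]
    rw [← h1]
    refine Finset.sum_congr rfl (fun j _ => ?_)
    rw [map_smul, smul_eq_mul, map_mul, mul_comm]
    rfl
  have hB : (x • ⊤ : Submodule R M).mkQ (∑ j, a j • s j) ∈ Bx R M x :=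
    Submodule.subset_span ⟨_, hm, rfl⟩
  have h0 : ∑ j, (Ideal.Quotient.mk x (a j)) •
      (Bx R M x).mkQ ((x • ⊤ : Submodule R M).mkQ (s j)) = 0 := by
    rw [sum_eq, Submodule.mkQ_apply, Submodule.Quotient.mk_eq_zero]
    exact hB
  have h1 := (Fintype.linearIndependent_iff.mp hli) (fun j => Ideal.Quotient.mk x (a j)) h0 i
  apply hf1
  rw [← ha, h1]


theorem isUnit_end_of_module_localization (S : Submonoid R) (A : Type u) [CommRing A] [Algebra R A]
    [IsLocalization S A] (N : Type u) [AddCommGroup N] [Module R N] [Module A N]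
    [IsScalarTower R A N] (t : S) : IsUnit (algebraMap R (Module.End R N) t) := by
  obtain ⟨u, hu⟩ := IsLocalization.map_units A t
  rw [Module.End.isUnit_iff]
  have key : ∀ n : N, (algebraMap R (Module.End R N) t) n = u • n := by
    intro n
    rw [Module.algebraMap_end_apply, Units.smul_def, hu, algebraMap_smul]
  constructor
  · intro a b hab
    rw [key, key] at hab
    exact MulAction.injective u hab
  · intro b
    obtain ⟨a, ha⟩ := MulAction.surjective u b
    exact ⟨a, by rw [key]; exact ha⟩

/-- Lemma B. -/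
theorem exists_left_inverse (φ : Fin r → (M →ₗ[R] R))
    (hφ : ∀ i j, Ideal.Quotient.mk x (φ i (s j)) = if i = j then 1 else 0) :
    ∃ f : R, f ∉ x ∧
      ∃ g : LocalizedModule (Submonoid.powers f) M →ₗ[Localization.Away f] (Fin r → Localization.Away f),
        g ∘ₗ Fintype.linearCombination (Localization.Away f)
            (fun i => LocalizedModule.mkLinearMap (Submonoid.powers f) M (s i)) = LinearMap.id := by
  classical
  let N : Matrix (Fin r) (Fin r) R := Matrix.of (fun i j => φ i (s j))
  have hN : N.map (Ideal.Quotient.mk x) = 1 := by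
    ext i j
    rw [Matrix.map_apply, Matrix.one_apply]
    exact hφ i j
  have hdet : N.det ∉ x := by
    rw [← Ideal.Quotient.eq_zero_iff_mem, RingHom.map_det, RingHom.mapMatrix_apply, hN,
      Matrix.det_one]
    haveI : Nontrivial (R ⧸ x) := Ideal.Quotient.nontrivial_iff.mpr (Ideal.IsMaximal.ne_top inferInstance)
    exact one_ne_zero
  obtain ⟨f, hf⟩ : ∃ f, f = N.det := ⟨_, rfl⟩
  rw [← hf] at hdet
  refine ⟨f, hdet, ?_⟩
  let A := Localization.Away f
  let S := Submonoid.powers f
  let N' : Matrix (Fin r) (Fin r) A := N.map (algebraMap R A)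
  have hN'det : IsUnit N'.det := by
    have : N'.det = algebraMap R A N.det := by
      rw [RingHom.map_det, RingHom.mapMatrix_apply]
    rw [this, ← hf]
    exact IsLocalization.Away.algebraMap_isUnit f
  let Φ : M →ₗ[R] (Fin r → A) := LinearMap.pi (fun i => (Algebra.linearMap R A) ∘ₗ φ i)
  let G₀ : M →ₗ[R] (Fin r → A) := (Matrix.mulVecLin N'⁻¹).restrictScalars R ∘ₗ Φ
  have hunits : ∀ t : S, IsUnit (algebraMap R (Module.End R (Fin r → A)) t) :=
    fun t => isUnit_end_of_module_localization S A (Fin r → A) t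
  let G₁ : LocalizedModule S M →ₗ[R] (Fin r → A) :=
    IsLocalizedModule.lift S (LocalizedModule.mkLinearMap S M) G₀ hunits
  have hG₁ : ∀ m : M, G₁ (LocalizedModule.mkLinearMap S M m) = G₀ m :=
    fun m => IsLocalizedModule.lift_apply S (LocalizedModule.mkLinearMap S M) G₀ hunits m
  refine ⟨G₁.extendScalarsOfIsLocalization S A, ?_⟩
  apply LinearMap.ext
  intro v
  rw [LinearMap.comp_apply, LinearMap.id_apply, Fintype.linearCombination_apply, map_sum]
  have hsingle : ∀ j, G₀ (s j) = Pi.single j 1 := by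
    intro j
    show N'⁻¹.mulVec (Φ (s j)) = _
    have : Φ (s j) = N'.mulVec (Pi.single j 1) := by
      ext i
      rw [Matrix.mulVec_single_one]
      rfl
    rw [this, Matrix.mulVec_mulVec, Matrix.nonsing_inv_mul _ hN'det, Matrix.one_mulVec]
  calc ∑ j, (G₁.extendScalarsOfIsLocalization S A)
        (v j • LocalizedModule.mkLinearMap S M (s j))
      = ∑ j, v j • (Pi.single j 1 : Fin r → A) := by
        refine Finset.sum_congr rfl (fun j _ => ?_)
        rw [map_smul, LinearMap.extendScalarsOfIsLocalization_apply', hG₁, hsingle]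
    _ = v := by
        ext i
        simp [Finset.sum_apply, Pi.single_apply]


/-- Lemma C. -/
theorem linearIndependent_of_left_inverse [Module.FinitePresentation R M] (f : R) (hfx : f ∉ x)
    (g : LocalizedModule (Submonoid.powers f) M →ₗ[Localization.Away f] (Fin r → Localization.Away f))
    (hg : g ∘ₗ Fintype.linearCombination (Localization.Away f)
            (fun i => LocalizedModule.mkLinearMap (Submonoid.powers f) M (s i)) = LinearMap.id) :
    LinearIndependent (R ⧸ x)
      (fun i => (Bx R M x).mkQ ((x • ⊤ : Submodule R M).mkQ (s i))) := by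
  classical
  let S := Submonoid.powers f
  let A := Localization.Away f
  let mk := LocalizedModule.mkLinearMap S M
  have hgs : ∀ j, g (mk (s j)) = Pi.single j 1 := by
    intro j
    have := LinearMap.congr_fun hg (Pi.single j 1)
    rw [LinearMap.comp_apply, LinearMap.id_apply, Fintype.linearCombination_apply_single,
      one_smul] at this
    exact this
  let γ : Fin r → (M →ₗ[R] A) := fun i =>
    ((LinearMap.proj i : (Fin r → A) →ₗ[A] A).restrictScalars R) ∘ₗ (g.restrictScalars R) ∘ₗ mk
  have hlift : ∀ i, ∃ (h : M →ₗ[R] R) (t : S), (Algebra.linearMap R A) ∘ₗ h = t • γ i :=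
    fun i => Module.FinitePresentation.exists_lift_of_isLocalizedModule S (Algebra.linearMap R A) (γ i)
  choose h t ht using hlift
  have hker : ∀ a : R, algebraMap R A a = 0 → a ∈ x := by
    intro a ha
    obtain ⟨⟨_, k, rfl⟩, hk⟩ := (IsLocalization.map_eq_zero_iff S A a).mp ha
    have h1 : f ^ k * a ∈ x := by
      change f ^ k * a = 0 at hk
      rw [hk]; exact x.zero_mem
    rcases (Ideal.IsMaximal.isPrime inferInstance).mem_or_mem h1 with h2 | h2
    · exact absurd ((Ideal.IsMaximal.isPrime inferInstance).mem_of_pow_mem k h2) hfx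
    · exact h2
  have htx : ∀ i, ((t i : S) : R) ∉ x := by
    intro i
    obtain ⟨k, hk⟩ := (t i).2
    rw [← hk]
    exact fun hc => hfx ((Ideal.IsMaximal.isPrime inferInstance).mem_of_pow_mem k hc)
  have hA : ∀ i j, algebraMap R A (h i (s j)) = if i = j then algebraMap R A (t i : R) else 0 := by
    intro i j
    have := LinearMap.congr_fun (ht i) (s j)
    rw [LinearMap.comp_apply, Algebra.linearMap_apply, LinearMap.smul_apply] at this
    rw [this]
    show (t i) • (g (mk (s j))) i = _
    rw [hgs, Pi.single_apply, Submonoid.smul_def, Algebra.smul_def]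
    by_cases hij : i = j
    · rw [if_pos hij, if_pos hij, mul_one]
    · rw [if_neg hij, if_neg hij, mul_zero]
  rw [Fintype.linearIndependent_iff]
  intro c hc i
  have hlift : ∀ j, ∃ a : R, Ideal.Quotient.mk x a = c j := fun j => Ideal.Quotient.mk_surjective _
  choose a ha using hlift
  have hc' : ∑ j, (Ideal.Quotient.mk x (a j)) •
      (Bx R M x).mkQ ((x • ⊤ : Submodule R M).mkQ (s j)) = 0 := by
    simp only [ha]; exact hc
  rw [sum_eq, Submodule.mkQ_apply, Submodule.Quotient.mk_eq_zero] at hc'
  have h1 := map_mem_of_mkQ_mem_Bx (h i) _ hc' _ rfl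
  rw [map_sum] at h1
  -- h i (∑ a_j s_j) ≡ a_i t_i mod x
  have h2 : (∑ j, (h i) (a j • s j)) - a i * (t i : R) ∈ x := by
    apply hker
    rw [map_sub, map_sum, map_mul]
    have : ∀ j, algebraMap R A ((h i) (a j • s j)) =
        if i = j then algebraMap R A (a i) * algebraMap R A (t i : R) else 0 := by
      intro j
      rw [map_smul, smul_eq_mul, map_mul, hA]
      by_cases hij : i = j
      · rw [if_pos hij, if_pos hij, hij]
      · rw [if_neg hij, if_neg hij, mul_zero]
    simp only [this]
    rw [Finset.sum_ite_eq Finset.univ i, if_pos (Finset.mem_univ i), sub_self]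
  have h3 : a i * (t i : R) ∈ x := by
    have := Ideal.sub_mem _ h1 h2
    rwa [sub_sub_cancel] at this
  rcases (Ideal.IsMaximal.isPrime inferInstance).mem_or_mem h3 with h4 | h4
  · rw [← ha, Ideal.Quotient.eq_zero_iff_mem]; exact h4
  · exact absurd h4 (htx i)

end S7147

/-- Let R be a ring, M a finitely presented R-module and x a maximal ideal of R with residue field κ(x);
write M(x) = M/xM and let B(x) ⊆ M(x) be the orthogonal of the image of Hom_R(M, R) in the dual of
M(x), i.e. the classes of those m in M with φ(m) in x for every linear form φ on M, and V(x) =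
M(x)/B(x). For s_1, ..., s_r in M the following are equivalent: (1) there is f in R, f not in x,
such that the map R_f^r → M_f given by the s_i is the inclusion of a direct summand; (2) the images
of s_1, ..., s_r in V(x) are linearly independent over κ(x). -/
theorem result (R : Type u) [CommRing R] (M : Type u)
    [AddCommGroup M] [Module R M] [Module.FinitePresentation R M] (x : Ideal R) [x.IsMaximal]
    (r : ℕ) (s : Fin r → M) :
    let Mx := M ⧸ (x • ⊤ : Submodule R M)
    let Bx : Submodule (R ⧸ x) Mx :=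
      Submodule.span (R ⧸ x) ((x • ⊤ : Submodule R M).mkQ '' {m : M | ∀ φ : M →ₗ[R] R, φ m ∈ x})
    (∃ f : R, f ∉ x ∧
      ∃ g : LocalizedModule (Submonoid.powers f) M →ₗ[Localization.Away f] (Fin r → Localization.Away f),
        g ∘ₗ Fintype.linearCombination (Localization.Away f)
            (fun i => LocalizedModule.mkLinearMap (Submonoid.powers f) M (s i)) = LinearMap.id) ↔
    LinearIndependent (R ⧸ x) (fun i => Bx.mkQ ((x • ⊤ : Submodule R M).mkQ (s i))) := by
  intro Mx Bx
  constructor
  · rintro ⟨f, hfx, g, hg⟩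
    exact S7147.linearIndependent_of_left_inverse r s f hfx g hg
  · intro hli
    have := fun i => S7147.exists_forms r s hli i
    choose φ hφ using this
    exact S7147.exists_left_inverse r s φ hφ

end Groth.Agent.S7147
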