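import Mathlib
import Groth.Prelude
import Groth.Agent.Lib.helper25.Sep3
import Groth.Agent.Lib.helper14.CohenSmooth

open IsLocalRing

namespace Groth.Agent.S7150

universe u v

/-- key lemma: a local `k`-algebra with nilpotent maximal ideal whose residue field is formally
smooth over `k` has a coefficient field containing the image of `k`. -/
theorem exists_section_of_formallySmooth (k : Type v) [Field k] (B : Type u) [CommRing B]
    [IsLocalRing B] [Algebra k B] [Algebra k (ResidueField B)]
    (hcompat : ∀ x : k, residue B (algebraMap k B x) = algebraMap k (ResidueField B) x)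
    [Algebra.FormallySmooth k (ResidueField B)]
    (hnil : ∃ n : ℕ, maximalIdeal B ^ n = ⊥) :
    ∃ σ : ResidueField B →ₐ[k] B, ∀ x, residue B (σ x) = x := by
  let g : B →ₐ[k] ResidueField B := { residue B with commutes' := hcompat }
  have hg : Function.Surjective g := residue_surjective
  have hker : RingHom.ker (g : B →+* ResidueField B) = maximalIdeal B := ker_residue
  have hg' : IsNilpotent (RingHom.ker (g : B →+* ResidueField B)) := by
    rw [hker]
    obtain ⟨n, hn⟩ := hnil
    exact ⟨n, hn⟩
  refine ⟨Algebra.FormallySmooth.liftOfSurjective (AlgHom.id k _) g hg hg', fun x => ?_⟩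
  exact Algebra.FormallySmooth.liftOfSurjective_apply (AlgHom.id k _) g hg hg' x

theorem result (p : ℕ) (hp : p.Prime) (A : Type u) [CommRing A]
    [IsLocalRing A] [CharP A p] (hnil : ∃ n : ℕ, IsLocalRing.maximalIdeal A ^ n = ⊥) :
    (∃ σ : IsLocalRing.ResidueField A →+* A, (IsLocalRing.residue A).comp σ = RingHom.id _) ∧
    ∀ (A' : Type u) [CommRing A'] [IsLocalRing A'] [Algebra A A'] [IsLocalHom (algebraMap A A')],
      (∃ n : ℕ, IsLocalRing.maximalIdeal A' ^ n = ⊥) →
      Algebra.IsGeometricallyReduced (IsLocalRing.ResidueField A) (IsLocalRing.ResidueField A') →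
      ∀ σ : IsLocalRing.ResidueField A →+* A, (IsLocalRing.residue A).comp σ = RingHom.id _ →
        ∃ σ' : IsLocalRing.ResidueField A' →+* A', (IsLocalRing.residue A').comp σ' = RingHom.id _ ∧
          σ'.comp (IsLocalRing.ResidueField.map (algebraMap A A')) = (algebraMap A A').comp σ := by
  haveI : Fact p.Prime := ⟨hp⟩
  constructor
  · -- absolute case: work over `ULift (ZMod p)`
    letI : Algebra (ZMod p) A := ZMod.algebra A p
    let F := ULift.{u} (ZMod p)
    let φ : F →+* A := (algebraMap (ZMod p) A).comp (ULift.ringEquiv : F ≃+* ZMod p).toRingHom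
    letI : Algebra F A := φ.toAlgebra
    letI : Algebra F (ResidueField A) := ((residue A).comp φ).toAlgebra
    haveI : CharP F p := by
      refine (RingHom.charP_iff (ULift.ringEquiv : F ≃+* ZMod p).toRingHom
        (ULift.ringEquiv : F ≃+* ZMod p).injective p).2 inferInstance
    haveI : PerfectRing F p := by
      haveI : Finite F := Finite.of_equiv _ (ULift.ringEquiv : F ≃+* ZMod p).symm.toEquiv
      exact PerfectRing.ofFiniteOfIsReduced p F
    haveI : Algebra.FormallySmooth F (ResidueField A) :=
      H14.CohenSmooth.formallySmooth_of_perfectField p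
    obtain ⟨σ, hσ⟩ := exists_section_of_formallySmooth F A (fun x => rfl) hnil
    exact ⟨σ.toRingHom, RingHom.ext hσ⟩
  · intro A' _ _ _ _ hnil' hgr σ hσ
    letI : Algebra (ResidueField A) A' := ((algebraMap A A').comp σ).toAlgebra
    haveI : Algebra.FormallySmooth (ResidueField A) (ResidueField A') :=
      Groth.Agent.Lib.helper25.Sep.formallySmooth_of_isGeometricallyReduced'
    have hcompat : ∀ x : ResidueField A, residue A' (algebraMap (ResidueField A) A' x) =
        algebraMap (ResidueField A) (ResidueField A') x := by
      intro x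
      change residue A' (algebraMap A A' (σ x)) = ResidueField.map (algebraMap A A') x
      have hx : residue A (σ x) = x := RingHom.congr_fun hσ x
      conv_rhs => rw [← hx]
      rfl
    obtain ⟨σ', hσ'⟩ := exists_section_of_formallySmooth (ResidueField A) A' hcompat hnil'
    refine ⟨σ'.toRingHom, RingHom.ext hσ', ?_⟩
    ext x
    exact σ'.commutes x

end Groth.Agent.S7150
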