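import Groth.Statements.S7153
import Mathlib

set_option autoImplicit false
universe u
open CAlg

namespace Groth.Agent.S7153



/-- Let A be a Noetherian ring, I an ideal and K → L → M a complex of finite A-modules with maps α, β
and homology H = Ker β / Im α; for n ≥ 0 let H_n be the homology of the induced complex K/IⁿK →
L/IⁿL → M/IⁿM, which is β⁻¹(IⁿM)/(Im α + IⁿL). Then there is c > 0 such that for every n: (i) the
image of H_(n+c) → H_n is contained in, hence equal to, the image of H → H_n; (ii) the kernel and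
the cokernel of H/IⁿH → H_n are annihilated by I^c. Everything is phrased with representatives in L. -/
theorem result (A : Type u) [CommRing A] [IsNoetherianRing A] (I : Ideal A)
    (K L M : Type u) [AddCommGroup K] [Module A K] [Module.Finite A K] [AddCommGroup L] [Module A L]
    [Module.Finite A L] [AddCommGroup M] [Module A M] [Module.Finite A M]
    (α : K →ₗ[A] L) (β : L →ₗ[A] M) (hαβ : β ∘ₗ α = 0) :
    ∃ c : ℕ, 0 < c ∧ ∀ n : ℕ,
      (∀ y ∈ (I ^ (n + c) • ⊤ : Submodule A M).comap β,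
        ∃ z ∈ LinearMap.ker β, y - z ∈ LinearMap.range α ⊔ (I ^ n • ⊤ : Submodule A L)) ∧
      (∀ z ∈ LinearMap.ker β, z ∈ LinearMap.range α ⊔ (I ^ n • ⊤ : Submodule A L) →
        ∀ a ∈ I ^ c, a • z ∈ LinearMap.range α ⊔ I ^ n • LinearMap.ker β) ∧
      (∀ y ∈ (I ^ n • ⊤ : Submodule A M).comap β, ∀ a ∈ I ^ c,
        ∃ z ∈ LinearMap.ker β, a • y - z ∈ LinearMap.range α ⊔ (I ^ n • ⊤ : Submodule A L)) := by
  obtain ⟨c₁, h₁⟩ := Ideal.exists_pow_inf_eq_pow_smul I (LinearMap.range β)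
  obtain ⟨c₂, h₂⟩ := Ideal.exists_pow_inf_eq_pow_smul I (LinearMap.ker β)
  have key1 : ∀ n : ℕ, ∀ y : L, β y ∈ I ^ (n + c₁) • (⊤ : Submodule A M) →
      ∃ w ∈ I ^ n • (⊤ : Submodule A L), β w = β y := by
    intro n y hy
    have h : β y ∈ I ^ (n + c₁) • (⊤ : Submodule A M) ⊓ LinearMap.range β := ⟨hy, ⟨y, rfl⟩⟩
    rw [h₁ (n + c₁) (by omega), Nat.add_sub_cancel] at h
    have h' : I ^ n • (I ^ c₁ • (⊤ : Submodule A M) ⊓ LinearMap.range β) ≤
        Submodule.map β (I ^ n • ⊤) := by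
      rw [Submodule.map_smul'', Submodule.map_top]
      exact Submodule.smul_mono le_rfl inf_le_right
    obtain ⟨w, hw, hwy⟩ := h' h
    exact ⟨w, hw, hwy⟩
  have key2 : ∀ n : ℕ, ∀ w ∈ I ^ n • (⊤ : Submodule A L), β w = 0 → ∀ a ∈ I ^ c₂,
      a • w ∈ I ^ n • LinearMap.ker β := by
    intro n w hw hβ a ha
    by_cases hn : c₂ ≤ n
    · have h : w ∈ I ^ n • (⊤ : Submodule A L) ⊓ LinearMap.ker β := ⟨hw, hβ⟩
      rw [h₂ n hn] at h
      have h3 : w ∈ I ^ (n - c₂) • LinearMap.ker β := Submodule.smul_mono le_rfl inf_le_right h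
      have : a • w ∈ I ^ c₂ • I ^ (n - c₂) • LinearMap.ker β := Submodule.smul_mem_smul ha h3
      rwa [← Submodule.mul_smul, ← pow_add, Nat.add_sub_cancel' hn] at this
    · have : a ∈ I ^ n := Ideal.pow_le_pow_right (by omega) ha
      exact Submodule.smul_mem_smul this hβ
  have hβα : ∀ k, β (α k) = 0 := fun k => LinearMap.congr_fun hαβ k
  refine ⟨max c₁ c₂ + 1, by omega, fun n => ⟨?_, ?_, ?_⟩⟩
  · intro y hy
    have hy' : β y ∈ I ^ (n + c₁) • (⊤ : Submodule A M) :=
      Submodule.smul_mono (Ideal.pow_le_pow_right (by omega)) le_rfl hy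
    obtain ⟨w, hw, hwy⟩ := key1 n y hy'
    refine ⟨y - w, by rw [LinearMap.mem_ker, map_sub, hwy, sub_self], ?_⟩
    rw [sub_sub_cancel]
    exact (le_sup_right : _ ≤ LinearMap.range α ⊔ _) hw
  · intro z hz hz' a ha
    obtain ⟨x, ⟨k, rfl⟩, w, hw, rfl⟩ := Submodule.mem_sup.1 hz'
    have hβw : β w = 0 := by
      have := hz
      rw [LinearMap.mem_ker, map_add, hβα, zero_add] at this
      exact this
    have ha' : a ∈ I ^ c₂ := Ideal.pow_le_pow_right (by omega) ha
    rw [smul_add]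
    refine Submodule.add_mem_sup ⟨a • k, by rw [map_smul]⟩ (key2 n w hw hβw a ha')
  · intro y hy a ha
    have ha' : a ∈ I ^ c₁ := Ideal.pow_le_pow_right (by omega) ha
    have hy' : β (a • y) ∈ I ^ (n + c₁) • (⊤ : Submodule A M) := by
      rw [map_smul, add_comm, pow_add, Submodule.mul_smul]
      exact Submodule.smul_mem_smul ha' hy
    obtain ⟨w, hw, hwy⟩ := key1 n (a • y) hy'
    refine ⟨a • y - w, by rw [LinearMap.mem_ker, map_sub, hwy, sub_self], ?_⟩
    rw [sub_sub_cancel]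
    exact (le_sup_right : _ ≤ LinearMap.range α ⊔ _) hw

end Groth.Agent.S7153
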