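import Groth.Statements.S7164
import Mathlib
import Groth.Agent.Lib.helper2.ExtSys
-- import your own Groth.Agent.* helpers here

set_option autoImplicit false
universe u
open CategoryTheory
attribute [local instance] HasDerivedCategory.standard
open CAlg

namespace Groth.Agent.S7164

open Groth.Agent.Lib.helper2

/-- Let A be a Noetherian ring, I an ideal, K a pseudo-coherent object of D(A) and a an integer. Assume
that for every finite A-module M and every i ≥ a the module Ext^i_A(K, M) is I-power torsion. Then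
for i ≥ a and M finite the inverse system (Ext^i_A(K, M/IⁿM))_n is essentially constant with value
Ext^i_A(K, M) (so that Ext^i_A(K, M) = lim Ext^i_A(K, M/IⁿM)): concretely, some comparison map
Ext^i(K, M) → Ext^i(K, M/I^mM) is injective and for every n there is m' ≥ n such that the image of
the transition map Ext^i(K, M/I^(m')M) → Ext^i(K, M/IⁿM) is contained in the image of Ext^i(K, M).
Here Ext^i(K, X) = Hom_{D(A)}(K, X[i]). -/
theorem result (A : Type u) [CommRing A] [IsNoetherianRing A]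
    (I : Ideal A) (K : Dual.D A) (hK : DRing.IsPseudoCoherent' A K) (a : ℤ)
    (htors : ∀ (M : Type u) [AddCommGroup M] [Module A M], Module.Finite A M → ∀ i : ℤ, a ≤ i →
      ∀ e : K ⟶ (Dual.inD A M)⟦i⟧, ∃ n : ℕ, ∀ x ∈ I ^ n, x • e = 0)
    (M : Type u) [AddCommGroup M] [Module A M] [Module.Finite A M] (i : ℤ) (hi : a ≤ i) :
    let Mq : ℕ → Submodule A M := fun n => I ^ n • ⊤
    let c : ∀ n : ℕ, (K ⟶ (Dual.inD A M)⟦i⟧) → (K ⟶ (Dual.inD A (M ⧸ Mq n))⟦i⟧) :=
      fun n e => e ≫ ((DerivedCategory.singleFunctor (ModuleCat.{u} A) 0).map (ModuleCat.ofHom (Mq n).mkQ))⟦i⟧'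
    let t : ∀ n m : ℕ, n ≤ m → (K ⟶ (Dual.inD A (M ⧸ Mq m))⟦i⟧) → (K ⟶ (Dual.inD A (M ⧸ Mq n))⟦i⟧) :=
      fun n m hnm e => e ≫ ((DerivedCategory.singleFunctor (ModuleCat.{u} A) 0).map (ModuleCat.ofHom
        (Submodule.mapQ (Mq m) (Mq n) (LinearMap.id : M →ₗ[A] M) (Submodule.smul_mono_left (Ideal.pow_le_pow_right hnm)))))⟦i⟧'
    (∃ m : ℕ, Function.Injective (c m)) ∧
      ∀ n : ℕ, ∃ (m' : ℕ) (hnm : n ≤ m'), Set.range (t n m' hnm) ⊆ Set.range (c n) := by
  intro Mq c t
  obtain ⟨F, b, hFb, hff, ⟨e₀⟩⟩ := hK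
  have hfin : ∀ i, Module.Finite A (F.X i) := fun i => (hff i).1
  have hfree : ∀ i, Module.Free A (F.X i) := fun i => (hff i).2
  have hle : F.IsStrictlyLE b := by
    rw [CochainComplex.isStrictlyLE_iff]
    exact hFb
  have hproj : ∀ n, Projective (F.X n) := by
    intro n
    have := hfree n
    have : Module.Projective A (F.X n) := Module.Projective.of_free
    rw [← IsProjective.iff_projective]
    exact this
  have hKP : F.IsKProjective := CochainComplex.isKProjective_of_projective F b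
  constructor
  · obtain ⟨c₀, hc₀⟩ := ExtAR.ext_artin_rees I F hfin hfree e₀ M i
    have hfinE := ExtSys.finite_hom F hfin hfree e₀ M i
    obtain ⟨N₀, hN₀⟩ := ExtSys.exists_pow_kill I _ (htors M inferInstance i hi)
    refine ⟨c₀ + N₀, ?_⟩
    apply ExtSys.cmp_injective K i (Mq (c₀ + N₀))
    intro e₁
    have h1 := hc₀ (c₀ + N₀) (by lia) e₁
    have h2 : (I ^ (c₀ + N₀ - c₀) • ⊤ : Submodule A (K ⟶ (Dual.inD A M)⟦i⟧)) = ⊥ := by
      rw [Nat.add_sub_cancel_left, eq_bot_iff, Submodule.smul_le]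
      intro x hx e _
      rw [Submodule.mem_bot]
      exact hN₀ x hx e
    rw [h2, Submodule.mem_bot] at h1
    exact h1
  · intro n
    have : Module.Finite A ↥(Mq n) := inferInstance
    obtain ⟨c₁, hc₁⟩ := ExtAR.ext_artin_rees I F hfin hfree e₀ ↥(Mq n) (i + 1)
    have hfinE := ExtSys.finite_hom F hfin hfree e₀ ↥(Mq n) (i + 1)
    obtain ⟨N₁, hN₁⟩ := ExtSys.exists_pow_kill I _
      (htors ↥(Mq n) inferInstance (i + 1) (by lia))
    have hN : Mq (n + (c₁ + N₁)) ≤ Mq n :=
      Submodule.smul_mono_left (Ideal.pow_le_pow_right (by lia))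
    refine ⟨n + (c₁ + N₁), by lia, ?_⟩
    apply ExtSys.range_trans_subset K i hN
    intro e₁
    have hmem : ∀ x : ↥(Mq (n + (c₁ + N₁))),
        Submodule.inclusion hN x ∈ (I ^ (c₁ + N₁) • ⊤ : Submodule A ↥(Mq n)) := by
      intro x
      have h1 : (x : M) ∈ Submodule.map (Mq n).subtype
          (I ^ (c₁ + N₁) • ⊤ : Submodule A ↥(Mq n)) := by
        rw [Submodule.map_smul'', Submodule.map_subtype_top]
        change (x : M) ∈ I ^ (c₁ + N₁) • (I ^ n • (⊤ : Submodule A M))
        rw [← Submodule.mul_smul, ← pow_add, add_comm (c₁ + N₁) n]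
        exact x.2
      obtain ⟨y, hy, hyx⟩ := h1
      have : y = Submodule.inclusion hN x := Subtype.ext hyx
      rw [← this]
      exact hy
    let ρ : ↥(Mq (n + (c₁ + N₁))) →ₗ[A] ↥(I ^ (c₁ + N₁) • ⊤ : Submodule A ↥(Mq n)) :=
      (Submodule.inclusion hN).codRestrict _ hmem
    have hρ : (I ^ (c₁ + N₁) • ⊤ : Submodule A ↥(Mq n)).subtype ∘ₗ ρ = Submodule.inclusion hN :=
      LinearMap.subtype_comp_codRestrict _ _ _
    have h2 := hc₁ (c₁ + N₁) (by lia) (e₁ ≫ ((DerivedCategory.singleFunctor (ModuleCat.{u} A) 0).map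
      (ModuleCat.ofHom ρ))⟦i + 1⟧')
    have h3 : (I ^ (c₁ + N₁ - c₁) • ⊤ :
        Submodule A (K ⟶ (Dual.inD A ↥(Mq n))⟦i + 1⟧)) = ⊥ := by
      rw [Nat.add_sub_cancel_left, eq_bot_iff, Submodule.smul_le]
      intro x hx e _
      rw [Submodule.mem_bot]
      exact hN₁ x hx e
    rw [h3, Submodule.mem_bot, Category.assoc, ← Functor.map_comp, ← Functor.map_comp,
      ← ModuleCat.ofHom_comp, hρ] at h2
    exact h2

end Groth.Agent.S7164
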