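import Groth.Statements.S7185
import Groth.Agent.Lib.helper1.WT1

set_option autoImplicit false
universe u
open FlatMor

namespace Groth.Agent.S7185

open AlgebraicGeometry CategoryTheory Limits in
/-- The restriction of a weighting of a locally quasi-finite morphism f : X → Y (locally of finite type
with discrete fibres) to an open subscheme X' of X is a weighting of X' → Y. -/
theorem result {X Y : Scheme.{u}} (f : X ⟶ Y) [LocallyQuasiFinite f] [LocallyOfFiniteType f] (w : X → ℤ)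
    (hw : MoreMor.IsWeighting f w) (X' : X.Opens) : MoreMor.IsWeighting (X'.ι ≫ f) (fun x => w (X'.ι x)) := by
  intro V g _ U hfin
  let m : pullback (X'.ι ≫ f) g ⟶ pullback f g :=
    pullback.map (X'.ι ≫ f) g f g X'.ι (𝟙 V) (𝟙 Y) (by simp) (by simp)
  have hm_fst : m ≫ pullback.fst f g = pullback.fst (X'.ι ≫ f) g ≫ X'.ι :=
    pullback.lift_fst _ _ _
  have hm_snd : m ≫ pullback.snd f g = pullback.snd (X'.ι ≫ f) g :=
    (pullback.lift_snd _ _ _).trans (Category.comp_id _)
  have he : (m.isoImage U).hom ≫ (m ''ᵁ U).ι = U.ι ≫ m := m.isoImage_hom_ι U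
  have hπ : (m.isoImage U).hom ≫ ((m ''ᵁ U).ι ≫ pullback.snd f g) =
      U.ι ≫ pullback.snd (X'.ι ≫ f) g := by
    rw [← Category.assoc, he, Category.assoc, hm_snd]
  have hpt : (m.isoImage U).hom ≫ (m ''ᵁ U).ι ≫ pullback.fst f g =
      U.ι ≫ pullback.fst (X'.ι ≫ f) g ≫ X'.ι := by
    rw [← Category.assoc, he, Category.assoc, hm_fst]
  have hfin₀ : IsFinite ((m ''ᵁ U).ι ≫ pullback.snd f g) := by
    have e1 : (m ''ᵁ U).ι ≫ pullback.snd f g =
        (m.isoImage U).inv ≫ (U.ι ≫ pullback.snd (X'.ι ≫ f) g) := by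
      rw [← hπ, Iso.inv_hom_id_assoc]
    rw [e1]
    infer_instance
  have h0 := hw V g (m ''ᵁ U) hfin₀
  have key : MoreMor.fibreIntegral (U.ι ≫ pullback.snd (X'.ι ≫ f) g)
      (fun u => w (X'.ι (pullback.fst (X'.ι ≫ f) g (U.ι u)))) =
      MoreMor.fibreIntegral ((m ''ᵁ U).ι ≫ pullback.snd f g)
        (fun u => w (pullback.fst f g ((m ''ᵁ U).ι u))) := by
    funext v
    rw [← Groth.Agent.Lib.helper1.WT.fibreIntegral_comp_iso (m.isoImage U).hom
      ((m ''ᵁ U).ι ≫ pullback.snd f g) _ v]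
    refine congrFun (Groth.Agent.Lib.helper1.WT.fibreIntegral_congr _ _ hπ.symm _ _
      (funext fun u => ?_)) v
    exact congrArg (fun φ : (U : Scheme.{u}) ⟶ X => w (φ u)) hpt.symm
  rw [key]
  exact h0

end Groth.Agent.S7185
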