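import Groth.Statements.S7204
import Mathlib
-- import your own Groth.Agent.* helpers here

set_option autoImplicit false
universe w u
open FlatMor

namespace Groth.Agent.S7204

namespace H5S7204
open AlgebraicGeometry CategoryTheory Limits

variable {J : Type u} [SmallCategory J] (D : J ⥤ Scheme.{u}) (c : Cocone D)

abbrev DW : J ⥤ Over c.pt := D.toOver c.pt (fun j => c.ι.app j) (fun g => c.w g)

/-- cocone on base-changed diagram induced by `s`. -/
noncomputable def sa {W' : Scheme.{u}} (q : W' ⟶ c.pt) (s : Cocone D) :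
    Cocone ((DW D c ⋙ Over.pullback q) ⋙ Over.forget _) where
  pt := s.pt
  ι :=
    { app := fun j => pullback.fst (c.ι.app j) q ≫ s.ι.app j
      naturality := by
        intro j j' g
        dsimp
        simp only [Category.comp_id]
        erw [pullback.lift_fst_assoc]
        exact congrArg (pullback.fst (c.ι.app j) q ≫ ·) (s.w g) }

lemma sheafFor {W : Scheme.{u}} (R : Presieve W) (hR : R ∈ Scheme.fpqcPrecoverage W)
    (Z : Scheme.{u}) : Presieve.IsSheafFor (yoneda.obj Z) R :=
  (GrothendieckTopology.Subcanonical.isSheaf_of_isRepresentable (J := Scheme.fpqcTopology)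
    (yoneda.obj Z)).isSheafFor _ (Precoverage.generate_mem_toGrothendieck hR)


theorem main (F : PreZeroHypercover.{w} c.pt) (hF : F.presieve₀ ∈ Scheme.fpqcPrecoverage c.pt)
    (h1 : ∀ a : F.I₀, Nonempty (IsColimit ((Over.forgetCocone (F.X a)).whisker
      (DW D c ⋙ Over.pullback (F.f a)))))
    (h2 : ∀ a b : F.I₀, Nonempty (IsColimit ((Over.forgetCocone (pullback (F.f a) (F.f b))).whisker
      (DW D c ⋙ Over.pullback (pullback.fst (F.f a) (F.f b) ≫ F.f a))))) :
    Nonempty (IsColimit c) := by
  have key : ∀ s : Cocone D, ∃! m : c.pt ⟶ s.pt, ∀ j, c.ι.app j ≫ m = s.ι.app j := by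
    intro s
    let ma : ∀ a, F.X a ⟶ s.pt := fun a => (h1 a).some.desc (sa D c (F.f a) s)
    have hma : ∀ a j, pullback.snd (c.ι.app j) (F.f a) ≫ ma a =
        pullback.fst (c.ι.app j) (F.f a) ≫ s.ι.app j :=
      fun a j => (h1 a).some.fac (sa D c (F.f a) s) j
    have hcompat : ∀ a b, pullback.fst (F.f a) (F.f b) ≫ ma a =
        pullback.snd (F.f a) (F.f b) ≫ ma b := by
      intro a b
      apply (h2 a b).some.hom_ext
      intro j
      change pullback.snd (c.ι.app j) (pullback.fst (F.f a) (F.f b) ≫ F.f a) ≫ _ =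
        pullback.snd (c.ι.app j) (pullback.fst (F.f a) (F.f b) ≫ F.f a) ≫ _
      have hq : pullback.fst (F.f a) (F.f b) ≫ F.f a = pullback.snd (F.f a) (F.f b) ≫ F.f b :=
        pullback.condition
      have c1 : pullback.fst (c.ι.app j) (pullback.fst (F.f a) (F.f b) ≫ F.f a) ≫ c.ι.app j =
          (pullback.snd (c.ι.app j) (pullback.fst (F.f a) (F.f b) ≫ F.f a) ≫
            pullback.fst (F.f a) (F.f b)) ≫ F.f a := by
        rw [Category.assoc]
        exact pullback.condition
      have c2 : pullback.fst (c.ι.app j) (pullback.fst (F.f a) (F.f b) ≫ F.f a) ≫ c.ι.app j =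
          (pullback.snd (c.ι.app j) (pullback.fst (F.f a) (F.f b) ≫ F.f a) ≫
            pullback.snd (F.f a) (F.f b)) ≫ F.f b := by
        rw [Category.assoc, ← hq]
        exact pullback.condition
      have e1 : pullback.snd (c.ι.app j) (pullback.fst (F.f a) (F.f b) ≫ F.f a) ≫
          pullback.fst (F.f a) (F.f b) =
          pullback.lift (pullback.fst (c.ι.app j) (pullback.fst (F.f a) (F.f b) ≫ F.f a))
            (pullback.snd (c.ι.app j) (pullback.fst (F.f a) (F.f b) ≫ F.f a) ≫
              pullback.fst (F.f a) (F.f b)) c1 ≫ pullback.snd (c.ι.app j) (F.f a) :=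
        (pullback.lift_snd _ _ _).symm
      have e2 : pullback.snd (c.ι.app j) (pullback.fst (F.f a) (F.f b) ≫ F.f a) ≫
          pullback.snd (F.f a) (F.f b) =
          pullback.lift (pullback.fst (c.ι.app j) (pullback.fst (F.f a) (F.f b) ≫ F.f a))
            (pullback.snd (c.ι.app j) (pullback.fst (F.f a) (F.f b) ≫ F.f a) ≫
              pullback.snd (F.f a) (F.f b)) c2 ≫ pullback.snd (c.ι.app j) (F.f b) :=
        (pullback.lift_snd _ _ _).symm
      rw [← Category.assoc, e1, Category.assoc, hma, pullback.lift_fst_assoc, ← Category.assoc, e2,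
        Category.assoc, hma, pullback.lift_fst_assoc]
    have hsh := sheafFor F.presieve₀ hF s.pt
    obtain ⟨m, hm, hmu⟩ := (Presieve.isSheafFor_arrows_iff_pullbacks _ _).1 hsh ma
      (fun a b => hcompat a b)
    replace hm : ∀ a, F.f a ≫ m = ma a := hm
    have hje : ∀ j (Z : Scheme.{u}) (x y : D.obj j ⟶ Z),
        (∀ a, pullback.fst (c.ι.app j) (F.f a) ≫ x = pullback.fst (c.ι.app j) (F.f a) ≫ y) →
        x = y := by
      intro j Z x y hxy
      have hcov : Presieve.ofArrows (fun a => pullback (c.ι.app j) (F.f a))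
          (fun a => pullback.fst (c.ι.app j) (F.f a)) ∈ Scheme.fpqcPrecoverage (D.obj j) :=
        Precoverage.mem_coverings_of_isPullback F.f hF (c.ι.app j) _
          (fun a => pullback.snd (c.ι.app j) (F.f a))
          (fun a => IsPullback.of_hasPullback (c.ι.app j) (F.f a))
      refine (sheafFor _ hcov Z).isSeparatedFor.ext ?_
      rintro _ _ ⟨a⟩
      exact hxy a
    refine ⟨m, ?_, ?_⟩
    · intro j
      apply hje
      intro a
      rw [← Category.assoc, pullback.condition, Category.assoc, hm a]
      exact hma a j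
    · intro m' hm'
      apply hmu
      intro a
      apply (h1 a).some.hom_ext
      intro j
      change pullback.snd (c.ι.app j) (F.f a) ≫ (F.f a ≫ m') = pullback.snd (c.ι.app j) (F.f a) ≫ ma a
      rw [hma, ← pullback.condition_assoc, hm']
  choose m hm hmu using key
  exact ⟨{ desc := m, fac := fun s j => hm s j, uniq := fun s m' h => hmu s m' h }⟩

end H5S7204

open AlgebraicGeometry CategoryTheory Limits in
/-- Let (X_i)_{i ∈ I} be a diagram of schemes and (W, X_i → W) a cocone under it. If there is an fpqc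
covering {W_a → W} such that each W_a is the colimit (in schemes) of the base-changed diagram (X_i
×_W W_a), and each W_a ×_W W_b is the colimit of (X_i ×_W W_a ×_W W_b), then W is the colimit of
(X_i) in the category of schemes. -/
theorem result {J : Type u} [SmallCategory J] (D : J ⥤ Scheme.{u}) (c : Cocone D)
    (F : PreZeroHypercover.{w} c.pt) (hF : F.presieve₀ ∈ Scheme.fpqcPrecoverage c.pt)
    (h1 : ∀ a : F.I₀, Nonempty (IsColimit ((Over.forgetCocone (F.X a)).whisker
      (D.toOver c.pt (fun j => c.ι.app j) (fun g => c.w g) ⋙ Over.pullback (F.f a)))))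
    (h2 : ∀ a b : F.I₀, Nonempty (IsColimit ((Over.forgetCocone (pullback (F.f a) (F.f b))).whisker
      (D.toOver c.pt (fun j => c.ι.app j) (fun g => c.w g) ⋙ Over.pullback (pullback.fst (F.f a) (F.f b) ≫ F.f a))))) :
    Nonempty (IsColimit c) := by
  exact H5S7204.main D c F hF h1 h2

end Groth.Agent.S7204
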