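import Groth.Statements.S7225
import Mathlib

set_option autoImplicit false
universe u
open CategoryTheory CategoryTheory.Limits TensorProduct
attribute [local instance] HasDerivedCategory.standard
open FlatMor

namespace Groth.Agent.S7225

section Aux
open CategoryTheory CategoryTheory.Limits TensorProduct MvPolynomial

/-- general ring-level statement behind the comparison of conormal modules under localisation -/
lemma ring_key {P P' : Type*} [CommRing P] [CommRing P'] (φ : P →+* P') (K : Ideal P)
    (K' : Ideal P') (hK : K = K'.comap φ) (T : Submonoid P)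
    (h1 : ∀ y : P', ∃ t ∈ T, ∃ x : P, φ t * y = φ x)
    (h2 : ∀ x : P, φ x = 0 → ∃ t ∈ T, t * x = 0)
    (h3 : ∀ t ∈ T, ∃ p : P, t * p - 1 ∈ K) :
    (∀ x ∈ K, φ x ∈ K' ^ 2 → x ∈ K ^ 2) ∧ (∀ y ∈ K', ∃ w ∈ K, φ w - y ∈ K' ^ 2) := by
  have hmemK : ∀ x, φ x ∈ K' → x ∈ K := fun x hx => by rw [hK]; exact hx
  have hKK' : ∀ x ∈ K, φ x ∈ K' := fun x hx => by rw [hK] at hx; exact hx
  -- lifting elements of K'
  have lift1 : ∀ y ∈ K', ∃ t ∈ T, ∃ x ∈ K, φ t * y = φ x := by
    intro y hy
    obtain ⟨t, ht, x, hx⟩ := h1 y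
    exact ⟨t, ht, x, hmemK x (hx ▸ K'.mul_mem_left _ hy), hx⟩
  have lift2 : ∀ y ∈ K' ^ 2, ∃ t ∈ T, ∃ w ∈ K ^ 2, φ t * y = φ w := by
    intro y hy
    rw [pow_two] at hy
    refine Submodule.mul_induction_on hy ?_ ?_
    · intro a ha b hb
      obtain ⟨t, ht, x, hx, e⟩ := lift1 a ha
      obtain ⟨t', ht', x', hx', e'⟩ := lift1 b hb
      refine ⟨t * t', T.mul_mem ht ht', x * x', ?_, ?_⟩
      · rw [pow_two]; exact Ideal.mul_mem_mul hx hx'
      · rw [map_mul, map_mul, ← e, ← e']; ring
    · intro a b ⟨t, ht, w, hw, e⟩ ⟨t', ht', w', hw', e'⟩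
      refine ⟨t * t', T.mul_mem ht ht', t' * w + t * w', ?_, ?_⟩
      · exact Ideal.add_mem _ (Ideal.mul_mem_left _ _ hw) (Ideal.mul_mem_left _ _ hw')
      · rw [map_add, map_mul, map_mul, map_mul, ← e, ← e']; ring
  have unit : ∀ t ∈ T, ∀ x ∈ K, t * x ∈ K ^ 2 → x ∈ K ^ 2 := by
    intro t ht x hx htx
    obtain ⟨p, hp⟩ := h3 t ht
    have e : x = p * (t * x) - (t * p - 1) * x := by ring
    rw [e]
    refine Ideal.sub_mem _ (Ideal.mul_mem_left _ _ htx) ?_
    rw [pow_two]; exact Ideal.mul_mem_mul hp hx
  refine ⟨?_, ?_⟩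
  · intro x hx hφ
    obtain ⟨t, ht, w, hw, e⟩ := lift2 _ hφ
    have h0 : φ (t * x - w) = 0 := by rw [map_sub, map_mul, e, sub_self]
    obtain ⟨t', ht', e'⟩ := h2 _ h0
    have h4 : (t' * t) * x = t' * w := by
      have : t' * (t * x - w) = 0 := e'
      linear_combination this
    apply unit (t' * t) (T.mul_mem ht' ht) x hx
    rw [h4]
    exact Ideal.mul_mem_left _ _ hw
  · intro y hy
    obtain ⟨t, ht, x, hx, e⟩ := lift1 y hy
    obtain ⟨p, hp⟩ := h3 t ht
    refine ⟨p * x, Ideal.mul_mem_left _ _ hx, ?_⟩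
    have e2 : φ (p * x) - y = φ (t * p - 1) * y := by
      rw [map_mul, ← e, map_sub, map_mul, map_one]; ring
    rw [e2, pow_two]
    exact Ideal.mul_mem_mul (hKK' _ hp) hy

section Main
attribute [local instance] MvPolynomial.algebraMvPolynomial
variable {A A' B : Type u} [CommRing A] [CommRing A'] [CommRing B]
  [Algebra A A'] (M : Submonoid A) [IsLocalization M A'] [Algebra A' B] [Algebra A B]
  [IsScalarTower A A' B]
  {ι : Type u} (G : Algebra.Generators A B ι) (G' : Algebra.Generators A' B ι)
  (h : ∀ i, G'.val i = algebraMap B B (G.val i))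

lemma toAlgHom_eq (x : MvPolynomial ι A) :
    (NLCx.sameVarsHom (S' := B) G G' h).toAlgHom x =
      algebraMap (MvPolynomial ι A) (MvPolynomial ι A') x := by
  rw [MvPolynomial.algebraMap_def]
  induction x using MvPolynomial.induction_on with
  | C a => rw [Algebra.Generators.Hom.toAlgHom_C, MvPolynomial.map_C]
  | add p q hp hq => rw [map_add, map_add, hp, hq]
  | mul_X p i hp =>
    rw [map_mul, map_mul, hp, Algebra.Generators.Hom.toAlgHom_X, MvPolynomial.map_X]
    rfl

include M in
lemma cot_key :
    (∀ x ∈ G.toExtension.ker, (NLCx.sameVarsHom (S' := B) G G' h).toExtensionHom.toRingHom x ∈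
        G'.toExtension.ker ^ 2 → x ∈ G.toExtension.ker ^ 2) ∧
    (∀ y ∈ G'.toExtension.ker, ∃ w ∈ G.toExtension.ker,
        (NLCx.sameVarsHom (S' := B) G G' h).toExtensionHom.toRingHom w - y ∈
          G'.toExtension.ker ^ 2) := by
  set fE := (NLCx.sameVarsHom (S' := B) G G' h).toExtensionHom with hfE
  have hφ : ∀ x : MvPolynomial ι A, fE.toRingHom x =
      algebraMap (MvPolynomial ι A) (MvPolynomial ι A') x := fun x => toAlgHom_eq G G' h x
  refine ring_key fE.toRingHom G.toExtension.ker G'.toExtension.ker ?_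
    (M.map (MvPolynomial.C : A →+* MvPolynomial ι A)) ?_ ?_ ?_
  · ext x
    rw [Ideal.mem_comap, RingHom.mem_ker, RingHom.mem_ker, fE.algebraMap_toRingHom]
    rfl
  · intro y
    obtain ⟨⟨x, s⟩, hs⟩ := IsLocalization.surj (S := MvPolynomial ι A')
      (M.map (MvPolynomial.C : A →+* MvPolynomial ι A)) y
    refine ⟨s.1, s.2, x, ?_⟩
    rw [hφ, hφ, mul_comm]
    exact hs
  · intro x hx
    rw [hφ] at hx
    have := (IsLocalization.eq_iff_exists (M.map (MvPolynomial.C : A →+* MvPolynomial ι A))
      (MvPolynomial ι A')).mp (hx.trans (map_zero _).symm)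
    obtain ⟨c, hc⟩ := this
    exact ⟨c.1, c.2, hc.trans (mul_zero _)⟩
  · rintro t ⟨m, hm, rfl⟩
    have hu : IsUnit (algebraMap A B m) := by
      rw [IsScalarTower.algebraMap_apply A A' B]
      exact (IsLocalization.map_units A' ⟨m, hm⟩).map _
    obtain ⟨b, hb⟩ := hu.exists_right_inv
    obtain ⟨p, rfl⟩ := G.toExtension.algebraMap_surjective b
    refine ⟨p, ?_⟩
    rw [RingHom.mem_ker, map_sub, map_mul, map_one, sub_eq_zero]
    rw [← hb]
    congr 1
    exact (IsScalarTower.algebraMap_apply A G.toExtension.Ring B m).symm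

include M in
lemma cot_bij : Function.Bijective
    (Algebra.Extension.Cotangent.map (NLCx.sameVarsHom (S' := B) G G' h).toExtensionHom) := by
  obtain ⟨hinj, hsurj⟩ := cot_key M G G' h
  constructor
  · rw [injective_iff_map_eq_zero]
    intro z hz
    obtain ⟨x, rfl⟩ := Algebra.Extension.Cotangent.mk_surjective z
    rw [Algebra.Extension.Cotangent.map_mk, Algebra.Extension.Cotangent.mk_eq_zero_iff] at hz
    rw [Algebra.Extension.Cotangent.mk_eq_zero_iff]
    exact hinj x.1 x.2 hz
  · intro z
    obtain ⟨y, rfl⟩ := Algebra.Extension.Cotangent.mk_surjective z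
    obtain ⟨w, hw, hwy⟩ := hsurj y.1 y.2
    refine ⟨Algebra.Extension.Cotangent.mk ⟨w, hw⟩, ?_⟩
    rw [Algebra.Extension.Cotangent.map_mk, Algebra.Extension.Cotangent.mk_eq_mk_iff_sub_mem]
    exact hwy

lemma cs_basis (i : ι) :
    Algebra.Extension.CotangentSpace.map (NLCx.sameVarsHom (S' := B) G G' h).toExtensionHom
      (G.cotangentSpaceBasis i) = G'.cotangentSpaceBasis i := by
  apply G'.cotangentSpaceBasis.repr.injective
  ext j
  rw [Algebra.Generators.repr_CotangentSpaceMap]
  classical
  simp only [NLCx.sameVarsHom, Module.Basis.repr_self]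
  rw [MvPolynomial.pderiv_X, Finsupp.single_apply, Pi.single_apply]
  split_ifs <;> simp

lemma cs_bij : Function.Bijective
    (Algebra.Extension.CotangentSpace.map (NLCx.sameVarsHom (S' := B) G G' h).toExtensionHom) := by
  have : (Algebra.Extension.CotangentSpace.map
      (NLCx.sameVarsHom (S' := B) G G' h).toExtensionHom) =
      (G.cotangentSpaceBasis.equiv G'.cotangentSpaceBasis (Equiv.refl ι)).toLinearMap := by
    apply G.cotangentSpaceBasis.ext
    intro i
    rw [cs_basis]; simp
  rw [this]
  exact LinearEquiv.bijective _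

include M in
theorem main : IsIso (NLCx.map (NLCx.sameVarsHom (S' := B) G G' h).toExtensionHom) := by
  have h0 : IsIso (ModuleCat.ofHom (Algebra.Extension.Cotangent.map
      (NLCx.sameVarsHom (S' := B) G G' h).toExtensionHom)) :=
    (ConcreteCategory.isIso_iff_bijective _).mpr (cot_bij M G G' h)
  have h1 : IsIso (ModuleCat.ofHom (Algebra.Extension.CotangentSpace.map
      (NLCx.sameVarsHom (S' := B) G G' h).toExtensionHom)) :=
    (ConcreteCategory.isIso_iff_bijective _).mpr (cs_bij G G' h)
  have : ∀ n : ℤ, IsIso ((NLCx.map (NLCx.sameVarsHom (S' := B) G G' h).toExtensionHom).f n) := by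
    intro n
    by_cases hn0 : n = -1
    · subst hn0
      unfold NLCx.map
      rw [HomologicalComplex.mkHomFromDouble_f₀]
      exact IsIso.comp_isIso' inferInstance (IsIso.comp_isIso' h0 inferInstance)
    · by_cases hn1 : n = 0
      · subst hn1
        unfold NLCx.map
        rw [HomologicalComplex.mkHomFromDouble_f₁]
        exact IsIso.comp_isIso' inferInstance (IsIso.comp_isIso' h1 inferInstance)
      · have hs : IsZero ((NLCx.cx G.toExtension).X n) :=
          HomologicalComplex.isZero_double_X _ _ n hn0 hn1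
        have ht : IsZero ((NLCx.cx G'.toExtension).X n) :=
          HomologicalComplex.isZero_double_X _ _ n hn0 hn1
        exact ⟨⟨0, hs.eq_of_src _ _, ht.eq_of_src _ _⟩⟩
  exact HomologicalComplex.Hom.isIso_of_components _

end Main

end Aux

/-- Let A be a ring, M a submonoid of A, A' a localization of A at M and B an A'-algebra, viewed also as
an A-algebra. Let G be a presentation of B over A by a polynomial algebra and G' the presentation of
B over A' with the same generators (G'(i) = G(i), written through the identity algebra map of B).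
Then the canonical chain map NL(G) → NL(G') from the naive cotangent complex of the presentation
over A to that of the presentation over A' is an isomorphism of complexes (so that NL_{B/A} →
NL_{B/A'} is a homotopy equivalence). -/
theorem result (A A' B : Type u) [CommRing A] [CommRing A'] [CommRing B]
    [Algebra A A'] (M : Submonoid A) [IsLocalization M A'] [Algebra A' B] [Algebra A B] [IsScalarTower A A' B]
    {ι : Type u} (G : Algebra.Generators A B ι) (G' : Algebra.Generators A' B ι) (h : ∀ i, G'.val i = algebraMap B B (G.val i)) :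
    IsIso (NLCx.map (NLCx.sameVarsHom (S' := B) G G' h).toExtensionHom) := by
  exact main M G G' h

end Groth.Agent.S7225
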