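import Groth.Statements.S7237
import Mathlib

set_option autoImplicit false
universe u
open TensorProduct
open FlatMor

namespace Groth.Agent.S7237



/-- Let A be a ring and M a finitely generated A-module, and let C = Sym_A(M) be the symmetric algebra
of M with its canonical A-linear map ι : M → C. Then Ω_{C/A} = M ⊗_A C: the C-linear map C ⊗_A M →
Ω_{C/A} obtained by extending scalars in the A-linear map m ↦ d(ι m), d being the universal
A-derivation of C, is bijective. (The published lemma also computes the whole naive cotangent
complex of the presentation of C attached to a surjection A^m → M with kernel K, namely as K ⊗_A C →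
⊕_j C dy_j; only its consequence for Ω is asserted here.) -/
theorem result (A : Type u) [CommRing A] (M : Type u)
    [AddCommGroup M] [Module A M] [Module.Finite A M] :
    Function.Bijective (LinearMap.liftBaseChange (SymmetricAlgebra A M)
      ((KaehlerDifferential.D A (SymmetricAlgebra A M)).toLinearMap.restrictScalars A ∘ₗ SymmetricAlgebra.ι A M)) := by
  set C := SymmetricAlgebra A M with hC
  set N := C ⊗[A] M with hN
  -- the lift to the trivial square zero extension
  let f₀ : M →ₗ[A] TrivSqZeroExt C N :=
    (TrivSqZeroExt.inlAlgHom A C N).toLinearMap ∘ₗ SymmetricAlgebra.ι A M +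
      (TrivSqZeroExt.inrHom C N).restrictScalars A ∘ₗ (TensorProduct.mk A C M 1)
  let ψ : C →ₐ[A] TrivSqZeroExt C N := SymmetricAlgebra.lift f₀
  have hψι : ∀ m, ψ (SymmetricAlgebra.ι A M m) = f₀ m := fun m => SymmetricAlgebra.lift_ι_apply f₀ m
  have h1 : (TrivSqZeroExt.fstHom A C N).comp ψ = AlgHom.id A C := by
    apply SymmetricAlgebra.algHom_ext
    ext m
    change (ψ (SymmetricAlgebra.ι A M m)).fst = SymmetricAlgebra.ι A M m
    rw [hψι]
    simp [f₀]
  have hfst : ∀ c, (ψ c).fst = c := fun c => AlgHom.congr_fun h1 c
  let d' : Derivation A C N := Derivation.mk'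
    ((TrivSqZeroExt.sndHom C N).restrictScalars A ∘ₗ ψ.toLinearMap)
    (fun a b => by
      simp only [LinearMap.comp_apply, AlgHom.toLinearMap_apply, LinearMap.restrictScalars_apply,
        TrivSqZeroExt.sndHom_apply, map_mul, TrivSqZeroExt.snd_mul, hfst, op_smul_eq_smul])
  have hd' : ∀ c, d' c = (ψ c).snd := fun c => rfl
  have hd'ι : ∀ m, d' (SymmetricAlgebra.ι A M m) = (1 : C) ⊗ₜ[A] m := by
    intro m
    rw [hd', hψι]
    simp [f₀]
    rfl
  let Φ := LinearMap.liftBaseChange C
      ((KaehlerDifferential.D A C).toLinearMap.restrictScalars A ∘ₗ SymmetricAlgebra.ι A M)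
  have hΦ : ∀ (c : C) (m : M), Φ (c ⊗ₜ m) = c • KaehlerDifferential.D A C (SymmetricAlgebra.ι A M m) :=
    fun c m => LinearMap.liftBaseChange_tmul _ _ _ _
  let Ψ : Ω[C⁄A] →ₗ[C] N := d'.liftKaehlerDifferential
  have hΨ : ∀ c, Ψ (KaehlerDifferential.D A C c) = d' c :=
    fun c => Derivation.liftKaehlerDifferential_comp_D d' c
  change Function.Bijective Φ
  rw [Function.bijective_iff_has_inverse]
  refine ⟨Ψ, fun n => ?_, fun ω => ?_⟩
  · have : Ψ ∘ₗ Φ = LinearMap.id := by
      apply TensorProduct.AlgebraTensorModule.ext
      intro c m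
      rw [LinearMap.comp_apply, hΦ, map_smul, hΨ, hd'ι, LinearMap.id_apply,
        TensorProduct.smul_tmul', smul_eq_mul, mul_one]
    exact LinearMap.congr_fun this n
  · have key : ∀ c : C, Φ (d' c) = KaehlerDifferential.D A C c := by
      intro c
      induction c using SymmetricAlgebra.induction with
      | algebraMap r => rw [Derivation.map_algebraMap, Derivation.map_algebraMap, map_zero]
      | ι m => rw [hd'ι, hΦ, one_smul]
      | mul a b ha hb =>
        rw [Derivation.leibniz, Derivation.leibniz, map_add, map_smul, map_smul, ha, hb]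
      | add a b ha hb => rw [map_add, map_add, map_add, ha, hb]
    have hω : ω ∈ Submodule.span C (Set.range (KaehlerDifferential.D A C)) := by
      rw [KaehlerDifferential.span_range_derivation]; trivial
    induction hω using Submodule.span_induction with
    | mem y hy =>
      obtain ⟨c, rfl⟩ := hy
      rw [hΨ, key]
    | zero => simp
    | add y z _ _ hy hz => rw [map_add, map_add, hy, hz]
    | smul a y _ hy => rw [map_smul, map_smul, hy]

end Groth.Agent.S7237
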