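import Groth.Statements.S7318
import Mathlib.Combinatorics.SimpleGraph.Acyclic

set_option autoImplicit false
open Finset
open Models Models.NumericalType

namespace Groth.Agent.S7318

/-- For a numerical type T on n indices with e pairs i < j such that a_ij > 0, the topological genus 1 -
n + e is ≥ 0. -/
theorem result {n : ℕ} (T : Models.NumericalType n) : 0 ≤ T.topGenus := by
  classical
  let G : SimpleGraph (Fin n) :=
    { Adj := fun i j => i ≠ j ∧ T.a i j ≠ 0
      symm := ⟨fun i j h => ⟨h.1.symm, by rw [T.symm.apply]; exact h.2⟩⟩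
      loopless := ⟨fun i h => h.1 rfl⟩ }
  have hpos := T.pos
  let i0 : Fin n := ⟨0, hpos⟩
  have hreach : ∀ j, G.Reachable i0 j := by
    by_contra hcon
    push Not at hcon
    obtain ⟨j0, hj0⟩ := hcon
    let I : Finset (Fin n) := univ.filter fun j => G.Reachable i0 j
    have hI1 : I.Nonempty := ⟨i0, by simp [I]⟩
    have hI2 : I ≠ univ := by
      intro h
      have : j0 ∈ I := by rw [h]; exact mem_univ _
      simp only [I, mem_filter, mem_univ, true_and] at this
      exact hj0 this
    obtain ⟨i, hi, j, hj, hij⟩ := T.connected I hI1 hI2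
    simp only [I, mem_filter, mem_univ, true_and] at hi hj
    apply hj
    have hne : i ≠ j := by
      rintro rfl
      exact hj hi
    exact hi.trans (SimpleGraph.Adj.reachable (show G.Adj i j from ⟨hne, hij⟩))
  have hconn : G.Connected := by
    haveI : Nonempty (Fin n) := ⟨i0⟩
    rw [SimpleGraph.connected_iff_exists_forall_reachable]
    exact ⟨i0, hreach⟩
  have h1 := hconn.card_vert_le_card_edgeSet_add_one
  rw [Nat.card_eq_fintype_card, Fintype.card_fin] at h1
  have h2 : Nat.card G.edgeSet ≤ T.edgeCount := by
    rw [Nat.card_eq_fintype_card, ← SimpleGraph.edgeFinset_card]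
    unfold Models.NumericalType.edgeCount
    refine Finset.card_le_card_of_surjOn (fun p : Fin n × Fin n => s(p.1, p.2)) ?_
    intro e he
    rw [Finset.mem_coe, SimpleGraph.mem_edgeFinset] at he
    induction e using Sym2.ind with
    | _ i j =>
      rw [SimpleGraph.mem_edgeSet] at he
      obtain ⟨hne, hij⟩ := he
      have hpos : 0 < T.a i j := lt_of_le_of_ne (T.offDiag_nonneg i j hne) (Ne.symm hij)
      rcases lt_or_gt_of_ne hne with hlt | hgt
      · refine ⟨(i, j), ?_, rfl⟩
        simp only [coe_filter, mem_univ, true_and, Set.mem_setOf_eq]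
        exact ⟨hlt, hpos⟩
      · refine ⟨(j, i), ?_, Sym2.eq_swap⟩
        simp only [coe_filter, mem_univ, true_and, Set.mem_setOf_eq]
        refine ⟨hgt, ?_⟩
        rw [T.symm.apply]; exact hpos
  unfold Models.NumericalType.topGenus
  have : (n : ℤ) ≤ (T.edgeCount : ℤ) + 1 := by exact_mod_cast h1.trans (by omega)
  linarith

end Groth.Agent.S7318
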