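import Groth.Statements.S7340
import Mathlib

set_option autoImplicit false
universe u
open Polynomial
open Resolve

namespace Groth.Agent.S7340

open KaehlerDifferential

section Gen
variable (p : ℕ) [hp : Fact p.Prime] (R : Type u) [CommRing R] [CharP R p] (b : R)

/-- the algebra `R[y]/(y^p - b)` -/
abbrev SS : Type u := AdjoinRoot (X ^ p - C b : R[X])
/-- the root `y` -/
noncomputable abbrev rt : SS p R b := AdjoinRoot.root (X ^ p - C b : R[X])

local notation "Sb" => SS p R b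
local notation "yy" => rt p R b

theorem monic_f : (X ^ p - C b : R[X]).Monic :=
  monic_X_pow_sub_C b hp.out.ne_zero

theorem root_pow : yy ^ p = algebraMap R Sb b := by
  have h : AdjoinRoot.mk (X ^ p - C b : R[X]) (X ^ p - C b) = 0 := AdjoinRoot.mk_self
  rw [map_sub, map_pow, AdjoinRoot.mk_X, AdjoinRoot.mk_C, sub_eq_zero] at h
  exact h

theorem algebraMap_inj : Function.Injective (algebraMap R Sb) := by
  haveI : Nontrivial R := CharP.nontrivial_of_char_ne_one (R := R) (v := p) hp.out.ne_one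
  intro r r' h
  have h' : AdjoinRoot.mk (X ^ p - C b : R[X]) (C r) = AdjoinRoot.mk (X ^ p - C b : R[X]) (C r') := h
  have h2 := congrArg (AdjoinRoot.modByMonicHom (monic_f p R b)) h'
  rw [AdjoinRoot.modByMonicHom_mk, AdjoinRoot.modByMonicHom_mk] at h2
  have hdeg : ∀ c : R, (C c : R[X]).degree < (X ^ p - C b : R[X]).degree := by
    intro c
    rw [degree_X_pow_sub_C hp.out.pos]
    exact lt_of_le_of_lt degree_C_le (by exact_mod_cast hp.out.pos)
  rw [(modByMonic_eq_self_iff (monic_f p R b)).mpr (hdeg r),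
    (modByMonic_eq_self_iff (monic_f p R b)).mpr (hdeg r')] at h2
  exact C_injective h2

theorem natCast_Sb : ((p : ℕ) : Sb) = 0 := by
  rw [← map_natCast (algebraMap R Sb), CharP.cast_eq_zero, map_zero]

theorem isUnit_cast (m : ℕ) (hm : ¬ p ∣ m) : IsUnit ((m : ℕ) : R) := by
  have h1 : IsUnit ((m : ℕ) : ZMod p) := by
    rw [isUnit_iff_ne_zero, Ne, ZMod.natCast_eq_zero_iff]
    exact hm
  have := h1.map (ZMod.castHom (dvd_refl p) R)
  rwa [map_natCast] at this

variable (Ty : Ω[SS p R b⁄R] →ₗ[R] Ω[R⁄ℤ])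

theorem Ty_smul (r : R) (s : Sb) (ω : Ω[SS p R b⁄R]) : Ty ((algebraMap R Sb r * s) • ω) = r • Ty (s • ω) := by
  rw [mul_smul, algebraMap_smul, map_smul]


theorem Ty_root_pow (hTy : ∀ i : ℕ, i + 2 ≤ p → Ty (yy ^ i • D R Sb yy) = 0)
    (m : ℕ) (hm : m % p ≠ p - 1) : Ty (yy ^ m • D R Sb yy) = 0 := by
  have e : yy ^ m = algebraMap R Sb (b ^ (m / p)) * yy ^ (m % p) := by
    conv_lhs => rw [← Nat.div_add_mod m p, pow_add, pow_mul, root_pow, ← map_pow]
  rw [e, Ty_smul, hTy (m % p) (by have := Nat.mod_lt m hp.out.pos; omega), smul_zero]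

theorem Ty_exact (hTy : ∀ i : ℕ, i + 2 ≤ p → Ty (yy ^ i • D R Sb yy) = 0) (h : Sb) : Ty (D R Sb h) = 0 := by
  obtain ⟨G, rfl⟩ := AdjoinRoot.mk_surjective h
  induction G using Polynomial.induction_on' with
  | add f g hf hg => rw [map_add, map_add, map_add, hf, hg, add_zero]
  | monomial n r =>
    rw [← C_mul_X_pow_eq_monomial, map_mul, map_pow, AdjoinRoot.mk_X, AdjoinRoot.mk_C,
      Derivation.leibniz, Derivation.leibniz_pow]
    have h0 : D R Sb ((AdjoinRoot.of (X ^ p - C b : R[X])) r) = 0 :=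
      (D R Sb).map_algebraMap r
    rw [h0, smul_zero, add_zero, smul_comm, ← Nat.cast_smul_eq_nsmul R, map_smul]
    by_cases hn : p ∣ n
    · rw [(CharP.cast_eq_zero_iff R p n).mpr hn, zero_smul]
    · have e : (AdjoinRoot.of (X ^ p - C b : R[X])) r • yy ^ (n - 1) • D R Sb yy =
          (algebraMap R Sb r * yy ^ (n - 1)) • D R Sb yy := by
        rw [mul_smul]; rfl
      have hnp : (n - 1) % p ≠ p - 1 := by
        intro h1
        apply hn
        have hp2 := hp.out.two_le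
        have hn0 : n ≠ 0 := fun h => hn (h ▸ dvd_zero p)
        have : n = (n - 1) + 1 := by omega
        rw [this, Nat.dvd_iff_mod_eq_zero, Nat.add_mod, h1]
        have : (1 : ℕ) % p = 1 := Nat.mod_eq_of_lt hp2
        rw [this]
        have : p - 1 + 1 = p := by omega
        rw [this, Nat.mod_self]
      rw [e, Ty_smul, Ty_root_pow p R b Ty hTy (n - 1) hnp, smul_zero, smul_zero]

theorem Ty_pow_D (hTy : ∀ i : ℕ, i + 2 ≤ p → Ty (yy ^ i • D R Sb yy) = 0) (h : Sb) (m : ℕ) (hm : m + 2 ≤ p) : Ty (h ^ m • D R Sb h) = 0 := by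
  have e : D R Sb (h ^ (m + 1)) = (m + 1 : ℕ) • (h ^ m • D R Sb h) := by
    rw [Derivation.leibniz_pow]; simp
  have h1 := Ty_exact p R b Ty hTy (h ^ (m + 1))
  rw [e, ← Nat.cast_smul_eq_nsmul R, map_smul] at h1
  have hu : IsUnit (((m + 1 : ℕ)) : R) := isUnit_cast p R (m + 1) (by
    intro hd
    have := Nat.le_of_dvd (by omega) hd
    omega)
  exact (hu.smul_eq_zero).mp h1

theorem Ty_smul' (r : R) (s : Sb) (ω : Ω[SS p R b⁄R]) :
    Ty ((s * algebraMap R Sb r) • ω) = r • Ty (s • ω) := by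
  rw [mul_comm, Ty_smul]

theorem lam_eq (hTy : ∀ i : ℕ, i + 2 ≤ p → Ty (yy ^ i • D R Sb yy) = 0)
    (hTy' : Ty (yy ^ (p - 1) • D R Sb yy) = D ℤ R b) (G : R[X]) :
    ∃ r : R, algebraMap R Sb r = (AdjoinRoot.mk (X ^ p - C b : R[X]) G) ^ p ∧
      Ty ((AdjoinRoot.mk (X ^ p - C b : R[X]) G) ^ (p - 1) •
        D R Sb (AdjoinRoot.mk (X ^ p - C b : R[X]) G)) = D ℤ R r := by
  have hp0 : p ≠ 0 := hp.out.ne_zero
  induction G using Polynomial.recOnHorner with
  | M0 =>
    refine ⟨0, ?_, ?_⟩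
    · rw [map_zero, map_zero, zero_pow hp0]
    · rw [map_zero, map_zero, smul_zero, map_zero, map_zero]
  | MC G c _ _ ih =>
    obtain ⟨r, hr, hl⟩ := ih
    set h : Sb := AdjoinRoot.mk (X ^ p - C b : R[X]) G with hh
    have hc : AdjoinRoot.mk (X ^ p - C b : R[X]) (C c) = algebraMap R Sb c := AdjoinRoot.mk_C c
    refine ⟨r + c ^ p, ?_, ?_⟩
    · rw [map_add, map_add, map_pow, hr, hc, (Commute.all h (algebraMap R Sb c)).add_pow_prime_eq
        hp.out, natCast_Sb]
      simp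
    · rw [map_add, hc, map_add, (D R Sb).map_algebraMap, add_zero, add_pow, Finset.sum_smul,
        map_sum, Finset.sum_eq_single (p - 1)]
      · have e : (h ^ (p - 1) * algebraMap R Sb c ^ (p - 1 - (p - 1)) *
            (((p - 1).choose (p - 1) : ℕ) : Sb)) = h ^ (p - 1) := by simp
        rw [e, hl, map_add, Derivation.leibniz_pow, ← Nat.cast_smul_eq_nsmul R,
          CharP.cast_eq_zero, zero_smul, add_zero]
      · intro j hj hjne
        have hj' : j + 2 ≤ p := by
          have := Finset.mem_range.mp hj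
          omega
        have e : (h ^ j * algebraMap R Sb c ^ (p - 1 - j) * (((p - 1).choose j : ℕ) : Sb)) =
            h ^ j * algebraMap R Sb (c ^ (p - 1 - j) * (((p - 1).choose j : ℕ) : R)) := by
          rw [map_mul, map_pow, map_natCast, mul_assoc]
        rw [e, Ty_smul', Ty_pow_D p R b Ty hTy h j hj', smul_zero]
      · intro hn
        exfalso
        apply hn
        rw [Finset.mem_range]
        have := hp.out.two_le
        omega
  | MX G _ ih =>
    obtain ⟨r, hr, hl⟩ := ih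
    set h : Sb := AdjoinRoot.mk (X ^ p - C b : R[X]) G with hh
    have hX : AdjoinRoot.mk (X ^ p - C b : R[X]) X = yy := AdjoinRoot.mk_X
    refine ⟨r * b, ?_, ?_⟩
    · rw [map_mul, map_mul, hX, mul_pow, hr, root_pow]
    · rw [map_mul, hX, Derivation.leibniz, smul_add, smul_smul, smul_smul]
      have e1 : (h * yy) ^ (p - 1) * h = algebraMap R Sb r * yy ^ (p - 1) := by
        rw [mul_pow, hr, mul_right_comm, pow_sub_one_mul hp0]
      have e2 : (h * yy) ^ (p - 1) * yy = algebraMap R Sb b * h ^ (p - 1) := by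
        rw [mul_pow, mul_assoc, pow_sub_one_mul hp0, root_pow, mul_comm]
      rw [e1, e2, map_add, Ty_smul, Ty_smul, hTy', hl, Derivation.leibniz]

end Gen

theorem result' (p : ℕ) [hp : Fact p.Prime] (R : Type u) [CommRing R] [CharP R p] (a b : R)
    (φ : AdjoinRoot (X ^ p - C a : R[X]) →ₐ[R] AdjoinRoot (X ^ p - C b : R[X]))
    (Tx : Ω[AdjoinRoot (X ^ p - C a : R[X])⁄R] →ₗ[R] Ω[R⁄ℤ])
    (Ty : Ω[AdjoinRoot (X ^ p - C b : R[X])⁄R] →ₗ[R] Ω[R⁄ℤ])
    (hTx : ∀ i : ℕ, i + 2 ≤ p →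
      Tx (AdjoinRoot.root (X ^ p - C a) ^ i • KaehlerDifferential.D R _ (AdjoinRoot.root (X ^ p - C a))) = 0)
    (hTx' : Tx (AdjoinRoot.root (X ^ p - C a) ^ (p - 1) • KaehlerDifferential.D R _ (AdjoinRoot.root (X ^ p - C a))) =
      KaehlerDifferential.D ℤ R a)
    (hTy : ∀ i : ℕ, i + 2 ≤ p →
      Ty (AdjoinRoot.root (X ^ p - C b) ^ i • KaehlerDifferential.D R _ (AdjoinRoot.root (X ^ p - C b))) = 0)
    (hTy' : Ty (AdjoinRoot.root (X ^ p - C b) ^ (p - 1) • KaehlerDifferential.D R _ (AdjoinRoot.root (X ^ p - C b))) =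
      KaehlerDifferential.D ℤ R b)
    (s t : AdjoinRoot (X ^ p - C a : R[X])) :
    Tx (s • KaehlerDifferential.D R _ t) = Ty (φ s • KaehlerDifferential.D R _ (φ t)) := by
  set x : SS p R a := rt p R a with hx
  set g : SS p R b := φ x with hg
  have hgp : g ^ p = algebraMap R (SS p R b) a := by
    rw [hg, ← map_pow, hx, root_pow, AlgHom.commutes]
  -- Step A
  have stepA : ∀ n : ℕ, Tx (x ^ n • D R (SS p R a) x) = Ty (g ^ n • D R (SS p R b) g) := by
    intro n
    have e1 : x ^ n = algebraMap R (SS p R a) (a ^ (n / p)) * x ^ (n % p) := by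
      conv_lhs => rw [← Nat.div_add_mod n p, pow_add, pow_mul, hx, root_pow, ← map_pow]
    have e2 : g ^ n = algebraMap R (SS p R b) (a ^ (n / p)) * g ^ (n % p) := by
      conv_lhs => rw [← Nat.div_add_mod n p, pow_add, pow_mul, hgp, ← map_pow]
    rw [e1, e2, Ty_smul, Ty_smul]
    congr 1
    have hlt := Nat.mod_lt n hp.out.pos
    by_cases hm : n % p + 2 ≤ p
    · rw [hTx _ hm, Ty_pow_D p R b Ty hTy g _ hm]
    · have hm' : n % p = p - 1 := by omega
      rw [hm', hTx']
      obtain ⟨G, hG⟩ := AdjoinRoot.mk_surjective g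
      obtain ⟨r, hr, hl⟩ := lam_eq p R b Ty hTy hTy' G
      rw [hG] at hr hl
      rw [hl]
      have : r = a := algebraMap_inj p R b (hr.trans hgp)
      rw [this]
  -- Step B
  have stepB : ∀ w : SS p R a, Tx (w • D R (SS p R a) x) = Ty (φ w • D R (SS p R b) g) := by
    intro w
    obtain ⟨W, rfl⟩ := AdjoinRoot.mk_surjective w
    induction W using Polynomial.induction_on' with
    | add f1 f2 h1 h2 => rw [map_add, add_smul, map_add, h1, h2, map_add, add_smul, map_add]
    | monomial n r =>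
      have e : AdjoinRoot.mk (X ^ p - C a : R[X]) (monomial n r) =
          algebraMap R (SS p R a) r * x ^ n := by
        rw [← C_mul_X_pow_eq_monomial, map_mul, map_pow, AdjoinRoot.mk_X, AdjoinRoot.mk_C]
        rfl
      rw [e, map_mul, map_pow, AlgHom.commutes, Ty_smul, Ty_smul, stepA n]
  -- Step C
  obtain ⟨G, rfl⟩ := AdjoinRoot.mk_surjective t
  have e1 : AdjoinRoot.mk (X ^ p - C a : R[X]) G = aeval x G := (AdjoinRoot.aeval_eq G).symm
  have e2 : φ (aeval x G) = aeval g G := (Polynomial.aeval_algHom_apply φ x G).symm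
  have e3 : aeval g (derivative G) = φ (aeval x (derivative G)) := by
    rw [hg]; exact Polynomial.aeval_algHom_apply φ x _
  rw [e1, e2, Derivation.map_aeval, Derivation.map_aeval, smul_smul, smul_smul, e3, ← map_mul]
  exact stepB _

/-- Let p be a prime number and R an F_p-algebra, a, b ∈ R, S_a = R[x]/(x^p - a) and S_b = R[y]/(y^p -
b). The trace Tr_x : Ω_{S_a/R} → Ω_R is the R-linear map with x^i dx ↦ 0 for 0 ≤ i ≤ p - 2 and
x^{p-1} dx ↦ da (these determine it, Ω_{S_a/R} being free over R on the x^i dx), and similarly Tr_y.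
Then for every R-algebra homomorphism φ : S_a → S_b one has Tr_x = Tr_y ∘ φ_*: for all s, t ∈ S_a,
Tr_x(s dt) = Tr_y(φ(s) dφ(t)). Here Ω_R is the module of absolute differentials Ω_{R/Z}. -/
theorem result (p : ℕ) [Fact p.Prime] (R : Type u) [CommRing R] [CharP R p] (a b : R)
    (φ : AdjoinRoot (X ^ p - C a : R[X]) →ₐ[R] AdjoinRoot (X ^ p - C b : R[X]))
    (Tx : Ω[AdjoinRoot (X ^ p - C a : R[X])⁄R] →ₗ[R] Ω[R⁄ℤ])
    (Ty : Ω[AdjoinRoot (X ^ p - C b : R[X])⁄R] →ₗ[R] Ω[R⁄ℤ])
    (hTx : ∀ i : ℕ, i + 2 ≤ p →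
      Tx (AdjoinRoot.root (X ^ p - C a) ^ i • KaehlerDifferential.D R _ (AdjoinRoot.root (X ^ p - C a))) = 0)
    (hTx' : Tx (AdjoinRoot.root (X ^ p - C a) ^ (p - 1) • KaehlerDifferential.D R _ (AdjoinRoot.root (X ^ p - C a))) =
      KaehlerDifferential.D ℤ R a)
    (hTy : ∀ i : ℕ, i + 2 ≤ p →
      Ty (AdjoinRoot.root (X ^ p - C b) ^ i • KaehlerDifferential.D R _ (AdjoinRoot.root (X ^ p - C b))) = 0)
    (hTy' : Ty (AdjoinRoot.root (X ^ p - C b) ^ (p - 1) • KaehlerDifferential.D R _ (AdjoinRoot.root (X ^ p - C b))) =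
      KaehlerDifferential.D ℤ R b)
    (s t : AdjoinRoot (X ^ p - C a : R[X])) :
    Tx (s • KaehlerDifferential.D R _ t) = Ty (φ s • KaehlerDifferential.D R _ (φ t)) := by
  exact result' p R a b φ Tx Ty hTx hTx' hTy hTy' s t

end Groth.Agent.S7340
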