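import Groth.Statements.S7341
import Groth.Agent.Lib.helper11.NumType

set_option autoImplicit false
open Finset
open Models Models.NumericalType

namespace Groth.Agent.S7341

open Groth.Agent.Lib.helper11.NumType in
/-- Classification of proper subgraphs which are chains of three vertices: let T be a numerical type on
n > 3 indices and i, j, k distinct (-2)-indices with a_ij > 0 and a_jk > 0. Then a_ik = 0 and, up to
reversing the order of i, j, k, one of the following holds for some integer w: (A3) w_i = w_j = w_k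
= w, a_ij = a_jk = w, with 2 m_i ≥ m_j, 2 m_j ≥ m_i + m_k, 2 m_k ≥ m_j; (C3) w_i = w_j = w, w_k =
2w, a_ij = w, a_jk = 2w, with 2 m_i ≥ m_j, 2 m_j ≥ m_i + 2 m_k, 2 m_k ≥ m_j; (B3) w_i = w_j = 2w,
w_k = w, a_ij = a_jk = 2w, with 2 m_i ≥ m_j, 2 m_j ≥ m_i + m_k, m_k ≥ m_j. -/
theorem result {n : ℕ} (T : Models.NumericalType n) (hn : 3 < n) (i j k : Fin n)
    (hij : i ≠ j) (hjk : j ≠ k) (hik : i ≠ k) (hi : T.IsMinusTwo i) (hj : T.IsMinusTwo j) (hk : T.IsMinusTwo k)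
    (h1 : 0 < T.a i j) (h2 : 0 < T.a j k) :
    T.a i k = 0 ∧ ∃ (i' k' : Fin n) (w : ℤ), ((i' = i ∧ k' = k) ∨ (i' = k ∧ k' = i)) ∧
      ((T.w i' = w ∧ T.w j = w ∧ T.w k' = w ∧ T.a i' j = w ∧ T.a j k' = w ∧
          T.m j ≤ 2 * T.m i' ∧ T.m i' + T.m k' ≤ 2 * T.m j ∧ T.m j ≤ 2 * T.m k') ∨
        (T.w i' = w ∧ T.w j = w ∧ T.w k' = 2 * w ∧ T.a i' j = w ∧ T.a j k' = 2 * w ∧
          T.m j ≤ 2 * T.m i' ∧ T.m i' + 2 * T.m k' ≤ 2 * T.m j ∧ T.m j ≤ 2 * T.m k') ∨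
        (T.w i' = 2 * w ∧ T.w j = 2 * w ∧ T.w k' = w ∧ T.a i' j = 2 * w ∧ T.a j k' = 2 * w ∧
          T.m j ≤ 2 * T.m i' ∧ T.m i' + T.m k' ≤ 2 * T.m j ∧ T.m j ≤ T.m k')) := by
  obtain ⟨v, rfl, rfl, rfl⟩ : ∃ v : Fin 3 ↪ Fin n, v 0 = i ∧ v 1 = j ∧ v 2 = k := by
    refine ⟨⟨![i, j, k], ?_⟩, rfl, rfl, rfl⟩
    intro a b hab
    fin_cases a <;> fin_cases b <;> simp_all
  have hv : ∀ p, T.IsMinusTwo (v p) := by
    intro p; fin_cases p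
    exacts [hi, hj, hk]
  have l_0_1 := N_pos T v 0 1 (by decide) h1.ne'
  have l_1_0 := N_pos_symm T v _ _ l_0_1
  have l_1_2 := N_pos T v 1 2 (by decide) h2.ne'
  have l_2_1 := N_pos_symm T v _ _ l_1_2
  have hB := LB_zero T v
  replace hB := (hB.upd 0 1 1 l_0_1).upd 1 0 1 l_1_0
  replace hB := (hB.upd 1 2 1 l_1_2).upd 2 1 1 l_2_1
  have z_0_2 : N T v 0 2 = 0 := by
    by_contra hcon
    have h1 : 1 ≤ N T v 0 2 := by have := N_nonneg T v 0 2 (by decide); omega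
    exact cert_false T v hn hv ((hB.upd 0 2 1 h1).upd 2 0 1 (N_pos_symm T v _ _ h1)) ![1,1,1] (by decide) (by decide) 0 (by decide)
  have z_2_0 : N T v 2 0 = 0 := N_eq_zero_symm T v 0 2 (by decide) z_0_2
  have t_0_1 : N T v 0 1 ≤ 2 := by
    by_contra hcon
    have h3 : 3 ≤ N T v 0 1 := by omega
    exact cert_false T v hn hv (hB.upd 0 1 3 h3) ![3,2,1] (by decide) (by decide) 0 (by decide)
  have t_1_0 : N T v 1 0 ≤ 2 := by
    by_contra hcon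
    have h3 : 3 ≤ N T v 1 0 := by omega
    exact cert_false T v hn hv (hB.upd 1 0 3 h3) ![1,2,1] (by decide) (by decide) 0 (by decide)
  have t_1_2 : N T v 1 2 ≤ 2 := by
    by_contra hcon
    have h3 : 3 ≤ N T v 1 2 := by omega
    exact cert_false T v hn hv (hB.upd 1 2 3 h3) ![1,2,1] (by decide) (by decide) 0 (by decide)
  have t_2_1 : N T v 2 1 ≤ 2 := by
    by_contra hcon
    have h3 : 3 ≤ N T v 2 1 := by omega
    exact cert_false T v hn hv (hB.upd 2 1 3 h3) ![1,2,3] (by decide) (by decide) 0 (by decide)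
  have pd_0_1_1_0 : N T v 0 1 + N T v 1 0 ≤ 3 := by
    by_contra hcon
    have h2a : 2 ≤ N T v 0 1 := by omega
    have h2b : 2 ≤ N T v 1 0 := by omega
    exact cert_false T v hn hv ((hB.upd 0 1 2 h2a).upd 1 0 2 h2b) ![1,1,0] (by decide) (by decide) 0 (by decide)
  have pd_0_1_1_2 : N T v 0 1 + N T v 1 2 ≤ 3 := by
    by_contra hcon
    have h2a : 2 ≤ N T v 0 1 := by omega
    have h2b : 2 ≤ N T v 1 2 := by omega
    exact cert_false T v hn hv ((hB.upd 0 1 2 h2a).upd 1 2 2 h2b) ![2,2,1] (by decide) (by decide) 0 (by decide)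
  have pd_0_1_2_1 : N T v 0 1 + N T v 2 1 ≤ 3 := by
    by_contra hcon
    have h2a : 2 ≤ N T v 0 1 := by omega
    have h2b : 2 ≤ N T v 2 1 := by omega
    exact cert_false T v hn hv ((hB.upd 0 1 2 h2a).upd 2 1 2 h2b) ![1,1,1] (by decide) (by decide) 0 (by decide)
  have pd_1_0_1_2 : N T v 1 0 + N T v 1 2 ≤ 3 := by
    by_contra hcon
    have h2a : 2 ≤ N T v 1 0 := by omega
    have h2b : 2 ≤ N T v 1 2 := by omega
    exact cert_false T v hn hv ((hB.upd 1 0 2 h2a).upd 1 2 2 h2b) ![1,2,1] (by decide) (by decide) 0 (by decide)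
  have pd_1_0_2_1 : N T v 1 0 + N T v 2 1 ≤ 3 := by
    by_contra hcon
    have h2a : 2 ≤ N T v 1 0 := by omega
    have h2b : 2 ≤ N T v 2 1 := by omega
    exact cert_false T v hn hv ((hB.upd 1 0 2 h2a).upd 2 1 2 h2b) ![1,2,2] (by decide) (by decide) 0 (by decide)
  have pd_1_2_2_1 : N T v 1 2 + N T v 2 1 ≤ 3 := by
    by_contra hcon
    have h2a : 2 ≤ N T v 1 2 := by omega
    have h2b : 2 ≤ N T v 2 1 := by omega
    exact cert_false T v hn hv ((hB.upd 1 2 2 h2a).upd 2 1 2 h2b) ![0,1,1] (by decide) (by decide) 1 (by decide)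
  have hcases : (N T v 0 1 = 1 ∧ N T v 1 0 = 1 ∧ N T v 1 2 = 1 ∧ N T v 2 1 = 1) ∨ (N T v 0 1 = 2 ∧ N T v 1 0 = 1 ∧ N T v 1 2 = 1 ∧ N T v 2 1 = 1) ∨ (N T v 0 1 = 1 ∧ N T v 1 0 = 2 ∧ N T v 1 2 = 1 ∧ N T v 2 1 = 1) ∨ (N T v 0 1 = 1 ∧ N T v 1 0 = 1 ∧ N T v 1 2 = 2 ∧ N T v 2 1 = 1) ∨ (N T v 0 1 = 1 ∧ N T v 1 0 = 1 ∧ N T v 1 2 = 1 ∧ N T v 2 1 = 2) := by omega
  refine ⟨a_eq_zero_of_N T v 0 2 z_0_2, ?_⟩
  rcases hcases with ⟨c_0_1, c_1_0, c_1_2, c_2_1⟩ | ⟨c_0_1, c_1_0, c_1_2, c_2_1⟩ | ⟨c_0_1, c_1_0, c_1_2, c_2_1⟩ | ⟨c_0_1, c_1_0, c_1_2, c_2_1⟩ | ⟨c_0_1, c_1_0, c_1_2, c_2_1⟩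
  · -- case None
    have hw_0 := w_N T v 0 1
    simp only [c_0_1, c_1_0, mul_one] at hw_0
    have hw_1 := w_N T v 1 2
    simp only [c_1_2, c_2_1, mul_one] at hw_1
    have ha_0 := a_eq T v 0 1
    simp only [c_0_1, mul_one] at ha_0
    have ha_1 := a_eq T v 1 2
    simp only [c_1_2, mul_one] at ha_1
    have m_0 := m_ineq T v hv 0
    simp only [Fin.sum_univ_three, c_0_1, c_1_0, c_1_2, c_2_1, z_0_2, z_2_0, Fin.reduceEq, if_false, if_true, zero_mul, one_mul, add_zero, zero_add, mul_one] at m_0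
    have m_1 := m_ineq T v hv 1
    simp only [Fin.sum_univ_three, c_0_1, c_1_0, c_1_2, c_2_1, z_0_2, z_2_0, Fin.reduceEq, if_false, if_true, zero_mul, one_mul, add_zero, zero_add, mul_one] at m_1
    have m_2 := m_ineq T v hv 2
    simp only [Fin.sum_univ_three, c_0_1, c_1_0, c_1_2, c_2_1, z_0_2, z_2_0, Fin.reduceEq, if_false, if_true, zero_mul, one_mul, add_zero, zero_add, mul_one] at m_2
    refine ⟨v 0, v 2, T.w (v 0), Or.inl ⟨rfl, rfl⟩, Or.inl ?_⟩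
    show T.w (v 0) = T.w (v 0) ∧ T.w (v 1) = T.w (v 0) ∧ T.w (v 2) = T.w (v 0) ∧ T.a (v 0) (v 1) = T.w (v 0) ∧ T.a (v 1) (v 2) = T.w (v 0) ∧ T.m (v 1) ≤ 2 * T.m (v 0) ∧ T.m (v 0) + T.m (v 2) ≤ 2 * T.m (v 1) ∧ T.m (v 1) ≤ 2 * T.m (v 2)
    refine ⟨?_, ?_, ?_, ?_, ?_, ?_, ?_, ?_⟩ <;> omega
  · -- case (0, 1)
    have hw_0 := w_N T v 0 1
    simp only [c_0_1, c_1_0, mul_one] at hw_0
    have hw_1 := w_N T v 1 2
    simp only [c_1_2, c_2_1, mul_one] at hw_1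
    have ha_0 := a_eq T v 2 1
    simp only [c_2_1, mul_one] at ha_0
    have ha_1 := a_eq T v 1 0
    simp only [c_1_0, mul_one] at ha_1
    have m_0 := m_ineq T v hv 0
    simp only [Fin.sum_univ_three, c_0_1, c_1_0, c_1_2, c_2_1, z_0_2, z_2_0, Fin.reduceEq, if_false, if_true, zero_mul, one_mul, add_zero, zero_add, mul_one] at m_0
    have m_1 := m_ineq T v hv 1
    simp only [Fin.sum_univ_three, c_0_1, c_1_0, c_1_2, c_2_1, z_0_2, z_2_0, Fin.reduceEq, if_false, if_true, zero_mul, one_mul, add_zero, zero_add, mul_one] at m_1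
    have m_2 := m_ineq T v hv 2
    simp only [Fin.sum_univ_three, c_0_1, c_1_0, c_1_2, c_2_1, z_0_2, z_2_0, Fin.reduceEq, if_false, if_true, zero_mul, one_mul, add_zero, zero_add, mul_one] at m_2
    refine ⟨v 2, v 0, T.w (v 0), Or.inr ⟨rfl, rfl⟩, Or.inr (Or.inr ?_)⟩
    show T.w (v 2) = 2 * T.w (v 0) ∧ T.w (v 1) = 2 * T.w (v 0) ∧ T.w (v 0) = T.w (v 0) ∧ T.a (v 2) (v 1) = 2 * T.w (v 0) ∧ T.a (v 1) (v 0) = 2 * T.w (v 0) ∧ T.m (v 1) ≤ 2 * T.m (v 2) ∧ T.m (v 2) + T.m (v 0) ≤ 2 * T.m (v 1) ∧ T.m (v 1) ≤ T.m (v 0)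
    refine ⟨?_, ?_, ?_, ?_, ?_, ?_, ?_, ?_⟩ <;> omega
  · -- case (1, 0)
    have hw_0 := w_N T v 0 1
    simp only [c_0_1, c_1_0, mul_one] at hw_0
    have hw_1 := w_N T v 1 2
    simp only [c_1_2, c_2_1, mul_one] at hw_1
    have ha_0 := a_eq T v 2 1
    simp only [c_2_1, mul_one] at ha_0
    have ha_1 := a_eq T v 1 0
    simp only [c_1_0, mul_one] at ha_1
    have m_0 := m_ineq T v hv 0
    simp only [Fin.sum_univ_three, c_0_1, c_1_0, c_1_2, c_2_1, z_0_2, z_2_0, Fin.reduceEq, if_false, if_true, zero_mul, one_mul, add_zero, zero_add, mul_one] at m_0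
    have m_1 := m_ineq T v hv 1
    simp only [Fin.sum_univ_three, c_0_1, c_1_0, c_1_2, c_2_1, z_0_2, z_2_0, Fin.reduceEq, if_false, if_true, zero_mul, one_mul, add_zero, zero_add, mul_one] at m_1
    have m_2 := m_ineq T v hv 2
    simp only [Fin.sum_univ_three, c_0_1, c_1_0, c_1_2, c_2_1, z_0_2, z_2_0, Fin.reduceEq, if_false, if_true, zero_mul, one_mul, add_zero, zero_add, mul_one] at m_2
    refine ⟨v 2, v 0, T.w (v 2), Or.inr ⟨rfl, rfl⟩, Or.inr (Or.inl ?_)⟩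
    show T.w (v 2) = T.w (v 2) ∧ T.w (v 1) = T.w (v 2) ∧ T.w (v 0) = 2 * T.w (v 2) ∧ T.a (v 2) (v 1) = T.w (v 2) ∧ T.a (v 1) (v 0) = 2 * T.w (v 2) ∧ T.m (v 1) ≤ 2 * T.m (v 2) ∧ T.m (v 2) + 2 * T.m (v 0) ≤ 2 * T.m (v 1) ∧ T.m (v 1) ≤ 2 * T.m (v 0)
    refine ⟨?_, ?_, ?_, ?_, ?_, ?_, ?_, ?_⟩ <;> omega
  · -- case (1, 2)
    have hw_0 := w_N T v 0 1
    simp only [c_0_1, c_1_0, mul_one] at hw_0
    have hw_1 := w_N T v 1 2
    simp only [c_1_2, c_2_1, mul_one] at hw_1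
    have ha_0 := a_eq T v 0 1
    simp only [c_0_1, mul_one] at ha_0
    have ha_1 := a_eq T v 1 2
    simp only [c_1_2, mul_one] at ha_1
    have m_0 := m_ineq T v hv 0
    simp only [Fin.sum_univ_three, c_0_1, c_1_0, c_1_2, c_2_1, z_0_2, z_2_0, Fin.reduceEq, if_false, if_true, zero_mul, one_mul, add_zero, zero_add, mul_one] at m_0
    have m_1 := m_ineq T v hv 1
    simp only [Fin.sum_univ_three, c_0_1, c_1_0, c_1_2, c_2_1, z_0_2, z_2_0, Fin.reduceEq, if_false, if_true, zero_mul, one_mul, add_zero, zero_add, mul_one] at m_1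
    have m_2 := m_ineq T v hv 2
    simp only [Fin.sum_univ_three, c_0_1, c_1_0, c_1_2, c_2_1, z_0_2, z_2_0, Fin.reduceEq, if_false, if_true, zero_mul, one_mul, add_zero, zero_add, mul_one] at m_2
    refine ⟨v 0, v 2, T.w (v 0), Or.inl ⟨rfl, rfl⟩, Or.inr (Or.inl ?_)⟩
    show T.w (v 0) = T.w (v 0) ∧ T.w (v 1) = T.w (v 0) ∧ T.w (v 2) = 2 * T.w (v 0) ∧ T.a (v 0) (v 1) = T.w (v 0) ∧ T.a (v 1) (v 2) = 2 * T.w (v 0) ∧ T.m (v 1) ≤ 2 * T.m (v 0) ∧ T.m (v 0) + 2 * T.m (v 2) ≤ 2 * T.m (v 1) ∧ T.m (v 1) ≤ 2 * T.m (v 2)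
    refine ⟨?_, ?_, ?_, ?_, ?_, ?_, ?_, ?_⟩ <;> omega
  · -- case (2, 1)
    have hw_0 := w_N T v 0 1
    simp only [c_0_1, c_1_0, mul_one] at hw_0
    have hw_1 := w_N T v 1 2
    simp only [c_1_2, c_2_1, mul_one] at hw_1
    have ha_0 := a_eq T v 0 1
    simp only [c_0_1, mul_one] at ha_0
    have ha_1 := a_eq T v 1 2
    simp only [c_1_2, mul_one] at ha_1
    have m_0 := m_ineq T v hv 0
    simp only [Fin.sum_univ_three, c_0_1, c_1_0, c_1_2, c_2_1, z_0_2, z_2_0, Fin.reduceEq, if_false, if_true, zero_mul, one_mul, add_zero, zero_add, mul_one] at m_0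
    have m_1 := m_ineq T v hv 1
    simp only [Fin.sum_univ_three, c_0_1, c_1_0, c_1_2, c_2_1, z_0_2, z_2_0, Fin.reduceEq, if_false, if_true, zero_mul, one_mul, add_zero, zero_add, mul_one] at m_1
    have m_2 := m_ineq T v hv 2
    simp only [Fin.sum_univ_three, c_0_1, c_1_0, c_1_2, c_2_1, z_0_2, z_2_0, Fin.reduceEq, if_false, if_true, zero_mul, one_mul, add_zero, zero_add, mul_one] at m_2
    refine ⟨v 0, v 2, T.w (v 2), Or.inl ⟨rfl, rfl⟩, Or.inr (Or.inr ?_)⟩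
    show T.w (v 0) = 2 * T.w (v 2) ∧ T.w (v 1) = 2 * T.w (v 2) ∧ T.w (v 2) = T.w (v 2) ∧ T.a (v 0) (v 1) = 2 * T.w (v 2) ∧ T.a (v 1) (v 2) = 2 * T.w (v 2) ∧ T.m (v 1) ≤ 2 * T.m (v 0) ∧ T.m (v 0) + T.m (v 2) ≤ 2 * T.m (v 1) ∧ T.m (v 1) ≤ T.m (v 2)
    refine ⟨?_, ?_, ?_, ?_, ?_, ?_, ?_, ?_⟩ <;> omega

end Groth.Agent.S7341
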