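import Groth.Statements.S7342
import Groth.Agent.Lib.helper11.NumType2

set_option autoImplicit false
open Finset
open Models Models.NumericalType

namespace Groth.Agent.S7342

local macro "fo" : tactic =>
  `(tactic| first | omega | (simp only [Fin.val_mk] <;> omega) | (simp <;> omega))

open Groth.Agent.Lib.helper11.NumType in
/-- Let T be a numerical type on n indices, t ≥ 4 and n > t + 2. Then no t + 2 (-2)-indices of T,
pairwise distinct and numbered i_0, …, i_{t+1}, satisfy: a_{i_j i_{j+1}} > 0 for 1 ≤ j ≤ t - 1,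
a_{i_0 i_2} > 0 and a_{i_{t-1} i_{t+1}} > 0. -/
theorem result {n : ℕ} (T : Models.NumericalType n) (t : ℕ) (ht : 4 ≤ t) (hn : t + 2 < n)
    (v : Fin (t + 2) ↪ Fin n) (hv : ∀ j, T.IsMinusTwo (v j))
    (hchain : ∀ j j' : Fin (t + 2), 1 ≤ j.val → j.val + 1 ≤ t → j'.val = j.val + 1 → 0 < T.a (v j) (v j'))
    (h02 : ∀ j j' : Fin (t + 2), j.val = 0 → j'.val = 2 → 0 < T.a (v j) (v j'))
    (hlast : ∀ j j' : Fin (t + 2), j.val = t - 1 → j'.val = t + 1 → 0 < T.a (v j) (v j')) : False := by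
  have A1 : ∀ p q : Fin (t + 2), 1 ≤ p.val → p.val + 1 ≤ t → q.val = p.val + 1 →
      1 ≤ N T v p q ∧ 1 ≤ N T v q p := by
    intro p q h1 h2 h3
    have hne : p ≠ q := Fin.ne_of_val_ne (by omega)
    have := N_pos T v p q hne (hchain p q h1 h2 h3).ne'
    exact ⟨this, N_pos_symm T v p q this⟩
  have A2 : ∀ p q : Fin (t + 2), p.val = 0 → q.val = 2 → 1 ≤ N T v p q ∧ 1 ≤ N T v q p := by
    intro p q h1 h2
    have hne : p ≠ q := Fin.ne_of_val_ne (by omega)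
    have := N_pos T v p q hne (h02 p q h1 h2).ne'
    exact ⟨this, N_pos_symm T v p q this⟩
  have A3 : ∀ p q : Fin (t + 2), p.val = t - 1 → q.val = t + 1 → 1 ≤ N T v p q ∧ 1 ≤ N T v q p := by
    intro p q h1 h2
    have hne : p ≠ q := Fin.ne_of_val_ne (by omega)
    have := N_pos T v p q hne (hlast p q h1 h2).ne'
    exact ⟨this, N_pos_symm T v p q this⟩
  let c : Fin (t + 2) → ℤ := fun p =>
    if p.val = 0 ∨ p.val = 1 ∨ p.val = t ∨ p.val = t + 1 then 1 else 2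
  have hc1 : ∀ q : Fin (t + 2), (q.val = 0 ∨ q.val = 1 ∨ q.val = t ∨ q.val = t + 1) → c q = 1 :=
    fun q h => if_pos h
  have hc2 : ∀ q : Fin (t + 2), ¬ (q.val = 0 ∨ q.val = 1 ∨ q.val = t ∨ q.val = t + 1) → c q = 2 :=
    fun q h => if_neg h
  have hc : ∀ p, 0 ≤ c p := by
    intro p
    by_cases h : p.val = 0 ∨ p.val = 1 ∨ p.val = t ∨ p.val = t + 1
    · rw [hc1 p h]; norm_num
    · rw [hc2 p h]; norm_num
  refine cert3_false T v hn hv c hc ?_ ⟨0, by omega⟩ (by rw [hc1 _ (Or.inl rfl)]; norm_num)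
  intro p
  have hp := p.isLt
  obtain h | h | h | h | h | h | h : p.val = 0 ∨ p.val = 1 ∨ p.val = 2 ∨ (3 ≤ p.val ∧ p.val + 2 ≤ t) ∨
      p.val = t - 1 ∨ p.val = t ∨ p.val = t + 1 := by omega
  · -- p = 0
    refine Or.inr (Or.inl ⟨⟨2, by omega⟩, Fin.ne_of_val_ne (by fo), ?_⟩)
    rw [hc1 p (by omega), hc2 ⟨2, by omega⟩ (by fo)]
    have := (A2 p ⟨2, by omega⟩ h rfl).1
    linarith
  · -- p = 1
    refine Or.inr (Or.inl ⟨⟨2, by omega⟩, Fin.ne_of_val_ne (by fo), ?_⟩)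
    rw [hc1 p (by omega), hc2 ⟨2, by omega⟩ (by fo)]
    have := (A1 p ⟨2, by omega⟩ (by omega) (by omega) (by fo)).1
    linarith
  · -- p = 2
    refine Or.inr (Or.inr (Or.inr ⟨⟨0, by omega⟩, ⟨1, by omega⟩, ⟨3, by omega⟩,
      Fin.ne_of_val_ne (by fo), Fin.ne_of_val_ne (by fo),
      Fin.ne_of_val_ne (by fo), Fin.ne_of_val_ne (by fo),
      Fin.ne_of_val_ne (by fo), Fin.ne_of_val_ne (by fo), ?_⟩))
    rw [hc2 p (by omega), hc1 ⟨0, by omega⟩ (by fo), hc1 ⟨1, by omega⟩ (by fo),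
      hc2 ⟨3, by omega⟩ (by fo)]
    have h1 := (A2 ⟨0, by omega⟩ p rfl h).2
    have h2 := (A1 ⟨1, by omega⟩ p (by fo) (by fo) (by fo)).2
    have h3 := (A1 p ⟨3, by omega⟩ (by omega) (by omega) (by fo)).1
    linarith
  · -- interior
    refine Or.inr (Or.inr (Or.inl ⟨⟨p.val - 1, by omega⟩, ⟨p.val + 1, by omega⟩,
      Fin.ne_of_val_ne (by fo), Fin.ne_of_val_ne (by fo),
      Fin.ne_of_val_ne (by fo), ?_⟩))
    rw [hc2 p (by omega), hc2 ⟨p.val - 1, by omega⟩ (by fo),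
      hc2 ⟨p.val + 1, by omega⟩ (by fo)]
    have h1 := (A1 ⟨p.val - 1, by omega⟩ p (by fo) (by fo) (by fo)).2
    have h2 := (A1 p ⟨p.val + 1, by omega⟩ (by omega) (by omega) (by fo)).1
    linarith
  · -- p = t - 1
    refine Or.inr (Or.inr (Or.inr ⟨⟨t - 2, by omega⟩, ⟨t, by omega⟩, ⟨t + 1, by omega⟩,
      Fin.ne_of_val_ne (by fo), Fin.ne_of_val_ne (by fo),
      Fin.ne_of_val_ne (by fo), Fin.ne_of_val_ne (by fo),
      Fin.ne_of_val_ne (by fo), Fin.ne_of_val_ne (by fo), ?_⟩))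
    rw [hc2 p (by omega), hc2 ⟨t - 2, by omega⟩ (by fo), hc1 ⟨t, by omega⟩ (by fo),
      hc1 ⟨t + 1, by omega⟩ (by fo)]
    have h1 := (A1 ⟨t - 2, by omega⟩ p (by fo) (by fo) (by fo)).2
    have h2 := (A1 p ⟨t, by omega⟩ (by omega) (by omega) (by fo)).1
    have h3 := (A3 p ⟨t + 1, by omega⟩ h rfl).1
    linarith
  · -- p = t
    refine Or.inr (Or.inl ⟨⟨t - 1, by omega⟩, Fin.ne_of_val_ne (by fo), ?_⟩)
    rw [hc1 p (by omega), hc2 ⟨t - 1, by omega⟩ (by fo)]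
    have := (A1 ⟨t - 1, by omega⟩ p (by fo) (by fo) (by fo)).2
    linarith
  · -- p = t + 1
    refine Or.inr (Or.inl ⟨⟨t - 1, by omega⟩, Fin.ne_of_val_ne (by fo), ?_⟩)
    rw [hc1 p (by omega), hc2 ⟨t - 1, by omega⟩ (by fo)]
    have := (A3 ⟨t - 1, by omega⟩ p rfl h).2
    linarith

end Groth.Agent.S7342
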