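import Groth.Statements.S7343
import Groth.Agent.Lib.helper11.NumType

set_option autoImplicit false
open Finset
open Models Models.NumericalType

namespace Groth.Agent.S7343

open Groth.Agent.Lib.helper11.NumType in
/-- Let T be a numerical type on n > 7 indices. Then no seven (-2)-indices of T, pairwise distinct and
named f, g, h, i, j, k, l, have a_fg, a_gh, a_ij, a_jh, a_kl and a_lh all nonzero (three chains of
length two attached to h). -/
theorem result {n : ℕ} (T : Models.NumericalType n) (hn : 7 < n)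
    (v : Fin 7 ↪ Fin n) (hv : ∀ j, T.IsMinusTwo (v j))
    (h01 : T.a (v 0) (v 1) ≠ 0) (h12 : T.a (v 1) (v 2) ≠ 0) (h34 : T.a (v 3) (v 4) ≠ 0)
    (h42 : T.a (v 4) (v 2) ≠ 0) (h56 : T.a (v 5) (v 6) ≠ 0) (h62 : T.a (v 6) (v 2) ≠ 0) : False := by
  have e01 := N_pos T v 0 1 (by decide) h01
  have e12 := N_pos T v 1 2 (by decide) h12
  have e34 := N_pos T v 3 4 (by decide) h34
  have e42 := N_pos T v 4 2 (by decide) h42
  have e56 := N_pos T v 5 6 (by decide) h56
  have e62 := N_pos T v 6 2 (by decide) h62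
  have hB := LB_zero T v
  replace hB := (hB.upd 0 1 1 e01).upd 1 0 1 (N_pos_symm T v _ _ e01)
  replace hB := (hB.upd 1 2 1 e12).upd 2 1 1 (N_pos_symm T v _ _ e12)
  replace hB := (hB.upd 3 4 1 e34).upd 4 3 1 (N_pos_symm T v _ _ e34)
  replace hB := (hB.upd 4 2 1 e42).upd 2 4 1 (N_pos_symm T v _ _ e42)
  replace hB := (hB.upd 5 6 1 e56).upd 6 5 1 (N_pos_symm T v _ _ e56)
  replace hB := (hB.upd 6 2 1 e62).upd 2 6 1 (N_pos_symm T v _ _ e62)
  exact cert_false T v hn hv hB ![1,2,3,1,2,1,2] (by decide) (by decide) 0 (by decide)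

end Groth.Agent.S7343
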