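import Groth.Statements.S7344
import Groth.Agent.Lib.helper11.NumType

set_option autoImplicit false
open Finset
open Models Models.NumericalType

namespace Groth.Agent.S7344

open Groth.Agent.Lib.helper11.NumType in
/-- Let T be a numerical type on n > 8 indices. Then no eight (-2)-indices of T, pairwise distinct and
named e, f, g, h, i, j, k, l, have a_ef, a_fg, a_gh, a_hi, a_ij, a_jk and a_lh all nonzero (a chain
of seven, e to k, with l joined to its fourth vertex h). -/
theorem result {n : ℕ} (T : Models.NumericalType n) (hn : 8 < n)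
    (v : Fin 8 ↪ Fin n) (hv : ∀ j, T.IsMinusTwo (v j))
    (h01 : T.a (v 0) (v 1) ≠ 0) (h12 : T.a (v 1) (v 2) ≠ 0) (h23 : T.a (v 2) (v 3) ≠ 0)
    (h34 : T.a (v 3) (v 4) ≠ 0) (h45 : T.a (v 4) (v 5) ≠ 0) (h56 : T.a (v 5) (v 6) ≠ 0)
    (h73 : T.a (v 7) (v 3) ≠ 0) : False := by
  have e01 := N_pos T v 0 1 (by decide) h01
  have e12 := N_pos T v 1 2 (by decide) h12
  have e23 := N_pos T v 2 3 (by decide) h23
  have e34 := N_pos T v 3 4 (by decide) h34
  have e45 := N_pos T v 4 5 (by decide) h45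
  have e56 := N_pos T v 5 6 (by decide) h56
  have e73 := N_pos T v 7 3 (by decide) h73
  have hB := LB_zero T v
  replace hB := (hB.upd 0 1 1 e01).upd 1 0 1 (N_pos_symm T v _ _ e01)
  replace hB := (hB.upd 1 2 1 e12).upd 2 1 1 (N_pos_symm T v _ _ e12)
  replace hB := (hB.upd 2 3 1 e23).upd 3 2 1 (N_pos_symm T v _ _ e23)
  replace hB := (hB.upd 3 4 1 e34).upd 4 3 1 (N_pos_symm T v _ _ e34)
  replace hB := (hB.upd 4 5 1 e45).upd 5 4 1 (N_pos_symm T v _ _ e45)
  replace hB := (hB.upd 5 6 1 e56).upd 6 5 1 (N_pos_symm T v _ _ e56)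
  replace hB := (hB.upd 7 3 1 e73).upd 3 7 1 (N_pos_symm T v _ _ e73)
  exact cert_false T v hn hv hB ![1,2,3,4,3,2,1,2] (by decide) (by decide) 0 (by decide)

end Groth.Agent.S7344
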