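import Groth.Statements.S7345
import Groth.Agent.Lib.helper11.NumType

set_option autoImplicit false
open Finset
open Models Models.NumericalType

namespace Groth.Agent.S7345

open Groth.Agent.Lib.helper11.NumType in
/-- Let T be a numerical type on n > 9 indices. Then no nine (-2)-indices of T, pairwise distinct and
named d, e, f, g, h, i, j, k, l, have a_de, a_ef, a_fg, a_gh, a_hi, a_ij, a_jk and a_li all nonzero
(a chain of eight, d to k, with l joined to its sixth vertex i). (The published list of nonzero
entries ends with a_lh, joining l to the fifth vertex h; that configuration already contains the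
completed E7 configuration on eight of the indices and is impossible for that reason alone. The
pictured graph and the argument for it join l to the sixth vertex i, and this row states that case.) -/
theorem result {n : ℕ} (T : Models.NumericalType n) (hn : 9 < n)
    (v : Fin 9 ↪ Fin n) (hv : ∀ j, T.IsMinusTwo (v j))
    (h01 : T.a (v 0) (v 1) ≠ 0) (h12 : T.a (v 1) (v 2) ≠ 0) (h23 : T.a (v 2) (v 3) ≠ 0)
    (h34 : T.a (v 3) (v 4) ≠ 0) (h45 : T.a (v 4) (v 5) ≠ 0) (h56 : T.a (v 5) (v 6) ≠ 0)
    (h67 : T.a (v 6) (v 7) ≠ 0) (h85 : T.a (v 8) (v 5) ≠ 0) : False := by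
  have e01 := N_pos T v 0 1 (by decide) h01
  have e12 := N_pos T v 1 2 (by decide) h12
  have e23 := N_pos T v 2 3 (by decide) h23
  have e34 := N_pos T v 3 4 (by decide) h34
  have e45 := N_pos T v 4 5 (by decide) h45
  have e56 := N_pos T v 5 6 (by decide) h56
  have e67 := N_pos T v 6 7 (by decide) h67
  have e85 := N_pos T v 8 5 (by decide) h85
  have hB := LB_zero T v
  replace hB := (hB.upd 0 1 1 e01).upd 1 0 1 (N_pos_symm T v _ _ e01)
  replace hB := (hB.upd 1 2 1 e12).upd 2 1 1 (N_pos_symm T v _ _ e12)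
  replace hB := (hB.upd 2 3 1 e23).upd 3 2 1 (N_pos_symm T v _ _ e23)
  replace hB := (hB.upd 3 4 1 e34).upd 4 3 1 (N_pos_symm T v _ _ e34)
  replace hB := (hB.upd 4 5 1 e45).upd 5 4 1 (N_pos_symm T v _ _ e45)
  replace hB := (hB.upd 5 6 1 e56).upd 6 5 1 (N_pos_symm T v _ _ e56)
  replace hB := (hB.upd 6 7 1 e67).upd 7 6 1 (N_pos_symm T v _ _ e67)
  replace hB := (hB.upd 8 5 1 e85).upd 5 8 1 (N_pos_symm T v _ _ e85)
  exact cert_false T v hn hv hB ![1,2,3,4,5,6,4,2,3] (by decide) (by decide) 0 (by decide)

end Groth.Agent.S7345
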