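import Groth.Statements.S7346
import Groth.Agent.Lib.helper11.NumType

set_option autoImplicit false
open Finset
open Models Models.NumericalType

namespace Groth.Agent.S7346

open Groth.Agent.Lib.helper11.NumType in
/-- Classification of proper subgraphs of type D4 (one vertex joined to three others): let T be a
numerical type on n > 4 indices and i_1, …, i_4 distinct (-2)-indices with a_{12}, a_{13}, a_{14}
nonzero. Then for some integer w all w_{i_j} equal w, these intersection numbers equal w, all other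
a_{i_j i_k} (j ≠ k) vanish, and 2 m_1 ≥ m_2 + m_3 + m_4, 2 m_2 ≥ m_1, 2 m_3 ≥ m_1, 2 m_4 ≥ m_1. -/
theorem result {n : ℕ} (T : Models.NumericalType n) (hn : 4 < n)
    (v : Fin 4 ↪ Fin n) (hv : ∀ j, T.IsMinusTwo (v j)) (h01 : T.a (v 0) (v 1) ≠ 0) (h02 : T.a (v 0) (v 2) ≠ 0) (h03 : T.a (v 0) (v 3) ≠ 0) :
    ∃ w : ℤ, (∀ j : Fin 4, T.w (v j) = w) ∧
      T.a (v 0) (v 1) = w ∧
      T.a (v 0) (v 2) = w ∧
      T.a (v 0) (v 3) = w ∧
      T.a (v 1) (v 2) = 0 ∧
      T.a (v 1) (v 3) = 0 ∧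
      T.a (v 2) (v 3) = 0 ∧
      T.m (v 1) + T.m (v 2) + T.m (v 3) ≤ 2 * T.m (v 0) ∧
      T.m (v 0) ≤ 2 * T.m (v 1) ∧
      T.m (v 0) ≤ 2 * T.m (v 2) ∧
      T.m (v 0) ≤ 2 * T.m (v 3) := by
  have l_0_1 := N_pos T v 0 1 (by decide) h01
  have l_1_0 := N_pos_symm T v _ _ l_0_1
  have l_0_2 := N_pos T v 0 2 (by decide) h02
  have l_2_0 := N_pos_symm T v _ _ l_0_2
  have l_0_3 := N_pos T v 0 3 (by decide) h03
  have l_3_0 := N_pos_symm T v _ _ l_0_3
  have hB := LB_zero T v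
  replace hB := (hB.upd 0 1 1 l_0_1).upd 1 0 1 l_1_0
  replace hB := (hB.upd 0 2 1 l_0_2).upd 2 0 1 l_2_0
  replace hB := (hB.upd 0 3 1 l_0_3).upd 3 0 1 l_3_0
  have u_0_1 : N T v 0 1 = 1 := by
    by_contra hcon
    have h2 : 2 ≤ N T v 0 1 := by omega
    exact cert_false T v hn hv (hB.upd 0 1 2 h2) ![2,1,1,1] (by decide) (by decide) 0 (by decide)
  have u_1_0 : N T v 1 0 = 1 := by
    by_contra hcon
    have h2 : 2 ≤ N T v 1 0 := by omega
    exact cert_false T v hn hv (hB.upd 1 0 2 h2) ![2,2,1,1] (by decide) (by decide) 0 (by decide)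
  have u_0_2 : N T v 0 2 = 1 := by
    by_contra hcon
    have h2 : 2 ≤ N T v 0 2 := by omega
    exact cert_false T v hn hv (hB.upd 0 2 2 h2) ![2,1,1,1] (by decide) (by decide) 0 (by decide)
  have u_2_0 : N T v 2 0 = 1 := by
    by_contra hcon
    have h2 : 2 ≤ N T v 2 0 := by omega
    exact cert_false T v hn hv (hB.upd 2 0 2 h2) ![2,1,2,1] (by decide) (by decide) 0 (by decide)
  have u_0_3 : N T v 0 3 = 1 := by
    by_contra hcon
    have h2 : 2 ≤ N T v 0 3 := by omega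
    exact cert_false T v hn hv (hB.upd 0 3 2 h2) ![2,1,1,1] (by decide) (by decide) 0 (by decide)
  have u_3_0 : N T v 3 0 = 1 := by
    by_contra hcon
    have h2 : 2 ≤ N T v 3 0 := by omega
    exact cert_false T v hn hv (hB.upd 3 0 2 h2) ![2,1,1,2] (by decide) (by decide) 0 (by decide)
  have z_1_2 : N T v 1 2 = 0 := by
    by_contra hcon
    have h1 : 1 ≤ N T v 1 2 := by have := N_nonneg T v 1 2 (by decide); omega
    exact cert_false T v hn hv ((hB.upd 1 2 1 h1).upd 2 1 1 (N_pos_symm T v _ _ h1)) ![1,1,1,0] (by decide) (by decide) 0 (by decide)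
  have z_2_1 : N T v 2 1 = 0 := N_eq_zero_symm T v 1 2 (by decide) z_1_2
  have z_1_3 : N T v 1 3 = 0 := by
    by_contra hcon
    have h1 : 1 ≤ N T v 1 3 := by have := N_nonneg T v 1 3 (by decide); omega
    exact cert_false T v hn hv ((hB.upd 1 3 1 h1).upd 3 1 1 (N_pos_symm T v _ _ h1)) ![1,1,0,1] (by decide) (by decide) 0 (by decide)
  have z_3_1 : N T v 3 1 = 0 := N_eq_zero_symm T v 1 3 (by decide) z_1_3
  have z_2_3 : N T v 2 3 = 0 := by
    by_contra hcon
    have h1 : 1 ≤ N T v 2 3 := by have := N_nonneg T v 2 3 (by decide); omega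
    exact cert_false T v hn hv ((hB.upd 2 3 1 h1).upd 3 2 1 (N_pos_symm T v _ _ h1)) ![1,0,1,1] (by decide) (by decide) 0 (by decide)
  have z_3_2 : N T v 3 2 = 0 := N_eq_zero_symm T v 2 3 (by decide) z_2_3
  have hw_0 : T.w (v 0) = T.w (v 0) := rfl
  have hw_1 : T.w (v 1) = T.w (v 0) := by
    have := w_N T v 0 1
    rw [u_0_1, u_1_0, mul_one, mul_one] at this
    exact this.symm.trans hw_0
  have hw_2 : T.w (v 2) = T.w (v 0) := by
    have := w_N T v 0 2
    rw [u_0_2, u_2_0, mul_one, mul_one] at this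
    exact this.symm.trans hw_0
  have hw_3 : T.w (v 3) = T.w (v 0) := by
    have := w_N T v 0 3
    rw [u_0_3, u_3_0, mul_one, mul_one] at this
    exact this.symm.trans hw_0
  have hwall : ∀ j : Fin 4, T.w (v j) = T.w (v 0) := by
    intro j; fin_cases j
    exacts [hw_0, hw_1, hw_2, hw_3]
  have a_0_1 : T.a (v 0) (v 1) = T.w (v 0) := (show T.a (v 0) (v 1) = T.w (v 0) by rw [a_eq T v 0 1, u_0_1, mul_one]).trans hw_0
  have a_0_2 : T.a (v 0) (v 2) = T.w (v 0) := (show T.a (v 0) (v 2) = T.w (v 0) by rw [a_eq T v 0 2, u_0_2, mul_one]).trans hw_0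
  have a_0_3 : T.a (v 0) (v 3) = T.w (v 0) := (show T.a (v 0) (v 3) = T.w (v 0) by rw [a_eq T v 0 3, u_0_3, mul_one]).trans hw_0
  have m_0 := m_ineq T v hv 0
  simp only [Fin.sum_univ_four, u_0_1, u_0_2, u_0_3, Fin.reduceEq, if_false, if_true, zero_mul, one_mul, add_zero, zero_add] at m_0
  have m_1 := m_ineq T v hv 1
  simp only [Fin.sum_univ_four, u_1_0, z_1_2, z_1_3, Fin.reduceEq, if_false, if_true, zero_mul, one_mul, add_zero, zero_add] at m_1
  have m_2 := m_ineq T v hv 2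
  simp only [Fin.sum_univ_four, u_2_0, z_2_1, z_2_3, Fin.reduceEq, if_false, if_true, zero_mul, one_mul, add_zero, zero_add] at m_2
  have m_3 := m_ineq T v hv 3
  simp only [Fin.sum_univ_four, u_3_0, z_3_1, z_3_2, Fin.reduceEq, if_false, if_true, zero_mul, one_mul, add_zero, zero_add] at m_3
  exact ⟨T.w (v 0), hwall, a_0_1, a_0_2, a_0_3, a_eq_zero_of_N T v 1 2 z_1_2, a_eq_zero_of_N T v 1 3 z_1_3, a_eq_zero_of_N T v 2 3 z_2_3, by linarith [m_0], by linarith [m_1], by linarith [m_2], by linarith [m_3]⟩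

end Groth.Agent.S7346
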