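import Groth.Statements.S7350
import Groth.Agent.Lib.helper11.NumType

set_option autoImplicit false
open Finset
open Models Models.NumericalType

namespace Groth.Agent.S7350

open Groth.Agent.Lib.helper11.NumType in
/-- Classification of proper subgraphs of type E8 (a chain i_1 … i_7 with i_8 joined to i_5): let T be a
numerical type on n > 8 indices and i_1, …, i_8 distinct (-2)-indices with a_{12}, a_{23}, a_{34},
a_{45}, a_{56}, a_{67}, a_{58} nonzero. Then for some integer w all w_{i_j} equal w, these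
intersection numbers equal w, all other a_{i_j i_k} (j ≠ k) vanish, and 2 m_1 ≥ m_2, 2 m_2 ≥ m_1 +
m_3, 2 m_3 ≥ m_2 + m_4, 2 m_4 ≥ m_3 + m_5, 2 m_5 ≥ m_4 + m_6 + m_8, 2 m_6 ≥ m_5 + m_7, 2 m_7 ≥ m_6,
2 m_8 ≥ m_5. (The published statement lists a_{65} and a_{57} among the nonzero entries, which
contradicts its own conclusion a_{57} = 0; this row uses the edges of the E8 graph, a_{67} and
a_{58}, as the pictured graph and the matrix give them.) -/
theorem result {n : ℕ} (T : Models.NumericalType n) (hn : 8 < n)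
    (v : Fin 8 ↪ Fin n) (hv : ∀ j, T.IsMinusTwo (v j)) (h01 : T.a (v 0) (v 1) ≠ 0) (h12 : T.a (v 1) (v 2) ≠ 0) (h23 : T.a (v 2) (v 3) ≠ 0) (h34 : T.a (v 3) (v 4) ≠ 0) (h45 : T.a (v 4) (v 5) ≠ 0) (h56 : T.a (v 5) (v 6) ≠ 0) (h47 : T.a (v 4) (v 7) ≠ 0) :
    ∃ w : ℤ, (∀ j : Fin 8, T.w (v j) = w) ∧
      T.a (v 0) (v 1) = w ∧
      T.a (v 1) (v 2) = w ∧
      T.a (v 2) (v 3) = w ∧
      T.a (v 3) (v 4) = w ∧
      T.a (v 4) (v 5) = w ∧
      T.a (v 5) (v 6) = w ∧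
      T.a (v 4) (v 7) = w ∧
      T.a (v 0) (v 2) = 0 ∧
      T.a (v 0) (v 3) = 0 ∧
      T.a (v 0) (v 4) = 0 ∧
      T.a (v 0) (v 5) = 0 ∧
      T.a (v 0) (v 6) = 0 ∧
      T.a (v 0) (v 7) = 0 ∧
      T.a (v 1) (v 3) = 0 ∧
      T.a (v 1) (v 4) = 0 ∧
      T.a (v 1) (v 5) = 0 ∧
      T.a (v 1) (v 6) = 0 ∧
      T.a (v 1) (v 7) = 0 ∧
      T.a (v 2) (v 4) = 0 ∧
      T.a (v 2) (v 5) = 0 ∧
      T.a (v 2) (v 6) = 0 ∧
      T.a (v 2) (v 7) = 0 ∧
      T.a (v 3) (v 5) = 0 ∧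
      T.a (v 3) (v 6) = 0 ∧
      T.a (v 3) (v 7) = 0 ∧
      T.a (v 4) (v 6) = 0 ∧
      T.a (v 5) (v 7) = 0 ∧
      T.a (v 6) (v 7) = 0 ∧
      T.m (v 1) ≤ 2 * T.m (v 0) ∧
      T.m (v 0) + T.m (v 2) ≤ 2 * T.m (v 1) ∧
      T.m (v 1) + T.m (v 3) ≤ 2 * T.m (v 2) ∧
      T.m (v 2) + T.m (v 4) ≤ 2 * T.m (v 3) ∧
      T.m (v 3) + T.m (v 5) + T.m (v 7) ≤ 2 * T.m (v 4) ∧
      T.m (v 4) + T.m (v 6) ≤ 2 * T.m (v 5) ∧
      T.m (v 5) ≤ 2 * T.m (v 6) ∧
      T.m (v 4) ≤ 2 * T.m (v 7) := by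
  have l_0_1 := N_pos T v 0 1 (by decide) h01
  have l_1_0 := N_pos_symm T v _ _ l_0_1
  have l_1_2 := N_pos T v 1 2 (by decide) h12
  have l_2_1 := N_pos_symm T v _ _ l_1_2
  have l_2_3 := N_pos T v 2 3 (by decide) h23
  have l_3_2 := N_pos_symm T v _ _ l_2_3
  have l_3_4 := N_pos T v 3 4 (by decide) h34
  have l_4_3 := N_pos_symm T v _ _ l_3_4
  have l_4_5 := N_pos T v 4 5 (by decide) h45
  have l_5_4 := N_pos_symm T v _ _ l_4_5
  have l_5_6 := N_pos T v 5 6 (by decide) h56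
  have l_6_5 := N_pos_symm T v _ _ l_5_6
  have l_4_7 := N_pos T v 4 7 (by decide) h47
  have l_7_4 := N_pos_symm T v _ _ l_4_7
  have hB := LB_zero T v
  replace hB := (hB.upd 0 1 1 l_0_1).upd 1 0 1 l_1_0
  replace hB := (hB.upd 1 2 1 l_1_2).upd 2 1 1 l_2_1
  replace hB := (hB.upd 2 3 1 l_2_3).upd 3 2 1 l_3_2
  replace hB := (hB.upd 3 4 1 l_3_4).upd 4 3 1 l_4_3
  replace hB := (hB.upd 4 5 1 l_4_5).upd 5 4 1 l_5_4
  replace hB := (hB.upd 5 6 1 l_5_6).upd 6 5 1 l_6_5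
  replace hB := (hB.upd 4 7 1 l_4_7).upd 7 4 1 l_7_4
  have u_0_1 : N T v 0 1 = 1 := by
    by_contra hcon
    have h2 : 2 ≤ N T v 0 1 := by omega
    exact cert_false T v hn hv (hB.upd 0 1 2 h2) ![2,2,2,2,2,1,0,1] (by decide) (by decide) 0 (by decide)
  have u_1_0 : N T v 1 0 = 1 := by
    by_contra hcon
    have h2 : 2 ≤ N T v 1 0 := by omega
    exact cert_false T v hn hv (hB.upd 1 0 2 h2) ![1,2,2,2,2,1,0,1] (by decide) (by decide) 0 (by decide)
  have u_1_2 : N T v 1 2 = 1 := by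
    by_contra hcon
    have h2 : 2 ≤ N T v 1 2 := by omega
    exact cert_false T v hn hv (hB.upd 1 2 2 h2) ![0,2,2,2,2,1,0,1] (by decide) (by decide) 1 (by decide)
  have u_2_1 : N T v 2 1 = 1 := by
    by_contra hcon
    have h2 : 2 ≤ N T v 2 1 := by omega
    exact cert_false T v hn hv (hB.upd 2 1 2 h2) ![0,1,2,2,2,1,0,1] (by decide) (by decide) 1 (by decide)
  have u_2_3 : N T v 2 3 = 1 := by
    by_contra hcon
    have h2 : 2 ≤ N T v 2 3 := by omega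
    exact cert_false T v hn hv (hB.upd 2 3 2 h2) ![0,0,2,2,2,1,0,1] (by decide) (by decide) 2 (by decide)
  have u_3_2 : N T v 3 2 = 1 := by
    by_contra hcon
    have h2 : 2 ≤ N T v 3 2 := by omega
    exact cert_false T v hn hv (hB.upd 3 2 2 h2) ![0,0,1,2,2,1,0,1] (by decide) (by decide) 2 (by decide)
  have u_3_4 : N T v 3 4 = 1 := by
    by_contra hcon
    have h2 : 2 ≤ N T v 3 4 := by omega
    exact cert_false T v hn hv (hB.upd 3 4 2 h2) ![0,0,0,2,2,1,0,1] (by decide) (by decide) 3 (by decide)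
  have u_4_3 : N T v 4 3 = 1 := by
    by_contra hcon
    have h2 : 2 ≤ N T v 4 3 := by omega
    exact cert_false T v hn hv (hB.upd 4 3 2 h2) ![0,0,0,1,2,1,0,1] (by decide) (by decide) 3 (by decide)
  have u_4_5 : N T v 4 5 = 1 := by
    by_contra hcon
    have h2 : 2 ≤ N T v 4 5 := by omega
    exact cert_false T v hn hv (hB.upd 4 5 2 h2) ![0,0,0,1,2,1,0,1] (by decide) (by decide) 3 (by decide)
  have u_5_4 : N T v 5 4 = 1 := by
    by_contra hcon
    have h2 : 2 ≤ N T v 5 4 := by omega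
    exact cert_false T v hn hv (hB.upd 5 4 2 h2) ![0,0,0,1,2,2,0,1] (by decide) (by decide) 3 (by decide)
  have u_5_6 : N T v 5 6 = 1 := by
    by_contra hcon
    have h2 : 2 ≤ N T v 5 6 := by omega
    exact cert_false T v hn hv (hB.upd 5 6 2 h2) ![0,0,0,1,2,2,1,1] (by decide) (by decide) 3 (by decide)
  have u_6_5 : N T v 6 5 = 1 := by
    by_contra hcon
    have h2 : 2 ≤ N T v 6 5 := by omega
    exact cert_false T v hn hv (hB.upd 6 5 2 h2) ![0,0,0,1,2,2,2,1] (by decide) (by decide) 3 (by decide)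
  have u_4_7 : N T v 4 7 = 1 := by
    by_contra hcon
    have h2 : 2 ≤ N T v 4 7 := by omega
    exact cert_false T v hn hv (hB.upd 4 7 2 h2) ![0,0,0,1,2,1,0,1] (by decide) (by decide) 3 (by decide)
  have u_7_4 : N T v 7 4 = 1 := by
    by_contra hcon
    have h2 : 2 ≤ N T v 7 4 := by omega
    exact cert_false T v hn hv (hB.upd 7 4 2 h2) ![0,0,0,1,2,1,0,2] (by decide) (by decide) 3 (by decide)
  have z_0_2 : N T v 0 2 = 0 := by
    by_contra hcon
    have h1 : 1 ≤ N T v 0 2 := by have := N_nonneg T v 0 2 (by decide); omega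
    exact cert_false T v hn hv ((hB.upd 0 2 1 h1).upd 2 0 1 (N_pos_symm T v _ _ h1)) ![1,1,1,0,0,0,0,0] (by decide) (by decide) 0 (by decide)
  have z_2_0 : N T v 2 0 = 0 := N_eq_zero_symm T v 0 2 (by decide) z_0_2
  have z_0_3 : N T v 0 3 = 0 := by
    by_contra hcon
    have h1 : 1 ≤ N T v 0 3 := by have := N_nonneg T v 0 3 (by decide); omega
    exact cert_false T v hn hv ((hB.upd 0 3 1 h1).upd 3 0 1 (N_pos_symm T v _ _ h1)) ![1,1,1,1,0,0,0,0] (by decide) (by decide) 0 (by decide)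
  have z_3_0 : N T v 3 0 = 0 := N_eq_zero_symm T v 0 3 (by decide) z_0_3
  have z_0_4 : N T v 0 4 = 0 := by
    by_contra hcon
    have h1 : 1 ≤ N T v 0 4 := by have := N_nonneg T v 0 4 (by decide); omega
    exact cert_false T v hn hv ((hB.upd 0 4 1 h1).upd 4 0 1 (N_pos_symm T v _ _ h1)) ![1,1,1,1,1,0,0,0] (by decide) (by decide) 0 (by decide)
  have z_4_0 : N T v 4 0 = 0 := N_eq_zero_symm T v 0 4 (by decide) z_0_4
  have z_0_5 : N T v 0 5 = 0 := by
    by_contra hcon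
    have h1 : 1 ≤ N T v 0 5 := by have := N_nonneg T v 0 5 (by decide); omega
    exact cert_false T v hn hv ((hB.upd 0 5 1 h1).upd 5 0 1 (N_pos_symm T v _ _ h1)) ![1,1,1,1,1,1,0,0] (by decide) (by decide) 0 (by decide)
  have z_5_0 : N T v 5 0 = 0 := N_eq_zero_symm T v 0 5 (by decide) z_0_5
  have z_0_6 : N T v 0 6 = 0 := by
    by_contra hcon
    have h1 : 1 ≤ N T v 0 6 := by have := N_nonneg T v 0 6 (by decide); omega
    exact cert_false T v hn hv ((hB.upd 0 6 1 h1).upd 6 0 1 (N_pos_symm T v _ _ h1)) ![1,1,1,1,1,1,1,0] (by decide) (by decide) 0 (by decide)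
  have z_6_0 : N T v 6 0 = 0 := N_eq_zero_symm T v 0 6 (by decide) z_0_6
  have z_0_7 : N T v 0 7 = 0 := by
    by_contra hcon
    have h1 : 1 ≤ N T v 0 7 := by have := N_nonneg T v 0 7 (by decide); omega
    exact cert_false T v hn hv ((hB.upd 0 7 1 h1).upd 7 0 1 (N_pos_symm T v _ _ h1)) ![1,1,1,1,1,0,0,1] (by decide) (by decide) 0 (by decide)
  have z_7_0 : N T v 7 0 = 0 := N_eq_zero_symm T v 0 7 (by decide) z_0_7
  have z_1_3 : N T v 1 3 = 0 := by
    by_contra hcon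
    have h1 : 1 ≤ N T v 1 3 := by have := N_nonneg T v 1 3 (by decide); omega
    exact cert_false T v hn hv ((hB.upd 1 3 1 h1).upd 3 1 1 (N_pos_symm T v _ _ h1)) ![0,1,1,1,0,0,0,0] (by decide) (by decide) 1 (by decide)
  have z_3_1 : N T v 3 1 = 0 := N_eq_zero_symm T v 1 3 (by decide) z_1_3
  have z_1_4 : N T v 1 4 = 0 := by
    by_contra hcon
    have h1 : 1 ≤ N T v 1 4 := by have := N_nonneg T v 1 4 (by decide); omega
    exact cert_false T v hn hv ((hB.upd 1 4 1 h1).upd 4 1 1 (N_pos_symm T v _ _ h1)) ![0,1,1,1,1,0,0,0] (by decide) (by decide) 1 (by decide)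
  have z_4_1 : N T v 4 1 = 0 := N_eq_zero_symm T v 1 4 (by decide) z_1_4
  have z_1_5 : N T v 1 5 = 0 := by
    by_contra hcon
    have h1 : 1 ≤ N T v 1 5 := by have := N_nonneg T v 1 5 (by decide); omega
    exact cert_false T v hn hv ((hB.upd 1 5 1 h1).upd 5 1 1 (N_pos_symm T v _ _ h1)) ![0,1,1,1,1,1,0,0] (by decide) (by decide) 1 (by decide)
  have z_5_1 : N T v 5 1 = 0 := N_eq_zero_symm T v 1 5 (by decide) z_1_5
  have z_1_6 : N T v 1 6 = 0 := by
    by_contra hcon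
    have h1 : 1 ≤ N T v 1 6 := by have := N_nonneg T v 1 6 (by decide); omega
    exact cert_false T v hn hv ((hB.upd 1 6 1 h1).upd 6 1 1 (N_pos_symm T v _ _ h1)) ![0,1,1,1,1,1,1,0] (by decide) (by decide) 1 (by decide)
  have z_6_1 : N T v 6 1 = 0 := N_eq_zero_symm T v 1 6 (by decide) z_1_6
  have z_1_7 : N T v 1 7 = 0 := by
    by_contra hcon
    have h1 : 1 ≤ N T v 1 7 := by have := N_nonneg T v 1 7 (by decide); omega
    exact cert_false T v hn hv ((hB.upd 1 7 1 h1).upd 7 1 1 (N_pos_symm T v _ _ h1)) ![0,1,1,1,1,0,0,1] (by decide) (by decide) 1 (by decide)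
  have z_7_1 : N T v 7 1 = 0 := N_eq_zero_symm T v 1 7 (by decide) z_1_7
  have z_2_4 : N T v 2 4 = 0 := by
    by_contra hcon
    have h1 : 1 ≤ N T v 2 4 := by have := N_nonneg T v 2 4 (by decide); omega
    exact cert_false T v hn hv ((hB.upd 2 4 1 h1).upd 4 2 1 (N_pos_symm T v _ _ h1)) ![0,0,1,1,1,0,0,0] (by decide) (by decide) 2 (by decide)
  have z_4_2 : N T v 4 2 = 0 := N_eq_zero_symm T v 2 4 (by decide) z_2_4
  have z_2_5 : N T v 2 5 = 0 := by
    by_contra hcon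
    have h1 : 1 ≤ N T v 2 5 := by have := N_nonneg T v 2 5 (by decide); omega
    exact cert_false T v hn hv ((hB.upd 2 5 1 h1).upd 5 2 1 (N_pos_symm T v _ _ h1)) ![0,0,1,1,1,1,0,0] (by decide) (by decide) 2 (by decide)
  have z_5_2 : N T v 5 2 = 0 := N_eq_zero_symm T v 2 5 (by decide) z_2_5
  have z_2_6 : N T v 2 6 = 0 := by
    by_contra hcon
    have h1 : 1 ≤ N T v 2 6 := by have := N_nonneg T v 2 6 (by decide); omega
    exact cert_false T v hn hv ((hB.upd 2 6 1 h1).upd 6 2 1 (N_pos_symm T v _ _ h1)) ![0,0,1,1,1,1,1,0] (by decide) (by decide) 2 (by decide)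
  have z_6_2 : N T v 6 2 = 0 := N_eq_zero_symm T v 2 6 (by decide) z_2_6
  have z_2_7 : N T v 2 7 = 0 := by
    by_contra hcon
    have h1 : 1 ≤ N T v 2 7 := by have := N_nonneg T v 2 7 (by decide); omega
    exact cert_false T v hn hv ((hB.upd 2 7 1 h1).upd 7 2 1 (N_pos_symm T v _ _ h1)) ![0,0,1,1,1,0,0,1] (by decide) (by decide) 2 (by decide)
  have z_7_2 : N T v 7 2 = 0 := N_eq_zero_symm T v 2 7 (by decide) z_2_7
  have z_3_5 : N T v 3 5 = 0 := by
    by_contra hcon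
    have h1 : 1 ≤ N T v 3 5 := by have := N_nonneg T v 3 5 (by decide); omega
    exact cert_false T v hn hv ((hB.upd 3 5 1 h1).upd 5 3 1 (N_pos_symm T v _ _ h1)) ![0,0,0,1,1,1,0,0] (by decide) (by decide) 3 (by decide)
  have z_5_3 : N T v 5 3 = 0 := N_eq_zero_symm T v 3 5 (by decide) z_3_5
  have z_3_6 : N T v 3 6 = 0 := by
    by_contra hcon
    have h1 : 1 ≤ N T v 3 6 := by have := N_nonneg T v 3 6 (by decide); omega
    exact cert_false T v hn hv ((hB.upd 3 6 1 h1).upd 6 3 1 (N_pos_symm T v _ _ h1)) ![0,0,0,1,1,1,1,0] (by decide) (by decide) 3 (by decide)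
  have z_6_3 : N T v 6 3 = 0 := N_eq_zero_symm T v 3 6 (by decide) z_3_6
  have z_3_7 : N T v 3 7 = 0 := by
    by_contra hcon
    have h1 : 1 ≤ N T v 3 7 := by have := N_nonneg T v 3 7 (by decide); omega
    exact cert_false T v hn hv ((hB.upd 3 7 1 h1).upd 7 3 1 (N_pos_symm T v _ _ h1)) ![0,0,0,1,1,0,0,1] (by decide) (by decide) 3 (by decide)
  have z_7_3 : N T v 7 3 = 0 := N_eq_zero_symm T v 3 7 (by decide) z_3_7
  have z_4_6 : N T v 4 6 = 0 := by
    by_contra hcon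
    have h1 : 1 ≤ N T v 4 6 := by have := N_nonneg T v 4 6 (by decide); omega
    exact cert_false T v hn hv ((hB.upd 4 6 1 h1).upd 6 4 1 (N_pos_symm T v _ _ h1)) ![0,0,0,0,1,1,1,0] (by decide) (by decide) 4 (by decide)
  have z_6_4 : N T v 6 4 = 0 := N_eq_zero_symm T v 4 6 (by decide) z_4_6
  have z_5_7 : N T v 5 7 = 0 := by
    by_contra hcon
    have h1 : 1 ≤ N T v 5 7 := by have := N_nonneg T v 5 7 (by decide); omega
    exact cert_false T v hn hv ((hB.upd 5 7 1 h1).upd 7 5 1 (N_pos_symm T v _ _ h1)) ![0,0,0,0,1,1,0,1] (by decide) (by decide) 4 (by decide)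
  have z_7_5 : N T v 7 5 = 0 := N_eq_zero_symm T v 5 7 (by decide) z_5_7
  have z_6_7 : N T v 6 7 = 0 := by
    by_contra hcon
    have h1 : 1 ≤ N T v 6 7 := by have := N_nonneg T v 6 7 (by decide); omega
    exact cert_false T v hn hv ((hB.upd 6 7 1 h1).upd 7 6 1 (N_pos_symm T v _ _ h1)) ![0,0,0,0,1,1,1,1] (by decide) (by decide) 4 (by decide)
  have z_7_6 : N T v 7 6 = 0 := N_eq_zero_symm T v 6 7 (by decide) z_6_7
  have hw_0 : T.w (v 0) = T.w (v 0) := rfl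
  have hw_1 : T.w (v 1) = T.w (v 0) := by
    have := w_N T v 0 1
    rw [u_0_1, u_1_0, mul_one, mul_one] at this
    exact this.symm.trans hw_0
  have hw_2 : T.w (v 2) = T.w (v 0) := by
    have := w_N T v 1 2
    rw [u_1_2, u_2_1, mul_one, mul_one] at this
    exact this.symm.trans hw_1
  have hw_3 : T.w (v 3) = T.w (v 0) := by
    have := w_N T v 2 3
    rw [u_2_3, u_3_2, mul_one, mul_one] at this
    exact this.symm.trans hw_2
  have hw_4 : T.w (v 4) = T.w (v 0) := by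
    have := w_N T v 3 4
    rw [u_3_4, u_4_3, mul_one, mul_one] at this
    exact this.symm.trans hw_3
  have hw_5 : T.w (v 5) = T.w (v 0) := by
    have := w_N T v 4 5
    rw [u_4_5, u_5_4, mul_one, mul_one] at this
    exact this.symm.trans hw_4
  have hw_7 : T.w (v 7) = T.w (v 0) := by
    have := w_N T v 4 7
    rw [u_4_7, u_7_4, mul_one, mul_one] at this
    exact this.symm.trans hw_4
  have hw_6 : T.w (v 6) = T.w (v 0) := by
    have := w_N T v 5 6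
    rw [u_5_6, u_6_5, mul_one, mul_one] at this
    exact this.symm.trans hw_5
  have hwall : ∀ j : Fin 8, T.w (v j) = T.w (v 0) := by
    intro j; fin_cases j
    exacts [hw_0, hw_1, hw_2, hw_3, hw_4, hw_5, hw_6, hw_7]
  have a_0_1 : T.a (v 0) (v 1) = T.w (v 0) := (show T.a (v 0) (v 1) = T.w (v 0) by rw [a_eq T v 0 1, u_0_1, mul_one]).trans hw_0
  have a_1_2 : T.a (v 1) (v 2) = T.w (v 0) := (show T.a (v 1) (v 2) = T.w (v 1) by rw [a_eq T v 1 2, u_1_2, mul_one]).trans hw_1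
  have a_2_3 : T.a (v 2) (v 3) = T.w (v 0) := (show T.a (v 2) (v 3) = T.w (v 2) by rw [a_eq T v 2 3, u_2_3, mul_one]).trans hw_2
  have a_3_4 : T.a (v 3) (v 4) = T.w (v 0) := (show T.a (v 3) (v 4) = T.w (v 3) by rw [a_eq T v 3 4, u_3_4, mul_one]).trans hw_3
  have a_4_5 : T.a (v 4) (v 5) = T.w (v 0) := (show T.a (v 4) (v 5) = T.w (v 4) by rw [a_eq T v 4 5, u_4_5, mul_one]).trans hw_4
  have a_5_6 : T.a (v 5) (v 6) = T.w (v 0) := (show T.a (v 5) (v 6) = T.w (v 5) by rw [a_eq T v 5 6, u_5_6, mul_one]).trans hw_5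
  have a_4_7 : T.a (v 4) (v 7) = T.w (v 0) := (show T.a (v 4) (v 7) = T.w (v 4) by rw [a_eq T v 4 7, u_4_7, mul_one]).trans hw_4
  have m_0 := m_ineq T v hv 0
  simp only [Fin.sum_univ_eight, u_0_1, z_0_2, z_0_3, z_0_4, z_0_5, z_0_6, z_0_7, Fin.reduceEq, if_false, if_true, zero_mul, one_mul, add_zero, zero_add] at m_0
  have m_1 := m_ineq T v hv 1
  simp only [Fin.sum_univ_eight, u_1_0, u_1_2, z_1_3, z_1_4, z_1_5, z_1_6, z_1_7, Fin.reduceEq, if_false, if_true, zero_mul, one_mul, add_zero, zero_add] at m_1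
  have m_2 := m_ineq T v hv 2
  simp only [Fin.sum_univ_eight, z_2_0, u_2_1, u_2_3, z_2_4, z_2_5, z_2_6, z_2_7, Fin.reduceEq, if_false, if_true, zero_mul, one_mul, add_zero, zero_add] at m_2
  have m_3 := m_ineq T v hv 3
  simp only [Fin.sum_univ_eight, z_3_0, z_3_1, u_3_2, u_3_4, z_3_5, z_3_6, z_3_7, Fin.reduceEq, if_false, if_true, zero_mul, one_mul, add_zero, zero_add] at m_3
  have m_4 := m_ineq T v hv 4
  simp only [Fin.sum_univ_eight, z_4_0, z_4_1, z_4_2, u_4_3, u_4_5, z_4_6, u_4_7, Fin.reduceEq, if_false, if_true, zero_mul, one_mul, add_zero, zero_add] at m_4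
  have m_5 := m_ineq T v hv 5
  simp only [Fin.sum_univ_eight, z_5_0, z_5_1, z_5_2, z_5_3, u_5_4, u_5_6, z_5_7, Fin.reduceEq, if_false, if_true, zero_mul, one_mul, add_zero, zero_add] at m_5
  have m_6 := m_ineq T v hv 6
  simp only [Fin.sum_univ_eight, z_6_0, z_6_1, z_6_2, z_6_3, z_6_4, u_6_5, z_6_7, Fin.reduceEq, if_false, if_true, zero_mul, one_mul, add_zero, zero_add] at m_6
  have m_7 := m_ineq T v hv 7
  simp only [Fin.sum_univ_eight, z_7_0, z_7_1, z_7_2, z_7_3, u_7_4, z_7_5, z_7_6, Fin.reduceEq, if_false, if_true, zero_mul, one_mul, add_zero, zero_add] at m_7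
  exact ⟨T.w (v 0), hwall, a_0_1, a_1_2, a_2_3, a_3_4, a_4_5, a_5_6, a_4_7, a_eq_zero_of_N T v 0 2 z_0_2, a_eq_zero_of_N T v 0 3 z_0_3, a_eq_zero_of_N T v 0 4 z_0_4, a_eq_zero_of_N T v 0 5 z_0_5, a_eq_zero_of_N T v 0 6 z_0_6, a_eq_zero_of_N T v 0 7 z_0_7, a_eq_zero_of_N T v 1 3 z_1_3, a_eq_zero_of_N T v 1 4 z_1_4, a_eq_zero_of_N T v 1 5 z_1_5, a_eq_zero_of_N T v 1 6 z_1_6, a_eq_zero_of_N T v 1 7 z_1_7, a_eq_zero_of_N T v 2 4 z_2_4, a_eq_zero_of_N T v 2 5 z_2_5, a_eq_zero_of_N T v 2 6 z_2_6, a_eq_zero_of_N T v 2 7 z_2_7, a_eq_zero_of_N T v 3 5 z_3_5, a_eq_zero_of_N T v 3 6 z_3_6, a_eq_zero_of_N T v 3 7 z_3_7, a_eq_zero_of_N T v 4 6 z_4_6, a_eq_zero_of_N T v 5 7 z_5_7, a_eq_zero_of_N T v 6 7 z_6_7, by linarith [m_0], by linarith [m_1], by linarith [m_2], by linarith [m_3], by linarith [m_4], by linarith [m_5], by linarith [m_6], by linarith [m_7]⟩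

end Groth.Agent.S7350
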