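import Groth.Statements.S7351
import Groth.Agent.Lib.helper11.NumType

set_option autoImplicit false
open Finset

namespace Groth.Agent.S7351

open Groth.Agent.Lib.helper11.NumType in
/-- Let T be a numerical type on n > 5 indices. There do not exist five distinct (-2)-indices h, i, j,
k, l with a_hi > 0, a_hj > 0, a_hk > 0 and a_hl > 0. -/
theorem result {n : ℕ} (T : Models.NumericalType n) (hn : 5 < n)
    (v : Fin 5 ↪ Fin n) (hv : ∀ j, T.IsMinusTwo (v j))
    (h01 : 0 < T.a (v 0) (v 1)) (h02 : 0 < T.a (v 0) (v 2)) (h03 : 0 < T.a (v 0) (v 3)) (h04 : 0 < T.a (v 0) (v 4)) : False := by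
  have e1 := N_pos T v 0 1 (by decide) h01.ne'
  have e2 := N_pos T v 0 2 (by decide) h02.ne'
  have e3 := N_pos T v 0 3 (by decide) h03.ne'
  have e4 := N_pos T v 0 4 (by decide) h04.ne'
  have hB := LB_zero T v
  replace hB := (hB.upd 0 1 1 e1).upd 1 0 1 (N_pos_symm T v _ _ e1)
  replace hB := (hB.upd 0 2 1 e2).upd 2 0 1 (N_pos_symm T v _ _ e2)
  replace hB := (hB.upd 0 3 1 e3).upd 3 0 1 (N_pos_symm T v _ _ e3)
  replace hB := (hB.upd 0 4 1 e4).upd 4 0 1 (N_pos_symm T v _ _ e4)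
  exact cert_false T v hn hv hB ![2,1,1,1,1] (by decide) (by decide) 0 (by decide)

end Groth.Agent.S7351
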