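import Groth.Statements.S7352
import Groth.Agent.Lib.helper11.NumType

set_option autoImplicit false
open Finset
open Models Models.NumericalType

namespace Groth.Agent.S7352

open Groth.Agent.Lib.helper11.NumType in
/-- Classification of proper subgraphs which are chains of four vertices: let T be a numerical type on n
> 4 indices and i_1, …, i_4 distinct (-2)-indices with a_{i_j i_{j+1}} nonzero for j < 4. Then
a_{i_j i_l} = 0 for |j - l| ≥ 2 and, after possibly reversing the order of the indices, for some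
integer w one of the following holds: (A4) w = (w, w, w, w), consecutive a = (w, w, w), with 2m_1 ≥
m_2, 2m_2 ≥ m_1 + m_3, 2m_3 ≥ m_2 + m_4, 2m_4 ≥ m_3; (C4) w = (w, w, w, 2w), consecutive a = (w, w,
2w), with 2m_1 ≥ m_2, 2m_2 ≥ m_1 + m_3, 2m_3 ≥ m_2 + 2m_4, 2m_4 ≥ m_3; (B4) w = (2w, 2w, 2w, w),
consecutive a = (2w, 2w, 2w), with 2m_1 ≥ m_2, 2m_2 ≥ m_1 + m_3, 2m_3 ≥ m_2 + m_4, m_4 ≥ m_3; (F4) w
= (w, w, 2w, 2w), consecutive a = (w, 2w, 2w), with 2m_1 ≥ m_2, 2m_2 ≥ m_1 + 2m_3, 2m_3 ≥ m_2 + m_4,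
2m_4 ≥ m_3. -/
theorem result {n : ℕ} (T : Models.NumericalType n) (hn : 4 < n)
    (v : Fin 4 ↪ Fin n) (hv : ∀ j, T.IsMinusTwo (v j)) (h01 : T.a (v 0) (v 1) ≠ 0) (h12 : T.a (v 1) (v 2) ≠ 0) (h23 : T.a (v 2) (v 3) ≠ 0) :
    (T.a (v 0) (v 2) = 0 ∧ T.a (v 0) (v 3) = 0 ∧ T.a (v 1) (v 3) = 0) ∧
    ∃ (u : Fin 4 → Fin n) (w : ℤ), ((∀ j, u j = v j) ∨ (∀ j, u j = v (Fin.rev j))) ∧
      ((T.w (u 0) = w ∧ T.w (u 1) = w ∧ T.w (u 2) = w ∧ T.w (u 3) = w ∧ T.a (u 0) (u 1) = w ∧ T.a (u 1) (u 2) = w ∧ T.a (u 2) (u 3) = w ∧ T.m (u 1) ≤ 2 * T.m (u 0) ∧ T.m (u 0) + T.m (u 2) ≤ 2 * T.m (u 1) ∧ T.m (u 1) + T.m (u 3) ≤ 2 * T.m (u 2) ∧ T.m (u 2) ≤ 2 * T.m (u 3)) ∨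
      (T.w (u 0) = w ∧ T.w (u 1) = w ∧ T.w (u 2) = w ∧ T.w (u 3) = 2 * w ∧ T.a (u 0) (u 1) = w ∧ T.a (u 1) (u 2) = w ∧ T.a (u 2) (u 3) = 2 * w ∧ T.m (u 1) ≤ 2 * T.m (u 0) ∧ T.m (u 0) + T.m (u 2) ≤ 2 * T.m (u 1) ∧ T.m (u 1) + 2 * T.m (u 3) ≤ 2 * T.m (u 2) ∧ T.m (u 2) ≤ 2 * T.m (u 3)) ∨
      (T.w (u 0) = 2 * w ∧ T.w (u 1) = 2 * w ∧ T.w (u 2) = 2 * w ∧ T.w (u 3) = w ∧ T.a (u 0) (u 1) = 2 * w ∧ T.a (u 1) (u 2) = 2 * w ∧ T.a (u 2) (u 3) = 2 * w ∧ T.m (u 1) ≤ 2 * T.m (u 0) ∧ T.m (u 0) + T.m (u 2) ≤ 2 * T.m (u 1) ∧ T.m (u 1) + T.m (u 3) ≤ 2 * T.m (u 2) ∧ T.m (u 2) ≤ T.m (u 3)) ∨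
      (T.w (u 0) = w ∧ T.w (u 1) = w ∧ T.w (u 2) = 2 * w ∧ T.w (u 3) = 2 * w ∧ T.a (u 0) (u 1) = w ∧ T.a (u 1) (u 2) = 2 * w ∧ T.a (u 2) (u 3) = 2 * w ∧ T.m (u 1) ≤ 2 * T.m (u 0) ∧ T.m (u 0) + 2 * T.m (u 2) ≤ 2 * T.m (u 1) ∧ T.m (u 1) + T.m (u 3) ≤ 2 * T.m (u 2) ∧ T.m (u 2) ≤ 2 * T.m (u 3))) := by
  have l_0_1 := N_pos T v 0 1 (by decide) h01
  have l_1_0 := N_pos_symm T v _ _ l_0_1
  have l_1_2 := N_pos T v 1 2 (by decide) h12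
  have l_2_1 := N_pos_symm T v _ _ l_1_2
  have l_2_3 := N_pos T v 2 3 (by decide) h23
  have l_3_2 := N_pos_symm T v _ _ l_2_3
  have hB := LB_zero T v
  replace hB := (hB.upd 0 1 1 l_0_1).upd 1 0 1 l_1_0
  replace hB := (hB.upd 1 2 1 l_1_2).upd 2 1 1 l_2_1
  replace hB := (hB.upd 2 3 1 l_2_3).upd 3 2 1 l_3_2
  have z_0_2 : N T v 0 2 = 0 := by
    by_contra hcon
    have h1 : 1 ≤ N T v 0 2 := by have := N_nonneg T v 0 2 (by decide); omega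
    exact cert_false T v hn hv ((hB.upd 0 2 1 h1).upd 2 0 1 (N_pos_symm T v _ _ h1)) ![1,1,1,0] (by decide) (by decide) 0 (by decide)
  have z_2_0 : N T v 2 0 = 0 := N_eq_zero_symm T v 0 2 (by decide) z_0_2
  have z_0_3 : N T v 0 3 = 0 := by
    by_contra hcon
    have h1 : 1 ≤ N T v 0 3 := by have := N_nonneg T v 0 3 (by decide); omega
    exact cert_false T v hn hv ((hB.upd 0 3 1 h1).upd 3 0 1 (N_pos_symm T v _ _ h1)) ![1,1,1,1] (by decide) (by decide) 0 (by decide)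
  have z_3_0 : N T v 3 0 = 0 := N_eq_zero_symm T v 0 3 (by decide) z_0_3
  have z_1_3 : N T v 1 3 = 0 := by
    by_contra hcon
    have h1 : 1 ≤ N T v 1 3 := by have := N_nonneg T v 1 3 (by decide); omega
    exact cert_false T v hn hv ((hB.upd 1 3 1 h1).upd 3 1 1 (N_pos_symm T v _ _ h1)) ![0,1,1,1] (by decide) (by decide) 1 (by decide)
  have z_3_1 : N T v 3 1 = 0 := N_eq_zero_symm T v 1 3 (by decide) z_1_3
  have t_0_1 : N T v 0 1 ≤ 2 := by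
    by_contra hcon
    have h3 : 3 ≤ N T v 0 1 := by omega
    exact cert_false T v hn hv (hB.upd 0 1 3 h3) ![3,2,1,0] (by decide) (by decide) 0 (by decide)
  have t_1_0 : N T v 1 0 ≤ 2 := by
    by_contra hcon
    have h3 : 3 ≤ N T v 1 0 := by omega
    exact cert_false T v hn hv (hB.upd 1 0 3 h3) ![1,2,1,0] (by decide) (by decide) 0 (by decide)
  have t_1_2 : N T v 1 2 ≤ 2 := by
    by_contra hcon
    have h3 : 3 ≤ N T v 1 2 := by omega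
    exact cert_false T v hn hv (hB.upd 1 2 3 h3) ![1,2,1,0] (by decide) (by decide) 0 (by decide)
  have t_2_1 : N T v 2 1 ≤ 2 := by
    by_contra hcon
    have h3 : 3 ≤ N T v 2 1 := by omega
    exact cert_false T v hn hv (hB.upd 2 1 3 h3) ![0,1,2,1] (by decide) (by decide) 1 (by decide)
  have t_2_3 : N T v 2 3 ≤ 2 := by
    by_contra hcon
    have h3 : 3 ≤ N T v 2 3 := by omega
    exact cert_false T v hn hv (hB.upd 2 3 3 h3) ![0,1,2,1] (by decide) (by decide) 1 (by decide)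
  have t_3_2 : N T v 3 2 ≤ 2 := by
    by_contra hcon
    have h3 : 3 ≤ N T v 3 2 := by omega
    exact cert_false T v hn hv (hB.upd 3 2 3 h3) ![0,1,2,3] (by decide) (by decide) 1 (by decide)
  have pd_0_1_1_0 : N T v 0 1 + N T v 1 0 ≤ 3 := by
    by_contra hcon
    have h2a : 2 ≤ N T v 0 1 := by omega
    have h2b : 2 ≤ N T v 1 0 := by omega
    exact cert_false T v hn hv ((hB.upd 0 1 2 h2a).upd 1 0 2 h2b) ![1,1,0,0] (by decide) (by decide) 0 (by decide)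
  have pd_0_1_1_2 : N T v 0 1 + N T v 1 2 ≤ 3 := by
    by_contra hcon
    have h2a : 2 ≤ N T v 0 1 := by omega
    have h2b : 2 ≤ N T v 1 2 := by omega
    exact cert_false T v hn hv ((hB.upd 0 1 2 h2a).upd 1 2 2 h2b) ![2,2,1,0] (by decide) (by decide) 0 (by decide)
  have pd_0_1_2_1 : N T v 0 1 + N T v 2 1 ≤ 3 := by
    by_contra hcon
    have h2a : 2 ≤ N T v 0 1 := by omega
    have h2b : 2 ≤ N T v 2 1 := by omega
    exact cert_false T v hn hv ((hB.upd 0 1 2 h2a).upd 2 1 2 h2b) ![1,1,1,0] (by decide) (by decide) 0 (by decide)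
  have pd_0_1_2_3 : N T v 0 1 + N T v 2 3 ≤ 3 := by
    by_contra hcon
    have h2a : 2 ≤ N T v 0 1 := by omega
    have h2b : 2 ≤ N T v 2 3 := by omega
    exact cert_false T v hn hv ((hB.upd 0 1 2 h2a).upd 2 3 2 h2b) ![2,2,2,1] (by decide) (by decide) 0 (by decide)
  have pd_0_1_3_2 : N T v 0 1 + N T v 3 2 ≤ 3 := by
    by_contra hcon
    have h2a : 2 ≤ N T v 0 1 := by omega
    have h2b : 2 ≤ N T v 3 2 := by omega
    exact cert_false T v hn hv ((hB.upd 0 1 2 h2a).upd 3 2 2 h2b) ![1,1,1,1] (by decide) (by decide) 0 (by decide)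
  have pd_1_0_1_2 : N T v 1 0 + N T v 1 2 ≤ 3 := by
    by_contra hcon
    have h2a : 2 ≤ N T v 1 0 := by omega
    have h2b : 2 ≤ N T v 1 2 := by omega
    exact cert_false T v hn hv ((hB.upd 1 0 2 h2a).upd 1 2 2 h2b) ![1,2,1,0] (by decide) (by decide) 0 (by decide)
  have pd_1_0_2_1 : N T v 1 0 + N T v 2 1 ≤ 3 := by
    by_contra hcon
    have h2a : 2 ≤ N T v 1 0 := by omega
    have h2b : 2 ≤ N T v 2 1 := by omega
    exact cert_false T v hn hv ((hB.upd 1 0 2 h2a).upd 2 1 2 h2b) ![1,2,2,0] (by decide) (by decide) 0 (by decide)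
  have pd_1_0_2_3 : N T v 1 0 + N T v 2 3 ≤ 3 := by
    by_contra hcon
    have h2a : 2 ≤ N T v 1 0 := by omega
    have h2b : 2 ≤ N T v 2 3 := by omega
    exact cert_false T v hn hv ((hB.upd 1 0 2 h2a).upd 2 3 2 h2b) ![1,2,2,1] (by decide) (by decide) 0 (by decide)
  have pd_1_0_3_2 : N T v 1 0 + N T v 3 2 ≤ 3 := by
    by_contra hcon
    have h2a : 2 ≤ N T v 1 0 := by omega
    have h2b : 2 ≤ N T v 3 2 := by omega
    exact cert_false T v hn hv ((hB.upd 1 0 2 h2a).upd 3 2 2 h2b) ![1,2,2,2] (by decide) (by decide) 0 (by decide)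
  have pd_1_2_2_1 : N T v 1 2 + N T v 2 1 ≤ 3 := by
    by_contra hcon
    have h2a : 2 ≤ N T v 1 2 := by omega
    have h2b : 2 ≤ N T v 2 1 := by omega
    exact cert_false T v hn hv ((hB.upd 1 2 2 h2a).upd 2 1 2 h2b) ![0,1,1,0] (by decide) (by decide) 1 (by decide)
  have pd_1_2_2_3 : N T v 1 2 + N T v 2 3 ≤ 3 := by
    by_contra hcon
    have h2a : 2 ≤ N T v 1 2 := by omega
    have h2b : 2 ≤ N T v 2 3 := by omega
    exact cert_false T v hn hv ((hB.upd 1 2 2 h2a).upd 2 3 2 h2b) ![0,2,2,1] (by decide) (by decide) 1 (by decide)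
  have pd_1_2_3_2 : N T v 1 2 + N T v 3 2 ≤ 3 := by
    by_contra hcon
    have h2a : 2 ≤ N T v 1 2 := by omega
    have h2b : 2 ≤ N T v 3 2 := by omega
    exact cert_false T v hn hv ((hB.upd 1 2 2 h2a).upd 3 2 2 h2b) ![0,1,1,1] (by decide) (by decide) 1 (by decide)
  have pd_2_1_2_3 : N T v 2 1 + N T v 2 3 ≤ 3 := by
    by_contra hcon
    have h2a : 2 ≤ N T v 2 1 := by omega
    have h2b : 2 ≤ N T v 2 3 := by omega
    exact cert_false T v hn hv ((hB.upd 2 1 2 h2a).upd 2 3 2 h2b) ![0,1,2,1] (by decide) (by decide) 1 (by decide)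
  have pd_2_1_3_2 : N T v 2 1 + N T v 3 2 ≤ 3 := by
    by_contra hcon
    have h2a : 2 ≤ N T v 2 1 := by omega
    have h2b : 2 ≤ N T v 3 2 := by omega
    exact cert_false T v hn hv ((hB.upd 2 1 2 h2a).upd 3 2 2 h2b) ![0,1,2,2] (by decide) (by decide) 1 (by decide)
  have pd_2_3_3_2 : N T v 2 3 + N T v 3 2 ≤ 3 := by
    by_contra hcon
    have h2a : 2 ≤ N T v 2 3 := by omega
    have h2b : 2 ≤ N T v 3 2 := by omega
    exact cert_false T v hn hv ((hB.upd 2 3 2 h2a).upd 3 2 2 h2b) ![0,0,1,1] (by decide) (by decide) 2 (by decide)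
  have hcases : (N T v 0 1 = 1 ∧ N T v 1 0 = 1 ∧ N T v 1 2 = 1 ∧ N T v 2 1 = 1 ∧ N T v 2 3 = 1 ∧ N T v 3 2 = 1) ∨ (N T v 0 1 = 2 ∧ N T v 1 0 = 1 ∧ N T v 1 2 = 1 ∧ N T v 2 1 = 1 ∧ N T v 2 3 = 1 ∧ N T v 3 2 = 1) ∨ (N T v 0 1 = 1 ∧ N T v 1 0 = 2 ∧ N T v 1 2 = 1 ∧ N T v 2 1 = 1 ∧ N T v 2 3 = 1 ∧ N T v 3 2 = 1) ∨ (N T v 0 1 = 1 ∧ N T v 1 0 = 1 ∧ N T v 1 2 = 2 ∧ N T v 2 1 = 1 ∧ N T v 2 3 = 1 ∧ N T v 3 2 = 1) ∨ (N T v 0 1 = 1 ∧ N T v 1 0 = 1 ∧ N T v 1 2 = 1 ∧ N T v 2 1 = 2 ∧ N T v 2 3 = 1 ∧ N T v 3 2 = 1) ∨ (N T v 0 1 = 1 ∧ N T v 1 0 = 1 ∧ N T v 1 2 = 1 ∧ N T v 2 1 = 1 ∧ N T v 2 3 = 2 ∧ N T v 3 2 = 1) ∨ (N T v 0 1 = 1 ∧ N T v 1 0 = 1 ∧ N T v 1 2 = 1 ∧ N T v 2 1 = 1 ∧ N T v 2 3 = 1 ∧ N T v 3 2 = 2) := by omega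
  refine ⟨⟨a_eq_zero_of_N T v 0 2 z_0_2, a_eq_zero_of_N T v 0 3 z_0_3, a_eq_zero_of_N T v 1 3 z_1_3⟩, ?_⟩
  rcases hcases with ⟨c_0_1, c_1_0, c_1_2, c_2_1, c_2_3, c_3_2⟩ | ⟨c_0_1, c_1_0, c_1_2, c_2_1, c_2_3, c_3_2⟩ | ⟨c_0_1, c_1_0, c_1_2, c_2_1, c_2_3, c_3_2⟩ | ⟨c_0_1, c_1_0, c_1_2, c_2_1, c_2_3, c_3_2⟩ | ⟨c_0_1, c_1_0, c_1_2, c_2_1, c_2_3, c_3_2⟩ | ⟨c_0_1, c_1_0, c_1_2, c_2_1, c_2_3, c_3_2⟩ | ⟨c_0_1, c_1_0, c_1_2, c_2_1, c_2_3, c_3_2⟩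
  · -- case None
    have hw_0 := w_N T v 0 1
    simp only [c_0_1, c_1_0, mul_one] at hw_0
    have hw_1 := w_N T v 1 2
    simp only [c_1_2, c_2_1, mul_one] at hw_1
    have hw_2 := w_N T v 2 3
    simp only [c_2_3, c_3_2, mul_one] at hw_2
    have ha_0 := a_eq T v 0 1
    simp only [c_0_1, mul_one] at ha_0
    have ha_1 := a_eq T v 1 2
    simp only [c_1_2, mul_one] at ha_1
    have ha_2 := a_eq T v 2 3
    simp only [c_2_3, mul_one] at ha_2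
    have m_0 := m_ineq T v hv 0
    simp only [Fin.sum_univ_four, c_0_1, c_1_0, c_1_2, c_2_1, c_2_3, c_3_2, z_0_2, z_0_3, z_1_3, z_2_0, z_3_0, z_3_1, Fin.reduceEq, if_false, if_true, zero_mul, one_mul, add_zero, zero_add, mul_one] at m_0
    have m_1 := m_ineq T v hv 1
    simp only [Fin.sum_univ_four, c_0_1, c_1_0, c_1_2, c_2_1, c_2_3, c_3_2, z_0_2, z_0_3, z_1_3, z_2_0, z_3_0, z_3_1, Fin.reduceEq, if_false, if_true, zero_mul, one_mul, add_zero, zero_add, mul_one] at m_1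
    have m_2 := m_ineq T v hv 2
    simp only [Fin.sum_univ_four, c_0_1, c_1_0, c_1_2, c_2_1, c_2_3, c_3_2, z_0_2, z_0_3, z_1_3, z_2_0, z_3_0, z_3_1, Fin.reduceEq, if_false, if_true, zero_mul, one_mul, add_zero, zero_add, mul_one] at m_2
    have m_3 := m_ineq T v hv 3
    simp only [Fin.sum_univ_four, c_0_1, c_1_0, c_1_2, c_2_1, c_2_3, c_3_2, z_0_2, z_0_3, z_1_3, z_2_0, z_3_0, z_3_1, Fin.reduceEq, if_false, if_true, zero_mul, one_mul, add_zero, zero_add, mul_one] at m_3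
    refine ⟨fun j => v j, T.w (v 0), Or.inl (fun _ => rfl), Or.inl ?_⟩
    show T.w (v 0) = T.w (v 0) ∧ T.w (v 1) = T.w (v 0) ∧ T.w (v 2) = T.w (v 0) ∧ T.w (v 3) = T.w (v 0) ∧ T.a (v 0) (v 1) = T.w (v 0) ∧ T.a (v 1) (v 2) = T.w (v 0) ∧ T.a (v 2) (v 3) = T.w (v 0) ∧ T.m (v 1) ≤ 2 * T.m (v 0) ∧ T.m (v 0) + T.m (v 2) ≤ 2 * T.m (v 1) ∧ T.m (v 1) + T.m (v 3) ≤ 2 * T.m (v 2) ∧ T.m (v 2) ≤ 2 * T.m (v 3)
    refine ⟨?_, ?_, ?_, ?_, ?_, ?_, ?_, ?_, ?_, ?_, ?_⟩ <;> omega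
  · -- case (0, 1)
    have hw_0 := w_N T v 0 1
    simp only [c_0_1, c_1_0, mul_one] at hw_0
    have hw_1 := w_N T v 1 2
    simp only [c_1_2, c_2_1, mul_one] at hw_1
    have hw_2 := w_N T v 2 3
    simp only [c_2_3, c_3_2, mul_one] at hw_2
    have ha_0 := a_eq T v 3 2
    simp only [c_3_2, mul_one] at ha_0
    have ha_1 := a_eq T v 2 1
    simp only [c_2_1, mul_one] at ha_1
    have ha_2 := a_eq T v 1 0
    simp only [c_1_0, mul_one] at ha_2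
    have m_0 := m_ineq T v hv 0
    simp only [Fin.sum_univ_four, c_0_1, c_1_0, c_1_2, c_2_1, c_2_3, c_3_2, z_0_2, z_0_3, z_1_3, z_2_0, z_3_0, z_3_1, Fin.reduceEq, if_false, if_true, zero_mul, one_mul, add_zero, zero_add, mul_one] at m_0
    have m_1 := m_ineq T v hv 1
    simp only [Fin.sum_univ_four, c_0_1, c_1_0, c_1_2, c_2_1, c_2_3, c_3_2, z_0_2, z_0_3, z_1_3, z_2_0, z_3_0, z_3_1, Fin.reduceEq, if_false, if_true, zero_mul, one_mul, add_zero, zero_add, mul_one] at m_1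
    have m_2 := m_ineq T v hv 2
    simp only [Fin.sum_univ_four, c_0_1, c_1_0, c_1_2, c_2_1, c_2_3, c_3_2, z_0_2, z_0_3, z_1_3, z_2_0, z_3_0, z_3_1, Fin.reduceEq, if_false, if_true, zero_mul, one_mul, add_zero, zero_add, mul_one] at m_2
    have m_3 := m_ineq T v hv 3
    simp only [Fin.sum_univ_four, c_0_1, c_1_0, c_1_2, c_2_1, c_2_3, c_3_2, z_0_2, z_0_3, z_1_3, z_2_0, z_3_0, z_3_1, Fin.reduceEq, if_false, if_true, zero_mul, one_mul, add_zero, zero_add, mul_one] at m_3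
    refine ⟨fun j => v (Fin.rev j), T.w (v 0), Or.inr (fun _ => rfl), Or.inr (Or.inr (Or.inl ?_))⟩
    show T.w (v 3) = 2 * T.w (v 0) ∧ T.w (v 2) = 2 * T.w (v 0) ∧ T.w (v 1) = 2 * T.w (v 0) ∧ T.w (v 0) = T.w (v 0) ∧ T.a (v 3) (v 2) = 2 * T.w (v 0) ∧ T.a (v 2) (v 1) = 2 * T.w (v 0) ∧ T.a (v 1) (v 0) = 2 * T.w (v 0) ∧ T.m (v 2) ≤ 2 * T.m (v 3) ∧ T.m (v 3) + T.m (v 1) ≤ 2 * T.m (v 2) ∧ T.m (v 2) + T.m (v 0) ≤ 2 * T.m (v 1) ∧ T.m (v 1) ≤ T.m (v 0)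
    refine ⟨?_, ?_, ?_, ?_, ?_, ?_, ?_, ?_, ?_, ?_, ?_⟩ <;> omega
  · -- case (1, 0)
    have hw_0 := w_N T v 0 1
    simp only [c_0_1, c_1_0, mul_one] at hw_0
    have hw_1 := w_N T v 1 2
    simp only [c_1_2, c_2_1, mul_one] at hw_1
    have hw_2 := w_N T v 2 3
    simp only [c_2_3, c_3_2, mul_one] at hw_2
    have ha_0 := a_eq T v 3 2
    simp only [c_3_2, mul_one] at ha_0
    have ha_1 := a_eq T v 2 1
    simp only [c_2_1, mul_one] at ha_1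
    have ha_2 := a_eq T v 1 0
    simp only [c_1_0, mul_one] at ha_2
    have m_0 := m_ineq T v hv 0
    simp only [Fin.sum_univ_four, c_0_1, c_1_0, c_1_2, c_2_1, c_2_3, c_3_2, z_0_2, z_0_3, z_1_3, z_2_0, z_3_0, z_3_1, Fin.reduceEq, if_false, if_true, zero_mul, one_mul, add_zero, zero_add, mul_one] at m_0
    have m_1 := m_ineq T v hv 1
    simp only [Fin.sum_univ_four, c_0_1, c_1_0, c_1_2, c_2_1, c_2_3, c_3_2, z_0_2, z_0_3, z_1_3, z_2_0, z_3_0, z_3_1, Fin.reduceEq, if_false, if_true, zero_mul, one_mul, add_zero, zero_add, mul_one] at m_1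
    have m_2 := m_ineq T v hv 2
    simp only [Fin.sum_univ_four, c_0_1, c_1_0, c_1_2, c_2_1, c_2_3, c_3_2, z_0_2, z_0_3, z_1_3, z_2_0, z_3_0, z_3_1, Fin.reduceEq, if_false, if_true, zero_mul, one_mul, add_zero, zero_add, mul_one] at m_2
    have m_3 := m_ineq T v hv 3
    simp only [Fin.sum_univ_four, c_0_1, c_1_0, c_1_2, c_2_1, c_2_3, c_3_2, z_0_2, z_0_3, z_1_3, z_2_0, z_3_0, z_3_1, Fin.reduceEq, if_false, if_true, zero_mul, one_mul, add_zero, zero_add, mul_one] at m_3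
    refine ⟨fun j => v (Fin.rev j), T.w (v 3), Or.inr (fun _ => rfl), Or.inr (Or.inl ?_)⟩
    show T.w (v 3) = T.w (v 3) ∧ T.w (v 2) = T.w (v 3) ∧ T.w (v 1) = T.w (v 3) ∧ T.w (v 0) = 2 * T.w (v 3) ∧ T.a (v 3) (v 2) = T.w (v 3) ∧ T.a (v 2) (v 1) = T.w (v 3) ∧ T.a (v 1) (v 0) = 2 * T.w (v 3) ∧ T.m (v 2) ≤ 2 * T.m (v 3) ∧ T.m (v 3) + T.m (v 1) ≤ 2 * T.m (v 2) ∧ T.m (v 2) + 2 * T.m (v 0) ≤ 2 * T.m (v 1) ∧ T.m (v 1) ≤ 2 * T.m (v 0)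
    refine ⟨?_, ?_, ?_, ?_, ?_, ?_, ?_, ?_, ?_, ?_, ?_⟩ <;> omega
  · -- case (1, 2)
    have hw_0 := w_N T v 0 1
    simp only [c_0_1, c_1_0, mul_one] at hw_0
    have hw_1 := w_N T v 1 2
    simp only [c_1_2, c_2_1, mul_one] at hw_1
    have hw_2 := w_N T v 2 3
    simp only [c_2_3, c_3_2, mul_one] at hw_2
    have ha_0 := a_eq T v 0 1
    simp only [c_0_1, mul_one] at ha_0
    have ha_1 := a_eq T v 1 2
    simp only [c_1_2, mul_one] at ha_1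
    have ha_2 := a_eq T v 2 3
    simp only [c_2_3, mul_one] at ha_2
    have m_0 := m_ineq T v hv 0
    simp only [Fin.sum_univ_four, c_0_1, c_1_0, c_1_2, c_2_1, c_2_3, c_3_2, z_0_2, z_0_3, z_1_3, z_2_0, z_3_0, z_3_1, Fin.reduceEq, if_false, if_true, zero_mul, one_mul, add_zero, zero_add, mul_one] at m_0
    have m_1 := m_ineq T v hv 1
    simp only [Fin.sum_univ_four, c_0_1, c_1_0, c_1_2, c_2_1, c_2_3, c_3_2, z_0_2, z_0_3, z_1_3, z_2_0, z_3_0, z_3_1, Fin.reduceEq, if_false, if_true, zero_mul, one_mul, add_zero, zero_add, mul_one] at m_1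
    have m_2 := m_ineq T v hv 2
    simp only [Fin.sum_univ_four, c_0_1, c_1_0, c_1_2, c_2_1, c_2_3, c_3_2, z_0_2, z_0_3, z_1_3, z_2_0, z_3_0, z_3_1, Fin.reduceEq, if_false, if_true, zero_mul, one_mul, add_zero, zero_add, mul_one] at m_2
    have m_3 := m_ineq T v hv 3
    simp only [Fin.sum_univ_four, c_0_1, c_1_0, c_1_2, c_2_1, c_2_3, c_3_2, z_0_2, z_0_3, z_1_3, z_2_0, z_3_0, z_3_1, Fin.reduceEq, if_false, if_true, zero_mul, one_mul, add_zero, zero_add, mul_one] at m_3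
    refine ⟨fun j => v j, T.w (v 0), Or.inl (fun _ => rfl), Or.inr (Or.inr (Or.inr ?_))⟩
    show T.w (v 0) = T.w (v 0) ∧ T.w (v 1) = T.w (v 0) ∧ T.w (v 2) = 2 * T.w (v 0) ∧ T.w (v 3) = 2 * T.w (v 0) ∧ T.a (v 0) (v 1) = T.w (v 0) ∧ T.a (v 1) (v 2) = 2 * T.w (v 0) ∧ T.a (v 2) (v 3) = 2 * T.w (v 0) ∧ T.m (v 1) ≤ 2 * T.m (v 0) ∧ T.m (v 0) + 2 * T.m (v 2) ≤ 2 * T.m (v 1) ∧ T.m (v 1) + T.m (v 3) ≤ 2 * T.m (v 2) ∧ T.m (v 2) ≤ 2 * T.m (v 3)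
    refine ⟨?_, ?_, ?_, ?_, ?_, ?_, ?_, ?_, ?_, ?_, ?_⟩ <;> omega
  · -- case (2, 1)
    have hw_0 := w_N T v 0 1
    simp only [c_0_1, c_1_0, mul_one] at hw_0
    have hw_1 := w_N T v 1 2
    simp only [c_1_2, c_2_1, mul_one] at hw_1
    have hw_2 := w_N T v 2 3
    simp only [c_2_3, c_3_2, mul_one] at hw_2
    have ha_0 := a_eq T v 3 2
    simp only [c_3_2, mul_one] at ha_0
    have ha_1 := a_eq T v 2 1
    simp only [c_2_1, mul_one] at ha_1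
    have ha_2 := a_eq T v 1 0
    simp only [c_1_0, mul_one] at ha_2
    have m_0 := m_ineq T v hv 0
    simp only [Fin.sum_univ_four, c_0_1, c_1_0, c_1_2, c_2_1, c_2_3, c_3_2, z_0_2, z_0_3, z_1_3, z_2_0, z_3_0, z_3_1, Fin.reduceEq, if_false, if_true, zero_mul, one_mul, add_zero, zero_add, mul_one] at m_0
    have m_1 := m_ineq T v hv 1
    simp only [Fin.sum_univ_four, c_0_1, c_1_0, c_1_2, c_2_1, c_2_3, c_3_2, z_0_2, z_0_3, z_1_3, z_2_0, z_3_0, z_3_1, Fin.reduceEq, if_false, if_true, zero_mul, one_mul, add_zero, zero_add, mul_one] at m_1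
    have m_2 := m_ineq T v hv 2
    simp only [Fin.sum_univ_four, c_0_1, c_1_0, c_1_2, c_2_1, c_2_3, c_3_2, z_0_2, z_0_3, z_1_3, z_2_0, z_3_0, z_3_1, Fin.reduceEq, if_false, if_true, zero_mul, one_mul, add_zero, zero_add, mul_one] at m_2
    have m_3 := m_ineq T v hv 3
    simp only [Fin.sum_univ_four, c_0_1, c_1_0, c_1_2, c_2_1, c_2_3, c_3_2, z_0_2, z_0_3, z_1_3, z_2_0, z_3_0, z_3_1, Fin.reduceEq, if_false, if_true, zero_mul, one_mul, add_zero, zero_add, mul_one] at m_3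
    refine ⟨fun j => v (Fin.rev j), T.w (v 3), Or.inr (fun _ => rfl), Or.inr (Or.inr (Or.inr ?_))⟩
    show T.w (v 3) = T.w (v 3) ∧ T.w (v 2) = T.w (v 3) ∧ T.w (v 1) = 2 * T.w (v 3) ∧ T.w (v 0) = 2 * T.w (v 3) ∧ T.a (v 3) (v 2) = T.w (v 3) ∧ T.a (v 2) (v 1) = 2 * T.w (v 3) ∧ T.a (v 1) (v 0) = 2 * T.w (v 3) ∧ T.m (v 2) ≤ 2 * T.m (v 3) ∧ T.m (v 3) + 2 * T.m (v 1) ≤ 2 * T.m (v 2) ∧ T.m (v 2) + T.m (v 0) ≤ 2 * T.m (v 1) ∧ T.m (v 1) ≤ 2 * T.m (v 0)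
    refine ⟨?_, ?_, ?_, ?_, ?_, ?_, ?_, ?_, ?_, ?_, ?_⟩ <;> omega
  · -- case (2, 3)
    have hw_0 := w_N T v 0 1
    simp only [c_0_1, c_1_0, mul_one] at hw_0
    have hw_1 := w_N T v 1 2
    simp only [c_1_2, c_2_1, mul_one] at hw_1
    have hw_2 := w_N T v 2 3
    simp only [c_2_3, c_3_2, mul_one] at hw_2
    have ha_0 := a_eq T v 0 1
    simp only [c_0_1, mul_one] at ha_0
    have ha_1 := a_eq T v 1 2
    simp only [c_1_2, mul_one] at ha_1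
    have ha_2 := a_eq T v 2 3
    simp only [c_2_3, mul_one] at ha_2
    have m_0 := m_ineq T v hv 0
    simp only [Fin.sum_univ_four, c_0_1, c_1_0, c_1_2, c_2_1, c_2_3, c_3_2, z_0_2, z_0_3, z_1_3, z_2_0, z_3_0, z_3_1, Fin.reduceEq, if_false, if_true, zero_mul, one_mul, add_zero, zero_add, mul_one] at m_0
    have m_1 := m_ineq T v hv 1
    simp only [Fin.sum_univ_four, c_0_1, c_1_0, c_1_2, c_2_1, c_2_3, c_3_2, z_0_2, z_0_3, z_1_3, z_2_0, z_3_0, z_3_1, Fin.reduceEq, if_false, if_true, zero_mul, one_mul, add_zero, zero_add, mul_one] at m_1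
    have m_2 := m_ineq T v hv 2
    simp only [Fin.sum_univ_four, c_0_1, c_1_0, c_1_2, c_2_1, c_2_3, c_3_2, z_0_2, z_0_3, z_1_3, z_2_0, z_3_0, z_3_1, Fin.reduceEq, if_false, if_true, zero_mul, one_mul, add_zero, zero_add, mul_one] at m_2
    have m_3 := m_ineq T v hv 3
    simp only [Fin.sum_univ_four, c_0_1, c_1_0, c_1_2, c_2_1, c_2_3, c_3_2, z_0_2, z_0_3, z_1_3, z_2_0, z_3_0, z_3_1, Fin.reduceEq, if_false, if_true, zero_mul, one_mul, add_zero, zero_add, mul_one] at m_3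
    refine ⟨fun j => v j, T.w (v 0), Or.inl (fun _ => rfl), Or.inr (Or.inl ?_)⟩
    show T.w (v 0) = T.w (v 0) ∧ T.w (v 1) = T.w (v 0) ∧ T.w (v 2) = T.w (v 0) ∧ T.w (v 3) = 2 * T.w (v 0) ∧ T.a (v 0) (v 1) = T.w (v 0) ∧ T.a (v 1) (v 2) = T.w (v 0) ∧ T.a (v 2) (v 3) = 2 * T.w (v 0) ∧ T.m (v 1) ≤ 2 * T.m (v 0) ∧ T.m (v 0) + T.m (v 2) ≤ 2 * T.m (v 1) ∧ T.m (v 1) + 2 * T.m (v 3) ≤ 2 * T.m (v 2) ∧ T.m (v 2) ≤ 2 * T.m (v 3)
    refine ⟨?_, ?_, ?_, ?_, ?_, ?_, ?_, ?_, ?_, ?_, ?_⟩ <;> omega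
  · -- case (3, 2)
    have hw_0 := w_N T v 0 1
    simp only [c_0_1, c_1_0, mul_one] at hw_0
    have hw_1 := w_N T v 1 2
    simp only [c_1_2, c_2_1, mul_one] at hw_1
    have hw_2 := w_N T v 2 3
    simp only [c_2_3, c_3_2, mul_one] at hw_2
    have ha_0 := a_eq T v 0 1
    simp only [c_0_1, mul_one] at ha_0
    have ha_1 := a_eq T v 1 2
    simp only [c_1_2, mul_one] at ha_1
    have ha_2 := a_eq T v 2 3
    simp only [c_2_3, mul_one] at ha_2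
    have m_0 := m_ineq T v hv 0
    simp only [Fin.sum_univ_four, c_0_1, c_1_0, c_1_2, c_2_1, c_2_3, c_3_2, z_0_2, z_0_3, z_1_3, z_2_0, z_3_0, z_3_1, Fin.reduceEq, if_false, if_true, zero_mul, one_mul, add_zero, zero_add, mul_one] at m_0
    have m_1 := m_ineq T v hv 1
    simp only [Fin.sum_univ_four, c_0_1, c_1_0, c_1_2, c_2_1, c_2_3, c_3_2, z_0_2, z_0_3, z_1_3, z_2_0, z_3_0, z_3_1, Fin.reduceEq, if_false, if_true, zero_mul, one_mul, add_zero, zero_add, mul_one] at m_1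
    have m_2 := m_ineq T v hv 2
    simp only [Fin.sum_univ_four, c_0_1, c_1_0, c_1_2, c_2_1, c_2_3, c_3_2, z_0_2, z_0_3, z_1_3, z_2_0, z_3_0, z_3_1, Fin.reduceEq, if_false, if_true, zero_mul, one_mul, add_zero, zero_add, mul_one] at m_2
    have m_3 := m_ineq T v hv 3
    simp only [Fin.sum_univ_four, c_0_1, c_1_0, c_1_2, c_2_1, c_2_3, c_3_2, z_0_2, z_0_3, z_1_3, z_2_0, z_3_0, z_3_1, Fin.reduceEq, if_false, if_true, zero_mul, one_mul, add_zero, zero_add, mul_one] at m_3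
    refine ⟨fun j => v j, T.w (v 3), Or.inl (fun _ => rfl), Or.inr (Or.inr (Or.inl ?_))⟩
    show T.w (v 0) = 2 * T.w (v 3) ∧ T.w (v 1) = 2 * T.w (v 3) ∧ T.w (v 2) = 2 * T.w (v 3) ∧ T.w (v 3) = T.w (v 3) ∧ T.a (v 0) (v 1) = 2 * T.w (v 3) ∧ T.a (v 1) (v 2) = 2 * T.w (v 3) ∧ T.a (v 2) (v 3) = 2 * T.w (v 3) ∧ T.m (v 1) ≤ 2 * T.m (v 0) ∧ T.m (v 0) + T.m (v 2) ≤ 2 * T.m (v 1) ∧ T.m (v 1) + T.m (v 3) ≤ 2 * T.m (v 2) ∧ T.m (v 2) ≤ T.m (v 3)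
    refine ⟨?_, ?_, ?_, ?_, ?_, ?_, ?_, ?_, ?_, ?_, ?_⟩ <;> omega

end Groth.Agent.S7352
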