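import Groth.Statements.S7354
import Groth.Agent.Lib.helper11.NumType5

set_option autoImplicit false
open Finset
open Models Models.NumericalType

namespace Groth.Agent.S7354

local macro "fo" : tactic =>
  `(tactic| first | omega | (simp only [Fin.val_mk] <;> omega) | (simp <;> omega))

open Groth.Agent.Lib.helper11.NumType in
/-- Let T be a numerical type on n indices, t > 5 with n > t, and i_1, …, i_t distinct (-2)-indices with
a_{i_j i_{j+1}} nonzero for j = 1, …, t - 1. Then, after possibly reversing the order of the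
indices, for some integer w either (A) w_{i_1} = … = w_{i_t} = w and a_{i_j i_{j+1}} = w for all j;
or (C) w_{i_1} = … = w_{i_{t-1}} = w, w_{i_t} = 2w, a_{i_j i_{j+1}} = w for j < t - 1 and a_{i_{t-1}
i_t} = 2w; or (B) w_{i_1} = … = w_{i_{t-1}} = 2w, w_{i_t} = w and a_{i_j i_{j+1}} = 2w for all j;
and in every case a_{i_j i_k} = 0 whenever k > j + 1. -/
theorem result {n : ℕ} (T : Models.NumericalType n) (t : ℕ) (ht : 5 < t) (hn : t < n)
    (v : Fin t ↪ Fin n) (hv : ∀ j, T.IsMinusTwo (v j))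
    (hchain : ∀ j j' : Fin t, j'.val = j.val + 1 → T.a (v j) (v j') ≠ 0) :
    ∃ (u : Fin t → Fin n) (w : ℤ), ((∀ j, u j = v j) ∨ (∀ j, u j = v (Fin.rev j))) ∧
      (∀ j k : Fin t, j.val + 1 < k.val → T.a (u j) (u k) = 0) ∧
      ((∀ j : Fin t, T.w (u j) = w) ∧ (∀ j j' : Fin t, j'.val = j.val + 1 → T.a (u j) (u j') = w) ∨
        ((∀ j : Fin t, j.val + 1 < t → T.w (u j) = w) ∧ (∀ j : Fin t, j.val + 1 = t → T.w (u j) = 2 * w) ∧
          (∀ j j' : Fin t, j'.val = j.val + 1 → j'.val + 1 < t → T.a (u j) (u j') = w) ∧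
          (∀ j j' : Fin t, j'.val = j.val + 1 → j'.val + 1 = t → T.a (u j) (u j') = 2 * w)) ∨
        ((∀ j : Fin t, j.val + 1 < t → T.w (u j) = 2 * w) ∧ (∀ j : Fin t, j.val + 1 = t → T.w (u j) = w) ∧
          (∀ j j' : Fin t, j'.val = j.val + 1 → T.a (u j) (u j') = 2 * w))) := by
  have lt0 : 0 < t := by omega
  have lt1 : 1 < t := by omega
  have ltm1 : t - 1 < t := by omega
  have ltm2 : t - 2 < t := by omega
  have E : IsChain T v := isChain_of_ne T v hchain
  by_cases h : N T v ⟨0, lt0⟩ ⟨1, lt1⟩ = 1 ∧ N T v ⟨1, lt1⟩ ⟨0, lt0⟩ = 1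
  · obtain ⟨w, hw⟩ := chain_oriented ht hn hv E h.1 h.2
    refine ⟨fun j => v j, w, Or.inl (fun _ => rfl), ?_, hw⟩
    intro j k hjk
    exact a_eq_zero_of_N T v j k (chain_nonadj hn hv E j k hjk)
  · -- reverse the chain
    let vr : Fin t ↪ Fin n := ⟨fun j => v (Fin.rev j), fun a b hab => Fin.rev_injective (v.injective hab)⟩
    have hvr : ∀ p, T.IsMinusTwo (vr p) := fun p => hv _
    have Er : IsChain T vr := by
      intro p q hpq
      have hq := q.isLt
      have := E (Fin.rev q) (Fin.rev p) (by simp only [Fin.val_rev]; omega)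
      exact ⟨this.2, this.1⟩
    obtain ⟨x0, y0⟩ := E ⟨0, lt0⟩ ⟨1, lt1⟩ rfl
    obtain ⟨x1, y1⟩ := E ⟨t - 2, ltm2⟩ ⟨t - 1, ltm1⟩ (by fo)
    have h' : 2 ≤ N T v ⟨0, lt0⟩ ⟨1, lt1⟩ ∨ 2 ≤ N T v ⟨1, lt1⟩ ⟨0, lt0⟩ := by omega
    have hx : N T v ⟨t - 2, ltm2⟩ ⟨t - 1, ltm1⟩ = 1 := by
      by_contra hcon
      have hx2 : 2 ≤ N T v ⟨t - 2, ltm2⟩ ⟨t - 1, ltm1⟩ := by omega
      rcases h' with h2 | h2
      · exact chain_ends (by omega) hn hv E 2 1 2 (by norm_num) (by norm_num) (by norm_num)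
          (by linarith) (by linarith) (by linarith) (by linarith)
      · exact chain_ends (by omega) hn hv E 1 1 2 (by norm_num) (by norm_num) (by norm_num)
          (by linarith) (by linarith) (by linarith) (by linarith)
    have hy : N T v ⟨t - 1, ltm1⟩ ⟨t - 2, ltm2⟩ = 1 := by
      by_contra hcon
      have hy2 : 2 ≤ N T v ⟨t - 1, ltm1⟩ ⟨t - 2, ltm2⟩ := by omega
      rcases h' with h2 | h2
      · exact chain_ends (by omega) hn hv E 1 1 1 (by norm_num) (by norm_num) (by norm_num)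
          (by linarith) (by linarith) (by linarith) (by linarith)
      · exact chain_ends (by omega) hn hv E 1 2 2 (by norm_num) (by norm_num) (by norm_num)
          (by linarith) (by linarith) (by linarith) (by linarith)
    have e0 : Fin.rev (⟨0, lt0⟩ : Fin t) = ⟨t - 1, ltm1⟩ := Fin.ext (by simp only [Fin.val_rev] <;> omega)
    have e1 : Fin.rev (⟨1, lt1⟩ : Fin t) = ⟨t - 2, ltm2⟩ := Fin.ext (by simp only [Fin.val_rev] <;> omega)
    have hr01 : N T vr ⟨0, lt0⟩ ⟨1, lt1⟩ = 1 := by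
      show N T v (Fin.rev ⟨0, lt0⟩) (Fin.rev ⟨1, lt1⟩) = 1
      rw [e0, e1]; exact hy
    have hr10 : N T vr ⟨1, lt1⟩ ⟨0, lt0⟩ = 1 := by
      show N T v (Fin.rev ⟨1, lt1⟩) (Fin.rev ⟨0, lt0⟩) = 1
      rw [e0, e1]; exact hx
    obtain ⟨w, hw⟩ := chain_oriented ht hn hvr Er hr01 hr10
    refine ⟨fun j => v (Fin.rev j), w, Or.inr (fun _ => rfl), ?_, hw⟩
    intro j k hjk
    exact a_eq_zero_of_N T vr j k (chain_nonadj hn hvr Er j k hjk)

end Groth.Agent.S7354
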