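import Groth.Statements.S7355
import Groth.Agent.Lib.helper11.NumType4

set_option autoImplicit false
open Finset
open Models Models.NumericalType

namespace Groth.Agent.S7355

local macro "fo" : tactic =>
  `(tactic| first | omega | (simp only [Fin.val_mk] <;> omega) | (simp <;> omega))

open Groth.Agent.Lib.helper11.NumType in
/-- Classification of proper subgraphs of type D: let T be a numerical type on n indices, t > 4 with n >
t + 1, and i_1, …, i_{t+1} distinct (-2)-indices such that a_{i_j i_{j+1}} is nonzero for j = 1, …,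
t - 1 and a_{i_{t-1} i_{t+1}} is nonzero. Then for some integer w one has w_{i_1} = … = w_{i_{t+1}}
= w, a_{i_j i_{j+1}} = w for j < t, a_{i_{t-1} i_{t+1}} = w, and a_{i_j i_k} = 0 for all other pairs
j ≠ k. -/
theorem result {n : ℕ} (T : Models.NumericalType n) (t : ℕ) (ht : 4 < t) (hn : t + 1 < n)
    (v : Fin (t + 1) ↪ Fin n) (hv : ∀ j, T.IsMinusTwo (v j))
    (hchain : ∀ j j' : Fin (t + 1), j'.val = j.val + 1 → j'.val < t → T.a (v j) (v j') ≠ 0)
    (hbranch : ∀ j j' : Fin (t + 1), j.val + 2 = t → j'.val = t → T.a (v j) (v j') ≠ 0) :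
    ∃ w : ℤ, (∀ j : Fin (t + 1), T.w (v j) = w) ∧
      (∀ j j' : Fin (t + 1), j'.val = j.val + 1 → j'.val < t → T.a (v j) (v j') = w) ∧
      (∀ j j' : Fin (t + 1), j.val + 2 = t → j'.val = t → T.a (v j) (v j') = w) ∧
      (∀ j k : Fin (t + 1), j.val < k.val → ¬ (k.val = j.val + 1 ∧ k.val < t) → ¬ (j.val + 2 = t ∧ k.val = t) →
        T.a (v j) (v k) = 0) := by
  have E1 : ∀ p q : Fin (t + 1), q.val = p.val + 1 → q.val < t →
      1 ≤ N T v p q ∧ 1 ≤ N T v q p := by
    intro p q h1 h2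
    have hne : p ≠ q := Fin.ne_of_val_ne (by omega)
    have := N_pos T v p q hne (hchain p q h1 h2)
    exact ⟨this, N_pos_symm T v p q this⟩
  have E2 : ∀ p q : Fin (t + 1), p.val + 2 = t → q.val = t →
      1 ≤ N T v p q ∧ 1 ≤ N T v q p := by
    intro p q h1 h2
    have hne : p ≠ q := Fin.ne_of_val_ne (by omega)
    have := N_pos T v p q hne (hbranch p q h1 h2)
    exact ⟨this, N_pos_symm T v p q this⟩
  -- non-edges
  have Z : ∀ j k : Fin (t + 1), j.val < k.val → ¬ (k.val = j.val + 1 ∧ k.val < t) →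
      ¬ (j.val + 2 = t ∧ k.val = t) → N T v j k = 0 := by
    intro j k hjk h1 h2
    by_contra hcon
    have hne : j ≠ k := Fin.ne_of_val_ne (by omega)
    have l1 : 1 ≤ N T v j k := by have := N_nonneg T v j k hne; omega
    have l2 := N_pos_symm T v j k l1
    have hk := k.isLt
    by_cases hkt : k.val < t
    · -- cycle on [j,k]
      have hjk2 : j.val + 1 < k.val := by omega
      refine no_cycle T v hn hv (fun p => j.val ≤ p.val ∧ p.val ≤ k.val) ?_ j ⟨le_rfl, by omega⟩
      rintro p ⟨hp1, hp2⟩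
      by_cases hpj : p.val = j.val
      · have hpj' : p = j := Fin.ext hpj
        subst hpj'
        exact ⟨⟨p.val + 1, by omega⟩, k, ⟨by fo, by fo⟩, ⟨by fo, le_rfl⟩,
          Fin.ne_of_val_ne (by fo), Fin.ne_of_val_ne (by fo), Fin.ne_of_val_ne (by fo),
          (E1 p ⟨p.val + 1, by omega⟩ rfl (by fo)).1, l1⟩
      · by_cases hpk : p.val = k.val
        · have hpk' : p = k := Fin.ext hpk
          subst hpk'
          exact ⟨⟨p.val - 1, by omega⟩, j, ⟨by fo, by fo⟩, ⟨le_rfl, by fo⟩,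
            Fin.ne_of_val_ne (by fo), Fin.ne_of_val_ne (by fo), Fin.ne_of_val_ne (by fo),
            (E1 ⟨p.val - 1, by omega⟩ p (by fo) (by fo)).2, l2⟩
        · exact ⟨⟨p.val - 1, by omega⟩, ⟨p.val + 1, by omega⟩, ⟨by fo, by fo⟩, ⟨by fo, by fo⟩,
            Fin.ne_of_val_ne (by fo), Fin.ne_of_val_ne (by fo), Fin.ne_of_val_ne (by fo),
            (E1 ⟨p.val - 1, by omega⟩ p (by fo) (by fo)).2,
            (E1 p ⟨p.val + 1, by omega⟩ rfl (by fo)).1⟩
    · have hkt' : k.val = t := by omega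
      by_cases hj : j.val = t - 1
      · -- triangle t-2, t-1, t
        refine no_cycle T v hn hv (fun p => t - 2 ≤ p.val) ?_ j (by fo)
        intro p hp
        have hpl := p.isLt
        obtain h | h | h : p.val = t - 2 ∨ p.val = t - 1 ∨ p.val = t := by omega
        · exact ⟨⟨t - 1, by omega⟩, ⟨t, by omega⟩, by fo, by fo,
            Fin.ne_of_val_ne (by fo), Fin.ne_of_val_ne (by fo), Fin.ne_of_val_ne (by fo),
            (E1 p ⟨t - 1, by omega⟩ (by fo) (by fo)).1, (E2 p ⟨t, by omega⟩ (by fo) rfl).1⟩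
        · have hpj' : p = j := Fin.ext (by omega)
          subst hpj'
          exact ⟨⟨t - 2, by omega⟩, k, by fo, by fo,
            Fin.ne_of_val_ne (by fo), Fin.ne_of_val_ne (by fo), Fin.ne_of_val_ne (by fo),
            (E1 ⟨t - 2, by omega⟩ p (by fo) (by fo)).2, l1⟩
        · have hpk' : p = k := Fin.ext (by omega)
          subst hpk'
          exact ⟨⟨t - 2, by omega⟩, j, by fo, by fo,
            Fin.ne_of_val_ne (by fo), Fin.ne_of_val_ne (by fo), Fin.ne_of_val_ne (by fo),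
            (E2 ⟨t - 2, by omega⟩ p (by fo) (by fo)).2, l2⟩
      · -- cycle j, ..., t-2, t
        have hj2 : j.val + 2 < t := by omega
        refine no_cycle T v hn hv (fun p => (j.val ≤ p.val ∧ p.val + 2 ≤ t) ∨ p.val = t) ?_ j
          (Or.inl ⟨le_rfl, by omega⟩)
        intro p hp
        have hpl := p.isLt
        by_cases hpj : p.val = j.val
        · have hpj' : p = j := Fin.ext hpj
          subst hpj'
          exact ⟨⟨p.val + 1, by omega⟩, k, Or.inl ⟨by fo, by fo⟩, Or.inr hkt',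
            Fin.ne_of_val_ne (by fo), Fin.ne_of_val_ne (by fo), Fin.ne_of_val_ne (by fo),
            (E1 p ⟨p.val + 1, by omega⟩ rfl (by fo)).1, l1⟩
        · by_cases hpk : p.val = t
          · have hpk' : p = k := Fin.ext (by omega)
            subst hpk'
            exact ⟨⟨t - 2, by omega⟩, j, Or.inl ⟨by fo, by fo⟩, Or.inl ⟨le_rfl, by omega⟩,
              Fin.ne_of_val_ne (by fo), Fin.ne_of_val_ne (by fo), Fin.ne_of_val_ne (by fo),
              (E2 ⟨t - 2, by omega⟩ p (by fo) (by fo)).2, l2⟩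
          · by_cases hpt : p.val + 2 = t
            · exact ⟨⟨p.val - 1, by omega⟩, k, Or.inl ⟨by fo, by fo⟩, Or.inr hkt',
                Fin.ne_of_val_ne (by fo), Fin.ne_of_val_ne (by fo), Fin.ne_of_val_ne (by fo),
                (E1 ⟨p.val - 1, by omega⟩ p (by fo) (by fo)).2, (E2 p k hpt hkt').1⟩
            · have hp' : j.val < p.val ∧ p.val + 2 < t := by omega
              exact ⟨⟨p.val - 1, by omega⟩, ⟨p.val + 1, by omega⟩, Or.inl ⟨by fo, by fo⟩,
                Or.inl ⟨by fo, by fo⟩,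
                Fin.ne_of_val_ne (by fo), Fin.ne_of_val_ne (by fo), Fin.ne_of_val_ne (by fo),
                (E1 ⟨p.val - 1, by omega⟩ p (by fo) (by fo)).2,
                (E1 p ⟨p.val + 1, by omega⟩ rfl (by fo)).1⟩
  -- the D4 window around the trivalent vertex
  have lt1 : t - 1 < t + 1 := by omega
  have lt2 : t - 2 < t + 1 := by omega
  have lt3 : t - 3 < t + 1 := by omega
  have ltt : t < t + 1 := by omega
  let ι : Fin 4 ↪ Fin (t + 1) :=
    ⟨![⟨t - 2, by omega⟩, ⟨t - 3, by omega⟩, ⟨t - 1, by omega⟩, ⟨t, by omega⟩], by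
      intro a b hab
      fin_cases a <;> fin_cases b <;> simp [Fin.ext_iff] at hab ⊢ <;> omega⟩
  have d4 := d4_simple T (by omega) (ι.trans v) (fun p => hv _)
    (E1 ⟨t - 3, by omega⟩ ⟨t - 2, by omega⟩ (by fo) (by fo)).2
    (E1 ⟨t - 2, by omega⟩ ⟨t - 1, by omega⟩ (by fo) (by fo)).1
    (E2 ⟨t - 2, by omega⟩ ⟨t, by omega⟩ (by fo) (by fo)).1
  obtain ⟨d01, d10, d02, d20, d03, d30⟩ := d4
  change N T v ⟨t - 2, _⟩ ⟨t - 3, _⟩ = 1 at d01
  change N T v ⟨t - 3, _⟩ ⟨t - 2, _⟩ = 1 at d10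
  change N T v ⟨t - 2, _⟩ ⟨t - 1, _⟩ = 1 at d02
  change N T v ⟨t - 1, _⟩ ⟨t - 2, _⟩ = 1 at d20
  change N T v ⟨t - 2, _⟩ ⟨t, _⟩ = 1 at d03
  change N T v ⟨t, _⟩ ⟨t - 2, _⟩ = 1 at d30
  -- tail edges are simple
  have TAIL : ∀ p q : Fin (t + 1), q.val = p.val + 1 → q.val + 3 ≤ t → ∀ α : ℤ, (α = 1 ∨ α = 2) →
      2 * α ≤ N T v p q * 2 → 4 ≤ N T v q p * α + 2 → False := by
    intro p q hpq hq α hα hrow1 hrow2
    have hα0 : 0 ≤ α := by omega
    let c : Fin (t + 1) → ℤ := fun i =>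
      if i.val < p.val then 0 else if i.val = p.val then α else if i.val + 2 ≤ t then 2 else 1
    have hc0 : ∀ i : Fin (t + 1), i.val < p.val → c i = 0 := fun i h => if_pos h
    have hcα : ∀ i : Fin (t + 1), i.val = p.val → c i = α := fun i h => by
      simp only [c]; rw [if_neg (by omega), if_pos h]
    have hc2 : ∀ i : Fin (t + 1), p.val < i.val → i.val + 2 ≤ t → c i = 2 := fun i h1 h2 => by
      simp only [c]; rw [if_neg (by omega), if_neg (by omega), if_pos h2]
    have hc1 : ∀ i : Fin (t + 1), t ≤ i.val + 1 → c i = 1 := fun i h1 => by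
      simp only [c]; rw [if_neg (by omega), if_neg (by omega), if_neg (by omega)]
    have hc : ∀ i, 0 ≤ c i := by
      intro i
      simp only [c]
      split_ifs <;> omega
    refine cert3_false T v hn hv c hc ?_ p (by rw [hcα p rfl]; omega)
    intro i
    have hil := i.isLt
    by_cases h1 : i.val < p.val
    · exact Or.inl (hc0 i h1)
    by_cases h2 : i.val = p.val
    · have : i = p := Fin.ext h2
      subst this
      refine Or.inr (Or.inl ⟨q, Fin.ne_of_val_ne (by fo), ?_⟩)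
      rw [hcα i rfl, hc2 q (by omega) (by omega)]
      exact hrow1
    by_cases h3 : i.val = q.val
    · have : i = q := Fin.ext h3
      subst this
      refine Or.inr (Or.inr (Or.inl ⟨p, ⟨i.val + 1, by omega⟩, Fin.ne_of_val_ne (by fo),
        Fin.ne_of_val_ne (by fo), Fin.ne_of_val_ne (by fo), ?_⟩))
      rw [hc2 i (by omega) (by omega), hcα p rfl, hc2 ⟨i.val + 1, by omega⟩ (by fo) (by fo)]
      have := (E1 i ⟨i.val + 1, by omega⟩ rfl (by fo)).1
      linarith
    by_cases h4 : i.val + 2 < t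
    · refine Or.inr (Or.inr (Or.inl ⟨⟨i.val - 1, by omega⟩, ⟨i.val + 1, by omega⟩,
        Fin.ne_of_val_ne (by fo), Fin.ne_of_val_ne (by fo), Fin.ne_of_val_ne (by fo), ?_⟩))
      rw [hc2 i (by omega) (by omega), hc2 ⟨i.val - 1, by omega⟩ (by fo) (by fo),
        hc2 ⟨i.val + 1, by omega⟩ (by fo) (by fo)]
      have h5 := (E1 ⟨i.val - 1, by omega⟩ i (by fo) (by fo)).2
      have h6 := (E1 i ⟨i.val + 1, by omega⟩ rfl (by fo)).1
      linarith
    by_cases h5 : i.val + 2 = t
    · refine Or.inr (Or.inr (Or.inr ⟨⟨i.val - 1, by omega⟩, ⟨t - 1, by omega⟩, ⟨t, by omega⟩,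
        Fin.ne_of_val_ne (by fo), Fin.ne_of_val_ne (by fo), Fin.ne_of_val_ne (by fo),
        Fin.ne_of_val_ne (by fo), Fin.ne_of_val_ne (by fo), Fin.ne_of_val_ne (by fo), ?_⟩))
      rw [hc2 i (by omega) (by omega), hc2 ⟨i.val - 1, by omega⟩ (by fo) (by fo),
        hc1 ⟨t - 1, by omega⟩ (by fo), hc1 ⟨t, by omega⟩ (by fo)]
      have h6 := (E1 ⟨i.val - 1, by omega⟩ i (by fo) (by fo)).2
      have h7 := (E1 i ⟨t - 1, by omega⟩ (by fo) (by fo)).1
      have h8 := (E2 i ⟨t, by omega⟩ h5 rfl).1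
      linarith
    by_cases h6 : i.val + 1 = t
    · refine Or.inr (Or.inl ⟨⟨t - 2, by omega⟩, Fin.ne_of_val_ne (by fo), ?_⟩)
      rw [hc1 i (by omega), hc2 ⟨t - 2, by omega⟩ (by fo) (by fo)]
      have := (E1 ⟨t - 2, by omega⟩ i (by fo) (by fo)).2
      linarith
    · have h7 : i.val = t := by omega
      refine Or.inr (Or.inl ⟨⟨t - 2, by omega⟩, Fin.ne_of_val_ne (by fo), ?_⟩)
      rw [hc1 i (by omega), hc2 ⟨t - 2, by omega⟩ (by fo) (by fo)]
      have := (E2 ⟨t - 2, by omega⟩ i (by fo) h7).2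
      linarith
  have S1 : ∀ p q : Fin (t + 1), q.val = p.val + 1 → q.val < t →
      N T v p q = 1 ∧ N T v q p = 1 := by
    intro p q hpq hq
    obtain ⟨l1, l2⟩ := E1 p q hpq hq
    by_cases h1 : q.val + 1 = t
    · have hp : p = ⟨t - 2, lt2⟩ := Fin.ext (by fo)
      have hq' : q = ⟨t - 1, lt1⟩ := Fin.ext (by fo)
      subst hp
      subst hq'
      exact ⟨d02, d20⟩
    by_cases h2 : q.val + 2 = t
    · have hp : p = ⟨t - 3, lt3⟩ := Fin.ext (by fo)
      have hq' : q = ⟨t - 2, lt2⟩ := Fin.ext (by fo)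
      subst hp
      subst hq'
      exact ⟨d10, d01⟩
    have h3 : q.val + 3 ≤ t := by omega
    constructor
    · by_contra hcon
      have h2' : 2 ≤ N T v p q := by omega
      exact TAIL p q hpq h3 2 (Or.inr rfl) (by linarith) (by linarith)
    · by_contra hcon
      have h2' : 2 ≤ N T v q p := by omega
      exact TAIL p q hpq h3 1 (Or.inl rfl) (by linarith) (by linarith)
  have S2 : ∀ p q : Fin (t + 1), p.val + 2 = t → q.val = t →
      N T v p q = 1 ∧ N T v q p = 1 := by
    intro p q hp hq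
    have hp' : p = ⟨t - 2, lt2⟩ := Fin.ext (by fo)
    have hq' : q = ⟨t, ltt⟩ := Fin.ext (by fo)
    subst hp'
    subst hq'
    exact ⟨d03, d30⟩
  -- weights
  have W1 : ∀ p q : Fin (t + 1), q.val = p.val + 1 → q.val < t → T.w (v q) = T.w (v p) := by
    intro p q hpq hq
    have := w_N T v p q
    rw [(S1 p q hpq hq).1, (S1 p q hpq hq).2, mul_one, mul_one] at this
    exact this.symm
  have W2 : ∀ p q : Fin (t + 1), p.val + 2 = t → q.val = t → T.w (v q) = T.w (v p) := by
    intro p q hp hq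
    have := w_N T v p q
    rw [(S2 p q hp hq).1, (S2 p q hp hq).2, mul_one, mul_one] at this
    exact this.symm
  have W : ∀ (m : ℕ) (hm : m < t), T.w (v ⟨m, by omega⟩) = T.w (v ⟨0, by omega⟩) := by
    intro m
    induction m with
    | zero => intro _; rfl
    | succ m ih =>
      intro hm
      rw [W1 ⟨m, by omega⟩ ⟨m + 1, by omega⟩ rfl (by fo)]
      exact ih (by omega)
  have Wall : ∀ j : Fin (t + 1), T.w (v j) = T.w (v ⟨0, by omega⟩) := by
    intro j
    have hj := j.isLt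
    by_cases h : j.val < t
    · exact W j.val h
    · rw [W2 ⟨t - 2, by omega⟩ j (by fo) (by omega)]
      exact W (t - 2) (by omega)
  refine ⟨T.w (v ⟨0, by omega⟩), Wall, ?_, ?_, ?_⟩
  · intro j j' h1 h2
    rw [a_eq T v j j', (S1 j j' h1 h2).1, mul_one]
    exact Wall j
  · intro j j' h1 h2
    rw [a_eq T v j j', (S2 j j' h1 h2).1, mul_one]
    exact Wall j
  · intro j k h1 h2 h3
    exact a_eq_zero_of_N T v j k (Z j k h1 h2 h3)

end Groth.Agent.S7355
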