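import Groth.Statements.S7362
import Groth.Agent.Lib.helper11.NumGenus

set_option autoImplicit false
open Finset
open Models Models.NumericalType

namespace Groth.Agent.S7362

open Groth.Agent.Lib.helper11.NumType in
/-- Genus one classification: case n = 2: let T be a minimal numerical type of genus 1 on two indices.
Then for some ordering i, j of the indices and some integers m, w, either m_i = m_j = m, a_ii = a_jj
= -2w, a_ij = 2w, w_i = w_j = w, g_i = g_j = 0; or m_i = 2m, m_j = m, a_ii = -2w, a_ij = 4w, a_jj =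
-8w, w_i = w, w_j = 4w, g_i = g_j = 0. Only the classification direction is stated. -/
theorem result (T : Models.NumericalType 2) (hmin : T.IsMinimal) (hg : T.genus = 1) :
    ∃ (i j : Fin 2) (m w : ℤ), i ≠ j ∧ T.g i = 0 ∧ T.g j = 0 ∧
      ((T.m i = m ∧ T.m j = m ∧ T.a i i = -2 * w ∧ T.a i j = 2 * w ∧ T.a j j = -2 * w ∧ T.w i = w ∧ T.w j = w) ∨
        (T.m i = 2 * m ∧ T.m j = m ∧ T.a i i = -2 * w ∧ T.a i j = 4 * w ∧ T.a j j = -8 * w ∧ T.w i = w ∧ T.w j = 4 * w)) := by
  have hall := all_minusTwo T (by norm_num) hmin hg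
  let v : Fin 2 ↪ Fin 2 := Function.Embedding.refl _
  have hv : ∀ p, T.IsMinusTwo (v p) := fun p => hall p
  have r0 := row_sum T 0
  have r1 := row_sum T 1
  simp only [Fin.sum_univ_two] at r0 r1
  have hw0 := T.w_pos 0
  have hw1 := T.w_pos 1
  have hm0 := T.m_pos 0
  have hm1 := T.m_pos 1
  obtain ⟨x, hx⟩ : ∃ x, x = N T v 0 1 := ⟨_, rfl⟩
  obtain ⟨y, hy⟩ : ∃ y, y = N T v 1 0 := ⟨_, rfl⟩
  have a00 : T.a 0 0 = T.w 0 * -2 := by
    have := a_eq T v 0 0; rw [N_diag T v hv] at this; exact this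
  have a11 : T.a 1 1 = T.w 1 * -2 := by
    have := a_eq T v 1 1; rw [N_diag T v hv] at this; exact this
  have a01 : T.a 0 1 = T.w 0 * x := by
    have := a_eq T v 0 1; rw [← hx] at this; exact this
  have a10 : T.a 1 0 = T.w 1 * y := by
    have := a_eq T v 1 0; rw [← hy] at this; exact this
  have hN01 : 0 ≤ x := by rw [hx]; exact N_nonneg T v 0 1 (by decide)
  have hN10 : 0 ≤ y := by rw [hy]; exact N_nonneg T v 1 0 (by decide)
  have hwN : T.w 0 * x = T.w 1 * y := by
    have := w_N T v 0 1; rw [← hx, ← hy] at this; exact this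
  -- x m1 = 2 m0, y m0 = 2 m1
  have e0 : x * T.m 1 = 2 * T.m 0 := by
    rw [a00, a01] at r0
    have : T.w 0 * (x * T.m 1 - 2 * T.m 0) = 0 := by linear_combination r0
    rcases mul_eq_zero.mp this with h | h
    · omega
    · linarith
  have e1 : y * T.m 0 = 2 * T.m 1 := by
    rw [a10, a11] at r1
    have : T.w 1 * (y * T.m 0 - 2 * T.m 1) = 0 := by linear_combination r1
    rcases mul_eq_zero.mp this with h | h
    · omega
    · linarith
  have hxy : x * y = 4 := by
    have h1 : (x * y) * (T.m 0 * T.m 1) = 4 * (T.m 0 * T.m 1) := by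
      calc (x * y) * (T.m 0 * T.m 1) = (x * T.m 1) * (y * T.m 0) := by ring
        _ = 4 * (T.m 0 * T.m 1) := by rw [e0, e1]; ring
    have hpos : 0 < T.m 0 * T.m 1 := mul_pos hm0 hm1
    exact mul_right_cancel₀ hpos.ne' h1
  have hx4 : x ≤ 4 := by
    by_contra hcon
    push Not at hcon
    have : 1 ≤ y := by
      by_contra h'
      have : y = 0 := by omega
      rw [this] at hxy; omega
    nlinarith
  have hcases : (x = 2 ∧ y = 2) ∨ (x = 4 ∧ y = 1) ∨ (x = 1 ∧ y = 4) := by
    have hx0 : 1 ≤ x := by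
      by_contra h'
      have : x = 0 := by omega
      rw [this] at hxy; omega
    interval_cases x <;> omega
  have hg0 := (hall 0).1
  have hg1 := (hall 1).1
  rcases hcases with ⟨hx2, hy2⟩ | ⟨hx2, hy2⟩ | ⟨hx2, hy2⟩
  · rw [hx2] at e0 a01 hwN
    rw [hy2] at e1 hwN
    refine ⟨0, 1, T.m 0, T.w 0, by decide, hg0, hg1, Or.inl ⟨rfl, by omega, by omega, by omega, by omega, rfl, by omega⟩⟩
  · rw [hx2] at e0 a01 hwN
    rw [hy2] at e1 hwN
    refine ⟨0, 1, T.m 1, T.w 0, by decide, hg0, hg1, Or.inr ⟨by omega, rfl, by omega, by omega, by omega, rfl, by omega⟩⟩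
  · rw [hx2] at e0 a01 hwN
    rw [hy2] at e1 a10 hwN
    refine ⟨1, 0, T.m 0, T.w 1, by decide, hg1, hg0, Or.inr ⟨by omega, rfl, by omega, by omega, by omega, rfl, by omega⟩⟩

end Groth.Agent.S7362
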