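import Groth.Statements.S7363
import Groth.Agent.Lib.helper11.NumGenus
import Groth.Agent.Lib.helper11.NumPair

set_option autoImplicit false
open Finset
open Models Models.NumericalType

namespace Groth.Agent.S7363

open Groth.Agent.Lib.helper11.NumType in
/-- Genus one classification: case n = 3: let T be a minimal numerical type of genus 1 on three indices.
Then all g = 0 and, for some ordering i, j, k of the indices and some integers m, w, the data (m; a;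
w) is one of: (m,m,m; a_ii = a_jj = a_kk = -2w, a_ij = a_ik = a_jk = w; w,w,w); (m,2m,m; a_ii = -2w,
a_ij = w, a_ik = 0, a_jj = -2w, a_jk = 3w, a_kk = -6w; w,w,3w); (m,2m,3m; a_ii = -6w, a_ij = 3w,
a_ik = 0, a_jj = -6w, a_jk = 3w, a_kk = -2w; 3w,3w,w); (2m,2m,m; a_ii = -2w, a_ij = 2w, a_ik = 0,
a_jj = -4w, a_jk = 4w, a_kk = -8w; w,2w,4w); (m,m,m; a_ii = -2w, a_ij = 2w, a_ik = 0, a_jj = -4w,
a_jk = 2w, a_kk = -2w; w,2w,w); (m,2m,m; a_ii = -4w, a_ij = 2w, a_ik = 0, a_jj = -2w, a_jk = 2w,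
a_kk = -4w; 2w,w,2w). Only the classification direction is stated. -/
theorem result (T : Models.NumericalType 3) (hmin : T.IsMinimal) (hg : T.genus = 1) :
    ∃ (i j k : Fin 3) (m w : ℤ), i ≠ j ∧ j ≠ k ∧ i ≠ k ∧ T.g i = 0 ∧ T.g j = 0 ∧ T.g k = 0 ∧
      ((T.m i = m ∧ T.m j = m ∧ T.m k = m ∧ T.a i i = -2 * w ∧ T.a j j = -2 * w ∧ T.a k k = -2 * w ∧
          T.a i j = w ∧ T.a i k = w ∧ T.a j k = w ∧ T.w i = w ∧ T.w j = w ∧ T.w k = w) ∨
        (T.m i = m ∧ T.m j = 2 * m ∧ T.m k = m ∧ T.a i i = -2 * w ∧ T.a i j = w ∧ T.a i k = 0 ∧ T.a j j = -2 * w ∧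
          T.a j k = 3 * w ∧ T.a k k = -6 * w ∧ T.w i = w ∧ T.w j = w ∧ T.w k = 3 * w) ∨
        (T.m i = m ∧ T.m j = 2 * m ∧ T.m k = 3 * m ∧ T.a i i = -6 * w ∧ T.a i j = 3 * w ∧ T.a i k = 0 ∧ T.a j j = -6 * w ∧
          T.a j k = 3 * w ∧ T.a k k = -2 * w ∧ T.w i = 3 * w ∧ T.w j = 3 * w ∧ T.w k = w) ∨
        (T.m i = 2 * m ∧ T.m j = 2 * m ∧ T.m k = m ∧ T.a i i = -2 * w ∧ T.a i j = 2 * w ∧ T.a i k = 0 ∧ T.a j j = -4 * w ∧
          T.a j k = 4 * w ∧ T.a k k = -8 * w ∧ T.w i = w ∧ T.w j = 2 * w ∧ T.w k = 4 * w) ∨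
        (T.m i = m ∧ T.m j = m ∧ T.m k = m ∧ T.a i i = -2 * w ∧ T.a i j = 2 * w ∧ T.a i k = 0 ∧ T.a j j = -4 * w ∧
          T.a j k = 2 * w ∧ T.a k k = -2 * w ∧ T.w i = w ∧ T.w j = 2 * w ∧ T.w k = w) ∨
        (T.m i = m ∧ T.m j = 2 * m ∧ T.m k = m ∧ T.a i i = -4 * w ∧ T.a i j = 2 * w ∧ T.a i k = 0 ∧ T.a j j = -2 * w ∧
          T.a j k = 2 * w ∧ T.a k k = -4 * w ∧ T.w i = 2 * w ∧ T.w j = w ∧ T.w k = 2 * w)) := by
  have hall := all_minusTwo T (by norm_num) hmin hg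
  let v : Fin 3 ↪ Fin 3 := Function.Embedding.refl _
  have hv : ∀ p, T.IsMinusTwo (v p) := fun p => hall p
  have hw0 := T.w_pos 0
  have hm0 := T.m_pos 0
  have hg0 := (hall 0).1
  have hw1 := T.w_pos 1
  have hm1 := T.m_pos 1
  have hg1 := (hall 1).1
  have hw2 := T.w_pos 2
  have hm2 := T.m_pos 2
  have hg2 := (hall 2).1
  obtain ⟨x01, hx01⟩ : ∃ x, x = N T v 0 1 := ⟨_, rfl⟩
  obtain ⟨x02, hx02⟩ : ∃ x, x = N T v 0 2 := ⟨_, rfl⟩
  obtain ⟨x10, hx10⟩ : ∃ x, x = N T v 1 0 := ⟨_, rfl⟩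
  obtain ⟨x12, hx12⟩ : ∃ x, x = N T v 1 2 := ⟨_, rfl⟩
  obtain ⟨x20, hx20⟩ : ∃ x, x = N T v 2 0 := ⟨_, rfl⟩
  obtain ⟨x21, hx21⟩ : ∃ x, x = N T v 2 1 := ⟨_, rfl⟩
  have a00 : T.a 0 0 = T.w 0 * -2 := by
    have := a_eq T v 0 0; rw [N_diag T v hv] at this; exact this
  have a01 : T.a 0 1 = T.w 0 * x01 := by
    have := a_eq T v 0 1; rw [← hx01] at this; exact this
  have a02 : T.a 0 2 = T.w 0 * x02 := by
    have := a_eq T v 0 2; rw [← hx02] at this; exact this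
  have a11 : T.a 1 1 = T.w 1 * -2 := by
    have := a_eq T v 1 1; rw [N_diag T v hv] at this; exact this
  have a10 : T.a 1 0 = T.w 1 * x10 := by
    have := a_eq T v 1 0; rw [← hx10] at this; exact this
  have a12 : T.a 1 2 = T.w 1 * x12 := by
    have := a_eq T v 1 2; rw [← hx12] at this; exact this
  have a22 : T.a 2 2 = T.w 2 * -2 := by
    have := a_eq T v 2 2; rw [N_diag T v hv] at this; exact this
  have a20 : T.a 2 0 = T.w 2 * x20 := by
    have := a_eq T v 2 0; rw [← hx20] at this; exact this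
  have a21 : T.a 2 1 = T.w 2 * x21 := by
    have := a_eq T v 2 1; rw [← hx21] at this; exact this
  have wN01 : T.w 0 * x01 = T.w 1 * x10 := by
    have := w_N T v 0 1; rw [← hx01, ← hx10] at this; exact this
  have wN02 : T.w 0 * x02 = T.w 2 * x20 := by
    have := w_N T v 0 2; rw [← hx02, ← hx20] at this; exact this
  have wN12 : T.w 1 * x12 = T.w 2 * x21 := by
    have := w_N T v 1 2; rw [← hx12, ← hx21] at this; exact this
  have r0 := row_sum T 0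
  simp only [Fin.sum_univ_three] at r0
  rw [a00, a01, a02] at r0
  have e0 : x01 * T.m 1 + x02 * T.m 2 = 2 * T.m 0 := by
    have : T.w 0 * (x01 * T.m 1 + x02 * T.m 2 - 2 * T.m 0) = 0 := by linear_combination r0
    rcases mul_eq_zero.mp this with h | h
    · omega
    · linarith
  have r1 := row_sum T 1
  simp only [Fin.sum_univ_three] at r1
  rw [a10, a11, a12] at r1
  have e1 : x10 * T.m 0 + x12 * T.m 2 = 2 * T.m 1 := by
    have : T.w 1 * (x10 * T.m 0 + x12 * T.m 2 - 2 * T.m 1) = 0 := by linear_combination r1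
    rcases mul_eq_zero.mp this with h | h
    · omega
    · linarith
  have r2 := row_sum T 2
  simp only [Fin.sum_univ_three] at r2
  rw [a20, a21, a22] at r2
  have e2 : x20 * T.m 0 + x21 * T.m 1 = 2 * T.m 2 := by
    have : T.w 2 * (x20 * T.m 0 + x21 * T.m 1 - 2 * T.m 2) = 0 := by linear_combination r2
    rcases mul_eq_zero.mp this with h | h
    · omega
    · linarith
  have d01 := two_pair T (by norm_num : 2 < 3) ((pairEmb 0 1 (by decide)).trans v) (fun _ => hv _)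
  change (N T v 0 1 = 0 ∧ N T v 1 0 = 0) ∨ (N T v 0 1 = 1 ∧ N T v 1 0 = 1) ∨ (N T v 0 1 = 1 ∧ N T v 1 0 = 2) ∨ (N T v 0 1 = 2 ∧ N T v 1 0 = 1) ∨ (N T v 0 1 = 1 ∧ N T v 1 0 = 3) ∨ (N T v 0 1 = 3 ∧ N T v 1 0 = 1) at d01
  rw [← hx01, ← hx10] at d01
  have d02 := two_pair T (by norm_num : 2 < 3) ((pairEmb 0 2 (by decide)).trans v) (fun _ => hv _)
  change (N T v 0 2 = 0 ∧ N T v 2 0 = 0) ∨ (N T v 0 2 = 1 ∧ N T v 2 0 = 1) ∨ (N T v 0 2 = 1 ∧ N T v 2 0 = 2) ∨ (N T v 0 2 = 2 ∧ N T v 2 0 = 1) ∨ (N T v 0 2 = 1 ∧ N T v 2 0 = 3) ∨ (N T v 0 2 = 3 ∧ N T v 2 0 = 1) at d02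
  rw [← hx02, ← hx20] at d02
  have d12 := two_pair T (by norm_num : 2 < 3) ((pairEmb 1 2 (by decide)).trans v) (fun _ => hv _)
  change (N T v 1 2 = 0 ∧ N T v 2 1 = 0) ∨ (N T v 1 2 = 1 ∧ N T v 2 1 = 1) ∨ (N T v 1 2 = 1 ∧ N T v 2 1 = 2) ∨ (N T v 1 2 = 2 ∧ N T v 2 1 = 1) ∨ (N T v 1 2 = 1 ∧ N T v 2 1 = 3) ∨ (N T v 1 2 = 3 ∧ N T v 2 1 = 1) at d12
  rw [← hx12, ← hx21] at d12
  clear hx01 hx02 hx10 hx12 hx20 hx21
  rcases d01 with ⟨rfl, rfl⟩ | ⟨rfl, rfl⟩ | ⟨rfl, rfl⟩ | ⟨rfl, rfl⟩ | ⟨rfl, rfl⟩ | ⟨rfl, rfl⟩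
  · -- 01=(0, 0)
    rcases d02 with ⟨rfl, rfl⟩ | ⟨rfl, rfl⟩ | ⟨rfl, rfl⟩ | ⟨rfl, rfl⟩ | ⟨rfl, rfl⟩ | ⟨rfl, rfl⟩
    · -- 02=(0, 0)
      rcases d12 with ⟨rfl, rfl⟩ | ⟨rfl, rfl⟩ | ⟨rfl, rfl⟩ | ⟨rfl, rfl⟩ | ⟨rfl, rfl⟩ | ⟨rfl, rfl⟩
      · -- 12=(0, 0)
        exfalso; omega
      · -- 12=(1, 1)
        exfalso; omega
      · -- 12=(1, 2)
        exfalso; omega
      · -- 12=(2, 1)
        exfalso; omega
      · -- 12=(1, 3)
        exfalso; omega
      · -- 12=(3, 1)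
        exfalso; omega
    · -- 02=(1, 1)
      rcases d12 with ⟨rfl, rfl⟩ | ⟨rfl, rfl⟩ | ⟨rfl, rfl⟩ | ⟨rfl, rfl⟩ | ⟨rfl, rfl⟩ | ⟨rfl, rfl⟩
      · -- 12=(0, 0)
        exfalso; omega
      · -- 12=(1, 1)
        exfalso; omega
      · -- 12=(1, 2)
        exfalso; omega
      · -- 12=(2, 1)
        exfalso; omega
      · -- 12=(1, 3)
        exact ⟨0, 2, 1, T.m 0, T.w 0, by decide, by decide, by decide, hg0, hg2, hg1, Or.inr (Or.inl ⟨by omega, by omega, by omega, by omega, by omega, by omega, by omega, by omega, by omega, by omega, by omega, by omega⟩)⟩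
      · -- 12=(3, 1)
        exact ⟨0, 2, 1, T.m 0, T.w 1, by decide, by decide, by decide, hg0, hg2, hg1, Or.inr (Or.inr (Or.inl ⟨by omega, by omega, by omega, by omega, by omega, by omega, by omega, by omega, by omega, by omega, by omega, by omega⟩))⟩
    · -- 02=(1, 2)
      rcases d12 with ⟨rfl, rfl⟩ | ⟨rfl, rfl⟩ | ⟨rfl, rfl⟩ | ⟨rfl, rfl⟩ | ⟨rfl, rfl⟩ | ⟨rfl, rfl⟩
      · -- 12=(0, 0)
        exfalso; omega
      · -- 12=(1, 1)
        exfalso; omega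
      · -- 12=(1, 2)
        exact ⟨0, 2, 1, T.m 0, T.w 2, by decide, by decide, by decide, hg0, hg2, hg1, Or.inr (Or.inr (Or.inr (Or.inr (Or.inr ⟨by omega, by omega, by omega, by omega, by omega, by omega, by omega, by omega, by omega, by omega, by omega, by omega⟩))))⟩
      · -- 12=(2, 1)
        exact ⟨1, 2, 0, T.m 0, T.w 1, by decide, by decide, by decide, hg1, hg2, hg0, Or.inr (Or.inr (Or.inr (Or.inl ⟨by omega, by omega, by omega, by omega, by omega, by omega, by omega, by omega, by omega, by omega, by omega, by omega⟩)))⟩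
      · -- 12=(1, 3)
        exfalso; omega
      · -- 12=(3, 1)
        exfalso; omega
    · -- 02=(2, 1)
      rcases d12 with ⟨rfl, rfl⟩ | ⟨rfl, rfl⟩ | ⟨rfl, rfl⟩ | ⟨rfl, rfl⟩ | ⟨rfl, rfl⟩ | ⟨rfl, rfl⟩
      · -- 12=(0, 0)
        exfalso; omega
      · -- 12=(1, 1)
        exfalso; omega
      · -- 12=(1, 2)
        exact ⟨0, 2, 1, T.m 1, T.w 0, by decide, by decide, by decide, hg0, hg2, hg1, Or.inr (Or.inr (Or.inr (Or.inl ⟨by omega, by omega, by omega, by omega, by omega, by omega, by omega, by omega, by omega, by omega, by omega, by omega⟩)))⟩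
      · -- 12=(2, 1)
        exact ⟨0, 2, 1, T.m 0, T.w 0, by decide, by decide, by decide, hg0, hg2, hg1, Or.inr (Or.inr (Or.inr (Or.inr (Or.inl ⟨by omega, by omega, by omega, by omega, by omega, by omega, by omega, by omega, by omega, by omega, by omega, by omega⟩))))⟩
      · -- 12=(1, 3)
        exfalso; omega
      · -- 12=(3, 1)
        exfalso; omega
    · -- 02=(1, 3)
      rcases d12 with ⟨rfl, rfl⟩ | ⟨rfl, rfl⟩ | ⟨rfl, rfl⟩ | ⟨rfl, rfl⟩ | ⟨rfl, rfl⟩ | ⟨rfl, rfl⟩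
      · -- 12=(0, 0)
        exfalso; omega
      · -- 12=(1, 1)
        exact ⟨1, 2, 0, T.m 1, T.w 1, by decide, by decide, by decide, hg1, hg2, hg0, Or.inr (Or.inl ⟨by omega, by omega, by omega, by omega, by omega, by omega, by omega, by omega, by omega, by omega, by omega, by omega⟩)⟩
      · -- 12=(1, 2)
        exfalso; omega
      · -- 12=(2, 1)
        exfalso; omega
      · -- 12=(1, 3)
        exfalso; omega
      · -- 12=(3, 1)
        exfalso; omega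
    · -- 02=(3, 1)
      rcases d12 with ⟨rfl, rfl⟩ | ⟨rfl, rfl⟩ | ⟨rfl, rfl⟩ | ⟨rfl, rfl⟩ | ⟨rfl, rfl⟩ | ⟨rfl, rfl⟩
      · -- 12=(0, 0)
        exfalso; omega
      · -- 12=(1, 1)
        exact ⟨1, 2, 0, T.m 1, T.w 0, by decide, by decide, by decide, hg1, hg2, hg0, Or.inr (Or.inr (Or.inl ⟨by omega, by omega, by omega, by omega, by omega, by omega, by omega, by omega, by omega, by omega, by omega, by omega⟩))⟩
      · -- 12=(1, 2)
        exfalso; omega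
      · -- 12=(2, 1)
        exfalso; omega
      · -- 12=(1, 3)
        exfalso; omega
      · -- 12=(3, 1)
        exfalso; omega
  · -- 01=(1, 1)
    rcases d02 with ⟨rfl, rfl⟩ | ⟨rfl, rfl⟩ | ⟨rfl, rfl⟩ | ⟨rfl, rfl⟩ | ⟨rfl, rfl⟩ | ⟨rfl, rfl⟩
    · -- 02=(0, 0)
      rcases d12 with ⟨rfl, rfl⟩ | ⟨rfl, rfl⟩ | ⟨rfl, rfl⟩ | ⟨rfl, rfl⟩ | ⟨rfl, rfl⟩ | ⟨rfl, rfl⟩
      · -- 12=(0, 0)
        exfalso; omega
      · -- 12=(1, 1)
        exfalso; omega
      · -- 12=(1, 2)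
        exfalso; omega
      · -- 12=(2, 1)
        exfalso; omega
      · -- 12=(1, 3)
        exact ⟨0, 1, 2, T.m 0, T.w 2, by decide, by decide, by decide, hg0, hg1, hg2, Or.inr (Or.inr (Or.inl ⟨by omega, by omega, by omega, by omega, by omega, by omega, by omega, by omega, by omega, by omega, by omega, by omega⟩))⟩
      · -- 12=(3, 1)
        exact ⟨0, 1, 2, T.m 0, T.w 0, by decide, by decide, by decide, hg0, hg1, hg2, Or.inr (Or.inl ⟨by omega, by omega, by omega, by omega, by omega, by omega, by omega, by omega, by omega, by omega, by omega, by omega⟩)⟩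
    · -- 02=(1, 1)
      rcases d12 with ⟨rfl, rfl⟩ | ⟨rfl, rfl⟩ | ⟨rfl, rfl⟩ | ⟨rfl, rfl⟩ | ⟨rfl, rfl⟩ | ⟨rfl, rfl⟩
      · -- 12=(0, 0)
        exfalso; omega
      · -- 12=(1, 1)
        exact ⟨0, 1, 2, T.m 0, T.w 0, by decide, by decide, by decide, hg0, hg1, hg2, Or.inl ⟨by omega, by omega, by omega, by omega, by omega, by omega, by omega, by omega, by omega, by omega, by omega, by omega⟩⟩
      · -- 12=(1, 2)
        exfalso; omega
      · -- 12=(2, 1)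
        exfalso; omega
      · -- 12=(1, 3)
        exfalso; omega
      · -- 12=(3, 1)
        exfalso; omega
    · -- 02=(1, 2)
      rcases d12 with ⟨rfl, rfl⟩ | ⟨rfl, rfl⟩ | ⟨rfl, rfl⟩ | ⟨rfl, rfl⟩ | ⟨rfl, rfl⟩ | ⟨rfl, rfl⟩
      · -- 12=(0, 0)
        exfalso; omega
      · -- 12=(1, 1)
        exfalso; omega
      · -- 12=(1, 2)
        exfalso; omega
      · -- 12=(2, 1)
        exfalso; omega
      · -- 12=(1, 3)
        exfalso; omega
      · -- 12=(3, 1)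
        exfalso; omega
    · -- 02=(2, 1)
      rcases d12 with ⟨rfl, rfl⟩ | ⟨rfl, rfl⟩ | ⟨rfl, rfl⟩ | ⟨rfl, rfl⟩ | ⟨rfl, rfl⟩ | ⟨rfl, rfl⟩
      · -- 12=(0, 0)
        exfalso; omega
      · -- 12=(1, 1)
        exfalso; omega
      · -- 12=(1, 2)
        exfalso; omega
      · -- 12=(2, 1)
        exfalso; omega
      · -- 12=(1, 3)
        exfalso; omega
      · -- 12=(3, 1)
        exfalso; omega
    · -- 02=(1, 3)
      rcases d12 with ⟨rfl, rfl⟩ | ⟨rfl, rfl⟩ | ⟨rfl, rfl⟩ | ⟨rfl, rfl⟩ | ⟨rfl, rfl⟩ | ⟨rfl, rfl⟩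
      · -- 12=(0, 0)
        exact ⟨1, 0, 2, T.m 1, T.w 2, by decide, by decide, by decide, hg1, hg0, hg2, Or.inr (Or.inr (Or.inl ⟨by omega, by omega, by omega, by omega, by omega, by omega, by omega, by omega, by omega, by omega, by omega, by omega⟩))⟩
      · -- 12=(1, 1)
        exfalso; omega
      · -- 12=(1, 2)
        exfalso; omega
      · -- 12=(2, 1)
        exfalso; omega
      · -- 12=(1, 3)
        exfalso; omega
      · -- 12=(3, 1)
        exfalso; omega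
    · -- 02=(3, 1)
      rcases d12 with ⟨rfl, rfl⟩ | ⟨rfl, rfl⟩ | ⟨rfl, rfl⟩ | ⟨rfl, rfl⟩ | ⟨rfl, rfl⟩ | ⟨rfl, rfl⟩
      · -- 12=(0, 0)
        exact ⟨1, 0, 2, T.m 1, T.w 1, by decide, by decide, by decide, hg1, hg0, hg2, Or.inr (Or.inl ⟨by omega, by omega, by omega, by omega, by omega, by omega, by omega, by omega, by omega, by omega, by omega, by omega⟩)⟩
      · -- 12=(1, 1)
        exfalso; omega
      · -- 12=(1, 2)
        exfalso; omega
      · -- 12=(2, 1)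
        exfalso; omega
      · -- 12=(1, 3)
        exfalso; omega
      · -- 12=(3, 1)
        exfalso; omega
  · -- 01=(1, 2)
    rcases d02 with ⟨rfl, rfl⟩ | ⟨rfl, rfl⟩ | ⟨rfl, rfl⟩ | ⟨rfl, rfl⟩ | ⟨rfl, rfl⟩ | ⟨rfl, rfl⟩
    · -- 02=(0, 0)
      rcases d12 with ⟨rfl, rfl⟩ | ⟨rfl, rfl⟩ | ⟨rfl, rfl⟩ | ⟨rfl, rfl⟩ | ⟨rfl, rfl⟩ | ⟨rfl, rfl⟩
      · -- 12=(0, 0)
        exfalso; omega
      · -- 12=(1, 1)
        exfalso; omega
      · -- 12=(1, 2)
        exact ⟨2, 1, 0, T.m 0, T.w 2, by decide, by decide, by decide, hg2, hg1, hg0, Or.inr (Or.inr (Or.inr (Or.inl ⟨by omega, by omega, by omega, by omega, by omega, by omega, by omega, by omega, by omega, by omega, by omega, by omega⟩)))⟩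
      · -- 12=(2, 1)
        exact ⟨0, 1, 2, T.m 0, T.w 1, by decide, by decide, by decide, hg0, hg1, hg2, Or.inr (Or.inr (Or.inr (Or.inr (Or.inr ⟨by omega, by omega, by omega, by omega, by omega, by omega, by omega, by omega, by omega, by omega, by omega, by omega⟩))))⟩
      · -- 12=(1, 3)
        exfalso; omega
      · -- 12=(3, 1)
        exfalso; omega
    · -- 02=(1, 1)
      rcases d12 with ⟨rfl, rfl⟩ | ⟨rfl, rfl⟩ | ⟨rfl, rfl⟩ | ⟨rfl, rfl⟩ | ⟨rfl, rfl⟩ | ⟨rfl, rfl⟩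
      · -- 12=(0, 0)
        exfalso; omega
      · -- 12=(1, 1)
        exfalso; omega
      · -- 12=(1, 2)
        exfalso; omega
      · -- 12=(2, 1)
        exfalso; omega
      · -- 12=(1, 3)
        exfalso; omega
      · -- 12=(3, 1)
        exfalso; omega
    · -- 02=(1, 2)
      rcases d12 with ⟨rfl, rfl⟩ | ⟨rfl, rfl⟩ | ⟨rfl, rfl⟩ | ⟨rfl, rfl⟩ | ⟨rfl, rfl⟩ | ⟨rfl, rfl⟩
      · -- 12=(0, 0)
        exact ⟨1, 0, 2, T.m 1, T.w 1, by decide, by decide, by decide, hg1, hg0, hg2, Or.inr (Or.inr (Or.inr (Or.inr (Or.inl ⟨by omega, by omega, by omega, by omega, by omega, by omega, by omega, by omega, by omega, by omega, by omega, by omega⟩))))⟩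
      · -- 12=(1, 1)
        exfalso; omega
      · -- 12=(1, 2)
        exfalso; omega
      · -- 12=(2, 1)
        exfalso; omega
      · -- 12=(1, 3)
        exfalso; omega
      · -- 12=(3, 1)
        exfalso; omega
    · -- 02=(2, 1)
      rcases d12 with ⟨rfl, rfl⟩ | ⟨rfl, rfl⟩ | ⟨rfl, rfl⟩ | ⟨rfl, rfl⟩ | ⟨rfl, rfl⟩ | ⟨rfl, rfl⟩
      · -- 12=(0, 0)
        exact ⟨1, 0, 2, T.m 2, T.w 1, by decide, by decide, by decide, hg1, hg0, hg2, Or.inr (Or.inr (Or.inr (Or.inl ⟨by omega, by omega, by omega, by omega, by omega, by omega, by omega, by omega, by omega, by omega, by omega, by omega⟩)))⟩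
      · -- 12=(1, 1)
        exfalso; omega
      · -- 12=(1, 2)
        exfalso; omega
      · -- 12=(2, 1)
        exfalso; omega
      · -- 12=(1, 3)
        exfalso; omega
      · -- 12=(3, 1)
        exfalso; omega
    · -- 02=(1, 3)
      rcases d12 with ⟨rfl, rfl⟩ | ⟨rfl, rfl⟩ | ⟨rfl, rfl⟩ | ⟨rfl, rfl⟩ | ⟨rfl, rfl⟩ | ⟨rfl, rfl⟩
      · -- 12=(0, 0)
        exfalso; omega
      · -- 12=(1, 1)
        exfalso; omega
      · -- 12=(1, 2)
        exfalso; omega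
      · -- 12=(2, 1)
        exfalso; omega
      · -- 12=(1, 3)
        exfalso; omega
      · -- 12=(3, 1)
        exfalso; omega
    · -- 02=(3, 1)
      rcases d12 with ⟨rfl, rfl⟩ | ⟨rfl, rfl⟩ | ⟨rfl, rfl⟩ | ⟨rfl, rfl⟩ | ⟨rfl, rfl⟩ | ⟨rfl, rfl⟩
      · -- 12=(0, 0)
        exfalso; omega
      · -- 12=(1, 1)
        exfalso; omega
      · -- 12=(1, 2)
        exfalso; omega
      · -- 12=(2, 1)
        exfalso; omega
      · -- 12=(1, 3)
        exfalso; omega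
      · -- 12=(3, 1)
        exfalso; omega
  · -- 01=(2, 1)
    rcases d02 with ⟨rfl, rfl⟩ | ⟨rfl, rfl⟩ | ⟨rfl, rfl⟩ | ⟨rfl, rfl⟩ | ⟨rfl, rfl⟩ | ⟨rfl, rfl⟩
    · -- 02=(0, 0)
      rcases d12 with ⟨rfl, rfl⟩ | ⟨rfl, rfl⟩ | ⟨rfl, rfl⟩ | ⟨rfl, rfl⟩ | ⟨rfl, rfl⟩ | ⟨rfl, rfl⟩
      · -- 12=(0, 0)
        exfalso; omega
      · -- 12=(1, 1)
        exfalso; omega
      · -- 12=(1, 2)
        exact ⟨0, 1, 2, T.m 0, T.w 0, by decide, by decide, by decide, hg0, hg1, hg2, Or.inr (Or.inr (Or.inr (Or.inr (Or.inl ⟨by omega, by omega, by omega, by omega, by omega, by omega, by omega, by omega, by omega, by omega, by omega, by omega⟩))))⟩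
      · -- 12=(2, 1)
        exact ⟨0, 1, 2, T.m 2, T.w 0, by decide, by decide, by decide, hg0, hg1, hg2, Or.inr (Or.inr (Or.inr (Or.inl ⟨by omega, by omega, by omega, by omega, by omega, by omega, by omega, by omega, by omega, by omega, by omega, by omega⟩)))⟩
      · -- 12=(1, 3)
        exfalso; omega
      · -- 12=(3, 1)
        exfalso; omega
    · -- 02=(1, 1)
      rcases d12 with ⟨rfl, rfl⟩ | ⟨rfl, rfl⟩ | ⟨rfl, rfl⟩ | ⟨rfl, rfl⟩ | ⟨rfl, rfl⟩ | ⟨rfl, rfl⟩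
      · -- 12=(0, 0)
        exfalso; omega
      · -- 12=(1, 1)
        exfalso; omega
      · -- 12=(1, 2)
        exfalso; omega
      · -- 12=(2, 1)
        exfalso; omega
      · -- 12=(1, 3)
        exfalso; omega
      · -- 12=(3, 1)
        exfalso; omega
    · -- 02=(1, 2)
      rcases d12 with ⟨rfl, rfl⟩ | ⟨rfl, rfl⟩ | ⟨rfl, rfl⟩ | ⟨rfl, rfl⟩ | ⟨rfl, rfl⟩ | ⟨rfl, rfl⟩
      · -- 12=(0, 0)
        exact ⟨2, 0, 1, T.m 1, T.w 2, by decide, by decide, by decide, hg2, hg0, hg1, Or.inr (Or.inr (Or.inr (Or.inl ⟨by omega, by omega, by omega, by omega, by omega, by omega, by omega, by omega, by omega, by omega, by omega, by omega⟩)))⟩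
      · -- 12=(1, 1)
        exfalso; omega
      · -- 12=(1, 2)
        exfalso; omega
      · -- 12=(2, 1)
        exfalso; omega
      · -- 12=(1, 3)
        exfalso; omega
      · -- 12=(3, 1)
        exfalso; omega
    · -- 02=(2, 1)
      rcases d12 with ⟨rfl, rfl⟩ | ⟨rfl, rfl⟩ | ⟨rfl, rfl⟩ | ⟨rfl, rfl⟩ | ⟨rfl, rfl⟩ | ⟨rfl, rfl⟩
      · -- 12=(0, 0)
        exact ⟨1, 0, 2, T.m 1, T.w 0, by decide, by decide, by decide, hg1, hg0, hg2, Or.inr (Or.inr (Or.inr (Or.inr (Or.inr ⟨by omega, by omega, by omega, by omega, by omega, by omega, by omega, by omega, by omega, by omega, by omega, by omega⟩))))⟩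
      · -- 12=(1, 1)
        exfalso; omega
      · -- 12=(1, 2)
        exfalso; omega
      · -- 12=(2, 1)
        exfalso; omega
      · -- 12=(1, 3)
        exfalso; omega
      · -- 12=(3, 1)
        exfalso; omega
    · -- 02=(1, 3)
      rcases d12 with ⟨rfl, rfl⟩ | ⟨rfl, rfl⟩ | ⟨rfl, rfl⟩ | ⟨rfl, rfl⟩ | ⟨rfl, rfl⟩ | ⟨rfl, rfl⟩
      · -- 12=(0, 0)
        exfalso; omega
      · -- 12=(1, 1)
        exfalso; omega
      · -- 12=(1, 2)
        exfalso; omega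
      · -- 12=(2, 1)
        exfalso; omega
      · -- 12=(1, 3)
        exfalso; omega
      · -- 12=(3, 1)
        exfalso; omega
    · -- 02=(3, 1)
      rcases d12 with ⟨rfl, rfl⟩ | ⟨rfl, rfl⟩ | ⟨rfl, rfl⟩ | ⟨rfl, rfl⟩ | ⟨rfl, rfl⟩ | ⟨rfl, rfl⟩
      · -- 12=(0, 0)
        exfalso; omega
      · -- 12=(1, 1)
        exfalso; omega
      · -- 12=(1, 2)
        exfalso; omega
      · -- 12=(2, 1)
        exfalso; omega
      · -- 12=(1, 3)
        exfalso; omega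
      · -- 12=(3, 1)
        exfalso; omega
  · -- 01=(1, 3)
    rcases d02 with ⟨rfl, rfl⟩ | ⟨rfl, rfl⟩ | ⟨rfl, rfl⟩ | ⟨rfl, rfl⟩ | ⟨rfl, rfl⟩ | ⟨rfl, rfl⟩
    · -- 02=(0, 0)
      rcases d12 with ⟨rfl, rfl⟩ | ⟨rfl, rfl⟩ | ⟨rfl, rfl⟩ | ⟨rfl, rfl⟩ | ⟨rfl, rfl⟩ | ⟨rfl, rfl⟩
      · -- 12=(0, 0)
        exfalso; omega
      · -- 12=(1, 1)
        exact ⟨2, 1, 0, T.m 2, T.w 2, by decide, by decide, by decide, hg2, hg1, hg0, Or.inr (Or.inl ⟨by omega, by omega, by omega, by omega, by omega, by omega, by omega, by omega, by omega, by omega, by omega, by omega⟩)⟩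
      · -- 12=(1, 2)
        exfalso; omega
      · -- 12=(2, 1)
        exfalso; omega
      · -- 12=(1, 3)
        exfalso; omega
      · -- 12=(3, 1)
        exfalso; omega
    · -- 02=(1, 1)
      rcases d12 with ⟨rfl, rfl⟩ | ⟨rfl, rfl⟩ | ⟨rfl, rfl⟩ | ⟨rfl, rfl⟩ | ⟨rfl, rfl⟩ | ⟨rfl, rfl⟩
      · -- 12=(0, 0)
        exact ⟨2, 0, 1, T.m 2, T.w 1, by decide, by decide, by decide, hg2, hg0, hg1, Or.inr (Or.inr (Or.inl ⟨by omega, by omega, by omega, by omega, by omega, by omega, by omega, by omega, by omega, by omega, by omega, by omega⟩))⟩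
      · -- 12=(1, 1)
        exfalso; omega
      · -- 12=(1, 2)
        exfalso; omega
      · -- 12=(2, 1)
        exfalso; omega
      · -- 12=(1, 3)
        exfalso; omega
      · -- 12=(3, 1)
        exfalso; omega
    · -- 02=(1, 2)
      rcases d12 with ⟨rfl, rfl⟩ | ⟨rfl, rfl⟩ | ⟨rfl, rfl⟩ | ⟨rfl, rfl⟩ | ⟨rfl, rfl⟩ | ⟨rfl, rfl⟩
      · -- 12=(0, 0)
        exfalso; omega
      · -- 12=(1, 1)
        exfalso; omega
      · -- 12=(1, 2)
        exfalso; omega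
      · -- 12=(2, 1)
        exfalso; omega
      · -- 12=(1, 3)
        exfalso; omega
      · -- 12=(3, 1)
        exfalso; omega
    · -- 02=(2, 1)
      rcases d12 with ⟨rfl, rfl⟩ | ⟨rfl, rfl⟩ | ⟨rfl, rfl⟩ | ⟨rfl, rfl⟩ | ⟨rfl, rfl⟩ | ⟨rfl, rfl⟩
      · -- 12=(0, 0)
        exfalso; omega
      · -- 12=(1, 1)
        exfalso; omega
      · -- 12=(1, 2)
        exfalso; omega
      · -- 12=(2, 1)
        exfalso; omega
      · -- 12=(1, 3)
        exfalso; omega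
      · -- 12=(3, 1)
        exfalso; omega
    · -- 02=(1, 3)
      rcases d12 with ⟨rfl, rfl⟩ | ⟨rfl, rfl⟩ | ⟨rfl, rfl⟩ | ⟨rfl, rfl⟩ | ⟨rfl, rfl⟩ | ⟨rfl, rfl⟩
      · -- 12=(0, 0)
        exfalso; omega
      · -- 12=(1, 1)
        exfalso; omega
      · -- 12=(1, 2)
        exfalso; omega
      · -- 12=(2, 1)
        exfalso; omega
      · -- 12=(1, 3)
        exfalso; omega
      · -- 12=(3, 1)
        exfalso; omega
    · -- 02=(3, 1)
      rcases d12 with ⟨rfl, rfl⟩ | ⟨rfl, rfl⟩ | ⟨rfl, rfl⟩ | ⟨rfl, rfl⟩ | ⟨rfl, rfl⟩ | ⟨rfl, rfl⟩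
      · -- 12=(0, 0)
        exfalso; omega
      · -- 12=(1, 1)
        exfalso; omega
      · -- 12=(1, 2)
        exfalso; omega
      · -- 12=(2, 1)
        exfalso; omega
      · -- 12=(1, 3)
        exfalso; omega
      · -- 12=(3, 1)
        exfalso; omega
  · -- 01=(3, 1)
    rcases d02 with ⟨rfl, rfl⟩ | ⟨rfl, rfl⟩ | ⟨rfl, rfl⟩ | ⟨rfl, rfl⟩ | ⟨rfl, rfl⟩ | ⟨rfl, rfl⟩
    · -- 02=(0, 0)
      rcases d12 with ⟨rfl, rfl⟩ | ⟨rfl, rfl⟩ | ⟨rfl, rfl⟩ | ⟨rfl, rfl⟩ | ⟨rfl, rfl⟩ | ⟨rfl, rfl⟩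
      · -- 12=(0, 0)
        exfalso; omega
      · -- 12=(1, 1)
        exact ⟨2, 1, 0, T.m 2, T.w 0, by decide, by decide, by decide, hg2, hg1, hg0, Or.inr (Or.inr (Or.inl ⟨by omega, by omega, by omega, by omega, by omega, by omega, by omega, by omega, by omega, by omega, by omega, by omega⟩))⟩
      · -- 12=(1, 2)
        exfalso; omega
      · -- 12=(2, 1)
        exfalso; omega
      · -- 12=(1, 3)
        exfalso; omega
      · -- 12=(3, 1)
        exfalso; omega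
    · -- 02=(1, 1)
      rcases d12 with ⟨rfl, rfl⟩ | ⟨rfl, rfl⟩ | ⟨rfl, rfl⟩ | ⟨rfl, rfl⟩ | ⟨rfl, rfl⟩ | ⟨rfl, rfl⟩
      · -- 12=(0, 0)
        exact ⟨2, 0, 1, T.m 2, T.w 2, by decide, by decide, by decide, hg2, hg0, hg1, Or.inr (Or.inl ⟨by omega, by omega, by omega, by omega, by omega, by omega, by omega, by omega, by omega, by omega, by omega, by omega⟩)⟩
      · -- 12=(1, 1)
        exfalso; omega
      · -- 12=(1, 2)
        exfalso; omega
      · -- 12=(2, 1)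
        exfalso; omega
      · -- 12=(1, 3)
        exfalso; omega
      · -- 12=(3, 1)
        exfalso; omega
    · -- 02=(1, 2)
      rcases d12 with ⟨rfl, rfl⟩ | ⟨rfl, rfl⟩ | ⟨rfl, rfl⟩ | ⟨rfl, rfl⟩ | ⟨rfl, rfl⟩ | ⟨rfl, rfl⟩
      · -- 12=(0, 0)
        exfalso; omega
      · -- 12=(1, 1)
        exfalso; omega
      · -- 12=(1, 2)
        exfalso; omega
      · -- 12=(2, 1)
        exfalso; omega
      · -- 12=(1, 3)
        exfalso; omega
      · -- 12=(3, 1)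
        exfalso; omega
    · -- 02=(2, 1)
      rcases d12 with ⟨rfl, rfl⟩ | ⟨rfl, rfl⟩ | ⟨rfl, rfl⟩ | ⟨rfl, rfl⟩ | ⟨rfl, rfl⟩ | ⟨rfl, rfl⟩
      · -- 12=(0, 0)
        exfalso; omega
      · -- 12=(1, 1)
        exfalso; omega
      · -- 12=(1, 2)
        exfalso; omega
      · -- 12=(2, 1)
        exfalso; omega
      · -- 12=(1, 3)
        exfalso; omega
      · -- 12=(3, 1)
        exfalso; omega
    · -- 02=(1, 3)
      rcases d12 with ⟨rfl, rfl⟩ | ⟨rfl, rfl⟩ | ⟨rfl, rfl⟩ | ⟨rfl, rfl⟩ | ⟨rfl, rfl⟩ | ⟨rfl, rfl⟩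
      · -- 12=(0, 0)
        exfalso; omega
      · -- 12=(1, 1)
        exfalso; omega
      · -- 12=(1, 2)
        exfalso; omega
      · -- 12=(2, 1)
        exfalso; omega
      · -- 12=(1, 3)
        exfalso; omega
      · -- 12=(3, 1)
        exfalso; omega
    · -- 02=(3, 1)
      rcases d12 with ⟨rfl, rfl⟩ | ⟨rfl, rfl⟩ | ⟨rfl, rfl⟩ | ⟨rfl, rfl⟩ | ⟨rfl, rfl⟩ | ⟨rfl, rfl⟩
      · -- 12=(0, 0)
        exfalso; omega
      · -- 12=(1, 1)
        exfalso; omega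
      · -- 12=(1, 2)
        exfalso; omega
      · -- 12=(2, 1)
        exfalso; omega
      · -- 12=(1, 3)
        exfalso; omega
      · -- 12=(3, 1)
        exfalso; omega

end Groth.Agent.S7363
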