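import Groth.Statements.S7364
import Groth.Agent.Lib.helper11.NumGenus
import Groth.Agent.Lib.helper11.NumPair

set_option autoImplicit false
open Finset
open Models Models.NumericalType

namespace Groth.Agent.S7364

open Groth.Agent.Lib.helper11.NumType in
/-- Genus one classification: case n = 4: let T be a minimal numerical type of genus 1 on 4 indices.
Then all g_i = 0 and, for some permutation σ of the indices and some integers m, w, the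
multiplicities, weights and intersection matrix (m_{σ(i)}, w_{σ(i)}, a_{σ(i)σ(j)}) are those of one
of the following 6 types: [four cycle] m = (m, m, m, m), w = (w, w, w, w), a = (-2 * w w 0 w / w -2
* w w 0 / 0 w -2 * w w / w 0 w -2 * w); [up equal up] m = (2 * m, 2 * m, 2 * m, m), w = (w, 2 * w, 2
* w, 4 * w), a = (-2 * w 2 * w 0 0 / 2 * w -4 * w 2 * w 0 / 0 2 * w -4 * w 4 * w / 0 0 4 * w -8 *
w); [up equal down] m = (m, m, m, m), w = (w, 2 * w, 2 * w, w), a = (-2 * w 2 * w 0 0 / 2 * w -4 * w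
2 * w 0 / 0 2 * w -4 * w 2 * w / 0 0 2 * w -2 * w); [down equal up] m = (m, 2 * m, 2 * m, m), w = (2
* w, w, w, 2 * w), a = (-4 * w 2 * w 0 0 / 2 * w -2 * w w 0 / 0 w -2 * w 2 * w / 0 0 2 * w -4 * w);
[triple with up] m = (2 * m, m, m, m), w = (w, w, w, 2 * w), a = (-2 * w w w 2 * w / w -2 * w 0 0 /
w 0 -2 * w 0 / 2 * w 0 0 -4 * w); [triple with down] m = (2 * m, m, m, 2 * m), w = (2 * w, 2 * w, 2
* w, w), a = (-4 * w 2 * w 2 * w 2 * w / 2 * w -4 * w 0 0 / 2 * w 0 -4 * w 0 / 2 * w 0 0 -2 * w).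
Only the classification direction is stated. -/
theorem result (T : Models.NumericalType 4) (hmin : T.IsMinimal) (hg : T.genus = 1) :
    (∀ i, T.g i = 0) ∧ ∃ (σ : Equiv.Perm (Fin 4)) (m w : ℤ),
      ((T.m (σ 0) = m ∧ T.m (σ 1) = m ∧ T.m (σ 2) = m ∧ T.m (σ 3) = m ∧ T.w (σ 0) = w ∧ T.w (σ 1) = w ∧ T.w (σ 2) = w ∧ T.w (σ 3) = w ∧ T.a (σ 0) (σ 0) = -2 * w ∧ T.a (σ 0) (σ 1) = w ∧ T.a (σ 0) (σ 2) = 0 ∧ T.a (σ 0) (σ 3) = w ∧ T.a (σ 1) (σ 1) = -2 * w ∧ T.a (σ 1) (σ 2) = w ∧ T.a (σ 1) (σ 3) = 0 ∧ T.a (σ 2) (σ 2) = -2 * w ∧ T.a (σ 2) (σ 3) = w ∧ T.a (σ 3) (σ 3) = -2 * w) ∨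
      (T.m (σ 0) = 2 * m ∧ T.m (σ 1) = 2 * m ∧ T.m (σ 2) = 2 * m ∧ T.m (σ 3) = m ∧ T.w (σ 0) = w ∧ T.w (σ 1) = 2 * w ∧ T.w (σ 2) = 2 * w ∧ T.w (σ 3) = 4 * w ∧ T.a (σ 0) (σ 0) = -2 * w ∧ T.a (σ 0) (σ 1) = 2 * w ∧ T.a (σ 0) (σ 2) = 0 ∧ T.a (σ 0) (σ 3) = 0 ∧ T.a (σ 1) (σ 1) = -4 * w ∧ T.a (σ 1) (σ 2) = 2 * w ∧ T.a (σ 1) (σ 3) = 0 ∧ T.a (σ 2) (σ 2) = -4 * w ∧ T.a (σ 2) (σ 3) = 4 * w ∧ T.a (σ 3) (σ 3) = -8 * w) ∨
      (T.m (σ 0) = m ∧ T.m (σ 1) = m ∧ T.m (σ 2) = m ∧ T.m (σ 3) = m ∧ T.w (σ 0) = w ∧ T.w (σ 1) = 2 * w ∧ T.w (σ 2) = 2 * w ∧ T.w (σ 3) = w ∧ T.a (σ 0) (σ 0) = -2 * w ∧ T.a (σ 0) (σ 1) = 2 * w ∧ T.a (σ 0) (σ 2) = 0 ∧ T.a (σ 0) (σ 3) = 0 ∧ T.a (σ 1) (σ 1) = -4 * w ∧ T.a (σ 1) (σ 2) = 2 * w ∧ T.a (σ 1) (σ 3) = 0 ∧ T.a (σ 2) (σ 2) = -4 * w ∧ T.a (σ 2) (σ 3) = 2 * w ∧ T.a (σ 3) (σ 3) = -2 * w) ∨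
      (T.m (σ 0) = m ∧ T.m (σ 1) = 2 * m ∧ T.m (σ 2) = 2 * m ∧ T.m (σ 3) = m ∧ T.w (σ 0) = 2 * w ∧ T.w (σ 1) = w ∧ T.w (σ 2) = w ∧ T.w (σ 3) = 2 * w ∧ T.a (σ 0) (σ 0) = -4 * w ∧ T.a (σ 0) (σ 1) = 2 * w ∧ T.a (σ 0) (σ 2) = 0 ∧ T.a (σ 0) (σ 3) = 0 ∧ T.a (σ 1) (σ 1) = -2 * w ∧ T.a (σ 1) (σ 2) = w ∧ T.a (σ 1) (σ 3) = 0 ∧ T.a (σ 2) (σ 2) = -2 * w ∧ T.a (σ 2) (σ 3) = 2 * w ∧ T.a (σ 3) (σ 3) = -4 * w) ∨
      (T.m (σ 0) = 2 * m ∧ T.m (σ 1) = m ∧ T.m (σ 2) = m ∧ T.m (σ 3) = m ∧ T.w (σ 0) = w ∧ T.w (σ 1) = w ∧ T.w (σ 2) = w ∧ T.w (σ 3) = 2 * w ∧ T.a (σ 0) (σ 0) = -2 * w ∧ T.a (σ 0) (σ 1) = w ∧ T.a (σ 0) (σ 2) = w ∧ T.a (σ 0) (σ 3) = 2 * w ∧ T.a (σ 1) (σ 1) = -2 * w ∧ T.a (σ 1) (σ 2) = 0 ∧ T.a (σ 1) (σ 3) = 0 ∧ T.a (σ 2) (σ 2) = -2 * w ∧ T.a (σ 2) (σ 3) = 0 ∧ T.a (σ 3) (σ 3) = -4 * w) ∨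
      (T.m (σ 0) = 2 * m ∧ T.m (σ 1) = m ∧ T.m (σ 2) = m ∧ T.m (σ 3) = 2 * m ∧ T.w (σ 0) = 2 * w ∧ T.w (σ 1) = 2 * w ∧ T.w (σ 2) = 2 * w ∧ T.w (σ 3) = w ∧ T.a (σ 0) (σ 0) = -4 * w ∧ T.a (σ 0) (σ 1) = 2 * w ∧ T.a (σ 0) (σ 2) = 2 * w ∧ T.a (σ 0) (σ 3) = 2 * w ∧ T.a (σ 1) (σ 1) = -4 * w ∧ T.a (σ 1) (σ 2) = 0 ∧ T.a (σ 1) (σ 3) = 0 ∧ T.a (σ 2) (σ 2) = -4 * w ∧ T.a (σ 2) (σ 3) = 0 ∧ T.a (σ 3) (σ 3) = -2 * w)) := by
  have hall := all_minusTwo T (by norm_num) hmin hg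
  refine ⟨fun i => (hall i).1, ?_⟩
  let v : Fin 4 ↪ Fin 4 := Function.Embedding.refl _
  have hv : ∀ p, T.IsMinusTwo (v p) := fun p => hall p
  have hw0 := T.w_pos 0
  have hm0 := T.m_pos 0
  have hw1 := T.w_pos 1
  have hm1 := T.m_pos 1
  have hw2 := T.w_pos 2
  have hm2 := T.m_pos 2
  have hw3 := T.w_pos 3
  have hm3 := T.m_pos 3
  obtain ⟨x01, hx01⟩ : ∃ x, x = N T v 0 1 := ⟨_, rfl⟩
  obtain ⟨x02, hx02⟩ : ∃ x, x = N T v 0 2 := ⟨_, rfl⟩
  obtain ⟨x03, hx03⟩ : ∃ x, x = N T v 0 3 := ⟨_, rfl⟩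
  obtain ⟨x10, hx10⟩ : ∃ x, x = N T v 1 0 := ⟨_, rfl⟩
  obtain ⟨x12, hx12⟩ : ∃ x, x = N T v 1 2 := ⟨_, rfl⟩
  obtain ⟨x13, hx13⟩ : ∃ x, x = N T v 1 3 := ⟨_, rfl⟩
  obtain ⟨x20, hx20⟩ : ∃ x, x = N T v 2 0 := ⟨_, rfl⟩
  obtain ⟨x21, hx21⟩ : ∃ x, x = N T v 2 1 := ⟨_, rfl⟩
  obtain ⟨x23, hx23⟩ : ∃ x, x = N T v 2 3 := ⟨_, rfl⟩
  obtain ⟨x30, hx30⟩ : ∃ x, x = N T v 3 0 := ⟨_, rfl⟩
  obtain ⟨x31, hx31⟩ : ∃ x, x = N T v 3 1 := ⟨_, rfl⟩
  obtain ⟨x32, hx32⟩ : ∃ x, x = N T v 3 2 := ⟨_, rfl⟩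
  have a00 : T.a 0 0 = T.w 0 * -2 := by
    have := a_eq T v 0 0; rw [N_diag T v hv] at this; exact this
  have a01 : T.a 0 1 = T.w 0 * x01 := by
    have := a_eq T v 0 1; rw [← hx01] at this; exact this
  have a02 : T.a 0 2 = T.w 0 * x02 := by
    have := a_eq T v 0 2; rw [← hx02] at this; exact this
  have a03 : T.a 0 3 = T.w 0 * x03 := by
    have := a_eq T v 0 3; rw [← hx03] at this; exact this
  have a11 : T.a 1 1 = T.w 1 * -2 := by
    have := a_eq T v 1 1; rw [N_diag T v hv] at this; exact this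
  have a10 : T.a 1 0 = T.w 1 * x10 := by
    have := a_eq T v 1 0; rw [← hx10] at this; exact this
  have a12 : T.a 1 2 = T.w 1 * x12 := by
    have := a_eq T v 1 2; rw [← hx12] at this; exact this
  have a13 : T.a 1 3 = T.w 1 * x13 := by
    have := a_eq T v 1 3; rw [← hx13] at this; exact this
  have a22 : T.a 2 2 = T.w 2 * -2 := by
    have := a_eq T v 2 2; rw [N_diag T v hv] at this; exact this
  have a20 : T.a 2 0 = T.w 2 * x20 := by
    have := a_eq T v 2 0; rw [← hx20] at this; exact this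
  have a21 : T.a 2 1 = T.w 2 * x21 := by
    have := a_eq T v 2 1; rw [← hx21] at this; exact this
  have a23 : T.a 2 3 = T.w 2 * x23 := by
    have := a_eq T v 2 3; rw [← hx23] at this; exact this
  have a33 : T.a 3 3 = T.w 3 * -2 := by
    have := a_eq T v 3 3; rw [N_diag T v hv] at this; exact this
  have a30 : T.a 3 0 = T.w 3 * x30 := by
    have := a_eq T v 3 0; rw [← hx30] at this; exact this
  have a31 : T.a 3 1 = T.w 3 * x31 := by
    have := a_eq T v 3 1; rw [← hx31] at this; exact this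
  have a32 : T.a 3 2 = T.w 3 * x32 := by
    have := a_eq T v 3 2; rw [← hx32] at this; exact this
  have wN01 : T.w 0 * x01 = T.w 1 * x10 := by
    have := w_N T v 0 1; rw [← hx01, ← hx10] at this; exact this
  have wN02 : T.w 0 * x02 = T.w 2 * x20 := by
    have := w_N T v 0 2; rw [← hx02, ← hx20] at this; exact this
  have wN12 : T.w 1 * x12 = T.w 2 * x21 := by
    have := w_N T v 1 2; rw [← hx12, ← hx21] at this; exact this
  have wN03 : T.w 0 * x03 = T.w 3 * x30 := by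
    have := w_N T v 0 3; rw [← hx03, ← hx30] at this; exact this
  have wN13 : T.w 1 * x13 = T.w 3 * x31 := by
    have := w_N T v 1 3; rw [← hx13, ← hx31] at this; exact this
  have wN23 : T.w 2 * x23 = T.w 3 * x32 := by
    have := w_N T v 2 3; rw [← hx23, ← hx32] at this; exact this
  have r0 := row_sum T 0
  simp only [Fin.sum_univ_four] at r0
  rw [a00, a01, a02, a03] at r0
  have e0 : x01 * T.m 1 + x02 * T.m 2 + x03 * T.m 3 = 2 * T.m 0 := by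
    have : T.w 0 * (x01 * T.m 1 + x02 * T.m 2 + x03 * T.m 3 - 2 * T.m 0) = 0 := by linear_combination r0
    rcases mul_eq_zero.mp this with h | h
    · omega
    · linarith
  clear r0
  have r1 := row_sum T 1
  simp only [Fin.sum_univ_four] at r1
  rw [a10, a11, a12, a13] at r1
  have e1 : x10 * T.m 0 + x12 * T.m 2 + x13 * T.m 3 = 2 * T.m 1 := by
    have : T.w 1 * (x10 * T.m 0 + x12 * T.m 2 + x13 * T.m 3 - 2 * T.m 1) = 0 := by linear_combination r1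
    rcases mul_eq_zero.mp this with h | h
    · omega
    · linarith
  clear r1
  have r2 := row_sum T 2
  simp only [Fin.sum_univ_four] at r2
  rw [a20, a21, a22, a23] at r2
  have e2 : x20 * T.m 0 + x21 * T.m 1 + x23 * T.m 3 = 2 * T.m 2 := by
    have : T.w 2 * (x20 * T.m 0 + x21 * T.m 1 + x23 * T.m 3 - 2 * T.m 2) = 0 := by linear_combination r2
    rcases mul_eq_zero.mp this with h | h
    · omega
    · linarith
  clear r2
  have r3 := row_sum T 3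
  simp only [Fin.sum_univ_four] at r3
  rw [a30, a31, a32, a33] at r3
  have e3 : x30 * T.m 0 + x31 * T.m 1 + x32 * T.m 2 = 2 * T.m 3 := by
    have : T.w 3 * (x30 * T.m 0 + x31 * T.m 1 + x32 * T.m 2 - 2 * T.m 3) = 0 := by linear_combination r3
    rcases mul_eq_zero.mp this with h | h
    · omega
    · linarith
  clear r3
  have d01 := two_pair T (by norm_num : 2 < 4) ((pairEmb 0 1 (by decide)).trans v) (fun _ => hv _)
  change (N T v 0 1 = 0 ∧ N T v 1 0 = 0) ∨ (N T v 0 1 = 1 ∧ N T v 1 0 = 1) ∨ (N T v 0 1 = 1 ∧ N T v 1 0 = 2) ∨ (N T v 0 1 = 2 ∧ N T v 1 0 = 1) ∨ (N T v 0 1 = 1 ∧ N T v 1 0 = 3) ∨ (N T v 0 1 = 3 ∧ N T v 1 0 = 1) at d01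
  rw [← hx01, ← hx10] at d01
  rcases d01 with ⟨rfl, rfl⟩ | ⟨rfl, rfl⟩ | ⟨rfl, rfl⟩ | ⟨rfl, rfl⟩ | ⟨rfl, rfl⟩ | ⟨rfl, rfl⟩
  · -- 01=(0,0)
    have d02 := two_pair T (by norm_num : 2 < 4) ((pairEmb 0 2 (by decide)).trans v) (fun _ => hv _)
    change (N T v 0 2 = 0 ∧ N T v 2 0 = 0) ∨ (N T v 0 2 = 1 ∧ N T v 2 0 = 1) ∨ (N T v 0 2 = 1 ∧ N T v 2 0 = 2) ∨ (N T v 0 2 = 2 ∧ N T v 2 0 = 1) ∨ (N T v 0 2 = 1 ∧ N T v 2 0 = 3) ∨ (N T v 0 2 = 3 ∧ N T v 2 0 = 1) at d02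
    rw [← hx02, ← hx20] at d02
    rcases d02 with ⟨rfl, rfl⟩ | ⟨rfl, rfl⟩ | ⟨rfl, rfl⟩ | ⟨rfl, rfl⟩ | ⟨rfl, rfl⟩ | ⟨rfl, rfl⟩
    · -- 02=(0,0)
      have d12 := two_pair T (by norm_num : 2 < 4) ((pairEmb 1 2 (by decide)).trans v) (fun _ => hv _)
      change (N T v 1 2 = 0 ∧ N T v 2 1 = 0) ∨ (N T v 1 2 = 1 ∧ N T v 2 1 = 1) ∨ (N T v 1 2 = 1 ∧ N T v 2 1 = 2) ∨ (N T v 1 2 = 2 ∧ N T v 2 1 = 1) ∨ (N T v 1 2 = 1 ∧ N T v 2 1 = 3) ∨ (N T v 1 2 = 3 ∧ N T v 2 1 = 1) at d12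
      rw [← hx12, ← hx21] at d12
      rcases d12 with ⟨rfl, rfl⟩ | ⟨rfl, rfl⟩ | ⟨rfl, rfl⟩ | ⟨rfl, rfl⟩ | ⟨rfl, rfl⟩ | ⟨rfl, rfl⟩
      · -- 12=(0,0)
        have d03 := two_pair T (by norm_num : 2 < 4) ((pairEmb 0 3 (by decide)).trans v) (fun _ => hv _)
        change (N T v 0 3 = 0 ∧ N T v 3 0 = 0) ∨ (N T v 0 3 = 1 ∧ N T v 3 0 = 1) ∨ (N T v 0 3 = 1 ∧ N T v 3 0 = 2) ∨ (N T v 0 3 = 2 ∧ N T v 3 0 = 1) ∨ (N T v 0 3 = 1 ∧ N T v 3 0 = 3) ∨ (N T v 0 3 = 3 ∧ N T v 3 0 = 1) at d03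
        rw [← hx03, ← hx30] at d03
        rcases d03 with ⟨rfl, rfl⟩ | ⟨rfl, rfl⟩ | ⟨rfl, rfl⟩ | ⟨rfl, rfl⟩ | ⟨rfl, rfl⟩ | ⟨rfl, rfl⟩
        · -- 03=(0,0)
          have d13 := two_pair T (by norm_num : 2 < 4) ((pairEmb 1 3 (by decide)).trans v) (fun _ => hv _)
          change (N T v 1 3 = 0 ∧ N T v 3 1 = 0) ∨ (N T v 1 3 = 1 ∧ N T v 3 1 = 1) ∨ (N T v 1 3 = 1 ∧ N T v 3 1 = 2) ∨ (N T v 1 3 = 2 ∧ N T v 3 1 = 1) ∨ (N T v 1 3 = 1 ∧ N T v 3 1 = 3) ∨ (N T v 1 3 = 3 ∧ N T v 3 1 = 1) at d13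
          rw [← hx13, ← hx31] at d13
          rcases d13 with ⟨rfl, rfl⟩ | ⟨rfl, rfl⟩ | ⟨rfl, rfl⟩ | ⟨rfl, rfl⟩ | ⟨rfl, rfl⟩ | ⟨rfl, rfl⟩
          · -- 13=(0,0)
            have d23 := two_pair T (by norm_num : 2 < 4) ((pairEmb 2 3 (by decide)).trans v) (fun _ => hv _)
            change (N T v 2 3 = 0 ∧ N T v 3 2 = 0) ∨ (N T v 2 3 = 1 ∧ N T v 3 2 = 1) ∨ (N T v 2 3 = 1 ∧ N T v 3 2 = 2) ∨ (N T v 2 3 = 2 ∧ N T v 3 2 = 1) ∨ (N T v 2 3 = 1 ∧ N T v 3 2 = 3) ∨ (N T v 2 3 = 3 ∧ N T v 3 2 = 1) at d23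
            rw [← hx23, ← hx32] at d23
            rcases d23 with ⟨rfl, rfl⟩ | ⟨rfl, rfl⟩ | ⟨rfl, rfl⟩ | ⟨rfl, rfl⟩ | ⟨rfl, rfl⟩ | ⟨rfl, rfl⟩
            · -- 23=(0,0)
              exfalso; omega
            · -- 23=(1,1)
              exfalso; omega
            · -- 23=(1,2)
              exfalso; omega
            · -- 23=(2,1)
              exfalso; omega
            · -- 23=(1,3)
              exfalso; omega
            · -- 23=(3,1)
              exfalso; omega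
          · -- 13=(1,1)
            have d23 := two_pair T (by norm_num : 2 < 4) ((pairEmb 2 3 (by decide)).trans v) (fun _ => hv _)
            change (N T v 2 3 = 0 ∧ N T v 3 2 = 0) ∨ (N T v 2 3 = 1 ∧ N T v 3 2 = 1) ∨ (N T v 2 3 = 1 ∧ N T v 3 2 = 2) ∨ (N T v 2 3 = 2 ∧ N T v 3 2 = 1) ∨ (N T v 2 3 = 1 ∧ N T v 3 2 = 3) ∨ (N T v 2 3 = 3 ∧ N T v 3 2 = 1) at d23
            rw [← hx23, ← hx32] at d23
            rcases d23 with ⟨rfl, rfl⟩ | ⟨rfl, rfl⟩ | ⟨rfl, rfl⟩ | ⟨rfl, rfl⟩ | ⟨rfl, rfl⟩ | ⟨rfl, rfl⟩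
            · -- 23=(0,0)
              exfalso; omega
            · -- 23=(1,1)
              exfalso; omega
            · -- 23=(1,2)
              exfalso; omega
            · -- 23=(2,1)
              exfalso; omega
            · -- 23=(1,3)
              exact False.elim (cert_false T ((skipEmb 0).trans v) (by norm_num) (fun _ => hv _) (((((LB_zero T ((skipEmb 0).trans v)).upd 0 2 1 (le_of_eq hx13)).upd 1 2 1 (le_of_eq hx23)).upd 2 0 1 (le_of_eq hx31)).upd 2 1 3 (le_of_eq hx32)) ![1,1,2] (by decide) (by decide) 0 (by decide))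
            · -- 23=(3,1)
              exact False.elim (cert_false T ((skipEmb 0).trans v) (by norm_num) (fun _ => hv _) (((((LB_zero T ((skipEmb 0).trans v)).upd 0 2 1 (le_of_eq hx13)).upd 1 2 3 (le_of_eq hx23)).upd 2 0 1 (le_of_eq hx31)).upd 2 1 1 (le_of_eq hx32)) ![1,3,2] (by decide) (by decide) 0 (by decide))
          · -- 13=(1,2)
            have d23 := two_pair T (by norm_num : 2 < 4) ((pairEmb 2 3 (by decide)).trans v) (fun _ => hv _)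
            change (N T v 2 3 = 0 ∧ N T v 3 2 = 0) ∨ (N T v 2 3 = 1 ∧ N T v 3 2 = 1) ∨ (N T v 2 3 = 1 ∧ N T v 3 2 = 2) ∨ (N T v 2 3 = 2 ∧ N T v 3 2 = 1) ∨ (N T v 2 3 = 1 ∧ N T v 3 2 = 3) ∨ (N T v 2 3 = 3 ∧ N T v 3 2 = 1) at d23
            rw [← hx23, ← hx32] at d23
            rcases d23 with ⟨rfl, rfl⟩ | ⟨rfl, rfl⟩ | ⟨rfl, rfl⟩ | ⟨rfl, rfl⟩ | ⟨rfl, rfl⟩ | ⟨rfl, rfl⟩
            · -- 23=(0,0)
              exfalso; omega
            · -- 23=(1,1)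
              exfalso; omega
            · -- 23=(1,2)
              exact False.elim (cert_false T ((skipEmb 0).trans v) (by norm_num) (fun _ => hv _) (((((LB_zero T ((skipEmb 0).trans v)).upd 0 2 1 (le_of_eq hx13)).upd 1 2 1 (le_of_eq hx23)).upd 2 0 2 (le_of_eq hx31)).upd 2 1 2 (le_of_eq hx32)) ![1,1,2] (by decide) (by decide) 0 (by decide))
            · -- 23=(2,1)
              exact False.elim (cert_false T ((skipEmb 0).trans v) (by norm_num) (fun _ => hv _) (((((LB_zero T ((skipEmb 0).trans v)).upd 0 2 1 (le_of_eq hx13)).upd 1 2 2 (le_of_eq hx23)).upd 2 0 2 (le_of_eq hx31)).upd 2 1 1 (le_of_eq hx32)) ![1,2,2] (by decide) (by decide) 0 (by decide))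
            · -- 23=(1,3)
              exact False.elim (cert_false T ((skipEmb 0).trans v) (by norm_num) (fun _ => hv _) (((((LB_zero T ((skipEmb 0).trans v)).upd 0 2 1 (le_of_eq hx13)).upd 1 2 1 (le_of_eq hx23)).upd 2 0 2 (le_of_eq hx31)).upd 2 1 3 (le_of_eq hx32)) ![1,1,2] (by decide) (by decide) 0 (by decide))
            · -- 23=(3,1)
              exact False.elim (cert_false T ((skipEmb 0).trans v) (by norm_num) (fun _ => hv _) (((((LB_zero T ((skipEmb 0).trans v)).upd 0 2 1 (le_of_eq hx13)).upd 1 2 3 (le_of_eq hx23)).upd 2 0 2 (le_of_eq hx31)).upd 2 1 1 (le_of_eq hx32)) ![1,2,2] (by decide) (by decide) 0 (by decide))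
          · -- 13=(2,1)
            have d23 := two_pair T (by norm_num : 2 < 4) ((pairEmb 2 3 (by decide)).trans v) (fun _ => hv _)
            change (N T v 2 3 = 0 ∧ N T v 3 2 = 0) ∨ (N T v 2 3 = 1 ∧ N T v 3 2 = 1) ∨ (N T v 2 3 = 1 ∧ N T v 3 2 = 2) ∨ (N T v 2 3 = 2 ∧ N T v 3 2 = 1) ∨ (N T v 2 3 = 1 ∧ N T v 3 2 = 3) ∨ (N T v 2 3 = 3 ∧ N T v 3 2 = 1) at d23
            rw [← hx23, ← hx32] at d23
            rcases d23 with ⟨rfl, rfl⟩ | ⟨rfl, rfl⟩ | ⟨rfl, rfl⟩ | ⟨rfl, rfl⟩ | ⟨rfl, rfl⟩ | ⟨rfl, rfl⟩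
            · -- 23=(0,0)
              exfalso; omega
            · -- 23=(1,1)
              exfalso; omega
            · -- 23=(1,2)
              exact False.elim (cert_false T ((skipEmb 0).trans v) (by norm_num) (fun _ => hv _) (((((LB_zero T ((skipEmb 0).trans v)).upd 0 2 2 (le_of_eq hx13)).upd 1 2 1 (le_of_eq hx23)).upd 2 0 1 (le_of_eq hx31)).upd 2 1 2 (le_of_eq hx32)) ![2,1,2] (by decide) (by decide) 0 (by decide))
            · -- 23=(2,1)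
              exact False.elim (cert_false T ((skipEmb 0).trans v) (by norm_num) (fun _ => hv _) (((((LB_zero T ((skipEmb 0).trans v)).upd 0 2 2 (le_of_eq hx13)).upd 1 2 2 (le_of_eq hx23)).upd 2 0 1 (le_of_eq hx31)).upd 2 1 1 (le_of_eq hx32)) ![1,1,1] (by decide) (by decide) 0 (by decide))
            · -- 23=(1,3)
              exact False.elim (cert_false T ((skipEmb 0).trans v) (by norm_num) (fun _ => hv _) (((((LB_zero T ((skipEmb 0).trans v)).upd 0 2 2 (le_of_eq hx13)).upd 1 2 1 (le_of_eq hx23)).upd 2 0 1 (le_of_eq hx31)).upd 2 1 3 (le_of_eq hx32)) ![1,1,2] (by decide) (by decide) 0 (by decide))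
            · -- 23=(3,1)
              exact False.elim (cert_false T ((skipEmb 0).trans v) (by norm_num) (fun _ => hv _) (((((LB_zero T ((skipEmb 0).trans v)).upd 0 2 2 (le_of_eq hx13)).upd 1 2 3 (le_of_eq hx23)).upd 2 0 1 (le_of_eq hx31)).upd 2 1 1 (le_of_eq hx32)) ![1,1,1] (by decide) (by decide) 0 (by decide))
          · -- 13=(1,3)
            have d23 := two_pair T (by norm_num : 2 < 4) ((pairEmb 2 3 (by decide)).trans v) (fun _ => hv _)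
            change (N T v 2 3 = 0 ∧ N T v 3 2 = 0) ∨ (N T v 2 3 = 1 ∧ N T v 3 2 = 1) ∨ (N T v 2 3 = 1 ∧ N T v 3 2 = 2) ∨ (N T v 2 3 = 2 ∧ N T v 3 2 = 1) ∨ (N T v 2 3 = 1 ∧ N T v 3 2 = 3) ∨ (N T v 2 3 = 3 ∧ N T v 3 2 = 1) at d23
            rw [← hx23, ← hx32] at d23
            rcases d23 with ⟨rfl, rfl⟩ | ⟨rfl, rfl⟩ | ⟨rfl, rfl⟩ | ⟨rfl, rfl⟩ | ⟨rfl, rfl⟩ | ⟨rfl, rfl⟩
            · -- 23=(0,0)
              exfalso; omega
            · -- 23=(1,1)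
              exact False.elim (cert_false T ((skipEmb 0).trans v) (by norm_num) (fun _ => hv _) (((((LB_zero T ((skipEmb 0).trans v)).upd 0 2 1 (le_of_eq hx13)).upd 1 2 1 (le_of_eq hx23)).upd 2 0 3 (le_of_eq hx31)).upd 2 1 1 (le_of_eq hx32)) ![1,1,2] (by decide) (by decide) 0 (by decide))
            · -- 23=(1,2)
              exact False.elim (cert_false T ((skipEmb 0).trans v) (by norm_num) (fun _ => hv _) (((((LB_zero T ((skipEmb 0).trans v)).upd 0 2 1 (le_of_eq hx13)).upd 1 2 1 (le_of_eq hx23)).upd 2 0 3 (le_of_eq hx31)).upd 2 1 2 (le_of_eq hx32)) ![1,1,2] (by decide) (by decide) 0 (by decide))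
            · -- 23=(2,1)
              exact False.elim (cert_false T ((skipEmb 0).trans v) (by norm_num) (fun _ => hv _) (((((LB_zero T ((skipEmb 0).trans v)).upd 0 2 1 (le_of_eq hx13)).upd 1 2 2 (le_of_eq hx23)).upd 2 0 3 (le_of_eq hx31)).upd 2 1 1 (le_of_eq hx32)) ![1,1,2] (by decide) (by decide) 0 (by decide))
            · -- 23=(1,3)
              exact False.elim (cert_false T ((skipEmb 0).trans v) (by norm_num) (fun _ => hv _) (((((LB_zero T ((skipEmb 0).trans v)).upd 0 2 1 (le_of_eq hx13)).upd 1 2 1 (le_of_eq hx23)).upd 2 0 3 (le_of_eq hx31)).upd 2 1 3 (le_of_eq hx32)) ![1,1,2] (by decide) (by decide) 0 (by decide))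
            · -- 23=(3,1)
              exact False.elim (cert_false T ((skipEmb 0).trans v) (by norm_num) (fun _ => hv _) (((((LB_zero T ((skipEmb 0).trans v)).upd 0 2 1 (le_of_eq hx13)).upd 1 2 3 (le_of_eq hx23)).upd 2 0 3 (le_of_eq hx31)).upd 2 1 1 (le_of_eq hx32)) ![1,1,2] (by decide) (by decide) 0 (by decide))
          · -- 13=(3,1)
            have d23 := two_pair T (by norm_num : 2 < 4) ((pairEmb 2 3 (by decide)).trans v) (fun _ => hv _)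
            change (N T v 2 3 = 0 ∧ N T v 3 2 = 0) ∨ (N T v 2 3 = 1 ∧ N T v 3 2 = 1) ∨ (N T v 2 3 = 1 ∧ N T v 3 2 = 2) ∨ (N T v 2 3 = 2 ∧ N T v 3 2 = 1) ∨ (N T v 2 3 = 1 ∧ N T v 3 2 = 3) ∨ (N T v 2 3 = 3 ∧ N T v 3 2 = 1) at d23
            rw [← hx23, ← hx32] at d23
            rcases d23 with ⟨rfl, rfl⟩ | ⟨rfl, rfl⟩ | ⟨rfl, rfl⟩ | ⟨rfl, rfl⟩ | ⟨rfl, rfl⟩ | ⟨rfl, rfl⟩
            · -- 23=(0,0)
              exfalso; omega
            · -- 23=(1,1)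
              exact False.elim (cert_false T ((skipEmb 0).trans v) (by norm_num) (fun _ => hv _) (((((LB_zero T ((skipEmb 0).trans v)).upd 0 2 3 (le_of_eq hx13)).upd 1 2 1 (le_of_eq hx23)).upd 2 0 1 (le_of_eq hx31)).upd 2 1 1 (le_of_eq hx32)) ![3,1,2] (by decide) (by decide) 0 (by decide))
            · -- 23=(1,2)
              exact False.elim (cert_false T ((skipEmb 0).trans v) (by norm_num) (fun _ => hv _) (((((LB_zero T ((skipEmb 0).trans v)).upd 0 2 3 (le_of_eq hx13)).upd 1 2 1 (le_of_eq hx23)).upd 2 0 1 (le_of_eq hx31)).upd 2 1 2 (le_of_eq hx32)) ![2,1,2] (by decide) (by decide) 0 (by decide))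
            · -- 23=(2,1)
              exact False.elim (cert_false T ((skipEmb 0).trans v) (by norm_num) (fun _ => hv _) (((((LB_zero T ((skipEmb 0).trans v)).upd 0 2 3 (le_of_eq hx13)).upd 1 2 2 (le_of_eq hx23)).upd 2 0 1 (le_of_eq hx31)).upd 2 1 1 (le_of_eq hx32)) ![1,1,1] (by decide) (by decide) 0 (by decide))
            · -- 23=(1,3)
              exact False.elim (cert_false T ((skipEmb 0).trans v) (by norm_num) (fun _ => hv _) (((((LB_zero T ((skipEmb 0).trans v)).upd 0 2 3 (le_of_eq hx13)).upd 1 2 1 (le_of_eq hx23)).upd 2 0 1 (le_of_eq hx31)).upd 2 1 3 (le_of_eq hx32)) ![1,1,2] (by decide) (by decide) 0 (by decide))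
            · -- 23=(3,1)
              exact False.elim (cert_false T ((skipEmb 0).trans v) (by norm_num) (fun _ => hv _) (((((LB_zero T ((skipEmb 0).trans v)).upd 0 2 3 (le_of_eq hx13)).upd 1 2 3 (le_of_eq hx23)).upd 2 0 1 (le_of_eq hx31)).upd 2 1 1 (le_of_eq hx32)) ![1,1,1] (by decide) (by decide) 0 (by decide))
        · -- 03=(1,1)
          have d13 := two_pair T (by norm_num : 2 < 4) ((pairEmb 1 3 (by decide)).trans v) (fun _ => hv _)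
          change (N T v 1 3 = 0 ∧ N T v 3 1 = 0) ∨ (N T v 1 3 = 1 ∧ N T v 3 1 = 1) ∨ (N T v 1 3 = 1 ∧ N T v 3 1 = 2) ∨ (N T v 1 3 = 2 ∧ N T v 3 1 = 1) ∨ (N T v 1 3 = 1 ∧ N T v 3 1 = 3) ∨ (N T v 1 3 = 3 ∧ N T v 3 1 = 1) at d13
          rw [← hx13, ← hx31] at d13
          rcases d13 with ⟨rfl, rfl⟩ | ⟨rfl, rfl⟩ | ⟨rfl, rfl⟩ | ⟨rfl, rfl⟩ | ⟨rfl, rfl⟩ | ⟨rfl, rfl⟩
          · -- 13=(0,0)
            have d23 := two_pair T (by norm_num : 2 < 4) ((pairEmb 2 3 (by decide)).trans v) (fun _ => hv _)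
            change (N T v 2 3 = 0 ∧ N T v 3 2 = 0) ∨ (N T v 2 3 = 1 ∧ N T v 3 2 = 1) ∨ (N T v 2 3 = 1 ∧ N T v 3 2 = 2) ∨ (N T v 2 3 = 2 ∧ N T v 3 2 = 1) ∨ (N T v 2 3 = 1 ∧ N T v 3 2 = 3) ∨ (N T v 2 3 = 3 ∧ N T v 3 2 = 1) at d23
            rw [← hx23, ← hx32] at d23
            rcases d23 with ⟨rfl, rfl⟩ | ⟨rfl, rfl⟩ | ⟨rfl, rfl⟩ | ⟨rfl, rfl⟩ | ⟨rfl, rfl⟩ | ⟨rfl, rfl⟩
            · -- 23=(0,0)
              exfalso; omega
            · -- 23=(1,1)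
              exfalso; omega
            · -- 23=(1,2)
              exfalso; omega
            · -- 23=(2,1)
              exfalso; omega
            · -- 23=(1,3)
              exact False.elim (cert_false T ((skipEmb 1).trans v) (by norm_num) (fun _ => hv _) (((((LB_zero T ((skipEmb 1).trans v)).upd 0 2 1 (le_of_eq hx03)).upd 1 2 1 (le_of_eq hx23)).upd 2 0 1 (le_of_eq hx30)).upd 2 1 3 (le_of_eq hx32)) ![1,1,2] (by decide) (by decide) 0 (by decide))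
            · -- 23=(3,1)
              exact False.elim (cert_false T ((skipEmb 1).trans v) (by norm_num) (fun _ => hv _) (((((LB_zero T ((skipEmb 1).trans v)).upd 0 2 1 (le_of_eq hx03)).upd 1 2 3 (le_of_eq hx23)).upd 2 0 1 (le_of_eq hx30)).upd 2 1 1 (le_of_eq hx32)) ![1,3,2] (by decide) (by decide) 0 (by decide))
          · -- 13=(1,1)
            have d23 := two_pair T (by norm_num : 2 < 4) ((pairEmb 2 3 (by decide)).trans v) (fun _ => hv _)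
            change (N T v 2 3 = 0 ∧ N T v 3 2 = 0) ∨ (N T v 2 3 = 1 ∧ N T v 3 2 = 1) ∨ (N T v 2 3 = 1 ∧ N T v 3 2 = 2) ∨ (N T v 2 3 = 2 ∧ N T v 3 2 = 1) ∨ (N T v 2 3 = 1 ∧ N T v 3 2 = 3) ∨ (N T v 2 3 = 3 ∧ N T v 3 2 = 1) at d23
            rw [← hx23, ← hx32] at d23
            rcases d23 with ⟨rfl, rfl⟩ | ⟨rfl, rfl⟩ | ⟨rfl, rfl⟩ | ⟨rfl, rfl⟩ | ⟨rfl, rfl⟩ | ⟨rfl, rfl⟩
            · -- 23=(0,0)
              exfalso; omega
            · -- 23=(1,1)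
              exfalso; omega
            · -- 23=(1,2)
              refine ⟨(⟨![3, 0, 1, 2], ![1, 2, 3, 0], by decide, by decide⟩ : Equiv.Perm (Fin 4)), T.m 0, T.w 3, Or.inr (Or.inr (Or.inr (Or.inr (Or.inl ?_))))⟩
              show T.m 3 = 2 * T.m 0 ∧ T.m 0 = T.m 0 ∧ T.m 1 = T.m 0 ∧ T.m 2 = T.m 0 ∧ T.w 3 = T.w 3 ∧ T.w 0 = T.w 3 ∧ T.w 1 = T.w 3 ∧ T.w 2 = 2 * T.w 3 ∧ T.a 3 3 = -2 * T.w 3 ∧ T.a 3 0 = T.w 3 ∧ T.a 3 1 = T.w 3 ∧ T.a 3 2 = 2 * T.w 3 ∧ T.a 0 0 = -2 * T.w 3 ∧ T.a 0 1 = 0 ∧ T.a 0 2 = 0 ∧ T.a 1 1 = -2 * T.w 3 ∧ T.a 1 2 = 0 ∧ T.a 2 2 = -4 * T.w 3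
              refine ⟨?_, ?_, ?_, ?_, ?_, ?_, ?_, ?_, ?_, ?_, ?_, ?_, ?_, ?_, ?_, ?_, ?_, ?_⟩ <;> omega
            · -- 23=(2,1)
              refine ⟨(⟨![3, 0, 1, 2], ![1, 2, 3, 0], by decide, by decide⟩ : Equiv.Perm (Fin 4)), T.m 0, T.w 2, Or.inr (Or.inr (Or.inr (Or.inr (Or.inr (?_)))))⟩
              show T.m 3 = 2 * T.m 0 ∧ T.m 0 = T.m 0 ∧ T.m 1 = T.m 0 ∧ T.m 2 = 2 * T.m 0 ∧ T.w 3 = 2 * T.w 2 ∧ T.w 0 = 2 * T.w 2 ∧ T.w 1 = 2 * T.w 2 ∧ T.w 2 = T.w 2 ∧ T.a 3 3 = -4 * T.w 2 ∧ T.a 3 0 = 2 * T.w 2 ∧ T.a 3 1 = 2 * T.w 2 ∧ T.a 3 2 = 2 * T.w 2 ∧ T.a 0 0 = -4 * T.w 2 ∧ T.a 0 1 = 0 ∧ T.a 0 2 = 0 ∧ T.a 1 1 = -4 * T.w 2 ∧ T.a 1 2 = 0 ∧ T.a 2 2 = -2 * T.w 2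
              refine ⟨?_, ?_, ?_, ?_, ?_, ?_, ?_, ?_, ?_, ?_, ?_, ?_, ?_, ?_, ?_, ?_, ?_, ?_⟩ <;> omega
            · -- 23=(1,3)
              exact False.elim (cert_false T ((skipEmb 1).trans v) (by norm_num) (fun _ => hv _) (((((LB_zero T ((skipEmb 1).trans v)).upd 0 2 1 (le_of_eq hx03)).upd 1 2 1 (le_of_eq hx23)).upd 2 0 1 (le_of_eq hx30)).upd 2 1 3 (le_of_eq hx32)) ![1,1,2] (by decide) (by decide) 0 (by decide))
            · -- 23=(3,1)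
              exact False.elim (cert_false T ((skipEmb 1).trans v) (by norm_num) (fun _ => hv _) (((((LB_zero T ((skipEmb 1).trans v)).upd 0 2 1 (le_of_eq hx03)).upd 1 2 3 (le_of_eq hx23)).upd 2 0 1 (le_of_eq hx30)).upd 2 1 1 (le_of_eq hx32)) ![1,3,2] (by decide) (by decide) 0 (by decide))
          · -- 13=(1,2)
            have d23 := two_pair T (by norm_num : 2 < 4) ((pairEmb 2 3 (by decide)).trans v) (fun _ => hv _)
            change (N T v 2 3 = 0 ∧ N T v 3 2 = 0) ∨ (N T v 2 3 = 1 ∧ N T v 3 2 = 1) ∨ (N T v 2 3 = 1 ∧ N T v 3 2 = 2) ∨ (N T v 2 3 = 2 ∧ N T v 3 2 = 1) ∨ (N T v 2 3 = 1 ∧ N T v 3 2 = 3) ∨ (N T v 2 3 = 3 ∧ N T v 3 2 = 1) at d23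
            rw [← hx23, ← hx32] at d23
            rcases d23 with ⟨rfl, rfl⟩ | ⟨rfl, rfl⟩ | ⟨rfl, rfl⟩ | ⟨rfl, rfl⟩ | ⟨rfl, rfl⟩ | ⟨rfl, rfl⟩
            · -- 23=(0,0)
              exfalso; omega
            · -- 23=(1,1)
              refine ⟨(⟨![3, 0, 2, 1], ![1, 3, 2, 0], by decide, by decide⟩ : Equiv.Perm (Fin 4)), T.m 0, T.w 3, Or.inr (Or.inr (Or.inr (Or.inr (Or.inl ?_))))⟩
              show T.m 3 = 2 * T.m 0 ∧ T.m 0 = T.m 0 ∧ T.m 2 = T.m 0 ∧ T.m 1 = T.m 0 ∧ T.w 3 = T.w 3 ∧ T.w 0 = T.w 3 ∧ T.w 2 = T.w 3 ∧ T.w 1 = 2 * T.w 3 ∧ T.a 3 3 = -2 * T.w 3 ∧ T.a 3 0 = T.w 3 ∧ T.a 3 2 = T.w 3 ∧ T.a 3 1 = 2 * T.w 3 ∧ T.a 0 0 = -2 * T.w 3 ∧ T.a 0 2 = 0 ∧ T.a 0 1 = 0 ∧ T.a 2 2 = -2 * T.w 3 ∧ T.a 2 1 = 0 ∧ T.a 1 1 = -4 * T.w 3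
              refine ⟨?_, ?_, ?_, ?_, ?_, ?_, ?_, ?_, ?_, ?_, ?_, ?_, ?_, ?_, ?_, ?_, ?_, ?_⟩ <;> omega
            · -- 23=(1,2)
              exact False.elim (cert_false T ((skipEmb 0).trans v) (by norm_num) (fun _ => hv _) (((((LB_zero T ((skipEmb 0).trans v)).upd 0 2 1 (le_of_eq hx13)).upd 1 2 1 (le_of_eq hx23)).upd 2 0 2 (le_of_eq hx31)).upd 2 1 2 (le_of_eq hx32)) ![1,1,2] (by decide) (by decide) 0 (by decide))
            · -- 23=(2,1)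
              exact False.elim (cert_false T ((skipEmb 0).trans v) (by norm_num) (fun _ => hv _) (((((LB_zero T ((skipEmb 0).trans v)).upd 0 2 1 (le_of_eq hx13)).upd 1 2 2 (le_of_eq hx23)).upd 2 0 2 (le_of_eq hx31)).upd 2 1 1 (le_of_eq hx32)) ![1,2,2] (by decide) (by decide) 0 (by decide))
            · -- 23=(1,3)
              exact False.elim (cert_false T ((skipEmb 1).trans v) (by norm_num) (fun _ => hv _) (((((LB_zero T ((skipEmb 1).trans v)).upd 0 2 1 (le_of_eq hx03)).upd 1 2 1 (le_of_eq hx23)).upd 2 0 1 (le_of_eq hx30)).upd 2 1 3 (le_of_eq hx32)) ![1,1,2] (by decide) (by decide) 0 (by decide))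
            · -- 23=(3,1)
              exact False.elim (cert_false T ((skipEmb 1).trans v) (by norm_num) (fun _ => hv _) (((((LB_zero T ((skipEmb 1).trans v)).upd 0 2 1 (le_of_eq hx03)).upd 1 2 3 (le_of_eq hx23)).upd 2 0 1 (le_of_eq hx30)).upd 2 1 1 (le_of_eq hx32)) ![1,3,2] (by decide) (by decide) 0 (by decide))
          · -- 13=(2,1)
            have d23 := two_pair T (by norm_num : 2 < 4) ((pairEmb 2 3 (by decide)).trans v) (fun _ => hv _)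
            change (N T v 2 3 = 0 ∧ N T v 3 2 = 0) ∨ (N T v 2 3 = 1 ∧ N T v 3 2 = 1) ∨ (N T v 2 3 = 1 ∧ N T v 3 2 = 2) ∨ (N T v 2 3 = 2 ∧ N T v 3 2 = 1) ∨ (N T v 2 3 = 1 ∧ N T v 3 2 = 3) ∨ (N T v 2 3 = 3 ∧ N T v 3 2 = 1) at d23
            rw [← hx23, ← hx32] at d23
            rcases d23 with ⟨rfl, rfl⟩ | ⟨rfl, rfl⟩ | ⟨rfl, rfl⟩ | ⟨rfl, rfl⟩ | ⟨rfl, rfl⟩ | ⟨rfl, rfl⟩
            · -- 23=(0,0)
              exfalso; omega
            · -- 23=(1,1)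
              refine ⟨(⟨![3, 0, 2, 1], ![1, 3, 2, 0], by decide, by decide⟩ : Equiv.Perm (Fin 4)), T.m 0, T.w 1, Or.inr (Or.inr (Or.inr (Or.inr (Or.inr (?_)))))⟩
              show T.m 3 = 2 * T.m 0 ∧ T.m 0 = T.m 0 ∧ T.m 2 = T.m 0 ∧ T.m 1 = 2 * T.m 0 ∧ T.w 3 = 2 * T.w 1 ∧ T.w 0 = 2 * T.w 1 ∧ T.w 2 = 2 * T.w 1 ∧ T.w 1 = T.w 1 ∧ T.a 3 3 = -4 * T.w 1 ∧ T.a 3 0 = 2 * T.w 1 ∧ T.a 3 2 = 2 * T.w 1 ∧ T.a 3 1 = 2 * T.w 1 ∧ T.a 0 0 = -4 * T.w 1 ∧ T.a 0 2 = 0 ∧ T.a 0 1 = 0 ∧ T.a 2 2 = -4 * T.w 1 ∧ T.a 2 1 = 0 ∧ T.a 1 1 = -2 * T.w 1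
              refine ⟨?_, ?_, ?_, ?_, ?_, ?_, ?_, ?_, ?_, ?_, ?_, ?_, ?_, ?_, ?_, ?_, ?_, ?_⟩ <;> omega
            · -- 23=(1,2)
              exact False.elim (cert_false T ((skipEmb 0).trans v) (by norm_num) (fun _ => hv _) (((((LB_zero T ((skipEmb 0).trans v)).upd 0 2 2 (le_of_eq hx13)).upd 1 2 1 (le_of_eq hx23)).upd 2 0 1 (le_of_eq hx31)).upd 2 1 2 (le_of_eq hx32)) ![2,1,2] (by decide) (by decide) 0 (by decide))
            · -- 23=(2,1)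
              exact False.elim (cert_false T ((skipEmb 0).trans v) (by norm_num) (fun _ => hv _) (((((LB_zero T ((skipEmb 0).trans v)).upd 0 2 2 (le_of_eq hx13)).upd 1 2 2 (le_of_eq hx23)).upd 2 0 1 (le_of_eq hx31)).upd 2 1 1 (le_of_eq hx32)) ![1,1,1] (by decide) (by decide) 0 (by decide))
            · -- 23=(1,3)
              exact False.elim (cert_false T ((skipEmb 1).trans v) (by norm_num) (fun _ => hv _) (((((LB_zero T ((skipEmb 1).trans v)).upd 0 2 1 (le_of_eq hx03)).upd 1 2 1 (le_of_eq hx23)).upd 2 0 1 (le_of_eq hx30)).upd 2 1 3 (le_of_eq hx32)) ![1,1,2] (by decide) (by decide) 0 (by decide))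
            · -- 23=(3,1)
              exact False.elim (cert_false T ((skipEmb 1).trans v) (by norm_num) (fun _ => hv _) (((((LB_zero T ((skipEmb 1).trans v)).upd 0 2 1 (le_of_eq hx03)).upd 1 2 3 (le_of_eq hx23)).upd 2 0 1 (le_of_eq hx30)).upd 2 1 1 (le_of_eq hx32)) ![1,3,2] (by decide) (by decide) 0 (by decide))
          · -- 13=(1,3)
            exact False.elim (cert_false T ((skipEmb 2).trans v) (by norm_num) (fun _ => hv _) (((((LB_zero T ((skipEmb 2).trans v)).upd 0 2 1 (le_of_eq hx03)).upd 1 2 1 (le_of_eq hx13)).upd 2 0 1 (le_of_eq hx30)).upd 2 1 3 (le_of_eq hx31)) ![1,1,2] (by decide) (by decide) 0 (by decide))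
          · -- 13=(3,1)
            exact False.elim (cert_false T ((skipEmb 2).trans v) (by norm_num) (fun _ => hv _) (((((LB_zero T ((skipEmb 2).trans v)).upd 0 2 1 (le_of_eq hx03)).upd 1 2 3 (le_of_eq hx13)).upd 2 0 1 (le_of_eq hx30)).upd 2 1 1 (le_of_eq hx31)) ![1,3,2] (by decide) (by decide) 0 (by decide))
        · -- 03=(1,2)
          have d13 := two_pair T (by norm_num : 2 < 4) ((pairEmb 1 3 (by decide)).trans v) (fun _ => hv _)
          change (N T v 1 3 = 0 ∧ N T v 3 1 = 0) ∨ (N T v 1 3 = 1 ∧ N T v 3 1 = 1) ∨ (N T v 1 3 = 1 ∧ N T v 3 1 = 2) ∨ (N T v 1 3 = 2 ∧ N T v 3 1 = 1) ∨ (N T v 1 3 = 1 ∧ N T v 3 1 = 3) ∨ (N T v 1 3 = 3 ∧ N T v 3 1 = 1) at d13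
          rw [← hx13, ← hx31] at d13
          rcases d13 with ⟨rfl, rfl⟩ | ⟨rfl, rfl⟩ | ⟨rfl, rfl⟩ | ⟨rfl, rfl⟩ | ⟨rfl, rfl⟩ | ⟨rfl, rfl⟩
          · -- 13=(0,0)
            have d23 := two_pair T (by norm_num : 2 < 4) ((pairEmb 2 3 (by decide)).trans v) (fun _ => hv _)
            change (N T v 2 3 = 0 ∧ N T v 3 2 = 0) ∨ (N T v 2 3 = 1 ∧ N T v 3 2 = 1) ∨ (N T v 2 3 = 1 ∧ N T v 3 2 = 2) ∨ (N T v 2 3 = 2 ∧ N T v 3 2 = 1) ∨ (N T v 2 3 = 1 ∧ N T v 3 2 = 3) ∨ (N T v 2 3 = 3 ∧ N T v 3 2 = 1) at d23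
            rw [← hx23, ← hx32] at d23
            rcases d23 with ⟨rfl, rfl⟩ | ⟨rfl, rfl⟩ | ⟨rfl, rfl⟩ | ⟨rfl, rfl⟩ | ⟨rfl, rfl⟩ | ⟨rfl, rfl⟩
            · -- 23=(0,0)
              exfalso; omega
            · -- 23=(1,1)
              exfalso; omega
            · -- 23=(1,2)
              exact False.elim (cert_false T ((skipEmb 1).trans v) (by norm_num) (fun _ => hv _) (((((LB_zero T ((skipEmb 1).trans v)).upd 0 2 1 (le_of_eq hx03)).upd 1 2 1 (le_of_eq hx23)).upd 2 0 2 (le_of_eq hx30)).upd 2 1 2 (le_of_eq hx32)) ![1,1,2] (by decide) (by decide) 0 (by decide))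
            · -- 23=(2,1)
              exact False.elim (cert_false T ((skipEmb 1).trans v) (by norm_num) (fun _ => hv _) (((((LB_zero T ((skipEmb 1).trans v)).upd 0 2 1 (le_of_eq hx03)).upd 1 2 2 (le_of_eq hx23)).upd 2 0 2 (le_of_eq hx30)).upd 2 1 1 (le_of_eq hx32)) ![1,2,2] (by decide) (by decide) 0 (by decide))
            · -- 23=(1,3)
              exact False.elim (cert_false T ((skipEmb 1).trans v) (by norm_num) (fun _ => hv _) (((((LB_zero T ((skipEmb 1).trans v)).upd 0 2 1 (le_of_eq hx03)).upd 1 2 1 (le_of_eq hx23)).upd 2 0 2 (le_of_eq hx30)).upd 2 1 3 (le_of_eq hx32)) ![1,1,2] (by decide) (by decide) 0 (by decide))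
            · -- 23=(3,1)
              exact False.elim (cert_false T ((skipEmb 1).trans v) (by norm_num) (fun _ => hv _) (((((LB_zero T ((skipEmb 1).trans v)).upd 0 2 1 (le_of_eq hx03)).upd 1 2 3 (le_of_eq hx23)).upd 2 0 2 (le_of_eq hx30)).upd 2 1 1 (le_of_eq hx32)) ![1,2,2] (by decide) (by decide) 0 (by decide))
          · -- 13=(1,1)
            have d23 := two_pair T (by norm_num : 2 < 4) ((pairEmb 2 3 (by decide)).trans v) (fun _ => hv _)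
            change (N T v 2 3 = 0 ∧ N T v 3 2 = 0) ∨ (N T v 2 3 = 1 ∧ N T v 3 2 = 1) ∨ (N T v 2 3 = 1 ∧ N T v 3 2 = 2) ∨ (N T v 2 3 = 2 ∧ N T v 3 2 = 1) ∨ (N T v 2 3 = 1 ∧ N T v 3 2 = 3) ∨ (N T v 2 3 = 3 ∧ N T v 3 2 = 1) at d23
            rw [← hx23, ← hx32] at d23
            rcases d23 with ⟨rfl, rfl⟩ | ⟨rfl, rfl⟩ | ⟨rfl, rfl⟩ | ⟨rfl, rfl⟩ | ⟨rfl, rfl⟩ | ⟨rfl, rfl⟩
            · -- 23=(0,0)
              exfalso; omega
            · -- 23=(1,1)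
              refine ⟨(⟨![3, 1, 2, 0], ![3, 1, 2, 0], by decide, by decide⟩ : Equiv.Perm (Fin 4)), T.m 1, T.w 3, Or.inr (Or.inr (Or.inr (Or.inr (Or.inl ?_))))⟩
              show T.m 3 = 2 * T.m 1 ∧ T.m 1 = T.m 1 ∧ T.m 2 = T.m 1 ∧ T.m 0 = T.m 1 ∧ T.w 3 = T.w 3 ∧ T.w 1 = T.w 3 ∧ T.w 2 = T.w 3 ∧ T.w 0 = 2 * T.w 3 ∧ T.a 3 3 = -2 * T.w 3 ∧ T.a 3 1 = T.w 3 ∧ T.a 3 2 = T.w 3 ∧ T.a 3 0 = 2 * T.w 3 ∧ T.a 1 1 = -2 * T.w 3 ∧ T.a 1 2 = 0 ∧ T.a 1 0 = 0 ∧ T.a 2 2 = -2 * T.w 3 ∧ T.a 2 0 = 0 ∧ T.a 0 0 = -4 * T.w 3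
              refine ⟨?_, ?_, ?_, ?_, ?_, ?_, ?_, ?_, ?_, ?_, ?_, ?_, ?_, ?_, ?_, ?_, ?_, ?_⟩ <;> omega
            · -- 23=(1,2)
              exact False.elim (cert_false T ((skipEmb 1).trans v) (by norm_num) (fun _ => hv _) (((((LB_zero T ((skipEmb 1).trans v)).upd 0 2 1 (le_of_eq hx03)).upd 1 2 1 (le_of_eq hx23)).upd 2 0 2 (le_of_eq hx30)).upd 2 1 2 (le_of_eq hx32)) ![1,1,2] (by decide) (by decide) 0 (by decide))
            · -- 23=(2,1)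
              exact False.elim (cert_false T ((skipEmb 1).trans v) (by norm_num) (fun _ => hv _) (((((LB_zero T ((skipEmb 1).trans v)).upd 0 2 1 (le_of_eq hx03)).upd 1 2 2 (le_of_eq hx23)).upd 2 0 2 (le_of_eq hx30)).upd 2 1 1 (le_of_eq hx32)) ![1,2,2] (by decide) (by decide) 0 (by decide))
            · -- 23=(1,3)
              exact False.elim (cert_false T ((skipEmb 1).trans v) (by norm_num) (fun _ => hv _) (((((LB_zero T ((skipEmb 1).trans v)).upd 0 2 1 (le_of_eq hx03)).upd 1 2 1 (le_of_eq hx23)).upd 2 0 2 (le_of_eq hx30)).upd 2 1 3 (le_of_eq hx32)) ![1,1,2] (by decide) (by decide) 0 (by decide))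
            · -- 23=(3,1)
              exact False.elim (cert_false T ((skipEmb 1).trans v) (by norm_num) (fun _ => hv _) (((((LB_zero T ((skipEmb 1).trans v)).upd 0 2 1 (le_of_eq hx03)).upd 1 2 3 (le_of_eq hx23)).upd 2 0 2 (le_of_eq hx30)).upd 2 1 1 (le_of_eq hx32)) ![1,2,2] (by decide) (by decide) 0 (by decide))
          · -- 13=(1,2)
            exact False.elim (cert_false T ((skipEmb 2).trans v) (by norm_num) (fun _ => hv _) (((((LB_zero T ((skipEmb 2).trans v)).upd 0 2 1 (le_of_eq hx03)).upd 1 2 1 (le_of_eq hx13)).upd 2 0 2 (le_of_eq hx30)).upd 2 1 2 (le_of_eq hx31)) ![1,1,2] (by decide) (by decide) 0 (by decide))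
          · -- 13=(2,1)
            exact False.elim (cert_false T ((skipEmb 2).trans v) (by norm_num) (fun _ => hv _) (((((LB_zero T ((skipEmb 2).trans v)).upd 0 2 1 (le_of_eq hx03)).upd 1 2 2 (le_of_eq hx13)).upd 2 0 2 (le_of_eq hx30)).upd 2 1 1 (le_of_eq hx31)) ![1,2,2] (by decide) (by decide) 0 (by decide))
          · -- 13=(1,3)
            exact False.elim (cert_false T ((skipEmb 2).trans v) (by norm_num) (fun _ => hv _) (((((LB_zero T ((skipEmb 2).trans v)).upd 0 2 1 (le_of_eq hx03)).upd 1 2 1 (le_of_eq hx13)).upd 2 0 2 (le_of_eq hx30)).upd 2 1 3 (le_of_eq hx31)) ![1,1,2] (by decide) (by decide) 0 (by decide))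
          · -- 13=(3,1)
            exact False.elim (cert_false T ((skipEmb 2).trans v) (by norm_num) (fun _ => hv _) (((((LB_zero T ((skipEmb 2).trans v)).upd 0 2 1 (le_of_eq hx03)).upd 1 2 3 (le_of_eq hx13)).upd 2 0 2 (le_of_eq hx30)).upd 2 1 1 (le_of_eq hx31)) ![1,2,2] (by decide) (by decide) 0 (by decide))
        · -- 03=(2,1)
          have d13 := two_pair T (by norm_num : 2 < 4) ((pairEmb 1 3 (by decide)).trans v) (fun _ => hv _)
          change (N T v 1 3 = 0 ∧ N T v 3 1 = 0) ∨ (N T v 1 3 = 1 ∧ N T v 3 1 = 1) ∨ (N T v 1 3 = 1 ∧ N T v 3 1 = 2) ∨ (N T v 1 3 = 2 ∧ N T v 3 1 = 1) ∨ (N T v 1 3 = 1 ∧ N T v 3 1 = 3) ∨ (N T v 1 3 = 3 ∧ N T v 3 1 = 1) at d13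
          rw [← hx13, ← hx31] at d13
          rcases d13 with ⟨rfl, rfl⟩ | ⟨rfl, rfl⟩ | ⟨rfl, rfl⟩ | ⟨rfl, rfl⟩ | ⟨rfl, rfl⟩ | ⟨rfl, rfl⟩
          · -- 13=(0,0)
            have d23 := two_pair T (by norm_num : 2 < 4) ((pairEmb 2 3 (by decide)).trans v) (fun _ => hv _)
            change (N T v 2 3 = 0 ∧ N T v 3 2 = 0) ∨ (N T v 2 3 = 1 ∧ N T v 3 2 = 1) ∨ (N T v 2 3 = 1 ∧ N T v 3 2 = 2) ∨ (N T v 2 3 = 2 ∧ N T v 3 2 = 1) ∨ (N T v 2 3 = 1 ∧ N T v 3 2 = 3) ∨ (N T v 2 3 = 3 ∧ N T v 3 2 = 1) at d23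
            rw [← hx23, ← hx32] at d23
            rcases d23 with ⟨rfl, rfl⟩ | ⟨rfl, rfl⟩ | ⟨rfl, rfl⟩ | ⟨rfl, rfl⟩ | ⟨rfl, rfl⟩ | ⟨rfl, rfl⟩
            · -- 23=(0,0)
              exfalso; omega
            · -- 23=(1,1)
              exfalso; omega
            · -- 23=(1,2)
              exact False.elim (cert_false T ((skipEmb 1).trans v) (by norm_num) (fun _ => hv _) (((((LB_zero T ((skipEmb 1).trans v)).upd 0 2 2 (le_of_eq hx03)).upd 1 2 1 (le_of_eq hx23)).upd 2 0 1 (le_of_eq hx30)).upd 2 1 2 (le_of_eq hx32)) ![2,1,2] (by decide) (by decide) 0 (by decide))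
            · -- 23=(2,1)
              exact False.elim (cert_false T ((skipEmb 1).trans v) (by norm_num) (fun _ => hv _) (((((LB_zero T ((skipEmb 1).trans v)).upd 0 2 2 (le_of_eq hx03)).upd 1 2 2 (le_of_eq hx23)).upd 2 0 1 (le_of_eq hx30)).upd 2 1 1 (le_of_eq hx32)) ![1,1,1] (by decide) (by decide) 0 (by decide))
            · -- 23=(1,3)
              exact False.elim (cert_false T ((skipEmb 1).trans v) (by norm_num) (fun _ => hv _) (((((LB_zero T ((skipEmb 1).trans v)).upd 0 2 2 (le_of_eq hx03)).upd 1 2 1 (le_of_eq hx23)).upd 2 0 1 (le_of_eq hx30)).upd 2 1 3 (le_of_eq hx32)) ![1,1,2] (by decide) (by decide) 0 (by decide))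
            · -- 23=(3,1)
              exact False.elim (cert_false T ((skipEmb 1).trans v) (by norm_num) (fun _ => hv _) (((((LB_zero T ((skipEmb 1).trans v)).upd 0 2 2 (le_of_eq hx03)).upd 1 2 3 (le_of_eq hx23)).upd 2 0 1 (le_of_eq hx30)).upd 2 1 1 (le_of_eq hx32)) ![1,1,1] (by decide) (by decide) 0 (by decide))
          · -- 13=(1,1)
            have d23 := two_pair T (by norm_num : 2 < 4) ((pairEmb 2 3 (by decide)).trans v) (fun _ => hv _)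
            change (N T v 2 3 = 0 ∧ N T v 3 2 = 0) ∨ (N T v 2 3 = 1 ∧ N T v 3 2 = 1) ∨ (N T v 2 3 = 1 ∧ N T v 3 2 = 2) ∨ (N T v 2 3 = 2 ∧ N T v 3 2 = 1) ∨ (N T v 2 3 = 1 ∧ N T v 3 2 = 3) ∨ (N T v 2 3 = 3 ∧ N T v 3 2 = 1) at d23
            rw [← hx23, ← hx32] at d23
            rcases d23 with ⟨rfl, rfl⟩ | ⟨rfl, rfl⟩ | ⟨rfl, rfl⟩ | ⟨rfl, rfl⟩ | ⟨rfl, rfl⟩ | ⟨rfl, rfl⟩
            · -- 23=(0,0)
              exfalso; omega
            · -- 23=(1,1)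
              refine ⟨(⟨![3, 1, 2, 0], ![3, 1, 2, 0], by decide, by decide⟩ : Equiv.Perm (Fin 4)), T.m 1, T.w 0, Or.inr (Or.inr (Or.inr (Or.inr (Or.inr (?_)))))⟩
              show T.m 3 = 2 * T.m 1 ∧ T.m 1 = T.m 1 ∧ T.m 2 = T.m 1 ∧ T.m 0 = 2 * T.m 1 ∧ T.w 3 = 2 * T.w 0 ∧ T.w 1 = 2 * T.w 0 ∧ T.w 2 = 2 * T.w 0 ∧ T.w 0 = T.w 0 ∧ T.a 3 3 = -4 * T.w 0 ∧ T.a 3 1 = 2 * T.w 0 ∧ T.a 3 2 = 2 * T.w 0 ∧ T.a 3 0 = 2 * T.w 0 ∧ T.a 1 1 = -4 * T.w 0 ∧ T.a 1 2 = 0 ∧ T.a 1 0 = 0 ∧ T.a 2 2 = -4 * T.w 0 ∧ T.a 2 0 = 0 ∧ T.a 0 0 = -2 * T.w 0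
              refine ⟨?_, ?_, ?_, ?_, ?_, ?_, ?_, ?_, ?_, ?_, ?_, ?_, ?_, ?_, ?_, ?_, ?_, ?_⟩ <;> omega
            · -- 23=(1,2)
              exact False.elim (cert_false T ((skipEmb 1).trans v) (by norm_num) (fun _ => hv _) (((((LB_zero T ((skipEmb 1).trans v)).upd 0 2 2 (le_of_eq hx03)).upd 1 2 1 (le_of_eq hx23)).upd 2 0 1 (le_of_eq hx30)).upd 2 1 2 (le_of_eq hx32)) ![2,1,2] (by decide) (by decide) 0 (by decide))
            · -- 23=(2,1)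
              exact False.elim (cert_false T ((skipEmb 1).trans v) (by norm_num) (fun _ => hv _) (((((LB_zero T ((skipEmb 1).trans v)).upd 0 2 2 (le_of_eq hx03)).upd 1 2 2 (le_of_eq hx23)).upd 2 0 1 (le_of_eq hx30)).upd 2 1 1 (le_of_eq hx32)) ![1,1,1] (by decide) (by decide) 0 (by decide))
            · -- 23=(1,3)
              exact False.elim (cert_false T ((skipEmb 1).trans v) (by norm_num) (fun _ => hv _) (((((LB_zero T ((skipEmb 1).trans v)).upd 0 2 2 (le_of_eq hx03)).upd 1 2 1 (le_of_eq hx23)).upd 2 0 1 (le_of_eq hx30)).upd 2 1 3 (le_of_eq hx32)) ![1,1,2] (by decide) (by decide) 0 (by decide))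
            · -- 23=(3,1)
              exact False.elim (cert_false T ((skipEmb 1).trans v) (by norm_num) (fun _ => hv _) (((((LB_zero T ((skipEmb 1).trans v)).upd 0 2 2 (le_of_eq hx03)).upd 1 2 3 (le_of_eq hx23)).upd 2 0 1 (le_of_eq hx30)).upd 2 1 1 (le_of_eq hx32)) ![1,1,1] (by decide) (by decide) 0 (by decide))
          · -- 13=(1,2)
            exact False.elim (cert_false T ((skipEmb 2).trans v) (by norm_num) (fun _ => hv _) (((((LB_zero T ((skipEmb 2).trans v)).upd 0 2 2 (le_of_eq hx03)).upd 1 2 1 (le_of_eq hx13)).upd 2 0 1 (le_of_eq hx30)).upd 2 1 2 (le_of_eq hx31)) ![2,1,2] (by decide) (by decide) 0 (by decide))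
          · -- 13=(2,1)
            exact False.elim (cert_false T ((skipEmb 2).trans v) (by norm_num) (fun _ => hv _) (((((LB_zero T ((skipEmb 2).trans v)).upd 0 2 2 (le_of_eq hx03)).upd 1 2 2 (le_of_eq hx13)).upd 2 0 1 (le_of_eq hx30)).upd 2 1 1 (le_of_eq hx31)) ![1,1,1] (by decide) (by decide) 0 (by decide))
          · -- 13=(1,3)
            exact False.elim (cert_false T ((skipEmb 2).trans v) (by norm_num) (fun _ => hv _) (((((LB_zero T ((skipEmb 2).trans v)).upd 0 2 2 (le_of_eq hx03)).upd 1 2 1 (le_of_eq hx13)).upd 2 0 1 (le_of_eq hx30)).upd 2 1 3 (le_of_eq hx31)) ![1,1,2] (by decide) (by decide) 0 (by decide))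
          · -- 13=(3,1)
            exact False.elim (cert_false T ((skipEmb 2).trans v) (by norm_num) (fun _ => hv _) (((((LB_zero T ((skipEmb 2).trans v)).upd 0 2 2 (le_of_eq hx03)).upd 1 2 3 (le_of_eq hx13)).upd 2 0 1 (le_of_eq hx30)).upd 2 1 1 (le_of_eq hx31)) ![1,1,1] (by decide) (by decide) 0 (by decide))
        · -- 03=(1,3)
          have d13 := two_pair T (by norm_num : 2 < 4) ((pairEmb 1 3 (by decide)).trans v) (fun _ => hv _)
          change (N T v 1 3 = 0 ∧ N T v 3 1 = 0) ∨ (N T v 1 3 = 1 ∧ N T v 3 1 = 1) ∨ (N T v 1 3 = 1 ∧ N T v 3 1 = 2) ∨ (N T v 1 3 = 2 ∧ N T v 3 1 = 1) ∨ (N T v 1 3 = 1 ∧ N T v 3 1 = 3) ∨ (N T v 1 3 = 3 ∧ N T v 3 1 = 1) at d13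
          rw [← hx13, ← hx31] at d13
          rcases d13 with ⟨rfl, rfl⟩ | ⟨rfl, rfl⟩ | ⟨rfl, rfl⟩ | ⟨rfl, rfl⟩ | ⟨rfl, rfl⟩ | ⟨rfl, rfl⟩
          · -- 13=(0,0)
            have d23 := two_pair T (by norm_num : 2 < 4) ((pairEmb 2 3 (by decide)).trans v) (fun _ => hv _)
            change (N T v 2 3 = 0 ∧ N T v 3 2 = 0) ∨ (N T v 2 3 = 1 ∧ N T v 3 2 = 1) ∨ (N T v 2 3 = 1 ∧ N T v 3 2 = 2) ∨ (N T v 2 3 = 2 ∧ N T v 3 2 = 1) ∨ (N T v 2 3 = 1 ∧ N T v 3 2 = 3) ∨ (N T v 2 3 = 3 ∧ N T v 3 2 = 1) at d23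
            rw [← hx23, ← hx32] at d23
            rcases d23 with ⟨rfl, rfl⟩ | ⟨rfl, rfl⟩ | ⟨rfl, rfl⟩ | ⟨rfl, rfl⟩ | ⟨rfl, rfl⟩ | ⟨rfl, rfl⟩
            · -- 23=(0,0)
              exfalso; omega
            · -- 23=(1,1)
              exact False.elim (cert_false T ((skipEmb 1).trans v) (by norm_num) (fun _ => hv _) (((((LB_zero T ((skipEmb 1).trans v)).upd 0 2 1 (le_of_eq hx03)).upd 1 2 1 (le_of_eq hx23)).upd 2 0 3 (le_of_eq hx30)).upd 2 1 1 (le_of_eq hx32)) ![1,1,2] (by decide) (by decide) 0 (by decide))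
            · -- 23=(1,2)
              exact False.elim (cert_false T ((skipEmb 1).trans v) (by norm_num) (fun _ => hv _) (((((LB_zero T ((skipEmb 1).trans v)).upd 0 2 1 (le_of_eq hx03)).upd 1 2 1 (le_of_eq hx23)).upd 2 0 3 (le_of_eq hx30)).upd 2 1 2 (le_of_eq hx32)) ![1,1,2] (by decide) (by decide) 0 (by decide))
            · -- 23=(2,1)
              exact False.elim (cert_false T ((skipEmb 1).trans v) (by norm_num) (fun _ => hv _) (((((LB_zero T ((skipEmb 1).trans v)).upd 0 2 1 (le_of_eq hx03)).upd 1 2 2 (le_of_eq hx23)).upd 2 0 3 (le_of_eq hx30)).upd 2 1 1 (le_of_eq hx32)) ![1,1,2] (by decide) (by decide) 0 (by decide))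
            · -- 23=(1,3)
              exact False.elim (cert_false T ((skipEmb 1).trans v) (by norm_num) (fun _ => hv _) (((((LB_zero T ((skipEmb 1).trans v)).upd 0 2 1 (le_of_eq hx03)).upd 1 2 1 (le_of_eq hx23)).upd 2 0 3 (le_of_eq hx30)).upd 2 1 3 (le_of_eq hx32)) ![1,1,2] (by decide) (by decide) 0 (by decide))
            · -- 23=(3,1)
              exact False.elim (cert_false T ((skipEmb 1).trans v) (by norm_num) (fun _ => hv _) (((((LB_zero T ((skipEmb 1).trans v)).upd 0 2 1 (le_of_eq hx03)).upd 1 2 3 (le_of_eq hx23)).upd 2 0 3 (le_of_eq hx30)).upd 2 1 1 (le_of_eq hx32)) ![1,1,2] (by decide) (by decide) 0 (by decide))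
          · -- 13=(1,1)
            exact False.elim (cert_false T ((skipEmb 2).trans v) (by norm_num) (fun _ => hv _) (((((LB_zero T ((skipEmb 2).trans v)).upd 0 2 1 (le_of_eq hx03)).upd 1 2 1 (le_of_eq hx13)).upd 2 0 3 (le_of_eq hx30)).upd 2 1 1 (le_of_eq hx31)) ![1,1,2] (by decide) (by decide) 0 (by decide))
          · -- 13=(1,2)
            exact False.elim (cert_false T ((skipEmb 2).trans v) (by norm_num) (fun _ => hv _) (((((LB_zero T ((skipEmb 2).trans v)).upd 0 2 1 (le_of_eq hx03)).upd 1 2 1 (le_of_eq hx13)).upd 2 0 3 (le_of_eq hx30)).upd 2 1 2 (le_of_eq hx31)) ![1,1,2] (by decide) (by decide) 0 (by decide))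
          · -- 13=(2,1)
            exact False.elim (cert_false T ((skipEmb 2).trans v) (by norm_num) (fun _ => hv _) (((((LB_zero T ((skipEmb 2).trans v)).upd 0 2 1 (le_of_eq hx03)).upd 1 2 2 (le_of_eq hx13)).upd 2 0 3 (le_of_eq hx30)).upd 2 1 1 (le_of_eq hx31)) ![1,1,2] (by decide) (by decide) 0 (by decide))
          · -- 13=(1,3)
            exact False.elim (cert_false T ((skipEmb 2).trans v) (by norm_num) (fun _ => hv _) (((((LB_zero T ((skipEmb 2).trans v)).upd 0 2 1 (le_of_eq hx03)).upd 1 2 1 (le_of_eq hx13)).upd 2 0 3 (le_of_eq hx30)).upd 2 1 3 (le_of_eq hx31)) ![1,1,2] (by decide) (by decide) 0 (by decide))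
          · -- 13=(3,1)
            exact False.elim (cert_false T ((skipEmb 2).trans v) (by norm_num) (fun _ => hv _) (((((LB_zero T ((skipEmb 2).trans v)).upd 0 2 1 (le_of_eq hx03)).upd 1 2 3 (le_of_eq hx13)).upd 2 0 3 (le_of_eq hx30)).upd 2 1 1 (le_of_eq hx31)) ![1,1,2] (by decide) (by decide) 0 (by decide))
        · -- 03=(3,1)
          have d13 := two_pair T (by norm_num : 2 < 4) ((pairEmb 1 3 (by decide)).trans v) (fun _ => hv _)
          change (N T v 1 3 = 0 ∧ N T v 3 1 = 0) ∨ (N T v 1 3 = 1 ∧ N T v 3 1 = 1) ∨ (N T v 1 3 = 1 ∧ N T v 3 1 = 2) ∨ (N T v 1 3 = 2 ∧ N T v 3 1 = 1) ∨ (N T v 1 3 = 1 ∧ N T v 3 1 = 3) ∨ (N T v 1 3 = 3 ∧ N T v 3 1 = 1) at d13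
          rw [← hx13, ← hx31] at d13
          rcases d13 with ⟨rfl, rfl⟩ | ⟨rfl, rfl⟩ | ⟨rfl, rfl⟩ | ⟨rfl, rfl⟩ | ⟨rfl, rfl⟩ | ⟨rfl, rfl⟩
          · -- 13=(0,0)
            have d23 := two_pair T (by norm_num : 2 < 4) ((pairEmb 2 3 (by decide)).trans v) (fun _ => hv _)
            change (N T v 2 3 = 0 ∧ N T v 3 2 = 0) ∨ (N T v 2 3 = 1 ∧ N T v 3 2 = 1) ∨ (N T v 2 3 = 1 ∧ N T v 3 2 = 2) ∨ (N T v 2 3 = 2 ∧ N T v 3 2 = 1) ∨ (N T v 2 3 = 1 ∧ N T v 3 2 = 3) ∨ (N T v 2 3 = 3 ∧ N T v 3 2 = 1) at d23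
            rw [← hx23, ← hx32] at d23
            rcases d23 with ⟨rfl, rfl⟩ | ⟨rfl, rfl⟩ | ⟨rfl, rfl⟩ | ⟨rfl, rfl⟩ | ⟨rfl, rfl⟩ | ⟨rfl, rfl⟩
            · -- 23=(0,0)
              exfalso; omega
            · -- 23=(1,1)
              exact False.elim (cert_false T ((skipEmb 1).trans v) (by norm_num) (fun _ => hv _) (((((LB_zero T ((skipEmb 1).trans v)).upd 0 2 3 (le_of_eq hx03)).upd 1 2 1 (le_of_eq hx23)).upd 2 0 1 (le_of_eq hx30)).upd 2 1 1 (le_of_eq hx32)) ![3,1,2] (by decide) (by decide) 0 (by decide))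
            · -- 23=(1,2)
              exact False.elim (cert_false T ((skipEmb 1).trans v) (by norm_num) (fun _ => hv _) (((((LB_zero T ((skipEmb 1).trans v)).upd 0 2 3 (le_of_eq hx03)).upd 1 2 1 (le_of_eq hx23)).upd 2 0 1 (le_of_eq hx30)).upd 2 1 2 (le_of_eq hx32)) ![2,1,2] (by decide) (by decide) 0 (by decide))
            · -- 23=(2,1)
              exact False.elim (cert_false T ((skipEmb 1).trans v) (by norm_num) (fun _ => hv _) (((((LB_zero T ((skipEmb 1).trans v)).upd 0 2 3 (le_of_eq hx03)).upd 1 2 2 (le_of_eq hx23)).upd 2 0 1 (le_of_eq hx30)).upd 2 1 1 (le_of_eq hx32)) ![1,1,1] (by decide) (by decide) 0 (by decide))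
            · -- 23=(1,3)
              exact False.elim (cert_false T ((skipEmb 1).trans v) (by norm_num) (fun _ => hv _) (((((LB_zero T ((skipEmb 1).trans v)).upd 0 2 3 (le_of_eq hx03)).upd 1 2 1 (le_of_eq hx23)).upd 2 0 1 (le_of_eq hx30)).upd 2 1 3 (le_of_eq hx32)) ![1,1,2] (by decide) (by decide) 0 (by decide))
            · -- 23=(3,1)
              exact False.elim (cert_false T ((skipEmb 1).trans v) (by norm_num) (fun _ => hv _) (((((LB_zero T ((skipEmb 1).trans v)).upd 0 2 3 (le_of_eq hx03)).upd 1 2 3 (le_of_eq hx23)).upd 2 0 1 (le_of_eq hx30)).upd 2 1 1 (le_of_eq hx32)) ![1,1,1] (by decide) (by decide) 0 (by decide))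
          · -- 13=(1,1)
            exact False.elim (cert_false T ((skipEmb 2).trans v) (by norm_num) (fun _ => hv _) (((((LB_zero T ((skipEmb 2).trans v)).upd 0 2 3 (le_of_eq hx03)).upd 1 2 1 (le_of_eq hx13)).upd 2 0 1 (le_of_eq hx30)).upd 2 1 1 (le_of_eq hx31)) ![3,1,2] (by decide) (by decide) 0 (by decide))
          · -- 13=(1,2)
            exact False.elim (cert_false T ((skipEmb 2).trans v) (by norm_num) (fun _ => hv _) (((((LB_zero T ((skipEmb 2).trans v)).upd 0 2 3 (le_of_eq hx03)).upd 1 2 1 (le_of_eq hx13)).upd 2 0 1 (le_of_eq hx30)).upd 2 1 2 (le_of_eq hx31)) ![2,1,2] (by decide) (by decide) 0 (by decide))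
          · -- 13=(2,1)
            exact False.elim (cert_false T ((skipEmb 2).trans v) (by norm_num) (fun _ => hv _) (((((LB_zero T ((skipEmb 2).trans v)).upd 0 2 3 (le_of_eq hx03)).upd 1 2 2 (le_of_eq hx13)).upd 2 0 1 (le_of_eq hx30)).upd 2 1 1 (le_of_eq hx31)) ![1,1,1] (by decide) (by decide) 0 (by decide))
          · -- 13=(1,3)
            exact False.elim (cert_false T ((skipEmb 2).trans v) (by norm_num) (fun _ => hv _) (((((LB_zero T ((skipEmb 2).trans v)).upd 0 2 3 (le_of_eq hx03)).upd 1 2 1 (le_of_eq hx13)).upd 2 0 1 (le_of_eq hx30)).upd 2 1 3 (le_of_eq hx31)) ![1,1,2] (by decide) (by decide) 0 (by decide))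
          · -- 13=(3,1)
            exact False.elim (cert_false T ((skipEmb 2).trans v) (by norm_num) (fun _ => hv _) (((((LB_zero T ((skipEmb 2).trans v)).upd 0 2 3 (le_of_eq hx03)).upd 1 2 3 (le_of_eq hx13)).upd 2 0 1 (le_of_eq hx30)).upd 2 1 1 (le_of_eq hx31)) ![1,1,1] (by decide) (by decide) 0 (by decide))
      · -- 12=(1,1)
        have d03 := two_pair T (by norm_num : 2 < 4) ((pairEmb 0 3 (by decide)).trans v) (fun _ => hv _)
        change (N T v 0 3 = 0 ∧ N T v 3 0 = 0) ∨ (N T v 0 3 = 1 ∧ N T v 3 0 = 1) ∨ (N T v 0 3 = 1 ∧ N T v 3 0 = 2) ∨ (N T v 0 3 = 2 ∧ N T v 3 0 = 1) ∨ (N T v 0 3 = 1 ∧ N T v 3 0 = 3) ∨ (N T v 0 3 = 3 ∧ N T v 3 0 = 1) at d03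
        rw [← hx03, ← hx30] at d03
        rcases d03 with ⟨rfl, rfl⟩ | ⟨rfl, rfl⟩ | ⟨rfl, rfl⟩ | ⟨rfl, rfl⟩ | ⟨rfl, rfl⟩ | ⟨rfl, rfl⟩
        · -- 03=(0,0)
          have d13 := two_pair T (by norm_num : 2 < 4) ((pairEmb 1 3 (by decide)).trans v) (fun _ => hv _)
          change (N T v 1 3 = 0 ∧ N T v 3 1 = 0) ∨ (N T v 1 3 = 1 ∧ N T v 3 1 = 1) ∨ (N T v 1 3 = 1 ∧ N T v 3 1 = 2) ∨ (N T v 1 3 = 2 ∧ N T v 3 1 = 1) ∨ (N T v 1 3 = 1 ∧ N T v 3 1 = 3) ∨ (N T v 1 3 = 3 ∧ N T v 3 1 = 1) at d13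
          rw [← hx13, ← hx31] at d13
          rcases d13 with ⟨rfl, rfl⟩ | ⟨rfl, rfl⟩ | ⟨rfl, rfl⟩ | ⟨rfl, rfl⟩ | ⟨rfl, rfl⟩ | ⟨rfl, rfl⟩
          · -- 13=(0,0)
            have d23 := two_pair T (by norm_num : 2 < 4) ((pairEmb 2 3 (by decide)).trans v) (fun _ => hv _)
            change (N T v 2 3 = 0 ∧ N T v 3 2 = 0) ∨ (N T v 2 3 = 1 ∧ N T v 3 2 = 1) ∨ (N T v 2 3 = 1 ∧ N T v 3 2 = 2) ∨ (N T v 2 3 = 2 ∧ N T v 3 2 = 1) ∨ (N T v 2 3 = 1 ∧ N T v 3 2 = 3) ∨ (N T v 2 3 = 3 ∧ N T v 3 2 = 1) at d23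
            rw [← hx23, ← hx32] at d23
            rcases d23 with ⟨rfl, rfl⟩ | ⟨rfl, rfl⟩ | ⟨rfl, rfl⟩ | ⟨rfl, rfl⟩ | ⟨rfl, rfl⟩ | ⟨rfl, rfl⟩
            · -- 23=(0,0)
              exfalso; omega
            · -- 23=(1,1)
              exfalso; omega
            · -- 23=(1,2)
              exfalso; omega
            · -- 23=(2,1)
              exfalso; omega
            · -- 23=(1,3)
              exact False.elim (cert_false T ((skipEmb 0).trans v) (by norm_num) (fun _ => hv _) (((((LB_zero T ((skipEmb 0).trans v)).upd 0 1 1 (le_of_eq hx12)).upd 1 0 1 (le_of_eq hx21)).upd 1 2 1 (le_of_eq hx23)).upd 2 1 3 (le_of_eq hx32)) ![1,2,3] (by decide) (by decide) 0 (by decide))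
            · -- 23=(3,1)
              exact False.elim (cert_false T ((skipEmb 0).trans v) (by norm_num) (fun _ => hv _) (((((LB_zero T ((skipEmb 0).trans v)).upd 0 1 1 (le_of_eq hx12)).upd 1 0 1 (le_of_eq hx21)).upd 1 2 3 (le_of_eq hx23)).upd 2 1 1 (le_of_eq hx32)) ![1,2,1] (by decide) (by decide) 0 (by decide))
          · -- 13=(1,1)
            have d23 := two_pair T (by norm_num : 2 < 4) ((pairEmb 2 3 (by decide)).trans v) (fun _ => hv _)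
            change (N T v 2 3 = 0 ∧ N T v 3 2 = 0) ∨ (N T v 2 3 = 1 ∧ N T v 3 2 = 1) ∨ (N T v 2 3 = 1 ∧ N T v 3 2 = 2) ∨ (N T v 2 3 = 2 ∧ N T v 3 2 = 1) ∨ (N T v 2 3 = 1 ∧ N T v 3 2 = 3) ∨ (N T v 2 3 = 3 ∧ N T v 3 2 = 1) at d23
            rw [← hx23, ← hx32] at d23
            rcases d23 with ⟨rfl, rfl⟩ | ⟨rfl, rfl⟩ | ⟨rfl, rfl⟩ | ⟨rfl, rfl⟩ | ⟨rfl, rfl⟩ | ⟨rfl, rfl⟩
            · -- 23=(0,0)
              exfalso; omega
            · -- 23=(1,1)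
              exact False.elim (cert_false T ((skipEmb 0).trans v) (by norm_num) (fun _ => hv _) (((((((LB_zero T ((skipEmb 0).trans v)).upd 0 1 1 (le_of_eq hx12)).upd 0 2 1 (le_of_eq hx13)).upd 1 0 1 (le_of_eq hx21)).upd 1 2 1 (le_of_eq hx23)).upd 2 0 1 (le_of_eq hx31)).upd 2 1 1 (le_of_eq hx32)) ![1,1,1] (by decide) (by decide) 0 (by decide))
            · -- 23=(1,2)
              exact False.elim (cert_false T ((skipEmb 0).trans v) (by norm_num) (fun _ => hv _) (((((((LB_zero T ((skipEmb 0).trans v)).upd 0 1 1 (le_of_eq hx12)).upd 0 2 1 (le_of_eq hx13)).upd 1 0 1 (le_of_eq hx21)).upd 1 2 1 (le_of_eq hx23)).upd 2 0 1 (le_of_eq hx31)).upd 2 1 2 (le_of_eq hx32)) ![1,1,1] (by decide) (by decide) 0 (by decide))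
            · -- 23=(2,1)
              exact False.elim (cert_false T ((skipEmb 0).trans v) (by norm_num) (fun _ => hv _) (((((((LB_zero T ((skipEmb 0).trans v)).upd 0 1 1 (le_of_eq hx12)).upd 0 2 1 (le_of_eq hx13)).upd 1 0 1 (le_of_eq hx21)).upd 1 2 2 (le_of_eq hx23)).upd 2 0 1 (le_of_eq hx31)).upd 2 1 1 (le_of_eq hx32)) ![1,1,1] (by decide) (by decide) 0 (by decide))
            · -- 23=(1,3)
              exact False.elim (cert_false T ((skipEmb 0).trans v) (by norm_num) (fun _ => hv _) (((((((LB_zero T ((skipEmb 0).trans v)).upd 0 1 1 (le_of_eq hx12)).upd 0 2 1 (le_of_eq hx13)).upd 1 0 1 (le_of_eq hx21)).upd 1 2 1 (le_of_eq hx23)).upd 2 0 1 (le_of_eq hx31)).upd 2 1 3 (le_of_eq hx32)) ![1,1,1] (by decide) (by decide) 0 (by decide))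
            · -- 23=(3,1)
              exact False.elim (cert_false T ((skipEmb 0).trans v) (by norm_num) (fun _ => hv _) (((((((LB_zero T ((skipEmb 0).trans v)).upd 0 1 1 (le_of_eq hx12)).upd 0 2 1 (le_of_eq hx13)).upd 1 0 1 (le_of_eq hx21)).upd 1 2 3 (le_of_eq hx23)).upd 2 0 1 (le_of_eq hx31)).upd 2 1 1 (le_of_eq hx32)) ![1,1,1] (by decide) (by decide) 0 (by decide))
          · -- 13=(1,2)
            have d23 := two_pair T (by norm_num : 2 < 4) ((pairEmb 2 3 (by decide)).trans v) (fun _ => hv _)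
            change (N T v 2 3 = 0 ∧ N T v 3 2 = 0) ∨ (N T v 2 3 = 1 ∧ N T v 3 2 = 1) ∨ (N T v 2 3 = 1 ∧ N T v 3 2 = 2) ∨ (N T v 2 3 = 2 ∧ N T v 3 2 = 1) ∨ (N T v 2 3 = 1 ∧ N T v 3 2 = 3) ∨ (N T v 2 3 = 3 ∧ N T v 3 2 = 1) at d23
            rw [← hx23, ← hx32] at d23
            rcases d23 with ⟨rfl, rfl⟩ | ⟨rfl, rfl⟩ | ⟨rfl, rfl⟩ | ⟨rfl, rfl⟩ | ⟨rfl, rfl⟩ | ⟨rfl, rfl⟩
            · -- 23=(0,0)
              exfalso; omega
            · -- 23=(1,1)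
              exact False.elim (cert_false T ((skipEmb 0).trans v) (by norm_num) (fun _ => hv _) (((((((LB_zero T ((skipEmb 0).trans v)).upd 0 1 1 (le_of_eq hx12)).upd 0 2 1 (le_of_eq hx13)).upd 1 0 1 (le_of_eq hx21)).upd 1 2 1 (le_of_eq hx23)).upd 2 0 2 (le_of_eq hx31)).upd 2 1 1 (le_of_eq hx32)) ![1,1,1] (by decide) (by decide) 0 (by decide))
            · -- 23=(1,2)
              exact False.elim (cert_false T ((skipEmb 0).trans v) (by norm_num) (fun _ => hv _) (((((((LB_zero T ((skipEmb 0).trans v)).upd 0 1 1 (le_of_eq hx12)).upd 0 2 1 (le_of_eq hx13)).upd 1 0 1 (le_of_eq hx21)).upd 1 2 1 (le_of_eq hx23)).upd 2 0 2 (le_of_eq hx31)).upd 2 1 2 (le_of_eq hx32)) ![1,1,1] (by decide) (by decide) 0 (by decide))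
            · -- 23=(2,1)
              exact False.elim (cert_false T ((skipEmb 0).trans v) (by norm_num) (fun _ => hv _) (((((((LB_zero T ((skipEmb 0).trans v)).upd 0 1 1 (le_of_eq hx12)).upd 0 2 1 (le_of_eq hx13)).upd 1 0 1 (le_of_eq hx21)).upd 1 2 2 (le_of_eq hx23)).upd 2 0 2 (le_of_eq hx31)).upd 2 1 1 (le_of_eq hx32)) ![1,1,1] (by decide) (by decide) 0 (by decide))
            · -- 23=(1,3)
              exact False.elim (cert_false T ((skipEmb 0).trans v) (by norm_num) (fun _ => hv _) (((((((LB_zero T ((skipEmb 0).trans v)).upd 0 1 1 (le_of_eq hx12)).upd 0 2 1 (le_of_eq hx13)).upd 1 0 1 (le_of_eq hx21)).upd 1 2 1 (le_of_eq hx23)).upd 2 0 2 (le_of_eq hx31)).upd 2 1 3 (le_of_eq hx32)) ![1,1,1] (by decide) (by decide) 0 (by decide))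
            · -- 23=(3,1)
              exact False.elim (cert_false T ((skipEmb 0).trans v) (by norm_num) (fun _ => hv _) (((((((LB_zero T ((skipEmb 0).trans v)).upd 0 1 1 (le_of_eq hx12)).upd 0 2 1 (le_of_eq hx13)).upd 1 0 1 (le_of_eq hx21)).upd 1 2 3 (le_of_eq hx23)).upd 2 0 2 (le_of_eq hx31)).upd 2 1 1 (le_of_eq hx32)) ![1,1,1] (by decide) (by decide) 0 (by decide))
          · -- 13=(2,1)
            have d23 := two_pair T (by norm_num : 2 < 4) ((pairEmb 2 3 (by decide)).trans v) (fun _ => hv _)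
            change (N T v 2 3 = 0 ∧ N T v 3 2 = 0) ∨ (N T v 2 3 = 1 ∧ N T v 3 2 = 1) ∨ (N T v 2 3 = 1 ∧ N T v 3 2 = 2) ∨ (N T v 2 3 = 2 ∧ N T v 3 2 = 1) ∨ (N T v 2 3 = 1 ∧ N T v 3 2 = 3) ∨ (N T v 2 3 = 3 ∧ N T v 3 2 = 1) at d23
            rw [← hx23, ← hx32] at d23
            rcases d23 with ⟨rfl, rfl⟩ | ⟨rfl, rfl⟩ | ⟨rfl, rfl⟩ | ⟨rfl, rfl⟩ | ⟨rfl, rfl⟩ | ⟨rfl, rfl⟩
            · -- 23=(0,0)
              exfalso; omega
            · -- 23=(1,1)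
              exact False.elim (cert_false T ((skipEmb 0).trans v) (by norm_num) (fun _ => hv _) (((((((LB_zero T ((skipEmb 0).trans v)).upd 0 1 1 (le_of_eq hx12)).upd 0 2 2 (le_of_eq hx13)).upd 1 0 1 (le_of_eq hx21)).upd 1 2 1 (le_of_eq hx23)).upd 2 0 1 (le_of_eq hx31)).upd 2 1 1 (le_of_eq hx32)) ![1,1,1] (by decide) (by decide) 0 (by decide))
            · -- 23=(1,2)
              exact False.elim (cert_false T ((skipEmb 0).trans v) (by norm_num) (fun _ => hv _) (((((((LB_zero T ((skipEmb 0).trans v)).upd 0 1 1 (le_of_eq hx12)).upd 0 2 2 (le_of_eq hx13)).upd 1 0 1 (le_of_eq hx21)).upd 1 2 1 (le_of_eq hx23)).upd 2 0 1 (le_of_eq hx31)).upd 2 1 2 (le_of_eq hx32)) ![1,1,1] (by decide) (by decide) 0 (by decide))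
            · -- 23=(2,1)
              exact False.elim (cert_false T ((skipEmb 0).trans v) (by norm_num) (fun _ => hv _) (((((((LB_zero T ((skipEmb 0).trans v)).upd 0 1 1 (le_of_eq hx12)).upd 0 2 2 (le_of_eq hx13)).upd 1 0 1 (le_of_eq hx21)).upd 1 2 2 (le_of_eq hx23)).upd 2 0 1 (le_of_eq hx31)).upd 2 1 1 (le_of_eq hx32)) ![1,1,1] (by decide) (by decide) 0 (by decide))
            · -- 23=(1,3)
              exact False.elim (cert_false T ((skipEmb 0).trans v) (by norm_num) (fun _ => hv _) (((((((LB_zero T ((skipEmb 0).trans v)).upd 0 1 1 (le_of_eq hx12)).upd 0 2 2 (le_of_eq hx13)).upd 1 0 1 (le_of_eq hx21)).upd 1 2 1 (le_of_eq hx23)).upd 2 0 1 (le_of_eq hx31)).upd 2 1 3 (le_of_eq hx32)) ![1,1,1] (by decide) (by decide) 0 (by decide))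
            · -- 23=(3,1)
              exact False.elim (cert_false T ((skipEmb 0).trans v) (by norm_num) (fun _ => hv _) (((((((LB_zero T ((skipEmb 0).trans v)).upd 0 1 1 (le_of_eq hx12)).upd 0 2 2 (le_of_eq hx13)).upd 1 0 1 (le_of_eq hx21)).upd 1 2 3 (le_of_eq hx23)).upd 2 0 1 (le_of_eq hx31)).upd 2 1 1 (le_of_eq hx32)) ![1,1,1] (by decide) (by decide) 0 (by decide))
          · -- 13=(1,3)
            exact False.elim (cert_false T ((skipEmb 0).trans v) (by norm_num) (fun _ => hv _) (((((LB_zero T ((skipEmb 0).trans v)).upd 0 1 1 (le_of_eq hx12)).upd 0 2 1 (le_of_eq hx13)).upd 1 0 1 (le_of_eq hx21)).upd 2 0 3 (le_of_eq hx31)) ![2,1,3] (by decide) (by decide) 0 (by decide))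
          · -- 13=(3,1)
            exact False.elim (cert_false T ((skipEmb 0).trans v) (by norm_num) (fun _ => hv _) (((((LB_zero T ((skipEmb 0).trans v)).upd 0 1 1 (le_of_eq hx12)).upd 0 2 3 (le_of_eq hx13)).upd 1 0 1 (le_of_eq hx21)).upd 2 0 1 (le_of_eq hx31)) ![2,1,1] (by decide) (by decide) 0 (by decide))
        · -- 03=(1,1)
          have d13 := two_pair T (by norm_num : 2 < 4) ((pairEmb 1 3 (by decide)).trans v) (fun _ => hv _)
          change (N T v 1 3 = 0 ∧ N T v 3 1 = 0) ∨ (N T v 1 3 = 1 ∧ N T v 3 1 = 1) ∨ (N T v 1 3 = 1 ∧ N T v 3 1 = 2) ∨ (N T v 1 3 = 2 ∧ N T v 3 1 = 1) ∨ (N T v 1 3 = 1 ∧ N T v 3 1 = 3) ∨ (N T v 1 3 = 3 ∧ N T v 3 1 = 1) at d13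
          rw [← hx13, ← hx31] at d13
          rcases d13 with ⟨rfl, rfl⟩ | ⟨rfl, rfl⟩ | ⟨rfl, rfl⟩ | ⟨rfl, rfl⟩ | ⟨rfl, rfl⟩ | ⟨rfl, rfl⟩
          · -- 13=(0,0)
            have d23 := two_pair T (by norm_num : 2 < 4) ((pairEmb 2 3 (by decide)).trans v) (fun _ => hv _)
            change (N T v 2 3 = 0 ∧ N T v 3 2 = 0) ∨ (N T v 2 3 = 1 ∧ N T v 3 2 = 1) ∨ (N T v 2 3 = 1 ∧ N T v 3 2 = 2) ∨ (N T v 2 3 = 2 ∧ N T v 3 2 = 1) ∨ (N T v 2 3 = 1 ∧ N T v 3 2 = 3) ∨ (N T v 2 3 = 3 ∧ N T v 3 2 = 1) at d23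
            rw [← hx23, ← hx32] at d23
            rcases d23 with ⟨rfl, rfl⟩ | ⟨rfl, rfl⟩ | ⟨rfl, rfl⟩ | ⟨rfl, rfl⟩ | ⟨rfl, rfl⟩ | ⟨rfl, rfl⟩
            · -- 23=(0,0)
              exfalso; omega
            · -- 23=(1,1)
              exfalso; omega
            · -- 23=(1,2)
              exfalso; omega
            · -- 23=(2,1)
              exfalso; omega
            · -- 23=(1,3)
              exact False.elim (cert_false T ((skipEmb 1).trans v) (by norm_num) (fun _ => hv _) (((((LB_zero T ((skipEmb 1).trans v)).upd 0 2 1 (le_of_eq hx03)).upd 1 2 1 (le_of_eq hx23)).upd 2 0 1 (le_of_eq hx30)).upd 2 1 3 (le_of_eq hx32)) ![1,1,2] (by decide) (by decide) 0 (by decide))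
            · -- 23=(3,1)
              exact False.elim (cert_false T ((skipEmb 1).trans v) (by norm_num) (fun _ => hv _) (((((LB_zero T ((skipEmb 1).trans v)).upd 0 2 1 (le_of_eq hx03)).upd 1 2 3 (le_of_eq hx23)).upd 2 0 1 (le_of_eq hx30)).upd 2 1 1 (le_of_eq hx32)) ![1,3,2] (by decide) (by decide) 0 (by decide))
          · -- 13=(1,1)
            have d23 := two_pair T (by norm_num : 2 < 4) ((pairEmb 2 3 (by decide)).trans v) (fun _ => hv _)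
            change (N T v 2 3 = 0 ∧ N T v 3 2 = 0) ∨ (N T v 2 3 = 1 ∧ N T v 3 2 = 1) ∨ (N T v 2 3 = 1 ∧ N T v 3 2 = 2) ∨ (N T v 2 3 = 2 ∧ N T v 3 2 = 1) ∨ (N T v 2 3 = 1 ∧ N T v 3 2 = 3) ∨ (N T v 2 3 = 3 ∧ N T v 3 2 = 1) at d23
            rw [← hx23, ← hx32] at d23
            rcases d23 with ⟨rfl, rfl⟩ | ⟨rfl, rfl⟩ | ⟨rfl, rfl⟩ | ⟨rfl, rfl⟩ | ⟨rfl, rfl⟩ | ⟨rfl, rfl⟩
            · -- 23=(0,0)
              exfalso; omega
            · -- 23=(1,1)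
              exact False.elim (cert_false T ((skipEmb 0).trans v) (by norm_num) (fun _ => hv _) (((((((LB_zero T ((skipEmb 0).trans v)).upd 0 1 1 (le_of_eq hx12)).upd 0 2 1 (le_of_eq hx13)).upd 1 0 1 (le_of_eq hx21)).upd 1 2 1 (le_of_eq hx23)).upd 2 0 1 (le_of_eq hx31)).upd 2 1 1 (le_of_eq hx32)) ![1,1,1] (by decide) (by decide) 0 (by decide))
            · -- 23=(1,2)
              exact False.elim (cert_false T ((skipEmb 0).trans v) (by norm_num) (fun _ => hv _) (((((((LB_zero T ((skipEmb 0).trans v)).upd 0 1 1 (le_of_eq hx12)).upd 0 2 1 (le_of_eq hx13)).upd 1 0 1 (le_of_eq hx21)).upd 1 2 1 (le_of_eq hx23)).upd 2 0 1 (le_of_eq hx31)).upd 2 1 2 (le_of_eq hx32)) ![1,1,1] (by decide) (by decide) 0 (by decide))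
            · -- 23=(2,1)
              exact False.elim (cert_false T ((skipEmb 0).trans v) (by norm_num) (fun _ => hv _) (((((((LB_zero T ((skipEmb 0).trans v)).upd 0 1 1 (le_of_eq hx12)).upd 0 2 1 (le_of_eq hx13)).upd 1 0 1 (le_of_eq hx21)).upd 1 2 2 (le_of_eq hx23)).upd 2 0 1 (le_of_eq hx31)).upd 2 1 1 (le_of_eq hx32)) ![1,1,1] (by decide) (by decide) 0 (by decide))
            · -- 23=(1,3)
              exact False.elim (cert_false T ((skipEmb 1).trans v) (by norm_num) (fun _ => hv _) (((((LB_zero T ((skipEmb 1).trans v)).upd 0 2 1 (le_of_eq hx03)).upd 1 2 1 (le_of_eq hx23)).upd 2 0 1 (le_of_eq hx30)).upd 2 1 3 (le_of_eq hx32)) ![1,1,2] (by decide) (by decide) 0 (by decide))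
            · -- 23=(3,1)
              exact False.elim (cert_false T ((skipEmb 1).trans v) (by norm_num) (fun _ => hv _) (((((LB_zero T ((skipEmb 1).trans v)).upd 0 2 1 (le_of_eq hx03)).upd 1 2 3 (le_of_eq hx23)).upd 2 0 1 (le_of_eq hx30)).upd 2 1 1 (le_of_eq hx32)) ![1,3,2] (by decide) (by decide) 0 (by decide))
          · -- 13=(1,2)
            have d23 := two_pair T (by norm_num : 2 < 4) ((pairEmb 2 3 (by decide)).trans v) (fun _ => hv _)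
            change (N T v 2 3 = 0 ∧ N T v 3 2 = 0) ∨ (N T v 2 3 = 1 ∧ N T v 3 2 = 1) ∨ (N T v 2 3 = 1 ∧ N T v 3 2 = 2) ∨ (N T v 2 3 = 2 ∧ N T v 3 2 = 1) ∨ (N T v 2 3 = 1 ∧ N T v 3 2 = 3) ∨ (N T v 2 3 = 3 ∧ N T v 3 2 = 1) at d23
            rw [← hx23, ← hx32] at d23
            rcases d23 with ⟨rfl, rfl⟩ | ⟨rfl, rfl⟩ | ⟨rfl, rfl⟩ | ⟨rfl, rfl⟩ | ⟨rfl, rfl⟩ | ⟨rfl, rfl⟩
            · -- 23=(0,0)
              exfalso; omega
            · -- 23=(1,1)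
              exact False.elim (cert_false T ((skipEmb 0).trans v) (by norm_num) (fun _ => hv _) (((((((LB_zero T ((skipEmb 0).trans v)).upd 0 1 1 (le_of_eq hx12)).upd 0 2 1 (le_of_eq hx13)).upd 1 0 1 (le_of_eq hx21)).upd 1 2 1 (le_of_eq hx23)).upd 2 0 2 (le_of_eq hx31)).upd 2 1 1 (le_of_eq hx32)) ![1,1,1] (by decide) (by decide) 0 (by decide))
            · -- 23=(1,2)
              exact False.elim (cert_false T ((skipEmb 0).trans v) (by norm_num) (fun _ => hv _) (((((((LB_zero T ((skipEmb 0).trans v)).upd 0 1 1 (le_of_eq hx12)).upd 0 2 1 (le_of_eq hx13)).upd 1 0 1 (le_of_eq hx21)).upd 1 2 1 (le_of_eq hx23)).upd 2 0 2 (le_of_eq hx31)).upd 2 1 2 (le_of_eq hx32)) ![1,1,1] (by decide) (by decide) 0 (by decide))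
            · -- 23=(2,1)
              exact False.elim (cert_false T ((skipEmb 0).trans v) (by norm_num) (fun _ => hv _) (((((((LB_zero T ((skipEmb 0).trans v)).upd 0 1 1 (le_of_eq hx12)).upd 0 2 1 (le_of_eq hx13)).upd 1 0 1 (le_of_eq hx21)).upd 1 2 2 (le_of_eq hx23)).upd 2 0 2 (le_of_eq hx31)).upd 2 1 1 (le_of_eq hx32)) ![1,1,1] (by decide) (by decide) 0 (by decide))
            · -- 23=(1,3)
              exact False.elim (cert_false T ((skipEmb 1).trans v) (by norm_num) (fun _ => hv _) (((((LB_zero T ((skipEmb 1).trans v)).upd 0 2 1 (le_of_eq hx03)).upd 1 2 1 (le_of_eq hx23)).upd 2 0 1 (le_of_eq hx30)).upd 2 1 3 (le_of_eq hx32)) ![1,1,2] (by decide) (by decide) 0 (by decide))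
            · -- 23=(3,1)
              exact False.elim (cert_false T ((skipEmb 1).trans v) (by norm_num) (fun _ => hv _) (((((LB_zero T ((skipEmb 1).trans v)).upd 0 2 1 (le_of_eq hx03)).upd 1 2 3 (le_of_eq hx23)).upd 2 0 1 (le_of_eq hx30)).upd 2 1 1 (le_of_eq hx32)) ![1,3,2] (by decide) (by decide) 0 (by decide))
          · -- 13=(2,1)
            have d23 := two_pair T (by norm_num : 2 < 4) ((pairEmb 2 3 (by decide)).trans v) (fun _ => hv _)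
            change (N T v 2 3 = 0 ∧ N T v 3 2 = 0) ∨ (N T v 2 3 = 1 ∧ N T v 3 2 = 1) ∨ (N T v 2 3 = 1 ∧ N T v 3 2 = 2) ∨ (N T v 2 3 = 2 ∧ N T v 3 2 = 1) ∨ (N T v 2 3 = 1 ∧ N T v 3 2 = 3) ∨ (N T v 2 3 = 3 ∧ N T v 3 2 = 1) at d23
            rw [← hx23, ← hx32] at d23
            rcases d23 with ⟨rfl, rfl⟩ | ⟨rfl, rfl⟩ | ⟨rfl, rfl⟩ | ⟨rfl, rfl⟩ | ⟨rfl, rfl⟩ | ⟨rfl, rfl⟩
            · -- 23=(0,0)
              exfalso; omega
            · -- 23=(1,1)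
              exact False.elim (cert_false T ((skipEmb 0).trans v) (by norm_num) (fun _ => hv _) (((((((LB_zero T ((skipEmb 0).trans v)).upd 0 1 1 (le_of_eq hx12)).upd 0 2 2 (le_of_eq hx13)).upd 1 0 1 (le_of_eq hx21)).upd 1 2 1 (le_of_eq hx23)).upd 2 0 1 (le_of_eq hx31)).upd 2 1 1 (le_of_eq hx32)) ![1,1,1] (by decide) (by decide) 0 (by decide))
            · -- 23=(1,2)
              exact False.elim (cert_false T ((skipEmb 0).trans v) (by norm_num) (fun _ => hv _) (((((((LB_zero T ((skipEmb 0).trans v)).upd 0 1 1 (le_of_eq hx12)).upd 0 2 2 (le_of_eq hx13)).upd 1 0 1 (le_of_eq hx21)).upd 1 2 1 (le_of_eq hx23)).upd 2 0 1 (le_of_eq hx31)).upd 2 1 2 (le_of_eq hx32)) ![1,1,1] (by decide) (by decide) 0 (by decide))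
            · -- 23=(2,1)
              exact False.elim (cert_false T ((skipEmb 0).trans v) (by norm_num) (fun _ => hv _) (((((((LB_zero T ((skipEmb 0).trans v)).upd 0 1 1 (le_of_eq hx12)).upd 0 2 2 (le_of_eq hx13)).upd 1 0 1 (le_of_eq hx21)).upd 1 2 2 (le_of_eq hx23)).upd 2 0 1 (le_of_eq hx31)).upd 2 1 1 (le_of_eq hx32)) ![1,1,1] (by decide) (by decide) 0 (by decide))
            · -- 23=(1,3)
              exact False.elim (cert_false T ((skipEmb 1).trans v) (by norm_num) (fun _ => hv _) (((((LB_zero T ((skipEmb 1).trans v)).upd 0 2 1 (le_of_eq hx03)).upd 1 2 1 (le_of_eq hx23)).upd 2 0 1 (le_of_eq hx30)).upd 2 1 3 (le_of_eq hx32)) ![1,1,2] (by decide) (by decide) 0 (by decide))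
            · -- 23=(3,1)
              exact False.elim (cert_false T ((skipEmb 1).trans v) (by norm_num) (fun _ => hv _) (((((LB_zero T ((skipEmb 1).trans v)).upd 0 2 1 (le_of_eq hx03)).upd 1 2 3 (le_of_eq hx23)).upd 2 0 1 (le_of_eq hx30)).upd 2 1 1 (le_of_eq hx32)) ![1,3,2] (by decide) (by decide) 0 (by decide))
          · -- 13=(1,3)
            exact False.elim (cert_false T ((skipEmb 2).trans v) (by norm_num) (fun _ => hv _) (((((LB_zero T ((skipEmb 2).trans v)).upd 0 2 1 (le_of_eq hx03)).upd 1 2 1 (le_of_eq hx13)).upd 2 0 1 (le_of_eq hx30)).upd 2 1 3 (le_of_eq hx31)) ![1,1,2] (by decide) (by decide) 0 (by decide))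
          · -- 13=(3,1)
            exact False.elim (cert_false T ((skipEmb 2).trans v) (by norm_num) (fun _ => hv _) (((((LB_zero T ((skipEmb 2).trans v)).upd 0 2 1 (le_of_eq hx03)).upd 1 2 3 (le_of_eq hx13)).upd 2 0 1 (le_of_eq hx30)).upd 2 1 1 (le_of_eq hx31)) ![1,3,2] (by decide) (by decide) 0 (by decide))
        · -- 03=(1,2)
          have d13 := two_pair T (by norm_num : 2 < 4) ((pairEmb 1 3 (by decide)).trans v) (fun _ => hv _)
          change (N T v 1 3 = 0 ∧ N T v 3 1 = 0) ∨ (N T v 1 3 = 1 ∧ N T v 3 1 = 1) ∨ (N T v 1 3 = 1 ∧ N T v 3 1 = 2) ∨ (N T v 1 3 = 2 ∧ N T v 3 1 = 1) ∨ (N T v 1 3 = 1 ∧ N T v 3 1 = 3) ∨ (N T v 1 3 = 3 ∧ N T v 3 1 = 1) at d13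
          rw [← hx13, ← hx31] at d13
          rcases d13 with ⟨rfl, rfl⟩ | ⟨rfl, rfl⟩ | ⟨rfl, rfl⟩ | ⟨rfl, rfl⟩ | ⟨rfl, rfl⟩ | ⟨rfl, rfl⟩
          · -- 13=(0,0)
            have d23 := two_pair T (by norm_num : 2 < 4) ((pairEmb 2 3 (by decide)).trans v) (fun _ => hv _)
            change (N T v 2 3 = 0 ∧ N T v 3 2 = 0) ∨ (N T v 2 3 = 1 ∧ N T v 3 2 = 1) ∨ (N T v 2 3 = 1 ∧ N T v 3 2 = 2) ∨ (N T v 2 3 = 2 ∧ N T v 3 2 = 1) ∨ (N T v 2 3 = 1 ∧ N T v 3 2 = 3) ∨ (N T v 2 3 = 3 ∧ N T v 3 2 = 1) at d23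
            rw [← hx23, ← hx32] at d23
            rcases d23 with ⟨rfl, rfl⟩ | ⟨rfl, rfl⟩ | ⟨rfl, rfl⟩ | ⟨rfl, rfl⟩ | ⟨rfl, rfl⟩ | ⟨rfl, rfl⟩
            · -- 23=(0,0)
              exfalso; omega
            · -- 23=(1,1)
              exfalso; omega
            · -- 23=(1,2)
              exact False.elim (cert_false T ((skipEmb 1).trans v) (by norm_num) (fun _ => hv _) (((((LB_zero T ((skipEmb 1).trans v)).upd 0 2 1 (le_of_eq hx03)).upd 1 2 1 (le_of_eq hx23)).upd 2 0 2 (le_of_eq hx30)).upd 2 1 2 (le_of_eq hx32)) ![1,1,2] (by decide) (by decide) 0 (by decide))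
            · -- 23=(2,1)
              exact False.elim (cert_false T ((skipEmb 1).trans v) (by norm_num) (fun _ => hv _) (((((LB_zero T ((skipEmb 1).trans v)).upd 0 2 1 (le_of_eq hx03)).upd 1 2 2 (le_of_eq hx23)).upd 2 0 2 (le_of_eq hx30)).upd 2 1 1 (le_of_eq hx32)) ![1,2,2] (by decide) (by decide) 0 (by decide))
            · -- 23=(1,3)
              exact False.elim (cert_false T ((skipEmb 1).trans v) (by norm_num) (fun _ => hv _) (((((LB_zero T ((skipEmb 1).trans v)).upd 0 2 1 (le_of_eq hx03)).upd 1 2 1 (le_of_eq hx23)).upd 2 0 2 (le_of_eq hx30)).upd 2 1 3 (le_of_eq hx32)) ![1,1,2] (by decide) (by decide) 0 (by decide))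
            · -- 23=(3,1)
              exact False.elim (cert_false T ((skipEmb 1).trans v) (by norm_num) (fun _ => hv _) (((((LB_zero T ((skipEmb 1).trans v)).upd 0 2 1 (le_of_eq hx03)).upd 1 2 3 (le_of_eq hx23)).upd 2 0 2 (le_of_eq hx30)).upd 2 1 1 (le_of_eq hx32)) ![1,2,2] (by decide) (by decide) 0 (by decide))
          · -- 13=(1,1)
            have d23 := two_pair T (by norm_num : 2 < 4) ((pairEmb 2 3 (by decide)).trans v) (fun _ => hv _)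
            change (N T v 2 3 = 0 ∧ N T v 3 2 = 0) ∨ (N T v 2 3 = 1 ∧ N T v 3 2 = 1) ∨ (N T v 2 3 = 1 ∧ N T v 3 2 = 2) ∨ (N T v 2 3 = 2 ∧ N T v 3 2 = 1) ∨ (N T v 2 3 = 1 ∧ N T v 3 2 = 3) ∨ (N T v 2 3 = 3 ∧ N T v 3 2 = 1) at d23
            rw [← hx23, ← hx32] at d23
            rcases d23 with ⟨rfl, rfl⟩ | ⟨rfl, rfl⟩ | ⟨rfl, rfl⟩ | ⟨rfl, rfl⟩ | ⟨rfl, rfl⟩ | ⟨rfl, rfl⟩
            · -- 23=(0,0)
              exfalso; omega
            · -- 23=(1,1)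
              exact False.elim (cert_false T ((skipEmb 0).trans v) (by norm_num) (fun _ => hv _) (((((((LB_zero T ((skipEmb 0).trans v)).upd 0 1 1 (le_of_eq hx12)).upd 0 2 1 (le_of_eq hx13)).upd 1 0 1 (le_of_eq hx21)).upd 1 2 1 (le_of_eq hx23)).upd 2 0 1 (le_of_eq hx31)).upd 2 1 1 (le_of_eq hx32)) ![1,1,1] (by decide) (by decide) 0 (by decide))
            · -- 23=(1,2)
              exact False.elim (cert_false T ((skipEmb 1).trans v) (by norm_num) (fun _ => hv _) (((((LB_zero T ((skipEmb 1).trans v)).upd 0 2 1 (le_of_eq hx03)).upd 1 2 1 (le_of_eq hx23)).upd 2 0 2 (le_of_eq hx30)).upd 2 1 2 (le_of_eq hx32)) ![1,1,2] (by decide) (by decide) 0 (by decide))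
            · -- 23=(2,1)
              exact False.elim (cert_false T ((skipEmb 1).trans v) (by norm_num) (fun _ => hv _) (((((LB_zero T ((skipEmb 1).trans v)).upd 0 2 1 (le_of_eq hx03)).upd 1 2 2 (le_of_eq hx23)).upd 2 0 2 (le_of_eq hx30)).upd 2 1 1 (le_of_eq hx32)) ![1,2,2] (by decide) (by decide) 0 (by decide))
            · -- 23=(1,3)
              exact False.elim (cert_false T ((skipEmb 1).trans v) (by norm_num) (fun _ => hv _) (((((LB_zero T ((skipEmb 1).trans v)).upd 0 2 1 (le_of_eq hx03)).upd 1 2 1 (le_of_eq hx23)).upd 2 0 2 (le_of_eq hx30)).upd 2 1 3 (le_of_eq hx32)) ![1,1,2] (by decide) (by decide) 0 (by decide))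
            · -- 23=(3,1)
              exact False.elim (cert_false T ((skipEmb 1).trans v) (by norm_num) (fun _ => hv _) (((((LB_zero T ((skipEmb 1).trans v)).upd 0 2 1 (le_of_eq hx03)).upd 1 2 3 (le_of_eq hx23)).upd 2 0 2 (le_of_eq hx30)).upd 2 1 1 (le_of_eq hx32)) ![1,2,2] (by decide) (by decide) 0 (by decide))
          · -- 13=(1,2)
            exact False.elim (cert_false T ((skipEmb 2).trans v) (by norm_num) (fun _ => hv _) (((((LB_zero T ((skipEmb 2).trans v)).upd 0 2 1 (le_of_eq hx03)).upd 1 2 1 (le_of_eq hx13)).upd 2 0 2 (le_of_eq hx30)).upd 2 1 2 (le_of_eq hx31)) ![1,1,2] (by decide) (by decide) 0 (by decide))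
          · -- 13=(2,1)
            exact False.elim (cert_false T ((skipEmb 2).trans v) (by norm_num) (fun _ => hv _) (((((LB_zero T ((skipEmb 2).trans v)).upd 0 2 1 (le_of_eq hx03)).upd 1 2 2 (le_of_eq hx13)).upd 2 0 2 (le_of_eq hx30)).upd 2 1 1 (le_of_eq hx31)) ![1,2,2] (by decide) (by decide) 0 (by decide))
          · -- 13=(1,3)
            exact False.elim (cert_false T ((skipEmb 2).trans v) (by norm_num) (fun _ => hv _) (((((LB_zero T ((skipEmb 2).trans v)).upd 0 2 1 (le_of_eq hx03)).upd 1 2 1 (le_of_eq hx13)).upd 2 0 2 (le_of_eq hx30)).upd 2 1 3 (le_of_eq hx31)) ![1,1,2] (by decide) (by decide) 0 (by decide))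
          · -- 13=(3,1)
            exact False.elim (cert_false T ((skipEmb 2).trans v) (by norm_num) (fun _ => hv _) (((((LB_zero T ((skipEmb 2).trans v)).upd 0 2 1 (le_of_eq hx03)).upd 1 2 3 (le_of_eq hx13)).upd 2 0 2 (le_of_eq hx30)).upd 2 1 1 (le_of_eq hx31)) ![1,2,2] (by decide) (by decide) 0 (by decide))
        · -- 03=(2,1)
          have d13 := two_pair T (by norm_num : 2 < 4) ((pairEmb 1 3 (by decide)).trans v) (fun _ => hv _)
          change (N T v 1 3 = 0 ∧ N T v 3 1 = 0) ∨ (N T v 1 3 = 1 ∧ N T v 3 1 = 1) ∨ (N T v 1 3 = 1 ∧ N T v 3 1 = 2) ∨ (N T v 1 3 = 2 ∧ N T v 3 1 = 1) ∨ (N T v 1 3 = 1 ∧ N T v 3 1 = 3) ∨ (N T v 1 3 = 3 ∧ N T v 3 1 = 1) at d13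
          rw [← hx13, ← hx31] at d13
          rcases d13 with ⟨rfl, rfl⟩ | ⟨rfl, rfl⟩ | ⟨rfl, rfl⟩ | ⟨rfl, rfl⟩ | ⟨rfl, rfl⟩ | ⟨rfl, rfl⟩
          · -- 13=(0,0)
            have d23 := two_pair T (by norm_num : 2 < 4) ((pairEmb 2 3 (by decide)).trans v) (fun _ => hv _)
            change (N T v 2 3 = 0 ∧ N T v 3 2 = 0) ∨ (N T v 2 3 = 1 ∧ N T v 3 2 = 1) ∨ (N T v 2 3 = 1 ∧ N T v 3 2 = 2) ∨ (N T v 2 3 = 2 ∧ N T v 3 2 = 1) ∨ (N T v 2 3 = 1 ∧ N T v 3 2 = 3) ∨ (N T v 2 3 = 3 ∧ N T v 3 2 = 1) at d23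
            rw [← hx23, ← hx32] at d23
            rcases d23 with ⟨rfl, rfl⟩ | ⟨rfl, rfl⟩ | ⟨rfl, rfl⟩ | ⟨rfl, rfl⟩ | ⟨rfl, rfl⟩ | ⟨rfl, rfl⟩
            · -- 23=(0,0)
              exfalso; omega
            · -- 23=(1,1)
              exfalso; omega
            · -- 23=(1,2)
              exact False.elim (cert_false T ((skipEmb 1).trans v) (by norm_num) (fun _ => hv _) (((((LB_zero T ((skipEmb 1).trans v)).upd 0 2 2 (le_of_eq hx03)).upd 1 2 1 (le_of_eq hx23)).upd 2 0 1 (le_of_eq hx30)).upd 2 1 2 (le_of_eq hx32)) ![2,1,2] (by decide) (by decide) 0 (by decide))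
            · -- 23=(2,1)
              exact False.elim (cert_false T ((skipEmb 1).trans v) (by norm_num) (fun _ => hv _) (((((LB_zero T ((skipEmb 1).trans v)).upd 0 2 2 (le_of_eq hx03)).upd 1 2 2 (le_of_eq hx23)).upd 2 0 1 (le_of_eq hx30)).upd 2 1 1 (le_of_eq hx32)) ![1,1,1] (by decide) (by decide) 0 (by decide))
            · -- 23=(1,3)
              exact False.elim (cert_false T ((skipEmb 1).trans v) (by norm_num) (fun _ => hv _) (((((LB_zero T ((skipEmb 1).trans v)).upd 0 2 2 (le_of_eq hx03)).upd 1 2 1 (le_of_eq hx23)).upd 2 0 1 (le_of_eq hx30)).upd 2 1 3 (le_of_eq hx32)) ![1,1,2] (by decide) (by decide) 0 (by decide))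
            · -- 23=(3,1)
              exact False.elim (cert_false T ((skipEmb 1).trans v) (by norm_num) (fun _ => hv _) (((((LB_zero T ((skipEmb 1).trans v)).upd 0 2 2 (le_of_eq hx03)).upd 1 2 3 (le_of_eq hx23)).upd 2 0 1 (le_of_eq hx30)).upd 2 1 1 (le_of_eq hx32)) ![1,1,1] (by decide) (by decide) 0 (by decide))
          · -- 13=(1,1)
            have d23 := two_pair T (by norm_num : 2 < 4) ((pairEmb 2 3 (by decide)).trans v) (fun _ => hv _)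
            change (N T v 2 3 = 0 ∧ N T v 3 2 = 0) ∨ (N T v 2 3 = 1 ∧ N T v 3 2 = 1) ∨ (N T v 2 3 = 1 ∧ N T v 3 2 = 2) ∨ (N T v 2 3 = 2 ∧ N T v 3 2 = 1) ∨ (N T v 2 3 = 1 ∧ N T v 3 2 = 3) ∨ (N T v 2 3 = 3 ∧ N T v 3 2 = 1) at d23
            rw [← hx23, ← hx32] at d23
            rcases d23 with ⟨rfl, rfl⟩ | ⟨rfl, rfl⟩ | ⟨rfl, rfl⟩ | ⟨rfl, rfl⟩ | ⟨rfl, rfl⟩ | ⟨rfl, rfl⟩
            · -- 23=(0,0)
              exfalso; omega
            · -- 23=(1,1)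
              exact False.elim (cert_false T ((skipEmb 0).trans v) (by norm_num) (fun _ => hv _) (((((((LB_zero T ((skipEmb 0).trans v)).upd 0 1 1 (le_of_eq hx12)).upd 0 2 1 (le_of_eq hx13)).upd 1 0 1 (le_of_eq hx21)).upd 1 2 1 (le_of_eq hx23)).upd 2 0 1 (le_of_eq hx31)).upd 2 1 1 (le_of_eq hx32)) ![1,1,1] (by decide) (by decide) 0 (by decide))
            · -- 23=(1,2)
              exact False.elim (cert_false T ((skipEmb 1).trans v) (by norm_num) (fun _ => hv _) (((((LB_zero T ((skipEmb 1).trans v)).upd 0 2 2 (le_of_eq hx03)).upd 1 2 1 (le_of_eq hx23)).upd 2 0 1 (le_of_eq hx30)).upd 2 1 2 (le_of_eq hx32)) ![2,1,2] (by decide) (by decide) 0 (by decide))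
            · -- 23=(2,1)
              exact False.elim (cert_false T ((skipEmb 1).trans v) (by norm_num) (fun _ => hv _) (((((LB_zero T ((skipEmb 1).trans v)).upd 0 2 2 (le_of_eq hx03)).upd 1 2 2 (le_of_eq hx23)).upd 2 0 1 (le_of_eq hx30)).upd 2 1 1 (le_of_eq hx32)) ![1,1,1] (by decide) (by decide) 0 (by decide))
            · -- 23=(1,3)
              exact False.elim (cert_false T ((skipEmb 1).trans v) (by norm_num) (fun _ => hv _) (((((LB_zero T ((skipEmb 1).trans v)).upd 0 2 2 (le_of_eq hx03)).upd 1 2 1 (le_of_eq hx23)).upd 2 0 1 (le_of_eq hx30)).upd 2 1 3 (le_of_eq hx32)) ![1,1,2] (by decide) (by decide) 0 (by decide))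
            · -- 23=(3,1)
              exact False.elim (cert_false T ((skipEmb 1).trans v) (by norm_num) (fun _ => hv _) (((((LB_zero T ((skipEmb 1).trans v)).upd 0 2 2 (le_of_eq hx03)).upd 1 2 3 (le_of_eq hx23)).upd 2 0 1 (le_of_eq hx30)).upd 2 1 1 (le_of_eq hx32)) ![1,1,1] (by decide) (by decide) 0 (by decide))
          · -- 13=(1,2)
            exact False.elim (cert_false T ((skipEmb 2).trans v) (by norm_num) (fun _ => hv _) (((((LB_zero T ((skipEmb 2).trans v)).upd 0 2 2 (le_of_eq hx03)).upd 1 2 1 (le_of_eq hx13)).upd 2 0 1 (le_of_eq hx30)).upd 2 1 2 (le_of_eq hx31)) ![2,1,2] (by decide) (by decide) 0 (by decide))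
          · -- 13=(2,1)
            exact False.elim (cert_false T ((skipEmb 2).trans v) (by norm_num) (fun _ => hv _) (((((LB_zero T ((skipEmb 2).trans v)).upd 0 2 2 (le_of_eq hx03)).upd 1 2 2 (le_of_eq hx13)).upd 2 0 1 (le_of_eq hx30)).upd 2 1 1 (le_of_eq hx31)) ![1,1,1] (by decide) (by decide) 0 (by decide))
          · -- 13=(1,3)
            exact False.elim (cert_false T ((skipEmb 2).trans v) (by norm_num) (fun _ => hv _) (((((LB_zero T ((skipEmb 2).trans v)).upd 0 2 2 (le_of_eq hx03)).upd 1 2 1 (le_of_eq hx13)).upd 2 0 1 (le_of_eq hx30)).upd 2 1 3 (le_of_eq hx31)) ![1,1,2] (by decide) (by decide) 0 (by decide))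
          · -- 13=(3,1)
            exact False.elim (cert_false T ((skipEmb 2).trans v) (by norm_num) (fun _ => hv _) (((((LB_zero T ((skipEmb 2).trans v)).upd 0 2 2 (le_of_eq hx03)).upd 1 2 3 (le_of_eq hx13)).upd 2 0 1 (le_of_eq hx30)).upd 2 1 1 (le_of_eq hx31)) ![1,1,1] (by decide) (by decide) 0 (by decide))
        · -- 03=(1,3)
          have d13 := two_pair T (by norm_num : 2 < 4) ((pairEmb 1 3 (by decide)).trans v) (fun _ => hv _)
          change (N T v 1 3 = 0 ∧ N T v 3 1 = 0) ∨ (N T v 1 3 = 1 ∧ N T v 3 1 = 1) ∨ (N T v 1 3 = 1 ∧ N T v 3 1 = 2) ∨ (N T v 1 3 = 2 ∧ N T v 3 1 = 1) ∨ (N T v 1 3 = 1 ∧ N T v 3 1 = 3) ∨ (N T v 1 3 = 3 ∧ N T v 3 1 = 1) at d13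
          rw [← hx13, ← hx31] at d13
          rcases d13 with ⟨rfl, rfl⟩ | ⟨rfl, rfl⟩ | ⟨rfl, rfl⟩ | ⟨rfl, rfl⟩ | ⟨rfl, rfl⟩ | ⟨rfl, rfl⟩
          · -- 13=(0,0)
            have d23 := two_pair T (by norm_num : 2 < 4) ((pairEmb 2 3 (by decide)).trans v) (fun _ => hv _)
            change (N T v 2 3 = 0 ∧ N T v 3 2 = 0) ∨ (N T v 2 3 = 1 ∧ N T v 3 2 = 1) ∨ (N T v 2 3 = 1 ∧ N T v 3 2 = 2) ∨ (N T v 2 3 = 2 ∧ N T v 3 2 = 1) ∨ (N T v 2 3 = 1 ∧ N T v 3 2 = 3) ∨ (N T v 2 3 = 3 ∧ N T v 3 2 = 1) at d23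
            rw [← hx23, ← hx32] at d23
            rcases d23 with ⟨rfl, rfl⟩ | ⟨rfl, rfl⟩ | ⟨rfl, rfl⟩ | ⟨rfl, rfl⟩ | ⟨rfl, rfl⟩ | ⟨rfl, rfl⟩
            · -- 23=(0,0)
              exfalso; omega
            · -- 23=(1,1)
              exact False.elim (cert_false T ((skipEmb 1).trans v) (by norm_num) (fun _ => hv _) (((((LB_zero T ((skipEmb 1).trans v)).upd 0 2 1 (le_of_eq hx03)).upd 1 2 1 (le_of_eq hx23)).upd 2 0 3 (le_of_eq hx30)).upd 2 1 1 (le_of_eq hx32)) ![1,1,2] (by decide) (by decide) 0 (by decide))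
            · -- 23=(1,2)
              exact False.elim (cert_false T ((skipEmb 1).trans v) (by norm_num) (fun _ => hv _) (((((LB_zero T ((skipEmb 1).trans v)).upd 0 2 1 (le_of_eq hx03)).upd 1 2 1 (le_of_eq hx23)).upd 2 0 3 (le_of_eq hx30)).upd 2 1 2 (le_of_eq hx32)) ![1,1,2] (by decide) (by decide) 0 (by decide))
            · -- 23=(2,1)
              exact False.elim (cert_false T ((skipEmb 1).trans v) (by norm_num) (fun _ => hv _) (((((LB_zero T ((skipEmb 1).trans v)).upd 0 2 1 (le_of_eq hx03)).upd 1 2 2 (le_of_eq hx23)).upd 2 0 3 (le_of_eq hx30)).upd 2 1 1 (le_of_eq hx32)) ![1,1,2] (by decide) (by decide) 0 (by decide))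
            · -- 23=(1,3)
              exact False.elim (cert_false T ((skipEmb 1).trans v) (by norm_num) (fun _ => hv _) (((((LB_zero T ((skipEmb 1).trans v)).upd 0 2 1 (le_of_eq hx03)).upd 1 2 1 (le_of_eq hx23)).upd 2 0 3 (le_of_eq hx30)).upd 2 1 3 (le_of_eq hx32)) ![1,1,2] (by decide) (by decide) 0 (by decide))
            · -- 23=(3,1)
              exact False.elim (cert_false T ((skipEmb 1).trans v) (by norm_num) (fun _ => hv _) (((((LB_zero T ((skipEmb 1).trans v)).upd 0 2 1 (le_of_eq hx03)).upd 1 2 3 (le_of_eq hx23)).upd 2 0 3 (le_of_eq hx30)).upd 2 1 1 (le_of_eq hx32)) ![1,1,2] (by decide) (by decide) 0 (by decide))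
          · -- 13=(1,1)
            exact False.elim (cert_false T ((skipEmb 2).trans v) (by norm_num) (fun _ => hv _) (((((LB_zero T ((skipEmb 2).trans v)).upd 0 2 1 (le_of_eq hx03)).upd 1 2 1 (le_of_eq hx13)).upd 2 0 3 (le_of_eq hx30)).upd 2 1 1 (le_of_eq hx31)) ![1,1,2] (by decide) (by decide) 0 (by decide))
          · -- 13=(1,2)
            exact False.elim (cert_false T ((skipEmb 2).trans v) (by norm_num) (fun _ => hv _) (((((LB_zero T ((skipEmb 2).trans v)).upd 0 2 1 (le_of_eq hx03)).upd 1 2 1 (le_of_eq hx13)).upd 2 0 3 (le_of_eq hx30)).upd 2 1 2 (le_of_eq hx31)) ![1,1,2] (by decide) (by decide) 0 (by decide))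
          · -- 13=(2,1)
            exact False.elim (cert_false T ((skipEmb 2).trans v) (by norm_num) (fun _ => hv _) (((((LB_zero T ((skipEmb 2).trans v)).upd 0 2 1 (le_of_eq hx03)).upd 1 2 2 (le_of_eq hx13)).upd 2 0 3 (le_of_eq hx30)).upd 2 1 1 (le_of_eq hx31)) ![1,1,2] (by decide) (by decide) 0 (by decide))
          · -- 13=(1,3)
            exact False.elim (cert_false T ((skipEmb 2).trans v) (by norm_num) (fun _ => hv _) (((((LB_zero T ((skipEmb 2).trans v)).upd 0 2 1 (le_of_eq hx03)).upd 1 2 1 (le_of_eq hx13)).upd 2 0 3 (le_of_eq hx30)).upd 2 1 3 (le_of_eq hx31)) ![1,1,2] (by decide) (by decide) 0 (by decide))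
          · -- 13=(3,1)
            exact False.elim (cert_false T ((skipEmb 2).trans v) (by norm_num) (fun _ => hv _) (((((LB_zero T ((skipEmb 2).trans v)).upd 0 2 1 (le_of_eq hx03)).upd 1 2 3 (le_of_eq hx13)).upd 2 0 3 (le_of_eq hx30)).upd 2 1 1 (le_of_eq hx31)) ![1,1,2] (by decide) (by decide) 0 (by decide))
        · -- 03=(3,1)
          have d13 := two_pair T (by norm_num : 2 < 4) ((pairEmb 1 3 (by decide)).trans v) (fun _ => hv _)
          change (N T v 1 3 = 0 ∧ N T v 3 1 = 0) ∨ (N T v 1 3 = 1 ∧ N T v 3 1 = 1) ∨ (N T v 1 3 = 1 ∧ N T v 3 1 = 2) ∨ (N T v 1 3 = 2 ∧ N T v 3 1 = 1) ∨ (N T v 1 3 = 1 ∧ N T v 3 1 = 3) ∨ (N T v 1 3 = 3 ∧ N T v 3 1 = 1) at d13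
          rw [← hx13, ← hx31] at d13
          rcases d13 with ⟨rfl, rfl⟩ | ⟨rfl, rfl⟩ | ⟨rfl, rfl⟩ | ⟨rfl, rfl⟩ | ⟨rfl, rfl⟩ | ⟨rfl, rfl⟩
          · -- 13=(0,0)
            have d23 := two_pair T (by norm_num : 2 < 4) ((pairEmb 2 3 (by decide)).trans v) (fun _ => hv _)
            change (N T v 2 3 = 0 ∧ N T v 3 2 = 0) ∨ (N T v 2 3 = 1 ∧ N T v 3 2 = 1) ∨ (N T v 2 3 = 1 ∧ N T v 3 2 = 2) ∨ (N T v 2 3 = 2 ∧ N T v 3 2 = 1) ∨ (N T v 2 3 = 1 ∧ N T v 3 2 = 3) ∨ (N T v 2 3 = 3 ∧ N T v 3 2 = 1) at d23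
            rw [← hx23, ← hx32] at d23
            rcases d23 with ⟨rfl, rfl⟩ | ⟨rfl, rfl⟩ | ⟨rfl, rfl⟩ | ⟨rfl, rfl⟩ | ⟨rfl, rfl⟩ | ⟨rfl, rfl⟩
            · -- 23=(0,0)
              exfalso; omega
            · -- 23=(1,1)
              exact False.elim (cert_false T ((skipEmb 1).trans v) (by norm_num) (fun _ => hv _) (((((LB_zero T ((skipEmb 1).trans v)).upd 0 2 3 (le_of_eq hx03)).upd 1 2 1 (le_of_eq hx23)).upd 2 0 1 (le_of_eq hx30)).upd 2 1 1 (le_of_eq hx32)) ![3,1,2] (by decide) (by decide) 0 (by decide))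
            · -- 23=(1,2)
              exact False.elim (cert_false T ((skipEmb 1).trans v) (by norm_num) (fun _ => hv _) (((((LB_zero T ((skipEmb 1).trans v)).upd 0 2 3 (le_of_eq hx03)).upd 1 2 1 (le_of_eq hx23)).upd 2 0 1 (le_of_eq hx30)).upd 2 1 2 (le_of_eq hx32)) ![2,1,2] (by decide) (by decide) 0 (by decide))
            · -- 23=(2,1)
              exact False.elim (cert_false T ((skipEmb 1).trans v) (by norm_num) (fun _ => hv _) (((((LB_zero T ((skipEmb 1).trans v)).upd 0 2 3 (le_of_eq hx03)).upd 1 2 2 (le_of_eq hx23)).upd 2 0 1 (le_of_eq hx30)).upd 2 1 1 (le_of_eq hx32)) ![1,1,1] (by decide) (by decide) 0 (by decide))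
            · -- 23=(1,3)
              exact False.elim (cert_false T ((skipEmb 1).trans v) (by norm_num) (fun _ => hv _) (((((LB_zero T ((skipEmb 1).trans v)).upd 0 2 3 (le_of_eq hx03)).upd 1 2 1 (le_of_eq hx23)).upd 2 0 1 (le_of_eq hx30)).upd 2 1 3 (le_of_eq hx32)) ![1,1,2] (by decide) (by decide) 0 (by decide))
            · -- 23=(3,1)
              exact False.elim (cert_false T ((skipEmb 1).trans v) (by norm_num) (fun _ => hv _) (((((LB_zero T ((skipEmb 1).trans v)).upd 0 2 3 (le_of_eq hx03)).upd 1 2 3 (le_of_eq hx23)).upd 2 0 1 (le_of_eq hx30)).upd 2 1 1 (le_of_eq hx32)) ![1,1,1] (by decide) (by decide) 0 (by decide))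
          · -- 13=(1,1)
            exact False.elim (cert_false T ((skipEmb 2).trans v) (by norm_num) (fun _ => hv _) (((((LB_zero T ((skipEmb 2).trans v)).upd 0 2 3 (le_of_eq hx03)).upd 1 2 1 (le_of_eq hx13)).upd 2 0 1 (le_of_eq hx30)).upd 2 1 1 (le_of_eq hx31)) ![3,1,2] (by decide) (by decide) 0 (by decide))
          · -- 13=(1,2)
            exact False.elim (cert_false T ((skipEmb 2).trans v) (by norm_num) (fun _ => hv _) (((((LB_zero T ((skipEmb 2).trans v)).upd 0 2 3 (le_of_eq hx03)).upd 1 2 1 (le_of_eq hx13)).upd 2 0 1 (le_of_eq hx30)).upd 2 1 2 (le_of_eq hx31)) ![2,1,2] (by decide) (by decide) 0 (by decide))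
          · -- 13=(2,1)
            exact False.elim (cert_false T ((skipEmb 2).trans v) (by norm_num) (fun _ => hv _) (((((LB_zero T ((skipEmb 2).trans v)).upd 0 2 3 (le_of_eq hx03)).upd 1 2 2 (le_of_eq hx13)).upd 2 0 1 (le_of_eq hx30)).upd 2 1 1 (le_of_eq hx31)) ![1,1,1] (by decide) (by decide) 0 (by decide))
          · -- 13=(1,3)
            exact False.elim (cert_false T ((skipEmb 2).trans v) (by norm_num) (fun _ => hv _) (((((LB_zero T ((skipEmb 2).trans v)).upd 0 2 3 (le_of_eq hx03)).upd 1 2 1 (le_of_eq hx13)).upd 2 0 1 (le_of_eq hx30)).upd 2 1 3 (le_of_eq hx31)) ![1,1,2] (by decide) (by decide) 0 (by decide))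
          · -- 13=(3,1)
            exact False.elim (cert_false T ((skipEmb 2).trans v) (by norm_num) (fun _ => hv _) (((((LB_zero T ((skipEmb 2).trans v)).upd 0 2 3 (le_of_eq hx03)).upd 1 2 3 (le_of_eq hx13)).upd 2 0 1 (le_of_eq hx30)).upd 2 1 1 (le_of_eq hx31)) ![1,1,1] (by decide) (by decide) 0 (by decide))
      · -- 12=(1,2)
        have d03 := two_pair T (by norm_num : 2 < 4) ((pairEmb 0 3 (by decide)).trans v) (fun _ => hv _)
        change (N T v 0 3 = 0 ∧ N T v 3 0 = 0) ∨ (N T v 0 3 = 1 ∧ N T v 3 0 = 1) ∨ (N T v 0 3 = 1 ∧ N T v 3 0 = 2) ∨ (N T v 0 3 = 2 ∧ N T v 3 0 = 1) ∨ (N T v 0 3 = 1 ∧ N T v 3 0 = 3) ∨ (N T v 0 3 = 3 ∧ N T v 3 0 = 1) at d03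
        rw [← hx03, ← hx30] at d03
        rcases d03 with ⟨rfl, rfl⟩ | ⟨rfl, rfl⟩ | ⟨rfl, rfl⟩ | ⟨rfl, rfl⟩ | ⟨rfl, rfl⟩ | ⟨rfl, rfl⟩
        · -- 03=(0,0)
          have d13 := two_pair T (by norm_num : 2 < 4) ((pairEmb 1 3 (by decide)).trans v) (fun _ => hv _)
          change (N T v 1 3 = 0 ∧ N T v 3 1 = 0) ∨ (N T v 1 3 = 1 ∧ N T v 3 1 = 1) ∨ (N T v 1 3 = 1 ∧ N T v 3 1 = 2) ∨ (N T v 1 3 = 2 ∧ N T v 3 1 = 1) ∨ (N T v 1 3 = 1 ∧ N T v 3 1 = 3) ∨ (N T v 1 3 = 3 ∧ N T v 3 1 = 1) at d13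
          rw [← hx13, ← hx31] at d13
          rcases d13 with ⟨rfl, rfl⟩ | ⟨rfl, rfl⟩ | ⟨rfl, rfl⟩ | ⟨rfl, rfl⟩ | ⟨rfl, rfl⟩ | ⟨rfl, rfl⟩
          · -- 13=(0,0)
            have d23 := two_pair T (by norm_num : 2 < 4) ((pairEmb 2 3 (by decide)).trans v) (fun _ => hv _)
            change (N T v 2 3 = 0 ∧ N T v 3 2 = 0) ∨ (N T v 2 3 = 1 ∧ N T v 3 2 = 1) ∨ (N T v 2 3 = 1 ∧ N T v 3 2 = 2) ∨ (N T v 2 3 = 2 ∧ N T v 3 2 = 1) ∨ (N T v 2 3 = 1 ∧ N T v 3 2 = 3) ∨ (N T v 2 3 = 3 ∧ N T v 3 2 = 1) at d23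
            rw [← hx23, ← hx32] at d23
            rcases d23 with ⟨rfl, rfl⟩ | ⟨rfl, rfl⟩ | ⟨rfl, rfl⟩ | ⟨rfl, rfl⟩ | ⟨rfl, rfl⟩ | ⟨rfl, rfl⟩
            · -- 23=(0,0)
              exfalso; omega
            · -- 23=(1,1)
              exfalso; omega
            · -- 23=(1,2)
              exact False.elim (cert_false T ((skipEmb 0).trans v) (by norm_num) (fun _ => hv _) (((((LB_zero T ((skipEmb 0).trans v)).upd 0 1 1 (le_of_eq hx12)).upd 1 0 2 (le_of_eq hx21)).upd 1 2 1 (le_of_eq hx23)).upd 2 1 2 (le_of_eq hx32)) ![1,2,2] (by decide) (by decide) 0 (by decide))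
            · -- 23=(2,1)
              exact False.elim (cert_false T ((skipEmb 0).trans v) (by norm_num) (fun _ => hv _) (((((LB_zero T ((skipEmb 0).trans v)).upd 0 1 1 (le_of_eq hx12)).upd 1 0 2 (le_of_eq hx21)).upd 1 2 2 (le_of_eq hx23)).upd 2 1 1 (le_of_eq hx32)) ![1,2,1] (by decide) (by decide) 0 (by decide))
            · -- 23=(1,3)
              exact False.elim (cert_false T ((skipEmb 0).trans v) (by norm_num) (fun _ => hv _) (((((LB_zero T ((skipEmb 0).trans v)).upd 0 1 1 (le_of_eq hx12)).upd 1 0 2 (le_of_eq hx21)).upd 1 2 1 (le_of_eq hx23)).upd 2 1 3 (le_of_eq hx32)) ![1,2,2] (by decide) (by decide) 0 (by decide))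
            · -- 23=(3,1)
              exact False.elim (cert_false T ((skipEmb 0).trans v) (by norm_num) (fun _ => hv _) (((((LB_zero T ((skipEmb 0).trans v)).upd 0 1 1 (le_of_eq hx12)).upd 1 0 2 (le_of_eq hx21)).upd 1 2 3 (le_of_eq hx23)).upd 2 1 1 (le_of_eq hx32)) ![1,2,1] (by decide) (by decide) 0 (by decide))
          · -- 13=(1,1)
            have d23 := two_pair T (by norm_num : 2 < 4) ((pairEmb 2 3 (by decide)).trans v) (fun _ => hv _)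
            change (N T v 2 3 = 0 ∧ N T v 3 2 = 0) ∨ (N T v 2 3 = 1 ∧ N T v 3 2 = 1) ∨ (N T v 2 3 = 1 ∧ N T v 3 2 = 2) ∨ (N T v 2 3 = 2 ∧ N T v 3 2 = 1) ∨ (N T v 2 3 = 1 ∧ N T v 3 2 = 3) ∨ (N T v 2 3 = 3 ∧ N T v 3 2 = 1) at d23
            rw [← hx23, ← hx32] at d23
            rcases d23 with ⟨rfl, rfl⟩ | ⟨rfl, rfl⟩ | ⟨rfl, rfl⟩ | ⟨rfl, rfl⟩ | ⟨rfl, rfl⟩ | ⟨rfl, rfl⟩
            · -- 23=(0,0)
              exfalso; omega
            · -- 23=(1,1)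
              exact False.elim (cert_false T ((skipEmb 0).trans v) (by norm_num) (fun _ => hv _) (((((((LB_zero T ((skipEmb 0).trans v)).upd 0 1 1 (le_of_eq hx12)).upd 0 2 1 (le_of_eq hx13)).upd 1 0 2 (le_of_eq hx21)).upd 1 2 1 (le_of_eq hx23)).upd 2 0 1 (le_of_eq hx31)).upd 2 1 1 (le_of_eq hx32)) ![1,1,1] (by decide) (by decide) 0 (by decide))
            · -- 23=(1,2)
              exact False.elim (cert_false T ((skipEmb 0).trans v) (by norm_num) (fun _ => hv _) (((((((LB_zero T ((skipEmb 0).trans v)).upd 0 1 1 (le_of_eq hx12)).upd 0 2 1 (le_of_eq hx13)).upd 1 0 2 (le_of_eq hx21)).upd 1 2 1 (le_of_eq hx23)).upd 2 0 1 (le_of_eq hx31)).upd 2 1 2 (le_of_eq hx32)) ![1,1,1] (by decide) (by decide) 0 (by decide))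
            · -- 23=(2,1)
              exact False.elim (cert_false T ((skipEmb 0).trans v) (by norm_num) (fun _ => hv _) (((((((LB_zero T ((skipEmb 0).trans v)).upd 0 1 1 (le_of_eq hx12)).upd 0 2 1 (le_of_eq hx13)).upd 1 0 2 (le_of_eq hx21)).upd 1 2 2 (le_of_eq hx23)).upd 2 0 1 (le_of_eq hx31)).upd 2 1 1 (le_of_eq hx32)) ![1,1,1] (by decide) (by decide) 0 (by decide))
            · -- 23=(1,3)
              exact False.elim (cert_false T ((skipEmb 0).trans v) (by norm_num) (fun _ => hv _) (((((((LB_zero T ((skipEmb 0).trans v)).upd 0 1 1 (le_of_eq hx12)).upd 0 2 1 (le_of_eq hx13)).upd 1 0 2 (le_of_eq hx21)).upd 1 2 1 (le_of_eq hx23)).upd 2 0 1 (le_of_eq hx31)).upd 2 1 3 (le_of_eq hx32)) ![1,1,1] (by decide) (by decide) 0 (by decide))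
            · -- 23=(3,1)
              exact False.elim (cert_false T ((skipEmb 0).trans v) (by norm_num) (fun _ => hv _) (((((((LB_zero T ((skipEmb 0).trans v)).upd 0 1 1 (le_of_eq hx12)).upd 0 2 1 (le_of_eq hx13)).upd 1 0 2 (le_of_eq hx21)).upd 1 2 3 (le_of_eq hx23)).upd 2 0 1 (le_of_eq hx31)).upd 2 1 1 (le_of_eq hx32)) ![1,1,1] (by decide) (by decide) 0 (by decide))
          · -- 13=(1,2)
            exact False.elim (cert_false T ((skipEmb 0).trans v) (by norm_num) (fun _ => hv _) (((((LB_zero T ((skipEmb 0).trans v)).upd 0 1 1 (le_of_eq hx12)).upd 0 2 1 (le_of_eq hx13)).upd 1 0 2 (le_of_eq hx21)).upd 2 0 2 (le_of_eq hx31)) ![1,1,1] (by decide) (by decide) 0 (by decide))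
          · -- 13=(2,1)
            exact False.elim (cert_false T ((skipEmb 0).trans v) (by norm_num) (fun _ => hv _) (((((LB_zero T ((skipEmb 0).trans v)).upd 0 1 1 (le_of_eq hx12)).upd 0 2 2 (le_of_eq hx13)).upd 1 0 2 (le_of_eq hx21)).upd 2 0 1 (le_of_eq hx31)) ![2,2,1] (by decide) (by decide) 0 (by decide))
          · -- 13=(1,3)
            exact False.elim (cert_false T ((skipEmb 0).trans v) (by norm_num) (fun _ => hv _) (((((LB_zero T ((skipEmb 0).trans v)).upd 0 1 1 (le_of_eq hx12)).upd 0 2 1 (le_of_eq hx13)).upd 1 0 2 (le_of_eq hx21)).upd 2 0 3 (le_of_eq hx31)) ![1,1,1] (by decide) (by decide) 0 (by decide))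
          · -- 13=(3,1)
            exact False.elim (cert_false T ((skipEmb 0).trans v) (by norm_num) (fun _ => hv _) (((((LB_zero T ((skipEmb 0).trans v)).upd 0 1 1 (le_of_eq hx12)).upd 0 2 3 (le_of_eq hx13)).upd 1 0 2 (le_of_eq hx21)).upd 2 0 1 (le_of_eq hx31)) ![2,1,1] (by decide) (by decide) 0 (by decide))
        · -- 03=(1,1)
          have d13 := two_pair T (by norm_num : 2 < 4) ((pairEmb 1 3 (by decide)).trans v) (fun _ => hv _)
          change (N T v 1 3 = 0 ∧ N T v 3 1 = 0) ∨ (N T v 1 3 = 1 ∧ N T v 3 1 = 1) ∨ (N T v 1 3 = 1 ∧ N T v 3 1 = 2) ∨ (N T v 1 3 = 2 ∧ N T v 3 1 = 1) ∨ (N T v 1 3 = 1 ∧ N T v 3 1 = 3) ∨ (N T v 1 3 = 3 ∧ N T v 3 1 = 1) at d13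
          rw [← hx13, ← hx31] at d13
          rcases d13 with ⟨rfl, rfl⟩ | ⟨rfl, rfl⟩ | ⟨rfl, rfl⟩ | ⟨rfl, rfl⟩ | ⟨rfl, rfl⟩ | ⟨rfl, rfl⟩
          · -- 13=(0,0)
            have d23 := two_pair T (by norm_num : 2 < 4) ((pairEmb 2 3 (by decide)).trans v) (fun _ => hv _)
            change (N T v 2 3 = 0 ∧ N T v 3 2 = 0) ∨ (N T v 2 3 = 1 ∧ N T v 3 2 = 1) ∨ (N T v 2 3 = 1 ∧ N T v 3 2 = 2) ∨ (N T v 2 3 = 2 ∧ N T v 3 2 = 1) ∨ (N T v 2 3 = 1 ∧ N T v 3 2 = 3) ∨ (N T v 2 3 = 3 ∧ N T v 3 2 = 1) at d23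
            rw [← hx23, ← hx32] at d23
            rcases d23 with ⟨rfl, rfl⟩ | ⟨rfl, rfl⟩ | ⟨rfl, rfl⟩ | ⟨rfl, rfl⟩ | ⟨rfl, rfl⟩ | ⟨rfl, rfl⟩
            · -- 23=(0,0)
              exfalso; omega
            · -- 23=(1,1)
              exfalso; omega
            · -- 23=(1,2)
              exact False.elim (cert_false T ((skipEmb 0).trans v) (by norm_num) (fun _ => hv _) (((((LB_zero T ((skipEmb 0).trans v)).upd 0 1 1 (le_of_eq hx12)).upd 1 0 2 (le_of_eq hx21)).upd 1 2 1 (le_of_eq hx23)).upd 2 1 2 (le_of_eq hx32)) ![1,2,2] (by decide) (by decide) 0 (by decide))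
            · -- 23=(2,1)
              exact False.elim (cert_false T ((skipEmb 0).trans v) (by norm_num) (fun _ => hv _) (((((LB_zero T ((skipEmb 0).trans v)).upd 0 1 1 (le_of_eq hx12)).upd 1 0 2 (le_of_eq hx21)).upd 1 2 2 (le_of_eq hx23)).upd 2 1 1 (le_of_eq hx32)) ![1,2,1] (by decide) (by decide) 0 (by decide))
            · -- 23=(1,3)
              exact False.elim (cert_false T ((skipEmb 1).trans v) (by norm_num) (fun _ => hv _) (((((LB_zero T ((skipEmb 1).trans v)).upd 0 2 1 (le_of_eq hx03)).upd 1 2 1 (le_of_eq hx23)).upd 2 0 1 (le_of_eq hx30)).upd 2 1 3 (le_of_eq hx32)) ![1,1,2] (by decide) (by decide) 0 (by decide))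
            · -- 23=(3,1)
              exact False.elim (cert_false T ((skipEmb 1).trans v) (by norm_num) (fun _ => hv _) (((((LB_zero T ((skipEmb 1).trans v)).upd 0 2 1 (le_of_eq hx03)).upd 1 2 3 (le_of_eq hx23)).upd 2 0 1 (le_of_eq hx30)).upd 2 1 1 (le_of_eq hx32)) ![1,3,2] (by decide) (by decide) 0 (by decide))
          · -- 13=(1,1)
            have d23 := two_pair T (by norm_num : 2 < 4) ((pairEmb 2 3 (by decide)).trans v) (fun _ => hv _)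
            change (N T v 2 3 = 0 ∧ N T v 3 2 = 0) ∨ (N T v 2 3 = 1 ∧ N T v 3 2 = 1) ∨ (N T v 2 3 = 1 ∧ N T v 3 2 = 2) ∨ (N T v 2 3 = 2 ∧ N T v 3 2 = 1) ∨ (N T v 2 3 = 1 ∧ N T v 3 2 = 3) ∨ (N T v 2 3 = 3 ∧ N T v 3 2 = 1) at d23
            rw [← hx23, ← hx32] at d23
            rcases d23 with ⟨rfl, rfl⟩ | ⟨rfl, rfl⟩ | ⟨rfl, rfl⟩ | ⟨rfl, rfl⟩ | ⟨rfl, rfl⟩ | ⟨rfl, rfl⟩
            · -- 23=(0,0)
              exfalso; omega
            · -- 23=(1,1)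
              exact False.elim (cert_false T ((skipEmb 0).trans v) (by norm_num) (fun _ => hv _) (((((((LB_zero T ((skipEmb 0).trans v)).upd 0 1 1 (le_of_eq hx12)).upd 0 2 1 (le_of_eq hx13)).upd 1 0 2 (le_of_eq hx21)).upd 1 2 1 (le_of_eq hx23)).upd 2 0 1 (le_of_eq hx31)).upd 2 1 1 (le_of_eq hx32)) ![1,1,1] (by decide) (by decide) 0 (by decide))
            · -- 23=(1,2)
              exact False.elim (cert_false T ((skipEmb 0).trans v) (by norm_num) (fun _ => hv _) (((((((LB_zero T ((skipEmb 0).trans v)).upd 0 1 1 (le_of_eq hx12)).upd 0 2 1 (le_of_eq hx13)).upd 1 0 2 (le_of_eq hx21)).upd 1 2 1 (le_of_eq hx23)).upd 2 0 1 (le_of_eq hx31)).upd 2 1 2 (le_of_eq hx32)) ![1,1,1] (by decide) (by decide) 0 (by decide))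
            · -- 23=(2,1)
              exact False.elim (cert_false T ((skipEmb 0).trans v) (by norm_num) (fun _ => hv _) (((((((LB_zero T ((skipEmb 0).trans v)).upd 0 1 1 (le_of_eq hx12)).upd 0 2 1 (le_of_eq hx13)).upd 1 0 2 (le_of_eq hx21)).upd 1 2 2 (le_of_eq hx23)).upd 2 0 1 (le_of_eq hx31)).upd 2 1 1 (le_of_eq hx32)) ![1,1,1] (by decide) (by decide) 0 (by decide))
            · -- 23=(1,3)
              exact False.elim (cert_false T ((skipEmb 1).trans v) (by norm_num) (fun _ => hv _) (((((LB_zero T ((skipEmb 1).trans v)).upd 0 2 1 (le_of_eq hx03)).upd 1 2 1 (le_of_eq hx23)).upd 2 0 1 (le_of_eq hx30)).upd 2 1 3 (le_of_eq hx32)) ![1,1,2] (by decide) (by decide) 0 (by decide))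
            · -- 23=(3,1)
              exact False.elim (cert_false T ((skipEmb 1).trans v) (by norm_num) (fun _ => hv _) (((((LB_zero T ((skipEmb 1).trans v)).upd 0 2 1 (le_of_eq hx03)).upd 1 2 3 (le_of_eq hx23)).upd 2 0 1 (le_of_eq hx30)).upd 2 1 1 (le_of_eq hx32)) ![1,3,2] (by decide) (by decide) 0 (by decide))
          · -- 13=(1,2)
            exact False.elim (cert_false T ((skipEmb 0).trans v) (by norm_num) (fun _ => hv _) (((((LB_zero T ((skipEmb 0).trans v)).upd 0 1 1 (le_of_eq hx12)).upd 0 2 1 (le_of_eq hx13)).upd 1 0 2 (le_of_eq hx21)).upd 2 0 2 (le_of_eq hx31)) ![1,1,1] (by decide) (by decide) 0 (by decide))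
          · -- 13=(2,1)
            exact False.elim (cert_false T ((skipEmb 0).trans v) (by norm_num) (fun _ => hv _) (((((LB_zero T ((skipEmb 0).trans v)).upd 0 1 1 (le_of_eq hx12)).upd 0 2 2 (le_of_eq hx13)).upd 1 0 2 (le_of_eq hx21)).upd 2 0 1 (le_of_eq hx31)) ![2,2,1] (by decide) (by decide) 0 (by decide))
          · -- 13=(1,3)
            exact False.elim (cert_false T ((skipEmb 2).trans v) (by norm_num) (fun _ => hv _) (((((LB_zero T ((skipEmb 2).trans v)).upd 0 2 1 (le_of_eq hx03)).upd 1 2 1 (le_of_eq hx13)).upd 2 0 1 (le_of_eq hx30)).upd 2 1 3 (le_of_eq hx31)) ![1,1,2] (by decide) (by decide) 0 (by decide))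
          · -- 13=(3,1)
            exact False.elim (cert_false T ((skipEmb 2).trans v) (by norm_num) (fun _ => hv _) (((((LB_zero T ((skipEmb 2).trans v)).upd 0 2 1 (le_of_eq hx03)).upd 1 2 3 (le_of_eq hx13)).upd 2 0 1 (le_of_eq hx30)).upd 2 1 1 (le_of_eq hx31)) ![1,3,2] (by decide) (by decide) 0 (by decide))
        · -- 03=(1,2)
          have d13 := two_pair T (by norm_num : 2 < 4) ((pairEmb 1 3 (by decide)).trans v) (fun _ => hv _)
          change (N T v 1 3 = 0 ∧ N T v 3 1 = 0) ∨ (N T v 1 3 = 1 ∧ N T v 3 1 = 1) ∨ (N T v 1 3 = 1 ∧ N T v 3 1 = 2) ∨ (N T v 1 3 = 2 ∧ N T v 3 1 = 1) ∨ (N T v 1 3 = 1 ∧ N T v 3 1 = 3) ∨ (N T v 1 3 = 3 ∧ N T v 3 1 = 1) at d13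
          rw [← hx13, ← hx31] at d13
          rcases d13 with ⟨rfl, rfl⟩ | ⟨rfl, rfl⟩ | ⟨rfl, rfl⟩ | ⟨rfl, rfl⟩ | ⟨rfl, rfl⟩ | ⟨rfl, rfl⟩
          · -- 13=(0,0)
            have d23 := two_pair T (by norm_num : 2 < 4) ((pairEmb 2 3 (by decide)).trans v) (fun _ => hv _)
            change (N T v 2 3 = 0 ∧ N T v 3 2 = 0) ∨ (N T v 2 3 = 1 ∧ N T v 3 2 = 1) ∨ (N T v 2 3 = 1 ∧ N T v 3 2 = 2) ∨ (N T v 2 3 = 2 ∧ N T v 3 2 = 1) ∨ (N T v 2 3 = 1 ∧ N T v 3 2 = 3) ∨ (N T v 2 3 = 3 ∧ N T v 3 2 = 1) at d23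
            rw [← hx23, ← hx32] at d23
            rcases d23 with ⟨rfl, rfl⟩ | ⟨rfl, rfl⟩ | ⟨rfl, rfl⟩ | ⟨rfl, rfl⟩ | ⟨rfl, rfl⟩ | ⟨rfl, rfl⟩
            · -- 23=(0,0)
              exfalso; omega
            · -- 23=(1,1)
              refine ⟨(⟨![0, 3, 2, 1], ![0, 3, 2, 1], by decide, by decide⟩ : Equiv.Perm (Fin 4)), T.m 0, T.w 3, Or.inr (Or.inr (Or.inr (Or.inl ?_)))⟩
              show T.m 0 = T.m 0 ∧ T.m 3 = 2 * T.m 0 ∧ T.m 2 = 2 * T.m 0 ∧ T.m 1 = T.m 0 ∧ T.w 0 = 2 * T.w 3 ∧ T.w 3 = T.w 3 ∧ T.w 2 = T.w 3 ∧ T.w 1 = 2 * T.w 3 ∧ T.a 0 0 = -4 * T.w 3 ∧ T.a 0 3 = 2 * T.w 3 ∧ T.a 0 2 = 0 ∧ T.a 0 1 = 0 ∧ T.a 3 3 = -2 * T.w 3 ∧ T.a 3 2 = T.w 3 ∧ T.a 3 1 = 0 ∧ T.a 2 2 = -2 * T.w 3 ∧ T.a 2 1 = 2 * T.w 3 ∧ T.a 1 1 = -4 * T.w 3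
              refine ⟨?_, ?_, ?_, ?_, ?_, ?_, ?_, ?_, ?_, ?_, ?_, ?_, ?_, ?_, ?_, ?_, ?_, ?_⟩ <;> omega
            · -- 23=(1,2)
              exact False.elim (cert_false T ((skipEmb 1).trans v) (by norm_num) (fun _ => hv _) (((((LB_zero T ((skipEmb 1).trans v)).upd 0 2 1 (le_of_eq hx03)).upd 1 2 1 (le_of_eq hx23)).upd 2 0 2 (le_of_eq hx30)).upd 2 1 2 (le_of_eq hx32)) ![1,1,2] (by decide) (by decide) 0 (by decide))
            · -- 23=(2,1)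
              exact False.elim (cert_false T ((skipEmb 1).trans v) (by norm_num) (fun _ => hv _) (((((LB_zero T ((skipEmb 1).trans v)).upd 0 2 1 (le_of_eq hx03)).upd 1 2 2 (le_of_eq hx23)).upd 2 0 2 (le_of_eq hx30)).upd 2 1 1 (le_of_eq hx32)) ![1,2,2] (by decide) (by decide) 0 (by decide))
            · -- 23=(1,3)
              exact False.elim (cert_false T ((skipEmb 1).trans v) (by norm_num) (fun _ => hv _) (((((LB_zero T ((skipEmb 1).trans v)).upd 0 2 1 (le_of_eq hx03)).upd 1 2 1 (le_of_eq hx23)).upd 2 0 2 (le_of_eq hx30)).upd 2 1 3 (le_of_eq hx32)) ![1,1,2] (by decide) (by decide) 0 (by decide))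
            · -- 23=(3,1)
              exact False.elim (cert_false T ((skipEmb 1).trans v) (by norm_num) (fun _ => hv _) (((((LB_zero T ((skipEmb 1).trans v)).upd 0 2 1 (le_of_eq hx03)).upd 1 2 3 (le_of_eq hx23)).upd 2 0 2 (le_of_eq hx30)).upd 2 1 1 (le_of_eq hx32)) ![1,2,2] (by decide) (by decide) 0 (by decide))
          · -- 13=(1,1)
            have d23 := two_pair T (by norm_num : 2 < 4) ((pairEmb 2 3 (by decide)).trans v) (fun _ => hv _)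
            change (N T v 2 3 = 0 ∧ N T v 3 2 = 0) ∨ (N T v 2 3 = 1 ∧ N T v 3 2 = 1) ∨ (N T v 2 3 = 1 ∧ N T v 3 2 = 2) ∨ (N T v 2 3 = 2 ∧ N T v 3 2 = 1) ∨ (N T v 2 3 = 1 ∧ N T v 3 2 = 3) ∨ (N T v 2 3 = 3 ∧ N T v 3 2 = 1) at d23
            rw [← hx23, ← hx32] at d23
            rcases d23 with ⟨rfl, rfl⟩ | ⟨rfl, rfl⟩ | ⟨rfl, rfl⟩ | ⟨rfl, rfl⟩ | ⟨rfl, rfl⟩ | ⟨rfl, rfl⟩
            · -- 23=(0,0)
              refine ⟨(⟨![2, 1, 3, 0], ![3, 1, 0, 2], by decide, by decide⟩ : Equiv.Perm (Fin 4)), T.m 0, T.w 2, Or.inr (Or.inl ?_)⟩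
              show T.m 2 = 2 * T.m 0 ∧ T.m 1 = 2 * T.m 0 ∧ T.m 3 = 2 * T.m 0 ∧ T.m 0 = T.m 0 ∧ T.w 2 = T.w 2 ∧ T.w 1 = 2 * T.w 2 ∧ T.w 3 = 2 * T.w 2 ∧ T.w 0 = 4 * T.w 2 ∧ T.a 2 2 = -2 * T.w 2 ∧ T.a 2 1 = 2 * T.w 2 ∧ T.a 2 3 = 0 ∧ T.a 2 0 = 0 ∧ T.a 1 1 = -4 * T.w 2 ∧ T.a 1 3 = 2 * T.w 2 ∧ T.a 1 0 = 0 ∧ T.a 3 3 = -4 * T.w 2 ∧ T.a 3 0 = 4 * T.w 2 ∧ T.a 0 0 = -8 * T.w 2
              refine ⟨?_, ?_, ?_, ?_, ?_, ?_, ?_, ?_, ?_, ?_, ?_, ?_, ?_, ?_, ?_, ?_, ?_, ?_⟩ <;> omega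
            · -- 23=(1,1)
              exact False.elim (cert_false T ((skipEmb 0).trans v) (by norm_num) (fun _ => hv _) (((((((LB_zero T ((skipEmb 0).trans v)).upd 0 1 1 (le_of_eq hx12)).upd 0 2 1 (le_of_eq hx13)).upd 1 0 2 (le_of_eq hx21)).upd 1 2 1 (le_of_eq hx23)).upd 2 0 1 (le_of_eq hx31)).upd 2 1 1 (le_of_eq hx32)) ![1,1,1] (by decide) (by decide) 0 (by decide))
            · -- 23=(1,2)
              exact False.elim (cert_false T ((skipEmb 1).trans v) (by norm_num) (fun _ => hv _) (((((LB_zero T ((skipEmb 1).trans v)).upd 0 2 1 (le_of_eq hx03)).upd 1 2 1 (le_of_eq hx23)).upd 2 0 2 (le_of_eq hx30)).upd 2 1 2 (le_of_eq hx32)) ![1,1,2] (by decide) (by decide) 0 (by decide))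
            · -- 23=(2,1)
              exact False.elim (cert_false T ((skipEmb 1).trans v) (by norm_num) (fun _ => hv _) (((((LB_zero T ((skipEmb 1).trans v)).upd 0 2 1 (le_of_eq hx03)).upd 1 2 2 (le_of_eq hx23)).upd 2 0 2 (le_of_eq hx30)).upd 2 1 1 (le_of_eq hx32)) ![1,2,2] (by decide) (by decide) 0 (by decide))
            · -- 23=(1,3)
              exact False.elim (cert_false T ((skipEmb 1).trans v) (by norm_num) (fun _ => hv _) (((((LB_zero T ((skipEmb 1).trans v)).upd 0 2 1 (le_of_eq hx03)).upd 1 2 1 (le_of_eq hx23)).upd 2 0 2 (le_of_eq hx30)).upd 2 1 3 (le_of_eq hx32)) ![1,1,2] (by decide) (by decide) 0 (by decide))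
            · -- 23=(3,1)
              exact False.elim (cert_false T ((skipEmb 1).trans v) (by norm_num) (fun _ => hv _) (((((LB_zero T ((skipEmb 1).trans v)).upd 0 2 1 (le_of_eq hx03)).upd 1 2 3 (le_of_eq hx23)).upd 2 0 2 (le_of_eq hx30)).upd 2 1 1 (le_of_eq hx32)) ![1,2,2] (by decide) (by decide) 0 (by decide))
          · -- 13=(1,2)
            exact False.elim (cert_false T ((skipEmb 2).trans v) (by norm_num) (fun _ => hv _) (((((LB_zero T ((skipEmb 2).trans v)).upd 0 2 1 (le_of_eq hx03)).upd 1 2 1 (le_of_eq hx13)).upd 2 0 2 (le_of_eq hx30)).upd 2 1 2 (le_of_eq hx31)) ![1,1,2] (by decide) (by decide) 0 (by decide))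
          · -- 13=(2,1)
            exact False.elim (cert_false T ((skipEmb 2).trans v) (by norm_num) (fun _ => hv _) (((((LB_zero T ((skipEmb 2).trans v)).upd 0 2 1 (le_of_eq hx03)).upd 1 2 2 (le_of_eq hx13)).upd 2 0 2 (le_of_eq hx30)).upd 2 1 1 (le_of_eq hx31)) ![1,2,2] (by decide) (by decide) 0 (by decide))
          · -- 13=(1,3)
            exact False.elim (cert_false T ((skipEmb 2).trans v) (by norm_num) (fun _ => hv _) (((((LB_zero T ((skipEmb 2).trans v)).upd 0 2 1 (le_of_eq hx03)).upd 1 2 1 (le_of_eq hx13)).upd 2 0 2 (le_of_eq hx30)).upd 2 1 3 (le_of_eq hx31)) ![1,1,2] (by decide) (by decide) 0 (by decide))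
          · -- 13=(3,1)
            exact False.elim (cert_false T ((skipEmb 2).trans v) (by norm_num) (fun _ => hv _) (((((LB_zero T ((skipEmb 2).trans v)).upd 0 2 1 (le_of_eq hx03)).upd 1 2 3 (le_of_eq hx13)).upd 2 0 2 (le_of_eq hx30)).upd 2 1 1 (le_of_eq hx31)) ![1,2,2] (by decide) (by decide) 0 (by decide))
        · -- 03=(2,1)
          have d13 := two_pair T (by norm_num : 2 < 4) ((pairEmb 1 3 (by decide)).trans v) (fun _ => hv _)
          change (N T v 1 3 = 0 ∧ N T v 3 1 = 0) ∨ (N T v 1 3 = 1 ∧ N T v 3 1 = 1) ∨ (N T v 1 3 = 1 ∧ N T v 3 1 = 2) ∨ (N T v 1 3 = 2 ∧ N T v 3 1 = 1) ∨ (N T v 1 3 = 1 ∧ N T v 3 1 = 3) ∨ (N T v 1 3 = 3 ∧ N T v 3 1 = 1) at d13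
          rw [← hx13, ← hx31] at d13
          rcases d13 with ⟨rfl, rfl⟩ | ⟨rfl, rfl⟩ | ⟨rfl, rfl⟩ | ⟨rfl, rfl⟩ | ⟨rfl, rfl⟩ | ⟨rfl, rfl⟩
          · -- 13=(0,0)
            have d23 := two_pair T (by norm_num : 2 < 4) ((pairEmb 2 3 (by decide)).trans v) (fun _ => hv _)
            change (N T v 2 3 = 0 ∧ N T v 3 2 = 0) ∨ (N T v 2 3 = 1 ∧ N T v 3 2 = 1) ∨ (N T v 2 3 = 1 ∧ N T v 3 2 = 2) ∨ (N T v 2 3 = 2 ∧ N T v 3 2 = 1) ∨ (N T v 2 3 = 1 ∧ N T v 3 2 = 3) ∨ (N T v 2 3 = 3 ∧ N T v 3 2 = 1) at d23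
            rw [← hx23, ← hx32] at d23
            rcases d23 with ⟨rfl, rfl⟩ | ⟨rfl, rfl⟩ | ⟨rfl, rfl⟩ | ⟨rfl, rfl⟩ | ⟨rfl, rfl⟩ | ⟨rfl, rfl⟩
            · -- 23=(0,0)
              exfalso; omega
            · -- 23=(1,1)
              refine ⟨(⟨![0, 3, 2, 1], ![0, 3, 2, 1], by decide, by decide⟩ : Equiv.Perm (Fin 4)), T.m 1, T.w 0, Or.inr (Or.inl ?_)⟩
              show T.m 0 = 2 * T.m 1 ∧ T.m 3 = 2 * T.m 1 ∧ T.m 2 = 2 * T.m 1 ∧ T.m 1 = T.m 1 ∧ T.w 0 = T.w 0 ∧ T.w 3 = 2 * T.w 0 ∧ T.w 2 = 2 * T.w 0 ∧ T.w 1 = 4 * T.w 0 ∧ T.a 0 0 = -2 * T.w 0 ∧ T.a 0 3 = 2 * T.w 0 ∧ T.a 0 2 = 0 ∧ T.a 0 1 = 0 ∧ T.a 3 3 = -4 * T.w 0 ∧ T.a 3 2 = 2 * T.w 0 ∧ T.a 3 1 = 0 ∧ T.a 2 2 = -4 * T.w 0 ∧ T.a 2 1 = 4 * T.w 0 ∧ T.a 1 1 = -8 * T.w 0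
              refine ⟨?_, ?_, ?_, ?_, ?_, ?_, ?_, ?_, ?_, ?_, ?_, ?_, ?_, ?_, ?_, ?_, ?_, ?_⟩ <;> omega
            · -- 23=(1,2)
              exact False.elim (cert_false T ((skipEmb 1).trans v) (by norm_num) (fun _ => hv _) (((((LB_zero T ((skipEmb 1).trans v)).upd 0 2 2 (le_of_eq hx03)).upd 1 2 1 (le_of_eq hx23)).upd 2 0 1 (le_of_eq hx30)).upd 2 1 2 (le_of_eq hx32)) ![2,1,2] (by decide) (by decide) 0 (by decide))
            · -- 23=(2,1)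
              exact False.elim (cert_false T ((skipEmb 1).trans v) (by norm_num) (fun _ => hv _) (((((LB_zero T ((skipEmb 1).trans v)).upd 0 2 2 (le_of_eq hx03)).upd 1 2 2 (le_of_eq hx23)).upd 2 0 1 (le_of_eq hx30)).upd 2 1 1 (le_of_eq hx32)) ![1,1,1] (by decide) (by decide) 0 (by decide))
            · -- 23=(1,3)
              exact False.elim (cert_false T ((skipEmb 1).trans v) (by norm_num) (fun _ => hv _) (((((LB_zero T ((skipEmb 1).trans v)).upd 0 2 2 (le_of_eq hx03)).upd 1 2 1 (le_of_eq hx23)).upd 2 0 1 (le_of_eq hx30)).upd 2 1 3 (le_of_eq hx32)) ![1,1,2] (by decide) (by decide) 0 (by decide))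
            · -- 23=(3,1)
              exact False.elim (cert_false T ((skipEmb 1).trans v) (by norm_num) (fun _ => hv _) (((((LB_zero T ((skipEmb 1).trans v)).upd 0 2 2 (le_of_eq hx03)).upd 1 2 3 (le_of_eq hx23)).upd 2 0 1 (le_of_eq hx30)).upd 2 1 1 (le_of_eq hx32)) ![1,1,1] (by decide) (by decide) 0 (by decide))
          · -- 13=(1,1)
            have d23 := two_pair T (by norm_num : 2 < 4) ((pairEmb 2 3 (by decide)).trans v) (fun _ => hv _)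
            change (N T v 2 3 = 0 ∧ N T v 3 2 = 0) ∨ (N T v 2 3 = 1 ∧ N T v 3 2 = 1) ∨ (N T v 2 3 = 1 ∧ N T v 3 2 = 2) ∨ (N T v 2 3 = 2 ∧ N T v 3 2 = 1) ∨ (N T v 2 3 = 1 ∧ N T v 3 2 = 3) ∨ (N T v 2 3 = 3 ∧ N T v 3 2 = 1) at d23
            rw [← hx23, ← hx32] at d23
            rcases d23 with ⟨rfl, rfl⟩ | ⟨rfl, rfl⟩ | ⟨rfl, rfl⟩ | ⟨rfl, rfl⟩ | ⟨rfl, rfl⟩ | ⟨rfl, rfl⟩
            · -- 23=(0,0)
              refine ⟨(⟨![0, 3, 1, 2], ![0, 2, 3, 1], by decide, by decide⟩ : Equiv.Perm (Fin 4)), T.m 0, T.w 0, Or.inr (Or.inr (Or.inl ?_))⟩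
              show T.m 0 = T.m 0 ∧ T.m 3 = T.m 0 ∧ T.m 1 = T.m 0 ∧ T.m 2 = T.m 0 ∧ T.w 0 = T.w 0 ∧ T.w 3 = 2 * T.w 0 ∧ T.w 1 = 2 * T.w 0 ∧ T.w 2 = T.w 0 ∧ T.a 0 0 = -2 * T.w 0 ∧ T.a 0 3 = 2 * T.w 0 ∧ T.a 0 1 = 0 ∧ T.a 0 2 = 0 ∧ T.a 3 3 = -4 * T.w 0 ∧ T.a 3 1 = 2 * T.w 0 ∧ T.a 3 2 = 0 ∧ T.a 1 1 = -4 * T.w 0 ∧ T.a 1 2 = 2 * T.w 0 ∧ T.a 2 2 = -2 * T.w 0
              refine ⟨?_, ?_, ?_, ?_, ?_, ?_, ?_, ?_, ?_, ?_, ?_, ?_, ?_, ?_, ?_, ?_, ?_, ?_⟩ <;> omega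
            · -- 23=(1,1)
              exact False.elim (cert_false T ((skipEmb 0).trans v) (by norm_num) (fun _ => hv _) (((((((LB_zero T ((skipEmb 0).trans v)).upd 0 1 1 (le_of_eq hx12)).upd 0 2 1 (le_of_eq hx13)).upd 1 0 2 (le_of_eq hx21)).upd 1 2 1 (le_of_eq hx23)).upd 2 0 1 (le_of_eq hx31)).upd 2 1 1 (le_of_eq hx32)) ![1,1,1] (by decide) (by decide) 0 (by decide))
            · -- 23=(1,2)
              exact False.elim (cert_false T ((skipEmb 1).trans v) (by norm_num) (fun _ => hv _) (((((LB_zero T ((skipEmb 1).trans v)).upd 0 2 2 (le_of_eq hx03)).upd 1 2 1 (le_of_eq hx23)).upd 2 0 1 (le_of_eq hx30)).upd 2 1 2 (le_of_eq hx32)) ![2,1,2] (by decide) (by decide) 0 (by decide))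
            · -- 23=(2,1)
              exact False.elim (cert_false T ((skipEmb 1).trans v) (by norm_num) (fun _ => hv _) (((((LB_zero T ((skipEmb 1).trans v)).upd 0 2 2 (le_of_eq hx03)).upd 1 2 2 (le_of_eq hx23)).upd 2 0 1 (le_of_eq hx30)).upd 2 1 1 (le_of_eq hx32)) ![1,1,1] (by decide) (by decide) 0 (by decide))
            · -- 23=(1,3)
              exact False.elim (cert_false T ((skipEmb 1).trans v) (by norm_num) (fun _ => hv _) (((((LB_zero T ((skipEmb 1).trans v)).upd 0 2 2 (le_of_eq hx03)).upd 1 2 1 (le_of_eq hx23)).upd 2 0 1 (le_of_eq hx30)).upd 2 1 3 (le_of_eq hx32)) ![1,1,2] (by decide) (by decide) 0 (by decide))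
            · -- 23=(3,1)
              exact False.elim (cert_false T ((skipEmb 1).trans v) (by norm_num) (fun _ => hv _) (((((LB_zero T ((skipEmb 1).trans v)).upd 0 2 2 (le_of_eq hx03)).upd 1 2 3 (le_of_eq hx23)).upd 2 0 1 (le_of_eq hx30)).upd 2 1 1 (le_of_eq hx32)) ![1,1,1] (by decide) (by decide) 0 (by decide))
          · -- 13=(1,2)
            exact False.elim (cert_false T ((skipEmb 2).trans v) (by norm_num) (fun _ => hv _) (((((LB_zero T ((skipEmb 2).trans v)).upd 0 2 2 (le_of_eq hx03)).upd 1 2 1 (le_of_eq hx13)).upd 2 0 1 (le_of_eq hx30)).upd 2 1 2 (le_of_eq hx31)) ![2,1,2] (by decide) (by decide) 0 (by decide))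
          · -- 13=(2,1)
            exact False.elim (cert_false T ((skipEmb 2).trans v) (by norm_num) (fun _ => hv _) (((((LB_zero T ((skipEmb 2).trans v)).upd 0 2 2 (le_of_eq hx03)).upd 1 2 2 (le_of_eq hx13)).upd 2 0 1 (le_of_eq hx30)).upd 2 1 1 (le_of_eq hx31)) ![1,1,1] (by decide) (by decide) 0 (by decide))
          · -- 13=(1,3)
            exact False.elim (cert_false T ((skipEmb 2).trans v) (by norm_num) (fun _ => hv _) (((((LB_zero T ((skipEmb 2).trans v)).upd 0 2 2 (le_of_eq hx03)).upd 1 2 1 (le_of_eq hx13)).upd 2 0 1 (le_of_eq hx30)).upd 2 1 3 (le_of_eq hx31)) ![1,1,2] (by decide) (by decide) 0 (by decide))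
          · -- 13=(3,1)
            exact False.elim (cert_false T ((skipEmb 2).trans v) (by norm_num) (fun _ => hv _) (((((LB_zero T ((skipEmb 2).trans v)).upd 0 2 2 (le_of_eq hx03)).upd 1 2 3 (le_of_eq hx13)).upd 2 0 1 (le_of_eq hx30)).upd 2 1 1 (le_of_eq hx31)) ![1,1,1] (by decide) (by decide) 0 (by decide))
        · -- 03=(1,3)
          have d13 := two_pair T (by norm_num : 2 < 4) ((pairEmb 1 3 (by decide)).trans v) (fun _ => hv _)
          change (N T v 1 3 = 0 ∧ N T v 3 1 = 0) ∨ (N T v 1 3 = 1 ∧ N T v 3 1 = 1) ∨ (N T v 1 3 = 1 ∧ N T v 3 1 = 2) ∨ (N T v 1 3 = 2 ∧ N T v 3 1 = 1) ∨ (N T v 1 3 = 1 ∧ N T v 3 1 = 3) ∨ (N T v 1 3 = 3 ∧ N T v 3 1 = 1) at d13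
          rw [← hx13, ← hx31] at d13
          rcases d13 with ⟨rfl, rfl⟩ | ⟨rfl, rfl⟩ | ⟨rfl, rfl⟩ | ⟨rfl, rfl⟩ | ⟨rfl, rfl⟩ | ⟨rfl, rfl⟩
          · -- 13=(0,0)
            have d23 := two_pair T (by norm_num : 2 < 4) ((pairEmb 2 3 (by decide)).trans v) (fun _ => hv _)
            change (N T v 2 3 = 0 ∧ N T v 3 2 = 0) ∨ (N T v 2 3 = 1 ∧ N T v 3 2 = 1) ∨ (N T v 2 3 = 1 ∧ N T v 3 2 = 2) ∨ (N T v 2 3 = 2 ∧ N T v 3 2 = 1) ∨ (N T v 2 3 = 1 ∧ N T v 3 2 = 3) ∨ (N T v 2 3 = 3 ∧ N T v 3 2 = 1) at d23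
            rw [← hx23, ← hx32] at d23
            rcases d23 with ⟨rfl, rfl⟩ | ⟨rfl, rfl⟩ | ⟨rfl, rfl⟩ | ⟨rfl, rfl⟩ | ⟨rfl, rfl⟩ | ⟨rfl, rfl⟩
            · -- 23=(0,0)
              exfalso; omega
            · -- 23=(1,1)
              exact False.elim (cert_false T ((skipEmb 1).trans v) (by norm_num) (fun _ => hv _) (((((LB_zero T ((skipEmb 1).trans v)).upd 0 2 1 (le_of_eq hx03)).upd 1 2 1 (le_of_eq hx23)).upd 2 0 3 (le_of_eq hx30)).upd 2 1 1 (le_of_eq hx32)) ![1,1,2] (by decide) (by decide) 0 (by decide))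
            · -- 23=(1,2)
              exact False.elim (cert_false T ((skipEmb 1).trans v) (by norm_num) (fun _ => hv _) (((((LB_zero T ((skipEmb 1).trans v)).upd 0 2 1 (le_of_eq hx03)).upd 1 2 1 (le_of_eq hx23)).upd 2 0 3 (le_of_eq hx30)).upd 2 1 2 (le_of_eq hx32)) ![1,1,2] (by decide) (by decide) 0 (by decide))
            · -- 23=(2,1)
              exact False.elim (cert_false T ((skipEmb 1).trans v) (by norm_num) (fun _ => hv _) (((((LB_zero T ((skipEmb 1).trans v)).upd 0 2 1 (le_of_eq hx03)).upd 1 2 2 (le_of_eq hx23)).upd 2 0 3 (le_of_eq hx30)).upd 2 1 1 (le_of_eq hx32)) ![1,1,2] (by decide) (by decide) 0 (by decide))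
            · -- 23=(1,3)
              exact False.elim (cert_false T ((skipEmb 1).trans v) (by norm_num) (fun _ => hv _) (((((LB_zero T ((skipEmb 1).trans v)).upd 0 2 1 (le_of_eq hx03)).upd 1 2 1 (le_of_eq hx23)).upd 2 0 3 (le_of_eq hx30)).upd 2 1 3 (le_of_eq hx32)) ![1,1,2] (by decide) (by decide) 0 (by decide))
            · -- 23=(3,1)
              exact False.elim (cert_false T ((skipEmb 1).trans v) (by norm_num) (fun _ => hv _) (((((LB_zero T ((skipEmb 1).trans v)).upd 0 2 1 (le_of_eq hx03)).upd 1 2 3 (le_of_eq hx23)).upd 2 0 3 (le_of_eq hx30)).upd 2 1 1 (le_of_eq hx32)) ![1,1,2] (by decide) (by decide) 0 (by decide))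
          · -- 13=(1,1)
            exact False.elim (cert_false T ((skipEmb 2).trans v) (by norm_num) (fun _ => hv _) (((((LB_zero T ((skipEmb 2).trans v)).upd 0 2 1 (le_of_eq hx03)).upd 1 2 1 (le_of_eq hx13)).upd 2 0 3 (le_of_eq hx30)).upd 2 1 1 (le_of_eq hx31)) ![1,1,2] (by decide) (by decide) 0 (by decide))
          · -- 13=(1,2)
            exact False.elim (cert_false T ((skipEmb 2).trans v) (by norm_num) (fun _ => hv _) (((((LB_zero T ((skipEmb 2).trans v)).upd 0 2 1 (le_of_eq hx03)).upd 1 2 1 (le_of_eq hx13)).upd 2 0 3 (le_of_eq hx30)).upd 2 1 2 (le_of_eq hx31)) ![1,1,2] (by decide) (by decide) 0 (by decide))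
          · -- 13=(2,1)
            exact False.elim (cert_false T ((skipEmb 2).trans v) (by norm_num) (fun _ => hv _) (((((LB_zero T ((skipEmb 2).trans v)).upd 0 2 1 (le_of_eq hx03)).upd 1 2 2 (le_of_eq hx13)).upd 2 0 3 (le_of_eq hx30)).upd 2 1 1 (le_of_eq hx31)) ![1,1,2] (by decide) (by decide) 0 (by decide))
          · -- 13=(1,3)
            exact False.elim (cert_false T ((skipEmb 2).trans v) (by norm_num) (fun _ => hv _) (((((LB_zero T ((skipEmb 2).trans v)).upd 0 2 1 (le_of_eq hx03)).upd 1 2 1 (le_of_eq hx13)).upd 2 0 3 (le_of_eq hx30)).upd 2 1 3 (le_of_eq hx31)) ![1,1,2] (by decide) (by decide) 0 (by decide))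
          · -- 13=(3,1)
            exact False.elim (cert_false T ((skipEmb 2).trans v) (by norm_num) (fun _ => hv _) (((((LB_zero T ((skipEmb 2).trans v)).upd 0 2 1 (le_of_eq hx03)).upd 1 2 3 (le_of_eq hx13)).upd 2 0 3 (le_of_eq hx30)).upd 2 1 1 (le_of_eq hx31)) ![1,1,2] (by decide) (by decide) 0 (by decide))
        · -- 03=(3,1)
          have d13 := two_pair T (by norm_num : 2 < 4) ((pairEmb 1 3 (by decide)).trans v) (fun _ => hv _)
          change (N T v 1 3 = 0 ∧ N T v 3 1 = 0) ∨ (N T v 1 3 = 1 ∧ N T v 3 1 = 1) ∨ (N T v 1 3 = 1 ∧ N T v 3 1 = 2) ∨ (N T v 1 3 = 2 ∧ N T v 3 1 = 1) ∨ (N T v 1 3 = 1 ∧ N T v 3 1 = 3) ∨ (N T v 1 3 = 3 ∧ N T v 3 1 = 1) at d13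
          rw [← hx13, ← hx31] at d13
          rcases d13 with ⟨rfl, rfl⟩ | ⟨rfl, rfl⟩ | ⟨rfl, rfl⟩ | ⟨rfl, rfl⟩ | ⟨rfl, rfl⟩ | ⟨rfl, rfl⟩
          · -- 13=(0,0)
            have d23 := two_pair T (by norm_num : 2 < 4) ((pairEmb 2 3 (by decide)).trans v) (fun _ => hv _)
            change (N T v 2 3 = 0 ∧ N T v 3 2 = 0) ∨ (N T v 2 3 = 1 ∧ N T v 3 2 = 1) ∨ (N T v 2 3 = 1 ∧ N T v 3 2 = 2) ∨ (N T v 2 3 = 2 ∧ N T v 3 2 = 1) ∨ (N T v 2 3 = 1 ∧ N T v 3 2 = 3) ∨ (N T v 2 3 = 3 ∧ N T v 3 2 = 1) at d23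
            rw [← hx23, ← hx32] at d23
            rcases d23 with ⟨rfl, rfl⟩ | ⟨rfl, rfl⟩ | ⟨rfl, rfl⟩ | ⟨rfl, rfl⟩ | ⟨rfl, rfl⟩ | ⟨rfl, rfl⟩
            · -- 23=(0,0)
              exfalso; omega
            · -- 23=(1,1)
              exact False.elim (cert_false T ((skipEmb 1).trans v) (by norm_num) (fun _ => hv _) (((((LB_zero T ((skipEmb 1).trans v)).upd 0 2 3 (le_of_eq hx03)).upd 1 2 1 (le_of_eq hx23)).upd 2 0 1 (le_of_eq hx30)).upd 2 1 1 (le_of_eq hx32)) ![3,1,2] (by decide) (by decide) 0 (by decide))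
            · -- 23=(1,2)
              exact False.elim (cert_false T ((skipEmb 1).trans v) (by norm_num) (fun _ => hv _) (((((LB_zero T ((skipEmb 1).trans v)).upd 0 2 3 (le_of_eq hx03)).upd 1 2 1 (le_of_eq hx23)).upd 2 0 1 (le_of_eq hx30)).upd 2 1 2 (le_of_eq hx32)) ![2,1,2] (by decide) (by decide) 0 (by decide))
            · -- 23=(2,1)
              exact False.elim (cert_false T ((skipEmb 1).trans v) (by norm_num) (fun _ => hv _) (((((LB_zero T ((skipEmb 1).trans v)).upd 0 2 3 (le_of_eq hx03)).upd 1 2 2 (le_of_eq hx23)).upd 2 0 1 (le_of_eq hx30)).upd 2 1 1 (le_of_eq hx32)) ![1,1,1] (by decide) (by decide) 0 (by decide))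
            · -- 23=(1,3)
              exact False.elim (cert_false T ((skipEmb 1).trans v) (by norm_num) (fun _ => hv _) (((((LB_zero T ((skipEmb 1).trans v)).upd 0 2 3 (le_of_eq hx03)).upd 1 2 1 (le_of_eq hx23)).upd 2 0 1 (le_of_eq hx30)).upd 2 1 3 (le_of_eq hx32)) ![1,1,2] (by decide) (by decide) 0 (by decide))
            · -- 23=(3,1)
              exact False.elim (cert_false T ((skipEmb 1).trans v) (by norm_num) (fun _ => hv _) (((((LB_zero T ((skipEmb 1).trans v)).upd 0 2 3 (le_of_eq hx03)).upd 1 2 3 (le_of_eq hx23)).upd 2 0 1 (le_of_eq hx30)).upd 2 1 1 (le_of_eq hx32)) ![1,1,1] (by decide) (by decide) 0 (by decide))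
          · -- 13=(1,1)
            exact False.elim (cert_false T ((skipEmb 2).trans v) (by norm_num) (fun _ => hv _) (((((LB_zero T ((skipEmb 2).trans v)).upd 0 2 3 (le_of_eq hx03)).upd 1 2 1 (le_of_eq hx13)).upd 2 0 1 (le_of_eq hx30)).upd 2 1 1 (le_of_eq hx31)) ![3,1,2] (by decide) (by decide) 0 (by decide))
          · -- 13=(1,2)
            exact False.elim (cert_false T ((skipEmb 2).trans v) (by norm_num) (fun _ => hv _) (((((LB_zero T ((skipEmb 2).trans v)).upd 0 2 3 (le_of_eq hx03)).upd 1 2 1 (le_of_eq hx13)).upd 2 0 1 (le_of_eq hx30)).upd 2 1 2 (le_of_eq hx31)) ![2,1,2] (by decide) (by decide) 0 (by decide))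
          · -- 13=(2,1)
            exact False.elim (cert_false T ((skipEmb 2).trans v) (by norm_num) (fun _ => hv _) (((((LB_zero T ((skipEmb 2).trans v)).upd 0 2 3 (le_of_eq hx03)).upd 1 2 2 (le_of_eq hx13)).upd 2 0 1 (le_of_eq hx30)).upd 2 1 1 (le_of_eq hx31)) ![1,1,1] (by decide) (by decide) 0 (by decide))
          · -- 13=(1,3)
            exact False.elim (cert_false T ((skipEmb 2).trans v) (by norm_num) (fun _ => hv _) (((((LB_zero T ((skipEmb 2).trans v)).upd 0 2 3 (le_of_eq hx03)).upd 1 2 1 (le_of_eq hx13)).upd 2 0 1 (le_of_eq hx30)).upd 2 1 3 (le_of_eq hx31)) ![1,1,2] (by decide) (by decide) 0 (by decide))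
          · -- 13=(3,1)
            exact False.elim (cert_false T ((skipEmb 2).trans v) (by norm_num) (fun _ => hv _) (((((LB_zero T ((skipEmb 2).trans v)).upd 0 2 3 (le_of_eq hx03)).upd 1 2 3 (le_of_eq hx13)).upd 2 0 1 (le_of_eq hx30)).upd 2 1 1 (le_of_eq hx31)) ![1,1,1] (by decide) (by decide) 0 (by decide))
      · -- 12=(2,1)
        have d03 := two_pair T (by norm_num : 2 < 4) ((pairEmb 0 3 (by decide)).trans v) (fun _ => hv _)
        change (N T v 0 3 = 0 ∧ N T v 3 0 = 0) ∨ (N T v 0 3 = 1 ∧ N T v 3 0 = 1) ∨ (N T v 0 3 = 1 ∧ N T v 3 0 = 2) ∨ (N T v 0 3 = 2 ∧ N T v 3 0 = 1) ∨ (N T v 0 3 = 1 ∧ N T v 3 0 = 3) ∨ (N T v 0 3 = 3 ∧ N T v 3 0 = 1) at d03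
        rw [← hx03, ← hx30] at d03
        rcases d03 with ⟨rfl, rfl⟩ | ⟨rfl, rfl⟩ | ⟨rfl, rfl⟩ | ⟨rfl, rfl⟩ | ⟨rfl, rfl⟩ | ⟨rfl, rfl⟩
        · -- 03=(0,0)
          have d13 := two_pair T (by norm_num : 2 < 4) ((pairEmb 1 3 (by decide)).trans v) (fun _ => hv _)
          change (N T v 1 3 = 0 ∧ N T v 3 1 = 0) ∨ (N T v 1 3 = 1 ∧ N T v 3 1 = 1) ∨ (N T v 1 3 = 1 ∧ N T v 3 1 = 2) ∨ (N T v 1 3 = 2 ∧ N T v 3 1 = 1) ∨ (N T v 1 3 = 1 ∧ N T v 3 1 = 3) ∨ (N T v 1 3 = 3 ∧ N T v 3 1 = 1) at d13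
          rw [← hx13, ← hx31] at d13
          rcases d13 with ⟨rfl, rfl⟩ | ⟨rfl, rfl⟩ | ⟨rfl, rfl⟩ | ⟨rfl, rfl⟩ | ⟨rfl, rfl⟩ | ⟨rfl, rfl⟩
          · -- 13=(0,0)
            have d23 := two_pair T (by norm_num : 2 < 4) ((pairEmb 2 3 (by decide)).trans v) (fun _ => hv _)
            change (N T v 2 3 = 0 ∧ N T v 3 2 = 0) ∨ (N T v 2 3 = 1 ∧ N T v 3 2 = 1) ∨ (N T v 2 3 = 1 ∧ N T v 3 2 = 2) ∨ (N T v 2 3 = 2 ∧ N T v 3 2 = 1) ∨ (N T v 2 3 = 1 ∧ N T v 3 2 = 3) ∨ (N T v 2 3 = 3 ∧ N T v 3 2 = 1) at d23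
            rw [← hx23, ← hx32] at d23
            rcases d23 with ⟨rfl, rfl⟩ | ⟨rfl, rfl⟩ | ⟨rfl, rfl⟩ | ⟨rfl, rfl⟩ | ⟨rfl, rfl⟩ | ⟨rfl, rfl⟩
            · -- 23=(0,0)
              exfalso; omega
            · -- 23=(1,1)
              exfalso; omega
            · -- 23=(1,2)
              exact False.elim (cert_false T ((skipEmb 0).trans v) (by norm_num) (fun _ => hv _) (((((LB_zero T ((skipEmb 0).trans v)).upd 0 1 2 (le_of_eq hx12)).upd 1 0 1 (le_of_eq hx21)).upd 1 2 1 (le_of_eq hx23)).upd 2 1 2 (le_of_eq hx32)) ![1,1,1] (by decide) (by decide) 0 (by decide))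
            · -- 23=(2,1)
              exact False.elim (cert_false T ((skipEmb 0).trans v) (by norm_num) (fun _ => hv _) (((((LB_zero T ((skipEmb 0).trans v)).upd 0 1 2 (le_of_eq hx12)).upd 1 0 1 (le_of_eq hx21)).upd 1 2 2 (le_of_eq hx23)).upd 2 1 1 (le_of_eq hx32)) ![2,2,1] (by decide) (by decide) 0 (by decide))
            · -- 23=(1,3)
              exact False.elim (cert_false T ((skipEmb 0).trans v) (by norm_num) (fun _ => hv _) (((((LB_zero T ((skipEmb 0).trans v)).upd 0 1 2 (le_of_eq hx12)).upd 1 0 1 (le_of_eq hx21)).upd 1 2 1 (le_of_eq hx23)).upd 2 1 3 (le_of_eq hx32)) ![1,1,1] (by decide) (by decide) 0 (by decide))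
            · -- 23=(3,1)
              exact False.elim (cert_false T ((skipEmb 0).trans v) (by norm_num) (fun _ => hv _) (((((LB_zero T ((skipEmb 0).trans v)).upd 0 1 2 (le_of_eq hx12)).upd 1 0 1 (le_of_eq hx21)).upd 1 2 3 (le_of_eq hx23)).upd 2 1 1 (le_of_eq hx32)) ![1,2,1] (by decide) (by decide) 0 (by decide))
          · -- 13=(1,1)
            have d23 := two_pair T (by norm_num : 2 < 4) ((pairEmb 2 3 (by decide)).trans v) (fun _ => hv _)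
            change (N T v 2 3 = 0 ∧ N T v 3 2 = 0) ∨ (N T v 2 3 = 1 ∧ N T v 3 2 = 1) ∨ (N T v 2 3 = 1 ∧ N T v 3 2 = 2) ∨ (N T v 2 3 = 2 ∧ N T v 3 2 = 1) ∨ (N T v 2 3 = 1 ∧ N T v 3 2 = 3) ∨ (N T v 2 3 = 3 ∧ N T v 3 2 = 1) at d23
            rw [← hx23, ← hx32] at d23
            rcases d23 with ⟨rfl, rfl⟩ | ⟨rfl, rfl⟩ | ⟨rfl, rfl⟩ | ⟨rfl, rfl⟩ | ⟨rfl, rfl⟩ | ⟨rfl, rfl⟩
            · -- 23=(0,0)
              exfalso; omega
            · -- 23=(1,1)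
              exact False.elim (cert_false T ((skipEmb 0).trans v) (by norm_num) (fun _ => hv _) (((((((LB_zero T ((skipEmb 0).trans v)).upd 0 1 2 (le_of_eq hx12)).upd 0 2 1 (le_of_eq hx13)).upd 1 0 1 (le_of_eq hx21)).upd 1 2 1 (le_of_eq hx23)).upd 2 0 1 (le_of_eq hx31)).upd 2 1 1 (le_of_eq hx32)) ![1,1,1] (by decide) (by decide) 0 (by decide))
            · -- 23=(1,2)
              exact False.elim (cert_false T ((skipEmb 0).trans v) (by norm_num) (fun _ => hv _) (((((((LB_zero T ((skipEmb 0).trans v)).upd 0 1 2 (le_of_eq hx12)).upd 0 2 1 (le_of_eq hx13)).upd 1 0 1 (le_of_eq hx21)).upd 1 2 1 (le_of_eq hx23)).upd 2 0 1 (le_of_eq hx31)).upd 2 1 2 (le_of_eq hx32)) ![1,1,1] (by decide) (by decide) 0 (by decide))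
            · -- 23=(2,1)
              exact False.elim (cert_false T ((skipEmb 0).trans v) (by norm_num) (fun _ => hv _) (((((((LB_zero T ((skipEmb 0).trans v)).upd 0 1 2 (le_of_eq hx12)).upd 0 2 1 (le_of_eq hx13)).upd 1 0 1 (le_of_eq hx21)).upd 1 2 2 (le_of_eq hx23)).upd 2 0 1 (le_of_eq hx31)).upd 2 1 1 (le_of_eq hx32)) ![1,1,1] (by decide) (by decide) 0 (by decide))
            · -- 23=(1,3)
              exact False.elim (cert_false T ((skipEmb 0).trans v) (by norm_num) (fun _ => hv _) (((((((LB_zero T ((skipEmb 0).trans v)).upd 0 1 2 (le_of_eq hx12)).upd 0 2 1 (le_of_eq hx13)).upd 1 0 1 (le_of_eq hx21)).upd 1 2 1 (le_of_eq hx23)).upd 2 0 1 (le_of_eq hx31)).upd 2 1 3 (le_of_eq hx32)) ![1,1,1] (by decide) (by decide) 0 (by decide))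
            · -- 23=(3,1)
              exact False.elim (cert_false T ((skipEmb 0).trans v) (by norm_num) (fun _ => hv _) (((((((LB_zero T ((skipEmb 0).trans v)).upd 0 1 2 (le_of_eq hx12)).upd 0 2 1 (le_of_eq hx13)).upd 1 0 1 (le_of_eq hx21)).upd 1 2 3 (le_of_eq hx23)).upd 2 0 1 (le_of_eq hx31)).upd 2 1 1 (le_of_eq hx32)) ![1,1,1] (by decide) (by decide) 0 (by decide))
          · -- 13=(1,2)
            exact False.elim (cert_false T ((skipEmb 0).trans v) (by norm_num) (fun _ => hv _) (((((LB_zero T ((skipEmb 0).trans v)).upd 0 1 2 (le_of_eq hx12)).upd 0 2 1 (le_of_eq hx13)).upd 1 0 1 (le_of_eq hx21)).upd 2 0 2 (le_of_eq hx31)) ![2,1,2] (by decide) (by decide) 0 (by decide))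
          · -- 13=(2,1)
            exact False.elim (cert_false T ((skipEmb 0).trans v) (by norm_num) (fun _ => hv _) (((((LB_zero T ((skipEmb 0).trans v)).upd 0 1 2 (le_of_eq hx12)).upd 0 2 2 (le_of_eq hx13)).upd 1 0 1 (le_of_eq hx21)).upd 2 0 1 (le_of_eq hx31)) ![2,1,1] (by decide) (by decide) 0 (by decide))
          · -- 13=(1,3)
            exact False.elim (cert_false T ((skipEmb 0).trans v) (by norm_num) (fun _ => hv _) (((((LB_zero T ((skipEmb 0).trans v)).upd 0 1 2 (le_of_eq hx12)).upd 0 2 1 (le_of_eq hx13)).upd 1 0 1 (le_of_eq hx21)).upd 2 0 3 (le_of_eq hx31)) ![2,1,2] (by decide) (by decide) 0 (by decide))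
          · -- 13=(3,1)
            exact False.elim (cert_false T ((skipEmb 0).trans v) (by norm_num) (fun _ => hv _) (((((LB_zero T ((skipEmb 0).trans v)).upd 0 1 2 (le_of_eq hx12)).upd 0 2 3 (le_of_eq hx13)).upd 1 0 1 (le_of_eq hx21)).upd 2 0 1 (le_of_eq hx31)) ![2,1,1] (by decide) (by decide) 0 (by decide))
        · -- 03=(1,1)
          have d13 := two_pair T (by norm_num : 2 < 4) ((pairEmb 1 3 (by decide)).trans v) (fun _ => hv _)
          change (N T v 1 3 = 0 ∧ N T v 3 1 = 0) ∨ (N T v 1 3 = 1 ∧ N T v 3 1 = 1) ∨ (N T v 1 3 = 1 ∧ N T v 3 1 = 2) ∨ (N T v 1 3 = 2 ∧ N T v 3 1 = 1) ∨ (N T v 1 3 = 1 ∧ N T v 3 1 = 3) ∨ (N T v 1 3 = 3 ∧ N T v 3 1 = 1) at d13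
          rw [← hx13, ← hx31] at d13
          rcases d13 with ⟨rfl, rfl⟩ | ⟨rfl, rfl⟩ | ⟨rfl, rfl⟩ | ⟨rfl, rfl⟩ | ⟨rfl, rfl⟩ | ⟨rfl, rfl⟩
          · -- 13=(0,0)
            have d23 := two_pair T (by norm_num : 2 < 4) ((pairEmb 2 3 (by decide)).trans v) (fun _ => hv _)
            change (N T v 2 3 = 0 ∧ N T v 3 2 = 0) ∨ (N T v 2 3 = 1 ∧ N T v 3 2 = 1) ∨ (N T v 2 3 = 1 ∧ N T v 3 2 = 2) ∨ (N T v 2 3 = 2 ∧ N T v 3 2 = 1) ∨ (N T v 2 3 = 1 ∧ N T v 3 2 = 3) ∨ (N T v 2 3 = 3 ∧ N T v 3 2 = 1) at d23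
            rw [← hx23, ← hx32] at d23
            rcases d23 with ⟨rfl, rfl⟩ | ⟨rfl, rfl⟩ | ⟨rfl, rfl⟩ | ⟨rfl, rfl⟩ | ⟨rfl, rfl⟩ | ⟨rfl, rfl⟩
            · -- 23=(0,0)
              exfalso; omega
            · -- 23=(1,1)
              exfalso; omega
            · -- 23=(1,2)
              exact False.elim (cert_false T ((skipEmb 0).trans v) (by norm_num) (fun _ => hv _) (((((LB_zero T ((skipEmb 0).trans v)).upd 0 1 2 (le_of_eq hx12)).upd 1 0 1 (le_of_eq hx21)).upd 1 2 1 (le_of_eq hx23)).upd 2 1 2 (le_of_eq hx32)) ![1,1,1] (by decide) (by decide) 0 (by decide))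
            · -- 23=(2,1)
              exact False.elim (cert_false T ((skipEmb 0).trans v) (by norm_num) (fun _ => hv _) (((((LB_zero T ((skipEmb 0).trans v)).upd 0 1 2 (le_of_eq hx12)).upd 1 0 1 (le_of_eq hx21)).upd 1 2 2 (le_of_eq hx23)).upd 2 1 1 (le_of_eq hx32)) ![2,2,1] (by decide) (by decide) 0 (by decide))
            · -- 23=(1,3)
              exact False.elim (cert_false T ((skipEmb 1).trans v) (by norm_num) (fun _ => hv _) (((((LB_zero T ((skipEmb 1).trans v)).upd 0 2 1 (le_of_eq hx03)).upd 1 2 1 (le_of_eq hx23)).upd 2 0 1 (le_of_eq hx30)).upd 2 1 3 (le_of_eq hx32)) ![1,1,2] (by decide) (by decide) 0 (by decide))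
            · -- 23=(3,1)
              exact False.elim (cert_false T ((skipEmb 1).trans v) (by norm_num) (fun _ => hv _) (((((LB_zero T ((skipEmb 1).trans v)).upd 0 2 1 (le_of_eq hx03)).upd 1 2 3 (le_of_eq hx23)).upd 2 0 1 (le_of_eq hx30)).upd 2 1 1 (le_of_eq hx32)) ![1,3,2] (by decide) (by decide) 0 (by decide))
          · -- 13=(1,1)
            have d23 := two_pair T (by norm_num : 2 < 4) ((pairEmb 2 3 (by decide)).trans v) (fun _ => hv _)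
            change (N T v 2 3 = 0 ∧ N T v 3 2 = 0) ∨ (N T v 2 3 = 1 ∧ N T v 3 2 = 1) ∨ (N T v 2 3 = 1 ∧ N T v 3 2 = 2) ∨ (N T v 2 3 = 2 ∧ N T v 3 2 = 1) ∨ (N T v 2 3 = 1 ∧ N T v 3 2 = 3) ∨ (N T v 2 3 = 3 ∧ N T v 3 2 = 1) at d23
            rw [← hx23, ← hx32] at d23
            rcases d23 with ⟨rfl, rfl⟩ | ⟨rfl, rfl⟩ | ⟨rfl, rfl⟩ | ⟨rfl, rfl⟩ | ⟨rfl, rfl⟩ | ⟨rfl, rfl⟩
            · -- 23=(0,0)
              exfalso; omega
            · -- 23=(1,1)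
              exact False.elim (cert_false T ((skipEmb 0).trans v) (by norm_num) (fun _ => hv _) (((((((LB_zero T ((skipEmb 0).trans v)).upd 0 1 2 (le_of_eq hx12)).upd 0 2 1 (le_of_eq hx13)).upd 1 0 1 (le_of_eq hx21)).upd 1 2 1 (le_of_eq hx23)).upd 2 0 1 (le_of_eq hx31)).upd 2 1 1 (le_of_eq hx32)) ![1,1,1] (by decide) (by decide) 0 (by decide))
            · -- 23=(1,2)
              exact False.elim (cert_false T ((skipEmb 0).trans v) (by norm_num) (fun _ => hv _) (((((((LB_zero T ((skipEmb 0).trans v)).upd 0 1 2 (le_of_eq hx12)).upd 0 2 1 (le_of_eq hx13)).upd 1 0 1 (le_of_eq hx21)).upd 1 2 1 (le_of_eq hx23)).upd 2 0 1 (le_of_eq hx31)).upd 2 1 2 (le_of_eq hx32)) ![1,1,1] (by decide) (by decide) 0 (by decide))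
            · -- 23=(2,1)
              exact False.elim (cert_false T ((skipEmb 0).trans v) (by norm_num) (fun _ => hv _) (((((((LB_zero T ((skipEmb 0).trans v)).upd 0 1 2 (le_of_eq hx12)).upd 0 2 1 (le_of_eq hx13)).upd 1 0 1 (le_of_eq hx21)).upd 1 2 2 (le_of_eq hx23)).upd 2 0 1 (le_of_eq hx31)).upd 2 1 1 (le_of_eq hx32)) ![1,1,1] (by decide) (by decide) 0 (by decide))
            · -- 23=(1,3)
              exact False.elim (cert_false T ((skipEmb 1).trans v) (by norm_num) (fun _ => hv _) (((((LB_zero T ((skipEmb 1).trans v)).upd 0 2 1 (le_of_eq hx03)).upd 1 2 1 (le_of_eq hx23)).upd 2 0 1 (le_of_eq hx30)).upd 2 1 3 (le_of_eq hx32)) ![1,1,2] (by decide) (by decide) 0 (by decide))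
            · -- 23=(3,1)
              exact False.elim (cert_false T ((skipEmb 1).trans v) (by norm_num) (fun _ => hv _) (((((LB_zero T ((skipEmb 1).trans v)).upd 0 2 1 (le_of_eq hx03)).upd 1 2 3 (le_of_eq hx23)).upd 2 0 1 (le_of_eq hx30)).upd 2 1 1 (le_of_eq hx32)) ![1,3,2] (by decide) (by decide) 0 (by decide))
          · -- 13=(1,2)
            exact False.elim (cert_false T ((skipEmb 0).trans v) (by norm_num) (fun _ => hv _) (((((LB_zero T ((skipEmb 0).trans v)).upd 0 1 2 (le_of_eq hx12)).upd 0 2 1 (le_of_eq hx13)).upd 1 0 1 (le_of_eq hx21)).upd 2 0 2 (le_of_eq hx31)) ![2,1,2] (by decide) (by decide) 0 (by decide))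
          · -- 13=(2,1)
            exact False.elim (cert_false T ((skipEmb 0).trans v) (by norm_num) (fun _ => hv _) (((((LB_zero T ((skipEmb 0).trans v)).upd 0 1 2 (le_of_eq hx12)).upd 0 2 2 (le_of_eq hx13)).upd 1 0 1 (le_of_eq hx21)).upd 2 0 1 (le_of_eq hx31)) ![2,1,1] (by decide) (by decide) 0 (by decide))
          · -- 13=(1,3)
            exact False.elim (cert_false T ((skipEmb 2).trans v) (by norm_num) (fun _ => hv _) (((((LB_zero T ((skipEmb 2).trans v)).upd 0 2 1 (le_of_eq hx03)).upd 1 2 1 (le_of_eq hx13)).upd 2 0 1 (le_of_eq hx30)).upd 2 1 3 (le_of_eq hx31)) ![1,1,2] (by decide) (by decide) 0 (by decide))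
          · -- 13=(3,1)
            exact False.elim (cert_false T ((skipEmb 2).trans v) (by norm_num) (fun _ => hv _) (((((LB_zero T ((skipEmb 2).trans v)).upd 0 2 1 (le_of_eq hx03)).upd 1 2 3 (le_of_eq hx13)).upd 2 0 1 (le_of_eq hx30)).upd 2 1 1 (le_of_eq hx31)) ![1,3,2] (by decide) (by decide) 0 (by decide))
        · -- 03=(1,2)
          have d13 := two_pair T (by norm_num : 2 < 4) ((pairEmb 1 3 (by decide)).trans v) (fun _ => hv _)
          change (N T v 1 3 = 0 ∧ N T v 3 1 = 0) ∨ (N T v 1 3 = 1 ∧ N T v 3 1 = 1) ∨ (N T v 1 3 = 1 ∧ N T v 3 1 = 2) ∨ (N T v 1 3 = 2 ∧ N T v 3 1 = 1) ∨ (N T v 1 3 = 1 ∧ N T v 3 1 = 3) ∨ (N T v 1 3 = 3 ∧ N T v 3 1 = 1) at d13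
          rw [← hx13, ← hx31] at d13
          rcases d13 with ⟨rfl, rfl⟩ | ⟨rfl, rfl⟩ | ⟨rfl, rfl⟩ | ⟨rfl, rfl⟩ | ⟨rfl, rfl⟩ | ⟨rfl, rfl⟩
          · -- 13=(0,0)
            have d23 := two_pair T (by norm_num : 2 < 4) ((pairEmb 2 3 (by decide)).trans v) (fun _ => hv _)
            change (N T v 2 3 = 0 ∧ N T v 3 2 = 0) ∨ (N T v 2 3 = 1 ∧ N T v 3 2 = 1) ∨ (N T v 2 3 = 1 ∧ N T v 3 2 = 2) ∨ (N T v 2 3 = 2 ∧ N T v 3 2 = 1) ∨ (N T v 2 3 = 1 ∧ N T v 3 2 = 3) ∨ (N T v 2 3 = 3 ∧ N T v 3 2 = 1) at d23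
            rw [← hx23, ← hx32] at d23
            rcases d23 with ⟨rfl, rfl⟩ | ⟨rfl, rfl⟩ | ⟨rfl, rfl⟩ | ⟨rfl, rfl⟩ | ⟨rfl, rfl⟩ | ⟨rfl, rfl⟩
            · -- 23=(0,0)
              exfalso; omega
            · -- 23=(1,1)
              refine ⟨(⟨![1, 2, 3, 0], ![3, 0, 1, 2], by decide, by decide⟩ : Equiv.Perm (Fin 4)), T.m 0, T.w 1, Or.inr (Or.inl ?_)⟩
              show T.m 1 = 2 * T.m 0 ∧ T.m 2 = 2 * T.m 0 ∧ T.m 3 = 2 * T.m 0 ∧ T.m 0 = T.m 0 ∧ T.w 1 = T.w 1 ∧ T.w 2 = 2 * T.w 1 ∧ T.w 3 = 2 * T.w 1 ∧ T.w 0 = 4 * T.w 1 ∧ T.a 1 1 = -2 * T.w 1 ∧ T.a 1 2 = 2 * T.w 1 ∧ T.a 1 3 = 0 ∧ T.a 1 0 = 0 ∧ T.a 2 2 = -4 * T.w 1 ∧ T.a 2 3 = 2 * T.w 1 ∧ T.a 2 0 = 0 ∧ T.a 3 3 = -4 * T.w 1 ∧ T.a 3 0 = 4 * T.w 1 ∧ T.a 0 0 = -8 * T.w 1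
              refine ⟨?_, ?_, ?_, ?_, ?_, ?_, ?_, ?_, ?_, ?_, ?_, ?_, ?_, ?_, ?_, ?_, ?_, ?_⟩ <;> omega
            · -- 23=(1,2)
              exact False.elim (cert_false T ((skipEmb 1).trans v) (by norm_num) (fun _ => hv _) (((((LB_zero T ((skipEmb 1).trans v)).upd 0 2 1 (le_of_eq hx03)).upd 1 2 1 (le_of_eq hx23)).upd 2 0 2 (le_of_eq hx30)).upd 2 1 2 (le_of_eq hx32)) ![1,1,2] (by decide) (by decide) 0 (by decide))
            · -- 23=(2,1)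
              exact False.elim (cert_false T ((skipEmb 1).trans v) (by norm_num) (fun _ => hv _) (((((LB_zero T ((skipEmb 1).trans v)).upd 0 2 1 (le_of_eq hx03)).upd 1 2 2 (le_of_eq hx23)).upd 2 0 2 (le_of_eq hx30)).upd 2 1 1 (le_of_eq hx32)) ![1,2,2] (by decide) (by decide) 0 (by decide))
            · -- 23=(1,3)
              exact False.elim (cert_false T ((skipEmb 1).trans v) (by norm_num) (fun _ => hv _) (((((LB_zero T ((skipEmb 1).trans v)).upd 0 2 1 (le_of_eq hx03)).upd 1 2 1 (le_of_eq hx23)).upd 2 0 2 (le_of_eq hx30)).upd 2 1 3 (le_of_eq hx32)) ![1,1,2] (by decide) (by decide) 0 (by decide))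
            · -- 23=(3,1)
              exact False.elim (cert_false T ((skipEmb 1).trans v) (by norm_num) (fun _ => hv _) (((((LB_zero T ((skipEmb 1).trans v)).upd 0 2 1 (le_of_eq hx03)).upd 1 2 3 (le_of_eq hx23)).upd 2 0 2 (le_of_eq hx30)).upd 2 1 1 (le_of_eq hx32)) ![1,2,2] (by decide) (by decide) 0 (by decide))
          · -- 13=(1,1)
            have d23 := two_pair T (by norm_num : 2 < 4) ((pairEmb 2 3 (by decide)).trans v) (fun _ => hv _)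
            change (N T v 2 3 = 0 ∧ N T v 3 2 = 0) ∨ (N T v 2 3 = 1 ∧ N T v 3 2 = 1) ∨ (N T v 2 3 = 1 ∧ N T v 3 2 = 2) ∨ (N T v 2 3 = 2 ∧ N T v 3 2 = 1) ∨ (N T v 2 3 = 1 ∧ N T v 3 2 = 3) ∨ (N T v 2 3 = 3 ∧ N T v 3 2 = 1) at d23
            rw [← hx23, ← hx32] at d23
            rcases d23 with ⟨rfl, rfl⟩ | ⟨rfl, rfl⟩ | ⟨rfl, rfl⟩ | ⟨rfl, rfl⟩ | ⟨rfl, rfl⟩ | ⟨rfl, rfl⟩
            · -- 23=(0,0)
              refine ⟨(⟨![0, 3, 1, 2], ![0, 2, 3, 1], by decide, by decide⟩ : Equiv.Perm (Fin 4)), T.m 0, T.w 3, Or.inr (Or.inr (Or.inr (Or.inl ?_)))⟩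
              show T.m 0 = T.m 0 ∧ T.m 3 = 2 * T.m 0 ∧ T.m 1 = 2 * T.m 0 ∧ T.m 2 = T.m 0 ∧ T.w 0 = 2 * T.w 3 ∧ T.w 3 = T.w 3 ∧ T.w 1 = T.w 3 ∧ T.w 2 = 2 * T.w 3 ∧ T.a 0 0 = -4 * T.w 3 ∧ T.a 0 3 = 2 * T.w 3 ∧ T.a 0 1 = 0 ∧ T.a 0 2 = 0 ∧ T.a 3 3 = -2 * T.w 3 ∧ T.a 3 1 = T.w 3 ∧ T.a 3 2 = 0 ∧ T.a 1 1 = -2 * T.w 3 ∧ T.a 1 2 = 2 * T.w 3 ∧ T.a 2 2 = -4 * T.w 3
              refine ⟨?_, ?_, ?_, ?_, ?_, ?_, ?_, ?_, ?_, ?_, ?_, ?_, ?_, ?_, ?_, ?_, ?_, ?_⟩ <;> omega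
            · -- 23=(1,1)
              exact False.elim (cert_false T ((skipEmb 0).trans v) (by norm_num) (fun _ => hv _) (((((((LB_zero T ((skipEmb 0).trans v)).upd 0 1 2 (le_of_eq hx12)).upd 0 2 1 (le_of_eq hx13)).upd 1 0 1 (le_of_eq hx21)).upd 1 2 1 (le_of_eq hx23)).upd 2 0 1 (le_of_eq hx31)).upd 2 1 1 (le_of_eq hx32)) ![1,1,1] (by decide) (by decide) 0 (by decide))
            · -- 23=(1,2)
              exact False.elim (cert_false T ((skipEmb 1).trans v) (by norm_num) (fun _ => hv _) (((((LB_zero T ((skipEmb 1).trans v)).upd 0 2 1 (le_of_eq hx03)).upd 1 2 1 (le_of_eq hx23)).upd 2 0 2 (le_of_eq hx30)).upd 2 1 2 (le_of_eq hx32)) ![1,1,2] (by decide) (by decide) 0 (by decide))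
            · -- 23=(2,1)
              exact False.elim (cert_false T ((skipEmb 1).trans v) (by norm_num) (fun _ => hv _) (((((LB_zero T ((skipEmb 1).trans v)).upd 0 2 1 (le_of_eq hx03)).upd 1 2 2 (le_of_eq hx23)).upd 2 0 2 (le_of_eq hx30)).upd 2 1 1 (le_of_eq hx32)) ![1,2,2] (by decide) (by decide) 0 (by decide))
            · -- 23=(1,3)
              exact False.elim (cert_false T ((skipEmb 1).trans v) (by norm_num) (fun _ => hv _) (((((LB_zero T ((skipEmb 1).trans v)).upd 0 2 1 (le_of_eq hx03)).upd 1 2 1 (le_of_eq hx23)).upd 2 0 2 (le_of_eq hx30)).upd 2 1 3 (le_of_eq hx32)) ![1,1,2] (by decide) (by decide) 0 (by decide))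
            · -- 23=(3,1)
              exact False.elim (cert_false T ((skipEmb 1).trans v) (by norm_num) (fun _ => hv _) (((((LB_zero T ((skipEmb 1).trans v)).upd 0 2 1 (le_of_eq hx03)).upd 1 2 3 (le_of_eq hx23)).upd 2 0 2 (le_of_eq hx30)).upd 2 1 1 (le_of_eq hx32)) ![1,2,2] (by decide) (by decide) 0 (by decide))
          · -- 13=(1,2)
            exact False.elim (cert_false T ((skipEmb 2).trans v) (by norm_num) (fun _ => hv _) (((((LB_zero T ((skipEmb 2).trans v)).upd 0 2 1 (le_of_eq hx03)).upd 1 2 1 (le_of_eq hx13)).upd 2 0 2 (le_of_eq hx30)).upd 2 1 2 (le_of_eq hx31)) ![1,1,2] (by decide) (by decide) 0 (by decide))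
          · -- 13=(2,1)
            exact False.elim (cert_false T ((skipEmb 2).trans v) (by norm_num) (fun _ => hv _) (((((LB_zero T ((skipEmb 2).trans v)).upd 0 2 1 (le_of_eq hx03)).upd 1 2 2 (le_of_eq hx13)).upd 2 0 2 (le_of_eq hx30)).upd 2 1 1 (le_of_eq hx31)) ![1,2,2] (by decide) (by decide) 0 (by decide))
          · -- 13=(1,3)
            exact False.elim (cert_false T ((skipEmb 2).trans v) (by norm_num) (fun _ => hv _) (((((LB_zero T ((skipEmb 2).trans v)).upd 0 2 1 (le_of_eq hx03)).upd 1 2 1 (le_of_eq hx13)).upd 2 0 2 (le_of_eq hx30)).upd 2 1 3 (le_of_eq hx31)) ![1,1,2] (by decide) (by decide) 0 (by decide))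
          · -- 13=(3,1)
            exact False.elim (cert_false T ((skipEmb 2).trans v) (by norm_num) (fun _ => hv _) (((((LB_zero T ((skipEmb 2).trans v)).upd 0 2 1 (le_of_eq hx03)).upd 1 2 3 (le_of_eq hx13)).upd 2 0 2 (le_of_eq hx30)).upd 2 1 1 (le_of_eq hx31)) ![1,2,2] (by decide) (by decide) 0 (by decide))
        · -- 03=(2,1)
          have d13 := two_pair T (by norm_num : 2 < 4) ((pairEmb 1 3 (by decide)).trans v) (fun _ => hv _)
          change (N T v 1 3 = 0 ∧ N T v 3 1 = 0) ∨ (N T v 1 3 = 1 ∧ N T v 3 1 = 1) ∨ (N T v 1 3 = 1 ∧ N T v 3 1 = 2) ∨ (N T v 1 3 = 2 ∧ N T v 3 1 = 1) ∨ (N T v 1 3 = 1 ∧ N T v 3 1 = 3) ∨ (N T v 1 3 = 3 ∧ N T v 3 1 = 1) at d13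
          rw [← hx13, ← hx31] at d13
          rcases d13 with ⟨rfl, rfl⟩ | ⟨rfl, rfl⟩ | ⟨rfl, rfl⟩ | ⟨rfl, rfl⟩ | ⟨rfl, rfl⟩ | ⟨rfl, rfl⟩
          · -- 13=(0,0)
            have d23 := two_pair T (by norm_num : 2 < 4) ((pairEmb 2 3 (by decide)).trans v) (fun _ => hv _)
            change (N T v 2 3 = 0 ∧ N T v 3 2 = 0) ∨ (N T v 2 3 = 1 ∧ N T v 3 2 = 1) ∨ (N T v 2 3 = 1 ∧ N T v 3 2 = 2) ∨ (N T v 2 3 = 2 ∧ N T v 3 2 = 1) ∨ (N T v 2 3 = 1 ∧ N T v 3 2 = 3) ∨ (N T v 2 3 = 3 ∧ N T v 3 2 = 1) at d23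
            rw [← hx23, ← hx32] at d23
            rcases d23 with ⟨rfl, rfl⟩ | ⟨rfl, rfl⟩ | ⟨rfl, rfl⟩ | ⟨rfl, rfl⟩ | ⟨rfl, rfl⟩ | ⟨rfl, rfl⟩
            · -- 23=(0,0)
              exfalso; omega
            · -- 23=(1,1)
              refine ⟨(⟨![0, 3, 2, 1], ![0, 3, 2, 1], by decide, by decide⟩ : Equiv.Perm (Fin 4)), T.m 0, T.w 0, Or.inr (Or.inr (Or.inl ?_))⟩
              show T.m 0 = T.m 0 ∧ T.m 3 = T.m 0 ∧ T.m 2 = T.m 0 ∧ T.m 1 = T.m 0 ∧ T.w 0 = T.w 0 ∧ T.w 3 = 2 * T.w 0 ∧ T.w 2 = 2 * T.w 0 ∧ T.w 1 = T.w 0 ∧ T.a 0 0 = -2 * T.w 0 ∧ T.a 0 3 = 2 * T.w 0 ∧ T.a 0 2 = 0 ∧ T.a 0 1 = 0 ∧ T.a 3 3 = -4 * T.w 0 ∧ T.a 3 2 = 2 * T.w 0 ∧ T.a 3 1 = 0 ∧ T.a 2 2 = -4 * T.w 0 ∧ T.a 2 1 = 2 * T.w 0 ∧ T.a 1 1 = -2 * T.w 0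
              refine ⟨?_, ?_, ?_, ?_, ?_, ?_, ?_, ?_, ?_, ?_, ?_, ?_, ?_, ?_, ?_, ?_, ?_, ?_⟩ <;> omega
            · -- 23=(1,2)
              exact False.elim (cert_false T ((skipEmb 1).trans v) (by norm_num) (fun _ => hv _) (((((LB_zero T ((skipEmb 1).trans v)).upd 0 2 2 (le_of_eq hx03)).upd 1 2 1 (le_of_eq hx23)).upd 2 0 1 (le_of_eq hx30)).upd 2 1 2 (le_of_eq hx32)) ![2,1,2] (by decide) (by decide) 0 (by decide))
            · -- 23=(2,1)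
              exact False.elim (cert_false T ((skipEmb 1).trans v) (by norm_num) (fun _ => hv _) (((((LB_zero T ((skipEmb 1).trans v)).upd 0 2 2 (le_of_eq hx03)).upd 1 2 2 (le_of_eq hx23)).upd 2 0 1 (le_of_eq hx30)).upd 2 1 1 (le_of_eq hx32)) ![1,1,1] (by decide) (by decide) 0 (by decide))
            · -- 23=(1,3)
              exact False.elim (cert_false T ((skipEmb 1).trans v) (by norm_num) (fun _ => hv _) (((((LB_zero T ((skipEmb 1).trans v)).upd 0 2 2 (le_of_eq hx03)).upd 1 2 1 (le_of_eq hx23)).upd 2 0 1 (le_of_eq hx30)).upd 2 1 3 (le_of_eq hx32)) ![1,1,2] (by decide) (by decide) 0 (by decide))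
            · -- 23=(3,1)
              exact False.elim (cert_false T ((skipEmb 1).trans v) (by norm_num) (fun _ => hv _) (((((LB_zero T ((skipEmb 1).trans v)).upd 0 2 2 (le_of_eq hx03)).upd 1 2 3 (le_of_eq hx23)).upd 2 0 1 (le_of_eq hx30)).upd 2 1 1 (le_of_eq hx32)) ![1,1,1] (by decide) (by decide) 0 (by decide))
          · -- 13=(1,1)
            have d23 := two_pair T (by norm_num : 2 < 4) ((pairEmb 2 3 (by decide)).trans v) (fun _ => hv _)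
            change (N T v 2 3 = 0 ∧ N T v 3 2 = 0) ∨ (N T v 2 3 = 1 ∧ N T v 3 2 = 1) ∨ (N T v 2 3 = 1 ∧ N T v 3 2 = 2) ∨ (N T v 2 3 = 2 ∧ N T v 3 2 = 1) ∨ (N T v 2 3 = 1 ∧ N T v 3 2 = 3) ∨ (N T v 2 3 = 3 ∧ N T v 3 2 = 1) at d23
            rw [← hx23, ← hx32] at d23
            rcases d23 with ⟨rfl, rfl⟩ | ⟨rfl, rfl⟩ | ⟨rfl, rfl⟩ | ⟨rfl, rfl⟩ | ⟨rfl, rfl⟩ | ⟨rfl, rfl⟩
            · -- 23=(0,0)
              refine ⟨(⟨![0, 3, 1, 2], ![0, 2, 3, 1], by decide, by decide⟩ : Equiv.Perm (Fin 4)), T.m 2, T.w 0, Or.inr (Or.inl ?_)⟩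
              show T.m 0 = 2 * T.m 2 ∧ T.m 3 = 2 * T.m 2 ∧ T.m 1 = 2 * T.m 2 ∧ T.m 2 = T.m 2 ∧ T.w 0 = T.w 0 ∧ T.w 3 = 2 * T.w 0 ∧ T.w 1 = 2 * T.w 0 ∧ T.w 2 = 4 * T.w 0 ∧ T.a 0 0 = -2 * T.w 0 ∧ T.a 0 3 = 2 * T.w 0 ∧ T.a 0 1 = 0 ∧ T.a 0 2 = 0 ∧ T.a 3 3 = -4 * T.w 0 ∧ T.a 3 1 = 2 * T.w 0 ∧ T.a 3 2 = 0 ∧ T.a 1 1 = -4 * T.w 0 ∧ T.a 1 2 = 4 * T.w 0 ∧ T.a 2 2 = -8 * T.w 0
              refine ⟨?_, ?_, ?_, ?_, ?_, ?_, ?_, ?_, ?_, ?_, ?_, ?_, ?_, ?_, ?_, ?_, ?_, ?_⟩ <;> omega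
            · -- 23=(1,1)
              exact False.elim (cert_false T ((skipEmb 0).trans v) (by norm_num) (fun _ => hv _) (((((((LB_zero T ((skipEmb 0).trans v)).upd 0 1 2 (le_of_eq hx12)).upd 0 2 1 (le_of_eq hx13)).upd 1 0 1 (le_of_eq hx21)).upd 1 2 1 (le_of_eq hx23)).upd 2 0 1 (le_of_eq hx31)).upd 2 1 1 (le_of_eq hx32)) ![1,1,1] (by decide) (by decide) 0 (by decide))
            · -- 23=(1,2)
              exact False.elim (cert_false T ((skipEmb 1).trans v) (by norm_num) (fun _ => hv _) (((((LB_zero T ((skipEmb 1).trans v)).upd 0 2 2 (le_of_eq hx03)).upd 1 2 1 (le_of_eq hx23)).upd 2 0 1 (le_of_eq hx30)).upd 2 1 2 (le_of_eq hx32)) ![2,1,2] (by decide) (by decide) 0 (by decide))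
            · -- 23=(2,1)
              exact False.elim (cert_false T ((skipEmb 1).trans v) (by norm_num) (fun _ => hv _) (((((LB_zero T ((skipEmb 1).trans v)).upd 0 2 2 (le_of_eq hx03)).upd 1 2 2 (le_of_eq hx23)).upd 2 0 1 (le_of_eq hx30)).upd 2 1 1 (le_of_eq hx32)) ![1,1,1] (by decide) (by decide) 0 (by decide))
            · -- 23=(1,3)
              exact False.elim (cert_false T ((skipEmb 1).trans v) (by norm_num) (fun _ => hv _) (((((LB_zero T ((skipEmb 1).trans v)).upd 0 2 2 (le_of_eq hx03)).upd 1 2 1 (le_of_eq hx23)).upd 2 0 1 (le_of_eq hx30)).upd 2 1 3 (le_of_eq hx32)) ![1,1,2] (by decide) (by decide) 0 (by decide))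
            · -- 23=(3,1)
              exact False.elim (cert_false T ((skipEmb 1).trans v) (by norm_num) (fun _ => hv _) (((((LB_zero T ((skipEmb 1).trans v)).upd 0 2 2 (le_of_eq hx03)).upd 1 2 3 (le_of_eq hx23)).upd 2 0 1 (le_of_eq hx30)).upd 2 1 1 (le_of_eq hx32)) ![1,1,1] (by decide) (by decide) 0 (by decide))
          · -- 13=(1,2)
            exact False.elim (cert_false T ((skipEmb 2).trans v) (by norm_num) (fun _ => hv _) (((((LB_zero T ((skipEmb 2).trans v)).upd 0 2 2 (le_of_eq hx03)).upd 1 2 1 (le_of_eq hx13)).upd 2 0 1 (le_of_eq hx30)).upd 2 1 2 (le_of_eq hx31)) ![2,1,2] (by decide) (by decide) 0 (by decide))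
          · -- 13=(2,1)
            exact False.elim (cert_false T ((skipEmb 2).trans v) (by norm_num) (fun _ => hv _) (((((LB_zero T ((skipEmb 2).trans v)).upd 0 2 2 (le_of_eq hx03)).upd 1 2 2 (le_of_eq hx13)).upd 2 0 1 (le_of_eq hx30)).upd 2 1 1 (le_of_eq hx31)) ![1,1,1] (by decide) (by decide) 0 (by decide))
          · -- 13=(1,3)
            exact False.elim (cert_false T ((skipEmb 2).trans v) (by norm_num) (fun _ => hv _) (((((LB_zero T ((skipEmb 2).trans v)).upd 0 2 2 (le_of_eq hx03)).upd 1 2 1 (le_of_eq hx13)).upd 2 0 1 (le_of_eq hx30)).upd 2 1 3 (le_of_eq hx31)) ![1,1,2] (by decide) (by decide) 0 (by decide))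
          · -- 13=(3,1)
            exact False.elim (cert_false T ((skipEmb 2).trans v) (by norm_num) (fun _ => hv _) (((((LB_zero T ((skipEmb 2).trans v)).upd 0 2 2 (le_of_eq hx03)).upd 1 2 3 (le_of_eq hx13)).upd 2 0 1 (le_of_eq hx30)).upd 2 1 1 (le_of_eq hx31)) ![1,1,1] (by decide) (by decide) 0 (by decide))
        · -- 03=(1,3)
          have d13 := two_pair T (by norm_num : 2 < 4) ((pairEmb 1 3 (by decide)).trans v) (fun _ => hv _)
          change (N T v 1 3 = 0 ∧ N T v 3 1 = 0) ∨ (N T v 1 3 = 1 ∧ N T v 3 1 = 1) ∨ (N T v 1 3 = 1 ∧ N T v 3 1 = 2) ∨ (N T v 1 3 = 2 ∧ N T v 3 1 = 1) ∨ (N T v 1 3 = 1 ∧ N T v 3 1 = 3) ∨ (N T v 1 3 = 3 ∧ N T v 3 1 = 1) at d13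
          rw [← hx13, ← hx31] at d13
          rcases d13 with ⟨rfl, rfl⟩ | ⟨rfl, rfl⟩ | ⟨rfl, rfl⟩ | ⟨rfl, rfl⟩ | ⟨rfl, rfl⟩ | ⟨rfl, rfl⟩
          · -- 13=(0,0)
            have d23 := two_pair T (by norm_num : 2 < 4) ((pairEmb 2 3 (by decide)).trans v) (fun _ => hv _)
            change (N T v 2 3 = 0 ∧ N T v 3 2 = 0) ∨ (N T v 2 3 = 1 ∧ N T v 3 2 = 1) ∨ (N T v 2 3 = 1 ∧ N T v 3 2 = 2) ∨ (N T v 2 3 = 2 ∧ N T v 3 2 = 1) ∨ (N T v 2 3 = 1 ∧ N T v 3 2 = 3) ∨ (N T v 2 3 = 3 ∧ N T v 3 2 = 1) at d23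
            rw [← hx23, ← hx32] at d23
            rcases d23 with ⟨rfl, rfl⟩ | ⟨rfl, rfl⟩ | ⟨rfl, rfl⟩ | ⟨rfl, rfl⟩ | ⟨rfl, rfl⟩ | ⟨rfl, rfl⟩
            · -- 23=(0,0)
              exfalso; omega
            · -- 23=(1,1)
              exact False.elim (cert_false T ((skipEmb 1).trans v) (by norm_num) (fun _ => hv _) (((((LB_zero T ((skipEmb 1).trans v)).upd 0 2 1 (le_of_eq hx03)).upd 1 2 1 (le_of_eq hx23)).upd 2 0 3 (le_of_eq hx30)).upd 2 1 1 (le_of_eq hx32)) ![1,1,2] (by decide) (by decide) 0 (by decide))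
            · -- 23=(1,2)
              exact False.elim (cert_false T ((skipEmb 1).trans v) (by norm_num) (fun _ => hv _) (((((LB_zero T ((skipEmb 1).trans v)).upd 0 2 1 (le_of_eq hx03)).upd 1 2 1 (le_of_eq hx23)).upd 2 0 3 (le_of_eq hx30)).upd 2 1 2 (le_of_eq hx32)) ![1,1,2] (by decide) (by decide) 0 (by decide))
            · -- 23=(2,1)
              exact False.elim (cert_false T ((skipEmb 1).trans v) (by norm_num) (fun _ => hv _) (((((LB_zero T ((skipEmb 1).trans v)).upd 0 2 1 (le_of_eq hx03)).upd 1 2 2 (le_of_eq hx23)).upd 2 0 3 (le_of_eq hx30)).upd 2 1 1 (le_of_eq hx32)) ![1,1,2] (by decide) (by decide) 0 (by decide))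
            · -- 23=(1,3)
              exact False.elim (cert_false T ((skipEmb 1).trans v) (by norm_num) (fun _ => hv _) (((((LB_zero T ((skipEmb 1).trans v)).upd 0 2 1 (le_of_eq hx03)).upd 1 2 1 (le_of_eq hx23)).upd 2 0 3 (le_of_eq hx30)).upd 2 1 3 (le_of_eq hx32)) ![1,1,2] (by decide) (by decide) 0 (by decide))
            · -- 23=(3,1)
              exact False.elim (cert_false T ((skipEmb 1).trans v) (by norm_num) (fun _ => hv _) (((((LB_zero T ((skipEmb 1).trans v)).upd 0 2 1 (le_of_eq hx03)).upd 1 2 3 (le_of_eq hx23)).upd 2 0 3 (le_of_eq hx30)).upd 2 1 1 (le_of_eq hx32)) ![1,1,2] (by decide) (by decide) 0 (by decide))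
          · -- 13=(1,1)
            exact False.elim (cert_false T ((skipEmb 2).trans v) (by norm_num) (fun _ => hv _) (((((LB_zero T ((skipEmb 2).trans v)).upd 0 2 1 (le_of_eq hx03)).upd 1 2 1 (le_of_eq hx13)).upd 2 0 3 (le_of_eq hx30)).upd 2 1 1 (le_of_eq hx31)) ![1,1,2] (by decide) (by decide) 0 (by decide))
          · -- 13=(1,2)
            exact False.elim (cert_false T ((skipEmb 2).trans v) (by norm_num) (fun _ => hv _) (((((LB_zero T ((skipEmb 2).trans v)).upd 0 2 1 (le_of_eq hx03)).upd 1 2 1 (le_of_eq hx13)).upd 2 0 3 (le_of_eq hx30)).upd 2 1 2 (le_of_eq hx31)) ![1,1,2] (by decide) (by decide) 0 (by decide))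
          · -- 13=(2,1)
            exact False.elim (cert_false T ((skipEmb 2).trans v) (by norm_num) (fun _ => hv _) (((((LB_zero T ((skipEmb 2).trans v)).upd 0 2 1 (le_of_eq hx03)).upd 1 2 2 (le_of_eq hx13)).upd 2 0 3 (le_of_eq hx30)).upd 2 1 1 (le_of_eq hx31)) ![1,1,2] (by decide) (by decide) 0 (by decide))
          · -- 13=(1,3)
            exact False.elim (cert_false T ((skipEmb 2).trans v) (by norm_num) (fun _ => hv _) (((((LB_zero T ((skipEmb 2).trans v)).upd 0 2 1 (le_of_eq hx03)).upd 1 2 1 (le_of_eq hx13)).upd 2 0 3 (le_of_eq hx30)).upd 2 1 3 (le_of_eq hx31)) ![1,1,2] (by decide) (by decide) 0 (by decide))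
          · -- 13=(3,1)
            exact False.elim (cert_false T ((skipEmb 2).trans v) (by norm_num) (fun _ => hv _) (((((LB_zero T ((skipEmb 2).trans v)).upd 0 2 1 (le_of_eq hx03)).upd 1 2 3 (le_of_eq hx13)).upd 2 0 3 (le_of_eq hx30)).upd 2 1 1 (le_of_eq hx31)) ![1,1,2] (by decide) (by decide) 0 (by decide))
        · -- 03=(3,1)
          have d13 := two_pair T (by norm_num : 2 < 4) ((pairEmb 1 3 (by decide)).trans v) (fun _ => hv _)
          change (N T v 1 3 = 0 ∧ N T v 3 1 = 0) ∨ (N T v 1 3 = 1 ∧ N T v 3 1 = 1) ∨ (N T v 1 3 = 1 ∧ N T v 3 1 = 2) ∨ (N T v 1 3 = 2 ∧ N T v 3 1 = 1) ∨ (N T v 1 3 = 1 ∧ N T v 3 1 = 3) ∨ (N T v 1 3 = 3 ∧ N T v 3 1 = 1) at d13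
          rw [← hx13, ← hx31] at d13
          rcases d13 with ⟨rfl, rfl⟩ | ⟨rfl, rfl⟩ | ⟨rfl, rfl⟩ | ⟨rfl, rfl⟩ | ⟨rfl, rfl⟩ | ⟨rfl, rfl⟩
          · -- 13=(0,0)
            have d23 := two_pair T (by norm_num : 2 < 4) ((pairEmb 2 3 (by decide)).trans v) (fun _ => hv _)
            change (N T v 2 3 = 0 ∧ N T v 3 2 = 0) ∨ (N T v 2 3 = 1 ∧ N T v 3 2 = 1) ∨ (N T v 2 3 = 1 ∧ N T v 3 2 = 2) ∨ (N T v 2 3 = 2 ∧ N T v 3 2 = 1) ∨ (N T v 2 3 = 1 ∧ N T v 3 2 = 3) ∨ (N T v 2 3 = 3 ∧ N T v 3 2 = 1) at d23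
            rw [← hx23, ← hx32] at d23
            rcases d23 with ⟨rfl, rfl⟩ | ⟨rfl, rfl⟩ | ⟨rfl, rfl⟩ | ⟨rfl, rfl⟩ | ⟨rfl, rfl⟩ | ⟨rfl, rfl⟩
            · -- 23=(0,0)
              exfalso; omega
            · -- 23=(1,1)
              exact False.elim (cert_false T ((skipEmb 1).trans v) (by norm_num) (fun _ => hv _) (((((LB_zero T ((skipEmb 1).trans v)).upd 0 2 3 (le_of_eq hx03)).upd 1 2 1 (le_of_eq hx23)).upd 2 0 1 (le_of_eq hx30)).upd 2 1 1 (le_of_eq hx32)) ![3,1,2] (by decide) (by decide) 0 (by decide))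
            · -- 23=(1,2)
              exact False.elim (cert_false T ((skipEmb 1).trans v) (by norm_num) (fun _ => hv _) (((((LB_zero T ((skipEmb 1).trans v)).upd 0 2 3 (le_of_eq hx03)).upd 1 2 1 (le_of_eq hx23)).upd 2 0 1 (le_of_eq hx30)).upd 2 1 2 (le_of_eq hx32)) ![2,1,2] (by decide) (by decide) 0 (by decide))
            · -- 23=(2,1)
              exact False.elim (cert_false T ((skipEmb 1).trans v) (by norm_num) (fun _ => hv _) (((((LB_zero T ((skipEmb 1).trans v)).upd 0 2 3 (le_of_eq hx03)).upd 1 2 2 (le_of_eq hx23)).upd 2 0 1 (le_of_eq hx30)).upd 2 1 1 (le_of_eq hx32)) ![1,1,1] (by decide) (by decide) 0 (by decide))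
            · -- 23=(1,3)
              exact False.elim (cert_false T ((skipEmb 1).trans v) (by norm_num) (fun _ => hv _) (((((LB_zero T ((skipEmb 1).trans v)).upd 0 2 3 (le_of_eq hx03)).upd 1 2 1 (le_of_eq hx23)).upd 2 0 1 (le_of_eq hx30)).upd 2 1 3 (le_of_eq hx32)) ![1,1,2] (by decide) (by decide) 0 (by decide))
            · -- 23=(3,1)
              exact False.elim (cert_false T ((skipEmb 1).trans v) (by norm_num) (fun _ => hv _) (((((LB_zero T ((skipEmb 1).trans v)).upd 0 2 3 (le_of_eq hx03)).upd 1 2 3 (le_of_eq hx23)).upd 2 0 1 (le_of_eq hx30)).upd 2 1 1 (le_of_eq hx32)) ![1,1,1] (by decide) (by decide) 0 (by decide))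
          · -- 13=(1,1)
            exact False.elim (cert_false T ((skipEmb 2).trans v) (by norm_num) (fun _ => hv _) (((((LB_zero T ((skipEmb 2).trans v)).upd 0 2 3 (le_of_eq hx03)).upd 1 2 1 (le_of_eq hx13)).upd 2 0 1 (le_of_eq hx30)).upd 2 1 1 (le_of_eq hx31)) ![3,1,2] (by decide) (by decide) 0 (by decide))
          · -- 13=(1,2)
            exact False.elim (cert_false T ((skipEmb 2).trans v) (by norm_num) (fun _ => hv _) (((((LB_zero T ((skipEmb 2).trans v)).upd 0 2 3 (le_of_eq hx03)).upd 1 2 1 (le_of_eq hx13)).upd 2 0 1 (le_of_eq hx30)).upd 2 1 2 (le_of_eq hx31)) ![2,1,2] (by decide) (by decide) 0 (by decide))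
          · -- 13=(2,1)
            exact False.elim (cert_false T ((skipEmb 2).trans v) (by norm_num) (fun _ => hv _) (((((LB_zero T ((skipEmb 2).trans v)).upd 0 2 3 (le_of_eq hx03)).upd 1 2 2 (le_of_eq hx13)).upd 2 0 1 (le_of_eq hx30)).upd 2 1 1 (le_of_eq hx31)) ![1,1,1] (by decide) (by decide) 0 (by decide))
          · -- 13=(1,3)
            exact False.elim (cert_false T ((skipEmb 2).trans v) (by norm_num) (fun _ => hv _) (((((LB_zero T ((skipEmb 2).trans v)).upd 0 2 3 (le_of_eq hx03)).upd 1 2 1 (le_of_eq hx13)).upd 2 0 1 (le_of_eq hx30)).upd 2 1 3 (le_of_eq hx31)) ![1,1,2] (by decide) (by decide) 0 (by decide))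
          · -- 13=(3,1)
            exact False.elim (cert_false T ((skipEmb 2).trans v) (by norm_num) (fun _ => hv _) (((((LB_zero T ((skipEmb 2).trans v)).upd 0 2 3 (le_of_eq hx03)).upd 1 2 3 (le_of_eq hx13)).upd 2 0 1 (le_of_eq hx30)).upd 2 1 1 (le_of_eq hx31)) ![1,1,1] (by decide) (by decide) 0 (by decide))
      · -- 12=(1,3)
        have d03 := two_pair T (by norm_num : 2 < 4) ((pairEmb 0 3 (by decide)).trans v) (fun _ => hv _)
        change (N T v 0 3 = 0 ∧ N T v 3 0 = 0) ∨ (N T v 0 3 = 1 ∧ N T v 3 0 = 1) ∨ (N T v 0 3 = 1 ∧ N T v 3 0 = 2) ∨ (N T v 0 3 = 2 ∧ N T v 3 0 = 1) ∨ (N T v 0 3 = 1 ∧ N T v 3 0 = 3) ∨ (N T v 0 3 = 3 ∧ N T v 3 0 = 1) at d03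
        rw [← hx03, ← hx30] at d03
        rcases d03 with ⟨rfl, rfl⟩ | ⟨rfl, rfl⟩ | ⟨rfl, rfl⟩ | ⟨rfl, rfl⟩ | ⟨rfl, rfl⟩ | ⟨rfl, rfl⟩
        · -- 03=(0,0)
          have d13 := two_pair T (by norm_num : 2 < 4) ((pairEmb 1 3 (by decide)).trans v) (fun _ => hv _)
          change (N T v 1 3 = 0 ∧ N T v 3 1 = 0) ∨ (N T v 1 3 = 1 ∧ N T v 3 1 = 1) ∨ (N T v 1 3 = 1 ∧ N T v 3 1 = 2) ∨ (N T v 1 3 = 2 ∧ N T v 3 1 = 1) ∨ (N T v 1 3 = 1 ∧ N T v 3 1 = 3) ∨ (N T v 1 3 = 3 ∧ N T v 3 1 = 1) at d13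
          rw [← hx13, ← hx31] at d13
          rcases d13 with ⟨rfl, rfl⟩ | ⟨rfl, rfl⟩ | ⟨rfl, rfl⟩ | ⟨rfl, rfl⟩ | ⟨rfl, rfl⟩ | ⟨rfl, rfl⟩
          · -- 13=(0,0)
            have d23 := two_pair T (by norm_num : 2 < 4) ((pairEmb 2 3 (by decide)).trans v) (fun _ => hv _)
            change (N T v 2 3 = 0 ∧ N T v 3 2 = 0) ∨ (N T v 2 3 = 1 ∧ N T v 3 2 = 1) ∨ (N T v 2 3 = 1 ∧ N T v 3 2 = 2) ∨ (N T v 2 3 = 2 ∧ N T v 3 2 = 1) ∨ (N T v 2 3 = 1 ∧ N T v 3 2 = 3) ∨ (N T v 2 3 = 3 ∧ N T v 3 2 = 1) at d23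
            rw [← hx23, ← hx32] at d23
            rcases d23 with ⟨rfl, rfl⟩ | ⟨rfl, rfl⟩ | ⟨rfl, rfl⟩ | ⟨rfl, rfl⟩ | ⟨rfl, rfl⟩ | ⟨rfl, rfl⟩
            · -- 23=(0,0)
              exfalso; omega
            · -- 23=(1,1)
              exact False.elim (cert_false T ((skipEmb 0).trans v) (by norm_num) (fun _ => hv _) (((((LB_zero T ((skipEmb 0).trans v)).upd 0 1 1 (le_of_eq hx12)).upd 1 0 3 (le_of_eq hx21)).upd 1 2 1 (le_of_eq hx23)).upd 2 1 1 (le_of_eq hx32)) ![1,2,1] (by decide) (by decide) 0 (by decide))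
            · -- 23=(1,2)
              exact False.elim (cert_false T ((skipEmb 0).trans v) (by norm_num) (fun _ => hv _) (((((LB_zero T ((skipEmb 0).trans v)).upd 0 1 1 (le_of_eq hx12)).upd 1 0 3 (le_of_eq hx21)).upd 1 2 1 (le_of_eq hx23)).upd 2 1 2 (le_of_eq hx32)) ![1,2,1] (by decide) (by decide) 0 (by decide))
            · -- 23=(2,1)
              exact False.elim (cert_false T ((skipEmb 0).trans v) (by norm_num) (fun _ => hv _) (((((LB_zero T ((skipEmb 0).trans v)).upd 0 1 1 (le_of_eq hx12)).upd 1 0 3 (le_of_eq hx21)).upd 1 2 2 (le_of_eq hx23)).upd 2 1 1 (le_of_eq hx32)) ![1,2,1] (by decide) (by decide) 0 (by decide))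
            · -- 23=(1,3)
              exact False.elim (cert_false T ((skipEmb 0).trans v) (by norm_num) (fun _ => hv _) (((((LB_zero T ((skipEmb 0).trans v)).upd 0 1 1 (le_of_eq hx12)).upd 1 0 3 (le_of_eq hx21)).upd 1 2 1 (le_of_eq hx23)).upd 2 1 3 (le_of_eq hx32)) ![1,2,1] (by decide) (by decide) 0 (by decide))
            · -- 23=(3,1)
              exact False.elim (cert_false T ((skipEmb 0).trans v) (by norm_num) (fun _ => hv _) (((((LB_zero T ((skipEmb 0).trans v)).upd 0 1 1 (le_of_eq hx12)).upd 1 0 3 (le_of_eq hx21)).upd 1 2 3 (le_of_eq hx23)).upd 2 1 1 (le_of_eq hx32)) ![1,2,1] (by decide) (by decide) 0 (by decide))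
          · -- 13=(1,1)
            exact False.elim (cert_false T ((skipEmb 0).trans v) (by norm_num) (fun _ => hv _) (((((LB_zero T ((skipEmb 0).trans v)).upd 0 1 1 (le_of_eq hx12)).upd 0 2 1 (le_of_eq hx13)).upd 1 0 3 (le_of_eq hx21)).upd 2 0 1 (le_of_eq hx31)) ![2,3,1] (by decide) (by decide) 0 (by decide))
          · -- 13=(1,2)
            exact False.elim (cert_false T ((skipEmb 0).trans v) (by norm_num) (fun _ => hv _) (((((LB_zero T ((skipEmb 0).trans v)).upd 0 1 1 (le_of_eq hx12)).upd 0 2 1 (le_of_eq hx13)).upd 1 0 3 (le_of_eq hx21)).upd 2 0 2 (le_of_eq hx31)) ![1,1,1] (by decide) (by decide) 0 (by decide))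
          · -- 13=(2,1)
            exact False.elim (cert_false T ((skipEmb 0).trans v) (by norm_num) (fun _ => hv _) (((((LB_zero T ((skipEmb 0).trans v)).upd 0 1 1 (le_of_eq hx12)).upd 0 2 2 (le_of_eq hx13)).upd 1 0 3 (le_of_eq hx21)).upd 2 0 1 (le_of_eq hx31)) ![2,2,1] (by decide) (by decide) 0 (by decide))
          · -- 13=(1,3)
            exact False.elim (cert_false T ((skipEmb 0).trans v) (by norm_num) (fun _ => hv _) (((((LB_zero T ((skipEmb 0).trans v)).upd 0 1 1 (le_of_eq hx12)).upd 0 2 1 (le_of_eq hx13)).upd 1 0 3 (le_of_eq hx21)).upd 2 0 3 (le_of_eq hx31)) ![1,1,1] (by decide) (by decide) 0 (by decide))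
          · -- 13=(3,1)
            exact False.elim (cert_false T ((skipEmb 0).trans v) (by norm_num) (fun _ => hv _) (((((LB_zero T ((skipEmb 0).trans v)).upd 0 1 1 (le_of_eq hx12)).upd 0 2 3 (le_of_eq hx13)).upd 1 0 3 (le_of_eq hx21)).upd 2 0 1 (le_of_eq hx31)) ![2,1,1] (by decide) (by decide) 0 (by decide))
        · -- 03=(1,1)
          have d13 := two_pair T (by norm_num : 2 < 4) ((pairEmb 1 3 (by decide)).trans v) (fun _ => hv _)
          change (N T v 1 3 = 0 ∧ N T v 3 1 = 0) ∨ (N T v 1 3 = 1 ∧ N T v 3 1 = 1) ∨ (N T v 1 3 = 1 ∧ N T v 3 1 = 2) ∨ (N T v 1 3 = 2 ∧ N T v 3 1 = 1) ∨ (N T v 1 3 = 1 ∧ N T v 3 1 = 3) ∨ (N T v 1 3 = 3 ∧ N T v 3 1 = 1) at d13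
          rw [← hx13, ← hx31] at d13
          rcases d13 with ⟨rfl, rfl⟩ | ⟨rfl, rfl⟩ | ⟨rfl, rfl⟩ | ⟨rfl, rfl⟩ | ⟨rfl, rfl⟩ | ⟨rfl, rfl⟩
          · -- 13=(0,0)
            have d23 := two_pair T (by norm_num : 2 < 4) ((pairEmb 2 3 (by decide)).trans v) (fun _ => hv _)
            change (N T v 2 3 = 0 ∧ N T v 3 2 = 0) ∨ (N T v 2 3 = 1 ∧ N T v 3 2 = 1) ∨ (N T v 2 3 = 1 ∧ N T v 3 2 = 2) ∨ (N T v 2 3 = 2 ∧ N T v 3 2 = 1) ∨ (N T v 2 3 = 1 ∧ N T v 3 2 = 3) ∨ (N T v 2 3 = 3 ∧ N T v 3 2 = 1) at d23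
            rw [← hx23, ← hx32] at d23
            rcases d23 with ⟨rfl, rfl⟩ | ⟨rfl, rfl⟩ | ⟨rfl, rfl⟩ | ⟨rfl, rfl⟩ | ⟨rfl, rfl⟩ | ⟨rfl, rfl⟩
            · -- 23=(0,0)
              exfalso; omega
            · -- 23=(1,1)
              exact False.elim (cert_false T ((skipEmb 0).trans v) (by norm_num) (fun _ => hv _) (((((LB_zero T ((skipEmb 0).trans v)).upd 0 1 1 (le_of_eq hx12)).upd 1 0 3 (le_of_eq hx21)).upd 1 2 1 (le_of_eq hx23)).upd 2 1 1 (le_of_eq hx32)) ![1,2,1] (by decide) (by decide) 0 (by decide))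
            · -- 23=(1,2)
              exact False.elim (cert_false T ((skipEmb 0).trans v) (by norm_num) (fun _ => hv _) (((((LB_zero T ((skipEmb 0).trans v)).upd 0 1 1 (le_of_eq hx12)).upd 1 0 3 (le_of_eq hx21)).upd 1 2 1 (le_of_eq hx23)).upd 2 1 2 (le_of_eq hx32)) ![1,2,1] (by decide) (by decide) 0 (by decide))
            · -- 23=(2,1)
              exact False.elim (cert_false T ((skipEmb 0).trans v) (by norm_num) (fun _ => hv _) (((((LB_zero T ((skipEmb 0).trans v)).upd 0 1 1 (le_of_eq hx12)).upd 1 0 3 (le_of_eq hx21)).upd 1 2 2 (le_of_eq hx23)).upd 2 1 1 (le_of_eq hx32)) ![1,2,1] (by decide) (by decide) 0 (by decide))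
            · -- 23=(1,3)
              exact False.elim (cert_false T ((skipEmb 1).trans v) (by norm_num) (fun _ => hv _) (((((LB_zero T ((skipEmb 1).trans v)).upd 0 2 1 (le_of_eq hx03)).upd 1 2 1 (le_of_eq hx23)).upd 2 0 1 (le_of_eq hx30)).upd 2 1 3 (le_of_eq hx32)) ![1,1,2] (by decide) (by decide) 0 (by decide))
            · -- 23=(3,1)
              exact False.elim (cert_false T ((skipEmb 1).trans v) (by norm_num) (fun _ => hv _) (((((LB_zero T ((skipEmb 1).trans v)).upd 0 2 1 (le_of_eq hx03)).upd 1 2 3 (le_of_eq hx23)).upd 2 0 1 (le_of_eq hx30)).upd 2 1 1 (le_of_eq hx32)) ![1,3,2] (by decide) (by decide) 0 (by decide))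
          · -- 13=(1,1)
            exact False.elim (cert_false T ((skipEmb 0).trans v) (by norm_num) (fun _ => hv _) (((((LB_zero T ((skipEmb 0).trans v)).upd 0 1 1 (le_of_eq hx12)).upd 0 2 1 (le_of_eq hx13)).upd 1 0 3 (le_of_eq hx21)).upd 2 0 1 (le_of_eq hx31)) ![2,3,1] (by decide) (by decide) 0 (by decide))
          · -- 13=(1,2)
            exact False.elim (cert_false T ((skipEmb 0).trans v) (by norm_num) (fun _ => hv _) (((((LB_zero T ((skipEmb 0).trans v)).upd 0 1 1 (le_of_eq hx12)).upd 0 2 1 (le_of_eq hx13)).upd 1 0 3 (le_of_eq hx21)).upd 2 0 2 (le_of_eq hx31)) ![1,1,1] (by decide) (by decide) 0 (by decide))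
          · -- 13=(2,1)
            exact False.elim (cert_false T ((skipEmb 0).trans v) (by norm_num) (fun _ => hv _) (((((LB_zero T ((skipEmb 0).trans v)).upd 0 1 1 (le_of_eq hx12)).upd 0 2 2 (le_of_eq hx13)).upd 1 0 3 (le_of_eq hx21)).upd 2 0 1 (le_of_eq hx31)) ![2,2,1] (by decide) (by decide) 0 (by decide))
          · -- 13=(1,3)
            exact False.elim (cert_false T ((skipEmb 2).trans v) (by norm_num) (fun _ => hv _) (((((LB_zero T ((skipEmb 2).trans v)).upd 0 2 1 (le_of_eq hx03)).upd 1 2 1 (le_of_eq hx13)).upd 2 0 1 (le_of_eq hx30)).upd 2 1 3 (le_of_eq hx31)) ![1,1,2] (by decide) (by decide) 0 (by decide))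
          · -- 13=(3,1)
            exact False.elim (cert_false T ((skipEmb 2).trans v) (by norm_num) (fun _ => hv _) (((((LB_zero T ((skipEmb 2).trans v)).upd 0 2 1 (le_of_eq hx03)).upd 1 2 3 (le_of_eq hx13)).upd 2 0 1 (le_of_eq hx30)).upd 2 1 1 (le_of_eq hx31)) ![1,3,2] (by decide) (by decide) 0 (by decide))
        · -- 03=(1,2)
          have d13 := two_pair T (by norm_num : 2 < 4) ((pairEmb 1 3 (by decide)).trans v) (fun _ => hv _)
          change (N T v 1 3 = 0 ∧ N T v 3 1 = 0) ∨ (N T v 1 3 = 1 ∧ N T v 3 1 = 1) ∨ (N T v 1 3 = 1 ∧ N T v 3 1 = 2) ∨ (N T v 1 3 = 2 ∧ N T v 3 1 = 1) ∨ (N T v 1 3 = 1 ∧ N T v 3 1 = 3) ∨ (N T v 1 3 = 3 ∧ N T v 3 1 = 1) at d13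
          rw [← hx13, ← hx31] at d13
          rcases d13 with ⟨rfl, rfl⟩ | ⟨rfl, rfl⟩ | ⟨rfl, rfl⟩ | ⟨rfl, rfl⟩ | ⟨rfl, rfl⟩ | ⟨rfl, rfl⟩
          · -- 13=(0,0)
            have d23 := two_pair T (by norm_num : 2 < 4) ((pairEmb 2 3 (by decide)).trans v) (fun _ => hv _)
            change (N T v 2 3 = 0 ∧ N T v 3 2 = 0) ∨ (N T v 2 3 = 1 ∧ N T v 3 2 = 1) ∨ (N T v 2 3 = 1 ∧ N T v 3 2 = 2) ∨ (N T v 2 3 = 2 ∧ N T v 3 2 = 1) ∨ (N T v 2 3 = 1 ∧ N T v 3 2 = 3) ∨ (N T v 2 3 = 3 ∧ N T v 3 2 = 1) at d23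
            rw [← hx23, ← hx32] at d23
            rcases d23 with ⟨rfl, rfl⟩ | ⟨rfl, rfl⟩ | ⟨rfl, rfl⟩ | ⟨rfl, rfl⟩ | ⟨rfl, rfl⟩ | ⟨rfl, rfl⟩
            · -- 23=(0,0)
              exfalso; omega
            · -- 23=(1,1)
              exact False.elim (cert_false T ((skipEmb 0).trans v) (by norm_num) (fun _ => hv _) (((((LB_zero T ((skipEmb 0).trans v)).upd 0 1 1 (le_of_eq hx12)).upd 1 0 3 (le_of_eq hx21)).upd 1 2 1 (le_of_eq hx23)).upd 2 1 1 (le_of_eq hx32)) ![1,2,1] (by decide) (by decide) 0 (by decide))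
            · -- 23=(1,2)
              exact False.elim (cert_false T ((skipEmb 1).trans v) (by norm_num) (fun _ => hv _) (((((LB_zero T ((skipEmb 1).trans v)).upd 0 2 1 (le_of_eq hx03)).upd 1 2 1 (le_of_eq hx23)).upd 2 0 2 (le_of_eq hx30)).upd 2 1 2 (le_of_eq hx32)) ![1,1,2] (by decide) (by decide) 0 (by decide))
            · -- 23=(2,1)
              exact False.elim (cert_false T ((skipEmb 1).trans v) (by norm_num) (fun _ => hv _) (((((LB_zero T ((skipEmb 1).trans v)).upd 0 2 1 (le_of_eq hx03)).upd 1 2 2 (le_of_eq hx23)).upd 2 0 2 (le_of_eq hx30)).upd 2 1 1 (le_of_eq hx32)) ![1,2,2] (by decide) (by decide) 0 (by decide))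
            · -- 23=(1,3)
              exact False.elim (cert_false T ((skipEmb 1).trans v) (by norm_num) (fun _ => hv _) (((((LB_zero T ((skipEmb 1).trans v)).upd 0 2 1 (le_of_eq hx03)).upd 1 2 1 (le_of_eq hx23)).upd 2 0 2 (le_of_eq hx30)).upd 2 1 3 (le_of_eq hx32)) ![1,1,2] (by decide) (by decide) 0 (by decide))
            · -- 23=(3,1)
              exact False.elim (cert_false T ((skipEmb 1).trans v) (by norm_num) (fun _ => hv _) (((((LB_zero T ((skipEmb 1).trans v)).upd 0 2 1 (le_of_eq hx03)).upd 1 2 3 (le_of_eq hx23)).upd 2 0 2 (le_of_eq hx30)).upd 2 1 1 (le_of_eq hx32)) ![1,2,2] (by decide) (by decide) 0 (by decide))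
          · -- 13=(1,1)
            exact False.elim (cert_false T ((skipEmb 0).trans v) (by norm_num) (fun _ => hv _) (((((LB_zero T ((skipEmb 0).trans v)).upd 0 1 1 (le_of_eq hx12)).upd 0 2 1 (le_of_eq hx13)).upd 1 0 3 (le_of_eq hx21)).upd 2 0 1 (le_of_eq hx31)) ![2,3,1] (by decide) (by decide) 0 (by decide))
          · -- 13=(1,2)
            exact False.elim (cert_false T ((skipEmb 2).trans v) (by norm_num) (fun _ => hv _) (((((LB_zero T ((skipEmb 2).trans v)).upd 0 2 1 (le_of_eq hx03)).upd 1 2 1 (le_of_eq hx13)).upd 2 0 2 (le_of_eq hx30)).upd 2 1 2 (le_of_eq hx31)) ![1,1,2] (by decide) (by decide) 0 (by decide))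
          · -- 13=(2,1)
            exact False.elim (cert_false T ((skipEmb 2).trans v) (by norm_num) (fun _ => hv _) (((((LB_zero T ((skipEmb 2).trans v)).upd 0 2 1 (le_of_eq hx03)).upd 1 2 2 (le_of_eq hx13)).upd 2 0 2 (le_of_eq hx30)).upd 2 1 1 (le_of_eq hx31)) ![1,2,2] (by decide) (by decide) 0 (by decide))
          · -- 13=(1,3)
            exact False.elim (cert_false T ((skipEmb 2).trans v) (by norm_num) (fun _ => hv _) (((((LB_zero T ((skipEmb 2).trans v)).upd 0 2 1 (le_of_eq hx03)).upd 1 2 1 (le_of_eq hx13)).upd 2 0 2 (le_of_eq hx30)).upd 2 1 3 (le_of_eq hx31)) ![1,1,2] (by decide) (by decide) 0 (by decide))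
          · -- 13=(3,1)
            exact False.elim (cert_false T ((skipEmb 2).trans v) (by norm_num) (fun _ => hv _) (((((LB_zero T ((skipEmb 2).trans v)).upd 0 2 1 (le_of_eq hx03)).upd 1 2 3 (le_of_eq hx13)).upd 2 0 2 (le_of_eq hx30)).upd 2 1 1 (le_of_eq hx31)) ![1,2,2] (by decide) (by decide) 0 (by decide))
        · -- 03=(2,1)
          have d13 := two_pair T (by norm_num : 2 < 4) ((pairEmb 1 3 (by decide)).trans v) (fun _ => hv _)
          change (N T v 1 3 = 0 ∧ N T v 3 1 = 0) ∨ (N T v 1 3 = 1 ∧ N T v 3 1 = 1) ∨ (N T v 1 3 = 1 ∧ N T v 3 1 = 2) ∨ (N T v 1 3 = 2 ∧ N T v 3 1 = 1) ∨ (N T v 1 3 = 1 ∧ N T v 3 1 = 3) ∨ (N T v 1 3 = 3 ∧ N T v 3 1 = 1) at d13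
          rw [← hx13, ← hx31] at d13
          rcases d13 with ⟨rfl, rfl⟩ | ⟨rfl, rfl⟩ | ⟨rfl, rfl⟩ | ⟨rfl, rfl⟩ | ⟨rfl, rfl⟩ | ⟨rfl, rfl⟩
          · -- 13=(0,0)
            have d23 := two_pair T (by norm_num : 2 < 4) ((pairEmb 2 3 (by decide)).trans v) (fun _ => hv _)
            change (N T v 2 3 = 0 ∧ N T v 3 2 = 0) ∨ (N T v 2 3 = 1 ∧ N T v 3 2 = 1) ∨ (N T v 2 3 = 1 ∧ N T v 3 2 = 2) ∨ (N T v 2 3 = 2 ∧ N T v 3 2 = 1) ∨ (N T v 2 3 = 1 ∧ N T v 3 2 = 3) ∨ (N T v 2 3 = 3 ∧ N T v 3 2 = 1) at d23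
            rw [← hx23, ← hx32] at d23
            rcases d23 with ⟨rfl, rfl⟩ | ⟨rfl, rfl⟩ | ⟨rfl, rfl⟩ | ⟨rfl, rfl⟩ | ⟨rfl, rfl⟩ | ⟨rfl, rfl⟩
            · -- 23=(0,0)
              exfalso; omega
            · -- 23=(1,1)
              exact False.elim (cert_false T ((skipEmb 0).trans v) (by norm_num) (fun _ => hv _) (((((LB_zero T ((skipEmb 0).trans v)).upd 0 1 1 (le_of_eq hx12)).upd 1 0 3 (le_of_eq hx21)).upd 1 2 1 (le_of_eq hx23)).upd 2 1 1 (le_of_eq hx32)) ![1,2,1] (by decide) (by decide) 0 (by decide))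
            · -- 23=(1,2)
              exact False.elim (cert_false T ((skipEmb 1).trans v) (by norm_num) (fun _ => hv _) (((((LB_zero T ((skipEmb 1).trans v)).upd 0 2 2 (le_of_eq hx03)).upd 1 2 1 (le_of_eq hx23)).upd 2 0 1 (le_of_eq hx30)).upd 2 1 2 (le_of_eq hx32)) ![2,1,2] (by decide) (by decide) 0 (by decide))
            · -- 23=(2,1)
              exact False.elim (cert_false T ((skipEmb 1).trans v) (by norm_num) (fun _ => hv _) (((((LB_zero T ((skipEmb 1).trans v)).upd 0 2 2 (le_of_eq hx03)).upd 1 2 2 (le_of_eq hx23)).upd 2 0 1 (le_of_eq hx30)).upd 2 1 1 (le_of_eq hx32)) ![1,1,1] (by decide) (by decide) 0 (by decide))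
            · -- 23=(1,3)
              exact False.elim (cert_false T ((skipEmb 1).trans v) (by norm_num) (fun _ => hv _) (((((LB_zero T ((skipEmb 1).trans v)).upd 0 2 2 (le_of_eq hx03)).upd 1 2 1 (le_of_eq hx23)).upd 2 0 1 (le_of_eq hx30)).upd 2 1 3 (le_of_eq hx32)) ![1,1,2] (by decide) (by decide) 0 (by decide))
            · -- 23=(3,1)
              exact False.elim (cert_false T ((skipEmb 1).trans v) (by norm_num) (fun _ => hv _) (((((LB_zero T ((skipEmb 1).trans v)).upd 0 2 2 (le_of_eq hx03)).upd 1 2 3 (le_of_eq hx23)).upd 2 0 1 (le_of_eq hx30)).upd 2 1 1 (le_of_eq hx32)) ![1,1,1] (by decide) (by decide) 0 (by decide))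
          · -- 13=(1,1)
            exact False.elim (cert_false T ((skipEmb 0).trans v) (by norm_num) (fun _ => hv _) (((((LB_zero T ((skipEmb 0).trans v)).upd 0 1 1 (le_of_eq hx12)).upd 0 2 1 (le_of_eq hx13)).upd 1 0 3 (le_of_eq hx21)).upd 2 0 1 (le_of_eq hx31)) ![2,3,1] (by decide) (by decide) 0 (by decide))
          · -- 13=(1,2)
            exact False.elim (cert_false T ((skipEmb 2).trans v) (by norm_num) (fun _ => hv _) (((((LB_zero T ((skipEmb 2).trans v)).upd 0 2 2 (le_of_eq hx03)).upd 1 2 1 (le_of_eq hx13)).upd 2 0 1 (le_of_eq hx30)).upd 2 1 2 (le_of_eq hx31)) ![2,1,2] (by decide) (by decide) 0 (by decide))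
          · -- 13=(2,1)
            exact False.elim (cert_false T ((skipEmb 2).trans v) (by norm_num) (fun _ => hv _) (((((LB_zero T ((skipEmb 2).trans v)).upd 0 2 2 (le_of_eq hx03)).upd 1 2 2 (le_of_eq hx13)).upd 2 0 1 (le_of_eq hx30)).upd 2 1 1 (le_of_eq hx31)) ![1,1,1] (by decide) (by decide) 0 (by decide))
          · -- 13=(1,3)
            exact False.elim (cert_false T ((skipEmb 2).trans v) (by norm_num) (fun _ => hv _) (((((LB_zero T ((skipEmb 2).trans v)).upd 0 2 2 (le_of_eq hx03)).upd 1 2 1 (le_of_eq hx13)).upd 2 0 1 (le_of_eq hx30)).upd 2 1 3 (le_of_eq hx31)) ![1,1,2] (by decide) (by decide) 0 (by decide))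
          · -- 13=(3,1)
            exact False.elim (cert_false T ((skipEmb 2).trans v) (by norm_num) (fun _ => hv _) (((((LB_zero T ((skipEmb 2).trans v)).upd 0 2 2 (le_of_eq hx03)).upd 1 2 3 (le_of_eq hx13)).upd 2 0 1 (le_of_eq hx30)).upd 2 1 1 (le_of_eq hx31)) ![1,1,1] (by decide) (by decide) 0 (by decide))
        · -- 03=(1,3)
          have d13 := two_pair T (by norm_num : 2 < 4) ((pairEmb 1 3 (by decide)).trans v) (fun _ => hv _)
          change (N T v 1 3 = 0 ∧ N T v 3 1 = 0) ∨ (N T v 1 3 = 1 ∧ N T v 3 1 = 1) ∨ (N T v 1 3 = 1 ∧ N T v 3 1 = 2) ∨ (N T v 1 3 = 2 ∧ N T v 3 1 = 1) ∨ (N T v 1 3 = 1 ∧ N T v 3 1 = 3) ∨ (N T v 1 3 = 3 ∧ N T v 3 1 = 1) at d13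
          rw [← hx13, ← hx31] at d13
          rcases d13 with ⟨rfl, rfl⟩ | ⟨rfl, rfl⟩ | ⟨rfl, rfl⟩ | ⟨rfl, rfl⟩ | ⟨rfl, rfl⟩ | ⟨rfl, rfl⟩
          · -- 13=(0,0)
            have d23 := two_pair T (by norm_num : 2 < 4) ((pairEmb 2 3 (by decide)).trans v) (fun _ => hv _)
            change (N T v 2 3 = 0 ∧ N T v 3 2 = 0) ∨ (N T v 2 3 = 1 ∧ N T v 3 2 = 1) ∨ (N T v 2 3 = 1 ∧ N T v 3 2 = 2) ∨ (N T v 2 3 = 2 ∧ N T v 3 2 = 1) ∨ (N T v 2 3 = 1 ∧ N T v 3 2 = 3) ∨ (N T v 2 3 = 3 ∧ N T v 3 2 = 1) at d23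
            rw [← hx23, ← hx32] at d23
            rcases d23 with ⟨rfl, rfl⟩ | ⟨rfl, rfl⟩ | ⟨rfl, rfl⟩ | ⟨rfl, rfl⟩ | ⟨rfl, rfl⟩ | ⟨rfl, rfl⟩
            · -- 23=(0,0)
              exfalso; omega
            · -- 23=(1,1)
              exact False.elim (cert_false T ((skipEmb 1).trans v) (by norm_num) (fun _ => hv _) (((((LB_zero T ((skipEmb 1).trans v)).upd 0 2 1 (le_of_eq hx03)).upd 1 2 1 (le_of_eq hx23)).upd 2 0 3 (le_of_eq hx30)).upd 2 1 1 (le_of_eq hx32)) ![1,1,2] (by decide) (by decide) 0 (by decide))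
            · -- 23=(1,2)
              exact False.elim (cert_false T ((skipEmb 1).trans v) (by norm_num) (fun _ => hv _) (((((LB_zero T ((skipEmb 1).trans v)).upd 0 2 1 (le_of_eq hx03)).upd 1 2 1 (le_of_eq hx23)).upd 2 0 3 (le_of_eq hx30)).upd 2 1 2 (le_of_eq hx32)) ![1,1,2] (by decide) (by decide) 0 (by decide))
            · -- 23=(2,1)
              exact False.elim (cert_false T ((skipEmb 1).trans v) (by norm_num) (fun _ => hv _) (((((LB_zero T ((skipEmb 1).trans v)).upd 0 2 1 (le_of_eq hx03)).upd 1 2 2 (le_of_eq hx23)).upd 2 0 3 (le_of_eq hx30)).upd 2 1 1 (le_of_eq hx32)) ![1,1,2] (by decide) (by decide) 0 (by decide))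
            · -- 23=(1,3)
              exact False.elim (cert_false T ((skipEmb 1).trans v) (by norm_num) (fun _ => hv _) (((((LB_zero T ((skipEmb 1).trans v)).upd 0 2 1 (le_of_eq hx03)).upd 1 2 1 (le_of_eq hx23)).upd 2 0 3 (le_of_eq hx30)).upd 2 1 3 (le_of_eq hx32)) ![1,1,2] (by decide) (by decide) 0 (by decide))
            · -- 23=(3,1)
              exact False.elim (cert_false T ((skipEmb 1).trans v) (by norm_num) (fun _ => hv _) (((((LB_zero T ((skipEmb 1).trans v)).upd 0 2 1 (le_of_eq hx03)).upd 1 2 3 (le_of_eq hx23)).upd 2 0 3 (le_of_eq hx30)).upd 2 1 1 (le_of_eq hx32)) ![1,1,2] (by decide) (by decide) 0 (by decide))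
          · -- 13=(1,1)
            exact False.elim (cert_false T ((skipEmb 2).trans v) (by norm_num) (fun _ => hv _) (((((LB_zero T ((skipEmb 2).trans v)).upd 0 2 1 (le_of_eq hx03)).upd 1 2 1 (le_of_eq hx13)).upd 2 0 3 (le_of_eq hx30)).upd 2 1 1 (le_of_eq hx31)) ![1,1,2] (by decide) (by decide) 0 (by decide))
          · -- 13=(1,2)
            exact False.elim (cert_false T ((skipEmb 2).trans v) (by norm_num) (fun _ => hv _) (((((LB_zero T ((skipEmb 2).trans v)).upd 0 2 1 (le_of_eq hx03)).upd 1 2 1 (le_of_eq hx13)).upd 2 0 3 (le_of_eq hx30)).upd 2 1 2 (le_of_eq hx31)) ![1,1,2] (by decide) (by decide) 0 (by decide))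
          · -- 13=(2,1)
            exact False.elim (cert_false T ((skipEmb 2).trans v) (by norm_num) (fun _ => hv _) (((((LB_zero T ((skipEmb 2).trans v)).upd 0 2 1 (le_of_eq hx03)).upd 1 2 2 (le_of_eq hx13)).upd 2 0 3 (le_of_eq hx30)).upd 2 1 1 (le_of_eq hx31)) ![1,1,2] (by decide) (by decide) 0 (by decide))
          · -- 13=(1,3)
            exact False.elim (cert_false T ((skipEmb 2).trans v) (by norm_num) (fun _ => hv _) (((((LB_zero T ((skipEmb 2).trans v)).upd 0 2 1 (le_of_eq hx03)).upd 1 2 1 (le_of_eq hx13)).upd 2 0 3 (le_of_eq hx30)).upd 2 1 3 (le_of_eq hx31)) ![1,1,2] (by decide) (by decide) 0 (by decide))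
          · -- 13=(3,1)
            exact False.elim (cert_false T ((skipEmb 2).trans v) (by norm_num) (fun _ => hv _) (((((LB_zero T ((skipEmb 2).trans v)).upd 0 2 1 (le_of_eq hx03)).upd 1 2 3 (le_of_eq hx13)).upd 2 0 3 (le_of_eq hx30)).upd 2 1 1 (le_of_eq hx31)) ![1,1,2] (by decide) (by decide) 0 (by decide))
        · -- 03=(3,1)
          have d13 := two_pair T (by norm_num : 2 < 4) ((pairEmb 1 3 (by decide)).trans v) (fun _ => hv _)
          change (N T v 1 3 = 0 ∧ N T v 3 1 = 0) ∨ (N T v 1 3 = 1 ∧ N T v 3 1 = 1) ∨ (N T v 1 3 = 1 ∧ N T v 3 1 = 2) ∨ (N T v 1 3 = 2 ∧ N T v 3 1 = 1) ∨ (N T v 1 3 = 1 ∧ N T v 3 1 = 3) ∨ (N T v 1 3 = 3 ∧ N T v 3 1 = 1) at d13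
          rw [← hx13, ← hx31] at d13
          rcases d13 with ⟨rfl, rfl⟩ | ⟨rfl, rfl⟩ | ⟨rfl, rfl⟩ | ⟨rfl, rfl⟩ | ⟨rfl, rfl⟩ | ⟨rfl, rfl⟩
          · -- 13=(0,0)
            have d23 := two_pair T (by norm_num : 2 < 4) ((pairEmb 2 3 (by decide)).trans v) (fun _ => hv _)
            change (N T v 2 3 = 0 ∧ N T v 3 2 = 0) ∨ (N T v 2 3 = 1 ∧ N T v 3 2 = 1) ∨ (N T v 2 3 = 1 ∧ N T v 3 2 = 2) ∨ (N T v 2 3 = 2 ∧ N T v 3 2 = 1) ∨ (N T v 2 3 = 1 ∧ N T v 3 2 = 3) ∨ (N T v 2 3 = 3 ∧ N T v 3 2 = 1) at d23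
            rw [← hx23, ← hx32] at d23
            rcases d23 with ⟨rfl, rfl⟩ | ⟨rfl, rfl⟩ | ⟨rfl, rfl⟩ | ⟨rfl, rfl⟩ | ⟨rfl, rfl⟩ | ⟨rfl, rfl⟩
            · -- 23=(0,0)
              exfalso; omega
            · -- 23=(1,1)
              exact False.elim (cert_false T ((skipEmb 1).trans v) (by norm_num) (fun _ => hv _) (((((LB_zero T ((skipEmb 1).trans v)).upd 0 2 3 (le_of_eq hx03)).upd 1 2 1 (le_of_eq hx23)).upd 2 0 1 (le_of_eq hx30)).upd 2 1 1 (le_of_eq hx32)) ![3,1,2] (by decide) (by decide) 0 (by decide))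
            · -- 23=(1,2)
              exact False.elim (cert_false T ((skipEmb 1).trans v) (by norm_num) (fun _ => hv _) (((((LB_zero T ((skipEmb 1).trans v)).upd 0 2 3 (le_of_eq hx03)).upd 1 2 1 (le_of_eq hx23)).upd 2 0 1 (le_of_eq hx30)).upd 2 1 2 (le_of_eq hx32)) ![2,1,2] (by decide) (by decide) 0 (by decide))
            · -- 23=(2,1)
              exact False.elim (cert_false T ((skipEmb 1).trans v) (by norm_num) (fun _ => hv _) (((((LB_zero T ((skipEmb 1).trans v)).upd 0 2 3 (le_of_eq hx03)).upd 1 2 2 (le_of_eq hx23)).upd 2 0 1 (le_of_eq hx30)).upd 2 1 1 (le_of_eq hx32)) ![1,1,1] (by decide) (by decide) 0 (by decide))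
            · -- 23=(1,3)
              exact False.elim (cert_false T ((skipEmb 1).trans v) (by norm_num) (fun _ => hv _) (((((LB_zero T ((skipEmb 1).trans v)).upd 0 2 3 (le_of_eq hx03)).upd 1 2 1 (le_of_eq hx23)).upd 2 0 1 (le_of_eq hx30)).upd 2 1 3 (le_of_eq hx32)) ![1,1,2] (by decide) (by decide) 0 (by decide))
            · -- 23=(3,1)
              exact False.elim (cert_false T ((skipEmb 1).trans v) (by norm_num) (fun _ => hv _) (((((LB_zero T ((skipEmb 1).trans v)).upd 0 2 3 (le_of_eq hx03)).upd 1 2 3 (le_of_eq hx23)).upd 2 0 1 (le_of_eq hx30)).upd 2 1 1 (le_of_eq hx32)) ![1,1,1] (by decide) (by decide) 0 (by decide))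
          · -- 13=(1,1)
            exact False.elim (cert_false T ((skipEmb 2).trans v) (by norm_num) (fun _ => hv _) (((((LB_zero T ((skipEmb 2).trans v)).upd 0 2 3 (le_of_eq hx03)).upd 1 2 1 (le_of_eq hx13)).upd 2 0 1 (le_of_eq hx30)).upd 2 1 1 (le_of_eq hx31)) ![3,1,2] (by decide) (by decide) 0 (by decide))
          · -- 13=(1,2)
            exact False.elim (cert_false T ((skipEmb 2).trans v) (by norm_num) (fun _ => hv _) (((((LB_zero T ((skipEmb 2).trans v)).upd 0 2 3 (le_of_eq hx03)).upd 1 2 1 (le_of_eq hx13)).upd 2 0 1 (le_of_eq hx30)).upd 2 1 2 (le_of_eq hx31)) ![2,1,2] (by decide) (by decide) 0 (by decide))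
          · -- 13=(2,1)
            exact False.elim (cert_false T ((skipEmb 2).trans v) (by norm_num) (fun _ => hv _) (((((LB_zero T ((skipEmb 2).trans v)).upd 0 2 3 (le_of_eq hx03)).upd 1 2 2 (le_of_eq hx13)).upd 2 0 1 (le_of_eq hx30)).upd 2 1 1 (le_of_eq hx31)) ![1,1,1] (by decide) (by decide) 0 (by decide))
          · -- 13=(1,3)
            exact False.elim (cert_false T ((skipEmb 2).trans v) (by norm_num) (fun _ => hv _) (((((LB_zero T ((skipEmb 2).trans v)).upd 0 2 3 (le_of_eq hx03)).upd 1 2 1 (le_of_eq hx13)).upd 2 0 1 (le_of_eq hx30)).upd 2 1 3 (le_of_eq hx31)) ![1,1,2] (by decide) (by decide) 0 (by decide))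
          · -- 13=(3,1)
            exact False.elim (cert_false T ((skipEmb 2).trans v) (by norm_num) (fun _ => hv _) (((((LB_zero T ((skipEmb 2).trans v)).upd 0 2 3 (le_of_eq hx03)).upd 1 2 3 (le_of_eq hx13)).upd 2 0 1 (le_of_eq hx30)).upd 2 1 1 (le_of_eq hx31)) ![1,1,1] (by decide) (by decide) 0 (by decide))
      · -- 12=(3,1)
        have d03 := two_pair T (by norm_num : 2 < 4) ((pairEmb 0 3 (by decide)).trans v) (fun _ => hv _)
        change (N T v 0 3 = 0 ∧ N T v 3 0 = 0) ∨ (N T v 0 3 = 1 ∧ N T v 3 0 = 1) ∨ (N T v 0 3 = 1 ∧ N T v 3 0 = 2) ∨ (N T v 0 3 = 2 ∧ N T v 3 0 = 1) ∨ (N T v 0 3 = 1 ∧ N T v 3 0 = 3) ∨ (N T v 0 3 = 3 ∧ N T v 3 0 = 1) at d03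
        rw [← hx03, ← hx30] at d03
        rcases d03 with ⟨rfl, rfl⟩ | ⟨rfl, rfl⟩ | ⟨rfl, rfl⟩ | ⟨rfl, rfl⟩ | ⟨rfl, rfl⟩ | ⟨rfl, rfl⟩
        · -- 03=(0,0)
          have d13 := two_pair T (by norm_num : 2 < 4) ((pairEmb 1 3 (by decide)).trans v) (fun _ => hv _)
          change (N T v 1 3 = 0 ∧ N T v 3 1 = 0) ∨ (N T v 1 3 = 1 ∧ N T v 3 1 = 1) ∨ (N T v 1 3 = 1 ∧ N T v 3 1 = 2) ∨ (N T v 1 3 = 2 ∧ N T v 3 1 = 1) ∨ (N T v 1 3 = 1 ∧ N T v 3 1 = 3) ∨ (N T v 1 3 = 3 ∧ N T v 3 1 = 1) at d13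
          rw [← hx13, ← hx31] at d13
          rcases d13 with ⟨rfl, rfl⟩ | ⟨rfl, rfl⟩ | ⟨rfl, rfl⟩ | ⟨rfl, rfl⟩ | ⟨rfl, rfl⟩ | ⟨rfl, rfl⟩
          · -- 13=(0,0)
            have d23 := two_pair T (by norm_num : 2 < 4) ((pairEmb 2 3 (by decide)).trans v) (fun _ => hv _)
            change (N T v 2 3 = 0 ∧ N T v 3 2 = 0) ∨ (N T v 2 3 = 1 ∧ N T v 3 2 = 1) ∨ (N T v 2 3 = 1 ∧ N T v 3 2 = 2) ∨ (N T v 2 3 = 2 ∧ N T v 3 2 = 1) ∨ (N T v 2 3 = 1 ∧ N T v 3 2 = 3) ∨ (N T v 2 3 = 3 ∧ N T v 3 2 = 1) at d23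
            rw [← hx23, ← hx32] at d23
            rcases d23 with ⟨rfl, rfl⟩ | ⟨rfl, rfl⟩ | ⟨rfl, rfl⟩ | ⟨rfl, rfl⟩ | ⟨rfl, rfl⟩ | ⟨rfl, rfl⟩
            · -- 23=(0,0)
              exfalso; omega
            · -- 23=(1,1)
              exact False.elim (cert_false T ((skipEmb 0).trans v) (by norm_num) (fun _ => hv _) (((((LB_zero T ((skipEmb 0).trans v)).upd 0 1 3 (le_of_eq hx12)).upd 1 0 1 (le_of_eq hx21)).upd 1 2 1 (le_of_eq hx23)).upd 2 1 1 (le_of_eq hx32)) ![3,2,1] (by decide) (by decide) 0 (by decide))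
            · -- 23=(1,2)
              exact False.elim (cert_false T ((skipEmb 0).trans v) (by norm_num) (fun _ => hv _) (((((LB_zero T ((skipEmb 0).trans v)).upd 0 1 3 (le_of_eq hx12)).upd 1 0 1 (le_of_eq hx21)).upd 1 2 1 (le_of_eq hx23)).upd 2 1 2 (le_of_eq hx32)) ![1,1,1] (by decide) (by decide) 0 (by decide))
            · -- 23=(2,1)
              exact False.elim (cert_false T ((skipEmb 0).trans v) (by norm_num) (fun _ => hv _) (((((LB_zero T ((skipEmb 0).trans v)).upd 0 1 3 (le_of_eq hx12)).upd 1 0 1 (le_of_eq hx21)).upd 1 2 2 (le_of_eq hx23)).upd 2 1 1 (le_of_eq hx32)) ![2,2,1] (by decide) (by decide) 0 (by decide))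
            · -- 23=(1,3)
              exact False.elim (cert_false T ((skipEmb 0).trans v) (by norm_num) (fun _ => hv _) (((((LB_zero T ((skipEmb 0).trans v)).upd 0 1 3 (le_of_eq hx12)).upd 1 0 1 (le_of_eq hx21)).upd 1 2 1 (le_of_eq hx23)).upd 2 1 3 (le_of_eq hx32)) ![1,1,1] (by decide) (by decide) 0 (by decide))
            · -- 23=(3,1)
              exact False.elim (cert_false T ((skipEmb 0).trans v) (by norm_num) (fun _ => hv _) (((((LB_zero T ((skipEmb 0).trans v)).upd 0 1 3 (le_of_eq hx12)).upd 1 0 1 (le_of_eq hx21)).upd 1 2 3 (le_of_eq hx23)).upd 2 1 1 (le_of_eq hx32)) ![1,2,1] (by decide) (by decide) 0 (by decide))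
          · -- 13=(1,1)
            exact False.elim (cert_false T ((skipEmb 0).trans v) (by norm_num) (fun _ => hv _) (((((LB_zero T ((skipEmb 0).trans v)).upd 0 1 3 (le_of_eq hx12)).upd 0 2 1 (le_of_eq hx13)).upd 1 0 1 (le_of_eq hx21)).upd 2 0 1 (le_of_eq hx31)) ![2,1,1] (by decide) (by decide) 0 (by decide))
          · -- 13=(1,2)
            exact False.elim (cert_false T ((skipEmb 0).trans v) (by norm_num) (fun _ => hv _) (((((LB_zero T ((skipEmb 0).trans v)).upd 0 1 3 (le_of_eq hx12)).upd 0 2 1 (le_of_eq hx13)).upd 1 0 1 (le_of_eq hx21)).upd 2 0 2 (le_of_eq hx31)) ![2,1,1] (by decide) (by decide) 0 (by decide))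
          · -- 13=(2,1)
            exact False.elim (cert_false T ((skipEmb 0).trans v) (by norm_num) (fun _ => hv _) (((((LB_zero T ((skipEmb 0).trans v)).upd 0 1 3 (le_of_eq hx12)).upd 0 2 2 (le_of_eq hx13)).upd 1 0 1 (le_of_eq hx21)).upd 2 0 1 (le_of_eq hx31)) ![2,1,1] (by decide) (by decide) 0 (by decide))
          · -- 13=(1,3)
            exact False.elim (cert_false T ((skipEmb 0).trans v) (by norm_num) (fun _ => hv _) (((((LB_zero T ((skipEmb 0).trans v)).upd 0 1 3 (le_of_eq hx12)).upd 0 2 1 (le_of_eq hx13)).upd 1 0 1 (le_of_eq hx21)).upd 2 0 3 (le_of_eq hx31)) ![2,1,1] (by decide) (by decide) 0 (by decide))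
          · -- 13=(3,1)
            exact False.elim (cert_false T ((skipEmb 0).trans v) (by norm_num) (fun _ => hv _) (((((LB_zero T ((skipEmb 0).trans v)).upd 0 1 3 (le_of_eq hx12)).upd 0 2 3 (le_of_eq hx13)).upd 1 0 1 (le_of_eq hx21)).upd 2 0 1 (le_of_eq hx31)) ![2,1,1] (by decide) (by decide) 0 (by decide))
        · -- 03=(1,1)
          have d13 := two_pair T (by norm_num : 2 < 4) ((pairEmb 1 3 (by decide)).trans v) (fun _ => hv _)
          change (N T v 1 3 = 0 ∧ N T v 3 1 = 0) ∨ (N T v 1 3 = 1 ∧ N T v 3 1 = 1) ∨ (N T v 1 3 = 1 ∧ N T v 3 1 = 2) ∨ (N T v 1 3 = 2 ∧ N T v 3 1 = 1) ∨ (N T v 1 3 = 1 ∧ N T v 3 1 = 3) ∨ (N T v 1 3 = 3 ∧ N T v 3 1 = 1) at d13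
          rw [← hx13, ← hx31] at d13
          rcases d13 with ⟨rfl, rfl⟩ | ⟨rfl, rfl⟩ | ⟨rfl, rfl⟩ | ⟨rfl, rfl⟩ | ⟨rfl, rfl⟩ | ⟨rfl, rfl⟩
          · -- 13=(0,0)
            have d23 := two_pair T (by norm_num : 2 < 4) ((pairEmb 2 3 (by decide)).trans v) (fun _ => hv _)
            change (N T v 2 3 = 0 ∧ N T v 3 2 = 0) ∨ (N T v 2 3 = 1 ∧ N T v 3 2 = 1) ∨ (N T v 2 3 = 1 ∧ N T v 3 2 = 2) ∨ (N T v 2 3 = 2 ∧ N T v 3 2 = 1) ∨ (N T v 2 3 = 1 ∧ N T v 3 2 = 3) ∨ (N T v 2 3 = 3 ∧ N T v 3 2 = 1) at d23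
            rw [← hx23, ← hx32] at d23
            rcases d23 with ⟨rfl, rfl⟩ | ⟨rfl, rfl⟩ | ⟨rfl, rfl⟩ | ⟨rfl, rfl⟩ | ⟨rfl, rfl⟩ | ⟨rfl, rfl⟩
            · -- 23=(0,0)
              exfalso; omega
            · -- 23=(1,1)
              exact False.elim (cert_false T ((skipEmb 0).trans v) (by norm_num) (fun _ => hv _) (((((LB_zero T ((skipEmb 0).trans v)).upd 0 1 3 (le_of_eq hx12)).upd 1 0 1 (le_of_eq hx21)).upd 1 2 1 (le_of_eq hx23)).upd 2 1 1 (le_of_eq hx32)) ![3,2,1] (by decide) (by decide) 0 (by decide))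
            · -- 23=(1,2)
              exact False.elim (cert_false T ((skipEmb 0).trans v) (by norm_num) (fun _ => hv _) (((((LB_zero T ((skipEmb 0).trans v)).upd 0 1 3 (le_of_eq hx12)).upd 1 0 1 (le_of_eq hx21)).upd 1 2 1 (le_of_eq hx23)).upd 2 1 2 (le_of_eq hx32)) ![1,1,1] (by decide) (by decide) 0 (by decide))
            · -- 23=(2,1)
              exact False.elim (cert_false T ((skipEmb 0).trans v) (by norm_num) (fun _ => hv _) (((((LB_zero T ((skipEmb 0).trans v)).upd 0 1 3 (le_of_eq hx12)).upd 1 0 1 (le_of_eq hx21)).upd 1 2 2 (le_of_eq hx23)).upd 2 1 1 (le_of_eq hx32)) ![2,2,1] (by decide) (by decide) 0 (by decide))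
            · -- 23=(1,3)
              exact False.elim (cert_false T ((skipEmb 1).trans v) (by norm_num) (fun _ => hv _) (((((LB_zero T ((skipEmb 1).trans v)).upd 0 2 1 (le_of_eq hx03)).upd 1 2 1 (le_of_eq hx23)).upd 2 0 1 (le_of_eq hx30)).upd 2 1 3 (le_of_eq hx32)) ![1,1,2] (by decide) (by decide) 0 (by decide))
            · -- 23=(3,1)
              exact False.elim (cert_false T ((skipEmb 1).trans v) (by norm_num) (fun _ => hv _) (((((LB_zero T ((skipEmb 1).trans v)).upd 0 2 1 (le_of_eq hx03)).upd 1 2 3 (le_of_eq hx23)).upd 2 0 1 (le_of_eq hx30)).upd 2 1 1 (le_of_eq hx32)) ![1,3,2] (by decide) (by decide) 0 (by decide))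
          · -- 13=(1,1)
            exact False.elim (cert_false T ((skipEmb 0).trans v) (by norm_num) (fun _ => hv _) (((((LB_zero T ((skipEmb 0).trans v)).upd 0 1 3 (le_of_eq hx12)).upd 0 2 1 (le_of_eq hx13)).upd 1 0 1 (le_of_eq hx21)).upd 2 0 1 (le_of_eq hx31)) ![2,1,1] (by decide) (by decide) 0 (by decide))
          · -- 13=(1,2)
            exact False.elim (cert_false T ((skipEmb 0).trans v) (by norm_num) (fun _ => hv _) (((((LB_zero T ((skipEmb 0).trans v)).upd 0 1 3 (le_of_eq hx12)).upd 0 2 1 (le_of_eq hx13)).upd 1 0 1 (le_of_eq hx21)).upd 2 0 2 (le_of_eq hx31)) ![2,1,1] (by decide) (by decide) 0 (by decide))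
          · -- 13=(2,1)
            exact False.elim (cert_false T ((skipEmb 0).trans v) (by norm_num) (fun _ => hv _) (((((LB_zero T ((skipEmb 0).trans v)).upd 0 1 3 (le_of_eq hx12)).upd 0 2 2 (le_of_eq hx13)).upd 1 0 1 (le_of_eq hx21)).upd 2 0 1 (le_of_eq hx31)) ![2,1,1] (by decide) (by decide) 0 (by decide))
          · -- 13=(1,3)
            exact False.elim (cert_false T ((skipEmb 2).trans v) (by norm_num) (fun _ => hv _) (((((LB_zero T ((skipEmb 2).trans v)).upd 0 2 1 (le_of_eq hx03)).upd 1 2 1 (le_of_eq hx13)).upd 2 0 1 (le_of_eq hx30)).upd 2 1 3 (le_of_eq hx31)) ![1,1,2] (by decide) (by decide) 0 (by decide))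
          · -- 13=(3,1)
            exact False.elim (cert_false T ((skipEmb 2).trans v) (by norm_num) (fun _ => hv _) (((((LB_zero T ((skipEmb 2).trans v)).upd 0 2 1 (le_of_eq hx03)).upd 1 2 3 (le_of_eq hx13)).upd 2 0 1 (le_of_eq hx30)).upd 2 1 1 (le_of_eq hx31)) ![1,3,2] (by decide) (by decide) 0 (by decide))
        · -- 03=(1,2)
          have d13 := two_pair T (by norm_num : 2 < 4) ((pairEmb 1 3 (by decide)).trans v) (fun _ => hv _)
          change (N T v 1 3 = 0 ∧ N T v 3 1 = 0) ∨ (N T v 1 3 = 1 ∧ N T v 3 1 = 1) ∨ (N T v 1 3 = 1 ∧ N T v 3 1 = 2) ∨ (N T v 1 3 = 2 ∧ N T v 3 1 = 1) ∨ (N T v 1 3 = 1 ∧ N T v 3 1 = 3) ∨ (N T v 1 3 = 3 ∧ N T v 3 1 = 1) at d13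
          rw [← hx13, ← hx31] at d13
          rcases d13 with ⟨rfl, rfl⟩ | ⟨rfl, rfl⟩ | ⟨rfl, rfl⟩ | ⟨rfl, rfl⟩ | ⟨rfl, rfl⟩ | ⟨rfl, rfl⟩
          · -- 13=(0,0)
            have d23 := two_pair T (by norm_num : 2 < 4) ((pairEmb 2 3 (by decide)).trans v) (fun _ => hv _)
            change (N T v 2 3 = 0 ∧ N T v 3 2 = 0) ∨ (N T v 2 3 = 1 ∧ N T v 3 2 = 1) ∨ (N T v 2 3 = 1 ∧ N T v 3 2 = 2) ∨ (N T v 2 3 = 2 ∧ N T v 3 2 = 1) ∨ (N T v 2 3 = 1 ∧ N T v 3 2 = 3) ∨ (N T v 2 3 = 3 ∧ N T v 3 2 = 1) at d23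
            rw [← hx23, ← hx32] at d23
            rcases d23 with ⟨rfl, rfl⟩ | ⟨rfl, rfl⟩ | ⟨rfl, rfl⟩ | ⟨rfl, rfl⟩ | ⟨rfl, rfl⟩ | ⟨rfl, rfl⟩
            · -- 23=(0,0)
              exfalso; omega
            · -- 23=(1,1)
              exact False.elim (cert_false T ((skipEmb 0).trans v) (by norm_num) (fun _ => hv _) (((((LB_zero T ((skipEmb 0).trans v)).upd 0 1 3 (le_of_eq hx12)).upd 1 0 1 (le_of_eq hx21)).upd 1 2 1 (le_of_eq hx23)).upd 2 1 1 (le_of_eq hx32)) ![3,2,1] (by decide) (by decide) 0 (by decide))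
            · -- 23=(1,2)
              exact False.elim (cert_false T ((skipEmb 1).trans v) (by norm_num) (fun _ => hv _) (((((LB_zero T ((skipEmb 1).trans v)).upd 0 2 1 (le_of_eq hx03)).upd 1 2 1 (le_of_eq hx23)).upd 2 0 2 (le_of_eq hx30)).upd 2 1 2 (le_of_eq hx32)) ![1,1,2] (by decide) (by decide) 0 (by decide))
            · -- 23=(2,1)
              exact False.elim (cert_false T ((skipEmb 1).trans v) (by norm_num) (fun _ => hv _) (((((LB_zero T ((skipEmb 1).trans v)).upd 0 2 1 (le_of_eq hx03)).upd 1 2 2 (le_of_eq hx23)).upd 2 0 2 (le_of_eq hx30)).upd 2 1 1 (le_of_eq hx32)) ![1,2,2] (by decide) (by decide) 0 (by decide))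
            · -- 23=(1,3)
              exact False.elim (cert_false T ((skipEmb 1).trans v) (by norm_num) (fun _ => hv _) (((((LB_zero T ((skipEmb 1).trans v)).upd 0 2 1 (le_of_eq hx03)).upd 1 2 1 (le_of_eq hx23)).upd 2 0 2 (le_of_eq hx30)).upd 2 1 3 (le_of_eq hx32)) ![1,1,2] (by decide) (by decide) 0 (by decide))
            · -- 23=(3,1)
              exact False.elim (cert_false T ((skipEmb 1).trans v) (by norm_num) (fun _ => hv _) (((((LB_zero T ((skipEmb 1).trans v)).upd 0 2 1 (le_of_eq hx03)).upd 1 2 3 (le_of_eq hx23)).upd 2 0 2 (le_of_eq hx30)).upd 2 1 1 (le_of_eq hx32)) ![1,2,2] (by decide) (by decide) 0 (by decide))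
          · -- 13=(1,1)
            exact False.elim (cert_false T ((skipEmb 0).trans v) (by norm_num) (fun _ => hv _) (((((LB_zero T ((skipEmb 0).trans v)).upd 0 1 3 (le_of_eq hx12)).upd 0 2 1 (le_of_eq hx13)).upd 1 0 1 (le_of_eq hx21)).upd 2 0 1 (le_of_eq hx31)) ![2,1,1] (by decide) (by decide) 0 (by decide))
          · -- 13=(1,2)
            exact False.elim (cert_false T ((skipEmb 2).trans v) (by norm_num) (fun _ => hv _) (((((LB_zero T ((skipEmb 2).trans v)).upd 0 2 1 (le_of_eq hx03)).upd 1 2 1 (le_of_eq hx13)).upd 2 0 2 (le_of_eq hx30)).upd 2 1 2 (le_of_eq hx31)) ![1,1,2] (by decide) (by decide) 0 (by decide))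
          · -- 13=(2,1)
            exact False.elim (cert_false T ((skipEmb 2).trans v) (by norm_num) (fun _ => hv _) (((((LB_zero T ((skipEmb 2).trans v)).upd 0 2 1 (le_of_eq hx03)).upd 1 2 2 (le_of_eq hx13)).upd 2 0 2 (le_of_eq hx30)).upd 2 1 1 (le_of_eq hx31)) ![1,2,2] (by decide) (by decide) 0 (by decide))
          · -- 13=(1,3)
            exact False.elim (cert_false T ((skipEmb 2).trans v) (by norm_num) (fun _ => hv _) (((((LB_zero T ((skipEmb 2).trans v)).upd 0 2 1 (le_of_eq hx03)).upd 1 2 1 (le_of_eq hx13)).upd 2 0 2 (le_of_eq hx30)).upd 2 1 3 (le_of_eq hx31)) ![1,1,2] (by decide) (by decide) 0 (by decide))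
          · -- 13=(3,1)
            exact False.elim (cert_false T ((skipEmb 2).trans v) (by norm_num) (fun _ => hv _) (((((LB_zero T ((skipEmb 2).trans v)).upd 0 2 1 (le_of_eq hx03)).upd 1 2 3 (le_of_eq hx13)).upd 2 0 2 (le_of_eq hx30)).upd 2 1 1 (le_of_eq hx31)) ![1,2,2] (by decide) (by decide) 0 (by decide))
        · -- 03=(2,1)
          have d13 := two_pair T (by norm_num : 2 < 4) ((pairEmb 1 3 (by decide)).trans v) (fun _ => hv _)
          change (N T v 1 3 = 0 ∧ N T v 3 1 = 0) ∨ (N T v 1 3 = 1 ∧ N T v 3 1 = 1) ∨ (N T v 1 3 = 1 ∧ N T v 3 1 = 2) ∨ (N T v 1 3 = 2 ∧ N T v 3 1 = 1) ∨ (N T v 1 3 = 1 ∧ N T v 3 1 = 3) ∨ (N T v 1 3 = 3 ∧ N T v 3 1 = 1) at d13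
          rw [← hx13, ← hx31] at d13
          rcases d13 with ⟨rfl, rfl⟩ | ⟨rfl, rfl⟩ | ⟨rfl, rfl⟩ | ⟨rfl, rfl⟩ | ⟨rfl, rfl⟩ | ⟨rfl, rfl⟩
          · -- 13=(0,0)
            have d23 := two_pair T (by norm_num : 2 < 4) ((pairEmb 2 3 (by decide)).trans v) (fun _ => hv _)
            change (N T v 2 3 = 0 ∧ N T v 3 2 = 0) ∨ (N T v 2 3 = 1 ∧ N T v 3 2 = 1) ∨ (N T v 2 3 = 1 ∧ N T v 3 2 = 2) ∨ (N T v 2 3 = 2 ∧ N T v 3 2 = 1) ∨ (N T v 2 3 = 1 ∧ N T v 3 2 = 3) ∨ (N T v 2 3 = 3 ∧ N T v 3 2 = 1) at d23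
            rw [← hx23, ← hx32] at d23
            rcases d23 with ⟨rfl, rfl⟩ | ⟨rfl, rfl⟩ | ⟨rfl, rfl⟩ | ⟨rfl, rfl⟩ | ⟨rfl, rfl⟩ | ⟨rfl, rfl⟩
            · -- 23=(0,0)
              exfalso; omega
            · -- 23=(1,1)
              exact False.elim (cert_false T ((skipEmb 0).trans v) (by norm_num) (fun _ => hv _) (((((LB_zero T ((skipEmb 0).trans v)).upd 0 1 3 (le_of_eq hx12)).upd 1 0 1 (le_of_eq hx21)).upd 1 2 1 (le_of_eq hx23)).upd 2 1 1 (le_of_eq hx32)) ![3,2,1] (by decide) (by decide) 0 (by decide))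
            · -- 23=(1,2)
              exact False.elim (cert_false T ((skipEmb 1).trans v) (by norm_num) (fun _ => hv _) (((((LB_zero T ((skipEmb 1).trans v)).upd 0 2 2 (le_of_eq hx03)).upd 1 2 1 (le_of_eq hx23)).upd 2 0 1 (le_of_eq hx30)).upd 2 1 2 (le_of_eq hx32)) ![2,1,2] (by decide) (by decide) 0 (by decide))
            · -- 23=(2,1)
              exact False.elim (cert_false T ((skipEmb 1).trans v) (by norm_num) (fun _ => hv _) (((((LB_zero T ((skipEmb 1).trans v)).upd 0 2 2 (le_of_eq hx03)).upd 1 2 2 (le_of_eq hx23)).upd 2 0 1 (le_of_eq hx30)).upd 2 1 1 (le_of_eq hx32)) ![1,1,1] (by decide) (by decide) 0 (by decide))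
            · -- 23=(1,3)
              exact False.elim (cert_false T ((skipEmb 1).trans v) (by norm_num) (fun _ => hv _) (((((LB_zero T ((skipEmb 1).trans v)).upd 0 2 2 (le_of_eq hx03)).upd 1 2 1 (le_of_eq hx23)).upd 2 0 1 (le_of_eq hx30)).upd 2 1 3 (le_of_eq hx32)) ![1,1,2] (by decide) (by decide) 0 (by decide))
            · -- 23=(3,1)
              exact False.elim (cert_false T ((skipEmb 1).trans v) (by norm_num) (fun _ => hv _) (((((LB_zero T ((skipEmb 1).trans v)).upd 0 2 2 (le_of_eq hx03)).upd 1 2 3 (le_of_eq hx23)).upd 2 0 1 (le_of_eq hx30)).upd 2 1 1 (le_of_eq hx32)) ![1,1,1] (by decide) (by decide) 0 (by decide))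
          · -- 13=(1,1)
            exact False.elim (cert_false T ((skipEmb 0).trans v) (by norm_num) (fun _ => hv _) (((((LB_zero T ((skipEmb 0).trans v)).upd 0 1 3 (le_of_eq hx12)).upd 0 2 1 (le_of_eq hx13)).upd 1 0 1 (le_of_eq hx21)).upd 2 0 1 (le_of_eq hx31)) ![2,1,1] (by decide) (by decide) 0 (by decide))
          · -- 13=(1,2)
            exact False.elim (cert_false T ((skipEmb 2).trans v) (by norm_num) (fun _ => hv _) (((((LB_zero T ((skipEmb 2).trans v)).upd 0 2 2 (le_of_eq hx03)).upd 1 2 1 (le_of_eq hx13)).upd 2 0 1 (le_of_eq hx30)).upd 2 1 2 (le_of_eq hx31)) ![2,1,2] (by decide) (by decide) 0 (by decide))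
          · -- 13=(2,1)
            exact False.elim (cert_false T ((skipEmb 2).trans v) (by norm_num) (fun _ => hv _) (((((LB_zero T ((skipEmb 2).trans v)).upd 0 2 2 (le_of_eq hx03)).upd 1 2 2 (le_of_eq hx13)).upd 2 0 1 (le_of_eq hx30)).upd 2 1 1 (le_of_eq hx31)) ![1,1,1] (by decide) (by decide) 0 (by decide))
          · -- 13=(1,3)
            exact False.elim (cert_false T ((skipEmb 2).trans v) (by norm_num) (fun _ => hv _) (((((LB_zero T ((skipEmb 2).trans v)).upd 0 2 2 (le_of_eq hx03)).upd 1 2 1 (le_of_eq hx13)).upd 2 0 1 (le_of_eq hx30)).upd 2 1 3 (le_of_eq hx31)) ![1,1,2] (by decide) (by decide) 0 (by decide))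
          · -- 13=(3,1)
            exact False.elim (cert_false T ((skipEmb 2).trans v) (by norm_num) (fun _ => hv _) (((((LB_zero T ((skipEmb 2).trans v)).upd 0 2 2 (le_of_eq hx03)).upd 1 2 3 (le_of_eq hx13)).upd 2 0 1 (le_of_eq hx30)).upd 2 1 1 (le_of_eq hx31)) ![1,1,1] (by decide) (by decide) 0 (by decide))
        · -- 03=(1,3)
          have d13 := two_pair T (by norm_num : 2 < 4) ((pairEmb 1 3 (by decide)).trans v) (fun _ => hv _)
          change (N T v 1 3 = 0 ∧ N T v 3 1 = 0) ∨ (N T v 1 3 = 1 ∧ N T v 3 1 = 1) ∨ (N T v 1 3 = 1 ∧ N T v 3 1 = 2) ∨ (N T v 1 3 = 2 ∧ N T v 3 1 = 1) ∨ (N T v 1 3 = 1 ∧ N T v 3 1 = 3) ∨ (N T v 1 3 = 3 ∧ N T v 3 1 = 1) at d13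
          rw [← hx13, ← hx31] at d13
          rcases d13 with ⟨rfl, rfl⟩ | ⟨rfl, rfl⟩ | ⟨rfl, rfl⟩ | ⟨rfl, rfl⟩ | ⟨rfl, rfl⟩ | ⟨rfl, rfl⟩
          · -- 13=(0,0)
            have d23 := two_pair T (by norm_num : 2 < 4) ((pairEmb 2 3 (by decide)).trans v) (fun _ => hv _)
            change (N T v 2 3 = 0 ∧ N T v 3 2 = 0) ∨ (N T v 2 3 = 1 ∧ N T v 3 2 = 1) ∨ (N T v 2 3 = 1 ∧ N T v 3 2 = 2) ∨ (N T v 2 3 = 2 ∧ N T v 3 2 = 1) ∨ (N T v 2 3 = 1 ∧ N T v 3 2 = 3) ∨ (N T v 2 3 = 3 ∧ N T v 3 2 = 1) at d23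
            rw [← hx23, ← hx32] at d23
            rcases d23 with ⟨rfl, rfl⟩ | ⟨rfl, rfl⟩ | ⟨rfl, rfl⟩ | ⟨rfl, rfl⟩ | ⟨rfl, rfl⟩ | ⟨rfl, rfl⟩
            · -- 23=(0,0)
              exfalso; omega
            · -- 23=(1,1)
              exact False.elim (cert_false T ((skipEmb 1).trans v) (by norm_num) (fun _ => hv _) (((((LB_zero T ((skipEmb 1).trans v)).upd 0 2 1 (le_of_eq hx03)).upd 1 2 1 (le_of_eq hx23)).upd 2 0 3 (le_of_eq hx30)).upd 2 1 1 (le_of_eq hx32)) ![1,1,2] (by decide) (by decide) 0 (by decide))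
            · -- 23=(1,2)
              exact False.elim (cert_false T ((skipEmb 1).trans v) (by norm_num) (fun _ => hv _) (((((LB_zero T ((skipEmb 1).trans v)).upd 0 2 1 (le_of_eq hx03)).upd 1 2 1 (le_of_eq hx23)).upd 2 0 3 (le_of_eq hx30)).upd 2 1 2 (le_of_eq hx32)) ![1,1,2] (by decide) (by decide) 0 (by decide))
            · -- 23=(2,1)
              exact False.elim (cert_false T ((skipEmb 1).trans v) (by norm_num) (fun _ => hv _) (((((LB_zero T ((skipEmb 1).trans v)).upd 0 2 1 (le_of_eq hx03)).upd 1 2 2 (le_of_eq hx23)).upd 2 0 3 (le_of_eq hx30)).upd 2 1 1 (le_of_eq hx32)) ![1,1,2] (by decide) (by decide) 0 (by decide))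
            · -- 23=(1,3)
              exact False.elim (cert_false T ((skipEmb 1).trans v) (by norm_num) (fun _ => hv _) (((((LB_zero T ((skipEmb 1).trans v)).upd 0 2 1 (le_of_eq hx03)).upd 1 2 1 (le_of_eq hx23)).upd 2 0 3 (le_of_eq hx30)).upd 2 1 3 (le_of_eq hx32)) ![1,1,2] (by decide) (by decide) 0 (by decide))
            · -- 23=(3,1)
              exact False.elim (cert_false T ((skipEmb 1).trans v) (by norm_num) (fun _ => hv _) (((((LB_zero T ((skipEmb 1).trans v)).upd 0 2 1 (le_of_eq hx03)).upd 1 2 3 (le_of_eq hx23)).upd 2 0 3 (le_of_eq hx30)).upd 2 1 1 (le_of_eq hx32)) ![1,1,2] (by decide) (by decide) 0 (by decide))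
          · -- 13=(1,1)
            exact False.elim (cert_false T ((skipEmb 2).trans v) (by norm_num) (fun _ => hv _) (((((LB_zero T ((skipEmb 2).trans v)).upd 0 2 1 (le_of_eq hx03)).upd 1 2 1 (le_of_eq hx13)).upd 2 0 3 (le_of_eq hx30)).upd 2 1 1 (le_of_eq hx31)) ![1,1,2] (by decide) (by decide) 0 (by decide))
          · -- 13=(1,2)
            exact False.elim (cert_false T ((skipEmb 2).trans v) (by norm_num) (fun _ => hv _) (((((LB_zero T ((skipEmb 2).trans v)).upd 0 2 1 (le_of_eq hx03)).upd 1 2 1 (le_of_eq hx13)).upd 2 0 3 (le_of_eq hx30)).upd 2 1 2 (le_of_eq hx31)) ![1,1,2] (by decide) (by decide) 0 (by decide))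
          · -- 13=(2,1)
            exact False.elim (cert_false T ((skipEmb 2).trans v) (by norm_num) (fun _ => hv _) (((((LB_zero T ((skipEmb 2).trans v)).upd 0 2 1 (le_of_eq hx03)).upd 1 2 2 (le_of_eq hx13)).upd 2 0 3 (le_of_eq hx30)).upd 2 1 1 (le_of_eq hx31)) ![1,1,2] (by decide) (by decide) 0 (by decide))
          · -- 13=(1,3)
            exact False.elim (cert_false T ((skipEmb 2).trans v) (by norm_num) (fun _ => hv _) (((((LB_zero T ((skipEmb 2).trans v)).upd 0 2 1 (le_of_eq hx03)).upd 1 2 1 (le_of_eq hx13)).upd 2 0 3 (le_of_eq hx30)).upd 2 1 3 (le_of_eq hx31)) ![1,1,2] (by decide) (by decide) 0 (by decide))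
          · -- 13=(3,1)
            exact False.elim (cert_false T ((skipEmb 2).trans v) (by norm_num) (fun _ => hv _) (((((LB_zero T ((skipEmb 2).trans v)).upd 0 2 1 (le_of_eq hx03)).upd 1 2 3 (le_of_eq hx13)).upd 2 0 3 (le_of_eq hx30)).upd 2 1 1 (le_of_eq hx31)) ![1,1,2] (by decide) (by decide) 0 (by decide))
        · -- 03=(3,1)
          have d13 := two_pair T (by norm_num : 2 < 4) ((pairEmb 1 3 (by decide)).trans v) (fun _ => hv _)
          change (N T v 1 3 = 0 ∧ N T v 3 1 = 0) ∨ (N T v 1 3 = 1 ∧ N T v 3 1 = 1) ∨ (N T v 1 3 = 1 ∧ N T v 3 1 = 2) ∨ (N T v 1 3 = 2 ∧ N T v 3 1 = 1) ∨ (N T v 1 3 = 1 ∧ N T v 3 1 = 3) ∨ (N T v 1 3 = 3 ∧ N T v 3 1 = 1) at d13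
          rw [← hx13, ← hx31] at d13
          rcases d13 with ⟨rfl, rfl⟩ | ⟨rfl, rfl⟩ | ⟨rfl, rfl⟩ | ⟨rfl, rfl⟩ | ⟨rfl, rfl⟩ | ⟨rfl, rfl⟩
          · -- 13=(0,0)
            have d23 := two_pair T (by norm_num : 2 < 4) ((pairEmb 2 3 (by decide)).trans v) (fun _ => hv _)
            change (N T v 2 3 = 0 ∧ N T v 3 2 = 0) ∨ (N T v 2 3 = 1 ∧ N T v 3 2 = 1) ∨ (N T v 2 3 = 1 ∧ N T v 3 2 = 2) ∨ (N T v 2 3 = 2 ∧ N T v 3 2 = 1) ∨ (N T v 2 3 = 1 ∧ N T v 3 2 = 3) ∨ (N T v 2 3 = 3 ∧ N T v 3 2 = 1) at d23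
            rw [← hx23, ← hx32] at d23
            rcases d23 with ⟨rfl, rfl⟩ | ⟨rfl, rfl⟩ | ⟨rfl, rfl⟩ | ⟨rfl, rfl⟩ | ⟨rfl, rfl⟩ | ⟨rfl, rfl⟩
            · -- 23=(0,0)
              exfalso; omega
            · -- 23=(1,1)
              exact False.elim (cert_false T ((skipEmb 1).trans v) (by norm_num) (fun _ => hv _) (((((LB_zero T ((skipEmb 1).trans v)).upd 0 2 3 (le_of_eq hx03)).upd 1 2 1 (le_of_eq hx23)).upd 2 0 1 (le_of_eq hx30)).upd 2 1 1 (le_of_eq hx32)) ![3,1,2] (by decide) (by decide) 0 (by decide))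
            · -- 23=(1,2)
              exact False.elim (cert_false T ((skipEmb 1).trans v) (by norm_num) (fun _ => hv _) (((((LB_zero T ((skipEmb 1).trans v)).upd 0 2 3 (le_of_eq hx03)).upd 1 2 1 (le_of_eq hx23)).upd 2 0 1 (le_of_eq hx30)).upd 2 1 2 (le_of_eq hx32)) ![2,1,2] (by decide) (by decide) 0 (by decide))
            · -- 23=(2,1)
              exact False.elim (cert_false T ((skipEmb 1).trans v) (by norm_num) (fun _ => hv _) (((((LB_zero T ((skipEmb 1).trans v)).upd 0 2 3 (le_of_eq hx03)).upd 1 2 2 (le_of_eq hx23)).upd 2 0 1 (le_of_eq hx30)).upd 2 1 1 (le_of_eq hx32)) ![1,1,1] (by decide) (by decide) 0 (by decide))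
            · -- 23=(1,3)
              exact False.elim (cert_false T ((skipEmb 1).trans v) (by norm_num) (fun _ => hv _) (((((LB_zero T ((skipEmb 1).trans v)).upd 0 2 3 (le_of_eq hx03)).upd 1 2 1 (le_of_eq hx23)).upd 2 0 1 (le_of_eq hx30)).upd 2 1 3 (le_of_eq hx32)) ![1,1,2] (by decide) (by decide) 0 (by decide))
            · -- 23=(3,1)
              exact False.elim (cert_false T ((skipEmb 1).trans v) (by norm_num) (fun _ => hv _) (((((LB_zero T ((skipEmb 1).trans v)).upd 0 2 3 (le_of_eq hx03)).upd 1 2 3 (le_of_eq hx23)).upd 2 0 1 (le_of_eq hx30)).upd 2 1 1 (le_of_eq hx32)) ![1,1,1] (by decide) (by decide) 0 (by decide))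
          · -- 13=(1,1)
            exact False.elim (cert_false T ((skipEmb 2).trans v) (by norm_num) (fun _ => hv _) (((((LB_zero T ((skipEmb 2).trans v)).upd 0 2 3 (le_of_eq hx03)).upd 1 2 1 (le_of_eq hx13)).upd 2 0 1 (le_of_eq hx30)).upd 2 1 1 (le_of_eq hx31)) ![3,1,2] (by decide) (by decide) 0 (by decide))
          · -- 13=(1,2)
            exact False.elim (cert_false T ((skipEmb 2).trans v) (by norm_num) (fun _ => hv _) (((((LB_zero T ((skipEmb 2).trans v)).upd 0 2 3 (le_of_eq hx03)).upd 1 2 1 (le_of_eq hx13)).upd 2 0 1 (le_of_eq hx30)).upd 2 1 2 (le_of_eq hx31)) ![2,1,2] (by decide) (by decide) 0 (by decide))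
          · -- 13=(2,1)
            exact False.elim (cert_false T ((skipEmb 2).trans v) (by norm_num) (fun _ => hv _) (((((LB_zero T ((skipEmb 2).trans v)).upd 0 2 3 (le_of_eq hx03)).upd 1 2 2 (le_of_eq hx13)).upd 2 0 1 (le_of_eq hx30)).upd 2 1 1 (le_of_eq hx31)) ![1,1,1] (by decide) (by decide) 0 (by decide))
          · -- 13=(1,3)
            exact False.elim (cert_false T ((skipEmb 2).trans v) (by norm_num) (fun _ => hv _) (((((LB_zero T ((skipEmb 2).trans v)).upd 0 2 3 (le_of_eq hx03)).upd 1 2 1 (le_of_eq hx13)).upd 2 0 1 (le_of_eq hx30)).upd 2 1 3 (le_of_eq hx31)) ![1,1,2] (by decide) (by decide) 0 (by decide))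
          · -- 13=(3,1)
            exact False.elim (cert_false T ((skipEmb 2).trans v) (by norm_num) (fun _ => hv _) (((((LB_zero T ((skipEmb 2).trans v)).upd 0 2 3 (le_of_eq hx03)).upd 1 2 3 (le_of_eq hx13)).upd 2 0 1 (le_of_eq hx30)).upd 2 1 1 (le_of_eq hx31)) ![1,1,1] (by decide) (by decide) 0 (by decide))
    · -- 02=(1,1)
      have d12 := two_pair T (by norm_num : 2 < 4) ((pairEmb 1 2 (by decide)).trans v) (fun _ => hv _)
      change (N T v 1 2 = 0 ∧ N T v 2 1 = 0) ∨ (N T v 1 2 = 1 ∧ N T v 2 1 = 1) ∨ (N T v 1 2 = 1 ∧ N T v 2 1 = 2) ∨ (N T v 1 2 = 2 ∧ N T v 2 1 = 1) ∨ (N T v 1 2 = 1 ∧ N T v 2 1 = 3) ∨ (N T v 1 2 = 3 ∧ N T v 2 1 = 1) at d12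
      rw [← hx12, ← hx21] at d12
      rcases d12 with ⟨rfl, rfl⟩ | ⟨rfl, rfl⟩ | ⟨rfl, rfl⟩ | ⟨rfl, rfl⟩ | ⟨rfl, rfl⟩ | ⟨rfl, rfl⟩
      · -- 12=(0,0)
        have d03 := two_pair T (by norm_num : 2 < 4) ((pairEmb 0 3 (by decide)).trans v) (fun _ => hv _)
        change (N T v 0 3 = 0 ∧ N T v 3 0 = 0) ∨ (N T v 0 3 = 1 ∧ N T v 3 0 = 1) ∨ (N T v 0 3 = 1 ∧ N T v 3 0 = 2) ∨ (N T v 0 3 = 2 ∧ N T v 3 0 = 1) ∨ (N T v 0 3 = 1 ∧ N T v 3 0 = 3) ∨ (N T v 0 3 = 3 ∧ N T v 3 0 = 1) at d03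
        rw [← hx03, ← hx30] at d03
        rcases d03 with ⟨rfl, rfl⟩ | ⟨rfl, rfl⟩ | ⟨rfl, rfl⟩ | ⟨rfl, rfl⟩ | ⟨rfl, rfl⟩ | ⟨rfl, rfl⟩
        · -- 03=(0,0)
          have d13 := two_pair T (by norm_num : 2 < 4) ((pairEmb 1 3 (by decide)).trans v) (fun _ => hv _)
          change (N T v 1 3 = 0 ∧ N T v 3 1 = 0) ∨ (N T v 1 3 = 1 ∧ N T v 3 1 = 1) ∨ (N T v 1 3 = 1 ∧ N T v 3 1 = 2) ∨ (N T v 1 3 = 2 ∧ N T v 3 1 = 1) ∨ (N T v 1 3 = 1 ∧ N T v 3 1 = 3) ∨ (N T v 1 3 = 3 ∧ N T v 3 1 = 1) at d13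
          rw [← hx13, ← hx31] at d13
          rcases d13 with ⟨rfl, rfl⟩ | ⟨rfl, rfl⟩ | ⟨rfl, rfl⟩ | ⟨rfl, rfl⟩ | ⟨rfl, rfl⟩ | ⟨rfl, rfl⟩
          · -- 13=(0,0)
            have d23 := two_pair T (by norm_num : 2 < 4) ((pairEmb 2 3 (by decide)).trans v) (fun _ => hv _)
            change (N T v 2 3 = 0 ∧ N T v 3 2 = 0) ∨ (N T v 2 3 = 1 ∧ N T v 3 2 = 1) ∨ (N T v 2 3 = 1 ∧ N T v 3 2 = 2) ∨ (N T v 2 3 = 2 ∧ N T v 3 2 = 1) ∨ (N T v 2 3 = 1 ∧ N T v 3 2 = 3) ∨ (N T v 2 3 = 3 ∧ N T v 3 2 = 1) at d23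
            rw [← hx23, ← hx32] at d23
            rcases d23 with ⟨rfl, rfl⟩ | ⟨rfl, rfl⟩ | ⟨rfl, rfl⟩ | ⟨rfl, rfl⟩ | ⟨rfl, rfl⟩ | ⟨rfl, rfl⟩
            · -- 23=(0,0)
              exfalso; omega
            · -- 23=(1,1)
              exfalso; omega
            · -- 23=(1,2)
              exfalso; omega
            · -- 23=(2,1)
              exfalso; omega
            · -- 23=(1,3)
              exact False.elim (cert_false T ((skipEmb 1).trans v) (by norm_num) (fun _ => hv _) (((((LB_zero T ((skipEmb 1).trans v)).upd 0 1 1 (le_of_eq hx02)).upd 1 0 1 (le_of_eq hx20)).upd 1 2 1 (le_of_eq hx23)).upd 2 1 3 (le_of_eq hx32)) ![1,2,3] (by decide) (by decide) 0 (by decide))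
            · -- 23=(3,1)
              exact False.elim (cert_false T ((skipEmb 1).trans v) (by norm_num) (fun _ => hv _) (((((LB_zero T ((skipEmb 1).trans v)).upd 0 1 1 (le_of_eq hx02)).upd 1 0 1 (le_of_eq hx20)).upd 1 2 3 (le_of_eq hx23)).upd 2 1 1 (le_of_eq hx32)) ![1,2,1] (by decide) (by decide) 0 (by decide))
          · -- 13=(1,1)
            have d23 := two_pair T (by norm_num : 2 < 4) ((pairEmb 2 3 (by decide)).trans v) (fun _ => hv _)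
            change (N T v 2 3 = 0 ∧ N T v 3 2 = 0) ∨ (N T v 2 3 = 1 ∧ N T v 3 2 = 1) ∨ (N T v 2 3 = 1 ∧ N T v 3 2 = 2) ∨ (N T v 2 3 = 2 ∧ N T v 3 2 = 1) ∨ (N T v 2 3 = 1 ∧ N T v 3 2 = 3) ∨ (N T v 2 3 = 3 ∧ N T v 3 2 = 1) at d23
            rw [← hx23, ← hx32] at d23
            rcases d23 with ⟨rfl, rfl⟩ | ⟨rfl, rfl⟩ | ⟨rfl, rfl⟩ | ⟨rfl, rfl⟩ | ⟨rfl, rfl⟩ | ⟨rfl, rfl⟩
            · -- 23=(0,0)
              exfalso; omega
            · -- 23=(1,1)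
              exfalso; omega
            · -- 23=(1,2)
              exfalso; omega
            · -- 23=(2,1)
              exfalso; omega
            · -- 23=(1,3)
              exact False.elim (cert_false T ((skipEmb 1).trans v) (by norm_num) (fun _ => hv _) (((((LB_zero T ((skipEmb 1).trans v)).upd 0 1 1 (le_of_eq hx02)).upd 1 0 1 (le_of_eq hx20)).upd 1 2 1 (le_of_eq hx23)).upd 2 1 3 (le_of_eq hx32)) ![1,2,3] (by decide) (by decide) 0 (by decide))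
            · -- 23=(3,1)
              exact False.elim (cert_false T ((skipEmb 1).trans v) (by norm_num) (fun _ => hv _) (((((LB_zero T ((skipEmb 1).trans v)).upd 0 1 1 (le_of_eq hx02)).upd 1 0 1 (le_of_eq hx20)).upd 1 2 3 (le_of_eq hx23)).upd 2 1 1 (le_of_eq hx32)) ![1,2,1] (by decide) (by decide) 0 (by decide))
          · -- 13=(1,2)
            have d23 := two_pair T (by norm_num : 2 < 4) ((pairEmb 2 3 (by decide)).trans v) (fun _ => hv _)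
            change (N T v 2 3 = 0 ∧ N T v 3 2 = 0) ∨ (N T v 2 3 = 1 ∧ N T v 3 2 = 1) ∨ (N T v 2 3 = 1 ∧ N T v 3 2 = 2) ∨ (N T v 2 3 = 2 ∧ N T v 3 2 = 1) ∨ (N T v 2 3 = 1 ∧ N T v 3 2 = 3) ∨ (N T v 2 3 = 3 ∧ N T v 3 2 = 1) at d23
            rw [← hx23, ← hx32] at d23
            rcases d23 with ⟨rfl, rfl⟩ | ⟨rfl, rfl⟩ | ⟨rfl, rfl⟩ | ⟨rfl, rfl⟩ | ⟨rfl, rfl⟩ | ⟨rfl, rfl⟩
            · -- 23=(0,0)
              exfalso; omega
            · -- 23=(1,1)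
              exfalso; omega
            · -- 23=(1,2)
              exact False.elim (cert_false T ((skipEmb 0).trans v) (by norm_num) (fun _ => hv _) (((((LB_zero T ((skipEmb 0).trans v)).upd 0 2 1 (le_of_eq hx13)).upd 1 2 1 (le_of_eq hx23)).upd 2 0 2 (le_of_eq hx31)).upd 2 1 2 (le_of_eq hx32)) ![1,1,2] (by decide) (by decide) 0 (by decide))
            · -- 23=(2,1)
              exact False.elim (cert_false T ((skipEmb 0).trans v) (by norm_num) (fun _ => hv _) (((((LB_zero T ((skipEmb 0).trans v)).upd 0 2 1 (le_of_eq hx13)).upd 1 2 2 (le_of_eq hx23)).upd 2 0 2 (le_of_eq hx31)).upd 2 1 1 (le_of_eq hx32)) ![1,2,2] (by decide) (by decide) 0 (by decide))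
            · -- 23=(1,3)
              exact False.elim (cert_false T ((skipEmb 1).trans v) (by norm_num) (fun _ => hv _) (((((LB_zero T ((skipEmb 1).trans v)).upd 0 1 1 (le_of_eq hx02)).upd 1 0 1 (le_of_eq hx20)).upd 1 2 1 (le_of_eq hx23)).upd 2 1 3 (le_of_eq hx32)) ![1,2,3] (by decide) (by decide) 0 (by decide))
            · -- 23=(3,1)
              exact False.elim (cert_false T ((skipEmb 1).trans v) (by norm_num) (fun _ => hv _) (((((LB_zero T ((skipEmb 1).trans v)).upd 0 1 1 (le_of_eq hx02)).upd 1 0 1 (le_of_eq hx20)).upd 1 2 3 (le_of_eq hx23)).upd 2 1 1 (le_of_eq hx32)) ![1,2,1] (by decide) (by decide) 0 (by decide))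
          · -- 13=(2,1)
            have d23 := two_pair T (by norm_num : 2 < 4) ((pairEmb 2 3 (by decide)).trans v) (fun _ => hv _)
            change (N T v 2 3 = 0 ∧ N T v 3 2 = 0) ∨ (N T v 2 3 = 1 ∧ N T v 3 2 = 1) ∨ (N T v 2 3 = 1 ∧ N T v 3 2 = 2) ∨ (N T v 2 3 = 2 ∧ N T v 3 2 = 1) ∨ (N T v 2 3 = 1 ∧ N T v 3 2 = 3) ∨ (N T v 2 3 = 3 ∧ N T v 3 2 = 1) at d23
            rw [← hx23, ← hx32] at d23
            rcases d23 with ⟨rfl, rfl⟩ | ⟨rfl, rfl⟩ | ⟨rfl, rfl⟩ | ⟨rfl, rfl⟩ | ⟨rfl, rfl⟩ | ⟨rfl, rfl⟩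
            · -- 23=(0,0)
              exfalso; omega
            · -- 23=(1,1)
              exfalso; omega
            · -- 23=(1,2)
              exact False.elim (cert_false T ((skipEmb 0).trans v) (by norm_num) (fun _ => hv _) (((((LB_zero T ((skipEmb 0).trans v)).upd 0 2 2 (le_of_eq hx13)).upd 1 2 1 (le_of_eq hx23)).upd 2 0 1 (le_of_eq hx31)).upd 2 1 2 (le_of_eq hx32)) ![2,1,2] (by decide) (by decide) 0 (by decide))
            · -- 23=(2,1)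
              exact False.elim (cert_false T ((skipEmb 0).trans v) (by norm_num) (fun _ => hv _) (((((LB_zero T ((skipEmb 0).trans v)).upd 0 2 2 (le_of_eq hx13)).upd 1 2 2 (le_of_eq hx23)).upd 2 0 1 (le_of_eq hx31)).upd 2 1 1 (le_of_eq hx32)) ![1,1,1] (by decide) (by decide) 0 (by decide))
            · -- 23=(1,3)
              exact False.elim (cert_false T ((skipEmb 1).trans v) (by norm_num) (fun _ => hv _) (((((LB_zero T ((skipEmb 1).trans v)).upd 0 1 1 (le_of_eq hx02)).upd 1 0 1 (le_of_eq hx20)).upd 1 2 1 (le_of_eq hx23)).upd 2 1 3 (le_of_eq hx32)) ![1,2,3] (by decide) (by decide) 0 (by decide))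
            · -- 23=(3,1)
              exact False.elim (cert_false T ((skipEmb 1).trans v) (by norm_num) (fun _ => hv _) (((((LB_zero T ((skipEmb 1).trans v)).upd 0 1 1 (le_of_eq hx02)).upd 1 0 1 (le_of_eq hx20)).upd 1 2 3 (le_of_eq hx23)).upd 2 1 1 (le_of_eq hx32)) ![1,2,1] (by decide) (by decide) 0 (by decide))
          · -- 13=(1,3)
            have d23 := two_pair T (by norm_num : 2 < 4) ((pairEmb 2 3 (by decide)).trans v) (fun _ => hv _)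
            change (N T v 2 3 = 0 ∧ N T v 3 2 = 0) ∨ (N T v 2 3 = 1 ∧ N T v 3 2 = 1) ∨ (N T v 2 3 = 1 ∧ N T v 3 2 = 2) ∨ (N T v 2 3 = 2 ∧ N T v 3 2 = 1) ∨ (N T v 2 3 = 1 ∧ N T v 3 2 = 3) ∨ (N T v 2 3 = 3 ∧ N T v 3 2 = 1) at d23
            rw [← hx23, ← hx32] at d23
            rcases d23 with ⟨rfl, rfl⟩ | ⟨rfl, rfl⟩ | ⟨rfl, rfl⟩ | ⟨rfl, rfl⟩ | ⟨rfl, rfl⟩ | ⟨rfl, rfl⟩
            · -- 23=(0,0)
              exfalso; omega
            · -- 23=(1,1)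
              exact False.elim (cert_false T ((skipEmb 0).trans v) (by norm_num) (fun _ => hv _) (((((LB_zero T ((skipEmb 0).trans v)).upd 0 2 1 (le_of_eq hx13)).upd 1 2 1 (le_of_eq hx23)).upd 2 0 3 (le_of_eq hx31)).upd 2 1 1 (le_of_eq hx32)) ![1,1,2] (by decide) (by decide) 0 (by decide))
            · -- 23=(1,2)
              exact False.elim (cert_false T ((skipEmb 0).trans v) (by norm_num) (fun _ => hv _) (((((LB_zero T ((skipEmb 0).trans v)).upd 0 2 1 (le_of_eq hx13)).upd 1 2 1 (le_of_eq hx23)).upd 2 0 3 (le_of_eq hx31)).upd 2 1 2 (le_of_eq hx32)) ![1,1,2] (by decide) (by decide) 0 (by decide))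
            · -- 23=(2,1)
              exact False.elim (cert_false T ((skipEmb 0).trans v) (by norm_num) (fun _ => hv _) (((((LB_zero T ((skipEmb 0).trans v)).upd 0 2 1 (le_of_eq hx13)).upd 1 2 2 (le_of_eq hx23)).upd 2 0 3 (le_of_eq hx31)).upd 2 1 1 (le_of_eq hx32)) ![1,1,2] (by decide) (by decide) 0 (by decide))
            · -- 23=(1,3)
              exact False.elim (cert_false T ((skipEmb 1).trans v) (by norm_num) (fun _ => hv _) (((((LB_zero T ((skipEmb 1).trans v)).upd 0 1 1 (le_of_eq hx02)).upd 1 0 1 (le_of_eq hx20)).upd 1 2 1 (le_of_eq hx23)).upd 2 1 3 (le_of_eq hx32)) ![1,2,3] (by decide) (by decide) 0 (by decide))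
            · -- 23=(3,1)
              exact False.elim (cert_false T ((skipEmb 1).trans v) (by norm_num) (fun _ => hv _) (((((LB_zero T ((skipEmb 1).trans v)).upd 0 1 1 (le_of_eq hx02)).upd 1 0 1 (le_of_eq hx20)).upd 1 2 3 (le_of_eq hx23)).upd 2 1 1 (le_of_eq hx32)) ![1,2,1] (by decide) (by decide) 0 (by decide))
          · -- 13=(3,1)
            have d23 := two_pair T (by norm_num : 2 < 4) ((pairEmb 2 3 (by decide)).trans v) (fun _ => hv _)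
            change (N T v 2 3 = 0 ∧ N T v 3 2 = 0) ∨ (N T v 2 3 = 1 ∧ N T v 3 2 = 1) ∨ (N T v 2 3 = 1 ∧ N T v 3 2 = 2) ∨ (N T v 2 3 = 2 ∧ N T v 3 2 = 1) ∨ (N T v 2 3 = 1 ∧ N T v 3 2 = 3) ∨ (N T v 2 3 = 3 ∧ N T v 3 2 = 1) at d23
            rw [← hx23, ← hx32] at d23
            rcases d23 with ⟨rfl, rfl⟩ | ⟨rfl, rfl⟩ | ⟨rfl, rfl⟩ | ⟨rfl, rfl⟩ | ⟨rfl, rfl⟩ | ⟨rfl, rfl⟩
            · -- 23=(0,0)
              exfalso; omega
            · -- 23=(1,1)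
              exact False.elim (cert_false T ((skipEmb 0).trans v) (by norm_num) (fun _ => hv _) (((((LB_zero T ((skipEmb 0).trans v)).upd 0 2 3 (le_of_eq hx13)).upd 1 2 1 (le_of_eq hx23)).upd 2 0 1 (le_of_eq hx31)).upd 2 1 1 (le_of_eq hx32)) ![3,1,2] (by decide) (by decide) 0 (by decide))
            · -- 23=(1,2)
              exact False.elim (cert_false T ((skipEmb 0).trans v) (by norm_num) (fun _ => hv _) (((((LB_zero T ((skipEmb 0).trans v)).upd 0 2 3 (le_of_eq hx13)).upd 1 2 1 (le_of_eq hx23)).upd 2 0 1 (le_of_eq hx31)).upd 2 1 2 (le_of_eq hx32)) ![2,1,2] (by decide) (by decide) 0 (by decide))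
            · -- 23=(2,1)
              exact False.elim (cert_false T ((skipEmb 0).trans v) (by norm_num) (fun _ => hv _) (((((LB_zero T ((skipEmb 0).trans v)).upd 0 2 3 (le_of_eq hx13)).upd 1 2 2 (le_of_eq hx23)).upd 2 0 1 (le_of_eq hx31)).upd 2 1 1 (le_of_eq hx32)) ![1,1,1] (by decide) (by decide) 0 (by decide))
            · -- 23=(1,3)
              exact False.elim (cert_false T ((skipEmb 1).trans v) (by norm_num) (fun _ => hv _) (((((LB_zero T ((skipEmb 1).trans v)).upd 0 1 1 (le_of_eq hx02)).upd 1 0 1 (le_of_eq hx20)).upd 1 2 1 (le_of_eq hx23)).upd 2 1 3 (le_of_eq hx32)) ![1,2,3] (by decide) (by decide) 0 (by decide))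
            · -- 23=(3,1)
              exact False.elim (cert_false T ((skipEmb 1).trans v) (by norm_num) (fun _ => hv _) (((((LB_zero T ((skipEmb 1).trans v)).upd 0 1 1 (le_of_eq hx02)).upd 1 0 1 (le_of_eq hx20)).upd 1 2 3 (le_of_eq hx23)).upd 2 1 1 (le_of_eq hx32)) ![1,2,1] (by decide) (by decide) 0 (by decide))
        · -- 03=(1,1)
          have d13 := two_pair T (by norm_num : 2 < 4) ((pairEmb 1 3 (by decide)).trans v) (fun _ => hv _)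
          change (N T v 1 3 = 0 ∧ N T v 3 1 = 0) ∨ (N T v 1 3 = 1 ∧ N T v 3 1 = 1) ∨ (N T v 1 3 = 1 ∧ N T v 3 1 = 2) ∨ (N T v 1 3 = 2 ∧ N T v 3 1 = 1) ∨ (N T v 1 3 = 1 ∧ N T v 3 1 = 3) ∨ (N T v 1 3 = 3 ∧ N T v 3 1 = 1) at d13
          rw [← hx13, ← hx31] at d13
          rcases d13 with ⟨rfl, rfl⟩ | ⟨rfl, rfl⟩ | ⟨rfl, rfl⟩ | ⟨rfl, rfl⟩ | ⟨rfl, rfl⟩ | ⟨rfl, rfl⟩
          · -- 13=(0,0)
            have d23 := two_pair T (by norm_num : 2 < 4) ((pairEmb 2 3 (by decide)).trans v) (fun _ => hv _)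
            change (N T v 2 3 = 0 ∧ N T v 3 2 = 0) ∨ (N T v 2 3 = 1 ∧ N T v 3 2 = 1) ∨ (N T v 2 3 = 1 ∧ N T v 3 2 = 2) ∨ (N T v 2 3 = 2 ∧ N T v 3 2 = 1) ∨ (N T v 2 3 = 1 ∧ N T v 3 2 = 3) ∨ (N T v 2 3 = 3 ∧ N T v 3 2 = 1) at d23
            rw [← hx23, ← hx32] at d23
            rcases d23 with ⟨rfl, rfl⟩ | ⟨rfl, rfl⟩ | ⟨rfl, rfl⟩ | ⟨rfl, rfl⟩ | ⟨rfl, rfl⟩ | ⟨rfl, rfl⟩
            · -- 23=(0,0)
              exfalso; omega
            · -- 23=(1,1)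
              exact False.elim (cert_false T ((skipEmb 1).trans v) (by norm_num) (fun _ => hv _) (((((((LB_zero T ((skipEmb 1).trans v)).upd 0 1 1 (le_of_eq hx02)).upd 0 2 1 (le_of_eq hx03)).upd 1 0 1 (le_of_eq hx20)).upd 1 2 1 (le_of_eq hx23)).upd 2 0 1 (le_of_eq hx30)).upd 2 1 1 (le_of_eq hx32)) ![1,1,1] (by decide) (by decide) 0 (by decide))
            · -- 23=(1,2)
              exact False.elim (cert_false T ((skipEmb 1).trans v) (by norm_num) (fun _ => hv _) (((((((LB_zero T ((skipEmb 1).trans v)).upd 0 1 1 (le_of_eq hx02)).upd 0 2 1 (le_of_eq hx03)).upd 1 0 1 (le_of_eq hx20)).upd 1 2 1 (le_of_eq hx23)).upd 2 0 1 (le_of_eq hx30)).upd 2 1 2 (le_of_eq hx32)) ![1,1,1] (by decide) (by decide) 0 (by decide))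
            · -- 23=(2,1)
              exact False.elim (cert_false T ((skipEmb 1).trans v) (by norm_num) (fun _ => hv _) (((((((LB_zero T ((skipEmb 1).trans v)).upd 0 1 1 (le_of_eq hx02)).upd 0 2 1 (le_of_eq hx03)).upd 1 0 1 (le_of_eq hx20)).upd 1 2 2 (le_of_eq hx23)).upd 2 0 1 (le_of_eq hx30)).upd 2 1 1 (le_of_eq hx32)) ![1,1,1] (by decide) (by decide) 0 (by decide))
            · -- 23=(1,3)
              exact False.elim (cert_false T ((skipEmb 1).trans v) (by norm_num) (fun _ => hv _) (((((((LB_zero T ((skipEmb 1).trans v)).upd 0 1 1 (le_of_eq hx02)).upd 0 2 1 (le_of_eq hx03)).upd 1 0 1 (le_of_eq hx20)).upd 1 2 1 (le_of_eq hx23)).upd 2 0 1 (le_of_eq hx30)).upd 2 1 3 (le_of_eq hx32)) ![1,1,1] (by decide) (by decide) 0 (by decide))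
            · -- 23=(3,1)
              exact False.elim (cert_false T ((skipEmb 1).trans v) (by norm_num) (fun _ => hv _) (((((((LB_zero T ((skipEmb 1).trans v)).upd 0 1 1 (le_of_eq hx02)).upd 0 2 1 (le_of_eq hx03)).upd 1 0 1 (le_of_eq hx20)).upd 1 2 3 (le_of_eq hx23)).upd 2 0 1 (le_of_eq hx30)).upd 2 1 1 (le_of_eq hx32)) ![1,1,1] (by decide) (by decide) 0 (by decide))
          · -- 13=(1,1)
            have d23 := two_pair T (by norm_num : 2 < 4) ((pairEmb 2 3 (by decide)).trans v) (fun _ => hv _)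
            change (N T v 2 3 = 0 ∧ N T v 3 2 = 0) ∨ (N T v 2 3 = 1 ∧ N T v 3 2 = 1) ∨ (N T v 2 3 = 1 ∧ N T v 3 2 = 2) ∨ (N T v 2 3 = 2 ∧ N T v 3 2 = 1) ∨ (N T v 2 3 = 1 ∧ N T v 3 2 = 3) ∨ (N T v 2 3 = 3 ∧ N T v 3 2 = 1) at d23
            rw [← hx23, ← hx32] at d23
            rcases d23 with ⟨rfl, rfl⟩ | ⟨rfl, rfl⟩ | ⟨rfl, rfl⟩ | ⟨rfl, rfl⟩ | ⟨rfl, rfl⟩ | ⟨rfl, rfl⟩
            · -- 23=(0,0)
              exfalso; omega
            · -- 23=(1,1)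
              exact False.elim (cert_false T ((skipEmb 1).trans v) (by norm_num) (fun _ => hv _) (((((((LB_zero T ((skipEmb 1).trans v)).upd 0 1 1 (le_of_eq hx02)).upd 0 2 1 (le_of_eq hx03)).upd 1 0 1 (le_of_eq hx20)).upd 1 2 1 (le_of_eq hx23)).upd 2 0 1 (le_of_eq hx30)).upd 2 1 1 (le_of_eq hx32)) ![1,1,1] (by decide) (by decide) 0 (by decide))
            · -- 23=(1,2)
              exact False.elim (cert_false T ((skipEmb 1).trans v) (by norm_num) (fun _ => hv _) (((((((LB_zero T ((skipEmb 1).trans v)).upd 0 1 1 (le_of_eq hx02)).upd 0 2 1 (le_of_eq hx03)).upd 1 0 1 (le_of_eq hx20)).upd 1 2 1 (le_of_eq hx23)).upd 2 0 1 (le_of_eq hx30)).upd 2 1 2 (le_of_eq hx32)) ![1,1,1] (by decide) (by decide) 0 (by decide))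
            · -- 23=(2,1)
              exact False.elim (cert_false T ((skipEmb 1).trans v) (by norm_num) (fun _ => hv _) (((((((LB_zero T ((skipEmb 1).trans v)).upd 0 1 1 (le_of_eq hx02)).upd 0 2 1 (le_of_eq hx03)).upd 1 0 1 (le_of_eq hx20)).upd 1 2 2 (le_of_eq hx23)).upd 2 0 1 (le_of_eq hx30)).upd 2 1 1 (le_of_eq hx32)) ![1,1,1] (by decide) (by decide) 0 (by decide))
            · -- 23=(1,3)
              exact False.elim (cert_false T ((skipEmb 1).trans v) (by norm_num) (fun _ => hv _) (((((((LB_zero T ((skipEmb 1).trans v)).upd 0 1 1 (le_of_eq hx02)).upd 0 2 1 (le_of_eq hx03)).upd 1 0 1 (le_of_eq hx20)).upd 1 2 1 (le_of_eq hx23)).upd 2 0 1 (le_of_eq hx30)).upd 2 1 3 (le_of_eq hx32)) ![1,1,1] (by decide) (by decide) 0 (by decide))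
            · -- 23=(3,1)
              exact False.elim (cert_false T ((skipEmb 1).trans v) (by norm_num) (fun _ => hv _) (((((((LB_zero T ((skipEmb 1).trans v)).upd 0 1 1 (le_of_eq hx02)).upd 0 2 1 (le_of_eq hx03)).upd 1 0 1 (le_of_eq hx20)).upd 1 2 3 (le_of_eq hx23)).upd 2 0 1 (le_of_eq hx30)).upd 2 1 1 (le_of_eq hx32)) ![1,1,1] (by decide) (by decide) 0 (by decide))
          · -- 13=(1,2)
            have d23 := two_pair T (by norm_num : 2 < 4) ((pairEmb 2 3 (by decide)).trans v) (fun _ => hv _)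
            change (N T v 2 3 = 0 ∧ N T v 3 2 = 0) ∨ (N T v 2 3 = 1 ∧ N T v 3 2 = 1) ∨ (N T v 2 3 = 1 ∧ N T v 3 2 = 2) ∨ (N T v 2 3 = 2 ∧ N T v 3 2 = 1) ∨ (N T v 2 3 = 1 ∧ N T v 3 2 = 3) ∨ (N T v 2 3 = 3 ∧ N T v 3 2 = 1) at d23
            rw [← hx23, ← hx32] at d23
            rcases d23 with ⟨rfl, rfl⟩ | ⟨rfl, rfl⟩ | ⟨rfl, rfl⟩ | ⟨rfl, rfl⟩ | ⟨rfl, rfl⟩ | ⟨rfl, rfl⟩
            · -- 23=(0,0)
              exfalso; omega
            · -- 23=(1,1)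
              exact False.elim (cert_false T ((skipEmb 1).trans v) (by norm_num) (fun _ => hv _) (((((((LB_zero T ((skipEmb 1).trans v)).upd 0 1 1 (le_of_eq hx02)).upd 0 2 1 (le_of_eq hx03)).upd 1 0 1 (le_of_eq hx20)).upd 1 2 1 (le_of_eq hx23)).upd 2 0 1 (le_of_eq hx30)).upd 2 1 1 (le_of_eq hx32)) ![1,1,1] (by decide) (by decide) 0 (by decide))
            · -- 23=(1,2)
              exact False.elim (cert_false T ((skipEmb 1).trans v) (by norm_num) (fun _ => hv _) (((((((LB_zero T ((skipEmb 1).trans v)).upd 0 1 1 (le_of_eq hx02)).upd 0 2 1 (le_of_eq hx03)).upd 1 0 1 (le_of_eq hx20)).upd 1 2 1 (le_of_eq hx23)).upd 2 0 1 (le_of_eq hx30)).upd 2 1 2 (le_of_eq hx32)) ![1,1,1] (by decide) (by decide) 0 (by decide))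
            · -- 23=(2,1)
              exact False.elim (cert_false T ((skipEmb 1).trans v) (by norm_num) (fun _ => hv _) (((((((LB_zero T ((skipEmb 1).trans v)).upd 0 1 1 (le_of_eq hx02)).upd 0 2 1 (le_of_eq hx03)).upd 1 0 1 (le_of_eq hx20)).upd 1 2 2 (le_of_eq hx23)).upd 2 0 1 (le_of_eq hx30)).upd 2 1 1 (le_of_eq hx32)) ![1,1,1] (by decide) (by decide) 0 (by decide))
            · -- 23=(1,3)
              exact False.elim (cert_false T ((skipEmb 1).trans v) (by norm_num) (fun _ => hv _) (((((((LB_zero T ((skipEmb 1).trans v)).upd 0 1 1 (le_of_eq hx02)).upd 0 2 1 (le_of_eq hx03)).upd 1 0 1 (le_of_eq hx20)).upd 1 2 1 (le_of_eq hx23)).upd 2 0 1 (le_of_eq hx30)).upd 2 1 3 (le_of_eq hx32)) ![1,1,1] (by decide) (by decide) 0 (by decide))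
            · -- 23=(3,1)
              exact False.elim (cert_false T ((skipEmb 1).trans v) (by norm_num) (fun _ => hv _) (((((((LB_zero T ((skipEmb 1).trans v)).upd 0 1 1 (le_of_eq hx02)).upd 0 2 1 (le_of_eq hx03)).upd 1 0 1 (le_of_eq hx20)).upd 1 2 3 (le_of_eq hx23)).upd 2 0 1 (le_of_eq hx30)).upd 2 1 1 (le_of_eq hx32)) ![1,1,1] (by decide) (by decide) 0 (by decide))
          · -- 13=(2,1)
            have d23 := two_pair T (by norm_num : 2 < 4) ((pairEmb 2 3 (by decide)).trans v) (fun _ => hv _)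
            change (N T v 2 3 = 0 ∧ N T v 3 2 = 0) ∨ (N T v 2 3 = 1 ∧ N T v 3 2 = 1) ∨ (N T v 2 3 = 1 ∧ N T v 3 2 = 2) ∨ (N T v 2 3 = 2 ∧ N T v 3 2 = 1) ∨ (N T v 2 3 = 1 ∧ N T v 3 2 = 3) ∨ (N T v 2 3 = 3 ∧ N T v 3 2 = 1) at d23
            rw [← hx23, ← hx32] at d23
            rcases d23 with ⟨rfl, rfl⟩ | ⟨rfl, rfl⟩ | ⟨rfl, rfl⟩ | ⟨rfl, rfl⟩ | ⟨rfl, rfl⟩ | ⟨rfl, rfl⟩
            · -- 23=(0,0)
              exfalso; omega
            · -- 23=(1,1)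
              exact False.elim (cert_false T ((skipEmb 1).trans v) (by norm_num) (fun _ => hv _) (((((((LB_zero T ((skipEmb 1).trans v)).upd 0 1 1 (le_of_eq hx02)).upd 0 2 1 (le_of_eq hx03)).upd 1 0 1 (le_of_eq hx20)).upd 1 2 1 (le_of_eq hx23)).upd 2 0 1 (le_of_eq hx30)).upd 2 1 1 (le_of_eq hx32)) ![1,1,1] (by decide) (by decide) 0 (by decide))
            · -- 23=(1,2)
              exact False.elim (cert_false T ((skipEmb 1).trans v) (by norm_num) (fun _ => hv _) (((((((LB_zero T ((skipEmb 1).trans v)).upd 0 1 1 (le_of_eq hx02)).upd 0 2 1 (le_of_eq hx03)).upd 1 0 1 (le_of_eq hx20)).upd 1 2 1 (le_of_eq hx23)).upd 2 0 1 (le_of_eq hx30)).upd 2 1 2 (le_of_eq hx32)) ![1,1,1] (by decide) (by decide) 0 (by decide))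
            · -- 23=(2,1)
              exact False.elim (cert_false T ((skipEmb 1).trans v) (by norm_num) (fun _ => hv _) (((((((LB_zero T ((skipEmb 1).trans v)).upd 0 1 1 (le_of_eq hx02)).upd 0 2 1 (le_of_eq hx03)).upd 1 0 1 (le_of_eq hx20)).upd 1 2 2 (le_of_eq hx23)).upd 2 0 1 (le_of_eq hx30)).upd 2 1 1 (le_of_eq hx32)) ![1,1,1] (by decide) (by decide) 0 (by decide))
            · -- 23=(1,3)
              exact False.elim (cert_false T ((skipEmb 1).trans v) (by norm_num) (fun _ => hv _) (((((((LB_zero T ((skipEmb 1).trans v)).upd 0 1 1 (le_of_eq hx02)).upd 0 2 1 (le_of_eq hx03)).upd 1 0 1 (le_of_eq hx20)).upd 1 2 1 (le_of_eq hx23)).upd 2 0 1 (le_of_eq hx30)).upd 2 1 3 (le_of_eq hx32)) ![1,1,1] (by decide) (by decide) 0 (by decide))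
            · -- 23=(3,1)
              exact False.elim (cert_false T ((skipEmb 1).trans v) (by norm_num) (fun _ => hv _) (((((((LB_zero T ((skipEmb 1).trans v)).upd 0 1 1 (le_of_eq hx02)).upd 0 2 1 (le_of_eq hx03)).upd 1 0 1 (le_of_eq hx20)).upd 1 2 3 (le_of_eq hx23)).upd 2 0 1 (le_of_eq hx30)).upd 2 1 1 (le_of_eq hx32)) ![1,1,1] (by decide) (by decide) 0 (by decide))
          · -- 13=(1,3)
            exact False.elim (cert_false T ((skipEmb 2).trans v) (by norm_num) (fun _ => hv _) (((((LB_zero T ((skipEmb 2).trans v)).upd 0 2 1 (le_of_eq hx03)).upd 1 2 1 (le_of_eq hx13)).upd 2 0 1 (le_of_eq hx30)).upd 2 1 3 (le_of_eq hx31)) ![1,1,2] (by decide) (by decide) 0 (by decide))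
          · -- 13=(3,1)
            exact False.elim (cert_false T ((skipEmb 2).trans v) (by norm_num) (fun _ => hv _) (((((LB_zero T ((skipEmb 2).trans v)).upd 0 2 1 (le_of_eq hx03)).upd 1 2 3 (le_of_eq hx13)).upd 2 0 1 (le_of_eq hx30)).upd 2 1 1 (le_of_eq hx31)) ![1,3,2] (by decide) (by decide) 0 (by decide))
        · -- 03=(1,2)
          have d13 := two_pair T (by norm_num : 2 < 4) ((pairEmb 1 3 (by decide)).trans v) (fun _ => hv _)
          change (N T v 1 3 = 0 ∧ N T v 3 1 = 0) ∨ (N T v 1 3 = 1 ∧ N T v 3 1 = 1) ∨ (N T v 1 3 = 1 ∧ N T v 3 1 = 2) ∨ (N T v 1 3 = 2 ∧ N T v 3 1 = 1) ∨ (N T v 1 3 = 1 ∧ N T v 3 1 = 3) ∨ (N T v 1 3 = 3 ∧ N T v 3 1 = 1) at d13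
          rw [← hx13, ← hx31] at d13
          rcases d13 with ⟨rfl, rfl⟩ | ⟨rfl, rfl⟩ | ⟨rfl, rfl⟩ | ⟨rfl, rfl⟩ | ⟨rfl, rfl⟩ | ⟨rfl, rfl⟩
          · -- 13=(0,0)
            have d23 := two_pair T (by norm_num : 2 < 4) ((pairEmb 2 3 (by decide)).trans v) (fun _ => hv _)
            change (N T v 2 3 = 0 ∧ N T v 3 2 = 0) ∨ (N T v 2 3 = 1 ∧ N T v 3 2 = 1) ∨ (N T v 2 3 = 1 ∧ N T v 3 2 = 2) ∨ (N T v 2 3 = 2 ∧ N T v 3 2 = 1) ∨ (N T v 2 3 = 1 ∧ N T v 3 2 = 3) ∨ (N T v 2 3 = 3 ∧ N T v 3 2 = 1) at d23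
            rw [← hx23, ← hx32] at d23
            rcases d23 with ⟨rfl, rfl⟩ | ⟨rfl, rfl⟩ | ⟨rfl, rfl⟩ | ⟨rfl, rfl⟩ | ⟨rfl, rfl⟩ | ⟨rfl, rfl⟩
            · -- 23=(0,0)
              exfalso; omega
            · -- 23=(1,1)
              exact False.elim (cert_false T ((skipEmb 1).trans v) (by norm_num) (fun _ => hv _) (((((((LB_zero T ((skipEmb 1).trans v)).upd 0 1 1 (le_of_eq hx02)).upd 0 2 1 (le_of_eq hx03)).upd 1 0 1 (le_of_eq hx20)).upd 1 2 1 (le_of_eq hx23)).upd 2 0 2 (le_of_eq hx30)).upd 2 1 1 (le_of_eq hx32)) ![1,1,1] (by decide) (by decide) 0 (by decide))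
            · -- 23=(1,2)
              exact False.elim (cert_false T ((skipEmb 1).trans v) (by norm_num) (fun _ => hv _) (((((((LB_zero T ((skipEmb 1).trans v)).upd 0 1 1 (le_of_eq hx02)).upd 0 2 1 (le_of_eq hx03)).upd 1 0 1 (le_of_eq hx20)).upd 1 2 1 (le_of_eq hx23)).upd 2 0 2 (le_of_eq hx30)).upd 2 1 2 (le_of_eq hx32)) ![1,1,1] (by decide) (by decide) 0 (by decide))
            · -- 23=(2,1)
              exact False.elim (cert_false T ((skipEmb 1).trans v) (by norm_num) (fun _ => hv _) (((((((LB_zero T ((skipEmb 1).trans v)).upd 0 1 1 (le_of_eq hx02)).upd 0 2 1 (le_of_eq hx03)).upd 1 0 1 (le_of_eq hx20)).upd 1 2 2 (le_of_eq hx23)).upd 2 0 2 (le_of_eq hx30)).upd 2 1 1 (le_of_eq hx32)) ![1,1,1] (by decide) (by decide) 0 (by decide))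
            · -- 23=(1,3)
              exact False.elim (cert_false T ((skipEmb 1).trans v) (by norm_num) (fun _ => hv _) (((((((LB_zero T ((skipEmb 1).trans v)).upd 0 1 1 (le_of_eq hx02)).upd 0 2 1 (le_of_eq hx03)).upd 1 0 1 (le_of_eq hx20)).upd 1 2 1 (le_of_eq hx23)).upd 2 0 2 (le_of_eq hx30)).upd 2 1 3 (le_of_eq hx32)) ![1,1,1] (by decide) (by decide) 0 (by decide))
            · -- 23=(3,1)
              exact False.elim (cert_false T ((skipEmb 1).trans v) (by norm_num) (fun _ => hv _) (((((((LB_zero T ((skipEmb 1).trans v)).upd 0 1 1 (le_of_eq hx02)).upd 0 2 1 (le_of_eq hx03)).upd 1 0 1 (le_of_eq hx20)).upd 1 2 3 (le_of_eq hx23)).upd 2 0 2 (le_of_eq hx30)).upd 2 1 1 (le_of_eq hx32)) ![1,1,1] (by decide) (by decide) 0 (by decide))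
          · -- 13=(1,1)
            have d23 := two_pair T (by norm_num : 2 < 4) ((pairEmb 2 3 (by decide)).trans v) (fun _ => hv _)
            change (N T v 2 3 = 0 ∧ N T v 3 2 = 0) ∨ (N T v 2 3 = 1 ∧ N T v 3 2 = 1) ∨ (N T v 2 3 = 1 ∧ N T v 3 2 = 2) ∨ (N T v 2 3 = 2 ∧ N T v 3 2 = 1) ∨ (N T v 2 3 = 1 ∧ N T v 3 2 = 3) ∨ (N T v 2 3 = 3 ∧ N T v 3 2 = 1) at d23
            rw [← hx23, ← hx32] at d23
            rcases d23 with ⟨rfl, rfl⟩ | ⟨rfl, rfl⟩ | ⟨rfl, rfl⟩ | ⟨rfl, rfl⟩ | ⟨rfl, rfl⟩ | ⟨rfl, rfl⟩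
            · -- 23=(0,0)
              exfalso; omega
            · -- 23=(1,1)
              exact False.elim (cert_false T ((skipEmb 1).trans v) (by norm_num) (fun _ => hv _) (((((((LB_zero T ((skipEmb 1).trans v)).upd 0 1 1 (le_of_eq hx02)).upd 0 2 1 (le_of_eq hx03)).upd 1 0 1 (le_of_eq hx20)).upd 1 2 1 (le_of_eq hx23)).upd 2 0 2 (le_of_eq hx30)).upd 2 1 1 (le_of_eq hx32)) ![1,1,1] (by decide) (by decide) 0 (by decide))
            · -- 23=(1,2)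
              exact False.elim (cert_false T ((skipEmb 1).trans v) (by norm_num) (fun _ => hv _) (((((((LB_zero T ((skipEmb 1).trans v)).upd 0 1 1 (le_of_eq hx02)).upd 0 2 1 (le_of_eq hx03)).upd 1 0 1 (le_of_eq hx20)).upd 1 2 1 (le_of_eq hx23)).upd 2 0 2 (le_of_eq hx30)).upd 2 1 2 (le_of_eq hx32)) ![1,1,1] (by decide) (by decide) 0 (by decide))
            · -- 23=(2,1)
              exact False.elim (cert_false T ((skipEmb 1).trans v) (by norm_num) (fun _ => hv _) (((((((LB_zero T ((skipEmb 1).trans v)).upd 0 1 1 (le_of_eq hx02)).upd 0 2 1 (le_of_eq hx03)).upd 1 0 1 (le_of_eq hx20)).upd 1 2 2 (le_of_eq hx23)).upd 2 0 2 (le_of_eq hx30)).upd 2 1 1 (le_of_eq hx32)) ![1,1,1] (by decide) (by decide) 0 (by decide))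
            · -- 23=(1,3)
              exact False.elim (cert_false T ((skipEmb 1).trans v) (by norm_num) (fun _ => hv _) (((((((LB_zero T ((skipEmb 1).trans v)).upd 0 1 1 (le_of_eq hx02)).upd 0 2 1 (le_of_eq hx03)).upd 1 0 1 (le_of_eq hx20)).upd 1 2 1 (le_of_eq hx23)).upd 2 0 2 (le_of_eq hx30)).upd 2 1 3 (le_of_eq hx32)) ![1,1,1] (by decide) (by decide) 0 (by decide))
            · -- 23=(3,1)
              exact False.elim (cert_false T ((skipEmb 1).trans v) (by norm_num) (fun _ => hv _) (((((((LB_zero T ((skipEmb 1).trans v)).upd 0 1 1 (le_of_eq hx02)).upd 0 2 1 (le_of_eq hx03)).upd 1 0 1 (le_of_eq hx20)).upd 1 2 3 (le_of_eq hx23)).upd 2 0 2 (le_of_eq hx30)).upd 2 1 1 (le_of_eq hx32)) ![1,1,1] (by decide) (by decide) 0 (by decide))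
          · -- 13=(1,2)
            exact False.elim (cert_false T ((skipEmb 2).trans v) (by norm_num) (fun _ => hv _) (((((LB_zero T ((skipEmb 2).trans v)).upd 0 2 1 (le_of_eq hx03)).upd 1 2 1 (le_of_eq hx13)).upd 2 0 2 (le_of_eq hx30)).upd 2 1 2 (le_of_eq hx31)) ![1,1,2] (by decide) (by decide) 0 (by decide))
          · -- 13=(2,1)
            exact False.elim (cert_false T ((skipEmb 2).trans v) (by norm_num) (fun _ => hv _) (((((LB_zero T ((skipEmb 2).trans v)).upd 0 2 1 (le_of_eq hx03)).upd 1 2 2 (le_of_eq hx13)).upd 2 0 2 (le_of_eq hx30)).upd 2 1 1 (le_of_eq hx31)) ![1,2,2] (by decide) (by decide) 0 (by decide))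
          · -- 13=(1,3)
            exact False.elim (cert_false T ((skipEmb 2).trans v) (by norm_num) (fun _ => hv _) (((((LB_zero T ((skipEmb 2).trans v)).upd 0 2 1 (le_of_eq hx03)).upd 1 2 1 (le_of_eq hx13)).upd 2 0 2 (le_of_eq hx30)).upd 2 1 3 (le_of_eq hx31)) ![1,1,2] (by decide) (by decide) 0 (by decide))
          · -- 13=(3,1)
            exact False.elim (cert_false T ((skipEmb 2).trans v) (by norm_num) (fun _ => hv _) (((((LB_zero T ((skipEmb 2).trans v)).upd 0 2 1 (le_of_eq hx03)).upd 1 2 3 (le_of_eq hx13)).upd 2 0 2 (le_of_eq hx30)).upd 2 1 1 (le_of_eq hx31)) ![1,2,2] (by decide) (by decide) 0 (by decide))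
        · -- 03=(2,1)
          have d13 := two_pair T (by norm_num : 2 < 4) ((pairEmb 1 3 (by decide)).trans v) (fun _ => hv _)
          change (N T v 1 3 = 0 ∧ N T v 3 1 = 0) ∨ (N T v 1 3 = 1 ∧ N T v 3 1 = 1) ∨ (N T v 1 3 = 1 ∧ N T v 3 1 = 2) ∨ (N T v 1 3 = 2 ∧ N T v 3 1 = 1) ∨ (N T v 1 3 = 1 ∧ N T v 3 1 = 3) ∨ (N T v 1 3 = 3 ∧ N T v 3 1 = 1) at d13
          rw [← hx13, ← hx31] at d13
          rcases d13 with ⟨rfl, rfl⟩ | ⟨rfl, rfl⟩ | ⟨rfl, rfl⟩ | ⟨rfl, rfl⟩ | ⟨rfl, rfl⟩ | ⟨rfl, rfl⟩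
          · -- 13=(0,0)
            have d23 := two_pair T (by norm_num : 2 < 4) ((pairEmb 2 3 (by decide)).trans v) (fun _ => hv _)
            change (N T v 2 3 = 0 ∧ N T v 3 2 = 0) ∨ (N T v 2 3 = 1 ∧ N T v 3 2 = 1) ∨ (N T v 2 3 = 1 ∧ N T v 3 2 = 2) ∨ (N T v 2 3 = 2 ∧ N T v 3 2 = 1) ∨ (N T v 2 3 = 1 ∧ N T v 3 2 = 3) ∨ (N T v 2 3 = 3 ∧ N T v 3 2 = 1) at d23
            rw [← hx23, ← hx32] at d23
            rcases d23 with ⟨rfl, rfl⟩ | ⟨rfl, rfl⟩ | ⟨rfl, rfl⟩ | ⟨rfl, rfl⟩ | ⟨rfl, rfl⟩ | ⟨rfl, rfl⟩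
            · -- 23=(0,0)
              exfalso; omega
            · -- 23=(1,1)
              exact False.elim (cert_false T ((skipEmb 1).trans v) (by norm_num) (fun _ => hv _) (((((((LB_zero T ((skipEmb 1).trans v)).upd 0 1 1 (le_of_eq hx02)).upd 0 2 2 (le_of_eq hx03)).upd 1 0 1 (le_of_eq hx20)).upd 1 2 1 (le_of_eq hx23)).upd 2 0 1 (le_of_eq hx30)).upd 2 1 1 (le_of_eq hx32)) ![1,1,1] (by decide) (by decide) 0 (by decide))
            · -- 23=(1,2)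
              exact False.elim (cert_false T ((skipEmb 1).trans v) (by norm_num) (fun _ => hv _) (((((((LB_zero T ((skipEmb 1).trans v)).upd 0 1 1 (le_of_eq hx02)).upd 0 2 2 (le_of_eq hx03)).upd 1 0 1 (le_of_eq hx20)).upd 1 2 1 (le_of_eq hx23)).upd 2 0 1 (le_of_eq hx30)).upd 2 1 2 (le_of_eq hx32)) ![1,1,1] (by decide) (by decide) 0 (by decide))
            · -- 23=(2,1)
              exact False.elim (cert_false T ((skipEmb 1).trans v) (by norm_num) (fun _ => hv _) (((((((LB_zero T ((skipEmb 1).trans v)).upd 0 1 1 (le_of_eq hx02)).upd 0 2 2 (le_of_eq hx03)).upd 1 0 1 (le_of_eq hx20)).upd 1 2 2 (le_of_eq hx23)).upd 2 0 1 (le_of_eq hx30)).upd 2 1 1 (le_of_eq hx32)) ![1,1,1] (by decide) (by decide) 0 (by decide))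
            · -- 23=(1,3)
              exact False.elim (cert_false T ((skipEmb 1).trans v) (by norm_num) (fun _ => hv _) (((((((LB_zero T ((skipEmb 1).trans v)).upd 0 1 1 (le_of_eq hx02)).upd 0 2 2 (le_of_eq hx03)).upd 1 0 1 (le_of_eq hx20)).upd 1 2 1 (le_of_eq hx23)).upd 2 0 1 (le_of_eq hx30)).upd 2 1 3 (le_of_eq hx32)) ![1,1,1] (by decide) (by decide) 0 (by decide))
            · -- 23=(3,1)
              exact False.elim (cert_false T ((skipEmb 1).trans v) (by norm_num) (fun _ => hv _) (((((((LB_zero T ((skipEmb 1).trans v)).upd 0 1 1 (le_of_eq hx02)).upd 0 2 2 (le_of_eq hx03)).upd 1 0 1 (le_of_eq hx20)).upd 1 2 3 (le_of_eq hx23)).upd 2 0 1 (le_of_eq hx30)).upd 2 1 1 (le_of_eq hx32)) ![1,1,1] (by decide) (by decide) 0 (by decide))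
          · -- 13=(1,1)
            have d23 := two_pair T (by norm_num : 2 < 4) ((pairEmb 2 3 (by decide)).trans v) (fun _ => hv _)
            change (N T v 2 3 = 0 ∧ N T v 3 2 = 0) ∨ (N T v 2 3 = 1 ∧ N T v 3 2 = 1) ∨ (N T v 2 3 = 1 ∧ N T v 3 2 = 2) ∨ (N T v 2 3 = 2 ∧ N T v 3 2 = 1) ∨ (N T v 2 3 = 1 ∧ N T v 3 2 = 3) ∨ (N T v 2 3 = 3 ∧ N T v 3 2 = 1) at d23
            rw [← hx23, ← hx32] at d23
            rcases d23 with ⟨rfl, rfl⟩ | ⟨rfl, rfl⟩ | ⟨rfl, rfl⟩ | ⟨rfl, rfl⟩ | ⟨rfl, rfl⟩ | ⟨rfl, rfl⟩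
            · -- 23=(0,0)
              exfalso; omega
            · -- 23=(1,1)
              exact False.elim (cert_false T ((skipEmb 1).trans v) (by norm_num) (fun _ => hv _) (((((((LB_zero T ((skipEmb 1).trans v)).upd 0 1 1 (le_of_eq hx02)).upd 0 2 2 (le_of_eq hx03)).upd 1 0 1 (le_of_eq hx20)).upd 1 2 1 (le_of_eq hx23)).upd 2 0 1 (le_of_eq hx30)).upd 2 1 1 (le_of_eq hx32)) ![1,1,1] (by decide) (by decide) 0 (by decide))
            · -- 23=(1,2)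
              exact False.elim (cert_false T ((skipEmb 1).trans v) (by norm_num) (fun _ => hv _) (((((((LB_zero T ((skipEmb 1).trans v)).upd 0 1 1 (le_of_eq hx02)).upd 0 2 2 (le_of_eq hx03)).upd 1 0 1 (le_of_eq hx20)).upd 1 2 1 (le_of_eq hx23)).upd 2 0 1 (le_of_eq hx30)).upd 2 1 2 (le_of_eq hx32)) ![1,1,1] (by decide) (by decide) 0 (by decide))
            · -- 23=(2,1)
              exact False.elim (cert_false T ((skipEmb 1).trans v) (by norm_num) (fun _ => hv _) (((((((LB_zero T ((skipEmb 1).trans v)).upd 0 1 1 (le_of_eq hx02)).upd 0 2 2 (le_of_eq hx03)).upd 1 0 1 (le_of_eq hx20)).upd 1 2 2 (le_of_eq hx23)).upd 2 0 1 (le_of_eq hx30)).upd 2 1 1 (le_of_eq hx32)) ![1,1,1] (by decide) (by decide) 0 (by decide))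
            · -- 23=(1,3)
              exact False.elim (cert_false T ((skipEmb 1).trans v) (by norm_num) (fun _ => hv _) (((((((LB_zero T ((skipEmb 1).trans v)).upd 0 1 1 (le_of_eq hx02)).upd 0 2 2 (le_of_eq hx03)).upd 1 0 1 (le_of_eq hx20)).upd 1 2 1 (le_of_eq hx23)).upd 2 0 1 (le_of_eq hx30)).upd 2 1 3 (le_of_eq hx32)) ![1,1,1] (by decide) (by decide) 0 (by decide))
            · -- 23=(3,1)
              exact False.elim (cert_false T ((skipEmb 1).trans v) (by norm_num) (fun _ => hv _) (((((((LB_zero T ((skipEmb 1).trans v)).upd 0 1 1 (le_of_eq hx02)).upd 0 2 2 (le_of_eq hx03)).upd 1 0 1 (le_of_eq hx20)).upd 1 2 3 (le_of_eq hx23)).upd 2 0 1 (le_of_eq hx30)).upd 2 1 1 (le_of_eq hx32)) ![1,1,1] (by decide) (by decide) 0 (by decide))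
          · -- 13=(1,2)
            exact False.elim (cert_false T ((skipEmb 2).trans v) (by norm_num) (fun _ => hv _) (((((LB_zero T ((skipEmb 2).trans v)).upd 0 2 2 (le_of_eq hx03)).upd 1 2 1 (le_of_eq hx13)).upd 2 0 1 (le_of_eq hx30)).upd 2 1 2 (le_of_eq hx31)) ![2,1,2] (by decide) (by decide) 0 (by decide))
          · -- 13=(2,1)
            exact False.elim (cert_false T ((skipEmb 2).trans v) (by norm_num) (fun _ => hv _) (((((LB_zero T ((skipEmb 2).trans v)).upd 0 2 2 (le_of_eq hx03)).upd 1 2 2 (le_of_eq hx13)).upd 2 0 1 (le_of_eq hx30)).upd 2 1 1 (le_of_eq hx31)) ![1,1,1] (by decide) (by decide) 0 (by decide))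
          · -- 13=(1,3)
            exact False.elim (cert_false T ((skipEmb 2).trans v) (by norm_num) (fun _ => hv _) (((((LB_zero T ((skipEmb 2).trans v)).upd 0 2 2 (le_of_eq hx03)).upd 1 2 1 (le_of_eq hx13)).upd 2 0 1 (le_of_eq hx30)).upd 2 1 3 (le_of_eq hx31)) ![1,1,2] (by decide) (by decide) 0 (by decide))
          · -- 13=(3,1)
            exact False.elim (cert_false T ((skipEmb 2).trans v) (by norm_num) (fun _ => hv _) (((((LB_zero T ((skipEmb 2).trans v)).upd 0 2 2 (le_of_eq hx03)).upd 1 2 3 (le_of_eq hx13)).upd 2 0 1 (le_of_eq hx30)).upd 2 1 1 (le_of_eq hx31)) ![1,1,1] (by decide) (by decide) 0 (by decide))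
        · -- 03=(1,3)
          exact False.elim (cert_false T ((skipEmb 1).trans v) (by norm_num) (fun _ => hv _) (((((LB_zero T ((skipEmb 1).trans v)).upd 0 1 1 (le_of_eq hx02)).upd 0 2 1 (le_of_eq hx03)).upd 1 0 1 (le_of_eq hx20)).upd 2 0 3 (le_of_eq hx30)) ![2,1,3] (by decide) (by decide) 0 (by decide))
        · -- 03=(3,1)
          exact False.elim (cert_false T ((skipEmb 1).trans v) (by norm_num) (fun _ => hv _) (((((LB_zero T ((skipEmb 1).trans v)).upd 0 1 1 (le_of_eq hx02)).upd 0 2 3 (le_of_eq hx03)).upd 1 0 1 (le_of_eq hx20)).upd 2 0 1 (le_of_eq hx30)) ![2,1,1] (by decide) (by decide) 0 (by decide))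
      · -- 12=(1,1)
        have d03 := two_pair T (by norm_num : 2 < 4) ((pairEmb 0 3 (by decide)).trans v) (fun _ => hv _)
        change (N T v 0 3 = 0 ∧ N T v 3 0 = 0) ∨ (N T v 0 3 = 1 ∧ N T v 3 0 = 1) ∨ (N T v 0 3 = 1 ∧ N T v 3 0 = 2) ∨ (N T v 0 3 = 2 ∧ N T v 3 0 = 1) ∨ (N T v 0 3 = 1 ∧ N T v 3 0 = 3) ∨ (N T v 0 3 = 3 ∧ N T v 3 0 = 1) at d03
        rw [← hx03, ← hx30] at d03
        rcases d03 with ⟨rfl, rfl⟩ | ⟨rfl, rfl⟩ | ⟨rfl, rfl⟩ | ⟨rfl, rfl⟩ | ⟨rfl, rfl⟩ | ⟨rfl, rfl⟩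
        · -- 03=(0,0)
          have d13 := two_pair T (by norm_num : 2 < 4) ((pairEmb 1 3 (by decide)).trans v) (fun _ => hv _)
          change (N T v 1 3 = 0 ∧ N T v 3 1 = 0) ∨ (N T v 1 3 = 1 ∧ N T v 3 1 = 1) ∨ (N T v 1 3 = 1 ∧ N T v 3 1 = 2) ∨ (N T v 1 3 = 2 ∧ N T v 3 1 = 1) ∨ (N T v 1 3 = 1 ∧ N T v 3 1 = 3) ∨ (N T v 1 3 = 3 ∧ N T v 3 1 = 1) at d13
          rw [← hx13, ← hx31] at d13
          rcases d13 with ⟨rfl, rfl⟩ | ⟨rfl, rfl⟩ | ⟨rfl, rfl⟩ | ⟨rfl, rfl⟩ | ⟨rfl, rfl⟩ | ⟨rfl, rfl⟩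
          · -- 13=(0,0)
            have d23 := two_pair T (by norm_num : 2 < 4) ((pairEmb 2 3 (by decide)).trans v) (fun _ => hv _)
            change (N T v 2 3 = 0 ∧ N T v 3 2 = 0) ∨ (N T v 2 3 = 1 ∧ N T v 3 2 = 1) ∨ (N T v 2 3 = 1 ∧ N T v 3 2 = 2) ∨ (N T v 2 3 = 2 ∧ N T v 3 2 = 1) ∨ (N T v 2 3 = 1 ∧ N T v 3 2 = 3) ∨ (N T v 2 3 = 3 ∧ N T v 3 2 = 1) at d23
            rw [← hx23, ← hx32] at d23
            rcases d23 with ⟨rfl, rfl⟩ | ⟨rfl, rfl⟩ | ⟨rfl, rfl⟩ | ⟨rfl, rfl⟩ | ⟨rfl, rfl⟩ | ⟨rfl, rfl⟩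
            · -- 23=(0,0)
              exfalso; omega
            · -- 23=(1,1)
              exfalso; omega
            · -- 23=(1,2)
              refine ⟨(⟨![2, 0, 1, 3], ![1, 2, 0, 3], by decide, by decide⟩ : Equiv.Perm (Fin 4)), T.m 0, T.w 3, Or.inr (Or.inr (Or.inr (Or.inr (Or.inr (?_)))))⟩
              show T.m 2 = 2 * T.m 0 ∧ T.m 0 = T.m 0 ∧ T.m 1 = T.m 0 ∧ T.m 3 = 2 * T.m 0 ∧ T.w 2 = 2 * T.w 3 ∧ T.w 0 = 2 * T.w 3 ∧ T.w 1 = 2 * T.w 3 ∧ T.w 3 = T.w 3 ∧ T.a 2 2 = -4 * T.w 3 ∧ T.a 2 0 = 2 * T.w 3 ∧ T.a 2 1 = 2 * T.w 3 ∧ T.a 2 3 = 2 * T.w 3 ∧ T.a 0 0 = -4 * T.w 3 ∧ T.a 0 1 = 0 ∧ T.a 0 3 = 0 ∧ T.a 1 1 = -4 * T.w 3 ∧ T.a 1 3 = 0 ∧ T.a 3 3 = -2 * T.w 3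
              refine ⟨?_, ?_, ?_, ?_, ?_, ?_, ?_, ?_, ?_, ?_, ?_, ?_, ?_, ?_, ?_, ?_, ?_, ?_⟩ <;> omega
            · -- 23=(2,1)
              refine ⟨(⟨![2, 0, 1, 3], ![1, 2, 0, 3], by decide, by decide⟩ : Equiv.Perm (Fin 4)), T.m 0, T.w 2, Or.inr (Or.inr (Or.inr (Or.inr (Or.inl ?_))))⟩
              show T.m 2 = 2 * T.m 0 ∧ T.m 0 = T.m 0 ∧ T.m 1 = T.m 0 ∧ T.m 3 = T.m 0 ∧ T.w 2 = T.w 2 ∧ T.w 0 = T.w 2 ∧ T.w 1 = T.w 2 ∧ T.w 3 = 2 * T.w 2 ∧ T.a 2 2 = -2 * T.w 2 ∧ T.a 2 0 = T.w 2 ∧ T.a 2 1 = T.w 2 ∧ T.a 2 3 = 2 * T.w 2 ∧ T.a 0 0 = -2 * T.w 2 ∧ T.a 0 1 = 0 ∧ T.a 0 3 = 0 ∧ T.a 1 1 = -2 * T.w 2 ∧ T.a 1 3 = 0 ∧ T.a 3 3 = -4 * T.w 2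
              refine ⟨?_, ?_, ?_, ?_, ?_, ?_, ?_, ?_, ?_, ?_, ?_, ?_, ?_, ?_, ?_, ?_, ?_, ?_⟩ <;> omega
            · -- 23=(1,3)
              exact False.elim (cert_false T ((skipEmb 1).trans v) (by norm_num) (fun _ => hv _) (((((LB_zero T ((skipEmb 1).trans v)).upd 0 1 1 (le_of_eq hx02)).upd 1 0 1 (le_of_eq hx20)).upd 1 2 1 (le_of_eq hx23)).upd 2 1 3 (le_of_eq hx32)) ![1,2,3] (by decide) (by decide) 0 (by decide))
            · -- 23=(3,1)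
              exact False.elim (cert_false T ((skipEmb 1).trans v) (by norm_num) (fun _ => hv _) (((((LB_zero T ((skipEmb 1).trans v)).upd 0 1 1 (le_of_eq hx02)).upd 1 0 1 (le_of_eq hx20)).upd 1 2 3 (le_of_eq hx23)).upd 2 1 1 (le_of_eq hx32)) ![1,2,1] (by decide) (by decide) 0 (by decide))
          · -- 13=(1,1)
            have d23 := two_pair T (by norm_num : 2 < 4) ((pairEmb 2 3 (by decide)).trans v) (fun _ => hv _)
            change (N T v 2 3 = 0 ∧ N T v 3 2 = 0) ∨ (N T v 2 3 = 1 ∧ N T v 3 2 = 1) ∨ (N T v 2 3 = 1 ∧ N T v 3 2 = 2) ∨ (N T v 2 3 = 2 ∧ N T v 3 2 = 1) ∨ (N T v 2 3 = 1 ∧ N T v 3 2 = 3) ∨ (N T v 2 3 = 3 ∧ N T v 3 2 = 1) at d23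
            rw [← hx23, ← hx32] at d23
            rcases d23 with ⟨rfl, rfl⟩ | ⟨rfl, rfl⟩ | ⟨rfl, rfl⟩ | ⟨rfl, rfl⟩ | ⟨rfl, rfl⟩ | ⟨rfl, rfl⟩
            · -- 23=(0,0)
              exfalso; omega
            · -- 23=(1,1)
              exact False.elim (cert_false T ((skipEmb 0).trans v) (by norm_num) (fun _ => hv _) (((((((LB_zero T ((skipEmb 0).trans v)).upd 0 1 1 (le_of_eq hx12)).upd 0 2 1 (le_of_eq hx13)).upd 1 0 1 (le_of_eq hx21)).upd 1 2 1 (le_of_eq hx23)).upd 2 0 1 (le_of_eq hx31)).upd 2 1 1 (le_of_eq hx32)) ![1,1,1] (by decide) (by decide) 0 (by decide))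
            · -- 23=(1,2)
              exact False.elim (cert_false T ((skipEmb 0).trans v) (by norm_num) (fun _ => hv _) (((((((LB_zero T ((skipEmb 0).trans v)).upd 0 1 1 (le_of_eq hx12)).upd 0 2 1 (le_of_eq hx13)).upd 1 0 1 (le_of_eq hx21)).upd 1 2 1 (le_of_eq hx23)).upd 2 0 1 (le_of_eq hx31)).upd 2 1 2 (le_of_eq hx32)) ![1,1,1] (by decide) (by decide) 0 (by decide))
            · -- 23=(2,1)
              exact False.elim (cert_false T ((skipEmb 0).trans v) (by norm_num) (fun _ => hv _) (((((((LB_zero T ((skipEmb 0).trans v)).upd 0 1 1 (le_of_eq hx12)).upd 0 2 1 (le_of_eq hx13)).upd 1 0 1 (le_of_eq hx21)).upd 1 2 2 (le_of_eq hx23)).upd 2 0 1 (le_of_eq hx31)).upd 2 1 1 (le_of_eq hx32)) ![1,1,1] (by decide) (by decide) 0 (by decide))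
            · -- 23=(1,3)
              exact False.elim (cert_false T ((skipEmb 1).trans v) (by norm_num) (fun _ => hv _) (((((LB_zero T ((skipEmb 1).trans v)).upd 0 1 1 (le_of_eq hx02)).upd 1 0 1 (le_of_eq hx20)).upd 1 2 1 (le_of_eq hx23)).upd 2 1 3 (le_of_eq hx32)) ![1,2,3] (by decide) (by decide) 0 (by decide))
            · -- 23=(3,1)
              exact False.elim (cert_false T ((skipEmb 1).trans v) (by norm_num) (fun _ => hv _) (((((LB_zero T ((skipEmb 1).trans v)).upd 0 1 1 (le_of_eq hx02)).upd 1 0 1 (le_of_eq hx20)).upd 1 2 3 (le_of_eq hx23)).upd 2 1 1 (le_of_eq hx32)) ![1,2,1] (by decide) (by decide) 0 (by decide))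
          · -- 13=(1,2)
            have d23 := two_pair T (by norm_num : 2 < 4) ((pairEmb 2 3 (by decide)).trans v) (fun _ => hv _)
            change (N T v 2 3 = 0 ∧ N T v 3 2 = 0) ∨ (N T v 2 3 = 1 ∧ N T v 3 2 = 1) ∨ (N T v 2 3 = 1 ∧ N T v 3 2 = 2) ∨ (N T v 2 3 = 2 ∧ N T v 3 2 = 1) ∨ (N T v 2 3 = 1 ∧ N T v 3 2 = 3) ∨ (N T v 2 3 = 3 ∧ N T v 3 2 = 1) at d23
            rw [← hx23, ← hx32] at d23
            rcases d23 with ⟨rfl, rfl⟩ | ⟨rfl, rfl⟩ | ⟨rfl, rfl⟩ | ⟨rfl, rfl⟩ | ⟨rfl, rfl⟩ | ⟨rfl, rfl⟩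
            · -- 23=(0,0)
              exfalso; omega
            · -- 23=(1,1)
              exact False.elim (cert_false T ((skipEmb 0).trans v) (by norm_num) (fun _ => hv _) (((((((LB_zero T ((skipEmb 0).trans v)).upd 0 1 1 (le_of_eq hx12)).upd 0 2 1 (le_of_eq hx13)).upd 1 0 1 (le_of_eq hx21)).upd 1 2 1 (le_of_eq hx23)).upd 2 0 2 (le_of_eq hx31)).upd 2 1 1 (le_of_eq hx32)) ![1,1,1] (by decide) (by decide) 0 (by decide))
            · -- 23=(1,2)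
              exact False.elim (cert_false T ((skipEmb 0).trans v) (by norm_num) (fun _ => hv _) (((((((LB_zero T ((skipEmb 0).trans v)).upd 0 1 1 (le_of_eq hx12)).upd 0 2 1 (le_of_eq hx13)).upd 1 0 1 (le_of_eq hx21)).upd 1 2 1 (le_of_eq hx23)).upd 2 0 2 (le_of_eq hx31)).upd 2 1 2 (le_of_eq hx32)) ![1,1,1] (by decide) (by decide) 0 (by decide))
            · -- 23=(2,1)
              exact False.elim (cert_false T ((skipEmb 0).trans v) (by norm_num) (fun _ => hv _) (((((((LB_zero T ((skipEmb 0).trans v)).upd 0 1 1 (le_of_eq hx12)).upd 0 2 1 (le_of_eq hx13)).upd 1 0 1 (le_of_eq hx21)).upd 1 2 2 (le_of_eq hx23)).upd 2 0 2 (le_of_eq hx31)).upd 2 1 1 (le_of_eq hx32)) ![1,1,1] (by decide) (by decide) 0 (by decide))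
            · -- 23=(1,3)
              exact False.elim (cert_false T ((skipEmb 1).trans v) (by norm_num) (fun _ => hv _) (((((LB_zero T ((skipEmb 1).trans v)).upd 0 1 1 (le_of_eq hx02)).upd 1 0 1 (le_of_eq hx20)).upd 1 2 1 (le_of_eq hx23)).upd 2 1 3 (le_of_eq hx32)) ![1,2,3] (by decide) (by decide) 0 (by decide))
            · -- 23=(3,1)
              exact False.elim (cert_false T ((skipEmb 1).trans v) (by norm_num) (fun _ => hv _) (((((LB_zero T ((skipEmb 1).trans v)).upd 0 1 1 (le_of_eq hx02)).upd 1 0 1 (le_of_eq hx20)).upd 1 2 3 (le_of_eq hx23)).upd 2 1 1 (le_of_eq hx32)) ![1,2,1] (by decide) (by decide) 0 (by decide))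
          · -- 13=(2,1)
            have d23 := two_pair T (by norm_num : 2 < 4) ((pairEmb 2 3 (by decide)).trans v) (fun _ => hv _)
            change (N T v 2 3 = 0 ∧ N T v 3 2 = 0) ∨ (N T v 2 3 = 1 ∧ N T v 3 2 = 1) ∨ (N T v 2 3 = 1 ∧ N T v 3 2 = 2) ∨ (N T v 2 3 = 2 ∧ N T v 3 2 = 1) ∨ (N T v 2 3 = 1 ∧ N T v 3 2 = 3) ∨ (N T v 2 3 = 3 ∧ N T v 3 2 = 1) at d23
            rw [← hx23, ← hx32] at d23
            rcases d23 with ⟨rfl, rfl⟩ | ⟨rfl, rfl⟩ | ⟨rfl, rfl⟩ | ⟨rfl, rfl⟩ | ⟨rfl, rfl⟩ | ⟨rfl, rfl⟩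
            · -- 23=(0,0)
              exfalso; omega
            · -- 23=(1,1)
              exact False.elim (cert_false T ((skipEmb 0).trans v) (by norm_num) (fun _ => hv _) (((((((LB_zero T ((skipEmb 0).trans v)).upd 0 1 1 (le_of_eq hx12)).upd 0 2 2 (le_of_eq hx13)).upd 1 0 1 (le_of_eq hx21)).upd 1 2 1 (le_of_eq hx23)).upd 2 0 1 (le_of_eq hx31)).upd 2 1 1 (le_of_eq hx32)) ![1,1,1] (by decide) (by decide) 0 (by decide))
            · -- 23=(1,2)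
              exact False.elim (cert_false T ((skipEmb 0).trans v) (by norm_num) (fun _ => hv _) (((((((LB_zero T ((skipEmb 0).trans v)).upd 0 1 1 (le_of_eq hx12)).upd 0 2 2 (le_of_eq hx13)).upd 1 0 1 (le_of_eq hx21)).upd 1 2 1 (le_of_eq hx23)).upd 2 0 1 (le_of_eq hx31)).upd 2 1 2 (le_of_eq hx32)) ![1,1,1] (by decide) (by decide) 0 (by decide))
            · -- 23=(2,1)
              exact False.elim (cert_false T ((skipEmb 0).trans v) (by norm_num) (fun _ => hv _) (((((((LB_zero T ((skipEmb 0).trans v)).upd 0 1 1 (le_of_eq hx12)).upd 0 2 2 (le_of_eq hx13)).upd 1 0 1 (le_of_eq hx21)).upd 1 2 2 (le_of_eq hx23)).upd 2 0 1 (le_of_eq hx31)).upd 2 1 1 (le_of_eq hx32)) ![1,1,1] (by decide) (by decide) 0 (by decide))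
            · -- 23=(1,3)
              exact False.elim (cert_false T ((skipEmb 1).trans v) (by norm_num) (fun _ => hv _) (((((LB_zero T ((skipEmb 1).trans v)).upd 0 1 1 (le_of_eq hx02)).upd 1 0 1 (le_of_eq hx20)).upd 1 2 1 (le_of_eq hx23)).upd 2 1 3 (le_of_eq hx32)) ![1,2,3] (by decide) (by decide) 0 (by decide))
            · -- 23=(3,1)
              exact False.elim (cert_false T ((skipEmb 1).trans v) (by norm_num) (fun _ => hv _) (((((LB_zero T ((skipEmb 1).trans v)).upd 0 1 1 (le_of_eq hx02)).upd 1 0 1 (le_of_eq hx20)).upd 1 2 3 (le_of_eq hx23)).upd 2 1 1 (le_of_eq hx32)) ![1,2,1] (by decide) (by decide) 0 (by decide))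
          · -- 13=(1,3)
            exact False.elim (cert_false T ((skipEmb 0).trans v) (by norm_num) (fun _ => hv _) (((((LB_zero T ((skipEmb 0).trans v)).upd 0 1 1 (le_of_eq hx12)).upd 0 2 1 (le_of_eq hx13)).upd 1 0 1 (le_of_eq hx21)).upd 2 0 3 (le_of_eq hx31)) ![2,1,3] (by decide) (by decide) 0 (by decide))
          · -- 13=(3,1)
            exact False.elim (cert_false T ((skipEmb 0).trans v) (by norm_num) (fun _ => hv _) (((((LB_zero T ((skipEmb 0).trans v)).upd 0 1 1 (le_of_eq hx12)).upd 0 2 3 (le_of_eq hx13)).upd 1 0 1 (le_of_eq hx21)).upd 2 0 1 (le_of_eq hx31)) ![2,1,1] (by decide) (by decide) 0 (by decide))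
        · -- 03=(1,1)
          have d13 := two_pair T (by norm_num : 2 < 4) ((pairEmb 1 3 (by decide)).trans v) (fun _ => hv _)
          change (N T v 1 3 = 0 ∧ N T v 3 1 = 0) ∨ (N T v 1 3 = 1 ∧ N T v 3 1 = 1) ∨ (N T v 1 3 = 1 ∧ N T v 3 1 = 2) ∨ (N T v 1 3 = 2 ∧ N T v 3 1 = 1) ∨ (N T v 1 3 = 1 ∧ N T v 3 1 = 3) ∨ (N T v 1 3 = 3 ∧ N T v 3 1 = 1) at d13
          rw [← hx13, ← hx31] at d13
          rcases d13 with ⟨rfl, rfl⟩ | ⟨rfl, rfl⟩ | ⟨rfl, rfl⟩ | ⟨rfl, rfl⟩ | ⟨rfl, rfl⟩ | ⟨rfl, rfl⟩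
          · -- 13=(0,0)
            have d23 := two_pair T (by norm_num : 2 < 4) ((pairEmb 2 3 (by decide)).trans v) (fun _ => hv _)
            change (N T v 2 3 = 0 ∧ N T v 3 2 = 0) ∨ (N T v 2 3 = 1 ∧ N T v 3 2 = 1) ∨ (N T v 2 3 = 1 ∧ N T v 3 2 = 2) ∨ (N T v 2 3 = 2 ∧ N T v 3 2 = 1) ∨ (N T v 2 3 = 1 ∧ N T v 3 2 = 3) ∨ (N T v 2 3 = 3 ∧ N T v 3 2 = 1) at d23
            rw [← hx23, ← hx32] at d23
            rcases d23 with ⟨rfl, rfl⟩ | ⟨rfl, rfl⟩ | ⟨rfl, rfl⟩ | ⟨rfl, rfl⟩ | ⟨rfl, rfl⟩ | ⟨rfl, rfl⟩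
            · -- 23=(0,0)
              exfalso; omega
            · -- 23=(1,1)
              exact False.elim (cert_false T ((skipEmb 1).trans v) (by norm_num) (fun _ => hv _) (((((((LB_zero T ((skipEmb 1).trans v)).upd 0 1 1 (le_of_eq hx02)).upd 0 2 1 (le_of_eq hx03)).upd 1 0 1 (le_of_eq hx20)).upd 1 2 1 (le_of_eq hx23)).upd 2 0 1 (le_of_eq hx30)).upd 2 1 1 (le_of_eq hx32)) ![1,1,1] (by decide) (by decide) 0 (by decide))
            · -- 23=(1,2)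
              exact False.elim (cert_false T ((skipEmb 1).trans v) (by norm_num) (fun _ => hv _) (((((((LB_zero T ((skipEmb 1).trans v)).upd 0 1 1 (le_of_eq hx02)).upd 0 2 1 (le_of_eq hx03)).upd 1 0 1 (le_of_eq hx20)).upd 1 2 1 (le_of_eq hx23)).upd 2 0 1 (le_of_eq hx30)).upd 2 1 2 (le_of_eq hx32)) ![1,1,1] (by decide) (by decide) 0 (by decide))
            · -- 23=(2,1)
              exact False.elim (cert_false T ((skipEmb 1).trans v) (by norm_num) (fun _ => hv _) (((((((LB_zero T ((skipEmb 1).trans v)).upd 0 1 1 (le_of_eq hx02)).upd 0 2 1 (le_of_eq hx03)).upd 1 0 1 (le_of_eq hx20)).upd 1 2 2 (le_of_eq hx23)).upd 2 0 1 (le_of_eq hx30)).upd 2 1 1 (le_of_eq hx32)) ![1,1,1] (by decide) (by decide) 0 (by decide))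
            · -- 23=(1,3)
              exact False.elim (cert_false T ((skipEmb 1).trans v) (by norm_num) (fun _ => hv _) (((((((LB_zero T ((skipEmb 1).trans v)).upd 0 1 1 (le_of_eq hx02)).upd 0 2 1 (le_of_eq hx03)).upd 1 0 1 (le_of_eq hx20)).upd 1 2 1 (le_of_eq hx23)).upd 2 0 1 (le_of_eq hx30)).upd 2 1 3 (le_of_eq hx32)) ![1,1,1] (by decide) (by decide) 0 (by decide))
            · -- 23=(3,1)
              exact False.elim (cert_false T ((skipEmb 1).trans v) (by norm_num) (fun _ => hv _) (((((((LB_zero T ((skipEmb 1).trans v)).upd 0 1 1 (le_of_eq hx02)).upd 0 2 1 (le_of_eq hx03)).upd 1 0 1 (le_of_eq hx20)).upd 1 2 3 (le_of_eq hx23)).upd 2 0 1 (le_of_eq hx30)).upd 2 1 1 (le_of_eq hx32)) ![1,1,1] (by decide) (by decide) 0 (by decide))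
          · -- 13=(1,1)
            have d23 := two_pair T (by norm_num : 2 < 4) ((pairEmb 2 3 (by decide)).trans v) (fun _ => hv _)
            change (N T v 2 3 = 0 ∧ N T v 3 2 = 0) ∨ (N T v 2 3 = 1 ∧ N T v 3 2 = 1) ∨ (N T v 2 3 = 1 ∧ N T v 3 2 = 2) ∨ (N T v 2 3 = 2 ∧ N T v 3 2 = 1) ∨ (N T v 2 3 = 1 ∧ N T v 3 2 = 3) ∨ (N T v 2 3 = 3 ∧ N T v 3 2 = 1) at d23
            rw [← hx23, ← hx32] at d23
            rcases d23 with ⟨rfl, rfl⟩ | ⟨rfl, rfl⟩ | ⟨rfl, rfl⟩ | ⟨rfl, rfl⟩ | ⟨rfl, rfl⟩ | ⟨rfl, rfl⟩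
            · -- 23=(0,0)
              refine ⟨(⟨![0, 2, 1, 3], ![0, 2, 1, 3], by decide, by decide⟩ : Equiv.Perm (Fin 4)), T.m 0, T.w 0, Or.inl ?_⟩
              show T.m 0 = T.m 0 ∧ T.m 2 = T.m 0 ∧ T.m 1 = T.m 0 ∧ T.m 3 = T.m 0 ∧ T.w 0 = T.w 0 ∧ T.w 2 = T.w 0 ∧ T.w 1 = T.w 0 ∧ T.w 3 = T.w 0 ∧ T.a 0 0 = -2 * T.w 0 ∧ T.a 0 2 = T.w 0 ∧ T.a 0 1 = 0 ∧ T.a 0 3 = T.w 0 ∧ T.a 2 2 = -2 * T.w 0 ∧ T.a 2 1 = T.w 0 ∧ T.a 2 3 = 0 ∧ T.a 1 1 = -2 * T.w 0 ∧ T.a 1 3 = T.w 0 ∧ T.a 3 3 = -2 * T.w 0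
              refine ⟨?_, ?_, ?_, ?_, ?_, ?_, ?_, ?_, ?_, ?_, ?_, ?_, ?_, ?_, ?_, ?_, ?_, ?_⟩ <;> omega
            · -- 23=(1,1)
              exact False.elim (cert_false T ((skipEmb 1).trans v) (by norm_num) (fun _ => hv _) (((((((LB_zero T ((skipEmb 1).trans v)).upd 0 1 1 (le_of_eq hx02)).upd 0 2 1 (le_of_eq hx03)).upd 1 0 1 (le_of_eq hx20)).upd 1 2 1 (le_of_eq hx23)).upd 2 0 1 (le_of_eq hx30)).upd 2 1 1 (le_of_eq hx32)) ![1,1,1] (by decide) (by decide) 0 (by decide))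
            · -- 23=(1,2)
              exact False.elim (cert_false T ((skipEmb 1).trans v) (by norm_num) (fun _ => hv _) (((((((LB_zero T ((skipEmb 1).trans v)).upd 0 1 1 (le_of_eq hx02)).upd 0 2 1 (le_of_eq hx03)).upd 1 0 1 (le_of_eq hx20)).upd 1 2 1 (le_of_eq hx23)).upd 2 0 1 (le_of_eq hx30)).upd 2 1 2 (le_of_eq hx32)) ![1,1,1] (by decide) (by decide) 0 (by decide))
            · -- 23=(2,1)
              exact False.elim (cert_false T ((skipEmb 1).trans v) (by norm_num) (fun _ => hv _) (((((((LB_zero T ((skipEmb 1).trans v)).upd 0 1 1 (le_of_eq hx02)).upd 0 2 1 (le_of_eq hx03)).upd 1 0 1 (le_of_eq hx20)).upd 1 2 2 (le_of_eq hx23)).upd 2 0 1 (le_of_eq hx30)).upd 2 1 1 (le_of_eq hx32)) ![1,1,1] (by decide) (by decide) 0 (by decide))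
            · -- 23=(1,3)
              exact False.elim (cert_false T ((skipEmb 1).trans v) (by norm_num) (fun _ => hv _) (((((((LB_zero T ((skipEmb 1).trans v)).upd 0 1 1 (le_of_eq hx02)).upd 0 2 1 (le_of_eq hx03)).upd 1 0 1 (le_of_eq hx20)).upd 1 2 1 (le_of_eq hx23)).upd 2 0 1 (le_of_eq hx30)).upd 2 1 3 (le_of_eq hx32)) ![1,1,1] (by decide) (by decide) 0 (by decide))
            · -- 23=(3,1)
              exact False.elim (cert_false T ((skipEmb 1).trans v) (by norm_num) (fun _ => hv _) (((((((LB_zero T ((skipEmb 1).trans v)).upd 0 1 1 (le_of_eq hx02)).upd 0 2 1 (le_of_eq hx03)).upd 1 0 1 (le_of_eq hx20)).upd 1 2 3 (le_of_eq hx23)).upd 2 0 1 (le_of_eq hx30)).upd 2 1 1 (le_of_eq hx32)) ![1,1,1] (by decide) (by decide) 0 (by decide))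
          · -- 13=(1,2)
            have d23 := two_pair T (by norm_num : 2 < 4) ((pairEmb 2 3 (by decide)).trans v) (fun _ => hv _)
            change (N T v 2 3 = 0 ∧ N T v 3 2 = 0) ∨ (N T v 2 3 = 1 ∧ N T v 3 2 = 1) ∨ (N T v 2 3 = 1 ∧ N T v 3 2 = 2) ∨ (N T v 2 3 = 2 ∧ N T v 3 2 = 1) ∨ (N T v 2 3 = 1 ∧ N T v 3 2 = 3) ∨ (N T v 2 3 = 3 ∧ N T v 3 2 = 1) at d23
            rw [← hx23, ← hx32] at d23
            rcases d23 with ⟨rfl, rfl⟩ | ⟨rfl, rfl⟩ | ⟨rfl, rfl⟩ | ⟨rfl, rfl⟩ | ⟨rfl, rfl⟩ | ⟨rfl, rfl⟩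
            · -- 23=(0,0)
              exfalso; omega
            · -- 23=(1,1)
              exact False.elim (cert_false T ((skipEmb 1).trans v) (by norm_num) (fun _ => hv _) (((((((LB_zero T ((skipEmb 1).trans v)).upd 0 1 1 (le_of_eq hx02)).upd 0 2 1 (le_of_eq hx03)).upd 1 0 1 (le_of_eq hx20)).upd 1 2 1 (le_of_eq hx23)).upd 2 0 1 (le_of_eq hx30)).upd 2 1 1 (le_of_eq hx32)) ![1,1,1] (by decide) (by decide) 0 (by decide))
            · -- 23=(1,2)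
              exact False.elim (cert_false T ((skipEmb 1).trans v) (by norm_num) (fun _ => hv _) (((((((LB_zero T ((skipEmb 1).trans v)).upd 0 1 1 (le_of_eq hx02)).upd 0 2 1 (le_of_eq hx03)).upd 1 0 1 (le_of_eq hx20)).upd 1 2 1 (le_of_eq hx23)).upd 2 0 1 (le_of_eq hx30)).upd 2 1 2 (le_of_eq hx32)) ![1,1,1] (by decide) (by decide) 0 (by decide))
            · -- 23=(2,1)
              exact False.elim (cert_false T ((skipEmb 1).trans v) (by norm_num) (fun _ => hv _) (((((((LB_zero T ((skipEmb 1).trans v)).upd 0 1 1 (le_of_eq hx02)).upd 0 2 1 (le_of_eq hx03)).upd 1 0 1 (le_of_eq hx20)).upd 1 2 2 (le_of_eq hx23)).upd 2 0 1 (le_of_eq hx30)).upd 2 1 1 (le_of_eq hx32)) ![1,1,1] (by decide) (by decide) 0 (by decide))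
            · -- 23=(1,3)
              exact False.elim (cert_false T ((skipEmb 1).trans v) (by norm_num) (fun _ => hv _) (((((((LB_zero T ((skipEmb 1).trans v)).upd 0 1 1 (le_of_eq hx02)).upd 0 2 1 (le_of_eq hx03)).upd 1 0 1 (le_of_eq hx20)).upd 1 2 1 (le_of_eq hx23)).upd 2 0 1 (le_of_eq hx30)).upd 2 1 3 (le_of_eq hx32)) ![1,1,1] (by decide) (by decide) 0 (by decide))
            · -- 23=(3,1)
              exact False.elim (cert_false T ((skipEmb 1).trans v) (by norm_num) (fun _ => hv _) (((((((LB_zero T ((skipEmb 1).trans v)).upd 0 1 1 (le_of_eq hx02)).upd 0 2 1 (le_of_eq hx03)).upd 1 0 1 (le_of_eq hx20)).upd 1 2 3 (le_of_eq hx23)).upd 2 0 1 (le_of_eq hx30)).upd 2 1 1 (le_of_eq hx32)) ![1,1,1] (by decide) (by decide) 0 (by decide))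
          · -- 13=(2,1)
            have d23 := two_pair T (by norm_num : 2 < 4) ((pairEmb 2 3 (by decide)).trans v) (fun _ => hv _)
            change (N T v 2 3 = 0 ∧ N T v 3 2 = 0) ∨ (N T v 2 3 = 1 ∧ N T v 3 2 = 1) ∨ (N T v 2 3 = 1 ∧ N T v 3 2 = 2) ∨ (N T v 2 3 = 2 ∧ N T v 3 2 = 1) ∨ (N T v 2 3 = 1 ∧ N T v 3 2 = 3) ∨ (N T v 2 3 = 3 ∧ N T v 3 2 = 1) at d23
            rw [← hx23, ← hx32] at d23
            rcases d23 with ⟨rfl, rfl⟩ | ⟨rfl, rfl⟩ | ⟨rfl, rfl⟩ | ⟨rfl, rfl⟩ | ⟨rfl, rfl⟩ | ⟨rfl, rfl⟩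
            · -- 23=(0,0)
              exfalso; omega
            · -- 23=(1,1)
              exact False.elim (cert_false T ((skipEmb 1).trans v) (by norm_num) (fun _ => hv _) (((((((LB_zero T ((skipEmb 1).trans v)).upd 0 1 1 (le_of_eq hx02)).upd 0 2 1 (le_of_eq hx03)).upd 1 0 1 (le_of_eq hx20)).upd 1 2 1 (le_of_eq hx23)).upd 2 0 1 (le_of_eq hx30)).upd 2 1 1 (le_of_eq hx32)) ![1,1,1] (by decide) (by decide) 0 (by decide))
            · -- 23=(1,2)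
              exact False.elim (cert_false T ((skipEmb 1).trans v) (by norm_num) (fun _ => hv _) (((((((LB_zero T ((skipEmb 1).trans v)).upd 0 1 1 (le_of_eq hx02)).upd 0 2 1 (le_of_eq hx03)).upd 1 0 1 (le_of_eq hx20)).upd 1 2 1 (le_of_eq hx23)).upd 2 0 1 (le_of_eq hx30)).upd 2 1 2 (le_of_eq hx32)) ![1,1,1] (by decide) (by decide) 0 (by decide))
            · -- 23=(2,1)
              exact False.elim (cert_false T ((skipEmb 1).trans v) (by norm_num) (fun _ => hv _) (((((((LB_zero T ((skipEmb 1).trans v)).upd 0 1 1 (le_of_eq hx02)).upd 0 2 1 (le_of_eq hx03)).upd 1 0 1 (le_of_eq hx20)).upd 1 2 2 (le_of_eq hx23)).upd 2 0 1 (le_of_eq hx30)).upd 2 1 1 (le_of_eq hx32)) ![1,1,1] (by decide) (by decide) 0 (by decide))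
            · -- 23=(1,3)
              exact False.elim (cert_false T ((skipEmb 1).trans v) (by norm_num) (fun _ => hv _) (((((((LB_zero T ((skipEmb 1).trans v)).upd 0 1 1 (le_of_eq hx02)).upd 0 2 1 (le_of_eq hx03)).upd 1 0 1 (le_of_eq hx20)).upd 1 2 1 (le_of_eq hx23)).upd 2 0 1 (le_of_eq hx30)).upd 2 1 3 (le_of_eq hx32)) ![1,1,1] (by decide) (by decide) 0 (by decide))
            · -- 23=(3,1)
              exact False.elim (cert_false T ((skipEmb 1).trans v) (by norm_num) (fun _ => hv _) (((((((LB_zero T ((skipEmb 1).trans v)).upd 0 1 1 (le_of_eq hx02)).upd 0 2 1 (le_of_eq hx03)).upd 1 0 1 (le_of_eq hx20)).upd 1 2 3 (le_of_eq hx23)).upd 2 0 1 (le_of_eq hx30)).upd 2 1 1 (le_of_eq hx32)) ![1,1,1] (by decide) (by decide) 0 (by decide))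
          · -- 13=(1,3)
            exact False.elim (cert_false T ((skipEmb 2).trans v) (by norm_num) (fun _ => hv _) (((((LB_zero T ((skipEmb 2).trans v)).upd 0 2 1 (le_of_eq hx03)).upd 1 2 1 (le_of_eq hx13)).upd 2 0 1 (le_of_eq hx30)).upd 2 1 3 (le_of_eq hx31)) ![1,1,2] (by decide) (by decide) 0 (by decide))
          · -- 13=(3,1)
            exact False.elim (cert_false T ((skipEmb 2).trans v) (by norm_num) (fun _ => hv _) (((((LB_zero T ((skipEmb 2).trans v)).upd 0 2 1 (le_of_eq hx03)).upd 1 2 3 (le_of_eq hx13)).upd 2 0 1 (le_of_eq hx30)).upd 2 1 1 (le_of_eq hx31)) ![1,3,2] (by decide) (by decide) 0 (by decide))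
        · -- 03=(1,2)
          have d13 := two_pair T (by norm_num : 2 < 4) ((pairEmb 1 3 (by decide)).trans v) (fun _ => hv _)
          change (N T v 1 3 = 0 ∧ N T v 3 1 = 0) ∨ (N T v 1 3 = 1 ∧ N T v 3 1 = 1) ∨ (N T v 1 3 = 1 ∧ N T v 3 1 = 2) ∨ (N T v 1 3 = 2 ∧ N T v 3 1 = 1) ∨ (N T v 1 3 = 1 ∧ N T v 3 1 = 3) ∨ (N T v 1 3 = 3 ∧ N T v 3 1 = 1) at d13
          rw [← hx13, ← hx31] at d13
          rcases d13 with ⟨rfl, rfl⟩ | ⟨rfl, rfl⟩ | ⟨rfl, rfl⟩ | ⟨rfl, rfl⟩ | ⟨rfl, rfl⟩ | ⟨rfl, rfl⟩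
          · -- 13=(0,0)
            have d23 := two_pair T (by norm_num : 2 < 4) ((pairEmb 2 3 (by decide)).trans v) (fun _ => hv _)
            change (N T v 2 3 = 0 ∧ N T v 3 2 = 0) ∨ (N T v 2 3 = 1 ∧ N T v 3 2 = 1) ∨ (N T v 2 3 = 1 ∧ N T v 3 2 = 2) ∨ (N T v 2 3 = 2 ∧ N T v 3 2 = 1) ∨ (N T v 2 3 = 1 ∧ N T v 3 2 = 3) ∨ (N T v 2 3 = 3 ∧ N T v 3 2 = 1) at d23
            rw [← hx23, ← hx32] at d23
            rcases d23 with ⟨rfl, rfl⟩ | ⟨rfl, rfl⟩ | ⟨rfl, rfl⟩ | ⟨rfl, rfl⟩ | ⟨rfl, rfl⟩ | ⟨rfl, rfl⟩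
            · -- 23=(0,0)
              exfalso; omega
            · -- 23=(1,1)
              exact False.elim (cert_false T ((skipEmb 1).trans v) (by norm_num) (fun _ => hv _) (((((((LB_zero T ((skipEmb 1).trans v)).upd 0 1 1 (le_of_eq hx02)).upd 0 2 1 (le_of_eq hx03)).upd 1 0 1 (le_of_eq hx20)).upd 1 2 1 (le_of_eq hx23)).upd 2 0 2 (le_of_eq hx30)).upd 2 1 1 (le_of_eq hx32)) ![1,1,1] (by decide) (by decide) 0 (by decide))
            · -- 23=(1,2)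
              exact False.elim (cert_false T ((skipEmb 1).trans v) (by norm_num) (fun _ => hv _) (((((((LB_zero T ((skipEmb 1).trans v)).upd 0 1 1 (le_of_eq hx02)).upd 0 2 1 (le_of_eq hx03)).upd 1 0 1 (le_of_eq hx20)).upd 1 2 1 (le_of_eq hx23)).upd 2 0 2 (le_of_eq hx30)).upd 2 1 2 (le_of_eq hx32)) ![1,1,1] (by decide) (by decide) 0 (by decide))
            · -- 23=(2,1)
              exact False.elim (cert_false T ((skipEmb 1).trans v) (by norm_num) (fun _ => hv _) (((((((LB_zero T ((skipEmb 1).trans v)).upd 0 1 1 (le_of_eq hx02)).upd 0 2 1 (le_of_eq hx03)).upd 1 0 1 (le_of_eq hx20)).upd 1 2 2 (le_of_eq hx23)).upd 2 0 2 (le_of_eq hx30)).upd 2 1 1 (le_of_eq hx32)) ![1,1,1] (by decide) (by decide) 0 (by decide))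
            · -- 23=(1,3)
              exact False.elim (cert_false T ((skipEmb 1).trans v) (by norm_num) (fun _ => hv _) (((((((LB_zero T ((skipEmb 1).trans v)).upd 0 1 1 (le_of_eq hx02)).upd 0 2 1 (le_of_eq hx03)).upd 1 0 1 (le_of_eq hx20)).upd 1 2 1 (le_of_eq hx23)).upd 2 0 2 (le_of_eq hx30)).upd 2 1 3 (le_of_eq hx32)) ![1,1,1] (by decide) (by decide) 0 (by decide))
            · -- 23=(3,1)
              exact False.elim (cert_false T ((skipEmb 1).trans v) (by norm_num) (fun _ => hv _) (((((((LB_zero T ((skipEmb 1).trans v)).upd 0 1 1 (le_of_eq hx02)).upd 0 2 1 (le_of_eq hx03)).upd 1 0 1 (le_of_eq hx20)).upd 1 2 3 (le_of_eq hx23)).upd 2 0 2 (le_of_eq hx30)).upd 2 1 1 (le_of_eq hx32)) ![1,1,1] (by decide) (by decide) 0 (by decide))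
          · -- 13=(1,1)
            have d23 := two_pair T (by norm_num : 2 < 4) ((pairEmb 2 3 (by decide)).trans v) (fun _ => hv _)
            change (N T v 2 3 = 0 ∧ N T v 3 2 = 0) ∨ (N T v 2 3 = 1 ∧ N T v 3 2 = 1) ∨ (N T v 2 3 = 1 ∧ N T v 3 2 = 2) ∨ (N T v 2 3 = 2 ∧ N T v 3 2 = 1) ∨ (N T v 2 3 = 1 ∧ N T v 3 2 = 3) ∨ (N T v 2 3 = 3 ∧ N T v 3 2 = 1) at d23
            rw [← hx23, ← hx32] at d23
            rcases d23 with ⟨rfl, rfl⟩ | ⟨rfl, rfl⟩ | ⟨rfl, rfl⟩ | ⟨rfl, rfl⟩ | ⟨rfl, rfl⟩ | ⟨rfl, rfl⟩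
            · -- 23=(0,0)
              exfalso; omega
            · -- 23=(1,1)
              exact False.elim (cert_false T ((skipEmb 1).trans v) (by norm_num) (fun _ => hv _) (((((((LB_zero T ((skipEmb 1).trans v)).upd 0 1 1 (le_of_eq hx02)).upd 0 2 1 (le_of_eq hx03)).upd 1 0 1 (le_of_eq hx20)).upd 1 2 1 (le_of_eq hx23)).upd 2 0 2 (le_of_eq hx30)).upd 2 1 1 (le_of_eq hx32)) ![1,1,1] (by decide) (by decide) 0 (by decide))
            · -- 23=(1,2)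
              exact False.elim (cert_false T ((skipEmb 1).trans v) (by norm_num) (fun _ => hv _) (((((((LB_zero T ((skipEmb 1).trans v)).upd 0 1 1 (le_of_eq hx02)).upd 0 2 1 (le_of_eq hx03)).upd 1 0 1 (le_of_eq hx20)).upd 1 2 1 (le_of_eq hx23)).upd 2 0 2 (le_of_eq hx30)).upd 2 1 2 (le_of_eq hx32)) ![1,1,1] (by decide) (by decide) 0 (by decide))
            · -- 23=(2,1)
              exact False.elim (cert_false T ((skipEmb 1).trans v) (by norm_num) (fun _ => hv _) (((((((LB_zero T ((skipEmb 1).trans v)).upd 0 1 1 (le_of_eq hx02)).upd 0 2 1 (le_of_eq hx03)).upd 1 0 1 (le_of_eq hx20)).upd 1 2 2 (le_of_eq hx23)).upd 2 0 2 (le_of_eq hx30)).upd 2 1 1 (le_of_eq hx32)) ![1,1,1] (by decide) (by decide) 0 (by decide))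
            · -- 23=(1,3)
              exact False.elim (cert_false T ((skipEmb 1).trans v) (by norm_num) (fun _ => hv _) (((((((LB_zero T ((skipEmb 1).trans v)).upd 0 1 1 (le_of_eq hx02)).upd 0 2 1 (le_of_eq hx03)).upd 1 0 1 (le_of_eq hx20)).upd 1 2 1 (le_of_eq hx23)).upd 2 0 2 (le_of_eq hx30)).upd 2 1 3 (le_of_eq hx32)) ![1,1,1] (by decide) (by decide) 0 (by decide))
            · -- 23=(3,1)
              exact False.elim (cert_false T ((skipEmb 1).trans v) (by norm_num) (fun _ => hv _) (((((((LB_zero T ((skipEmb 1).trans v)).upd 0 1 1 (le_of_eq hx02)).upd 0 2 1 (le_of_eq hx03)).upd 1 0 1 (le_of_eq hx20)).upd 1 2 3 (le_of_eq hx23)).upd 2 0 2 (le_of_eq hx30)).upd 2 1 1 (le_of_eq hx32)) ![1,1,1] (by decide) (by decide) 0 (by decide))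
          · -- 13=(1,2)
            exact False.elim (cert_false T ((skipEmb 2).trans v) (by norm_num) (fun _ => hv _) (((((LB_zero T ((skipEmb 2).trans v)).upd 0 2 1 (le_of_eq hx03)).upd 1 2 1 (le_of_eq hx13)).upd 2 0 2 (le_of_eq hx30)).upd 2 1 2 (le_of_eq hx31)) ![1,1,2] (by decide) (by decide) 0 (by decide))
          · -- 13=(2,1)
            exact False.elim (cert_false T ((skipEmb 2).trans v) (by norm_num) (fun _ => hv _) (((((LB_zero T ((skipEmb 2).trans v)).upd 0 2 1 (le_of_eq hx03)).upd 1 2 2 (le_of_eq hx13)).upd 2 0 2 (le_of_eq hx30)).upd 2 1 1 (le_of_eq hx31)) ![1,2,2] (by decide) (by decide) 0 (by decide))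
          · -- 13=(1,3)
            exact False.elim (cert_false T ((skipEmb 2).trans v) (by norm_num) (fun _ => hv _) (((((LB_zero T ((skipEmb 2).trans v)).upd 0 2 1 (le_of_eq hx03)).upd 1 2 1 (le_of_eq hx13)).upd 2 0 2 (le_of_eq hx30)).upd 2 1 3 (le_of_eq hx31)) ![1,1,2] (by decide) (by decide) 0 (by decide))
          · -- 13=(3,1)
            exact False.elim (cert_false T ((skipEmb 2).trans v) (by norm_num) (fun _ => hv _) (((((LB_zero T ((skipEmb 2).trans v)).upd 0 2 1 (le_of_eq hx03)).upd 1 2 3 (le_of_eq hx13)).upd 2 0 2 (le_of_eq hx30)).upd 2 1 1 (le_of_eq hx31)) ![1,2,2] (by decide) (by decide) 0 (by decide))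
        · -- 03=(2,1)
          have d13 := two_pair T (by norm_num : 2 < 4) ((pairEmb 1 3 (by decide)).trans v) (fun _ => hv _)
          change (N T v 1 3 = 0 ∧ N T v 3 1 = 0) ∨ (N T v 1 3 = 1 ∧ N T v 3 1 = 1) ∨ (N T v 1 3 = 1 ∧ N T v 3 1 = 2) ∨ (N T v 1 3 = 2 ∧ N T v 3 1 = 1) ∨ (N T v 1 3 = 1 ∧ N T v 3 1 = 3) ∨ (N T v 1 3 = 3 ∧ N T v 3 1 = 1) at d13
          rw [← hx13, ← hx31] at d13
          rcases d13 with ⟨rfl, rfl⟩ | ⟨rfl, rfl⟩ | ⟨rfl, rfl⟩ | ⟨rfl, rfl⟩ | ⟨rfl, rfl⟩ | ⟨rfl, rfl⟩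
          · -- 13=(0,0)
            have d23 := two_pair T (by norm_num : 2 < 4) ((pairEmb 2 3 (by decide)).trans v) (fun _ => hv _)
            change (N T v 2 3 = 0 ∧ N T v 3 2 = 0) ∨ (N T v 2 3 = 1 ∧ N T v 3 2 = 1) ∨ (N T v 2 3 = 1 ∧ N T v 3 2 = 2) ∨ (N T v 2 3 = 2 ∧ N T v 3 2 = 1) ∨ (N T v 2 3 = 1 ∧ N T v 3 2 = 3) ∨ (N T v 2 3 = 3 ∧ N T v 3 2 = 1) at d23
            rw [← hx23, ← hx32] at d23
            rcases d23 with ⟨rfl, rfl⟩ | ⟨rfl, rfl⟩ | ⟨rfl, rfl⟩ | ⟨rfl, rfl⟩ | ⟨rfl, rfl⟩ | ⟨rfl, rfl⟩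
            · -- 23=(0,0)
              exfalso; omega
            · -- 23=(1,1)
              exact False.elim (cert_false T ((skipEmb 1).trans v) (by norm_num) (fun _ => hv _) (((((((LB_zero T ((skipEmb 1).trans v)).upd 0 1 1 (le_of_eq hx02)).upd 0 2 2 (le_of_eq hx03)).upd 1 0 1 (le_of_eq hx20)).upd 1 2 1 (le_of_eq hx23)).upd 2 0 1 (le_of_eq hx30)).upd 2 1 1 (le_of_eq hx32)) ![1,1,1] (by decide) (by decide) 0 (by decide))
            · -- 23=(1,2)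
              exact False.elim (cert_false T ((skipEmb 1).trans v) (by norm_num) (fun _ => hv _) (((((((LB_zero T ((skipEmb 1).trans v)).upd 0 1 1 (le_of_eq hx02)).upd 0 2 2 (le_of_eq hx03)).upd 1 0 1 (le_of_eq hx20)).upd 1 2 1 (le_of_eq hx23)).upd 2 0 1 (le_of_eq hx30)).upd 2 1 2 (le_of_eq hx32)) ![1,1,1] (by decide) (by decide) 0 (by decide))
            · -- 23=(2,1)
              exact False.elim (cert_false T ((skipEmb 1).trans v) (by norm_num) (fun _ => hv _) (((((((LB_zero T ((skipEmb 1).trans v)).upd 0 1 1 (le_of_eq hx02)).upd 0 2 2 (le_of_eq hx03)).upd 1 0 1 (le_of_eq hx20)).upd 1 2 2 (le_of_eq hx23)).upd 2 0 1 (le_of_eq hx30)).upd 2 1 1 (le_of_eq hx32)) ![1,1,1] (by decide) (by decide) 0 (by decide))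
            · -- 23=(1,3)
              exact False.elim (cert_false T ((skipEmb 1).trans v) (by norm_num) (fun _ => hv _) (((((((LB_zero T ((skipEmb 1).trans v)).upd 0 1 1 (le_of_eq hx02)).upd 0 2 2 (le_of_eq hx03)).upd 1 0 1 (le_of_eq hx20)).upd 1 2 1 (le_of_eq hx23)).upd 2 0 1 (le_of_eq hx30)).upd 2 1 3 (le_of_eq hx32)) ![1,1,1] (by decide) (by decide) 0 (by decide))
            · -- 23=(3,1)
              exact False.elim (cert_false T ((skipEmb 1).trans v) (by norm_num) (fun _ => hv _) (((((((LB_zero T ((skipEmb 1).trans v)).upd 0 1 1 (le_of_eq hx02)).upd 0 2 2 (le_of_eq hx03)).upd 1 0 1 (le_of_eq hx20)).upd 1 2 3 (le_of_eq hx23)).upd 2 0 1 (le_of_eq hx30)).upd 2 1 1 (le_of_eq hx32)) ![1,1,1] (by decide) (by decide) 0 (by decide))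
          · -- 13=(1,1)
            have d23 := two_pair T (by norm_num : 2 < 4) ((pairEmb 2 3 (by decide)).trans v) (fun _ => hv _)
            change (N T v 2 3 = 0 ∧ N T v 3 2 = 0) ∨ (N T v 2 3 = 1 ∧ N T v 3 2 = 1) ∨ (N T v 2 3 = 1 ∧ N T v 3 2 = 2) ∨ (N T v 2 3 = 2 ∧ N T v 3 2 = 1) ∨ (N T v 2 3 = 1 ∧ N T v 3 2 = 3) ∨ (N T v 2 3 = 3 ∧ N T v 3 2 = 1) at d23
            rw [← hx23, ← hx32] at d23
            rcases d23 with ⟨rfl, rfl⟩ | ⟨rfl, rfl⟩ | ⟨rfl, rfl⟩ | ⟨rfl, rfl⟩ | ⟨rfl, rfl⟩ | ⟨rfl, rfl⟩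
            · -- 23=(0,0)
              exfalso; omega
            · -- 23=(1,1)
              exact False.elim (cert_false T ((skipEmb 1).trans v) (by norm_num) (fun _ => hv _) (((((((LB_zero T ((skipEmb 1).trans v)).upd 0 1 1 (le_of_eq hx02)).upd 0 2 2 (le_of_eq hx03)).upd 1 0 1 (le_of_eq hx20)).upd 1 2 1 (le_of_eq hx23)).upd 2 0 1 (le_of_eq hx30)).upd 2 1 1 (le_of_eq hx32)) ![1,1,1] (by decide) (by decide) 0 (by decide))
            · -- 23=(1,2)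
              exact False.elim (cert_false T ((skipEmb 1).trans v) (by norm_num) (fun _ => hv _) (((((((LB_zero T ((skipEmb 1).trans v)).upd 0 1 1 (le_of_eq hx02)).upd 0 2 2 (le_of_eq hx03)).upd 1 0 1 (le_of_eq hx20)).upd 1 2 1 (le_of_eq hx23)).upd 2 0 1 (le_of_eq hx30)).upd 2 1 2 (le_of_eq hx32)) ![1,1,1] (by decide) (by decide) 0 (by decide))
            · -- 23=(2,1)
              exact False.elim (cert_false T ((skipEmb 1).trans v) (by norm_num) (fun _ => hv _) (((((((LB_zero T ((skipEmb 1).trans v)).upd 0 1 1 (le_of_eq hx02)).upd 0 2 2 (le_of_eq hx03)).upd 1 0 1 (le_of_eq hx20)).upd 1 2 2 (le_of_eq hx23)).upd 2 0 1 (le_of_eq hx30)).upd 2 1 1 (le_of_eq hx32)) ![1,1,1] (by decide) (by decide) 0 (by decide))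
            · -- 23=(1,3)
              exact False.elim (cert_false T ((skipEmb 1).trans v) (by norm_num) (fun _ => hv _) (((((((LB_zero T ((skipEmb 1).trans v)).upd 0 1 1 (le_of_eq hx02)).upd 0 2 2 (le_of_eq hx03)).upd 1 0 1 (le_of_eq hx20)).upd 1 2 1 (le_of_eq hx23)).upd 2 0 1 (le_of_eq hx30)).upd 2 1 3 (le_of_eq hx32)) ![1,1,1] (by decide) (by decide) 0 (by decide))
            · -- 23=(3,1)
              exact False.elim (cert_false T ((skipEmb 1).trans v) (by norm_num) (fun _ => hv _) (((((((LB_zero T ((skipEmb 1).trans v)).upd 0 1 1 (le_of_eq hx02)).upd 0 2 2 (le_of_eq hx03)).upd 1 0 1 (le_of_eq hx20)).upd 1 2 3 (le_of_eq hx23)).upd 2 0 1 (le_of_eq hx30)).upd 2 1 1 (le_of_eq hx32)) ![1,1,1] (by decide) (by decide) 0 (by decide))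
          · -- 13=(1,2)
            exact False.elim (cert_false T ((skipEmb 2).trans v) (by norm_num) (fun _ => hv _) (((((LB_zero T ((skipEmb 2).trans v)).upd 0 2 2 (le_of_eq hx03)).upd 1 2 1 (le_of_eq hx13)).upd 2 0 1 (le_of_eq hx30)).upd 2 1 2 (le_of_eq hx31)) ![2,1,2] (by decide) (by decide) 0 (by decide))
          · -- 13=(2,1)
            exact False.elim (cert_false T ((skipEmb 2).trans v) (by norm_num) (fun _ => hv _) (((((LB_zero T ((skipEmb 2).trans v)).upd 0 2 2 (le_of_eq hx03)).upd 1 2 2 (le_of_eq hx13)).upd 2 0 1 (le_of_eq hx30)).upd 2 1 1 (le_of_eq hx31)) ![1,1,1] (by decide) (by decide) 0 (by decide))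
          · -- 13=(1,3)
            exact False.elim (cert_false T ((skipEmb 2).trans v) (by norm_num) (fun _ => hv _) (((((LB_zero T ((skipEmb 2).trans v)).upd 0 2 2 (le_of_eq hx03)).upd 1 2 1 (le_of_eq hx13)).upd 2 0 1 (le_of_eq hx30)).upd 2 1 3 (le_of_eq hx31)) ![1,1,2] (by decide) (by decide) 0 (by decide))
          · -- 13=(3,1)
            exact False.elim (cert_false T ((skipEmb 2).trans v) (by norm_num) (fun _ => hv _) (((((LB_zero T ((skipEmb 2).trans v)).upd 0 2 2 (le_of_eq hx03)).upd 1 2 3 (le_of_eq hx13)).upd 2 0 1 (le_of_eq hx30)).upd 2 1 1 (le_of_eq hx31)) ![1,1,1] (by decide) (by decide) 0 (by decide))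
        · -- 03=(1,3)
          exact False.elim (cert_false T ((skipEmb 1).trans v) (by norm_num) (fun _ => hv _) (((((LB_zero T ((skipEmb 1).trans v)).upd 0 1 1 (le_of_eq hx02)).upd 0 2 1 (le_of_eq hx03)).upd 1 0 1 (le_of_eq hx20)).upd 2 0 3 (le_of_eq hx30)) ![2,1,3] (by decide) (by decide) 0 (by decide))
        · -- 03=(3,1)
          exact False.elim (cert_false T ((skipEmb 1).trans v) (by norm_num) (fun _ => hv _) (((((LB_zero T ((skipEmb 1).trans v)).upd 0 1 1 (le_of_eq hx02)).upd 0 2 3 (le_of_eq hx03)).upd 1 0 1 (le_of_eq hx20)).upd 2 0 1 (le_of_eq hx30)) ![2,1,1] (by decide) (by decide) 0 (by decide))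
      · -- 12=(1,2)
        have d03 := two_pair T (by norm_num : 2 < 4) ((pairEmb 0 3 (by decide)).trans v) (fun _ => hv _)
        change (N T v 0 3 = 0 ∧ N T v 3 0 = 0) ∨ (N T v 0 3 = 1 ∧ N T v 3 0 = 1) ∨ (N T v 0 3 = 1 ∧ N T v 3 0 = 2) ∨ (N T v 0 3 = 2 ∧ N T v 3 0 = 1) ∨ (N T v 0 3 = 1 ∧ N T v 3 0 = 3) ∨ (N T v 0 3 = 3 ∧ N T v 3 0 = 1) at d03
        rw [← hx03, ← hx30] at d03
        rcases d03 with ⟨rfl, rfl⟩ | ⟨rfl, rfl⟩ | ⟨rfl, rfl⟩ | ⟨rfl, rfl⟩ | ⟨rfl, rfl⟩ | ⟨rfl, rfl⟩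
        · -- 03=(0,0)
          have d13 := two_pair T (by norm_num : 2 < 4) ((pairEmb 1 3 (by decide)).trans v) (fun _ => hv _)
          change (N T v 1 3 = 0 ∧ N T v 3 1 = 0) ∨ (N T v 1 3 = 1 ∧ N T v 3 1 = 1) ∨ (N T v 1 3 = 1 ∧ N T v 3 1 = 2) ∨ (N T v 1 3 = 2 ∧ N T v 3 1 = 1) ∨ (N T v 1 3 = 1 ∧ N T v 3 1 = 3) ∨ (N T v 1 3 = 3 ∧ N T v 3 1 = 1) at d13
          rw [← hx13, ← hx31] at d13
          rcases d13 with ⟨rfl, rfl⟩ | ⟨rfl, rfl⟩ | ⟨rfl, rfl⟩ | ⟨rfl, rfl⟩ | ⟨rfl, rfl⟩ | ⟨rfl, rfl⟩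
          · -- 13=(0,0)
            have d23 := two_pair T (by norm_num : 2 < 4) ((pairEmb 2 3 (by decide)).trans v) (fun _ => hv _)
            change (N T v 2 3 = 0 ∧ N T v 3 2 = 0) ∨ (N T v 2 3 = 1 ∧ N T v 3 2 = 1) ∨ (N T v 2 3 = 1 ∧ N T v 3 2 = 2) ∨ (N T v 2 3 = 2 ∧ N T v 3 2 = 1) ∨ (N T v 2 3 = 1 ∧ N T v 3 2 = 3) ∨ (N T v 2 3 = 3 ∧ N T v 3 2 = 1) at d23
            rw [← hx23, ← hx32] at d23
            rcases d23 with ⟨rfl, rfl⟩ | ⟨rfl, rfl⟩ | ⟨rfl, rfl⟩ | ⟨rfl, rfl⟩ | ⟨rfl, rfl⟩ | ⟨rfl, rfl⟩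
            · -- 23=(0,0)
              exfalso; omega
            · -- 23=(1,1)
              refine ⟨(⟨![2, 0, 3, 1], ![1, 3, 0, 2], by decide, by decide⟩ : Equiv.Perm (Fin 4)), T.m 0, T.w 2, Or.inr (Or.inr (Or.inr (Or.inr (Or.inl ?_))))⟩
              show T.m 2 = 2 * T.m 0 ∧ T.m 0 = T.m 0 ∧ T.m 3 = T.m 0 ∧ T.m 1 = T.m 0 ∧ T.w 2 = T.w 2 ∧ T.w 0 = T.w 2 ∧ T.w 3 = T.w 2 ∧ T.w 1 = 2 * T.w 2 ∧ T.a 2 2 = -2 * T.w 2 ∧ T.a 2 0 = T.w 2 ∧ T.a 2 3 = T.w 2 ∧ T.a 2 1 = 2 * T.w 2 ∧ T.a 0 0 = -2 * T.w 2 ∧ T.a 0 3 = 0 ∧ T.a 0 1 = 0 ∧ T.a 3 3 = -2 * T.w 2 ∧ T.a 3 1 = 0 ∧ T.a 1 1 = -4 * T.w 2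
              refine ⟨?_, ?_, ?_, ?_, ?_, ?_, ?_, ?_, ?_, ?_, ?_, ?_, ?_, ?_, ?_, ?_, ?_, ?_⟩ <;> omega
            · -- 23=(1,2)
              exact False.elim (cert_false T ((skipEmb 0).trans v) (by norm_num) (fun _ => hv _) (((((LB_zero T ((skipEmb 0).trans v)).upd 0 1 1 (le_of_eq hx12)).upd 1 0 2 (le_of_eq hx21)).upd 1 2 1 (le_of_eq hx23)).upd 2 1 2 (le_of_eq hx32)) ![1,2,2] (by decide) (by decide) 0 (by decide))
            · -- 23=(2,1)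
              exact False.elim (cert_false T ((skipEmb 0).trans v) (by norm_num) (fun _ => hv _) (((((LB_zero T ((skipEmb 0).trans v)).upd 0 1 1 (le_of_eq hx12)).upd 1 0 2 (le_of_eq hx21)).upd 1 2 2 (le_of_eq hx23)).upd 2 1 1 (le_of_eq hx32)) ![1,2,1] (by decide) (by decide) 0 (by decide))
            · -- 23=(1,3)
              exact False.elim (cert_false T ((skipEmb 1).trans v) (by norm_num) (fun _ => hv _) (((((LB_zero T ((skipEmb 1).trans v)).upd 0 1 1 (le_of_eq hx02)).upd 1 0 1 (le_of_eq hx20)).upd 1 2 1 (le_of_eq hx23)).upd 2 1 3 (le_of_eq hx32)) ![1,2,3] (by decide) (by decide) 0 (by decide))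
            · -- 23=(3,1)
              exact False.elim (cert_false T ((skipEmb 1).trans v) (by norm_num) (fun _ => hv _) (((((LB_zero T ((skipEmb 1).trans v)).upd 0 1 1 (le_of_eq hx02)).upd 1 0 1 (le_of_eq hx20)).upd 1 2 3 (le_of_eq hx23)).upd 2 1 1 (le_of_eq hx32)) ![1,2,1] (by decide) (by decide) 0 (by decide))
          · -- 13=(1,1)
            have d23 := two_pair T (by norm_num : 2 < 4) ((pairEmb 2 3 (by decide)).trans v) (fun _ => hv _)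
            change (N T v 2 3 = 0 ∧ N T v 3 2 = 0) ∨ (N T v 2 3 = 1 ∧ N T v 3 2 = 1) ∨ (N T v 2 3 = 1 ∧ N T v 3 2 = 2) ∨ (N T v 2 3 = 2 ∧ N T v 3 2 = 1) ∨ (N T v 2 3 = 1 ∧ N T v 3 2 = 3) ∨ (N T v 2 3 = 3 ∧ N T v 3 2 = 1) at d23
            rw [← hx23, ← hx32] at d23
            rcases d23 with ⟨rfl, rfl⟩ | ⟨rfl, rfl⟩ | ⟨rfl, rfl⟩ | ⟨rfl, rfl⟩ | ⟨rfl, rfl⟩ | ⟨rfl, rfl⟩
            · -- 23=(0,0)
              exfalso; omega
            · -- 23=(1,1)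
              exact False.elim (cert_false T ((skipEmb 0).trans v) (by norm_num) (fun _ => hv _) (((((((LB_zero T ((skipEmb 0).trans v)).upd 0 1 1 (le_of_eq hx12)).upd 0 2 1 (le_of_eq hx13)).upd 1 0 2 (le_of_eq hx21)).upd 1 2 1 (le_of_eq hx23)).upd 2 0 1 (le_of_eq hx31)).upd 2 1 1 (le_of_eq hx32)) ![1,1,1] (by decide) (by decide) 0 (by decide))
            · -- 23=(1,2)
              exact False.elim (cert_false T ((skipEmb 0).trans v) (by norm_num) (fun _ => hv _) (((((((LB_zero T ((skipEmb 0).trans v)).upd 0 1 1 (le_of_eq hx12)).upd 0 2 1 (le_of_eq hx13)).upd 1 0 2 (le_of_eq hx21)).upd 1 2 1 (le_of_eq hx23)).upd 2 0 1 (le_of_eq hx31)).upd 2 1 2 (le_of_eq hx32)) ![1,1,1] (by decide) (by decide) 0 (by decide))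
            · -- 23=(2,1)
              exact False.elim (cert_false T ((skipEmb 0).trans v) (by norm_num) (fun _ => hv _) (((((((LB_zero T ((skipEmb 0).trans v)).upd 0 1 1 (le_of_eq hx12)).upd 0 2 1 (le_of_eq hx13)).upd 1 0 2 (le_of_eq hx21)).upd 1 2 2 (le_of_eq hx23)).upd 2 0 1 (le_of_eq hx31)).upd 2 1 1 (le_of_eq hx32)) ![1,1,1] (by decide) (by decide) 0 (by decide))
            · -- 23=(1,3)
              exact False.elim (cert_false T ((skipEmb 1).trans v) (by norm_num) (fun _ => hv _) (((((LB_zero T ((skipEmb 1).trans v)).upd 0 1 1 (le_of_eq hx02)).upd 1 0 1 (le_of_eq hx20)).upd 1 2 1 (le_of_eq hx23)).upd 2 1 3 (le_of_eq hx32)) ![1,2,3] (by decide) (by decide) 0 (by decide))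
            · -- 23=(3,1)
              exact False.elim (cert_false T ((skipEmb 1).trans v) (by norm_num) (fun _ => hv _) (((((LB_zero T ((skipEmb 1).trans v)).upd 0 1 1 (le_of_eq hx02)).upd 1 0 1 (le_of_eq hx20)).upd 1 2 3 (le_of_eq hx23)).upd 2 1 1 (le_of_eq hx32)) ![1,2,1] (by decide) (by decide) 0 (by decide))
          · -- 13=(1,2)
            exact False.elim (cert_false T ((skipEmb 0).trans v) (by norm_num) (fun _ => hv _) (((((LB_zero T ((skipEmb 0).trans v)).upd 0 1 1 (le_of_eq hx12)).upd 0 2 1 (le_of_eq hx13)).upd 1 0 2 (le_of_eq hx21)).upd 2 0 2 (le_of_eq hx31)) ![1,1,1] (by decide) (by decide) 0 (by decide))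
          · -- 13=(2,1)
            exact False.elim (cert_false T ((skipEmb 0).trans v) (by norm_num) (fun _ => hv _) (((((LB_zero T ((skipEmb 0).trans v)).upd 0 1 1 (le_of_eq hx12)).upd 0 2 2 (le_of_eq hx13)).upd 1 0 2 (le_of_eq hx21)).upd 2 0 1 (le_of_eq hx31)) ![2,2,1] (by decide) (by decide) 0 (by decide))
          · -- 13=(1,3)
            exact False.elim (cert_false T ((skipEmb 0).trans v) (by norm_num) (fun _ => hv _) (((((LB_zero T ((skipEmb 0).trans v)).upd 0 1 1 (le_of_eq hx12)).upd 0 2 1 (le_of_eq hx13)).upd 1 0 2 (le_of_eq hx21)).upd 2 0 3 (le_of_eq hx31)) ![1,1,1] (by decide) (by decide) 0 (by decide))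
          · -- 13=(3,1)
            exact False.elim (cert_false T ((skipEmb 0).trans v) (by norm_num) (fun _ => hv _) (((((LB_zero T ((skipEmb 0).trans v)).upd 0 1 1 (le_of_eq hx12)).upd 0 2 3 (le_of_eq hx13)).upd 1 0 2 (le_of_eq hx21)).upd 2 0 1 (le_of_eq hx31)) ![2,1,1] (by decide) (by decide) 0 (by decide))
        · -- 03=(1,1)
          have d13 := two_pair T (by norm_num : 2 < 4) ((pairEmb 1 3 (by decide)).trans v) (fun _ => hv _)
          change (N T v 1 3 = 0 ∧ N T v 3 1 = 0) ∨ (N T v 1 3 = 1 ∧ N T v 3 1 = 1) ∨ (N T v 1 3 = 1 ∧ N T v 3 1 = 2) ∨ (N T v 1 3 = 2 ∧ N T v 3 1 = 1) ∨ (N T v 1 3 = 1 ∧ N T v 3 1 = 3) ∨ (N T v 1 3 = 3 ∧ N T v 3 1 = 1) at d13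
          rw [← hx13, ← hx31] at d13
          rcases d13 with ⟨rfl, rfl⟩ | ⟨rfl, rfl⟩ | ⟨rfl, rfl⟩ | ⟨rfl, rfl⟩ | ⟨rfl, rfl⟩ | ⟨rfl, rfl⟩
          · -- 13=(0,0)
            have d23 := two_pair T (by norm_num : 2 < 4) ((pairEmb 2 3 (by decide)).trans v) (fun _ => hv _)
            change (N T v 2 3 = 0 ∧ N T v 3 2 = 0) ∨ (N T v 2 3 = 1 ∧ N T v 3 2 = 1) ∨ (N T v 2 3 = 1 ∧ N T v 3 2 = 2) ∨ (N T v 2 3 = 2 ∧ N T v 3 2 = 1) ∨ (N T v 2 3 = 1 ∧ N T v 3 2 = 3) ∨ (N T v 2 3 = 3 ∧ N T v 3 2 = 1) at d23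
            rw [← hx23, ← hx32] at d23
            rcases d23 with ⟨rfl, rfl⟩ | ⟨rfl, rfl⟩ | ⟨rfl, rfl⟩ | ⟨rfl, rfl⟩ | ⟨rfl, rfl⟩ | ⟨rfl, rfl⟩
            · -- 23=(0,0)
              exfalso; omega
            · -- 23=(1,1)
              exact False.elim (cert_false T ((skipEmb 1).trans v) (by norm_num) (fun _ => hv _) (((((((LB_zero T ((skipEmb 1).trans v)).upd 0 1 1 (le_of_eq hx02)).upd 0 2 1 (le_of_eq hx03)).upd 1 0 1 (le_of_eq hx20)).upd 1 2 1 (le_of_eq hx23)).upd 2 0 1 (le_of_eq hx30)).upd 2 1 1 (le_of_eq hx32)) ![1,1,1] (by decide) (by decide) 0 (by decide))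
            · -- 23=(1,2)
              exact False.elim (cert_false T ((skipEmb 1).trans v) (by norm_num) (fun _ => hv _) (((((((LB_zero T ((skipEmb 1).trans v)).upd 0 1 1 (le_of_eq hx02)).upd 0 2 1 (le_of_eq hx03)).upd 1 0 1 (le_of_eq hx20)).upd 1 2 1 (le_of_eq hx23)).upd 2 0 1 (le_of_eq hx30)).upd 2 1 2 (le_of_eq hx32)) ![1,1,1] (by decide) (by decide) 0 (by decide))
            · -- 23=(2,1)
              exact False.elim (cert_false T ((skipEmb 1).trans v) (by norm_num) (fun _ => hv _) (((((((LB_zero T ((skipEmb 1).trans v)).upd 0 1 1 (le_of_eq hx02)).upd 0 2 1 (le_of_eq hx03)).upd 1 0 1 (le_of_eq hx20)).upd 1 2 2 (le_of_eq hx23)).upd 2 0 1 (le_of_eq hx30)).upd 2 1 1 (le_of_eq hx32)) ![1,1,1] (by decide) (by decide) 0 (by decide))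
            · -- 23=(1,3)
              exact False.elim (cert_false T ((skipEmb 1).trans v) (by norm_num) (fun _ => hv _) (((((((LB_zero T ((skipEmb 1).trans v)).upd 0 1 1 (le_of_eq hx02)).upd 0 2 1 (le_of_eq hx03)).upd 1 0 1 (le_of_eq hx20)).upd 1 2 1 (le_of_eq hx23)).upd 2 0 1 (le_of_eq hx30)).upd 2 1 3 (le_of_eq hx32)) ![1,1,1] (by decide) (by decide) 0 (by decide))
            · -- 23=(3,1)
              exact False.elim (cert_false T ((skipEmb 1).trans v) (by norm_num) (fun _ => hv _) (((((((LB_zero T ((skipEmb 1).trans v)).upd 0 1 1 (le_of_eq hx02)).upd 0 2 1 (le_of_eq hx03)).upd 1 0 1 (le_of_eq hx20)).upd 1 2 3 (le_of_eq hx23)).upd 2 0 1 (le_of_eq hx30)).upd 2 1 1 (le_of_eq hx32)) ![1,1,1] (by decide) (by decide) 0 (by decide))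
          · -- 13=(1,1)
            have d23 := two_pair T (by norm_num : 2 < 4) ((pairEmb 2 3 (by decide)).trans v) (fun _ => hv _)
            change (N T v 2 3 = 0 ∧ N T v 3 2 = 0) ∨ (N T v 2 3 = 1 ∧ N T v 3 2 = 1) ∨ (N T v 2 3 = 1 ∧ N T v 3 2 = 2) ∨ (N T v 2 3 = 2 ∧ N T v 3 2 = 1) ∨ (N T v 2 3 = 1 ∧ N T v 3 2 = 3) ∨ (N T v 2 3 = 3 ∧ N T v 3 2 = 1) at d23
            rw [← hx23, ← hx32] at d23
            rcases d23 with ⟨rfl, rfl⟩ | ⟨rfl, rfl⟩ | ⟨rfl, rfl⟩ | ⟨rfl, rfl⟩ | ⟨rfl, rfl⟩ | ⟨rfl, rfl⟩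
            · -- 23=(0,0)
              exfalso; omega
            · -- 23=(1,1)
              exact False.elim (cert_false T ((skipEmb 1).trans v) (by norm_num) (fun _ => hv _) (((((((LB_zero T ((skipEmb 1).trans v)).upd 0 1 1 (le_of_eq hx02)).upd 0 2 1 (le_of_eq hx03)).upd 1 0 1 (le_of_eq hx20)).upd 1 2 1 (le_of_eq hx23)).upd 2 0 1 (le_of_eq hx30)).upd 2 1 1 (le_of_eq hx32)) ![1,1,1] (by decide) (by decide) 0 (by decide))
            · -- 23=(1,2)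
              exact False.elim (cert_false T ((skipEmb 1).trans v) (by norm_num) (fun _ => hv _) (((((((LB_zero T ((skipEmb 1).trans v)).upd 0 1 1 (le_of_eq hx02)).upd 0 2 1 (le_of_eq hx03)).upd 1 0 1 (le_of_eq hx20)).upd 1 2 1 (le_of_eq hx23)).upd 2 0 1 (le_of_eq hx30)).upd 2 1 2 (le_of_eq hx32)) ![1,1,1] (by decide) (by decide) 0 (by decide))
            · -- 23=(2,1)
              exact False.elim (cert_false T ((skipEmb 1).trans v) (by norm_num) (fun _ => hv _) (((((((LB_zero T ((skipEmb 1).trans v)).upd 0 1 1 (le_of_eq hx02)).upd 0 2 1 (le_of_eq hx03)).upd 1 0 1 (le_of_eq hx20)).upd 1 2 2 (le_of_eq hx23)).upd 2 0 1 (le_of_eq hx30)).upd 2 1 1 (le_of_eq hx32)) ![1,1,1] (by decide) (by decide) 0 (by decide))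
            · -- 23=(1,3)
              exact False.elim (cert_false T ((skipEmb 1).trans v) (by norm_num) (fun _ => hv _) (((((((LB_zero T ((skipEmb 1).trans v)).upd 0 1 1 (le_of_eq hx02)).upd 0 2 1 (le_of_eq hx03)).upd 1 0 1 (le_of_eq hx20)).upd 1 2 1 (le_of_eq hx23)).upd 2 0 1 (le_of_eq hx30)).upd 2 1 3 (le_of_eq hx32)) ![1,1,1] (by decide) (by decide) 0 (by decide))
            · -- 23=(3,1)
              exact False.elim (cert_false T ((skipEmb 1).trans v) (by norm_num) (fun _ => hv _) (((((((LB_zero T ((skipEmb 1).trans v)).upd 0 1 1 (le_of_eq hx02)).upd 0 2 1 (le_of_eq hx03)).upd 1 0 1 (le_of_eq hx20)).upd 1 2 3 (le_of_eq hx23)).upd 2 0 1 (le_of_eq hx30)).upd 2 1 1 (le_of_eq hx32)) ![1,1,1] (by decide) (by decide) 0 (by decide))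
          · -- 13=(1,2)
            exact False.elim (cert_false T ((skipEmb 0).trans v) (by norm_num) (fun _ => hv _) (((((LB_zero T ((skipEmb 0).trans v)).upd 0 1 1 (le_of_eq hx12)).upd 0 2 1 (le_of_eq hx13)).upd 1 0 2 (le_of_eq hx21)).upd 2 0 2 (le_of_eq hx31)) ![1,1,1] (by decide) (by decide) 0 (by decide))
          · -- 13=(2,1)
            exact False.elim (cert_false T ((skipEmb 0).trans v) (by norm_num) (fun _ => hv _) (((((LB_zero T ((skipEmb 0).trans v)).upd 0 1 1 (le_of_eq hx12)).upd 0 2 2 (le_of_eq hx13)).upd 1 0 2 (le_of_eq hx21)).upd 2 0 1 (le_of_eq hx31)) ![2,2,1] (by decide) (by decide) 0 (by decide))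
          · -- 13=(1,3)
            exact False.elim (cert_false T ((skipEmb 2).trans v) (by norm_num) (fun _ => hv _) (((((LB_zero T ((skipEmb 2).trans v)).upd 0 2 1 (le_of_eq hx03)).upd 1 2 1 (le_of_eq hx13)).upd 2 0 1 (le_of_eq hx30)).upd 2 1 3 (le_of_eq hx31)) ![1,1,2] (by decide) (by decide) 0 (by decide))
          · -- 13=(3,1)
            exact False.elim (cert_false T ((skipEmb 2).trans v) (by norm_num) (fun _ => hv _) (((((LB_zero T ((skipEmb 2).trans v)).upd 0 2 1 (le_of_eq hx03)).upd 1 2 3 (le_of_eq hx13)).upd 2 0 1 (le_of_eq hx30)).upd 2 1 1 (le_of_eq hx31)) ![1,3,2] (by decide) (by decide) 0 (by decide))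
        · -- 03=(1,2)
          have d13 := two_pair T (by norm_num : 2 < 4) ((pairEmb 1 3 (by decide)).trans v) (fun _ => hv _)
          change (N T v 1 3 = 0 ∧ N T v 3 1 = 0) ∨ (N T v 1 3 = 1 ∧ N T v 3 1 = 1) ∨ (N T v 1 3 = 1 ∧ N T v 3 1 = 2) ∨ (N T v 1 3 = 2 ∧ N T v 3 1 = 1) ∨ (N T v 1 3 = 1 ∧ N T v 3 1 = 3) ∨ (N T v 1 3 = 3 ∧ N T v 3 1 = 1) at d13
          rw [← hx13, ← hx31] at d13
          rcases d13 with ⟨rfl, rfl⟩ | ⟨rfl, rfl⟩ | ⟨rfl, rfl⟩ | ⟨rfl, rfl⟩ | ⟨rfl, rfl⟩ | ⟨rfl, rfl⟩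
          · -- 13=(0,0)
            have d23 := two_pair T (by norm_num : 2 < 4) ((pairEmb 2 3 (by decide)).trans v) (fun _ => hv _)
            change (N T v 2 3 = 0 ∧ N T v 3 2 = 0) ∨ (N T v 2 3 = 1 ∧ N T v 3 2 = 1) ∨ (N T v 2 3 = 1 ∧ N T v 3 2 = 2) ∨ (N T v 2 3 = 2 ∧ N T v 3 2 = 1) ∨ (N T v 2 3 = 1 ∧ N T v 3 2 = 3) ∨ (N T v 2 3 = 3 ∧ N T v 3 2 = 1) at d23
            rw [← hx23, ← hx32] at d23
            rcases d23 with ⟨rfl, rfl⟩ | ⟨rfl, rfl⟩ | ⟨rfl, rfl⟩ | ⟨rfl, rfl⟩ | ⟨rfl, rfl⟩ | ⟨rfl, rfl⟩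
            · -- 23=(0,0)
              refine ⟨(⟨![3, 0, 2, 1], ![1, 3, 2, 0], by decide, by decide⟩ : Equiv.Perm (Fin 4)), T.m 1, T.w 3, Or.inr (Or.inl ?_)⟩
              show T.m 3 = 2 * T.m 1 ∧ T.m 0 = 2 * T.m 1 ∧ T.m 2 = 2 * T.m 1 ∧ T.m 1 = T.m 1 ∧ T.w 3 = T.w 3 ∧ T.w 0 = 2 * T.w 3 ∧ T.w 2 = 2 * T.w 3 ∧ T.w 1 = 4 * T.w 3 ∧ T.a 3 3 = -2 * T.w 3 ∧ T.a 3 0 = 2 * T.w 3 ∧ T.a 3 2 = 0 ∧ T.a 3 1 = 0 ∧ T.a 0 0 = -4 * T.w 3 ∧ T.a 0 2 = 2 * T.w 3 ∧ T.a 0 1 = 0 ∧ T.a 2 2 = -4 * T.w 3 ∧ T.a 2 1 = 4 * T.w 3 ∧ T.a 1 1 = -8 * T.w 3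
              refine ⟨?_, ?_, ?_, ?_, ?_, ?_, ?_, ?_, ?_, ?_, ?_, ?_, ?_, ?_, ?_, ?_, ?_, ?_⟩ <;> omega
            · -- 23=(1,1)
              exact False.elim (cert_false T ((skipEmb 1).trans v) (by norm_num) (fun _ => hv _) (((((((LB_zero T ((skipEmb 1).trans v)).upd 0 1 1 (le_of_eq hx02)).upd 0 2 1 (le_of_eq hx03)).upd 1 0 1 (le_of_eq hx20)).upd 1 2 1 (le_of_eq hx23)).upd 2 0 2 (le_of_eq hx30)).upd 2 1 1 (le_of_eq hx32)) ![1,1,1] (by decide) (by decide) 0 (by decide))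
            · -- 23=(1,2)
              exact False.elim (cert_false T ((skipEmb 1).trans v) (by norm_num) (fun _ => hv _) (((((((LB_zero T ((skipEmb 1).trans v)).upd 0 1 1 (le_of_eq hx02)).upd 0 2 1 (le_of_eq hx03)).upd 1 0 1 (le_of_eq hx20)).upd 1 2 1 (le_of_eq hx23)).upd 2 0 2 (le_of_eq hx30)).upd 2 1 2 (le_of_eq hx32)) ![1,1,1] (by decide) (by decide) 0 (by decide))
            · -- 23=(2,1)
              exact False.elim (cert_false T ((skipEmb 1).trans v) (by norm_num) (fun _ => hv _) (((((((LB_zero T ((skipEmb 1).trans v)).upd 0 1 1 (le_of_eq hx02)).upd 0 2 1 (le_of_eq hx03)).upd 1 0 1 (le_of_eq hx20)).upd 1 2 2 (le_of_eq hx23)).upd 2 0 2 (le_of_eq hx30)).upd 2 1 1 (le_of_eq hx32)) ![1,1,1] (by decide) (by decide) 0 (by decide))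
            · -- 23=(1,3)
              exact False.elim (cert_false T ((skipEmb 1).trans v) (by norm_num) (fun _ => hv _) (((((((LB_zero T ((skipEmb 1).trans v)).upd 0 1 1 (le_of_eq hx02)).upd 0 2 1 (le_of_eq hx03)).upd 1 0 1 (le_of_eq hx20)).upd 1 2 1 (le_of_eq hx23)).upd 2 0 2 (le_of_eq hx30)).upd 2 1 3 (le_of_eq hx32)) ![1,1,1] (by decide) (by decide) 0 (by decide))
            · -- 23=(3,1)
              exact False.elim (cert_false T ((skipEmb 1).trans v) (by norm_num) (fun _ => hv _) (((((((LB_zero T ((skipEmb 1).trans v)).upd 0 1 1 (le_of_eq hx02)).upd 0 2 1 (le_of_eq hx03)).upd 1 0 1 (le_of_eq hx20)).upd 1 2 3 (le_of_eq hx23)).upd 2 0 2 (le_of_eq hx30)).upd 2 1 1 (le_of_eq hx32)) ![1,1,1] (by decide) (by decide) 0 (by decide))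
          · -- 13=(1,1)
            have d23 := two_pair T (by norm_num : 2 < 4) ((pairEmb 2 3 (by decide)).trans v) (fun _ => hv _)
            change (N T v 2 3 = 0 ∧ N T v 3 2 = 0) ∨ (N T v 2 3 = 1 ∧ N T v 3 2 = 1) ∨ (N T v 2 3 = 1 ∧ N T v 3 2 = 2) ∨ (N T v 2 3 = 2 ∧ N T v 3 2 = 1) ∨ (N T v 2 3 = 1 ∧ N T v 3 2 = 3) ∨ (N T v 2 3 = 3 ∧ N T v 3 2 = 1) at d23
            rw [← hx23, ← hx32] at d23
            rcases d23 with ⟨rfl, rfl⟩ | ⟨rfl, rfl⟩ | ⟨rfl, rfl⟩ | ⟨rfl, rfl⟩ | ⟨rfl, rfl⟩ | ⟨rfl, rfl⟩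
            · -- 23=(0,0)
              exfalso; omega
            · -- 23=(1,1)
              exact False.elim (cert_false T ((skipEmb 1).trans v) (by norm_num) (fun _ => hv _) (((((((LB_zero T ((skipEmb 1).trans v)).upd 0 1 1 (le_of_eq hx02)).upd 0 2 1 (le_of_eq hx03)).upd 1 0 1 (le_of_eq hx20)).upd 1 2 1 (le_of_eq hx23)).upd 2 0 2 (le_of_eq hx30)).upd 2 1 1 (le_of_eq hx32)) ![1,1,1] (by decide) (by decide) 0 (by decide))
            · -- 23=(1,2)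
              exact False.elim (cert_false T ((skipEmb 1).trans v) (by norm_num) (fun _ => hv _) (((((((LB_zero T ((skipEmb 1).trans v)).upd 0 1 1 (le_of_eq hx02)).upd 0 2 1 (le_of_eq hx03)).upd 1 0 1 (le_of_eq hx20)).upd 1 2 1 (le_of_eq hx23)).upd 2 0 2 (le_of_eq hx30)).upd 2 1 2 (le_of_eq hx32)) ![1,1,1] (by decide) (by decide) 0 (by decide))
            · -- 23=(2,1)
              exact False.elim (cert_false T ((skipEmb 1).trans v) (by norm_num) (fun _ => hv _) (((((((LB_zero T ((skipEmb 1).trans v)).upd 0 1 1 (le_of_eq hx02)).upd 0 2 1 (le_of_eq hx03)).upd 1 0 1 (le_of_eq hx20)).upd 1 2 2 (le_of_eq hx23)).upd 2 0 2 (le_of_eq hx30)).upd 2 1 1 (le_of_eq hx32)) ![1,1,1] (by decide) (by decide) 0 (by decide))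
            · -- 23=(1,3)
              exact False.elim (cert_false T ((skipEmb 1).trans v) (by norm_num) (fun _ => hv _) (((((((LB_zero T ((skipEmb 1).trans v)).upd 0 1 1 (le_of_eq hx02)).upd 0 2 1 (le_of_eq hx03)).upd 1 0 1 (le_of_eq hx20)).upd 1 2 1 (le_of_eq hx23)).upd 2 0 2 (le_of_eq hx30)).upd 2 1 3 (le_of_eq hx32)) ![1,1,1] (by decide) (by decide) 0 (by decide))
            · -- 23=(3,1)
              exact False.elim (cert_false T ((skipEmb 1).trans v) (by norm_num) (fun _ => hv _) (((((((LB_zero T ((skipEmb 1).trans v)).upd 0 1 1 (le_of_eq hx02)).upd 0 2 1 (le_of_eq hx03)).upd 1 0 1 (le_of_eq hx20)).upd 1 2 3 (le_of_eq hx23)).upd 2 0 2 (le_of_eq hx30)).upd 2 1 1 (le_of_eq hx32)) ![1,1,1] (by decide) (by decide) 0 (by decide))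
          · -- 13=(1,2)
            exact False.elim (cert_false T ((skipEmb 2).trans v) (by norm_num) (fun _ => hv _) (((((LB_zero T ((skipEmb 2).trans v)).upd 0 2 1 (le_of_eq hx03)).upd 1 2 1 (le_of_eq hx13)).upd 2 0 2 (le_of_eq hx30)).upd 2 1 2 (le_of_eq hx31)) ![1,1,2] (by decide) (by decide) 0 (by decide))
          · -- 13=(2,1)
            exact False.elim (cert_false T ((skipEmb 2).trans v) (by norm_num) (fun _ => hv _) (((((LB_zero T ((skipEmb 2).trans v)).upd 0 2 1 (le_of_eq hx03)).upd 1 2 2 (le_of_eq hx13)).upd 2 0 2 (le_of_eq hx30)).upd 2 1 1 (le_of_eq hx31)) ![1,2,2] (by decide) (by decide) 0 (by decide))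
          · -- 13=(1,3)
            exact False.elim (cert_false T ((skipEmb 2).trans v) (by norm_num) (fun _ => hv _) (((((LB_zero T ((skipEmb 2).trans v)).upd 0 2 1 (le_of_eq hx03)).upd 1 2 1 (le_of_eq hx13)).upd 2 0 2 (le_of_eq hx30)).upd 2 1 3 (le_of_eq hx31)) ![1,1,2] (by decide) (by decide) 0 (by decide))
          · -- 13=(3,1)
            exact False.elim (cert_false T ((skipEmb 2).trans v) (by norm_num) (fun _ => hv _) (((((LB_zero T ((skipEmb 2).trans v)).upd 0 2 1 (le_of_eq hx03)).upd 1 2 3 (le_of_eq hx13)).upd 2 0 2 (le_of_eq hx30)).upd 2 1 1 (le_of_eq hx31)) ![1,2,2] (by decide) (by decide) 0 (by decide))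
        · -- 03=(2,1)
          have d13 := two_pair T (by norm_num : 2 < 4) ((pairEmb 1 3 (by decide)).trans v) (fun _ => hv _)
          change (N T v 1 3 = 0 ∧ N T v 3 1 = 0) ∨ (N T v 1 3 = 1 ∧ N T v 3 1 = 1) ∨ (N T v 1 3 = 1 ∧ N T v 3 1 = 2) ∨ (N T v 1 3 = 2 ∧ N T v 3 1 = 1) ∨ (N T v 1 3 = 1 ∧ N T v 3 1 = 3) ∨ (N T v 1 3 = 3 ∧ N T v 3 1 = 1) at d13
          rw [← hx13, ← hx31] at d13
          rcases d13 with ⟨rfl, rfl⟩ | ⟨rfl, rfl⟩ | ⟨rfl, rfl⟩ | ⟨rfl, rfl⟩ | ⟨rfl, rfl⟩ | ⟨rfl, rfl⟩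
          · -- 13=(0,0)
            have d23 := two_pair T (by norm_num : 2 < 4) ((pairEmb 2 3 (by decide)).trans v) (fun _ => hv _)
            change (N T v 2 3 = 0 ∧ N T v 3 2 = 0) ∨ (N T v 2 3 = 1 ∧ N T v 3 2 = 1) ∨ (N T v 2 3 = 1 ∧ N T v 3 2 = 2) ∨ (N T v 2 3 = 2 ∧ N T v 3 2 = 1) ∨ (N T v 2 3 = 1 ∧ N T v 3 2 = 3) ∨ (N T v 2 3 = 3 ∧ N T v 3 2 = 1) at d23
            rw [← hx23, ← hx32] at d23
            rcases d23 with ⟨rfl, rfl⟩ | ⟨rfl, rfl⟩ | ⟨rfl, rfl⟩ | ⟨rfl, rfl⟩ | ⟨rfl, rfl⟩ | ⟨rfl, rfl⟩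
            · -- 23=(0,0)
              refine ⟨(⟨![1, 2, 0, 3], ![2, 0, 1, 3], by decide, by decide⟩ : Equiv.Perm (Fin 4)), T.m 1, T.w 2, Or.inr (Or.inr (Or.inr (Or.inl ?_)))⟩
              show T.m 1 = T.m 1 ∧ T.m 2 = 2 * T.m 1 ∧ T.m 0 = 2 * T.m 1 ∧ T.m 3 = T.m 1 ∧ T.w 1 = 2 * T.w 2 ∧ T.w 2 = T.w 2 ∧ T.w 0 = T.w 2 ∧ T.w 3 = 2 * T.w 2 ∧ T.a 1 1 = -4 * T.w 2 ∧ T.a 1 2 = 2 * T.w 2 ∧ T.a 1 0 = 0 ∧ T.a 1 3 = 0 ∧ T.a 2 2 = -2 * T.w 2 ∧ T.a 2 0 = T.w 2 ∧ T.a 2 3 = 0 ∧ T.a 0 0 = -2 * T.w 2 ∧ T.a 0 3 = 2 * T.w 2 ∧ T.a 3 3 = -4 * T.w 2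
              refine ⟨?_, ?_, ?_, ?_, ?_, ?_, ?_, ?_, ?_, ?_, ?_, ?_, ?_, ?_, ?_, ?_, ?_, ?_⟩ <;> omega
            · -- 23=(1,1)
              exact False.elim (cert_false T ((skipEmb 1).trans v) (by norm_num) (fun _ => hv _) (((((((LB_zero T ((skipEmb 1).trans v)).upd 0 1 1 (le_of_eq hx02)).upd 0 2 2 (le_of_eq hx03)).upd 1 0 1 (le_of_eq hx20)).upd 1 2 1 (le_of_eq hx23)).upd 2 0 1 (le_of_eq hx30)).upd 2 1 1 (le_of_eq hx32)) ![1,1,1] (by decide) (by decide) 0 (by decide))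
            · -- 23=(1,2)
              exact False.elim (cert_false T ((skipEmb 1).trans v) (by norm_num) (fun _ => hv _) (((((((LB_zero T ((skipEmb 1).trans v)).upd 0 1 1 (le_of_eq hx02)).upd 0 2 2 (le_of_eq hx03)).upd 1 0 1 (le_of_eq hx20)).upd 1 2 1 (le_of_eq hx23)).upd 2 0 1 (le_of_eq hx30)).upd 2 1 2 (le_of_eq hx32)) ![1,1,1] (by decide) (by decide) 0 (by decide))
            · -- 23=(2,1)
              exact False.elim (cert_false T ((skipEmb 1).trans v) (by norm_num) (fun _ => hv _) (((((((LB_zero T ((skipEmb 1).trans v)).upd 0 1 1 (le_of_eq hx02)).upd 0 2 2 (le_of_eq hx03)).upd 1 0 1 (le_of_eq hx20)).upd 1 2 2 (le_of_eq hx23)).upd 2 0 1 (le_of_eq hx30)).upd 2 1 1 (le_of_eq hx32)) ![1,1,1] (by decide) (by decide) 0 (by decide))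
            · -- 23=(1,3)
              exact False.elim (cert_false T ((skipEmb 1).trans v) (by norm_num) (fun _ => hv _) (((((((LB_zero T ((skipEmb 1).trans v)).upd 0 1 1 (le_of_eq hx02)).upd 0 2 2 (le_of_eq hx03)).upd 1 0 1 (le_of_eq hx20)).upd 1 2 1 (le_of_eq hx23)).upd 2 0 1 (le_of_eq hx30)).upd 2 1 3 (le_of_eq hx32)) ![1,1,1] (by decide) (by decide) 0 (by decide))
            · -- 23=(3,1)
              exact False.elim (cert_false T ((skipEmb 1).trans v) (by norm_num) (fun _ => hv _) (((((((LB_zero T ((skipEmb 1).trans v)).upd 0 1 1 (le_of_eq hx02)).upd 0 2 2 (le_of_eq hx03)).upd 1 0 1 (le_of_eq hx20)).upd 1 2 3 (le_of_eq hx23)).upd 2 0 1 (le_of_eq hx30)).upd 2 1 1 (le_of_eq hx32)) ![1,1,1] (by decide) (by decide) 0 (by decide))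
          · -- 13=(1,1)
            have d23 := two_pair T (by norm_num : 2 < 4) ((pairEmb 2 3 (by decide)).trans v) (fun _ => hv _)
            change (N T v 2 3 = 0 ∧ N T v 3 2 = 0) ∨ (N T v 2 3 = 1 ∧ N T v 3 2 = 1) ∨ (N T v 2 3 = 1 ∧ N T v 3 2 = 2) ∨ (N T v 2 3 = 2 ∧ N T v 3 2 = 1) ∨ (N T v 2 3 = 1 ∧ N T v 3 2 = 3) ∨ (N T v 2 3 = 3 ∧ N T v 3 2 = 1) at d23
            rw [← hx23, ← hx32] at d23
            rcases d23 with ⟨rfl, rfl⟩ | ⟨rfl, rfl⟩ | ⟨rfl, rfl⟩ | ⟨rfl, rfl⟩ | ⟨rfl, rfl⟩ | ⟨rfl, rfl⟩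
            · -- 23=(0,0)
              exfalso; omega
            · -- 23=(1,1)
              exact False.elim (cert_false T ((skipEmb 1).trans v) (by norm_num) (fun _ => hv _) (((((((LB_zero T ((skipEmb 1).trans v)).upd 0 1 1 (le_of_eq hx02)).upd 0 2 2 (le_of_eq hx03)).upd 1 0 1 (le_of_eq hx20)).upd 1 2 1 (le_of_eq hx23)).upd 2 0 1 (le_of_eq hx30)).upd 2 1 1 (le_of_eq hx32)) ![1,1,1] (by decide) (by decide) 0 (by decide))
            · -- 23=(1,2)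
              exact False.elim (cert_false T ((skipEmb 1).trans v) (by norm_num) (fun _ => hv _) (((((((LB_zero T ((skipEmb 1).trans v)).upd 0 1 1 (le_of_eq hx02)).upd 0 2 2 (le_of_eq hx03)).upd 1 0 1 (le_of_eq hx20)).upd 1 2 1 (le_of_eq hx23)).upd 2 0 1 (le_of_eq hx30)).upd 2 1 2 (le_of_eq hx32)) ![1,1,1] (by decide) (by decide) 0 (by decide))
            · -- 23=(2,1)
              exact False.elim (cert_false T ((skipEmb 1).trans v) (by norm_num) (fun _ => hv _) (((((((LB_zero T ((skipEmb 1).trans v)).upd 0 1 1 (le_of_eq hx02)).upd 0 2 2 (le_of_eq hx03)).upd 1 0 1 (le_of_eq hx20)).upd 1 2 2 (le_of_eq hx23)).upd 2 0 1 (le_of_eq hx30)).upd 2 1 1 (le_of_eq hx32)) ![1,1,1] (by decide) (by decide) 0 (by decide))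
            · -- 23=(1,3)
              exact False.elim (cert_false T ((skipEmb 1).trans v) (by norm_num) (fun _ => hv _) (((((((LB_zero T ((skipEmb 1).trans v)).upd 0 1 1 (le_of_eq hx02)).upd 0 2 2 (le_of_eq hx03)).upd 1 0 1 (le_of_eq hx20)).upd 1 2 1 (le_of_eq hx23)).upd 2 0 1 (le_of_eq hx30)).upd 2 1 3 (le_of_eq hx32)) ![1,1,1] (by decide) (by decide) 0 (by decide))
            · -- 23=(3,1)
              exact False.elim (cert_false T ((skipEmb 1).trans v) (by norm_num) (fun _ => hv _) (((((((LB_zero T ((skipEmb 1).trans v)).upd 0 1 1 (le_of_eq hx02)).upd 0 2 2 (le_of_eq hx03)).upd 1 0 1 (le_of_eq hx20)).upd 1 2 3 (le_of_eq hx23)).upd 2 0 1 (le_of_eq hx30)).upd 2 1 1 (le_of_eq hx32)) ![1,1,1] (by decide) (by decide) 0 (by decide))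
          · -- 13=(1,2)
            exact False.elim (cert_false T ((skipEmb 2).trans v) (by norm_num) (fun _ => hv _) (((((LB_zero T ((skipEmb 2).trans v)).upd 0 2 2 (le_of_eq hx03)).upd 1 2 1 (le_of_eq hx13)).upd 2 0 1 (le_of_eq hx30)).upd 2 1 2 (le_of_eq hx31)) ![2,1,2] (by decide) (by decide) 0 (by decide))
          · -- 13=(2,1)
            exact False.elim (cert_false T ((skipEmb 2).trans v) (by norm_num) (fun _ => hv _) (((((LB_zero T ((skipEmb 2).trans v)).upd 0 2 2 (le_of_eq hx03)).upd 1 2 2 (le_of_eq hx13)).upd 2 0 1 (le_of_eq hx30)).upd 2 1 1 (le_of_eq hx31)) ![1,1,1] (by decide) (by decide) 0 (by decide))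
          · -- 13=(1,3)
            exact False.elim (cert_false T ((skipEmb 2).trans v) (by norm_num) (fun _ => hv _) (((((LB_zero T ((skipEmb 2).trans v)).upd 0 2 2 (le_of_eq hx03)).upd 1 2 1 (le_of_eq hx13)).upd 2 0 1 (le_of_eq hx30)).upd 2 1 3 (le_of_eq hx31)) ![1,1,2] (by decide) (by decide) 0 (by decide))
          · -- 13=(3,1)
            exact False.elim (cert_false T ((skipEmb 2).trans v) (by norm_num) (fun _ => hv _) (((((LB_zero T ((skipEmb 2).trans v)).upd 0 2 2 (le_of_eq hx03)).upd 1 2 3 (le_of_eq hx13)).upd 2 0 1 (le_of_eq hx30)).upd 2 1 1 (le_of_eq hx31)) ![1,1,1] (by decide) (by decide) 0 (by decide))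
        · -- 03=(1,3)
          exact False.elim (cert_false T ((skipEmb 1).trans v) (by norm_num) (fun _ => hv _) (((((LB_zero T ((skipEmb 1).trans v)).upd 0 1 1 (le_of_eq hx02)).upd 0 2 1 (le_of_eq hx03)).upd 1 0 1 (le_of_eq hx20)).upd 2 0 3 (le_of_eq hx30)) ![2,1,3] (by decide) (by decide) 0 (by decide))
        · -- 03=(3,1)
          exact False.elim (cert_false T ((skipEmb 1).trans v) (by norm_num) (fun _ => hv _) (((((LB_zero T ((skipEmb 1).trans v)).upd 0 1 1 (le_of_eq hx02)).upd 0 2 3 (le_of_eq hx03)).upd 1 0 1 (le_of_eq hx20)).upd 2 0 1 (le_of_eq hx30)) ![2,1,1] (by decide) (by decide) 0 (by decide))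
      · -- 12=(2,1)
        have d03 := two_pair T (by norm_num : 2 < 4) ((pairEmb 0 3 (by decide)).trans v) (fun _ => hv _)
        change (N T v 0 3 = 0 ∧ N T v 3 0 = 0) ∨ (N T v 0 3 = 1 ∧ N T v 3 0 = 1) ∨ (N T v 0 3 = 1 ∧ N T v 3 0 = 2) ∨ (N T v 0 3 = 2 ∧ N T v 3 0 = 1) ∨ (N T v 0 3 = 1 ∧ N T v 3 0 = 3) ∨ (N T v 0 3 = 3 ∧ N T v 3 0 = 1) at d03
        rw [← hx03, ← hx30] at d03
        rcases d03 with ⟨rfl, rfl⟩ | ⟨rfl, rfl⟩ | ⟨rfl, rfl⟩ | ⟨rfl, rfl⟩ | ⟨rfl, rfl⟩ | ⟨rfl, rfl⟩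
        · -- 03=(0,0)
          have d13 := two_pair T (by norm_num : 2 < 4) ((pairEmb 1 3 (by decide)).trans v) (fun _ => hv _)
          change (N T v 1 3 = 0 ∧ N T v 3 1 = 0) ∨ (N T v 1 3 = 1 ∧ N T v 3 1 = 1) ∨ (N T v 1 3 = 1 ∧ N T v 3 1 = 2) ∨ (N T v 1 3 = 2 ∧ N T v 3 1 = 1) ∨ (N T v 1 3 = 1 ∧ N T v 3 1 = 3) ∨ (N T v 1 3 = 3 ∧ N T v 3 1 = 1) at d13
          rw [← hx13, ← hx31] at d13
          rcases d13 with ⟨rfl, rfl⟩ | ⟨rfl, rfl⟩ | ⟨rfl, rfl⟩ | ⟨rfl, rfl⟩ | ⟨rfl, rfl⟩ | ⟨rfl, rfl⟩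
          · -- 13=(0,0)
            have d23 := two_pair T (by norm_num : 2 < 4) ((pairEmb 2 3 (by decide)).trans v) (fun _ => hv _)
            change (N T v 2 3 = 0 ∧ N T v 3 2 = 0) ∨ (N T v 2 3 = 1 ∧ N T v 3 2 = 1) ∨ (N T v 2 3 = 1 ∧ N T v 3 2 = 2) ∨ (N T v 2 3 = 2 ∧ N T v 3 2 = 1) ∨ (N T v 2 3 = 1 ∧ N T v 3 2 = 3) ∨ (N T v 2 3 = 3 ∧ N T v 3 2 = 1) at d23
            rw [← hx23, ← hx32] at d23
            rcases d23 with ⟨rfl, rfl⟩ | ⟨rfl, rfl⟩ | ⟨rfl, rfl⟩ | ⟨rfl, rfl⟩ | ⟨rfl, rfl⟩ | ⟨rfl, rfl⟩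
            · -- 23=(0,0)
              exfalso; omega
            · -- 23=(1,1)
              refine ⟨(⟨![2, 0, 3, 1], ![1, 3, 0, 2], by decide, by decide⟩ : Equiv.Perm (Fin 4)), T.m 0, T.w 1, Or.inr (Or.inr (Or.inr (Or.inr (Or.inr (?_)))))⟩
              show T.m 2 = 2 * T.m 0 ∧ T.m 0 = T.m 0 ∧ T.m 3 = T.m 0 ∧ T.m 1 = 2 * T.m 0 ∧ T.w 2 = 2 * T.w 1 ∧ T.w 0 = 2 * T.w 1 ∧ T.w 3 = 2 * T.w 1 ∧ T.w 1 = T.w 1 ∧ T.a 2 2 = -4 * T.w 1 ∧ T.a 2 0 = 2 * T.w 1 ∧ T.a 2 3 = 2 * T.w 1 ∧ T.a 2 1 = 2 * T.w 1 ∧ T.a 0 0 = -4 * T.w 1 ∧ T.a 0 3 = 0 ∧ T.a 0 1 = 0 ∧ T.a 3 3 = -4 * T.w 1 ∧ T.a 3 1 = 0 ∧ T.a 1 1 = -2 * T.w 1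
              refine ⟨?_, ?_, ?_, ?_, ?_, ?_, ?_, ?_, ?_, ?_, ?_, ?_, ?_, ?_, ?_, ?_, ?_, ?_⟩ <;> omega
            · -- 23=(1,2)
              exact False.elim (cert_false T ((skipEmb 0).trans v) (by norm_num) (fun _ => hv _) (((((LB_zero T ((skipEmb 0).trans v)).upd 0 1 2 (le_of_eq hx12)).upd 1 0 1 (le_of_eq hx21)).upd 1 2 1 (le_of_eq hx23)).upd 2 1 2 (le_of_eq hx32)) ![1,1,1] (by decide) (by decide) 0 (by decide))
            · -- 23=(2,1)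
              exact False.elim (cert_false T ((skipEmb 0).trans v) (by norm_num) (fun _ => hv _) (((((LB_zero T ((skipEmb 0).trans v)).upd 0 1 2 (le_of_eq hx12)).upd 1 0 1 (le_of_eq hx21)).upd 1 2 2 (le_of_eq hx23)).upd 2 1 1 (le_of_eq hx32)) ![2,2,1] (by decide) (by decide) 0 (by decide))
            · -- 23=(1,3)
              exact False.elim (cert_false T ((skipEmb 1).trans v) (by norm_num) (fun _ => hv _) (((((LB_zero T ((skipEmb 1).trans v)).upd 0 1 1 (le_of_eq hx02)).upd 1 0 1 (le_of_eq hx20)).upd 1 2 1 (le_of_eq hx23)).upd 2 1 3 (le_of_eq hx32)) ![1,2,3] (by decide) (by decide) 0 (by decide))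
            · -- 23=(3,1)
              exact False.elim (cert_false T ((skipEmb 1).trans v) (by norm_num) (fun _ => hv _) (((((LB_zero T ((skipEmb 1).trans v)).upd 0 1 1 (le_of_eq hx02)).upd 1 0 1 (le_of_eq hx20)).upd 1 2 3 (le_of_eq hx23)).upd 2 1 1 (le_of_eq hx32)) ![1,2,1] (by decide) (by decide) 0 (by decide))
          · -- 13=(1,1)
            have d23 := two_pair T (by norm_num : 2 < 4) ((pairEmb 2 3 (by decide)).trans v) (fun _ => hv _)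
            change (N T v 2 3 = 0 ∧ N T v 3 2 = 0) ∨ (N T v 2 3 = 1 ∧ N T v 3 2 = 1) ∨ (N T v 2 3 = 1 ∧ N T v 3 2 = 2) ∨ (N T v 2 3 = 2 ∧ N T v 3 2 = 1) ∨ (N T v 2 3 = 1 ∧ N T v 3 2 = 3) ∨ (N T v 2 3 = 3 ∧ N T v 3 2 = 1) at d23
            rw [← hx23, ← hx32] at d23
            rcases d23 with ⟨rfl, rfl⟩ | ⟨rfl, rfl⟩ | ⟨rfl, rfl⟩ | ⟨rfl, rfl⟩ | ⟨rfl, rfl⟩ | ⟨rfl, rfl⟩
            · -- 23=(0,0)
              exfalso; omega
            · -- 23=(1,1)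
              exact False.elim (cert_false T ((skipEmb 0).trans v) (by norm_num) (fun _ => hv _) (((((((LB_zero T ((skipEmb 0).trans v)).upd 0 1 2 (le_of_eq hx12)).upd 0 2 1 (le_of_eq hx13)).upd 1 0 1 (le_of_eq hx21)).upd 1 2 1 (le_of_eq hx23)).upd 2 0 1 (le_of_eq hx31)).upd 2 1 1 (le_of_eq hx32)) ![1,1,1] (by decide) (by decide) 0 (by decide))
            · -- 23=(1,2)
              exact False.elim (cert_false T ((skipEmb 0).trans v) (by norm_num) (fun _ => hv _) (((((((LB_zero T ((skipEmb 0).trans v)).upd 0 1 2 (le_of_eq hx12)).upd 0 2 1 (le_of_eq hx13)).upd 1 0 1 (le_of_eq hx21)).upd 1 2 1 (le_of_eq hx23)).upd 2 0 1 (le_of_eq hx31)).upd 2 1 2 (le_of_eq hx32)) ![1,1,1] (by decide) (by decide) 0 (by decide))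
            · -- 23=(2,1)
              exact False.elim (cert_false T ((skipEmb 0).trans v) (by norm_num) (fun _ => hv _) (((((((LB_zero T ((skipEmb 0).trans v)).upd 0 1 2 (le_of_eq hx12)).upd 0 2 1 (le_of_eq hx13)).upd 1 0 1 (le_of_eq hx21)).upd 1 2 2 (le_of_eq hx23)).upd 2 0 1 (le_of_eq hx31)).upd 2 1 1 (le_of_eq hx32)) ![1,1,1] (by decide) (by decide) 0 (by decide))
            · -- 23=(1,3)
              exact False.elim (cert_false T ((skipEmb 1).trans v) (by norm_num) (fun _ => hv _) (((((LB_zero T ((skipEmb 1).trans v)).upd 0 1 1 (le_of_eq hx02)).upd 1 0 1 (le_of_eq hx20)).upd 1 2 1 (le_of_eq hx23)).upd 2 1 3 (le_of_eq hx32)) ![1,2,3] (by decide) (by decide) 0 (by decide))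
            · -- 23=(3,1)
              exact False.elim (cert_false T ((skipEmb 1).trans v) (by norm_num) (fun _ => hv _) (((((LB_zero T ((skipEmb 1).trans v)).upd 0 1 1 (le_of_eq hx02)).upd 1 0 1 (le_of_eq hx20)).upd 1 2 3 (le_of_eq hx23)).upd 2 1 1 (le_of_eq hx32)) ![1,2,1] (by decide) (by decide) 0 (by decide))
          · -- 13=(1,2)
            exact False.elim (cert_false T ((skipEmb 0).trans v) (by norm_num) (fun _ => hv _) (((((LB_zero T ((skipEmb 0).trans v)).upd 0 1 2 (le_of_eq hx12)).upd 0 2 1 (le_of_eq hx13)).upd 1 0 1 (le_of_eq hx21)).upd 2 0 2 (le_of_eq hx31)) ![2,1,2] (by decide) (by decide) 0 (by decide))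
          · -- 13=(2,1)
            exact False.elim (cert_false T ((skipEmb 0).trans v) (by norm_num) (fun _ => hv _) (((((LB_zero T ((skipEmb 0).trans v)).upd 0 1 2 (le_of_eq hx12)).upd 0 2 2 (le_of_eq hx13)).upd 1 0 1 (le_of_eq hx21)).upd 2 0 1 (le_of_eq hx31)) ![2,1,1] (by decide) (by decide) 0 (by decide))
          · -- 13=(1,3)
            exact False.elim (cert_false T ((skipEmb 0).trans v) (by norm_num) (fun _ => hv _) (((((LB_zero T ((skipEmb 0).trans v)).upd 0 1 2 (le_of_eq hx12)).upd 0 2 1 (le_of_eq hx13)).upd 1 0 1 (le_of_eq hx21)).upd 2 0 3 (le_of_eq hx31)) ![2,1,2] (by decide) (by decide) 0 (by decide))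
          · -- 13=(3,1)
            exact False.elim (cert_false T ((skipEmb 0).trans v) (by norm_num) (fun _ => hv _) (((((LB_zero T ((skipEmb 0).trans v)).upd 0 1 2 (le_of_eq hx12)).upd 0 2 3 (le_of_eq hx13)).upd 1 0 1 (le_of_eq hx21)).upd 2 0 1 (le_of_eq hx31)) ![2,1,1] (by decide) (by decide) 0 (by decide))
        · -- 03=(1,1)
          have d13 := two_pair T (by norm_num : 2 < 4) ((pairEmb 1 3 (by decide)).trans v) (fun _ => hv _)
          change (N T v 1 3 = 0 ∧ N T v 3 1 = 0) ∨ (N T v 1 3 = 1 ∧ N T v 3 1 = 1) ∨ (N T v 1 3 = 1 ∧ N T v 3 1 = 2) ∨ (N T v 1 3 = 2 ∧ N T v 3 1 = 1) ∨ (N T v 1 3 = 1 ∧ N T v 3 1 = 3) ∨ (N T v 1 3 = 3 ∧ N T v 3 1 = 1) at d13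
          rw [← hx13, ← hx31] at d13
          rcases d13 with ⟨rfl, rfl⟩ | ⟨rfl, rfl⟩ | ⟨rfl, rfl⟩ | ⟨rfl, rfl⟩ | ⟨rfl, rfl⟩ | ⟨rfl, rfl⟩
          · -- 13=(0,0)
            have d23 := two_pair T (by norm_num : 2 < 4) ((pairEmb 2 3 (by decide)).trans v) (fun _ => hv _)
            change (N T v 2 3 = 0 ∧ N T v 3 2 = 0) ∨ (N T v 2 3 = 1 ∧ N T v 3 2 = 1) ∨ (N T v 2 3 = 1 ∧ N T v 3 2 = 2) ∨ (N T v 2 3 = 2 ∧ N T v 3 2 = 1) ∨ (N T v 2 3 = 1 ∧ N T v 3 2 = 3) ∨ (N T v 2 3 = 3 ∧ N T v 3 2 = 1) at d23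
            rw [← hx23, ← hx32] at d23
            rcases d23 with ⟨rfl, rfl⟩ | ⟨rfl, rfl⟩ | ⟨rfl, rfl⟩ | ⟨rfl, rfl⟩ | ⟨rfl, rfl⟩ | ⟨rfl, rfl⟩
            · -- 23=(0,0)
              exfalso; omega
            · -- 23=(1,1)
              exact False.elim (cert_false T ((skipEmb 1).trans v) (by norm_num) (fun _ => hv _) (((((((LB_zero T ((skipEmb 1).trans v)).upd 0 1 1 (le_of_eq hx02)).upd 0 2 1 (le_of_eq hx03)).upd 1 0 1 (le_of_eq hx20)).upd 1 2 1 (le_of_eq hx23)).upd 2 0 1 (le_of_eq hx30)).upd 2 1 1 (le_of_eq hx32)) ![1,1,1] (by decide) (by decide) 0 (by decide))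
            · -- 23=(1,2)
              exact False.elim (cert_false T ((skipEmb 1).trans v) (by norm_num) (fun _ => hv _) (((((((LB_zero T ((skipEmb 1).trans v)).upd 0 1 1 (le_of_eq hx02)).upd 0 2 1 (le_of_eq hx03)).upd 1 0 1 (le_of_eq hx20)).upd 1 2 1 (le_of_eq hx23)).upd 2 0 1 (le_of_eq hx30)).upd 2 1 2 (le_of_eq hx32)) ![1,1,1] (by decide) (by decide) 0 (by decide))
            · -- 23=(2,1)
              exact False.elim (cert_false T ((skipEmb 1).trans v) (by norm_num) (fun _ => hv _) (((((((LB_zero T ((skipEmb 1).trans v)).upd 0 1 1 (le_of_eq hx02)).upd 0 2 1 (le_of_eq hx03)).upd 1 0 1 (le_of_eq hx20)).upd 1 2 2 (le_of_eq hx23)).upd 2 0 1 (le_of_eq hx30)).upd 2 1 1 (le_of_eq hx32)) ![1,1,1] (by decide) (by decide) 0 (by decide))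
            · -- 23=(1,3)
              exact False.elim (cert_false T ((skipEmb 1).trans v) (by norm_num) (fun _ => hv _) (((((((LB_zero T ((skipEmb 1).trans v)).upd 0 1 1 (le_of_eq hx02)).upd 0 2 1 (le_of_eq hx03)).upd 1 0 1 (le_of_eq hx20)).upd 1 2 1 (le_of_eq hx23)).upd 2 0 1 (le_of_eq hx30)).upd 2 1 3 (le_of_eq hx32)) ![1,1,1] (by decide) (by decide) 0 (by decide))
            · -- 23=(3,1)
              exact False.elim (cert_false T ((skipEmb 1).trans v) (by norm_num) (fun _ => hv _) (((((((LB_zero T ((skipEmb 1).trans v)).upd 0 1 1 (le_of_eq hx02)).upd 0 2 1 (le_of_eq hx03)).upd 1 0 1 (le_of_eq hx20)).upd 1 2 3 (le_of_eq hx23)).upd 2 0 1 (le_of_eq hx30)).upd 2 1 1 (le_of_eq hx32)) ![1,1,1] (by decide) (by decide) 0 (by decide))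
          · -- 13=(1,1)
            have d23 := two_pair T (by norm_num : 2 < 4) ((pairEmb 2 3 (by decide)).trans v) (fun _ => hv _)
            change (N T v 2 3 = 0 ∧ N T v 3 2 = 0) ∨ (N T v 2 3 = 1 ∧ N T v 3 2 = 1) ∨ (N T v 2 3 = 1 ∧ N T v 3 2 = 2) ∨ (N T v 2 3 = 2 ∧ N T v 3 2 = 1) ∨ (N T v 2 3 = 1 ∧ N T v 3 2 = 3) ∨ (N T v 2 3 = 3 ∧ N T v 3 2 = 1) at d23
            rw [← hx23, ← hx32] at d23
            rcases d23 with ⟨rfl, rfl⟩ | ⟨rfl, rfl⟩ | ⟨rfl, rfl⟩ | ⟨rfl, rfl⟩ | ⟨rfl, rfl⟩ | ⟨rfl, rfl⟩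
            · -- 23=(0,0)
              exfalso; omega
            · -- 23=(1,1)
              exact False.elim (cert_false T ((skipEmb 1).trans v) (by norm_num) (fun _ => hv _) (((((((LB_zero T ((skipEmb 1).trans v)).upd 0 1 1 (le_of_eq hx02)).upd 0 2 1 (le_of_eq hx03)).upd 1 0 1 (le_of_eq hx20)).upd 1 2 1 (le_of_eq hx23)).upd 2 0 1 (le_of_eq hx30)).upd 2 1 1 (le_of_eq hx32)) ![1,1,1] (by decide) (by decide) 0 (by decide))
            · -- 23=(1,2)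
              exact False.elim (cert_false T ((skipEmb 1).trans v) (by norm_num) (fun _ => hv _) (((((((LB_zero T ((skipEmb 1).trans v)).upd 0 1 1 (le_of_eq hx02)).upd 0 2 1 (le_of_eq hx03)).upd 1 0 1 (le_of_eq hx20)).upd 1 2 1 (le_of_eq hx23)).upd 2 0 1 (le_of_eq hx30)).upd 2 1 2 (le_of_eq hx32)) ![1,1,1] (by decide) (by decide) 0 (by decide))
            · -- 23=(2,1)
              exact False.elim (cert_false T ((skipEmb 1).trans v) (by norm_num) (fun _ => hv _) (((((((LB_zero T ((skipEmb 1).trans v)).upd 0 1 1 (le_of_eq hx02)).upd 0 2 1 (le_of_eq hx03)).upd 1 0 1 (le_of_eq hx20)).upd 1 2 2 (le_of_eq hx23)).upd 2 0 1 (le_of_eq hx30)).upd 2 1 1 (le_of_eq hx32)) ![1,1,1] (by decide) (by decide) 0 (by decide))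
            · -- 23=(1,3)
              exact False.elim (cert_false T ((skipEmb 1).trans v) (by norm_num) (fun _ => hv _) (((((((LB_zero T ((skipEmb 1).trans v)).upd 0 1 1 (le_of_eq hx02)).upd 0 2 1 (le_of_eq hx03)).upd 1 0 1 (le_of_eq hx20)).upd 1 2 1 (le_of_eq hx23)).upd 2 0 1 (le_of_eq hx30)).upd 2 1 3 (le_of_eq hx32)) ![1,1,1] (by decide) (by decide) 0 (by decide))
            · -- 23=(3,1)
              exact False.elim (cert_false T ((skipEmb 1).trans v) (by norm_num) (fun _ => hv _) (((((((LB_zero T ((skipEmb 1).trans v)).upd 0 1 1 (le_of_eq hx02)).upd 0 2 1 (le_of_eq hx03)).upd 1 0 1 (le_of_eq hx20)).upd 1 2 3 (le_of_eq hx23)).upd 2 0 1 (le_of_eq hx30)).upd 2 1 1 (le_of_eq hx32)) ![1,1,1] (by decide) (by decide) 0 (by decide))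
          · -- 13=(1,2)
            exact False.elim (cert_false T ((skipEmb 0).trans v) (by norm_num) (fun _ => hv _) (((((LB_zero T ((skipEmb 0).trans v)).upd 0 1 2 (le_of_eq hx12)).upd 0 2 1 (le_of_eq hx13)).upd 1 0 1 (le_of_eq hx21)).upd 2 0 2 (le_of_eq hx31)) ![2,1,2] (by decide) (by decide) 0 (by decide))
          · -- 13=(2,1)
            exact False.elim (cert_false T ((skipEmb 0).trans v) (by norm_num) (fun _ => hv _) (((((LB_zero T ((skipEmb 0).trans v)).upd 0 1 2 (le_of_eq hx12)).upd 0 2 2 (le_of_eq hx13)).upd 1 0 1 (le_of_eq hx21)).upd 2 0 1 (le_of_eq hx31)) ![2,1,1] (by decide) (by decide) 0 (by decide))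
          · -- 13=(1,3)
            exact False.elim (cert_false T ((skipEmb 2).trans v) (by norm_num) (fun _ => hv _) (((((LB_zero T ((skipEmb 2).trans v)).upd 0 2 1 (le_of_eq hx03)).upd 1 2 1 (le_of_eq hx13)).upd 2 0 1 (le_of_eq hx30)).upd 2 1 3 (le_of_eq hx31)) ![1,1,2] (by decide) (by decide) 0 (by decide))
          · -- 13=(3,1)
            exact False.elim (cert_false T ((skipEmb 2).trans v) (by norm_num) (fun _ => hv _) (((((LB_zero T ((skipEmb 2).trans v)).upd 0 2 1 (le_of_eq hx03)).upd 1 2 3 (le_of_eq hx13)).upd 2 0 1 (le_of_eq hx30)).upd 2 1 1 (le_of_eq hx31)) ![1,3,2] (by decide) (by decide) 0 (by decide))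
        · -- 03=(1,2)
          have d13 := two_pair T (by norm_num : 2 < 4) ((pairEmb 1 3 (by decide)).trans v) (fun _ => hv _)
          change (N T v 1 3 = 0 ∧ N T v 3 1 = 0) ∨ (N T v 1 3 = 1 ∧ N T v 3 1 = 1) ∨ (N T v 1 3 = 1 ∧ N T v 3 1 = 2) ∨ (N T v 1 3 = 2 ∧ N T v 3 1 = 1) ∨ (N T v 1 3 = 1 ∧ N T v 3 1 = 3) ∨ (N T v 1 3 = 3 ∧ N T v 3 1 = 1) at d13
          rw [← hx13, ← hx31] at d13
          rcases d13 with ⟨rfl, rfl⟩ | ⟨rfl, rfl⟩ | ⟨rfl, rfl⟩ | ⟨rfl, rfl⟩ | ⟨rfl, rfl⟩ | ⟨rfl, rfl⟩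
          · -- 13=(0,0)
            have d23 := two_pair T (by norm_num : 2 < 4) ((pairEmb 2 3 (by decide)).trans v) (fun _ => hv _)
            change (N T v 2 3 = 0 ∧ N T v 3 2 = 0) ∨ (N T v 2 3 = 1 ∧ N T v 3 2 = 1) ∨ (N T v 2 3 = 1 ∧ N T v 3 2 = 2) ∨ (N T v 2 3 = 2 ∧ N T v 3 2 = 1) ∨ (N T v 2 3 = 1 ∧ N T v 3 2 = 3) ∨ (N T v 2 3 = 3 ∧ N T v 3 2 = 1) at d23
            rw [← hx23, ← hx32] at d23
            rcases d23 with ⟨rfl, rfl⟩ | ⟨rfl, rfl⟩ | ⟨rfl, rfl⟩ | ⟨rfl, rfl⟩ | ⟨rfl, rfl⟩ | ⟨rfl, rfl⟩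
            · -- 23=(0,0)
              refine ⟨(⟨![1, 2, 0, 3], ![2, 0, 1, 3], by decide, by decide⟩ : Equiv.Perm (Fin 4)), T.m 1, T.w 1, Or.inr (Or.inr (Or.inl ?_))⟩
              show T.m 1 = T.m 1 ∧ T.m 2 = T.m 1 ∧ T.m 0 = T.m 1 ∧ T.m 3 = T.m 1 ∧ T.w 1 = T.w 1 ∧ T.w 2 = 2 * T.w 1 ∧ T.w 0 = 2 * T.w 1 ∧ T.w 3 = T.w 1 ∧ T.a 1 1 = -2 * T.w 1 ∧ T.a 1 2 = 2 * T.w 1 ∧ T.a 1 0 = 0 ∧ T.a 1 3 = 0 ∧ T.a 2 2 = -4 * T.w 1 ∧ T.a 2 0 = 2 * T.w 1 ∧ T.a 2 3 = 0 ∧ T.a 0 0 = -4 * T.w 1 ∧ T.a 0 3 = 2 * T.w 1 ∧ T.a 3 3 = -2 * T.w 1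
              refine ⟨?_, ?_, ?_, ?_, ?_, ?_, ?_, ?_, ?_, ?_, ?_, ?_, ?_, ?_, ?_, ?_, ?_, ?_⟩ <;> omega
            · -- 23=(1,1)
              exact False.elim (cert_false T ((skipEmb 1).trans v) (by norm_num) (fun _ => hv _) (((((((LB_zero T ((skipEmb 1).trans v)).upd 0 1 1 (le_of_eq hx02)).upd 0 2 1 (le_of_eq hx03)).upd 1 0 1 (le_of_eq hx20)).upd 1 2 1 (le_of_eq hx23)).upd 2 0 2 (le_of_eq hx30)).upd 2 1 1 (le_of_eq hx32)) ![1,1,1] (by decide) (by decide) 0 (by decide))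
            · -- 23=(1,2)
              exact False.elim (cert_false T ((skipEmb 1).trans v) (by norm_num) (fun _ => hv _) (((((((LB_zero T ((skipEmb 1).trans v)).upd 0 1 1 (le_of_eq hx02)).upd 0 2 1 (le_of_eq hx03)).upd 1 0 1 (le_of_eq hx20)).upd 1 2 1 (le_of_eq hx23)).upd 2 0 2 (le_of_eq hx30)).upd 2 1 2 (le_of_eq hx32)) ![1,1,1] (by decide) (by decide) 0 (by decide))
            · -- 23=(2,1)
              exact False.elim (cert_false T ((skipEmb 1).trans v) (by norm_num) (fun _ => hv _) (((((((LB_zero T ((skipEmb 1).trans v)).upd 0 1 1 (le_of_eq hx02)).upd 0 2 1 (le_of_eq hx03)).upd 1 0 1 (le_of_eq hx20)).upd 1 2 2 (le_of_eq hx23)).upd 2 0 2 (le_of_eq hx30)).upd 2 1 1 (le_of_eq hx32)) ![1,1,1] (by decide) (by decide) 0 (by decide))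
            · -- 23=(1,3)
              exact False.elim (cert_false T ((skipEmb 1).trans v) (by norm_num) (fun _ => hv _) (((((((LB_zero T ((skipEmb 1).trans v)).upd 0 1 1 (le_of_eq hx02)).upd 0 2 1 (le_of_eq hx03)).upd 1 0 1 (le_of_eq hx20)).upd 1 2 1 (le_of_eq hx23)).upd 2 0 2 (le_of_eq hx30)).upd 2 1 3 (le_of_eq hx32)) ![1,1,1] (by decide) (by decide) 0 (by decide))
            · -- 23=(3,1)
              exact False.elim (cert_false T ((skipEmb 1).trans v) (by norm_num) (fun _ => hv _) (((((((LB_zero T ((skipEmb 1).trans v)).upd 0 1 1 (le_of_eq hx02)).upd 0 2 1 (le_of_eq hx03)).upd 1 0 1 (le_of_eq hx20)).upd 1 2 3 (le_of_eq hx23)).upd 2 0 2 (le_of_eq hx30)).upd 2 1 1 (le_of_eq hx32)) ![1,1,1] (by decide) (by decide) 0 (by decide))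
          · -- 13=(1,1)
            have d23 := two_pair T (by norm_num : 2 < 4) ((pairEmb 2 3 (by decide)).trans v) (fun _ => hv _)
            change (N T v 2 3 = 0 ∧ N T v 3 2 = 0) ∨ (N T v 2 3 = 1 ∧ N T v 3 2 = 1) ∨ (N T v 2 3 = 1 ∧ N T v 3 2 = 2) ∨ (N T v 2 3 = 2 ∧ N T v 3 2 = 1) ∨ (N T v 2 3 = 1 ∧ N T v 3 2 = 3) ∨ (N T v 2 3 = 3 ∧ N T v 3 2 = 1) at d23
            rw [← hx23, ← hx32] at d23
            rcases d23 with ⟨rfl, rfl⟩ | ⟨rfl, rfl⟩ | ⟨rfl, rfl⟩ | ⟨rfl, rfl⟩ | ⟨rfl, rfl⟩ | ⟨rfl, rfl⟩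
            · -- 23=(0,0)
              exfalso; omega
            · -- 23=(1,1)
              exact False.elim (cert_false T ((skipEmb 1).trans v) (by norm_num) (fun _ => hv _) (((((((LB_zero T ((skipEmb 1).trans v)).upd 0 1 1 (le_of_eq hx02)).upd 0 2 1 (le_of_eq hx03)).upd 1 0 1 (le_of_eq hx20)).upd 1 2 1 (le_of_eq hx23)).upd 2 0 2 (le_of_eq hx30)).upd 2 1 1 (le_of_eq hx32)) ![1,1,1] (by decide) (by decide) 0 (by decide))
            · -- 23=(1,2)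
              exact False.elim (cert_false T ((skipEmb 1).trans v) (by norm_num) (fun _ => hv _) (((((((LB_zero T ((skipEmb 1).trans v)).upd 0 1 1 (le_of_eq hx02)).upd 0 2 1 (le_of_eq hx03)).upd 1 0 1 (le_of_eq hx20)).upd 1 2 1 (le_of_eq hx23)).upd 2 0 2 (le_of_eq hx30)).upd 2 1 2 (le_of_eq hx32)) ![1,1,1] (by decide) (by decide) 0 (by decide))
            · -- 23=(2,1)
              exact False.elim (cert_false T ((skipEmb 1).trans v) (by norm_num) (fun _ => hv _) (((((((LB_zero T ((skipEmb 1).trans v)).upd 0 1 1 (le_of_eq hx02)).upd 0 2 1 (le_of_eq hx03)).upd 1 0 1 (le_of_eq hx20)).upd 1 2 2 (le_of_eq hx23)).upd 2 0 2 (le_of_eq hx30)).upd 2 1 1 (le_of_eq hx32)) ![1,1,1] (by decide) (by decide) 0 (by decide))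
            · -- 23=(1,3)
              exact False.elim (cert_false T ((skipEmb 1).trans v) (by norm_num) (fun _ => hv _) (((((((LB_zero T ((skipEmb 1).trans v)).upd 0 1 1 (le_of_eq hx02)).upd 0 2 1 (le_of_eq hx03)).upd 1 0 1 (le_of_eq hx20)).upd 1 2 1 (le_of_eq hx23)).upd 2 0 2 (le_of_eq hx30)).upd 2 1 3 (le_of_eq hx32)) ![1,1,1] (by decide) (by decide) 0 (by decide))
            · -- 23=(3,1)
              exact False.elim (cert_false T ((skipEmb 1).trans v) (by norm_num) (fun _ => hv _) (((((((LB_zero T ((skipEmb 1).trans v)).upd 0 1 1 (le_of_eq hx02)).upd 0 2 1 (le_of_eq hx03)).upd 1 0 1 (le_of_eq hx20)).upd 1 2 3 (le_of_eq hx23)).upd 2 0 2 (le_of_eq hx30)).upd 2 1 1 (le_of_eq hx32)) ![1,1,1] (by decide) (by decide) 0 (by decide))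
          · -- 13=(1,2)
            exact False.elim (cert_false T ((skipEmb 2).trans v) (by norm_num) (fun _ => hv _) (((((LB_zero T ((skipEmb 2).trans v)).upd 0 2 1 (le_of_eq hx03)).upd 1 2 1 (le_of_eq hx13)).upd 2 0 2 (le_of_eq hx30)).upd 2 1 2 (le_of_eq hx31)) ![1,1,2] (by decide) (by decide) 0 (by decide))
          · -- 13=(2,1)
            exact False.elim (cert_false T ((skipEmb 2).trans v) (by norm_num) (fun _ => hv _) (((((LB_zero T ((skipEmb 2).trans v)).upd 0 2 1 (le_of_eq hx03)).upd 1 2 2 (le_of_eq hx13)).upd 2 0 2 (le_of_eq hx30)).upd 2 1 1 (le_of_eq hx31)) ![1,2,2] (by decide) (by decide) 0 (by decide))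
          · -- 13=(1,3)
            exact False.elim (cert_false T ((skipEmb 2).trans v) (by norm_num) (fun _ => hv _) (((((LB_zero T ((skipEmb 2).trans v)).upd 0 2 1 (le_of_eq hx03)).upd 1 2 1 (le_of_eq hx13)).upd 2 0 2 (le_of_eq hx30)).upd 2 1 3 (le_of_eq hx31)) ![1,1,2] (by decide) (by decide) 0 (by decide))
          · -- 13=(3,1)
            exact False.elim (cert_false T ((skipEmb 2).trans v) (by norm_num) (fun _ => hv _) (((((LB_zero T ((skipEmb 2).trans v)).upd 0 2 1 (le_of_eq hx03)).upd 1 2 3 (le_of_eq hx13)).upd 2 0 2 (le_of_eq hx30)).upd 2 1 1 (le_of_eq hx31)) ![1,2,2] (by decide) (by decide) 0 (by decide))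
        · -- 03=(2,1)
          have d13 := two_pair T (by norm_num : 2 < 4) ((pairEmb 1 3 (by decide)).trans v) (fun _ => hv _)
          change (N T v 1 3 = 0 ∧ N T v 3 1 = 0) ∨ (N T v 1 3 = 1 ∧ N T v 3 1 = 1) ∨ (N T v 1 3 = 1 ∧ N T v 3 1 = 2) ∨ (N T v 1 3 = 2 ∧ N T v 3 1 = 1) ∨ (N T v 1 3 = 1 ∧ N T v 3 1 = 3) ∨ (N T v 1 3 = 3 ∧ N T v 3 1 = 1) at d13
          rw [← hx13, ← hx31] at d13
          rcases d13 with ⟨rfl, rfl⟩ | ⟨rfl, rfl⟩ | ⟨rfl, rfl⟩ | ⟨rfl, rfl⟩ | ⟨rfl, rfl⟩ | ⟨rfl, rfl⟩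
          · -- 13=(0,0)
            have d23 := two_pair T (by norm_num : 2 < 4) ((pairEmb 2 3 (by decide)).trans v) (fun _ => hv _)
            change (N T v 2 3 = 0 ∧ N T v 3 2 = 0) ∨ (N T v 2 3 = 1 ∧ N T v 3 2 = 1) ∨ (N T v 2 3 = 1 ∧ N T v 3 2 = 2) ∨ (N T v 2 3 = 2 ∧ N T v 3 2 = 1) ∨ (N T v 2 3 = 1 ∧ N T v 3 2 = 3) ∨ (N T v 2 3 = 3 ∧ N T v 3 2 = 1) at d23
            rw [← hx23, ← hx32] at d23
            rcases d23 with ⟨rfl, rfl⟩ | ⟨rfl, rfl⟩ | ⟨rfl, rfl⟩ | ⟨rfl, rfl⟩ | ⟨rfl, rfl⟩ | ⟨rfl, rfl⟩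
            · -- 23=(0,0)
              refine ⟨(⟨![1, 2, 0, 3], ![2, 0, 1, 3], by decide, by decide⟩ : Equiv.Perm (Fin 4)), T.m 3, T.w 1, Or.inr (Or.inl ?_)⟩
              show T.m 1 = 2 * T.m 3 ∧ T.m 2 = 2 * T.m 3 ∧ T.m 0 = 2 * T.m 3 ∧ T.m 3 = T.m 3 ∧ T.w 1 = T.w 1 ∧ T.w 2 = 2 * T.w 1 ∧ T.w 0 = 2 * T.w 1 ∧ T.w 3 = 4 * T.w 1 ∧ T.a 1 1 = -2 * T.w 1 ∧ T.a 1 2 = 2 * T.w 1 ∧ T.a 1 0 = 0 ∧ T.a 1 3 = 0 ∧ T.a 2 2 = -4 * T.w 1 ∧ T.a 2 0 = 2 * T.w 1 ∧ T.a 2 3 = 0 ∧ T.a 0 0 = -4 * T.w 1 ∧ T.a 0 3 = 4 * T.w 1 ∧ T.a 3 3 = -8 * T.w 1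
              refine ⟨?_, ?_, ?_, ?_, ?_, ?_, ?_, ?_, ?_, ?_, ?_, ?_, ?_, ?_, ?_, ?_, ?_, ?_⟩ <;> omega
            · -- 23=(1,1)
              exact False.elim (cert_false T ((skipEmb 1).trans v) (by norm_num) (fun _ => hv _) (((((((LB_zero T ((skipEmb 1).trans v)).upd 0 1 1 (le_of_eq hx02)).upd 0 2 2 (le_of_eq hx03)).upd 1 0 1 (le_of_eq hx20)).upd 1 2 1 (le_of_eq hx23)).upd 2 0 1 (le_of_eq hx30)).upd 2 1 1 (le_of_eq hx32)) ![1,1,1] (by decide) (by decide) 0 (by decide))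
            · -- 23=(1,2)
              exact False.elim (cert_false T ((skipEmb 1).trans v) (by norm_num) (fun _ => hv _) (((((((LB_zero T ((skipEmb 1).trans v)).upd 0 1 1 (le_of_eq hx02)).upd 0 2 2 (le_of_eq hx03)).upd 1 0 1 (le_of_eq hx20)).upd 1 2 1 (le_of_eq hx23)).upd 2 0 1 (le_of_eq hx30)).upd 2 1 2 (le_of_eq hx32)) ![1,1,1] (by decide) (by decide) 0 (by decide))
            · -- 23=(2,1)
              exact False.elim (cert_false T ((skipEmb 1).trans v) (by norm_num) (fun _ => hv _) (((((((LB_zero T ((skipEmb 1).trans v)).upd 0 1 1 (le_of_eq hx02)).upd 0 2 2 (le_of_eq hx03)).upd 1 0 1 (le_of_eq hx20)).upd 1 2 2 (le_of_eq hx23)).upd 2 0 1 (le_of_eq hx30)).upd 2 1 1 (le_of_eq hx32)) ![1,1,1] (by decide) (by decide) 0 (by decide))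
            · -- 23=(1,3)
              exact False.elim (cert_false T ((skipEmb 1).trans v) (by norm_num) (fun _ => hv _) (((((((LB_zero T ((skipEmb 1).trans v)).upd 0 1 1 (le_of_eq hx02)).upd 0 2 2 (le_of_eq hx03)).upd 1 0 1 (le_of_eq hx20)).upd 1 2 1 (le_of_eq hx23)).upd 2 0 1 (le_of_eq hx30)).upd 2 1 3 (le_of_eq hx32)) ![1,1,1] (by decide) (by decide) 0 (by decide))
            · -- 23=(3,1)
              exact False.elim (cert_false T ((skipEmb 1).trans v) (by norm_num) (fun _ => hv _) (((((((LB_zero T ((skipEmb 1).trans v)).upd 0 1 1 (le_of_eq hx02)).upd 0 2 2 (le_of_eq hx03)).upd 1 0 1 (le_of_eq hx20)).upd 1 2 3 (le_of_eq hx23)).upd 2 0 1 (le_of_eq hx30)).upd 2 1 1 (le_of_eq hx32)) ![1,1,1] (by decide) (by decide) 0 (by decide))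
          · -- 13=(1,1)
            have d23 := two_pair T (by norm_num : 2 < 4) ((pairEmb 2 3 (by decide)).trans v) (fun _ => hv _)
            change (N T v 2 3 = 0 ∧ N T v 3 2 = 0) ∨ (N T v 2 3 = 1 ∧ N T v 3 2 = 1) ∨ (N T v 2 3 = 1 ∧ N T v 3 2 = 2) ∨ (N T v 2 3 = 2 ∧ N T v 3 2 = 1) ∨ (N T v 2 3 = 1 ∧ N T v 3 2 = 3) ∨ (N T v 2 3 = 3 ∧ N T v 3 2 = 1) at d23
            rw [← hx23, ← hx32] at d23
            rcases d23 with ⟨rfl, rfl⟩ | ⟨rfl, rfl⟩ | ⟨rfl, rfl⟩ | ⟨rfl, rfl⟩ | ⟨rfl, rfl⟩ | ⟨rfl, rfl⟩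
            · -- 23=(0,0)
              exfalso; omega
            · -- 23=(1,1)
              exact False.elim (cert_false T ((skipEmb 1).trans v) (by norm_num) (fun _ => hv _) (((((((LB_zero T ((skipEmb 1).trans v)).upd 0 1 1 (le_of_eq hx02)).upd 0 2 2 (le_of_eq hx03)).upd 1 0 1 (le_of_eq hx20)).upd 1 2 1 (le_of_eq hx23)).upd 2 0 1 (le_of_eq hx30)).upd 2 1 1 (le_of_eq hx32)) ![1,1,1] (by decide) (by decide) 0 (by decide))
            · -- 23=(1,2)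
              exact False.elim (cert_false T ((skipEmb 1).trans v) (by norm_num) (fun _ => hv _) (((((((LB_zero T ((skipEmb 1).trans v)).upd 0 1 1 (le_of_eq hx02)).upd 0 2 2 (le_of_eq hx03)).upd 1 0 1 (le_of_eq hx20)).upd 1 2 1 (le_of_eq hx23)).upd 2 0 1 (le_of_eq hx30)).upd 2 1 2 (le_of_eq hx32)) ![1,1,1] (by decide) (by decide) 0 (by decide))
            · -- 23=(2,1)
              exact False.elim (cert_false T ((skipEmb 1).trans v) (by norm_num) (fun _ => hv _) (((((((LB_zero T ((skipEmb 1).trans v)).upd 0 1 1 (le_of_eq hx02)).upd 0 2 2 (le_of_eq hx03)).upd 1 0 1 (le_of_eq hx20)).upd 1 2 2 (le_of_eq hx23)).upd 2 0 1 (le_of_eq hx30)).upd 2 1 1 (le_of_eq hx32)) ![1,1,1] (by decide) (by decide) 0 (by decide))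
            · -- 23=(1,3)
              exact False.elim (cert_false T ((skipEmb 1).trans v) (by norm_num) (fun _ => hv _) (((((((LB_zero T ((skipEmb 1).trans v)).upd 0 1 1 (le_of_eq hx02)).upd 0 2 2 (le_of_eq hx03)).upd 1 0 1 (le_of_eq hx20)).upd 1 2 1 (le_of_eq hx23)).upd 2 0 1 (le_of_eq hx30)).upd 2 1 3 (le_of_eq hx32)) ![1,1,1] (by decide) (by decide) 0 (by decide))
            · -- 23=(3,1)
              exact False.elim (cert_false T ((skipEmb 1).trans v) (by norm_num) (fun _ => hv _) (((((((LB_zero T ((skipEmb 1).trans v)).upd 0 1 1 (le_of_eq hx02)).upd 0 2 2 (le_of_eq hx03)).upd 1 0 1 (le_of_eq hx20)).upd 1 2 3 (le_of_eq hx23)).upd 2 0 1 (le_of_eq hx30)).upd 2 1 1 (le_of_eq hx32)) ![1,1,1] (by decide) (by decide) 0 (by decide))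
          · -- 13=(1,2)
            exact False.elim (cert_false T ((skipEmb 2).trans v) (by norm_num) (fun _ => hv _) (((((LB_zero T ((skipEmb 2).trans v)).upd 0 2 2 (le_of_eq hx03)).upd 1 2 1 (le_of_eq hx13)).upd 2 0 1 (le_of_eq hx30)).upd 2 1 2 (le_of_eq hx31)) ![2,1,2] (by decide) (by decide) 0 (by decide))
          · -- 13=(2,1)
            exact False.elim (cert_false T ((skipEmb 2).trans v) (by norm_num) (fun _ => hv _) (((((LB_zero T ((skipEmb 2).trans v)).upd 0 2 2 (le_of_eq hx03)).upd 1 2 2 (le_of_eq hx13)).upd 2 0 1 (le_of_eq hx30)).upd 2 1 1 (le_of_eq hx31)) ![1,1,1] (by decide) (by decide) 0 (by decide))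
          · -- 13=(1,3)
            exact False.elim (cert_false T ((skipEmb 2).trans v) (by norm_num) (fun _ => hv _) (((((LB_zero T ((skipEmb 2).trans v)).upd 0 2 2 (le_of_eq hx03)).upd 1 2 1 (le_of_eq hx13)).upd 2 0 1 (le_of_eq hx30)).upd 2 1 3 (le_of_eq hx31)) ![1,1,2] (by decide) (by decide) 0 (by decide))
          · -- 13=(3,1)
            exact False.elim (cert_false T ((skipEmb 2).trans v) (by norm_num) (fun _ => hv _) (((((LB_zero T ((skipEmb 2).trans v)).upd 0 2 2 (le_of_eq hx03)).upd 1 2 3 (le_of_eq hx13)).upd 2 0 1 (le_of_eq hx30)).upd 2 1 1 (le_of_eq hx31)) ![1,1,1] (by decide) (by decide) 0 (by decide))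
        · -- 03=(1,3)
          exact False.elim (cert_false T ((skipEmb 1).trans v) (by norm_num) (fun _ => hv _) (((((LB_zero T ((skipEmb 1).trans v)).upd 0 1 1 (le_of_eq hx02)).upd 0 2 1 (le_of_eq hx03)).upd 1 0 1 (le_of_eq hx20)).upd 2 0 3 (le_of_eq hx30)) ![2,1,3] (by decide) (by decide) 0 (by decide))
        · -- 03=(3,1)
          exact False.elim (cert_false T ((skipEmb 1).trans v) (by norm_num) (fun _ => hv _) (((((LB_zero T ((skipEmb 1).trans v)).upd 0 1 1 (le_of_eq hx02)).upd 0 2 3 (le_of_eq hx03)).upd 1 0 1 (le_of_eq hx20)).upd 2 0 1 (le_of_eq hx30)) ![2,1,1] (by decide) (by decide) 0 (by decide))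
      · -- 12=(1,3)
        exact False.elim (cert_false T ((skipEmb 3).trans v) (by norm_num) (fun _ => hv _) (((((LB_zero T ((skipEmb 3).trans v)).upd 0 2 1 (le_of_eq hx02)).upd 1 2 1 (le_of_eq hx12)).upd 2 0 1 (le_of_eq hx20)).upd 2 1 3 (le_of_eq hx21)) ![1,1,2] (by decide) (by decide) 0 (by decide))
      · -- 12=(3,1)
        exact False.elim (cert_false T ((skipEmb 3).trans v) (by norm_num) (fun _ => hv _) (((((LB_zero T ((skipEmb 3).trans v)).upd 0 2 1 (le_of_eq hx02)).upd 1 2 3 (le_of_eq hx12)).upd 2 0 1 (le_of_eq hx20)).upd 2 1 1 (le_of_eq hx21)) ![1,3,2] (by decide) (by decide) 0 (by decide))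
    · -- 02=(1,2)
      have d12 := two_pair T (by norm_num : 2 < 4) ((pairEmb 1 2 (by decide)).trans v) (fun _ => hv _)
      change (N T v 1 2 = 0 ∧ N T v 2 1 = 0) ∨ (N T v 1 2 = 1 ∧ N T v 2 1 = 1) ∨ (N T v 1 2 = 1 ∧ N T v 2 1 = 2) ∨ (N T v 1 2 = 2 ∧ N T v 2 1 = 1) ∨ (N T v 1 2 = 1 ∧ N T v 2 1 = 3) ∨ (N T v 1 2 = 3 ∧ N T v 2 1 = 1) at d12
      rw [← hx12, ← hx21] at d12
      rcases d12 with ⟨rfl, rfl⟩ | ⟨rfl, rfl⟩ | ⟨rfl, rfl⟩ | ⟨rfl, rfl⟩ | ⟨rfl, rfl⟩ | ⟨rfl, rfl⟩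
      · -- 12=(0,0)
        have d03 := two_pair T (by norm_num : 2 < 4) ((pairEmb 0 3 (by decide)).trans v) (fun _ => hv _)
        change (N T v 0 3 = 0 ∧ N T v 3 0 = 0) ∨ (N T v 0 3 = 1 ∧ N T v 3 0 = 1) ∨ (N T v 0 3 = 1 ∧ N T v 3 0 = 2) ∨ (N T v 0 3 = 2 ∧ N T v 3 0 = 1) ∨ (N T v 0 3 = 1 ∧ N T v 3 0 = 3) ∨ (N T v 0 3 = 3 ∧ N T v 3 0 = 1) at d03
        rw [← hx03, ← hx30] at d03
        rcases d03 with ⟨rfl, rfl⟩ | ⟨rfl, rfl⟩ | ⟨rfl, rfl⟩ | ⟨rfl, rfl⟩ | ⟨rfl, rfl⟩ | ⟨rfl, rfl⟩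
        · -- 03=(0,0)
          have d13 := two_pair T (by norm_num : 2 < 4) ((pairEmb 1 3 (by decide)).trans v) (fun _ => hv _)
          change (N T v 1 3 = 0 ∧ N T v 3 1 = 0) ∨ (N T v 1 3 = 1 ∧ N T v 3 1 = 1) ∨ (N T v 1 3 = 1 ∧ N T v 3 1 = 2) ∨ (N T v 1 3 = 2 ∧ N T v 3 1 = 1) ∨ (N T v 1 3 = 1 ∧ N T v 3 1 = 3) ∨ (N T v 1 3 = 3 ∧ N T v 3 1 = 1) at d13
          rw [← hx13, ← hx31] at d13
          rcases d13 with ⟨rfl, rfl⟩ | ⟨rfl, rfl⟩ | ⟨rfl, rfl⟩ | ⟨rfl, rfl⟩ | ⟨rfl, rfl⟩ | ⟨rfl, rfl⟩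
          · -- 13=(0,0)
            have d23 := two_pair T (by norm_num : 2 < 4) ((pairEmb 2 3 (by decide)).trans v) (fun _ => hv _)
            change (N T v 2 3 = 0 ∧ N T v 3 2 = 0) ∨ (N T v 2 3 = 1 ∧ N T v 3 2 = 1) ∨ (N T v 2 3 = 1 ∧ N T v 3 2 = 2) ∨ (N T v 2 3 = 2 ∧ N T v 3 2 = 1) ∨ (N T v 2 3 = 1 ∧ N T v 3 2 = 3) ∨ (N T v 2 3 = 3 ∧ N T v 3 2 = 1) at d23
            rw [← hx23, ← hx32] at d23
            rcases d23 with ⟨rfl, rfl⟩ | ⟨rfl, rfl⟩ | ⟨rfl, rfl⟩ | ⟨rfl, rfl⟩ | ⟨rfl, rfl⟩ | ⟨rfl, rfl⟩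
            · -- 23=(0,0)
              exfalso; omega
            · -- 23=(1,1)
              exfalso; omega
            · -- 23=(1,2)
              exact False.elim (cert_false T ((skipEmb 1).trans v) (by norm_num) (fun _ => hv _) (((((LB_zero T ((skipEmb 1).trans v)).upd 0 1 1 (le_of_eq hx02)).upd 1 0 2 (le_of_eq hx20)).upd 1 2 1 (le_of_eq hx23)).upd 2 1 2 (le_of_eq hx32)) ![1,2,2] (by decide) (by decide) 0 (by decide))
            · -- 23=(2,1)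
              exact False.elim (cert_false T ((skipEmb 1).trans v) (by norm_num) (fun _ => hv _) (((((LB_zero T ((skipEmb 1).trans v)).upd 0 1 1 (le_of_eq hx02)).upd 1 0 2 (le_of_eq hx20)).upd 1 2 2 (le_of_eq hx23)).upd 2 1 1 (le_of_eq hx32)) ![1,2,1] (by decide) (by decide) 0 (by decide))
            · -- 23=(1,3)
              exact False.elim (cert_false T ((skipEmb 1).trans v) (by norm_num) (fun _ => hv _) (((((LB_zero T ((skipEmb 1).trans v)).upd 0 1 1 (le_of_eq hx02)).upd 1 0 2 (le_of_eq hx20)).upd 1 2 1 (le_of_eq hx23)).upd 2 1 3 (le_of_eq hx32)) ![1,2,2] (by decide) (by decide) 0 (by decide))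
            · -- 23=(3,1)
              exact False.elim (cert_false T ((skipEmb 1).trans v) (by norm_num) (fun _ => hv _) (((((LB_zero T ((skipEmb 1).trans v)).upd 0 1 1 (le_of_eq hx02)).upd 1 0 2 (le_of_eq hx20)).upd 1 2 3 (le_of_eq hx23)).upd 2 1 1 (le_of_eq hx32)) ![1,2,1] (by decide) (by decide) 0 (by decide))
          · -- 13=(1,1)
            have d23 := two_pair T (by norm_num : 2 < 4) ((pairEmb 2 3 (by decide)).trans v) (fun _ => hv _)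
            change (N T v 2 3 = 0 ∧ N T v 3 2 = 0) ∨ (N T v 2 3 = 1 ∧ N T v 3 2 = 1) ∨ (N T v 2 3 = 1 ∧ N T v 3 2 = 2) ∨ (N T v 2 3 = 2 ∧ N T v 3 2 = 1) ∨ (N T v 2 3 = 1 ∧ N T v 3 2 = 3) ∨ (N T v 2 3 = 3 ∧ N T v 3 2 = 1) at d23
            rw [← hx23, ← hx32] at d23
            rcases d23 with ⟨rfl, rfl⟩ | ⟨rfl, rfl⟩ | ⟨rfl, rfl⟩ | ⟨rfl, rfl⟩ | ⟨rfl, rfl⟩ | ⟨rfl, rfl⟩
            · -- 23=(0,0)
              exfalso; omega
            · -- 23=(1,1)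
              exfalso; omega
            · -- 23=(1,2)
              exact False.elim (cert_false T ((skipEmb 1).trans v) (by norm_num) (fun _ => hv _) (((((LB_zero T ((skipEmb 1).trans v)).upd 0 1 1 (le_of_eq hx02)).upd 1 0 2 (le_of_eq hx20)).upd 1 2 1 (le_of_eq hx23)).upd 2 1 2 (le_of_eq hx32)) ![1,2,2] (by decide) (by decide) 0 (by decide))
            · -- 23=(2,1)
              exact False.elim (cert_false T ((skipEmb 1).trans v) (by norm_num) (fun _ => hv _) (((((LB_zero T ((skipEmb 1).trans v)).upd 0 1 1 (le_of_eq hx02)).upd 1 0 2 (le_of_eq hx20)).upd 1 2 2 (le_of_eq hx23)).upd 2 1 1 (le_of_eq hx32)) ![1,2,1] (by decide) (by decide) 0 (by decide))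
            · -- 23=(1,3)
              exact False.elim (cert_false T ((skipEmb 1).trans v) (by norm_num) (fun _ => hv _) (((((LB_zero T ((skipEmb 1).trans v)).upd 0 1 1 (le_of_eq hx02)).upd 1 0 2 (le_of_eq hx20)).upd 1 2 1 (le_of_eq hx23)).upd 2 1 3 (le_of_eq hx32)) ![1,2,2] (by decide) (by decide) 0 (by decide))
            · -- 23=(3,1)
              exact False.elim (cert_false T ((skipEmb 1).trans v) (by norm_num) (fun _ => hv _) (((((LB_zero T ((skipEmb 1).trans v)).upd 0 1 1 (le_of_eq hx02)).upd 1 0 2 (le_of_eq hx20)).upd 1 2 3 (le_of_eq hx23)).upd 2 1 1 (le_of_eq hx32)) ![1,2,1] (by decide) (by decide) 0 (by decide))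
          · -- 13=(1,2)
            have d23 := two_pair T (by norm_num : 2 < 4) ((pairEmb 2 3 (by decide)).trans v) (fun _ => hv _)
            change (N T v 2 3 = 0 ∧ N T v 3 2 = 0) ∨ (N T v 2 3 = 1 ∧ N T v 3 2 = 1) ∨ (N T v 2 3 = 1 ∧ N T v 3 2 = 2) ∨ (N T v 2 3 = 2 ∧ N T v 3 2 = 1) ∨ (N T v 2 3 = 1 ∧ N T v 3 2 = 3) ∨ (N T v 2 3 = 3 ∧ N T v 3 2 = 1) at d23
            rw [← hx23, ← hx32] at d23
            rcases d23 with ⟨rfl, rfl⟩ | ⟨rfl, rfl⟩ | ⟨rfl, rfl⟩ | ⟨rfl, rfl⟩ | ⟨rfl, rfl⟩ | ⟨rfl, rfl⟩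
            · -- 23=(0,0)
              exfalso; omega
            · -- 23=(1,1)
              refine ⟨(⟨![0, 2, 3, 1], ![0, 3, 1, 2], by decide, by decide⟩ : Equiv.Perm (Fin 4)), T.m 0, T.w 2, Or.inr (Or.inr (Or.inr (Or.inl ?_)))⟩
              show T.m 0 = T.m 0 ∧ T.m 2 = 2 * T.m 0 ∧ T.m 3 = 2 * T.m 0 ∧ T.m 1 = T.m 0 ∧ T.w 0 = 2 * T.w 2 ∧ T.w 2 = T.w 2 ∧ T.w 3 = T.w 2 ∧ T.w 1 = 2 * T.w 2 ∧ T.a 0 0 = -4 * T.w 2 ∧ T.a 0 2 = 2 * T.w 2 ∧ T.a 0 3 = 0 ∧ T.a 0 1 = 0 ∧ T.a 2 2 = -2 * T.w 2 ∧ T.a 2 3 = T.w 2 ∧ T.a 2 1 = 0 ∧ T.a 3 3 = -2 * T.w 2 ∧ T.a 3 1 = 2 * T.w 2 ∧ T.a 1 1 = -4 * T.w 2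
              refine ⟨?_, ?_, ?_, ?_, ?_, ?_, ?_, ?_, ?_, ?_, ?_, ?_, ?_, ?_, ?_, ?_, ?_, ?_⟩ <;> omega
            · -- 23=(1,2)
              exact False.elim (cert_false T ((skipEmb 1).trans v) (by norm_num) (fun _ => hv _) (((((LB_zero T ((skipEmb 1).trans v)).upd 0 1 1 (le_of_eq hx02)).upd 1 0 2 (le_of_eq hx20)).upd 1 2 1 (le_of_eq hx23)).upd 2 1 2 (le_of_eq hx32)) ![1,2,2] (by decide) (by decide) 0 (by decide))
            · -- 23=(2,1)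
              exact False.elim (cert_false T ((skipEmb 1).trans v) (by norm_num) (fun _ => hv _) (((((LB_zero T ((skipEmb 1).trans v)).upd 0 1 1 (le_of_eq hx02)).upd 1 0 2 (le_of_eq hx20)).upd 1 2 2 (le_of_eq hx23)).upd 2 1 1 (le_of_eq hx32)) ![1,2,1] (by decide) (by decide) 0 (by decide))
            · -- 23=(1,3)
              exact False.elim (cert_false T ((skipEmb 1).trans v) (by norm_num) (fun _ => hv _) (((((LB_zero T ((skipEmb 1).trans v)).upd 0 1 1 (le_of_eq hx02)).upd 1 0 2 (le_of_eq hx20)).upd 1 2 1 (le_of_eq hx23)).upd 2 1 3 (le_of_eq hx32)) ![1,2,2] (by decide) (by decide) 0 (by decide))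
            · -- 23=(3,1)
              exact False.elim (cert_false T ((skipEmb 1).trans v) (by norm_num) (fun _ => hv _) (((((LB_zero T ((skipEmb 1).trans v)).upd 0 1 1 (le_of_eq hx02)).upd 1 0 2 (le_of_eq hx20)).upd 1 2 3 (le_of_eq hx23)).upd 2 1 1 (le_of_eq hx32)) ![1,2,1] (by decide) (by decide) 0 (by decide))
          · -- 13=(2,1)
            have d23 := two_pair T (by norm_num : 2 < 4) ((pairEmb 2 3 (by decide)).trans v) (fun _ => hv _)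
            change (N T v 2 3 = 0 ∧ N T v 3 2 = 0) ∨ (N T v 2 3 = 1 ∧ N T v 3 2 = 1) ∨ (N T v 2 3 = 1 ∧ N T v 3 2 = 2) ∨ (N T v 2 3 = 2 ∧ N T v 3 2 = 1) ∨ (N T v 2 3 = 1 ∧ N T v 3 2 = 3) ∨ (N T v 2 3 = 3 ∧ N T v 3 2 = 1) at d23
            rw [← hx23, ← hx32] at d23
            rcases d23 with ⟨rfl, rfl⟩ | ⟨rfl, rfl⟩ | ⟨rfl, rfl⟩ | ⟨rfl, rfl⟩ | ⟨rfl, rfl⟩ | ⟨rfl, rfl⟩
            · -- 23=(0,0)
              exfalso; omega
            · -- 23=(1,1)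
              refine ⟨(⟨![1, 3, 2, 0], ![3, 0, 2, 1], by decide, by decide⟩ : Equiv.Perm (Fin 4)), T.m 0, T.w 1, Or.inr (Or.inl ?_)⟩
              show T.m 1 = 2 * T.m 0 ∧ T.m 3 = 2 * T.m 0 ∧ T.m 2 = 2 * T.m 0 ∧ T.m 0 = T.m 0 ∧ T.w 1 = T.w 1 ∧ T.w 3 = 2 * T.w 1 ∧ T.w 2 = 2 * T.w 1 ∧ T.w 0 = 4 * T.w 1 ∧ T.a 1 1 = -2 * T.w 1 ∧ T.a 1 3 = 2 * T.w 1 ∧ T.a 1 2 = 0 ∧ T.a 1 0 = 0 ∧ T.a 3 3 = -4 * T.w 1 ∧ T.a 3 2 = 2 * T.w 1 ∧ T.a 3 0 = 0 ∧ T.a 2 2 = -4 * T.w 1 ∧ T.a 2 0 = 4 * T.w 1 ∧ T.a 0 0 = -8 * T.w 1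
              refine ⟨?_, ?_, ?_, ?_, ?_, ?_, ?_, ?_, ?_, ?_, ?_, ?_, ?_, ?_, ?_, ?_, ?_, ?_⟩ <;> omega
            · -- 23=(1,2)
              exact False.elim (cert_false T ((skipEmb 1).trans v) (by norm_num) (fun _ => hv _) (((((LB_zero T ((skipEmb 1).trans v)).upd 0 1 1 (le_of_eq hx02)).upd 1 0 2 (le_of_eq hx20)).upd 1 2 1 (le_of_eq hx23)).upd 2 1 2 (le_of_eq hx32)) ![1,2,2] (by decide) (by decide) 0 (by decide))
            · -- 23=(2,1)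
              exact False.elim (cert_false T ((skipEmb 1).trans v) (by norm_num) (fun _ => hv _) (((((LB_zero T ((skipEmb 1).trans v)).upd 0 1 1 (le_of_eq hx02)).upd 1 0 2 (le_of_eq hx20)).upd 1 2 2 (le_of_eq hx23)).upd 2 1 1 (le_of_eq hx32)) ![1,2,1] (by decide) (by decide) 0 (by decide))
            · -- 23=(1,3)
              exact False.elim (cert_false T ((skipEmb 1).trans v) (by norm_num) (fun _ => hv _) (((((LB_zero T ((skipEmb 1).trans v)).upd 0 1 1 (le_of_eq hx02)).upd 1 0 2 (le_of_eq hx20)).upd 1 2 1 (le_of_eq hx23)).upd 2 1 3 (le_of_eq hx32)) ![1,2,2] (by decide) (by decide) 0 (by decide))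
            · -- 23=(3,1)
              exact False.elim (cert_false T ((skipEmb 1).trans v) (by norm_num) (fun _ => hv _) (((((LB_zero T ((skipEmb 1).trans v)).upd 0 1 1 (le_of_eq hx02)).upd 1 0 2 (le_of_eq hx20)).upd 1 2 3 (le_of_eq hx23)).upd 2 1 1 (le_of_eq hx32)) ![1,2,1] (by decide) (by decide) 0 (by decide))
          · -- 13=(1,3)
            have d23 := two_pair T (by norm_num : 2 < 4) ((pairEmb 2 3 (by decide)).trans v) (fun _ => hv _)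
            change (N T v 2 3 = 0 ∧ N T v 3 2 = 0) ∨ (N T v 2 3 = 1 ∧ N T v 3 2 = 1) ∨ (N T v 2 3 = 1 ∧ N T v 3 2 = 2) ∨ (N T v 2 3 = 2 ∧ N T v 3 2 = 1) ∨ (N T v 2 3 = 1 ∧ N T v 3 2 = 3) ∨ (N T v 2 3 = 3 ∧ N T v 3 2 = 1) at d23
            rw [← hx23, ← hx32] at d23
            rcases d23 with ⟨rfl, rfl⟩ | ⟨rfl, rfl⟩ | ⟨rfl, rfl⟩ | ⟨rfl, rfl⟩ | ⟨rfl, rfl⟩ | ⟨rfl, rfl⟩
            · -- 23=(0,0)
              exfalso; omega
            · -- 23=(1,1)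
              exact False.elim (cert_false T ((skipEmb 0).trans v) (by norm_num) (fun _ => hv _) (((((LB_zero T ((skipEmb 0).trans v)).upd 0 2 1 (le_of_eq hx13)).upd 1 2 1 (le_of_eq hx23)).upd 2 0 3 (le_of_eq hx31)).upd 2 1 1 (le_of_eq hx32)) ![1,1,2] (by decide) (by decide) 0 (by decide))
            · -- 23=(1,2)
              exact False.elim (cert_false T ((skipEmb 1).trans v) (by norm_num) (fun _ => hv _) (((((LB_zero T ((skipEmb 1).trans v)).upd 0 1 1 (le_of_eq hx02)).upd 1 0 2 (le_of_eq hx20)).upd 1 2 1 (le_of_eq hx23)).upd 2 1 2 (le_of_eq hx32)) ![1,2,2] (by decide) (by decide) 0 (by decide))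
            · -- 23=(2,1)
              exact False.elim (cert_false T ((skipEmb 1).trans v) (by norm_num) (fun _ => hv _) (((((LB_zero T ((skipEmb 1).trans v)).upd 0 1 1 (le_of_eq hx02)).upd 1 0 2 (le_of_eq hx20)).upd 1 2 2 (le_of_eq hx23)).upd 2 1 1 (le_of_eq hx32)) ![1,2,1] (by decide) (by decide) 0 (by decide))
            · -- 23=(1,3)
              exact False.elim (cert_false T ((skipEmb 1).trans v) (by norm_num) (fun _ => hv _) (((((LB_zero T ((skipEmb 1).trans v)).upd 0 1 1 (le_of_eq hx02)).upd 1 0 2 (le_of_eq hx20)).upd 1 2 1 (le_of_eq hx23)).upd 2 1 3 (le_of_eq hx32)) ![1,2,2] (by decide) (by decide) 0 (by decide))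
            · -- 23=(3,1)
              exact False.elim (cert_false T ((skipEmb 1).trans v) (by norm_num) (fun _ => hv _) (((((LB_zero T ((skipEmb 1).trans v)).upd 0 1 1 (le_of_eq hx02)).upd 1 0 2 (le_of_eq hx20)).upd 1 2 3 (le_of_eq hx23)).upd 2 1 1 (le_of_eq hx32)) ![1,2,1] (by decide) (by decide) 0 (by decide))
          · -- 13=(3,1)
            have d23 := two_pair T (by norm_num : 2 < 4) ((pairEmb 2 3 (by decide)).trans v) (fun _ => hv _)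
            change (N T v 2 3 = 0 ∧ N T v 3 2 = 0) ∨ (N T v 2 3 = 1 ∧ N T v 3 2 = 1) ∨ (N T v 2 3 = 1 ∧ N T v 3 2 = 2) ∨ (N T v 2 3 = 2 ∧ N T v 3 2 = 1) ∨ (N T v 2 3 = 1 ∧ N T v 3 2 = 3) ∨ (N T v 2 3 = 3 ∧ N T v 3 2 = 1) at d23
            rw [← hx23, ← hx32] at d23
            rcases d23 with ⟨rfl, rfl⟩ | ⟨rfl, rfl⟩ | ⟨rfl, rfl⟩ | ⟨rfl, rfl⟩ | ⟨rfl, rfl⟩ | ⟨rfl, rfl⟩
            · -- 23=(0,0)
              exfalso; omega
            · -- 23=(1,1)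
              exact False.elim (cert_false T ((skipEmb 0).trans v) (by norm_num) (fun _ => hv _) (((((LB_zero T ((skipEmb 0).trans v)).upd 0 2 3 (le_of_eq hx13)).upd 1 2 1 (le_of_eq hx23)).upd 2 0 1 (le_of_eq hx31)).upd 2 1 1 (le_of_eq hx32)) ![3,1,2] (by decide) (by decide) 0 (by decide))
            · -- 23=(1,2)
              exact False.elim (cert_false T ((skipEmb 1).trans v) (by norm_num) (fun _ => hv _) (((((LB_zero T ((skipEmb 1).trans v)).upd 0 1 1 (le_of_eq hx02)).upd 1 0 2 (le_of_eq hx20)).upd 1 2 1 (le_of_eq hx23)).upd 2 1 2 (le_of_eq hx32)) ![1,2,2] (by decide) (by decide) 0 (by decide))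
            · -- 23=(2,1)
              exact False.elim (cert_false T ((skipEmb 1).trans v) (by norm_num) (fun _ => hv _) (((((LB_zero T ((skipEmb 1).trans v)).upd 0 1 1 (le_of_eq hx02)).upd 1 0 2 (le_of_eq hx20)).upd 1 2 2 (le_of_eq hx23)).upd 2 1 1 (le_of_eq hx32)) ![1,2,1] (by decide) (by decide) 0 (by decide))
            · -- 23=(1,3)
              exact False.elim (cert_false T ((skipEmb 1).trans v) (by norm_num) (fun _ => hv _) (((((LB_zero T ((skipEmb 1).trans v)).upd 0 1 1 (le_of_eq hx02)).upd 1 0 2 (le_of_eq hx20)).upd 1 2 1 (le_of_eq hx23)).upd 2 1 3 (le_of_eq hx32)) ![1,2,2] (by decide) (by decide) 0 (by decide))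
            · -- 23=(3,1)
              exact False.elim (cert_false T ((skipEmb 1).trans v) (by norm_num) (fun _ => hv _) (((((LB_zero T ((skipEmb 1).trans v)).upd 0 1 1 (le_of_eq hx02)).upd 1 0 2 (le_of_eq hx20)).upd 1 2 3 (le_of_eq hx23)).upd 2 1 1 (le_of_eq hx32)) ![1,2,1] (by decide) (by decide) 0 (by decide))
        · -- 03=(1,1)
          have d13 := two_pair T (by norm_num : 2 < 4) ((pairEmb 1 3 (by decide)).trans v) (fun _ => hv _)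
          change (N T v 1 3 = 0 ∧ N T v 3 1 = 0) ∨ (N T v 1 3 = 1 ∧ N T v 3 1 = 1) ∨ (N T v 1 3 = 1 ∧ N T v 3 1 = 2) ∨ (N T v 1 3 = 2 ∧ N T v 3 1 = 1) ∨ (N T v 1 3 = 1 ∧ N T v 3 1 = 3) ∨ (N T v 1 3 = 3 ∧ N T v 3 1 = 1) at d13
          rw [← hx13, ← hx31] at d13
          rcases d13 with ⟨rfl, rfl⟩ | ⟨rfl, rfl⟩ | ⟨rfl, rfl⟩ | ⟨rfl, rfl⟩ | ⟨rfl, rfl⟩ | ⟨rfl, rfl⟩
          · -- 13=(0,0)
            have d23 := two_pair T (by norm_num : 2 < 4) ((pairEmb 2 3 (by decide)).trans v) (fun _ => hv _)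
            change (N T v 2 3 = 0 ∧ N T v 3 2 = 0) ∨ (N T v 2 3 = 1 ∧ N T v 3 2 = 1) ∨ (N T v 2 3 = 1 ∧ N T v 3 2 = 2) ∨ (N T v 2 3 = 2 ∧ N T v 3 2 = 1) ∨ (N T v 2 3 = 1 ∧ N T v 3 2 = 3) ∨ (N T v 2 3 = 3 ∧ N T v 3 2 = 1) at d23
            rw [← hx23, ← hx32] at d23
            rcases d23 with ⟨rfl, rfl⟩ | ⟨rfl, rfl⟩ | ⟨rfl, rfl⟩ | ⟨rfl, rfl⟩ | ⟨rfl, rfl⟩ | ⟨rfl, rfl⟩
            · -- 23=(0,0)
              exfalso; omega
            · -- 23=(1,1)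
              exact False.elim (cert_false T ((skipEmb 1).trans v) (by norm_num) (fun _ => hv _) (((((((LB_zero T ((skipEmb 1).trans v)).upd 0 1 1 (le_of_eq hx02)).upd 0 2 1 (le_of_eq hx03)).upd 1 0 2 (le_of_eq hx20)).upd 1 2 1 (le_of_eq hx23)).upd 2 0 1 (le_of_eq hx30)).upd 2 1 1 (le_of_eq hx32)) ![1,1,1] (by decide) (by decide) 0 (by decide))
            · -- 23=(1,2)
              exact False.elim (cert_false T ((skipEmb 1).trans v) (by norm_num) (fun _ => hv _) (((((((LB_zero T ((skipEmb 1).trans v)).upd 0 1 1 (le_of_eq hx02)).upd 0 2 1 (le_of_eq hx03)).upd 1 0 2 (le_of_eq hx20)).upd 1 2 1 (le_of_eq hx23)).upd 2 0 1 (le_of_eq hx30)).upd 2 1 2 (le_of_eq hx32)) ![1,1,1] (by decide) (by decide) 0 (by decide))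
            · -- 23=(2,1)
              exact False.elim (cert_false T ((skipEmb 1).trans v) (by norm_num) (fun _ => hv _) (((((((LB_zero T ((skipEmb 1).trans v)).upd 0 1 1 (le_of_eq hx02)).upd 0 2 1 (le_of_eq hx03)).upd 1 0 2 (le_of_eq hx20)).upd 1 2 2 (le_of_eq hx23)).upd 2 0 1 (le_of_eq hx30)).upd 2 1 1 (le_of_eq hx32)) ![1,1,1] (by decide) (by decide) 0 (by decide))
            · -- 23=(1,3)
              exact False.elim (cert_false T ((skipEmb 1).trans v) (by norm_num) (fun _ => hv _) (((((((LB_zero T ((skipEmb 1).trans v)).upd 0 1 1 (le_of_eq hx02)).upd 0 2 1 (le_of_eq hx03)).upd 1 0 2 (le_of_eq hx20)).upd 1 2 1 (le_of_eq hx23)).upd 2 0 1 (le_of_eq hx30)).upd 2 1 3 (le_of_eq hx32)) ![1,1,1] (by decide) (by decide) 0 (by decide))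
            · -- 23=(3,1)
              exact False.elim (cert_false T ((skipEmb 1).trans v) (by norm_num) (fun _ => hv _) (((((((LB_zero T ((skipEmb 1).trans v)).upd 0 1 1 (le_of_eq hx02)).upd 0 2 1 (le_of_eq hx03)).upd 1 0 2 (le_of_eq hx20)).upd 1 2 3 (le_of_eq hx23)).upd 2 0 1 (le_of_eq hx30)).upd 2 1 1 (le_of_eq hx32)) ![1,1,1] (by decide) (by decide) 0 (by decide))
          · -- 13=(1,1)
            have d23 := two_pair T (by norm_num : 2 < 4) ((pairEmb 2 3 (by decide)).trans v) (fun _ => hv _)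
            change (N T v 2 3 = 0 ∧ N T v 3 2 = 0) ∨ (N T v 2 3 = 1 ∧ N T v 3 2 = 1) ∨ (N T v 2 3 = 1 ∧ N T v 3 2 = 2) ∨ (N T v 2 3 = 2 ∧ N T v 3 2 = 1) ∨ (N T v 2 3 = 1 ∧ N T v 3 2 = 3) ∨ (N T v 2 3 = 3 ∧ N T v 3 2 = 1) at d23
            rw [← hx23, ← hx32] at d23
            rcases d23 with ⟨rfl, rfl⟩ | ⟨rfl, rfl⟩ | ⟨rfl, rfl⟩ | ⟨rfl, rfl⟩ | ⟨rfl, rfl⟩ | ⟨rfl, rfl⟩
            · -- 23=(0,0)
              exfalso; omega
            · -- 23=(1,1)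
              exact False.elim (cert_false T ((skipEmb 1).trans v) (by norm_num) (fun _ => hv _) (((((((LB_zero T ((skipEmb 1).trans v)).upd 0 1 1 (le_of_eq hx02)).upd 0 2 1 (le_of_eq hx03)).upd 1 0 2 (le_of_eq hx20)).upd 1 2 1 (le_of_eq hx23)).upd 2 0 1 (le_of_eq hx30)).upd 2 1 1 (le_of_eq hx32)) ![1,1,1] (by decide) (by decide) 0 (by decide))
            · -- 23=(1,2)
              exact False.elim (cert_false T ((skipEmb 1).trans v) (by norm_num) (fun _ => hv _) (((((((LB_zero T ((skipEmb 1).trans v)).upd 0 1 1 (le_of_eq hx02)).upd 0 2 1 (le_of_eq hx03)).upd 1 0 2 (le_of_eq hx20)).upd 1 2 1 (le_of_eq hx23)).upd 2 0 1 (le_of_eq hx30)).upd 2 1 2 (le_of_eq hx32)) ![1,1,1] (by decide) (by decide) 0 (by decide))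
            · -- 23=(2,1)
              exact False.elim (cert_false T ((skipEmb 1).trans v) (by norm_num) (fun _ => hv _) (((((((LB_zero T ((skipEmb 1).trans v)).upd 0 1 1 (le_of_eq hx02)).upd 0 2 1 (le_of_eq hx03)).upd 1 0 2 (le_of_eq hx20)).upd 1 2 2 (le_of_eq hx23)).upd 2 0 1 (le_of_eq hx30)).upd 2 1 1 (le_of_eq hx32)) ![1,1,1] (by decide) (by decide) 0 (by decide))
            · -- 23=(1,3)
              exact False.elim (cert_false T ((skipEmb 1).trans v) (by norm_num) (fun _ => hv _) (((((((LB_zero T ((skipEmb 1).trans v)).upd 0 1 1 (le_of_eq hx02)).upd 0 2 1 (le_of_eq hx03)).upd 1 0 2 (le_of_eq hx20)).upd 1 2 1 (le_of_eq hx23)).upd 2 0 1 (le_of_eq hx30)).upd 2 1 3 (le_of_eq hx32)) ![1,1,1] (by decide) (by decide) 0 (by decide))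
            · -- 23=(3,1)
              exact False.elim (cert_false T ((skipEmb 1).trans v) (by norm_num) (fun _ => hv _) (((((((LB_zero T ((skipEmb 1).trans v)).upd 0 1 1 (le_of_eq hx02)).upd 0 2 1 (le_of_eq hx03)).upd 1 0 2 (le_of_eq hx20)).upd 1 2 3 (le_of_eq hx23)).upd 2 0 1 (le_of_eq hx30)).upd 2 1 1 (le_of_eq hx32)) ![1,1,1] (by decide) (by decide) 0 (by decide))
          · -- 13=(1,2)
            have d23 := two_pair T (by norm_num : 2 < 4) ((pairEmb 2 3 (by decide)).trans v) (fun _ => hv _)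
            change (N T v 2 3 = 0 ∧ N T v 3 2 = 0) ∨ (N T v 2 3 = 1 ∧ N T v 3 2 = 1) ∨ (N T v 2 3 = 1 ∧ N T v 3 2 = 2) ∨ (N T v 2 3 = 2 ∧ N T v 3 2 = 1) ∨ (N T v 2 3 = 1 ∧ N T v 3 2 = 3) ∨ (N T v 2 3 = 3 ∧ N T v 3 2 = 1) at d23
            rw [← hx23, ← hx32] at d23
            rcases d23 with ⟨rfl, rfl⟩ | ⟨rfl, rfl⟩ | ⟨rfl, rfl⟩ | ⟨rfl, rfl⟩ | ⟨rfl, rfl⟩ | ⟨rfl, rfl⟩
            · -- 23=(0,0)
              refine ⟨(⟨![2, 0, 3, 1], ![1, 3, 0, 2], by decide, by decide⟩ : Equiv.Perm (Fin 4)), T.m 1, T.w 2, Or.inr (Or.inl ?_)⟩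
              show T.m 2 = 2 * T.m 1 ∧ T.m 0 = 2 * T.m 1 ∧ T.m 3 = 2 * T.m 1 ∧ T.m 1 = T.m 1 ∧ T.w 2 = T.w 2 ∧ T.w 0 = 2 * T.w 2 ∧ T.w 3 = 2 * T.w 2 ∧ T.w 1 = 4 * T.w 2 ∧ T.a 2 2 = -2 * T.w 2 ∧ T.a 2 0 = 2 * T.w 2 ∧ T.a 2 3 = 0 ∧ T.a 2 1 = 0 ∧ T.a 0 0 = -4 * T.w 2 ∧ T.a 0 3 = 2 * T.w 2 ∧ T.a 0 1 = 0 ∧ T.a 3 3 = -4 * T.w 2 ∧ T.a 3 1 = 4 * T.w 2 ∧ T.a 1 1 = -8 * T.w 2
              refine ⟨?_, ?_, ?_, ?_, ?_, ?_, ?_, ?_, ?_, ?_, ?_, ?_, ?_, ?_, ?_, ?_, ?_, ?_⟩ <;> omega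
            · -- 23=(1,1)
              exact False.elim (cert_false T ((skipEmb 1).trans v) (by norm_num) (fun _ => hv _) (((((((LB_zero T ((skipEmb 1).trans v)).upd 0 1 1 (le_of_eq hx02)).upd 0 2 1 (le_of_eq hx03)).upd 1 0 2 (le_of_eq hx20)).upd 1 2 1 (le_of_eq hx23)).upd 2 0 1 (le_of_eq hx30)).upd 2 1 1 (le_of_eq hx32)) ![1,1,1] (by decide) (by decide) 0 (by decide))
            · -- 23=(1,2)
              exact False.elim (cert_false T ((skipEmb 1).trans v) (by norm_num) (fun _ => hv _) (((((((LB_zero T ((skipEmb 1).trans v)).upd 0 1 1 (le_of_eq hx02)).upd 0 2 1 (le_of_eq hx03)).upd 1 0 2 (le_of_eq hx20)).upd 1 2 1 (le_of_eq hx23)).upd 2 0 1 (le_of_eq hx30)).upd 2 1 2 (le_of_eq hx32)) ![1,1,1] (by decide) (by decide) 0 (by decide))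
            · -- 23=(2,1)
              exact False.elim (cert_false T ((skipEmb 1).trans v) (by norm_num) (fun _ => hv _) (((((((LB_zero T ((skipEmb 1).trans v)).upd 0 1 1 (le_of_eq hx02)).upd 0 2 1 (le_of_eq hx03)).upd 1 0 2 (le_of_eq hx20)).upd 1 2 2 (le_of_eq hx23)).upd 2 0 1 (le_of_eq hx30)).upd 2 1 1 (le_of_eq hx32)) ![1,1,1] (by decide) (by decide) 0 (by decide))
            · -- 23=(1,3)
              exact False.elim (cert_false T ((skipEmb 1).trans v) (by norm_num) (fun _ => hv _) (((((((LB_zero T ((skipEmb 1).trans v)).upd 0 1 1 (le_of_eq hx02)).upd 0 2 1 (le_of_eq hx03)).upd 1 0 2 (le_of_eq hx20)).upd 1 2 1 (le_of_eq hx23)).upd 2 0 1 (le_of_eq hx30)).upd 2 1 3 (le_of_eq hx32)) ![1,1,1] (by decide) (by decide) 0 (by decide))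
            · -- 23=(3,1)
              exact False.elim (cert_false T ((skipEmb 1).trans v) (by norm_num) (fun _ => hv _) (((((((LB_zero T ((skipEmb 1).trans v)).upd 0 1 1 (le_of_eq hx02)).upd 0 2 1 (le_of_eq hx03)).upd 1 0 2 (le_of_eq hx20)).upd 1 2 3 (le_of_eq hx23)).upd 2 0 1 (le_of_eq hx30)).upd 2 1 1 (le_of_eq hx32)) ![1,1,1] (by decide) (by decide) 0 (by decide))
          · -- 13=(2,1)
            have d23 := two_pair T (by norm_num : 2 < 4) ((pairEmb 2 3 (by decide)).trans v) (fun _ => hv _)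
            change (N T v 2 3 = 0 ∧ N T v 3 2 = 0) ∨ (N T v 2 3 = 1 ∧ N T v 3 2 = 1) ∨ (N T v 2 3 = 1 ∧ N T v 3 2 = 2) ∨ (N T v 2 3 = 2 ∧ N T v 3 2 = 1) ∨ (N T v 2 3 = 1 ∧ N T v 3 2 = 3) ∨ (N T v 2 3 = 3 ∧ N T v 3 2 = 1) at d23
            rw [← hx23, ← hx32] at d23
            rcases d23 with ⟨rfl, rfl⟩ | ⟨rfl, rfl⟩ | ⟨rfl, rfl⟩ | ⟨rfl, rfl⟩ | ⟨rfl, rfl⟩ | ⟨rfl, rfl⟩
            · -- 23=(0,0)
              refine ⟨(⟨![1, 3, 0, 2], ![2, 0, 3, 1], by decide, by decide⟩ : Equiv.Perm (Fin 4)), T.m 1, T.w 1, Or.inr (Or.inr (Or.inl ?_))⟩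
              show T.m 1 = T.m 1 ∧ T.m 3 = T.m 1 ∧ T.m 0 = T.m 1 ∧ T.m 2 = T.m 1 ∧ T.w 1 = T.w 1 ∧ T.w 3 = 2 * T.w 1 ∧ T.w 0 = 2 * T.w 1 ∧ T.w 2 = T.w 1 ∧ T.a 1 1 = -2 * T.w 1 ∧ T.a 1 3 = 2 * T.w 1 ∧ T.a 1 0 = 0 ∧ T.a 1 2 = 0 ∧ T.a 3 3 = -4 * T.w 1 ∧ T.a 3 0 = 2 * T.w 1 ∧ T.a 3 2 = 0 ∧ T.a 0 0 = -4 * T.w 1 ∧ T.a 0 2 = 2 * T.w 1 ∧ T.a 2 2 = -2 * T.w 1
              refine ⟨?_, ?_, ?_, ?_, ?_, ?_, ?_, ?_, ?_, ?_, ?_, ?_, ?_, ?_, ?_, ?_, ?_, ?_⟩ <;> omega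
            · -- 23=(1,1)
              exact False.elim (cert_false T ((skipEmb 1).trans v) (by norm_num) (fun _ => hv _) (((((((LB_zero T ((skipEmb 1).trans v)).upd 0 1 1 (le_of_eq hx02)).upd 0 2 1 (le_of_eq hx03)).upd 1 0 2 (le_of_eq hx20)).upd 1 2 1 (le_of_eq hx23)).upd 2 0 1 (le_of_eq hx30)).upd 2 1 1 (le_of_eq hx32)) ![1,1,1] (by decide) (by decide) 0 (by decide))
            · -- 23=(1,2)
              exact False.elim (cert_false T ((skipEmb 1).trans v) (by norm_num) (fun _ => hv _) (((((((LB_zero T ((skipEmb 1).trans v)).upd 0 1 1 (le_of_eq hx02)).upd 0 2 1 (le_of_eq hx03)).upd 1 0 2 (le_of_eq hx20)).upd 1 2 1 (le_of_eq hx23)).upd 2 0 1 (le_of_eq hx30)).upd 2 1 2 (le_of_eq hx32)) ![1,1,1] (by decide) (by decide) 0 (by decide))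
            · -- 23=(2,1)
              exact False.elim (cert_false T ((skipEmb 1).trans v) (by norm_num) (fun _ => hv _) (((((((LB_zero T ((skipEmb 1).trans v)).upd 0 1 1 (le_of_eq hx02)).upd 0 2 1 (le_of_eq hx03)).upd 1 0 2 (le_of_eq hx20)).upd 1 2 2 (le_of_eq hx23)).upd 2 0 1 (le_of_eq hx30)).upd 2 1 1 (le_of_eq hx32)) ![1,1,1] (by decide) (by decide) 0 (by decide))
            · -- 23=(1,3)
              exact False.elim (cert_false T ((skipEmb 1).trans v) (by norm_num) (fun _ => hv _) (((((((LB_zero T ((skipEmb 1).trans v)).upd 0 1 1 (le_of_eq hx02)).upd 0 2 1 (le_of_eq hx03)).upd 1 0 2 (le_of_eq hx20)).upd 1 2 1 (le_of_eq hx23)).upd 2 0 1 (le_of_eq hx30)).upd 2 1 3 (le_of_eq hx32)) ![1,1,1] (by decide) (by decide) 0 (by decide))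
            · -- 23=(3,1)
              exact False.elim (cert_false T ((skipEmb 1).trans v) (by norm_num) (fun _ => hv _) (((((((LB_zero T ((skipEmb 1).trans v)).upd 0 1 1 (le_of_eq hx02)).upd 0 2 1 (le_of_eq hx03)).upd 1 0 2 (le_of_eq hx20)).upd 1 2 3 (le_of_eq hx23)).upd 2 0 1 (le_of_eq hx30)).upd 2 1 1 (le_of_eq hx32)) ![1,1,1] (by decide) (by decide) 0 (by decide))
          · -- 13=(1,3)
            exact False.elim (cert_false T ((skipEmb 2).trans v) (by norm_num) (fun _ => hv _) (((((LB_zero T ((skipEmb 2).trans v)).upd 0 2 1 (le_of_eq hx03)).upd 1 2 1 (le_of_eq hx13)).upd 2 0 1 (le_of_eq hx30)).upd 2 1 3 (le_of_eq hx31)) ![1,1,2] (by decide) (by decide) 0 (by decide))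
          · -- 13=(3,1)
            exact False.elim (cert_false T ((skipEmb 2).trans v) (by norm_num) (fun _ => hv _) (((((LB_zero T ((skipEmb 2).trans v)).upd 0 2 1 (le_of_eq hx03)).upd 1 2 3 (le_of_eq hx13)).upd 2 0 1 (le_of_eq hx30)).upd 2 1 1 (le_of_eq hx31)) ![1,3,2] (by decide) (by decide) 0 (by decide))
        · -- 03=(1,2)
          exact False.elim (cert_false T ((skipEmb 1).trans v) (by norm_num) (fun _ => hv _) (((((LB_zero T ((skipEmb 1).trans v)).upd 0 1 1 (le_of_eq hx02)).upd 0 2 1 (le_of_eq hx03)).upd 1 0 2 (le_of_eq hx20)).upd 2 0 2 (le_of_eq hx30)) ![1,1,1] (by decide) (by decide) 0 (by decide))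
        · -- 03=(2,1)
          exact False.elim (cert_false T ((skipEmb 1).trans v) (by norm_num) (fun _ => hv _) (((((LB_zero T ((skipEmb 1).trans v)).upd 0 1 1 (le_of_eq hx02)).upd 0 2 2 (le_of_eq hx03)).upd 1 0 2 (le_of_eq hx20)).upd 2 0 1 (le_of_eq hx30)) ![2,2,1] (by decide) (by decide) 0 (by decide))
        · -- 03=(1,3)
          exact False.elim (cert_false T ((skipEmb 1).trans v) (by norm_num) (fun _ => hv _) (((((LB_zero T ((skipEmb 1).trans v)).upd 0 1 1 (le_of_eq hx02)).upd 0 2 1 (le_of_eq hx03)).upd 1 0 2 (le_of_eq hx20)).upd 2 0 3 (le_of_eq hx30)) ![1,1,1] (by decide) (by decide) 0 (by decide))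
        · -- 03=(3,1)
          exact False.elim (cert_false T ((skipEmb 1).trans v) (by norm_num) (fun _ => hv _) (((((LB_zero T ((skipEmb 1).trans v)).upd 0 1 1 (le_of_eq hx02)).upd 0 2 3 (le_of_eq hx03)).upd 1 0 2 (le_of_eq hx20)).upd 2 0 1 (le_of_eq hx30)) ![2,1,1] (by decide) (by decide) 0 (by decide))
      · -- 12=(1,1)
        have d03 := two_pair T (by norm_num : 2 < 4) ((pairEmb 0 3 (by decide)).trans v) (fun _ => hv _)
        change (N T v 0 3 = 0 ∧ N T v 3 0 = 0) ∨ (N T v 0 3 = 1 ∧ N T v 3 0 = 1) ∨ (N T v 0 3 = 1 ∧ N T v 3 0 = 2) ∨ (N T v 0 3 = 2 ∧ N T v 3 0 = 1) ∨ (N T v 0 3 = 1 ∧ N T v 3 0 = 3) ∨ (N T v 0 3 = 3 ∧ N T v 3 0 = 1) at d03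
        rw [← hx03, ← hx30] at d03
        rcases d03 with ⟨rfl, rfl⟩ | ⟨rfl, rfl⟩ | ⟨rfl, rfl⟩ | ⟨rfl, rfl⟩ | ⟨rfl, rfl⟩ | ⟨rfl, rfl⟩
        · -- 03=(0,0)
          have d13 := two_pair T (by norm_num : 2 < 4) ((pairEmb 1 3 (by decide)).trans v) (fun _ => hv _)
          change (N T v 1 3 = 0 ∧ N T v 3 1 = 0) ∨ (N T v 1 3 = 1 ∧ N T v 3 1 = 1) ∨ (N T v 1 3 = 1 ∧ N T v 3 1 = 2) ∨ (N T v 1 3 = 2 ∧ N T v 3 1 = 1) ∨ (N T v 1 3 = 1 ∧ N T v 3 1 = 3) ∨ (N T v 1 3 = 3 ∧ N T v 3 1 = 1) at d13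
          rw [← hx13, ← hx31] at d13
          rcases d13 with ⟨rfl, rfl⟩ | ⟨rfl, rfl⟩ | ⟨rfl, rfl⟩ | ⟨rfl, rfl⟩ | ⟨rfl, rfl⟩ | ⟨rfl, rfl⟩
          · -- 13=(0,0)
            have d23 := two_pair T (by norm_num : 2 < 4) ((pairEmb 2 3 (by decide)).trans v) (fun _ => hv _)
            change (N T v 2 3 = 0 ∧ N T v 3 2 = 0) ∨ (N T v 2 3 = 1 ∧ N T v 3 2 = 1) ∨ (N T v 2 3 = 1 ∧ N T v 3 2 = 2) ∨ (N T v 2 3 = 2 ∧ N T v 3 2 = 1) ∨ (N T v 2 3 = 1 ∧ N T v 3 2 = 3) ∨ (N T v 2 3 = 3 ∧ N T v 3 2 = 1) at d23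
            rw [← hx23, ← hx32] at d23
            rcases d23 with ⟨rfl, rfl⟩ | ⟨rfl, rfl⟩ | ⟨rfl, rfl⟩ | ⟨rfl, rfl⟩ | ⟨rfl, rfl⟩ | ⟨rfl, rfl⟩
            · -- 23=(0,0)
              exfalso; omega
            · -- 23=(1,1)
              refine ⟨(⟨![2, 1, 3, 0], ![3, 1, 0, 2], by decide, by decide⟩ : Equiv.Perm (Fin 4)), T.m 1, T.w 2, Or.inr (Or.inr (Or.inr (Or.inr (Or.inl ?_))))⟩
              show T.m 2 = 2 * T.m 1 ∧ T.m 1 = T.m 1 ∧ T.m 3 = T.m 1 ∧ T.m 0 = T.m 1 ∧ T.w 2 = T.w 2 ∧ T.w 1 = T.w 2 ∧ T.w 3 = T.w 2 ∧ T.w 0 = 2 * T.w 2 ∧ T.a 2 2 = -2 * T.w 2 ∧ T.a 2 1 = T.w 2 ∧ T.a 2 3 = T.w 2 ∧ T.a 2 0 = 2 * T.w 2 ∧ T.a 1 1 = -2 * T.w 2 ∧ T.a 1 3 = 0 ∧ T.a 1 0 = 0 ∧ T.a 3 3 = -2 * T.w 2 ∧ T.a 3 0 = 0 ∧ T.a 0 0 = -4 * T.w 2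
              refine ⟨?_, ?_, ?_, ?_, ?_, ?_, ?_, ?_, ?_, ?_, ?_, ?_, ?_, ?_, ?_, ?_, ?_, ?_⟩ <;> omega
            · -- 23=(1,2)
              exact False.elim (cert_false T ((skipEmb 1).trans v) (by norm_num) (fun _ => hv _) (((((LB_zero T ((skipEmb 1).trans v)).upd 0 1 1 (le_of_eq hx02)).upd 1 0 2 (le_of_eq hx20)).upd 1 2 1 (le_of_eq hx23)).upd 2 1 2 (le_of_eq hx32)) ![1,2,2] (by decide) (by decide) 0 (by decide))
            · -- 23=(2,1)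
              exact False.elim (cert_false T ((skipEmb 1).trans v) (by norm_num) (fun _ => hv _) (((((LB_zero T ((skipEmb 1).trans v)).upd 0 1 1 (le_of_eq hx02)).upd 1 0 2 (le_of_eq hx20)).upd 1 2 2 (le_of_eq hx23)).upd 2 1 1 (le_of_eq hx32)) ![1,2,1] (by decide) (by decide) 0 (by decide))
            · -- 23=(1,3)
              exact False.elim (cert_false T ((skipEmb 1).trans v) (by norm_num) (fun _ => hv _) (((((LB_zero T ((skipEmb 1).trans v)).upd 0 1 1 (le_of_eq hx02)).upd 1 0 2 (le_of_eq hx20)).upd 1 2 1 (le_of_eq hx23)).upd 2 1 3 (le_of_eq hx32)) ![1,2,2] (by decide) (by decide) 0 (by decide))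
            · -- 23=(3,1)
              exact False.elim (cert_false T ((skipEmb 1).trans v) (by norm_num) (fun _ => hv _) (((((LB_zero T ((skipEmb 1).trans v)).upd 0 1 1 (le_of_eq hx02)).upd 1 0 2 (le_of_eq hx20)).upd 1 2 3 (le_of_eq hx23)).upd 2 1 1 (le_of_eq hx32)) ![1,2,1] (by decide) (by decide) 0 (by decide))
          · -- 13=(1,1)
            have d23 := two_pair T (by norm_num : 2 < 4) ((pairEmb 2 3 (by decide)).trans v) (fun _ => hv _)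
            change (N T v 2 3 = 0 ∧ N T v 3 2 = 0) ∨ (N T v 2 3 = 1 ∧ N T v 3 2 = 1) ∨ (N T v 2 3 = 1 ∧ N T v 3 2 = 2) ∨ (N T v 2 3 = 2 ∧ N T v 3 2 = 1) ∨ (N T v 2 3 = 1 ∧ N T v 3 2 = 3) ∨ (N T v 2 3 = 3 ∧ N T v 3 2 = 1) at d23
            rw [← hx23, ← hx32] at d23
            rcases d23 with ⟨rfl, rfl⟩ | ⟨rfl, rfl⟩ | ⟨rfl, rfl⟩ | ⟨rfl, rfl⟩ | ⟨rfl, rfl⟩ | ⟨rfl, rfl⟩
            · -- 23=(0,0)
              exfalso; omega
            · -- 23=(1,1)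
              exact False.elim (cert_false T ((skipEmb 0).trans v) (by norm_num) (fun _ => hv _) (((((((LB_zero T ((skipEmb 0).trans v)).upd 0 1 1 (le_of_eq hx12)).upd 0 2 1 (le_of_eq hx13)).upd 1 0 1 (le_of_eq hx21)).upd 1 2 1 (le_of_eq hx23)).upd 2 0 1 (le_of_eq hx31)).upd 2 1 1 (le_of_eq hx32)) ![1,1,1] (by decide) (by decide) 0 (by decide))
            · -- 23=(1,2)
              exact False.elim (cert_false T ((skipEmb 1).trans v) (by norm_num) (fun _ => hv _) (((((LB_zero T ((skipEmb 1).trans v)).upd 0 1 1 (le_of_eq hx02)).upd 1 0 2 (le_of_eq hx20)).upd 1 2 1 (le_of_eq hx23)).upd 2 1 2 (le_of_eq hx32)) ![1,2,2] (by decide) (by decide) 0 (by decide))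
            · -- 23=(2,1)
              exact False.elim (cert_false T ((skipEmb 1).trans v) (by norm_num) (fun _ => hv _) (((((LB_zero T ((skipEmb 1).trans v)).upd 0 1 1 (le_of_eq hx02)).upd 1 0 2 (le_of_eq hx20)).upd 1 2 2 (le_of_eq hx23)).upd 2 1 1 (le_of_eq hx32)) ![1,2,1] (by decide) (by decide) 0 (by decide))
            · -- 23=(1,3)
              exact False.elim (cert_false T ((skipEmb 1).trans v) (by norm_num) (fun _ => hv _) (((((LB_zero T ((skipEmb 1).trans v)).upd 0 1 1 (le_of_eq hx02)).upd 1 0 2 (le_of_eq hx20)).upd 1 2 1 (le_of_eq hx23)).upd 2 1 3 (le_of_eq hx32)) ![1,2,2] (by decide) (by decide) 0 (by decide))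
            · -- 23=(3,1)
              exact False.elim (cert_false T ((skipEmb 1).trans v) (by norm_num) (fun _ => hv _) (((((LB_zero T ((skipEmb 1).trans v)).upd 0 1 1 (le_of_eq hx02)).upd 1 0 2 (le_of_eq hx20)).upd 1 2 3 (le_of_eq hx23)).upd 2 1 1 (le_of_eq hx32)) ![1,2,1] (by decide) (by decide) 0 (by decide))
          · -- 13=(1,2)
            have d23 := two_pair T (by norm_num : 2 < 4) ((pairEmb 2 3 (by decide)).trans v) (fun _ => hv _)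
            change (N T v 2 3 = 0 ∧ N T v 3 2 = 0) ∨ (N T v 2 3 = 1 ∧ N T v 3 2 = 1) ∨ (N T v 2 3 = 1 ∧ N T v 3 2 = 2) ∨ (N T v 2 3 = 2 ∧ N T v 3 2 = 1) ∨ (N T v 2 3 = 1 ∧ N T v 3 2 = 3) ∨ (N T v 2 3 = 3 ∧ N T v 3 2 = 1) at d23
            rw [← hx23, ← hx32] at d23
            rcases d23 with ⟨rfl, rfl⟩ | ⟨rfl, rfl⟩ | ⟨rfl, rfl⟩ | ⟨rfl, rfl⟩ | ⟨rfl, rfl⟩ | ⟨rfl, rfl⟩
            · -- 23=(0,0)
              refine ⟨(⟨![3, 1, 2, 0], ![3, 1, 2, 0], by decide, by decide⟩ : Equiv.Perm (Fin 4)), T.m 0, T.w 3, Or.inr (Or.inl ?_)⟩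
              show T.m 3 = 2 * T.m 0 ∧ T.m 1 = 2 * T.m 0 ∧ T.m 2 = 2 * T.m 0 ∧ T.m 0 = T.m 0 ∧ T.w 3 = T.w 3 ∧ T.w 1 = 2 * T.w 3 ∧ T.w 2 = 2 * T.w 3 ∧ T.w 0 = 4 * T.w 3 ∧ T.a 3 3 = -2 * T.w 3 ∧ T.a 3 1 = 2 * T.w 3 ∧ T.a 3 2 = 0 ∧ T.a 3 0 = 0 ∧ T.a 1 1 = -4 * T.w 3 ∧ T.a 1 2 = 2 * T.w 3 ∧ T.a 1 0 = 0 ∧ T.a 2 2 = -4 * T.w 3 ∧ T.a 2 0 = 4 * T.w 3 ∧ T.a 0 0 = -8 * T.w 3
              refine ⟨?_, ?_, ?_, ?_, ?_, ?_, ?_, ?_, ?_, ?_, ?_, ?_, ?_, ?_, ?_, ?_, ?_, ?_⟩ <;> omega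
            · -- 23=(1,1)
              exact False.elim (cert_false T ((skipEmb 0).trans v) (by norm_num) (fun _ => hv _) (((((((LB_zero T ((skipEmb 0).trans v)).upd 0 1 1 (le_of_eq hx12)).upd 0 2 1 (le_of_eq hx13)).upd 1 0 1 (le_of_eq hx21)).upd 1 2 1 (le_of_eq hx23)).upd 2 0 2 (le_of_eq hx31)).upd 2 1 1 (le_of_eq hx32)) ![1,1,1] (by decide) (by decide) 0 (by decide))
            · -- 23=(1,2)
              exact False.elim (cert_false T ((skipEmb 1).trans v) (by norm_num) (fun _ => hv _) (((((LB_zero T ((skipEmb 1).trans v)).upd 0 1 1 (le_of_eq hx02)).upd 1 0 2 (le_of_eq hx20)).upd 1 2 1 (le_of_eq hx23)).upd 2 1 2 (le_of_eq hx32)) ![1,2,2] (by decide) (by decide) 0 (by decide))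
            · -- 23=(2,1)
              exact False.elim (cert_false T ((skipEmb 1).trans v) (by norm_num) (fun _ => hv _) (((((LB_zero T ((skipEmb 1).trans v)).upd 0 1 1 (le_of_eq hx02)).upd 1 0 2 (le_of_eq hx20)).upd 1 2 2 (le_of_eq hx23)).upd 2 1 1 (le_of_eq hx32)) ![1,2,1] (by decide) (by decide) 0 (by decide))
            · -- 23=(1,3)
              exact False.elim (cert_false T ((skipEmb 1).trans v) (by norm_num) (fun _ => hv _) (((((LB_zero T ((skipEmb 1).trans v)).upd 0 1 1 (le_of_eq hx02)).upd 1 0 2 (le_of_eq hx20)).upd 1 2 1 (le_of_eq hx23)).upd 2 1 3 (le_of_eq hx32)) ![1,2,2] (by decide) (by decide) 0 (by decide))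
            · -- 23=(3,1)
              exact False.elim (cert_false T ((skipEmb 1).trans v) (by norm_num) (fun _ => hv _) (((((LB_zero T ((skipEmb 1).trans v)).upd 0 1 1 (le_of_eq hx02)).upd 1 0 2 (le_of_eq hx20)).upd 1 2 3 (le_of_eq hx23)).upd 2 1 1 (le_of_eq hx32)) ![1,2,1] (by decide) (by decide) 0 (by decide))
          · -- 13=(2,1)
            have d23 := two_pair T (by norm_num : 2 < 4) ((pairEmb 2 3 (by decide)).trans v) (fun _ => hv _)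
            change (N T v 2 3 = 0 ∧ N T v 3 2 = 0) ∨ (N T v 2 3 = 1 ∧ N T v 3 2 = 1) ∨ (N T v 2 3 = 1 ∧ N T v 3 2 = 2) ∨ (N T v 2 3 = 2 ∧ N T v 3 2 = 1) ∨ (N T v 2 3 = 1 ∧ N T v 3 2 = 3) ∨ (N T v 2 3 = 3 ∧ N T v 3 2 = 1) at d23
            rw [← hx23, ← hx32] at d23
            rcases d23 with ⟨rfl, rfl⟩ | ⟨rfl, rfl⟩ | ⟨rfl, rfl⟩ | ⟨rfl, rfl⟩ | ⟨rfl, rfl⟩ | ⟨rfl, rfl⟩
            · -- 23=(0,0)
              refine ⟨(⟨![0, 2, 1, 3], ![0, 2, 1, 3], by decide, by decide⟩ : Equiv.Perm (Fin 4)), T.m 0, T.w 2, Or.inr (Or.inr (Or.inr (Or.inl ?_)))⟩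
              show T.m 0 = T.m 0 ∧ T.m 2 = 2 * T.m 0 ∧ T.m 1 = 2 * T.m 0 ∧ T.m 3 = T.m 0 ∧ T.w 0 = 2 * T.w 2 ∧ T.w 2 = T.w 2 ∧ T.w 1 = T.w 2 ∧ T.w 3 = 2 * T.w 2 ∧ T.a 0 0 = -4 * T.w 2 ∧ T.a 0 2 = 2 * T.w 2 ∧ T.a 0 1 = 0 ∧ T.a 0 3 = 0 ∧ T.a 2 2 = -2 * T.w 2 ∧ T.a 2 1 = T.w 2 ∧ T.a 2 3 = 0 ∧ T.a 1 1 = -2 * T.w 2 ∧ T.a 1 3 = 2 * T.w 2 ∧ T.a 3 3 = -4 * T.w 2
              refine ⟨?_, ?_, ?_, ?_, ?_, ?_, ?_, ?_, ?_, ?_, ?_, ?_, ?_, ?_, ?_, ?_, ?_, ?_⟩ <;> omega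
            · -- 23=(1,1)
              exact False.elim (cert_false T ((skipEmb 0).trans v) (by norm_num) (fun _ => hv _) (((((((LB_zero T ((skipEmb 0).trans v)).upd 0 1 1 (le_of_eq hx12)).upd 0 2 2 (le_of_eq hx13)).upd 1 0 1 (le_of_eq hx21)).upd 1 2 1 (le_of_eq hx23)).upd 2 0 1 (le_of_eq hx31)).upd 2 1 1 (le_of_eq hx32)) ![1,1,1] (by decide) (by decide) 0 (by decide))
            · -- 23=(1,2)
              exact False.elim (cert_false T ((skipEmb 1).trans v) (by norm_num) (fun _ => hv _) (((((LB_zero T ((skipEmb 1).trans v)).upd 0 1 1 (le_of_eq hx02)).upd 1 0 2 (le_of_eq hx20)).upd 1 2 1 (le_of_eq hx23)).upd 2 1 2 (le_of_eq hx32)) ![1,2,2] (by decide) (by decide) 0 (by decide))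
            · -- 23=(2,1)
              exact False.elim (cert_false T ((skipEmb 1).trans v) (by norm_num) (fun _ => hv _) (((((LB_zero T ((skipEmb 1).trans v)).upd 0 1 1 (le_of_eq hx02)).upd 1 0 2 (le_of_eq hx20)).upd 1 2 2 (le_of_eq hx23)).upd 2 1 1 (le_of_eq hx32)) ![1,2,1] (by decide) (by decide) 0 (by decide))
            · -- 23=(1,3)
              exact False.elim (cert_false T ((skipEmb 1).trans v) (by norm_num) (fun _ => hv _) (((((LB_zero T ((skipEmb 1).trans v)).upd 0 1 1 (le_of_eq hx02)).upd 1 0 2 (le_of_eq hx20)).upd 1 2 1 (le_of_eq hx23)).upd 2 1 3 (le_of_eq hx32)) ![1,2,2] (by decide) (by decide) 0 (by decide))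
            · -- 23=(3,1)
              exact False.elim (cert_false T ((skipEmb 1).trans v) (by norm_num) (fun _ => hv _) (((((LB_zero T ((skipEmb 1).trans v)).upd 0 1 1 (le_of_eq hx02)).upd 1 0 2 (le_of_eq hx20)).upd 1 2 3 (le_of_eq hx23)).upd 2 1 1 (le_of_eq hx32)) ![1,2,1] (by decide) (by decide) 0 (by decide))
          · -- 13=(1,3)
            exact False.elim (cert_false T ((skipEmb 0).trans v) (by norm_num) (fun _ => hv _) (((((LB_zero T ((skipEmb 0).trans v)).upd 0 1 1 (le_of_eq hx12)).upd 0 2 1 (le_of_eq hx13)).upd 1 0 1 (le_of_eq hx21)).upd 2 0 3 (le_of_eq hx31)) ![2,1,3] (by decide) (by decide) 0 (by decide))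
          · -- 13=(3,1)
            exact False.elim (cert_false T ((skipEmb 0).trans v) (by norm_num) (fun _ => hv _) (((((LB_zero T ((skipEmb 0).trans v)).upd 0 1 1 (le_of_eq hx12)).upd 0 2 3 (le_of_eq hx13)).upd 1 0 1 (le_of_eq hx21)).upd 2 0 1 (le_of_eq hx31)) ![2,1,1] (by decide) (by decide) 0 (by decide))
        · -- 03=(1,1)
          have d13 := two_pair T (by norm_num : 2 < 4) ((pairEmb 1 3 (by decide)).trans v) (fun _ => hv _)
          change (N T v 1 3 = 0 ∧ N T v 3 1 = 0) ∨ (N T v 1 3 = 1 ∧ N T v 3 1 = 1) ∨ (N T v 1 3 = 1 ∧ N T v 3 1 = 2) ∨ (N T v 1 3 = 2 ∧ N T v 3 1 = 1) ∨ (N T v 1 3 = 1 ∧ N T v 3 1 = 3) ∨ (N T v 1 3 = 3 ∧ N T v 3 1 = 1) at d13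
          rw [← hx13, ← hx31] at d13
          rcases d13 with ⟨rfl, rfl⟩ | ⟨rfl, rfl⟩ | ⟨rfl, rfl⟩ | ⟨rfl, rfl⟩ | ⟨rfl, rfl⟩ | ⟨rfl, rfl⟩
          · -- 13=(0,0)
            have d23 := two_pair T (by norm_num : 2 < 4) ((pairEmb 2 3 (by decide)).trans v) (fun _ => hv _)
            change (N T v 2 3 = 0 ∧ N T v 3 2 = 0) ∨ (N T v 2 3 = 1 ∧ N T v 3 2 = 1) ∨ (N T v 2 3 = 1 ∧ N T v 3 2 = 2) ∨ (N T v 2 3 = 2 ∧ N T v 3 2 = 1) ∨ (N T v 2 3 = 1 ∧ N T v 3 2 = 3) ∨ (N T v 2 3 = 3 ∧ N T v 3 2 = 1) at d23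
            rw [← hx23, ← hx32] at d23
            rcases d23 with ⟨rfl, rfl⟩ | ⟨rfl, rfl⟩ | ⟨rfl, rfl⟩ | ⟨rfl, rfl⟩ | ⟨rfl, rfl⟩ | ⟨rfl, rfl⟩
            · -- 23=(0,0)
              exfalso; omega
            · -- 23=(1,1)
              exact False.elim (cert_false T ((skipEmb 1).trans v) (by norm_num) (fun _ => hv _) (((((((LB_zero T ((skipEmb 1).trans v)).upd 0 1 1 (le_of_eq hx02)).upd 0 2 1 (le_of_eq hx03)).upd 1 0 2 (le_of_eq hx20)).upd 1 2 1 (le_of_eq hx23)).upd 2 0 1 (le_of_eq hx30)).upd 2 1 1 (le_of_eq hx32)) ![1,1,1] (by decide) (by decide) 0 (by decide))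
            · -- 23=(1,2)
              exact False.elim (cert_false T ((skipEmb 1).trans v) (by norm_num) (fun _ => hv _) (((((((LB_zero T ((skipEmb 1).trans v)).upd 0 1 1 (le_of_eq hx02)).upd 0 2 1 (le_of_eq hx03)).upd 1 0 2 (le_of_eq hx20)).upd 1 2 1 (le_of_eq hx23)).upd 2 0 1 (le_of_eq hx30)).upd 2 1 2 (le_of_eq hx32)) ![1,1,1] (by decide) (by decide) 0 (by decide))
            · -- 23=(2,1)
              exact False.elim (cert_false T ((skipEmb 1).trans v) (by norm_num) (fun _ => hv _) (((((((LB_zero T ((skipEmb 1).trans v)).upd 0 1 1 (le_of_eq hx02)).upd 0 2 1 (le_of_eq hx03)).upd 1 0 2 (le_of_eq hx20)).upd 1 2 2 (le_of_eq hx23)).upd 2 0 1 (le_of_eq hx30)).upd 2 1 1 (le_of_eq hx32)) ![1,1,1] (by decide) (by decide) 0 (by decide))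
            · -- 23=(1,3)
              exact False.elim (cert_false T ((skipEmb 1).trans v) (by norm_num) (fun _ => hv _) (((((((LB_zero T ((skipEmb 1).trans v)).upd 0 1 1 (le_of_eq hx02)).upd 0 2 1 (le_of_eq hx03)).upd 1 0 2 (le_of_eq hx20)).upd 1 2 1 (le_of_eq hx23)).upd 2 0 1 (le_of_eq hx30)).upd 2 1 3 (le_of_eq hx32)) ![1,1,1] (by decide) (by decide) 0 (by decide))
            · -- 23=(3,1)
              exact False.elim (cert_false T ((skipEmb 1).trans v) (by norm_num) (fun _ => hv _) (((((((LB_zero T ((skipEmb 1).trans v)).upd 0 1 1 (le_of_eq hx02)).upd 0 2 1 (le_of_eq hx03)).upd 1 0 2 (le_of_eq hx20)).upd 1 2 3 (le_of_eq hx23)).upd 2 0 1 (le_of_eq hx30)).upd 2 1 1 (le_of_eq hx32)) ![1,1,1] (by decide) (by decide) 0 (by decide))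
          · -- 13=(1,1)
            have d23 := two_pair T (by norm_num : 2 < 4) ((pairEmb 2 3 (by decide)).trans v) (fun _ => hv _)
            change (N T v 2 3 = 0 ∧ N T v 3 2 = 0) ∨ (N T v 2 3 = 1 ∧ N T v 3 2 = 1) ∨ (N T v 2 3 = 1 ∧ N T v 3 2 = 2) ∨ (N T v 2 3 = 2 ∧ N T v 3 2 = 1) ∨ (N T v 2 3 = 1 ∧ N T v 3 2 = 3) ∨ (N T v 2 3 = 3 ∧ N T v 3 2 = 1) at d23
            rw [← hx23, ← hx32] at d23
            rcases d23 with ⟨rfl, rfl⟩ | ⟨rfl, rfl⟩ | ⟨rfl, rfl⟩ | ⟨rfl, rfl⟩ | ⟨rfl, rfl⟩ | ⟨rfl, rfl⟩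
            · -- 23=(0,0)
              exfalso; omega
            · -- 23=(1,1)
              exact False.elim (cert_false T ((skipEmb 1).trans v) (by norm_num) (fun _ => hv _) (((((((LB_zero T ((skipEmb 1).trans v)).upd 0 1 1 (le_of_eq hx02)).upd 0 2 1 (le_of_eq hx03)).upd 1 0 2 (le_of_eq hx20)).upd 1 2 1 (le_of_eq hx23)).upd 2 0 1 (le_of_eq hx30)).upd 2 1 1 (le_of_eq hx32)) ![1,1,1] (by decide) (by decide) 0 (by decide))
            · -- 23=(1,2)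
              exact False.elim (cert_false T ((skipEmb 1).trans v) (by norm_num) (fun _ => hv _) (((((((LB_zero T ((skipEmb 1).trans v)).upd 0 1 1 (le_of_eq hx02)).upd 0 2 1 (le_of_eq hx03)).upd 1 0 2 (le_of_eq hx20)).upd 1 2 1 (le_of_eq hx23)).upd 2 0 1 (le_of_eq hx30)).upd 2 1 2 (le_of_eq hx32)) ![1,1,1] (by decide) (by decide) 0 (by decide))
            · -- 23=(2,1)
              exact False.elim (cert_false T ((skipEmb 1).trans v) (by norm_num) (fun _ => hv _) (((((((LB_zero T ((skipEmb 1).trans v)).upd 0 1 1 (le_of_eq hx02)).upd 0 2 1 (le_of_eq hx03)).upd 1 0 2 (le_of_eq hx20)).upd 1 2 2 (le_of_eq hx23)).upd 2 0 1 (le_of_eq hx30)).upd 2 1 1 (le_of_eq hx32)) ![1,1,1] (by decide) (by decide) 0 (by decide))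
            · -- 23=(1,3)
              exact False.elim (cert_false T ((skipEmb 1).trans v) (by norm_num) (fun _ => hv _) (((((((LB_zero T ((skipEmb 1).trans v)).upd 0 1 1 (le_of_eq hx02)).upd 0 2 1 (le_of_eq hx03)).upd 1 0 2 (le_of_eq hx20)).upd 1 2 1 (le_of_eq hx23)).upd 2 0 1 (le_of_eq hx30)).upd 2 1 3 (le_of_eq hx32)) ![1,1,1] (by decide) (by decide) 0 (by decide))
            · -- 23=(3,1)
              exact False.elim (cert_false T ((skipEmb 1).trans v) (by norm_num) (fun _ => hv _) (((((((LB_zero T ((skipEmb 1).trans v)).upd 0 1 1 (le_of_eq hx02)).upd 0 2 1 (le_of_eq hx03)).upd 1 0 2 (le_of_eq hx20)).upd 1 2 3 (le_of_eq hx23)).upd 2 0 1 (le_of_eq hx30)).upd 2 1 1 (le_of_eq hx32)) ![1,1,1] (by decide) (by decide) 0 (by decide))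
          · -- 13=(1,2)
            have d23 := two_pair T (by norm_num : 2 < 4) ((pairEmb 2 3 (by decide)).trans v) (fun _ => hv _)
            change (N T v 2 3 = 0 ∧ N T v 3 2 = 0) ∨ (N T v 2 3 = 1 ∧ N T v 3 2 = 1) ∨ (N T v 2 3 = 1 ∧ N T v 3 2 = 2) ∨ (N T v 2 3 = 2 ∧ N T v 3 2 = 1) ∨ (N T v 2 3 = 1 ∧ N T v 3 2 = 3) ∨ (N T v 2 3 = 3 ∧ N T v 3 2 = 1) at d23
            rw [← hx23, ← hx32] at d23
            rcases d23 with ⟨rfl, rfl⟩ | ⟨rfl, rfl⟩ | ⟨rfl, rfl⟩ | ⟨rfl, rfl⟩ | ⟨rfl, rfl⟩ | ⟨rfl, rfl⟩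
            · -- 23=(0,0)
              exfalso; omega
            · -- 23=(1,1)
              exact False.elim (cert_false T ((skipEmb 1).trans v) (by norm_num) (fun _ => hv _) (((((((LB_zero T ((skipEmb 1).trans v)).upd 0 1 1 (le_of_eq hx02)).upd 0 2 1 (le_of_eq hx03)).upd 1 0 2 (le_of_eq hx20)).upd 1 2 1 (le_of_eq hx23)).upd 2 0 1 (le_of_eq hx30)).upd 2 1 1 (le_of_eq hx32)) ![1,1,1] (by decide) (by decide) 0 (by decide))
            · -- 23=(1,2)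
              exact False.elim (cert_false T ((skipEmb 1).trans v) (by norm_num) (fun _ => hv _) (((((((LB_zero T ((skipEmb 1).trans v)).upd 0 1 1 (le_of_eq hx02)).upd 0 2 1 (le_of_eq hx03)).upd 1 0 2 (le_of_eq hx20)).upd 1 2 1 (le_of_eq hx23)).upd 2 0 1 (le_of_eq hx30)).upd 2 1 2 (le_of_eq hx32)) ![1,1,1] (by decide) (by decide) 0 (by decide))
            · -- 23=(2,1)
              exact False.elim (cert_false T ((skipEmb 1).trans v) (by norm_num) (fun _ => hv _) (((((((LB_zero T ((skipEmb 1).trans v)).upd 0 1 1 (le_of_eq hx02)).upd 0 2 1 (le_of_eq hx03)).upd 1 0 2 (le_of_eq hx20)).upd 1 2 2 (le_of_eq hx23)).upd 2 0 1 (le_of_eq hx30)).upd 2 1 1 (le_of_eq hx32)) ![1,1,1] (by decide) (by decide) 0 (by decide))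
            · -- 23=(1,3)
              exact False.elim (cert_false T ((skipEmb 1).trans v) (by norm_num) (fun _ => hv _) (((((((LB_zero T ((skipEmb 1).trans v)).upd 0 1 1 (le_of_eq hx02)).upd 0 2 1 (le_of_eq hx03)).upd 1 0 2 (le_of_eq hx20)).upd 1 2 1 (le_of_eq hx23)).upd 2 0 1 (le_of_eq hx30)).upd 2 1 3 (le_of_eq hx32)) ![1,1,1] (by decide) (by decide) 0 (by decide))
            · -- 23=(3,1)
              exact False.elim (cert_false T ((skipEmb 1).trans v) (by norm_num) (fun _ => hv _) (((((((LB_zero T ((skipEmb 1).trans v)).upd 0 1 1 (le_of_eq hx02)).upd 0 2 1 (le_of_eq hx03)).upd 1 0 2 (le_of_eq hx20)).upd 1 2 3 (le_of_eq hx23)).upd 2 0 1 (le_of_eq hx30)).upd 2 1 1 (le_of_eq hx32)) ![1,1,1] (by decide) (by decide) 0 (by decide))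
          · -- 13=(2,1)
            have d23 := two_pair T (by norm_num : 2 < 4) ((pairEmb 2 3 (by decide)).trans v) (fun _ => hv _)
            change (N T v 2 3 = 0 ∧ N T v 3 2 = 0) ∨ (N T v 2 3 = 1 ∧ N T v 3 2 = 1) ∨ (N T v 2 3 = 1 ∧ N T v 3 2 = 2) ∨ (N T v 2 3 = 2 ∧ N T v 3 2 = 1) ∨ (N T v 2 3 = 1 ∧ N T v 3 2 = 3) ∨ (N T v 2 3 = 3 ∧ N T v 3 2 = 1) at d23
            rw [← hx23, ← hx32] at d23
            rcases d23 with ⟨rfl, rfl⟩ | ⟨rfl, rfl⟩ | ⟨rfl, rfl⟩ | ⟨rfl, rfl⟩ | ⟨rfl, rfl⟩ | ⟨rfl, rfl⟩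
            · -- 23=(0,0)
              exfalso; omega
            · -- 23=(1,1)
              exact False.elim (cert_false T ((skipEmb 1).trans v) (by norm_num) (fun _ => hv _) (((((((LB_zero T ((skipEmb 1).trans v)).upd 0 1 1 (le_of_eq hx02)).upd 0 2 1 (le_of_eq hx03)).upd 1 0 2 (le_of_eq hx20)).upd 1 2 1 (le_of_eq hx23)).upd 2 0 1 (le_of_eq hx30)).upd 2 1 1 (le_of_eq hx32)) ![1,1,1] (by decide) (by decide) 0 (by decide))
            · -- 23=(1,2)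
              exact False.elim (cert_false T ((skipEmb 1).trans v) (by norm_num) (fun _ => hv _) (((((((LB_zero T ((skipEmb 1).trans v)).upd 0 1 1 (le_of_eq hx02)).upd 0 2 1 (le_of_eq hx03)).upd 1 0 2 (le_of_eq hx20)).upd 1 2 1 (le_of_eq hx23)).upd 2 0 1 (le_of_eq hx30)).upd 2 1 2 (le_of_eq hx32)) ![1,1,1] (by decide) (by decide) 0 (by decide))
            · -- 23=(2,1)
              exact False.elim (cert_false T ((skipEmb 1).trans v) (by norm_num) (fun _ => hv _) (((((((LB_zero T ((skipEmb 1).trans v)).upd 0 1 1 (le_of_eq hx02)).upd 0 2 1 (le_of_eq hx03)).upd 1 0 2 (le_of_eq hx20)).upd 1 2 2 (le_of_eq hx23)).upd 2 0 1 (le_of_eq hx30)).upd 2 1 1 (le_of_eq hx32)) ![1,1,1] (by decide) (by decide) 0 (by decide))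
            · -- 23=(1,3)
              exact False.elim (cert_false T ((skipEmb 1).trans v) (by norm_num) (fun _ => hv _) (((((((LB_zero T ((skipEmb 1).trans v)).upd 0 1 1 (le_of_eq hx02)).upd 0 2 1 (le_of_eq hx03)).upd 1 0 2 (le_of_eq hx20)).upd 1 2 1 (le_of_eq hx23)).upd 2 0 1 (le_of_eq hx30)).upd 2 1 3 (le_of_eq hx32)) ![1,1,1] (by decide) (by decide) 0 (by decide))
            · -- 23=(3,1)
              exact False.elim (cert_false T ((skipEmb 1).trans v) (by norm_num) (fun _ => hv _) (((((((LB_zero T ((skipEmb 1).trans v)).upd 0 1 1 (le_of_eq hx02)).upd 0 2 1 (le_of_eq hx03)).upd 1 0 2 (le_of_eq hx20)).upd 1 2 3 (le_of_eq hx23)).upd 2 0 1 (le_of_eq hx30)).upd 2 1 1 (le_of_eq hx32)) ![1,1,1] (by decide) (by decide) 0 (by decide))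
          · -- 13=(1,3)
            exact False.elim (cert_false T ((skipEmb 2).trans v) (by norm_num) (fun _ => hv _) (((((LB_zero T ((skipEmb 2).trans v)).upd 0 2 1 (le_of_eq hx03)).upd 1 2 1 (le_of_eq hx13)).upd 2 0 1 (le_of_eq hx30)).upd 2 1 3 (le_of_eq hx31)) ![1,1,2] (by decide) (by decide) 0 (by decide))
          · -- 13=(3,1)
            exact False.elim (cert_false T ((skipEmb 2).trans v) (by norm_num) (fun _ => hv _) (((((LB_zero T ((skipEmb 2).trans v)).upd 0 2 1 (le_of_eq hx03)).upd 1 2 3 (le_of_eq hx13)).upd 2 0 1 (le_of_eq hx30)).upd 2 1 1 (le_of_eq hx31)) ![1,3,2] (by decide) (by decide) 0 (by decide))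
        · -- 03=(1,2)
          exact False.elim (cert_false T ((skipEmb 1).trans v) (by norm_num) (fun _ => hv _) (((((LB_zero T ((skipEmb 1).trans v)).upd 0 1 1 (le_of_eq hx02)).upd 0 2 1 (le_of_eq hx03)).upd 1 0 2 (le_of_eq hx20)).upd 2 0 2 (le_of_eq hx30)) ![1,1,1] (by decide) (by decide) 0 (by decide))
        · -- 03=(2,1)
          exact False.elim (cert_false T ((skipEmb 1).trans v) (by norm_num) (fun _ => hv _) (((((LB_zero T ((skipEmb 1).trans v)).upd 0 1 1 (le_of_eq hx02)).upd 0 2 2 (le_of_eq hx03)).upd 1 0 2 (le_of_eq hx20)).upd 2 0 1 (le_of_eq hx30)) ![2,2,1] (by decide) (by decide) 0 (by decide))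
        · -- 03=(1,3)
          exact False.elim (cert_false T ((skipEmb 1).trans v) (by norm_num) (fun _ => hv _) (((((LB_zero T ((skipEmb 1).trans v)).upd 0 1 1 (le_of_eq hx02)).upd 0 2 1 (le_of_eq hx03)).upd 1 0 2 (le_of_eq hx20)).upd 2 0 3 (le_of_eq hx30)) ![1,1,1] (by decide) (by decide) 0 (by decide))
        · -- 03=(3,1)
          exact False.elim (cert_false T ((skipEmb 1).trans v) (by norm_num) (fun _ => hv _) (((((LB_zero T ((skipEmb 1).trans v)).upd 0 1 1 (le_of_eq hx02)).upd 0 2 3 (le_of_eq hx03)).upd 1 0 2 (le_of_eq hx20)).upd 2 0 1 (le_of_eq hx30)) ![2,1,1] (by decide) (by decide) 0 (by decide))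
      · -- 12=(1,2)
        exact False.elim (cert_false T ((skipEmb 3).trans v) (by norm_num) (fun _ => hv _) (((((LB_zero T ((skipEmb 3).trans v)).upd 0 2 1 (le_of_eq hx02)).upd 1 2 1 (le_of_eq hx12)).upd 2 0 2 (le_of_eq hx20)).upd 2 1 2 (le_of_eq hx21)) ![1,1,2] (by decide) (by decide) 0 (by decide))
      · -- 12=(2,1)
        exact False.elim (cert_false T ((skipEmb 3).trans v) (by norm_num) (fun _ => hv _) (((((LB_zero T ((skipEmb 3).trans v)).upd 0 2 1 (le_of_eq hx02)).upd 1 2 2 (le_of_eq hx12)).upd 2 0 2 (le_of_eq hx20)).upd 2 1 1 (le_of_eq hx21)) ![1,2,2] (by decide) (by decide) 0 (by decide))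
      · -- 12=(1,3)
        exact False.elim (cert_false T ((skipEmb 3).trans v) (by norm_num) (fun _ => hv _) (((((LB_zero T ((skipEmb 3).trans v)).upd 0 2 1 (le_of_eq hx02)).upd 1 2 1 (le_of_eq hx12)).upd 2 0 2 (le_of_eq hx20)).upd 2 1 3 (le_of_eq hx21)) ![1,1,2] (by decide) (by decide) 0 (by decide))
      · -- 12=(3,1)
        exact False.elim (cert_false T ((skipEmb 3).trans v) (by norm_num) (fun _ => hv _) (((((LB_zero T ((skipEmb 3).trans v)).upd 0 2 1 (le_of_eq hx02)).upd 1 2 3 (le_of_eq hx12)).upd 2 0 2 (le_of_eq hx20)).upd 2 1 1 (le_of_eq hx21)) ![1,2,2] (by decide) (by decide) 0 (by decide))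
    · -- 02=(2,1)
      have d12 := two_pair T (by norm_num : 2 < 4) ((pairEmb 1 2 (by decide)).trans v) (fun _ => hv _)
      change (N T v 1 2 = 0 ∧ N T v 2 1 = 0) ∨ (N T v 1 2 = 1 ∧ N T v 2 1 = 1) ∨ (N T v 1 2 = 1 ∧ N T v 2 1 = 2) ∨ (N T v 1 2 = 2 ∧ N T v 2 1 = 1) ∨ (N T v 1 2 = 1 ∧ N T v 2 1 = 3) ∨ (N T v 1 2 = 3 ∧ N T v 2 1 = 1) at d12
      rw [← hx12, ← hx21] at d12
      rcases d12 with ⟨rfl, rfl⟩ | ⟨rfl, rfl⟩ | ⟨rfl, rfl⟩ | ⟨rfl, rfl⟩ | ⟨rfl, rfl⟩ | ⟨rfl, rfl⟩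
      · -- 12=(0,0)
        have d03 := two_pair T (by norm_num : 2 < 4) ((pairEmb 0 3 (by decide)).trans v) (fun _ => hv _)
        change (N T v 0 3 = 0 ∧ N T v 3 0 = 0) ∨ (N T v 0 3 = 1 ∧ N T v 3 0 = 1) ∨ (N T v 0 3 = 1 ∧ N T v 3 0 = 2) ∨ (N T v 0 3 = 2 ∧ N T v 3 0 = 1) ∨ (N T v 0 3 = 1 ∧ N T v 3 0 = 3) ∨ (N T v 0 3 = 3 ∧ N T v 3 0 = 1) at d03
        rw [← hx03, ← hx30] at d03
        rcases d03 with ⟨rfl, rfl⟩ | ⟨rfl, rfl⟩ | ⟨rfl, rfl⟩ | ⟨rfl, rfl⟩ | ⟨rfl, rfl⟩ | ⟨rfl, rfl⟩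
        · -- 03=(0,0)
          have d13 := two_pair T (by norm_num : 2 < 4) ((pairEmb 1 3 (by decide)).trans v) (fun _ => hv _)
          change (N T v 1 3 = 0 ∧ N T v 3 1 = 0) ∨ (N T v 1 3 = 1 ∧ N T v 3 1 = 1) ∨ (N T v 1 3 = 1 ∧ N T v 3 1 = 2) ∨ (N T v 1 3 = 2 ∧ N T v 3 1 = 1) ∨ (N T v 1 3 = 1 ∧ N T v 3 1 = 3) ∨ (N T v 1 3 = 3 ∧ N T v 3 1 = 1) at d13
          rw [← hx13, ← hx31] at d13
          rcases d13 with ⟨rfl, rfl⟩ | ⟨rfl, rfl⟩ | ⟨rfl, rfl⟩ | ⟨rfl, rfl⟩ | ⟨rfl, rfl⟩ | ⟨rfl, rfl⟩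
          · -- 13=(0,0)
            have d23 := two_pair T (by norm_num : 2 < 4) ((pairEmb 2 3 (by decide)).trans v) (fun _ => hv _)
            change (N T v 2 3 = 0 ∧ N T v 3 2 = 0) ∨ (N T v 2 3 = 1 ∧ N T v 3 2 = 1) ∨ (N T v 2 3 = 1 ∧ N T v 3 2 = 2) ∨ (N T v 2 3 = 2 ∧ N T v 3 2 = 1) ∨ (N T v 2 3 = 1 ∧ N T v 3 2 = 3) ∨ (N T v 2 3 = 3 ∧ N T v 3 2 = 1) at d23
            rw [← hx23, ← hx32] at d23
            rcases d23 with ⟨rfl, rfl⟩ | ⟨rfl, rfl⟩ | ⟨rfl, rfl⟩ | ⟨rfl, rfl⟩ | ⟨rfl, rfl⟩ | ⟨rfl, rfl⟩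
            · -- 23=(0,0)
              exfalso; omega
            · -- 23=(1,1)
              exfalso; omega
            · -- 23=(1,2)
              exact False.elim (cert_false T ((skipEmb 1).trans v) (by norm_num) (fun _ => hv _) (((((LB_zero T ((skipEmb 1).trans v)).upd 0 1 2 (le_of_eq hx02)).upd 1 0 1 (le_of_eq hx20)).upd 1 2 1 (le_of_eq hx23)).upd 2 1 2 (le_of_eq hx32)) ![1,1,1] (by decide) (by decide) 0 (by decide))
            · -- 23=(2,1)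
              exact False.elim (cert_false T ((skipEmb 1).trans v) (by norm_num) (fun _ => hv _) (((((LB_zero T ((skipEmb 1).trans v)).upd 0 1 2 (le_of_eq hx02)).upd 1 0 1 (le_of_eq hx20)).upd 1 2 2 (le_of_eq hx23)).upd 2 1 1 (le_of_eq hx32)) ![2,2,1] (by decide) (by decide) 0 (by decide))
            · -- 23=(1,3)
              exact False.elim (cert_false T ((skipEmb 1).trans v) (by norm_num) (fun _ => hv _) (((((LB_zero T ((skipEmb 1).trans v)).upd 0 1 2 (le_of_eq hx02)).upd 1 0 1 (le_of_eq hx20)).upd 1 2 1 (le_of_eq hx23)).upd 2 1 3 (le_of_eq hx32)) ![1,1,1] (by decide) (by decide) 0 (by decide))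
            · -- 23=(3,1)
              exact False.elim (cert_false T ((skipEmb 1).trans v) (by norm_num) (fun _ => hv _) (((((LB_zero T ((skipEmb 1).trans v)).upd 0 1 2 (le_of_eq hx02)).upd 1 0 1 (le_of_eq hx20)).upd 1 2 3 (le_of_eq hx23)).upd 2 1 1 (le_of_eq hx32)) ![1,2,1] (by decide) (by decide) 0 (by decide))
          · -- 13=(1,1)
            have d23 := two_pair T (by norm_num : 2 < 4) ((pairEmb 2 3 (by decide)).trans v) (fun _ => hv _)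
            change (N T v 2 3 = 0 ∧ N T v 3 2 = 0) ∨ (N T v 2 3 = 1 ∧ N T v 3 2 = 1) ∨ (N T v 2 3 = 1 ∧ N T v 3 2 = 2) ∨ (N T v 2 3 = 2 ∧ N T v 3 2 = 1) ∨ (N T v 2 3 = 1 ∧ N T v 3 2 = 3) ∨ (N T v 2 3 = 3 ∧ N T v 3 2 = 1) at d23
            rw [← hx23, ← hx32] at d23
            rcases d23 with ⟨rfl, rfl⟩ | ⟨rfl, rfl⟩ | ⟨rfl, rfl⟩ | ⟨rfl, rfl⟩ | ⟨rfl, rfl⟩ | ⟨rfl, rfl⟩
            · -- 23=(0,0)
              exfalso; omega
            · -- 23=(1,1)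
              exfalso; omega
            · -- 23=(1,2)
              exact False.elim (cert_false T ((skipEmb 1).trans v) (by norm_num) (fun _ => hv _) (((((LB_zero T ((skipEmb 1).trans v)).upd 0 1 2 (le_of_eq hx02)).upd 1 0 1 (le_of_eq hx20)).upd 1 2 1 (le_of_eq hx23)).upd 2 1 2 (le_of_eq hx32)) ![1,1,1] (by decide) (by decide) 0 (by decide))
            · -- 23=(2,1)
              exact False.elim (cert_false T ((skipEmb 1).trans v) (by norm_num) (fun _ => hv _) (((((LB_zero T ((skipEmb 1).trans v)).upd 0 1 2 (le_of_eq hx02)).upd 1 0 1 (le_of_eq hx20)).upd 1 2 2 (le_of_eq hx23)).upd 2 1 1 (le_of_eq hx32)) ![2,2,1] (by decide) (by decide) 0 (by decide))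
            · -- 23=(1,3)
              exact False.elim (cert_false T ((skipEmb 1).trans v) (by norm_num) (fun _ => hv _) (((((LB_zero T ((skipEmb 1).trans v)).upd 0 1 2 (le_of_eq hx02)).upd 1 0 1 (le_of_eq hx20)).upd 1 2 1 (le_of_eq hx23)).upd 2 1 3 (le_of_eq hx32)) ![1,1,1] (by decide) (by decide) 0 (by decide))
            · -- 23=(3,1)
              exact False.elim (cert_false T ((skipEmb 1).trans v) (by norm_num) (fun _ => hv _) (((((LB_zero T ((skipEmb 1).trans v)).upd 0 1 2 (le_of_eq hx02)).upd 1 0 1 (le_of_eq hx20)).upd 1 2 3 (le_of_eq hx23)).upd 2 1 1 (le_of_eq hx32)) ![1,2,1] (by decide) (by decide) 0 (by decide))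
          · -- 13=(1,2)
            have d23 := two_pair T (by norm_num : 2 < 4) ((pairEmb 2 3 (by decide)).trans v) (fun _ => hv _)
            change (N T v 2 3 = 0 ∧ N T v 3 2 = 0) ∨ (N T v 2 3 = 1 ∧ N T v 3 2 = 1) ∨ (N T v 2 3 = 1 ∧ N T v 3 2 = 2) ∨ (N T v 2 3 = 2 ∧ N T v 3 2 = 1) ∨ (N T v 2 3 = 1 ∧ N T v 3 2 = 3) ∨ (N T v 2 3 = 3 ∧ N T v 3 2 = 1) at d23
            rw [← hx23, ← hx32] at d23
            rcases d23 with ⟨rfl, rfl⟩ | ⟨rfl, rfl⟩ | ⟨rfl, rfl⟩ | ⟨rfl, rfl⟩ | ⟨rfl, rfl⟩ | ⟨rfl, rfl⟩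
            · -- 23=(0,0)
              exfalso; omega
            · -- 23=(1,1)
              refine ⟨(⟨![0, 2, 3, 1], ![0, 3, 1, 2], by decide, by decide⟩ : Equiv.Perm (Fin 4)), T.m 1, T.w 0, Or.inr (Or.inl ?_)⟩
              show T.m 0 = 2 * T.m 1 ∧ T.m 2 = 2 * T.m 1 ∧ T.m 3 = 2 * T.m 1 ∧ T.m 1 = T.m 1 ∧ T.w 0 = T.w 0 ∧ T.w 2 = 2 * T.w 0 ∧ T.w 3 = 2 * T.w 0 ∧ T.w 1 = 4 * T.w 0 ∧ T.a 0 0 = -2 * T.w 0 ∧ T.a 0 2 = 2 * T.w 0 ∧ T.a 0 3 = 0 ∧ T.a 0 1 = 0 ∧ T.a 2 2 = -4 * T.w 0 ∧ T.a 2 3 = 2 * T.w 0 ∧ T.a 2 1 = 0 ∧ T.a 3 3 = -4 * T.w 0 ∧ T.a 3 1 = 4 * T.w 0 ∧ T.a 1 1 = -8 * T.w 0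
              refine ⟨?_, ?_, ?_, ?_, ?_, ?_, ?_, ?_, ?_, ?_, ?_, ?_, ?_, ?_, ?_, ?_, ?_, ?_⟩ <;> omega
            · -- 23=(1,2)
              exact False.elim (cert_false T ((skipEmb 1).trans v) (by norm_num) (fun _ => hv _) (((((LB_zero T ((skipEmb 1).trans v)).upd 0 1 2 (le_of_eq hx02)).upd 1 0 1 (le_of_eq hx20)).upd 1 2 1 (le_of_eq hx23)).upd 2 1 2 (le_of_eq hx32)) ![1,1,1] (by decide) (by decide) 0 (by decide))
            · -- 23=(2,1)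
              exact False.elim (cert_false T ((skipEmb 1).trans v) (by norm_num) (fun _ => hv _) (((((LB_zero T ((skipEmb 1).trans v)).upd 0 1 2 (le_of_eq hx02)).upd 1 0 1 (le_of_eq hx20)).upd 1 2 2 (le_of_eq hx23)).upd 2 1 1 (le_of_eq hx32)) ![2,2,1] (by decide) (by decide) 0 (by decide))
            · -- 23=(1,3)
              exact False.elim (cert_false T ((skipEmb 1).trans v) (by norm_num) (fun _ => hv _) (((((LB_zero T ((skipEmb 1).trans v)).upd 0 1 2 (le_of_eq hx02)).upd 1 0 1 (le_of_eq hx20)).upd 1 2 1 (le_of_eq hx23)).upd 2 1 3 (le_of_eq hx32)) ![1,1,1] (by decide) (by decide) 0 (by decide))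
            · -- 23=(3,1)
              exact False.elim (cert_false T ((skipEmb 1).trans v) (by norm_num) (fun _ => hv _) (((((LB_zero T ((skipEmb 1).trans v)).upd 0 1 2 (le_of_eq hx02)).upd 1 0 1 (le_of_eq hx20)).upd 1 2 3 (le_of_eq hx23)).upd 2 1 1 (le_of_eq hx32)) ![1,2,1] (by decide) (by decide) 0 (by decide))
          · -- 13=(2,1)
            have d23 := two_pair T (by norm_num : 2 < 4) ((pairEmb 2 3 (by decide)).trans v) (fun _ => hv _)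
            change (N T v 2 3 = 0 ∧ N T v 3 2 = 0) ∨ (N T v 2 3 = 1 ∧ N T v 3 2 = 1) ∨ (N T v 2 3 = 1 ∧ N T v 3 2 = 2) ∨ (N T v 2 3 = 2 ∧ N T v 3 2 = 1) ∨ (N T v 2 3 = 1 ∧ N T v 3 2 = 3) ∨ (N T v 2 3 = 3 ∧ N T v 3 2 = 1) at d23
            rw [← hx23, ← hx32] at d23
            rcases d23 with ⟨rfl, rfl⟩ | ⟨rfl, rfl⟩ | ⟨rfl, rfl⟩ | ⟨rfl, rfl⟩ | ⟨rfl, rfl⟩ | ⟨rfl, rfl⟩
            · -- 23=(0,0)
              exfalso; omega
            · -- 23=(1,1)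
              refine ⟨(⟨![0, 2, 3, 1], ![0, 3, 1, 2], by decide, by decide⟩ : Equiv.Perm (Fin 4)), T.m 0, T.w 0, Or.inr (Or.inr (Or.inl ?_))⟩
              show T.m 0 = T.m 0 ∧ T.m 2 = T.m 0 ∧ T.m 3 = T.m 0 ∧ T.m 1 = T.m 0 ∧ T.w 0 = T.w 0 ∧ T.w 2 = 2 * T.w 0 ∧ T.w 3 = 2 * T.w 0 ∧ T.w 1 = T.w 0 ∧ T.a 0 0 = -2 * T.w 0 ∧ T.a 0 2 = 2 * T.w 0 ∧ T.a 0 3 = 0 ∧ T.a 0 1 = 0 ∧ T.a 2 2 = -4 * T.w 0 ∧ T.a 2 3 = 2 * T.w 0 ∧ T.a 2 1 = 0 ∧ T.a 3 3 = -4 * T.w 0 ∧ T.a 3 1 = 2 * T.w 0 ∧ T.a 1 1 = -2 * T.w 0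
              refine ⟨?_, ?_, ?_, ?_, ?_, ?_, ?_, ?_, ?_, ?_, ?_, ?_, ?_, ?_, ?_, ?_, ?_, ?_⟩ <;> omega
            · -- 23=(1,2)
              exact False.elim (cert_false T ((skipEmb 1).trans v) (by norm_num) (fun _ => hv _) (((((LB_zero T ((skipEmb 1).trans v)).upd 0 1 2 (le_of_eq hx02)).upd 1 0 1 (le_of_eq hx20)).upd 1 2 1 (le_of_eq hx23)).upd 2 1 2 (le_of_eq hx32)) ![1,1,1] (by decide) (by decide) 0 (by decide))
            · -- 23=(2,1)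
              exact False.elim (cert_false T ((skipEmb 1).trans v) (by norm_num) (fun _ => hv _) (((((LB_zero T ((skipEmb 1).trans v)).upd 0 1 2 (le_of_eq hx02)).upd 1 0 1 (le_of_eq hx20)).upd 1 2 2 (le_of_eq hx23)).upd 2 1 1 (le_of_eq hx32)) ![2,2,1] (by decide) (by decide) 0 (by decide))
            · -- 23=(1,3)
              exact False.elim (cert_false T ((skipEmb 1).trans v) (by norm_num) (fun _ => hv _) (((((LB_zero T ((skipEmb 1).trans v)).upd 0 1 2 (le_of_eq hx02)).upd 1 0 1 (le_of_eq hx20)).upd 1 2 1 (le_of_eq hx23)).upd 2 1 3 (le_of_eq hx32)) ![1,1,1] (by decide) (by decide) 0 (by decide))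
            · -- 23=(3,1)
              exact False.elim (cert_false T ((skipEmb 1).trans v) (by norm_num) (fun _ => hv _) (((((LB_zero T ((skipEmb 1).trans v)).upd 0 1 2 (le_of_eq hx02)).upd 1 0 1 (le_of_eq hx20)).upd 1 2 3 (le_of_eq hx23)).upd 2 1 1 (le_of_eq hx32)) ![1,2,1] (by decide) (by decide) 0 (by decide))
          · -- 13=(1,3)
            have d23 := two_pair T (by norm_num : 2 < 4) ((pairEmb 2 3 (by decide)).trans v) (fun _ => hv _)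
            change (N T v 2 3 = 0 ∧ N T v 3 2 = 0) ∨ (N T v 2 3 = 1 ∧ N T v 3 2 = 1) ∨ (N T v 2 3 = 1 ∧ N T v 3 2 = 2) ∨ (N T v 2 3 = 2 ∧ N T v 3 2 = 1) ∨ (N T v 2 3 = 1 ∧ N T v 3 2 = 3) ∨ (N T v 2 3 = 3 ∧ N T v 3 2 = 1) at d23
            rw [← hx23, ← hx32] at d23
            rcases d23 with ⟨rfl, rfl⟩ | ⟨rfl, rfl⟩ | ⟨rfl, rfl⟩ | ⟨rfl, rfl⟩ | ⟨rfl, rfl⟩ | ⟨rfl, rfl⟩
            · -- 23=(0,0)
              exfalso; omega
            · -- 23=(1,1)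
              exact False.elim (cert_false T ((skipEmb 0).trans v) (by norm_num) (fun _ => hv _) (((((LB_zero T ((skipEmb 0).trans v)).upd 0 2 1 (le_of_eq hx13)).upd 1 2 1 (le_of_eq hx23)).upd 2 0 3 (le_of_eq hx31)).upd 2 1 1 (le_of_eq hx32)) ![1,1,2] (by decide) (by decide) 0 (by decide))
            · -- 23=(1,2)
              exact False.elim (cert_false T ((skipEmb 1).trans v) (by norm_num) (fun _ => hv _) (((((LB_zero T ((skipEmb 1).trans v)).upd 0 1 2 (le_of_eq hx02)).upd 1 0 1 (le_of_eq hx20)).upd 1 2 1 (le_of_eq hx23)).upd 2 1 2 (le_of_eq hx32)) ![1,1,1] (by decide) (by decide) 0 (by decide))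
            · -- 23=(2,1)
              exact False.elim (cert_false T ((skipEmb 1).trans v) (by norm_num) (fun _ => hv _) (((((LB_zero T ((skipEmb 1).trans v)).upd 0 1 2 (le_of_eq hx02)).upd 1 0 1 (le_of_eq hx20)).upd 1 2 2 (le_of_eq hx23)).upd 2 1 1 (le_of_eq hx32)) ![2,2,1] (by decide) (by decide) 0 (by decide))
            · -- 23=(1,3)
              exact False.elim (cert_false T ((skipEmb 1).trans v) (by norm_num) (fun _ => hv _) (((((LB_zero T ((skipEmb 1).trans v)).upd 0 1 2 (le_of_eq hx02)).upd 1 0 1 (le_of_eq hx20)).upd 1 2 1 (le_of_eq hx23)).upd 2 1 3 (le_of_eq hx32)) ![1,1,1] (by decide) (by decide) 0 (by decide))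
            · -- 23=(3,1)
              exact False.elim (cert_false T ((skipEmb 1).trans v) (by norm_num) (fun _ => hv _) (((((LB_zero T ((skipEmb 1).trans v)).upd 0 1 2 (le_of_eq hx02)).upd 1 0 1 (le_of_eq hx20)).upd 1 2 3 (le_of_eq hx23)).upd 2 1 1 (le_of_eq hx32)) ![1,2,1] (by decide) (by decide) 0 (by decide))
          · -- 13=(3,1)
            have d23 := two_pair T (by norm_num : 2 < 4) ((pairEmb 2 3 (by decide)).trans v) (fun _ => hv _)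
            change (N T v 2 3 = 0 ∧ N T v 3 2 = 0) ∨ (N T v 2 3 = 1 ∧ N T v 3 2 = 1) ∨ (N T v 2 3 = 1 ∧ N T v 3 2 = 2) ∨ (N T v 2 3 = 2 ∧ N T v 3 2 = 1) ∨ (N T v 2 3 = 1 ∧ N T v 3 2 = 3) ∨ (N T v 2 3 = 3 ∧ N T v 3 2 = 1) at d23
            rw [← hx23, ← hx32] at d23
            rcases d23 with ⟨rfl, rfl⟩ | ⟨rfl, rfl⟩ | ⟨rfl, rfl⟩ | ⟨rfl, rfl⟩ | ⟨rfl, rfl⟩ | ⟨rfl, rfl⟩
            · -- 23=(0,0)
              exfalso; omega
            · -- 23=(1,1)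
              exact False.elim (cert_false T ((skipEmb 0).trans v) (by norm_num) (fun _ => hv _) (((((LB_zero T ((skipEmb 0).trans v)).upd 0 2 3 (le_of_eq hx13)).upd 1 2 1 (le_of_eq hx23)).upd 2 0 1 (le_of_eq hx31)).upd 2 1 1 (le_of_eq hx32)) ![3,1,2] (by decide) (by decide) 0 (by decide))
            · -- 23=(1,2)
              exact False.elim (cert_false T ((skipEmb 1).trans v) (by norm_num) (fun _ => hv _) (((((LB_zero T ((skipEmb 1).trans v)).upd 0 1 2 (le_of_eq hx02)).upd 1 0 1 (le_of_eq hx20)).upd 1 2 1 (le_of_eq hx23)).upd 2 1 2 (le_of_eq hx32)) ![1,1,1] (by decide) (by decide) 0 (by decide))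
            · -- 23=(2,1)
              exact False.elim (cert_false T ((skipEmb 1).trans v) (by norm_num) (fun _ => hv _) (((((LB_zero T ((skipEmb 1).trans v)).upd 0 1 2 (le_of_eq hx02)).upd 1 0 1 (le_of_eq hx20)).upd 1 2 2 (le_of_eq hx23)).upd 2 1 1 (le_of_eq hx32)) ![2,2,1] (by decide) (by decide) 0 (by decide))
            · -- 23=(1,3)
              exact False.elim (cert_false T ((skipEmb 1).trans v) (by norm_num) (fun _ => hv _) (((((LB_zero T ((skipEmb 1).trans v)).upd 0 1 2 (le_of_eq hx02)).upd 1 0 1 (le_of_eq hx20)).upd 1 2 1 (le_of_eq hx23)).upd 2 1 3 (le_of_eq hx32)) ![1,1,1] (by decide) (by decide) 0 (by decide))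
            · -- 23=(3,1)
              exact False.elim (cert_false T ((skipEmb 1).trans v) (by norm_num) (fun _ => hv _) (((((LB_zero T ((skipEmb 1).trans v)).upd 0 1 2 (le_of_eq hx02)).upd 1 0 1 (le_of_eq hx20)).upd 1 2 3 (le_of_eq hx23)).upd 2 1 1 (le_of_eq hx32)) ![1,2,1] (by decide) (by decide) 0 (by decide))
        · -- 03=(1,1)
          have d13 := two_pair T (by norm_num : 2 < 4) ((pairEmb 1 3 (by decide)).trans v) (fun _ => hv _)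
          change (N T v 1 3 = 0 ∧ N T v 3 1 = 0) ∨ (N T v 1 3 = 1 ∧ N T v 3 1 = 1) ∨ (N T v 1 3 = 1 ∧ N T v 3 1 = 2) ∨ (N T v 1 3 = 2 ∧ N T v 3 1 = 1) ∨ (N T v 1 3 = 1 ∧ N T v 3 1 = 3) ∨ (N T v 1 3 = 3 ∧ N T v 3 1 = 1) at d13
          rw [← hx13, ← hx31] at d13
          rcases d13 with ⟨rfl, rfl⟩ | ⟨rfl, rfl⟩ | ⟨rfl, rfl⟩ | ⟨rfl, rfl⟩ | ⟨rfl, rfl⟩ | ⟨rfl, rfl⟩
          · -- 13=(0,0)
            have d23 := two_pair T (by norm_num : 2 < 4) ((pairEmb 2 3 (by decide)).trans v) (fun _ => hv _)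
            change (N T v 2 3 = 0 ∧ N T v 3 2 = 0) ∨ (N T v 2 3 = 1 ∧ N T v 3 2 = 1) ∨ (N T v 2 3 = 1 ∧ N T v 3 2 = 2) ∨ (N T v 2 3 = 2 ∧ N T v 3 2 = 1) ∨ (N T v 2 3 = 1 ∧ N T v 3 2 = 3) ∨ (N T v 2 3 = 3 ∧ N T v 3 2 = 1) at d23
            rw [← hx23, ← hx32] at d23
            rcases d23 with ⟨rfl, rfl⟩ | ⟨rfl, rfl⟩ | ⟨rfl, rfl⟩ | ⟨rfl, rfl⟩ | ⟨rfl, rfl⟩ | ⟨rfl, rfl⟩
            · -- 23=(0,0)
              exfalso; omega
            · -- 23=(1,1)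
              exact False.elim (cert_false T ((skipEmb 1).trans v) (by norm_num) (fun _ => hv _) (((((((LB_zero T ((skipEmb 1).trans v)).upd 0 1 2 (le_of_eq hx02)).upd 0 2 1 (le_of_eq hx03)).upd 1 0 1 (le_of_eq hx20)).upd 1 2 1 (le_of_eq hx23)).upd 2 0 1 (le_of_eq hx30)).upd 2 1 1 (le_of_eq hx32)) ![1,1,1] (by decide) (by decide) 0 (by decide))
            · -- 23=(1,2)
              exact False.elim (cert_false T ((skipEmb 1).trans v) (by norm_num) (fun _ => hv _) (((((((LB_zero T ((skipEmb 1).trans v)).upd 0 1 2 (le_of_eq hx02)).upd 0 2 1 (le_of_eq hx03)).upd 1 0 1 (le_of_eq hx20)).upd 1 2 1 (le_of_eq hx23)).upd 2 0 1 (le_of_eq hx30)).upd 2 1 2 (le_of_eq hx32)) ![1,1,1] (by decide) (by decide) 0 (by decide))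
            · -- 23=(2,1)
              exact False.elim (cert_false T ((skipEmb 1).trans v) (by norm_num) (fun _ => hv _) (((((((LB_zero T ((skipEmb 1).trans v)).upd 0 1 2 (le_of_eq hx02)).upd 0 2 1 (le_of_eq hx03)).upd 1 0 1 (le_of_eq hx20)).upd 1 2 2 (le_of_eq hx23)).upd 2 0 1 (le_of_eq hx30)).upd 2 1 1 (le_of_eq hx32)) ![1,1,1] (by decide) (by decide) 0 (by decide))
            · -- 23=(1,3)
              exact False.elim (cert_false T ((skipEmb 1).trans v) (by norm_num) (fun _ => hv _) (((((((LB_zero T ((skipEmb 1).trans v)).upd 0 1 2 (le_of_eq hx02)).upd 0 2 1 (le_of_eq hx03)).upd 1 0 1 (le_of_eq hx20)).upd 1 2 1 (le_of_eq hx23)).upd 2 0 1 (le_of_eq hx30)).upd 2 1 3 (le_of_eq hx32)) ![1,1,1] (by decide) (by decide) 0 (by decide))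
            · -- 23=(3,1)
              exact False.elim (cert_false T ((skipEmb 1).trans v) (by norm_num) (fun _ => hv _) (((((((LB_zero T ((skipEmb 1).trans v)).upd 0 1 2 (le_of_eq hx02)).upd 0 2 1 (le_of_eq hx03)).upd 1 0 1 (le_of_eq hx20)).upd 1 2 3 (le_of_eq hx23)).upd 2 0 1 (le_of_eq hx30)).upd 2 1 1 (le_of_eq hx32)) ![1,1,1] (by decide) (by decide) 0 (by decide))
          · -- 13=(1,1)
            have d23 := two_pair T (by norm_num : 2 < 4) ((pairEmb 2 3 (by decide)).trans v) (fun _ => hv _)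
            change (N T v 2 3 = 0 ∧ N T v 3 2 = 0) ∨ (N T v 2 3 = 1 ∧ N T v 3 2 = 1) ∨ (N T v 2 3 = 1 ∧ N T v 3 2 = 2) ∨ (N T v 2 3 = 2 ∧ N T v 3 2 = 1) ∨ (N T v 2 3 = 1 ∧ N T v 3 2 = 3) ∨ (N T v 2 3 = 3 ∧ N T v 3 2 = 1) at d23
            rw [← hx23, ← hx32] at d23
            rcases d23 with ⟨rfl, rfl⟩ | ⟨rfl, rfl⟩ | ⟨rfl, rfl⟩ | ⟨rfl, rfl⟩ | ⟨rfl, rfl⟩ | ⟨rfl, rfl⟩
            · -- 23=(0,0)
              exfalso; omega
            · -- 23=(1,1)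
              exact False.elim (cert_false T ((skipEmb 1).trans v) (by norm_num) (fun _ => hv _) (((((((LB_zero T ((skipEmb 1).trans v)).upd 0 1 2 (le_of_eq hx02)).upd 0 2 1 (le_of_eq hx03)).upd 1 0 1 (le_of_eq hx20)).upd 1 2 1 (le_of_eq hx23)).upd 2 0 1 (le_of_eq hx30)).upd 2 1 1 (le_of_eq hx32)) ![1,1,1] (by decide) (by decide) 0 (by decide))
            · -- 23=(1,2)
              exact False.elim (cert_false T ((skipEmb 1).trans v) (by norm_num) (fun _ => hv _) (((((((LB_zero T ((skipEmb 1).trans v)).upd 0 1 2 (le_of_eq hx02)).upd 0 2 1 (le_of_eq hx03)).upd 1 0 1 (le_of_eq hx20)).upd 1 2 1 (le_of_eq hx23)).upd 2 0 1 (le_of_eq hx30)).upd 2 1 2 (le_of_eq hx32)) ![1,1,1] (by decide) (by decide) 0 (by decide))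
            · -- 23=(2,1)
              exact False.elim (cert_false T ((skipEmb 1).trans v) (by norm_num) (fun _ => hv _) (((((((LB_zero T ((skipEmb 1).trans v)).upd 0 1 2 (le_of_eq hx02)).upd 0 2 1 (le_of_eq hx03)).upd 1 0 1 (le_of_eq hx20)).upd 1 2 2 (le_of_eq hx23)).upd 2 0 1 (le_of_eq hx30)).upd 2 1 1 (le_of_eq hx32)) ![1,1,1] (by decide) (by decide) 0 (by decide))
            · -- 23=(1,3)
              exact False.elim (cert_false T ((skipEmb 1).trans v) (by norm_num) (fun _ => hv _) (((((((LB_zero T ((skipEmb 1).trans v)).upd 0 1 2 (le_of_eq hx02)).upd 0 2 1 (le_of_eq hx03)).upd 1 0 1 (le_of_eq hx20)).upd 1 2 1 (le_of_eq hx23)).upd 2 0 1 (le_of_eq hx30)).upd 2 1 3 (le_of_eq hx32)) ![1,1,1] (by decide) (by decide) 0 (by decide))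
            · -- 23=(3,1)
              exact False.elim (cert_false T ((skipEmb 1).trans v) (by norm_num) (fun _ => hv _) (((((((LB_zero T ((skipEmb 1).trans v)).upd 0 1 2 (le_of_eq hx02)).upd 0 2 1 (le_of_eq hx03)).upd 1 0 1 (le_of_eq hx20)).upd 1 2 3 (le_of_eq hx23)).upd 2 0 1 (le_of_eq hx30)).upd 2 1 1 (le_of_eq hx32)) ![1,1,1] (by decide) (by decide) 0 (by decide))
          · -- 13=(1,2)
            have d23 := two_pair T (by norm_num : 2 < 4) ((pairEmb 2 3 (by decide)).trans v) (fun _ => hv _)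
            change (N T v 2 3 = 0 ∧ N T v 3 2 = 0) ∨ (N T v 2 3 = 1 ∧ N T v 3 2 = 1) ∨ (N T v 2 3 = 1 ∧ N T v 3 2 = 2) ∨ (N T v 2 3 = 2 ∧ N T v 3 2 = 1) ∨ (N T v 2 3 = 1 ∧ N T v 3 2 = 3) ∨ (N T v 2 3 = 3 ∧ N T v 3 2 = 1) at d23
            rw [← hx23, ← hx32] at d23
            rcases d23 with ⟨rfl, rfl⟩ | ⟨rfl, rfl⟩ | ⟨rfl, rfl⟩ | ⟨rfl, rfl⟩ | ⟨rfl, rfl⟩ | ⟨rfl, rfl⟩
            · -- 23=(0,0)
              refine ⟨(⟨![1, 3, 0, 2], ![2, 0, 3, 1], by decide, by decide⟩ : Equiv.Perm (Fin 4)), T.m 1, T.w 3, Or.inr (Or.inr (Or.inr (Or.inl ?_)))⟩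
              show T.m 1 = T.m 1 ∧ T.m 3 = 2 * T.m 1 ∧ T.m 0 = 2 * T.m 1 ∧ T.m 2 = T.m 1 ∧ T.w 1 = 2 * T.w 3 ∧ T.w 3 = T.w 3 ∧ T.w 0 = T.w 3 ∧ T.w 2 = 2 * T.w 3 ∧ T.a 1 1 = -4 * T.w 3 ∧ T.a 1 3 = 2 * T.w 3 ∧ T.a 1 0 = 0 ∧ T.a 1 2 = 0 ∧ T.a 3 3 = -2 * T.w 3 ∧ T.a 3 0 = T.w 3 ∧ T.a 3 2 = 0 ∧ T.a 0 0 = -2 * T.w 3 ∧ T.a 0 2 = 2 * T.w 3 ∧ T.a 2 2 = -4 * T.w 3
              refine ⟨?_, ?_, ?_, ?_, ?_, ?_, ?_, ?_, ?_, ?_, ?_, ?_, ?_, ?_, ?_, ?_, ?_, ?_⟩ <;> omega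
            · -- 23=(1,1)
              exact False.elim (cert_false T ((skipEmb 1).trans v) (by norm_num) (fun _ => hv _) (((((((LB_zero T ((skipEmb 1).trans v)).upd 0 1 2 (le_of_eq hx02)).upd 0 2 1 (le_of_eq hx03)).upd 1 0 1 (le_of_eq hx20)).upd 1 2 1 (le_of_eq hx23)).upd 2 0 1 (le_of_eq hx30)).upd 2 1 1 (le_of_eq hx32)) ![1,1,1] (by decide) (by decide) 0 (by decide))
            · -- 23=(1,2)
              exact False.elim (cert_false T ((skipEmb 1).trans v) (by norm_num) (fun _ => hv _) (((((((LB_zero T ((skipEmb 1).trans v)).upd 0 1 2 (le_of_eq hx02)).upd 0 2 1 (le_of_eq hx03)).upd 1 0 1 (le_of_eq hx20)).upd 1 2 1 (le_of_eq hx23)).upd 2 0 1 (le_of_eq hx30)).upd 2 1 2 (le_of_eq hx32)) ![1,1,1] (by decide) (by decide) 0 (by decide))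
            · -- 23=(2,1)
              exact False.elim (cert_false T ((skipEmb 1).trans v) (by norm_num) (fun _ => hv _) (((((((LB_zero T ((skipEmb 1).trans v)).upd 0 1 2 (le_of_eq hx02)).upd 0 2 1 (le_of_eq hx03)).upd 1 0 1 (le_of_eq hx20)).upd 1 2 2 (le_of_eq hx23)).upd 2 0 1 (le_of_eq hx30)).upd 2 1 1 (le_of_eq hx32)) ![1,1,1] (by decide) (by decide) 0 (by decide))
            · -- 23=(1,3)
              exact False.elim (cert_false T ((skipEmb 1).trans v) (by norm_num) (fun _ => hv _) (((((((LB_zero T ((skipEmb 1).trans v)).upd 0 1 2 (le_of_eq hx02)).upd 0 2 1 (le_of_eq hx03)).upd 1 0 1 (le_of_eq hx20)).upd 1 2 1 (le_of_eq hx23)).upd 2 0 1 (le_of_eq hx30)).upd 2 1 3 (le_of_eq hx32)) ![1,1,1] (by decide) (by decide) 0 (by decide))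
            · -- 23=(3,1)
              exact False.elim (cert_false T ((skipEmb 1).trans v) (by norm_num) (fun _ => hv _) (((((((LB_zero T ((skipEmb 1).trans v)).upd 0 1 2 (le_of_eq hx02)).upd 0 2 1 (le_of_eq hx03)).upd 1 0 1 (le_of_eq hx20)).upd 1 2 3 (le_of_eq hx23)).upd 2 0 1 (le_of_eq hx30)).upd 2 1 1 (le_of_eq hx32)) ![1,1,1] (by decide) (by decide) 0 (by decide))
          · -- 13=(2,1)
            have d23 := two_pair T (by norm_num : 2 < 4) ((pairEmb 2 3 (by decide)).trans v) (fun _ => hv _)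
            change (N T v 2 3 = 0 ∧ N T v 3 2 = 0) ∨ (N T v 2 3 = 1 ∧ N T v 3 2 = 1) ∨ (N T v 2 3 = 1 ∧ N T v 3 2 = 2) ∨ (N T v 2 3 = 2 ∧ N T v 3 2 = 1) ∨ (N T v 2 3 = 1 ∧ N T v 3 2 = 3) ∨ (N T v 2 3 = 3 ∧ N T v 3 2 = 1) at d23
            rw [← hx23, ← hx32] at d23
            rcases d23 with ⟨rfl, rfl⟩ | ⟨rfl, rfl⟩ | ⟨rfl, rfl⟩ | ⟨rfl, rfl⟩ | ⟨rfl, rfl⟩ | ⟨rfl, rfl⟩
            · -- 23=(0,0)
              refine ⟨(⟨![1, 3, 0, 2], ![2, 0, 3, 1], by decide, by decide⟩ : Equiv.Perm (Fin 4)), T.m 2, T.w 1, Or.inr (Or.inl ?_)⟩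
              show T.m 1 = 2 * T.m 2 ∧ T.m 3 = 2 * T.m 2 ∧ T.m 0 = 2 * T.m 2 ∧ T.m 2 = T.m 2 ∧ T.w 1 = T.w 1 ∧ T.w 3 = 2 * T.w 1 ∧ T.w 0 = 2 * T.w 1 ∧ T.w 2 = 4 * T.w 1 ∧ T.a 1 1 = -2 * T.w 1 ∧ T.a 1 3 = 2 * T.w 1 ∧ T.a 1 0 = 0 ∧ T.a 1 2 = 0 ∧ T.a 3 3 = -4 * T.w 1 ∧ T.a 3 0 = 2 * T.w 1 ∧ T.a 3 2 = 0 ∧ T.a 0 0 = -4 * T.w 1 ∧ T.a 0 2 = 4 * T.w 1 ∧ T.a 2 2 = -8 * T.w 1
              refine ⟨?_, ?_, ?_, ?_, ?_, ?_, ?_, ?_, ?_, ?_, ?_, ?_, ?_, ?_, ?_, ?_, ?_, ?_⟩ <;> omega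
            · -- 23=(1,1)
              exact False.elim (cert_false T ((skipEmb 1).trans v) (by norm_num) (fun _ => hv _) (((((((LB_zero T ((skipEmb 1).trans v)).upd 0 1 2 (le_of_eq hx02)).upd 0 2 1 (le_of_eq hx03)).upd 1 0 1 (le_of_eq hx20)).upd 1 2 1 (le_of_eq hx23)).upd 2 0 1 (le_of_eq hx30)).upd 2 1 1 (le_of_eq hx32)) ![1,1,1] (by decide) (by decide) 0 (by decide))
            · -- 23=(1,2)
              exact False.elim (cert_false T ((skipEmb 1).trans v) (by norm_num) (fun _ => hv _) (((((((LB_zero T ((skipEmb 1).trans v)).upd 0 1 2 (le_of_eq hx02)).upd 0 2 1 (le_of_eq hx03)).upd 1 0 1 (le_of_eq hx20)).upd 1 2 1 (le_of_eq hx23)).upd 2 0 1 (le_of_eq hx30)).upd 2 1 2 (le_of_eq hx32)) ![1,1,1] (by decide) (by decide) 0 (by decide))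
            · -- 23=(2,1)
              exact False.elim (cert_false T ((skipEmb 1).trans v) (by norm_num) (fun _ => hv _) (((((((LB_zero T ((skipEmb 1).trans v)).upd 0 1 2 (le_of_eq hx02)).upd 0 2 1 (le_of_eq hx03)).upd 1 0 1 (le_of_eq hx20)).upd 1 2 2 (le_of_eq hx23)).upd 2 0 1 (le_of_eq hx30)).upd 2 1 1 (le_of_eq hx32)) ![1,1,1] (by decide) (by decide) 0 (by decide))
            · -- 23=(1,3)
              exact False.elim (cert_false T ((skipEmb 1).trans v) (by norm_num) (fun _ => hv _) (((((((LB_zero T ((skipEmb 1).trans v)).upd 0 1 2 (le_of_eq hx02)).upd 0 2 1 (le_of_eq hx03)).upd 1 0 1 (le_of_eq hx20)).upd 1 2 1 (le_of_eq hx23)).upd 2 0 1 (le_of_eq hx30)).upd 2 1 3 (le_of_eq hx32)) ![1,1,1] (by decide) (by decide) 0 (by decide))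
            · -- 23=(3,1)
              exact False.elim (cert_false T ((skipEmb 1).trans v) (by norm_num) (fun _ => hv _) (((((((LB_zero T ((skipEmb 1).trans v)).upd 0 1 2 (le_of_eq hx02)).upd 0 2 1 (le_of_eq hx03)).upd 1 0 1 (le_of_eq hx20)).upd 1 2 3 (le_of_eq hx23)).upd 2 0 1 (le_of_eq hx30)).upd 2 1 1 (le_of_eq hx32)) ![1,1,1] (by decide) (by decide) 0 (by decide))
          · -- 13=(1,3)
            exact False.elim (cert_false T ((skipEmb 2).trans v) (by norm_num) (fun _ => hv _) (((((LB_zero T ((skipEmb 2).trans v)).upd 0 2 1 (le_of_eq hx03)).upd 1 2 1 (le_of_eq hx13)).upd 2 0 1 (le_of_eq hx30)).upd 2 1 3 (le_of_eq hx31)) ![1,1,2] (by decide) (by decide) 0 (by decide))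
          · -- 13=(3,1)
            exact False.elim (cert_false T ((skipEmb 2).trans v) (by norm_num) (fun _ => hv _) (((((LB_zero T ((skipEmb 2).trans v)).upd 0 2 1 (le_of_eq hx03)).upd 1 2 3 (le_of_eq hx13)).upd 2 0 1 (le_of_eq hx30)).upd 2 1 1 (le_of_eq hx31)) ![1,3,2] (by decide) (by decide) 0 (by decide))
        · -- 03=(1,2)
          exact False.elim (cert_false T ((skipEmb 1).trans v) (by norm_num) (fun _ => hv _) (((((LB_zero T ((skipEmb 1).trans v)).upd 0 1 2 (le_of_eq hx02)).upd 0 2 1 (le_of_eq hx03)).upd 1 0 1 (le_of_eq hx20)).upd 2 0 2 (le_of_eq hx30)) ![2,1,2] (by decide) (by decide) 0 (by decide))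
        · -- 03=(2,1)
          exact False.elim (cert_false T ((skipEmb 1).trans v) (by norm_num) (fun _ => hv _) (((((LB_zero T ((skipEmb 1).trans v)).upd 0 1 2 (le_of_eq hx02)).upd 0 2 2 (le_of_eq hx03)).upd 1 0 1 (le_of_eq hx20)).upd 2 0 1 (le_of_eq hx30)) ![2,1,1] (by decide) (by decide) 0 (by decide))
        · -- 03=(1,3)
          exact False.elim (cert_false T ((skipEmb 1).trans v) (by norm_num) (fun _ => hv _) (((((LB_zero T ((skipEmb 1).trans v)).upd 0 1 2 (le_of_eq hx02)).upd 0 2 1 (le_of_eq hx03)).upd 1 0 1 (le_of_eq hx20)).upd 2 0 3 (le_of_eq hx30)) ![2,1,2] (by decide) (by decide) 0 (by decide))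
        · -- 03=(3,1)
          exact False.elim (cert_false T ((skipEmb 1).trans v) (by norm_num) (fun _ => hv _) (((((LB_zero T ((skipEmb 1).trans v)).upd 0 1 2 (le_of_eq hx02)).upd 0 2 3 (le_of_eq hx03)).upd 1 0 1 (le_of_eq hx20)).upd 2 0 1 (le_of_eq hx30)) ![2,1,1] (by decide) (by decide) 0 (by decide))
      · -- 12=(1,1)
        have d03 := two_pair T (by norm_num : 2 < 4) ((pairEmb 0 3 (by decide)).trans v) (fun _ => hv _)
        change (N T v 0 3 = 0 ∧ N T v 3 0 = 0) ∨ (N T v 0 3 = 1 ∧ N T v 3 0 = 1) ∨ (N T v 0 3 = 1 ∧ N T v 3 0 = 2) ∨ (N T v 0 3 = 2 ∧ N T v 3 0 = 1) ∨ (N T v 0 3 = 1 ∧ N T v 3 0 = 3) ∨ (N T v 0 3 = 3 ∧ N T v 3 0 = 1) at d03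
        rw [← hx03, ← hx30] at d03
        rcases d03 with ⟨rfl, rfl⟩ | ⟨rfl, rfl⟩ | ⟨rfl, rfl⟩ | ⟨rfl, rfl⟩ | ⟨rfl, rfl⟩ | ⟨rfl, rfl⟩
        · -- 03=(0,0)
          have d13 := two_pair T (by norm_num : 2 < 4) ((pairEmb 1 3 (by decide)).trans v) (fun _ => hv _)
          change (N T v 1 3 = 0 ∧ N T v 3 1 = 0) ∨ (N T v 1 3 = 1 ∧ N T v 3 1 = 1) ∨ (N T v 1 3 = 1 ∧ N T v 3 1 = 2) ∨ (N T v 1 3 = 2 ∧ N T v 3 1 = 1) ∨ (N T v 1 3 = 1 ∧ N T v 3 1 = 3) ∨ (N T v 1 3 = 3 ∧ N T v 3 1 = 1) at d13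
          rw [← hx13, ← hx31] at d13
          rcases d13 with ⟨rfl, rfl⟩ | ⟨rfl, rfl⟩ | ⟨rfl, rfl⟩ | ⟨rfl, rfl⟩ | ⟨rfl, rfl⟩ | ⟨rfl, rfl⟩
          · -- 13=(0,0)
            have d23 := two_pair T (by norm_num : 2 < 4) ((pairEmb 2 3 (by decide)).trans v) (fun _ => hv _)
            change (N T v 2 3 = 0 ∧ N T v 3 2 = 0) ∨ (N T v 2 3 = 1 ∧ N T v 3 2 = 1) ∨ (N T v 2 3 = 1 ∧ N T v 3 2 = 2) ∨ (N T v 2 3 = 2 ∧ N T v 3 2 = 1) ∨ (N T v 2 3 = 1 ∧ N T v 3 2 = 3) ∨ (N T v 2 3 = 3 ∧ N T v 3 2 = 1) at d23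
            rw [← hx23, ← hx32] at d23
            rcases d23 with ⟨rfl, rfl⟩ | ⟨rfl, rfl⟩ | ⟨rfl, rfl⟩ | ⟨rfl, rfl⟩ | ⟨rfl, rfl⟩ | ⟨rfl, rfl⟩
            · -- 23=(0,0)
              exfalso; omega
            · -- 23=(1,1)
              refine ⟨(⟨![2, 1, 3, 0], ![3, 1, 0, 2], by decide, by decide⟩ : Equiv.Perm (Fin 4)), T.m 1, T.w 0, Or.inr (Or.inr (Or.inr (Or.inr (Or.inr (?_)))))⟩
              show T.m 2 = 2 * T.m 1 ∧ T.m 1 = T.m 1 ∧ T.m 3 = T.m 1 ∧ T.m 0 = 2 * T.m 1 ∧ T.w 2 = 2 * T.w 0 ∧ T.w 1 = 2 * T.w 0 ∧ T.w 3 = 2 * T.w 0 ∧ T.w 0 = T.w 0 ∧ T.a 2 2 = -4 * T.w 0 ∧ T.a 2 1 = 2 * T.w 0 ∧ T.a 2 3 = 2 * T.w 0 ∧ T.a 2 0 = 2 * T.w 0 ∧ T.a 1 1 = -4 * T.w 0 ∧ T.a 1 3 = 0 ∧ T.a 1 0 = 0 ∧ T.a 3 3 = -4 * T.w 0 ∧ T.a 3 0 = 0 ∧ T.a 0 0 = -2 * T.w 0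
              refine ⟨?_, ?_, ?_, ?_, ?_, ?_, ?_, ?_, ?_, ?_, ?_, ?_, ?_, ?_, ?_, ?_, ?_, ?_⟩ <;> omega
            · -- 23=(1,2)
              exact False.elim (cert_false T ((skipEmb 1).trans v) (by norm_num) (fun _ => hv _) (((((LB_zero T ((skipEmb 1).trans v)).upd 0 1 2 (le_of_eq hx02)).upd 1 0 1 (le_of_eq hx20)).upd 1 2 1 (le_of_eq hx23)).upd 2 1 2 (le_of_eq hx32)) ![1,1,1] (by decide) (by decide) 0 (by decide))
            · -- 23=(2,1)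
              exact False.elim (cert_false T ((skipEmb 1).trans v) (by norm_num) (fun _ => hv _) (((((LB_zero T ((skipEmb 1).trans v)).upd 0 1 2 (le_of_eq hx02)).upd 1 0 1 (le_of_eq hx20)).upd 1 2 2 (le_of_eq hx23)).upd 2 1 1 (le_of_eq hx32)) ![2,2,1] (by decide) (by decide) 0 (by decide))
            · -- 23=(1,3)
              exact False.elim (cert_false T ((skipEmb 1).trans v) (by norm_num) (fun _ => hv _) (((((LB_zero T ((skipEmb 1).trans v)).upd 0 1 2 (le_of_eq hx02)).upd 1 0 1 (le_of_eq hx20)).upd 1 2 1 (le_of_eq hx23)).upd 2 1 3 (le_of_eq hx32)) ![1,1,1] (by decide) (by decide) 0 (by decide))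
            · -- 23=(3,1)
              exact False.elim (cert_false T ((skipEmb 1).trans v) (by norm_num) (fun _ => hv _) (((((LB_zero T ((skipEmb 1).trans v)).upd 0 1 2 (le_of_eq hx02)).upd 1 0 1 (le_of_eq hx20)).upd 1 2 3 (le_of_eq hx23)).upd 2 1 1 (le_of_eq hx32)) ![1,2,1] (by decide) (by decide) 0 (by decide))
          · -- 13=(1,1)
            have d23 := two_pair T (by norm_num : 2 < 4) ((pairEmb 2 3 (by decide)).trans v) (fun _ => hv _)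
            change (N T v 2 3 = 0 ∧ N T v 3 2 = 0) ∨ (N T v 2 3 = 1 ∧ N T v 3 2 = 1) ∨ (N T v 2 3 = 1 ∧ N T v 3 2 = 2) ∨ (N T v 2 3 = 2 ∧ N T v 3 2 = 1) ∨ (N T v 2 3 = 1 ∧ N T v 3 2 = 3) ∨ (N T v 2 3 = 3 ∧ N T v 3 2 = 1) at d23
            rw [← hx23, ← hx32] at d23
            rcases d23 with ⟨rfl, rfl⟩ | ⟨rfl, rfl⟩ | ⟨rfl, rfl⟩ | ⟨rfl, rfl⟩ | ⟨rfl, rfl⟩ | ⟨rfl, rfl⟩
            · -- 23=(0,0)
              exfalso; omega
            · -- 23=(1,1)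
              exact False.elim (cert_false T ((skipEmb 0).trans v) (by norm_num) (fun _ => hv _) (((((((LB_zero T ((skipEmb 0).trans v)).upd 0 1 1 (le_of_eq hx12)).upd 0 2 1 (le_of_eq hx13)).upd 1 0 1 (le_of_eq hx21)).upd 1 2 1 (le_of_eq hx23)).upd 2 0 1 (le_of_eq hx31)).upd 2 1 1 (le_of_eq hx32)) ![1,1,1] (by decide) (by decide) 0 (by decide))
            · -- 23=(1,2)
              exact False.elim (cert_false T ((skipEmb 1).trans v) (by norm_num) (fun _ => hv _) (((((LB_zero T ((skipEmb 1).trans v)).upd 0 1 2 (le_of_eq hx02)).upd 1 0 1 (le_of_eq hx20)).upd 1 2 1 (le_of_eq hx23)).upd 2 1 2 (le_of_eq hx32)) ![1,1,1] (by decide) (by decide) 0 (by decide))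
            · -- 23=(2,1)
              exact False.elim (cert_false T ((skipEmb 1).trans v) (by norm_num) (fun _ => hv _) (((((LB_zero T ((skipEmb 1).trans v)).upd 0 1 2 (le_of_eq hx02)).upd 1 0 1 (le_of_eq hx20)).upd 1 2 2 (le_of_eq hx23)).upd 2 1 1 (le_of_eq hx32)) ![2,2,1] (by decide) (by decide) 0 (by decide))
            · -- 23=(1,3)
              exact False.elim (cert_false T ((skipEmb 1).trans v) (by norm_num) (fun _ => hv _) (((((LB_zero T ((skipEmb 1).trans v)).upd 0 1 2 (le_of_eq hx02)).upd 1 0 1 (le_of_eq hx20)).upd 1 2 1 (le_of_eq hx23)).upd 2 1 3 (le_of_eq hx32)) ![1,1,1] (by decide) (by decide) 0 (by decide))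
            · -- 23=(3,1)
              exact False.elim (cert_false T ((skipEmb 1).trans v) (by norm_num) (fun _ => hv _) (((((LB_zero T ((skipEmb 1).trans v)).upd 0 1 2 (le_of_eq hx02)).upd 1 0 1 (le_of_eq hx20)).upd 1 2 3 (le_of_eq hx23)).upd 2 1 1 (le_of_eq hx32)) ![1,2,1] (by decide) (by decide) 0 (by decide))
          · -- 13=(1,2)
            have d23 := two_pair T (by norm_num : 2 < 4) ((pairEmb 2 3 (by decide)).trans v) (fun _ => hv _)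
            change (N T v 2 3 = 0 ∧ N T v 3 2 = 0) ∨ (N T v 2 3 = 1 ∧ N T v 3 2 = 1) ∨ (N T v 2 3 = 1 ∧ N T v 3 2 = 2) ∨ (N T v 2 3 = 2 ∧ N T v 3 2 = 1) ∨ (N T v 2 3 = 1 ∧ N T v 3 2 = 3) ∨ (N T v 2 3 = 3 ∧ N T v 3 2 = 1) at d23
            rw [← hx23, ← hx32] at d23
            rcases d23 with ⟨rfl, rfl⟩ | ⟨rfl, rfl⟩ | ⟨rfl, rfl⟩ | ⟨rfl, rfl⟩ | ⟨rfl, rfl⟩ | ⟨rfl, rfl⟩
            · -- 23=(0,0)
              refine ⟨(⟨![0, 2, 1, 3], ![0, 2, 1, 3], by decide, by decide⟩ : Equiv.Perm (Fin 4)), T.m 0, T.w 0, Or.inr (Or.inr (Or.inl ?_))⟩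
              show T.m 0 = T.m 0 ∧ T.m 2 = T.m 0 ∧ T.m 1 = T.m 0 ∧ T.m 3 = T.m 0 ∧ T.w 0 = T.w 0 ∧ T.w 2 = 2 * T.w 0 ∧ T.w 1 = 2 * T.w 0 ∧ T.w 3 = T.w 0 ∧ T.a 0 0 = -2 * T.w 0 ∧ T.a 0 2 = 2 * T.w 0 ∧ T.a 0 1 = 0 ∧ T.a 0 3 = 0 ∧ T.a 2 2 = -4 * T.w 0 ∧ T.a 2 1 = 2 * T.w 0 ∧ T.a 2 3 = 0 ∧ T.a 1 1 = -4 * T.w 0 ∧ T.a 1 3 = 2 * T.w 0 ∧ T.a 3 3 = -2 * T.w 0
              refine ⟨?_, ?_, ?_, ?_, ?_, ?_, ?_, ?_, ?_, ?_, ?_, ?_, ?_, ?_, ?_, ?_, ?_, ?_⟩ <;> omega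
            · -- 23=(1,1)
              exact False.elim (cert_false T ((skipEmb 0).trans v) (by norm_num) (fun _ => hv _) (((((((LB_zero T ((skipEmb 0).trans v)).upd 0 1 1 (le_of_eq hx12)).upd 0 2 1 (le_of_eq hx13)).upd 1 0 1 (le_of_eq hx21)).upd 1 2 1 (le_of_eq hx23)).upd 2 0 2 (le_of_eq hx31)).upd 2 1 1 (le_of_eq hx32)) ![1,1,1] (by decide) (by decide) 0 (by decide))
            · -- 23=(1,2)
              exact False.elim (cert_false T ((skipEmb 1).trans v) (by norm_num) (fun _ => hv _) (((((LB_zero T ((skipEmb 1).trans v)).upd 0 1 2 (le_of_eq hx02)).upd 1 0 1 (le_of_eq hx20)).upd 1 2 1 (le_of_eq hx23)).upd 2 1 2 (le_of_eq hx32)) ![1,1,1] (by decide) (by decide) 0 (by decide))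
            · -- 23=(2,1)
              exact False.elim (cert_false T ((skipEmb 1).trans v) (by norm_num) (fun _ => hv _) (((((LB_zero T ((skipEmb 1).trans v)).upd 0 1 2 (le_of_eq hx02)).upd 1 0 1 (le_of_eq hx20)).upd 1 2 2 (le_of_eq hx23)).upd 2 1 1 (le_of_eq hx32)) ![2,2,1] (by decide) (by decide) 0 (by decide))
            · -- 23=(1,3)
              exact False.elim (cert_false T ((skipEmb 1).trans v) (by norm_num) (fun _ => hv _) (((((LB_zero T ((skipEmb 1).trans v)).upd 0 1 2 (le_of_eq hx02)).upd 1 0 1 (le_of_eq hx20)).upd 1 2 1 (le_of_eq hx23)).upd 2 1 3 (le_of_eq hx32)) ![1,1,1] (by decide) (by decide) 0 (by decide))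
            · -- 23=(3,1)
              exact False.elim (cert_false T ((skipEmb 1).trans v) (by norm_num) (fun _ => hv _) (((((LB_zero T ((skipEmb 1).trans v)).upd 0 1 2 (le_of_eq hx02)).upd 1 0 1 (le_of_eq hx20)).upd 1 2 3 (le_of_eq hx23)).upd 2 1 1 (le_of_eq hx32)) ![1,2,1] (by decide) (by decide) 0 (by decide))
          · -- 13=(2,1)
            have d23 := two_pair T (by norm_num : 2 < 4) ((pairEmb 2 3 (by decide)).trans v) (fun _ => hv _)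
            change (N T v 2 3 = 0 ∧ N T v 3 2 = 0) ∨ (N T v 2 3 = 1 ∧ N T v 3 2 = 1) ∨ (N T v 2 3 = 1 ∧ N T v 3 2 = 2) ∨ (N T v 2 3 = 2 ∧ N T v 3 2 = 1) ∨ (N T v 2 3 = 1 ∧ N T v 3 2 = 3) ∨ (N T v 2 3 = 3 ∧ N T v 3 2 = 1) at d23
            rw [← hx23, ← hx32] at d23
            rcases d23 with ⟨rfl, rfl⟩ | ⟨rfl, rfl⟩ | ⟨rfl, rfl⟩ | ⟨rfl, rfl⟩ | ⟨rfl, rfl⟩ | ⟨rfl, rfl⟩
            · -- 23=(0,0)
              refine ⟨(⟨![0, 2, 1, 3], ![0, 2, 1, 3], by decide, by decide⟩ : Equiv.Perm (Fin 4)), T.m 3, T.w 0, Or.inr (Or.inl ?_)⟩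
              show T.m 0 = 2 * T.m 3 ∧ T.m 2 = 2 * T.m 3 ∧ T.m 1 = 2 * T.m 3 ∧ T.m 3 = T.m 3 ∧ T.w 0 = T.w 0 ∧ T.w 2 = 2 * T.w 0 ∧ T.w 1 = 2 * T.w 0 ∧ T.w 3 = 4 * T.w 0 ∧ T.a 0 0 = -2 * T.w 0 ∧ T.a 0 2 = 2 * T.w 0 ∧ T.a 0 1 = 0 ∧ T.a 0 3 = 0 ∧ T.a 2 2 = -4 * T.w 0 ∧ T.a 2 1 = 2 * T.w 0 ∧ T.a 2 3 = 0 ∧ T.a 1 1 = -4 * T.w 0 ∧ T.a 1 3 = 4 * T.w 0 ∧ T.a 3 3 = -8 * T.w 0
              refine ⟨?_, ?_, ?_, ?_, ?_, ?_, ?_, ?_, ?_, ?_, ?_, ?_, ?_, ?_, ?_, ?_, ?_, ?_⟩ <;> omega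
            · -- 23=(1,1)
              exact False.elim (cert_false T ((skipEmb 0).trans v) (by norm_num) (fun _ => hv _) (((((((LB_zero T ((skipEmb 0).trans v)).upd 0 1 1 (le_of_eq hx12)).upd 0 2 2 (le_of_eq hx13)).upd 1 0 1 (le_of_eq hx21)).upd 1 2 1 (le_of_eq hx23)).upd 2 0 1 (le_of_eq hx31)).upd 2 1 1 (le_of_eq hx32)) ![1,1,1] (by decide) (by decide) 0 (by decide))
            · -- 23=(1,2)
              exact False.elim (cert_false T ((skipEmb 1).trans v) (by norm_num) (fun _ => hv _) (((((LB_zero T ((skipEmb 1).trans v)).upd 0 1 2 (le_of_eq hx02)).upd 1 0 1 (le_of_eq hx20)).upd 1 2 1 (le_of_eq hx23)).upd 2 1 2 (le_of_eq hx32)) ![1,1,1] (by decide) (by decide) 0 (by decide))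
            · -- 23=(2,1)
              exact False.elim (cert_false T ((skipEmb 1).trans v) (by norm_num) (fun _ => hv _) (((((LB_zero T ((skipEmb 1).trans v)).upd 0 1 2 (le_of_eq hx02)).upd 1 0 1 (le_of_eq hx20)).upd 1 2 2 (le_of_eq hx23)).upd 2 1 1 (le_of_eq hx32)) ![2,2,1] (by decide) (by decide) 0 (by decide))
            · -- 23=(1,3)
              exact False.elim (cert_false T ((skipEmb 1).trans v) (by norm_num) (fun _ => hv _) (((((LB_zero T ((skipEmb 1).trans v)).upd 0 1 2 (le_of_eq hx02)).upd 1 0 1 (le_of_eq hx20)).upd 1 2 1 (le_of_eq hx23)).upd 2 1 3 (le_of_eq hx32)) ![1,1,1] (by decide) (by decide) 0 (by decide))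
            · -- 23=(3,1)
              exact False.elim (cert_false T ((skipEmb 1).trans v) (by norm_num) (fun _ => hv _) (((((LB_zero T ((skipEmb 1).trans v)).upd 0 1 2 (le_of_eq hx02)).upd 1 0 1 (le_of_eq hx20)).upd 1 2 3 (le_of_eq hx23)).upd 2 1 1 (le_of_eq hx32)) ![1,2,1] (by decide) (by decide) 0 (by decide))
          · -- 13=(1,3)
            exact False.elim (cert_false T ((skipEmb 0).trans v) (by norm_num) (fun _ => hv _) (((((LB_zero T ((skipEmb 0).trans v)).upd 0 1 1 (le_of_eq hx12)).upd 0 2 1 (le_of_eq hx13)).upd 1 0 1 (le_of_eq hx21)).upd 2 0 3 (le_of_eq hx31)) ![2,1,3] (by decide) (by decide) 0 (by decide))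
          · -- 13=(3,1)
            exact False.elim (cert_false T ((skipEmb 0).trans v) (by norm_num) (fun _ => hv _) (((((LB_zero T ((skipEmb 0).trans v)).upd 0 1 1 (le_of_eq hx12)).upd 0 2 3 (le_of_eq hx13)).upd 1 0 1 (le_of_eq hx21)).upd 2 0 1 (le_of_eq hx31)) ![2,1,1] (by decide) (by decide) 0 (by decide))
        · -- 03=(1,1)
          have d13 := two_pair T (by norm_num : 2 < 4) ((pairEmb 1 3 (by decide)).trans v) (fun _ => hv _)
          change (N T v 1 3 = 0 ∧ N T v 3 1 = 0) ∨ (N T v 1 3 = 1 ∧ N T v 3 1 = 1) ∨ (N T v 1 3 = 1 ∧ N T v 3 1 = 2) ∨ (N T v 1 3 = 2 ∧ N T v 3 1 = 1) ∨ (N T v 1 3 = 1 ∧ N T v 3 1 = 3) ∨ (N T v 1 3 = 3 ∧ N T v 3 1 = 1) at d13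
          rw [← hx13, ← hx31] at d13
          rcases d13 with ⟨rfl, rfl⟩ | ⟨rfl, rfl⟩ | ⟨rfl, rfl⟩ | ⟨rfl, rfl⟩ | ⟨rfl, rfl⟩ | ⟨rfl, rfl⟩
          · -- 13=(0,0)
            have d23 := two_pair T (by norm_num : 2 < 4) ((pairEmb 2 3 (by decide)).trans v) (fun _ => hv _)
            change (N T v 2 3 = 0 ∧ N T v 3 2 = 0) ∨ (N T v 2 3 = 1 ∧ N T v 3 2 = 1) ∨ (N T v 2 3 = 1 ∧ N T v 3 2 = 2) ∨ (N T v 2 3 = 2 ∧ N T v 3 2 = 1) ∨ (N T v 2 3 = 1 ∧ N T v 3 2 = 3) ∨ (N T v 2 3 = 3 ∧ N T v 3 2 = 1) at d23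
            rw [← hx23, ← hx32] at d23
            rcases d23 with ⟨rfl, rfl⟩ | ⟨rfl, rfl⟩ | ⟨rfl, rfl⟩ | ⟨rfl, rfl⟩ | ⟨rfl, rfl⟩ | ⟨rfl, rfl⟩
            · -- 23=(0,0)
              exfalso; omega
            · -- 23=(1,1)
              exact False.elim (cert_false T ((skipEmb 1).trans v) (by norm_num) (fun _ => hv _) (((((((LB_zero T ((skipEmb 1).trans v)).upd 0 1 2 (le_of_eq hx02)).upd 0 2 1 (le_of_eq hx03)).upd 1 0 1 (le_of_eq hx20)).upd 1 2 1 (le_of_eq hx23)).upd 2 0 1 (le_of_eq hx30)).upd 2 1 1 (le_of_eq hx32)) ![1,1,1] (by decide) (by decide) 0 (by decide))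
            · -- 23=(1,2)
              exact False.elim (cert_false T ((skipEmb 1).trans v) (by norm_num) (fun _ => hv _) (((((((LB_zero T ((skipEmb 1).trans v)).upd 0 1 2 (le_of_eq hx02)).upd 0 2 1 (le_of_eq hx03)).upd 1 0 1 (le_of_eq hx20)).upd 1 2 1 (le_of_eq hx23)).upd 2 0 1 (le_of_eq hx30)).upd 2 1 2 (le_of_eq hx32)) ![1,1,1] (by decide) (by decide) 0 (by decide))
            · -- 23=(2,1)
              exact False.elim (cert_false T ((skipEmb 1).trans v) (by norm_num) (fun _ => hv _) (((((((LB_zero T ((skipEmb 1).trans v)).upd 0 1 2 (le_of_eq hx02)).upd 0 2 1 (le_of_eq hx03)).upd 1 0 1 (le_of_eq hx20)).upd 1 2 2 (le_of_eq hx23)).upd 2 0 1 (le_of_eq hx30)).upd 2 1 1 (le_of_eq hx32)) ![1,1,1] (by decide) (by decide) 0 (by decide))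
            · -- 23=(1,3)
              exact False.elim (cert_false T ((skipEmb 1).trans v) (by norm_num) (fun _ => hv _) (((((((LB_zero T ((skipEmb 1).trans v)).upd 0 1 2 (le_of_eq hx02)).upd 0 2 1 (le_of_eq hx03)).upd 1 0 1 (le_of_eq hx20)).upd 1 2 1 (le_of_eq hx23)).upd 2 0 1 (le_of_eq hx30)).upd 2 1 3 (le_of_eq hx32)) ![1,1,1] (by decide) (by decide) 0 (by decide))
            · -- 23=(3,1)
              exact False.elim (cert_false T ((skipEmb 1).trans v) (by norm_num) (fun _ => hv _) (((((((LB_zero T ((skipEmb 1).trans v)).upd 0 1 2 (le_of_eq hx02)).upd 0 2 1 (le_of_eq hx03)).upd 1 0 1 (le_of_eq hx20)).upd 1 2 3 (le_of_eq hx23)).upd 2 0 1 (le_of_eq hx30)).upd 2 1 1 (le_of_eq hx32)) ![1,1,1] (by decide) (by decide) 0 (by decide))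
          · -- 13=(1,1)
            have d23 := two_pair T (by norm_num : 2 < 4) ((pairEmb 2 3 (by decide)).trans v) (fun _ => hv _)
            change (N T v 2 3 = 0 ∧ N T v 3 2 = 0) ∨ (N T v 2 3 = 1 ∧ N T v 3 2 = 1) ∨ (N T v 2 3 = 1 ∧ N T v 3 2 = 2) ∨ (N T v 2 3 = 2 ∧ N T v 3 2 = 1) ∨ (N T v 2 3 = 1 ∧ N T v 3 2 = 3) ∨ (N T v 2 3 = 3 ∧ N T v 3 2 = 1) at d23
            rw [← hx23, ← hx32] at d23
            rcases d23 with ⟨rfl, rfl⟩ | ⟨rfl, rfl⟩ | ⟨rfl, rfl⟩ | ⟨rfl, rfl⟩ | ⟨rfl, rfl⟩ | ⟨rfl, rfl⟩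
            · -- 23=(0,0)
              exfalso; omega
            · -- 23=(1,1)
              exact False.elim (cert_false T ((skipEmb 1).trans v) (by norm_num) (fun _ => hv _) (((((((LB_zero T ((skipEmb 1).trans v)).upd 0 1 2 (le_of_eq hx02)).upd 0 2 1 (le_of_eq hx03)).upd 1 0 1 (le_of_eq hx20)).upd 1 2 1 (le_of_eq hx23)).upd 2 0 1 (le_of_eq hx30)).upd 2 1 1 (le_of_eq hx32)) ![1,1,1] (by decide) (by decide) 0 (by decide))
            · -- 23=(1,2)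
              exact False.elim (cert_false T ((skipEmb 1).trans v) (by norm_num) (fun _ => hv _) (((((((LB_zero T ((skipEmb 1).trans v)).upd 0 1 2 (le_of_eq hx02)).upd 0 2 1 (le_of_eq hx03)).upd 1 0 1 (le_of_eq hx20)).upd 1 2 1 (le_of_eq hx23)).upd 2 0 1 (le_of_eq hx30)).upd 2 1 2 (le_of_eq hx32)) ![1,1,1] (by decide) (by decide) 0 (by decide))
            · -- 23=(2,1)
              exact False.elim (cert_false T ((skipEmb 1).trans v) (by norm_num) (fun _ => hv _) (((((((LB_zero T ((skipEmb 1).trans v)).upd 0 1 2 (le_of_eq hx02)).upd 0 2 1 (le_of_eq hx03)).upd 1 0 1 (le_of_eq hx20)).upd 1 2 2 (le_of_eq hx23)).upd 2 0 1 (le_of_eq hx30)).upd 2 1 1 (le_of_eq hx32)) ![1,1,1] (by decide) (by decide) 0 (by decide))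
            · -- 23=(1,3)
              exact False.elim (cert_false T ((skipEmb 1).trans v) (by norm_num) (fun _ => hv _) (((((((LB_zero T ((skipEmb 1).trans v)).upd 0 1 2 (le_of_eq hx02)).upd 0 2 1 (le_of_eq hx03)).upd 1 0 1 (le_of_eq hx20)).upd 1 2 1 (le_of_eq hx23)).upd 2 0 1 (le_of_eq hx30)).upd 2 1 3 (le_of_eq hx32)) ![1,1,1] (by decide) (by decide) 0 (by decide))
            · -- 23=(3,1)
              exact False.elim (cert_false T ((skipEmb 1).trans v) (by norm_num) (fun _ => hv _) (((((((LB_zero T ((skipEmb 1).trans v)).upd 0 1 2 (le_of_eq hx02)).upd 0 2 1 (le_of_eq hx03)).upd 1 0 1 (le_of_eq hx20)).upd 1 2 3 (le_of_eq hx23)).upd 2 0 1 (le_of_eq hx30)).upd 2 1 1 (le_of_eq hx32)) ![1,1,1] (by decide) (by decide) 0 (by decide))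
          · -- 13=(1,2)
            have d23 := two_pair T (by norm_num : 2 < 4) ((pairEmb 2 3 (by decide)).trans v) (fun _ => hv _)
            change (N T v 2 3 = 0 ∧ N T v 3 2 = 0) ∨ (N T v 2 3 = 1 ∧ N T v 3 2 = 1) ∨ (N T v 2 3 = 1 ∧ N T v 3 2 = 2) ∨ (N T v 2 3 = 2 ∧ N T v 3 2 = 1) ∨ (N T v 2 3 = 1 ∧ N T v 3 2 = 3) ∨ (N T v 2 3 = 3 ∧ N T v 3 2 = 1) at d23
            rw [← hx23, ← hx32] at d23
            rcases d23 with ⟨rfl, rfl⟩ | ⟨rfl, rfl⟩ | ⟨rfl, rfl⟩ | ⟨rfl, rfl⟩ | ⟨rfl, rfl⟩ | ⟨rfl, rfl⟩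
            · -- 23=(0,0)
              exfalso; omega
            · -- 23=(1,1)
              exact False.elim (cert_false T ((skipEmb 1).trans v) (by norm_num) (fun _ => hv _) (((((((LB_zero T ((skipEmb 1).trans v)).upd 0 1 2 (le_of_eq hx02)).upd 0 2 1 (le_of_eq hx03)).upd 1 0 1 (le_of_eq hx20)).upd 1 2 1 (le_of_eq hx23)).upd 2 0 1 (le_of_eq hx30)).upd 2 1 1 (le_of_eq hx32)) ![1,1,1] (by decide) (by decide) 0 (by decide))
            · -- 23=(1,2)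
              exact False.elim (cert_false T ((skipEmb 1).trans v) (by norm_num) (fun _ => hv _) (((((((LB_zero T ((skipEmb 1).trans v)).upd 0 1 2 (le_of_eq hx02)).upd 0 2 1 (le_of_eq hx03)).upd 1 0 1 (le_of_eq hx20)).upd 1 2 1 (le_of_eq hx23)).upd 2 0 1 (le_of_eq hx30)).upd 2 1 2 (le_of_eq hx32)) ![1,1,1] (by decide) (by decide) 0 (by decide))
            · -- 23=(2,1)
              exact False.elim (cert_false T ((skipEmb 1).trans v) (by norm_num) (fun _ => hv _) (((((((LB_zero T ((skipEmb 1).trans v)).upd 0 1 2 (le_of_eq hx02)).upd 0 2 1 (le_of_eq hx03)).upd 1 0 1 (le_of_eq hx20)).upd 1 2 2 (le_of_eq hx23)).upd 2 0 1 (le_of_eq hx30)).upd 2 1 1 (le_of_eq hx32)) ![1,1,1] (by decide) (by decide) 0 (by decide))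
            · -- 23=(1,3)
              exact False.elim (cert_false T ((skipEmb 1).trans v) (by norm_num) (fun _ => hv _) (((((((LB_zero T ((skipEmb 1).trans v)).upd 0 1 2 (le_of_eq hx02)).upd 0 2 1 (le_of_eq hx03)).upd 1 0 1 (le_of_eq hx20)).upd 1 2 1 (le_of_eq hx23)).upd 2 0 1 (le_of_eq hx30)).upd 2 1 3 (le_of_eq hx32)) ![1,1,1] (by decide) (by decide) 0 (by decide))
            · -- 23=(3,1)
              exact False.elim (cert_false T ((skipEmb 1).trans v) (by norm_num) (fun _ => hv _) (((((((LB_zero T ((skipEmb 1).trans v)).upd 0 1 2 (le_of_eq hx02)).upd 0 2 1 (le_of_eq hx03)).upd 1 0 1 (le_of_eq hx20)).upd 1 2 3 (le_of_eq hx23)).upd 2 0 1 (le_of_eq hx30)).upd 2 1 1 (le_of_eq hx32)) ![1,1,1] (by decide) (by decide) 0 (by decide))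
          · -- 13=(2,1)
            have d23 := two_pair T (by norm_num : 2 < 4) ((pairEmb 2 3 (by decide)).trans v) (fun _ => hv _)
            change (N T v 2 3 = 0 ∧ N T v 3 2 = 0) ∨ (N T v 2 3 = 1 ∧ N T v 3 2 = 1) ∨ (N T v 2 3 = 1 ∧ N T v 3 2 = 2) ∨ (N T v 2 3 = 2 ∧ N T v 3 2 = 1) ∨ (N T v 2 3 = 1 ∧ N T v 3 2 = 3) ∨ (N T v 2 3 = 3 ∧ N T v 3 2 = 1) at d23
            rw [← hx23, ← hx32] at d23
            rcases d23 with ⟨rfl, rfl⟩ | ⟨rfl, rfl⟩ | ⟨rfl, rfl⟩ | ⟨rfl, rfl⟩ | ⟨rfl, rfl⟩ | ⟨rfl, rfl⟩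
            · -- 23=(0,0)
              exfalso; omega
            · -- 23=(1,1)
              exact False.elim (cert_false T ((skipEmb 1).trans v) (by norm_num) (fun _ => hv _) (((((((LB_zero T ((skipEmb 1).trans v)).upd 0 1 2 (le_of_eq hx02)).upd 0 2 1 (le_of_eq hx03)).upd 1 0 1 (le_of_eq hx20)).upd 1 2 1 (le_of_eq hx23)).upd 2 0 1 (le_of_eq hx30)).upd 2 1 1 (le_of_eq hx32)) ![1,1,1] (by decide) (by decide) 0 (by decide))
            · -- 23=(1,2)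
              exact False.elim (cert_false T ((skipEmb 1).trans v) (by norm_num) (fun _ => hv _) (((((((LB_zero T ((skipEmb 1).trans v)).upd 0 1 2 (le_of_eq hx02)).upd 0 2 1 (le_of_eq hx03)).upd 1 0 1 (le_of_eq hx20)).upd 1 2 1 (le_of_eq hx23)).upd 2 0 1 (le_of_eq hx30)).upd 2 1 2 (le_of_eq hx32)) ![1,1,1] (by decide) (by decide) 0 (by decide))
            · -- 23=(2,1)
              exact False.elim (cert_false T ((skipEmb 1).trans v) (by norm_num) (fun _ => hv _) (((((((LB_zero T ((skipEmb 1).trans v)).upd 0 1 2 (le_of_eq hx02)).upd 0 2 1 (le_of_eq hx03)).upd 1 0 1 (le_of_eq hx20)).upd 1 2 2 (le_of_eq hx23)).upd 2 0 1 (le_of_eq hx30)).upd 2 1 1 (le_of_eq hx32)) ![1,1,1] (by decide) (by decide) 0 (by decide))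
            · -- 23=(1,3)
              exact False.elim (cert_false T ((skipEmb 1).trans v) (by norm_num) (fun _ => hv _) (((((((LB_zero T ((skipEmb 1).trans v)).upd 0 1 2 (le_of_eq hx02)).upd 0 2 1 (le_of_eq hx03)).upd 1 0 1 (le_of_eq hx20)).upd 1 2 1 (le_of_eq hx23)).upd 2 0 1 (le_of_eq hx30)).upd 2 1 3 (le_of_eq hx32)) ![1,1,1] (by decide) (by decide) 0 (by decide))
            · -- 23=(3,1)
              exact False.elim (cert_false T ((skipEmb 1).trans v) (by norm_num) (fun _ => hv _) (((((((LB_zero T ((skipEmb 1).trans v)).upd 0 1 2 (le_of_eq hx02)).upd 0 2 1 (le_of_eq hx03)).upd 1 0 1 (le_of_eq hx20)).upd 1 2 3 (le_of_eq hx23)).upd 2 0 1 (le_of_eq hx30)).upd 2 1 1 (le_of_eq hx32)) ![1,1,1] (by decide) (by decide) 0 (by decide))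
          · -- 13=(1,3)
            exact False.elim (cert_false T ((skipEmb 2).trans v) (by norm_num) (fun _ => hv _) (((((LB_zero T ((skipEmb 2).trans v)).upd 0 2 1 (le_of_eq hx03)).upd 1 2 1 (le_of_eq hx13)).upd 2 0 1 (le_of_eq hx30)).upd 2 1 3 (le_of_eq hx31)) ![1,1,2] (by decide) (by decide) 0 (by decide))
          · -- 13=(3,1)
            exact False.elim (cert_false T ((skipEmb 2).trans v) (by norm_num) (fun _ => hv _) (((((LB_zero T ((skipEmb 2).trans v)).upd 0 2 1 (le_of_eq hx03)).upd 1 2 3 (le_of_eq hx13)).upd 2 0 1 (le_of_eq hx30)).upd 2 1 1 (le_of_eq hx31)) ![1,3,2] (by decide) (by decide) 0 (by decide))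
        · -- 03=(1,2)
          exact False.elim (cert_false T ((skipEmb 1).trans v) (by norm_num) (fun _ => hv _) (((((LB_zero T ((skipEmb 1).trans v)).upd 0 1 2 (le_of_eq hx02)).upd 0 2 1 (le_of_eq hx03)).upd 1 0 1 (le_of_eq hx20)).upd 2 0 2 (le_of_eq hx30)) ![2,1,2] (by decide) (by decide) 0 (by decide))
        · -- 03=(2,1)
          exact False.elim (cert_false T ((skipEmb 1).trans v) (by norm_num) (fun _ => hv _) (((((LB_zero T ((skipEmb 1).trans v)).upd 0 1 2 (le_of_eq hx02)).upd 0 2 2 (le_of_eq hx03)).upd 1 0 1 (le_of_eq hx20)).upd 2 0 1 (le_of_eq hx30)) ![2,1,1] (by decide) (by decide) 0 (by decide))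
        · -- 03=(1,3)
          exact False.elim (cert_false T ((skipEmb 1).trans v) (by norm_num) (fun _ => hv _) (((((LB_zero T ((skipEmb 1).trans v)).upd 0 1 2 (le_of_eq hx02)).upd 0 2 1 (le_of_eq hx03)).upd 1 0 1 (le_of_eq hx20)).upd 2 0 3 (le_of_eq hx30)) ![2,1,2] (by decide) (by decide) 0 (by decide))
        · -- 03=(3,1)
          exact False.elim (cert_false T ((skipEmb 1).trans v) (by norm_num) (fun _ => hv _) (((((LB_zero T ((skipEmb 1).trans v)).upd 0 1 2 (le_of_eq hx02)).upd 0 2 3 (le_of_eq hx03)).upd 1 0 1 (le_of_eq hx20)).upd 2 0 1 (le_of_eq hx30)) ![2,1,1] (by decide) (by decide) 0 (by decide))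
      · -- 12=(1,2)
        exact False.elim (cert_false T ((skipEmb 3).trans v) (by norm_num) (fun _ => hv _) (((((LB_zero T ((skipEmb 3).trans v)).upd 0 2 2 (le_of_eq hx02)).upd 1 2 1 (le_of_eq hx12)).upd 2 0 1 (le_of_eq hx20)).upd 2 1 2 (le_of_eq hx21)) ![2,1,2] (by decide) (by decide) 0 (by decide))
      · -- 12=(2,1)
        exact False.elim (cert_false T ((skipEmb 3).trans v) (by norm_num) (fun _ => hv _) (((((LB_zero T ((skipEmb 3).trans v)).upd 0 2 2 (le_of_eq hx02)).upd 1 2 2 (le_of_eq hx12)).upd 2 0 1 (le_of_eq hx20)).upd 2 1 1 (le_of_eq hx21)) ![1,1,1] (by decide) (by decide) 0 (by decide))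
      · -- 12=(1,3)
        exact False.elim (cert_false T ((skipEmb 3).trans v) (by norm_num) (fun _ => hv _) (((((LB_zero T ((skipEmb 3).trans v)).upd 0 2 2 (le_of_eq hx02)).upd 1 2 1 (le_of_eq hx12)).upd 2 0 1 (le_of_eq hx20)).upd 2 1 3 (le_of_eq hx21)) ![1,1,2] (by decide) (by decide) 0 (by decide))
      · -- 12=(3,1)
        exact False.elim (cert_false T ((skipEmb 3).trans v) (by norm_num) (fun _ => hv _) (((((LB_zero T ((skipEmb 3).trans v)).upd 0 2 2 (le_of_eq hx02)).upd 1 2 3 (le_of_eq hx12)).upd 2 0 1 (le_of_eq hx20)).upd 2 1 1 (le_of_eq hx21)) ![1,1,1] (by decide) (by decide) 0 (by decide))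
    · -- 02=(1,3)
      have d12 := two_pair T (by norm_num : 2 < 4) ((pairEmb 1 2 (by decide)).trans v) (fun _ => hv _)
      change (N T v 1 2 = 0 ∧ N T v 2 1 = 0) ∨ (N T v 1 2 = 1 ∧ N T v 2 1 = 1) ∨ (N T v 1 2 = 1 ∧ N T v 2 1 = 2) ∨ (N T v 1 2 = 2 ∧ N T v 2 1 = 1) ∨ (N T v 1 2 = 1 ∧ N T v 2 1 = 3) ∨ (N T v 1 2 = 3 ∧ N T v 2 1 = 1) at d12
      rw [← hx12, ← hx21] at d12
      rcases d12 with ⟨rfl, rfl⟩ | ⟨rfl, rfl⟩ | ⟨rfl, rfl⟩ | ⟨rfl, rfl⟩ | ⟨rfl, rfl⟩ | ⟨rfl, rfl⟩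
      · -- 12=(0,0)
        have d03 := two_pair T (by norm_num : 2 < 4) ((pairEmb 0 3 (by decide)).trans v) (fun _ => hv _)
        change (N T v 0 3 = 0 ∧ N T v 3 0 = 0) ∨ (N T v 0 3 = 1 ∧ N T v 3 0 = 1) ∨ (N T v 0 3 = 1 ∧ N T v 3 0 = 2) ∨ (N T v 0 3 = 2 ∧ N T v 3 0 = 1) ∨ (N T v 0 3 = 1 ∧ N T v 3 0 = 3) ∨ (N T v 0 3 = 3 ∧ N T v 3 0 = 1) at d03
        rw [← hx03, ← hx30] at d03
        rcases d03 with ⟨rfl, rfl⟩ | ⟨rfl, rfl⟩ | ⟨rfl, rfl⟩ | ⟨rfl, rfl⟩ | ⟨rfl, rfl⟩ | ⟨rfl, rfl⟩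
        · -- 03=(0,0)
          have d13 := two_pair T (by norm_num : 2 < 4) ((pairEmb 1 3 (by decide)).trans v) (fun _ => hv _)
          change (N T v 1 3 = 0 ∧ N T v 3 1 = 0) ∨ (N T v 1 3 = 1 ∧ N T v 3 1 = 1) ∨ (N T v 1 3 = 1 ∧ N T v 3 1 = 2) ∨ (N T v 1 3 = 2 ∧ N T v 3 1 = 1) ∨ (N T v 1 3 = 1 ∧ N T v 3 1 = 3) ∨ (N T v 1 3 = 3 ∧ N T v 3 1 = 1) at d13
          rw [← hx13, ← hx31] at d13
          rcases d13 with ⟨rfl, rfl⟩ | ⟨rfl, rfl⟩ | ⟨rfl, rfl⟩ | ⟨rfl, rfl⟩ | ⟨rfl, rfl⟩ | ⟨rfl, rfl⟩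
          · -- 13=(0,0)
            have d23 := two_pair T (by norm_num : 2 < 4) ((pairEmb 2 3 (by decide)).trans v) (fun _ => hv _)
            change (N T v 2 3 = 0 ∧ N T v 3 2 = 0) ∨ (N T v 2 3 = 1 ∧ N T v 3 2 = 1) ∨ (N T v 2 3 = 1 ∧ N T v 3 2 = 2) ∨ (N T v 2 3 = 2 ∧ N T v 3 2 = 1) ∨ (N T v 2 3 = 1 ∧ N T v 3 2 = 3) ∨ (N T v 2 3 = 3 ∧ N T v 3 2 = 1) at d23
            rw [← hx23, ← hx32] at d23
            rcases d23 with ⟨rfl, rfl⟩ | ⟨rfl, rfl⟩ | ⟨rfl, rfl⟩ | ⟨rfl, rfl⟩ | ⟨rfl, rfl⟩ | ⟨rfl, rfl⟩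
            · -- 23=(0,0)
              exfalso; omega
            · -- 23=(1,1)
              exact False.elim (cert_false T ((skipEmb 1).trans v) (by norm_num) (fun _ => hv _) (((((LB_zero T ((skipEmb 1).trans v)).upd 0 1 1 (le_of_eq hx02)).upd 1 0 3 (le_of_eq hx20)).upd 1 2 1 (le_of_eq hx23)).upd 2 1 1 (le_of_eq hx32)) ![1,2,1] (by decide) (by decide) 0 (by decide))
            · -- 23=(1,2)
              exact False.elim (cert_false T ((skipEmb 1).trans v) (by norm_num) (fun _ => hv _) (((((LB_zero T ((skipEmb 1).trans v)).upd 0 1 1 (le_of_eq hx02)).upd 1 0 3 (le_of_eq hx20)).upd 1 2 1 (le_of_eq hx23)).upd 2 1 2 (le_of_eq hx32)) ![1,2,1] (by decide) (by decide) 0 (by decide))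
            · -- 23=(2,1)
              exact False.elim (cert_false T ((skipEmb 1).trans v) (by norm_num) (fun _ => hv _) (((((LB_zero T ((skipEmb 1).trans v)).upd 0 1 1 (le_of_eq hx02)).upd 1 0 3 (le_of_eq hx20)).upd 1 2 2 (le_of_eq hx23)).upd 2 1 1 (le_of_eq hx32)) ![1,2,1] (by decide) (by decide) 0 (by decide))
            · -- 23=(1,3)
              exact False.elim (cert_false T ((skipEmb 1).trans v) (by norm_num) (fun _ => hv _) (((((LB_zero T ((skipEmb 1).trans v)).upd 0 1 1 (le_of_eq hx02)).upd 1 0 3 (le_of_eq hx20)).upd 1 2 1 (le_of_eq hx23)).upd 2 1 3 (le_of_eq hx32)) ![1,2,1] (by decide) (by decide) 0 (by decide))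
            · -- 23=(3,1)
              exact False.elim (cert_false T ((skipEmb 1).trans v) (by norm_num) (fun _ => hv _) (((((LB_zero T ((skipEmb 1).trans v)).upd 0 1 1 (le_of_eq hx02)).upd 1 0 3 (le_of_eq hx20)).upd 1 2 3 (le_of_eq hx23)).upd 2 1 1 (le_of_eq hx32)) ![1,2,1] (by decide) (by decide) 0 (by decide))
          · -- 13=(1,1)
            have d23 := two_pair T (by norm_num : 2 < 4) ((pairEmb 2 3 (by decide)).trans v) (fun _ => hv _)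
            change (N T v 2 3 = 0 ∧ N T v 3 2 = 0) ∨ (N T v 2 3 = 1 ∧ N T v 3 2 = 1) ∨ (N T v 2 3 = 1 ∧ N T v 3 2 = 2) ∨ (N T v 2 3 = 2 ∧ N T v 3 2 = 1) ∨ (N T v 2 3 = 1 ∧ N T v 3 2 = 3) ∨ (N T v 2 3 = 3 ∧ N T v 3 2 = 1) at d23
            rw [← hx23, ← hx32] at d23
            rcases d23 with ⟨rfl, rfl⟩ | ⟨rfl, rfl⟩ | ⟨rfl, rfl⟩ | ⟨rfl, rfl⟩ | ⟨rfl, rfl⟩ | ⟨rfl, rfl⟩
            · -- 23=(0,0)
              exfalso; omega
            · -- 23=(1,1)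
              exact False.elim (cert_false T ((skipEmb 1).trans v) (by norm_num) (fun _ => hv _) (((((LB_zero T ((skipEmb 1).trans v)).upd 0 1 1 (le_of_eq hx02)).upd 1 0 3 (le_of_eq hx20)).upd 1 2 1 (le_of_eq hx23)).upd 2 1 1 (le_of_eq hx32)) ![1,2,1] (by decide) (by decide) 0 (by decide))
            · -- 23=(1,2)
              exact False.elim (cert_false T ((skipEmb 1).trans v) (by norm_num) (fun _ => hv _) (((((LB_zero T ((skipEmb 1).trans v)).upd 0 1 1 (le_of_eq hx02)).upd 1 0 3 (le_of_eq hx20)).upd 1 2 1 (le_of_eq hx23)).upd 2 1 2 (le_of_eq hx32)) ![1,2,1] (by decide) (by decide) 0 (by decide))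
            · -- 23=(2,1)
              exact False.elim (cert_false T ((skipEmb 1).trans v) (by norm_num) (fun _ => hv _) (((((LB_zero T ((skipEmb 1).trans v)).upd 0 1 1 (le_of_eq hx02)).upd 1 0 3 (le_of_eq hx20)).upd 1 2 2 (le_of_eq hx23)).upd 2 1 1 (le_of_eq hx32)) ![1,2,1] (by decide) (by decide) 0 (by decide))
            · -- 23=(1,3)
              exact False.elim (cert_false T ((skipEmb 1).trans v) (by norm_num) (fun _ => hv _) (((((LB_zero T ((skipEmb 1).trans v)).upd 0 1 1 (le_of_eq hx02)).upd 1 0 3 (le_of_eq hx20)).upd 1 2 1 (le_of_eq hx23)).upd 2 1 3 (le_of_eq hx32)) ![1,2,1] (by decide) (by decide) 0 (by decide))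
            · -- 23=(3,1)
              exact False.elim (cert_false T ((skipEmb 1).trans v) (by norm_num) (fun _ => hv _) (((((LB_zero T ((skipEmb 1).trans v)).upd 0 1 1 (le_of_eq hx02)).upd 1 0 3 (le_of_eq hx20)).upd 1 2 3 (le_of_eq hx23)).upd 2 1 1 (le_of_eq hx32)) ![1,2,1] (by decide) (by decide) 0 (by decide))
          · -- 13=(1,2)
            have d23 := two_pair T (by norm_num : 2 < 4) ((pairEmb 2 3 (by decide)).trans v) (fun _ => hv _)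
            change (N T v 2 3 = 0 ∧ N T v 3 2 = 0) ∨ (N T v 2 3 = 1 ∧ N T v 3 2 = 1) ∨ (N T v 2 3 = 1 ∧ N T v 3 2 = 2) ∨ (N T v 2 3 = 2 ∧ N T v 3 2 = 1) ∨ (N T v 2 3 = 1 ∧ N T v 3 2 = 3) ∨ (N T v 2 3 = 3 ∧ N T v 3 2 = 1) at d23
            rw [← hx23, ← hx32] at d23
            rcases d23 with ⟨rfl, rfl⟩ | ⟨rfl, rfl⟩ | ⟨rfl, rfl⟩ | ⟨rfl, rfl⟩ | ⟨rfl, rfl⟩ | ⟨rfl, rfl⟩
            · -- 23=(0,0)
              exfalso; omega
            · -- 23=(1,1)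
              exact False.elim (cert_false T ((skipEmb 1).trans v) (by norm_num) (fun _ => hv _) (((((LB_zero T ((skipEmb 1).trans v)).upd 0 1 1 (le_of_eq hx02)).upd 1 0 3 (le_of_eq hx20)).upd 1 2 1 (le_of_eq hx23)).upd 2 1 1 (le_of_eq hx32)) ![1,2,1] (by decide) (by decide) 0 (by decide))
            · -- 23=(1,2)
              exact False.elim (cert_false T ((skipEmb 1).trans v) (by norm_num) (fun _ => hv _) (((((LB_zero T ((skipEmb 1).trans v)).upd 0 1 1 (le_of_eq hx02)).upd 1 0 3 (le_of_eq hx20)).upd 1 2 1 (le_of_eq hx23)).upd 2 1 2 (le_of_eq hx32)) ![1,2,1] (by decide) (by decide) 0 (by decide))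
            · -- 23=(2,1)
              exact False.elim (cert_false T ((skipEmb 1).trans v) (by norm_num) (fun _ => hv _) (((((LB_zero T ((skipEmb 1).trans v)).upd 0 1 1 (le_of_eq hx02)).upd 1 0 3 (le_of_eq hx20)).upd 1 2 2 (le_of_eq hx23)).upd 2 1 1 (le_of_eq hx32)) ![1,2,1] (by decide) (by decide) 0 (by decide))
            · -- 23=(1,3)
              exact False.elim (cert_false T ((skipEmb 1).trans v) (by norm_num) (fun _ => hv _) (((((LB_zero T ((skipEmb 1).trans v)).upd 0 1 1 (le_of_eq hx02)).upd 1 0 3 (le_of_eq hx20)).upd 1 2 1 (le_of_eq hx23)).upd 2 1 3 (le_of_eq hx32)) ![1,2,1] (by decide) (by decide) 0 (by decide))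
            · -- 23=(3,1)
              exact False.elim (cert_false T ((skipEmb 1).trans v) (by norm_num) (fun _ => hv _) (((((LB_zero T ((skipEmb 1).trans v)).upd 0 1 1 (le_of_eq hx02)).upd 1 0 3 (le_of_eq hx20)).upd 1 2 3 (le_of_eq hx23)).upd 2 1 1 (le_of_eq hx32)) ![1,2,1] (by decide) (by decide) 0 (by decide))
          · -- 13=(2,1)
            have d23 := two_pair T (by norm_num : 2 < 4) ((pairEmb 2 3 (by decide)).trans v) (fun _ => hv _)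
            change (N T v 2 3 = 0 ∧ N T v 3 2 = 0) ∨ (N T v 2 3 = 1 ∧ N T v 3 2 = 1) ∨ (N T v 2 3 = 1 ∧ N T v 3 2 = 2) ∨ (N T v 2 3 = 2 ∧ N T v 3 2 = 1) ∨ (N T v 2 3 = 1 ∧ N T v 3 2 = 3) ∨ (N T v 2 3 = 3 ∧ N T v 3 2 = 1) at d23
            rw [← hx23, ← hx32] at d23
            rcases d23 with ⟨rfl, rfl⟩ | ⟨rfl, rfl⟩ | ⟨rfl, rfl⟩ | ⟨rfl, rfl⟩ | ⟨rfl, rfl⟩ | ⟨rfl, rfl⟩
            · -- 23=(0,0)
              exfalso; omega
            · -- 23=(1,1)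
              exact False.elim (cert_false T ((skipEmb 1).trans v) (by norm_num) (fun _ => hv _) (((((LB_zero T ((skipEmb 1).trans v)).upd 0 1 1 (le_of_eq hx02)).upd 1 0 3 (le_of_eq hx20)).upd 1 2 1 (le_of_eq hx23)).upd 2 1 1 (le_of_eq hx32)) ![1,2,1] (by decide) (by decide) 0 (by decide))
            · -- 23=(1,2)
              exact False.elim (cert_false T ((skipEmb 1).trans v) (by norm_num) (fun _ => hv _) (((((LB_zero T ((skipEmb 1).trans v)).upd 0 1 1 (le_of_eq hx02)).upd 1 0 3 (le_of_eq hx20)).upd 1 2 1 (le_of_eq hx23)).upd 2 1 2 (le_of_eq hx32)) ![1,2,1] (by decide) (by decide) 0 (by decide))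
            · -- 23=(2,1)
              exact False.elim (cert_false T ((skipEmb 1).trans v) (by norm_num) (fun _ => hv _) (((((LB_zero T ((skipEmb 1).trans v)).upd 0 1 1 (le_of_eq hx02)).upd 1 0 3 (le_of_eq hx20)).upd 1 2 2 (le_of_eq hx23)).upd 2 1 1 (le_of_eq hx32)) ![1,2,1] (by decide) (by decide) 0 (by decide))
            · -- 23=(1,3)
              exact False.elim (cert_false T ((skipEmb 1).trans v) (by norm_num) (fun _ => hv _) (((((LB_zero T ((skipEmb 1).trans v)).upd 0 1 1 (le_of_eq hx02)).upd 1 0 3 (le_of_eq hx20)).upd 1 2 1 (le_of_eq hx23)).upd 2 1 3 (le_of_eq hx32)) ![1,2,1] (by decide) (by decide) 0 (by decide))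
            · -- 23=(3,1)
              exact False.elim (cert_false T ((skipEmb 1).trans v) (by norm_num) (fun _ => hv _) (((((LB_zero T ((skipEmb 1).trans v)).upd 0 1 1 (le_of_eq hx02)).upd 1 0 3 (le_of_eq hx20)).upd 1 2 3 (le_of_eq hx23)).upd 2 1 1 (le_of_eq hx32)) ![1,2,1] (by decide) (by decide) 0 (by decide))
          · -- 13=(1,3)
            have d23 := two_pair T (by norm_num : 2 < 4) ((pairEmb 2 3 (by decide)).trans v) (fun _ => hv _)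
            change (N T v 2 3 = 0 ∧ N T v 3 2 = 0) ∨ (N T v 2 3 = 1 ∧ N T v 3 2 = 1) ∨ (N T v 2 3 = 1 ∧ N T v 3 2 = 2) ∨ (N T v 2 3 = 2 ∧ N T v 3 2 = 1) ∨ (N T v 2 3 = 1 ∧ N T v 3 2 = 3) ∨ (N T v 2 3 = 3 ∧ N T v 3 2 = 1) at d23
            rw [← hx23, ← hx32] at d23
            rcases d23 with ⟨rfl, rfl⟩ | ⟨rfl, rfl⟩ | ⟨rfl, rfl⟩ | ⟨rfl, rfl⟩ | ⟨rfl, rfl⟩ | ⟨rfl, rfl⟩
            · -- 23=(0,0)
              exfalso; omega
            · -- 23=(1,1)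
              exact False.elim (cert_false T ((skipEmb 1).trans v) (by norm_num) (fun _ => hv _) (((((LB_zero T ((skipEmb 1).trans v)).upd 0 1 1 (le_of_eq hx02)).upd 1 0 3 (le_of_eq hx20)).upd 1 2 1 (le_of_eq hx23)).upd 2 1 1 (le_of_eq hx32)) ![1,2,1] (by decide) (by decide) 0 (by decide))
            · -- 23=(1,2)
              exact False.elim (cert_false T ((skipEmb 1).trans v) (by norm_num) (fun _ => hv _) (((((LB_zero T ((skipEmb 1).trans v)).upd 0 1 1 (le_of_eq hx02)).upd 1 0 3 (le_of_eq hx20)).upd 1 2 1 (le_of_eq hx23)).upd 2 1 2 (le_of_eq hx32)) ![1,2,1] (by decide) (by decide) 0 (by decide))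
            · -- 23=(2,1)
              exact False.elim (cert_false T ((skipEmb 1).trans v) (by norm_num) (fun _ => hv _) (((((LB_zero T ((skipEmb 1).trans v)).upd 0 1 1 (le_of_eq hx02)).upd 1 0 3 (le_of_eq hx20)).upd 1 2 2 (le_of_eq hx23)).upd 2 1 1 (le_of_eq hx32)) ![1,2,1] (by decide) (by decide) 0 (by decide))
            · -- 23=(1,3)
              exact False.elim (cert_false T ((skipEmb 1).trans v) (by norm_num) (fun _ => hv _) (((((LB_zero T ((skipEmb 1).trans v)).upd 0 1 1 (le_of_eq hx02)).upd 1 0 3 (le_of_eq hx20)).upd 1 2 1 (le_of_eq hx23)).upd 2 1 3 (le_of_eq hx32)) ![1,2,1] (by decide) (by decide) 0 (by decide))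
            · -- 23=(3,1)
              exact False.elim (cert_false T ((skipEmb 1).trans v) (by norm_num) (fun _ => hv _) (((((LB_zero T ((skipEmb 1).trans v)).upd 0 1 1 (le_of_eq hx02)).upd 1 0 3 (le_of_eq hx20)).upd 1 2 3 (le_of_eq hx23)).upd 2 1 1 (le_of_eq hx32)) ![1,2,1] (by decide) (by decide) 0 (by decide))
          · -- 13=(3,1)
            have d23 := two_pair T (by norm_num : 2 < 4) ((pairEmb 2 3 (by decide)).trans v) (fun _ => hv _)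
            change (N T v 2 3 = 0 ∧ N T v 3 2 = 0) ∨ (N T v 2 3 = 1 ∧ N T v 3 2 = 1) ∨ (N T v 2 3 = 1 ∧ N T v 3 2 = 2) ∨ (N T v 2 3 = 2 ∧ N T v 3 2 = 1) ∨ (N T v 2 3 = 1 ∧ N T v 3 2 = 3) ∨ (N T v 2 3 = 3 ∧ N T v 3 2 = 1) at d23
            rw [← hx23, ← hx32] at d23
            rcases d23 with ⟨rfl, rfl⟩ | ⟨rfl, rfl⟩ | ⟨rfl, rfl⟩ | ⟨rfl, rfl⟩ | ⟨rfl, rfl⟩ | ⟨rfl, rfl⟩
            · -- 23=(0,0)
              exfalso; omega
            · -- 23=(1,1)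
              exact False.elim (cert_false T ((skipEmb 1).trans v) (by norm_num) (fun _ => hv _) (((((LB_zero T ((skipEmb 1).trans v)).upd 0 1 1 (le_of_eq hx02)).upd 1 0 3 (le_of_eq hx20)).upd 1 2 1 (le_of_eq hx23)).upd 2 1 1 (le_of_eq hx32)) ![1,2,1] (by decide) (by decide) 0 (by decide))
            · -- 23=(1,2)
              exact False.elim (cert_false T ((skipEmb 1).trans v) (by norm_num) (fun _ => hv _) (((((LB_zero T ((skipEmb 1).trans v)).upd 0 1 1 (le_of_eq hx02)).upd 1 0 3 (le_of_eq hx20)).upd 1 2 1 (le_of_eq hx23)).upd 2 1 2 (le_of_eq hx32)) ![1,2,1] (by decide) (by decide) 0 (by decide))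
            · -- 23=(2,1)
              exact False.elim (cert_false T ((skipEmb 1).trans v) (by norm_num) (fun _ => hv _) (((((LB_zero T ((skipEmb 1).trans v)).upd 0 1 1 (le_of_eq hx02)).upd 1 0 3 (le_of_eq hx20)).upd 1 2 2 (le_of_eq hx23)).upd 2 1 1 (le_of_eq hx32)) ![1,2,1] (by decide) (by decide) 0 (by decide))
            · -- 23=(1,3)
              exact False.elim (cert_false T ((skipEmb 1).trans v) (by norm_num) (fun _ => hv _) (((((LB_zero T ((skipEmb 1).trans v)).upd 0 1 1 (le_of_eq hx02)).upd 1 0 3 (le_of_eq hx20)).upd 1 2 1 (le_of_eq hx23)).upd 2 1 3 (le_of_eq hx32)) ![1,2,1] (by decide) (by decide) 0 (by decide))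
            · -- 23=(3,1)
              exact False.elim (cert_false T ((skipEmb 1).trans v) (by norm_num) (fun _ => hv _) (((((LB_zero T ((skipEmb 1).trans v)).upd 0 1 1 (le_of_eq hx02)).upd 1 0 3 (le_of_eq hx20)).upd 1 2 3 (le_of_eq hx23)).upd 2 1 1 (le_of_eq hx32)) ![1,2,1] (by decide) (by decide) 0 (by decide))
        · -- 03=(1,1)
          exact False.elim (cert_false T ((skipEmb 1).trans v) (by norm_num) (fun _ => hv _) (((((LB_zero T ((skipEmb 1).trans v)).upd 0 1 1 (le_of_eq hx02)).upd 0 2 1 (le_of_eq hx03)).upd 1 0 3 (le_of_eq hx20)).upd 2 0 1 (le_of_eq hx30)) ![2,3,1] (by decide) (by decide) 0 (by decide))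
        · -- 03=(1,2)
          exact False.elim (cert_false T ((skipEmb 1).trans v) (by norm_num) (fun _ => hv _) (((((LB_zero T ((skipEmb 1).trans v)).upd 0 1 1 (le_of_eq hx02)).upd 0 2 1 (le_of_eq hx03)).upd 1 0 3 (le_of_eq hx20)).upd 2 0 2 (le_of_eq hx30)) ![1,1,1] (by decide) (by decide) 0 (by decide))
        · -- 03=(2,1)
          exact False.elim (cert_false T ((skipEmb 1).trans v) (by norm_num) (fun _ => hv _) (((((LB_zero T ((skipEmb 1).trans v)).upd 0 1 1 (le_of_eq hx02)).upd 0 2 2 (le_of_eq hx03)).upd 1 0 3 (le_of_eq hx20)).upd 2 0 1 (le_of_eq hx30)) ![2,2,1] (by decide) (by decide) 0 (by decide))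
        · -- 03=(1,3)
          exact False.elim (cert_false T ((skipEmb 1).trans v) (by norm_num) (fun _ => hv _) (((((LB_zero T ((skipEmb 1).trans v)).upd 0 1 1 (le_of_eq hx02)).upd 0 2 1 (le_of_eq hx03)).upd 1 0 3 (le_of_eq hx20)).upd 2 0 3 (le_of_eq hx30)) ![1,1,1] (by decide) (by decide) 0 (by decide))
        · -- 03=(3,1)
          exact False.elim (cert_false T ((skipEmb 1).trans v) (by norm_num) (fun _ => hv _) (((((LB_zero T ((skipEmb 1).trans v)).upd 0 1 1 (le_of_eq hx02)).upd 0 2 3 (le_of_eq hx03)).upd 1 0 3 (le_of_eq hx20)).upd 2 0 1 (le_of_eq hx30)) ![2,1,1] (by decide) (by decide) 0 (by decide))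
      · -- 12=(1,1)
        exact False.elim (cert_false T ((skipEmb 3).trans v) (by norm_num) (fun _ => hv _) (((((LB_zero T ((skipEmb 3).trans v)).upd 0 2 1 (le_of_eq hx02)).upd 1 2 1 (le_of_eq hx12)).upd 2 0 3 (le_of_eq hx20)).upd 2 1 1 (le_of_eq hx21)) ![1,1,2] (by decide) (by decide) 0 (by decide))
      · -- 12=(1,2)
        exact False.elim (cert_false T ((skipEmb 3).trans v) (by norm_num) (fun _ => hv _) (((((LB_zero T ((skipEmb 3).trans v)).upd 0 2 1 (le_of_eq hx02)).upd 1 2 1 (le_of_eq hx12)).upd 2 0 3 (le_of_eq hx20)).upd 2 1 2 (le_of_eq hx21)) ![1,1,2] (by decide) (by decide) 0 (by decide))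
      · -- 12=(2,1)
        exact False.elim (cert_false T ((skipEmb 3).trans v) (by norm_num) (fun _ => hv _) (((((LB_zero T ((skipEmb 3).trans v)).upd 0 2 1 (le_of_eq hx02)).upd 1 2 2 (le_of_eq hx12)).upd 2 0 3 (le_of_eq hx20)).upd 2 1 1 (le_of_eq hx21)) ![1,1,2] (by decide) (by decide) 0 (by decide))
      · -- 12=(1,3)
        exact False.elim (cert_false T ((skipEmb 3).trans v) (by norm_num) (fun _ => hv _) (((((LB_zero T ((skipEmb 3).trans v)).upd 0 2 1 (le_of_eq hx02)).upd 1 2 1 (le_of_eq hx12)).upd 2 0 3 (le_of_eq hx20)).upd 2 1 3 (le_of_eq hx21)) ![1,1,2] (by decide) (by decide) 0 (by decide))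
      · -- 12=(3,1)
        exact False.elim (cert_false T ((skipEmb 3).trans v) (by norm_num) (fun _ => hv _) (((((LB_zero T ((skipEmb 3).trans v)).upd 0 2 1 (le_of_eq hx02)).upd 1 2 3 (le_of_eq hx12)).upd 2 0 3 (le_of_eq hx20)).upd 2 1 1 (le_of_eq hx21)) ![1,1,2] (by decide) (by decide) 0 (by decide))
    · -- 02=(3,1)
      have d12 := two_pair T (by norm_num : 2 < 4) ((pairEmb 1 2 (by decide)).trans v) (fun _ => hv _)
      change (N T v 1 2 = 0 ∧ N T v 2 1 = 0) ∨ (N T v 1 2 = 1 ∧ N T v 2 1 = 1) ∨ (N T v 1 2 = 1 ∧ N T v 2 1 = 2) ∨ (N T v 1 2 = 2 ∧ N T v 2 1 = 1) ∨ (N T v 1 2 = 1 ∧ N T v 2 1 = 3) ∨ (N T v 1 2 = 3 ∧ N T v 2 1 = 1) at d12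
      rw [← hx12, ← hx21] at d12
      rcases d12 with ⟨rfl, rfl⟩ | ⟨rfl, rfl⟩ | ⟨rfl, rfl⟩ | ⟨rfl, rfl⟩ | ⟨rfl, rfl⟩ | ⟨rfl, rfl⟩
      · -- 12=(0,0)
        have d03 := two_pair T (by norm_num : 2 < 4) ((pairEmb 0 3 (by decide)).trans v) (fun _ => hv _)
        change (N T v 0 3 = 0 ∧ N T v 3 0 = 0) ∨ (N T v 0 3 = 1 ∧ N T v 3 0 = 1) ∨ (N T v 0 3 = 1 ∧ N T v 3 0 = 2) ∨ (N T v 0 3 = 2 ∧ N T v 3 0 = 1) ∨ (N T v 0 3 = 1 ∧ N T v 3 0 = 3) ∨ (N T v 0 3 = 3 ∧ N T v 3 0 = 1) at d03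
        rw [← hx03, ← hx30] at d03
        rcases d03 with ⟨rfl, rfl⟩ | ⟨rfl, rfl⟩ | ⟨rfl, rfl⟩ | ⟨rfl, rfl⟩ | ⟨rfl, rfl⟩ | ⟨rfl, rfl⟩
        · -- 03=(0,0)
          have d13 := two_pair T (by norm_num : 2 < 4) ((pairEmb 1 3 (by decide)).trans v) (fun _ => hv _)
          change (N T v 1 3 = 0 ∧ N T v 3 1 = 0) ∨ (N T v 1 3 = 1 ∧ N T v 3 1 = 1) ∨ (N T v 1 3 = 1 ∧ N T v 3 1 = 2) ∨ (N T v 1 3 = 2 ∧ N T v 3 1 = 1) ∨ (N T v 1 3 = 1 ∧ N T v 3 1 = 3) ∨ (N T v 1 3 = 3 ∧ N T v 3 1 = 1) at d13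
          rw [← hx13, ← hx31] at d13
          rcases d13 with ⟨rfl, rfl⟩ | ⟨rfl, rfl⟩ | ⟨rfl, rfl⟩ | ⟨rfl, rfl⟩ | ⟨rfl, rfl⟩ | ⟨rfl, rfl⟩
          · -- 13=(0,0)
            have d23 := two_pair T (by norm_num : 2 < 4) ((pairEmb 2 3 (by decide)).trans v) (fun _ => hv _)
            change (N T v 2 3 = 0 ∧ N T v 3 2 = 0) ∨ (N T v 2 3 = 1 ∧ N T v 3 2 = 1) ∨ (N T v 2 3 = 1 ∧ N T v 3 2 = 2) ∨ (N T v 2 3 = 2 ∧ N T v 3 2 = 1) ∨ (N T v 2 3 = 1 ∧ N T v 3 2 = 3) ∨ (N T v 2 3 = 3 ∧ N T v 3 2 = 1) at d23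
            rw [← hx23, ← hx32] at d23
            rcases d23 with ⟨rfl, rfl⟩ | ⟨rfl, rfl⟩ | ⟨rfl, rfl⟩ | ⟨rfl, rfl⟩ | ⟨rfl, rfl⟩ | ⟨rfl, rfl⟩
            · -- 23=(0,0)
              exfalso; omega
            · -- 23=(1,1)
              exact False.elim (cert_false T ((skipEmb 1).trans v) (by norm_num) (fun _ => hv _) (((((LB_zero T ((skipEmb 1).trans v)).upd 0 1 3 (le_of_eq hx02)).upd 1 0 1 (le_of_eq hx20)).upd 1 2 1 (le_of_eq hx23)).upd 2 1 1 (le_of_eq hx32)) ![3,2,1] (by decide) (by decide) 0 (by decide))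
            · -- 23=(1,2)
              exact False.elim (cert_false T ((skipEmb 1).trans v) (by norm_num) (fun _ => hv _) (((((LB_zero T ((skipEmb 1).trans v)).upd 0 1 3 (le_of_eq hx02)).upd 1 0 1 (le_of_eq hx20)).upd 1 2 1 (le_of_eq hx23)).upd 2 1 2 (le_of_eq hx32)) ![1,1,1] (by decide) (by decide) 0 (by decide))
            · -- 23=(2,1)
              exact False.elim (cert_false T ((skipEmb 1).trans v) (by norm_num) (fun _ => hv _) (((((LB_zero T ((skipEmb 1).trans v)).upd 0 1 3 (le_of_eq hx02)).upd 1 0 1 (le_of_eq hx20)).upd 1 2 2 (le_of_eq hx23)).upd 2 1 1 (le_of_eq hx32)) ![2,2,1] (by decide) (by decide) 0 (by decide))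
            · -- 23=(1,3)
              exact False.elim (cert_false T ((skipEmb 1).trans v) (by norm_num) (fun _ => hv _) (((((LB_zero T ((skipEmb 1).trans v)).upd 0 1 3 (le_of_eq hx02)).upd 1 0 1 (le_of_eq hx20)).upd 1 2 1 (le_of_eq hx23)).upd 2 1 3 (le_of_eq hx32)) ![1,1,1] (by decide) (by decide) 0 (by decide))
            · -- 23=(3,1)
              exact False.elim (cert_false T ((skipEmb 1).trans v) (by norm_num) (fun _ => hv _) (((((LB_zero T ((skipEmb 1).trans v)).upd 0 1 3 (le_of_eq hx02)).upd 1 0 1 (le_of_eq hx20)).upd 1 2 3 (le_of_eq hx23)).upd 2 1 1 (le_of_eq hx32)) ![1,2,1] (by decide) (by decide) 0 (by decide))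
          · -- 13=(1,1)
            have d23 := two_pair T (by norm_num : 2 < 4) ((pairEmb 2 3 (by decide)).trans v) (fun _ => hv _)
            change (N T v 2 3 = 0 ∧ N T v 3 2 = 0) ∨ (N T v 2 3 = 1 ∧ N T v 3 2 = 1) ∨ (N T v 2 3 = 1 ∧ N T v 3 2 = 2) ∨ (N T v 2 3 = 2 ∧ N T v 3 2 = 1) ∨ (N T v 2 3 = 1 ∧ N T v 3 2 = 3) ∨ (N T v 2 3 = 3 ∧ N T v 3 2 = 1) at d23
            rw [← hx23, ← hx32] at d23
            rcases d23 with ⟨rfl, rfl⟩ | ⟨rfl, rfl⟩ | ⟨rfl, rfl⟩ | ⟨rfl, rfl⟩ | ⟨rfl, rfl⟩ | ⟨rfl, rfl⟩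
            · -- 23=(0,0)
              exfalso; omega
            · -- 23=(1,1)
              exact False.elim (cert_false T ((skipEmb 1).trans v) (by norm_num) (fun _ => hv _) (((((LB_zero T ((skipEmb 1).trans v)).upd 0 1 3 (le_of_eq hx02)).upd 1 0 1 (le_of_eq hx20)).upd 1 2 1 (le_of_eq hx23)).upd 2 1 1 (le_of_eq hx32)) ![3,2,1] (by decide) (by decide) 0 (by decide))
            · -- 23=(1,2)
              exact False.elim (cert_false T ((skipEmb 1).trans v) (by norm_num) (fun _ => hv _) (((((LB_zero T ((skipEmb 1).trans v)).upd 0 1 3 (le_of_eq hx02)).upd 1 0 1 (le_of_eq hx20)).upd 1 2 1 (le_of_eq hx23)).upd 2 1 2 (le_of_eq hx32)) ![1,1,1] (by decide) (by decide) 0 (by decide))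
            · -- 23=(2,1)
              exact False.elim (cert_false T ((skipEmb 1).trans v) (by norm_num) (fun _ => hv _) (((((LB_zero T ((skipEmb 1).trans v)).upd 0 1 3 (le_of_eq hx02)).upd 1 0 1 (le_of_eq hx20)).upd 1 2 2 (le_of_eq hx23)).upd 2 1 1 (le_of_eq hx32)) ![2,2,1] (by decide) (by decide) 0 (by decide))
            · -- 23=(1,3)
              exact False.elim (cert_false T ((skipEmb 1).trans v) (by norm_num) (fun _ => hv _) (((((LB_zero T ((skipEmb 1).trans v)).upd 0 1 3 (le_of_eq hx02)).upd 1 0 1 (le_of_eq hx20)).upd 1 2 1 (le_of_eq hx23)).upd 2 1 3 (le_of_eq hx32)) ![1,1,1] (by decide) (by decide) 0 (by decide))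
            · -- 23=(3,1)
              exact False.elim (cert_false T ((skipEmb 1).trans v) (by norm_num) (fun _ => hv _) (((((LB_zero T ((skipEmb 1).trans v)).upd 0 1 3 (le_of_eq hx02)).upd 1 0 1 (le_of_eq hx20)).upd 1 2 3 (le_of_eq hx23)).upd 2 1 1 (le_of_eq hx32)) ![1,2,1] (by decide) (by decide) 0 (by decide))
          · -- 13=(1,2)
            have d23 := two_pair T (by norm_num : 2 < 4) ((pairEmb 2 3 (by decide)).trans v) (fun _ => hv _)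
            change (N T v 2 3 = 0 ∧ N T v 3 2 = 0) ∨ (N T v 2 3 = 1 ∧ N T v 3 2 = 1) ∨ (N T v 2 3 = 1 ∧ N T v 3 2 = 2) ∨ (N T v 2 3 = 2 ∧ N T v 3 2 = 1) ∨ (N T v 2 3 = 1 ∧ N T v 3 2 = 3) ∨ (N T v 2 3 = 3 ∧ N T v 3 2 = 1) at d23
            rw [← hx23, ← hx32] at d23
            rcases d23 with ⟨rfl, rfl⟩ | ⟨rfl, rfl⟩ | ⟨rfl, rfl⟩ | ⟨rfl, rfl⟩ | ⟨rfl, rfl⟩ | ⟨rfl, rfl⟩
            · -- 23=(0,0)
              exfalso; omega
            · -- 23=(1,1)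
              exact False.elim (cert_false T ((skipEmb 1).trans v) (by norm_num) (fun _ => hv _) (((((LB_zero T ((skipEmb 1).trans v)).upd 0 1 3 (le_of_eq hx02)).upd 1 0 1 (le_of_eq hx20)).upd 1 2 1 (le_of_eq hx23)).upd 2 1 1 (le_of_eq hx32)) ![3,2,1] (by decide) (by decide) 0 (by decide))
            · -- 23=(1,2)
              exact False.elim (cert_false T ((skipEmb 1).trans v) (by norm_num) (fun _ => hv _) (((((LB_zero T ((skipEmb 1).trans v)).upd 0 1 3 (le_of_eq hx02)).upd 1 0 1 (le_of_eq hx20)).upd 1 2 1 (le_of_eq hx23)).upd 2 1 2 (le_of_eq hx32)) ![1,1,1] (by decide) (by decide) 0 (by decide))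
            · -- 23=(2,1)
              exact False.elim (cert_false T ((skipEmb 1).trans v) (by norm_num) (fun _ => hv _) (((((LB_zero T ((skipEmb 1).trans v)).upd 0 1 3 (le_of_eq hx02)).upd 1 0 1 (le_of_eq hx20)).upd 1 2 2 (le_of_eq hx23)).upd 2 1 1 (le_of_eq hx32)) ![2,2,1] (by decide) (by decide) 0 (by decide))
            · -- 23=(1,3)
              exact False.elim (cert_false T ((skipEmb 1).trans v) (by norm_num) (fun _ => hv _) (((((LB_zero T ((skipEmb 1).trans v)).upd 0 1 3 (le_of_eq hx02)).upd 1 0 1 (le_of_eq hx20)).upd 1 2 1 (le_of_eq hx23)).upd 2 1 3 (le_of_eq hx32)) ![1,1,1] (by decide) (by decide) 0 (by decide))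
            · -- 23=(3,1)
              exact False.elim (cert_false T ((skipEmb 1).trans v) (by norm_num) (fun _ => hv _) (((((LB_zero T ((skipEmb 1).trans v)).upd 0 1 3 (le_of_eq hx02)).upd 1 0 1 (le_of_eq hx20)).upd 1 2 3 (le_of_eq hx23)).upd 2 1 1 (le_of_eq hx32)) ![1,2,1] (by decide) (by decide) 0 (by decide))
          · -- 13=(2,1)
            have d23 := two_pair T (by norm_num : 2 < 4) ((pairEmb 2 3 (by decide)).trans v) (fun _ => hv _)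
            change (N T v 2 3 = 0 ∧ N T v 3 2 = 0) ∨ (N T v 2 3 = 1 ∧ N T v 3 2 = 1) ∨ (N T v 2 3 = 1 ∧ N T v 3 2 = 2) ∨ (N T v 2 3 = 2 ∧ N T v 3 2 = 1) ∨ (N T v 2 3 = 1 ∧ N T v 3 2 = 3) ∨ (N T v 2 3 = 3 ∧ N T v 3 2 = 1) at d23
            rw [← hx23, ← hx32] at d23
            rcases d23 with ⟨rfl, rfl⟩ | ⟨rfl, rfl⟩ | ⟨rfl, rfl⟩ | ⟨rfl, rfl⟩ | ⟨rfl, rfl⟩ | ⟨rfl, rfl⟩
            · -- 23=(0,0)
              exfalso; omega
            · -- 23=(1,1)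
              exact False.elim (cert_false T ((skipEmb 1).trans v) (by norm_num) (fun _ => hv _) (((((LB_zero T ((skipEmb 1).trans v)).upd 0 1 3 (le_of_eq hx02)).upd 1 0 1 (le_of_eq hx20)).upd 1 2 1 (le_of_eq hx23)).upd 2 1 1 (le_of_eq hx32)) ![3,2,1] (by decide) (by decide) 0 (by decide))
            · -- 23=(1,2)
              exact False.elim (cert_false T ((skipEmb 1).trans v) (by norm_num) (fun _ => hv _) (((((LB_zero T ((skipEmb 1).trans v)).upd 0 1 3 (le_of_eq hx02)).upd 1 0 1 (le_of_eq hx20)).upd 1 2 1 (le_of_eq hx23)).upd 2 1 2 (le_of_eq hx32)) ![1,1,1] (by decide) (by decide) 0 (by decide))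
            · -- 23=(2,1)
              exact False.elim (cert_false T ((skipEmb 1).trans v) (by norm_num) (fun _ => hv _) (((((LB_zero T ((skipEmb 1).trans v)).upd 0 1 3 (le_of_eq hx02)).upd 1 0 1 (le_of_eq hx20)).upd 1 2 2 (le_of_eq hx23)).upd 2 1 1 (le_of_eq hx32)) ![2,2,1] (by decide) (by decide) 0 (by decide))
            · -- 23=(1,3)
              exact False.elim (cert_false T ((skipEmb 1).trans v) (by norm_num) (fun _ => hv _) (((((LB_zero T ((skipEmb 1).trans v)).upd 0 1 3 (le_of_eq hx02)).upd 1 0 1 (le_of_eq hx20)).upd 1 2 1 (le_of_eq hx23)).upd 2 1 3 (le_of_eq hx32)) ![1,1,1] (by decide) (by decide) 0 (by decide))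
            · -- 23=(3,1)
              exact False.elim (cert_false T ((skipEmb 1).trans v) (by norm_num) (fun _ => hv _) (((((LB_zero T ((skipEmb 1).trans v)).upd 0 1 3 (le_of_eq hx02)).upd 1 0 1 (le_of_eq hx20)).upd 1 2 3 (le_of_eq hx23)).upd 2 1 1 (le_of_eq hx32)) ![1,2,1] (by decide) (by decide) 0 (by decide))
          · -- 13=(1,3)
            have d23 := two_pair T (by norm_num : 2 < 4) ((pairEmb 2 3 (by decide)).trans v) (fun _ => hv _)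
            change (N T v 2 3 = 0 ∧ N T v 3 2 = 0) ∨ (N T v 2 3 = 1 ∧ N T v 3 2 = 1) ∨ (N T v 2 3 = 1 ∧ N T v 3 2 = 2) ∨ (N T v 2 3 = 2 ∧ N T v 3 2 = 1) ∨ (N T v 2 3 = 1 ∧ N T v 3 2 = 3) ∨ (N T v 2 3 = 3 ∧ N T v 3 2 = 1) at d23
            rw [← hx23, ← hx32] at d23
            rcases d23 with ⟨rfl, rfl⟩ | ⟨rfl, rfl⟩ | ⟨rfl, rfl⟩ | ⟨rfl, rfl⟩ | ⟨rfl, rfl⟩ | ⟨rfl, rfl⟩
            · -- 23=(0,0)
              exfalso; omega
            · -- 23=(1,1)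
              exact False.elim (cert_false T ((skipEmb 1).trans v) (by norm_num) (fun _ => hv _) (((((LB_zero T ((skipEmb 1).trans v)).upd 0 1 3 (le_of_eq hx02)).upd 1 0 1 (le_of_eq hx20)).upd 1 2 1 (le_of_eq hx23)).upd 2 1 1 (le_of_eq hx32)) ![3,2,1] (by decide) (by decide) 0 (by decide))
            · -- 23=(1,2)
              exact False.elim (cert_false T ((skipEmb 1).trans v) (by norm_num) (fun _ => hv _) (((((LB_zero T ((skipEmb 1).trans v)).upd 0 1 3 (le_of_eq hx02)).upd 1 0 1 (le_of_eq hx20)).upd 1 2 1 (le_of_eq hx23)).upd 2 1 2 (le_of_eq hx32)) ![1,1,1] (by decide) (by decide) 0 (by decide))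
            · -- 23=(2,1)
              exact False.elim (cert_false T ((skipEmb 1).trans v) (by norm_num) (fun _ => hv _) (((((LB_zero T ((skipEmb 1).trans v)).upd 0 1 3 (le_of_eq hx02)).upd 1 0 1 (le_of_eq hx20)).upd 1 2 2 (le_of_eq hx23)).upd 2 1 1 (le_of_eq hx32)) ![2,2,1] (by decide) (by decide) 0 (by decide))
            · -- 23=(1,3)
              exact False.elim (cert_false T ((skipEmb 1).trans v) (by norm_num) (fun _ => hv _) (((((LB_zero T ((skipEmb 1).trans v)).upd 0 1 3 (le_of_eq hx02)).upd 1 0 1 (le_of_eq hx20)).upd 1 2 1 (le_of_eq hx23)).upd 2 1 3 (le_of_eq hx32)) ![1,1,1] (by decide) (by decide) 0 (by decide))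
            · -- 23=(3,1)
              exact False.elim (cert_false T ((skipEmb 1).trans v) (by norm_num) (fun _ => hv _) (((((LB_zero T ((skipEmb 1).trans v)).upd 0 1 3 (le_of_eq hx02)).upd 1 0 1 (le_of_eq hx20)).upd 1 2 3 (le_of_eq hx23)).upd 2 1 1 (le_of_eq hx32)) ![1,2,1] (by decide) (by decide) 0 (by decide))
          · -- 13=(3,1)
            have d23 := two_pair T (by norm_num : 2 < 4) ((pairEmb 2 3 (by decide)).trans v) (fun _ => hv _)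
            change (N T v 2 3 = 0 ∧ N T v 3 2 = 0) ∨ (N T v 2 3 = 1 ∧ N T v 3 2 = 1) ∨ (N T v 2 3 = 1 ∧ N T v 3 2 = 2) ∨ (N T v 2 3 = 2 ∧ N T v 3 2 = 1) ∨ (N T v 2 3 = 1 ∧ N T v 3 2 = 3) ∨ (N T v 2 3 = 3 ∧ N T v 3 2 = 1) at d23
            rw [← hx23, ← hx32] at d23
            rcases d23 with ⟨rfl, rfl⟩ | ⟨rfl, rfl⟩ | ⟨rfl, rfl⟩ | ⟨rfl, rfl⟩ | ⟨rfl, rfl⟩ | ⟨rfl, rfl⟩
            · -- 23=(0,0)
              exfalso; omega
            · -- 23=(1,1)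
              exact False.elim (cert_false T ((skipEmb 1).trans v) (by norm_num) (fun _ => hv _) (((((LB_zero T ((skipEmb 1).trans v)).upd 0 1 3 (le_of_eq hx02)).upd 1 0 1 (le_of_eq hx20)).upd 1 2 1 (le_of_eq hx23)).upd 2 1 1 (le_of_eq hx32)) ![3,2,1] (by decide) (by decide) 0 (by decide))
            · -- 23=(1,2)
              exact False.elim (cert_false T ((skipEmb 1).trans v) (by norm_num) (fun _ => hv _) (((((LB_zero T ((skipEmb 1).trans v)).upd 0 1 3 (le_of_eq hx02)).upd 1 0 1 (le_of_eq hx20)).upd 1 2 1 (le_of_eq hx23)).upd 2 1 2 (le_of_eq hx32)) ![1,1,1] (by decide) (by decide) 0 (by decide))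
            · -- 23=(2,1)
              exact False.elim (cert_false T ((skipEmb 1).trans v) (by norm_num) (fun _ => hv _) (((((LB_zero T ((skipEmb 1).trans v)).upd 0 1 3 (le_of_eq hx02)).upd 1 0 1 (le_of_eq hx20)).upd 1 2 2 (le_of_eq hx23)).upd 2 1 1 (le_of_eq hx32)) ![2,2,1] (by decide) (by decide) 0 (by decide))
            · -- 23=(1,3)
              exact False.elim (cert_false T ((skipEmb 1).trans v) (by norm_num) (fun _ => hv _) (((((LB_zero T ((skipEmb 1).trans v)).upd 0 1 3 (le_of_eq hx02)).upd 1 0 1 (le_of_eq hx20)).upd 1 2 1 (le_of_eq hx23)).upd 2 1 3 (le_of_eq hx32)) ![1,1,1] (by decide) (by decide) 0 (by decide))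
            · -- 23=(3,1)
              exact False.elim (cert_false T ((skipEmb 1).trans v) (by norm_num) (fun _ => hv _) (((((LB_zero T ((skipEmb 1).trans v)).upd 0 1 3 (le_of_eq hx02)).upd 1 0 1 (le_of_eq hx20)).upd 1 2 3 (le_of_eq hx23)).upd 2 1 1 (le_of_eq hx32)) ![1,2,1] (by decide) (by decide) 0 (by decide))
        · -- 03=(1,1)
          exact False.elim (cert_false T ((skipEmb 1).trans v) (by norm_num) (fun _ => hv _) (((((LB_zero T ((skipEmb 1).trans v)).upd 0 1 3 (le_of_eq hx02)).upd 0 2 1 (le_of_eq hx03)).upd 1 0 1 (le_of_eq hx20)).upd 2 0 1 (le_of_eq hx30)) ![2,1,1] (by decide) (by decide) 0 (by decide))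
        · -- 03=(1,2)
          exact False.elim (cert_false T ((skipEmb 1).trans v) (by norm_num) (fun _ => hv _) (((((LB_zero T ((skipEmb 1).trans v)).upd 0 1 3 (le_of_eq hx02)).upd 0 2 1 (le_of_eq hx03)).upd 1 0 1 (le_of_eq hx20)).upd 2 0 2 (le_of_eq hx30)) ![2,1,1] (by decide) (by decide) 0 (by decide))
        · -- 03=(2,1)
          exact False.elim (cert_false T ((skipEmb 1).trans v) (by norm_num) (fun _ => hv _) (((((LB_zero T ((skipEmb 1).trans v)).upd 0 1 3 (le_of_eq hx02)).upd 0 2 2 (le_of_eq hx03)).upd 1 0 1 (le_of_eq hx20)).upd 2 0 1 (le_of_eq hx30)) ![2,1,1] (by decide) (by decide) 0 (by decide))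
        · -- 03=(1,3)
          exact False.elim (cert_false T ((skipEmb 1).trans v) (by norm_num) (fun _ => hv _) (((((LB_zero T ((skipEmb 1).trans v)).upd 0 1 3 (le_of_eq hx02)).upd 0 2 1 (le_of_eq hx03)).upd 1 0 1 (le_of_eq hx20)).upd 2 0 3 (le_of_eq hx30)) ![2,1,1] (by decide) (by decide) 0 (by decide))
        · -- 03=(3,1)
          exact False.elim (cert_false T ((skipEmb 1).trans v) (by norm_num) (fun _ => hv _) (((((LB_zero T ((skipEmb 1).trans v)).upd 0 1 3 (le_of_eq hx02)).upd 0 2 3 (le_of_eq hx03)).upd 1 0 1 (le_of_eq hx20)).upd 2 0 1 (le_of_eq hx30)) ![2,1,1] (by decide) (by decide) 0 (by decide))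
      · -- 12=(1,1)
        exact False.elim (cert_false T ((skipEmb 3).trans v) (by norm_num) (fun _ => hv _) (((((LB_zero T ((skipEmb 3).trans v)).upd 0 2 3 (le_of_eq hx02)).upd 1 2 1 (le_of_eq hx12)).upd 2 0 1 (le_of_eq hx20)).upd 2 1 1 (le_of_eq hx21)) ![3,1,2] (by decide) (by decide) 0 (by decide))
      · -- 12=(1,2)
        exact False.elim (cert_false T ((skipEmb 3).trans v) (by norm_num) (fun _ => hv _) (((((LB_zero T ((skipEmb 3).trans v)).upd 0 2 3 (le_of_eq hx02)).upd 1 2 1 (le_of_eq hx12)).upd 2 0 1 (le_of_eq hx20)).upd 2 1 2 (le_of_eq hx21)) ![2,1,2] (by decide) (by decide) 0 (by decide))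
      · -- 12=(2,1)
        exact False.elim (cert_false T ((skipEmb 3).trans v) (by norm_num) (fun _ => hv _) (((((LB_zero T ((skipEmb 3).trans v)).upd 0 2 3 (le_of_eq hx02)).upd 1 2 2 (le_of_eq hx12)).upd 2 0 1 (le_of_eq hx20)).upd 2 1 1 (le_of_eq hx21)) ![1,1,1] (by decide) (by decide) 0 (by decide))
      · -- 12=(1,3)
        exact False.elim (cert_false T ((skipEmb 3).trans v) (by norm_num) (fun _ => hv _) (((((LB_zero T ((skipEmb 3).trans v)).upd 0 2 3 (le_of_eq hx02)).upd 1 2 1 (le_of_eq hx12)).upd 2 0 1 (le_of_eq hx20)).upd 2 1 3 (le_of_eq hx21)) ![1,1,2] (by decide) (by decide) 0 (by decide))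
      · -- 12=(3,1)
        exact False.elim (cert_false T ((skipEmb 3).trans v) (by norm_num) (fun _ => hv _) (((((LB_zero T ((skipEmb 3).trans v)).upd 0 2 3 (le_of_eq hx02)).upd 1 2 3 (le_of_eq hx12)).upd 2 0 1 (le_of_eq hx20)).upd 2 1 1 (le_of_eq hx21)) ![1,1,1] (by decide) (by decide) 0 (by decide))
  · -- 01=(1,1)
    have d02 := two_pair T (by norm_num : 2 < 4) ((pairEmb 0 2 (by decide)).trans v) (fun _ => hv _)
    change (N T v 0 2 = 0 ∧ N T v 2 0 = 0) ∨ (N T v 0 2 = 1 ∧ N T v 2 0 = 1) ∨ (N T v 0 2 = 1 ∧ N T v 2 0 = 2) ∨ (N T v 0 2 = 2 ∧ N T v 2 0 = 1) ∨ (N T v 0 2 = 1 ∧ N T v 2 0 = 3) ∨ (N T v 0 2 = 3 ∧ N T v 2 0 = 1) at d02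
    rw [← hx02, ← hx20] at d02
    rcases d02 with ⟨rfl, rfl⟩ | ⟨rfl, rfl⟩ | ⟨rfl, rfl⟩ | ⟨rfl, rfl⟩ | ⟨rfl, rfl⟩ | ⟨rfl, rfl⟩
    · -- 02=(0,0)
      have d12 := two_pair T (by norm_num : 2 < 4) ((pairEmb 1 2 (by decide)).trans v) (fun _ => hv _)
      change (N T v 1 2 = 0 ∧ N T v 2 1 = 0) ∨ (N T v 1 2 = 1 ∧ N T v 2 1 = 1) ∨ (N T v 1 2 = 1 ∧ N T v 2 1 = 2) ∨ (N T v 1 2 = 2 ∧ N T v 2 1 = 1) ∨ (N T v 1 2 = 1 ∧ N T v 2 1 = 3) ∨ (N T v 1 2 = 3 ∧ N T v 2 1 = 1) at d12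
      rw [← hx12, ← hx21] at d12
      rcases d12 with ⟨rfl, rfl⟩ | ⟨rfl, rfl⟩ | ⟨rfl, rfl⟩ | ⟨rfl, rfl⟩ | ⟨rfl, rfl⟩ | ⟨rfl, rfl⟩
      · -- 12=(0,0)
        have d03 := two_pair T (by norm_num : 2 < 4) ((pairEmb 0 3 (by decide)).trans v) (fun _ => hv _)
        change (N T v 0 3 = 0 ∧ N T v 3 0 = 0) ∨ (N T v 0 3 = 1 ∧ N T v 3 0 = 1) ∨ (N T v 0 3 = 1 ∧ N T v 3 0 = 2) ∨ (N T v 0 3 = 2 ∧ N T v 3 0 = 1) ∨ (N T v 0 3 = 1 ∧ N T v 3 0 = 3) ∨ (N T v 0 3 = 3 ∧ N T v 3 0 = 1) at d03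
        rw [← hx03, ← hx30] at d03
        rcases d03 with ⟨rfl, rfl⟩ | ⟨rfl, rfl⟩ | ⟨rfl, rfl⟩ | ⟨rfl, rfl⟩ | ⟨rfl, rfl⟩ | ⟨rfl, rfl⟩
        · -- 03=(0,0)
          have d13 := two_pair T (by norm_num : 2 < 4) ((pairEmb 1 3 (by decide)).trans v) (fun _ => hv _)
          change (N T v 1 3 = 0 ∧ N T v 3 1 = 0) ∨ (N T v 1 3 = 1 ∧ N T v 3 1 = 1) ∨ (N T v 1 3 = 1 ∧ N T v 3 1 = 2) ∨ (N T v 1 3 = 2 ∧ N T v 3 1 = 1) ∨ (N T v 1 3 = 1 ∧ N T v 3 1 = 3) ∨ (N T v 1 3 = 3 ∧ N T v 3 1 = 1) at d13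
          rw [← hx13, ← hx31] at d13
          rcases d13 with ⟨rfl, rfl⟩ | ⟨rfl, rfl⟩ | ⟨rfl, rfl⟩ | ⟨rfl, rfl⟩ | ⟨rfl, rfl⟩ | ⟨rfl, rfl⟩
          · -- 13=(0,0)
            have d23 := two_pair T (by norm_num : 2 < 4) ((pairEmb 2 3 (by decide)).trans v) (fun _ => hv _)
            change (N T v 2 3 = 0 ∧ N T v 3 2 = 0) ∨ (N T v 2 3 = 1 ∧ N T v 3 2 = 1) ∨ (N T v 2 3 = 1 ∧ N T v 3 2 = 2) ∨ (N T v 2 3 = 2 ∧ N T v 3 2 = 1) ∨ (N T v 2 3 = 1 ∧ N T v 3 2 = 3) ∨ (N T v 2 3 = 3 ∧ N T v 3 2 = 1) at d23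
            rw [← hx23, ← hx32] at d23
            rcases d23 with ⟨rfl, rfl⟩ | ⟨rfl, rfl⟩ | ⟨rfl, rfl⟩ | ⟨rfl, rfl⟩ | ⟨rfl, rfl⟩ | ⟨rfl, rfl⟩
            · -- 23=(0,0)
              exfalso; omega
            · -- 23=(1,1)
              exfalso; omega
            · -- 23=(1,2)
              exfalso; omega
            · -- 23=(2,1)
              exfalso; omega
            · -- 23=(1,3)
              exfalso; omega
            · -- 23=(3,1)
              exfalso; omega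
          · -- 13=(1,1)
            have d23 := two_pair T (by norm_num : 2 < 4) ((pairEmb 2 3 (by decide)).trans v) (fun _ => hv _)
            change (N T v 2 3 = 0 ∧ N T v 3 2 = 0) ∨ (N T v 2 3 = 1 ∧ N T v 3 2 = 1) ∨ (N T v 2 3 = 1 ∧ N T v 3 2 = 2) ∨ (N T v 2 3 = 2 ∧ N T v 3 2 = 1) ∨ (N T v 2 3 = 1 ∧ N T v 3 2 = 3) ∨ (N T v 2 3 = 3 ∧ N T v 3 2 = 1) at d23
            rw [← hx23, ← hx32] at d23
            rcases d23 with ⟨rfl, rfl⟩ | ⟨rfl, rfl⟩ | ⟨rfl, rfl⟩ | ⟨rfl, rfl⟩ | ⟨rfl, rfl⟩ | ⟨rfl, rfl⟩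
            · -- 23=(0,0)
              exfalso; omega
            · -- 23=(1,1)
              exfalso; omega
            · -- 23=(1,2)
              exfalso; omega
            · -- 23=(2,1)
              exfalso; omega
            · -- 23=(1,3)
              exact False.elim (cert_false T ((skipEmb 0).trans v) (by norm_num) (fun _ => hv _) (((((LB_zero T ((skipEmb 0).trans v)).upd 0 2 1 (le_of_eq hx13)).upd 1 2 1 (le_of_eq hx23)).upd 2 0 1 (le_of_eq hx31)).upd 2 1 3 (le_of_eq hx32)) ![1,1,2] (by decide) (by decide) 0 (by decide))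
            · -- 23=(3,1)
              exact False.elim (cert_false T ((skipEmb 0).trans v) (by norm_num) (fun _ => hv _) (((((LB_zero T ((skipEmb 0).trans v)).upd 0 2 1 (le_of_eq hx13)).upd 1 2 3 (le_of_eq hx23)).upd 2 0 1 (le_of_eq hx31)).upd 2 1 1 (le_of_eq hx32)) ![1,3,2] (by decide) (by decide) 0 (by decide))
          · -- 13=(1,2)
            have d23 := two_pair T (by norm_num : 2 < 4) ((pairEmb 2 3 (by decide)).trans v) (fun _ => hv _)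
            change (N T v 2 3 = 0 ∧ N T v 3 2 = 0) ∨ (N T v 2 3 = 1 ∧ N T v 3 2 = 1) ∨ (N T v 2 3 = 1 ∧ N T v 3 2 = 2) ∨ (N T v 2 3 = 2 ∧ N T v 3 2 = 1) ∨ (N T v 2 3 = 1 ∧ N T v 3 2 = 3) ∨ (N T v 2 3 = 3 ∧ N T v 3 2 = 1) at d23
            rw [← hx23, ← hx32] at d23
            rcases d23 with ⟨rfl, rfl⟩ | ⟨rfl, rfl⟩ | ⟨rfl, rfl⟩ | ⟨rfl, rfl⟩ | ⟨rfl, rfl⟩ | ⟨rfl, rfl⟩
            · -- 23=(0,0)
              exfalso; omega
            · -- 23=(1,1)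
              exfalso; omega
            · -- 23=(1,2)
              exact False.elim (cert_false T ((skipEmb 0).trans v) (by norm_num) (fun _ => hv _) (((((LB_zero T ((skipEmb 0).trans v)).upd 0 2 1 (le_of_eq hx13)).upd 1 2 1 (le_of_eq hx23)).upd 2 0 2 (le_of_eq hx31)).upd 2 1 2 (le_of_eq hx32)) ![1,1,2] (by decide) (by decide) 0 (by decide))
            · -- 23=(2,1)
              exact False.elim (cert_false T ((skipEmb 0).trans v) (by norm_num) (fun _ => hv _) (((((LB_zero T ((skipEmb 0).trans v)).upd 0 2 1 (le_of_eq hx13)).upd 1 2 2 (le_of_eq hx23)).upd 2 0 2 (le_of_eq hx31)).upd 2 1 1 (le_of_eq hx32)) ![1,2,2] (by decide) (by decide) 0 (by decide))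
            · -- 23=(1,3)
              exact False.elim (cert_false T ((skipEmb 0).trans v) (by norm_num) (fun _ => hv _) (((((LB_zero T ((skipEmb 0).trans v)).upd 0 2 1 (le_of_eq hx13)).upd 1 2 1 (le_of_eq hx23)).upd 2 0 2 (le_of_eq hx31)).upd 2 1 3 (le_of_eq hx32)) ![1,1,2] (by decide) (by decide) 0 (by decide))
            · -- 23=(3,1)
              exact False.elim (cert_false T ((skipEmb 0).trans v) (by norm_num) (fun _ => hv _) (((((LB_zero T ((skipEmb 0).trans v)).upd 0 2 1 (le_of_eq hx13)).upd 1 2 3 (le_of_eq hx23)).upd 2 0 2 (le_of_eq hx31)).upd 2 1 1 (le_of_eq hx32)) ![1,2,2] (by decide) (by decide) 0 (by decide))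
          · -- 13=(2,1)
            have d23 := two_pair T (by norm_num : 2 < 4) ((pairEmb 2 3 (by decide)).trans v) (fun _ => hv _)
            change (N T v 2 3 = 0 ∧ N T v 3 2 = 0) ∨ (N T v 2 3 = 1 ∧ N T v 3 2 = 1) ∨ (N T v 2 3 = 1 ∧ N T v 3 2 = 2) ∨ (N T v 2 3 = 2 ∧ N T v 3 2 = 1) ∨ (N T v 2 3 = 1 ∧ N T v 3 2 = 3) ∨ (N T v 2 3 = 3 ∧ N T v 3 2 = 1) at d23
            rw [← hx23, ← hx32] at d23
            rcases d23 with ⟨rfl, rfl⟩ | ⟨rfl, rfl⟩ | ⟨rfl, rfl⟩ | ⟨rfl, rfl⟩ | ⟨rfl, rfl⟩ | ⟨rfl, rfl⟩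
            · -- 23=(0,0)
              exfalso; omega
            · -- 23=(1,1)
              exfalso; omega
            · -- 23=(1,2)
              exact False.elim (cert_false T ((skipEmb 0).trans v) (by norm_num) (fun _ => hv _) (((((LB_zero T ((skipEmb 0).trans v)).upd 0 2 2 (le_of_eq hx13)).upd 1 2 1 (le_of_eq hx23)).upd 2 0 1 (le_of_eq hx31)).upd 2 1 2 (le_of_eq hx32)) ![2,1,2] (by decide) (by decide) 0 (by decide))
            · -- 23=(2,1)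
              exact False.elim (cert_false T ((skipEmb 0).trans v) (by norm_num) (fun _ => hv _) (((((LB_zero T ((skipEmb 0).trans v)).upd 0 2 2 (le_of_eq hx13)).upd 1 2 2 (le_of_eq hx23)).upd 2 0 1 (le_of_eq hx31)).upd 2 1 1 (le_of_eq hx32)) ![1,1,1] (by decide) (by decide) 0 (by decide))
            · -- 23=(1,3)
              exact False.elim (cert_false T ((skipEmb 0).trans v) (by norm_num) (fun _ => hv _) (((((LB_zero T ((skipEmb 0).trans v)).upd 0 2 2 (le_of_eq hx13)).upd 1 2 1 (le_of_eq hx23)).upd 2 0 1 (le_of_eq hx31)).upd 2 1 3 (le_of_eq hx32)) ![1,1,2] (by decide) (by decide) 0 (by decide))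
            · -- 23=(3,1)
              exact False.elim (cert_false T ((skipEmb 0).trans v) (by norm_num) (fun _ => hv _) (((((LB_zero T ((skipEmb 0).trans v)).upd 0 2 2 (le_of_eq hx13)).upd 1 2 3 (le_of_eq hx23)).upd 2 0 1 (le_of_eq hx31)).upd 2 1 1 (le_of_eq hx32)) ![1,1,1] (by decide) (by decide) 0 (by decide))
          · -- 13=(1,3)
            exact False.elim (cert_false T ((skipEmb 2).trans v) (by norm_num) (fun _ => hv _) (((((LB_zero T ((skipEmb 2).trans v)).upd 0 1 1 (le_of_eq hx01)).upd 1 0 1 (le_of_eq hx10)).upd 1 2 1 (le_of_eq hx13)).upd 2 1 3 (le_of_eq hx31)) ![1,2,3] (by decide) (by decide) 0 (by decide))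
          · -- 13=(3,1)
            exact False.elim (cert_false T ((skipEmb 2).trans v) (by norm_num) (fun _ => hv _) (((((LB_zero T ((skipEmb 2).trans v)).upd 0 1 1 (le_of_eq hx01)).upd 1 0 1 (le_of_eq hx10)).upd 1 2 3 (le_of_eq hx13)).upd 2 1 1 (le_of_eq hx31)) ![1,2,1] (by decide) (by decide) 0 (by decide))
        · -- 03=(1,1)
          have d13 := two_pair T (by norm_num : 2 < 4) ((pairEmb 1 3 (by decide)).trans v) (fun _ => hv _)
          change (N T v 1 3 = 0 ∧ N T v 3 1 = 0) ∨ (N T v 1 3 = 1 ∧ N T v 3 1 = 1) ∨ (N T v 1 3 = 1 ∧ N T v 3 1 = 2) ∨ (N T v 1 3 = 2 ∧ N T v 3 1 = 1) ∨ (N T v 1 3 = 1 ∧ N T v 3 1 = 3) ∨ (N T v 1 3 = 3 ∧ N T v 3 1 = 1) at d13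
          rw [← hx13, ← hx31] at d13
          rcases d13 with ⟨rfl, rfl⟩ | ⟨rfl, rfl⟩ | ⟨rfl, rfl⟩ | ⟨rfl, rfl⟩ | ⟨rfl, rfl⟩ | ⟨rfl, rfl⟩
          · -- 13=(0,0)
            have d23 := two_pair T (by norm_num : 2 < 4) ((pairEmb 2 3 (by decide)).trans v) (fun _ => hv _)
            change (N T v 2 3 = 0 ∧ N T v 3 2 = 0) ∨ (N T v 2 3 = 1 ∧ N T v 3 2 = 1) ∨ (N T v 2 3 = 1 ∧ N T v 3 2 = 2) ∨ (N T v 2 3 = 2 ∧ N T v 3 2 = 1) ∨ (N T v 2 3 = 1 ∧ N T v 3 2 = 3) ∨ (N T v 2 3 = 3 ∧ N T v 3 2 = 1) at d23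
            rw [← hx23, ← hx32] at d23
            rcases d23 with ⟨rfl, rfl⟩ | ⟨rfl, rfl⟩ | ⟨rfl, rfl⟩ | ⟨rfl, rfl⟩ | ⟨rfl, rfl⟩ | ⟨rfl, rfl⟩
            · -- 23=(0,0)
              exfalso; omega
            · -- 23=(1,1)
              exfalso; omega
            · -- 23=(1,2)
              exfalso; omega
            · -- 23=(2,1)
              exfalso; omega
            · -- 23=(1,3)
              exact False.elim (cert_false T ((skipEmb 1).trans v) (by norm_num) (fun _ => hv _) (((((LB_zero T ((skipEmb 1).trans v)).upd 0 2 1 (le_of_eq hx03)).upd 1 2 1 (le_of_eq hx23)).upd 2 0 1 (le_of_eq hx30)).upd 2 1 3 (le_of_eq hx32)) ![1,1,2] (by decide) (by decide) 0 (by decide))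
            · -- 23=(3,1)
              exact False.elim (cert_false T ((skipEmb 1).trans v) (by norm_num) (fun _ => hv _) (((((LB_zero T ((skipEmb 1).trans v)).upd 0 2 1 (le_of_eq hx03)).upd 1 2 3 (le_of_eq hx23)).upd 2 0 1 (le_of_eq hx30)).upd 2 1 1 (le_of_eq hx32)) ![1,3,2] (by decide) (by decide) 0 (by decide))
          · -- 13=(1,1)
            exact False.elim (cert_false T ((skipEmb 2).trans v) (by norm_num) (fun _ => hv _) (((((((LB_zero T ((skipEmb 2).trans v)).upd 0 1 1 (le_of_eq hx01)).upd 0 2 1 (le_of_eq hx03)).upd 1 0 1 (le_of_eq hx10)).upd 1 2 1 (le_of_eq hx13)).upd 2 0 1 (le_of_eq hx30)).upd 2 1 1 (le_of_eq hx31)) ![1,1,1] (by decide) (by decide) 0 (by decide))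
          · -- 13=(1,2)
            exact False.elim (cert_false T ((skipEmb 2).trans v) (by norm_num) (fun _ => hv _) (((((((LB_zero T ((skipEmb 2).trans v)).upd 0 1 1 (le_of_eq hx01)).upd 0 2 1 (le_of_eq hx03)).upd 1 0 1 (le_of_eq hx10)).upd 1 2 1 (le_of_eq hx13)).upd 2 0 1 (le_of_eq hx30)).upd 2 1 2 (le_of_eq hx31)) ![1,1,1] (by decide) (by decide) 0 (by decide))
          · -- 13=(2,1)
            exact False.elim (cert_false T ((skipEmb 2).trans v) (by norm_num) (fun _ => hv _) (((((((LB_zero T ((skipEmb 2).trans v)).upd 0 1 1 (le_of_eq hx01)).upd 0 2 1 (le_of_eq hx03)).upd 1 0 1 (le_of_eq hx10)).upd 1 2 2 (le_of_eq hx13)).upd 2 0 1 (le_of_eq hx30)).upd 2 1 1 (le_of_eq hx31)) ![1,1,1] (by decide) (by decide) 0 (by decide))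
          · -- 13=(1,3)
            exact False.elim (cert_false T ((skipEmb 2).trans v) (by norm_num) (fun _ => hv _) (((((((LB_zero T ((skipEmb 2).trans v)).upd 0 1 1 (le_of_eq hx01)).upd 0 2 1 (le_of_eq hx03)).upd 1 0 1 (le_of_eq hx10)).upd 1 2 1 (le_of_eq hx13)).upd 2 0 1 (le_of_eq hx30)).upd 2 1 3 (le_of_eq hx31)) ![1,1,1] (by decide) (by decide) 0 (by decide))
          · -- 13=(3,1)
            exact False.elim (cert_false T ((skipEmb 2).trans v) (by norm_num) (fun _ => hv _) (((((((LB_zero T ((skipEmb 2).trans v)).upd 0 1 1 (le_of_eq hx01)).upd 0 2 1 (le_of_eq hx03)).upd 1 0 1 (le_of_eq hx10)).upd 1 2 3 (le_of_eq hx13)).upd 2 0 1 (le_of_eq hx30)).upd 2 1 1 (le_of_eq hx31)) ![1,1,1] (by decide) (by decide) 0 (by decide))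
        · -- 03=(1,2)
          have d13 := two_pair T (by norm_num : 2 < 4) ((pairEmb 1 3 (by decide)).trans v) (fun _ => hv _)
          change (N T v 1 3 = 0 ∧ N T v 3 1 = 0) ∨ (N T v 1 3 = 1 ∧ N T v 3 1 = 1) ∨ (N T v 1 3 = 1 ∧ N T v 3 1 = 2) ∨ (N T v 1 3 = 2 ∧ N T v 3 1 = 1) ∨ (N T v 1 3 = 1 ∧ N T v 3 1 = 3) ∨ (N T v 1 3 = 3 ∧ N T v 3 1 = 1) at d13
          rw [← hx13, ← hx31] at d13
          rcases d13 with ⟨rfl, rfl⟩ | ⟨rfl, rfl⟩ | ⟨rfl, rfl⟩ | ⟨rfl, rfl⟩ | ⟨rfl, rfl⟩ | ⟨rfl, rfl⟩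
          · -- 13=(0,0)
            have d23 := two_pair T (by norm_num : 2 < 4) ((pairEmb 2 3 (by decide)).trans v) (fun _ => hv _)
            change (N T v 2 3 = 0 ∧ N T v 3 2 = 0) ∨ (N T v 2 3 = 1 ∧ N T v 3 2 = 1) ∨ (N T v 2 3 = 1 ∧ N T v 3 2 = 2) ∨ (N T v 2 3 = 2 ∧ N T v 3 2 = 1) ∨ (N T v 2 3 = 1 ∧ N T v 3 2 = 3) ∨ (N T v 2 3 = 3 ∧ N T v 3 2 = 1) at d23
            rw [← hx23, ← hx32] at d23
            rcases d23 with ⟨rfl, rfl⟩ | ⟨rfl, rfl⟩ | ⟨rfl, rfl⟩ | ⟨rfl, rfl⟩ | ⟨rfl, rfl⟩ | ⟨rfl, rfl⟩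
            · -- 23=(0,0)
              exfalso; omega
            · -- 23=(1,1)
              exfalso; omega
            · -- 23=(1,2)
              exact False.elim (cert_false T ((skipEmb 1).trans v) (by norm_num) (fun _ => hv _) (((((LB_zero T ((skipEmb 1).trans v)).upd 0 2 1 (le_of_eq hx03)).upd 1 2 1 (le_of_eq hx23)).upd 2 0 2 (le_of_eq hx30)).upd 2 1 2 (le_of_eq hx32)) ![1,1,2] (by decide) (by decide) 0 (by decide))
            · -- 23=(2,1)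
              exact False.elim (cert_false T ((skipEmb 1).trans v) (by norm_num) (fun _ => hv _) (((((LB_zero T ((skipEmb 1).trans v)).upd 0 2 1 (le_of_eq hx03)).upd 1 2 2 (le_of_eq hx23)).upd 2 0 2 (le_of_eq hx30)).upd 2 1 1 (le_of_eq hx32)) ![1,2,2] (by decide) (by decide) 0 (by decide))
            · -- 23=(1,3)
              exact False.elim (cert_false T ((skipEmb 1).trans v) (by norm_num) (fun _ => hv _) (((((LB_zero T ((skipEmb 1).trans v)).upd 0 2 1 (le_of_eq hx03)).upd 1 2 1 (le_of_eq hx23)).upd 2 0 2 (le_of_eq hx30)).upd 2 1 3 (le_of_eq hx32)) ![1,1,2] (by decide) (by decide) 0 (by decide))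
            · -- 23=(3,1)
              exact False.elim (cert_false T ((skipEmb 1).trans v) (by norm_num) (fun _ => hv _) (((((LB_zero T ((skipEmb 1).trans v)).upd 0 2 1 (le_of_eq hx03)).upd 1 2 3 (le_of_eq hx23)).upd 2 0 2 (le_of_eq hx30)).upd 2 1 1 (le_of_eq hx32)) ![1,2,2] (by decide) (by decide) 0 (by decide))
          · -- 13=(1,1)
            exact False.elim (cert_false T ((skipEmb 2).trans v) (by norm_num) (fun _ => hv _) (((((((LB_zero T ((skipEmb 2).trans v)).upd 0 1 1 (le_of_eq hx01)).upd 0 2 1 (le_of_eq hx03)).upd 1 0 1 (le_of_eq hx10)).upd 1 2 1 (le_of_eq hx13)).upd 2 0 2 (le_of_eq hx30)).upd 2 1 1 (le_of_eq hx31)) ![1,1,1] (by decide) (by decide) 0 (by decide))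
          · -- 13=(1,2)
            exact False.elim (cert_false T ((skipEmb 2).trans v) (by norm_num) (fun _ => hv _) (((((((LB_zero T ((skipEmb 2).trans v)).upd 0 1 1 (le_of_eq hx01)).upd 0 2 1 (le_of_eq hx03)).upd 1 0 1 (le_of_eq hx10)).upd 1 2 1 (le_of_eq hx13)).upd 2 0 2 (le_of_eq hx30)).upd 2 1 2 (le_of_eq hx31)) ![1,1,1] (by decide) (by decide) 0 (by decide))
          · -- 13=(2,1)
            exact False.elim (cert_false T ((skipEmb 2).trans v) (by norm_num) (fun _ => hv _) (((((((LB_zero T ((skipEmb 2).trans v)).upd 0 1 1 (le_of_eq hx01)).upd 0 2 1 (le_of_eq hx03)).upd 1 0 1 (le_of_eq hx10)).upd 1 2 2 (le_of_eq hx13)).upd 2 0 2 (le_of_eq hx30)).upd 2 1 1 (le_of_eq hx31)) ![1,1,1] (by decide) (by decide) 0 (by decide))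
          · -- 13=(1,3)
            exact False.elim (cert_false T ((skipEmb 2).trans v) (by norm_num) (fun _ => hv _) (((((((LB_zero T ((skipEmb 2).trans v)).upd 0 1 1 (le_of_eq hx01)).upd 0 2 1 (le_of_eq hx03)).upd 1 0 1 (le_of_eq hx10)).upd 1 2 1 (le_of_eq hx13)).upd 2 0 2 (le_of_eq hx30)).upd 2 1 3 (le_of_eq hx31)) ![1,1,1] (by decide) (by decide) 0 (by decide))
          · -- 13=(3,1)
            exact False.elim (cert_false T ((skipEmb 2).trans v) (by norm_num) (fun _ => hv _) (((((((LB_zero T ((skipEmb 2).trans v)).upd 0 1 1 (le_of_eq hx01)).upd 0 2 1 (le_of_eq hx03)).upd 1 0 1 (le_of_eq hx10)).upd 1 2 3 (le_of_eq hx13)).upd 2 0 2 (le_of_eq hx30)).upd 2 1 1 (le_of_eq hx31)) ![1,1,1] (by decide) (by decide) 0 (by decide))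
        · -- 03=(2,1)
          have d13 := two_pair T (by norm_num : 2 < 4) ((pairEmb 1 3 (by decide)).trans v) (fun _ => hv _)
          change (N T v 1 3 = 0 ∧ N T v 3 1 = 0) ∨ (N T v 1 3 = 1 ∧ N T v 3 1 = 1) ∨ (N T v 1 3 = 1 ∧ N T v 3 1 = 2) ∨ (N T v 1 3 = 2 ∧ N T v 3 1 = 1) ∨ (N T v 1 3 = 1 ∧ N T v 3 1 = 3) ∨ (N T v 1 3 = 3 ∧ N T v 3 1 = 1) at d13
          rw [← hx13, ← hx31] at d13
          rcases d13 with ⟨rfl, rfl⟩ | ⟨rfl, rfl⟩ | ⟨rfl, rfl⟩ | ⟨rfl, rfl⟩ | ⟨rfl, rfl⟩ | ⟨rfl, rfl⟩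
          · -- 13=(0,0)
            have d23 := two_pair T (by norm_num : 2 < 4) ((pairEmb 2 3 (by decide)).trans v) (fun _ => hv _)
            change (N T v 2 3 = 0 ∧ N T v 3 2 = 0) ∨ (N T v 2 3 = 1 ∧ N T v 3 2 = 1) ∨ (N T v 2 3 = 1 ∧ N T v 3 2 = 2) ∨ (N T v 2 3 = 2 ∧ N T v 3 2 = 1) ∨ (N T v 2 3 = 1 ∧ N T v 3 2 = 3) ∨ (N T v 2 3 = 3 ∧ N T v 3 2 = 1) at d23
            rw [← hx23, ← hx32] at d23
            rcases d23 with ⟨rfl, rfl⟩ | ⟨rfl, rfl⟩ | ⟨rfl, rfl⟩ | ⟨rfl, rfl⟩ | ⟨rfl, rfl⟩ | ⟨rfl, rfl⟩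
            · -- 23=(0,0)
              exfalso; omega
            · -- 23=(1,1)
              exfalso; omega
            · -- 23=(1,2)
              exact False.elim (cert_false T ((skipEmb 1).trans v) (by norm_num) (fun _ => hv _) (((((LB_zero T ((skipEmb 1).trans v)).upd 0 2 2 (le_of_eq hx03)).upd 1 2 1 (le_of_eq hx23)).upd 2 0 1 (le_of_eq hx30)).upd 2 1 2 (le_of_eq hx32)) ![2,1,2] (by decide) (by decide) 0 (by decide))
            · -- 23=(2,1)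
              exact False.elim (cert_false T ((skipEmb 1).trans v) (by norm_num) (fun _ => hv _) (((((LB_zero T ((skipEmb 1).trans v)).upd 0 2 2 (le_of_eq hx03)).upd 1 2 2 (le_of_eq hx23)).upd 2 0 1 (le_of_eq hx30)).upd 2 1 1 (le_of_eq hx32)) ![1,1,1] (by decide) (by decide) 0 (by decide))
            · -- 23=(1,3)
              exact False.elim (cert_false T ((skipEmb 1).trans v) (by norm_num) (fun _ => hv _) (((((LB_zero T ((skipEmb 1).trans v)).upd 0 2 2 (le_of_eq hx03)).upd 1 2 1 (le_of_eq hx23)).upd 2 0 1 (le_of_eq hx30)).upd 2 1 3 (le_of_eq hx32)) ![1,1,2] (by decide) (by decide) 0 (by decide))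
            · -- 23=(3,1)
              exact False.elim (cert_false T ((skipEmb 1).trans v) (by norm_num) (fun _ => hv _) (((((LB_zero T ((skipEmb 1).trans v)).upd 0 2 2 (le_of_eq hx03)).upd 1 2 3 (le_of_eq hx23)).upd 2 0 1 (le_of_eq hx30)).upd 2 1 1 (le_of_eq hx32)) ![1,1,1] (by decide) (by decide) 0 (by decide))
          · -- 13=(1,1)
            exact False.elim (cert_false T ((skipEmb 2).trans v) (by norm_num) (fun _ => hv _) (((((((LB_zero T ((skipEmb 2).trans v)).upd 0 1 1 (le_of_eq hx01)).upd 0 2 2 (le_of_eq hx03)).upd 1 0 1 (le_of_eq hx10)).upd 1 2 1 (le_of_eq hx13)).upd 2 0 1 (le_of_eq hx30)).upd 2 1 1 (le_of_eq hx31)) ![1,1,1] (by decide) (by decide) 0 (by decide))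
          · -- 13=(1,2)
            exact False.elim (cert_false T ((skipEmb 2).trans v) (by norm_num) (fun _ => hv _) (((((((LB_zero T ((skipEmb 2).trans v)).upd 0 1 1 (le_of_eq hx01)).upd 0 2 2 (le_of_eq hx03)).upd 1 0 1 (le_of_eq hx10)).upd 1 2 1 (le_of_eq hx13)).upd 2 0 1 (le_of_eq hx30)).upd 2 1 2 (le_of_eq hx31)) ![1,1,1] (by decide) (by decide) 0 (by decide))
          · -- 13=(2,1)
            exact False.elim (cert_false T ((skipEmb 2).trans v) (by norm_num) (fun _ => hv _) (((((((LB_zero T ((skipEmb 2).trans v)).upd 0 1 1 (le_of_eq hx01)).upd 0 2 2 (le_of_eq hx03)).upd 1 0 1 (le_of_eq hx10)).upd 1 2 2 (le_of_eq hx13)).upd 2 0 1 (le_of_eq hx30)).upd 2 1 1 (le_of_eq hx31)) ![1,1,1] (by decide) (by decide) 0 (by decide))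
          · -- 13=(1,3)
            exact False.elim (cert_false T ((skipEmb 2).trans v) (by norm_num) (fun _ => hv _) (((((((LB_zero T ((skipEmb 2).trans v)).upd 0 1 1 (le_of_eq hx01)).upd 0 2 2 (le_of_eq hx03)).upd 1 0 1 (le_of_eq hx10)).upd 1 2 1 (le_of_eq hx13)).upd 2 0 1 (le_of_eq hx30)).upd 2 1 3 (le_of_eq hx31)) ![1,1,1] (by decide) (by decide) 0 (by decide))
          · -- 13=(3,1)
            exact False.elim (cert_false T ((skipEmb 2).trans v) (by norm_num) (fun _ => hv _) (((((((LB_zero T ((skipEmb 2).trans v)).upd 0 1 1 (le_of_eq hx01)).upd 0 2 2 (le_of_eq hx03)).upd 1 0 1 (le_of_eq hx10)).upd 1 2 3 (le_of_eq hx13)).upd 2 0 1 (le_of_eq hx30)).upd 2 1 1 (le_of_eq hx31)) ![1,1,1] (by decide) (by decide) 0 (by decide))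
        · -- 03=(1,3)
          exact False.elim (cert_false T ((skipEmb 2).trans v) (by norm_num) (fun _ => hv _) (((((LB_zero T ((skipEmb 2).trans v)).upd 0 1 1 (le_of_eq hx01)).upd 0 2 1 (le_of_eq hx03)).upd 1 0 1 (le_of_eq hx10)).upd 2 0 3 (le_of_eq hx30)) ![2,1,3] (by decide) (by decide) 0 (by decide))
        · -- 03=(3,1)
          exact False.elim (cert_false T ((skipEmb 2).trans v) (by norm_num) (fun _ => hv _) (((((LB_zero T ((skipEmb 2).trans v)).upd 0 1 1 (le_of_eq hx01)).upd 0 2 3 (le_of_eq hx03)).upd 1 0 1 (le_of_eq hx10)).upd 2 0 1 (le_of_eq hx30)) ![2,1,1] (by decide) (by decide) 0 (by decide))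
      · -- 12=(1,1)
        have d03 := two_pair T (by norm_num : 2 < 4) ((pairEmb 0 3 (by decide)).trans v) (fun _ => hv _)
        change (N T v 0 3 = 0 ∧ N T v 3 0 = 0) ∨ (N T v 0 3 = 1 ∧ N T v 3 0 = 1) ∨ (N T v 0 3 = 1 ∧ N T v 3 0 = 2) ∨ (N T v 0 3 = 2 ∧ N T v 3 0 = 1) ∨ (N T v 0 3 = 1 ∧ N T v 3 0 = 3) ∨ (N T v 0 3 = 3 ∧ N T v 3 0 = 1) at d03
        rw [← hx03, ← hx30] at d03
        rcases d03 with ⟨rfl, rfl⟩ | ⟨rfl, rfl⟩ | ⟨rfl, rfl⟩ | ⟨rfl, rfl⟩ | ⟨rfl, rfl⟩ | ⟨rfl, rfl⟩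
        · -- 03=(0,0)
          have d13 := two_pair T (by norm_num : 2 < 4) ((pairEmb 1 3 (by decide)).trans v) (fun _ => hv _)
          change (N T v 1 3 = 0 ∧ N T v 3 1 = 0) ∨ (N T v 1 3 = 1 ∧ N T v 3 1 = 1) ∨ (N T v 1 3 = 1 ∧ N T v 3 1 = 2) ∨ (N T v 1 3 = 2 ∧ N T v 3 1 = 1) ∨ (N T v 1 3 = 1 ∧ N T v 3 1 = 3) ∨ (N T v 1 3 = 3 ∧ N T v 3 1 = 1) at d13
          rw [← hx13, ← hx31] at d13
          rcases d13 with ⟨rfl, rfl⟩ | ⟨rfl, rfl⟩ | ⟨rfl, rfl⟩ | ⟨rfl, rfl⟩ | ⟨rfl, rfl⟩ | ⟨rfl, rfl⟩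
          · -- 13=(0,0)
            have d23 := two_pair T (by norm_num : 2 < 4) ((pairEmb 2 3 (by decide)).trans v) (fun _ => hv _)
            change (N T v 2 3 = 0 ∧ N T v 3 2 = 0) ∨ (N T v 2 3 = 1 ∧ N T v 3 2 = 1) ∨ (N T v 2 3 = 1 ∧ N T v 3 2 = 2) ∨ (N T v 2 3 = 2 ∧ N T v 3 2 = 1) ∨ (N T v 2 3 = 1 ∧ N T v 3 2 = 3) ∨ (N T v 2 3 = 3 ∧ N T v 3 2 = 1) at d23
            rw [← hx23, ← hx32] at d23
            rcases d23 with ⟨rfl, rfl⟩ | ⟨rfl, rfl⟩ | ⟨rfl, rfl⟩ | ⟨rfl, rfl⟩ | ⟨rfl, rfl⟩ | ⟨rfl, rfl⟩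
            · -- 23=(0,0)
              exfalso; omega
            · -- 23=(1,1)
              exfalso; omega
            · -- 23=(1,2)
              exfalso; omega
            · -- 23=(2,1)
              exfalso; omega
            · -- 23=(1,3)
              exact False.elim (cert_false T ((skipEmb 0).trans v) (by norm_num) (fun _ => hv _) (((((LB_zero T ((skipEmb 0).trans v)).upd 0 1 1 (le_of_eq hx12)).upd 1 0 1 (le_of_eq hx21)).upd 1 2 1 (le_of_eq hx23)).upd 2 1 3 (le_of_eq hx32)) ![1,2,3] (by decide) (by decide) 0 (by decide))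
            · -- 23=(3,1)
              exact False.elim (cert_false T ((skipEmb 0).trans v) (by norm_num) (fun _ => hv _) (((((LB_zero T ((skipEmb 0).trans v)).upd 0 1 1 (le_of_eq hx12)).upd 1 0 1 (le_of_eq hx21)).upd 1 2 3 (le_of_eq hx23)).upd 2 1 1 (le_of_eq hx32)) ![1,2,1] (by decide) (by decide) 0 (by decide))
          · -- 13=(1,1)
            have d23 := two_pair T (by norm_num : 2 < 4) ((pairEmb 2 3 (by decide)).trans v) (fun _ => hv _)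
            change (N T v 2 3 = 0 ∧ N T v 3 2 = 0) ∨ (N T v 2 3 = 1 ∧ N T v 3 2 = 1) ∨ (N T v 2 3 = 1 ∧ N T v 3 2 = 2) ∨ (N T v 2 3 = 2 ∧ N T v 3 2 = 1) ∨ (N T v 2 3 = 1 ∧ N T v 3 2 = 3) ∨ (N T v 2 3 = 3 ∧ N T v 3 2 = 1) at d23
            rw [← hx23, ← hx32] at d23
            rcases d23 with ⟨rfl, rfl⟩ | ⟨rfl, rfl⟩ | ⟨rfl, rfl⟩ | ⟨rfl, rfl⟩ | ⟨rfl, rfl⟩ | ⟨rfl, rfl⟩
            · -- 23=(0,0)
              exfalso; omega
            · -- 23=(1,1)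
              exact False.elim (cert_false T ((skipEmb 0).trans v) (by norm_num) (fun _ => hv _) (((((((LB_zero T ((skipEmb 0).trans v)).upd 0 1 1 (le_of_eq hx12)).upd 0 2 1 (le_of_eq hx13)).upd 1 0 1 (le_of_eq hx21)).upd 1 2 1 (le_of_eq hx23)).upd 2 0 1 (le_of_eq hx31)).upd 2 1 1 (le_of_eq hx32)) ![1,1,1] (by decide) (by decide) 0 (by decide))
            · -- 23=(1,2)
              exact False.elim (cert_false T ((skipEmb 0).trans v) (by norm_num) (fun _ => hv _) (((((((LB_zero T ((skipEmb 0).trans v)).upd 0 1 1 (le_of_eq hx12)).upd 0 2 1 (le_of_eq hx13)).upd 1 0 1 (le_of_eq hx21)).upd 1 2 1 (le_of_eq hx23)).upd 2 0 1 (le_of_eq hx31)).upd 2 1 2 (le_of_eq hx32)) ![1,1,1] (by decide) (by decide) 0 (by decide))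
            · -- 23=(2,1)
              exact False.elim (cert_false T ((skipEmb 0).trans v) (by norm_num) (fun _ => hv _) (((((((LB_zero T ((skipEmb 0).trans v)).upd 0 1 1 (le_of_eq hx12)).upd 0 2 1 (le_of_eq hx13)).upd 1 0 1 (le_of_eq hx21)).upd 1 2 2 (le_of_eq hx23)).upd 2 0 1 (le_of_eq hx31)).upd 2 1 1 (le_of_eq hx32)) ![1,1,1] (by decide) (by decide) 0 (by decide))
            · -- 23=(1,3)
              exact False.elim (cert_false T ((skipEmb 0).trans v) (by norm_num) (fun _ => hv _) (((((((LB_zero T ((skipEmb 0).trans v)).upd 0 1 1 (le_of_eq hx12)).upd 0 2 1 (le_of_eq hx13)).upd 1 0 1 (le_of_eq hx21)).upd 1 2 1 (le_of_eq hx23)).upd 2 0 1 (le_of_eq hx31)).upd 2 1 3 (le_of_eq hx32)) ![1,1,1] (by decide) (by decide) 0 (by decide))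
            · -- 23=(3,1)
              exact False.elim (cert_false T ((skipEmb 0).trans v) (by norm_num) (fun _ => hv _) (((((((LB_zero T ((skipEmb 0).trans v)).upd 0 1 1 (le_of_eq hx12)).upd 0 2 1 (le_of_eq hx13)).upd 1 0 1 (le_of_eq hx21)).upd 1 2 3 (le_of_eq hx23)).upd 2 0 1 (le_of_eq hx31)).upd 2 1 1 (le_of_eq hx32)) ![1,1,1] (by decide) (by decide) 0 (by decide))
          · -- 13=(1,2)
            have d23 := two_pair T (by norm_num : 2 < 4) ((pairEmb 2 3 (by decide)).trans v) (fun _ => hv _)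
            change (N T v 2 3 = 0 ∧ N T v 3 2 = 0) ∨ (N T v 2 3 = 1 ∧ N T v 3 2 = 1) ∨ (N T v 2 3 = 1 ∧ N T v 3 2 = 2) ∨ (N T v 2 3 = 2 ∧ N T v 3 2 = 1) ∨ (N T v 2 3 = 1 ∧ N T v 3 2 = 3) ∨ (N T v 2 3 = 3 ∧ N T v 3 2 = 1) at d23
            rw [← hx23, ← hx32] at d23
            rcases d23 with ⟨rfl, rfl⟩ | ⟨rfl, rfl⟩ | ⟨rfl, rfl⟩ | ⟨rfl, rfl⟩ | ⟨rfl, rfl⟩ | ⟨rfl, rfl⟩
            · -- 23=(0,0)
              refine ⟨(⟨![1, 0, 2, 3], ![1, 0, 2, 3], by decide, by decide⟩ : Equiv.Perm (Fin 4)), T.m 0, T.w 3, Or.inr (Or.inr (Or.inr (Or.inr (Or.inr (?_)))))⟩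
              show T.m 1 = 2 * T.m 0 ∧ T.m 0 = T.m 0 ∧ T.m 2 = T.m 0 ∧ T.m 3 = 2 * T.m 0 ∧ T.w 1 = 2 * T.w 3 ∧ T.w 0 = 2 * T.w 3 ∧ T.w 2 = 2 * T.w 3 ∧ T.w 3 = T.w 3 ∧ T.a 1 1 = -4 * T.w 3 ∧ T.a 1 0 = 2 * T.w 3 ∧ T.a 1 2 = 2 * T.w 3 ∧ T.a 1 3 = 2 * T.w 3 ∧ T.a 0 0 = -4 * T.w 3 ∧ T.a 0 2 = 0 ∧ T.a 0 3 = 0 ∧ T.a 2 2 = -4 * T.w 3 ∧ T.a 2 3 = 0 ∧ T.a 3 3 = -2 * T.w 3
              refine ⟨?_, ?_, ?_, ?_, ?_, ?_, ?_, ?_, ?_, ?_, ?_, ?_, ?_, ?_, ?_, ?_, ?_, ?_⟩ <;> omega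
            · -- 23=(1,1)
              exact False.elim (cert_false T ((skipEmb 0).trans v) (by norm_num) (fun _ => hv _) (((((((LB_zero T ((skipEmb 0).trans v)).upd 0 1 1 (le_of_eq hx12)).upd 0 2 1 (le_of_eq hx13)).upd 1 0 1 (le_of_eq hx21)).upd 1 2 1 (le_of_eq hx23)).upd 2 0 2 (le_of_eq hx31)).upd 2 1 1 (le_of_eq hx32)) ![1,1,1] (by decide) (by decide) 0 (by decide))
            · -- 23=(1,2)
              exact False.elim (cert_false T ((skipEmb 0).trans v) (by norm_num) (fun _ => hv _) (((((((LB_zero T ((skipEmb 0).trans v)).upd 0 1 1 (le_of_eq hx12)).upd 0 2 1 (le_of_eq hx13)).upd 1 0 1 (le_of_eq hx21)).upd 1 2 1 (le_of_eq hx23)).upd 2 0 2 (le_of_eq hx31)).upd 2 1 2 (le_of_eq hx32)) ![1,1,1] (by decide) (by decide) 0 (by decide))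
            · -- 23=(2,1)
              exact False.elim (cert_false T ((skipEmb 0).trans v) (by norm_num) (fun _ => hv _) (((((((LB_zero T ((skipEmb 0).trans v)).upd 0 1 1 (le_of_eq hx12)).upd 0 2 1 (le_of_eq hx13)).upd 1 0 1 (le_of_eq hx21)).upd 1 2 2 (le_of_eq hx23)).upd 2 0 2 (le_of_eq hx31)).upd 2 1 1 (le_of_eq hx32)) ![1,1,1] (by decide) (by decide) 0 (by decide))
            · -- 23=(1,3)
              exact False.elim (cert_false T ((skipEmb 0).trans v) (by norm_num) (fun _ => hv _) (((((((LB_zero T ((skipEmb 0).trans v)).upd 0 1 1 (le_of_eq hx12)).upd 0 2 1 (le_of_eq hx13)).upd 1 0 1 (le_of_eq hx21)).upd 1 2 1 (le_of_eq hx23)).upd 2 0 2 (le_of_eq hx31)).upd 2 1 3 (le_of_eq hx32)) ![1,1,1] (by decide) (by decide) 0 (by decide))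
            · -- 23=(3,1)
              exact False.elim (cert_false T ((skipEmb 0).trans v) (by norm_num) (fun _ => hv _) (((((((LB_zero T ((skipEmb 0).trans v)).upd 0 1 1 (le_of_eq hx12)).upd 0 2 1 (le_of_eq hx13)).upd 1 0 1 (le_of_eq hx21)).upd 1 2 3 (le_of_eq hx23)).upd 2 0 2 (le_of_eq hx31)).upd 2 1 1 (le_of_eq hx32)) ![1,1,1] (by decide) (by decide) 0 (by decide))
          · -- 13=(2,1)
            have d23 := two_pair T (by norm_num : 2 < 4) ((pairEmb 2 3 (by decide)).trans v) (fun _ => hv _)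
            change (N T v 2 3 = 0 ∧ N T v 3 2 = 0) ∨ (N T v 2 3 = 1 ∧ N T v 3 2 = 1) ∨ (N T v 2 3 = 1 ∧ N T v 3 2 = 2) ∨ (N T v 2 3 = 2 ∧ N T v 3 2 = 1) ∨ (N T v 2 3 = 1 ∧ N T v 3 2 = 3) ∨ (N T v 2 3 = 3 ∧ N T v 3 2 = 1) at d23
            rw [← hx23, ← hx32] at d23
            rcases d23 with ⟨rfl, rfl⟩ | ⟨rfl, rfl⟩ | ⟨rfl, rfl⟩ | ⟨rfl, rfl⟩ | ⟨rfl, rfl⟩ | ⟨rfl, rfl⟩
            · -- 23=(0,0)
              refine ⟨(⟨![1, 0, 2, 3], ![1, 0, 2, 3], by decide, by decide⟩ : Equiv.Perm (Fin 4)), T.m 0, T.w 1, Or.inr (Or.inr (Or.inr (Or.inr (Or.inl ?_))))⟩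
              show T.m 1 = 2 * T.m 0 ∧ T.m 0 = T.m 0 ∧ T.m 2 = T.m 0 ∧ T.m 3 = T.m 0 ∧ T.w 1 = T.w 1 ∧ T.w 0 = T.w 1 ∧ T.w 2 = T.w 1 ∧ T.w 3 = 2 * T.w 1 ∧ T.a 1 1 = -2 * T.w 1 ∧ T.a 1 0 = T.w 1 ∧ T.a 1 2 = T.w 1 ∧ T.a 1 3 = 2 * T.w 1 ∧ T.a 0 0 = -2 * T.w 1 ∧ T.a 0 2 = 0 ∧ T.a 0 3 = 0 ∧ T.a 2 2 = -2 * T.w 1 ∧ T.a 2 3 = 0 ∧ T.a 3 3 = -4 * T.w 1
              refine ⟨?_, ?_, ?_, ?_, ?_, ?_, ?_, ?_, ?_, ?_, ?_, ?_, ?_, ?_, ?_, ?_, ?_, ?_⟩ <;> omega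
            · -- 23=(1,1)
              exact False.elim (cert_false T ((skipEmb 0).trans v) (by norm_num) (fun _ => hv _) (((((((LB_zero T ((skipEmb 0).trans v)).upd 0 1 1 (le_of_eq hx12)).upd 0 2 2 (le_of_eq hx13)).upd 1 0 1 (le_of_eq hx21)).upd 1 2 1 (le_of_eq hx23)).upd 2 0 1 (le_of_eq hx31)).upd 2 1 1 (le_of_eq hx32)) ![1,1,1] (by decide) (by decide) 0 (by decide))
            · -- 23=(1,2)
              exact False.elim (cert_false T ((skipEmb 0).trans v) (by norm_num) (fun _ => hv _) (((((((LB_zero T ((skipEmb 0).trans v)).upd 0 1 1 (le_of_eq hx12)).upd 0 2 2 (le_of_eq hx13)).upd 1 0 1 (le_of_eq hx21)).upd 1 2 1 (le_of_eq hx23)).upd 2 0 1 (le_of_eq hx31)).upd 2 1 2 (le_of_eq hx32)) ![1,1,1] (by decide) (by decide) 0 (by decide))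
            · -- 23=(2,1)
              exact False.elim (cert_false T ((skipEmb 0).trans v) (by norm_num) (fun _ => hv _) (((((((LB_zero T ((skipEmb 0).trans v)).upd 0 1 1 (le_of_eq hx12)).upd 0 2 2 (le_of_eq hx13)).upd 1 0 1 (le_of_eq hx21)).upd 1 2 2 (le_of_eq hx23)).upd 2 0 1 (le_of_eq hx31)).upd 2 1 1 (le_of_eq hx32)) ![1,1,1] (by decide) (by decide) 0 (by decide))
            · -- 23=(1,3)
              exact False.elim (cert_false T ((skipEmb 0).trans v) (by norm_num) (fun _ => hv _) (((((((LB_zero T ((skipEmb 0).trans v)).upd 0 1 1 (le_of_eq hx12)).upd 0 2 2 (le_of_eq hx13)).upd 1 0 1 (le_of_eq hx21)).upd 1 2 1 (le_of_eq hx23)).upd 2 0 1 (le_of_eq hx31)).upd 2 1 3 (le_of_eq hx32)) ![1,1,1] (by decide) (by decide) 0 (by decide))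
            · -- 23=(3,1)
              exact False.elim (cert_false T ((skipEmb 0).trans v) (by norm_num) (fun _ => hv _) (((((((LB_zero T ((skipEmb 0).trans v)).upd 0 1 1 (le_of_eq hx12)).upd 0 2 2 (le_of_eq hx13)).upd 1 0 1 (le_of_eq hx21)).upd 1 2 3 (le_of_eq hx23)).upd 2 0 1 (le_of_eq hx31)).upd 2 1 1 (le_of_eq hx32)) ![1,1,1] (by decide) (by decide) 0 (by decide))
          · -- 13=(1,3)
            exact False.elim (cert_false T ((skipEmb 2).trans v) (by norm_num) (fun _ => hv _) (((((LB_zero T ((skipEmb 2).trans v)).upd 0 1 1 (le_of_eq hx01)).upd 1 0 1 (le_of_eq hx10)).upd 1 2 1 (le_of_eq hx13)).upd 2 1 3 (le_of_eq hx31)) ![1,2,3] (by decide) (by decide) 0 (by decide))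
          · -- 13=(3,1)
            exact False.elim (cert_false T ((skipEmb 2).trans v) (by norm_num) (fun _ => hv _) (((((LB_zero T ((skipEmb 2).trans v)).upd 0 1 1 (le_of_eq hx01)).upd 1 0 1 (le_of_eq hx10)).upd 1 2 3 (le_of_eq hx13)).upd 2 1 1 (le_of_eq hx31)) ![1,2,1] (by decide) (by decide) 0 (by decide))
        · -- 03=(1,1)
          have d13 := two_pair T (by norm_num : 2 < 4) ((pairEmb 1 3 (by decide)).trans v) (fun _ => hv _)
          change (N T v 1 3 = 0 ∧ N T v 3 1 = 0) ∨ (N T v 1 3 = 1 ∧ N T v 3 1 = 1) ∨ (N T v 1 3 = 1 ∧ N T v 3 1 = 2) ∨ (N T v 1 3 = 2 ∧ N T v 3 1 = 1) ∨ (N T v 1 3 = 1 ∧ N T v 3 1 = 3) ∨ (N T v 1 3 = 3 ∧ N T v 3 1 = 1) at d13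
          rw [← hx13, ← hx31] at d13
          rcases d13 with ⟨rfl, rfl⟩ | ⟨rfl, rfl⟩ | ⟨rfl, rfl⟩ | ⟨rfl, rfl⟩ | ⟨rfl, rfl⟩ | ⟨rfl, rfl⟩
          · -- 13=(0,0)
            have d23 := two_pair T (by norm_num : 2 < 4) ((pairEmb 2 3 (by decide)).trans v) (fun _ => hv _)
            change (N T v 2 3 = 0 ∧ N T v 3 2 = 0) ∨ (N T v 2 3 = 1 ∧ N T v 3 2 = 1) ∨ (N T v 2 3 = 1 ∧ N T v 3 2 = 2) ∨ (N T v 2 3 = 2 ∧ N T v 3 2 = 1) ∨ (N T v 2 3 = 1 ∧ N T v 3 2 = 3) ∨ (N T v 2 3 = 3 ∧ N T v 3 2 = 1) at d23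
            rw [← hx23, ← hx32] at d23
            rcases d23 with ⟨rfl, rfl⟩ | ⟨rfl, rfl⟩ | ⟨rfl, rfl⟩ | ⟨rfl, rfl⟩ | ⟨rfl, rfl⟩ | ⟨rfl, rfl⟩
            · -- 23=(0,0)
              exfalso; omega
            · -- 23=(1,1)
              refine ⟨(⟨![0, 1, 2, 3], ![0, 1, 2, 3], by decide, by decide⟩ : Equiv.Perm (Fin 4)), T.m 0, T.w 0, Or.inl ?_⟩
              show T.m 0 = T.m 0 ∧ T.m 1 = T.m 0 ∧ T.m 2 = T.m 0 ∧ T.m 3 = T.m 0 ∧ T.w 0 = T.w 0 ∧ T.w 1 = T.w 0 ∧ T.w 2 = T.w 0 ∧ T.w 3 = T.w 0 ∧ T.a 0 0 = -2 * T.w 0 ∧ T.a 0 1 = T.w 0 ∧ T.a 0 2 = 0 ∧ T.a 0 3 = T.w 0 ∧ T.a 1 1 = -2 * T.w 0 ∧ T.a 1 2 = T.w 0 ∧ T.a 1 3 = 0 ∧ T.a 2 2 = -2 * T.w 0 ∧ T.a 2 3 = T.w 0 ∧ T.a 3 3 = -2 * T.w 0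
              refine ⟨?_, ?_, ?_, ?_, ?_, ?_, ?_, ?_, ?_, ?_, ?_, ?_, ?_, ?_, ?_, ?_, ?_, ?_⟩ <;> omega
            · -- 23=(1,2)
              exfalso; omega
            · -- 23=(2,1)
              exfalso; omega
            · -- 23=(1,3)
              exact False.elim (cert_false T ((skipEmb 1).trans v) (by norm_num) (fun _ => hv _) (((((LB_zero T ((skipEmb 1).trans v)).upd 0 2 1 (le_of_eq hx03)).upd 1 2 1 (le_of_eq hx23)).upd 2 0 1 (le_of_eq hx30)).upd 2 1 3 (le_of_eq hx32)) ![1,1,2] (by decide) (by decide) 0 (by decide))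
            · -- 23=(3,1)
              exact False.elim (cert_false T ((skipEmb 1).trans v) (by norm_num) (fun _ => hv _) (((((LB_zero T ((skipEmb 1).trans v)).upd 0 2 1 (le_of_eq hx03)).upd 1 2 3 (le_of_eq hx23)).upd 2 0 1 (le_of_eq hx30)).upd 2 1 1 (le_of_eq hx32)) ![1,3,2] (by decide) (by decide) 0 (by decide))
          · -- 13=(1,1)
            exact False.elim (cert_false T ((skipEmb 2).trans v) (by norm_num) (fun _ => hv _) (((((((LB_zero T ((skipEmb 2).trans v)).upd 0 1 1 (le_of_eq hx01)).upd 0 2 1 (le_of_eq hx03)).upd 1 0 1 (le_of_eq hx10)).upd 1 2 1 (le_of_eq hx13)).upd 2 0 1 (le_of_eq hx30)).upd 2 1 1 (le_of_eq hx31)) ![1,1,1] (by decide) (by decide) 0 (by decide))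
          · -- 13=(1,2)
            exact False.elim (cert_false T ((skipEmb 2).trans v) (by norm_num) (fun _ => hv _) (((((((LB_zero T ((skipEmb 2).trans v)).upd 0 1 1 (le_of_eq hx01)).upd 0 2 1 (le_of_eq hx03)).upd 1 0 1 (le_of_eq hx10)).upd 1 2 1 (le_of_eq hx13)).upd 2 0 1 (le_of_eq hx30)).upd 2 1 2 (le_of_eq hx31)) ![1,1,1] (by decide) (by decide) 0 (by decide))
          · -- 13=(2,1)
            exact False.elim (cert_false T ((skipEmb 2).trans v) (by norm_num) (fun _ => hv _) (((((((LB_zero T ((skipEmb 2).trans v)).upd 0 1 1 (le_of_eq hx01)).upd 0 2 1 (le_of_eq hx03)).upd 1 0 1 (le_of_eq hx10)).upd 1 2 2 (le_of_eq hx13)).upd 2 0 1 (le_of_eq hx30)).upd 2 1 1 (le_of_eq hx31)) ![1,1,1] (by decide) (by decide) 0 (by decide))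
          · -- 13=(1,3)
            exact False.elim (cert_false T ((skipEmb 2).trans v) (by norm_num) (fun _ => hv _) (((((((LB_zero T ((skipEmb 2).trans v)).upd 0 1 1 (le_of_eq hx01)).upd 0 2 1 (le_of_eq hx03)).upd 1 0 1 (le_of_eq hx10)).upd 1 2 1 (le_of_eq hx13)).upd 2 0 1 (le_of_eq hx30)).upd 2 1 3 (le_of_eq hx31)) ![1,1,1] (by decide) (by decide) 0 (by decide))
          · -- 13=(3,1)
            exact False.elim (cert_false T ((skipEmb 2).trans v) (by norm_num) (fun _ => hv _) (((((((LB_zero T ((skipEmb 2).trans v)).upd 0 1 1 (le_of_eq hx01)).upd 0 2 1 (le_of_eq hx03)).upd 1 0 1 (le_of_eq hx10)).upd 1 2 3 (le_of_eq hx13)).upd 2 0 1 (le_of_eq hx30)).upd 2 1 1 (le_of_eq hx31)) ![1,1,1] (by decide) (by decide) 0 (by decide))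
        · -- 03=(1,2)
          have d13 := two_pair T (by norm_num : 2 < 4) ((pairEmb 1 3 (by decide)).trans v) (fun _ => hv _)
          change (N T v 1 3 = 0 ∧ N T v 3 1 = 0) ∨ (N T v 1 3 = 1 ∧ N T v 3 1 = 1) ∨ (N T v 1 3 = 1 ∧ N T v 3 1 = 2) ∨ (N T v 1 3 = 2 ∧ N T v 3 1 = 1) ∨ (N T v 1 3 = 1 ∧ N T v 3 1 = 3) ∨ (N T v 1 3 = 3 ∧ N T v 3 1 = 1) at d13
          rw [← hx13, ← hx31] at d13
          rcases d13 with ⟨rfl, rfl⟩ | ⟨rfl, rfl⟩ | ⟨rfl, rfl⟩ | ⟨rfl, rfl⟩ | ⟨rfl, rfl⟩ | ⟨rfl, rfl⟩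
          · -- 13=(0,0)
            have d23 := two_pair T (by norm_num : 2 < 4) ((pairEmb 2 3 (by decide)).trans v) (fun _ => hv _)
            change (N T v 2 3 = 0 ∧ N T v 3 2 = 0) ∨ (N T v 2 3 = 1 ∧ N T v 3 2 = 1) ∨ (N T v 2 3 = 1 ∧ N T v 3 2 = 2) ∨ (N T v 2 3 = 2 ∧ N T v 3 2 = 1) ∨ (N T v 2 3 = 1 ∧ N T v 3 2 = 3) ∨ (N T v 2 3 = 3 ∧ N T v 3 2 = 1) at d23
            rw [← hx23, ← hx32] at d23
            rcases d23 with ⟨rfl, rfl⟩ | ⟨rfl, rfl⟩ | ⟨rfl, rfl⟩ | ⟨rfl, rfl⟩ | ⟨rfl, rfl⟩ | ⟨rfl, rfl⟩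
            · -- 23=(0,0)
              exfalso; omega
            · -- 23=(1,1)
              exfalso; omega
            · -- 23=(1,2)
              exact False.elim (cert_false T ((skipEmb 1).trans v) (by norm_num) (fun _ => hv _) (((((LB_zero T ((skipEmb 1).trans v)).upd 0 2 1 (le_of_eq hx03)).upd 1 2 1 (le_of_eq hx23)).upd 2 0 2 (le_of_eq hx30)).upd 2 1 2 (le_of_eq hx32)) ![1,1,2] (by decide) (by decide) 0 (by decide))
            · -- 23=(2,1)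
              exact False.elim (cert_false T ((skipEmb 1).trans v) (by norm_num) (fun _ => hv _) (((((LB_zero T ((skipEmb 1).trans v)).upd 0 2 1 (le_of_eq hx03)).upd 1 2 2 (le_of_eq hx23)).upd 2 0 2 (le_of_eq hx30)).upd 2 1 1 (le_of_eq hx32)) ![1,2,2] (by decide) (by decide) 0 (by decide))
            · -- 23=(1,3)
              exact False.elim (cert_false T ((skipEmb 1).trans v) (by norm_num) (fun _ => hv _) (((((LB_zero T ((skipEmb 1).trans v)).upd 0 2 1 (le_of_eq hx03)).upd 1 2 1 (le_of_eq hx23)).upd 2 0 2 (le_of_eq hx30)).upd 2 1 3 (le_of_eq hx32)) ![1,1,2] (by decide) (by decide) 0 (by decide))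
            · -- 23=(3,1)
              exact False.elim (cert_false T ((skipEmb 1).trans v) (by norm_num) (fun _ => hv _) (((((LB_zero T ((skipEmb 1).trans v)).upd 0 2 1 (le_of_eq hx03)).upd 1 2 3 (le_of_eq hx23)).upd 2 0 2 (le_of_eq hx30)).upd 2 1 1 (le_of_eq hx32)) ![1,2,2] (by decide) (by decide) 0 (by decide))
          · -- 13=(1,1)
            exact False.elim (cert_false T ((skipEmb 2).trans v) (by norm_num) (fun _ => hv _) (((((((LB_zero T ((skipEmb 2).trans v)).upd 0 1 1 (le_of_eq hx01)).upd 0 2 1 (le_of_eq hx03)).upd 1 0 1 (le_of_eq hx10)).upd 1 2 1 (le_of_eq hx13)).upd 2 0 2 (le_of_eq hx30)).upd 2 1 1 (le_of_eq hx31)) ![1,1,1] (by decide) (by decide) 0 (by decide))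
          · -- 13=(1,2)
            exact False.elim (cert_false T ((skipEmb 2).trans v) (by norm_num) (fun _ => hv _) (((((((LB_zero T ((skipEmb 2).trans v)).upd 0 1 1 (le_of_eq hx01)).upd 0 2 1 (le_of_eq hx03)).upd 1 0 1 (le_of_eq hx10)).upd 1 2 1 (le_of_eq hx13)).upd 2 0 2 (le_of_eq hx30)).upd 2 1 2 (le_of_eq hx31)) ![1,1,1] (by decide) (by decide) 0 (by decide))
          · -- 13=(2,1)
            exact False.elim (cert_false T ((skipEmb 2).trans v) (by norm_num) (fun _ => hv _) (((((((LB_zero T ((skipEmb 2).trans v)).upd 0 1 1 (le_of_eq hx01)).upd 0 2 1 (le_of_eq hx03)).upd 1 0 1 (le_of_eq hx10)).upd 1 2 2 (le_of_eq hx13)).upd 2 0 2 (le_of_eq hx30)).upd 2 1 1 (le_of_eq hx31)) ![1,1,1] (by decide) (by decide) 0 (by decide))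
          · -- 13=(1,3)
            exact False.elim (cert_false T ((skipEmb 2).trans v) (by norm_num) (fun _ => hv _) (((((((LB_zero T ((skipEmb 2).trans v)).upd 0 1 1 (le_of_eq hx01)).upd 0 2 1 (le_of_eq hx03)).upd 1 0 1 (le_of_eq hx10)).upd 1 2 1 (le_of_eq hx13)).upd 2 0 2 (le_of_eq hx30)).upd 2 1 3 (le_of_eq hx31)) ![1,1,1] (by decide) (by decide) 0 (by decide))
          · -- 13=(3,1)
            exact False.elim (cert_false T ((skipEmb 2).trans v) (by norm_num) (fun _ => hv _) (((((((LB_zero T ((skipEmb 2).trans v)).upd 0 1 1 (le_of_eq hx01)).upd 0 2 1 (le_of_eq hx03)).upd 1 0 1 (le_of_eq hx10)).upd 1 2 3 (le_of_eq hx13)).upd 2 0 2 (le_of_eq hx30)).upd 2 1 1 (le_of_eq hx31)) ![1,1,1] (by decide) (by decide) 0 (by decide))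
        · -- 03=(2,1)
          have d13 := two_pair T (by norm_num : 2 < 4) ((pairEmb 1 3 (by decide)).trans v) (fun _ => hv _)
          change (N T v 1 3 = 0 ∧ N T v 3 1 = 0) ∨ (N T v 1 3 = 1 ∧ N T v 3 1 = 1) ∨ (N T v 1 3 = 1 ∧ N T v 3 1 = 2) ∨ (N T v 1 3 = 2 ∧ N T v 3 1 = 1) ∨ (N T v 1 3 = 1 ∧ N T v 3 1 = 3) ∨ (N T v 1 3 = 3 ∧ N T v 3 1 = 1) at d13
          rw [← hx13, ← hx31] at d13
          rcases d13 with ⟨rfl, rfl⟩ | ⟨rfl, rfl⟩ | ⟨rfl, rfl⟩ | ⟨rfl, rfl⟩ | ⟨rfl, rfl⟩ | ⟨rfl, rfl⟩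
          · -- 13=(0,0)
            have d23 := two_pair T (by norm_num : 2 < 4) ((pairEmb 2 3 (by decide)).trans v) (fun _ => hv _)
            change (N T v 2 3 = 0 ∧ N T v 3 2 = 0) ∨ (N T v 2 3 = 1 ∧ N T v 3 2 = 1) ∨ (N T v 2 3 = 1 ∧ N T v 3 2 = 2) ∨ (N T v 2 3 = 2 ∧ N T v 3 2 = 1) ∨ (N T v 2 3 = 1 ∧ N T v 3 2 = 3) ∨ (N T v 2 3 = 3 ∧ N T v 3 2 = 1) at d23
            rw [← hx23, ← hx32] at d23
            rcases d23 with ⟨rfl, rfl⟩ | ⟨rfl, rfl⟩ | ⟨rfl, rfl⟩ | ⟨rfl, rfl⟩ | ⟨rfl, rfl⟩ | ⟨rfl, rfl⟩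
            · -- 23=(0,0)
              exfalso; omega
            · -- 23=(1,1)
              exfalso; omega
            · -- 23=(1,2)
              exact False.elim (cert_false T ((skipEmb 1).trans v) (by norm_num) (fun _ => hv _) (((((LB_zero T ((skipEmb 1).trans v)).upd 0 2 2 (le_of_eq hx03)).upd 1 2 1 (le_of_eq hx23)).upd 2 0 1 (le_of_eq hx30)).upd 2 1 2 (le_of_eq hx32)) ![2,1,2] (by decide) (by decide) 0 (by decide))
            · -- 23=(2,1)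
              exact False.elim (cert_false T ((skipEmb 1).trans v) (by norm_num) (fun _ => hv _) (((((LB_zero T ((skipEmb 1).trans v)).upd 0 2 2 (le_of_eq hx03)).upd 1 2 2 (le_of_eq hx23)).upd 2 0 1 (le_of_eq hx30)).upd 2 1 1 (le_of_eq hx32)) ![1,1,1] (by decide) (by decide) 0 (by decide))
            · -- 23=(1,3)
              exact False.elim (cert_false T ((skipEmb 1).trans v) (by norm_num) (fun _ => hv _) (((((LB_zero T ((skipEmb 1).trans v)).upd 0 2 2 (le_of_eq hx03)).upd 1 2 1 (le_of_eq hx23)).upd 2 0 1 (le_of_eq hx30)).upd 2 1 3 (le_of_eq hx32)) ![1,1,2] (by decide) (by decide) 0 (by decide))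
            · -- 23=(3,1)
              exact False.elim (cert_false T ((skipEmb 1).trans v) (by norm_num) (fun _ => hv _) (((((LB_zero T ((skipEmb 1).trans v)).upd 0 2 2 (le_of_eq hx03)).upd 1 2 3 (le_of_eq hx23)).upd 2 0 1 (le_of_eq hx30)).upd 2 1 1 (le_of_eq hx32)) ![1,1,1] (by decide) (by decide) 0 (by decide))
          · -- 13=(1,1)
            exact False.elim (cert_false T ((skipEmb 2).trans v) (by norm_num) (fun _ => hv _) (((((((LB_zero T ((skipEmb 2).trans v)).upd 0 1 1 (le_of_eq hx01)).upd 0 2 2 (le_of_eq hx03)).upd 1 0 1 (le_of_eq hx10)).upd 1 2 1 (le_of_eq hx13)).upd 2 0 1 (le_of_eq hx30)).upd 2 1 1 (le_of_eq hx31)) ![1,1,1] (by decide) (by decide) 0 (by decide))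
          · -- 13=(1,2)
            exact False.elim (cert_false T ((skipEmb 2).trans v) (by norm_num) (fun _ => hv _) (((((((LB_zero T ((skipEmb 2).trans v)).upd 0 1 1 (le_of_eq hx01)).upd 0 2 2 (le_of_eq hx03)).upd 1 0 1 (le_of_eq hx10)).upd 1 2 1 (le_of_eq hx13)).upd 2 0 1 (le_of_eq hx30)).upd 2 1 2 (le_of_eq hx31)) ![1,1,1] (by decide) (by decide) 0 (by decide))
          · -- 13=(2,1)
            exact False.elim (cert_false T ((skipEmb 2).trans v) (by norm_num) (fun _ => hv _) (((((((LB_zero T ((skipEmb 2).trans v)).upd 0 1 1 (le_of_eq hx01)).upd 0 2 2 (le_of_eq hx03)).upd 1 0 1 (le_of_eq hx10)).upd 1 2 2 (le_of_eq hx13)).upd 2 0 1 (le_of_eq hx30)).upd 2 1 1 (le_of_eq hx31)) ![1,1,1] (by decide) (by decide) 0 (by decide))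
          · -- 13=(1,3)
            exact False.elim (cert_false T ((skipEmb 2).trans v) (by norm_num) (fun _ => hv _) (((((((LB_zero T ((skipEmb 2).trans v)).upd 0 1 1 (le_of_eq hx01)).upd 0 2 2 (le_of_eq hx03)).upd 1 0 1 (le_of_eq hx10)).upd 1 2 1 (le_of_eq hx13)).upd 2 0 1 (le_of_eq hx30)).upd 2 1 3 (le_of_eq hx31)) ![1,1,1] (by decide) (by decide) 0 (by decide))
          · -- 13=(3,1)
            exact False.elim (cert_false T ((skipEmb 2).trans v) (by norm_num) (fun _ => hv _) (((((((LB_zero T ((skipEmb 2).trans v)).upd 0 1 1 (le_of_eq hx01)).upd 0 2 2 (le_of_eq hx03)).upd 1 0 1 (le_of_eq hx10)).upd 1 2 3 (le_of_eq hx13)).upd 2 0 1 (le_of_eq hx30)).upd 2 1 1 (le_of_eq hx31)) ![1,1,1] (by decide) (by decide) 0 (by decide))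
        · -- 03=(1,3)
          exact False.elim (cert_false T ((skipEmb 2).trans v) (by norm_num) (fun _ => hv _) (((((LB_zero T ((skipEmb 2).trans v)).upd 0 1 1 (le_of_eq hx01)).upd 0 2 1 (le_of_eq hx03)).upd 1 0 1 (le_of_eq hx10)).upd 2 0 3 (le_of_eq hx30)) ![2,1,3] (by decide) (by decide) 0 (by decide))
        · -- 03=(3,1)
          exact False.elim (cert_false T ((skipEmb 2).trans v) (by norm_num) (fun _ => hv _) (((((LB_zero T ((skipEmb 2).trans v)).upd 0 1 1 (le_of_eq hx01)).upd 0 2 3 (le_of_eq hx03)).upd 1 0 1 (le_of_eq hx10)).upd 2 0 1 (le_of_eq hx30)) ![2,1,1] (by decide) (by decide) 0 (by decide))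
      · -- 12=(1,2)
        have d03 := two_pair T (by norm_num : 2 < 4) ((pairEmb 0 3 (by decide)).trans v) (fun _ => hv _)
        change (N T v 0 3 = 0 ∧ N T v 3 0 = 0) ∨ (N T v 0 3 = 1 ∧ N T v 3 0 = 1) ∨ (N T v 0 3 = 1 ∧ N T v 3 0 = 2) ∨ (N T v 0 3 = 2 ∧ N T v 3 0 = 1) ∨ (N T v 0 3 = 1 ∧ N T v 3 0 = 3) ∨ (N T v 0 3 = 3 ∧ N T v 3 0 = 1) at d03
        rw [← hx03, ← hx30] at d03
        rcases d03 with ⟨rfl, rfl⟩ | ⟨rfl, rfl⟩ | ⟨rfl, rfl⟩ | ⟨rfl, rfl⟩ | ⟨rfl, rfl⟩ | ⟨rfl, rfl⟩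
        · -- 03=(0,0)
          have d13 := two_pair T (by norm_num : 2 < 4) ((pairEmb 1 3 (by decide)).trans v) (fun _ => hv _)
          change (N T v 1 3 = 0 ∧ N T v 3 1 = 0) ∨ (N T v 1 3 = 1 ∧ N T v 3 1 = 1) ∨ (N T v 1 3 = 1 ∧ N T v 3 1 = 2) ∨ (N T v 1 3 = 2 ∧ N T v 3 1 = 1) ∨ (N T v 1 3 = 1 ∧ N T v 3 1 = 3) ∨ (N T v 1 3 = 3 ∧ N T v 3 1 = 1) at d13
          rw [← hx13, ← hx31] at d13
          rcases d13 with ⟨rfl, rfl⟩ | ⟨rfl, rfl⟩ | ⟨rfl, rfl⟩ | ⟨rfl, rfl⟩ | ⟨rfl, rfl⟩ | ⟨rfl, rfl⟩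
          · -- 13=(0,0)
            have d23 := two_pair T (by norm_num : 2 < 4) ((pairEmb 2 3 (by decide)).trans v) (fun _ => hv _)
            change (N T v 2 3 = 0 ∧ N T v 3 2 = 0) ∨ (N T v 2 3 = 1 ∧ N T v 3 2 = 1) ∨ (N T v 2 3 = 1 ∧ N T v 3 2 = 2) ∨ (N T v 2 3 = 2 ∧ N T v 3 2 = 1) ∨ (N T v 2 3 = 1 ∧ N T v 3 2 = 3) ∨ (N T v 2 3 = 3 ∧ N T v 3 2 = 1) at d23
            rw [← hx23, ← hx32] at d23
            rcases d23 with ⟨rfl, rfl⟩ | ⟨rfl, rfl⟩ | ⟨rfl, rfl⟩ | ⟨rfl, rfl⟩ | ⟨rfl, rfl⟩ | ⟨rfl, rfl⟩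
            · -- 23=(0,0)
              exfalso; omega
            · -- 23=(1,1)
              exfalso; omega
            · -- 23=(1,2)
              exact False.elim (cert_false T ((skipEmb 0).trans v) (by norm_num) (fun _ => hv _) (((((LB_zero T ((skipEmb 0).trans v)).upd 0 1 1 (le_of_eq hx12)).upd 1 0 2 (le_of_eq hx21)).upd 1 2 1 (le_of_eq hx23)).upd 2 1 2 (le_of_eq hx32)) ![1,2,2] (by decide) (by decide) 0 (by decide))
            · -- 23=(2,1)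
              exact False.elim (cert_false T ((skipEmb 0).trans v) (by norm_num) (fun _ => hv _) (((((LB_zero T ((skipEmb 0).trans v)).upd 0 1 1 (le_of_eq hx12)).upd 1 0 2 (le_of_eq hx21)).upd 1 2 2 (le_of_eq hx23)).upd 2 1 1 (le_of_eq hx32)) ![1,2,1] (by decide) (by decide) 0 (by decide))
            · -- 23=(1,3)
              exact False.elim (cert_false T ((skipEmb 0).trans v) (by norm_num) (fun _ => hv _) (((((LB_zero T ((skipEmb 0).trans v)).upd 0 1 1 (le_of_eq hx12)).upd 1 0 2 (le_of_eq hx21)).upd 1 2 1 (le_of_eq hx23)).upd 2 1 3 (le_of_eq hx32)) ![1,2,2] (by decide) (by decide) 0 (by decide))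
            · -- 23=(3,1)
              exact False.elim (cert_false T ((skipEmb 0).trans v) (by norm_num) (fun _ => hv _) (((((LB_zero T ((skipEmb 0).trans v)).upd 0 1 1 (le_of_eq hx12)).upd 1 0 2 (le_of_eq hx21)).upd 1 2 3 (le_of_eq hx23)).upd 2 1 1 (le_of_eq hx32)) ![1,2,1] (by decide) (by decide) 0 (by decide))
          · -- 13=(1,1)
            have d23 := two_pair T (by norm_num : 2 < 4) ((pairEmb 2 3 (by decide)).trans v) (fun _ => hv _)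
            change (N T v 2 3 = 0 ∧ N T v 3 2 = 0) ∨ (N T v 2 3 = 1 ∧ N T v 3 2 = 1) ∨ (N T v 2 3 = 1 ∧ N T v 3 2 = 2) ∨ (N T v 2 3 = 2 ∧ N T v 3 2 = 1) ∨ (N T v 2 3 = 1 ∧ N T v 3 2 = 3) ∨ (N T v 2 3 = 3 ∧ N T v 3 2 = 1) at d23
            rw [← hx23, ← hx32] at d23
            rcases d23 with ⟨rfl, rfl⟩ | ⟨rfl, rfl⟩ | ⟨rfl, rfl⟩ | ⟨rfl, rfl⟩ | ⟨rfl, rfl⟩ | ⟨rfl, rfl⟩
            · -- 23=(0,0)
              refine ⟨(⟨![1, 0, 3, 2], ![1, 0, 3, 2], by decide, by decide⟩ : Equiv.Perm (Fin 4)), T.m 0, T.w 2, Or.inr (Or.inr (Or.inr (Or.inr (Or.inr (?_)))))⟩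
              show T.m 1 = 2 * T.m 0 ∧ T.m 0 = T.m 0 ∧ T.m 3 = T.m 0 ∧ T.m 2 = 2 * T.m 0 ∧ T.w 1 = 2 * T.w 2 ∧ T.w 0 = 2 * T.w 2 ∧ T.w 3 = 2 * T.w 2 ∧ T.w 2 = T.w 2 ∧ T.a 1 1 = -4 * T.w 2 ∧ T.a 1 0 = 2 * T.w 2 ∧ T.a 1 3 = 2 * T.w 2 ∧ T.a 1 2 = 2 * T.w 2 ∧ T.a 0 0 = -4 * T.w 2 ∧ T.a 0 3 = 0 ∧ T.a 0 2 = 0 ∧ T.a 3 3 = -4 * T.w 2 ∧ T.a 3 2 = 0 ∧ T.a 2 2 = -2 * T.w 2
              refine ⟨?_, ?_, ?_, ?_, ?_, ?_, ?_, ?_, ?_, ?_, ?_, ?_, ?_, ?_, ?_, ?_, ?_, ?_⟩ <;> omega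
            · -- 23=(1,1)
              exact False.elim (cert_false T ((skipEmb 0).trans v) (by norm_num) (fun _ => hv _) (((((((LB_zero T ((skipEmb 0).trans v)).upd 0 1 1 (le_of_eq hx12)).upd 0 2 1 (le_of_eq hx13)).upd 1 0 2 (le_of_eq hx21)).upd 1 2 1 (le_of_eq hx23)).upd 2 0 1 (le_of_eq hx31)).upd 2 1 1 (le_of_eq hx32)) ![1,1,1] (by decide) (by decide) 0 (by decide))
            · -- 23=(1,2)
              exact False.elim (cert_false T ((skipEmb 0).trans v) (by norm_num) (fun _ => hv _) (((((((LB_zero T ((skipEmb 0).trans v)).upd 0 1 1 (le_of_eq hx12)).upd 0 2 1 (le_of_eq hx13)).upd 1 0 2 (le_of_eq hx21)).upd 1 2 1 (le_of_eq hx23)).upd 2 0 1 (le_of_eq hx31)).upd 2 1 2 (le_of_eq hx32)) ![1,1,1] (by decide) (by decide) 0 (by decide))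
            · -- 23=(2,1)
              exact False.elim (cert_false T ((skipEmb 0).trans v) (by norm_num) (fun _ => hv _) (((((((LB_zero T ((skipEmb 0).trans v)).upd 0 1 1 (le_of_eq hx12)).upd 0 2 1 (le_of_eq hx13)).upd 1 0 2 (le_of_eq hx21)).upd 1 2 2 (le_of_eq hx23)).upd 2 0 1 (le_of_eq hx31)).upd 2 1 1 (le_of_eq hx32)) ![1,1,1] (by decide) (by decide) 0 (by decide))
            · -- 23=(1,3)
              exact False.elim (cert_false T ((skipEmb 0).trans v) (by norm_num) (fun _ => hv _) (((((((LB_zero T ((skipEmb 0).trans v)).upd 0 1 1 (le_of_eq hx12)).upd 0 2 1 (le_of_eq hx13)).upd 1 0 2 (le_of_eq hx21)).upd 1 2 1 (le_of_eq hx23)).upd 2 0 1 (le_of_eq hx31)).upd 2 1 3 (le_of_eq hx32)) ![1,1,1] (by decide) (by decide) 0 (by decide))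
            · -- 23=(3,1)
              exact False.elim (cert_false T ((skipEmb 0).trans v) (by norm_num) (fun _ => hv _) (((((((LB_zero T ((skipEmb 0).trans v)).upd 0 1 1 (le_of_eq hx12)).upd 0 2 1 (le_of_eq hx13)).upd 1 0 2 (le_of_eq hx21)).upd 1 2 3 (le_of_eq hx23)).upd 2 0 1 (le_of_eq hx31)).upd 2 1 1 (le_of_eq hx32)) ![1,1,1] (by decide) (by decide) 0 (by decide))
          · -- 13=(1,2)
            exact False.elim (cert_false T ((skipEmb 0).trans v) (by norm_num) (fun _ => hv _) (((((LB_zero T ((skipEmb 0).trans v)).upd 0 1 1 (le_of_eq hx12)).upd 0 2 1 (le_of_eq hx13)).upd 1 0 2 (le_of_eq hx21)).upd 2 0 2 (le_of_eq hx31)) ![1,1,1] (by decide) (by decide) 0 (by decide))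
          · -- 13=(2,1)
            exact False.elim (cert_false T ((skipEmb 0).trans v) (by norm_num) (fun _ => hv _) (((((LB_zero T ((skipEmb 0).trans v)).upd 0 1 1 (le_of_eq hx12)).upd 0 2 2 (le_of_eq hx13)).upd 1 0 2 (le_of_eq hx21)).upd 2 0 1 (le_of_eq hx31)) ![2,2,1] (by decide) (by decide) 0 (by decide))
          · -- 13=(1,3)
            exact False.elim (cert_false T ((skipEmb 2).trans v) (by norm_num) (fun _ => hv _) (((((LB_zero T ((skipEmb 2).trans v)).upd 0 1 1 (le_of_eq hx01)).upd 1 0 1 (le_of_eq hx10)).upd 1 2 1 (le_of_eq hx13)).upd 2 1 3 (le_of_eq hx31)) ![1,2,3] (by decide) (by decide) 0 (by decide))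
          · -- 13=(3,1)
            exact False.elim (cert_false T ((skipEmb 2).trans v) (by norm_num) (fun _ => hv _) (((((LB_zero T ((skipEmb 2).trans v)).upd 0 1 1 (le_of_eq hx01)).upd 1 0 1 (le_of_eq hx10)).upd 1 2 3 (le_of_eq hx13)).upd 2 1 1 (le_of_eq hx31)) ![1,2,1] (by decide) (by decide) 0 (by decide))
        · -- 03=(1,1)
          have d13 := two_pair T (by norm_num : 2 < 4) ((pairEmb 1 3 (by decide)).trans v) (fun _ => hv _)
          change (N T v 1 3 = 0 ∧ N T v 3 1 = 0) ∨ (N T v 1 3 = 1 ∧ N T v 3 1 = 1) ∨ (N T v 1 3 = 1 ∧ N T v 3 1 = 2) ∨ (N T v 1 3 = 2 ∧ N T v 3 1 = 1) ∨ (N T v 1 3 = 1 ∧ N T v 3 1 = 3) ∨ (N T v 1 3 = 3 ∧ N T v 3 1 = 1) at d13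
          rw [← hx13, ← hx31] at d13
          rcases d13 with ⟨rfl, rfl⟩ | ⟨rfl, rfl⟩ | ⟨rfl, rfl⟩ | ⟨rfl, rfl⟩ | ⟨rfl, rfl⟩ | ⟨rfl, rfl⟩
          · -- 13=(0,0)
            have d23 := two_pair T (by norm_num : 2 < 4) ((pairEmb 2 3 (by decide)).trans v) (fun _ => hv _)
            change (N T v 2 3 = 0 ∧ N T v 3 2 = 0) ∨ (N T v 2 3 = 1 ∧ N T v 3 2 = 1) ∨ (N T v 2 3 = 1 ∧ N T v 3 2 = 2) ∨ (N T v 2 3 = 2 ∧ N T v 3 2 = 1) ∨ (N T v 2 3 = 1 ∧ N T v 3 2 = 3) ∨ (N T v 2 3 = 3 ∧ N T v 3 2 = 1) at d23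
            rw [← hx23, ← hx32] at d23
            rcases d23 with ⟨rfl, rfl⟩ | ⟨rfl, rfl⟩ | ⟨rfl, rfl⟩ | ⟨rfl, rfl⟩ | ⟨rfl, rfl⟩ | ⟨rfl, rfl⟩
            · -- 23=(0,0)
              exfalso; omega
            · -- 23=(1,1)
              exfalso; omega
            · -- 23=(1,2)
              exact False.elim (cert_false T ((skipEmb 0).trans v) (by norm_num) (fun _ => hv _) (((((LB_zero T ((skipEmb 0).trans v)).upd 0 1 1 (le_of_eq hx12)).upd 1 0 2 (le_of_eq hx21)).upd 1 2 1 (le_of_eq hx23)).upd 2 1 2 (le_of_eq hx32)) ![1,2,2] (by decide) (by decide) 0 (by decide))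
            · -- 23=(2,1)
              exact False.elim (cert_false T ((skipEmb 0).trans v) (by norm_num) (fun _ => hv _) (((((LB_zero T ((skipEmb 0).trans v)).upd 0 1 1 (le_of_eq hx12)).upd 1 0 2 (le_of_eq hx21)).upd 1 2 2 (le_of_eq hx23)).upd 2 1 1 (le_of_eq hx32)) ![1,2,1] (by decide) (by decide) 0 (by decide))
            · -- 23=(1,3)
              exact False.elim (cert_false T ((skipEmb 1).trans v) (by norm_num) (fun _ => hv _) (((((LB_zero T ((skipEmb 1).trans v)).upd 0 2 1 (le_of_eq hx03)).upd 1 2 1 (le_of_eq hx23)).upd 2 0 1 (le_of_eq hx30)).upd 2 1 3 (le_of_eq hx32)) ![1,1,2] (by decide) (by decide) 0 (by decide))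
            · -- 23=(3,1)
              exact False.elim (cert_false T ((skipEmb 1).trans v) (by norm_num) (fun _ => hv _) (((((LB_zero T ((skipEmb 1).trans v)).upd 0 2 1 (le_of_eq hx03)).upd 1 2 3 (le_of_eq hx23)).upd 2 0 1 (le_of_eq hx30)).upd 2 1 1 (le_of_eq hx32)) ![1,3,2] (by decide) (by decide) 0 (by decide))
          · -- 13=(1,1)
            exact False.elim (cert_false T ((skipEmb 2).trans v) (by norm_num) (fun _ => hv _) (((((((LB_zero T ((skipEmb 2).trans v)).upd 0 1 1 (le_of_eq hx01)).upd 0 2 1 (le_of_eq hx03)).upd 1 0 1 (le_of_eq hx10)).upd 1 2 1 (le_of_eq hx13)).upd 2 0 1 (le_of_eq hx30)).upd 2 1 1 (le_of_eq hx31)) ![1,1,1] (by decide) (by decide) 0 (by decide))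
          · -- 13=(1,2)
            exact False.elim (cert_false T ((skipEmb 2).trans v) (by norm_num) (fun _ => hv _) (((((((LB_zero T ((skipEmb 2).trans v)).upd 0 1 1 (le_of_eq hx01)).upd 0 2 1 (le_of_eq hx03)).upd 1 0 1 (le_of_eq hx10)).upd 1 2 1 (le_of_eq hx13)).upd 2 0 1 (le_of_eq hx30)).upd 2 1 2 (le_of_eq hx31)) ![1,1,1] (by decide) (by decide) 0 (by decide))
          · -- 13=(2,1)
            exact False.elim (cert_false T ((skipEmb 2).trans v) (by norm_num) (fun _ => hv _) (((((((LB_zero T ((skipEmb 2).trans v)).upd 0 1 1 (le_of_eq hx01)).upd 0 2 1 (le_of_eq hx03)).upd 1 0 1 (le_of_eq hx10)).upd 1 2 2 (le_of_eq hx13)).upd 2 0 1 (le_of_eq hx30)).upd 2 1 1 (le_of_eq hx31)) ![1,1,1] (by decide) (by decide) 0 (by decide))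
          · -- 13=(1,3)
            exact False.elim (cert_false T ((skipEmb 2).trans v) (by norm_num) (fun _ => hv _) (((((((LB_zero T ((skipEmb 2).trans v)).upd 0 1 1 (le_of_eq hx01)).upd 0 2 1 (le_of_eq hx03)).upd 1 0 1 (le_of_eq hx10)).upd 1 2 1 (le_of_eq hx13)).upd 2 0 1 (le_of_eq hx30)).upd 2 1 3 (le_of_eq hx31)) ![1,1,1] (by decide) (by decide) 0 (by decide))
          · -- 13=(3,1)
            exact False.elim (cert_false T ((skipEmb 2).trans v) (by norm_num) (fun _ => hv _) (((((((LB_zero T ((skipEmb 2).trans v)).upd 0 1 1 (le_of_eq hx01)).upd 0 2 1 (le_of_eq hx03)).upd 1 0 1 (le_of_eq hx10)).upd 1 2 3 (le_of_eq hx13)).upd 2 0 1 (le_of_eq hx30)).upd 2 1 1 (le_of_eq hx31)) ![1,1,1] (by decide) (by decide) 0 (by decide))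
        · -- 03=(1,2)
          have d13 := two_pair T (by norm_num : 2 < 4) ((pairEmb 1 3 (by decide)).trans v) (fun _ => hv _)
          change (N T v 1 3 = 0 ∧ N T v 3 1 = 0) ∨ (N T v 1 3 = 1 ∧ N T v 3 1 = 1) ∨ (N T v 1 3 = 1 ∧ N T v 3 1 = 2) ∨ (N T v 1 3 = 2 ∧ N T v 3 1 = 1) ∨ (N T v 1 3 = 1 ∧ N T v 3 1 = 3) ∨ (N T v 1 3 = 3 ∧ N T v 3 1 = 1) at d13
          rw [← hx13, ← hx31] at d13
          rcases d13 with ⟨rfl, rfl⟩ | ⟨rfl, rfl⟩ | ⟨rfl, rfl⟩ | ⟨rfl, rfl⟩ | ⟨rfl, rfl⟩ | ⟨rfl, rfl⟩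
          · -- 13=(0,0)
            have d23 := two_pair T (by norm_num : 2 < 4) ((pairEmb 2 3 (by decide)).trans v) (fun _ => hv _)
            change (N T v 2 3 = 0 ∧ N T v 3 2 = 0) ∨ (N T v 2 3 = 1 ∧ N T v 3 2 = 1) ∨ (N T v 2 3 = 1 ∧ N T v 3 2 = 2) ∨ (N T v 2 3 = 2 ∧ N T v 3 2 = 1) ∨ (N T v 2 3 = 1 ∧ N T v 3 2 = 3) ∨ (N T v 2 3 = 3 ∧ N T v 3 2 = 1) at d23
            rw [← hx23, ← hx32] at d23
            rcases d23 with ⟨rfl, rfl⟩ | ⟨rfl, rfl⟩ | ⟨rfl, rfl⟩ | ⟨rfl, rfl⟩ | ⟨rfl, rfl⟩ | ⟨rfl, rfl⟩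
            · -- 23=(0,0)
              refine ⟨(⟨![2, 1, 0, 3], ![2, 1, 0, 3], by decide, by decide⟩ : Equiv.Perm (Fin 4)), T.m 2, T.w 2, Or.inr (Or.inr (Or.inl ?_))⟩
              show T.m 2 = T.m 2 ∧ T.m 1 = T.m 2 ∧ T.m 0 = T.m 2 ∧ T.m 3 = T.m 2 ∧ T.w 2 = T.w 2 ∧ T.w 1 = 2 * T.w 2 ∧ T.w 0 = 2 * T.w 2 ∧ T.w 3 = T.w 2 ∧ T.a 2 2 = -2 * T.w 2 ∧ T.a 2 1 = 2 * T.w 2 ∧ T.a 2 0 = 0 ∧ T.a 2 3 = 0 ∧ T.a 1 1 = -4 * T.w 2 ∧ T.a 1 0 = 2 * T.w 2 ∧ T.a 1 3 = 0 ∧ T.a 0 0 = -4 * T.w 2 ∧ T.a 0 3 = 2 * T.w 2 ∧ T.a 3 3 = -2 * T.w 2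
              refine ⟨?_, ?_, ?_, ?_, ?_, ?_, ?_, ?_, ?_, ?_, ?_, ?_, ?_, ?_, ?_, ?_, ?_, ?_⟩ <;> omega
            · -- 23=(1,1)
              exfalso; omega
            · -- 23=(1,2)
              exact False.elim (cert_false T ((skipEmb 1).trans v) (by norm_num) (fun _ => hv _) (((((LB_zero T ((skipEmb 1).trans v)).upd 0 2 1 (le_of_eq hx03)).upd 1 2 1 (le_of_eq hx23)).upd 2 0 2 (le_of_eq hx30)).upd 2 1 2 (le_of_eq hx32)) ![1,1,2] (by decide) (by decide) 0 (by decide))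
            · -- 23=(2,1)
              exact False.elim (cert_false T ((skipEmb 1).trans v) (by norm_num) (fun _ => hv _) (((((LB_zero T ((skipEmb 1).trans v)).upd 0 2 1 (le_of_eq hx03)).upd 1 2 2 (le_of_eq hx23)).upd 2 0 2 (le_of_eq hx30)).upd 2 1 1 (le_of_eq hx32)) ![1,2,2] (by decide) (by decide) 0 (by decide))
            · -- 23=(1,3)
              exact False.elim (cert_false T ((skipEmb 1).trans v) (by norm_num) (fun _ => hv _) (((((LB_zero T ((skipEmb 1).trans v)).upd 0 2 1 (le_of_eq hx03)).upd 1 2 1 (le_of_eq hx23)).upd 2 0 2 (le_of_eq hx30)).upd 2 1 3 (le_of_eq hx32)) ![1,1,2] (by decide) (by decide) 0 (by decide))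
            · -- 23=(3,1)
              exact False.elim (cert_false T ((skipEmb 1).trans v) (by norm_num) (fun _ => hv _) (((((LB_zero T ((skipEmb 1).trans v)).upd 0 2 1 (le_of_eq hx03)).upd 1 2 3 (le_of_eq hx23)).upd 2 0 2 (le_of_eq hx30)).upd 2 1 1 (le_of_eq hx32)) ![1,2,2] (by decide) (by decide) 0 (by decide))
          · -- 13=(1,1)
            exact False.elim (cert_false T ((skipEmb 2).trans v) (by norm_num) (fun _ => hv _) (((((((LB_zero T ((skipEmb 2).trans v)).upd 0 1 1 (le_of_eq hx01)).upd 0 2 1 (le_of_eq hx03)).upd 1 0 1 (le_of_eq hx10)).upd 1 2 1 (le_of_eq hx13)).upd 2 0 2 (le_of_eq hx30)).upd 2 1 1 (le_of_eq hx31)) ![1,1,1] (by decide) (by decide) 0 (by decide))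
          · -- 13=(1,2)
            exact False.elim (cert_false T ((skipEmb 2).trans v) (by norm_num) (fun _ => hv _) (((((((LB_zero T ((skipEmb 2).trans v)).upd 0 1 1 (le_of_eq hx01)).upd 0 2 1 (le_of_eq hx03)).upd 1 0 1 (le_of_eq hx10)).upd 1 2 1 (le_of_eq hx13)).upd 2 0 2 (le_of_eq hx30)).upd 2 1 2 (le_of_eq hx31)) ![1,1,1] (by decide) (by decide) 0 (by decide))
          · -- 13=(2,1)
            exact False.elim (cert_false T ((skipEmb 2).trans v) (by norm_num) (fun _ => hv _) (((((((LB_zero T ((skipEmb 2).trans v)).upd 0 1 1 (le_of_eq hx01)).upd 0 2 1 (le_of_eq hx03)).upd 1 0 1 (le_of_eq hx10)).upd 1 2 2 (le_of_eq hx13)).upd 2 0 2 (le_of_eq hx30)).upd 2 1 1 (le_of_eq hx31)) ![1,1,1] (by decide) (by decide) 0 (by decide))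
          · -- 13=(1,3)
            exact False.elim (cert_false T ((skipEmb 2).trans v) (by norm_num) (fun _ => hv _) (((((((LB_zero T ((skipEmb 2).trans v)).upd 0 1 1 (le_of_eq hx01)).upd 0 2 1 (le_of_eq hx03)).upd 1 0 1 (le_of_eq hx10)).upd 1 2 1 (le_of_eq hx13)).upd 2 0 2 (le_of_eq hx30)).upd 2 1 3 (le_of_eq hx31)) ![1,1,1] (by decide) (by decide) 0 (by decide))
          · -- 13=(3,1)
            exact False.elim (cert_false T ((skipEmb 2).trans v) (by norm_num) (fun _ => hv _) (((((((LB_zero T ((skipEmb 2).trans v)).upd 0 1 1 (le_of_eq hx01)).upd 0 2 1 (le_of_eq hx03)).upd 1 0 1 (le_of_eq hx10)).upd 1 2 3 (le_of_eq hx13)).upd 2 0 2 (le_of_eq hx30)).upd 2 1 1 (le_of_eq hx31)) ![1,1,1] (by decide) (by decide) 0 (by decide))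
        · -- 03=(2,1)
          have d13 := two_pair T (by norm_num : 2 < 4) ((pairEmb 1 3 (by decide)).trans v) (fun _ => hv _)
          change (N T v 1 3 = 0 ∧ N T v 3 1 = 0) ∨ (N T v 1 3 = 1 ∧ N T v 3 1 = 1) ∨ (N T v 1 3 = 1 ∧ N T v 3 1 = 2) ∨ (N T v 1 3 = 2 ∧ N T v 3 1 = 1) ∨ (N T v 1 3 = 1 ∧ N T v 3 1 = 3) ∨ (N T v 1 3 = 3 ∧ N T v 3 1 = 1) at d13
          rw [← hx13, ← hx31] at d13
          rcases d13 with ⟨rfl, rfl⟩ | ⟨rfl, rfl⟩ | ⟨rfl, rfl⟩ | ⟨rfl, rfl⟩ | ⟨rfl, rfl⟩ | ⟨rfl, rfl⟩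
          · -- 13=(0,0)
            have d23 := two_pair T (by norm_num : 2 < 4) ((pairEmb 2 3 (by decide)).trans v) (fun _ => hv _)
            change (N T v 2 3 = 0 ∧ N T v 3 2 = 0) ∨ (N T v 2 3 = 1 ∧ N T v 3 2 = 1) ∨ (N T v 2 3 = 1 ∧ N T v 3 2 = 2) ∨ (N T v 2 3 = 2 ∧ N T v 3 2 = 1) ∨ (N T v 2 3 = 1 ∧ N T v 3 2 = 3) ∨ (N T v 2 3 = 3 ∧ N T v 3 2 = 1) at d23
            rw [← hx23, ← hx32] at d23
            rcases d23 with ⟨rfl, rfl⟩ | ⟨rfl, rfl⟩ | ⟨rfl, rfl⟩ | ⟨rfl, rfl⟩ | ⟨rfl, rfl⟩ | ⟨rfl, rfl⟩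
            · -- 23=(0,0)
              refine ⟨(⟨![2, 1, 0, 3], ![2, 1, 0, 3], by decide, by decide⟩ : Equiv.Perm (Fin 4)), T.m 3, T.w 2, Or.inr (Or.inl ?_)⟩
              show T.m 2 = 2 * T.m 3 ∧ T.m 1 = 2 * T.m 3 ∧ T.m 0 = 2 * T.m 3 ∧ T.m 3 = T.m 3 ∧ T.w 2 = T.w 2 ∧ T.w 1 = 2 * T.w 2 ∧ T.w 0 = 2 * T.w 2 ∧ T.w 3 = 4 * T.w 2 ∧ T.a 2 2 = -2 * T.w 2 ∧ T.a 2 1 = 2 * T.w 2 ∧ T.a 2 0 = 0 ∧ T.a 2 3 = 0 ∧ T.a 1 1 = -4 * T.w 2 ∧ T.a 1 0 = 2 * T.w 2 ∧ T.a 1 3 = 0 ∧ T.a 0 0 = -4 * T.w 2 ∧ T.a 0 3 = 4 * T.w 2 ∧ T.a 3 3 = -8 * T.w 2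
              refine ⟨?_, ?_, ?_, ?_, ?_, ?_, ?_, ?_, ?_, ?_, ?_, ?_, ?_, ?_, ?_, ?_, ?_, ?_⟩ <;> omega
            · -- 23=(1,1)
              exfalso; omega
            · -- 23=(1,2)
              exact False.elim (cert_false T ((skipEmb 1).trans v) (by norm_num) (fun _ => hv _) (((((LB_zero T ((skipEmb 1).trans v)).upd 0 2 2 (le_of_eq hx03)).upd 1 2 1 (le_of_eq hx23)).upd 2 0 1 (le_of_eq hx30)).upd 2 1 2 (le_of_eq hx32)) ![2,1,2] (by decide) (by decide) 0 (by decide))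
            · -- 23=(2,1)
              exact False.elim (cert_false T ((skipEmb 1).trans v) (by norm_num) (fun _ => hv _) (((((LB_zero T ((skipEmb 1).trans v)).upd 0 2 2 (le_of_eq hx03)).upd 1 2 2 (le_of_eq hx23)).upd 2 0 1 (le_of_eq hx30)).upd 2 1 1 (le_of_eq hx32)) ![1,1,1] (by decide) (by decide) 0 (by decide))
            · -- 23=(1,3)
              exact False.elim (cert_false T ((skipEmb 1).trans v) (by norm_num) (fun _ => hv _) (((((LB_zero T ((skipEmb 1).trans v)).upd 0 2 2 (le_of_eq hx03)).upd 1 2 1 (le_of_eq hx23)).upd 2 0 1 (le_of_eq hx30)).upd 2 1 3 (le_of_eq hx32)) ![1,1,2] (by decide) (by decide) 0 (by decide))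
            · -- 23=(3,1)
              exact False.elim (cert_false T ((skipEmb 1).trans v) (by norm_num) (fun _ => hv _) (((((LB_zero T ((skipEmb 1).trans v)).upd 0 2 2 (le_of_eq hx03)).upd 1 2 3 (le_of_eq hx23)).upd 2 0 1 (le_of_eq hx30)).upd 2 1 1 (le_of_eq hx32)) ![1,1,1] (by decide) (by decide) 0 (by decide))
          · -- 13=(1,1)
            exact False.elim (cert_false T ((skipEmb 2).trans v) (by norm_num) (fun _ => hv _) (((((((LB_zero T ((skipEmb 2).trans v)).upd 0 1 1 (le_of_eq hx01)).upd 0 2 2 (le_of_eq hx03)).upd 1 0 1 (le_of_eq hx10)).upd 1 2 1 (le_of_eq hx13)).upd 2 0 1 (le_of_eq hx30)).upd 2 1 1 (le_of_eq hx31)) ![1,1,1] (by decide) (by decide) 0 (by decide))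
          · -- 13=(1,2)
            exact False.elim (cert_false T ((skipEmb 2).trans v) (by norm_num) (fun _ => hv _) (((((((LB_zero T ((skipEmb 2).trans v)).upd 0 1 1 (le_of_eq hx01)).upd 0 2 2 (le_of_eq hx03)).upd 1 0 1 (le_of_eq hx10)).upd 1 2 1 (le_of_eq hx13)).upd 2 0 1 (le_of_eq hx30)).upd 2 1 2 (le_of_eq hx31)) ![1,1,1] (by decide) (by decide) 0 (by decide))
          · -- 13=(2,1)
            exact False.elim (cert_false T ((skipEmb 2).trans v) (by norm_num) (fun _ => hv _) (((((((LB_zero T ((skipEmb 2).trans v)).upd 0 1 1 (le_of_eq hx01)).upd 0 2 2 (le_of_eq hx03)).upd 1 0 1 (le_of_eq hx10)).upd 1 2 2 (le_of_eq hx13)).upd 2 0 1 (le_of_eq hx30)).upd 2 1 1 (le_of_eq hx31)) ![1,1,1] (by decide) (by decide) 0 (by decide))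
          · -- 13=(1,3)
            exact False.elim (cert_false T ((skipEmb 2).trans v) (by norm_num) (fun _ => hv _) (((((((LB_zero T ((skipEmb 2).trans v)).upd 0 1 1 (le_of_eq hx01)).upd 0 2 2 (le_of_eq hx03)).upd 1 0 1 (le_of_eq hx10)).upd 1 2 1 (le_of_eq hx13)).upd 2 0 1 (le_of_eq hx30)).upd 2 1 3 (le_of_eq hx31)) ![1,1,1] (by decide) (by decide) 0 (by decide))
          · -- 13=(3,1)
            exact False.elim (cert_false T ((skipEmb 2).trans v) (by norm_num) (fun _ => hv _) (((((((LB_zero T ((skipEmb 2).trans v)).upd 0 1 1 (le_of_eq hx01)).upd 0 2 2 (le_of_eq hx03)).upd 1 0 1 (le_of_eq hx10)).upd 1 2 3 (le_of_eq hx13)).upd 2 0 1 (le_of_eq hx30)).upd 2 1 1 (le_of_eq hx31)) ![1,1,1] (by decide) (by decide) 0 (by decide))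
        · -- 03=(1,3)
          exact False.elim (cert_false T ((skipEmb 2).trans v) (by norm_num) (fun _ => hv _) (((((LB_zero T ((skipEmb 2).trans v)).upd 0 1 1 (le_of_eq hx01)).upd 0 2 1 (le_of_eq hx03)).upd 1 0 1 (le_of_eq hx10)).upd 2 0 3 (le_of_eq hx30)) ![2,1,3] (by decide) (by decide) 0 (by decide))
        · -- 03=(3,1)
          exact False.elim (cert_false T ((skipEmb 2).trans v) (by norm_num) (fun _ => hv _) (((((LB_zero T ((skipEmb 2).trans v)).upd 0 1 1 (le_of_eq hx01)).upd 0 2 3 (le_of_eq hx03)).upd 1 0 1 (le_of_eq hx10)).upd 2 0 1 (le_of_eq hx30)) ![2,1,1] (by decide) (by decide) 0 (by decide))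
      · -- 12=(2,1)
        have d03 := two_pair T (by norm_num : 2 < 4) ((pairEmb 0 3 (by decide)).trans v) (fun _ => hv _)
        change (N T v 0 3 = 0 ∧ N T v 3 0 = 0) ∨ (N T v 0 3 = 1 ∧ N T v 3 0 = 1) ∨ (N T v 0 3 = 1 ∧ N T v 3 0 = 2) ∨ (N T v 0 3 = 2 ∧ N T v 3 0 = 1) ∨ (N T v 0 3 = 1 ∧ N T v 3 0 = 3) ∨ (N T v 0 3 = 3 ∧ N T v 3 0 = 1) at d03
        rw [← hx03, ← hx30] at d03
        rcases d03 with ⟨rfl, rfl⟩ | ⟨rfl, rfl⟩ | ⟨rfl, rfl⟩ | ⟨rfl, rfl⟩ | ⟨rfl, rfl⟩ | ⟨rfl, rfl⟩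
        · -- 03=(0,0)
          have d13 := two_pair T (by norm_num : 2 < 4) ((pairEmb 1 3 (by decide)).trans v) (fun _ => hv _)
          change (N T v 1 3 = 0 ∧ N T v 3 1 = 0) ∨ (N T v 1 3 = 1 ∧ N T v 3 1 = 1) ∨ (N T v 1 3 = 1 ∧ N T v 3 1 = 2) ∨ (N T v 1 3 = 2 ∧ N T v 3 1 = 1) ∨ (N T v 1 3 = 1 ∧ N T v 3 1 = 3) ∨ (N T v 1 3 = 3 ∧ N T v 3 1 = 1) at d13
          rw [← hx13, ← hx31] at d13
          rcases d13 with ⟨rfl, rfl⟩ | ⟨rfl, rfl⟩ | ⟨rfl, rfl⟩ | ⟨rfl, rfl⟩ | ⟨rfl, rfl⟩ | ⟨rfl, rfl⟩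
          · -- 13=(0,0)
            have d23 := two_pair T (by norm_num : 2 < 4) ((pairEmb 2 3 (by decide)).trans v) (fun _ => hv _)
            change (N T v 2 3 = 0 ∧ N T v 3 2 = 0) ∨ (N T v 2 3 = 1 ∧ N T v 3 2 = 1) ∨ (N T v 2 3 = 1 ∧ N T v 3 2 = 2) ∨ (N T v 2 3 = 2 ∧ N T v 3 2 = 1) ∨ (N T v 2 3 = 1 ∧ N T v 3 2 = 3) ∨ (N T v 2 3 = 3 ∧ N T v 3 2 = 1) at d23
            rw [← hx23, ← hx32] at d23
            rcases d23 with ⟨rfl, rfl⟩ | ⟨rfl, rfl⟩ | ⟨rfl, rfl⟩ | ⟨rfl, rfl⟩ | ⟨rfl, rfl⟩ | ⟨rfl, rfl⟩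
            · -- 23=(0,0)
              exfalso; omega
            · -- 23=(1,1)
              exfalso; omega
            · -- 23=(1,2)
              exact False.elim (cert_false T ((skipEmb 0).trans v) (by norm_num) (fun _ => hv _) (((((LB_zero T ((skipEmb 0).trans v)).upd 0 1 2 (le_of_eq hx12)).upd 1 0 1 (le_of_eq hx21)).upd 1 2 1 (le_of_eq hx23)).upd 2 1 2 (le_of_eq hx32)) ![1,1,1] (by decide) (by decide) 0 (by decide))
            · -- 23=(2,1)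
              exact False.elim (cert_false T ((skipEmb 0).trans v) (by norm_num) (fun _ => hv _) (((((LB_zero T ((skipEmb 0).trans v)).upd 0 1 2 (le_of_eq hx12)).upd 1 0 1 (le_of_eq hx21)).upd 1 2 2 (le_of_eq hx23)).upd 2 1 1 (le_of_eq hx32)) ![2,2,1] (by decide) (by decide) 0 (by decide))
            · -- 23=(1,3)
              exact False.elim (cert_false T ((skipEmb 0).trans v) (by norm_num) (fun _ => hv _) (((((LB_zero T ((skipEmb 0).trans v)).upd 0 1 2 (le_of_eq hx12)).upd 1 0 1 (le_of_eq hx21)).upd 1 2 1 (le_of_eq hx23)).upd 2 1 3 (le_of_eq hx32)) ![1,1,1] (by decide) (by decide) 0 (by decide))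
            · -- 23=(3,1)
              exact False.elim (cert_false T ((skipEmb 0).trans v) (by norm_num) (fun _ => hv _) (((((LB_zero T ((skipEmb 0).trans v)).upd 0 1 2 (le_of_eq hx12)).upd 1 0 1 (le_of_eq hx21)).upd 1 2 3 (le_of_eq hx23)).upd 2 1 1 (le_of_eq hx32)) ![1,2,1] (by decide) (by decide) 0 (by decide))
          · -- 13=(1,1)
            have d23 := two_pair T (by norm_num : 2 < 4) ((pairEmb 2 3 (by decide)).trans v) (fun _ => hv _)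
            change (N T v 2 3 = 0 ∧ N T v 3 2 = 0) ∨ (N T v 2 3 = 1 ∧ N T v 3 2 = 1) ∨ (N T v 2 3 = 1 ∧ N T v 3 2 = 2) ∨ (N T v 2 3 = 2 ∧ N T v 3 2 = 1) ∨ (N T v 2 3 = 1 ∧ N T v 3 2 = 3) ∨ (N T v 2 3 = 3 ∧ N T v 3 2 = 1) at d23
            rw [← hx23, ← hx32] at d23
            rcases d23 with ⟨rfl, rfl⟩ | ⟨rfl, rfl⟩ | ⟨rfl, rfl⟩ | ⟨rfl, rfl⟩ | ⟨rfl, rfl⟩ | ⟨rfl, rfl⟩
            · -- 23=(0,0)
              refine ⟨(⟨![1, 0, 3, 2], ![1, 0, 3, 2], by decide, by decide⟩ : Equiv.Perm (Fin 4)), T.m 0, T.w 1, Or.inr (Or.inr (Or.inr (Or.inr (Or.inl ?_))))⟩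
              show T.m 1 = 2 * T.m 0 ∧ T.m 0 = T.m 0 ∧ T.m 3 = T.m 0 ∧ T.m 2 = T.m 0 ∧ T.w 1 = T.w 1 ∧ T.w 0 = T.w 1 ∧ T.w 3 = T.w 1 ∧ T.w 2 = 2 * T.w 1 ∧ T.a 1 1 = -2 * T.w 1 ∧ T.a 1 0 = T.w 1 ∧ T.a 1 3 = T.w 1 ∧ T.a 1 2 = 2 * T.w 1 ∧ T.a 0 0 = -2 * T.w 1 ∧ T.a 0 3 = 0 ∧ T.a 0 2 = 0 ∧ T.a 3 3 = -2 * T.w 1 ∧ T.a 3 2 = 0 ∧ T.a 2 2 = -4 * T.w 1
              refine ⟨?_, ?_, ?_, ?_, ?_, ?_, ?_, ?_, ?_, ?_, ?_, ?_, ?_, ?_, ?_, ?_, ?_, ?_⟩ <;> omega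
            · -- 23=(1,1)
              exact False.elim (cert_false T ((skipEmb 0).trans v) (by norm_num) (fun _ => hv _) (((((((LB_zero T ((skipEmb 0).trans v)).upd 0 1 2 (le_of_eq hx12)).upd 0 2 1 (le_of_eq hx13)).upd 1 0 1 (le_of_eq hx21)).upd 1 2 1 (le_of_eq hx23)).upd 2 0 1 (le_of_eq hx31)).upd 2 1 1 (le_of_eq hx32)) ![1,1,1] (by decide) (by decide) 0 (by decide))
            · -- 23=(1,2)
              exact False.elim (cert_false T ((skipEmb 0).trans v) (by norm_num) (fun _ => hv _) (((((((LB_zero T ((skipEmb 0).trans v)).upd 0 1 2 (le_of_eq hx12)).upd 0 2 1 (le_of_eq hx13)).upd 1 0 1 (le_of_eq hx21)).upd 1 2 1 (le_of_eq hx23)).upd 2 0 1 (le_of_eq hx31)).upd 2 1 2 (le_of_eq hx32)) ![1,1,1] (by decide) (by decide) 0 (by decide))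
            · -- 23=(2,1)
              exact False.elim (cert_false T ((skipEmb 0).trans v) (by norm_num) (fun _ => hv _) (((((((LB_zero T ((skipEmb 0).trans v)).upd 0 1 2 (le_of_eq hx12)).upd 0 2 1 (le_of_eq hx13)).upd 1 0 1 (le_of_eq hx21)).upd 1 2 2 (le_of_eq hx23)).upd 2 0 1 (le_of_eq hx31)).upd 2 1 1 (le_of_eq hx32)) ![1,1,1] (by decide) (by decide) 0 (by decide))
            · -- 23=(1,3)
              exact False.elim (cert_false T ((skipEmb 0).trans v) (by norm_num) (fun _ => hv _) (((((((LB_zero T ((skipEmb 0).trans v)).upd 0 1 2 (le_of_eq hx12)).upd 0 2 1 (le_of_eq hx13)).upd 1 0 1 (le_of_eq hx21)).upd 1 2 1 (le_of_eq hx23)).upd 2 0 1 (le_of_eq hx31)).upd 2 1 3 (le_of_eq hx32)) ![1,1,1] (by decide) (by decide) 0 (by decide))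
            · -- 23=(3,1)
              exact False.elim (cert_false T ((skipEmb 0).trans v) (by norm_num) (fun _ => hv _) (((((((LB_zero T ((skipEmb 0).trans v)).upd 0 1 2 (le_of_eq hx12)).upd 0 2 1 (le_of_eq hx13)).upd 1 0 1 (le_of_eq hx21)).upd 1 2 3 (le_of_eq hx23)).upd 2 0 1 (le_of_eq hx31)).upd 2 1 1 (le_of_eq hx32)) ![1,1,1] (by decide) (by decide) 0 (by decide))
          · -- 13=(1,2)
            exact False.elim (cert_false T ((skipEmb 0).trans v) (by norm_num) (fun _ => hv _) (((((LB_zero T ((skipEmb 0).trans v)).upd 0 1 2 (le_of_eq hx12)).upd 0 2 1 (le_of_eq hx13)).upd 1 0 1 (le_of_eq hx21)).upd 2 0 2 (le_of_eq hx31)) ![2,1,2] (by decide) (by decide) 0 (by decide))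
          · -- 13=(2,1)
            exact False.elim (cert_false T ((skipEmb 0).trans v) (by norm_num) (fun _ => hv _) (((((LB_zero T ((skipEmb 0).trans v)).upd 0 1 2 (le_of_eq hx12)).upd 0 2 2 (le_of_eq hx13)).upd 1 0 1 (le_of_eq hx21)).upd 2 0 1 (le_of_eq hx31)) ![2,1,1] (by decide) (by decide) 0 (by decide))
          · -- 13=(1,3)
            exact False.elim (cert_false T ((skipEmb 2).trans v) (by norm_num) (fun _ => hv _) (((((LB_zero T ((skipEmb 2).trans v)).upd 0 1 1 (le_of_eq hx01)).upd 1 0 1 (le_of_eq hx10)).upd 1 2 1 (le_of_eq hx13)).upd 2 1 3 (le_of_eq hx31)) ![1,2,3] (by decide) (by decide) 0 (by decide))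
          · -- 13=(3,1)
            exact False.elim (cert_false T ((skipEmb 2).trans v) (by norm_num) (fun _ => hv _) (((((LB_zero T ((skipEmb 2).trans v)).upd 0 1 1 (le_of_eq hx01)).upd 1 0 1 (le_of_eq hx10)).upd 1 2 3 (le_of_eq hx13)).upd 2 1 1 (le_of_eq hx31)) ![1,2,1] (by decide) (by decide) 0 (by decide))
        · -- 03=(1,1)
          have d13 := two_pair T (by norm_num : 2 < 4) ((pairEmb 1 3 (by decide)).trans v) (fun _ => hv _)
          change (N T v 1 3 = 0 ∧ N T v 3 1 = 0) ∨ (N T v 1 3 = 1 ∧ N T v 3 1 = 1) ∨ (N T v 1 3 = 1 ∧ N T v 3 1 = 2) ∨ (N T v 1 3 = 2 ∧ N T v 3 1 = 1) ∨ (N T v 1 3 = 1 ∧ N T v 3 1 = 3) ∨ (N T v 1 3 = 3 ∧ N T v 3 1 = 1) at d13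
          rw [← hx13, ← hx31] at d13
          rcases d13 with ⟨rfl, rfl⟩ | ⟨rfl, rfl⟩ | ⟨rfl, rfl⟩ | ⟨rfl, rfl⟩ | ⟨rfl, rfl⟩ | ⟨rfl, rfl⟩
          · -- 13=(0,0)
            have d23 := two_pair T (by norm_num : 2 < 4) ((pairEmb 2 3 (by decide)).trans v) (fun _ => hv _)
            change (N T v 2 3 = 0 ∧ N T v 3 2 = 0) ∨ (N T v 2 3 = 1 ∧ N T v 3 2 = 1) ∨ (N T v 2 3 = 1 ∧ N T v 3 2 = 2) ∨ (N T v 2 3 = 2 ∧ N T v 3 2 = 1) ∨ (N T v 2 3 = 1 ∧ N T v 3 2 = 3) ∨ (N T v 2 3 = 3 ∧ N T v 3 2 = 1) at d23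
            rw [← hx23, ← hx32] at d23
            rcases d23 with ⟨rfl, rfl⟩ | ⟨rfl, rfl⟩ | ⟨rfl, rfl⟩ | ⟨rfl, rfl⟩ | ⟨rfl, rfl⟩ | ⟨rfl, rfl⟩
            · -- 23=(0,0)
              exfalso; omega
            · -- 23=(1,1)
              exfalso; omega
            · -- 23=(1,2)
              exact False.elim (cert_false T ((skipEmb 0).trans v) (by norm_num) (fun _ => hv _) (((((LB_zero T ((skipEmb 0).trans v)).upd 0 1 2 (le_of_eq hx12)).upd 1 0 1 (le_of_eq hx21)).upd 1 2 1 (le_of_eq hx23)).upd 2 1 2 (le_of_eq hx32)) ![1,1,1] (by decide) (by decide) 0 (by decide))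
            · -- 23=(2,1)
              exact False.elim (cert_false T ((skipEmb 0).trans v) (by norm_num) (fun _ => hv _) (((((LB_zero T ((skipEmb 0).trans v)).upd 0 1 2 (le_of_eq hx12)).upd 1 0 1 (le_of_eq hx21)).upd 1 2 2 (le_of_eq hx23)).upd 2 1 1 (le_of_eq hx32)) ![2,2,1] (by decide) (by decide) 0 (by decide))
            · -- 23=(1,3)
              exact False.elim (cert_false T ((skipEmb 1).trans v) (by norm_num) (fun _ => hv _) (((((LB_zero T ((skipEmb 1).trans v)).upd 0 2 1 (le_of_eq hx03)).upd 1 2 1 (le_of_eq hx23)).upd 2 0 1 (le_of_eq hx30)).upd 2 1 3 (le_of_eq hx32)) ![1,1,2] (by decide) (by decide) 0 (by decide))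
            · -- 23=(3,1)
              exact False.elim (cert_false T ((skipEmb 1).trans v) (by norm_num) (fun _ => hv _) (((((LB_zero T ((skipEmb 1).trans v)).upd 0 2 1 (le_of_eq hx03)).upd 1 2 3 (le_of_eq hx23)).upd 2 0 1 (le_of_eq hx30)).upd 2 1 1 (le_of_eq hx32)) ![1,3,2] (by decide) (by decide) 0 (by decide))
          · -- 13=(1,1)
            exact False.elim (cert_false T ((skipEmb 2).trans v) (by norm_num) (fun _ => hv _) (((((((LB_zero T ((skipEmb 2).trans v)).upd 0 1 1 (le_of_eq hx01)).upd 0 2 1 (le_of_eq hx03)).upd 1 0 1 (le_of_eq hx10)).upd 1 2 1 (le_of_eq hx13)).upd 2 0 1 (le_of_eq hx30)).upd 2 1 1 (le_of_eq hx31)) ![1,1,1] (by decide) (by decide) 0 (by decide))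
          · -- 13=(1,2)
            exact False.elim (cert_false T ((skipEmb 2).trans v) (by norm_num) (fun _ => hv _) (((((((LB_zero T ((skipEmb 2).trans v)).upd 0 1 1 (le_of_eq hx01)).upd 0 2 1 (le_of_eq hx03)).upd 1 0 1 (le_of_eq hx10)).upd 1 2 1 (le_of_eq hx13)).upd 2 0 1 (le_of_eq hx30)).upd 2 1 2 (le_of_eq hx31)) ![1,1,1] (by decide) (by decide) 0 (by decide))
          · -- 13=(2,1)
            exact False.elim (cert_false T ((skipEmb 2).trans v) (by norm_num) (fun _ => hv _) (((((((LB_zero T ((skipEmb 2).trans v)).upd 0 1 1 (le_of_eq hx01)).upd 0 2 1 (le_of_eq hx03)).upd 1 0 1 (le_of_eq hx10)).upd 1 2 2 (le_of_eq hx13)).upd 2 0 1 (le_of_eq hx30)).upd 2 1 1 (le_of_eq hx31)) ![1,1,1] (by decide) (by decide) 0 (by decide))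
          · -- 13=(1,3)
            exact False.elim (cert_false T ((skipEmb 2).trans v) (by norm_num) (fun _ => hv _) (((((((LB_zero T ((skipEmb 2).trans v)).upd 0 1 1 (le_of_eq hx01)).upd 0 2 1 (le_of_eq hx03)).upd 1 0 1 (le_of_eq hx10)).upd 1 2 1 (le_of_eq hx13)).upd 2 0 1 (le_of_eq hx30)).upd 2 1 3 (le_of_eq hx31)) ![1,1,1] (by decide) (by decide) 0 (by decide))
          · -- 13=(3,1)
            exact False.elim (cert_false T ((skipEmb 2).trans v) (by norm_num) (fun _ => hv _) (((((((LB_zero T ((skipEmb 2).trans v)).upd 0 1 1 (le_of_eq hx01)).upd 0 2 1 (le_of_eq hx03)).upd 1 0 1 (le_of_eq hx10)).upd 1 2 3 (le_of_eq hx13)).upd 2 0 1 (le_of_eq hx30)).upd 2 1 1 (le_of_eq hx31)) ![1,1,1] (by decide) (by decide) 0 (by decide))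
        · -- 03=(1,2)
          have d13 := two_pair T (by norm_num : 2 < 4) ((pairEmb 1 3 (by decide)).trans v) (fun _ => hv _)
          change (N T v 1 3 = 0 ∧ N T v 3 1 = 0) ∨ (N T v 1 3 = 1 ∧ N T v 3 1 = 1) ∨ (N T v 1 3 = 1 ∧ N T v 3 1 = 2) ∨ (N T v 1 3 = 2 ∧ N T v 3 1 = 1) ∨ (N T v 1 3 = 1 ∧ N T v 3 1 = 3) ∨ (N T v 1 3 = 3 ∧ N T v 3 1 = 1) at d13
          rw [← hx13, ← hx31] at d13
          rcases d13 with ⟨rfl, rfl⟩ | ⟨rfl, rfl⟩ | ⟨rfl, rfl⟩ | ⟨rfl, rfl⟩ | ⟨rfl, rfl⟩ | ⟨rfl, rfl⟩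
          · -- 13=(0,0)
            have d23 := two_pair T (by norm_num : 2 < 4) ((pairEmb 2 3 (by decide)).trans v) (fun _ => hv _)
            change (N T v 2 3 = 0 ∧ N T v 3 2 = 0) ∨ (N T v 2 3 = 1 ∧ N T v 3 2 = 1) ∨ (N T v 2 3 = 1 ∧ N T v 3 2 = 2) ∨ (N T v 2 3 = 2 ∧ N T v 3 2 = 1) ∨ (N T v 2 3 = 1 ∧ N T v 3 2 = 3) ∨ (N T v 2 3 = 3 ∧ N T v 3 2 = 1) at d23
            rw [← hx23, ← hx32] at d23
            rcases d23 with ⟨rfl, rfl⟩ | ⟨rfl, rfl⟩ | ⟨rfl, rfl⟩ | ⟨rfl, rfl⟩ | ⟨rfl, rfl⟩ | ⟨rfl, rfl⟩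
            · -- 23=(0,0)
              refine ⟨(⟨![3, 0, 1, 2], ![1, 2, 3, 0], by decide, by decide⟩ : Equiv.Perm (Fin 4)), T.m 2, T.w 3, Or.inr (Or.inl ?_)⟩
              show T.m 3 = 2 * T.m 2 ∧ T.m 0 = 2 * T.m 2 ∧ T.m 1 = 2 * T.m 2 ∧ T.m 2 = T.m 2 ∧ T.w 3 = T.w 3 ∧ T.w 0 = 2 * T.w 3 ∧ T.w 1 = 2 * T.w 3 ∧ T.w 2 = 4 * T.w 3 ∧ T.a 3 3 = -2 * T.w 3 ∧ T.a 3 0 = 2 * T.w 3 ∧ T.a 3 1 = 0 ∧ T.a 3 2 = 0 ∧ T.a 0 0 = -4 * T.w 3 ∧ T.a 0 1 = 2 * T.w 3 ∧ T.a 0 2 = 0 ∧ T.a 1 1 = -4 * T.w 3 ∧ T.a 1 2 = 4 * T.w 3 ∧ T.a 2 2 = -8 * T.w 3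
              refine ⟨?_, ?_, ?_, ?_, ?_, ?_, ?_, ?_, ?_, ?_, ?_, ?_, ?_, ?_, ?_, ?_, ?_, ?_⟩ <;> omega
            · -- 23=(1,1)
              exfalso; omega
            · -- 23=(1,2)
              exact False.elim (cert_false T ((skipEmb 1).trans v) (by norm_num) (fun _ => hv _) (((((LB_zero T ((skipEmb 1).trans v)).upd 0 2 1 (le_of_eq hx03)).upd 1 2 1 (le_of_eq hx23)).upd 2 0 2 (le_of_eq hx30)).upd 2 1 2 (le_of_eq hx32)) ![1,1,2] (by decide) (by decide) 0 (by decide))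
            · -- 23=(2,1)
              exact False.elim (cert_false T ((skipEmb 1).trans v) (by norm_num) (fun _ => hv _) (((((LB_zero T ((skipEmb 1).trans v)).upd 0 2 1 (le_of_eq hx03)).upd 1 2 2 (le_of_eq hx23)).upd 2 0 2 (le_of_eq hx30)).upd 2 1 1 (le_of_eq hx32)) ![1,2,2] (by decide) (by decide) 0 (by decide))
            · -- 23=(1,3)
              exact False.elim (cert_false T ((skipEmb 1).trans v) (by norm_num) (fun _ => hv _) (((((LB_zero T ((skipEmb 1).trans v)).upd 0 2 1 (le_of_eq hx03)).upd 1 2 1 (le_of_eq hx23)).upd 2 0 2 (le_of_eq hx30)).upd 2 1 3 (le_of_eq hx32)) ![1,1,2] (by decide) (by decide) 0 (by decide))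
            · -- 23=(3,1)
              exact False.elim (cert_false T ((skipEmb 1).trans v) (by norm_num) (fun _ => hv _) (((((LB_zero T ((skipEmb 1).trans v)).upd 0 2 1 (le_of_eq hx03)).upd 1 2 3 (le_of_eq hx23)).upd 2 0 2 (le_of_eq hx30)).upd 2 1 1 (le_of_eq hx32)) ![1,2,2] (by decide) (by decide) 0 (by decide))
          · -- 13=(1,1)
            exact False.elim (cert_false T ((skipEmb 2).trans v) (by norm_num) (fun _ => hv _) (((((((LB_zero T ((skipEmb 2).trans v)).upd 0 1 1 (le_of_eq hx01)).upd 0 2 1 (le_of_eq hx03)).upd 1 0 1 (le_of_eq hx10)).upd 1 2 1 (le_of_eq hx13)).upd 2 0 2 (le_of_eq hx30)).upd 2 1 1 (le_of_eq hx31)) ![1,1,1] (by decide) (by decide) 0 (by decide))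
          · -- 13=(1,2)
            exact False.elim (cert_false T ((skipEmb 2).trans v) (by norm_num) (fun _ => hv _) (((((((LB_zero T ((skipEmb 2).trans v)).upd 0 1 1 (le_of_eq hx01)).upd 0 2 1 (le_of_eq hx03)).upd 1 0 1 (le_of_eq hx10)).upd 1 2 1 (le_of_eq hx13)).upd 2 0 2 (le_of_eq hx30)).upd 2 1 2 (le_of_eq hx31)) ![1,1,1] (by decide) (by decide) 0 (by decide))
          · -- 13=(2,1)
            exact False.elim (cert_false T ((skipEmb 2).trans v) (by norm_num) (fun _ => hv _) (((((((LB_zero T ((skipEmb 2).trans v)).upd 0 1 1 (le_of_eq hx01)).upd 0 2 1 (le_of_eq hx03)).upd 1 0 1 (le_of_eq hx10)).upd 1 2 2 (le_of_eq hx13)).upd 2 0 2 (le_of_eq hx30)).upd 2 1 1 (le_of_eq hx31)) ![1,1,1] (by decide) (by decide) 0 (by decide))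
          · -- 13=(1,3)
            exact False.elim (cert_false T ((skipEmb 2).trans v) (by norm_num) (fun _ => hv _) (((((((LB_zero T ((skipEmb 2).trans v)).upd 0 1 1 (le_of_eq hx01)).upd 0 2 1 (le_of_eq hx03)).upd 1 0 1 (le_of_eq hx10)).upd 1 2 1 (le_of_eq hx13)).upd 2 0 2 (le_of_eq hx30)).upd 2 1 3 (le_of_eq hx31)) ![1,1,1] (by decide) (by decide) 0 (by decide))
          · -- 13=(3,1)
            exact False.elim (cert_false T ((skipEmb 2).trans v) (by norm_num) (fun _ => hv _) (((((((LB_zero T ((skipEmb 2).trans v)).upd 0 1 1 (le_of_eq hx01)).upd 0 2 1 (le_of_eq hx03)).upd 1 0 1 (le_of_eq hx10)).upd 1 2 3 (le_of_eq hx13)).upd 2 0 2 (le_of_eq hx30)).upd 2 1 1 (le_of_eq hx31)) ![1,1,1] (by decide) (by decide) 0 (by decide))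
        · -- 03=(2,1)
          have d13 := two_pair T (by norm_num : 2 < 4) ((pairEmb 1 3 (by decide)).trans v) (fun _ => hv _)
          change (N T v 1 3 = 0 ∧ N T v 3 1 = 0) ∨ (N T v 1 3 = 1 ∧ N T v 3 1 = 1) ∨ (N T v 1 3 = 1 ∧ N T v 3 1 = 2) ∨ (N T v 1 3 = 2 ∧ N T v 3 1 = 1) ∨ (N T v 1 3 = 1 ∧ N T v 3 1 = 3) ∨ (N T v 1 3 = 3 ∧ N T v 3 1 = 1) at d13
          rw [← hx13, ← hx31] at d13
          rcases d13 with ⟨rfl, rfl⟩ | ⟨rfl, rfl⟩ | ⟨rfl, rfl⟩ | ⟨rfl, rfl⟩ | ⟨rfl, rfl⟩ | ⟨rfl, rfl⟩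
          · -- 13=(0,0)
            have d23 := two_pair T (by norm_num : 2 < 4) ((pairEmb 2 3 (by decide)).trans v) (fun _ => hv _)
            change (N T v 2 3 = 0 ∧ N T v 3 2 = 0) ∨ (N T v 2 3 = 1 ∧ N T v 3 2 = 1) ∨ (N T v 2 3 = 1 ∧ N T v 3 2 = 2) ∨ (N T v 2 3 = 2 ∧ N T v 3 2 = 1) ∨ (N T v 2 3 = 1 ∧ N T v 3 2 = 3) ∨ (N T v 2 3 = 3 ∧ N T v 3 2 = 1) at d23
            rw [← hx23, ← hx32] at d23
            rcases d23 with ⟨rfl, rfl⟩ | ⟨rfl, rfl⟩ | ⟨rfl, rfl⟩ | ⟨rfl, rfl⟩ | ⟨rfl, rfl⟩ | ⟨rfl, rfl⟩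
            · -- 23=(0,0)
              refine ⟨(⟨![2, 1, 0, 3], ![2, 1, 0, 3], by decide, by decide⟩ : Equiv.Perm (Fin 4)), T.m 2, T.w 1, Or.inr (Or.inr (Or.inr (Or.inl ?_)))⟩
              show T.m 2 = T.m 2 ∧ T.m 1 = 2 * T.m 2 ∧ T.m 0 = 2 * T.m 2 ∧ T.m 3 = T.m 2 ∧ T.w 2 = 2 * T.w 1 ∧ T.w 1 = T.w 1 ∧ T.w 0 = T.w 1 ∧ T.w 3 = 2 * T.w 1 ∧ T.a 2 2 = -4 * T.w 1 ∧ T.a 2 1 = 2 * T.w 1 ∧ T.a 2 0 = 0 ∧ T.a 2 3 = 0 ∧ T.a 1 1 = -2 * T.w 1 ∧ T.a 1 0 = T.w 1 ∧ T.a 1 3 = 0 ∧ T.a 0 0 = -2 * T.w 1 ∧ T.a 0 3 = 2 * T.w 1 ∧ T.a 3 3 = -4 * T.w 1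
              refine ⟨?_, ?_, ?_, ?_, ?_, ?_, ?_, ?_, ?_, ?_, ?_, ?_, ?_, ?_, ?_, ?_, ?_, ?_⟩ <;> omega
            · -- 23=(1,1)
              exfalso; omega
            · -- 23=(1,2)
              exact False.elim (cert_false T ((skipEmb 1).trans v) (by norm_num) (fun _ => hv _) (((((LB_zero T ((skipEmb 1).trans v)).upd 0 2 2 (le_of_eq hx03)).upd 1 2 1 (le_of_eq hx23)).upd 2 0 1 (le_of_eq hx30)).upd 2 1 2 (le_of_eq hx32)) ![2,1,2] (by decide) (by decide) 0 (by decide))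
            · -- 23=(2,1)
              exact False.elim (cert_false T ((skipEmb 1).trans v) (by norm_num) (fun _ => hv _) (((((LB_zero T ((skipEmb 1).trans v)).upd 0 2 2 (le_of_eq hx03)).upd 1 2 2 (le_of_eq hx23)).upd 2 0 1 (le_of_eq hx30)).upd 2 1 1 (le_of_eq hx32)) ![1,1,1] (by decide) (by decide) 0 (by decide))
            · -- 23=(1,3)
              exact False.elim (cert_false T ((skipEmb 1).trans v) (by norm_num) (fun _ => hv _) (((((LB_zero T ((skipEmb 1).trans v)).upd 0 2 2 (le_of_eq hx03)).upd 1 2 1 (le_of_eq hx23)).upd 2 0 1 (le_of_eq hx30)).upd 2 1 3 (le_of_eq hx32)) ![1,1,2] (by decide) (by decide) 0 (by decide))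
            · -- 23=(3,1)
              exact False.elim (cert_false T ((skipEmb 1).trans v) (by norm_num) (fun _ => hv _) (((((LB_zero T ((skipEmb 1).trans v)).upd 0 2 2 (le_of_eq hx03)).upd 1 2 3 (le_of_eq hx23)).upd 2 0 1 (le_of_eq hx30)).upd 2 1 1 (le_of_eq hx32)) ![1,1,1] (by decide) (by decide) 0 (by decide))
          · -- 13=(1,1)
            exact False.elim (cert_false T ((skipEmb 2).trans v) (by norm_num) (fun _ => hv _) (((((((LB_zero T ((skipEmb 2).trans v)).upd 0 1 1 (le_of_eq hx01)).upd 0 2 2 (le_of_eq hx03)).upd 1 0 1 (le_of_eq hx10)).upd 1 2 1 (le_of_eq hx13)).upd 2 0 1 (le_of_eq hx30)).upd 2 1 1 (le_of_eq hx31)) ![1,1,1] (by decide) (by decide) 0 (by decide))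
          · -- 13=(1,2)
            exact False.elim (cert_false T ((skipEmb 2).trans v) (by norm_num) (fun _ => hv _) (((((((LB_zero T ((skipEmb 2).trans v)).upd 0 1 1 (le_of_eq hx01)).upd 0 2 2 (le_of_eq hx03)).upd 1 0 1 (le_of_eq hx10)).upd 1 2 1 (le_of_eq hx13)).upd 2 0 1 (le_of_eq hx30)).upd 2 1 2 (le_of_eq hx31)) ![1,1,1] (by decide) (by decide) 0 (by decide))
          · -- 13=(2,1)
            exact False.elim (cert_false T ((skipEmb 2).trans v) (by norm_num) (fun _ => hv _) (((((((LB_zero T ((skipEmb 2).trans v)).upd 0 1 1 (le_of_eq hx01)).upd 0 2 2 (le_of_eq hx03)).upd 1 0 1 (le_of_eq hx10)).upd 1 2 2 (le_of_eq hx13)).upd 2 0 1 (le_of_eq hx30)).upd 2 1 1 (le_of_eq hx31)) ![1,1,1] (by decide) (by decide) 0 (by decide))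
          · -- 13=(1,3)
            exact False.elim (cert_false T ((skipEmb 2).trans v) (by norm_num) (fun _ => hv _) (((((((LB_zero T ((skipEmb 2).trans v)).upd 0 1 1 (le_of_eq hx01)).upd 0 2 2 (le_of_eq hx03)).upd 1 0 1 (le_of_eq hx10)).upd 1 2 1 (le_of_eq hx13)).upd 2 0 1 (le_of_eq hx30)).upd 2 1 3 (le_of_eq hx31)) ![1,1,1] (by decide) (by decide) 0 (by decide))
          · -- 13=(3,1)
            exact False.elim (cert_false T ((skipEmb 2).trans v) (by norm_num) (fun _ => hv _) (((((((LB_zero T ((skipEmb 2).trans v)).upd 0 1 1 (le_of_eq hx01)).upd 0 2 2 (le_of_eq hx03)).upd 1 0 1 (le_of_eq hx10)).upd 1 2 3 (le_of_eq hx13)).upd 2 0 1 (le_of_eq hx30)).upd 2 1 1 (le_of_eq hx31)) ![1,1,1] (by decide) (by decide) 0 (by decide))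
        · -- 03=(1,3)
          exact False.elim (cert_false T ((skipEmb 2).trans v) (by norm_num) (fun _ => hv _) (((((LB_zero T ((skipEmb 2).trans v)).upd 0 1 1 (le_of_eq hx01)).upd 0 2 1 (le_of_eq hx03)).upd 1 0 1 (le_of_eq hx10)).upd 2 0 3 (le_of_eq hx30)) ![2,1,3] (by decide) (by decide) 0 (by decide))
        · -- 03=(3,1)
          exact False.elim (cert_false T ((skipEmb 2).trans v) (by norm_num) (fun _ => hv _) (((((LB_zero T ((skipEmb 2).trans v)).upd 0 1 1 (le_of_eq hx01)).upd 0 2 3 (le_of_eq hx03)).upd 1 0 1 (le_of_eq hx10)).upd 2 0 1 (le_of_eq hx30)) ![2,1,1] (by decide) (by decide) 0 (by decide))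
      · -- 12=(1,3)
        exact False.elim (cert_false T ((skipEmb 3).trans v) (by norm_num) (fun _ => hv _) (((((LB_zero T ((skipEmb 3).trans v)).upd 0 1 1 (le_of_eq hx01)).upd 1 0 1 (le_of_eq hx10)).upd 1 2 1 (le_of_eq hx12)).upd 2 1 3 (le_of_eq hx21)) ![1,2,3] (by decide) (by decide) 0 (by decide))
      · -- 12=(3,1)
        exact False.elim (cert_false T ((skipEmb 3).trans v) (by norm_num) (fun _ => hv _) (((((LB_zero T ((skipEmb 3).trans v)).upd 0 1 1 (le_of_eq hx01)).upd 1 0 1 (le_of_eq hx10)).upd 1 2 3 (le_of_eq hx12)).upd 2 1 1 (le_of_eq hx21)) ![1,2,1] (by decide) (by decide) 0 (by decide))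
    · -- 02=(1,1)
      have d12 := two_pair T (by norm_num : 2 < 4) ((pairEmb 1 2 (by decide)).trans v) (fun _ => hv _)
      change (N T v 1 2 = 0 ∧ N T v 2 1 = 0) ∨ (N T v 1 2 = 1 ∧ N T v 2 1 = 1) ∨ (N T v 1 2 = 1 ∧ N T v 2 1 = 2) ∨ (N T v 1 2 = 2 ∧ N T v 2 1 = 1) ∨ (N T v 1 2 = 1 ∧ N T v 2 1 = 3) ∨ (N T v 1 2 = 3 ∧ N T v 2 1 = 1) at d12
      rw [← hx12, ← hx21] at d12
      rcases d12 with ⟨rfl, rfl⟩ | ⟨rfl, rfl⟩ | ⟨rfl, rfl⟩ | ⟨rfl, rfl⟩ | ⟨rfl, rfl⟩ | ⟨rfl, rfl⟩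
      · -- 12=(0,0)
        have d03 := two_pair T (by norm_num : 2 < 4) ((pairEmb 0 3 (by decide)).trans v) (fun _ => hv _)
        change (N T v 0 3 = 0 ∧ N T v 3 0 = 0) ∨ (N T v 0 3 = 1 ∧ N T v 3 0 = 1) ∨ (N T v 0 3 = 1 ∧ N T v 3 0 = 2) ∨ (N T v 0 3 = 2 ∧ N T v 3 0 = 1) ∨ (N T v 0 3 = 1 ∧ N T v 3 0 = 3) ∨ (N T v 0 3 = 3 ∧ N T v 3 0 = 1) at d03
        rw [← hx03, ← hx30] at d03
        rcases d03 with ⟨rfl, rfl⟩ | ⟨rfl, rfl⟩ | ⟨rfl, rfl⟩ | ⟨rfl, rfl⟩ | ⟨rfl, rfl⟩ | ⟨rfl, rfl⟩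
        · -- 03=(0,0)
          have d13 := two_pair T (by norm_num : 2 < 4) ((pairEmb 1 3 (by decide)).trans v) (fun _ => hv _)
          change (N T v 1 3 = 0 ∧ N T v 3 1 = 0) ∨ (N T v 1 3 = 1 ∧ N T v 3 1 = 1) ∨ (N T v 1 3 = 1 ∧ N T v 3 1 = 2) ∨ (N T v 1 3 = 2 ∧ N T v 3 1 = 1) ∨ (N T v 1 3 = 1 ∧ N T v 3 1 = 3) ∨ (N T v 1 3 = 3 ∧ N T v 3 1 = 1) at d13
          rw [← hx13, ← hx31] at d13
          rcases d13 with ⟨rfl, rfl⟩ | ⟨rfl, rfl⟩ | ⟨rfl, rfl⟩ | ⟨rfl, rfl⟩ | ⟨rfl, rfl⟩ | ⟨rfl, rfl⟩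
          · -- 13=(0,0)
            have d23 := two_pair T (by norm_num : 2 < 4) ((pairEmb 2 3 (by decide)).trans v) (fun _ => hv _)
            change (N T v 2 3 = 0 ∧ N T v 3 2 = 0) ∨ (N T v 2 3 = 1 ∧ N T v 3 2 = 1) ∨ (N T v 2 3 = 1 ∧ N T v 3 2 = 2) ∨ (N T v 2 3 = 2 ∧ N T v 3 2 = 1) ∨ (N T v 2 3 = 1 ∧ N T v 3 2 = 3) ∨ (N T v 2 3 = 3 ∧ N T v 3 2 = 1) at d23
            rw [← hx23, ← hx32] at d23
            rcases d23 with ⟨rfl, rfl⟩ | ⟨rfl, rfl⟩ | ⟨rfl, rfl⟩ | ⟨rfl, rfl⟩ | ⟨rfl, rfl⟩ | ⟨rfl, rfl⟩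
            · -- 23=(0,0)
              exfalso; omega
            · -- 23=(1,1)
              exfalso; omega
            · -- 23=(1,2)
              exfalso; omega
            · -- 23=(2,1)
              exfalso; omega
            · -- 23=(1,3)
              exact False.elim (cert_false T ((skipEmb 1).trans v) (by norm_num) (fun _ => hv _) (((((LB_zero T ((skipEmb 1).trans v)).upd 0 1 1 (le_of_eq hx02)).upd 1 0 1 (le_of_eq hx20)).upd 1 2 1 (le_of_eq hx23)).upd 2 1 3 (le_of_eq hx32)) ![1,2,3] (by decide) (by decide) 0 (by decide))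
            · -- 23=(3,1)
              exact False.elim (cert_false T ((skipEmb 1).trans v) (by norm_num) (fun _ => hv _) (((((LB_zero T ((skipEmb 1).trans v)).upd 0 1 1 (le_of_eq hx02)).upd 1 0 1 (le_of_eq hx20)).upd 1 2 3 (le_of_eq hx23)).upd 2 1 1 (le_of_eq hx32)) ![1,2,1] (by decide) (by decide) 0 (by decide))
          · -- 13=(1,1)
            have d23 := two_pair T (by norm_num : 2 < 4) ((pairEmb 2 3 (by decide)).trans v) (fun _ => hv _)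
            change (N T v 2 3 = 0 ∧ N T v 3 2 = 0) ∨ (N T v 2 3 = 1 ∧ N T v 3 2 = 1) ∨ (N T v 2 3 = 1 ∧ N T v 3 2 = 2) ∨ (N T v 2 3 = 2 ∧ N T v 3 2 = 1) ∨ (N T v 2 3 = 1 ∧ N T v 3 2 = 3) ∨ (N T v 2 3 = 3 ∧ N T v 3 2 = 1) at d23
            rw [← hx23, ← hx32] at d23
            rcases d23 with ⟨rfl, rfl⟩ | ⟨rfl, rfl⟩ | ⟨rfl, rfl⟩ | ⟨rfl, rfl⟩ | ⟨rfl, rfl⟩ | ⟨rfl, rfl⟩
            · -- 23=(0,0)
              exfalso; omega
            · -- 23=(1,1)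
              refine ⟨(⟨![0, 1, 3, 2], ![0, 1, 3, 2], by decide, by decide⟩ : Equiv.Perm (Fin 4)), T.m 0, T.w 0, Or.inl ?_⟩
              show T.m 0 = T.m 0 ∧ T.m 1 = T.m 0 ∧ T.m 3 = T.m 0 ∧ T.m 2 = T.m 0 ∧ T.w 0 = T.w 0 ∧ T.w 1 = T.w 0 ∧ T.w 3 = T.w 0 ∧ T.w 2 = T.w 0 ∧ T.a 0 0 = -2 * T.w 0 ∧ T.a 0 1 = T.w 0 ∧ T.a 0 3 = 0 ∧ T.a 0 2 = T.w 0 ∧ T.a 1 1 = -2 * T.w 0 ∧ T.a 1 3 = T.w 0 ∧ T.a 1 2 = 0 ∧ T.a 3 3 = -2 * T.w 0 ∧ T.a 3 2 = T.w 0 ∧ T.a 2 2 = -2 * T.w 0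
              refine ⟨?_, ?_, ?_, ?_, ?_, ?_, ?_, ?_, ?_, ?_, ?_, ?_, ?_, ?_, ?_, ?_, ?_, ?_⟩ <;> omega
            · -- 23=(1,2)
              exfalso; omega
            · -- 23=(2,1)
              exfalso; omega
            · -- 23=(1,3)
              exact False.elim (cert_false T ((skipEmb 1).trans v) (by norm_num) (fun _ => hv _) (((((LB_zero T ((skipEmb 1).trans v)).upd 0 1 1 (le_of_eq hx02)).upd 1 0 1 (le_of_eq hx20)).upd 1 2 1 (le_of_eq hx23)).upd 2 1 3 (le_of_eq hx32)) ![1,2,3] (by decide) (by decide) 0 (by decide))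
            · -- 23=(3,1)
              exact False.elim (cert_false T ((skipEmb 1).trans v) (by norm_num) (fun _ => hv _) (((((LB_zero T ((skipEmb 1).trans v)).upd 0 1 1 (le_of_eq hx02)).upd 1 0 1 (le_of_eq hx20)).upd 1 2 3 (le_of_eq hx23)).upd 2 1 1 (le_of_eq hx32)) ![1,2,1] (by decide) (by decide) 0 (by decide))
          · -- 13=(1,2)
            have d23 := two_pair T (by norm_num : 2 < 4) ((pairEmb 2 3 (by decide)).trans v) (fun _ => hv _)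
            change (N T v 2 3 = 0 ∧ N T v 3 2 = 0) ∨ (N T v 2 3 = 1 ∧ N T v 3 2 = 1) ∨ (N T v 2 3 = 1 ∧ N T v 3 2 = 2) ∨ (N T v 2 3 = 2 ∧ N T v 3 2 = 1) ∨ (N T v 2 3 = 1 ∧ N T v 3 2 = 3) ∨ (N T v 2 3 = 3 ∧ N T v 3 2 = 1) at d23
            rw [← hx23, ← hx32] at d23
            rcases d23 with ⟨rfl, rfl⟩ | ⟨rfl, rfl⟩ | ⟨rfl, rfl⟩ | ⟨rfl, rfl⟩ | ⟨rfl, rfl⟩ | ⟨rfl, rfl⟩
            · -- 23=(0,0)
              exfalso; omega
            · -- 23=(1,1)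
              exfalso; omega
            · -- 23=(1,2)
              exact False.elim (cert_false T ((skipEmb 0).trans v) (by norm_num) (fun _ => hv _) (((((LB_zero T ((skipEmb 0).trans v)).upd 0 2 1 (le_of_eq hx13)).upd 1 2 1 (le_of_eq hx23)).upd 2 0 2 (le_of_eq hx31)).upd 2 1 2 (le_of_eq hx32)) ![1,1,2] (by decide) (by decide) 0 (by decide))
            · -- 23=(2,1)
              exact False.elim (cert_false T ((skipEmb 0).trans v) (by norm_num) (fun _ => hv _) (((((LB_zero T ((skipEmb 0).trans v)).upd 0 2 1 (le_of_eq hx13)).upd 1 2 2 (le_of_eq hx23)).upd 2 0 2 (le_of_eq hx31)).upd 2 1 1 (le_of_eq hx32)) ![1,2,2] (by decide) (by decide) 0 (by decide))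
            · -- 23=(1,3)
              exact False.elim (cert_false T ((skipEmb 1).trans v) (by norm_num) (fun _ => hv _) (((((LB_zero T ((skipEmb 1).trans v)).upd 0 1 1 (le_of_eq hx02)).upd 1 0 1 (le_of_eq hx20)).upd 1 2 1 (le_of_eq hx23)).upd 2 1 3 (le_of_eq hx32)) ![1,2,3] (by decide) (by decide) 0 (by decide))
            · -- 23=(3,1)
              exact False.elim (cert_false T ((skipEmb 1).trans v) (by norm_num) (fun _ => hv _) (((((LB_zero T ((skipEmb 1).trans v)).upd 0 1 1 (le_of_eq hx02)).upd 1 0 1 (le_of_eq hx20)).upd 1 2 3 (le_of_eq hx23)).upd 2 1 1 (le_of_eq hx32)) ![1,2,1] (by decide) (by decide) 0 (by decide))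
          · -- 13=(2,1)
            have d23 := two_pair T (by norm_num : 2 < 4) ((pairEmb 2 3 (by decide)).trans v) (fun _ => hv _)
            change (N T v 2 3 = 0 ∧ N T v 3 2 = 0) ∨ (N T v 2 3 = 1 ∧ N T v 3 2 = 1) ∨ (N T v 2 3 = 1 ∧ N T v 3 2 = 2) ∨ (N T v 2 3 = 2 ∧ N T v 3 2 = 1) ∨ (N T v 2 3 = 1 ∧ N T v 3 2 = 3) ∨ (N T v 2 3 = 3 ∧ N T v 3 2 = 1) at d23
            rw [← hx23, ← hx32] at d23
            rcases d23 with ⟨rfl, rfl⟩ | ⟨rfl, rfl⟩ | ⟨rfl, rfl⟩ | ⟨rfl, rfl⟩ | ⟨rfl, rfl⟩ | ⟨rfl, rfl⟩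
            · -- 23=(0,0)
              exfalso; omega
            · -- 23=(1,1)
              exfalso; omega
            · -- 23=(1,2)
              exact False.elim (cert_false T ((skipEmb 0).trans v) (by norm_num) (fun _ => hv _) (((((LB_zero T ((skipEmb 0).trans v)).upd 0 2 2 (le_of_eq hx13)).upd 1 2 1 (le_of_eq hx23)).upd 2 0 1 (le_of_eq hx31)).upd 2 1 2 (le_of_eq hx32)) ![2,1,2] (by decide) (by decide) 0 (by decide))
            · -- 23=(2,1)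
              exact False.elim (cert_false T ((skipEmb 0).trans v) (by norm_num) (fun _ => hv _) (((((LB_zero T ((skipEmb 0).trans v)).upd 0 2 2 (le_of_eq hx13)).upd 1 2 2 (le_of_eq hx23)).upd 2 0 1 (le_of_eq hx31)).upd 2 1 1 (le_of_eq hx32)) ![1,1,1] (by decide) (by decide) 0 (by decide))
            · -- 23=(1,3)
              exact False.elim (cert_false T ((skipEmb 1).trans v) (by norm_num) (fun _ => hv _) (((((LB_zero T ((skipEmb 1).trans v)).upd 0 1 1 (le_of_eq hx02)).upd 1 0 1 (le_of_eq hx20)).upd 1 2 1 (le_of_eq hx23)).upd 2 1 3 (le_of_eq hx32)) ![1,2,3] (by decide) (by decide) 0 (by decide))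
            · -- 23=(3,1)
              exact False.elim (cert_false T ((skipEmb 1).trans v) (by norm_num) (fun _ => hv _) (((((LB_zero T ((skipEmb 1).trans v)).upd 0 1 1 (le_of_eq hx02)).upd 1 0 1 (le_of_eq hx20)).upd 1 2 3 (le_of_eq hx23)).upd 2 1 1 (le_of_eq hx32)) ![1,2,1] (by decide) (by decide) 0 (by decide))
          · -- 13=(1,3)
            exact False.elim (cert_false T ((skipEmb 2).trans v) (by norm_num) (fun _ => hv _) (((((LB_zero T ((skipEmb 2).trans v)).upd 0 1 1 (le_of_eq hx01)).upd 1 0 1 (le_of_eq hx10)).upd 1 2 1 (le_of_eq hx13)).upd 2 1 3 (le_of_eq hx31)) ![1,2,3] (by decide) (by decide) 0 (by decide))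
          · -- 13=(3,1)
            exact False.elim (cert_false T ((skipEmb 2).trans v) (by norm_num) (fun _ => hv _) (((((LB_zero T ((skipEmb 2).trans v)).upd 0 1 1 (le_of_eq hx01)).upd 1 0 1 (le_of_eq hx10)).upd 1 2 3 (le_of_eq hx13)).upd 2 1 1 (le_of_eq hx31)) ![1,2,1] (by decide) (by decide) 0 (by decide))
        · -- 03=(1,1)
          have d13 := two_pair T (by norm_num : 2 < 4) ((pairEmb 1 3 (by decide)).trans v) (fun _ => hv _)
          change (N T v 1 3 = 0 ∧ N T v 3 1 = 0) ∨ (N T v 1 3 = 1 ∧ N T v 3 1 = 1) ∨ (N T v 1 3 = 1 ∧ N T v 3 1 = 2) ∨ (N T v 1 3 = 2 ∧ N T v 3 1 = 1) ∨ (N T v 1 3 = 1 ∧ N T v 3 1 = 3) ∨ (N T v 1 3 = 3 ∧ N T v 3 1 = 1) at d13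
          rw [← hx13, ← hx31] at d13
          rcases d13 with ⟨rfl, rfl⟩ | ⟨rfl, rfl⟩ | ⟨rfl, rfl⟩ | ⟨rfl, rfl⟩ | ⟨rfl, rfl⟩ | ⟨rfl, rfl⟩
          · -- 13=(0,0)
            have d23 := two_pair T (by norm_num : 2 < 4) ((pairEmb 2 3 (by decide)).trans v) (fun _ => hv _)
            change (N T v 2 3 = 0 ∧ N T v 3 2 = 0) ∨ (N T v 2 3 = 1 ∧ N T v 3 2 = 1) ∨ (N T v 2 3 = 1 ∧ N T v 3 2 = 2) ∨ (N T v 2 3 = 2 ∧ N T v 3 2 = 1) ∨ (N T v 2 3 = 1 ∧ N T v 3 2 = 3) ∨ (N T v 2 3 = 3 ∧ N T v 3 2 = 1) at d23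
            rw [← hx23, ← hx32] at d23
            rcases d23 with ⟨rfl, rfl⟩ | ⟨rfl, rfl⟩ | ⟨rfl, rfl⟩ | ⟨rfl, rfl⟩ | ⟨rfl, rfl⟩ | ⟨rfl, rfl⟩
            · -- 23=(0,0)
              exfalso; omega
            · -- 23=(1,1)
              exact False.elim (cert_false T ((skipEmb 1).trans v) (by norm_num) (fun _ => hv _) (((((((LB_zero T ((skipEmb 1).trans v)).upd 0 1 1 (le_of_eq hx02)).upd 0 2 1 (le_of_eq hx03)).upd 1 0 1 (le_of_eq hx20)).upd 1 2 1 (le_of_eq hx23)).upd 2 0 1 (le_of_eq hx30)).upd 2 1 1 (le_of_eq hx32)) ![1,1,1] (by decide) (by decide) 0 (by decide))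
            · -- 23=(1,2)
              exact False.elim (cert_false T ((skipEmb 1).trans v) (by norm_num) (fun _ => hv _) (((((((LB_zero T ((skipEmb 1).trans v)).upd 0 1 1 (le_of_eq hx02)).upd 0 2 1 (le_of_eq hx03)).upd 1 0 1 (le_of_eq hx20)).upd 1 2 1 (le_of_eq hx23)).upd 2 0 1 (le_of_eq hx30)).upd 2 1 2 (le_of_eq hx32)) ![1,1,1] (by decide) (by decide) 0 (by decide))
            · -- 23=(2,1)
              exact False.elim (cert_false T ((skipEmb 1).trans v) (by norm_num) (fun _ => hv _) (((((((LB_zero T ((skipEmb 1).trans v)).upd 0 1 1 (le_of_eq hx02)).upd 0 2 1 (le_of_eq hx03)).upd 1 0 1 (le_of_eq hx20)).upd 1 2 2 (le_of_eq hx23)).upd 2 0 1 (le_of_eq hx30)).upd 2 1 1 (le_of_eq hx32)) ![1,1,1] (by decide) (by decide) 0 (by decide))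
            · -- 23=(1,3)
              exact False.elim (cert_false T ((skipEmb 1).trans v) (by norm_num) (fun _ => hv _) (((((((LB_zero T ((skipEmb 1).trans v)).upd 0 1 1 (le_of_eq hx02)).upd 0 2 1 (le_of_eq hx03)).upd 1 0 1 (le_of_eq hx20)).upd 1 2 1 (le_of_eq hx23)).upd 2 0 1 (le_of_eq hx30)).upd 2 1 3 (le_of_eq hx32)) ![1,1,1] (by decide) (by decide) 0 (by decide))
            · -- 23=(3,1)
              exact False.elim (cert_false T ((skipEmb 1).trans v) (by norm_num) (fun _ => hv _) (((((((LB_zero T ((skipEmb 1).trans v)).upd 0 1 1 (le_of_eq hx02)).upd 0 2 1 (le_of_eq hx03)).upd 1 0 1 (le_of_eq hx20)).upd 1 2 3 (le_of_eq hx23)).upd 2 0 1 (le_of_eq hx30)).upd 2 1 1 (le_of_eq hx32)) ![1,1,1] (by decide) (by decide) 0 (by decide))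
          · -- 13=(1,1)
            exact False.elim (cert_false T ((skipEmb 2).trans v) (by norm_num) (fun _ => hv _) (((((((LB_zero T ((skipEmb 2).trans v)).upd 0 1 1 (le_of_eq hx01)).upd 0 2 1 (le_of_eq hx03)).upd 1 0 1 (le_of_eq hx10)).upd 1 2 1 (le_of_eq hx13)).upd 2 0 1 (le_of_eq hx30)).upd 2 1 1 (le_of_eq hx31)) ![1,1,1] (by decide) (by decide) 0 (by decide))
          · -- 13=(1,2)
            exact False.elim (cert_false T ((skipEmb 2).trans v) (by norm_num) (fun _ => hv _) (((((((LB_zero T ((skipEmb 2).trans v)).upd 0 1 1 (le_of_eq hx01)).upd 0 2 1 (le_of_eq hx03)).upd 1 0 1 (le_of_eq hx10)).upd 1 2 1 (le_of_eq hx13)).upd 2 0 1 (le_of_eq hx30)).upd 2 1 2 (le_of_eq hx31)) ![1,1,1] (by decide) (by decide) 0 (by decide))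
          · -- 13=(2,1)
            exact False.elim (cert_false T ((skipEmb 2).trans v) (by norm_num) (fun _ => hv _) (((((((LB_zero T ((skipEmb 2).trans v)).upd 0 1 1 (le_of_eq hx01)).upd 0 2 1 (le_of_eq hx03)).upd 1 0 1 (le_of_eq hx10)).upd 1 2 2 (le_of_eq hx13)).upd 2 0 1 (le_of_eq hx30)).upd 2 1 1 (le_of_eq hx31)) ![1,1,1] (by decide) (by decide) 0 (by decide))
          · -- 13=(1,3)
            exact False.elim (cert_false T ((skipEmb 2).trans v) (by norm_num) (fun _ => hv _) (((((((LB_zero T ((skipEmb 2).trans v)).upd 0 1 1 (le_of_eq hx01)).upd 0 2 1 (le_of_eq hx03)).upd 1 0 1 (le_of_eq hx10)).upd 1 2 1 (le_of_eq hx13)).upd 2 0 1 (le_of_eq hx30)).upd 2 1 3 (le_of_eq hx31)) ![1,1,1] (by decide) (by decide) 0 (by decide))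
          · -- 13=(3,1)
            exact False.elim (cert_false T ((skipEmb 2).trans v) (by norm_num) (fun _ => hv _) (((((((LB_zero T ((skipEmb 2).trans v)).upd 0 1 1 (le_of_eq hx01)).upd 0 2 1 (le_of_eq hx03)).upd 1 0 1 (le_of_eq hx10)).upd 1 2 3 (le_of_eq hx13)).upd 2 0 1 (le_of_eq hx30)).upd 2 1 1 (le_of_eq hx31)) ![1,1,1] (by decide) (by decide) 0 (by decide))
        · -- 03=(1,2)
          have d13 := two_pair T (by norm_num : 2 < 4) ((pairEmb 1 3 (by decide)).trans v) (fun _ => hv _)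
          change (N T v 1 3 = 0 ∧ N T v 3 1 = 0) ∨ (N T v 1 3 = 1 ∧ N T v 3 1 = 1) ∨ (N T v 1 3 = 1 ∧ N T v 3 1 = 2) ∨ (N T v 1 3 = 2 ∧ N T v 3 1 = 1) ∨ (N T v 1 3 = 1 ∧ N T v 3 1 = 3) ∨ (N T v 1 3 = 3 ∧ N T v 3 1 = 1) at d13
          rw [← hx13, ← hx31] at d13
          rcases d13 with ⟨rfl, rfl⟩ | ⟨rfl, rfl⟩ | ⟨rfl, rfl⟩ | ⟨rfl, rfl⟩ | ⟨rfl, rfl⟩ | ⟨rfl, rfl⟩
          · -- 13=(0,0)
            have d23 := two_pair T (by norm_num : 2 < 4) ((pairEmb 2 3 (by decide)).trans v) (fun _ => hv _)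
            change (N T v 2 3 = 0 ∧ N T v 3 2 = 0) ∨ (N T v 2 3 = 1 ∧ N T v 3 2 = 1) ∨ (N T v 2 3 = 1 ∧ N T v 3 2 = 2) ∨ (N T v 2 3 = 2 ∧ N T v 3 2 = 1) ∨ (N T v 2 3 = 1 ∧ N T v 3 2 = 3) ∨ (N T v 2 3 = 3 ∧ N T v 3 2 = 1) at d23
            rw [← hx23, ← hx32] at d23
            rcases d23 with ⟨rfl, rfl⟩ | ⟨rfl, rfl⟩ | ⟨rfl, rfl⟩ | ⟨rfl, rfl⟩ | ⟨rfl, rfl⟩ | ⟨rfl, rfl⟩
            · -- 23=(0,0)
              refine ⟨(⟨![0, 1, 2, 3], ![0, 1, 2, 3], by decide, by decide⟩ : Equiv.Perm (Fin 4)), T.m 1, T.w 3, Or.inr (Or.inr (Or.inr (Or.inr (Or.inr (?_)))))⟩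
              show T.m 0 = 2 * T.m 1 ∧ T.m 1 = T.m 1 ∧ T.m 2 = T.m 1 ∧ T.m 3 = 2 * T.m 1 ∧ T.w 0 = 2 * T.w 3 ∧ T.w 1 = 2 * T.w 3 ∧ T.w 2 = 2 * T.w 3 ∧ T.w 3 = T.w 3 ∧ T.a 0 0 = -4 * T.w 3 ∧ T.a 0 1 = 2 * T.w 3 ∧ T.a 0 2 = 2 * T.w 3 ∧ T.a 0 3 = 2 * T.w 3 ∧ T.a 1 1 = -4 * T.w 3 ∧ T.a 1 2 = 0 ∧ T.a 1 3 = 0 ∧ T.a 2 2 = -4 * T.w 3 ∧ T.a 2 3 = 0 ∧ T.a 3 3 = -2 * T.w 3
              refine ⟨?_, ?_, ?_, ?_, ?_, ?_, ?_, ?_, ?_, ?_, ?_, ?_, ?_, ?_, ?_, ?_, ?_, ?_⟩ <;> omega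
            · -- 23=(1,1)
              exact False.elim (cert_false T ((skipEmb 1).trans v) (by norm_num) (fun _ => hv _) (((((((LB_zero T ((skipEmb 1).trans v)).upd 0 1 1 (le_of_eq hx02)).upd 0 2 1 (le_of_eq hx03)).upd 1 0 1 (le_of_eq hx20)).upd 1 2 1 (le_of_eq hx23)).upd 2 0 2 (le_of_eq hx30)).upd 2 1 1 (le_of_eq hx32)) ![1,1,1] (by decide) (by decide) 0 (by decide))
            · -- 23=(1,2)
              exact False.elim (cert_false T ((skipEmb 1).trans v) (by norm_num) (fun _ => hv _) (((((((LB_zero T ((skipEmb 1).trans v)).upd 0 1 1 (le_of_eq hx02)).upd 0 2 1 (le_of_eq hx03)).upd 1 0 1 (le_of_eq hx20)).upd 1 2 1 (le_of_eq hx23)).upd 2 0 2 (le_of_eq hx30)).upd 2 1 2 (le_of_eq hx32)) ![1,1,1] (by decide) (by decide) 0 (by decide))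
            · -- 23=(2,1)
              exact False.elim (cert_false T ((skipEmb 1).trans v) (by norm_num) (fun _ => hv _) (((((((LB_zero T ((skipEmb 1).trans v)).upd 0 1 1 (le_of_eq hx02)).upd 0 2 1 (le_of_eq hx03)).upd 1 0 1 (le_of_eq hx20)).upd 1 2 2 (le_of_eq hx23)).upd 2 0 2 (le_of_eq hx30)).upd 2 1 1 (le_of_eq hx32)) ![1,1,1] (by decide) (by decide) 0 (by decide))
            · -- 23=(1,3)
              exact False.elim (cert_false T ((skipEmb 1).trans v) (by norm_num) (fun _ => hv _) (((((((LB_zero T ((skipEmb 1).trans v)).upd 0 1 1 (le_of_eq hx02)).upd 0 2 1 (le_of_eq hx03)).upd 1 0 1 (le_of_eq hx20)).upd 1 2 1 (le_of_eq hx23)).upd 2 0 2 (le_of_eq hx30)).upd 2 1 3 (le_of_eq hx32)) ![1,1,1] (by decide) (by decide) 0 (by decide))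
            · -- 23=(3,1)
              exact False.elim (cert_false T ((skipEmb 1).trans v) (by norm_num) (fun _ => hv _) (((((((LB_zero T ((skipEmb 1).trans v)).upd 0 1 1 (le_of_eq hx02)).upd 0 2 1 (le_of_eq hx03)).upd 1 0 1 (le_of_eq hx20)).upd 1 2 3 (le_of_eq hx23)).upd 2 0 2 (le_of_eq hx30)).upd 2 1 1 (le_of_eq hx32)) ![1,1,1] (by decide) (by decide) 0 (by decide))
          · -- 13=(1,1)
            exact False.elim (cert_false T ((skipEmb 2).trans v) (by norm_num) (fun _ => hv _) (((((((LB_zero T ((skipEmb 2).trans v)).upd 0 1 1 (le_of_eq hx01)).upd 0 2 1 (le_of_eq hx03)).upd 1 0 1 (le_of_eq hx10)).upd 1 2 1 (le_of_eq hx13)).upd 2 0 2 (le_of_eq hx30)).upd 2 1 1 (le_of_eq hx31)) ![1,1,1] (by decide) (by decide) 0 (by decide))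
          · -- 13=(1,2)
            exact False.elim (cert_false T ((skipEmb 2).trans v) (by norm_num) (fun _ => hv _) (((((((LB_zero T ((skipEmb 2).trans v)).upd 0 1 1 (le_of_eq hx01)).upd 0 2 1 (le_of_eq hx03)).upd 1 0 1 (le_of_eq hx10)).upd 1 2 1 (le_of_eq hx13)).upd 2 0 2 (le_of_eq hx30)).upd 2 1 2 (le_of_eq hx31)) ![1,1,1] (by decide) (by decide) 0 (by decide))
          · -- 13=(2,1)
            exact False.elim (cert_false T ((skipEmb 2).trans v) (by norm_num) (fun _ => hv _) (((((((LB_zero T ((skipEmb 2).trans v)).upd 0 1 1 (le_of_eq hx01)).upd 0 2 1 (le_of_eq hx03)).upd 1 0 1 (le_of_eq hx10)).upd 1 2 2 (le_of_eq hx13)).upd 2 0 2 (le_of_eq hx30)).upd 2 1 1 (le_of_eq hx31)) ![1,1,1] (by decide) (by decide) 0 (by decide))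
          · -- 13=(1,3)
            exact False.elim (cert_false T ((skipEmb 2).trans v) (by norm_num) (fun _ => hv _) (((((((LB_zero T ((skipEmb 2).trans v)).upd 0 1 1 (le_of_eq hx01)).upd 0 2 1 (le_of_eq hx03)).upd 1 0 1 (le_of_eq hx10)).upd 1 2 1 (le_of_eq hx13)).upd 2 0 2 (le_of_eq hx30)).upd 2 1 3 (le_of_eq hx31)) ![1,1,1] (by decide) (by decide) 0 (by decide))
          · -- 13=(3,1)
            exact False.elim (cert_false T ((skipEmb 2).trans v) (by norm_num) (fun _ => hv _) (((((((LB_zero T ((skipEmb 2).trans v)).upd 0 1 1 (le_of_eq hx01)).upd 0 2 1 (le_of_eq hx03)).upd 1 0 1 (le_of_eq hx10)).upd 1 2 3 (le_of_eq hx13)).upd 2 0 2 (le_of_eq hx30)).upd 2 1 1 (le_of_eq hx31)) ![1,1,1] (by decide) (by decide) 0 (by decide))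
        · -- 03=(2,1)
          have d13 := two_pair T (by norm_num : 2 < 4) ((pairEmb 1 3 (by decide)).trans v) (fun _ => hv _)
          change (N T v 1 3 = 0 ∧ N T v 3 1 = 0) ∨ (N T v 1 3 = 1 ∧ N T v 3 1 = 1) ∨ (N T v 1 3 = 1 ∧ N T v 3 1 = 2) ∨ (N T v 1 3 = 2 ∧ N T v 3 1 = 1) ∨ (N T v 1 3 = 1 ∧ N T v 3 1 = 3) ∨ (N T v 1 3 = 3 ∧ N T v 3 1 = 1) at d13
          rw [← hx13, ← hx31] at d13
          rcases d13 with ⟨rfl, rfl⟩ | ⟨rfl, rfl⟩ | ⟨rfl, rfl⟩ | ⟨rfl, rfl⟩ | ⟨rfl, rfl⟩ | ⟨rfl, rfl⟩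
          · -- 13=(0,0)
            have d23 := two_pair T (by norm_num : 2 < 4) ((pairEmb 2 3 (by decide)).trans v) (fun _ => hv _)
            change (N T v 2 3 = 0 ∧ N T v 3 2 = 0) ∨ (N T v 2 3 = 1 ∧ N T v 3 2 = 1) ∨ (N T v 2 3 = 1 ∧ N T v 3 2 = 2) ∨ (N T v 2 3 = 2 ∧ N T v 3 2 = 1) ∨ (N T v 2 3 = 1 ∧ N T v 3 2 = 3) ∨ (N T v 2 3 = 3 ∧ N T v 3 2 = 1) at d23
            rw [← hx23, ← hx32] at d23
            rcases d23 with ⟨rfl, rfl⟩ | ⟨rfl, rfl⟩ | ⟨rfl, rfl⟩ | ⟨rfl, rfl⟩ | ⟨rfl, rfl⟩ | ⟨rfl, rfl⟩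
            · -- 23=(0,0)
              refine ⟨(⟨![0, 1, 2, 3], ![0, 1, 2, 3], by decide, by decide⟩ : Equiv.Perm (Fin 4)), T.m 1, T.w 0, Or.inr (Or.inr (Or.inr (Or.inr (Or.inl ?_))))⟩
              show T.m 0 = 2 * T.m 1 ∧ T.m 1 = T.m 1 ∧ T.m 2 = T.m 1 ∧ T.m 3 = T.m 1 ∧ T.w 0 = T.w 0 ∧ T.w 1 = T.w 0 ∧ T.w 2 = T.w 0 ∧ T.w 3 = 2 * T.w 0 ∧ T.a 0 0 = -2 * T.w 0 ∧ T.a 0 1 = T.w 0 ∧ T.a 0 2 = T.w 0 ∧ T.a 0 3 = 2 * T.w 0 ∧ T.a 1 1 = -2 * T.w 0 ∧ T.a 1 2 = 0 ∧ T.a 1 3 = 0 ∧ T.a 2 2 = -2 * T.w 0 ∧ T.a 2 3 = 0 ∧ T.a 3 3 = -4 * T.w 0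
              refine ⟨?_, ?_, ?_, ?_, ?_, ?_, ?_, ?_, ?_, ?_, ?_, ?_, ?_, ?_, ?_, ?_, ?_, ?_⟩ <;> omega
            · -- 23=(1,1)
              exact False.elim (cert_false T ((skipEmb 1).trans v) (by norm_num) (fun _ => hv _) (((((((LB_zero T ((skipEmb 1).trans v)).upd 0 1 1 (le_of_eq hx02)).upd 0 2 2 (le_of_eq hx03)).upd 1 0 1 (le_of_eq hx20)).upd 1 2 1 (le_of_eq hx23)).upd 2 0 1 (le_of_eq hx30)).upd 2 1 1 (le_of_eq hx32)) ![1,1,1] (by decide) (by decide) 0 (by decide))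
            · -- 23=(1,2)
              exact False.elim (cert_false T ((skipEmb 1).trans v) (by norm_num) (fun _ => hv _) (((((((LB_zero T ((skipEmb 1).trans v)).upd 0 1 1 (le_of_eq hx02)).upd 0 2 2 (le_of_eq hx03)).upd 1 0 1 (le_of_eq hx20)).upd 1 2 1 (le_of_eq hx23)).upd 2 0 1 (le_of_eq hx30)).upd 2 1 2 (le_of_eq hx32)) ![1,1,1] (by decide) (by decide) 0 (by decide))
            · -- 23=(2,1)
              exact False.elim (cert_false T ((skipEmb 1).trans v) (by norm_num) (fun _ => hv _) (((((((LB_zero T ((skipEmb 1).trans v)).upd 0 1 1 (le_of_eq hx02)).upd 0 2 2 (le_of_eq hx03)).upd 1 0 1 (le_of_eq hx20)).upd 1 2 2 (le_of_eq hx23)).upd 2 0 1 (le_of_eq hx30)).upd 2 1 1 (le_of_eq hx32)) ![1,1,1] (by decide) (by decide) 0 (by decide))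
            · -- 23=(1,3)
              exact False.elim (cert_false T ((skipEmb 1).trans v) (by norm_num) (fun _ => hv _) (((((((LB_zero T ((skipEmb 1).trans v)).upd 0 1 1 (le_of_eq hx02)).upd 0 2 2 (le_of_eq hx03)).upd 1 0 1 (le_of_eq hx20)).upd 1 2 1 (le_of_eq hx23)).upd 2 0 1 (le_of_eq hx30)).upd 2 1 3 (le_of_eq hx32)) ![1,1,1] (by decide) (by decide) 0 (by decide))
            · -- 23=(3,1)
              exact False.elim (cert_false T ((skipEmb 1).trans v) (by norm_num) (fun _ => hv _) (((((((LB_zero T ((skipEmb 1).trans v)).upd 0 1 1 (le_of_eq hx02)).upd 0 2 2 (le_of_eq hx03)).upd 1 0 1 (le_of_eq hx20)).upd 1 2 3 (le_of_eq hx23)).upd 2 0 1 (le_of_eq hx30)).upd 2 1 1 (le_of_eq hx32)) ![1,1,1] (by decide) (by decide) 0 (by decide))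
          · -- 13=(1,1)
            exact False.elim (cert_false T ((skipEmb 2).trans v) (by norm_num) (fun _ => hv _) (((((((LB_zero T ((skipEmb 2).trans v)).upd 0 1 1 (le_of_eq hx01)).upd 0 2 2 (le_of_eq hx03)).upd 1 0 1 (le_of_eq hx10)).upd 1 2 1 (le_of_eq hx13)).upd 2 0 1 (le_of_eq hx30)).upd 2 1 1 (le_of_eq hx31)) ![1,1,1] (by decide) (by decide) 0 (by decide))
          · -- 13=(1,2)
            exact False.elim (cert_false T ((skipEmb 2).trans v) (by norm_num) (fun _ => hv _) (((((((LB_zero T ((skipEmb 2).trans v)).upd 0 1 1 (le_of_eq hx01)).upd 0 2 2 (le_of_eq hx03)).upd 1 0 1 (le_of_eq hx10)).upd 1 2 1 (le_of_eq hx13)).upd 2 0 1 (le_of_eq hx30)).upd 2 1 2 (le_of_eq hx31)) ![1,1,1] (by decide) (by decide) 0 (by decide))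
          · -- 13=(2,1)
            exact False.elim (cert_false T ((skipEmb 2).trans v) (by norm_num) (fun _ => hv _) (((((((LB_zero T ((skipEmb 2).trans v)).upd 0 1 1 (le_of_eq hx01)).upd 0 2 2 (le_of_eq hx03)).upd 1 0 1 (le_of_eq hx10)).upd 1 2 2 (le_of_eq hx13)).upd 2 0 1 (le_of_eq hx30)).upd 2 1 1 (le_of_eq hx31)) ![1,1,1] (by decide) (by decide) 0 (by decide))
          · -- 13=(1,3)
            exact False.elim (cert_false T ((skipEmb 2).trans v) (by norm_num) (fun _ => hv _) (((((((LB_zero T ((skipEmb 2).trans v)).upd 0 1 1 (le_of_eq hx01)).upd 0 2 2 (le_of_eq hx03)).upd 1 0 1 (le_of_eq hx10)).upd 1 2 1 (le_of_eq hx13)).upd 2 0 1 (le_of_eq hx30)).upd 2 1 3 (le_of_eq hx31)) ![1,1,1] (by decide) (by decide) 0 (by decide))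
          · -- 13=(3,1)
            exact False.elim (cert_false T ((skipEmb 2).trans v) (by norm_num) (fun _ => hv _) (((((((LB_zero T ((skipEmb 2).trans v)).upd 0 1 1 (le_of_eq hx01)).upd 0 2 2 (le_of_eq hx03)).upd 1 0 1 (le_of_eq hx10)).upd 1 2 3 (le_of_eq hx13)).upd 2 0 1 (le_of_eq hx30)).upd 2 1 1 (le_of_eq hx31)) ![1,1,1] (by decide) (by decide) 0 (by decide))
        · -- 03=(1,3)
          exact False.elim (cert_false T ((skipEmb 2).trans v) (by norm_num) (fun _ => hv _) (((((LB_zero T ((skipEmb 2).trans v)).upd 0 1 1 (le_of_eq hx01)).upd 0 2 1 (le_of_eq hx03)).upd 1 0 1 (le_of_eq hx10)).upd 2 0 3 (le_of_eq hx30)) ![2,1,3] (by decide) (by decide) 0 (by decide))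
        · -- 03=(3,1)
          exact False.elim (cert_false T ((skipEmb 2).trans v) (by norm_num) (fun _ => hv _) (((((LB_zero T ((skipEmb 2).trans v)).upd 0 1 1 (le_of_eq hx01)).upd 0 2 3 (le_of_eq hx03)).upd 1 0 1 (le_of_eq hx10)).upd 2 0 1 (le_of_eq hx30)) ![2,1,1] (by decide) (by decide) 0 (by decide))
      · -- 12=(1,1)
        exact False.elim (cert_false T ((skipEmb 3).trans v) (by norm_num) (fun _ => hv _) (((((((LB_zero T ((skipEmb 3).trans v)).upd 0 1 1 (le_of_eq hx01)).upd 0 2 1 (le_of_eq hx02)).upd 1 0 1 (le_of_eq hx10)).upd 1 2 1 (le_of_eq hx12)).upd 2 0 1 (le_of_eq hx20)).upd 2 1 1 (le_of_eq hx21)) ![1,1,1] (by decide) (by decide) 0 (by decide))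
      · -- 12=(1,2)
        exact False.elim (cert_false T ((skipEmb 3).trans v) (by norm_num) (fun _ => hv _) (((((((LB_zero T ((skipEmb 3).trans v)).upd 0 1 1 (le_of_eq hx01)).upd 0 2 1 (le_of_eq hx02)).upd 1 0 1 (le_of_eq hx10)).upd 1 2 1 (le_of_eq hx12)).upd 2 0 1 (le_of_eq hx20)).upd 2 1 2 (le_of_eq hx21)) ![1,1,1] (by decide) (by decide) 0 (by decide))
      · -- 12=(2,1)
        exact False.elim (cert_false T ((skipEmb 3).trans v) (by norm_num) (fun _ => hv _) (((((((LB_zero T ((skipEmb 3).trans v)).upd 0 1 1 (le_of_eq hx01)).upd 0 2 1 (le_of_eq hx02)).upd 1 0 1 (le_of_eq hx10)).upd 1 2 2 (le_of_eq hx12)).upd 2 0 1 (le_of_eq hx20)).upd 2 1 1 (le_of_eq hx21)) ![1,1,1] (by decide) (by decide) 0 (by decide))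
      · -- 12=(1,3)
        exact False.elim (cert_false T ((skipEmb 3).trans v) (by norm_num) (fun _ => hv _) (((((((LB_zero T ((skipEmb 3).trans v)).upd 0 1 1 (le_of_eq hx01)).upd 0 2 1 (le_of_eq hx02)).upd 1 0 1 (le_of_eq hx10)).upd 1 2 1 (le_of_eq hx12)).upd 2 0 1 (le_of_eq hx20)).upd 2 1 3 (le_of_eq hx21)) ![1,1,1] (by decide) (by decide) 0 (by decide))
      · -- 12=(3,1)
        exact False.elim (cert_false T ((skipEmb 3).trans v) (by norm_num) (fun _ => hv _) (((((((LB_zero T ((skipEmb 3).trans v)).upd 0 1 1 (le_of_eq hx01)).upd 0 2 1 (le_of_eq hx02)).upd 1 0 1 (le_of_eq hx10)).upd 1 2 3 (le_of_eq hx12)).upd 2 0 1 (le_of_eq hx20)).upd 2 1 1 (le_of_eq hx21)) ![1,1,1] (by decide) (by decide) 0 (by decide))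
    · -- 02=(1,2)
      have d12 := two_pair T (by norm_num : 2 < 4) ((pairEmb 1 2 (by decide)).trans v) (fun _ => hv _)
      change (N T v 1 2 = 0 ∧ N T v 2 1 = 0) ∨ (N T v 1 2 = 1 ∧ N T v 2 1 = 1) ∨ (N T v 1 2 = 1 ∧ N T v 2 1 = 2) ∨ (N T v 1 2 = 2 ∧ N T v 2 1 = 1) ∨ (N T v 1 2 = 1 ∧ N T v 2 1 = 3) ∨ (N T v 1 2 = 3 ∧ N T v 2 1 = 1) at d12
      rw [← hx12, ← hx21] at d12
      rcases d12 with ⟨rfl, rfl⟩ | ⟨rfl, rfl⟩ | ⟨rfl, rfl⟩ | ⟨rfl, rfl⟩ | ⟨rfl, rfl⟩ | ⟨rfl, rfl⟩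
      · -- 12=(0,0)
        have d03 := two_pair T (by norm_num : 2 < 4) ((pairEmb 0 3 (by decide)).trans v) (fun _ => hv _)
        change (N T v 0 3 = 0 ∧ N T v 3 0 = 0) ∨ (N T v 0 3 = 1 ∧ N T v 3 0 = 1) ∨ (N T v 0 3 = 1 ∧ N T v 3 0 = 2) ∨ (N T v 0 3 = 2 ∧ N T v 3 0 = 1) ∨ (N T v 0 3 = 1 ∧ N T v 3 0 = 3) ∨ (N T v 0 3 = 3 ∧ N T v 3 0 = 1) at d03
        rw [← hx03, ← hx30] at d03
        rcases d03 with ⟨rfl, rfl⟩ | ⟨rfl, rfl⟩ | ⟨rfl, rfl⟩ | ⟨rfl, rfl⟩ | ⟨rfl, rfl⟩ | ⟨rfl, rfl⟩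
        · -- 03=(0,0)
          have d13 := two_pair T (by norm_num : 2 < 4) ((pairEmb 1 3 (by decide)).trans v) (fun _ => hv _)
          change (N T v 1 3 = 0 ∧ N T v 3 1 = 0) ∨ (N T v 1 3 = 1 ∧ N T v 3 1 = 1) ∨ (N T v 1 3 = 1 ∧ N T v 3 1 = 2) ∨ (N T v 1 3 = 2 ∧ N T v 3 1 = 1) ∨ (N T v 1 3 = 1 ∧ N T v 3 1 = 3) ∨ (N T v 1 3 = 3 ∧ N T v 3 1 = 1) at d13
          rw [← hx13, ← hx31] at d13
          rcases d13 with ⟨rfl, rfl⟩ | ⟨rfl, rfl⟩ | ⟨rfl, rfl⟩ | ⟨rfl, rfl⟩ | ⟨rfl, rfl⟩ | ⟨rfl, rfl⟩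
          · -- 13=(0,0)
            have d23 := two_pair T (by norm_num : 2 < 4) ((pairEmb 2 3 (by decide)).trans v) (fun _ => hv _)
            change (N T v 2 3 = 0 ∧ N T v 3 2 = 0) ∨ (N T v 2 3 = 1 ∧ N T v 3 2 = 1) ∨ (N T v 2 3 = 1 ∧ N T v 3 2 = 2) ∨ (N T v 2 3 = 2 ∧ N T v 3 2 = 1) ∨ (N T v 2 3 = 1 ∧ N T v 3 2 = 3) ∨ (N T v 2 3 = 3 ∧ N T v 3 2 = 1) at d23
            rw [← hx23, ← hx32] at d23
            rcases d23 with ⟨rfl, rfl⟩ | ⟨rfl, rfl⟩ | ⟨rfl, rfl⟩ | ⟨rfl, rfl⟩ | ⟨rfl, rfl⟩ | ⟨rfl, rfl⟩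
            · -- 23=(0,0)
              exfalso; omega
            · -- 23=(1,1)
              exfalso; omega
            · -- 23=(1,2)
              exact False.elim (cert_false T ((skipEmb 1).trans v) (by norm_num) (fun _ => hv _) (((((LB_zero T ((skipEmb 1).trans v)).upd 0 1 1 (le_of_eq hx02)).upd 1 0 2 (le_of_eq hx20)).upd 1 2 1 (le_of_eq hx23)).upd 2 1 2 (le_of_eq hx32)) ![1,2,2] (by decide) (by decide) 0 (by decide))
            · -- 23=(2,1)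
              exact False.elim (cert_false T ((skipEmb 1).trans v) (by norm_num) (fun _ => hv _) (((((LB_zero T ((skipEmb 1).trans v)).upd 0 1 1 (le_of_eq hx02)).upd 1 0 2 (le_of_eq hx20)).upd 1 2 2 (le_of_eq hx23)).upd 2 1 1 (le_of_eq hx32)) ![1,2,1] (by decide) (by decide) 0 (by decide))
            · -- 23=(1,3)
              exact False.elim (cert_false T ((skipEmb 1).trans v) (by norm_num) (fun _ => hv _) (((((LB_zero T ((skipEmb 1).trans v)).upd 0 1 1 (le_of_eq hx02)).upd 1 0 2 (le_of_eq hx20)).upd 1 2 1 (le_of_eq hx23)).upd 2 1 3 (le_of_eq hx32)) ![1,2,2] (by decide) (by decide) 0 (by decide))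
            · -- 23=(3,1)
              exact False.elim (cert_false T ((skipEmb 1).trans v) (by norm_num) (fun _ => hv _) (((((LB_zero T ((skipEmb 1).trans v)).upd 0 1 1 (le_of_eq hx02)).upd 1 0 2 (le_of_eq hx20)).upd 1 2 3 (le_of_eq hx23)).upd 2 1 1 (le_of_eq hx32)) ![1,2,1] (by decide) (by decide) 0 (by decide))
          · -- 13=(1,1)
            have d23 := two_pair T (by norm_num : 2 < 4) ((pairEmb 2 3 (by decide)).trans v) (fun _ => hv _)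
            change (N T v 2 3 = 0 ∧ N T v 3 2 = 0) ∨ (N T v 2 3 = 1 ∧ N T v 3 2 = 1) ∨ (N T v 2 3 = 1 ∧ N T v 3 2 = 2) ∨ (N T v 2 3 = 2 ∧ N T v 3 2 = 1) ∨ (N T v 2 3 = 1 ∧ N T v 3 2 = 3) ∨ (N T v 2 3 = 3 ∧ N T v 3 2 = 1) at d23
            rw [← hx23, ← hx32] at d23
            rcases d23 with ⟨rfl, rfl⟩ | ⟨rfl, rfl⟩ | ⟨rfl, rfl⟩ | ⟨rfl, rfl⟩ | ⟨rfl, rfl⟩ | ⟨rfl, rfl⟩
            · -- 23=(0,0)
              exfalso; omega
            · -- 23=(1,1)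
              exfalso; omega
            · -- 23=(1,2)
              exact False.elim (cert_false T ((skipEmb 1).trans v) (by norm_num) (fun _ => hv _) (((((LB_zero T ((skipEmb 1).trans v)).upd 0 1 1 (le_of_eq hx02)).upd 1 0 2 (le_of_eq hx20)).upd 1 2 1 (le_of_eq hx23)).upd 2 1 2 (le_of_eq hx32)) ![1,2,2] (by decide) (by decide) 0 (by decide))
            · -- 23=(2,1)
              exact False.elim (cert_false T ((skipEmb 1).trans v) (by norm_num) (fun _ => hv _) (((((LB_zero T ((skipEmb 1).trans v)).upd 0 1 1 (le_of_eq hx02)).upd 1 0 2 (le_of_eq hx20)).upd 1 2 2 (le_of_eq hx23)).upd 2 1 1 (le_of_eq hx32)) ![1,2,1] (by decide) (by decide) 0 (by decide))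
            · -- 23=(1,3)
              exact False.elim (cert_false T ((skipEmb 1).trans v) (by norm_num) (fun _ => hv _) (((((LB_zero T ((skipEmb 1).trans v)).upd 0 1 1 (le_of_eq hx02)).upd 1 0 2 (le_of_eq hx20)).upd 1 2 1 (le_of_eq hx23)).upd 2 1 3 (le_of_eq hx32)) ![1,2,2] (by decide) (by decide) 0 (by decide))
            · -- 23=(3,1)
              exact False.elim (cert_false T ((skipEmb 1).trans v) (by norm_num) (fun _ => hv _) (((((LB_zero T ((skipEmb 1).trans v)).upd 0 1 1 (le_of_eq hx02)).upd 1 0 2 (le_of_eq hx20)).upd 1 2 3 (le_of_eq hx23)).upd 2 1 1 (le_of_eq hx32)) ![1,2,1] (by decide) (by decide) 0 (by decide))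
          · -- 13=(1,2)
            have d23 := two_pair T (by norm_num : 2 < 4) ((pairEmb 2 3 (by decide)).trans v) (fun _ => hv _)
            change (N T v 2 3 = 0 ∧ N T v 3 2 = 0) ∨ (N T v 2 3 = 1 ∧ N T v 3 2 = 1) ∨ (N T v 2 3 = 1 ∧ N T v 3 2 = 2) ∨ (N T v 2 3 = 2 ∧ N T v 3 2 = 1) ∨ (N T v 2 3 = 1 ∧ N T v 3 2 = 3) ∨ (N T v 2 3 = 3 ∧ N T v 3 2 = 1) at d23
            rw [← hx23, ← hx32] at d23
            rcases d23 with ⟨rfl, rfl⟩ | ⟨rfl, rfl⟩ | ⟨rfl, rfl⟩ | ⟨rfl, rfl⟩ | ⟨rfl, rfl⟩ | ⟨rfl, rfl⟩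
            · -- 23=(0,0)
              refine ⟨(⟨![2, 0, 1, 3], ![1, 2, 0, 3], by decide, by decide⟩ : Equiv.Perm (Fin 4)), T.m 2, T.w 2, Or.inr (Or.inr (Or.inl ?_))⟩
              show T.m 2 = T.m 2 ∧ T.m 0 = T.m 2 ∧ T.m 1 = T.m 2 ∧ T.m 3 = T.m 2 ∧ T.w 2 = T.w 2 ∧ T.w 0 = 2 * T.w 2 ∧ T.w 1 = 2 * T.w 2 ∧ T.w 3 = T.w 2 ∧ T.a 2 2 = -2 * T.w 2 ∧ T.a 2 0 = 2 * T.w 2 ∧ T.a 2 1 = 0 ∧ T.a 2 3 = 0 ∧ T.a 0 0 = -4 * T.w 2 ∧ T.a 0 1 = 2 * T.w 2 ∧ T.a 0 3 = 0 ∧ T.a 1 1 = -4 * T.w 2 ∧ T.a 1 3 = 2 * T.w 2 ∧ T.a 3 3 = -2 * T.w 2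
              refine ⟨?_, ?_, ?_, ?_, ?_, ?_, ?_, ?_, ?_, ?_, ?_, ?_, ?_, ?_, ?_, ?_, ?_, ?_⟩ <;> omega
            · -- 23=(1,1)
              exfalso; omega
            · -- 23=(1,2)
              exact False.elim (cert_false T ((skipEmb 1).trans v) (by norm_num) (fun _ => hv _) (((((LB_zero T ((skipEmb 1).trans v)).upd 0 1 1 (le_of_eq hx02)).upd 1 0 2 (le_of_eq hx20)).upd 1 2 1 (le_of_eq hx23)).upd 2 1 2 (le_of_eq hx32)) ![1,2,2] (by decide) (by decide) 0 (by decide))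
            · -- 23=(2,1)
              exact False.elim (cert_false T ((skipEmb 1).trans v) (by norm_num) (fun _ => hv _) (((((LB_zero T ((skipEmb 1).trans v)).upd 0 1 1 (le_of_eq hx02)).upd 1 0 2 (le_of_eq hx20)).upd 1 2 2 (le_of_eq hx23)).upd 2 1 1 (le_of_eq hx32)) ![1,2,1] (by decide) (by decide) 0 (by decide))
            · -- 23=(1,3)
              exact False.elim (cert_false T ((skipEmb 1).trans v) (by norm_num) (fun _ => hv _) (((((LB_zero T ((skipEmb 1).trans v)).upd 0 1 1 (le_of_eq hx02)).upd 1 0 2 (le_of_eq hx20)).upd 1 2 1 (le_of_eq hx23)).upd 2 1 3 (le_of_eq hx32)) ![1,2,2] (by decide) (by decide) 0 (by decide))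
            · -- 23=(3,1)
              exact False.elim (cert_false T ((skipEmb 1).trans v) (by norm_num) (fun _ => hv _) (((((LB_zero T ((skipEmb 1).trans v)).upd 0 1 1 (le_of_eq hx02)).upd 1 0 2 (le_of_eq hx20)).upd 1 2 3 (le_of_eq hx23)).upd 2 1 1 (le_of_eq hx32)) ![1,2,1] (by decide) (by decide) 0 (by decide))
          · -- 13=(2,1)
            have d23 := two_pair T (by norm_num : 2 < 4) ((pairEmb 2 3 (by decide)).trans v) (fun _ => hv _)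
            change (N T v 2 3 = 0 ∧ N T v 3 2 = 0) ∨ (N T v 2 3 = 1 ∧ N T v 3 2 = 1) ∨ (N T v 2 3 = 1 ∧ N T v 3 2 = 2) ∨ (N T v 2 3 = 2 ∧ N T v 3 2 = 1) ∨ (N T v 2 3 = 1 ∧ N T v 3 2 = 3) ∨ (N T v 2 3 = 3 ∧ N T v 3 2 = 1) at d23
            rw [← hx23, ← hx32] at d23
            rcases d23 with ⟨rfl, rfl⟩ | ⟨rfl, rfl⟩ | ⟨rfl, rfl⟩ | ⟨rfl, rfl⟩ | ⟨rfl, rfl⟩ | ⟨rfl, rfl⟩
            · -- 23=(0,0)
              refine ⟨(⟨![2, 0, 1, 3], ![1, 2, 0, 3], by decide, by decide⟩ : Equiv.Perm (Fin 4)), T.m 3, T.w 2, Or.inr (Or.inl ?_)⟩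
              show T.m 2 = 2 * T.m 3 ∧ T.m 0 = 2 * T.m 3 ∧ T.m 1 = 2 * T.m 3 ∧ T.m 3 = T.m 3 ∧ T.w 2 = T.w 2 ∧ T.w 0 = 2 * T.w 2 ∧ T.w 1 = 2 * T.w 2 ∧ T.w 3 = 4 * T.w 2 ∧ T.a 2 2 = -2 * T.w 2 ∧ T.a 2 0 = 2 * T.w 2 ∧ T.a 2 1 = 0 ∧ T.a 2 3 = 0 ∧ T.a 0 0 = -4 * T.w 2 ∧ T.a 0 1 = 2 * T.w 2 ∧ T.a 0 3 = 0 ∧ T.a 1 1 = -4 * T.w 2 ∧ T.a 1 3 = 4 * T.w 2 ∧ T.a 3 3 = -8 * T.w 2
              refine ⟨?_, ?_, ?_, ?_, ?_, ?_, ?_, ?_, ?_, ?_, ?_, ?_, ?_, ?_, ?_, ?_, ?_, ?_⟩ <;> omega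
            · -- 23=(1,1)
              exfalso; omega
            · -- 23=(1,2)
              exact False.elim (cert_false T ((skipEmb 1).trans v) (by norm_num) (fun _ => hv _) (((((LB_zero T ((skipEmb 1).trans v)).upd 0 1 1 (le_of_eq hx02)).upd 1 0 2 (le_of_eq hx20)).upd 1 2 1 (le_of_eq hx23)).upd 2 1 2 (le_of_eq hx32)) ![1,2,2] (by decide) (by decide) 0 (by decide))
            · -- 23=(2,1)
              exact False.elim (cert_false T ((skipEmb 1).trans v) (by norm_num) (fun _ => hv _) (((((LB_zero T ((skipEmb 1).trans v)).upd 0 1 1 (le_of_eq hx02)).upd 1 0 2 (le_of_eq hx20)).upd 1 2 2 (le_of_eq hx23)).upd 2 1 1 (le_of_eq hx32)) ![1,2,1] (by decide) (by decide) 0 (by decide))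
            · -- 23=(1,3)
              exact False.elim (cert_false T ((skipEmb 1).trans v) (by norm_num) (fun _ => hv _) (((((LB_zero T ((skipEmb 1).trans v)).upd 0 1 1 (le_of_eq hx02)).upd 1 0 2 (le_of_eq hx20)).upd 1 2 1 (le_of_eq hx23)).upd 2 1 3 (le_of_eq hx32)) ![1,2,2] (by decide) (by decide) 0 (by decide))
            · -- 23=(3,1)
              exact False.elim (cert_false T ((skipEmb 1).trans v) (by norm_num) (fun _ => hv _) (((((LB_zero T ((skipEmb 1).trans v)).upd 0 1 1 (le_of_eq hx02)).upd 1 0 2 (le_of_eq hx20)).upd 1 2 3 (le_of_eq hx23)).upd 2 1 1 (le_of_eq hx32)) ![1,2,1] (by decide) (by decide) 0 (by decide))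
          · -- 13=(1,3)
            exact False.elim (cert_false T ((skipEmb 2).trans v) (by norm_num) (fun _ => hv _) (((((LB_zero T ((skipEmb 2).trans v)).upd 0 1 1 (le_of_eq hx01)).upd 1 0 1 (le_of_eq hx10)).upd 1 2 1 (le_of_eq hx13)).upd 2 1 3 (le_of_eq hx31)) ![1,2,3] (by decide) (by decide) 0 (by decide))
          · -- 13=(3,1)
            exact False.elim (cert_false T ((skipEmb 2).trans v) (by norm_num) (fun _ => hv _) (((((LB_zero T ((skipEmb 2).trans v)).upd 0 1 1 (le_of_eq hx01)).upd 1 0 1 (le_of_eq hx10)).upd 1 2 3 (le_of_eq hx13)).upd 2 1 1 (le_of_eq hx31)) ![1,2,1] (by decide) (by decide) 0 (by decide))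
        · -- 03=(1,1)
          have d13 := two_pair T (by norm_num : 2 < 4) ((pairEmb 1 3 (by decide)).trans v) (fun _ => hv _)
          change (N T v 1 3 = 0 ∧ N T v 3 1 = 0) ∨ (N T v 1 3 = 1 ∧ N T v 3 1 = 1) ∨ (N T v 1 3 = 1 ∧ N T v 3 1 = 2) ∨ (N T v 1 3 = 2 ∧ N T v 3 1 = 1) ∨ (N T v 1 3 = 1 ∧ N T v 3 1 = 3) ∨ (N T v 1 3 = 3 ∧ N T v 3 1 = 1) at d13
          rw [← hx13, ← hx31] at d13
          rcases d13 with ⟨rfl, rfl⟩ | ⟨rfl, rfl⟩ | ⟨rfl, rfl⟩ | ⟨rfl, rfl⟩ | ⟨rfl, rfl⟩ | ⟨rfl, rfl⟩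
          · -- 13=(0,0)
            have d23 := two_pair T (by norm_num : 2 < 4) ((pairEmb 2 3 (by decide)).trans v) (fun _ => hv _)
            change (N T v 2 3 = 0 ∧ N T v 3 2 = 0) ∨ (N T v 2 3 = 1 ∧ N T v 3 2 = 1) ∨ (N T v 2 3 = 1 ∧ N T v 3 2 = 2) ∨ (N T v 2 3 = 2 ∧ N T v 3 2 = 1) ∨ (N T v 2 3 = 1 ∧ N T v 3 2 = 3) ∨ (N T v 2 3 = 3 ∧ N T v 3 2 = 1) at d23
            rw [← hx23, ← hx32] at d23
            rcases d23 with ⟨rfl, rfl⟩ | ⟨rfl, rfl⟩ | ⟨rfl, rfl⟩ | ⟨rfl, rfl⟩ | ⟨rfl, rfl⟩ | ⟨rfl, rfl⟩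
            · -- 23=(0,0)
              refine ⟨(⟨![0, 1, 3, 2], ![0, 1, 3, 2], by decide, by decide⟩ : Equiv.Perm (Fin 4)), T.m 1, T.w 2, Or.inr (Or.inr (Or.inr (Or.inr (Or.inr (?_)))))⟩
              show T.m 0 = 2 * T.m 1 ∧ T.m 1 = T.m 1 ∧ T.m 3 = T.m 1 ∧ T.m 2 = 2 * T.m 1 ∧ T.w 0 = 2 * T.w 2 ∧ T.w 1 = 2 * T.w 2 ∧ T.w 3 = 2 * T.w 2 ∧ T.w 2 = T.w 2 ∧ T.a 0 0 = -4 * T.w 2 ∧ T.a 0 1 = 2 * T.w 2 ∧ T.a 0 3 = 2 * T.w 2 ∧ T.a 0 2 = 2 * T.w 2 ∧ T.a 1 1 = -4 * T.w 2 ∧ T.a 1 3 = 0 ∧ T.a 1 2 = 0 ∧ T.a 3 3 = -4 * T.w 2 ∧ T.a 3 2 = 0 ∧ T.a 2 2 = -2 * T.w 2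
              refine ⟨?_, ?_, ?_, ?_, ?_, ?_, ?_, ?_, ?_, ?_, ?_, ?_, ?_, ?_, ?_, ?_, ?_, ?_⟩ <;> omega
            · -- 23=(1,1)
              exact False.elim (cert_false T ((skipEmb 1).trans v) (by norm_num) (fun _ => hv _) (((((((LB_zero T ((skipEmb 1).trans v)).upd 0 1 1 (le_of_eq hx02)).upd 0 2 1 (le_of_eq hx03)).upd 1 0 2 (le_of_eq hx20)).upd 1 2 1 (le_of_eq hx23)).upd 2 0 1 (le_of_eq hx30)).upd 2 1 1 (le_of_eq hx32)) ![1,1,1] (by decide) (by decide) 0 (by decide))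
            · -- 23=(1,2)
              exact False.elim (cert_false T ((skipEmb 1).trans v) (by norm_num) (fun _ => hv _) (((((((LB_zero T ((skipEmb 1).trans v)).upd 0 1 1 (le_of_eq hx02)).upd 0 2 1 (le_of_eq hx03)).upd 1 0 2 (le_of_eq hx20)).upd 1 2 1 (le_of_eq hx23)).upd 2 0 1 (le_of_eq hx30)).upd 2 1 2 (le_of_eq hx32)) ![1,1,1] (by decide) (by decide) 0 (by decide))
            · -- 23=(2,1)
              exact False.elim (cert_false T ((skipEmb 1).trans v) (by norm_num) (fun _ => hv _) (((((((LB_zero T ((skipEmb 1).trans v)).upd 0 1 1 (le_of_eq hx02)).upd 0 2 1 (le_of_eq hx03)).upd 1 0 2 (le_of_eq hx20)).upd 1 2 2 (le_of_eq hx23)).upd 2 0 1 (le_of_eq hx30)).upd 2 1 1 (le_of_eq hx32)) ![1,1,1] (by decide) (by decide) 0 (by decide))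
            · -- 23=(1,3)
              exact False.elim (cert_false T ((skipEmb 1).trans v) (by norm_num) (fun _ => hv _) (((((((LB_zero T ((skipEmb 1).trans v)).upd 0 1 1 (le_of_eq hx02)).upd 0 2 1 (le_of_eq hx03)).upd 1 0 2 (le_of_eq hx20)).upd 1 2 1 (le_of_eq hx23)).upd 2 0 1 (le_of_eq hx30)).upd 2 1 3 (le_of_eq hx32)) ![1,1,1] (by decide) (by decide) 0 (by decide))
            · -- 23=(3,1)
              exact False.elim (cert_false T ((skipEmb 1).trans v) (by norm_num) (fun _ => hv _) (((((((LB_zero T ((skipEmb 1).trans v)).upd 0 1 1 (le_of_eq hx02)).upd 0 2 1 (le_of_eq hx03)).upd 1 0 2 (le_of_eq hx20)).upd 1 2 3 (le_of_eq hx23)).upd 2 0 1 (le_of_eq hx30)).upd 2 1 1 (le_of_eq hx32)) ![1,1,1] (by decide) (by decide) 0 (by decide))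
          · -- 13=(1,1)
            exact False.elim (cert_false T ((skipEmb 2).trans v) (by norm_num) (fun _ => hv _) (((((((LB_zero T ((skipEmb 2).trans v)).upd 0 1 1 (le_of_eq hx01)).upd 0 2 1 (le_of_eq hx03)).upd 1 0 1 (le_of_eq hx10)).upd 1 2 1 (le_of_eq hx13)).upd 2 0 1 (le_of_eq hx30)).upd 2 1 1 (le_of_eq hx31)) ![1,1,1] (by decide) (by decide) 0 (by decide))
          · -- 13=(1,2)
            exact False.elim (cert_false T ((skipEmb 2).trans v) (by norm_num) (fun _ => hv _) (((((((LB_zero T ((skipEmb 2).trans v)).upd 0 1 1 (le_of_eq hx01)).upd 0 2 1 (le_of_eq hx03)).upd 1 0 1 (le_of_eq hx10)).upd 1 2 1 (le_of_eq hx13)).upd 2 0 1 (le_of_eq hx30)).upd 2 1 2 (le_of_eq hx31)) ![1,1,1] (by decide) (by decide) 0 (by decide))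
          · -- 13=(2,1)
            exact False.elim (cert_false T ((skipEmb 2).trans v) (by norm_num) (fun _ => hv _) (((((((LB_zero T ((skipEmb 2).trans v)).upd 0 1 1 (le_of_eq hx01)).upd 0 2 1 (le_of_eq hx03)).upd 1 0 1 (le_of_eq hx10)).upd 1 2 2 (le_of_eq hx13)).upd 2 0 1 (le_of_eq hx30)).upd 2 1 1 (le_of_eq hx31)) ![1,1,1] (by decide) (by decide) 0 (by decide))
          · -- 13=(1,3)
            exact False.elim (cert_false T ((skipEmb 2).trans v) (by norm_num) (fun _ => hv _) (((((((LB_zero T ((skipEmb 2).trans v)).upd 0 1 1 (le_of_eq hx01)).upd 0 2 1 (le_of_eq hx03)).upd 1 0 1 (le_of_eq hx10)).upd 1 2 1 (le_of_eq hx13)).upd 2 0 1 (le_of_eq hx30)).upd 2 1 3 (le_of_eq hx31)) ![1,1,1] (by decide) (by decide) 0 (by decide))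
          · -- 13=(3,1)
            exact False.elim (cert_false T ((skipEmb 2).trans v) (by norm_num) (fun _ => hv _) (((((((LB_zero T ((skipEmb 2).trans v)).upd 0 1 1 (le_of_eq hx01)).upd 0 2 1 (le_of_eq hx03)).upd 1 0 1 (le_of_eq hx10)).upd 1 2 3 (le_of_eq hx13)).upd 2 0 1 (le_of_eq hx30)).upd 2 1 1 (le_of_eq hx31)) ![1,1,1] (by decide) (by decide) 0 (by decide))
        · -- 03=(1,2)
          exact False.elim (cert_false T ((skipEmb 1).trans v) (by norm_num) (fun _ => hv _) (((((LB_zero T ((skipEmb 1).trans v)).upd 0 1 1 (le_of_eq hx02)).upd 0 2 1 (le_of_eq hx03)).upd 1 0 2 (le_of_eq hx20)).upd 2 0 2 (le_of_eq hx30)) ![1,1,1] (by decide) (by decide) 0 (by decide))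
        · -- 03=(2,1)
          exact False.elim (cert_false T ((skipEmb 1).trans v) (by norm_num) (fun _ => hv _) (((((LB_zero T ((skipEmb 1).trans v)).upd 0 1 1 (le_of_eq hx02)).upd 0 2 2 (le_of_eq hx03)).upd 1 0 2 (le_of_eq hx20)).upd 2 0 1 (le_of_eq hx30)) ![2,2,1] (by decide) (by decide) 0 (by decide))
        · -- 03=(1,3)
          exact False.elim (cert_false T ((skipEmb 2).trans v) (by norm_num) (fun _ => hv _) (((((LB_zero T ((skipEmb 2).trans v)).upd 0 1 1 (le_of_eq hx01)).upd 0 2 1 (le_of_eq hx03)).upd 1 0 1 (le_of_eq hx10)).upd 2 0 3 (le_of_eq hx30)) ![2,1,3] (by decide) (by decide) 0 (by decide))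
        · -- 03=(3,1)
          exact False.elim (cert_false T ((skipEmb 2).trans v) (by norm_num) (fun _ => hv _) (((((LB_zero T ((skipEmb 2).trans v)).upd 0 1 1 (le_of_eq hx01)).upd 0 2 3 (le_of_eq hx03)).upd 1 0 1 (le_of_eq hx10)).upd 2 0 1 (le_of_eq hx30)) ![2,1,1] (by decide) (by decide) 0 (by decide))
      · -- 12=(1,1)
        exact False.elim (cert_false T ((skipEmb 3).trans v) (by norm_num) (fun _ => hv _) (((((((LB_zero T ((skipEmb 3).trans v)).upd 0 1 1 (le_of_eq hx01)).upd 0 2 1 (le_of_eq hx02)).upd 1 0 1 (le_of_eq hx10)).upd 1 2 1 (le_of_eq hx12)).upd 2 0 2 (le_of_eq hx20)).upd 2 1 1 (le_of_eq hx21)) ![1,1,1] (by decide) (by decide) 0 (by decide))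
      · -- 12=(1,2)
        exact False.elim (cert_false T ((skipEmb 3).trans v) (by norm_num) (fun _ => hv _) (((((((LB_zero T ((skipEmb 3).trans v)).upd 0 1 1 (le_of_eq hx01)).upd 0 2 1 (le_of_eq hx02)).upd 1 0 1 (le_of_eq hx10)).upd 1 2 1 (le_of_eq hx12)).upd 2 0 2 (le_of_eq hx20)).upd 2 1 2 (le_of_eq hx21)) ![1,1,1] (by decide) (by decide) 0 (by decide))
      · -- 12=(2,1)
        exact False.elim (cert_false T ((skipEmb 3).trans v) (by norm_num) (fun _ => hv _) (((((((LB_zero T ((skipEmb 3).trans v)).upd 0 1 1 (le_of_eq hx01)).upd 0 2 1 (le_of_eq hx02)).upd 1 0 1 (le_of_eq hx10)).upd 1 2 2 (le_of_eq hx12)).upd 2 0 2 (le_of_eq hx20)).upd 2 1 1 (le_of_eq hx21)) ![1,1,1] (by decide) (by decide) 0 (by decide))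
      · -- 12=(1,3)
        exact False.elim (cert_false T ((skipEmb 3).trans v) (by norm_num) (fun _ => hv _) (((((((LB_zero T ((skipEmb 3).trans v)).upd 0 1 1 (le_of_eq hx01)).upd 0 2 1 (le_of_eq hx02)).upd 1 0 1 (le_of_eq hx10)).upd 1 2 1 (le_of_eq hx12)).upd 2 0 2 (le_of_eq hx20)).upd 2 1 3 (le_of_eq hx21)) ![1,1,1] (by decide) (by decide) 0 (by decide))
      · -- 12=(3,1)
        exact False.elim (cert_false T ((skipEmb 3).trans v) (by norm_num) (fun _ => hv _) (((((((LB_zero T ((skipEmb 3).trans v)).upd 0 1 1 (le_of_eq hx01)).upd 0 2 1 (le_of_eq hx02)).upd 1 0 1 (le_of_eq hx10)).upd 1 2 3 (le_of_eq hx12)).upd 2 0 2 (le_of_eq hx20)).upd 2 1 1 (le_of_eq hx21)) ![1,1,1] (by decide) (by decide) 0 (by decide))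
    · -- 02=(2,1)
      have d12 := two_pair T (by norm_num : 2 < 4) ((pairEmb 1 2 (by decide)).trans v) (fun _ => hv _)
      change (N T v 1 2 = 0 ∧ N T v 2 1 = 0) ∨ (N T v 1 2 = 1 ∧ N T v 2 1 = 1) ∨ (N T v 1 2 = 1 ∧ N T v 2 1 = 2) ∨ (N T v 1 2 = 2 ∧ N T v 2 1 = 1) ∨ (N T v 1 2 = 1 ∧ N T v 2 1 = 3) ∨ (N T v 1 2 = 3 ∧ N T v 2 1 = 1) at d12
      rw [← hx12, ← hx21] at d12
      rcases d12 with ⟨rfl, rfl⟩ | ⟨rfl, rfl⟩ | ⟨rfl, rfl⟩ | ⟨rfl, rfl⟩ | ⟨rfl, rfl⟩ | ⟨rfl, rfl⟩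
      · -- 12=(0,0)
        have d03 := two_pair T (by norm_num : 2 < 4) ((pairEmb 0 3 (by decide)).trans v) (fun _ => hv _)
        change (N T v 0 3 = 0 ∧ N T v 3 0 = 0) ∨ (N T v 0 3 = 1 ∧ N T v 3 0 = 1) ∨ (N T v 0 3 = 1 ∧ N T v 3 0 = 2) ∨ (N T v 0 3 = 2 ∧ N T v 3 0 = 1) ∨ (N T v 0 3 = 1 ∧ N T v 3 0 = 3) ∨ (N T v 0 3 = 3 ∧ N T v 3 0 = 1) at d03
        rw [← hx03, ← hx30] at d03
        rcases d03 with ⟨rfl, rfl⟩ | ⟨rfl, rfl⟩ | ⟨rfl, rfl⟩ | ⟨rfl, rfl⟩ | ⟨rfl, rfl⟩ | ⟨rfl, rfl⟩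
        · -- 03=(0,0)
          have d13 := two_pair T (by norm_num : 2 < 4) ((pairEmb 1 3 (by decide)).trans v) (fun _ => hv _)
          change (N T v 1 3 = 0 ∧ N T v 3 1 = 0) ∨ (N T v 1 3 = 1 ∧ N T v 3 1 = 1) ∨ (N T v 1 3 = 1 ∧ N T v 3 1 = 2) ∨ (N T v 1 3 = 2 ∧ N T v 3 1 = 1) ∨ (N T v 1 3 = 1 ∧ N T v 3 1 = 3) ∨ (N T v 1 3 = 3 ∧ N T v 3 1 = 1) at d13
          rw [← hx13, ← hx31] at d13
          rcases d13 with ⟨rfl, rfl⟩ | ⟨rfl, rfl⟩ | ⟨rfl, rfl⟩ | ⟨rfl, rfl⟩ | ⟨rfl, rfl⟩ | ⟨rfl, rfl⟩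
          · -- 13=(0,0)
            have d23 := two_pair T (by norm_num : 2 < 4) ((pairEmb 2 3 (by decide)).trans v) (fun _ => hv _)
            change (N T v 2 3 = 0 ∧ N T v 3 2 = 0) ∨ (N T v 2 3 = 1 ∧ N T v 3 2 = 1) ∨ (N T v 2 3 = 1 ∧ N T v 3 2 = 2) ∨ (N T v 2 3 = 2 ∧ N T v 3 2 = 1) ∨ (N T v 2 3 = 1 ∧ N T v 3 2 = 3) ∨ (N T v 2 3 = 3 ∧ N T v 3 2 = 1) at d23
            rw [← hx23, ← hx32] at d23
            rcases d23 with ⟨rfl, rfl⟩ | ⟨rfl, rfl⟩ | ⟨rfl, rfl⟩ | ⟨rfl, rfl⟩ | ⟨rfl, rfl⟩ | ⟨rfl, rfl⟩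
            · -- 23=(0,0)
              exfalso; omega
            · -- 23=(1,1)
              exfalso; omega
            · -- 23=(1,2)
              exact False.elim (cert_false T ((skipEmb 1).trans v) (by norm_num) (fun _ => hv _) (((((LB_zero T ((skipEmb 1).trans v)).upd 0 1 2 (le_of_eq hx02)).upd 1 0 1 (le_of_eq hx20)).upd 1 2 1 (le_of_eq hx23)).upd 2 1 2 (le_of_eq hx32)) ![1,1,1] (by decide) (by decide) 0 (by decide))
            · -- 23=(2,1)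
              exact False.elim (cert_false T ((skipEmb 1).trans v) (by norm_num) (fun _ => hv _) (((((LB_zero T ((skipEmb 1).trans v)).upd 0 1 2 (le_of_eq hx02)).upd 1 0 1 (le_of_eq hx20)).upd 1 2 2 (le_of_eq hx23)).upd 2 1 1 (le_of_eq hx32)) ![2,2,1] (by decide) (by decide) 0 (by decide))
            · -- 23=(1,3)
              exact False.elim (cert_false T ((skipEmb 1).trans v) (by norm_num) (fun _ => hv _) (((((LB_zero T ((skipEmb 1).trans v)).upd 0 1 2 (le_of_eq hx02)).upd 1 0 1 (le_of_eq hx20)).upd 1 2 1 (le_of_eq hx23)).upd 2 1 3 (le_of_eq hx32)) ![1,1,1] (by decide) (by decide) 0 (by decide))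
            · -- 23=(3,1)
              exact False.elim (cert_false T ((skipEmb 1).trans v) (by norm_num) (fun _ => hv _) (((((LB_zero T ((skipEmb 1).trans v)).upd 0 1 2 (le_of_eq hx02)).upd 1 0 1 (le_of_eq hx20)).upd 1 2 3 (le_of_eq hx23)).upd 2 1 1 (le_of_eq hx32)) ![1,2,1] (by decide) (by decide) 0 (by decide))
          · -- 13=(1,1)
            have d23 := two_pair T (by norm_num : 2 < 4) ((pairEmb 2 3 (by decide)).trans v) (fun _ => hv _)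
            change (N T v 2 3 = 0 ∧ N T v 3 2 = 0) ∨ (N T v 2 3 = 1 ∧ N T v 3 2 = 1) ∨ (N T v 2 3 = 1 ∧ N T v 3 2 = 2) ∨ (N T v 2 3 = 2 ∧ N T v 3 2 = 1) ∨ (N T v 2 3 = 1 ∧ N T v 3 2 = 3) ∨ (N T v 2 3 = 3 ∧ N T v 3 2 = 1) at d23
            rw [← hx23, ← hx32] at d23
            rcases d23 with ⟨rfl, rfl⟩ | ⟨rfl, rfl⟩ | ⟨rfl, rfl⟩ | ⟨rfl, rfl⟩ | ⟨rfl, rfl⟩ | ⟨rfl, rfl⟩
            · -- 23=(0,0)
              exfalso; omega
            · -- 23=(1,1)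
              exfalso; omega
            · -- 23=(1,2)
              exact False.elim (cert_false T ((skipEmb 1).trans v) (by norm_num) (fun _ => hv _) (((((LB_zero T ((skipEmb 1).trans v)).upd 0 1 2 (le_of_eq hx02)).upd 1 0 1 (le_of_eq hx20)).upd 1 2 1 (le_of_eq hx23)).upd 2 1 2 (le_of_eq hx32)) ![1,1,1] (by decide) (by decide) 0 (by decide))
            · -- 23=(2,1)
              exact False.elim (cert_false T ((skipEmb 1).trans v) (by norm_num) (fun _ => hv _) (((((LB_zero T ((skipEmb 1).trans v)).upd 0 1 2 (le_of_eq hx02)).upd 1 0 1 (le_of_eq hx20)).upd 1 2 2 (le_of_eq hx23)).upd 2 1 1 (le_of_eq hx32)) ![2,2,1] (by decide) (by decide) 0 (by decide))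
            · -- 23=(1,3)
              exact False.elim (cert_false T ((skipEmb 1).trans v) (by norm_num) (fun _ => hv _) (((((LB_zero T ((skipEmb 1).trans v)).upd 0 1 2 (le_of_eq hx02)).upd 1 0 1 (le_of_eq hx20)).upd 1 2 1 (le_of_eq hx23)).upd 2 1 3 (le_of_eq hx32)) ![1,1,1] (by decide) (by decide) 0 (by decide))
            · -- 23=(3,1)
              exact False.elim (cert_false T ((skipEmb 1).trans v) (by norm_num) (fun _ => hv _) (((((LB_zero T ((skipEmb 1).trans v)).upd 0 1 2 (le_of_eq hx02)).upd 1 0 1 (le_of_eq hx20)).upd 1 2 3 (le_of_eq hx23)).upd 2 1 1 (le_of_eq hx32)) ![1,2,1] (by decide) (by decide) 0 (by decide))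
          · -- 13=(1,2)
            have d23 := two_pair T (by norm_num : 2 < 4) ((pairEmb 2 3 (by decide)).trans v) (fun _ => hv _)
            change (N T v 2 3 = 0 ∧ N T v 3 2 = 0) ∨ (N T v 2 3 = 1 ∧ N T v 3 2 = 1) ∨ (N T v 2 3 = 1 ∧ N T v 3 2 = 2) ∨ (N T v 2 3 = 2 ∧ N T v 3 2 = 1) ∨ (N T v 2 3 = 1 ∧ N T v 3 2 = 3) ∨ (N T v 2 3 = 3 ∧ N T v 3 2 = 1) at d23
            rw [← hx23, ← hx32] at d23
            rcases d23 with ⟨rfl, rfl⟩ | ⟨rfl, rfl⟩ | ⟨rfl, rfl⟩ | ⟨rfl, rfl⟩ | ⟨rfl, rfl⟩ | ⟨rfl, rfl⟩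
            · -- 23=(0,0)
              refine ⟨(⟨![3, 1, 0, 2], ![2, 1, 3, 0], by decide, by decide⟩ : Equiv.Perm (Fin 4)), T.m 2, T.w 3, Or.inr (Or.inl ?_)⟩
              show T.m 3 = 2 * T.m 2 ∧ T.m 1 = 2 * T.m 2 ∧ T.m 0 = 2 * T.m 2 ∧ T.m 2 = T.m 2 ∧ T.w 3 = T.w 3 ∧ T.w 1 = 2 * T.w 3 ∧ T.w 0 = 2 * T.w 3 ∧ T.w 2 = 4 * T.w 3 ∧ T.a 3 3 = -2 * T.w 3 ∧ T.a 3 1 = 2 * T.w 3 ∧ T.a 3 0 = 0 ∧ T.a 3 2 = 0 ∧ T.a 1 1 = -4 * T.w 3 ∧ T.a 1 0 = 2 * T.w 3 ∧ T.a 1 2 = 0 ∧ T.a 0 0 = -4 * T.w 3 ∧ T.a 0 2 = 4 * T.w 3 ∧ T.a 2 2 = -8 * T.w 3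
              refine ⟨?_, ?_, ?_, ?_, ?_, ?_, ?_, ?_, ?_, ?_, ?_, ?_, ?_, ?_, ?_, ?_, ?_, ?_⟩ <;> omega
            · -- 23=(1,1)
              exfalso; omega
            · -- 23=(1,2)
              exact False.elim (cert_false T ((skipEmb 1).trans v) (by norm_num) (fun _ => hv _) (((((LB_zero T ((skipEmb 1).trans v)).upd 0 1 2 (le_of_eq hx02)).upd 1 0 1 (le_of_eq hx20)).upd 1 2 1 (le_of_eq hx23)).upd 2 1 2 (le_of_eq hx32)) ![1,1,1] (by decide) (by decide) 0 (by decide))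
            · -- 23=(2,1)
              exact False.elim (cert_false T ((skipEmb 1).trans v) (by norm_num) (fun _ => hv _) (((((LB_zero T ((skipEmb 1).trans v)).upd 0 1 2 (le_of_eq hx02)).upd 1 0 1 (le_of_eq hx20)).upd 1 2 2 (le_of_eq hx23)).upd 2 1 1 (le_of_eq hx32)) ![2,2,1] (by decide) (by decide) 0 (by decide))
            · -- 23=(1,3)
              exact False.elim (cert_false T ((skipEmb 1).trans v) (by norm_num) (fun _ => hv _) (((((LB_zero T ((skipEmb 1).trans v)).upd 0 1 2 (le_of_eq hx02)).upd 1 0 1 (le_of_eq hx20)).upd 1 2 1 (le_of_eq hx23)).upd 2 1 3 (le_of_eq hx32)) ![1,1,1] (by decide) (by decide) 0 (by decide))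
            · -- 23=(3,1)
              exact False.elim (cert_false T ((skipEmb 1).trans v) (by norm_num) (fun _ => hv _) (((((LB_zero T ((skipEmb 1).trans v)).upd 0 1 2 (le_of_eq hx02)).upd 1 0 1 (le_of_eq hx20)).upd 1 2 3 (le_of_eq hx23)).upd 2 1 1 (le_of_eq hx32)) ![1,2,1] (by decide) (by decide) 0 (by decide))
          · -- 13=(2,1)
            have d23 := two_pair T (by norm_num : 2 < 4) ((pairEmb 2 3 (by decide)).trans v) (fun _ => hv _)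
            change (N T v 2 3 = 0 ∧ N T v 3 2 = 0) ∨ (N T v 2 3 = 1 ∧ N T v 3 2 = 1) ∨ (N T v 2 3 = 1 ∧ N T v 3 2 = 2) ∨ (N T v 2 3 = 2 ∧ N T v 3 2 = 1) ∨ (N T v 2 3 = 1 ∧ N T v 3 2 = 3) ∨ (N T v 2 3 = 3 ∧ N T v 3 2 = 1) at d23
            rw [← hx23, ← hx32] at d23
            rcases d23 with ⟨rfl, rfl⟩ | ⟨rfl, rfl⟩ | ⟨rfl, rfl⟩ | ⟨rfl, rfl⟩ | ⟨rfl, rfl⟩ | ⟨rfl, rfl⟩
            · -- 23=(0,0)
              refine ⟨(⟨![2, 0, 1, 3], ![1, 2, 0, 3], by decide, by decide⟩ : Equiv.Perm (Fin 4)), T.m 2, T.w 0, Or.inr (Or.inr (Or.inr (Or.inl ?_)))⟩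
              show T.m 2 = T.m 2 ∧ T.m 0 = 2 * T.m 2 ∧ T.m 1 = 2 * T.m 2 ∧ T.m 3 = T.m 2 ∧ T.w 2 = 2 * T.w 0 ∧ T.w 0 = T.w 0 ∧ T.w 1 = T.w 0 ∧ T.w 3 = 2 * T.w 0 ∧ T.a 2 2 = -4 * T.w 0 ∧ T.a 2 0 = 2 * T.w 0 ∧ T.a 2 1 = 0 ∧ T.a 2 3 = 0 ∧ T.a 0 0 = -2 * T.w 0 ∧ T.a 0 1 = T.w 0 ∧ T.a 0 3 = 0 ∧ T.a 1 1 = -2 * T.w 0 ∧ T.a 1 3 = 2 * T.w 0 ∧ T.a 3 3 = -4 * T.w 0
              refine ⟨?_, ?_, ?_, ?_, ?_, ?_, ?_, ?_, ?_, ?_, ?_, ?_, ?_, ?_, ?_, ?_, ?_, ?_⟩ <;> omega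
            · -- 23=(1,1)
              exfalso; omega
            · -- 23=(1,2)
              exact False.elim (cert_false T ((skipEmb 1).trans v) (by norm_num) (fun _ => hv _) (((((LB_zero T ((skipEmb 1).trans v)).upd 0 1 2 (le_of_eq hx02)).upd 1 0 1 (le_of_eq hx20)).upd 1 2 1 (le_of_eq hx23)).upd 2 1 2 (le_of_eq hx32)) ![1,1,1] (by decide) (by decide) 0 (by decide))
            · -- 23=(2,1)
              exact False.elim (cert_false T ((skipEmb 1).trans v) (by norm_num) (fun _ => hv _) (((((LB_zero T ((skipEmb 1).trans v)).upd 0 1 2 (le_of_eq hx02)).upd 1 0 1 (le_of_eq hx20)).upd 1 2 2 (le_of_eq hx23)).upd 2 1 1 (le_of_eq hx32)) ![2,2,1] (by decide) (by decide) 0 (by decide))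
            · -- 23=(1,3)
              exact False.elim (cert_false T ((skipEmb 1).trans v) (by norm_num) (fun _ => hv _) (((((LB_zero T ((skipEmb 1).trans v)).upd 0 1 2 (le_of_eq hx02)).upd 1 0 1 (le_of_eq hx20)).upd 1 2 1 (le_of_eq hx23)).upd 2 1 3 (le_of_eq hx32)) ![1,1,1] (by decide) (by decide) 0 (by decide))
            · -- 23=(3,1)
              exact False.elim (cert_false T ((skipEmb 1).trans v) (by norm_num) (fun _ => hv _) (((((LB_zero T ((skipEmb 1).trans v)).upd 0 1 2 (le_of_eq hx02)).upd 1 0 1 (le_of_eq hx20)).upd 1 2 3 (le_of_eq hx23)).upd 2 1 1 (le_of_eq hx32)) ![1,2,1] (by decide) (by decide) 0 (by decide))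
          · -- 13=(1,3)
            exact False.elim (cert_false T ((skipEmb 2).trans v) (by norm_num) (fun _ => hv _) (((((LB_zero T ((skipEmb 2).trans v)).upd 0 1 1 (le_of_eq hx01)).upd 1 0 1 (le_of_eq hx10)).upd 1 2 1 (le_of_eq hx13)).upd 2 1 3 (le_of_eq hx31)) ![1,2,3] (by decide) (by decide) 0 (by decide))
          · -- 13=(3,1)
            exact False.elim (cert_false T ((skipEmb 2).trans v) (by norm_num) (fun _ => hv _) (((((LB_zero T ((skipEmb 2).trans v)).upd 0 1 1 (le_of_eq hx01)).upd 1 0 1 (le_of_eq hx10)).upd 1 2 3 (le_of_eq hx13)).upd 2 1 1 (le_of_eq hx31)) ![1,2,1] (by decide) (by decide) 0 (by decide))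
        · -- 03=(1,1)
          have d13 := two_pair T (by norm_num : 2 < 4) ((pairEmb 1 3 (by decide)).trans v) (fun _ => hv _)
          change (N T v 1 3 = 0 ∧ N T v 3 1 = 0) ∨ (N T v 1 3 = 1 ∧ N T v 3 1 = 1) ∨ (N T v 1 3 = 1 ∧ N T v 3 1 = 2) ∨ (N T v 1 3 = 2 ∧ N T v 3 1 = 1) ∨ (N T v 1 3 = 1 ∧ N T v 3 1 = 3) ∨ (N T v 1 3 = 3 ∧ N T v 3 1 = 1) at d13
          rw [← hx13, ← hx31] at d13
          rcases d13 with ⟨rfl, rfl⟩ | ⟨rfl, rfl⟩ | ⟨rfl, rfl⟩ | ⟨rfl, rfl⟩ | ⟨rfl, rfl⟩ | ⟨rfl, rfl⟩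
          · -- 13=(0,0)
            have d23 := two_pair T (by norm_num : 2 < 4) ((pairEmb 2 3 (by decide)).trans v) (fun _ => hv _)
            change (N T v 2 3 = 0 ∧ N T v 3 2 = 0) ∨ (N T v 2 3 = 1 ∧ N T v 3 2 = 1) ∨ (N T v 2 3 = 1 ∧ N T v 3 2 = 2) ∨ (N T v 2 3 = 2 ∧ N T v 3 2 = 1) ∨ (N T v 2 3 = 1 ∧ N T v 3 2 = 3) ∨ (N T v 2 3 = 3 ∧ N T v 3 2 = 1) at d23
            rw [← hx23, ← hx32] at d23
            rcases d23 with ⟨rfl, rfl⟩ | ⟨rfl, rfl⟩ | ⟨rfl, rfl⟩ | ⟨rfl, rfl⟩ | ⟨rfl, rfl⟩ | ⟨rfl, rfl⟩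
            · -- 23=(0,0)
              refine ⟨(⟨![0, 1, 3, 2], ![0, 1, 3, 2], by decide, by decide⟩ : Equiv.Perm (Fin 4)), T.m 1, T.w 0, Or.inr (Or.inr (Or.inr (Or.inr (Or.inl ?_))))⟩
              show T.m 0 = 2 * T.m 1 ∧ T.m 1 = T.m 1 ∧ T.m 3 = T.m 1 ∧ T.m 2 = T.m 1 ∧ T.w 0 = T.w 0 ∧ T.w 1 = T.w 0 ∧ T.w 3 = T.w 0 ∧ T.w 2 = 2 * T.w 0 ∧ T.a 0 0 = -2 * T.w 0 ∧ T.a 0 1 = T.w 0 ∧ T.a 0 3 = T.w 0 ∧ T.a 0 2 = 2 * T.w 0 ∧ T.a 1 1 = -2 * T.w 0 ∧ T.a 1 3 = 0 ∧ T.a 1 2 = 0 ∧ T.a 3 3 = -2 * T.w 0 ∧ T.a 3 2 = 0 ∧ T.a 2 2 = -4 * T.w 0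
              refine ⟨?_, ?_, ?_, ?_, ?_, ?_, ?_, ?_, ?_, ?_, ?_, ?_, ?_, ?_, ?_, ?_, ?_, ?_⟩ <;> omega
            · -- 23=(1,1)
              exact False.elim (cert_false T ((skipEmb 1).trans v) (by norm_num) (fun _ => hv _) (((((((LB_zero T ((skipEmb 1).trans v)).upd 0 1 2 (le_of_eq hx02)).upd 0 2 1 (le_of_eq hx03)).upd 1 0 1 (le_of_eq hx20)).upd 1 2 1 (le_of_eq hx23)).upd 2 0 1 (le_of_eq hx30)).upd 2 1 1 (le_of_eq hx32)) ![1,1,1] (by decide) (by decide) 0 (by decide))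
            · -- 23=(1,2)
              exact False.elim (cert_false T ((skipEmb 1).trans v) (by norm_num) (fun _ => hv _) (((((((LB_zero T ((skipEmb 1).trans v)).upd 0 1 2 (le_of_eq hx02)).upd 0 2 1 (le_of_eq hx03)).upd 1 0 1 (le_of_eq hx20)).upd 1 2 1 (le_of_eq hx23)).upd 2 0 1 (le_of_eq hx30)).upd 2 1 2 (le_of_eq hx32)) ![1,1,1] (by decide) (by decide) 0 (by decide))
            · -- 23=(2,1)
              exact False.elim (cert_false T ((skipEmb 1).trans v) (by norm_num) (fun _ => hv _) (((((((LB_zero T ((skipEmb 1).trans v)).upd 0 1 2 (le_of_eq hx02)).upd 0 2 1 (le_of_eq hx03)).upd 1 0 1 (le_of_eq hx20)).upd 1 2 2 (le_of_eq hx23)).upd 2 0 1 (le_of_eq hx30)).upd 2 1 1 (le_of_eq hx32)) ![1,1,1] (by decide) (by decide) 0 (by decide))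
            · -- 23=(1,3)
              exact False.elim (cert_false T ((skipEmb 1).trans v) (by norm_num) (fun _ => hv _) (((((((LB_zero T ((skipEmb 1).trans v)).upd 0 1 2 (le_of_eq hx02)).upd 0 2 1 (le_of_eq hx03)).upd 1 0 1 (le_of_eq hx20)).upd 1 2 1 (le_of_eq hx23)).upd 2 0 1 (le_of_eq hx30)).upd 2 1 3 (le_of_eq hx32)) ![1,1,1] (by decide) (by decide) 0 (by decide))
            · -- 23=(3,1)
              exact False.elim (cert_false T ((skipEmb 1).trans v) (by norm_num) (fun _ => hv _) (((((((LB_zero T ((skipEmb 1).trans v)).upd 0 1 2 (le_of_eq hx02)).upd 0 2 1 (le_of_eq hx03)).upd 1 0 1 (le_of_eq hx20)).upd 1 2 3 (le_of_eq hx23)).upd 2 0 1 (le_of_eq hx30)).upd 2 1 1 (le_of_eq hx32)) ![1,1,1] (by decide) (by decide) 0 (by decide))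
          · -- 13=(1,1)
            exact False.elim (cert_false T ((skipEmb 2).trans v) (by norm_num) (fun _ => hv _) (((((((LB_zero T ((skipEmb 2).trans v)).upd 0 1 1 (le_of_eq hx01)).upd 0 2 1 (le_of_eq hx03)).upd 1 0 1 (le_of_eq hx10)).upd 1 2 1 (le_of_eq hx13)).upd 2 0 1 (le_of_eq hx30)).upd 2 1 1 (le_of_eq hx31)) ![1,1,1] (by decide) (by decide) 0 (by decide))
          · -- 13=(1,2)
            exact False.elim (cert_false T ((skipEmb 2).trans v) (by norm_num) (fun _ => hv _) (((((((LB_zero T ((skipEmb 2).trans v)).upd 0 1 1 (le_of_eq hx01)).upd 0 2 1 (le_of_eq hx03)).upd 1 0 1 (le_of_eq hx10)).upd 1 2 1 (le_of_eq hx13)).upd 2 0 1 (le_of_eq hx30)).upd 2 1 2 (le_of_eq hx31)) ![1,1,1] (by decide) (by decide) 0 (by decide))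
          · -- 13=(2,1)
            exact False.elim (cert_false T ((skipEmb 2).trans v) (by norm_num) (fun _ => hv _) (((((((LB_zero T ((skipEmb 2).trans v)).upd 0 1 1 (le_of_eq hx01)).upd 0 2 1 (le_of_eq hx03)).upd 1 0 1 (le_of_eq hx10)).upd 1 2 2 (le_of_eq hx13)).upd 2 0 1 (le_of_eq hx30)).upd 2 1 1 (le_of_eq hx31)) ![1,1,1] (by decide) (by decide) 0 (by decide))
          · -- 13=(1,3)
            exact False.elim (cert_false T ((skipEmb 2).trans v) (by norm_num) (fun _ => hv _) (((((((LB_zero T ((skipEmb 2).trans v)).upd 0 1 1 (le_of_eq hx01)).upd 0 2 1 (le_of_eq hx03)).upd 1 0 1 (le_of_eq hx10)).upd 1 2 1 (le_of_eq hx13)).upd 2 0 1 (le_of_eq hx30)).upd 2 1 3 (le_of_eq hx31)) ![1,1,1] (by decide) (by decide) 0 (by decide))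
          · -- 13=(3,1)
            exact False.elim (cert_false T ((skipEmb 2).trans v) (by norm_num) (fun _ => hv _) (((((((LB_zero T ((skipEmb 2).trans v)).upd 0 1 1 (le_of_eq hx01)).upd 0 2 1 (le_of_eq hx03)).upd 1 0 1 (le_of_eq hx10)).upd 1 2 3 (le_of_eq hx13)).upd 2 0 1 (le_of_eq hx30)).upd 2 1 1 (le_of_eq hx31)) ![1,1,1] (by decide) (by decide) 0 (by decide))
        · -- 03=(1,2)
          exact False.elim (cert_false T ((skipEmb 1).trans v) (by norm_num) (fun _ => hv _) (((((LB_zero T ((skipEmb 1).trans v)).upd 0 1 2 (le_of_eq hx02)).upd 0 2 1 (le_of_eq hx03)).upd 1 0 1 (le_of_eq hx20)).upd 2 0 2 (le_of_eq hx30)) ![2,1,2] (by decide) (by decide) 0 (by decide))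
        · -- 03=(2,1)
          exact False.elim (cert_false T ((skipEmb 1).trans v) (by norm_num) (fun _ => hv _) (((((LB_zero T ((skipEmb 1).trans v)).upd 0 1 2 (le_of_eq hx02)).upd 0 2 2 (le_of_eq hx03)).upd 1 0 1 (le_of_eq hx20)).upd 2 0 1 (le_of_eq hx30)) ![2,1,1] (by decide) (by decide) 0 (by decide))
        · -- 03=(1,3)
          exact False.elim (cert_false T ((skipEmb 2).trans v) (by norm_num) (fun _ => hv _) (((((LB_zero T ((skipEmb 2).trans v)).upd 0 1 1 (le_of_eq hx01)).upd 0 2 1 (le_of_eq hx03)).upd 1 0 1 (le_of_eq hx10)).upd 2 0 3 (le_of_eq hx30)) ![2,1,3] (by decide) (by decide) 0 (by decide))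
        · -- 03=(3,1)
          exact False.elim (cert_false T ((skipEmb 2).trans v) (by norm_num) (fun _ => hv _) (((((LB_zero T ((skipEmb 2).trans v)).upd 0 1 1 (le_of_eq hx01)).upd 0 2 3 (le_of_eq hx03)).upd 1 0 1 (le_of_eq hx10)).upd 2 0 1 (le_of_eq hx30)) ![2,1,1] (by decide) (by decide) 0 (by decide))
      · -- 12=(1,1)
        exact False.elim (cert_false T ((skipEmb 3).trans v) (by norm_num) (fun _ => hv _) (((((((LB_zero T ((skipEmb 3).trans v)).upd 0 1 1 (le_of_eq hx01)).upd 0 2 2 (le_of_eq hx02)).upd 1 0 1 (le_of_eq hx10)).upd 1 2 1 (le_of_eq hx12)).upd 2 0 1 (le_of_eq hx20)).upd 2 1 1 (le_of_eq hx21)) ![1,1,1] (by decide) (by decide) 0 (by decide))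
      · -- 12=(1,2)
        exact False.elim (cert_false T ((skipEmb 3).trans v) (by norm_num) (fun _ => hv _) (((((((LB_zero T ((skipEmb 3).trans v)).upd 0 1 1 (le_of_eq hx01)).upd 0 2 2 (le_of_eq hx02)).upd 1 0 1 (le_of_eq hx10)).upd 1 2 1 (le_of_eq hx12)).upd 2 0 1 (le_of_eq hx20)).upd 2 1 2 (le_of_eq hx21)) ![1,1,1] (by decide) (by decide) 0 (by decide))
      · -- 12=(2,1)
        exact False.elim (cert_false T ((skipEmb 3).trans v) (by norm_num) (fun _ => hv _) (((((((LB_zero T ((skipEmb 3).trans v)).upd 0 1 1 (le_of_eq hx01)).upd 0 2 2 (le_of_eq hx02)).upd 1 0 1 (le_of_eq hx10)).upd 1 2 2 (le_of_eq hx12)).upd 2 0 1 (le_of_eq hx20)).upd 2 1 1 (le_of_eq hx21)) ![1,1,1] (by decide) (by decide) 0 (by decide))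
      · -- 12=(1,3)
        exact False.elim (cert_false T ((skipEmb 3).trans v) (by norm_num) (fun _ => hv _) (((((((LB_zero T ((skipEmb 3).trans v)).upd 0 1 1 (le_of_eq hx01)).upd 0 2 2 (le_of_eq hx02)).upd 1 0 1 (le_of_eq hx10)).upd 1 2 1 (le_of_eq hx12)).upd 2 0 1 (le_of_eq hx20)).upd 2 1 3 (le_of_eq hx21)) ![1,1,1] (by decide) (by decide) 0 (by decide))
      · -- 12=(3,1)
        exact False.elim (cert_false T ((skipEmb 3).trans v) (by norm_num) (fun _ => hv _) (((((((LB_zero T ((skipEmb 3).trans v)).upd 0 1 1 (le_of_eq hx01)).upd 0 2 2 (le_of_eq hx02)).upd 1 0 1 (le_of_eq hx10)).upd 1 2 3 (le_of_eq hx12)).upd 2 0 1 (le_of_eq hx20)).upd 2 1 1 (le_of_eq hx21)) ![1,1,1] (by decide) (by decide) 0 (by decide))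
    · -- 02=(1,3)
      exact False.elim (cert_false T ((skipEmb 3).trans v) (by norm_num) (fun _ => hv _) (((((LB_zero T ((skipEmb 3).trans v)).upd 0 1 1 (le_of_eq hx01)).upd 0 2 1 (le_of_eq hx02)).upd 1 0 1 (le_of_eq hx10)).upd 2 0 3 (le_of_eq hx20)) ![2,1,3] (by decide) (by decide) 0 (by decide))
    · -- 02=(3,1)
      exact False.elim (cert_false T ((skipEmb 3).trans v) (by norm_num) (fun _ => hv _) (((((LB_zero T ((skipEmb 3).trans v)).upd 0 1 1 (le_of_eq hx01)).upd 0 2 3 (le_of_eq hx02)).upd 1 0 1 (le_of_eq hx10)).upd 2 0 1 (le_of_eq hx20)) ![2,1,1] (by decide) (by decide) 0 (by decide))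
  · -- 01=(1,2)
    have d02 := two_pair T (by norm_num : 2 < 4) ((pairEmb 0 2 (by decide)).trans v) (fun _ => hv _)
    change (N T v 0 2 = 0 ∧ N T v 2 0 = 0) ∨ (N T v 0 2 = 1 ∧ N T v 2 0 = 1) ∨ (N T v 0 2 = 1 ∧ N T v 2 0 = 2) ∨ (N T v 0 2 = 2 ∧ N T v 2 0 = 1) ∨ (N T v 0 2 = 1 ∧ N T v 2 0 = 3) ∨ (N T v 0 2 = 3 ∧ N T v 2 0 = 1) at d02
    rw [← hx02, ← hx20] at d02
    rcases d02 with ⟨rfl, rfl⟩ | ⟨rfl, rfl⟩ | ⟨rfl, rfl⟩ | ⟨rfl, rfl⟩ | ⟨rfl, rfl⟩ | ⟨rfl, rfl⟩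
    · -- 02=(0,0)
      have d12 := two_pair T (by norm_num : 2 < 4) ((pairEmb 1 2 (by decide)).trans v) (fun _ => hv _)
      change (N T v 1 2 = 0 ∧ N T v 2 1 = 0) ∨ (N T v 1 2 = 1 ∧ N T v 2 1 = 1) ∨ (N T v 1 2 = 1 ∧ N T v 2 1 = 2) ∨ (N T v 1 2 = 2 ∧ N T v 2 1 = 1) ∨ (N T v 1 2 = 1 ∧ N T v 2 1 = 3) ∨ (N T v 1 2 = 3 ∧ N T v 2 1 = 1) at d12
      rw [← hx12, ← hx21] at d12
      rcases d12 with ⟨rfl, rfl⟩ | ⟨rfl, rfl⟩ | ⟨rfl, rfl⟩ | ⟨rfl, rfl⟩ | ⟨rfl, rfl⟩ | ⟨rfl, rfl⟩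
      · -- 12=(0,0)
        have d03 := two_pair T (by norm_num : 2 < 4) ((pairEmb 0 3 (by decide)).trans v) (fun _ => hv _)
        change (N T v 0 3 = 0 ∧ N T v 3 0 = 0) ∨ (N T v 0 3 = 1 ∧ N T v 3 0 = 1) ∨ (N T v 0 3 = 1 ∧ N T v 3 0 = 2) ∨ (N T v 0 3 = 2 ∧ N T v 3 0 = 1) ∨ (N T v 0 3 = 1 ∧ N T v 3 0 = 3) ∨ (N T v 0 3 = 3 ∧ N T v 3 0 = 1) at d03
        rw [← hx03, ← hx30] at d03
        rcases d03 with ⟨rfl, rfl⟩ | ⟨rfl, rfl⟩ | ⟨rfl, rfl⟩ | ⟨rfl, rfl⟩ | ⟨rfl, rfl⟩ | ⟨rfl, rfl⟩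
        · -- 03=(0,0)
          have d13 := two_pair T (by norm_num : 2 < 4) ((pairEmb 1 3 (by decide)).trans v) (fun _ => hv _)
          change (N T v 1 3 = 0 ∧ N T v 3 1 = 0) ∨ (N T v 1 3 = 1 ∧ N T v 3 1 = 1) ∨ (N T v 1 3 = 1 ∧ N T v 3 1 = 2) ∨ (N T v 1 3 = 2 ∧ N T v 3 1 = 1) ∨ (N T v 1 3 = 1 ∧ N T v 3 1 = 3) ∨ (N T v 1 3 = 3 ∧ N T v 3 1 = 1) at d13
          rw [← hx13, ← hx31] at d13
          rcases d13 with ⟨rfl, rfl⟩ | ⟨rfl, rfl⟩ | ⟨rfl, rfl⟩ | ⟨rfl, rfl⟩ | ⟨rfl, rfl⟩ | ⟨rfl, rfl⟩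
          · -- 13=(0,0)
            have d23 := two_pair T (by norm_num : 2 < 4) ((pairEmb 2 3 (by decide)).trans v) (fun _ => hv _)
            change (N T v 2 3 = 0 ∧ N T v 3 2 = 0) ∨ (N T v 2 3 = 1 ∧ N T v 3 2 = 1) ∨ (N T v 2 3 = 1 ∧ N T v 3 2 = 2) ∨ (N T v 2 3 = 2 ∧ N T v 3 2 = 1) ∨ (N T v 2 3 = 1 ∧ N T v 3 2 = 3) ∨ (N T v 2 3 = 3 ∧ N T v 3 2 = 1) at d23
            rw [← hx23, ← hx32] at d23
            rcases d23 with ⟨rfl, rfl⟩ | ⟨rfl, rfl⟩ | ⟨rfl, rfl⟩ | ⟨rfl, rfl⟩ | ⟨rfl, rfl⟩ | ⟨rfl, rfl⟩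
            · -- 23=(0,0)
              exfalso; omega
            · -- 23=(1,1)
              exfalso; omega
            · -- 23=(1,2)
              exfalso; omega
            · -- 23=(2,1)
              exfalso; omega
            · -- 23=(1,3)
              exfalso; omega
            · -- 23=(3,1)
              exfalso; omega
          · -- 13=(1,1)
            have d23 := two_pair T (by norm_num : 2 < 4) ((pairEmb 2 3 (by decide)).trans v) (fun _ => hv _)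
            change (N T v 2 3 = 0 ∧ N T v 3 2 = 0) ∨ (N T v 2 3 = 1 ∧ N T v 3 2 = 1) ∨ (N T v 2 3 = 1 ∧ N T v 3 2 = 2) ∨ (N T v 2 3 = 2 ∧ N T v 3 2 = 1) ∨ (N T v 2 3 = 1 ∧ N T v 3 2 = 3) ∨ (N T v 2 3 = 3 ∧ N T v 3 2 = 1) at d23
            rw [← hx23, ← hx32] at d23
            rcases d23 with ⟨rfl, rfl⟩ | ⟨rfl, rfl⟩ | ⟨rfl, rfl⟩ | ⟨rfl, rfl⟩ | ⟨rfl, rfl⟩ | ⟨rfl, rfl⟩
            · -- 23=(0,0)
              exfalso; omega
            · -- 23=(1,1)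
              exfalso; omega
            · -- 23=(1,2)
              refine ⟨(⟨![0, 1, 3, 2], ![0, 1, 3, 2], by decide, by decide⟩ : Equiv.Perm (Fin 4)), T.m 0, T.w 1, Or.inr (Or.inr (Or.inr (Or.inl ?_)))⟩
              show T.m 0 = T.m 0 ∧ T.m 1 = 2 * T.m 0 ∧ T.m 3 = 2 * T.m 0 ∧ T.m 2 = T.m 0 ∧ T.w 0 = 2 * T.w 1 ∧ T.w 1 = T.w 1 ∧ T.w 3 = T.w 1 ∧ T.w 2 = 2 * T.w 1 ∧ T.a 0 0 = -4 * T.w 1 ∧ T.a 0 1 = 2 * T.w 1 ∧ T.a 0 3 = 0 ∧ T.a 0 2 = 0 ∧ T.a 1 1 = -2 * T.w 1 ∧ T.a 1 3 = T.w 1 ∧ T.a 1 2 = 0 ∧ T.a 3 3 = -2 * T.w 1 ∧ T.a 3 2 = 2 * T.w 1 ∧ T.a 2 2 = -4 * T.w 1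
              refine ⟨?_, ?_, ?_, ?_, ?_, ?_, ?_, ?_, ?_, ?_, ?_, ?_, ?_, ?_, ?_, ?_, ?_, ?_⟩ <;> omega
            · -- 23=(2,1)
              refine ⟨(⟨![2, 3, 1, 0], ![3, 2, 0, 1], by decide, by decide⟩ : Equiv.Perm (Fin 4)), T.m 0, T.w 2, Or.inr (Or.inl ?_)⟩
              show T.m 2 = 2 * T.m 0 ∧ T.m 3 = 2 * T.m 0 ∧ T.m 1 = 2 * T.m 0 ∧ T.m 0 = T.m 0 ∧ T.w 2 = T.w 2 ∧ T.w 3 = 2 * T.w 2 ∧ T.w 1 = 2 * T.w 2 ∧ T.w 0 = 4 * T.w 2 ∧ T.a 2 2 = -2 * T.w 2 ∧ T.a 2 3 = 2 * T.w 2 ∧ T.a 2 1 = 0 ∧ T.a 2 0 = 0 ∧ T.a 3 3 = -4 * T.w 2 ∧ T.a 3 1 = 2 * T.w 2 ∧ T.a 3 0 = 0 ∧ T.a 1 1 = -4 * T.w 2 ∧ T.a 1 0 = 4 * T.w 2 ∧ T.a 0 0 = -8 * T.w 2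
              refine ⟨?_, ?_, ?_, ?_, ?_, ?_, ?_, ?_, ?_, ?_, ?_, ?_, ?_, ?_, ?_, ?_, ?_, ?_⟩ <;> omega
            · -- 23=(1,3)
              exact False.elim (cert_false T ((skipEmb 0).trans v) (by norm_num) (fun _ => hv _) (((((LB_zero T ((skipEmb 0).trans v)).upd 0 2 1 (le_of_eq hx13)).upd 1 2 1 (le_of_eq hx23)).upd 2 0 1 (le_of_eq hx31)).upd 2 1 3 (le_of_eq hx32)) ![1,1,2] (by decide) (by decide) 0 (by decide))
            · -- 23=(3,1)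
              exact False.elim (cert_false T ((skipEmb 0).trans v) (by norm_num) (fun _ => hv _) (((((LB_zero T ((skipEmb 0).trans v)).upd 0 2 1 (le_of_eq hx13)).upd 1 2 3 (le_of_eq hx23)).upd 2 0 1 (le_of_eq hx31)).upd 2 1 1 (le_of_eq hx32)) ![1,3,2] (by decide) (by decide) 0 (by decide))
          · -- 13=(1,2)
            exact False.elim (cert_false T ((skipEmb 2).trans v) (by norm_num) (fun _ => hv _) (((((LB_zero T ((skipEmb 2).trans v)).upd 0 1 1 (le_of_eq hx01)).upd 1 0 2 (le_of_eq hx10)).upd 1 2 1 (le_of_eq hx13)).upd 2 1 2 (le_of_eq hx31)) ![1,2,2] (by decide) (by decide) 0 (by decide))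
          · -- 13=(2,1)
            exact False.elim (cert_false T ((skipEmb 2).trans v) (by norm_num) (fun _ => hv _) (((((LB_zero T ((skipEmb 2).trans v)).upd 0 1 1 (le_of_eq hx01)).upd 1 0 2 (le_of_eq hx10)).upd 1 2 2 (le_of_eq hx13)).upd 2 1 1 (le_of_eq hx31)) ![1,2,1] (by decide) (by decide) 0 (by decide))
          · -- 13=(1,3)
            exact False.elim (cert_false T ((skipEmb 2).trans v) (by norm_num) (fun _ => hv _) (((((LB_zero T ((skipEmb 2).trans v)).upd 0 1 1 (le_of_eq hx01)).upd 1 0 2 (le_of_eq hx10)).upd 1 2 1 (le_of_eq hx13)).upd 2 1 3 (le_of_eq hx31)) ![1,2,2] (by decide) (by decide) 0 (by decide))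
          · -- 13=(3,1)
            exact False.elim (cert_false T ((skipEmb 2).trans v) (by norm_num) (fun _ => hv _) (((((LB_zero T ((skipEmb 2).trans v)).upd 0 1 1 (le_of_eq hx01)).upd 1 0 2 (le_of_eq hx10)).upd 1 2 3 (le_of_eq hx13)).upd 2 1 1 (le_of_eq hx31)) ![1,2,1] (by decide) (by decide) 0 (by decide))
        · -- 03=(1,1)
          have d13 := two_pair T (by norm_num : 2 < 4) ((pairEmb 1 3 (by decide)).trans v) (fun _ => hv _)
          change (N T v 1 3 = 0 ∧ N T v 3 1 = 0) ∨ (N T v 1 3 = 1 ∧ N T v 3 1 = 1) ∨ (N T v 1 3 = 1 ∧ N T v 3 1 = 2) ∨ (N T v 1 3 = 2 ∧ N T v 3 1 = 1) ∨ (N T v 1 3 = 1 ∧ N T v 3 1 = 3) ∨ (N T v 1 3 = 3 ∧ N T v 3 1 = 1) at d13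
          rw [← hx13, ← hx31] at d13
          rcases d13 with ⟨rfl, rfl⟩ | ⟨rfl, rfl⟩ | ⟨rfl, rfl⟩ | ⟨rfl, rfl⟩ | ⟨rfl, rfl⟩ | ⟨rfl, rfl⟩
          · -- 13=(0,0)
            have d23 := two_pair T (by norm_num : 2 < 4) ((pairEmb 2 3 (by decide)).trans v) (fun _ => hv _)
            change (N T v 2 3 = 0 ∧ N T v 3 2 = 0) ∨ (N T v 2 3 = 1 ∧ N T v 3 2 = 1) ∨ (N T v 2 3 = 1 ∧ N T v 3 2 = 2) ∨ (N T v 2 3 = 2 ∧ N T v 3 2 = 1) ∨ (N T v 2 3 = 1 ∧ N T v 3 2 = 3) ∨ (N T v 2 3 = 3 ∧ N T v 3 2 = 1) at d23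
            rw [← hx23, ← hx32] at d23
            rcases d23 with ⟨rfl, rfl⟩ | ⟨rfl, rfl⟩ | ⟨rfl, rfl⟩ | ⟨rfl, rfl⟩ | ⟨rfl, rfl⟩ | ⟨rfl, rfl⟩
            · -- 23=(0,0)
              exfalso; omega
            · -- 23=(1,1)
              exfalso; omega
            · -- 23=(1,2)
              refine ⟨(⟨![1, 0, 3, 2], ![1, 0, 3, 2], by decide, by decide⟩ : Equiv.Perm (Fin 4)), T.m 2, T.w 1, Or.inr (Or.inl ?_)⟩
              show T.m 1 = 2 * T.m 2 ∧ T.m 0 = 2 * T.m 2 ∧ T.m 3 = 2 * T.m 2 ∧ T.m 2 = T.m 2 ∧ T.w 1 = T.w 1 ∧ T.w 0 = 2 * T.w 1 ∧ T.w 3 = 2 * T.w 1 ∧ T.w 2 = 4 * T.w 1 ∧ T.a 1 1 = -2 * T.w 1 ∧ T.a 1 0 = 2 * T.w 1 ∧ T.a 1 3 = 0 ∧ T.a 1 2 = 0 ∧ T.a 0 0 = -4 * T.w 1 ∧ T.a 0 3 = 2 * T.w 1 ∧ T.a 0 2 = 0 ∧ T.a 3 3 = -4 * T.w 1 ∧ T.a 3 2 = 4 * T.w 1 ∧ T.a 2 2 = -8 * T.w 1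
              refine ⟨?_, ?_, ?_, ?_, ?_, ?_, ?_, ?_, ?_, ?_, ?_, ?_, ?_, ?_, ?_, ?_, ?_, ?_⟩ <;> omega
            · -- 23=(2,1)
              refine ⟨(⟨![1, 0, 3, 2], ![1, 0, 3, 2], by decide, by decide⟩ : Equiv.Perm (Fin 4)), T.m 1, T.w 1, Or.inr (Or.inr (Or.inl ?_))⟩
              show T.m 1 = T.m 1 ∧ T.m 0 = T.m 1 ∧ T.m 3 = T.m 1 ∧ T.m 2 = T.m 1 ∧ T.w 1 = T.w 1 ∧ T.w 0 = 2 * T.w 1 ∧ T.w 3 = 2 * T.w 1 ∧ T.w 2 = T.w 1 ∧ T.a 1 1 = -2 * T.w 1 ∧ T.a 1 0 = 2 * T.w 1 ∧ T.a 1 3 = 0 ∧ T.a 1 2 = 0 ∧ T.a 0 0 = -4 * T.w 1 ∧ T.a 0 3 = 2 * T.w 1 ∧ T.a 0 2 = 0 ∧ T.a 3 3 = -4 * T.w 1 ∧ T.a 3 2 = 2 * T.w 1 ∧ T.a 2 2 = -2 * T.w 1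
              refine ⟨?_, ?_, ?_, ?_, ?_, ?_, ?_, ?_, ?_, ?_, ?_, ?_, ?_, ?_, ?_, ?_, ?_, ?_⟩ <;> omega
            · -- 23=(1,3)
              exact False.elim (cert_false T ((skipEmb 1).trans v) (by norm_num) (fun _ => hv _) (((((LB_zero T ((skipEmb 1).trans v)).upd 0 2 1 (le_of_eq hx03)).upd 1 2 1 (le_of_eq hx23)).upd 2 0 1 (le_of_eq hx30)).upd 2 1 3 (le_of_eq hx32)) ![1,1,2] (by decide) (by decide) 0 (by decide))
            · -- 23=(3,1)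
              exact False.elim (cert_false T ((skipEmb 1).trans v) (by norm_num) (fun _ => hv _) (((((LB_zero T ((skipEmb 1).trans v)).upd 0 2 1 (le_of_eq hx03)).upd 1 2 3 (le_of_eq hx23)).upd 2 0 1 (le_of_eq hx30)).upd 2 1 1 (le_of_eq hx32)) ![1,3,2] (by decide) (by decide) 0 (by decide))
          · -- 13=(1,1)
            exact False.elim (cert_false T ((skipEmb 2).trans v) (by norm_num) (fun _ => hv _) (((((((LB_zero T ((skipEmb 2).trans v)).upd 0 1 1 (le_of_eq hx01)).upd 0 2 1 (le_of_eq hx03)).upd 1 0 2 (le_of_eq hx10)).upd 1 2 1 (le_of_eq hx13)).upd 2 0 1 (le_of_eq hx30)).upd 2 1 1 (le_of_eq hx31)) ![1,1,1] (by decide) (by decide) 0 (by decide))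
          · -- 13=(1,2)
            exact False.elim (cert_false T ((skipEmb 2).trans v) (by norm_num) (fun _ => hv _) (((((((LB_zero T ((skipEmb 2).trans v)).upd 0 1 1 (le_of_eq hx01)).upd 0 2 1 (le_of_eq hx03)).upd 1 0 2 (le_of_eq hx10)).upd 1 2 1 (le_of_eq hx13)).upd 2 0 1 (le_of_eq hx30)).upd 2 1 2 (le_of_eq hx31)) ![1,1,1] (by decide) (by decide) 0 (by decide))
          · -- 13=(2,1)
            exact False.elim (cert_false T ((skipEmb 2).trans v) (by norm_num) (fun _ => hv _) (((((((LB_zero T ((skipEmb 2).trans v)).upd 0 1 1 (le_of_eq hx01)).upd 0 2 1 (le_of_eq hx03)).upd 1 0 2 (le_of_eq hx10)).upd 1 2 2 (le_of_eq hx13)).upd 2 0 1 (le_of_eq hx30)).upd 2 1 1 (le_of_eq hx31)) ![1,1,1] (by decide) (by decide) 0 (by decide))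
          · -- 13=(1,3)
            exact False.elim (cert_false T ((skipEmb 2).trans v) (by norm_num) (fun _ => hv _) (((((((LB_zero T ((skipEmb 2).trans v)).upd 0 1 1 (le_of_eq hx01)).upd 0 2 1 (le_of_eq hx03)).upd 1 0 2 (le_of_eq hx10)).upd 1 2 1 (le_of_eq hx13)).upd 2 0 1 (le_of_eq hx30)).upd 2 1 3 (le_of_eq hx31)) ![1,1,1] (by decide) (by decide) 0 (by decide))
          · -- 13=(3,1)
            exact False.elim (cert_false T ((skipEmb 2).trans v) (by norm_num) (fun _ => hv _) (((((((LB_zero T ((skipEmb 2).trans v)).upd 0 1 1 (le_of_eq hx01)).upd 0 2 1 (le_of_eq hx03)).upd 1 0 2 (le_of_eq hx10)).upd 1 2 3 (le_of_eq hx13)).upd 2 0 1 (le_of_eq hx30)).upd 2 1 1 (le_of_eq hx31)) ![1,1,1] (by decide) (by decide) 0 (by decide))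
        · -- 03=(1,2)
          exact False.elim (cert_false T ((skipEmb 2).trans v) (by norm_num) (fun _ => hv _) (((((LB_zero T ((skipEmb 2).trans v)).upd 0 1 1 (le_of_eq hx01)).upd 0 2 1 (le_of_eq hx03)).upd 1 0 2 (le_of_eq hx10)).upd 2 0 2 (le_of_eq hx30)) ![1,1,1] (by decide) (by decide) 0 (by decide))
        · -- 03=(2,1)
          exact False.elim (cert_false T ((skipEmb 2).trans v) (by norm_num) (fun _ => hv _) (((((LB_zero T ((skipEmb 2).trans v)).upd 0 1 1 (le_of_eq hx01)).upd 0 2 2 (le_of_eq hx03)).upd 1 0 2 (le_of_eq hx10)).upd 2 0 1 (le_of_eq hx30)) ![2,2,1] (by decide) (by decide) 0 (by decide))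
        · -- 03=(1,3)
          exact False.elim (cert_false T ((skipEmb 2).trans v) (by norm_num) (fun _ => hv _) (((((LB_zero T ((skipEmb 2).trans v)).upd 0 1 1 (le_of_eq hx01)).upd 0 2 1 (le_of_eq hx03)).upd 1 0 2 (le_of_eq hx10)).upd 2 0 3 (le_of_eq hx30)) ![1,1,1] (by decide) (by decide) 0 (by decide))
        · -- 03=(3,1)
          exact False.elim (cert_false T ((skipEmb 2).trans v) (by norm_num) (fun _ => hv _) (((((LB_zero T ((skipEmb 2).trans v)).upd 0 1 1 (le_of_eq hx01)).upd 0 2 3 (le_of_eq hx03)).upd 1 0 2 (le_of_eq hx10)).upd 2 0 1 (le_of_eq hx30)) ![2,1,1] (by decide) (by decide) 0 (by decide))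
      · -- 12=(1,1)
        have d03 := two_pair T (by norm_num : 2 < 4) ((pairEmb 0 3 (by decide)).trans v) (fun _ => hv _)
        change (N T v 0 3 = 0 ∧ N T v 3 0 = 0) ∨ (N T v 0 3 = 1 ∧ N T v 3 0 = 1) ∨ (N T v 0 3 = 1 ∧ N T v 3 0 = 2) ∨ (N T v 0 3 = 2 ∧ N T v 3 0 = 1) ∨ (N T v 0 3 = 1 ∧ N T v 3 0 = 3) ∨ (N T v 0 3 = 3 ∧ N T v 3 0 = 1) at d03
        rw [← hx03, ← hx30] at d03
        rcases d03 with ⟨rfl, rfl⟩ | ⟨rfl, rfl⟩ | ⟨rfl, rfl⟩ | ⟨rfl, rfl⟩ | ⟨rfl, rfl⟩ | ⟨rfl, rfl⟩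
        · -- 03=(0,0)
          have d13 := two_pair T (by norm_num : 2 < 4) ((pairEmb 1 3 (by decide)).trans v) (fun _ => hv _)
          change (N T v 1 3 = 0 ∧ N T v 3 1 = 0) ∨ (N T v 1 3 = 1 ∧ N T v 3 1 = 1) ∨ (N T v 1 3 = 1 ∧ N T v 3 1 = 2) ∨ (N T v 1 3 = 2 ∧ N T v 3 1 = 1) ∨ (N T v 1 3 = 1 ∧ N T v 3 1 = 3) ∨ (N T v 1 3 = 3 ∧ N T v 3 1 = 1) at d13
          rw [← hx13, ← hx31] at d13
          rcases d13 with ⟨rfl, rfl⟩ | ⟨rfl, rfl⟩ | ⟨rfl, rfl⟩ | ⟨rfl, rfl⟩ | ⟨rfl, rfl⟩ | ⟨rfl, rfl⟩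
          · -- 13=(0,0)
            have d23 := two_pair T (by norm_num : 2 < 4) ((pairEmb 2 3 (by decide)).trans v) (fun _ => hv _)
            change (N T v 2 3 = 0 ∧ N T v 3 2 = 0) ∨ (N T v 2 3 = 1 ∧ N T v 3 2 = 1) ∨ (N T v 2 3 = 1 ∧ N T v 3 2 = 2) ∨ (N T v 2 3 = 2 ∧ N T v 3 2 = 1) ∨ (N T v 2 3 = 1 ∧ N T v 3 2 = 3) ∨ (N T v 2 3 = 3 ∧ N T v 3 2 = 1) at d23
            rw [← hx23, ← hx32] at d23
            rcases d23 with ⟨rfl, rfl⟩ | ⟨rfl, rfl⟩ | ⟨rfl, rfl⟩ | ⟨rfl, rfl⟩ | ⟨rfl, rfl⟩ | ⟨rfl, rfl⟩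
            · -- 23=(0,0)
              exfalso; omega
            · -- 23=(1,1)
              exfalso; omega
            · -- 23=(1,2)
              refine ⟨(⟨![3, 2, 1, 0], ![3, 2, 1, 0], by decide, by decide⟩ : Equiv.Perm (Fin 4)), T.m 0, T.w 3, Or.inr (Or.inl ?_)⟩
              show T.m 3 = 2 * T.m 0 ∧ T.m 2 = 2 * T.m 0 ∧ T.m 1 = 2 * T.m 0 ∧ T.m 0 = T.m 0 ∧ T.w 3 = T.w 3 ∧ T.w 2 = 2 * T.w 3 ∧ T.w 1 = 2 * T.w 3 ∧ T.w 0 = 4 * T.w 3 ∧ T.a 3 3 = -2 * T.w 3 ∧ T.a 3 2 = 2 * T.w 3 ∧ T.a 3 1 = 0 ∧ T.a 3 0 = 0 ∧ T.a 2 2 = -4 * T.w 3 ∧ T.a 2 1 = 2 * T.w 3 ∧ T.a 2 0 = 0 ∧ T.a 1 1 = -4 * T.w 3 ∧ T.a 1 0 = 4 * T.w 3 ∧ T.a 0 0 = -8 * T.w 3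
              refine ⟨?_, ?_, ?_, ?_, ?_, ?_, ?_, ?_, ?_, ?_, ?_, ?_, ?_, ?_, ?_, ?_, ?_, ?_⟩ <;> omega
            · -- 23=(2,1)
              refine ⟨(⟨![0, 1, 2, 3], ![0, 1, 2, 3], by decide, by decide⟩ : Equiv.Perm (Fin 4)), T.m 0, T.w 1, Or.inr (Or.inr (Or.inr (Or.inl ?_)))⟩
              show T.m 0 = T.m 0 ∧ T.m 1 = 2 * T.m 0 ∧ T.m 2 = 2 * T.m 0 ∧ T.m 3 = T.m 0 ∧ T.w 0 = 2 * T.w 1 ∧ T.w 1 = T.w 1 ∧ T.w 2 = T.w 1 ∧ T.w 3 = 2 * T.w 1 ∧ T.a 0 0 = -4 * T.w 1 ∧ T.a 0 1 = 2 * T.w 1 ∧ T.a 0 2 = 0 ∧ T.a 0 3 = 0 ∧ T.a 1 1 = -2 * T.w 1 ∧ T.a 1 2 = T.w 1 ∧ T.a 1 3 = 0 ∧ T.a 2 2 = -2 * T.w 1 ∧ T.a 2 3 = 2 * T.w 1 ∧ T.a 3 3 = -4 * T.w 1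
              refine ⟨?_, ?_, ?_, ?_, ?_, ?_, ?_, ?_, ?_, ?_, ?_, ?_, ?_, ?_, ?_, ?_, ?_, ?_⟩ <;> omega
            · -- 23=(1,3)
              exact False.elim (cert_false T ((skipEmb 0).trans v) (by norm_num) (fun _ => hv _) (((((LB_zero T ((skipEmb 0).trans v)).upd 0 1 1 (le_of_eq hx12)).upd 1 0 1 (le_of_eq hx21)).upd 1 2 1 (le_of_eq hx23)).upd 2 1 3 (le_of_eq hx32)) ![1,2,3] (by decide) (by decide) 0 (by decide))
            · -- 23=(3,1)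
              exact False.elim (cert_false T ((skipEmb 0).trans v) (by norm_num) (fun _ => hv _) (((((LB_zero T ((skipEmb 0).trans v)).upd 0 1 1 (le_of_eq hx12)).upd 1 0 1 (le_of_eq hx21)).upd 1 2 3 (le_of_eq hx23)).upd 2 1 1 (le_of_eq hx32)) ![1,2,1] (by decide) (by decide) 0 (by decide))
          · -- 13=(1,1)
            have d23 := two_pair T (by norm_num : 2 < 4) ((pairEmb 2 3 (by decide)).trans v) (fun _ => hv _)
            change (N T v 2 3 = 0 ∧ N T v 3 2 = 0) ∨ (N T v 2 3 = 1 ∧ N T v 3 2 = 1) ∨ (N T v 2 3 = 1 ∧ N T v 3 2 = 2) ∨ (N T v 2 3 = 2 ∧ N T v 3 2 = 1) ∨ (N T v 2 3 = 1 ∧ N T v 3 2 = 3) ∨ (N T v 2 3 = 3 ∧ N T v 3 2 = 1) at d23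
            rw [← hx23, ← hx32] at d23
            rcases d23 with ⟨rfl, rfl⟩ | ⟨rfl, rfl⟩ | ⟨rfl, rfl⟩ | ⟨rfl, rfl⟩ | ⟨rfl, rfl⟩ | ⟨rfl, rfl⟩
            · -- 23=(0,0)
              refine ⟨(⟨![1, 2, 3, 0], ![3, 0, 1, 2], by decide, by decide⟩ : Equiv.Perm (Fin 4)), T.m 2, T.w 1, Or.inr (Or.inr (Or.inr (Or.inr (Or.inl ?_))))⟩
              show T.m 1 = 2 * T.m 2 ∧ T.m 2 = T.m 2 ∧ T.m 3 = T.m 2 ∧ T.m 0 = T.m 2 ∧ T.w 1 = T.w 1 ∧ T.w 2 = T.w 1 ∧ T.w 3 = T.w 1 ∧ T.w 0 = 2 * T.w 1 ∧ T.a 1 1 = -2 * T.w 1 ∧ T.a 1 2 = T.w 1 ∧ T.a 1 3 = T.w 1 ∧ T.a 1 0 = 2 * T.w 1 ∧ T.a 2 2 = -2 * T.w 1 ∧ T.a 2 3 = 0 ∧ T.a 2 0 = 0 ∧ T.a 3 3 = -2 * T.w 1 ∧ T.a 3 0 = 0 ∧ T.a 0 0 = -4 * T.w 1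
              refine ⟨?_, ?_, ?_, ?_, ?_, ?_, ?_, ?_, ?_, ?_, ?_, ?_, ?_, ?_, ?_, ?_, ?_, ?_⟩ <;> omega
            · -- 23=(1,1)
              exact False.elim (cert_false T ((skipEmb 0).trans v) (by norm_num) (fun _ => hv _) (((((((LB_zero T ((skipEmb 0).trans v)).upd 0 1 1 (le_of_eq hx12)).upd 0 2 1 (le_of_eq hx13)).upd 1 0 1 (le_of_eq hx21)).upd 1 2 1 (le_of_eq hx23)).upd 2 0 1 (le_of_eq hx31)).upd 2 1 1 (le_of_eq hx32)) ![1,1,1] (by decide) (by decide) 0 (by decide))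
            · -- 23=(1,2)
              exact False.elim (cert_false T ((skipEmb 0).trans v) (by norm_num) (fun _ => hv _) (((((((LB_zero T ((skipEmb 0).trans v)).upd 0 1 1 (le_of_eq hx12)).upd 0 2 1 (le_of_eq hx13)).upd 1 0 1 (le_of_eq hx21)).upd 1 2 1 (le_of_eq hx23)).upd 2 0 1 (le_of_eq hx31)).upd 2 1 2 (le_of_eq hx32)) ![1,1,1] (by decide) (by decide) 0 (by decide))
            · -- 23=(2,1)
              exact False.elim (cert_false T ((skipEmb 0).trans v) (by norm_num) (fun _ => hv _) (((((((LB_zero T ((skipEmb 0).trans v)).upd 0 1 1 (le_of_eq hx12)).upd 0 2 1 (le_of_eq hx13)).upd 1 0 1 (le_of_eq hx21)).upd 1 2 2 (le_of_eq hx23)).upd 2 0 1 (le_of_eq hx31)).upd 2 1 1 (le_of_eq hx32)) ![1,1,1] (by decide) (by decide) 0 (by decide))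
            · -- 23=(1,3)
              exact False.elim (cert_false T ((skipEmb 0).trans v) (by norm_num) (fun _ => hv _) (((((((LB_zero T ((skipEmb 0).trans v)).upd 0 1 1 (le_of_eq hx12)).upd 0 2 1 (le_of_eq hx13)).upd 1 0 1 (le_of_eq hx21)).upd 1 2 1 (le_of_eq hx23)).upd 2 0 1 (le_of_eq hx31)).upd 2 1 3 (le_of_eq hx32)) ![1,1,1] (by decide) (by decide) 0 (by decide))
            · -- 23=(3,1)
              exact False.elim (cert_false T ((skipEmb 0).trans v) (by norm_num) (fun _ => hv _) (((((((LB_zero T ((skipEmb 0).trans v)).upd 0 1 1 (le_of_eq hx12)).upd 0 2 1 (le_of_eq hx13)).upd 1 0 1 (le_of_eq hx21)).upd 1 2 3 (le_of_eq hx23)).upd 2 0 1 (le_of_eq hx31)).upd 2 1 1 (le_of_eq hx32)) ![1,1,1] (by decide) (by decide) 0 (by decide))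
          · -- 13=(1,2)
            exact False.elim (cert_false T ((skipEmb 2).trans v) (by norm_num) (fun _ => hv _) (((((LB_zero T ((skipEmb 2).trans v)).upd 0 1 1 (le_of_eq hx01)).upd 1 0 2 (le_of_eq hx10)).upd 1 2 1 (le_of_eq hx13)).upd 2 1 2 (le_of_eq hx31)) ![1,2,2] (by decide) (by decide) 0 (by decide))
          · -- 13=(2,1)
            exact False.elim (cert_false T ((skipEmb 2).trans v) (by norm_num) (fun _ => hv _) (((((LB_zero T ((skipEmb 2).trans v)).upd 0 1 1 (le_of_eq hx01)).upd 1 0 2 (le_of_eq hx10)).upd 1 2 2 (le_of_eq hx13)).upd 2 1 1 (le_of_eq hx31)) ![1,2,1] (by decide) (by decide) 0 (by decide))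
          · -- 13=(1,3)
            exact False.elim (cert_false T ((skipEmb 2).trans v) (by norm_num) (fun _ => hv _) (((((LB_zero T ((skipEmb 2).trans v)).upd 0 1 1 (le_of_eq hx01)).upd 1 0 2 (le_of_eq hx10)).upd 1 2 1 (le_of_eq hx13)).upd 2 1 3 (le_of_eq hx31)) ![1,2,2] (by decide) (by decide) 0 (by decide))
          · -- 13=(3,1)
            exact False.elim (cert_false T ((skipEmb 2).trans v) (by norm_num) (fun _ => hv _) (((((LB_zero T ((skipEmb 2).trans v)).upd 0 1 1 (le_of_eq hx01)).upd 1 0 2 (le_of_eq hx10)).upd 1 2 3 (le_of_eq hx13)).upd 2 1 1 (le_of_eq hx31)) ![1,2,1] (by decide) (by decide) 0 (by decide))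
        · -- 03=(1,1)
          have d13 := two_pair T (by norm_num : 2 < 4) ((pairEmb 1 3 (by decide)).trans v) (fun _ => hv _)
          change (N T v 1 3 = 0 ∧ N T v 3 1 = 0) ∨ (N T v 1 3 = 1 ∧ N T v 3 1 = 1) ∨ (N T v 1 3 = 1 ∧ N T v 3 1 = 2) ∨ (N T v 1 3 = 2 ∧ N T v 3 1 = 1) ∨ (N T v 1 3 = 1 ∧ N T v 3 1 = 3) ∨ (N T v 1 3 = 3 ∧ N T v 3 1 = 1) at d13
          rw [← hx13, ← hx31] at d13
          rcases d13 with ⟨rfl, rfl⟩ | ⟨rfl, rfl⟩ | ⟨rfl, rfl⟩ | ⟨rfl, rfl⟩ | ⟨rfl, rfl⟩ | ⟨rfl, rfl⟩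
          · -- 13=(0,0)
            have d23 := two_pair T (by norm_num : 2 < 4) ((pairEmb 2 3 (by decide)).trans v) (fun _ => hv _)
            change (N T v 2 3 = 0 ∧ N T v 3 2 = 0) ∨ (N T v 2 3 = 1 ∧ N T v 3 2 = 1) ∨ (N T v 2 3 = 1 ∧ N T v 3 2 = 2) ∨ (N T v 2 3 = 2 ∧ N T v 3 2 = 1) ∨ (N T v 2 3 = 1 ∧ N T v 3 2 = 3) ∨ (N T v 2 3 = 3 ∧ N T v 3 2 = 1) at d23
            rw [← hx23, ← hx32] at d23
            rcases d23 with ⟨rfl, rfl⟩ | ⟨rfl, rfl⟩ | ⟨rfl, rfl⟩ | ⟨rfl, rfl⟩ | ⟨rfl, rfl⟩ | ⟨rfl, rfl⟩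
            · -- 23=(0,0)
              exfalso; omega
            · -- 23=(1,1)
              exfalso; omega
            · -- 23=(1,2)
              exfalso; omega
            · -- 23=(2,1)
              exfalso; omega
            · -- 23=(1,3)
              exact False.elim (cert_false T ((skipEmb 1).trans v) (by norm_num) (fun _ => hv _) (((((LB_zero T ((skipEmb 1).trans v)).upd 0 2 1 (le_of_eq hx03)).upd 1 2 1 (le_of_eq hx23)).upd 2 0 1 (le_of_eq hx30)).upd 2 1 3 (le_of_eq hx32)) ![1,1,2] (by decide) (by decide) 0 (by decide))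
            · -- 23=(3,1)
              exact False.elim (cert_false T ((skipEmb 1).trans v) (by norm_num) (fun _ => hv _) (((((LB_zero T ((skipEmb 1).trans v)).upd 0 2 1 (le_of_eq hx03)).upd 1 2 3 (le_of_eq hx23)).upd 2 0 1 (le_of_eq hx30)).upd 2 1 1 (le_of_eq hx32)) ![1,3,2] (by decide) (by decide) 0 (by decide))
          · -- 13=(1,1)
            exact False.elim (cert_false T ((skipEmb 2).trans v) (by norm_num) (fun _ => hv _) (((((((LB_zero T ((skipEmb 2).trans v)).upd 0 1 1 (le_of_eq hx01)).upd 0 2 1 (le_of_eq hx03)).upd 1 0 2 (le_of_eq hx10)).upd 1 2 1 (le_of_eq hx13)).upd 2 0 1 (le_of_eq hx30)).upd 2 1 1 (le_of_eq hx31)) ![1,1,1] (by decide) (by decide) 0 (by decide))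
          · -- 13=(1,2)
            exact False.elim (cert_false T ((skipEmb 2).trans v) (by norm_num) (fun _ => hv _) (((((((LB_zero T ((skipEmb 2).trans v)).upd 0 1 1 (le_of_eq hx01)).upd 0 2 1 (le_of_eq hx03)).upd 1 0 2 (le_of_eq hx10)).upd 1 2 1 (le_of_eq hx13)).upd 2 0 1 (le_of_eq hx30)).upd 2 1 2 (le_of_eq hx31)) ![1,1,1] (by decide) (by decide) 0 (by decide))
          · -- 13=(2,1)
            exact False.elim (cert_false T ((skipEmb 2).trans v) (by norm_num) (fun _ => hv _) (((((((LB_zero T ((skipEmb 2).trans v)).upd 0 1 1 (le_of_eq hx01)).upd 0 2 1 (le_of_eq hx03)).upd 1 0 2 (le_of_eq hx10)).upd 1 2 2 (le_of_eq hx13)).upd 2 0 1 (le_of_eq hx30)).upd 2 1 1 (le_of_eq hx31)) ![1,1,1] (by decide) (by decide) 0 (by decide))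
          · -- 13=(1,3)
            exact False.elim (cert_false T ((skipEmb 2).trans v) (by norm_num) (fun _ => hv _) (((((((LB_zero T ((skipEmb 2).trans v)).upd 0 1 1 (le_of_eq hx01)).upd 0 2 1 (le_of_eq hx03)).upd 1 0 2 (le_of_eq hx10)).upd 1 2 1 (le_of_eq hx13)).upd 2 0 1 (le_of_eq hx30)).upd 2 1 3 (le_of_eq hx31)) ![1,1,1] (by decide) (by decide) 0 (by decide))
          · -- 13=(3,1)
            exact False.elim (cert_false T ((skipEmb 2).trans v) (by norm_num) (fun _ => hv _) (((((((LB_zero T ((skipEmb 2).trans v)).upd 0 1 1 (le_of_eq hx01)).upd 0 2 1 (le_of_eq hx03)).upd 1 0 2 (le_of_eq hx10)).upd 1 2 3 (le_of_eq hx13)).upd 2 0 1 (le_of_eq hx30)).upd 2 1 1 (le_of_eq hx31)) ![1,1,1] (by decide) (by decide) 0 (by decide))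
        · -- 03=(1,2)
          exact False.elim (cert_false T ((skipEmb 2).trans v) (by norm_num) (fun _ => hv _) (((((LB_zero T ((skipEmb 2).trans v)).upd 0 1 1 (le_of_eq hx01)).upd 0 2 1 (le_of_eq hx03)).upd 1 0 2 (le_of_eq hx10)).upd 2 0 2 (le_of_eq hx30)) ![1,1,1] (by decide) (by decide) 0 (by decide))
        · -- 03=(2,1)
          exact False.elim (cert_false T ((skipEmb 2).trans v) (by norm_num) (fun _ => hv _) (((((LB_zero T ((skipEmb 2).trans v)).upd 0 1 1 (le_of_eq hx01)).upd 0 2 2 (le_of_eq hx03)).upd 1 0 2 (le_of_eq hx10)).upd 2 0 1 (le_of_eq hx30)) ![2,2,1] (by decide) (by decide) 0 (by decide))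
        · -- 03=(1,3)
          exact False.elim (cert_false T ((skipEmb 2).trans v) (by norm_num) (fun _ => hv _) (((((LB_zero T ((skipEmb 2).trans v)).upd 0 1 1 (le_of_eq hx01)).upd 0 2 1 (le_of_eq hx03)).upd 1 0 2 (le_of_eq hx10)).upd 2 0 3 (le_of_eq hx30)) ![1,1,1] (by decide) (by decide) 0 (by decide))
        · -- 03=(3,1)
          exact False.elim (cert_false T ((skipEmb 2).trans v) (by norm_num) (fun _ => hv _) (((((LB_zero T ((skipEmb 2).trans v)).upd 0 1 1 (le_of_eq hx01)).upd 0 2 3 (le_of_eq hx03)).upd 1 0 2 (le_of_eq hx10)).upd 2 0 1 (le_of_eq hx30)) ![2,1,1] (by decide) (by decide) 0 (by decide))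
      · -- 12=(1,2)
        exact False.elim (cert_false T ((skipEmb 3).trans v) (by norm_num) (fun _ => hv _) (((((LB_zero T ((skipEmb 3).trans v)).upd 0 1 1 (le_of_eq hx01)).upd 1 0 2 (le_of_eq hx10)).upd 1 2 1 (le_of_eq hx12)).upd 2 1 2 (le_of_eq hx21)) ![1,2,2] (by decide) (by decide) 0 (by decide))
      · -- 12=(2,1)
        exact False.elim (cert_false T ((skipEmb 3).trans v) (by norm_num) (fun _ => hv _) (((((LB_zero T ((skipEmb 3).trans v)).upd 0 1 1 (le_of_eq hx01)).upd 1 0 2 (le_of_eq hx10)).upd 1 2 2 (le_of_eq hx12)).upd 2 1 1 (le_of_eq hx21)) ![1,2,1] (by decide) (by decide) 0 (by decide))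
      · -- 12=(1,3)
        exact False.elim (cert_false T ((skipEmb 3).trans v) (by norm_num) (fun _ => hv _) (((((LB_zero T ((skipEmb 3).trans v)).upd 0 1 1 (le_of_eq hx01)).upd 1 0 2 (le_of_eq hx10)).upd 1 2 1 (le_of_eq hx12)).upd 2 1 3 (le_of_eq hx21)) ![1,2,2] (by decide) (by decide) 0 (by decide))
      · -- 12=(3,1)
        exact False.elim (cert_false T ((skipEmb 3).trans v) (by norm_num) (fun _ => hv _) (((((LB_zero T ((skipEmb 3).trans v)).upd 0 1 1 (le_of_eq hx01)).upd 1 0 2 (le_of_eq hx10)).upd 1 2 3 (le_of_eq hx12)).upd 2 1 1 (le_of_eq hx21)) ![1,2,1] (by decide) (by decide) 0 (by decide))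
    · -- 02=(1,1)
      have d12 := two_pair T (by norm_num : 2 < 4) ((pairEmb 1 2 (by decide)).trans v) (fun _ => hv _)
      change (N T v 1 2 = 0 ∧ N T v 2 1 = 0) ∨ (N T v 1 2 = 1 ∧ N T v 2 1 = 1) ∨ (N T v 1 2 = 1 ∧ N T v 2 1 = 2) ∨ (N T v 1 2 = 2 ∧ N T v 2 1 = 1) ∨ (N T v 1 2 = 1 ∧ N T v 2 1 = 3) ∨ (N T v 1 2 = 3 ∧ N T v 2 1 = 1) at d12
      rw [← hx12, ← hx21] at d12
      rcases d12 with ⟨rfl, rfl⟩ | ⟨rfl, rfl⟩ | ⟨rfl, rfl⟩ | ⟨rfl, rfl⟩ | ⟨rfl, rfl⟩ | ⟨rfl, rfl⟩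
      · -- 12=(0,0)
        have d03 := two_pair T (by norm_num : 2 < 4) ((pairEmb 0 3 (by decide)).trans v) (fun _ => hv _)
        change (N T v 0 3 = 0 ∧ N T v 3 0 = 0) ∨ (N T v 0 3 = 1 ∧ N T v 3 0 = 1) ∨ (N T v 0 3 = 1 ∧ N T v 3 0 = 2) ∨ (N T v 0 3 = 2 ∧ N T v 3 0 = 1) ∨ (N T v 0 3 = 1 ∧ N T v 3 0 = 3) ∨ (N T v 0 3 = 3 ∧ N T v 3 0 = 1) at d03
        rw [← hx03, ← hx30] at d03
        rcases d03 with ⟨rfl, rfl⟩ | ⟨rfl, rfl⟩ | ⟨rfl, rfl⟩ | ⟨rfl, rfl⟩ | ⟨rfl, rfl⟩ | ⟨rfl, rfl⟩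
        · -- 03=(0,0)
          have d13 := two_pair T (by norm_num : 2 < 4) ((pairEmb 1 3 (by decide)).trans v) (fun _ => hv _)
          change (N T v 1 3 = 0 ∧ N T v 3 1 = 0) ∨ (N T v 1 3 = 1 ∧ N T v 3 1 = 1) ∨ (N T v 1 3 = 1 ∧ N T v 3 1 = 2) ∨ (N T v 1 3 = 2 ∧ N T v 3 1 = 1) ∨ (N T v 1 3 = 1 ∧ N T v 3 1 = 3) ∨ (N T v 1 3 = 3 ∧ N T v 3 1 = 1) at d13
          rw [← hx13, ← hx31] at d13
          rcases d13 with ⟨rfl, rfl⟩ | ⟨rfl, rfl⟩ | ⟨rfl, rfl⟩ | ⟨rfl, rfl⟩ | ⟨rfl, rfl⟩ | ⟨rfl, rfl⟩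
          · -- 13=(0,0)
            have d23 := two_pair T (by norm_num : 2 < 4) ((pairEmb 2 3 (by decide)).trans v) (fun _ => hv _)
            change (N T v 2 3 = 0 ∧ N T v 3 2 = 0) ∨ (N T v 2 3 = 1 ∧ N T v 3 2 = 1) ∨ (N T v 2 3 = 1 ∧ N T v 3 2 = 2) ∨ (N T v 2 3 = 2 ∧ N T v 3 2 = 1) ∨ (N T v 2 3 = 1 ∧ N T v 3 2 = 3) ∨ (N T v 2 3 = 3 ∧ N T v 3 2 = 1) at d23
            rw [← hx23, ← hx32] at d23
            rcases d23 with ⟨rfl, rfl⟩ | ⟨rfl, rfl⟩ | ⟨rfl, rfl⟩ | ⟨rfl, rfl⟩ | ⟨rfl, rfl⟩ | ⟨rfl, rfl⟩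
            · -- 23=(0,0)
              exfalso; omega
            · -- 23=(1,1)
              exfalso; omega
            · -- 23=(1,2)
              refine ⟨(⟨![1, 0, 2, 3], ![1, 0, 2, 3], by decide, by decide⟩ : Equiv.Perm (Fin 4)), T.m 1, T.w 1, Or.inr (Or.inr (Or.inl ?_))⟩
              show T.m 1 = T.m 1 ∧ T.m 0 = T.m 1 ∧ T.m 2 = T.m 1 ∧ T.m 3 = T.m 1 ∧ T.w 1 = T.w 1 ∧ T.w 0 = 2 * T.w 1 ∧ T.w 2 = 2 * T.w 1 ∧ T.w 3 = T.w 1 ∧ T.a 1 1 = -2 * T.w 1 ∧ T.a 1 0 = 2 * T.w 1 ∧ T.a 1 2 = 0 ∧ T.a 1 3 = 0 ∧ T.a 0 0 = -4 * T.w 1 ∧ T.a 0 2 = 2 * T.w 1 ∧ T.a 0 3 = 0 ∧ T.a 2 2 = -4 * T.w 1 ∧ T.a 2 3 = 2 * T.w 1 ∧ T.a 3 3 = -2 * T.w 1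
              refine ⟨?_, ?_, ?_, ?_, ?_, ?_, ?_, ?_, ?_, ?_, ?_, ?_, ?_, ?_, ?_, ?_, ?_, ?_⟩ <;> omega
            · -- 23=(2,1)
              refine ⟨(⟨![1, 0, 2, 3], ![1, 0, 2, 3], by decide, by decide⟩ : Equiv.Perm (Fin 4)), T.m 3, T.w 1, Or.inr (Or.inl ?_)⟩
              show T.m 1 = 2 * T.m 3 ∧ T.m 0 = 2 * T.m 3 ∧ T.m 2 = 2 * T.m 3 ∧ T.m 3 = T.m 3 ∧ T.w 1 = T.w 1 ∧ T.w 0 = 2 * T.w 1 ∧ T.w 2 = 2 * T.w 1 ∧ T.w 3 = 4 * T.w 1 ∧ T.a 1 1 = -2 * T.w 1 ∧ T.a 1 0 = 2 * T.w 1 ∧ T.a 1 2 = 0 ∧ T.a 1 3 = 0 ∧ T.a 0 0 = -4 * T.w 1 ∧ T.a 0 2 = 2 * T.w 1 ∧ T.a 0 3 = 0 ∧ T.a 2 2 = -4 * T.w 1 ∧ T.a 2 3 = 4 * T.w 1 ∧ T.a 3 3 = -8 * T.w 1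
              refine ⟨?_, ?_, ?_, ?_, ?_, ?_, ?_, ?_, ?_, ?_, ?_, ?_, ?_, ?_, ?_, ?_, ?_, ?_⟩ <;> omega
            · -- 23=(1,3)
              exact False.elim (cert_false T ((skipEmb 1).trans v) (by norm_num) (fun _ => hv _) (((((LB_zero T ((skipEmb 1).trans v)).upd 0 1 1 (le_of_eq hx02)).upd 1 0 1 (le_of_eq hx20)).upd 1 2 1 (le_of_eq hx23)).upd 2 1 3 (le_of_eq hx32)) ![1,2,3] (by decide) (by decide) 0 (by decide))
            · -- 23=(3,1)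
              exact False.elim (cert_false T ((skipEmb 1).trans v) (by norm_num) (fun _ => hv _) (((((LB_zero T ((skipEmb 1).trans v)).upd 0 1 1 (le_of_eq hx02)).upd 1 0 1 (le_of_eq hx20)).upd 1 2 3 (le_of_eq hx23)).upd 2 1 1 (le_of_eq hx32)) ![1,2,1] (by decide) (by decide) 0 (by decide))
          · -- 13=(1,1)
            have d23 := two_pair T (by norm_num : 2 < 4) ((pairEmb 2 3 (by decide)).trans v) (fun _ => hv _)
            change (N T v 2 3 = 0 ∧ N T v 3 2 = 0) ∨ (N T v 2 3 = 1 ∧ N T v 3 2 = 1) ∨ (N T v 2 3 = 1 ∧ N T v 3 2 = 2) ∨ (N T v 2 3 = 2 ∧ N T v 3 2 = 1) ∨ (N T v 2 3 = 1 ∧ N T v 3 2 = 3) ∨ (N T v 2 3 = 3 ∧ N T v 3 2 = 1) at d23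
            rw [← hx23, ← hx32] at d23
            rcases d23 with ⟨rfl, rfl⟩ | ⟨rfl, rfl⟩ | ⟨rfl, rfl⟩ | ⟨rfl, rfl⟩ | ⟨rfl, rfl⟩ | ⟨rfl, rfl⟩
            · -- 23=(0,0)
              exfalso; omega
            · -- 23=(1,1)
              exfalso; omega
            · -- 23=(1,2)
              exfalso; omega
            · -- 23=(2,1)
              exfalso; omega
            · -- 23=(1,3)
              exact False.elim (cert_false T ((skipEmb 1).trans v) (by norm_num) (fun _ => hv _) (((((LB_zero T ((skipEmb 1).trans v)).upd 0 1 1 (le_of_eq hx02)).upd 1 0 1 (le_of_eq hx20)).upd 1 2 1 (le_of_eq hx23)).upd 2 1 3 (le_of_eq hx32)) ![1,2,3] (by decide) (by decide) 0 (by decide))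
            · -- 23=(3,1)
              exact False.elim (cert_false T ((skipEmb 1).trans v) (by norm_num) (fun _ => hv _) (((((LB_zero T ((skipEmb 1).trans v)).upd 0 1 1 (le_of_eq hx02)).upd 1 0 1 (le_of_eq hx20)).upd 1 2 3 (le_of_eq hx23)).upd 2 1 1 (le_of_eq hx32)) ![1,2,1] (by decide) (by decide) 0 (by decide))
          · -- 13=(1,2)
            exact False.elim (cert_false T ((skipEmb 2).trans v) (by norm_num) (fun _ => hv _) (((((LB_zero T ((skipEmb 2).trans v)).upd 0 1 1 (le_of_eq hx01)).upd 1 0 2 (le_of_eq hx10)).upd 1 2 1 (le_of_eq hx13)).upd 2 1 2 (le_of_eq hx31)) ![1,2,2] (by decide) (by decide) 0 (by decide))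
          · -- 13=(2,1)
            exact False.elim (cert_false T ((skipEmb 2).trans v) (by norm_num) (fun _ => hv _) (((((LB_zero T ((skipEmb 2).trans v)).upd 0 1 1 (le_of_eq hx01)).upd 1 0 2 (le_of_eq hx10)).upd 1 2 2 (le_of_eq hx13)).upd 2 1 1 (le_of_eq hx31)) ![1,2,1] (by decide) (by decide) 0 (by decide))
          · -- 13=(1,3)
            exact False.elim (cert_false T ((skipEmb 2).trans v) (by norm_num) (fun _ => hv _) (((((LB_zero T ((skipEmb 2).trans v)).upd 0 1 1 (le_of_eq hx01)).upd 1 0 2 (le_of_eq hx10)).upd 1 2 1 (le_of_eq hx13)).upd 2 1 3 (le_of_eq hx31)) ![1,2,2] (by decide) (by decide) 0 (by decide))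
          · -- 13=(3,1)
            exact False.elim (cert_false T ((skipEmb 2).trans v) (by norm_num) (fun _ => hv _) (((((LB_zero T ((skipEmb 2).trans v)).upd 0 1 1 (le_of_eq hx01)).upd 1 0 2 (le_of_eq hx10)).upd 1 2 3 (le_of_eq hx13)).upd 2 1 1 (le_of_eq hx31)) ![1,2,1] (by decide) (by decide) 0 (by decide))
        · -- 03=(1,1)
          have d13 := two_pair T (by norm_num : 2 < 4) ((pairEmb 1 3 (by decide)).trans v) (fun _ => hv _)
          change (N T v 1 3 = 0 ∧ N T v 3 1 = 0) ∨ (N T v 1 3 = 1 ∧ N T v 3 1 = 1) ∨ (N T v 1 3 = 1 ∧ N T v 3 1 = 2) ∨ (N T v 1 3 = 2 ∧ N T v 3 1 = 1) ∨ (N T v 1 3 = 1 ∧ N T v 3 1 = 3) ∨ (N T v 1 3 = 3 ∧ N T v 3 1 = 1) at d13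
          rw [← hx13, ← hx31] at d13
          rcases d13 with ⟨rfl, rfl⟩ | ⟨rfl, rfl⟩ | ⟨rfl, rfl⟩ | ⟨rfl, rfl⟩ | ⟨rfl, rfl⟩ | ⟨rfl, rfl⟩
          · -- 13=(0,0)
            have d23 := two_pair T (by norm_num : 2 < 4) ((pairEmb 2 3 (by decide)).trans v) (fun _ => hv _)
            change (N T v 2 3 = 0 ∧ N T v 3 2 = 0) ∨ (N T v 2 3 = 1 ∧ N T v 3 2 = 1) ∨ (N T v 2 3 = 1 ∧ N T v 3 2 = 2) ∨ (N T v 2 3 = 2 ∧ N T v 3 2 = 1) ∨ (N T v 2 3 = 1 ∧ N T v 3 2 = 3) ∨ (N T v 2 3 = 3 ∧ N T v 3 2 = 1) at d23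
            rw [← hx23, ← hx32] at d23
            rcases d23 with ⟨rfl, rfl⟩ | ⟨rfl, rfl⟩ | ⟨rfl, rfl⟩ | ⟨rfl, rfl⟩ | ⟨rfl, rfl⟩ | ⟨rfl, rfl⟩
            · -- 23=(0,0)
              refine ⟨(⟨![0, 2, 3, 1], ![0, 3, 1, 2], by decide, by decide⟩ : Equiv.Perm (Fin 4)), T.m 2, T.w 1, Or.inr (Or.inr (Or.inr (Or.inr (Or.inr (?_)))))⟩
              show T.m 0 = 2 * T.m 2 ∧ T.m 2 = T.m 2 ∧ T.m 3 = T.m 2 ∧ T.m 1 = 2 * T.m 2 ∧ T.w 0 = 2 * T.w 1 ∧ T.w 2 = 2 * T.w 1 ∧ T.w 3 = 2 * T.w 1 ∧ T.w 1 = T.w 1 ∧ T.a 0 0 = -4 * T.w 1 ∧ T.a 0 2 = 2 * T.w 1 ∧ T.a 0 3 = 2 * T.w 1 ∧ T.a 0 1 = 2 * T.w 1 ∧ T.a 2 2 = -4 * T.w 1 ∧ T.a 2 3 = 0 ∧ T.a 2 1 = 0 ∧ T.a 3 3 = -4 * T.w 1 ∧ T.a 3 1 = 0 ∧ T.a 1 1 = -2 * T.w 1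
              refine ⟨?_, ?_, ?_, ?_, ?_, ?_, ?_, ?_, ?_, ?_, ?_, ?_, ?_, ?_, ?_, ?_, ?_, ?_⟩ <;> omega
            · -- 23=(1,1)
              exact False.elim (cert_false T ((skipEmb 1).trans v) (by norm_num) (fun _ => hv _) (((((((LB_zero T ((skipEmb 1).trans v)).upd 0 1 1 (le_of_eq hx02)).upd 0 2 1 (le_of_eq hx03)).upd 1 0 1 (le_of_eq hx20)).upd 1 2 1 (le_of_eq hx23)).upd 2 0 1 (le_of_eq hx30)).upd 2 1 1 (le_of_eq hx32)) ![1,1,1] (by decide) (by decide) 0 (by decide))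
            · -- 23=(1,2)
              exact False.elim (cert_false T ((skipEmb 1).trans v) (by norm_num) (fun _ => hv _) (((((((LB_zero T ((skipEmb 1).trans v)).upd 0 1 1 (le_of_eq hx02)).upd 0 2 1 (le_of_eq hx03)).upd 1 0 1 (le_of_eq hx20)).upd 1 2 1 (le_of_eq hx23)).upd 2 0 1 (le_of_eq hx30)).upd 2 1 2 (le_of_eq hx32)) ![1,1,1] (by decide) (by decide) 0 (by decide))
            · -- 23=(2,1)
              exact False.elim (cert_false T ((skipEmb 1).trans v) (by norm_num) (fun _ => hv _) (((((((LB_zero T ((skipEmb 1).trans v)).upd 0 1 1 (le_of_eq hx02)).upd 0 2 1 (le_of_eq hx03)).upd 1 0 1 (le_of_eq hx20)).upd 1 2 2 (le_of_eq hx23)).upd 2 0 1 (le_of_eq hx30)).upd 2 1 1 (le_of_eq hx32)) ![1,1,1] (by decide) (by decide) 0 (by decide))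
            · -- 23=(1,3)
              exact False.elim (cert_false T ((skipEmb 1).trans v) (by norm_num) (fun _ => hv _) (((((((LB_zero T ((skipEmb 1).trans v)).upd 0 1 1 (le_of_eq hx02)).upd 0 2 1 (le_of_eq hx03)).upd 1 0 1 (le_of_eq hx20)).upd 1 2 1 (le_of_eq hx23)).upd 2 0 1 (le_of_eq hx30)).upd 2 1 3 (le_of_eq hx32)) ![1,1,1] (by decide) (by decide) 0 (by decide))
            · -- 23=(3,1)
              exact False.elim (cert_false T ((skipEmb 1).trans v) (by norm_num) (fun _ => hv _) (((((((LB_zero T ((skipEmb 1).trans v)).upd 0 1 1 (le_of_eq hx02)).upd 0 2 1 (le_of_eq hx03)).upd 1 0 1 (le_of_eq hx20)).upd 1 2 3 (le_of_eq hx23)).upd 2 0 1 (le_of_eq hx30)).upd 2 1 1 (le_of_eq hx32)) ![1,1,1] (by decide) (by decide) 0 (by decide))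
          · -- 13=(1,1)
            exact False.elim (cert_false T ((skipEmb 2).trans v) (by norm_num) (fun _ => hv _) (((((((LB_zero T ((skipEmb 2).trans v)).upd 0 1 1 (le_of_eq hx01)).upd 0 2 1 (le_of_eq hx03)).upd 1 0 2 (le_of_eq hx10)).upd 1 2 1 (le_of_eq hx13)).upd 2 0 1 (le_of_eq hx30)).upd 2 1 1 (le_of_eq hx31)) ![1,1,1] (by decide) (by decide) 0 (by decide))
          · -- 13=(1,2)
            exact False.elim (cert_false T ((skipEmb 2).trans v) (by norm_num) (fun _ => hv _) (((((((LB_zero T ((skipEmb 2).trans v)).upd 0 1 1 (le_of_eq hx01)).upd 0 2 1 (le_of_eq hx03)).upd 1 0 2 (le_of_eq hx10)).upd 1 2 1 (le_of_eq hx13)).upd 2 0 1 (le_of_eq hx30)).upd 2 1 2 (le_of_eq hx31)) ![1,1,1] (by decide) (by decide) 0 (by decide))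
          · -- 13=(2,1)
            exact False.elim (cert_false T ((skipEmb 2).trans v) (by norm_num) (fun _ => hv _) (((((((LB_zero T ((skipEmb 2).trans v)).upd 0 1 1 (le_of_eq hx01)).upd 0 2 1 (le_of_eq hx03)).upd 1 0 2 (le_of_eq hx10)).upd 1 2 2 (le_of_eq hx13)).upd 2 0 1 (le_of_eq hx30)).upd 2 1 1 (le_of_eq hx31)) ![1,1,1] (by decide) (by decide) 0 (by decide))
          · -- 13=(1,3)
            exact False.elim (cert_false T ((skipEmb 2).trans v) (by norm_num) (fun _ => hv _) (((((((LB_zero T ((skipEmb 2).trans v)).upd 0 1 1 (le_of_eq hx01)).upd 0 2 1 (le_of_eq hx03)).upd 1 0 2 (le_of_eq hx10)).upd 1 2 1 (le_of_eq hx13)).upd 2 0 1 (le_of_eq hx30)).upd 2 1 3 (le_of_eq hx31)) ![1,1,1] (by decide) (by decide) 0 (by decide))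
          · -- 13=(3,1)
            exact False.elim (cert_false T ((skipEmb 2).trans v) (by norm_num) (fun _ => hv _) (((((((LB_zero T ((skipEmb 2).trans v)).upd 0 1 1 (le_of_eq hx01)).upd 0 2 1 (le_of_eq hx03)).upd 1 0 2 (le_of_eq hx10)).upd 1 2 3 (le_of_eq hx13)).upd 2 0 1 (le_of_eq hx30)).upd 2 1 1 (le_of_eq hx31)) ![1,1,1] (by decide) (by decide) 0 (by decide))
        · -- 03=(1,2)
          exact False.elim (cert_false T ((skipEmb 2).trans v) (by norm_num) (fun _ => hv _) (((((LB_zero T ((skipEmb 2).trans v)).upd 0 1 1 (le_of_eq hx01)).upd 0 2 1 (le_of_eq hx03)).upd 1 0 2 (le_of_eq hx10)).upd 2 0 2 (le_of_eq hx30)) ![1,1,1] (by decide) (by decide) 0 (by decide))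
        · -- 03=(2,1)
          exact False.elim (cert_false T ((skipEmb 2).trans v) (by norm_num) (fun _ => hv _) (((((LB_zero T ((skipEmb 2).trans v)).upd 0 1 1 (le_of_eq hx01)).upd 0 2 2 (le_of_eq hx03)).upd 1 0 2 (le_of_eq hx10)).upd 2 0 1 (le_of_eq hx30)) ![2,2,1] (by decide) (by decide) 0 (by decide))
        · -- 03=(1,3)
          exact False.elim (cert_false T ((skipEmb 2).trans v) (by norm_num) (fun _ => hv _) (((((LB_zero T ((skipEmb 2).trans v)).upd 0 1 1 (le_of_eq hx01)).upd 0 2 1 (le_of_eq hx03)).upd 1 0 2 (le_of_eq hx10)).upd 2 0 3 (le_of_eq hx30)) ![1,1,1] (by decide) (by decide) 0 (by decide))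
        · -- 03=(3,1)
          exact False.elim (cert_false T ((skipEmb 2).trans v) (by norm_num) (fun _ => hv _) (((((LB_zero T ((skipEmb 2).trans v)).upd 0 1 1 (le_of_eq hx01)).upd 0 2 3 (le_of_eq hx03)).upd 1 0 2 (le_of_eq hx10)).upd 2 0 1 (le_of_eq hx30)) ![2,1,1] (by decide) (by decide) 0 (by decide))
      · -- 12=(1,1)
        exact False.elim (cert_false T ((skipEmb 3).trans v) (by norm_num) (fun _ => hv _) (((((((LB_zero T ((skipEmb 3).trans v)).upd 0 1 1 (le_of_eq hx01)).upd 0 2 1 (le_of_eq hx02)).upd 1 0 2 (le_of_eq hx10)).upd 1 2 1 (le_of_eq hx12)).upd 2 0 1 (le_of_eq hx20)).upd 2 1 1 (le_of_eq hx21)) ![1,1,1] (by decide) (by decide) 0 (by decide))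
      · -- 12=(1,2)
        exact False.elim (cert_false T ((skipEmb 3).trans v) (by norm_num) (fun _ => hv _) (((((((LB_zero T ((skipEmb 3).trans v)).upd 0 1 1 (le_of_eq hx01)).upd 0 2 1 (le_of_eq hx02)).upd 1 0 2 (le_of_eq hx10)).upd 1 2 1 (le_of_eq hx12)).upd 2 0 1 (le_of_eq hx20)).upd 2 1 2 (le_of_eq hx21)) ![1,1,1] (by decide) (by decide) 0 (by decide))
      · -- 12=(2,1)
        exact False.elim (cert_false T ((skipEmb 3).trans v) (by norm_num) (fun _ => hv _) (((((((LB_zero T ((skipEmb 3).trans v)).upd 0 1 1 (le_of_eq hx01)).upd 0 2 1 (le_of_eq hx02)).upd 1 0 2 (le_of_eq hx10)).upd 1 2 2 (le_of_eq hx12)).upd 2 0 1 (le_of_eq hx20)).upd 2 1 1 (le_of_eq hx21)) ![1,1,1] (by decide) (by decide) 0 (by decide))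
      · -- 12=(1,3)
        exact False.elim (cert_false T ((skipEmb 3).trans v) (by norm_num) (fun _ => hv _) (((((((LB_zero T ((skipEmb 3).trans v)).upd 0 1 1 (le_of_eq hx01)).upd 0 2 1 (le_of_eq hx02)).upd 1 0 2 (le_of_eq hx10)).upd 1 2 1 (le_of_eq hx12)).upd 2 0 1 (le_of_eq hx20)).upd 2 1 3 (le_of_eq hx21)) ![1,1,1] (by decide) (by decide) 0 (by decide))
      · -- 12=(3,1)
        exact False.elim (cert_false T ((skipEmb 3).trans v) (by norm_num) (fun _ => hv _) (((((((LB_zero T ((skipEmb 3).trans v)).upd 0 1 1 (le_of_eq hx01)).upd 0 2 1 (le_of_eq hx02)).upd 1 0 2 (le_of_eq hx10)).upd 1 2 3 (le_of_eq hx12)).upd 2 0 1 (le_of_eq hx20)).upd 2 1 1 (le_of_eq hx21)) ![1,1,1] (by decide) (by decide) 0 (by decide))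
    · -- 02=(1,2)
      exact False.elim (cert_false T ((skipEmb 3).trans v) (by norm_num) (fun _ => hv _) (((((LB_zero T ((skipEmb 3).trans v)).upd 0 1 1 (le_of_eq hx01)).upd 0 2 1 (le_of_eq hx02)).upd 1 0 2 (le_of_eq hx10)).upd 2 0 2 (le_of_eq hx20)) ![1,1,1] (by decide) (by decide) 0 (by decide))
    · -- 02=(2,1)
      exact False.elim (cert_false T ((skipEmb 3).trans v) (by norm_num) (fun _ => hv _) (((((LB_zero T ((skipEmb 3).trans v)).upd 0 1 1 (le_of_eq hx01)).upd 0 2 2 (le_of_eq hx02)).upd 1 0 2 (le_of_eq hx10)).upd 2 0 1 (le_of_eq hx20)) ![2,2,1] (by decide) (by decide) 0 (by decide))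
    · -- 02=(1,3)
      exact False.elim (cert_false T ((skipEmb 3).trans v) (by norm_num) (fun _ => hv _) (((((LB_zero T ((skipEmb 3).trans v)).upd 0 1 1 (le_of_eq hx01)).upd 0 2 1 (le_of_eq hx02)).upd 1 0 2 (le_of_eq hx10)).upd 2 0 3 (le_of_eq hx20)) ![1,1,1] (by decide) (by decide) 0 (by decide))
    · -- 02=(3,1)
      exact False.elim (cert_false T ((skipEmb 3).trans v) (by norm_num) (fun _ => hv _) (((((LB_zero T ((skipEmb 3).trans v)).upd 0 1 1 (le_of_eq hx01)).upd 0 2 3 (le_of_eq hx02)).upd 1 0 2 (le_of_eq hx10)).upd 2 0 1 (le_of_eq hx20)) ![2,1,1] (by decide) (by decide) 0 (by decide))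
  · -- 01=(2,1)
    have d02 := two_pair T (by norm_num : 2 < 4) ((pairEmb 0 2 (by decide)).trans v) (fun _ => hv _)
    change (N T v 0 2 = 0 ∧ N T v 2 0 = 0) ∨ (N T v 0 2 = 1 ∧ N T v 2 0 = 1) ∨ (N T v 0 2 = 1 ∧ N T v 2 0 = 2) ∨ (N T v 0 2 = 2 ∧ N T v 2 0 = 1) ∨ (N T v 0 2 = 1 ∧ N T v 2 0 = 3) ∨ (N T v 0 2 = 3 ∧ N T v 2 0 = 1) at d02
    rw [← hx02, ← hx20] at d02
    rcases d02 with ⟨rfl, rfl⟩ | ⟨rfl, rfl⟩ | ⟨rfl, rfl⟩ | ⟨rfl, rfl⟩ | ⟨rfl, rfl⟩ | ⟨rfl, rfl⟩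
    · -- 02=(0,0)
      have d12 := two_pair T (by norm_num : 2 < 4) ((pairEmb 1 2 (by decide)).trans v) (fun _ => hv _)
      change (N T v 1 2 = 0 ∧ N T v 2 1 = 0) ∨ (N T v 1 2 = 1 ∧ N T v 2 1 = 1) ∨ (N T v 1 2 = 1 ∧ N T v 2 1 = 2) ∨ (N T v 1 2 = 2 ∧ N T v 2 1 = 1) ∨ (N T v 1 2 = 1 ∧ N T v 2 1 = 3) ∨ (N T v 1 2 = 3 ∧ N T v 2 1 = 1) at d12
      rw [← hx12, ← hx21] at d12
      rcases d12 with ⟨rfl, rfl⟩ | ⟨rfl, rfl⟩ | ⟨rfl, rfl⟩ | ⟨rfl, rfl⟩ | ⟨rfl, rfl⟩ | ⟨rfl, rfl⟩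
      · -- 12=(0,0)
        have d03 := two_pair T (by norm_num : 2 < 4) ((pairEmb 0 3 (by decide)).trans v) (fun _ => hv _)
        change (N T v 0 3 = 0 ∧ N T v 3 0 = 0) ∨ (N T v 0 3 = 1 ∧ N T v 3 0 = 1) ∨ (N T v 0 3 = 1 ∧ N T v 3 0 = 2) ∨ (N T v 0 3 = 2 ∧ N T v 3 0 = 1) ∨ (N T v 0 3 = 1 ∧ N T v 3 0 = 3) ∨ (N T v 0 3 = 3 ∧ N T v 3 0 = 1) at d03
        rw [← hx03, ← hx30] at d03
        rcases d03 with ⟨rfl, rfl⟩ | ⟨rfl, rfl⟩ | ⟨rfl, rfl⟩ | ⟨rfl, rfl⟩ | ⟨rfl, rfl⟩ | ⟨rfl, rfl⟩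
        · -- 03=(0,0)
          have d13 := two_pair T (by norm_num : 2 < 4) ((pairEmb 1 3 (by decide)).trans v) (fun _ => hv _)
          change (N T v 1 3 = 0 ∧ N T v 3 1 = 0) ∨ (N T v 1 3 = 1 ∧ N T v 3 1 = 1) ∨ (N T v 1 3 = 1 ∧ N T v 3 1 = 2) ∨ (N T v 1 3 = 2 ∧ N T v 3 1 = 1) ∨ (N T v 1 3 = 1 ∧ N T v 3 1 = 3) ∨ (N T v 1 3 = 3 ∧ N T v 3 1 = 1) at d13
          rw [← hx13, ← hx31] at d13
          rcases d13 with ⟨rfl, rfl⟩ | ⟨rfl, rfl⟩ | ⟨rfl, rfl⟩ | ⟨rfl, rfl⟩ | ⟨rfl, rfl⟩ | ⟨rfl, rfl⟩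
          · -- 13=(0,0)
            have d23 := two_pair T (by norm_num : 2 < 4) ((pairEmb 2 3 (by decide)).trans v) (fun _ => hv _)
            change (N T v 2 3 = 0 ∧ N T v 3 2 = 0) ∨ (N T v 2 3 = 1 ∧ N T v 3 2 = 1) ∨ (N T v 2 3 = 1 ∧ N T v 3 2 = 2) ∨ (N T v 2 3 = 2 ∧ N T v 3 2 = 1) ∨ (N T v 2 3 = 1 ∧ N T v 3 2 = 3) ∨ (N T v 2 3 = 3 ∧ N T v 3 2 = 1) at d23
            rw [← hx23, ← hx32] at d23
            rcases d23 with ⟨rfl, rfl⟩ | ⟨rfl, rfl⟩ | ⟨rfl, rfl⟩ | ⟨rfl, rfl⟩ | ⟨rfl, rfl⟩ | ⟨rfl, rfl⟩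
            · -- 23=(0,0)
              exfalso; omega
            · -- 23=(1,1)
              exfalso; omega
            · -- 23=(1,2)
              exfalso; omega
            · -- 23=(2,1)
              exfalso; omega
            · -- 23=(1,3)
              exfalso; omega
            · -- 23=(3,1)
              exfalso; omega
          · -- 13=(1,1)
            have d23 := two_pair T (by norm_num : 2 < 4) ((pairEmb 2 3 (by decide)).trans v) (fun _ => hv _)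
            change (N T v 2 3 = 0 ∧ N T v 3 2 = 0) ∨ (N T v 2 3 = 1 ∧ N T v 3 2 = 1) ∨ (N T v 2 3 = 1 ∧ N T v 3 2 = 2) ∨ (N T v 2 3 = 2 ∧ N T v 3 2 = 1) ∨ (N T v 2 3 = 1 ∧ N T v 3 2 = 3) ∨ (N T v 2 3 = 3 ∧ N T v 3 2 = 1) at d23
            rw [← hx23, ← hx32] at d23
            rcases d23 with ⟨rfl, rfl⟩ | ⟨rfl, rfl⟩ | ⟨rfl, rfl⟩ | ⟨rfl, rfl⟩ | ⟨rfl, rfl⟩ | ⟨rfl, rfl⟩
            · -- 23=(0,0)
              exfalso; omega
            · -- 23=(1,1)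
              exfalso; omega
            · -- 23=(1,2)
              refine ⟨(⟨![0, 1, 3, 2], ![0, 1, 3, 2], by decide, by decide⟩ : Equiv.Perm (Fin 4)), T.m 2, T.w 0, Or.inr (Or.inl ?_)⟩
              show T.m 0 = 2 * T.m 2 ∧ T.m 1 = 2 * T.m 2 ∧ T.m 3 = 2 * T.m 2 ∧ T.m 2 = T.m 2 ∧ T.w 0 = T.w 0 ∧ T.w 1 = 2 * T.w 0 ∧ T.w 3 = 2 * T.w 0 ∧ T.w 2 = 4 * T.w 0 ∧ T.a 0 0 = -2 * T.w 0 ∧ T.a 0 1 = 2 * T.w 0 ∧ T.a 0 3 = 0 ∧ T.a 0 2 = 0 ∧ T.a 1 1 = -4 * T.w 0 ∧ T.a 1 3 = 2 * T.w 0 ∧ T.a 1 2 = 0 ∧ T.a 3 3 = -4 * T.w 0 ∧ T.a 3 2 = 4 * T.w 0 ∧ T.a 2 2 = -8 * T.w 0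
              refine ⟨?_, ?_, ?_, ?_, ?_, ?_, ?_, ?_, ?_, ?_, ?_, ?_, ?_, ?_, ?_, ?_, ?_, ?_⟩ <;> omega
            · -- 23=(2,1)
              refine ⟨(⟨![0, 1, 3, 2], ![0, 1, 3, 2], by decide, by decide⟩ : Equiv.Perm (Fin 4)), T.m 0, T.w 0, Or.inr (Or.inr (Or.inl ?_))⟩
              show T.m 0 = T.m 0 ∧ T.m 1 = T.m 0 ∧ T.m 3 = T.m 0 ∧ T.m 2 = T.m 0 ∧ T.w 0 = T.w 0 ∧ T.w 1 = 2 * T.w 0 ∧ T.w 3 = 2 * T.w 0 ∧ T.w 2 = T.w 0 ∧ T.a 0 0 = -2 * T.w 0 ∧ T.a 0 1 = 2 * T.w 0 ∧ T.a 0 3 = 0 ∧ T.a 0 2 = 0 ∧ T.a 1 1 = -4 * T.w 0 ∧ T.a 1 3 = 2 * T.w 0 ∧ T.a 1 2 = 0 ∧ T.a 3 3 = -4 * T.w 0 ∧ T.a 3 2 = 2 * T.w 0 ∧ T.a 2 2 = -2 * T.w 0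
              refine ⟨?_, ?_, ?_, ?_, ?_, ?_, ?_, ?_, ?_, ?_, ?_, ?_, ?_, ?_, ?_, ?_, ?_, ?_⟩ <;> omega
            · -- 23=(1,3)
              exact False.elim (cert_false T ((skipEmb 0).trans v) (by norm_num) (fun _ => hv _) (((((LB_zero T ((skipEmb 0).trans v)).upd 0 2 1 (le_of_eq hx13)).upd 1 2 1 (le_of_eq hx23)).upd 2 0 1 (le_of_eq hx31)).upd 2 1 3 (le_of_eq hx32)) ![1,1,2] (by decide) (by decide) 0 (by decide))
            · -- 23=(3,1)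
              exact False.elim (cert_false T ((skipEmb 0).trans v) (by norm_num) (fun _ => hv _) (((((LB_zero T ((skipEmb 0).trans v)).upd 0 2 1 (le_of_eq hx13)).upd 1 2 3 (le_of_eq hx23)).upd 2 0 1 (le_of_eq hx31)).upd 2 1 1 (le_of_eq hx32)) ![1,3,2] (by decide) (by decide) 0 (by decide))
          · -- 13=(1,2)
            exact False.elim (cert_false T ((skipEmb 2).trans v) (by norm_num) (fun _ => hv _) (((((LB_zero T ((skipEmb 2).trans v)).upd 0 1 2 (le_of_eq hx01)).upd 1 0 1 (le_of_eq hx10)).upd 1 2 1 (le_of_eq hx13)).upd 2 1 2 (le_of_eq hx31)) ![1,1,1] (by decide) (by decide) 0 (by decide))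
          · -- 13=(2,1)
            exact False.elim (cert_false T ((skipEmb 2).trans v) (by norm_num) (fun _ => hv _) (((((LB_zero T ((skipEmb 2).trans v)).upd 0 1 2 (le_of_eq hx01)).upd 1 0 1 (le_of_eq hx10)).upd 1 2 2 (le_of_eq hx13)).upd 2 1 1 (le_of_eq hx31)) ![2,2,1] (by decide) (by decide) 0 (by decide))
          · -- 13=(1,3)
            exact False.elim (cert_false T ((skipEmb 2).trans v) (by norm_num) (fun _ => hv _) (((((LB_zero T ((skipEmb 2).trans v)).upd 0 1 2 (le_of_eq hx01)).upd 1 0 1 (le_of_eq hx10)).upd 1 2 1 (le_of_eq hx13)).upd 2 1 3 (le_of_eq hx31)) ![1,1,1] (by decide) (by decide) 0 (by decide))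
          · -- 13=(3,1)
            exact False.elim (cert_false T ((skipEmb 2).trans v) (by norm_num) (fun _ => hv _) (((((LB_zero T ((skipEmb 2).trans v)).upd 0 1 2 (le_of_eq hx01)).upd 1 0 1 (le_of_eq hx10)).upd 1 2 3 (le_of_eq hx13)).upd 2 1 1 (le_of_eq hx31)) ![1,2,1] (by decide) (by decide) 0 (by decide))
        · -- 03=(1,1)
          have d13 := two_pair T (by norm_num : 2 < 4) ((pairEmb 1 3 (by decide)).trans v) (fun _ => hv _)
          change (N T v 1 3 = 0 ∧ N T v 3 1 = 0) ∨ (N T v 1 3 = 1 ∧ N T v 3 1 = 1) ∨ (N T v 1 3 = 1 ∧ N T v 3 1 = 2) ∨ (N T v 1 3 = 2 ∧ N T v 3 1 = 1) ∨ (N T v 1 3 = 1 ∧ N T v 3 1 = 3) ∨ (N T v 1 3 = 3 ∧ N T v 3 1 = 1) at d13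
          rw [← hx13, ← hx31] at d13
          rcases d13 with ⟨rfl, rfl⟩ | ⟨rfl, rfl⟩ | ⟨rfl, rfl⟩ | ⟨rfl, rfl⟩ | ⟨rfl, rfl⟩ | ⟨rfl, rfl⟩
          · -- 13=(0,0)
            have d23 := two_pair T (by norm_num : 2 < 4) ((pairEmb 2 3 (by decide)).trans v) (fun _ => hv _)
            change (N T v 2 3 = 0 ∧ N T v 3 2 = 0) ∨ (N T v 2 3 = 1 ∧ N T v 3 2 = 1) ∨ (N T v 2 3 = 1 ∧ N T v 3 2 = 2) ∨ (N T v 2 3 = 2 ∧ N T v 3 2 = 1) ∨ (N T v 2 3 = 1 ∧ N T v 3 2 = 3) ∨ (N T v 2 3 = 3 ∧ N T v 3 2 = 1) at d23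
            rw [← hx23, ← hx32] at d23
            rcases d23 with ⟨rfl, rfl⟩ | ⟨rfl, rfl⟩ | ⟨rfl, rfl⟩ | ⟨rfl, rfl⟩ | ⟨rfl, rfl⟩ | ⟨rfl, rfl⟩
            · -- 23=(0,0)
              exfalso; omega
            · -- 23=(1,1)
              exfalso; omega
            · -- 23=(1,2)
              refine ⟨(⟨![1, 0, 3, 2], ![1, 0, 3, 2], by decide, by decide⟩ : Equiv.Perm (Fin 4)), T.m 1, T.w 0, Or.inr (Or.inr (Or.inr (Or.inl ?_)))⟩
              show T.m 1 = T.m 1 ∧ T.m 0 = 2 * T.m 1 ∧ T.m 3 = 2 * T.m 1 ∧ T.m 2 = T.m 1 ∧ T.w 1 = 2 * T.w 0 ∧ T.w 0 = T.w 0 ∧ T.w 3 = T.w 0 ∧ T.w 2 = 2 * T.w 0 ∧ T.a 1 1 = -4 * T.w 0 ∧ T.a 1 0 = 2 * T.w 0 ∧ T.a 1 3 = 0 ∧ T.a 1 2 = 0 ∧ T.a 0 0 = -2 * T.w 0 ∧ T.a 0 3 = T.w 0 ∧ T.a 0 2 = 0 ∧ T.a 3 3 = -2 * T.w 0 ∧ T.a 3 2 = 2 * T.w 0 ∧ T.a 2 2 = -4 * T.w 0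
              refine ⟨?_, ?_, ?_, ?_, ?_, ?_, ?_, ?_, ?_, ?_, ?_, ?_, ?_, ?_, ?_, ?_, ?_, ?_⟩ <;> omega
            · -- 23=(2,1)
              refine ⟨(⟨![2, 3, 0, 1], ![2, 3, 0, 1], by decide, by decide⟩ : Equiv.Perm (Fin 4)), T.m 1, T.w 2, Or.inr (Or.inl ?_)⟩
              show T.m 2 = 2 * T.m 1 ∧ T.m 3 = 2 * T.m 1 ∧ T.m 0 = 2 * T.m 1 ∧ T.m 1 = T.m 1 ∧ T.w 2 = T.w 2 ∧ T.w 3 = 2 * T.w 2 ∧ T.w 0 = 2 * T.w 2 ∧ T.w 1 = 4 * T.w 2 ∧ T.a 2 2 = -2 * T.w 2 ∧ T.a 2 3 = 2 * T.w 2 ∧ T.a 2 0 = 0 ∧ T.a 2 1 = 0 ∧ T.a 3 3 = -4 * T.w 2 ∧ T.a 3 0 = 2 * T.w 2 ∧ T.a 3 1 = 0 ∧ T.a 0 0 = -4 * T.w 2 ∧ T.a 0 1 = 4 * T.w 2 ∧ T.a 1 1 = -8 * T.w 2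
              refine ⟨?_, ?_, ?_, ?_, ?_, ?_, ?_, ?_, ?_, ?_, ?_, ?_, ?_, ?_, ?_, ?_, ?_, ?_⟩ <;> omega
            · -- 23=(1,3)
              exact False.elim (cert_false T ((skipEmb 1).trans v) (by norm_num) (fun _ => hv _) (((((LB_zero T ((skipEmb 1).trans v)).upd 0 2 1 (le_of_eq hx03)).upd 1 2 1 (le_of_eq hx23)).upd 2 0 1 (le_of_eq hx30)).upd 2 1 3 (le_of_eq hx32)) ![1,1,2] (by decide) (by decide) 0 (by decide))
            · -- 23=(3,1)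
              exact False.elim (cert_false T ((skipEmb 1).trans v) (by norm_num) (fun _ => hv _) (((((LB_zero T ((skipEmb 1).trans v)).upd 0 2 1 (le_of_eq hx03)).upd 1 2 3 (le_of_eq hx23)).upd 2 0 1 (le_of_eq hx30)).upd 2 1 1 (le_of_eq hx32)) ![1,3,2] (by decide) (by decide) 0 (by decide))
          · -- 13=(1,1)
            exact False.elim (cert_false T ((skipEmb 2).trans v) (by norm_num) (fun _ => hv _) (((((((LB_zero T ((skipEmb 2).trans v)).upd 0 1 2 (le_of_eq hx01)).upd 0 2 1 (le_of_eq hx03)).upd 1 0 1 (le_of_eq hx10)).upd 1 2 1 (le_of_eq hx13)).upd 2 0 1 (le_of_eq hx30)).upd 2 1 1 (le_of_eq hx31)) ![1,1,1] (by decide) (by decide) 0 (by decide))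
          · -- 13=(1,2)
            exact False.elim (cert_false T ((skipEmb 2).trans v) (by norm_num) (fun _ => hv _) (((((((LB_zero T ((skipEmb 2).trans v)).upd 0 1 2 (le_of_eq hx01)).upd 0 2 1 (le_of_eq hx03)).upd 1 0 1 (le_of_eq hx10)).upd 1 2 1 (le_of_eq hx13)).upd 2 0 1 (le_of_eq hx30)).upd 2 1 2 (le_of_eq hx31)) ![1,1,1] (by decide) (by decide) 0 (by decide))
          · -- 13=(2,1)
            exact False.elim (cert_false T ((skipEmb 2).trans v) (by norm_num) (fun _ => hv _) (((((((LB_zero T ((skipEmb 2).trans v)).upd 0 1 2 (le_of_eq hx01)).upd 0 2 1 (le_of_eq hx03)).upd 1 0 1 (le_of_eq hx10)).upd 1 2 2 (le_of_eq hx13)).upd 2 0 1 (le_of_eq hx30)).upd 2 1 1 (le_of_eq hx31)) ![1,1,1] (by decide) (by decide) 0 (by decide))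
          · -- 13=(1,3)
            exact False.elim (cert_false T ((skipEmb 2).trans v) (by norm_num) (fun _ => hv _) (((((((LB_zero T ((skipEmb 2).trans v)).upd 0 1 2 (le_of_eq hx01)).upd 0 2 1 (le_of_eq hx03)).upd 1 0 1 (le_of_eq hx10)).upd 1 2 1 (le_of_eq hx13)).upd 2 0 1 (le_of_eq hx30)).upd 2 1 3 (le_of_eq hx31)) ![1,1,1] (by decide) (by decide) 0 (by decide))
          · -- 13=(3,1)
            exact False.elim (cert_false T ((skipEmb 2).trans v) (by norm_num) (fun _ => hv _) (((((((LB_zero T ((skipEmb 2).trans v)).upd 0 1 2 (le_of_eq hx01)).upd 0 2 1 (le_of_eq hx03)).upd 1 0 1 (le_of_eq hx10)).upd 1 2 3 (le_of_eq hx13)).upd 2 0 1 (le_of_eq hx30)).upd 2 1 1 (le_of_eq hx31)) ![1,1,1] (by decide) (by decide) 0 (by decide))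
        · -- 03=(1,2)
          exact False.elim (cert_false T ((skipEmb 2).trans v) (by norm_num) (fun _ => hv _) (((((LB_zero T ((skipEmb 2).trans v)).upd 0 1 2 (le_of_eq hx01)).upd 0 2 1 (le_of_eq hx03)).upd 1 0 1 (le_of_eq hx10)).upd 2 0 2 (le_of_eq hx30)) ![2,1,2] (by decide) (by decide) 0 (by decide))
        · -- 03=(2,1)
          exact False.elim (cert_false T ((skipEmb 2).trans v) (by norm_num) (fun _ => hv _) (((((LB_zero T ((skipEmb 2).trans v)).upd 0 1 2 (le_of_eq hx01)).upd 0 2 2 (le_of_eq hx03)).upd 1 0 1 (le_of_eq hx10)).upd 2 0 1 (le_of_eq hx30)) ![2,1,1] (by decide) (by decide) 0 (by decide))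
        · -- 03=(1,3)
          exact False.elim (cert_false T ((skipEmb 2).trans v) (by norm_num) (fun _ => hv _) (((((LB_zero T ((skipEmb 2).trans v)).upd 0 1 2 (le_of_eq hx01)).upd 0 2 1 (le_of_eq hx03)).upd 1 0 1 (le_of_eq hx10)).upd 2 0 3 (le_of_eq hx30)) ![2,1,2] (by decide) (by decide) 0 (by decide))
        · -- 03=(3,1)
          exact False.elim (cert_false T ((skipEmb 2).trans v) (by norm_num) (fun _ => hv _) (((((LB_zero T ((skipEmb 2).trans v)).upd 0 1 2 (le_of_eq hx01)).upd 0 2 3 (le_of_eq hx03)).upd 1 0 1 (le_of_eq hx10)).upd 2 0 1 (le_of_eq hx30)) ![2,1,1] (by decide) (by decide) 0 (by decide))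
      · -- 12=(1,1)
        have d03 := two_pair T (by norm_num : 2 < 4) ((pairEmb 0 3 (by decide)).trans v) (fun _ => hv _)
        change (N T v 0 3 = 0 ∧ N T v 3 0 = 0) ∨ (N T v 0 3 = 1 ∧ N T v 3 0 = 1) ∨ (N T v 0 3 = 1 ∧ N T v 3 0 = 2) ∨ (N T v 0 3 = 2 ∧ N T v 3 0 = 1) ∨ (N T v 0 3 = 1 ∧ N T v 3 0 = 3) ∨ (N T v 0 3 = 3 ∧ N T v 3 0 = 1) at d03
        rw [← hx03, ← hx30] at d03
        rcases d03 with ⟨rfl, rfl⟩ | ⟨rfl, rfl⟩ | ⟨rfl, rfl⟩ | ⟨rfl, rfl⟩ | ⟨rfl, rfl⟩ | ⟨rfl, rfl⟩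
        · -- 03=(0,0)
          have d13 := two_pair T (by norm_num : 2 < 4) ((pairEmb 1 3 (by decide)).trans v) (fun _ => hv _)
          change (N T v 1 3 = 0 ∧ N T v 3 1 = 0) ∨ (N T v 1 3 = 1 ∧ N T v 3 1 = 1) ∨ (N T v 1 3 = 1 ∧ N T v 3 1 = 2) ∨ (N T v 1 3 = 2 ∧ N T v 3 1 = 1) ∨ (N T v 1 3 = 1 ∧ N T v 3 1 = 3) ∨ (N T v 1 3 = 3 ∧ N T v 3 1 = 1) at d13
          rw [← hx13, ← hx31] at d13
          rcases d13 with ⟨rfl, rfl⟩ | ⟨rfl, rfl⟩ | ⟨rfl, rfl⟩ | ⟨rfl, rfl⟩ | ⟨rfl, rfl⟩ | ⟨rfl, rfl⟩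
          · -- 13=(0,0)
            have d23 := two_pair T (by norm_num : 2 < 4) ((pairEmb 2 3 (by decide)).trans v) (fun _ => hv _)
            change (N T v 2 3 = 0 ∧ N T v 3 2 = 0) ∨ (N T v 2 3 = 1 ∧ N T v 3 2 = 1) ∨ (N T v 2 3 = 1 ∧ N T v 3 2 = 2) ∨ (N T v 2 3 = 2 ∧ N T v 3 2 = 1) ∨ (N T v 2 3 = 1 ∧ N T v 3 2 = 3) ∨ (N T v 2 3 = 3 ∧ N T v 3 2 = 1) at d23
            rw [← hx23, ← hx32] at d23
            rcases d23 with ⟨rfl, rfl⟩ | ⟨rfl, rfl⟩ | ⟨rfl, rfl⟩ | ⟨rfl, rfl⟩ | ⟨rfl, rfl⟩ | ⟨rfl, rfl⟩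
            · -- 23=(0,0)
              exfalso; omega
            · -- 23=(1,1)
              exfalso; omega
            · -- 23=(1,2)
              refine ⟨(⟨![0, 1, 2, 3], ![0, 1, 2, 3], by decide, by decide⟩ : Equiv.Perm (Fin 4)), T.m 0, T.w 0, Or.inr (Or.inr (Or.inl ?_))⟩
              show T.m 0 = T.m 0 ∧ T.m 1 = T.m 0 ∧ T.m 2 = T.m 0 ∧ T.m 3 = T.m 0 ∧ T.w 0 = T.w 0 ∧ T.w 1 = 2 * T.w 0 ∧ T.w 2 = 2 * T.w 0 ∧ T.w 3 = T.w 0 ∧ T.a 0 0 = -2 * T.w 0 ∧ T.a 0 1 = 2 * T.w 0 ∧ T.a 0 2 = 0 ∧ T.a 0 3 = 0 ∧ T.a 1 1 = -4 * T.w 0 ∧ T.a 1 2 = 2 * T.w 0 ∧ T.a 1 3 = 0 ∧ T.a 2 2 = -4 * T.w 0 ∧ T.a 2 3 = 2 * T.w 0 ∧ T.a 3 3 = -2 * T.w 0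
              refine ⟨?_, ?_, ?_, ?_, ?_, ?_, ?_, ?_, ?_, ?_, ?_, ?_, ?_, ?_, ?_, ?_, ?_, ?_⟩ <;> omega
            · -- 23=(2,1)
              refine ⟨(⟨![0, 1, 2, 3], ![0, 1, 2, 3], by decide, by decide⟩ : Equiv.Perm (Fin 4)), T.m 3, T.w 0, Or.inr (Or.inl ?_)⟩
              show T.m 0 = 2 * T.m 3 ∧ T.m 1 = 2 * T.m 3 ∧ T.m 2 = 2 * T.m 3 ∧ T.m 3 = T.m 3 ∧ T.w 0 = T.w 0 ∧ T.w 1 = 2 * T.w 0 ∧ T.w 2 = 2 * T.w 0 ∧ T.w 3 = 4 * T.w 0 ∧ T.a 0 0 = -2 * T.w 0 ∧ T.a 0 1 = 2 * T.w 0 ∧ T.a 0 2 = 0 ∧ T.a 0 3 = 0 ∧ T.a 1 1 = -4 * T.w 0 ∧ T.a 1 2 = 2 * T.w 0 ∧ T.a 1 3 = 0 ∧ T.a 2 2 = -4 * T.w 0 ∧ T.a 2 3 = 4 * T.w 0 ∧ T.a 3 3 = -8 * T.w 0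
              refine ⟨?_, ?_, ?_, ?_, ?_, ?_, ?_, ?_, ?_, ?_, ?_, ?_, ?_, ?_, ?_, ?_, ?_, ?_⟩ <;> omega
            · -- 23=(1,3)
              exact False.elim (cert_false T ((skipEmb 0).trans v) (by norm_num) (fun _ => hv _) (((((LB_zero T ((skipEmb 0).trans v)).upd 0 1 1 (le_of_eq hx12)).upd 1 0 1 (le_of_eq hx21)).upd 1 2 1 (le_of_eq hx23)).upd 2 1 3 (le_of_eq hx32)) ![1,2,3] (by decide) (by decide) 0 (by decide))
            · -- 23=(3,1)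
              exact False.elim (cert_false T ((skipEmb 0).trans v) (by norm_num) (fun _ => hv _) (((((LB_zero T ((skipEmb 0).trans v)).upd 0 1 1 (le_of_eq hx12)).upd 1 0 1 (le_of_eq hx21)).upd 1 2 3 (le_of_eq hx23)).upd 2 1 1 (le_of_eq hx32)) ![1,2,1] (by decide) (by decide) 0 (by decide))
          · -- 13=(1,1)
            have d23 := two_pair T (by norm_num : 2 < 4) ((pairEmb 2 3 (by decide)).trans v) (fun _ => hv _)
            change (N T v 2 3 = 0 ∧ N T v 3 2 = 0) ∨ (N T v 2 3 = 1 ∧ N T v 3 2 = 1) ∨ (N T v 2 3 = 1 ∧ N T v 3 2 = 2) ∨ (N T v 2 3 = 2 ∧ N T v 3 2 = 1) ∨ (N T v 2 3 = 1 ∧ N T v 3 2 = 3) ∨ (N T v 2 3 = 3 ∧ N T v 3 2 = 1) at d23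
            rw [← hx23, ← hx32] at d23
            rcases d23 with ⟨rfl, rfl⟩ | ⟨rfl, rfl⟩ | ⟨rfl, rfl⟩ | ⟨rfl, rfl⟩ | ⟨rfl, rfl⟩ | ⟨rfl, rfl⟩
            · -- 23=(0,0)
              refine ⟨(⟨![1, 2, 3, 0], ![3, 0, 1, 2], by decide, by decide⟩ : Equiv.Perm (Fin 4)), T.m 2, T.w 0, Or.inr (Or.inr (Or.inr (Or.inr (Or.inr (?_)))))⟩
              show T.m 1 = 2 * T.m 2 ∧ T.m 2 = T.m 2 ∧ T.m 3 = T.m 2 ∧ T.m 0 = 2 * T.m 2 ∧ T.w 1 = 2 * T.w 0 ∧ T.w 2 = 2 * T.w 0 ∧ T.w 3 = 2 * T.w 0 ∧ T.w 0 = T.w 0 ∧ T.a 1 1 = -4 * T.w 0 ∧ T.a 1 2 = 2 * T.w 0 ∧ T.a 1 3 = 2 * T.w 0 ∧ T.a 1 0 = 2 * T.w 0 ∧ T.a 2 2 = -4 * T.w 0 ∧ T.a 2 3 = 0 ∧ T.a 2 0 = 0 ∧ T.a 3 3 = -4 * T.w 0 ∧ T.a 3 0 = 0 ∧ T.a 0 0 = -2 * T.w 0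
              refine ⟨?_, ?_, ?_, ?_, ?_, ?_, ?_, ?_, ?_, ?_, ?_, ?_, ?_, ?_, ?_, ?_, ?_, ?_⟩ <;> omega
            · -- 23=(1,1)
              exact False.elim (cert_false T ((skipEmb 0).trans v) (by norm_num) (fun _ => hv _) (((((((LB_zero T ((skipEmb 0).trans v)).upd 0 1 1 (le_of_eq hx12)).upd 0 2 1 (le_of_eq hx13)).upd 1 0 1 (le_of_eq hx21)).upd 1 2 1 (le_of_eq hx23)).upd 2 0 1 (le_of_eq hx31)).upd 2 1 1 (le_of_eq hx32)) ![1,1,1] (by decide) (by decide) 0 (by decide))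
            · -- 23=(1,2)
              exact False.elim (cert_false T ((skipEmb 0).trans v) (by norm_num) (fun _ => hv _) (((((((LB_zero T ((skipEmb 0).trans v)).upd 0 1 1 (le_of_eq hx12)).upd 0 2 1 (le_of_eq hx13)).upd 1 0 1 (le_of_eq hx21)).upd 1 2 1 (le_of_eq hx23)).upd 2 0 1 (le_of_eq hx31)).upd 2 1 2 (le_of_eq hx32)) ![1,1,1] (by decide) (by decide) 0 (by decide))
            · -- 23=(2,1)
              exact False.elim (cert_false T ((skipEmb 0).trans v) (by norm_num) (fun _ => hv _) (((((((LB_zero T ((skipEmb 0).trans v)).upd 0 1 1 (le_of_eq hx12)).upd 0 2 1 (le_of_eq hx13)).upd 1 0 1 (le_of_eq hx21)).upd 1 2 2 (le_of_eq hx23)).upd 2 0 1 (le_of_eq hx31)).upd 2 1 1 (le_of_eq hx32)) ![1,1,1] (by decide) (by decide) 0 (by decide))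
            · -- 23=(1,3)
              exact False.elim (cert_false T ((skipEmb 0).trans v) (by norm_num) (fun _ => hv _) (((((((LB_zero T ((skipEmb 0).trans v)).upd 0 1 1 (le_of_eq hx12)).upd 0 2 1 (le_of_eq hx13)).upd 1 0 1 (le_of_eq hx21)).upd 1 2 1 (le_of_eq hx23)).upd 2 0 1 (le_of_eq hx31)).upd 2 1 3 (le_of_eq hx32)) ![1,1,1] (by decide) (by decide) 0 (by decide))
            · -- 23=(3,1)
              exact False.elim (cert_false T ((skipEmb 0).trans v) (by norm_num) (fun _ => hv _) (((((((LB_zero T ((skipEmb 0).trans v)).upd 0 1 1 (le_of_eq hx12)).upd 0 2 1 (le_of_eq hx13)).upd 1 0 1 (le_of_eq hx21)).upd 1 2 3 (le_of_eq hx23)).upd 2 0 1 (le_of_eq hx31)).upd 2 1 1 (le_of_eq hx32)) ![1,1,1] (by decide) (by decide) 0 (by decide))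
          · -- 13=(1,2)
            exact False.elim (cert_false T ((skipEmb 2).trans v) (by norm_num) (fun _ => hv _) (((((LB_zero T ((skipEmb 2).trans v)).upd 0 1 2 (le_of_eq hx01)).upd 1 0 1 (le_of_eq hx10)).upd 1 2 1 (le_of_eq hx13)).upd 2 1 2 (le_of_eq hx31)) ![1,1,1] (by decide) (by decide) 0 (by decide))
          · -- 13=(2,1)
            exact False.elim (cert_false T ((skipEmb 2).trans v) (by norm_num) (fun _ => hv _) (((((LB_zero T ((skipEmb 2).trans v)).upd 0 1 2 (le_of_eq hx01)).upd 1 0 1 (le_of_eq hx10)).upd 1 2 2 (le_of_eq hx13)).upd 2 1 1 (le_of_eq hx31)) ![2,2,1] (by decide) (by decide) 0 (by decide))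
          · -- 13=(1,3)
            exact False.elim (cert_false T ((skipEmb 2).trans v) (by norm_num) (fun _ => hv _) (((((LB_zero T ((skipEmb 2).trans v)).upd 0 1 2 (le_of_eq hx01)).upd 1 0 1 (le_of_eq hx10)).upd 1 2 1 (le_of_eq hx13)).upd 2 1 3 (le_of_eq hx31)) ![1,1,1] (by decide) (by decide) 0 (by decide))
          · -- 13=(3,1)
            exact False.elim (cert_false T ((skipEmb 2).trans v) (by norm_num) (fun _ => hv _) (((((LB_zero T ((skipEmb 2).trans v)).upd 0 1 2 (le_of_eq hx01)).upd 1 0 1 (le_of_eq hx10)).upd 1 2 3 (le_of_eq hx13)).upd 2 1 1 (le_of_eq hx31)) ![1,2,1] (by decide) (by decide) 0 (by decide))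
        · -- 03=(1,1)
          have d13 := two_pair T (by norm_num : 2 < 4) ((pairEmb 1 3 (by decide)).trans v) (fun _ => hv _)
          change (N T v 1 3 = 0 ∧ N T v 3 1 = 0) ∨ (N T v 1 3 = 1 ∧ N T v 3 1 = 1) ∨ (N T v 1 3 = 1 ∧ N T v 3 1 = 2) ∨ (N T v 1 3 = 2 ∧ N T v 3 1 = 1) ∨ (N T v 1 3 = 1 ∧ N T v 3 1 = 3) ∨ (N T v 1 3 = 3 ∧ N T v 3 1 = 1) at d13
          rw [← hx13, ← hx31] at d13
          rcases d13 with ⟨rfl, rfl⟩ | ⟨rfl, rfl⟩ | ⟨rfl, rfl⟩ | ⟨rfl, rfl⟩ | ⟨rfl, rfl⟩ | ⟨rfl, rfl⟩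
          · -- 13=(0,0)
            have d23 := two_pair T (by norm_num : 2 < 4) ((pairEmb 2 3 (by decide)).trans v) (fun _ => hv _)
            change (N T v 2 3 = 0 ∧ N T v 3 2 = 0) ∨ (N T v 2 3 = 1 ∧ N T v 3 2 = 1) ∨ (N T v 2 3 = 1 ∧ N T v 3 2 = 2) ∨ (N T v 2 3 = 2 ∧ N T v 3 2 = 1) ∨ (N T v 2 3 = 1 ∧ N T v 3 2 = 3) ∨ (N T v 2 3 = 3 ∧ N T v 3 2 = 1) at d23
            rw [← hx23, ← hx32] at d23
            rcases d23 with ⟨rfl, rfl⟩ | ⟨rfl, rfl⟩ | ⟨rfl, rfl⟩ | ⟨rfl, rfl⟩ | ⟨rfl, rfl⟩ | ⟨rfl, rfl⟩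
            · -- 23=(0,0)
              exfalso; omega
            · -- 23=(1,1)
              exfalso; omega
            · -- 23=(1,2)
              exfalso; omega
            · -- 23=(2,1)
              exfalso; omega
            · -- 23=(1,3)
              exact False.elim (cert_false T ((skipEmb 1).trans v) (by norm_num) (fun _ => hv _) (((((LB_zero T ((skipEmb 1).trans v)).upd 0 2 1 (le_of_eq hx03)).upd 1 2 1 (le_of_eq hx23)).upd 2 0 1 (le_of_eq hx30)).upd 2 1 3 (le_of_eq hx32)) ![1,1,2] (by decide) (by decide) 0 (by decide))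
            · -- 23=(3,1)
              exact False.elim (cert_false T ((skipEmb 1).trans v) (by norm_num) (fun _ => hv _) (((((LB_zero T ((skipEmb 1).trans v)).upd 0 2 1 (le_of_eq hx03)).upd 1 2 3 (le_of_eq hx23)).upd 2 0 1 (le_of_eq hx30)).upd 2 1 1 (le_of_eq hx32)) ![1,3,2] (by decide) (by decide) 0 (by decide))
          · -- 13=(1,1)
            exact False.elim (cert_false T ((skipEmb 2).trans v) (by norm_num) (fun _ => hv _) (((((((LB_zero T ((skipEmb 2).trans v)).upd 0 1 2 (le_of_eq hx01)).upd 0 2 1 (le_of_eq hx03)).upd 1 0 1 (le_of_eq hx10)).upd 1 2 1 (le_of_eq hx13)).upd 2 0 1 (le_of_eq hx30)).upd 2 1 1 (le_of_eq hx31)) ![1,1,1] (by decide) (by decide) 0 (by decide))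
          · -- 13=(1,2)
            exact False.elim (cert_false T ((skipEmb 2).trans v) (by norm_num) (fun _ => hv _) (((((((LB_zero T ((skipEmb 2).trans v)).upd 0 1 2 (le_of_eq hx01)).upd 0 2 1 (le_of_eq hx03)).upd 1 0 1 (le_of_eq hx10)).upd 1 2 1 (le_of_eq hx13)).upd 2 0 1 (le_of_eq hx30)).upd 2 1 2 (le_of_eq hx31)) ![1,1,1] (by decide) (by decide) 0 (by decide))
          · -- 13=(2,1)
            exact False.elim (cert_false T ((skipEmb 2).trans v) (by norm_num) (fun _ => hv _) (((((((LB_zero T ((skipEmb 2).trans v)).upd 0 1 2 (le_of_eq hx01)).upd 0 2 1 (le_of_eq hx03)).upd 1 0 1 (le_of_eq hx10)).upd 1 2 2 (le_of_eq hx13)).upd 2 0 1 (le_of_eq hx30)).upd 2 1 1 (le_of_eq hx31)) ![1,1,1] (by decide) (by decide) 0 (by decide))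
          · -- 13=(1,3)
            exact False.elim (cert_false T ((skipEmb 2).trans v) (by norm_num) (fun _ => hv _) (((((((LB_zero T ((skipEmb 2).trans v)).upd 0 1 2 (le_of_eq hx01)).upd 0 2 1 (le_of_eq hx03)).upd 1 0 1 (le_of_eq hx10)).upd 1 2 1 (le_of_eq hx13)).upd 2 0 1 (le_of_eq hx30)).upd 2 1 3 (le_of_eq hx31)) ![1,1,1] (by decide) (by decide) 0 (by decide))
          · -- 13=(3,1)
            exact False.elim (cert_false T ((skipEmb 2).trans v) (by norm_num) (fun _ => hv _) (((((((LB_zero T ((skipEmb 2).trans v)).upd 0 1 2 (le_of_eq hx01)).upd 0 2 1 (le_of_eq hx03)).upd 1 0 1 (le_of_eq hx10)).upd 1 2 3 (le_of_eq hx13)).upd 2 0 1 (le_of_eq hx30)).upd 2 1 1 (le_of_eq hx31)) ![1,1,1] (by decide) (by decide) 0 (by decide))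
        · -- 03=(1,2)
          exact False.elim (cert_false T ((skipEmb 2).trans v) (by norm_num) (fun _ => hv _) (((((LB_zero T ((skipEmb 2).trans v)).upd 0 1 2 (le_of_eq hx01)).upd 0 2 1 (le_of_eq hx03)).upd 1 0 1 (le_of_eq hx10)).upd 2 0 2 (le_of_eq hx30)) ![2,1,2] (by decide) (by decide) 0 (by decide))
        · -- 03=(2,1)
          exact False.elim (cert_false T ((skipEmb 2).trans v) (by norm_num) (fun _ => hv _) (((((LB_zero T ((skipEmb 2).trans v)).upd 0 1 2 (le_of_eq hx01)).upd 0 2 2 (le_of_eq hx03)).upd 1 0 1 (le_of_eq hx10)).upd 2 0 1 (le_of_eq hx30)) ![2,1,1] (by decide) (by decide) 0 (by decide))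
        · -- 03=(1,3)
          exact False.elim (cert_false T ((skipEmb 2).trans v) (by norm_num) (fun _ => hv _) (((((LB_zero T ((skipEmb 2).trans v)).upd 0 1 2 (le_of_eq hx01)).upd 0 2 1 (le_of_eq hx03)).upd 1 0 1 (le_of_eq hx10)).upd 2 0 3 (le_of_eq hx30)) ![2,1,2] (by decide) (by decide) 0 (by decide))
        · -- 03=(3,1)
          exact False.elim (cert_false T ((skipEmb 2).trans v) (by norm_num) (fun _ => hv _) (((((LB_zero T ((skipEmb 2).trans v)).upd 0 1 2 (le_of_eq hx01)).upd 0 2 3 (le_of_eq hx03)).upd 1 0 1 (le_of_eq hx10)).upd 2 0 1 (le_of_eq hx30)) ![2,1,1] (by decide) (by decide) 0 (by decide))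
      · -- 12=(1,2)
        exact False.elim (cert_false T ((skipEmb 3).trans v) (by norm_num) (fun _ => hv _) (((((LB_zero T ((skipEmb 3).trans v)).upd 0 1 2 (le_of_eq hx01)).upd 1 0 1 (le_of_eq hx10)).upd 1 2 1 (le_of_eq hx12)).upd 2 1 2 (le_of_eq hx21)) ![1,1,1] (by decide) (by decide) 0 (by decide))
      · -- 12=(2,1)
        exact False.elim (cert_false T ((skipEmb 3).trans v) (by norm_num) (fun _ => hv _) (((((LB_zero T ((skipEmb 3).trans v)).upd 0 1 2 (le_of_eq hx01)).upd 1 0 1 (le_of_eq hx10)).upd 1 2 2 (le_of_eq hx12)).upd 2 1 1 (le_of_eq hx21)) ![2,2,1] (by decide) (by decide) 0 (by decide))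
      · -- 12=(1,3)
        exact False.elim (cert_false T ((skipEmb 3).trans v) (by norm_num) (fun _ => hv _) (((((LB_zero T ((skipEmb 3).trans v)).upd 0 1 2 (le_of_eq hx01)).upd 1 0 1 (le_of_eq hx10)).upd 1 2 1 (le_of_eq hx12)).upd 2 1 3 (le_of_eq hx21)) ![1,1,1] (by decide) (by decide) 0 (by decide))
      · -- 12=(3,1)
        exact False.elim (cert_false T ((skipEmb 3).trans v) (by norm_num) (fun _ => hv _) (((((LB_zero T ((skipEmb 3).trans v)).upd 0 1 2 (le_of_eq hx01)).upd 1 0 1 (le_of_eq hx10)).upd 1 2 3 (le_of_eq hx12)).upd 2 1 1 (le_of_eq hx21)) ![1,2,1] (by decide) (by decide) 0 (by decide))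
    · -- 02=(1,1)
      have d12 := two_pair T (by norm_num : 2 < 4) ((pairEmb 1 2 (by decide)).trans v) (fun _ => hv _)
      change (N T v 1 2 = 0 ∧ N T v 2 1 = 0) ∨ (N T v 1 2 = 1 ∧ N T v 2 1 = 1) ∨ (N T v 1 2 = 1 ∧ N T v 2 1 = 2) ∨ (N T v 1 2 = 2 ∧ N T v 2 1 = 1) ∨ (N T v 1 2 = 1 ∧ N T v 2 1 = 3) ∨ (N T v 1 2 = 3 ∧ N T v 2 1 = 1) at d12
      rw [← hx12, ← hx21] at d12
      rcases d12 with ⟨rfl, rfl⟩ | ⟨rfl, rfl⟩ | ⟨rfl, rfl⟩ | ⟨rfl, rfl⟩ | ⟨rfl, rfl⟩ | ⟨rfl, rfl⟩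
      · -- 12=(0,0)
        have d03 := two_pair T (by norm_num : 2 < 4) ((pairEmb 0 3 (by decide)).trans v) (fun _ => hv _)
        change (N T v 0 3 = 0 ∧ N T v 3 0 = 0) ∨ (N T v 0 3 = 1 ∧ N T v 3 0 = 1) ∨ (N T v 0 3 = 1 ∧ N T v 3 0 = 2) ∨ (N T v 0 3 = 2 ∧ N T v 3 0 = 1) ∨ (N T v 0 3 = 1 ∧ N T v 3 0 = 3) ∨ (N T v 0 3 = 3 ∧ N T v 3 0 = 1) at d03
        rw [← hx03, ← hx30] at d03
        rcases d03 with ⟨rfl, rfl⟩ | ⟨rfl, rfl⟩ | ⟨rfl, rfl⟩ | ⟨rfl, rfl⟩ | ⟨rfl, rfl⟩ | ⟨rfl, rfl⟩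
        · -- 03=(0,0)
          have d13 := two_pair T (by norm_num : 2 < 4) ((pairEmb 1 3 (by decide)).trans v) (fun _ => hv _)
          change (N T v 1 3 = 0 ∧ N T v 3 1 = 0) ∨ (N T v 1 3 = 1 ∧ N T v 3 1 = 1) ∨ (N T v 1 3 = 1 ∧ N T v 3 1 = 2) ∨ (N T v 1 3 = 2 ∧ N T v 3 1 = 1) ∨ (N T v 1 3 = 1 ∧ N T v 3 1 = 3) ∨ (N T v 1 3 = 3 ∧ N T v 3 1 = 1) at d13
          rw [← hx13, ← hx31] at d13
          rcases d13 with ⟨rfl, rfl⟩ | ⟨rfl, rfl⟩ | ⟨rfl, rfl⟩ | ⟨rfl, rfl⟩ | ⟨rfl, rfl⟩ | ⟨rfl, rfl⟩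
          · -- 13=(0,0)
            have d23 := two_pair T (by norm_num : 2 < 4) ((pairEmb 2 3 (by decide)).trans v) (fun _ => hv _)
            change (N T v 2 3 = 0 ∧ N T v 3 2 = 0) ∨ (N T v 2 3 = 1 ∧ N T v 3 2 = 1) ∨ (N T v 2 3 = 1 ∧ N T v 3 2 = 2) ∨ (N T v 2 3 = 2 ∧ N T v 3 2 = 1) ∨ (N T v 2 3 = 1 ∧ N T v 3 2 = 3) ∨ (N T v 2 3 = 3 ∧ N T v 3 2 = 1) at d23
            rw [← hx23, ← hx32] at d23
            rcases d23 with ⟨rfl, rfl⟩ | ⟨rfl, rfl⟩ | ⟨rfl, rfl⟩ | ⟨rfl, rfl⟩ | ⟨rfl, rfl⟩ | ⟨rfl, rfl⟩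
            · -- 23=(0,0)
              exfalso; omega
            · -- 23=(1,1)
              exfalso; omega
            · -- 23=(1,2)
              refine ⟨(⟨![3, 2, 0, 1], ![2, 3, 1, 0], by decide, by decide⟩ : Equiv.Perm (Fin 4)), T.m 1, T.w 3, Or.inr (Or.inl ?_)⟩
              show T.m 3 = 2 * T.m 1 ∧ T.m 2 = 2 * T.m 1 ∧ T.m 0 = 2 * T.m 1 ∧ T.m 1 = T.m 1 ∧ T.w 3 = T.w 3 ∧ T.w 2 = 2 * T.w 3 ∧ T.w 0 = 2 * T.w 3 ∧ T.w 1 = 4 * T.w 3 ∧ T.a 3 3 = -2 * T.w 3 ∧ T.a 3 2 = 2 * T.w 3 ∧ T.a 3 0 = 0 ∧ T.a 3 1 = 0 ∧ T.a 2 2 = -4 * T.w 3 ∧ T.a 2 0 = 2 * T.w 3 ∧ T.a 2 1 = 0 ∧ T.a 0 0 = -4 * T.w 3 ∧ T.a 0 1 = 4 * T.w 3 ∧ T.a 1 1 = -8 * T.w 3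
              refine ⟨?_, ?_, ?_, ?_, ?_, ?_, ?_, ?_, ?_, ?_, ?_, ?_, ?_, ?_, ?_, ?_, ?_, ?_⟩ <;> omega
            · -- 23=(2,1)
              refine ⟨(⟨![1, 0, 2, 3], ![1, 0, 2, 3], by decide, by decide⟩ : Equiv.Perm (Fin 4)), T.m 1, T.w 0, Or.inr (Or.inr (Or.inr (Or.inl ?_)))⟩
              show T.m 1 = T.m 1 ∧ T.m 0 = 2 * T.m 1 ∧ T.m 2 = 2 * T.m 1 ∧ T.m 3 = T.m 1 ∧ T.w 1 = 2 * T.w 0 ∧ T.w 0 = T.w 0 ∧ T.w 2 = T.w 0 ∧ T.w 3 = 2 * T.w 0 ∧ T.a 1 1 = -4 * T.w 0 ∧ T.a 1 0 = 2 * T.w 0 ∧ T.a 1 2 = 0 ∧ T.a 1 3 = 0 ∧ T.a 0 0 = -2 * T.w 0 ∧ T.a 0 2 = T.w 0 ∧ T.a 0 3 = 0 ∧ T.a 2 2 = -2 * T.w 0 ∧ T.a 2 3 = 2 * T.w 0 ∧ T.a 3 3 = -4 * T.w 0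
              refine ⟨?_, ?_, ?_, ?_, ?_, ?_, ?_, ?_, ?_, ?_, ?_, ?_, ?_, ?_, ?_, ?_, ?_, ?_⟩ <;> omega
            · -- 23=(1,3)
              exact False.elim (cert_false T ((skipEmb 1).trans v) (by norm_num) (fun _ => hv _) (((((LB_zero T ((skipEmb 1).trans v)).upd 0 1 1 (le_of_eq hx02)).upd 1 0 1 (le_of_eq hx20)).upd 1 2 1 (le_of_eq hx23)).upd 2 1 3 (le_of_eq hx32)) ![1,2,3] (by decide) (by decide) 0 (by decide))
            · -- 23=(3,1)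
              exact False.elim (cert_false T ((skipEmb 1).trans v) (by norm_num) (fun _ => hv _) (((((LB_zero T ((skipEmb 1).trans v)).upd 0 1 1 (le_of_eq hx02)).upd 1 0 1 (le_of_eq hx20)).upd 1 2 3 (le_of_eq hx23)).upd 2 1 1 (le_of_eq hx32)) ![1,2,1] (by decide) (by decide) 0 (by decide))
          · -- 13=(1,1)
            have d23 := two_pair T (by norm_num : 2 < 4) ((pairEmb 2 3 (by decide)).trans v) (fun _ => hv _)
            change (N T v 2 3 = 0 ∧ N T v 3 2 = 0) ∨ (N T v 2 3 = 1 ∧ N T v 3 2 = 1) ∨ (N T v 2 3 = 1 ∧ N T v 3 2 = 2) ∨ (N T v 2 3 = 2 ∧ N T v 3 2 = 1) ∨ (N T v 2 3 = 1 ∧ N T v 3 2 = 3) ∨ (N T v 2 3 = 3 ∧ N T v 3 2 = 1) at d23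
            rw [← hx23, ← hx32] at d23
            rcases d23 with ⟨rfl, rfl⟩ | ⟨rfl, rfl⟩ | ⟨rfl, rfl⟩ | ⟨rfl, rfl⟩ | ⟨rfl, rfl⟩ | ⟨rfl, rfl⟩
            · -- 23=(0,0)
              exfalso; omega
            · -- 23=(1,1)
              exfalso; omega
            · -- 23=(1,2)
              exfalso; omega
            · -- 23=(2,1)
              exfalso; omega
            · -- 23=(1,3)
              exact False.elim (cert_false T ((skipEmb 1).trans v) (by norm_num) (fun _ => hv _) (((((LB_zero T ((skipEmb 1).trans v)).upd 0 1 1 (le_of_eq hx02)).upd 1 0 1 (le_of_eq hx20)).upd 1 2 1 (le_of_eq hx23)).upd 2 1 3 (le_of_eq hx32)) ![1,2,3] (by decide) (by decide) 0 (by decide))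
            · -- 23=(3,1)
              exact False.elim (cert_false T ((skipEmb 1).trans v) (by norm_num) (fun _ => hv _) (((((LB_zero T ((skipEmb 1).trans v)).upd 0 1 1 (le_of_eq hx02)).upd 1 0 1 (le_of_eq hx20)).upd 1 2 3 (le_of_eq hx23)).upd 2 1 1 (le_of_eq hx32)) ![1,2,1] (by decide) (by decide) 0 (by decide))
          · -- 13=(1,2)
            exact False.elim (cert_false T ((skipEmb 2).trans v) (by norm_num) (fun _ => hv _) (((((LB_zero T ((skipEmb 2).trans v)).upd 0 1 2 (le_of_eq hx01)).upd 1 0 1 (le_of_eq hx10)).upd 1 2 1 (le_of_eq hx13)).upd 2 1 2 (le_of_eq hx31)) ![1,1,1] (by decide) (by decide) 0 (by decide))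
          · -- 13=(2,1)
            exact False.elim (cert_false T ((skipEmb 2).trans v) (by norm_num) (fun _ => hv _) (((((LB_zero T ((skipEmb 2).trans v)).upd 0 1 2 (le_of_eq hx01)).upd 1 0 1 (le_of_eq hx10)).upd 1 2 2 (le_of_eq hx13)).upd 2 1 1 (le_of_eq hx31)) ![2,2,1] (by decide) (by decide) 0 (by decide))
          · -- 13=(1,3)
            exact False.elim (cert_false T ((skipEmb 2).trans v) (by norm_num) (fun _ => hv _) (((((LB_zero T ((skipEmb 2).trans v)).upd 0 1 2 (le_of_eq hx01)).upd 1 0 1 (le_of_eq hx10)).upd 1 2 1 (le_of_eq hx13)).upd 2 1 3 (le_of_eq hx31)) ![1,1,1] (by decide) (by decide) 0 (by decide))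
          · -- 13=(3,1)
            exact False.elim (cert_false T ((skipEmb 2).trans v) (by norm_num) (fun _ => hv _) (((((LB_zero T ((skipEmb 2).trans v)).upd 0 1 2 (le_of_eq hx01)).upd 1 0 1 (le_of_eq hx10)).upd 1 2 3 (le_of_eq hx13)).upd 2 1 1 (le_of_eq hx31)) ![1,2,1] (by decide) (by decide) 0 (by decide))
        · -- 03=(1,1)
          have d13 := two_pair T (by norm_num : 2 < 4) ((pairEmb 1 3 (by decide)).trans v) (fun _ => hv _)
          change (N T v 1 3 = 0 ∧ N T v 3 1 = 0) ∨ (N T v 1 3 = 1 ∧ N T v 3 1 = 1) ∨ (N T v 1 3 = 1 ∧ N T v 3 1 = 2) ∨ (N T v 1 3 = 2 ∧ N T v 3 1 = 1) ∨ (N T v 1 3 = 1 ∧ N T v 3 1 = 3) ∨ (N T v 1 3 = 3 ∧ N T v 3 1 = 1) at d13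
          rw [← hx13, ← hx31] at d13
          rcases d13 with ⟨rfl, rfl⟩ | ⟨rfl, rfl⟩ | ⟨rfl, rfl⟩ | ⟨rfl, rfl⟩ | ⟨rfl, rfl⟩ | ⟨rfl, rfl⟩
          · -- 13=(0,0)
            have d23 := two_pair T (by norm_num : 2 < 4) ((pairEmb 2 3 (by decide)).trans v) (fun _ => hv _)
            change (N T v 2 3 = 0 ∧ N T v 3 2 = 0) ∨ (N T v 2 3 = 1 ∧ N T v 3 2 = 1) ∨ (N T v 2 3 = 1 ∧ N T v 3 2 = 2) ∨ (N T v 2 3 = 2 ∧ N T v 3 2 = 1) ∨ (N T v 2 3 = 1 ∧ N T v 3 2 = 3) ∨ (N T v 2 3 = 3 ∧ N T v 3 2 = 1) at d23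
            rw [← hx23, ← hx32] at d23
            rcases d23 with ⟨rfl, rfl⟩ | ⟨rfl, rfl⟩ | ⟨rfl, rfl⟩ | ⟨rfl, rfl⟩ | ⟨rfl, rfl⟩ | ⟨rfl, rfl⟩
            · -- 23=(0,0)
              refine ⟨(⟨![0, 2, 3, 1], ![0, 3, 1, 2], by decide, by decide⟩ : Equiv.Perm (Fin 4)), T.m 2, T.w 0, Or.inr (Or.inr (Or.inr (Or.inr (Or.inl ?_))))⟩
              show T.m 0 = 2 * T.m 2 ∧ T.m 2 = T.m 2 ∧ T.m 3 = T.m 2 ∧ T.m 1 = T.m 2 ∧ T.w 0 = T.w 0 ∧ T.w 2 = T.w 0 ∧ T.w 3 = T.w 0 ∧ T.w 1 = 2 * T.w 0 ∧ T.a 0 0 = -2 * T.w 0 ∧ T.a 0 2 = T.w 0 ∧ T.a 0 3 = T.w 0 ∧ T.a 0 1 = 2 * T.w 0 ∧ T.a 2 2 = -2 * T.w 0 ∧ T.a 2 3 = 0 ∧ T.a 2 1 = 0 ∧ T.a 3 3 = -2 * T.w 0 ∧ T.a 3 1 = 0 ∧ T.a 1 1 = -4 * T.w 0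
              refine ⟨?_, ?_, ?_, ?_, ?_, ?_, ?_, ?_, ?_, ?_, ?_, ?_, ?_, ?_, ?_, ?_, ?_, ?_⟩ <;> omega
            · -- 23=(1,1)
              exact False.elim (cert_false T ((skipEmb 1).trans v) (by norm_num) (fun _ => hv _) (((((((LB_zero T ((skipEmb 1).trans v)).upd 0 1 1 (le_of_eq hx02)).upd 0 2 1 (le_of_eq hx03)).upd 1 0 1 (le_of_eq hx20)).upd 1 2 1 (le_of_eq hx23)).upd 2 0 1 (le_of_eq hx30)).upd 2 1 1 (le_of_eq hx32)) ![1,1,1] (by decide) (by decide) 0 (by decide))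
            · -- 23=(1,2)
              exact False.elim (cert_false T ((skipEmb 1).trans v) (by norm_num) (fun _ => hv _) (((((((LB_zero T ((skipEmb 1).trans v)).upd 0 1 1 (le_of_eq hx02)).upd 0 2 1 (le_of_eq hx03)).upd 1 0 1 (le_of_eq hx20)).upd 1 2 1 (le_of_eq hx23)).upd 2 0 1 (le_of_eq hx30)).upd 2 1 2 (le_of_eq hx32)) ![1,1,1] (by decide) (by decide) 0 (by decide))
            · -- 23=(2,1)
              exact False.elim (cert_false T ((skipEmb 1).trans v) (by norm_num) (fun _ => hv _) (((((((LB_zero T ((skipEmb 1).trans v)).upd 0 1 1 (le_of_eq hx02)).upd 0 2 1 (le_of_eq hx03)).upd 1 0 1 (le_of_eq hx20)).upd 1 2 2 (le_of_eq hx23)).upd 2 0 1 (le_of_eq hx30)).upd 2 1 1 (le_of_eq hx32)) ![1,1,1] (by decide) (by decide) 0 (by decide))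
            · -- 23=(1,3)
              exact False.elim (cert_false T ((skipEmb 1).trans v) (by norm_num) (fun _ => hv _) (((((((LB_zero T ((skipEmb 1).trans v)).upd 0 1 1 (le_of_eq hx02)).upd 0 2 1 (le_of_eq hx03)).upd 1 0 1 (le_of_eq hx20)).upd 1 2 1 (le_of_eq hx23)).upd 2 0 1 (le_of_eq hx30)).upd 2 1 3 (le_of_eq hx32)) ![1,1,1] (by decide) (by decide) 0 (by decide))
            · -- 23=(3,1)
              exact False.elim (cert_false T ((skipEmb 1).trans v) (by norm_num) (fun _ => hv _) (((((((LB_zero T ((skipEmb 1).trans v)).upd 0 1 1 (le_of_eq hx02)).upd 0 2 1 (le_of_eq hx03)).upd 1 0 1 (le_of_eq hx20)).upd 1 2 3 (le_of_eq hx23)).upd 2 0 1 (le_of_eq hx30)).upd 2 1 1 (le_of_eq hx32)) ![1,1,1] (by decide) (by decide) 0 (by decide))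
          · -- 13=(1,1)
            exact False.elim (cert_false T ((skipEmb 2).trans v) (by norm_num) (fun _ => hv _) (((((((LB_zero T ((skipEmb 2).trans v)).upd 0 1 2 (le_of_eq hx01)).upd 0 2 1 (le_of_eq hx03)).upd 1 0 1 (le_of_eq hx10)).upd 1 2 1 (le_of_eq hx13)).upd 2 0 1 (le_of_eq hx30)).upd 2 1 1 (le_of_eq hx31)) ![1,1,1] (by decide) (by decide) 0 (by decide))
          · -- 13=(1,2)
            exact False.elim (cert_false T ((skipEmb 2).trans v) (by norm_num) (fun _ => hv _) (((((((LB_zero T ((skipEmb 2).trans v)).upd 0 1 2 (le_of_eq hx01)).upd 0 2 1 (le_of_eq hx03)).upd 1 0 1 (le_of_eq hx10)).upd 1 2 1 (le_of_eq hx13)).upd 2 0 1 (le_of_eq hx30)).upd 2 1 2 (le_of_eq hx31)) ![1,1,1] (by decide) (by decide) 0 (by decide))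
          · -- 13=(2,1)
            exact False.elim (cert_false T ((skipEmb 2).trans v) (by norm_num) (fun _ => hv _) (((((((LB_zero T ((skipEmb 2).trans v)).upd 0 1 2 (le_of_eq hx01)).upd 0 2 1 (le_of_eq hx03)).upd 1 0 1 (le_of_eq hx10)).upd 1 2 2 (le_of_eq hx13)).upd 2 0 1 (le_of_eq hx30)).upd 2 1 1 (le_of_eq hx31)) ![1,1,1] (by decide) (by decide) 0 (by decide))
          · -- 13=(1,3)
            exact False.elim (cert_false T ((skipEmb 2).trans v) (by norm_num) (fun _ => hv _) (((((((LB_zero T ((skipEmb 2).trans v)).upd 0 1 2 (le_of_eq hx01)).upd 0 2 1 (le_of_eq hx03)).upd 1 0 1 (le_of_eq hx10)).upd 1 2 1 (le_of_eq hx13)).upd 2 0 1 (le_of_eq hx30)).upd 2 1 3 (le_of_eq hx31)) ![1,1,1] (by decide) (by decide) 0 (by decide))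
          · -- 13=(3,1)
            exact False.elim (cert_false T ((skipEmb 2).trans v) (by norm_num) (fun _ => hv _) (((((((LB_zero T ((skipEmb 2).trans v)).upd 0 1 2 (le_of_eq hx01)).upd 0 2 1 (le_of_eq hx03)).upd 1 0 1 (le_of_eq hx10)).upd 1 2 3 (le_of_eq hx13)).upd 2 0 1 (le_of_eq hx30)).upd 2 1 1 (le_of_eq hx31)) ![1,1,1] (by decide) (by decide) 0 (by decide))
        · -- 03=(1,2)
          exact False.elim (cert_false T ((skipEmb 2).trans v) (by norm_num) (fun _ => hv _) (((((LB_zero T ((skipEmb 2).trans v)).upd 0 1 2 (le_of_eq hx01)).upd 0 2 1 (le_of_eq hx03)).upd 1 0 1 (le_of_eq hx10)).upd 2 0 2 (le_of_eq hx30)) ![2,1,2] (by decide) (by decide) 0 (by decide))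
        · -- 03=(2,1)
          exact False.elim (cert_false T ((skipEmb 2).trans v) (by norm_num) (fun _ => hv _) (((((LB_zero T ((skipEmb 2).trans v)).upd 0 1 2 (le_of_eq hx01)).upd 0 2 2 (le_of_eq hx03)).upd 1 0 1 (le_of_eq hx10)).upd 2 0 1 (le_of_eq hx30)) ![2,1,1] (by decide) (by decide) 0 (by decide))
        · -- 03=(1,3)
          exact False.elim (cert_false T ((skipEmb 2).trans v) (by norm_num) (fun _ => hv _) (((((LB_zero T ((skipEmb 2).trans v)).upd 0 1 2 (le_of_eq hx01)).upd 0 2 1 (le_of_eq hx03)).upd 1 0 1 (le_of_eq hx10)).upd 2 0 3 (le_of_eq hx30)) ![2,1,2] (by decide) (by decide) 0 (by decide))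
        · -- 03=(3,1)
          exact False.elim (cert_false T ((skipEmb 2).trans v) (by norm_num) (fun _ => hv _) (((((LB_zero T ((skipEmb 2).trans v)).upd 0 1 2 (le_of_eq hx01)).upd 0 2 3 (le_of_eq hx03)).upd 1 0 1 (le_of_eq hx10)).upd 2 0 1 (le_of_eq hx30)) ![2,1,1] (by decide) (by decide) 0 (by decide))
      · -- 12=(1,1)
        exact False.elim (cert_false T ((skipEmb 3).trans v) (by norm_num) (fun _ => hv _) (((((((LB_zero T ((skipEmb 3).trans v)).upd 0 1 2 (le_of_eq hx01)).upd 0 2 1 (le_of_eq hx02)).upd 1 0 1 (le_of_eq hx10)).upd 1 2 1 (le_of_eq hx12)).upd 2 0 1 (le_of_eq hx20)).upd 2 1 1 (le_of_eq hx21)) ![1,1,1] (by decide) (by decide) 0 (by decide))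
      · -- 12=(1,2)
        exact False.elim (cert_false T ((skipEmb 3).trans v) (by norm_num) (fun _ => hv _) (((((((LB_zero T ((skipEmb 3).trans v)).upd 0 1 2 (le_of_eq hx01)).upd 0 2 1 (le_of_eq hx02)).upd 1 0 1 (le_of_eq hx10)).upd 1 2 1 (le_of_eq hx12)).upd 2 0 1 (le_of_eq hx20)).upd 2 1 2 (le_of_eq hx21)) ![1,1,1] (by decide) (by decide) 0 (by decide))
      · -- 12=(2,1)
        exact False.elim (cert_false T ((skipEmb 3).trans v) (by norm_num) (fun _ => hv _) (((((((LB_zero T ((skipEmb 3).trans v)).upd 0 1 2 (le_of_eq hx01)).upd 0 2 1 (le_of_eq hx02)).upd 1 0 1 (le_of_eq hx10)).upd 1 2 2 (le_of_eq hx12)).upd 2 0 1 (le_of_eq hx20)).upd 2 1 1 (le_of_eq hx21)) ![1,1,1] (by decide) (by decide) 0 (by decide))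
      · -- 12=(1,3)
        exact False.elim (cert_false T ((skipEmb 3).trans v) (by norm_num) (fun _ => hv _) (((((((LB_zero T ((skipEmb 3).trans v)).upd 0 1 2 (le_of_eq hx01)).upd 0 2 1 (le_of_eq hx02)).upd 1 0 1 (le_of_eq hx10)).upd 1 2 1 (le_of_eq hx12)).upd 2 0 1 (le_of_eq hx20)).upd 2 1 3 (le_of_eq hx21)) ![1,1,1] (by decide) (by decide) 0 (by decide))
      · -- 12=(3,1)
        exact False.elim (cert_false T ((skipEmb 3).trans v) (by norm_num) (fun _ => hv _) (((((((LB_zero T ((skipEmb 3).trans v)).upd 0 1 2 (le_of_eq hx01)).upd 0 2 1 (le_of_eq hx02)).upd 1 0 1 (le_of_eq hx10)).upd 1 2 3 (le_of_eq hx12)).upd 2 0 1 (le_of_eq hx20)).upd 2 1 1 (le_of_eq hx21)) ![1,1,1] (by decide) (by decide) 0 (by decide))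
    · -- 02=(1,2)
      exact False.elim (cert_false T ((skipEmb 3).trans v) (by norm_num) (fun _ => hv _) (((((LB_zero T ((skipEmb 3).trans v)).upd 0 1 2 (le_of_eq hx01)).upd 0 2 1 (le_of_eq hx02)).upd 1 0 1 (le_of_eq hx10)).upd 2 0 2 (le_of_eq hx20)) ![2,1,2] (by decide) (by decide) 0 (by decide))
    · -- 02=(2,1)
      exact False.elim (cert_false T ((skipEmb 3).trans v) (by norm_num) (fun _ => hv _) (((((LB_zero T ((skipEmb 3).trans v)).upd 0 1 2 (le_of_eq hx01)).upd 0 2 2 (le_of_eq hx02)).upd 1 0 1 (le_of_eq hx10)).upd 2 0 1 (le_of_eq hx20)) ![2,1,1] (by decide) (by decide) 0 (by decide))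
    · -- 02=(1,3)
      exact False.elim (cert_false T ((skipEmb 3).trans v) (by norm_num) (fun _ => hv _) (((((LB_zero T ((skipEmb 3).trans v)).upd 0 1 2 (le_of_eq hx01)).upd 0 2 1 (le_of_eq hx02)).upd 1 0 1 (le_of_eq hx10)).upd 2 0 3 (le_of_eq hx20)) ![2,1,2] (by decide) (by decide) 0 (by decide))
    · -- 02=(3,1)
      exact False.elim (cert_false T ((skipEmb 3).trans v) (by norm_num) (fun _ => hv _) (((((LB_zero T ((skipEmb 3).trans v)).upd 0 1 2 (le_of_eq hx01)).upd 0 2 3 (le_of_eq hx02)).upd 1 0 1 (le_of_eq hx10)).upd 2 0 1 (le_of_eq hx20)) ![2,1,1] (by decide) (by decide) 0 (by decide))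
  · -- 01=(1,3)
    have d02 := two_pair T (by norm_num : 2 < 4) ((pairEmb 0 2 (by decide)).trans v) (fun _ => hv _)
    change (N T v 0 2 = 0 ∧ N T v 2 0 = 0) ∨ (N T v 0 2 = 1 ∧ N T v 2 0 = 1) ∨ (N T v 0 2 = 1 ∧ N T v 2 0 = 2) ∨ (N T v 0 2 = 2 ∧ N T v 2 0 = 1) ∨ (N T v 0 2 = 1 ∧ N T v 2 0 = 3) ∨ (N T v 0 2 = 3 ∧ N T v 2 0 = 1) at d02
    rw [← hx02, ← hx20] at d02
    rcases d02 with ⟨rfl, rfl⟩ | ⟨rfl, rfl⟩ | ⟨rfl, rfl⟩ | ⟨rfl, rfl⟩ | ⟨rfl, rfl⟩ | ⟨rfl, rfl⟩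
    · -- 02=(0,0)
      have d12 := two_pair T (by norm_num : 2 < 4) ((pairEmb 1 2 (by decide)).trans v) (fun _ => hv _)
      change (N T v 1 2 = 0 ∧ N T v 2 1 = 0) ∨ (N T v 1 2 = 1 ∧ N T v 2 1 = 1) ∨ (N T v 1 2 = 1 ∧ N T v 2 1 = 2) ∨ (N T v 1 2 = 2 ∧ N T v 2 1 = 1) ∨ (N T v 1 2 = 1 ∧ N T v 2 1 = 3) ∨ (N T v 1 2 = 3 ∧ N T v 2 1 = 1) at d12
      rw [← hx12, ← hx21] at d12
      rcases d12 with ⟨rfl, rfl⟩ | ⟨rfl, rfl⟩ | ⟨rfl, rfl⟩ | ⟨rfl, rfl⟩ | ⟨rfl, rfl⟩ | ⟨rfl, rfl⟩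
      · -- 12=(0,0)
        have d03 := two_pair T (by norm_num : 2 < 4) ((pairEmb 0 3 (by decide)).trans v) (fun _ => hv _)
        change (N T v 0 3 = 0 ∧ N T v 3 0 = 0) ∨ (N T v 0 3 = 1 ∧ N T v 3 0 = 1) ∨ (N T v 0 3 = 1 ∧ N T v 3 0 = 2) ∨ (N T v 0 3 = 2 ∧ N T v 3 0 = 1) ∨ (N T v 0 3 = 1 ∧ N T v 3 0 = 3) ∨ (N T v 0 3 = 3 ∧ N T v 3 0 = 1) at d03
        rw [← hx03, ← hx30] at d03
        rcases d03 with ⟨rfl, rfl⟩ | ⟨rfl, rfl⟩ | ⟨rfl, rfl⟩ | ⟨rfl, rfl⟩ | ⟨rfl, rfl⟩ | ⟨rfl, rfl⟩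
        · -- 03=(0,0)
          have d13 := two_pair T (by norm_num : 2 < 4) ((pairEmb 1 3 (by decide)).trans v) (fun _ => hv _)
          change (N T v 1 3 = 0 ∧ N T v 3 1 = 0) ∨ (N T v 1 3 = 1 ∧ N T v 3 1 = 1) ∨ (N T v 1 3 = 1 ∧ N T v 3 1 = 2) ∨ (N T v 1 3 = 2 ∧ N T v 3 1 = 1) ∨ (N T v 1 3 = 1 ∧ N T v 3 1 = 3) ∨ (N T v 1 3 = 3 ∧ N T v 3 1 = 1) at d13
          rw [← hx13, ← hx31] at d13
          rcases d13 with ⟨rfl, rfl⟩ | ⟨rfl, rfl⟩ | ⟨rfl, rfl⟩ | ⟨rfl, rfl⟩ | ⟨rfl, rfl⟩ | ⟨rfl, rfl⟩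
          · -- 13=(0,0)
            have d23 := two_pair T (by norm_num : 2 < 4) ((pairEmb 2 3 (by decide)).trans v) (fun _ => hv _)
            change (N T v 2 3 = 0 ∧ N T v 3 2 = 0) ∨ (N T v 2 3 = 1 ∧ N T v 3 2 = 1) ∨ (N T v 2 3 = 1 ∧ N T v 3 2 = 2) ∨ (N T v 2 3 = 2 ∧ N T v 3 2 = 1) ∨ (N T v 2 3 = 1 ∧ N T v 3 2 = 3) ∨ (N T v 2 3 = 3 ∧ N T v 3 2 = 1) at d23
            rw [← hx23, ← hx32] at d23
            rcases d23 with ⟨rfl, rfl⟩ | ⟨rfl, rfl⟩ | ⟨rfl, rfl⟩ | ⟨rfl, rfl⟩ | ⟨rfl, rfl⟩ | ⟨rfl, rfl⟩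
            · -- 23=(0,0)
              exfalso; omega
            · -- 23=(1,1)
              exfalso; omega
            · -- 23=(1,2)
              exfalso; omega
            · -- 23=(2,1)
              exfalso; omega
            · -- 23=(1,3)
              exfalso; omega
            · -- 23=(3,1)
              exfalso; omega
          · -- 13=(1,1)
            exact False.elim (cert_false T ((skipEmb 2).trans v) (by norm_num) (fun _ => hv _) (((((LB_zero T ((skipEmb 2).trans v)).upd 0 1 1 (le_of_eq hx01)).upd 1 0 3 (le_of_eq hx10)).upd 1 2 1 (le_of_eq hx13)).upd 2 1 1 (le_of_eq hx31)) ![1,2,1] (by decide) (by decide) 0 (by decide))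
          · -- 13=(1,2)
            exact False.elim (cert_false T ((skipEmb 2).trans v) (by norm_num) (fun _ => hv _) (((((LB_zero T ((skipEmb 2).trans v)).upd 0 1 1 (le_of_eq hx01)).upd 1 0 3 (le_of_eq hx10)).upd 1 2 1 (le_of_eq hx13)).upd 2 1 2 (le_of_eq hx31)) ![1,2,1] (by decide) (by decide) 0 (by decide))
          · -- 13=(2,1)
            exact False.elim (cert_false T ((skipEmb 2).trans v) (by norm_num) (fun _ => hv _) (((((LB_zero T ((skipEmb 2).trans v)).upd 0 1 1 (le_of_eq hx01)).upd 1 0 3 (le_of_eq hx10)).upd 1 2 2 (le_of_eq hx13)).upd 2 1 1 (le_of_eq hx31)) ![1,2,1] (by decide) (by decide) 0 (by decide))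
          · -- 13=(1,3)
            exact False.elim (cert_false T ((skipEmb 2).trans v) (by norm_num) (fun _ => hv _) (((((LB_zero T ((skipEmb 2).trans v)).upd 0 1 1 (le_of_eq hx01)).upd 1 0 3 (le_of_eq hx10)).upd 1 2 1 (le_of_eq hx13)).upd 2 1 3 (le_of_eq hx31)) ![1,2,1] (by decide) (by decide) 0 (by decide))
          · -- 13=(3,1)
            exact False.elim (cert_false T ((skipEmb 2).trans v) (by norm_num) (fun _ => hv _) (((((LB_zero T ((skipEmb 2).trans v)).upd 0 1 1 (le_of_eq hx01)).upd 1 0 3 (le_of_eq hx10)).upd 1 2 3 (le_of_eq hx13)).upd 2 1 1 (le_of_eq hx31)) ![1,2,1] (by decide) (by decide) 0 (by decide))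
        · -- 03=(1,1)
          exact False.elim (cert_false T ((skipEmb 2).trans v) (by norm_num) (fun _ => hv _) (((((LB_zero T ((skipEmb 2).trans v)).upd 0 1 1 (le_of_eq hx01)).upd 0 2 1 (le_of_eq hx03)).upd 1 0 3 (le_of_eq hx10)).upd 2 0 1 (le_of_eq hx30)) ![2,3,1] (by decide) (by decide) 0 (by decide))
        · -- 03=(1,2)
          exact False.elim (cert_false T ((skipEmb 2).trans v) (by norm_num) (fun _ => hv _) (((((LB_zero T ((skipEmb 2).trans v)).upd 0 1 1 (le_of_eq hx01)).upd 0 2 1 (le_of_eq hx03)).upd 1 0 3 (le_of_eq hx10)).upd 2 0 2 (le_of_eq hx30)) ![1,1,1] (by decide) (by decide) 0 (by decide))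
        · -- 03=(2,1)
          exact False.elim (cert_false T ((skipEmb 2).trans v) (by norm_num) (fun _ => hv _) (((((LB_zero T ((skipEmb 2).trans v)).upd 0 1 1 (le_of_eq hx01)).upd 0 2 2 (le_of_eq hx03)).upd 1 0 3 (le_of_eq hx10)).upd 2 0 1 (le_of_eq hx30)) ![2,2,1] (by decide) (by decide) 0 (by decide))
        · -- 03=(1,3)
          exact False.elim (cert_false T ((skipEmb 2).trans v) (by norm_num) (fun _ => hv _) (((((LB_zero T ((skipEmb 2).trans v)).upd 0 1 1 (le_of_eq hx01)).upd 0 2 1 (le_of_eq hx03)).upd 1 0 3 (le_of_eq hx10)).upd 2 0 3 (le_of_eq hx30)) ![1,1,1] (by decide) (by decide) 0 (by decide))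
        · -- 03=(3,1)
          exact False.elim (cert_false T ((skipEmb 2).trans v) (by norm_num) (fun _ => hv _) (((((LB_zero T ((skipEmb 2).trans v)).upd 0 1 1 (le_of_eq hx01)).upd 0 2 3 (le_of_eq hx03)).upd 1 0 3 (le_of_eq hx10)).upd 2 0 1 (le_of_eq hx30)) ![2,1,1] (by decide) (by decide) 0 (by decide))
      · -- 12=(1,1)
        exact False.elim (cert_false T ((skipEmb 3).trans v) (by norm_num) (fun _ => hv _) (((((LB_zero T ((skipEmb 3).trans v)).upd 0 1 1 (le_of_eq hx01)).upd 1 0 3 (le_of_eq hx10)).upd 1 2 1 (le_of_eq hx12)).upd 2 1 1 (le_of_eq hx21)) ![1,2,1] (by decide) (by decide) 0 (by decide))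
      · -- 12=(1,2)
        exact False.elim (cert_false T ((skipEmb 3).trans v) (by norm_num) (fun _ => hv _) (((((LB_zero T ((skipEmb 3).trans v)).upd 0 1 1 (le_of_eq hx01)).upd 1 0 3 (le_of_eq hx10)).upd 1 2 1 (le_of_eq hx12)).upd 2 1 2 (le_of_eq hx21)) ![1,2,1] (by decide) (by decide) 0 (by decide))
      · -- 12=(2,1)
        exact False.elim (cert_false T ((skipEmb 3).trans v) (by norm_num) (fun _ => hv _) (((((LB_zero T ((skipEmb 3).trans v)).upd 0 1 1 (le_of_eq hx01)).upd 1 0 3 (le_of_eq hx10)).upd 1 2 2 (le_of_eq hx12)).upd 2 1 1 (le_of_eq hx21)) ![1,2,1] (by decide) (by decide) 0 (by decide))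
      · -- 12=(1,3)
        exact False.elim (cert_false T ((skipEmb 3).trans v) (by norm_num) (fun _ => hv _) (((((LB_zero T ((skipEmb 3).trans v)).upd 0 1 1 (le_of_eq hx01)).upd 1 0 3 (le_of_eq hx10)).upd 1 2 1 (le_of_eq hx12)).upd 2 1 3 (le_of_eq hx21)) ![1,2,1] (by decide) (by decide) 0 (by decide))
      · -- 12=(3,1)
        exact False.elim (cert_false T ((skipEmb 3).trans v) (by norm_num) (fun _ => hv _) (((((LB_zero T ((skipEmb 3).trans v)).upd 0 1 1 (le_of_eq hx01)).upd 1 0 3 (le_of_eq hx10)).upd 1 2 3 (le_of_eq hx12)).upd 2 1 1 (le_of_eq hx21)) ![1,2,1] (by decide) (by decide) 0 (by decide))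
    · -- 02=(1,1)
      exact False.elim (cert_false T ((skipEmb 3).trans v) (by norm_num) (fun _ => hv _) (((((LB_zero T ((skipEmb 3).trans v)).upd 0 1 1 (le_of_eq hx01)).upd 0 2 1 (le_of_eq hx02)).upd 1 0 3 (le_of_eq hx10)).upd 2 0 1 (le_of_eq hx20)) ![2,3,1] (by decide) (by decide) 0 (by decide))
    · -- 02=(1,2)
      exact False.elim (cert_false T ((skipEmb 3).trans v) (by norm_num) (fun _ => hv _) (((((LB_zero T ((skipEmb 3).trans v)).upd 0 1 1 (le_of_eq hx01)).upd 0 2 1 (le_of_eq hx02)).upd 1 0 3 (le_of_eq hx10)).upd 2 0 2 (le_of_eq hx20)) ![1,1,1] (by decide) (by decide) 0 (by decide))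
    · -- 02=(2,1)
      exact False.elim (cert_false T ((skipEmb 3).trans v) (by norm_num) (fun _ => hv _) (((((LB_zero T ((skipEmb 3).trans v)).upd 0 1 1 (le_of_eq hx01)).upd 0 2 2 (le_of_eq hx02)).upd 1 0 3 (le_of_eq hx10)).upd 2 0 1 (le_of_eq hx20)) ![2,2,1] (by decide) (by decide) 0 (by decide))
    · -- 02=(1,3)
      exact False.elim (cert_false T ((skipEmb 3).trans v) (by norm_num) (fun _ => hv _) (((((LB_zero T ((skipEmb 3).trans v)).upd 0 1 1 (le_of_eq hx01)).upd 0 2 1 (le_of_eq hx02)).upd 1 0 3 (le_of_eq hx10)).upd 2 0 3 (le_of_eq hx20)) ![1,1,1] (by decide) (by decide) 0 (by decide))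
    · -- 02=(3,1)
      exact False.elim (cert_false T ((skipEmb 3).trans v) (by norm_num) (fun _ => hv _) (((((LB_zero T ((skipEmb 3).trans v)).upd 0 1 1 (le_of_eq hx01)).upd 0 2 3 (le_of_eq hx02)).upd 1 0 3 (le_of_eq hx10)).upd 2 0 1 (le_of_eq hx20)) ![2,1,1] (by decide) (by decide) 0 (by decide))
  · -- 01=(3,1)
    have d02 := two_pair T (by norm_num : 2 < 4) ((pairEmb 0 2 (by decide)).trans v) (fun _ => hv _)
    change (N T v 0 2 = 0 ∧ N T v 2 0 = 0) ∨ (N T v 0 2 = 1 ∧ N T v 2 0 = 1) ∨ (N T v 0 2 = 1 ∧ N T v 2 0 = 2) ∨ (N T v 0 2 = 2 ∧ N T v 2 0 = 1) ∨ (N T v 0 2 = 1 ∧ N T v 2 0 = 3) ∨ (N T v 0 2 = 3 ∧ N T v 2 0 = 1) at d02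
    rw [← hx02, ← hx20] at d02
    rcases d02 with ⟨rfl, rfl⟩ | ⟨rfl, rfl⟩ | ⟨rfl, rfl⟩ | ⟨rfl, rfl⟩ | ⟨rfl, rfl⟩ | ⟨rfl, rfl⟩
    · -- 02=(0,0)
      have d12 := two_pair T (by norm_num : 2 < 4) ((pairEmb 1 2 (by decide)).trans v) (fun _ => hv _)
      change (N T v 1 2 = 0 ∧ N T v 2 1 = 0) ∨ (N T v 1 2 = 1 ∧ N T v 2 1 = 1) ∨ (N T v 1 2 = 1 ∧ N T v 2 1 = 2) ∨ (N T v 1 2 = 2 ∧ N T v 2 1 = 1) ∨ (N T v 1 2 = 1 ∧ N T v 2 1 = 3) ∨ (N T v 1 2 = 3 ∧ N T v 2 1 = 1) at d12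
      rw [← hx12, ← hx21] at d12
      rcases d12 with ⟨rfl, rfl⟩ | ⟨rfl, rfl⟩ | ⟨rfl, rfl⟩ | ⟨rfl, rfl⟩ | ⟨rfl, rfl⟩ | ⟨rfl, rfl⟩
      · -- 12=(0,0)
        have d03 := two_pair T (by norm_num : 2 < 4) ((pairEmb 0 3 (by decide)).trans v) (fun _ => hv _)
        change (N T v 0 3 = 0 ∧ N T v 3 0 = 0) ∨ (N T v 0 3 = 1 ∧ N T v 3 0 = 1) ∨ (N T v 0 3 = 1 ∧ N T v 3 0 = 2) ∨ (N T v 0 3 = 2 ∧ N T v 3 0 = 1) ∨ (N T v 0 3 = 1 ∧ N T v 3 0 = 3) ∨ (N T v 0 3 = 3 ∧ N T v 3 0 = 1) at d03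
        rw [← hx03, ← hx30] at d03
        rcases d03 with ⟨rfl, rfl⟩ | ⟨rfl, rfl⟩ | ⟨rfl, rfl⟩ | ⟨rfl, rfl⟩ | ⟨rfl, rfl⟩ | ⟨rfl, rfl⟩
        · -- 03=(0,0)
          have d13 := two_pair T (by norm_num : 2 < 4) ((pairEmb 1 3 (by decide)).trans v) (fun _ => hv _)
          change (N T v 1 3 = 0 ∧ N T v 3 1 = 0) ∨ (N T v 1 3 = 1 ∧ N T v 3 1 = 1) ∨ (N T v 1 3 = 1 ∧ N T v 3 1 = 2) ∨ (N T v 1 3 = 2 ∧ N T v 3 1 = 1) ∨ (N T v 1 3 = 1 ∧ N T v 3 1 = 3) ∨ (N T v 1 3 = 3 ∧ N T v 3 1 = 1) at d13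
          rw [← hx13, ← hx31] at d13
          rcases d13 with ⟨rfl, rfl⟩ | ⟨rfl, rfl⟩ | ⟨rfl, rfl⟩ | ⟨rfl, rfl⟩ | ⟨rfl, rfl⟩ | ⟨rfl, rfl⟩
          · -- 13=(0,0)
            have d23 := two_pair T (by norm_num : 2 < 4) ((pairEmb 2 3 (by decide)).trans v) (fun _ => hv _)
            change (N T v 2 3 = 0 ∧ N T v 3 2 = 0) ∨ (N T v 2 3 = 1 ∧ N T v 3 2 = 1) ∨ (N T v 2 3 = 1 ∧ N T v 3 2 = 2) ∨ (N T v 2 3 = 2 ∧ N T v 3 2 = 1) ∨ (N T v 2 3 = 1 ∧ N T v 3 2 = 3) ∨ (N T v 2 3 = 3 ∧ N T v 3 2 = 1) at d23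
            rw [← hx23, ← hx32] at d23
            rcases d23 with ⟨rfl, rfl⟩ | ⟨rfl, rfl⟩ | ⟨rfl, rfl⟩ | ⟨rfl, rfl⟩ | ⟨rfl, rfl⟩ | ⟨rfl, rfl⟩
            · -- 23=(0,0)
              exfalso; omega
            · -- 23=(1,1)
              exfalso; omega
            · -- 23=(1,2)
              exfalso; omega
            · -- 23=(2,1)
              exfalso; omega
            · -- 23=(1,3)
              exfalso; omega
            · -- 23=(3,1)
              exfalso; omega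
          · -- 13=(1,1)
            exact False.elim (cert_false T ((skipEmb 2).trans v) (by norm_num) (fun _ => hv _) (((((LB_zero T ((skipEmb 2).trans v)).upd 0 1 3 (le_of_eq hx01)).upd 1 0 1 (le_of_eq hx10)).upd 1 2 1 (le_of_eq hx13)).upd 2 1 1 (le_of_eq hx31)) ![3,2,1] (by decide) (by decide) 0 (by decide))
          · -- 13=(1,2)
            exact False.elim (cert_false T ((skipEmb 2).trans v) (by norm_num) (fun _ => hv _) (((((LB_zero T ((skipEmb 2).trans v)).upd 0 1 3 (le_of_eq hx01)).upd 1 0 1 (le_of_eq hx10)).upd 1 2 1 (le_of_eq hx13)).upd 2 1 2 (le_of_eq hx31)) ![1,1,1] (by decide) (by decide) 0 (by decide))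
          · -- 13=(2,1)
            exact False.elim (cert_false T ((skipEmb 2).trans v) (by norm_num) (fun _ => hv _) (((((LB_zero T ((skipEmb 2).trans v)).upd 0 1 3 (le_of_eq hx01)).upd 1 0 1 (le_of_eq hx10)).upd 1 2 2 (le_of_eq hx13)).upd 2 1 1 (le_of_eq hx31)) ![2,2,1] (by decide) (by decide) 0 (by decide))
          · -- 13=(1,3)
            exact False.elim (cert_false T ((skipEmb 2).trans v) (by norm_num) (fun _ => hv _) (((((LB_zero T ((skipEmb 2).trans v)).upd 0 1 3 (le_of_eq hx01)).upd 1 0 1 (le_of_eq hx10)).upd 1 2 1 (le_of_eq hx13)).upd 2 1 3 (le_of_eq hx31)) ![1,1,1] (by decide) (by decide) 0 (by decide))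
          · -- 13=(3,1)
            exact False.elim (cert_false T ((skipEmb 2).trans v) (by norm_num) (fun _ => hv _) (((((LB_zero T ((skipEmb 2).trans v)).upd 0 1 3 (le_of_eq hx01)).upd 1 0 1 (le_of_eq hx10)).upd 1 2 3 (le_of_eq hx13)).upd 2 1 1 (le_of_eq hx31)) ![1,2,1] (by decide) (by decide) 0 (by decide))
        · -- 03=(1,1)
          exact False.elim (cert_false T ((skipEmb 2).trans v) (by norm_num) (fun _ => hv _) (((((LB_zero T ((skipEmb 2).trans v)).upd 0 1 3 (le_of_eq hx01)).upd 0 2 1 (le_of_eq hx03)).upd 1 0 1 (le_of_eq hx10)).upd 2 0 1 (le_of_eq hx30)) ![2,1,1] (by decide) (by decide) 0 (by decide))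
        · -- 03=(1,2)
          exact False.elim (cert_false T ((skipEmb 2).trans v) (by norm_num) (fun _ => hv _) (((((LB_zero T ((skipEmb 2).trans v)).upd 0 1 3 (le_of_eq hx01)).upd 0 2 1 (le_of_eq hx03)).upd 1 0 1 (le_of_eq hx10)).upd 2 0 2 (le_of_eq hx30)) ![2,1,1] (by decide) (by decide) 0 (by decide))
        · -- 03=(2,1)
          exact False.elim (cert_false T ((skipEmb 2).trans v) (by norm_num) (fun _ => hv _) (((((LB_zero T ((skipEmb 2).trans v)).upd 0 1 3 (le_of_eq hx01)).upd 0 2 2 (le_of_eq hx03)).upd 1 0 1 (le_of_eq hx10)).upd 2 0 1 (le_of_eq hx30)) ![2,1,1] (by decide) (by decide) 0 (by decide))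
        · -- 03=(1,3)
          exact False.elim (cert_false T ((skipEmb 2).trans v) (by norm_num) (fun _ => hv _) (((((LB_zero T ((skipEmb 2).trans v)).upd 0 1 3 (le_of_eq hx01)).upd 0 2 1 (le_of_eq hx03)).upd 1 0 1 (le_of_eq hx10)).upd 2 0 3 (le_of_eq hx30)) ![2,1,1] (by decide) (by decide) 0 (by decide))
        · -- 03=(3,1)
          exact False.elim (cert_false T ((skipEmb 2).trans v) (by norm_num) (fun _ => hv _) (((((LB_zero T ((skipEmb 2).trans v)).upd 0 1 3 (le_of_eq hx01)).upd 0 2 3 (le_of_eq hx03)).upd 1 0 1 (le_of_eq hx10)).upd 2 0 1 (le_of_eq hx30)) ![2,1,1] (by decide) (by decide) 0 (by decide))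
      · -- 12=(1,1)
        exact False.elim (cert_false T ((skipEmb 3).trans v) (by norm_num) (fun _ => hv _) (((((LB_zero T ((skipEmb 3).trans v)).upd 0 1 3 (le_of_eq hx01)).upd 1 0 1 (le_of_eq hx10)).upd 1 2 1 (le_of_eq hx12)).upd 2 1 1 (le_of_eq hx21)) ![3,2,1] (by decide) (by decide) 0 (by decide))
      · -- 12=(1,2)
        exact False.elim (cert_false T ((skipEmb 3).trans v) (by norm_num) (fun _ => hv _) (((((LB_zero T ((skipEmb 3).trans v)).upd 0 1 3 (le_of_eq hx01)).upd 1 0 1 (le_of_eq hx10)).upd 1 2 1 (le_of_eq hx12)).upd 2 1 2 (le_of_eq hx21)) ![1,1,1] (by decide) (by decide) 0 (by decide))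
      · -- 12=(2,1)
        exact False.elim (cert_false T ((skipEmb 3).trans v) (by norm_num) (fun _ => hv _) (((((LB_zero T ((skipEmb 3).trans v)).upd 0 1 3 (le_of_eq hx01)).upd 1 0 1 (le_of_eq hx10)).upd 1 2 2 (le_of_eq hx12)).upd 2 1 1 (le_of_eq hx21)) ![2,2,1] (by decide) (by decide) 0 (by decide))
      · -- 12=(1,3)
        exact False.elim (cert_false T ((skipEmb 3).trans v) (by norm_num) (fun _ => hv _) (((((LB_zero T ((skipEmb 3).trans v)).upd 0 1 3 (le_of_eq hx01)).upd 1 0 1 (le_of_eq hx10)).upd 1 2 1 (le_of_eq hx12)).upd 2 1 3 (le_of_eq hx21)) ![1,1,1] (by decide) (by decide) 0 (by decide))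
      · -- 12=(3,1)
        exact False.elim (cert_false T ((skipEmb 3).trans v) (by norm_num) (fun _ => hv _) (((((LB_zero T ((skipEmb 3).trans v)).upd 0 1 3 (le_of_eq hx01)).upd 1 0 1 (le_of_eq hx10)).upd 1 2 3 (le_of_eq hx12)).upd 2 1 1 (le_of_eq hx21)) ![1,2,1] (by decide) (by decide) 0 (by decide))
    · -- 02=(1,1)
      exact False.elim (cert_false T ((skipEmb 3).trans v) (by norm_num) (fun _ => hv _) (((((LB_zero T ((skipEmb 3).trans v)).upd 0 1 3 (le_of_eq hx01)).upd 0 2 1 (le_of_eq hx02)).upd 1 0 1 (le_of_eq hx10)).upd 2 0 1 (le_of_eq hx20)) ![2,1,1] (by decide) (by decide) 0 (by decide))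
    · -- 02=(1,2)
      exact False.elim (cert_false T ((skipEmb 3).trans v) (by norm_num) (fun _ => hv _) (((((LB_zero T ((skipEmb 3).trans v)).upd 0 1 3 (le_of_eq hx01)).upd 0 2 1 (le_of_eq hx02)).upd 1 0 1 (le_of_eq hx10)).upd 2 0 2 (le_of_eq hx20)) ![2,1,1] (by decide) (by decide) 0 (by decide))
    · -- 02=(2,1)
      exact False.elim (cert_false T ((skipEmb 3).trans v) (by norm_num) (fun _ => hv _) (((((LB_zero T ((skipEmb 3).trans v)).upd 0 1 3 (le_of_eq hx01)).upd 0 2 2 (le_of_eq hx02)).upd 1 0 1 (le_of_eq hx10)).upd 2 0 1 (le_of_eq hx20)) ![2,1,1] (by decide) (by decide) 0 (by decide))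
    · -- 02=(1,3)
      exact False.elim (cert_false T ((skipEmb 3).trans v) (by norm_num) (fun _ => hv _) (((((LB_zero T ((skipEmb 3).trans v)).upd 0 1 3 (le_of_eq hx01)).upd 0 2 1 (le_of_eq hx02)).upd 1 0 1 (le_of_eq hx10)).upd 2 0 3 (le_of_eq hx20)) ![2,1,1] (by decide) (by decide) 0 (by decide))
    · -- 02=(3,1)
      exact False.elim (cert_false T ((skipEmb 3).trans v) (by norm_num) (fun _ => hv _) (((((LB_zero T ((skipEmb 3).trans v)).upd 0 1 3 (le_of_eq hx01)).upd 0 2 3 (le_of_eq hx02)).upd 1 0 1 (le_of_eq hx10)).upd 2 0 1 (le_of_eq hx20)) ![2,1,1] (by decide) (by decide) 0 (by decide))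

end Groth.Agent.S7364
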