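import Groth.Statements.S7385
import Mathlib

set_option autoImplicit false
universe u
open CategoryTheory AlgebraicGeometry
open Mor

namespace Groth.Agent.S7385

section Aux
open AlgebraicGeometry CategoryTheory Limits TopologicalSpace

theorem gen_eq {X : Scheme.{u}} (x y : X)
    (hx : closure ({x} : Set X) ∈ irreducibleComponents (X : Type u)) (h : y ⤳ x) : y = x := by
  have h1 : closure ({x} : Set X) ⊆ closure {y} :=
    closure_minimal (Set.singleton_subset_iff.mpr (specializes_iff_mem_closure.mp h)) isClosed_closure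
  have h2 : closure ({y} : Set X) ⊆ closure {x} := hx.2 isIrreducible_singleton.closure h1
  have h3 : x ⤳ y := specializes_iff_mem_closure.mpr (h2 (subset_closure rfl))
  exact (h.antisymm h3).eq

theorem nilp {X : Scheme.{u}} (x : X)
    (hx : closure ({x} : Set X) ∈ irreducibleComponents (X : Type u))
    (a : X.presheaf.stalk x) (ha : a ∈ IsLocalRing.maximalIdeal (X.presheaf.stalk x)) :
    IsNilpotent a := by
  have hsub : ∀ p : PrimeSpectrum (X.presheaf.stalk x), p = IsLocalRing.closedPoint _ := by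
    intro p
    have hp : (X.fromSpecStalk x) p ⤳ x := by
      have : (X.fromSpecStalk x) p ∈ Set.range (X.fromSpecStalk x) := ⟨p, rfl⟩
      rwa [Scheme.range_fromSpecStalk] at this
    have hq : (X.fromSpecStalk x) (IsLocalRing.closedPoint _) = x :=
      Scheme.fromSpecStalk_closedPoint
    have := gen_eq x _ hx hp
    exact (X.fromSpecStalk x).isEmbedding.injective (this.trans hq.symm)
  rw [← mem_nilradical, nilradical_eq_sInf, Ideal.mem_sInf]
  intro J hJ
  have := hsub ⟨J, hJ⟩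
  have h2 : J = IsLocalRing.maximalIdeal _ := congrArg PrimeSpectrum.asIdeal this
  rw [h2]; exact ha

theorem L3 {X : Scheme.{u}} {V : X.Opens} (hV : IsAffineOpen V) (x : X) (hxV : x ∈ V)
    (hx : closure ({x} : Set X) ∈ irreducibleComponents (X : Type u))
    (f : Γ(X, V)) (hf : x ∉ X.basicOpen f) :
    ∃ s : Γ(X, V), x ∈ X.basicOpen s ∧ X.basicOpen s ⊓ X.basicOpen f = ⊥ := by
  have hnu : ¬ IsUnit (X.presheaf.germ V x hxV f) := by
    rwa [← Scheme.mem_basicOpen X f x hxV]
  have hmem : X.presheaf.germ V x hxV f ∈ IsLocalRing.maximalIdeal (X.presheaf.stalk x) :=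
    (IsLocalRing.mem_maximalIdeal _).mpr hnu
  obtain ⟨N, hN⟩ := nilp x hx _ hmem
  letI := TopCat.Presheaf.algebra_section_stalk X.presheaf (⟨x, hxV⟩ : V)
  haveI := hV.isLocalization_stalk ⟨x, hxV⟩
  have h0 : algebraMap Γ(X, V) (X.presheaf.stalk x) (f ^ (N + 1)) = 0 := by
    change X.presheaf.germ V x hxV (f ^ (N + 1)) = 0
    rw [map_pow, pow_succ, hN, zero_mul]
  obtain ⟨⟨s, hs⟩, hs0⟩ := (IsLocalization.map_eq_zero_iff
    (hV.primeIdealOf ⟨x, hxV⟩).asIdeal.primeCompl (X.presheaf.stalk x) _).mp h0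
  refine ⟨s, ?_, ?_⟩
  · rw [Scheme.mem_basicOpen X s x hxV]
    exact IsLocalization.map_units (X.presheaf.stalk x)
      (⟨s, hs⟩ : (hV.primeIdealOf ⟨x, hxV⟩).asIdeal.primeCompl)
  · rw [← X.basicOpen_pow f (Nat.succ_pos N), ← Scheme.basicOpen_mul]
    simp only at hs0
    rw [hs0, Scheme.basicOpen_zero]


theorem L4 {X : Scheme.{u}} [QuasiSeparatedSpace X] {V : X.Opens} (hV : IsAffineOpen V) (x : X)
    (hxV : x ∈ V) (hx : closure ({x} : Set X) ∈ irreducibleComponents (X : Type u))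
    (K : X.Opens) (hK : IsCompact (K : Set X)) (hxK : x ∉ K) :
    ∃ U : X.Opens, IsAffineOpen U ∧ x ∈ U ∧ U ≤ V ∧ U ⊓ K = ⊥ := by
  have hKV : IsCompact ((K : Set X) ∩ V) :=
    QuasiSeparatedSpace.inter_isCompact _ _ K.2 hK V.2 hV.isCompact
  have key : ∃ s : Γ(X, V), x ∈ X.basicOpen s ∧ Disjoint (X.basicOpen s : Set X) ((K : Set X) ∩ V) := by
    refine hKV.induction_on (p := fun S => ∃ s : Γ(X, V), x ∈ X.basicOpen s ∧
      Disjoint (X.basicOpen s : Set X) S) ?_ ?_ ?_ ?_
    · exact ⟨1, by simpa using hxV, by simp⟩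
    · rintro S T hST ⟨s, hs, hd⟩
      exact ⟨s, hs, hd.mono_right hST⟩
    · rintro S T ⟨s, hs, hd⟩ ⟨t, ht, hd'⟩
      refine ⟨s * t, ?_, ?_⟩
      · rw [Scheme.basicOpen_mul]; exact ⟨hs, ht⟩
      · rw [Scheme.basicOpen_mul, Set.disjoint_union_right]
        exact ⟨hd.mono_left Set.inter_subset_left, hd'.mono_left Set.inter_subset_right⟩
    · rintro z ⟨hzK, hzV⟩
      obtain ⟨f, hf1, hf2⟩ := hV.exists_basicOpen_le (V := K ⊓ V) ⟨z, ⟨hzK, hzV⟩⟩ hzV
      have hxf : x ∉ X.basicOpen f := fun h => hxK (hf1 h).1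
      obtain ⟨s, hs, hd⟩ := L3 hV x hxV hx f hxf
      refine ⟨X.basicOpen f, mem_nhdsWithin_of_mem_nhds ((X.basicOpen f).2.mem_nhds hf2), s, hs, ?_⟩
      rw [Set.disjoint_iff_inter_eq_empty, ← Opens.coe_inf, hd]; rfl
  obtain ⟨s, hs, hd⟩ := key
  refine ⟨X.basicOpen s, hV.basicOpen s, hs, X.basicOpen_le s, ?_⟩
  ext z
  simp only [Opens.coe_inf, Set.mem_inter_iff, SetLike.mem_coe, Opens.coe_bot, Set.mem_empty_iff_false,
    iff_false, not_and]
  intro hz hzK
  exact Set.disjoint_left.mp hd hz ⟨hzK, X.basicOpen_le s hz⟩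

theorem main (X : Scheme.{u}) [QuasiSeparatedSpace X] {n : ℕ}
    (η : Fin n → X) (hη : ∀ i, closure ({η i} : Set X) ∈ irreducibleComponents (X : Type u))
    (hinj : Function.Injective η) :
    ∃ U : Fin n → X.Opens, (∀ i, IsAffineOpen (U i) ∧ η i ∈ U i) ∧
      (∀ i j, i ≠ j → Disjoint (U i) (U j)) ∧ IsAffineOpen (⨆ i, U i) := by
  classical
  -- step 0
  have h0 : ∀ i j, i ≠ j → η i ∉ closure ({η j} : Set X) := by
    intro i j hij h
    exact hij (hinj (gen_eq (η i) (η j) (hη i) (specializes_iff_mem_closure.mpr h)).symm)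
  -- step 1
  have h1 : ∀ i, ∃ V : X.Opens, IsAffineOpen V ∧ η i ∈ V ∧ ∀ j, j ≠ i → η j ∉ V := by
    intro i
    let O : X.Opens := ⟨(⋃ j ∈ (Finset.univ.filter (· ≠ i) : Finset (Fin n)), closure ({η j} : Set X))ᶜ,
      (Set.Finite.isClosed_biUnion (Finset.finite_toSet _) (fun j _ => isClosed_closure)).isOpen_compl⟩
    have hiO : η i ∈ O := by
      change η i ∈ (⋃ j ∈ (Finset.univ.filter (· ≠ i) : Finset (Fin n)), closure ({η j} : Set X))ᶜ
      simp only [Set.mem_compl_iff, Set.mem_iUnion, not_exists]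
      intro j hj
      exact h0 i j (by simpa using (Finset.mem_filter.mp hj).2.symm)
    obtain ⟨W, hW, hiW, hWO⟩ := exists_isAffineOpen_mem_and_subset hiO
    refine ⟨W, hW, hiW, fun j hj hjW => ?_⟩
    have : η j ∈ (⋃ j ∈ (Finset.univ.filter (· ≠ i) : Finset (Fin n)), closure ({η j} : Set X))ᶜ :=
      hWO hjW
    apply this
    simp only [Set.mem_iUnion]
    exact ⟨j, by simpa using hj, subset_closure rfl⟩
  choose V hVa hVi hVj using h1
  have h2 : ∀ i, ∃ U : X.Opens, IsAffineOpen U ∧ η i ∈ U ∧ U ≤ V i ∧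
      U ⊓ (⨆ j ∈ (Finset.univ.filter (· ≠ i) : Finset (Fin n)), V j) = ⊥ := by
    intro i
    refine L4 (hVa i) (η i) (hVi i) (hη i) _ ?_ ?_
    · rw [Opens.coe_iSup]
      simp only [Opens.coe_iSup]
      exact (Finset.univ.filter (· ≠ i)).isCompact_biUnion (fun j _ => (hVa j).isCompact)
    · intro h
      rw [Opens.mem_iSup] at h
      obtain ⟨j, hj⟩ := h
      rw [Opens.mem_iSup] at hj
      obtain ⟨hj1, hj2⟩ := hj
      exact hVj j i (by simpa using (Finset.mem_filter.mp hj1).2.symm) hj2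
  choose U hUa hUi hUV hUd using h2
  refine ⟨U, fun i => ⟨hUa i, hUi i⟩, ?_, ?_⟩
  · intro i j hij
    rw [disjoint_iff, eq_bot_iff, ← hUd i]
    refine le_inf inf_le_left (inf_le_right.trans ((hUV j).trans ?_))
    exact le_iSup₂_of_le j (by simpa using hij.symm) le_rfl
  · refine IsAffineOpen.iSup_of_disjoint hUa ?_
    intro i j hij
    rw [Function.onFun, disjoint_iff, eq_bot_iff, ← hUd i]
    refine le_inf inf_le_left (inf_le_right.trans ((hUV j).trans ?_))
    exact le_iSup₂_of_le j (by simpa using hij.symm) le_rfl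

end Aux

/-- Let `X` be a quasi-separated scheme and `η_1, …, η_n` pairwise distinct points, each the generic
point of an irreducible component of `X`. Then there are affine open neighbourhoods `U_i ∋ η_i`
which are pairwise disjoint, and their union is an affine open containing all the `η_i`. -/
theorem result (X : Scheme.{u}) [QuasiSeparatedSpace X] {n : ℕ}
    (η : Fin n → X) (hη : ∀ i, closure ({η i} : Set X) ∈ irreducibleComponents (X : Type u))
    (hinj : Function.Injective η) :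
    ∃ U : Fin n → X.Opens, (∀ i, IsAffineOpen (U i) ∧ η i ∈ U i) ∧
      (∀ i j, i ≠ j → Disjoint (U i) (U j)) ∧ IsAffineOpen (⨆ i, U i) := by
  exact main X η hη hinj

end Groth.Agent.S7385
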