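import Groth.Statements.S7386
import Mathlib

set_option autoImplicit false
universe u
open CategoryTheory AlgebraicGeometry
open Mor

namespace Groth.Agent.S7386


theorem exists_notMem_isNilpotent_mul {B : Type*} [CommRing B] {p : Ideal B}
    (hp : p ∈ minimalPrimes B) {f : B} (hf : f ∈ p) : ∃ s ∉ p, IsNilpotent (s * f) := by
  haveI := hp.1.1
  let L := Localization.AtPrime p
  have hss : Subsingleton (PrimeSpectrum L) :=
    IsLocalization.subsingleton_primeSpectrum_of_mem_minimalPrimes p hp L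
  have hnil : IsNilpotent (algebraMap B L f) := by
    rw [← mem_nilradical, nilradical_eq_sInf, Ideal.mem_sInf]
    intro q hq
    have hq' : q.IsPrime := hq
    have : (⟨q, hq'⟩ : PrimeSpectrum L) = ⟨IsLocalRing.maximalIdeal L, inferInstance⟩ :=
      Subsingleton.elim _ _
    have hqe : q = IsLocalRing.maximalIdeal L := congrArg PrimeSpectrum.asIdeal this
    rw [hqe]
    rw [← Localization.AtPrime.under_maximalIdeal (I := p)] at hf
    exact hf
  obtain ⟨n, hn⟩ := hnil
  rw [← map_pow, IsLocalization.map_eq_zero_iff p.primeCompl] at hn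
  obtain ⟨s, hs⟩ := hn
  refine ⟨s.1, s.2, n + 1, ?_⟩
  rw [mul_pow, pow_succ, pow_succ]
  calc s.1 ^ n * s.1 * (f ^ n * f) = (s.1 ^ n * f) * (s.1 * f ^ n) := by ring
    _ = 0 := by rw [hs, mul_zero]

theorem exists_basicOpen_disjoint {B : Type*} [CommRing B] (p : PrimeSpectrum B)
    (hp : p.asIdeal ∈ minimalPrimes B) (W : Set (PrimeSpectrum B)) (hW : IsCompact W)
    (hWo : IsOpen W) (hpW : p ∉ W) :
    ∃ s : B, s ∉ p.asIdeal ∧ Disjoint (PrimeSpectrum.basicOpen s : Set (PrimeSpectrum B)) W := by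
  classical
  obtain ⟨t, rfl⟩ := PrimeSpectrum.isCompact_isOpen_iff.mp ⟨hW, hWo⟩
  have hpt : (t : Set B) ⊆ p.asIdeal := by
    simpa [PrimeSpectrum.mem_zeroLocus] using hpW
  choose! σ hσ1 hσ2 using fun f (hf : f ∈ t) => exists_notMem_isNilpotent_mul hp (hpt hf)
  refine ⟨∏ f ∈ t, σ f, ?_, ?_⟩
  · intro h
    obtain ⟨f, hf, hfp⟩ := (Ideal.IsPrime.prod_mem_iff (hp := p.isPrime)).mp h
    exact hσ1 f hf hfp
  · rw [Set.disjoint_left]
    intro q hq hq2
    apply hq2
    rw [PrimeSpectrum.mem_zeroLocus]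
    intro f hf
    by_contra hfq
    have h1 : σ f ∉ q.asIdeal := by
      intro h
      apply hq
      exact Ideal.mem_of_dvd _ (Finset.dvd_prod_of_mem σ hf) h
    have h2 : σ f * f ∈ q.asIdeal := by
      obtain ⟨n, hn⟩ := hσ2 f hf
      exact q.isPrime.mem_of_pow_mem n (hn ▸ q.asIdeal.zero_mem)
    rcases q.isPrime.mem_or_mem h2 with h | h
    · exact h1 h
    · exact hfq h

theorem eq_of_specializes_of_closure_mem {T : Type*} [TopologicalSpace T] [T0Space T] {y y' : T}
    (hy : closure {y} ∈ irreducibleComponents T) (h : y' ⤳ y) : y' = y := by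
  have h1 : closure {y} ⊆ closure {y'} := specializes_iff_closure_subset.1 h
  have h2 : closure {y'} ⊆ closure {y} := hy.2 isIrreducible_singleton.closure h1
  exact (h.antisymm (specializes_iff_closure_subset.2 h2)).eq

theorem exists_affine_disjoint (X : Scheme.{u}) [QuasiSeparatedSpace X] (U : X.Opens)
    (hU : IsCompact (U : Set X)) (η : X) (hη : closure ({η} : Set X) ∈ irreducibleComponents (X : Type u))
    (hηU : η ∉ U) : ∃ V : X.Opens, IsAffineOpen V ∧ η ∈ V ∧ Disjoint U V := by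
  obtain ⟨_, ⟨V : X.Opens, hV, rfl⟩, hηV, -⟩ :=
    X.isBasis_affineOpens.exists_subset_of_mem_open (Set.mem_univ η) isOpen_univ
  let φ := hV.fromSpec
  let p := hV.primeIdealOf ⟨η, hηV⟩
  have hφp : φ p = η := hV.fromSpec_primeIdealOf ⟨η, hηV⟩
  have hinj : Function.Injective φ := φ.isOpenEmbedding.injective
  have hmin : p.asIdeal ∈ minimalPrimes Γ(X, V) := by
    refine ⟨⟨p.isPrime, bot_le⟩, fun q hq hqp => ?_⟩
    have h1 : (⟨q, hq.1⟩ : PrimeSpectrum Γ(X, V)) ⤳ p :=
      (PrimeSpectrum.le_iff_specializes ⟨q, hq.1⟩ p).1 hqp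
    have h2 : φ (⟨q, hq.1⟩ : PrimeSpectrum Γ(X, V)) ⤳ φ p := h1.map φ.continuous
    rw [hφp] at h2
    have h3 := eq_of_specializes_of_closure_mem hη h2
    rw [← hφp] at h3
    have h4 := hinj h3
    rw [← h4]
  have hWc : IsCompact (φ ⁻¹' (U : Set X)) := by
    have h1 : IsCompact ((U : Set X) ∩ (V : Set X)) :=
      QuasiSeparatedSpace.inter_isCompact _ _ U.2 hU V.2 hV.isCompact
    have h2 : φ ⁻¹' ((U : Set X) ∩ (V : Set X)) = φ ⁻¹' (U : Set X) := by
      ext x
      simp only [Set.mem_preimage, Set.mem_inter_iff, and_iff_left_iff_imp]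
      intro _
      have : φ x ∈ Set.range φ := ⟨x, rfl⟩
      rw [hV.range_fromSpec] at this
      exact this
    rw [← h2]
    refine (φ.isOpenEmbedding.isInducing.isCompact_preimage_iff ?_).mpr h1
    rw [hV.range_fromSpec]
    exact Set.inter_subset_right
  have hWo : IsOpen (φ ⁻¹' (U : Set X)) := U.2.preimage φ.continuous
  have hpW : p ∉ φ ⁻¹' (U : Set X) := by
    show φ p ∉ U
    rw [hφp]; exact hηU
  obtain ⟨s, hs, hdisj⟩ := exists_basicOpen_disjoint p hmin _ hWc hWo hpW
  refine ⟨X.basicOpen s, hV.basicOpen s, ?_, ?_⟩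
  · rw [← hV.fromSpec_image_basicOpen]
    exact ⟨p, hs, hφp⟩
  · rw [← hV.fromSpec_image_basicOpen]
    rw [disjoint_iff]
    ext x
    simp only [TopologicalSpace.Opens.coe_inf, Set.mem_inter_iff, SetLike.mem_coe, TopologicalSpace.Opens.coe_bot, Set.mem_empty_iff_false, iff_false, not_and]
    rintro hxU ⟨q, hq, rfl⟩
    exact Set.disjoint_left.mp hdisj hq hxU

theorem main (X : Scheme.{u}) [QuasiSeparatedSpace X] (x : X) (S : Finset X)
    (hS : ∀ η ∈ S, closure ({η} : Set X) ∈ irreducibleComponents (X : Type u)) :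
    ∃ U : X.Opens, IsAffineOpen U ∧ x ∈ U ∧ ∀ η ∈ S, η ∈ U := by
  classical
  induction S using Finset.induction_on with
  | empty =>
    obtain ⟨_, ⟨V : X.Opens, hV, rfl⟩, hxV, -⟩ :=
      X.isBasis_affineOpens.exists_subset_of_mem_open (Set.mem_univ x) isOpen_univ
    exact ⟨V, hV, hxV, by simp⟩
  | insert a S ha ih =>
    obtain ⟨U, hU, hxU, hSU⟩ := ih (fun η hη => hS η (Finset.mem_insert_of_mem hη))
    by_cases haU : a ∈ U
    · refine ⟨U, hU, hxU, ?_⟩
      intro η hη
      rcases Finset.mem_insert.mp hη with rfl | h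
      · exact haU
      · exact hSU η h
    · obtain ⟨V, hV, haV, hdisj⟩ := exists_affine_disjoint X U hU.isCompact a
        (hS a (Finset.mem_insert_self a S)) haU
      refine ⟨U ⊔ V, hU.sup_of_disjoint hV hdisj, Or.inl hxU, ?_⟩
      intro η hη
      rcases Finset.mem_insert.mp hη with rfl | h
      · exact Or.inr haV
      · exact Or.inl (hSU η h)

/-- Let `X` be a quasi-separated scheme, `η_1, …, η_n` generic points of irreducible components of `X`
and `x` any point of `X`. Then some affine open of `X` contains `x` and all the `η_i`. -/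
theorem result (X : Scheme.{u}) [QuasiSeparatedSpace X] {n : ℕ}
    (η : Fin n → X) (hη : ∀ i, closure ({η i} : Set X) ∈ irreducibleComponents (X : Type u)) (x : X) :
    ∃ U : X.Opens, IsAffineOpen U ∧ x ∈ U ∧ ∀ i, η i ∈ U := by
  classical
  obtain ⟨U, hU, hxU, hSU⟩ := main X x (Finset.univ.image η) (by
    intro e he
    obtain ⟨i, -, rfl⟩ := Finset.mem_image.mp he
    exact hη i)
  exact ⟨U, hU, hxU, fun i => hSU _ (Finset.mem_image_of_mem η (Finset.mem_univ i))⟩

end Groth.Agent.S7386
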