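import Groth.Statements.S7387
import Mathlib

set_option autoImplicit false
universe u
open CategoryTheory AlgebraicGeometry
open Mor

namespace Groth.Agent.S7387

section Helpers
open AlgebraicGeometry CategoryTheory Limits TopologicalSpace

lemma isSeparated_of_cover {Y : Scheme.{u}} (𝒲 : Y.OpenCover) [Finite 𝒲.I₀]
    (G : 𝒲.I₀ → Scheme.{u}) [∀ i, IsAffine (G i)] (h : ∀ i, 𝒲.X i ⟶ G i)
    (hinj : ∀ i, Function.Injective (h i))
    (hdisj : ∀ i j, i ≠ j → IsEmpty ↑(pullback (𝒲.f i) (𝒲.f j))) : Y.IsSeparated := by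
  let g0 : ∀ i, 𝒲.X i ⟶ ∐ G := fun i => h i ≫ Sigma.ι G i
  have hg0 : ∀ i j, pullback.fst (𝒲.f i) (𝒲.f j) ≫ g0 i = pullback.snd _ _ ≫ g0 j := by
    intro i j
    by_cases hij : i = j
    · subst hij
      have : pullback.fst (𝒲.f i) (𝒲.f i) = pullback.snd _ _ := by
        rw [← cancel_mono (𝒲.f i)]; exact pullback.condition
      rw [this]
    · have := hdisj i j hij
      exact isInitialOfIsEmpty.hom_ext _ _
  let g : Y ⟶ ∐ G := 𝒲.glueMorphisms g0 hg0
  have hg : ∀ i, 𝒲.f i ≫ g = g0 i := fun i => 𝒲.ι_glueMorphisms g0 hg0 i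
  have hinj : Function.Injective g := by
    intro x y hxy
    obtain ⟨i, a, rfl⟩ := 𝒲.exists_eq x
    obtain ⟨j, b, rfl⟩ := 𝒲.exists_eq y
    have e1 : g (𝒲.f i a) = Sigma.ι G i (h i a) := by
      rw [← Scheme.Hom.comp_apply, hg]; rfl
    have e2 : g (𝒲.f j b) = Sigma.ι G j (h j b) := by
      rw [← Scheme.Hom.comp_apply, hg]; rfl
    rw [e1, e2, sigmaι_eq_iff] at hxy
    obtain ⟨rfl, h'⟩ := Sigma.mk.inj_iff.mp hxy
    have : a = b := hinj i (eq_of_heq h')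
    rw [this]
  have : IsSeparated g := isSeparated_of_injective g hinj
  refine ⟨?_⟩
  rw [← terminal.comp_from g]
  infer_instance

lemma aux_disj {X : Scheme.{u}} {A B W : X.Opens} (hA : A ≤ W) (hB : B ≤ W) (hAB : Disjoint A B)
    {P : Scheme.{u}} (p1 : P ⟶ A.toScheme) (p2 : P ⟶ B.toScheme)
    (hc : p1 ≫ X.homOfLE hA = p2 ≫ X.homOfLE hB) (z : P) : False := by
  have h1 : (p1 ≫ X.homOfLE hA ≫ W.ι) z ∈ A := by
    rw [X.homOfLE_ι]
    exact (p1 z).2
  have h2 : (p1 ≫ X.homOfLE hA ≫ W.ι) z ∈ B := by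
    rw [reassoc_of% hc, X.homOfLE_ι]
    exact (p2 z).2
  exact hAB.le_bot ⟨h1, h2⟩

lemma isSeparated_iSup {X : Scheme.{u}} {σ : Type} [Finite σ] (V U : σ → X.Opens)
    (hU : ∀ i, IsAffineOpen (U i)) (hVU : ∀ i, V i ≤ U i)
    (hdisj : ∀ i j, i ≠ j → Disjoint (V i) (V j)) :
    (⨆ i, V i : X.Opens).toScheme.IsSeparated := by
  have : Finite (Scheme.Opens.iSupOpenCover V).I₀ := ‹Finite σ›
  have hA : ∀ i : (Scheme.Opens.iSupOpenCover V).I₀,
      IsAffine ((fun i : σ => (U i).toScheme) i) := fun i => hU i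
  refine @isSeparated_of_cover _ (Scheme.Opens.iSupOpenCover V) _ (fun i : σ => (U i).toScheme) hA
    (fun i : σ => X.homOfLE (hVU i)) (fun i : σ => (X.homOfLE (hVU i)).isOpenEmbedding.injective) ?_
  intro (i : σ) (j : σ) hij
  refine ⟨fun z => ?_⟩
  exact aux_disj (le_iSup V i) (le_iSup V j) (hdisj i j hij) _ _ pullback.condition z

theorem main (X : Scheme.{u}) [CompactSpace X] :
    ∃ V : X.Opens, Dense (V : Set X) ∧ (V : Scheme.{u}).IsSeparated := by
  obtain ⟨s, hs, hs'⟩ := isCompact_and_isOpen_iff_finite_and_eq_biUnion_affineOpens.mp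
    ⟨isCompact_univ (X := X), isOpen_univ⟩
  have := hs.to_subtype
  obtain ⟨n, ⟨e⟩⟩ := Finite.exists_equiv_fin ↥s
  let U : Fin n → X.Opens := fun i => (e.symm i).1.1
  have hU : ∀ i, IsAffineOpen (U i) := fun i => (e.symm i).1.2
  have hcov : ∀ x : X, ∃ i, x ∈ U i := by
    intro x
    have : x ∈ ⋃ i ∈ s, (i : Set X) := hs' ▸ Set.mem_univ x
    simp only [Set.mem_iUnion] at this
    obtain ⟨a, ha, hxa⟩ := this
    exact ⟨e ⟨a, ha⟩, by simpa [U] using hxa⟩
  let C : Fin n → Set X := fun i => closure (⋃ j, ⋃ (_ : j < i), (U j : Set X))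
  let V : Fin n → X.Opens := fun i =>
    ⟨(U i : Set X) ∩ (C i)ᶜ, (U i).2.inter isClosed_closure.isOpen_compl⟩
  have hVU : ∀ i, V i ≤ U i := fun i x hx => hx.1
  have key : ∀ i j, i < j → Disjoint (V i) (V j) := by
    intro i j hij
    refine disjoint_iff_inf_le.mpr (fun x hx => ?_)
    exact (hx.2.2 (subset_closure (Set.mem_iUnion₂.mpr ⟨i, hij, hx.1.1⟩))).elim
  have hdisj : ∀ i j, i ≠ j → Disjoint (V i) (V j) := by
    intro i j hij
    rcases lt_or_gt_of_ne hij with h | h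
    · exact key i j h
    · exact (key j i h).symm
  refine ⟨⨆ i, V i, ?_, isSeparated_iSup V U hU hVU hdisj⟩
  rw [dense_iff_inter_open]
  intro O hO hne
  let S : Set (Fin n) := {i | (O ∩ (U i : Set X)).Nonempty}
  have hSne : S.Nonempty := by
    obtain ⟨x, hx⟩ := hne
    obtain ⟨i, hi⟩ := hcov x
    exact ⟨i, x, hx, hi⟩
  obtain ⟨i, hi, hmin⟩ := wellFounded_lt.has_min S hSne
  obtain ⟨y, hyO, hyU⟩ := hi
  have hyC : y ∉ C i := by
    intro hyC
    obtain ⟨w, ⟨hwO, hwU⟩, hw⟩ :=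
      mem_closure_iff.mp hyC (O ∩ (U i : Set X)) (hO.inter (U i).2) ⟨hyO, hyU⟩
    obtain ⟨j, hji, hwj⟩ := Set.mem_iUnion₂.mp hw
    exact hmin j ⟨w, hwO, hwj⟩ hji
  refine ⟨y, hyO, ?_⟩
  exact Opens.mem_iSup.mpr ⟨i, hyU, hyC⟩

end Helpers


/-- A quasi-compact scheme has a dense open subscheme which is separated. -/
theorem result (X : Scheme.{u}) [CompactSpace X] :
    ∃ V : X.Opens, Dense (V : Set X) ∧ (V : Scheme.{u}).IsSeparated := by
  exact main X

end Groth.Agent.S7387
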