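import Groth.Statements.S7388
import Mathlib

set_option autoImplicit false
universe u
open CategoryTheory AlgebraicGeometry
open Mor

namespace Groth.Agent.S7388

section Helpers

open AlgebraicGeometry CategoryTheory Limits TopologicalSpace

variable {R A : Type u} [CommRing R] [CommRing A] [Algebra R A]
  (𝒜 : ℕ → Submodule R A) [GradedAlgebra 𝒜]

lemma pos_notMem (x : Proj 𝒜) :
    ∃ (f : A) (m : ℕ) (_ : f ∈ 𝒜 m) (_ : 0 < m), f ∉ x.asHomogeneousIdeal := by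
  classical
  by_contra! H
  refine x.not_irrelevant_le fun z hz ↦ ?_
  rw [← DirectSum.sum_support_decompose 𝒜 z]
  exact x.1.toIdeal.sum_mem fun k hk ↦ H _ k (SetLike.coe_mem _) <| by_contra <| by aesop

lemma nbhd (W : (Proj 𝒜).Opens) (x : Proj 𝒜) (hx : x ∈ W) :
    ∃ (t : A) (m : ℕ), t ∈ 𝒜 m ∧ 0 < m ∧ x ∈ Proj.basicOpen 𝒜 t ∧ Proj.basicOpen 𝒜 t ≤ W := by
  obtain ⟨_, ⟨f, rfl⟩, hxf, hfW⟩ := Opens.isBasis_iff_nbhd.mp (Proj.isBasis_basicOpen 𝒜) hx
  have hle : ∀ i, Proj.basicOpen 𝒜 (GradedRing.proj 𝒜 i f) ≤ Proj.basicOpen 𝒜 f := by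
    intro i
    rw [Proj.basicOpen_eq_iSup_proj 𝒜 f]
    exact le_iSup (fun i => Proj.basicOpen 𝒜 (GradedRing.proj 𝒜 i f)) i
  rw [Proj.basicOpen_eq_iSup_proj] at hxf
  obtain ⟨i, hi⟩ := Opens.mem_iSup.mp hxf
  obtain ⟨s, n, hs, hn, hxs⟩ := pos_notMem 𝒜 x
  refine ⟨GradedRing.proj 𝒜 i f * s, i + n, ?_, by omega, ?_, ?_⟩
  · exact SetLike.mul_mem_graded (by rw [GradedRing.proj_apply]; exact SetLike.coe_mem _) hs
  · rw [Proj.basicOpen_mul]
    exact ⟨hi, (Proj.mem_basicOpen 𝒜 s x).mpr hxs⟩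
  · rw [Proj.basicOpen_mul]
    exact inf_le_left.trans ((hle i).trans hfW)

lemma homog_notMem (q p : Proj 𝒜) (h : ¬ q.asHomogeneousIdeal ≤ p.asHomogeneousIdeal) :
    ∃ (h₀ : A) (m : ℕ), h₀ ∈ 𝒜 m ∧ h₀ ∈ q.asHomogeneousIdeal ∧ h₀ ∉ p.asHomogeneousIdeal := by
  classical
  by_contra! H
  apply h
  intro z hz
  rw [← DirectSum.sum_support_decompose 𝒜 z]
  refine p.asHomogeneousIdeal.toIdeal.sum_mem fun k _ ↦ ?_
  exact H _ k (SetLike.coe_mem _) (q.asHomogeneousIdeal.isHomogeneous k hz)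


theorem hpa (W : (Proj 𝒜).Opens) : ∀ (E : Finset (Proj 𝒜)), (∀ x ∈ E, x ∈ W) →
    ∃ (f : A) (m : ℕ), f ∈ 𝒜 m ∧ 0 < m ∧ (∀ x ∈ E, x ∈ Proj.basicOpen 𝒜 f) ∧
      Proj.basicOpen 𝒜 f ≤ W := by
  classical
  intro E
  induction E using Finset.strongInduction with
  | H E ih =>
    intro hE
    rcases E.eq_empty_or_nonempty with rfl | hne
    · exact ⟨0, 1, zero_mem _, one_pos, by simp, by rw [Proj.basicOpen_zero]; exact bot_le⟩
    obtain ⟨p, hpE, hpmin⟩ := E.exists_minimalFor (fun x => x.asHomogeneousIdeal) hne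
    obtain ⟨g, a, hga, ha, hgE, hgW⟩ := ih (E.erase p) (Finset.erase_ssubset hpE)
      (fun x hx => hE x (Finset.mem_of_mem_erase hx))
    by_cases hgp : p ∈ Proj.basicOpen 𝒜 g
    · refine ⟨g, a, hga, ha, fun x hx => ?_, hgW⟩
      by_cases hxp : x = p
      · rw [hxp]; exact hgp
      · exact hgE x (Finset.mem_erase.mpr ⟨hxp, hx⟩)
    have hgp' : g ∈ p.asHomogeneousIdeal := by
      rwa [Proj.mem_basicOpen, not_not] at hgp
    have hq : ∀ q ∈ E.erase p, ∃ (h₀ : A) (m : ℕ), h₀ ∈ 𝒜 m ∧ h₀ ∈ q.asHomogeneousIdeal ∧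
        h₀ ∉ p.asHomogeneousIdeal := by
      intro q hq
      apply homog_notMem
      intro hle
      have hge := hpmin (Finset.mem_of_mem_erase hq) hle
      exact (Finset.mem_erase.mp hq).1 (ProjectiveSpectrum.ext (le_antisymm hle hge))
    choose! h₀ d hd hh₀q hh₀p using hq
    obtain ⟨t, n, ht, hn, hpt, htW⟩ := nbhd 𝒜 W p (hE p hpE)
    obtain ⟨h, hh⟩ : ∃ h, h = (∏ q ∈ E.erase p, h₀ q) * t := ⟨_, rfl⟩
    obtain ⟨D, hD⟩ : ∃ D, D = (∑ q ∈ E.erase p, d q) + n := ⟨_, rfl⟩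
    have hdeg : h ∈ 𝒜 D := by
      rw [hh, hD]
      exact SetLike.mul_mem_graded (SetLike.prod_mem_graded _ _ _ (fun q hq => hd q hq)) ht
    have hDpos : 0 < D := by omega
    have hhp : h ∉ p.asHomogeneousIdeal := by
      intro hmem
      rw [hh] at hmem
      rcases p.isPrime.mem_or_mem hmem with h1 | h1
      · obtain ⟨q, hq, hq'⟩ := (p.isPrime.prod_mem_iff).mp h1
        exact hh₀p q hq hq'
      · exact (Proj.mem_basicOpen 𝒜 t p).mp hpt h1
    have hhq : ∀ q ∈ E.erase p, h ∈ q.asHomogeneousIdeal := by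
      intro q hq
      rw [hh]
      obtain ⟨c, hc⟩ := Finset.dvd_prod_of_mem h₀ hq
      rw [hc]
      exact Ideal.mul_mem_right _ _ (Ideal.mul_mem_right _ _ (hh₀q q hq))
    have hht : Proj.basicOpen 𝒜 h ≤ W := by
      rw [hh, Proj.basicOpen_mul]
      exact inf_le_right.trans htW
    refine ⟨g ^ D + h ^ a, a * D, ?_, Nat.mul_pos ha hDpos, ?_, ?_⟩
    · refine add_mem ?_ ?_
      · have := SetLike.pow_mem_graded D hga
        rwa [smul_eq_mul, mul_comm] at this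
      · have := SetLike.pow_mem_graded a hdeg
        rwa [smul_eq_mul] at this
    · intro x hx
      rw [Proj.mem_basicOpen]
      intro hmem
      by_cases hxp : x = p
      · rw [hxp] at hmem
        have h1 : g ^ D ∈ p.asHomogeneousIdeal.toIdeal := Ideal.pow_mem_of_mem _ hgp' D hDpos
        have h2 : h ^ a ∈ p.asHomogeneousIdeal.toIdeal := by
          have := Ideal.sub_mem _ hmem h1
          rwa [add_sub_cancel_left] at this
        exact hhp (p.isPrime.mem_of_pow_mem a h2)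
      · have hxE : x ∈ E.erase p := Finset.mem_erase.mpr ⟨hxp, hx⟩
        have h1 : h ^ a ∈ x.asHomogeneousIdeal.toIdeal := Ideal.pow_mem_of_mem _ (hhq x hxE) a ha
        have h2 : g ^ D ∈ x.asHomogeneousIdeal.toIdeal := by
          have := Ideal.sub_mem _ hmem h1
          rwa [add_sub_cancel_right] at this
        exact (Proj.mem_basicOpen 𝒜 g x).mp (hgE x hxE) (x.isPrime.mem_of_pow_mem D h2)
    · intro x hx
      rw [Proj.mem_basicOpen] at hx
      by_cases hgx : g ∈ x.asHomogeneousIdeal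
      · by_cases hhx : h ∈ x.asHomogeneousIdeal
        · exact (hx (Ideal.add_mem _ (Ideal.pow_mem_of_mem _ hgx D hDpos)
            (Ideal.pow_mem_of_mem _ hhx a ha))).elim
        · exact hht ((Proj.mem_basicOpen 𝒜 h x).mpr hhx)
      · exact hgW ((Proj.mem_basicOpen 𝒜 g x).mpr hgx)


theorem main7388 {X : Scheme.{u}} (ι : X ⟶ Proj 𝒜) [IsImmersion ι] (E : Set X) (hE : E.Finite) :
    ∃ U : X.Opens, IsAffineOpen U ∧ E ⊆ U := by
  classical
  have hEW : ∀ x ∈ (hE.image ι).toFinset, x ∈ ι.coborderRange := by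
    intro x hx
    rw [Set.Finite.mem_toFinset] at hx
    obtain ⟨e, _, rfl⟩ := hx
    exact subset_coborder ⟨e, rfl⟩
  obtain ⟨f, m, hfm, hm, hfE, hfW⟩ := hpa 𝒜 ι.coborderRange _ hEW
  refine ⟨ι ⁻¹ᵁ Proj.basicOpen 𝒜 f, ?_, ?_⟩
  · have h1 : IsAffineOpen (Proj.basicOpen 𝒜 f) := Proj.isAffineOpen_basicOpen 𝒜 f hfm hm
    have h2 : IsAffineOpen (ι.coborderRange.ι ⁻¹ᵁ Proj.basicOpen 𝒜 f) :=
      h1.preimage_of_isOpenImmersion _ (by rw [Scheme.Opens.opensRange_ι]; exact hfW)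
    have h3 := h2.preimage ι.liftCoborder
    have h4 : ι.liftCoborder ⁻¹ᵁ (ι.coborderRange.ι ⁻¹ᵁ Proj.basicOpen 𝒜 f) =
        ι ⁻¹ᵁ Proj.basicOpen 𝒜 f := by
      conv_rhs => rw [← ι.liftCoborder_ι]
      rfl
    rw [h4] at h3
    exact h3
  · intro e he
    exact hfE (ι e) ((Set.Finite.mem_toFinset _).mpr ⟨e, he, rfl⟩)

end Helpers


/-- Let `X` be a scheme admitting an immersion into `Proj S` for some graded ring `S`. Then any finite
set of points of `X` is contained in an affine open of `X`. -/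
theorem result {R A : Type u} [CommRing R] [CommRing A] [Algebra R A]
    (𝒜 : ℕ → Submodule R A) [GradedAlgebra 𝒜] {X : Scheme.{u}} (ι : X ⟶ Proj 𝒜) [IsImmersion ι]
    (E : Set X) (hE : E.Finite) :
    ∃ U : X.Opens, IsAffineOpen U ∧ E ⊆ U := by
  exact main7388 𝒜 ι E hE

end Groth.Agent.S7388
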