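import Groth.Statements.S7389
import Mathlib

set_option autoImplicit false
universe u
open CategoryTheory AlgebraicGeometry
open Mor

namespace Groth.Agent.S7389

section Helpers

open CategoryTheory CategoryTheory.Limits AlgebraicGeometry

/-- the prime ideal of global sections vanishing at `y`. -/
noncomputable def pt {Y : Scheme.{u}} (y : Y) : Ideal Γ(Y, ⊤) :=
  (IsLocalRing.maximalIdeal (Y.presheaf.stalk y)).comap (Y.presheaf.germ ⊤ y trivial).hom

instance {Y : Scheme.{u}} (y : Y) : (pt y).IsPrime := by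
  unfold pt; infer_instance

lemma mem_pt {Y : Scheme.{u}} (y : Y) (f : Γ(Y, ⊤)) : f ∈ pt y ↔ y ∉ Y.basicOpen f := by
  rw [Scheme.mem_basicOpen_top]
  unfold pt
  rw [Ideal.mem_comap, IsLocalRing.mem_maximalIdeal, mem_nonunits_iff]

/-- In an affine scheme, a finite set of points in an open `W` is contained in a basic open
contained in `W`. -/
lemma exists_basicOpen {Y : Scheme.{u}} [IsAffine Y] (W : Y.Opens) (F : Set Y) (hF : F.Finite)
    (hFW : F ⊆ W) : ∃ g : Γ(Y, ⊤), Y.basicOpen g ≤ W ∧ F ⊆ Y.basicOpen g := by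
  rcases F.eq_empty_or_nonempty with rfl | ⟨y0, hy0⟩
  · exact ⟨0, by simp, by simp⟩
  obtain ⟨I, hI⟩ := (Y.eq_zeroLocus_of_isClosed_of_isAffine (W : Set Y)ᶜ).mp
    W.isOpen.isClosed_compl
  have hnot : ¬ ((I : Set Γ(Y, ⊤)) ⊆ ⋃ y ∈ F, (pt y : Set Γ(Y, ⊤))) := by
    rw [Ideal.subset_union_prime_finite hF (f := fun y => pt y) y0 y0 (fun y _ _ _ => inferInstance)]
    rintro ⟨y, hy, hle⟩
    have : y ∈ (W : Set Y)ᶜ := by
      rw [hI, Scheme.mem_zeroLocus_iff]
      intro f hf
      exact (mem_pt y f).mp (hle hf)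
    exact this (hFW hy)
  rw [Set.not_subset] at hnot
  obtain ⟨g, hgI, hg⟩ := hnot
  refine ⟨g, ?_, ?_⟩
  · intro y hy
    by_contra hyW
    have : y ∈ (W : Set Y)ᶜ := hyW
    rw [hI, Scheme.mem_zeroLocus_iff] at this
    exact this g hgI hy
  · intro y hy
    by_contra hyg
    apply hg
    simp only [Set.mem_iUnion]
    exact ⟨y, hy, (mem_pt y g).mpr hyg⟩

theorem main {X Y : Scheme.{u}} [IsAffine Y] (ι : X ⟶ Y) [IsImmersion ι] (E : Set X)
    (hE : E.Finite) : ∃ U : X.Opens, IsAffineOpen U ∧ E ⊆ U := by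
  obtain ⟨g, hgW, hgE⟩ := exists_basicOpen ι.coborderRange (ι '' E) (hE.image _) (by
    rintro _ ⟨x, -, rfl⟩
    exact subset_coborder ⟨x, rfl⟩)
  have hD : IsAffineOpen (Y.basicOpen g) := (isAffineOpen_top Y).basicOpen g
  refine ⟨ι ⁻¹ᵁ Y.basicOpen g, ?_, fun x hx => hgE ⟨x, hx, rfl⟩⟩
  have : IsAffine (Y.basicOpen g : Scheme) := hD
  have hci : IsClosedImmersion (ι ∣_ Y.basicOpen g) := by
    apply IsClosedImmersion.of_isPreimmersion
    have h1 : IsClosed (Subtype.val ⁻¹' (Set.range ι) : Set (coborder (Set.range ι))) :=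
      isClosed_preimage_val_coborder
    have hle : (Y.basicOpen g : Set Y) ⊆ coborder (Set.range ι) := hgW
    have : Set.range (ι ∣_ Y.basicOpen g) =
        (Set.inclusion hle) ⁻¹' (Subtype.val ⁻¹' (Set.range ι)) := by
      ext ⟨y, hy⟩
      simp only [Set.mem_range, Set.mem_preimage, Set.inclusion_mk]
      constructor
      · rintro ⟨x, hx⟩
        refine ⟨x.1, ?_⟩
        rw [← morphismRestrict_base_coe, hx]
      · rintro ⟨x, hx⟩
        have hxm : x ∈ ι ⁻¹ᵁ Y.basicOpen g := by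
          change ι x ∈ Y.basicOpen g
          rw [hx]; exact hy
        refine ⟨⟨x, hxm⟩, Subtype.ext ?_⟩
        rw [morphismRestrict_base_coe]; exact hx
    rw [this]
    exact h1.preimage (continuous_inclusion hle)
  exact isAffine_of_isAffineHom (ι ∣_ Y.basicOpen g)

end Helpers

/-- Let `X` be a scheme admitting an immersion into an affine scheme. Then any finite set of points of
`X` is contained in an affine open of `X`. -/
theorem result {X Y : Scheme.{u}} [IsAffine Y] (ι : X ⟶ Y)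
    [IsImmersion ι] (E : Set X) (hE : E.Finite) :
    ∃ U : X.Opens, IsAffineOpen U ∧ E ⊆ U := by
  exact main ι E hE

end Groth.Agent.S7389
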