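import Groth.Statements.S7392
import Groth.Agent.Lib.helper9.TildeProj

set_option autoImplicit false
universe u
open CategoryTheory AlgebraicGeometry
open Opposite
open Mor

namespace Groth.Agent.S7392

/-- For a ring `A` and an `A`-module `M`, the module `M~` on `Spec A` is locally projective (projective
sections over every affine open) if and only if `M` is a projective `A`-module. -/
theorem result (A : CommRingCat.{u}) (M : ModuleCat.{u} A) :
    (∀ U : (Spec A).Opens, IsAffineOpen U →
      Module.Projective ((Spec A).ringCatSheaf.obj.obj (op U)) ((tilde M).val.obj (op U))) ↔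
      Module.Projective A M := by
  constructor
  · intro h
    haveI hproj : Module.Projective Γ(Spec A, ⊤) Γ(tilde M, ⊤) := h ⊤ (isAffineOpen_top (Spec A))
    let σ : Γ(Spec A, ⊤) →+* A := (Scheme.ΓSpecIso A).hom.hom
    let σ' : A →+* Γ(Spec A, ⊤) := (Scheme.ΓSpecIso A).inv.hom
    haveI : RingHomInvPair σ σ' :=
      ⟨RingHom.ext fun x => (Scheme.ΓSpecIso A).hom_inv_id_apply x,
        RingHom.ext fun x => (Scheme.ΓSpecIso A).inv_hom_id_apply x⟩
    haveI : RingHomInvPair σ' σ :=
      ⟨RingHom.ext fun x => (Scheme.ΓSpecIso A).inv_hom_id_apply x,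
        RingHom.ext fun x => (Scheme.ΓSpecIso A).hom_inv_id_apply x⟩
    have key : ∀ (b : Γ(Spec A, ⊤)) (n : Γ(tilde M, ⊤)), (σ b) • n = b • n := by
      intro b n
      rw [Scheme.Modules.smul_Spec_def]
      have h1 : ((Spec A).presheaf.map (⊤ : (Spec A).Opens).leTop.op)
          ((Scheme.ΓSpecIso A).inv (σ b)) = b := by
        have h : (⊤ : (Spec A).Opens).leTop.op = 𝟙 _ := Subsingleton.elim _ _
        rw [h, (Spec A).presheaf.map_id]
        exact (Scheme.ΓSpecIso A).hom_inv_id_apply b
      rw [h1]
    let e := (tilde.isoTop M).toLinearEquiv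
    let e₂ : Γ(tilde M, ⊤) ≃ₛₗ[σ] M :=
      { toFun := fun n => e.symm n
        map_add' := fun x y => map_add e.symm x y
        map_smul' := fun b n => by
          show e.symm (b • n) = σ b • e.symm n
          rw [← key b n]
          exact e.symm.map_smul (σ b) n
        invFun := fun m => e m
        left_inv := fun n => e.apply_symm_apply n
        right_inv := fun m => e.symm_apply_apply m }
    exact Module.Projective.of_equiv e₂
  · intro h U hU
    exact Groth.Agent.Lib.helper9.TildeProj.projective_sections M hU

end Groth.Agent.S7392
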