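import Groth.Statements.S7394
import Mathlib

set_option autoImplicit false
universe u
open CategoryTheory AlgebraicGeometry
open Lim

namespace Groth.Agent.S7394

section Aux
open CategoryTheory CategoryTheory.Limits AlgebraicGeometry TensorProduct

/-- Embedding a field extension into an algebraically closed field, given enough algebraically
independent elements. -/
theorem exists_algHom' (K L Ω : Type u) [Field K] [Field L] [Field Ω] [IsAlgClosed Ω] [Algebra K L]
    [Algebra K Ω] (ι : Type u) (t : ι → Ω) (ht : AlgebraicIndependent K t) (j : L → ι)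
    (hj : Function.Injective j) :
    Nonempty (L →ₐ[K] Ω) := by
  obtain ⟨s, hs⟩ := exists_isTranscendenceBasis K L
  have hx : AlgebraicIndependent K (fun i : s => t (j i)) :=
    ht.comp (fun i : s => j i) (fun a b hab => Subtype.ext (hj hab))
  have hb : AlgebraicIndependent K ((↑) : s → L) := hs.1
  let φ₀ : IntermediateField.adjoin K (Set.range ((↑) : s → L)) →ₐ[K] Ω :=
    (IsFractionRing.liftAlgHom (algebraicIndependent_iff_injective_aeval.2 hx)).comp hb.reprField
  letI : Algebra (IntermediateField.adjoin K (Set.range ((↑) : s → L))) Ω := φ₀.toRingHom.toAlgebra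
  haveI : IsScalarTower K (IntermediateField.adjoin K (Set.range ((↑) : s → L))) Ω :=
    IsScalarTower.of_algebraMap_eq (fun x => (φ₀.commutes x).symm)
  haveI : Algebra.IsAlgebraic (IntermediateField.adjoin K (Set.range ((↑) : s → L))) L :=
    hs.isAlgebraic_field
  exact ⟨(IsAlgClosed.lift (R := IntermediateField.adjoin K (Set.range ((↑) : s → L))) (S := L)
    (M := Ω)).restrictScalars K⟩

/-- A common algebraically closed extension of a family of field extensions. -/
theorem exists_common (K : Type u) [Field K] {I : Type u} (L : I → Type u) [∀ i, Field (L i)]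
    [∀ i, Algebra K (L i)] :
    ∃ (Ω : Type u) (_ : Field Ω) (_ : Algebra K Ω), ∀ i, Nonempty (L i →ₐ[K] Ω) := by
  let ι := Σ i, L i
  let P := MvPolynomial ι K
  let F := FractionRing P
  let Ω := AlgebraicClosure F
  have h1 : AlgebraicIndependent K (MvPolynomial.X : ι → P) := MvPolynomial.algebraicIndependent_X ι K
  have h2 : AlgebraicIndependent K (fun x : ι => algebraMap P Ω (MvPolynomial.X x)) := by
    have hinj : Function.Injective (algebraMap P Ω) := by
      rw [IsScalarTower.algebraMap_eq P F Ω]
      exact (algebraMap F Ω).injective.comp (IsFractionRing.injective P F)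
    exact h1.map' (f := IsScalarTower.toAlgHom K P Ω) hinj
  refine ⟨Ω, inferInstance, inferInstance, fun i => ?_⟩
  exact exists_algHom' K (L i) Ω ι _ h2 (fun l => ⟨i, l⟩) (fun a b hab => eq_of_heq (Sigma.mk.inj hab).2)

theorem main {S : Scheme.{u}} {I : Type u} (T : I → Over S)
    (hT : ∀ i, IsAffineHom (T i).hom ∧ Surjective (T i).hom) (c : Limits.Fan T) (hc : Limits.IsLimit c) :
    Surjective c.pt.hom := by
  rw [surjective_iff]
  intro s
  have hne : ∀ i, Nonempty ((T i).hom.fiber s) := fun i => by
    haveI := (hT i).2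
    obtain ⟨t, ht⟩ := (T i).hom.surjective s
    have : t ∈ Set.range ((T i).hom.fiberι s) := by rw [Scheme.Hom.range_fiberι]; exact ht
    obtain ⟨p, -⟩ := this
    exact ⟨p⟩
  choose p _ using fun i => (⟨Classical.choice (hne i), trivial⟩ : ∃ _ : (T i).hom.fiber s, True)
  have hψ : ∀ i, ∃ ψ : S.residueField s ⟶ ((T i).hom.fiber s).residueField (p i),
      Spec.map ψ = ((T i).hom.fiber s).fromSpecResidueField (p i) ≫
        (T i).hom.fiberToSpecResidueField s := fun i => Spec.map_surjective _
  choose ψ hψ using hψ
  letI : ∀ i, Algebra (S.residueField s) (((T i).hom.fiber s).residueField (p i)) :=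
    fun i => (ψ i).hom.toAlgebra
  obtain ⟨Ω, _, _, hΩ⟩ := exists_common (S.residueField s)
    (fun i => ((T i).hom.fiber s).residueField (p i))
  choose σ _ using fun i => (⟨Classical.choice (hΩ i), trivial⟩ :
    ∃ _ : ((T i).hom.fiber s).residueField (p i) →ₐ[S.residueField s] Ω, True)
  let b : Spec (CommRingCat.of Ω) ⟶ S :=
    Spec.map (CommRingCat.ofHom (algebraMap (S.residueField s) Ω)) ≫ S.fromSpecResidueField s
  let a : ∀ i, Spec (CommRingCat.of Ω) ⟶ (T i).left := fun i =>
    Spec.map (CommRingCat.ofHom (σ i).toRingHom) ≫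
      ((T i).hom.fiber s).fromSpecResidueField (p i) ≫ (T i).hom.fiberι s
  have ha : ∀ i, a i ≫ (T i).hom = b := fun i => by
    simp only [a, b, Category.assoc]
    rw [Scheme.Hom.fiber_fac, ← Category.assoc (((T i).hom.fiber s).fromSpecResidueField (p i)),
      ← hψ i, ← Category.assoc, ← Spec.map_comp]
    congr 2
    ext x
    exact (σ i).commutes x
  let fan : Fan T := Fan.mk (Over.mk b) (fun i => Over.homMk (a i) (ha i))
  let l := hc.lift fan
  have hl : l.left ≫ c.pt.hom = b := Over.w l
  let pt : Spec (CommRingCat.of Ω) := ⟨⊥, Ideal.isPrime_bot⟩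
  refine ⟨l.left pt, ?_⟩
  rw [← Scheme.Hom.comp_apply, hl]
  show S.fromSpecResidueField s _ = s
  exact Scheme.fromSpecResidueField_apply _ _

end Aux

/-- Let `S` be a scheme and `T_i → S`, `i ∈ I`, surjective affine morphisms. Then any product of the
`T_i` in the category of schemes over `S` maps surjectively onto `S`. -/
theorem result {S : Scheme.{u}} {I : Type u} (T : I → Over S)
    (hT : ∀ i, IsAffineHom (T i).hom ∧ Surjective (T i).hom) (c : Limits.Fan T) (hc : Limits.IsLimit c) :
    Surjective c.pt.hom := by
  exact main T hT c hc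

end Groth.Agent.S7394
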