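import Groth.Statements.S7397
import Mathlib

set_option autoImplicit false
universe u
open Mor

namespace Groth.Agent.S7397

/-- Let `A ⊆ B` be a ring extension and `b ∈ B`, `b ∉ A`, with `b^n, b^(n+1) ∈ A` for some `n ≥ 2`. Then
some `b' ∈ B` with `b' ∉ A` has `b'^2 ∈ A` and `b'^3 ∈ A`. -/
theorem result {B : Type u} [CommRing B] (A : Subring B) (b : B) (hb : b ∉ A)
    (n : ℕ) (hn : 2 ≤ n) (h1 : b ^ n ∈ A) (h2 : b ^ (n + 1) ∈ A) :
    ∃ b' : B, b' ∉ A ∧ b' ^ 2 ∈ A ∧ b' ^ 3 ∈ A := by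
  classical
  -- all large powers are in A
  have hbig : ∀ m : ℕ, n * n ≤ m → b ^ m ∈ A := by
    intro m hm
    have hn0 : 0 < n := by omega
    set q := m / n with hq
    set r := m % n with hr
    have hrn : r < n := Nat.mod_lt _ hn0
    have hqn : n ≤ q := by
      rw [hq]; exact (Nat.le_div_iff_mul_le hn0).mpr hm
    have hm' : m = (q - r) * n + r * (n + 1) := by
      have h1 : m = n * q + r := (Nat.div_add_mod m n).symm
      have h2 : r ≤ q := by omega
      obtain ⟨d, hd⟩ := Nat.exists_eq_add_of_le h2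
      rw [h1, hd]
      have : r + d - r = d := by omega
      rw [this]; ring
    rw [hm', pow_add, pow_mul', pow_mul' b r]
    exact A.mul_mem (A.pow_mem h1 _) (A.pow_mem h2 _)
  let P : ℕ → Prop := fun m => b ^ m ∉ A
  have hP1 : P 1 := by simpa [P] using hb
  have h1le : 1 ≤ n * n := by nlinarith
  set m₀ := Nat.findGreatest P (n * n) with hm₀
  have hPm₀ : P m₀ := Nat.findGreatest_spec h1le hP1
  have hm₀pos : 1 ≤ m₀ := Nat.le_findGreatest h1le hP1
  have hgt : ∀ k, m₀ < k → b ^ k ∈ A := by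
    intro k hk
    by_cases hkn : k ≤ n * n
    · by_contra hcon
      exact Nat.findGreatest_is_greatest hk hkn hcon
    · exact hbig k (by omega)
  refine ⟨b ^ m₀, hPm₀, ?_, ?_⟩
  · rw [← pow_mul]; exact hgt _ (by omega)
  · rw [← pow_mul]; exact hgt _ (by omega)

end Groth.Agent.S7397
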