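import Groth.Statements.S7400
import Groth.Agent.Lib.helper11.Tower
import Groth.Agent.Lib.helper11.AWNRing
import Groth.Agent.S7398

set_option autoImplicit false
universe u
open CategoryTheory AlgebraicGeometry
open Mor

namespace Groth.Agent.S7400


open Groth.Agent.Lib.helper11.UnivHomeo Groth.Agent.Lib.helper11.TrivRes
open Groth.Agent.Lib.helper11.SqCube Groth.Agent.Lib.helper11.UHRing
open Groth.Agent.Lib.helper11.Tower Groth.Agent.Lib.helper11.AWNRing

section
variable {A B : Type u} [CommRing A] [CommRing B]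

theorem TrivAt.div {α : A →+* B} {q : Ideal B} [hq : q.IsPrime] {u v b : B}
    (hu : TrivAt α q u) (hv : TrivAt α q v) (huq : u ∉ q) (h : u * b - v ∈ q) :
    TrivAt α q b := by
  obtain ⟨a₁, s₁, hs₁, h₁⟩ := hu
  obtain ⟨a₂, s₂, hs₂, h₂⟩ := hv
  have ha₁ : α a₁ ∉ q := by
    intro hmem
    have : α s₁ * u ∈ q := by
      have e : α s₁ * u = (α s₁ * u - α a₁) + α a₁ := by ring
      rw [e]
      exact q.add_mem h₁ hmem
    exact (hq.mem_or_mem this).elim hs₁ huq
  refine ⟨a₂ * s₁, s₂ * a₁, ?_, ?_⟩
  · rw [map_mul]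
    exact fun hh => (hq.mem_or_mem hh).elim hs₂ ha₁
  · have e : α (s₂ * a₁) * b - α (a₂ * s₁) =
        -(α s₂ * b) * (α s₁ * u - α a₁) + α s₂ * α s₁ * (u * b - v) +
          α s₁ * (α s₂ * v - α a₂) := by
      simp only [map_mul]
      ring
    rw [e]
    exact q.add_mem (q.add_mem (q.mul_mem_left _ h₁) (q.mul_mem_left _ h)) (q.mul_mem_left _ h₂)

variable [Algebra A B]

/-- the elementary step: squares and cubes lie in the smaller algebra. -/
def P23 (S : Subalgebra A B) (b : B) : Prop := b ^ 2 ∈ S ∧ b ^ 3 ∈ S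

theorem P23_mono : ∀ (S S' : Subalgebra A B) (b : B), S ≤ S' → P23 S b → P23 S' b :=
  fun _ _ _ hle h => ⟨hle h.1, hle h.2⟩

theorem integral_of_good {l : List B} (hl : Good (P23 (A := A)) l) :
    ∀ x ∈ adj A l, IsIntegral A x :=
  hl.induction (fun x => IsIntegral A x) (fun _ => isIntegral_algebraMap)
    (fun _ _ hx hy => hx.add hy) (fun _ _ hx hy => hx.mul hy)
    (fun S b hS hb => IsIntegral.of_pow (n := 2) (by norm_num) (hS _ hb.1))

theorem eq_of_good {l : List B} (hl : Good (P23 (A := A)) l) {K : Type u} [Field K]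
    (σ τ : B →+* K) (h : σ.comp (algebraMap A B) = τ.comp (algebraMap A B)) :
    ∀ x ∈ adj A l, σ x = τ x :=
  hl.induction (fun x => σ x = τ x) (fun a => congrArg (fun f : A →+* K => f a) h)
    (fun x y hx hy => by rw [map_add, map_add, hx, hy])
    (fun x y hx hy => by rw [map_mul, map_mul, hx, hy])
    (fun S b hS hb => eq_of_sq_cube _ _ (by rw [← map_pow, ← map_pow, hS _ hb.1])
      (by rw [← map_pow, ← map_pow, hS _ hb.2]))

theorem trivAt_of_good {l : List B} (hl : Good (P23 (A := A)) l) (q : Ideal B) [hq : q.IsPrime] :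
    ∀ x ∈ adj A l, TrivAt (algebraMap A B) q x :=
  hl.induction (fun x => TrivAt (algebraMap A B) q x)
    (fun a => ⟨a, 1, by rw [map_one]; exact q.one_notMem, by simp⟩)
    (fun _ _ hx hy => hx.add hy) (fun _ _ hx hy => hx.mul hy)
    (fun S b hS hb => by
      by_cases hbq : b ^ 2 ∈ q
      · have : b ∈ q := hq.mem_of_pow_mem 2 hbq
        exact ⟨0, 1, by rw [map_one]; exact q.one_notMem, by simpa using this⟩
      · refine TrivAt.div (hS _ hb.1) (hS _ hb.2) hbq ?_
        have : b ^ 2 * b - b ^ 3 = 0 := by ring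
        rw [this]
        exact q.zero_mem)

theorem uh_val (hyp : Hyp (algebraMap A B)) (R : Subalgebra A B) : UH (R.val : R →+* B) := by
  have h1 : UH (algebraMap A R) := by
    have := hyp.sub R
    rw [uh_iff]
    refine ⟨this.int, this.epi, fun a ha => ?_⟩
    have : a = 0 := this.inj (by rw [ha, map_zero])
    rw [this]
    exact IsNilpotent.zero
  refine uh_cancel (algebraMap A R) _ h1 ?_
  have h2 : UH (algebraMap A B) := by
    rw [uh_iff]
    refine ⟨hyp.int, hyp.epi, fun a ha => ?_⟩
    have : a = 0 := hyp.inj (by rw [ha, map_zero])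
    rw [this]
    exact IsNilpotent.zero
  exact h2

theorem trivRes_val (htr : TrivRes (algebraMap A B)) (R : Subalgebra A B) :
    TrivRes (R.val : R →+* B) := by
  intro q _ b
  obtain ⟨a, s, hs, hmem⟩ := htr q b
  exact ⟨algebraMap A R a, algebraMap A R s, hs, hmem⟩

end

/-- Let `A ⊆ B` be a ring extension. The morphism `Spec B → Spec A` is a universal homeomorphism with
all residue field extensions trivial exactly when each finite subset of `B` is contained in some
`A[b_1, …, b_n] ⊆ B` such that `b_i^2` and `b_i^3` lie in `A[b_1, …, b_{i-1}]` for every `i`. (Here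
`A → B` is an injective ring map and `A[b_1, …, b_{i-1}]` is the `A`-subalgebra generated by the
earlier entries.) -/
theorem result {A B : Type u} [CommRing A] [CommRing B] [Algebra A B]
    (hinj : Function.Injective (algebraMap A B)) :
    (FlatMor.IsUnivHomeo (Spec.map (CommRingCat.ofHom (algebraMap A B))) ∧
      ∀ x : Spec (CommRingCat.of B),
        Function.Surjective ((Spec.map (CommRingCat.ofHom (algebraMap A B))).residueFieldMap x)) ↔
    ∀ E : Finset B, ∃ l : List B, (↑E : Set B) ⊆ Algebra.adjoin A {b : B | b ∈ l} ∧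
      ∀ i : Fin l.length, l.get i ^ 2 ∈ Algebra.adjoin A {b : B | ∃ j : Fin l.length, j < i ∧ b = l.get j} ∧
        l.get i ^ 3 ∈ Algebra.adjoin A {b : B | ∃ j : Fin l.length, j < i ∧ b = l.get j} := by

  constructor
  · rintro ⟨hU, hres⟩
    have hyp : Hyp (algebraMap A B) := hyp_of_univHomeo _ hinj hU
    have htr : TrivRes (algebraMap A B) := (trivRes_iff _).mpr hres
    have hall : ∀ b : B, b ∈ reach (P23_mono (A := A) (B := B)) := by
      by_contra hcon
      push Not at hcon
      obtain ⟨b₀, hb₀⟩ := hcon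
      set R := reach (P23_mono (A := A) (B := B)) with hR
      have hns : ¬ Function.Surjective (R.val : R →+* B) := by
        intro hs
        obtain ⟨r, hr⟩ := hs b₀
        apply hb₀
        rw [← hr]
        exact r.2
      obtain ⟨b, hb, ⟨r₂, h2⟩, ⟨r₃, h3⟩⟩ := Groth.Agent.S7398.result (R.val : R →+* B)
        Subtype.val_injective hns (uh_val hyp R) ((trivRes_iff _).mp (trivRes_val htr R))
      apply hb
      have hbR : b ∈ R := by
        obtain ⟨l₁, hl₁, hm₁⟩ := r₂.2
        obtain ⟨l₂, hl₂, hm₂⟩ := r₃.2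
        refine mem_reach_of_step _ ⟨l₁ ++ l₂, hl₁.append P23_mono hl₂, ?_, ?_⟩
        · rw [← h2]
          exact adj_mono (fun b hb => List.mem_append_left _ hb) hm₁
        · rw [← h3]
          exact adj_mono (fun b hb => List.mem_append_right _ hb) hm₂
      exact ⟨⟨b, hbR⟩, rfl⟩
    intro E
    obtain ⟨l, hE, hl⟩ := exists_good_of_finset P23_mono hall E
    exact ⟨l, hE, (good_iff (P23 (A := A)) l).mpr hl⟩
  · intro h
    have hb : ∀ b : B, ∃ l : List B, Good (P23 (A := A)) l ∧ b ∈ adj A l := by
      intro b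
      obtain ⟨l, hE, hl⟩ := h {b}
      exact ⟨l, (good_iff (P23 (A := A)) l).mp hl, hE (by simp)⟩
    constructor
    · rw [show FlatMor.IsUnivHomeo (Spec.map (CommRingCat.ofHom (algebraMap A B))) ↔
        UH (algebraMap A B) from Iff.rfl, uh_iff]
      refine ⟨?_, ?_, ?_⟩
      · intro b
        obtain ⟨l, hl, hbl⟩ := hb b
        exact integral_of_good hl b hbl
      · intro K _ σ τ hστ
        ext b
        obtain ⟨l, hl, hbl⟩ := hb b
        exact eq_of_good hl σ τ hστ b hbl
      · intro a ha
        have : a = 0 := hinj (by rw [ha, map_zero])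
        rw [this]
        exact IsNilpotent.zero
    · rw [← trivRes_iff]
      intro q _ b
      obtain ⟨l, hl, hbl⟩ := hb b
      exact trivAt_of_good hl q b hbl

end Groth.Agent.S7400
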