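import Groth.Statements.S7401
import Groth.Agent.Lib.helper11.Tower
import Groth.Agent.Lib.helper11.AWNRing
import Groth.Agent.S7399
import Groth.Agent.S7400

set_option autoImplicit false
universe u
open CategoryTheory AlgebraicGeometry
open Mor

namespace Groth.Agent.S7401


open Groth.Agent.Lib.helper11.UnivHomeo Groth.Agent.Lib.helper11.TrivRes
open Groth.Agent.Lib.helper11.SqCube Groth.Agent.Lib.helper11.UHRing
open Groth.Agent.Lib.helper11.Tower Groth.Agent.Lib.helper11.AWNRing
open Groth.Agent.S7400 (uh_val)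

section
variable {A B : Type u} [CommRing A] [CommRing B] [Algebra A B]

/-- the elementary step: squares and cubes, or a prime multiple and a prime power, lie in the
smaller algebra. -/
def PP (S : Subalgebra A B) (b : B) : Prop :=
  (b ^ 2 ∈ S ∧ b ^ 3 ∈ S) ∨ ∃ p : ℕ, p.Prime ∧ (p : B) * b ∈ S ∧ b ^ p ∈ S

theorem PP_mono : ∀ (S S' : Subalgebra A B) (b : B), S ≤ S' → PP S b → PP S' b := by
  rintro S S' b hle (h | ⟨p, hp, h1, h2⟩)
  · exact Or.inl ⟨hle h.1, hle h.2⟩
  · exact Or.inr ⟨p, hp, hle h1, hle h2⟩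

theorem integral_of_good {l : List B} (hl : Good (PP (A := A)) l) :
    ∀ x ∈ adj A l, IsIntegral A x :=
  hl.induction (fun x => IsIntegral A x) (fun _ => isIntegral_algebraMap)
    (fun _ _ hx hy => hx.add hy) (fun _ _ hx hy => hx.mul hy)
    (fun S b hS hb => by
      rcases hb with h | ⟨p, hp, h1, h2⟩
      · exact IsIntegral.of_pow (n := 2) (by norm_num) (hS _ h.1)
      · exact IsIntegral.of_pow hp.pos (hS _ h2))

theorem eq_of_good {l : List B} (hl : Good (PP (A := A)) l) {K : Type u} [Field K]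
    (σ τ : B →+* K) (h : σ.comp (algebraMap A B) = τ.comp (algebraMap A B)) :
    ∀ x ∈ adj A l, σ x = τ x :=
  hl.induction (fun x => σ x = τ x) (fun a => congrArg (fun f : A →+* K => f a) h)
    (fun x y hx hy => by rw [map_add, map_add, hx, hy])
    (fun x y hx hy => by rw [map_mul, map_mul, hx, hy])
    (fun S b hS hb => by
      rcases hb with h | ⟨p, hp, h1, h2⟩
      · exact eq_of_sq_cube _ _ (by rw [← map_pow, ← map_pow, hS _ h.1])
          (by rw [← map_pow, ← map_pow, hS _ h.2])
      · refine Groth.Agent.S7403.eq_of_pow_prime p hp _ _ ?_ ?_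
        · rw [← map_pow, ← map_pow, hS _ h2]
        · have := hS _ h1
          rw [map_mul, map_mul, map_natCast, map_natCast] at this
          exact this)

end

/-- Let `A ⊆ B` be a ring extension. Then `Spec B → Spec A` is a universal homeomorphism if and only if
every finite subset of `B` lies in a subextension `A[b_1, …, b_n]` such that for each `i` either
`b_i^2, b_i^3 ∈ A[b_1, …, b_{i-1}]` or there is a prime number `p` with `p b_i, b_i^p ∈ A[b_1, …,
b_{i-1}]`. -/
theorem result {A B : Type u} [CommRing A] [CommRing B] [Algebra A B]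
    (hinj : Function.Injective (algebraMap A B)) :
    FlatMor.IsUnivHomeo (Spec.map (CommRingCat.ofHom (algebraMap A B))) ↔
    ∀ E : Finset B, ∃ l : List B, (↑E : Set B) ⊆ Algebra.adjoin A {b : B | b ∈ l} ∧
      ∀ i : Fin l.length,
        (l.get i ^ 2 ∈ Algebra.adjoin A {b : B | ∃ j : Fin l.length, j < i ∧ b = l.get j} ∧
          l.get i ^ 3 ∈ Algebra.adjoin A {b : B | ∃ j : Fin l.length, j < i ∧ b = l.get j}) ∨
        ∃ p : ℕ, p.Prime ∧ (p : B) * l.get i ∈ Algebra.adjoin A {b : B | ∃ j : Fin l.length, j < i ∧ b = l.get j} ∧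
          l.get i ^ p ∈ Algebra.adjoin A {b : B | ∃ j : Fin l.length, j < i ∧ b = l.get j} := by

  constructor
  · intro hU
    have hyp : Hyp (algebraMap A B) := hyp_of_univHomeo _ hinj hU
    have hall : ∀ b : B, b ∈ reach (PP_mono (A := A) (B := B)) := by
      by_contra hcon
      push Not at hcon
      obtain ⟨b₀, hb₀⟩ := hcon
      set R := reach (PP_mono (A := A) (B := B)) with hR
      have hns : ¬ Function.Surjective (R.val : R →+* B) := by
        intro hs
        obtain ⟨r, hr⟩ := hs b₀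
        apply hb₀
        rw [← hr]
        exact r.2
      rcases Groth.Agent.S7399.result (R.val : R →+* B)
        Subtype.val_injective hns (uh_val hyp R) with
        ⟨b, hb, ⟨r₂, h2⟩, ⟨r₃, h3⟩⟩ | ⟨p, b, hp, hb, ⟨r₂, h2⟩, ⟨r₃, h3⟩⟩
      · apply hb
        have hbR : b ∈ R := by
          obtain ⟨l₁, hl₁, hm₁⟩ := r₂.2
          obtain ⟨l₂, hl₂, hm₂⟩ := r₃.2
          refine mem_reach_of_step _ ⟨l₁ ++ l₂, hl₁.append PP_mono hl₂, Or.inl ⟨?_, ?_⟩⟩
          · rw [← h2]
            exact adj_mono (fun b hb => List.mem_append_left _ hb) hm₁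
          · rw [← h3]
            exact adj_mono (fun b hb => List.mem_append_right _ hb) hm₂
        exact ⟨⟨b, hbR⟩, rfl⟩
      · apply hb
        have hbR : b ∈ R := by
          obtain ⟨l₁, hl₁, hm₁⟩ := r₂.2
          obtain ⟨l₂, hl₂, hm₂⟩ := r₃.2
          refine mem_reach_of_step _ ⟨l₁ ++ l₂, hl₁.append PP_mono hl₂, Or.inr ⟨p, hp, ?_, ?_⟩⟩
          · rw [← h2]
            exact adj_mono (fun b hb => List.mem_append_left _ hb) hm₁
          · rw [← h3]
            exact adj_mono (fun b hb => List.mem_append_right _ hb) hm₂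
        exact ⟨⟨b, hbR⟩, rfl⟩
    intro E
    obtain ⟨l, hE, hl⟩ := exists_good_of_finset PP_mono hall E
    exact ⟨l, hE, (good_iff (PP (A := A)) l).mpr hl⟩
  · intro h
    have hb : ∀ b : B, ∃ l : List B, Good (PP (A := A)) l ∧ b ∈ adj A l := by
      intro b
      obtain ⟨l, hE, hl⟩ := h {b}
      exact ⟨l, (good_iff (PP (A := A)) l).mp hl, hE (by simp)⟩
    rw [show FlatMor.IsUnivHomeo (Spec.map (CommRingCat.ofHom (algebraMap A B))) ↔
      UH (algebraMap A B) from Iff.rfl, uh_iff]
    refine ⟨?_, ?_, ?_⟩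
    · intro b
      obtain ⟨l, hl, hbl⟩ := hb b
      exact integral_of_good hl b hbl
    · intro K _ σ τ hστ
      ext b
      obtain ⟨l, hl, hbl⟩ := hb b
      exact eq_of_good hl σ τ hστ b hbl
    · intro a ha
      have : a = 0 := hinj (by rw [ha, map_zero])
      rw [this]
      exact IsNilpotent.zero

end Groth.Agent.S7401
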