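import Groth.Statements.S7404
import Groth.Agent.Lib.helper11.UnivHomeo

set_option autoImplicit false
universe u
open CategoryTheory AlgebraicGeometry
open Mor

namespace Groth.Agent.S7404

open Groth.Agent.Lib.helper11.UnivHomeo

section
variable {A B : Type u} [CommRing A] [CommRing B] [Algebra A B] (B' : Subalgebra A B)

theorem hfg : Spec.map (CommRingCat.ofHom (B'.val : B' →+* B)) ≫
    Spec.map (CommRingCat.ofHom (algebraMap A B')) =
      Spec.map (CommRingCat.ofHom (algebraMap A B)) := by
  rw [← Spec.map_comp, ← CommRingCat.ofHom_comp]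
  rfl

theorem isIntegral_sub (h : (algebraMap A B).IsIntegral) : (algebraMap A B').IsIntegral := by
  intro b'
  exact (isIntegral_algHom_iff B'.val Subtype.val_injective).mp (h b'.1)

theorem surj_g (h : (algebraMap A B).IsIntegral) :
    Surjective (Spec.map (CommRingCat.ofHom (B'.val : B' →+* B))) := by
  haveI : Algebra.IsIntegral A B := ⟨h⟩
  haveI : Algebra.IsIntegral B' B := Algebra.IsIntegral.tower_top (R := A)
  refine surjective_SpecMap_of_forall _ fun p => ?_
  haveI := p.2
  obtain ⟨Q, -, hQ, hQ'⟩ := Ideal.exists_ideal_over_prime_of_isIntegral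
    (R := B') (S := B) p.asIdeal (⊥ : Ideal B) (by
      have : RingHom.ker (algebraMap B' B) = ⊥ :=
        (RingHom.injective_iff_ker_eq_bot _).mp Subtype.val_injective
      rw [← RingHom.ker_eq_comap_bot, this]
      exact bot_le)
  exact ⟨⟨Q, hQ⟩, PrimeSpectrum.ext hQ'⟩

theorem part3 (h : UniversallyClosed (Spec.map (CommRingCat.ofHom (algebraMap A B)))) :
    UniversallyClosed (Spec.map (CommRingCat.ofHom (algebraMap A B'))) :=
  univClosed_SpecMap_of_isIntegral _ (isIntegral_sub B' (isIntegral_of_univClosed_SpecMap _))

theorem part4 (h : UniversallyClosed (Spec.map (CommRingCat.ofHom (algebraMap A B))))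
    (h' : UniversallyInjective (Spec.map (CommRingCat.ofHom (algebraMap A B)))) :
    UniversallyInjective (Spec.map (CommRingCat.ofHom (algebraMap A B'))) := by
  haveI := surj_g B' (isIntegral_of_univClosed_SpecMap _)
  haveI : UniversallyInjective (Spec.map (CommRingCat.ofHom (B'.val : B' →+* B)) ≫
      Spec.map (CommRingCat.ofHom (algebraMap A B'))) := by
    rw [hfg]
    exact h'
  exact univInj_of_comp_surj (Spec.map (CommRingCat.ofHom (B'.val : B' →+* B))) _

theorem part1 (h : FlatMor.IsUnivHomeo (Spec.map (CommRingCat.ofHom (algebraMap A B)))) :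
    FlatMor.IsUnivHomeo (Spec.map (CommRingCat.ofHom (algebraMap A B'))) := by
  rw [isUnivHomeo_iff] at h ⊢
  obtain ⟨h1, h2, h3⟩ := h
  refine ⟨part3 B' h1, part4 B' h1 h2, ?_⟩
  haveI : Surjective (Spec.map (CommRingCat.ofHom (B'.val : B' →+* B)) ≫
      Spec.map (CommRingCat.ofHom (algebraMap A B'))) := by
    rw [hfg]
    exact h3
  exact Surjective.of_comp (Spec.map (CommRingCat.ofHom (B'.val : B' →+* B))) _

theorem part2 (h1 : UniversallyClosed (Spec.map (CommRingCat.ofHom (algebraMap A B))))
    (h : ∀ x : Spec (CommRingCat.of B),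
        Function.Surjective ((Spec.map (CommRingCat.ofHom (algebraMap A B))).residueFieldMap x))
    (x' : Spec (CommRingCat.of B')) :
    Function.Surjective ((Spec.map (CommRingCat.ofHom (algebraMap A B'))).residueFieldMap x') := by
  haveI := surj_g B' (isIntegral_of_univClosed_SpecMap _)
  obtain ⟨x, rfl⟩ := (Spec.map (CommRingCat.ofHom (B'.val : B' →+* B))).surjective x'
  have h' : ∀ x : Spec (CommRingCat.of B),
      Function.Surjective ((Spec.map (CommRingCat.ofHom (B'.val : B' →+* B)) ≫
        Spec.map (CommRingCat.ofHom (algebraMap A B'))).residueFieldMap x) := by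
    rw [hfg]
    exact h
  have h2 := h' x
  rw [Scheme.residueFieldMap_comp] at h2
  intro z
  obtain ⟨w, hw⟩ := h2 ((Spec.map (CommRingCat.ofHom (B'.val : B' →+* B))).residueFieldMap x z)
  refine ⟨w, ?_⟩
  have hinj : Function.Injective
      ((Spec.map (CommRingCat.ofHom (B'.val : B' →+* B))).residueFieldMap x) :=
    ((Spec.map (CommRingCat.ofHom (B'.val : B' →+* B))).residueFieldMap x).hom.injective
  exact hinj hw
end

/-- Let `A → B` be a ring map and `B' ⊆ B` an `A`-subalgebra, with `f : Spec B → Spec A` and `f' : Spec
B' → Spec A` the induced morphisms. Each of the following properties passes from `f` to `f'`: being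
a universal homeomorphism; being a universal homeomorphism with trivial residue field extensions;
being universally closed; being both universally closed and universally injective. -/
theorem result {A B : Type u} [CommRing A] [CommRing B] [Algebra A B]
    (B' : Subalgebra A B) :
    (FlatMor.IsUnivHomeo (Spec.map (CommRingCat.ofHom (algebraMap A B))) →
      FlatMor.IsUnivHomeo (Spec.map (CommRingCat.ofHom (algebraMap A B')))) ∧
    ((FlatMor.IsUnivHomeo (Spec.map (CommRingCat.ofHom (algebraMap A B))) ∧
      ∀ x : Spec (CommRingCat.of B),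
        Function.Surjective ((Spec.map (CommRingCat.ofHom (algebraMap A B))).residueFieldMap x)) →
      FlatMor.IsUnivHomeo (Spec.map (CommRingCat.ofHom (algebraMap A B'))) ∧
      ∀ x : Spec (CommRingCat.of B'),
        Function.Surjective ((Spec.map (CommRingCat.ofHom (algebraMap A B'))).residueFieldMap x)) ∧
    (UniversallyClosed (Spec.map (CommRingCat.ofHom (algebraMap A B))) →
      UniversallyClosed (Spec.map (CommRingCat.ofHom (algebraMap A B')))) ∧
    (UniversallyClosed (Spec.map (CommRingCat.ofHom (algebraMap A B))) →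
      UniversallyInjective (Spec.map (CommRingCat.ofHom (algebraMap A B))) →
      UniversallyClosed (Spec.map (CommRingCat.ofHom (algebraMap A B'))) ∧
      UniversallyInjective (Spec.map (CommRingCat.ofHom (algebraMap A B')))) := by
  refine ⟨part1 B', fun h => ⟨part1 B' h.1, part2 B' ((isUnivHomeo_iff _).mp h.1).1 h.2⟩,
    part3 B', fun h h' => ⟨part3 B' h, part4 B' h h'⟩⟩

end Groth.Agent.S7404
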