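import Groth.Statements.S7405
import Groth.Agent.Lib.helper11.TrivRes
import Mathlib.CategoryTheory.Limits.Constructions.Over.Connected
import Mathlib.CategoryTheory.Filtered.Connected
import Mathlib.CategoryTheory.Limits.ConcreteCategory.Basic
import Mathlib.Algebra.Category.Ring.FilteredColimits

set_option autoImplicit false
universe u
open CategoryTheory AlgebraicGeometry
open Mor

namespace Groth.Agent.S7405


open Groth.Agent.Lib.helper11.UnivHomeo Groth.Agent.Lib.helper11.TrivRes Limits

section ring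
variable {A B : Type u} [CommRing A] [CommRing B] (α : A →+* B)

theorem ker_nil_of_surjective (h : Surjective (Spec.map (CommRingCat.ofHom α)))
    (a : A) (ha : α a = 0) : IsNilpotent a := by
  rw [← mem_nilradical, nilradical_eq_sInf, Ideal.mem_sInf]
  intro p hp
  haveI : p.IsPrime := hp
  obtain ⟨q, hq⟩ := h.surj ⟨p, hp⟩
  have : a ∈ (Spec.map (CommRingCat.ofHom α) q).asIdeal := by
    change α a ∈ q.asIdeal
    rw [ha]
    exact zero_mem _
  rw [hq] at this
  exact this

theorem surjective_of_integral_of_ker_nil (hint : α.IsIntegral)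
    (h : ∀ a, α a = 0 → IsNilpotent a) : Surjective (Spec.map (CommRingCat.ofHom α)) := by
  refine surjective_SpecMap_of_forall α fun p => ?_
  letI := α.toAlgebra
  haveI : Algebra.IsIntegral A B := ⟨hint⟩
  obtain ⟨Q, -, hQ, hQ'⟩ := Ideal.exists_ideal_over_prime_of_isIntegral p.asIdeal (⊥ : Ideal B) (by
    intro a ha
    rw [Ideal.mem_comap, Ideal.mem_bot] at ha
    obtain ⟨n, hn⟩ := h a ha
    exact Ideal.IsPrime.mem_of_pow_mem inferInstance n (by rw [hn]; exact zero_mem _))
  exact ⟨⟨Q, hQ⟩, PrimeSpectrum.ext hQ'⟩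

end ring

section cat

theorem uc_iff {A B : CommRingCat.{u}} (f : A ⟶ B) :
    UniversallyClosed (Spec.map f) ↔ f.hom.IsIntegral :=
  ⟨fun h => by haveI := h; exact isIntegral_of_univClosed_SpecMap f.hom,
    fun h => univClosed_SpecMap_of_isIntegral f.hom h⟩

theorem ui_iff {A B : CommRingCat.{u}} (f : A ⟶ B) :
    UniversallyInjective (Spec.map f) ↔
      ∀ (K : Type u) [Field K] (φ ψ : B →+* K), φ.comp f.hom = ψ.comp f.hom → φ = ψ :=
  univInj_SpecMap_iff f.hom

theorem uh_iff {A B : CommRingCat.{u}} (f : A ⟶ B) :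
    FlatMor.IsUnivHomeo (Spec.map f) ↔ f.hom.IsIntegral ∧
      (∀ (K : Type u) [Field K] (φ ψ : B →+* K), φ.comp f.hom = ψ.comp f.hom → φ = ψ) ∧
      ∀ a, f.hom a = 0 → IsNilpotent a := by
  rw [isUnivHomeo_iff, uc_iff, ui_iff]
  constructor
  · rintro ⟨h1, h2, h3⟩
    exact ⟨h1, h2, ker_nil_of_surjective f.hom h3⟩
  · rintro ⟨h1, h2, h3⟩
    exact ⟨h1, h2, surjective_of_integral_of_ker_nil f.hom h1 h3⟩

theorem tr_iff {A B : CommRingCat.{u}} (f : A ⟶ B) :
    (∀ x : Spec B, Function.Surjective ((Spec.map f).residueFieldMap x)) ↔ TrivRes f.hom :=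
  (trivRes_iff f.hom).symm

variable (A : CommRingCat.{u}) {J : Type u} [SmallCategory J] [IsFiltered J]
  (F : J ⥤ Under A) (c : Limits.Cocone F) (hc : Limits.IsColimit c)

include hc

theorem exists_rep (b : c.pt.right) :
    ∃ (j : J) (x : (F.obj j).right), (c.ι.app j).right.hom x = b := by
  haveI : IsConnected J := IsFiltered.isConnected J
  have hD : IsColimit ((Under.forget A).mapCocone c) := isColimitOfPreserves (Under.forget A) hc
  exact Concrete.isColimit_exists_rep (F ⋙ Under.forget A) hD b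

theorem exists_ker (a : A) (h : c.pt.hom.hom a = 0) : ∃ j : J, (F.obj j).hom.hom a = 0 := by
  haveI : IsConnected J := IsFiltered.isConnected J
  have hD : IsColimit ((Under.forget A).mapCocone c) := isColimitOfPreserves (Under.forget A) hc
  obtain ⟨j₀⟩ := IsFiltered.nonempty (C := J)
  have hw : ∀ j : J, (c.ι.app j).right.hom ((F.obj j).hom.hom a) = c.pt.hom.hom a := fun j => by
    have := Under.w (c.ι.app j)
    exact congrArg (fun g : A ⟶ c.pt.right => g.hom a) this
  have h0 : ((Under.forget A).mapCocone c).ι.app j₀ ((F.obj j₀).hom.hom a) =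
      ((Under.forget A).mapCocone c).ι.app j₀ (0 : (F.obj j₀).right) := by
    change (c.ι.app j₀).right.hom ((F.obj j₀).hom.hom a) = (c.ι.app j₀).right.hom 0
    rw [hw, h, map_zero]
  obtain ⟨k, f, g, hfg⟩ := Concrete.isColimit_exists_of_rep_eq (F ⋙ Under.forget A) hD _ _ h0
  refine ⟨k, ?_⟩
  have hw' : (F.map f).right.hom ((F.obj j₀).hom.hom a) = (F.obj k).hom.hom a := by
    have := Under.w (F.map f)
    exact congrArg (fun g : A ⟶ (F.obj k).right => g.hom a) this
  rw [← hw']
  refine Eq.trans hfg ?_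
  change (F.map g).right.hom 0 = 0
  rw [map_zero]

theorem integral_colim (h : ∀ j, (F.obj j).hom.hom.IsIntegral) : c.pt.hom.hom.IsIntegral := by
  intro b
  obtain ⟨j, x, rfl⟩ := exists_rep A F c hc b
  have hw : (c.ι.app j).right.hom.comp (F.obj j).hom.hom = c.pt.hom.hom := by
    have := Under.w (c.ι.app j)
    exact congrArg CommRingCat.Hom.hom this
  rw [← hw]
  exact (h j x).map _

theorem epi_colim
    (h : ∀ j, ∀ (K : Type u) [Field K] (φ ψ : (F.obj j).right →+* K),
      φ.comp (F.obj j).hom.hom = ψ.comp (F.obj j).hom.hom → φ = ψ) :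
    ∀ (K : Type u) [Field K] (φ ψ : c.pt.right →+* K),
      φ.comp c.pt.hom.hom = ψ.comp c.pt.hom.hom → φ = ψ := by
  intro K _ φ ψ hφψ
  ext b
  obtain ⟨j, x, rfl⟩ := exists_rep A F c hc b
  have hw : (c.ι.app j).right.hom.comp (F.obj j).hom.hom = c.pt.hom.hom := by
    have := Under.w (c.ι.app j)
    exact congrArg CommRingCat.Hom.hom this
  have := h j K (φ.comp (c.ι.app j).right.hom) (ψ.comp (c.ι.app j).right.hom) (by
    rw [RingHom.comp_assoc, RingHom.comp_assoc, hw, hφψ])
  exact congrArg (fun g : (F.obj j).right →+* K => g x) this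

theorem nil_colim (h : ∀ j, ∀ a, (F.obj j).hom.hom a = 0 → IsNilpotent a) :
    ∀ a, c.pt.hom.hom a = 0 → IsNilpotent a := by
  intro a ha
  obtain ⟨j, hj⟩ := exists_ker A F c hc a ha
  exact h j a hj

theorem trivRes_colim (h : ∀ j, TrivRes (F.obj j).hom.hom) : TrivRes c.pt.hom.hom := by
  intro q _ b
  obtain ⟨j, x, rfl⟩ := exists_rep A F c hc b
  have hw : (c.ι.app j).right.hom.comp (F.obj j).hom.hom = c.pt.hom.hom := by
    have := Under.w (c.ι.app j)
    exact congrArg CommRingCat.Hom.hom this
  have := TrivAt.of_hom (h j) (c.ι.app j).right.hom q x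
  rw [hw] at this
  exact this

end cat

/-- Let `A` be a ring and `B` the colimit of a filtered diagram `j ↦ B_j` of `A`-algebras. Each of the
following properties, when it holds for every `Spec B_j → Spec A`, holds for `Spec B → Spec A`:
being a universal homeomorphism; being a universal homeomorphism with trivial residue field
extensions; being universally closed; being both universally closed and universally injective. -/
theorem result (A : CommRingCat.{u}) {J : Type u} [SmallCategory J]
    [IsFiltered J] (F : J ⥤ Under A) (c : Limits.Cocone F) (hc : Limits.IsColimit c) :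
    ((∀ j, FlatMor.IsUnivHomeo (Spec.map (F.obj j).hom)) → FlatMor.IsUnivHomeo (Spec.map c.pt.hom)) ∧
    ((∀ j, FlatMor.IsUnivHomeo (Spec.map (F.obj j).hom) ∧
        ∀ x : Spec (F.obj j).right, Function.Surjective ((Spec.map (F.obj j).hom).residueFieldMap x)) →
      FlatMor.IsUnivHomeo (Spec.map c.pt.hom) ∧
        ∀ x : Spec c.pt.right, Function.Surjective ((Spec.map c.pt.hom).residueFieldMap x)) ∧
    ((∀ j, UniversallyClosed (Spec.map (F.obj j).hom)) → UniversallyClosed (Spec.map c.pt.hom)) ∧
    ((∀ j, UniversallyClosed (Spec.map (F.obj j).hom) ∧ UniversallyInjective (Spec.map (F.obj j).hom)) →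
      UniversallyClosed (Spec.map c.pt.hom) ∧ UniversallyInjective (Spec.map c.pt.hom)) := by

  refine ⟨fun h => ?_, fun h => ⟨?_, ?_⟩, fun h => ?_, fun h => ⟨?_, ?_⟩⟩
  · rw [uh_iff]
    have h' := fun j => (uh_iff _).mp (h j)
    exact ⟨integral_colim A F c hc fun j => (h' j).1, epi_colim A F c hc fun j => (h' j).2.1,
      nil_colim A F c hc fun j => (h' j).2.2⟩
  · rw [uh_iff]
    have h' := fun j => (uh_iff _).mp (h j).1
    exact ⟨integral_colim A F c hc fun j => (h' j).1, epi_colim A F c hc fun j => (h' j).2.1,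
      nil_colim A F c hc fun j => (h' j).2.2⟩
  · rw [tr_iff]
    exact trivRes_colim A F c hc fun j => (tr_iff _).mp (h j).2
  · rw [uc_iff]
    exact integral_colim A F c hc fun j => (uc_iff _).mp (h j)
  · rw [uc_iff]
    exact integral_colim A F c hc fun j => (uc_iff _).mp (h j).1
  · rw [ui_iff]
    exact epi_colim A F c hc fun j => (ui_iff _).mp (h j).2

end Groth.Agent.S7405
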