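import Groth.Statements.S7406
import Mathlib

set_option autoImplicit false
universe u
open CategoryTheory AlgebraicGeometry
open Desc

namespace Groth.Agent.S7406

section Aux
open CategoryTheory CategoryTheory.Limits AlgebraicGeometry TensorProduct

theorem etale_residueFieldMap {V' V : Scheme.{u}} (b : V' ⟶ V) [Etale b] (v' : V') :
    Etale (Spec.map (b.residueFieldMap v')) := by
  rw [HasRingHomProperty.Spec_iff (P := @Etale)]
  letI : Algebra (V.residueField (b v')) (V'.residueField v') := (b.residueFieldMap v').hom.toAlgebra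
  haveI : Algebra.IsSeparable (V.residueField (b v')) (V'.residueField v') := inferInstance
  haveI : Algebra.EssFiniteType (V.residueField (b v')) (V'.residueField v') := by
    rw [← RingHom.essFiniteType_algebraMap, RingHom.algebraMap_toAlgebra]
    exact (LocallyOfFiniteType.stalkMap b v').residueFieldMap
  haveI : Module.Finite (V.residueField (b v')) (V'.residueField v') :=
    Algebra.finite_of_essFiniteType_of_isAlgebraic
  haveI : Algebra.FormallyEtale (V.residueField (b v')) (V'.residueField v') :=
    Algebra.FormallyEtale.of_isSeparable _ _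
  show (algebraMap (V.residueField (b v')) (V'.residueField v')).Etale
  rw [RingHom.etale_algebraMap]
  haveI : Algebra.FinitePresentation (V.residueField (b v')) (V'.residueField v') :=
    Algebra.FinitePresentation.of_finiteType.1 inferInstance
  exact ⟨inferInstance, inferInstance⟩

theorem main {U U' V V' : Scheme.{u}} (h : U ⟶ V) (h' : U' ⟶ V') (a : U' ⟶ U)
    (b : V' ⟶ V) [Etale a] [Etale b] (comm : h' ≫ b = a ≫ h) (v' : V')
    (φ : h'.fiber v' ⟶ h.fiber (b v')) (hφ1 : φ ≫ h.fiberι (b v') = h'.fiberι v' ≫ a)
    (hφ2 : φ ≫ h.fiberToSpecResidueField (b v') = h'.fiberToSpecResidueField v' ≫ Spec.map (b.residueFieldMap v')) :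
    Etale φ := by
  set p1 := pullback.fst h b with hp1
  set p2 := pullback.snd h b with hp2
  set g : U' ⟶ pullback h b := pullback.lift a h' comm.symm with hg
  have hg1 : g ≫ p1 = a := pullback.lift_fst _ _ _
  have hg2 : g ≫ p2 = h' := pullback.lift_snd _ _ _
  haveI : Etale (g ≫ p1) := by rw [hg1]; infer_instance
  haveI : Etale g := MorphismProperty.of_postcomp (W := @Etale) (W' := @Etale) g p1 inferInstance
    inferInstance
  set β' := V'.fromSpecResidueField v' with hβ'
  -- g on fibres
  obtain ⟨gv, hgv1, hgv2⟩ : ∃ gv : h'.fiber v' ⟶ p2.fiber v',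
      gv ≫ p2.fiberι v' = h'.fiberι v' ≫ g ∧
      gv ≫ p2.fiberToSpecResidueField v' = h'.fiberToSpecResidueField v' :=
    ⟨pullback.lift (pullback.fst h' β' ≫ g) (pullback.snd h' β')
      (by rw [Category.assoc, hg2]; exact pullback.condition), pullback.lift_fst _ _ _,
      pullback.lift_snd _ _ _⟩
  have hP : IsPullback gv (h'.fiberι v') (p2.fiberι v') g := by
    refine IsPullback.of_right (h₁₂ := p2.fiberToSpecResidueField v') (h₂₂ := p2) (v₁₃ := β') ?_ hgv1
      (IsPullback.of_hasPullback p2 β').flip
    rw [hgv2, hg2]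
    exact (IsPullback.of_hasPullback h' β').flip
  haveI : Etale gv := MorphismProperty.of_isPullback (P := @Etale) hP.flip inferInstance
  -- the base change of the residue field extension
  obtain ⟨m, hm1, hm2, hM⟩ : ∃ m : p2.fiber v' ⟶ h.fiber (b v'),
      m ≫ h.fiberι (b v') = p2.fiberι v' ≫ p1 ∧
      m ≫ h.fiberToSpecResidueField (b v') =
        p2.fiberToSpecResidueField v' ≫ Spec.map (b.residueFieldMap v') ∧
      IsPullback m (p2.fiberToSpecResidueField v') (h.fiberToSpecResidueField (b v'))
        (Spec.map (b.residueFieldMap v')) :=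
    ⟨_, pullback.lift_fst _ _ _, pullback.lift_snd _ _ _,
      isPullback_fiberToSpecResidueField_of_isPullback (IsPullback.of_hasPullback h b) v'⟩
  haveI := etale_residueFieldMap b v'
  haveI : Etale m := MorphismProperty.of_isPullback (P := @Etale) hM.flip inferInstance
  have hφ : φ = gv ≫ m := by
    apply pullback.hom_ext
    · show φ ≫ h.fiberι (b v') = (gv ≫ m) ≫ h.fiberι (b v')
      rw [hφ1, Category.assoc, hm1, ← Category.assoc, hgv1, Category.assoc, hg1]
    · show φ ≫ h.fiberToSpecResidueField (b v') = (gv ≫ m) ≫ h.fiberToSpecResidueField (b v')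
      rw [hφ2, Category.assoc, hm2, ← Category.assoc, hgv2]
  rw [hφ]
  infer_instance

end Aux

/-- Consider a commutative square of schemes with horizontal maps `h' : U' → V'`, `h : U → V` and étale
vertical maps `a : U' → U`, `b : V' → V`, and let `v' ∈ V'` with image `v = b(v')`. Then the induced
morphism of fibres `U'_{v'} → U_v` is étale. (The morphism of fibres is characterised by its
compatibility with `a` and with `Spec κ(v') → Spec κ(v)`.) -/
theorem result {U U' V V' : Scheme.{u}} (h : U ⟶ V) (h' : U' ⟶ V') (a : U' ⟶ U)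
    (b : V' ⟶ V) [Etale a] [Etale b] (comm : h' ≫ b = a ≫ h) (v' : V')
    (φ : h'.fiber v' ⟶ h.fiber (b v')) (hφ1 : φ ≫ h.fiberι (b v') = h'.fiberι v' ≫ a)
    (hφ2 : φ ≫ h.fiberToSpecResidueField (b v') = h'.fiberToSpecResidueField v' ≫ Spec.map (b.residueFieldMap v')) :
    Etale φ := by
  exact main h h' a b comm v' φ hφ1 hφ2

end Groth.Agent.S7406
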