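import Groth.Statements.S7412
import Mathlib.Algebra.Module.CharacterModule
import Mathlib.Tactic

set_option autoImplicit false
universe u
open Desc

namespace Groth.Agent.S7412


open TensorProduct in
theorem key {R : Type u} [CommRing R] {M N : Type u}
    [AddCommGroup M] [Module R M] [AddCommGroup N] [Module R N] (f : M →ₗ[R] N)
    (P : Type u) [AddCommGroup P] [Module R P] :
    Function.Injective (f.lTensor P) ↔
      Function.Surjective (fun φ : P →ₗ[R] CharacterModule N => (CharacterModule.dual f) ∘ₗ φ) := by
  rw [← CharacterModule.dual_surjective_iff_injective]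
  have hcomm : ∀ φ : P →ₗ[R] CharacterModule N,
      CharacterModule.dual (f.lTensor P) (CharacterModule.homEquiv φ) =
        CharacterModule.homEquiv ((CharacterModule.dual f) ∘ₗ φ) := by
    intro φ
    apply CharacterModule.ext
    intro z
    induction z using TensorProduct.induction_on with
    | zero => simp
    | tmul p m =>
      simp only [CharacterModule.homEquiv]
      rfl
    | add x y hx hy => rw [map_add, map_add, hx, hy]
  constructor
  · intro h ψ
    obtain ⟨c, hc⟩ := h (CharacterModule.homEquiv ψ)
    refine ⟨CharacterModule.homEquiv.symm c, ?_⟩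
    apply CharacterModule.homEquiv.injective
    rw [← hcomm, LinearEquiv.apply_symm_apply, hc]
  · intro h c
    obtain ⟨φ, hφ⟩ := h (CharacterModule.homEquiv.symm c)
    refine ⟨CharacterModule.homEquiv φ, ?_⟩
    rw [hcomm]
    have : (CharacterModule.dual f) ∘ₗ φ = CharacterModule.homEquiv.symm c := hφ
    rw [this, LinearEquiv.apply_symm_apply]

/-- Let `R` be a ring and `f : M → N` a map of `R`-modules. Then `f` is universally injective (`f ⊗ 1_P`
is injective for every `R`-module `P`; here `P` ranges over modules in the same universe, which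
suffices) if and only if the map of character modules `C(N) → C(M)`, `C(-) = Hom_ℤ(-, ℚ/ℤ)`, is a
split surjection of `R`-modules. -/
theorem result {R : Type u} [CommRing R] {M N : Type u}
    [AddCommGroup M] [Module R M] [AddCommGroup N] [Module R N] (f : M →ₗ[R] N) :
    (∀ (P : Type u) [AddCommGroup P] [Module R P], Function.Injective (f.lTensor P)) ↔
      ∃ g : CharacterModule M →ₗ[R] CharacterModule N, (CharacterModule.dual f).comp g = LinearMap.id := by
  constructor
  · intro h
    obtain ⟨g, hg⟩ := (key f (CharacterModule M)).1 (h _) LinearMap.id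
    exact ⟨g, hg⟩
  · rintro ⟨g, hg⟩ P _ _
    rw [key f P]
    intro ψ
    refine ⟨g ∘ₗ ψ, ?_⟩
    change (CharacterModule.dual f) ∘ₗ (g ∘ₗ ψ) = ψ
    rw [← LinearMap.comp_assoc, hg, LinearMap.id_comp]

end Groth.Agent.S7412
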