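import Groth.Statements.S7415
import Mathlib.AlgebraicGeometry.SpreadingOut
import Mathlib.AlgebraicGeometry.Properties
import Mathlib.Tactic

set_option autoImplicit false
universe u
open CategoryTheory AlgebraicGeometry
open Mor

namespace Groth.Agent.S7415

/-- Let `X` be a reduced scheme with finitely many irreducible components and `x ∈ X`. Then `x` has an
affine open neighbourhood `U` such that `O_X(U) → O_{X,x}` is injective. -/
theorem result (X : Scheme.{u}) [AlgebraicGeometry.IsReduced X]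
    (hirr : (irreducibleComponents (X : Type u)).Finite) (x : X) : X.IsGermInjectiveAt x := by
  classical
  -- the union of the components missing `x`
  let 𝒮 : Set (Set X) := {Z | Z ∈ irreducibleComponents (X : Type u) ∧ x ∉ Z}
  have h𝒮fin : 𝒮.Finite := hirr.subset (fun Z hZ => hZ.1)
  have hFclosed : IsClosed (⋃₀ 𝒮) := by
    rw [Set.sUnion_eq_biUnion]
    exact h𝒮fin.isClosed_biUnion (fun Z hZ => isClosed_of_mem_irreducibleComponents Z hZ.1)
  have hxF : x ∉ ⋃₀ 𝒮 := by
    rintro ⟨Z, hZ, hxZ⟩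
    exact hZ.2 hxZ
  let V : X.Opens := ⟨(⋃₀ 𝒮)ᶜ, hFclosed.isOpen_compl⟩
  have hxV : x ∈ V := hxF
  obtain ⟨U, hU, hxU, hUV⟩ :=
    (X.isBasis_affineOpens).exists_subset_of_mem_open hxV V.2
  obtain ⟨U, hUa, rfl⟩ : ∃ U' : X.Opens, IsAffineOpen U' ∧ (U' : Set X) = U := by
    obtain ⟨U', hU', rfl⟩ := hU
    exact ⟨U', hU', rfl⟩
  refine ⟨⟨U, hxU, hUa, ?_⟩⟩
  rw [injective_iff_map_eq_zero]
  intro a ha
  rw [← AlgebraicGeometry.basicOpen_eq_bot_iff]
  -- `a` vanishes near `x`
  obtain ⟨W, hxW, iU, iV, e⟩ := X.presheaf.germ_eq x hxU hxU a 0 (by rw [ha, map_zero])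
  rw [map_zero] at e
  have hW : W ⊓ X.basicOpen a = ⊥ := by
    rw [← Scheme.basicOpen_res X a iU.op, e, Scheme.basicOpen_zero]
  by_contra hne
  obtain ⟨y, hy⟩ : ∃ y, y ∈ X.basicOpen a := by
    by_contra h
    push Not at h
    exact hne (le_bot_iff.mp (fun y hy => (h y hy).elim))
  have hyU : y ∈ U := X.basicOpen_le a hy
  -- the component through `y`
  have hZmem := irreducibleComponent_mem_irreducibleComponents y
  have hyZ : y ∈ irreducibleComponent y := mem_irreducibleComponent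
  have hxZ : x ∈ irreducibleComponent y := by
    by_contra hx
    exact hUV hyU ⟨irreducibleComponent y, ⟨hZmem, hx⟩, hyZ⟩
  have hirrZ : IsIrreducible (irreducibleComponent y) := isIrreducible_irreducibleComponent
  obtain ⟨z, hzZ, hza, hzW⟩ := hirrZ.2 (X.basicOpen a) W (X.basicOpen a).2 W.2
    ⟨y, hyZ, hy⟩ ⟨x, hxZ, hxW⟩
  have : z ∈ W ⊓ X.basicOpen a := ⟨hzW, hza⟩
  rw [hW] at this
  exact this

end Groth.Agent.S7415
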