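import Groth.Statements.S7416
import Mathlib.AlgebraicGeometry.AffineScheme
import Mathlib.Tactic

set_option autoImplicit false
universe u
open CategoryTheory AlgebraicGeometry
open Mor

namespace Groth.Agent.S7416


/-- For an open immersion `i : W ⟶ U` into an affine scheme and a basic open `D(f₀) ⊆ i(W)`, the image
of any basic open of the affine open `i⁻¹ D(f₀)` is a basic open of `U`. -/
theorem image_basicOpen_eq {U W : Scheme.{u}} [IsAffine U] (i : W ⟶ U) [IsOpenImmersion i]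
    (f₀ : Γ(U, ⊤)) (hle : U.basicOpen f₀ ≤ i.opensRange) (a : Γ(W, i ⁻¹ᵁ U.basicOpen f₀)) :
    ∃ f : Γ(U, ⊤), i ''ᵁ (W.basicOpen a) = U.basicOpen f := by
  have hD : i ''ᵁ (i ⁻¹ᵁ U.basicOpen f₀) = U.basicOpen f₀ := by
    rw [i.image_preimage_eq_opensRange_inf, inf_eq_right]
    exact hle
  rw [Scheme.image_basicOpen]
  set b := (i.appIso (i ⁻¹ᵁ U.basicOpen f₀)).inv a with hb
  let g' : Γ(U, U.basicOpen f₀) := U.presheaf.map (homOfLE (le_of_eq hD.symm)).op b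
  obtain ⟨f, hf⟩ := (isAffineOpen_top U).basicOpen_basicOpen_is_basicOpen f₀ g'
  refine ⟨f, ?_⟩
  rw [hf, Scheme.basicOpen_res, eq_comm, inf_eq_right]
  exact (Scheme.basicOpen_le _ _).trans (le_of_eq hD)

/-- Let `U`, `V` be affine schemes and `W → U`, `W → V` open immersions. Then every `w ∈ W` has an open
neighbourhood `W' ⊆ W` whose images in `U` and in `V` are standard opens `D(f) ⊆ U`, `D(g) ⊆ V` (in
particular `W'` is affine). -/
theorem result {U V W : Scheme.{u}} [IsAffine U]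
    [IsAffine V] (i : W ⟶ U) (j : W ⟶ V) [IsOpenImmersion i] [IsOpenImmersion j] (w : W) :
    ∃ (W' : W.Opens) (f : Γ(U, ⊤)) (g : Γ(V, ⊤)), w ∈ W' ∧ i ''ᵁ W' = U.basicOpen f ∧ j ''ᵁ W' = V.basicOpen g := by
  have hU : IsAffineOpen (⊤ : U.Opens) := isAffineOpen_top U
  have hV : IsAffineOpen (⊤ : V.Opens) := isAffineOpen_top V
  obtain ⟨f₀, hf₀le, hf₀w⟩ := hU.exists_basicOpen_le (V := i.opensRange) ⟨i w, ⟨w, rfl⟩⟩ trivial
  obtain ⟨g₀, hg₀le, hg₀w⟩ := hV.exists_basicOpen_le (V := j.opensRange) ⟨j w, ⟨w, rfl⟩⟩ trivial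
  set A : W.Opens := i ⁻¹ᵁ U.basicOpen f₀ with hA
  set B : W.Opens := j ⁻¹ᵁ V.basicOpen g₀ with hB
  have hAaff : IsAffineOpen A := by
    rw [← i.isAffineOpen_iff_of_isOpenImmersion, hA, i.image_preimage_eq_opensRange_inf,
      inf_eq_right.2 hf₀le]
    exact hU.basicOpen f₀
  have hBaff : IsAffineOpen B := by
    rw [← j.isAffineOpen_iff_of_isOpenImmersion, hB, j.image_preimage_eq_opensRange_inf,
      inf_eq_right.2 hg₀le]
    exact hV.basicOpen g₀
  have hwA : w ∈ A := hf₀w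
  have hwB : w ∈ B := hg₀w
  obtain ⟨a, b, hab, hwa⟩ := exists_basicOpen_le_affine_inter hAaff hBaff w ⟨hwA, hwB⟩
  obtain ⟨f, hf⟩ := image_basicOpen_eq i f₀ hf₀le a
  obtain ⟨g, hg⟩ := image_basicOpen_eq j g₀ hg₀le b
  exact ⟨W.basicOpen a, f, g, hwa, hf, by rw [hab, hg]⟩

end Groth.Agent.S7416
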