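import Groth.Statements.S7418
import Groth.Agent.Lib.helper11.AWNLoc

set_option autoImplicit false
universe u
open CategoryTheory AlgebraicGeometry
open HTop

namespace Groth.Agent.S7418

/-- Being seminormal is a local property of rings: it passes to the localizations `A_f`, and if `f_1, …,
f_n` generate the unit ideal of `A` and each `A_{f_i}` is seminormal then `A` is seminormal. -/
theorem result :
    (∀ (A : Type u) [CommRing A] (f : A), HTop.IsSeminormalRing A → HTop.IsSeminormalRing (Localization.Away f)) ∧
    ∀ (A : Type u) [CommRing A] (s : Finset A), Ideal.span (s : Set A) = ⊤ →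
      (∀ f ∈ s, HTop.IsSeminormalRing (Localization.Away f)) → HTop.IsSeminormalRing A := by

  refine ⟨fun A _ f h => Groth.Agent.Lib.helper11.AWNLoc.seminormal_away f h, ?_⟩
  intro A _ s hs h
  exact Groth.Agent.Lib.helper11.AWNLoc.seminormal_of_local (s : Set A) hs (fun f => h f.1 f.2)

end Groth.Agent.S7418
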