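import Groth.Statements.S7421
import Mathlib

set_option autoImplicit false
universe u
open CategoryTheory AlgebraicGeometry
open HTop

namespace Groth.Agent.S7421

/-- A seminormal ring is reduced, and a seminormal scheme is reduced. -/
theorem result :
    (∀ (A : Type u) [CommRing A], HTop.IsSeminormalRing A → IsReduced A) ∧
    ∀ (X : Scheme.{u}), HTop.IsSeminormal X → AlgebraicGeometry.IsReduced X := by
  have ring_part : ∀ (A : Type u) [CommRing A], HTop.IsSeminormalRing A → _root_.IsReduced A := by
    intro A _ hA
    have h2 : ∀ z : A, z ^ 2 = 0 → z = 0 := by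
      intro z hz
      have h := hA 0 0 (by simp)
      exact h.unique ⟨by rw [hz], by rw [pow_succ, hz, zero_mul]⟩ ⟨by simp, by simp⟩
    have hn : ∀ (n : ℕ) (z : A), z ^ n = 0 → z = 0 := by
      intro n
      induction n with
      | zero =>
        intro z hz
        rw [pow_zero] at hz
        calc z = z * 1 := (mul_one z).symm
          _ = 0 := by rw [hz, mul_zero]
      | succ n ih =>
        intro z hz
        rcases n with _ | m
        · simpa using hz
        · apply ih
          apply h2
          calc (z ^ (m + 1)) ^ 2 = z ^ (m + 1 + 1) * z ^ m := by ring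
            _ = 0 := by rw [hz, zero_mul]
    exact ⟨fun z ⟨n, hz⟩ => hn n z hz⟩
  refine ⟨ring_part, ?_⟩
  intro X hX
  have hst : ∀ x : X, _root_.IsReduced (X.presheaf.stalk x) := by
    intro x
    obtain ⟨U, hxU, hU⟩ := hX x
    haveI : _root_.IsReduced Γ(X, (U : X.Opens)) := ring_part _ hU
    haveI : AlgebraicGeometry.IsAffine ((U : X.Opens) : AlgebraicGeometry.Scheme) := U.2
    haveI : _root_.IsReduced Γ(((U : X.Opens) : AlgebraicGeometry.Scheme), ⊤) :=
      isReduced_of_injective (AlgebraicGeometry.Scheme.Opens.topIso (U : X.Opens)).hom.hom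
        (AlgebraicGeometry.Scheme.Opens.topIso (U : X.Opens)).commRingCatIsoToRingEquiv.injective
    haveI : AlgebraicGeometry.IsReduced ((U : X.Opens) : AlgebraicGeometry.Scheme) :=
      AlgebraicGeometry.isReduced_of_isAffine_isReduced _
    exact isReduced_of_injective
      (AlgebraicGeometry.Scheme.Opens.stalkIso (U : X.Opens) ⟨x, hxU⟩).inv.hom
      (AlgebraicGeometry.Scheme.Opens.stalkIso (U : X.Opens) ⟨x, hxU⟩).symm.commRingCatIsoToRingEquiv.injective
  exact AlgebraicGeometry.isReduced_of_isReduced_stalk X

end Groth.Agent.S7421
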