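import Groth.Statements.S7426
import Groth.Agent.Lib.helper11.AWNSch2

set_option autoImplicit false
universe u
open CategoryTheory AlgebraicGeometry
open HTop

namespace Groth.Agent.S7426

open Groth.Agent.Lib.helper11 Groth.Agent.Lib.helper11.AWNSch

/-- For a scheme `X` the following are equivalent: `X` is absolutely weakly normal; `X^awn → X` is an
isomorphism (equivalently, the identity of `X` is an absolute weak normalization); every universal
homeomorphism `Y → X` with `Y` reduced is an isomorphism. -/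
theorem result (X : Scheme.{u}) :
    (HTop.IsAWN X ↔ HTop.IsAWNormalization (𝟙 X)) ∧
    (HTop.IsAWN X ↔ ∀ (Y : Scheme.{u}) (π : Y ⟶ X), FlatMor.IsUnivHomeo π → AlgebraicGeometry.IsReduced Y → IsIso π) := by

  have hred : AlgebraicGeometry.IsReduced (awnScheme X) := isReduced_of_isAWN (isAWN_awnScheme X)
  have key : IsIso (AWNSch.ν X) → HTop.IsAWN X := fun hiso =>
    isAWN_of_iso (asIso (AWNSch.ν X)) (isAWN_awnScheme X)
  refine ⟨⟨fun hX => ?_, fun h => ?_⟩, ⟨fun hX Y π hπ hY => ?_, fun h => ?_⟩⟩
  · haveI : IsIso (AWNSch.ν X) := isIso_of_uh_of_isAWN _ (isUnivHomeo_ν X) hX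
    have := isAWNormalization_of_iso (AWNSch.ν X) (isAWNormalization_ν X) (asIso (AWNSch.ν X)).symm
    simpa using this
  · exact isAWN_of_isAWNormalization (𝟙 X) h
  · exact isIso_of_uh_of_isAWN π hπ hX
  · exact key (h _ (AWNSch.ν X) (isUnivHomeo_ν X) hred)

end Groth.Agent.S7426
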