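import Groth.Statements.S7428
import Groth.Agent.S7427
import Groth.Agent.Lib.helper11.TrivRes

set_option autoImplicit false
universe u
open CategoryTheory AlgebraicGeometry
open Mor

namespace Groth.Agent.S7428


open Groth.Agent.Lib.helper11.UnivHomeo Groth.Agent.Lib.helper11.TrivRes TensorProduct
open Groth.Agent.S7427 (isUnivHomeo_sub mem_sSup_dir tensor_univHomeo mem_univHomeo isUnivHomeo_of_isIso)

section
variable {A B : Type u} [CommRing A] [CommRing B] [Algebra A B]

/-- the family of images of test algebras (universal homeomorphism + trivial residue fields). -/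
def 𝒮' (A B : Type u) [CommRing A] [CommRing B] [Algebra A B] : Set (Subalgebra A B) :=
  {S | ∃ (C : Type u) (_ : CommRing C) (_ : Algebra A C) (g : C →ₐ[A] B),
    FlatMor.IsUnivHomeo (Spec.map (CommRingCat.ofHom (algebraMap A C))) ∧
    TrivRes (algebraMap A C) ∧ S = g.range}

theorem sub_S : 𝒮' A B ⊆ Groth.Agent.S7427.𝒮 A B := by
  rintro S ⟨C, i1, i2, g, h, -, rfl⟩
  exact ⟨C, i1, i2, g, h, rfl⟩

theorem bot_mem' : (⊥ : Subalgebra A B) ∈ 𝒮' A B := by
  refine ⟨A, inferInstance, inferInstance, Algebra.ofId A B, ?_, ?_, ?_⟩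
  · have : IsIso (Spec.map (CommRingCat.ofHom (algebraMap A A))) := by
      rw [Algebra.algebraMap_self]
      change IsIso (Spec.map (𝟙 (CommRingCat.of A)))
      infer_instance
    exact isUnivHomeo_of_isIso _
  · rw [Algebra.algebraMap_self]
    exact trivRes_id
  · exact Algebra.range_ofId.symm

theorem directed' : DirectedOn (· ≤ ·) (𝒮' A B) := by
  rintro S₁ ⟨C₁, _, _, g₁, h₁, t₁, rfl⟩ S₂ ⟨C₂, _, _, g₂, h₂, t₂, rfl⟩
  refine ⟨(Algebra.TensorProduct.productMap g₁ g₂).range,
    ⟨C₁ ⊗[A] C₂, inferInstance, inferInstance, Algebra.TensorProduct.productMap g₁ g₂,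
      tensor_univHomeo C₁ C₂ h₁ h₂, trivRes_tensor C₁ C₂ t₁ t₂, rfl⟩, ?_, ?_⟩
  · rw [Algebra.TensorProduct.productMap_range]
    exact le_sup_left
  · rw [Algebra.TensorProduct.productMap_range]
    exact le_sup_right

end

/-- Let `A → B` be a ring map with `Spec B → Spec A` dominant. Then some `A`-subalgebra `B' ⊆ B` has
`Spec B' → Spec A` a universal homeomorphism with trivial residue field extensions and contains the
image of `C → B` for every `A`-algebra `C` with an `A`-algebra map `C → B` such that `Spec C → Spec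
A` is a universal homeomorphism with trivial residue field extensions. (Trivial residue field
extensions: every residue field map of the morphism of spectra is surjective. The test algebras `C`
range over the universe of `A` and `B`.) -/
theorem result {A B : Type u} [CommRing A] [CommRing B] [Algebra A B]
    [IsDominant (Spec.map (CommRingCat.ofHom (algebraMap A B)))] :
    ∃ B' : Subalgebra A B, (FlatMor.IsUnivHomeo (Spec.map (CommRingCat.ofHom (algebraMap A B'))) ∧
      ∀ x : Spec (CommRingCat.of B'),
        Function.Surjective ((Spec.map (CommRingCat.ofHom (algebraMap A B'))).residueFieldMap x)) ∧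
      ∀ (C : Type u) [CommRing C] [Algebra A C] (g : C →ₐ[A] B),
        FlatMor.IsUnivHomeo (Spec.map (CommRingCat.ofHom (algebraMap A C))) →
        (∀ x : Spec (CommRingCat.of C),
          Function.Surjective ((Spec.map (CommRingCat.ofHom (algebraMap A C))).residueFieldMap x)) →
        g.range ≤ B' := by

  refine ⟨sSup (𝒮' A B), ⟨?_, ?_⟩, ?_⟩
  · have hne : (𝒮' A B).Nonempty := ⟨⊥, bot_mem'⟩
    refine isUnivHomeo_sub _ ?_ ?_
    · rintro ⟨b, hb⟩
      obtain ⟨S, hS, hbS⟩ := (mem_sSup_dir hne directed' b).mp hb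
      have := (mem_univHomeo S (sub_S hS)).1 ⟨b, hbS⟩
      have h2 : IsIntegral A b := (isIntegral_algHom_iff S.val Subtype.val_injective).mpr this
      exact (isIntegral_algHom_iff (sSup (𝒮' A B)).val Subtype.val_injective).mp h2
    · intro K _ φ ψ hφψ
      ext ⟨b, hb⟩
      obtain ⟨S, hS, hbS⟩ := (mem_sSup_dir hne directed' b).mp hb
      have hle : S ≤ sSup (𝒮' A B) := le_sSup hS
      have := (mem_univHomeo S (sub_S hS)).2 K (φ.comp (Subalgebra.inclusion hle).toRingHom)
        (ψ.comp (Subalgebra.inclusion hle).toRingHom) (by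
          ext a
          have := congrArg (fun f : A →+* K => f a) hφψ
          simp only [RingHom.comp_apply] at this ⊢
          have e : (Subalgebra.inclusion hle).toRingHom (algebraMap A S a) =
              algebraMap A ↥(sSup (𝒮' A B)) a :=
            (Subalgebra.inclusion hle).commutes a
          rw [e]
          exact this)
      exact congrArg (fun f : S →+* K => f ⟨b, hbS⟩) this
  · rw [← trivRes_iff]
    have hne : (𝒮' A B).Nonempty := ⟨⊥, bot_mem'⟩
    rintro q _ ⟨b, hb⟩
    obtain ⟨S, hS, hbS⟩ := (mem_sSup_dir hne directed' b).mp hb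
    have hle : S ≤ sSup (𝒮' A B) := le_sSup hS
    obtain ⟨C, _, _, g, h, t, rfl⟩ := hS
    obtain ⟨c, rfl⟩ := hbS
    let γ : C →ₐ[A] ↥(sSup (𝒮' A B)) := (Subalgebra.inclusion hle).comp g.rangeRestrict
    have := TrivAt.of_hom t γ.toRingHom q c
    have e2 : γ.toRingHom.comp (algebraMap A C) = algebraMap A ↥(sSup (𝒮' A B)) :=
      γ.comp_algebraMap
    rw [e2] at this
    exact this
  · intro C _ _ g hg ht
    exact le_sSup ⟨C, inferInstance, inferInstance, g, hg, (trivRes_iff _).mpr ht, rfl⟩

end Groth.Agent.S7428
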