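import Groth.Statements.S7429
import Mathlib.AlgebraicGeometry.Restrict
import Mathlib.AlgebraicGeometry.Sites.Etale
import Mathlib.AlgebraicGeometry.Sites.Fpqc
import Mathlib.AlgebraicGeometry.Morphisms.UniversallyOpen
import Mathlib.Tactic

set_option autoImplicit false
universe u
open CategoryTheory AlgebraicGeometry
open Desc

namespace Groth.Agent.S7429


section general
variable (PK : MorphismProperty Scheme.{u}) [PK.IsStableUnderBaseChange]
  [PK.IsStableUnderComposition] (P : MorphismProperty Scheme.{u})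
  [P.IsLocalAtSource (Scheme.precoverage PK)]

include PK in
/-- precomposition with a `PK`-morphism preserves `P` -/
theorem comp_of_PK (hPKoi : ∀ {X Y : Scheme.{u}} (f : X ⟶ Y), IsOpenImmersion f → PK f)
    {Z W Y : Scheme.{u}} (h : Z ⟶ W) (hh : PK h) (q : W ⟶ Y) (hq : P q) : P (h ≫ q) := by
  let Yb : Bool → Scheme.{u} := fun b => bif b then Z else W
  let fb : ∀ b, Yb b ⟶ W := fun b => match b with
    | true => h
    | false => 𝟙 W
  have hmem : Presieve.ofArrows Yb fb ∈ Scheme.precoverage PK W := by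
    rw [Scheme.ofArrows_mem_precoverage_iff]
    refine ⟨fun x => ⟨false, x, rfl⟩, fun b => ?_⟩
    cases b
    · exact hPKoi _ (inferInstanceAs (IsOpenImmersion (𝟙 W)))
    · exact hh
  exact MorphismProperty.IsLocalAtSource.comp (K := Scheme.precoverage PK) hmem (fb true)
    (Presieve.ofArrows.mk true) hq

include PK in
set_option maxHeartbeats 800000 in
theorem main (hPKoi : ∀ {X Y : Scheme.{u}} (f : X ⟶ Y), IsOpenImmersion f → PK f)
    (hPKopen : ∀ {X Y : Scheme.{u}} (f : X ⟶ Y), PK f → IsOpenMap f)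
    {X Y : Scheme.{u}} (f : X ⟶ Y) :
    ∃ W : X.Opens, (P (W.ι ≫ f) ∧ ∀ W' : X.Opens, P (W'.ι ≫ f) → W' ≤ W) ∧
      ∀ (X' : Scheme.{u}) (g : X' ⟶ X), PK g → ∀ (V : X'.Opens),
        (P (V.ι ≫ g ≫ f) ∧ ∀ V' : X'.Opens, P (V'.ι ≫ g ≫ f) → V' ≤ V) → V = g ⁻¹ᵁ W := by
  classical
  let ι : Type u := {W' : X.Opens // P (W'.ι ≫ f)}
  let W : X.Opens := ⨆ i : ι, i.1
  have hleW : ∀ i : ι, i.1 ≤ W := fun i => le_iSup (fun i : ι => i.1) i
  have hPW : P (W.ι ≫ f) := by
    have hmem : Presieve.ofArrows (fun i : ι => (i.1 : Scheme.{u}))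
        (fun i => X.homOfLE (hleW i)) ∈ Scheme.precoverage PK W := by
      rw [Scheme.ofArrows_mem_precoverage_iff]
      refine ⟨fun x => ?_, fun i => hPKoi _ inferInstance⟩
      have hx : x.1 ∈ W := x.2
      obtain ⟨i, hi⟩ := TopologicalSpace.Opens.mem_iSup.mp hx
      refine ⟨i, ⟨x.1, hi⟩, ?_⟩
      apply Subtype.ext
      have := congrArg (fun φ : (i.1 : Scheme.{u}) ⟶ X => φ ⟨x.1, hi⟩) (X.homOfLE_ι (hleW i))
      simp only [Scheme.Hom.comp_apply, Scheme.Opens.ι_apply] at this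
      exact this
    apply MorphismProperty.IsLocalAtSource.of_forall_comp (K := Scheme.precoverage PK) hmem
    rintro _ _ ⟨i⟩
    rw [← Category.assoc, X.homOfLE_ι]
    exact i.2
  refine ⟨W, ⟨hPW, fun W' hW' => hleW ⟨W', hW'⟩⟩, ?_⟩
  intro X' g hg V ⟨hPV, hVmax⟩
  apply le_antisymm
  · -- `g(V) ⊆ W`
    have hPKVg : PK (V.ι ≫ g) := PK.comp_mem _ _ (hPKoi _ inferInstance) hg
    let W'' : X.Opens := ⟨Set.range (V.ι ≫ g), (hPKopen _ hPKVg).isOpen_range⟩
    have hrange : Set.range (V.ι ≫ g) ⊆ Set.range W''.ι := by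
      rw [Scheme.Opens.range_ι]; exact subset_rfl
    let γ : V.toScheme ⟶ W''.toScheme := IsOpenImmersion.lift W''.ι (V.ι ≫ g) hrange
    have hγ : γ ≫ W''.ι = V.ι ≫ g := IsOpenImmersion.lift_fac _ _ _
    have hγK : Presieve.singleton γ ∈ Scheme.precoverage PK W'' := by
      rw [Scheme.singleton_mem_precoverage_iff]
      constructor
      · intro w
        obtain ⟨τ, hτ⟩ := w.2
        refine ⟨τ, Subtype.ext ?_⟩
        have := congrArg (fun φ : V.toScheme ⟶ X => φ τ) hγ
        simp only [Scheme.Hom.comp_apply, Scheme.Opens.ι_apply] at this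
        exact this.trans hτ
      · have : PK (γ ≫ W''.ι) := hγ ▸ hPKVg
        exact MorphismProperty.of_postcomp (W := PK) (W' := MorphismProperty.monomorphisms _)
          γ W''.ι (MorphismProperty.monomorphisms.infer_property _) this
    have hPW'' : P (W''.ι ≫ f) := by
      apply MorphismProperty.IsLocalAtSource.of_forall_comp (K := Scheme.precoverage PK) hγK
      rintro _ _ ⟨⟩
      rw [← Category.assoc, hγ, Category.assoc]
      exact hPV
    have hW''W : W'' ≤ W := hleW ⟨W'', hPW''⟩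
    intro x hx
    apply hW''W
    refine ⟨⟨x, hx⟩, ?_⟩
    simp only [Scheme.Hom.comp_apply, Scheme.Opens.ι_apply]
  · apply hVmax
    have e1 : (g ⁻¹ᵁ W).ι ≫ g ≫ f = (g ∣_ W) ≫ W.ι ≫ f := by
      rw [← Category.assoc, ← morphismRestrict_ι, Category.assoc]
    rw [e1]
    exact comp_of_PK PK P hPKoi (g ∣_ W)
      (PK.of_isPullback (isPullback_morphismRestrict g W).flip hg) _ hPW

end general

/-- Suppose `P` is a property of scheme morphisms that is local on the source for the étale topology.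
For every morphism `f : X → Y` there is a largest open `W(f) ⊆ X` such that `f|_{W(f)}` has `P`;
moreover for `g : X' → X` étale and `f' = f ∘ g` one has `W(f') = g⁻¹(W(f))`. -/
theorem result (P : MorphismProperty Scheme.{u})
    [P.IsLocalAtSource Scheme.etalePrecoverage] {X Y : Scheme.{u}} (f : X ⟶ Y) :
    ∃ W : X.Opens, (P (W.ι ≫ f) ∧ ∀ W' : X.Opens, P (W'.ι ≫ f) → W' ≤ W) ∧
      ∀ (X' : Scheme.{u}) (g : X' ⟶ X) [Etale g] (V : X'.Opens),
        (P (V.ι ≫ g ≫ f) ∧ ∀ V' : X'.Opens, P (V'.ι ≫ g ≫ f) → V' ≤ V) → V = g ⁻¹ᵁ W := by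
  haveI : P.IsLocalAtSource (Scheme.precoverage @Etale) :=
    ‹P.IsLocalAtSource Scheme.etalePrecoverage›
  obtain ⟨W, hW, h⟩ := main @Etale P (fun f hf => inferInstance) (fun f hf => f.isOpenMap) f
  exact ⟨W, hW, fun X' g _ V hV => h X' g inferInstance V hV⟩

end Groth.Agent.S7429
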