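import Groth.Statements.S7431
import Groth.Agent.Lib.helper11.CartSq

set_option autoImplicit false
universe u
open CategoryTheory AlgebraicGeometry
open Lim

namespace Groth.Agent.S7431

/-- Let `B' = B ×_R R'` be a cartesian square of rings with maps `s : B → R`, `t : R' → R`, and let `W'
= D(f_1) ∪ … ∪ D(f_n) ⊆ Spec R'` with `t(f_i) = s(g_i)` for elements `g_i ∈ B` such that `B_{g_i} →
R_{s(g_i)}` is an isomorphism for each `i`. Then the composite `W' → Spec R' → Spec B'`, the second
map coming from `B' → R'`, is an open immersion. -/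
theorem result {B B' R R' : Type u} [CommRing B] [CommRing B']
    [CommRing R] [CommRing R'] (s : B →+* R) (t : R' →+* R) (p : B' →+* B) (q : B' →+* R')
    (hsq : IsPullback (CommRingCat.ofHom p) (CommRingCat.ofHom q) (CommRingCat.ofHom s) (CommRingCat.ofHom t))
    {n : ℕ} (f : Fin n → R') (g : Fin n → B) (hfg : ∀ i, t (f i) = s (g i))
    (hiso : ∀ i, Function.Bijective (Localization.awayMap s (g i))) :
    IsOpenImmersion (Scheme.Opens.ι (X := Spec (CommRingCat.of R')) (⨆ i, PrimeSpectrum.basicOpen (f i)) ≫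
      Spec.map (CommRingCat.ofHom q)) := by
  obtain ⟨P1, P2, P3⟩ := Groth.Agent.Lib.helper11.CartSq.pullback_facts s t p q hsq
  choose h hp hq using fun i => P3 (g i) (f i) (hfg i).symm
  let φ : Spec (CommRingCat.of R') ⟶ Spec (CommRingCat.of B') := Spec.map (CommRingCat.ofHom q)
  let W' : (Spec (CommRingCat.of R')).Opens := ⨆ i, PrimeSpectrum.basicOpen (f i)
  let ρ : ∀ i, Spec (CommRingCat.of (Localization.Away (f i))) ⟶ Spec (CommRingCat.of R') :=
    fun i => Spec.map (CommRingCat.ofHom (algebraMap R' (Localization.Away (f i))))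
  have hρφ : ∀ i, IsOpenImmersion (ρ i ≫ φ) := by
    intro i
    letI : Algebra B' (Localization.Away (f i)) :=
      ((algebraMap R' (Localization.Away (f i))).comp q).toAlgebra
    haveI : IsLocalization.Away (h i) (Localization.Away (f i)) :=
      Groth.Agent.Lib.helper11.CartSq.isLocalization_away s t p q P1 P2 P3 (f i) (g i) (h i)
        (hp i) (hq i) (hiso i)
    have hoi := IsOpenImmersion.of_isLocalization (R := B') (S := Localization.Away (f i)) (h i)
    have e : ρ i ≫ φ = Spec.map (CommRingCat.ofHom (algebraMap B' (Localization.Away (f i)))) := by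
      show Spec.map _ ≫ Spec.map _ = _
      rw [← Spec.map_comp]; rfl
    rw [e]; exact hoi
  have hrange : ∀ i, Set.range (ρ i) = (PrimeSpectrum.basicOpen (f i) : Set (PrimeSpectrum R')) :=
    fun i => PrimeSpectrum.localization_away_comap_range _ (f i)
  show IsOpenImmersion (W'.ι ≫ φ)
  apply Groth.Agent.Lib.helper11.CartSq.isOpenImmersion_of_locally
  · intro x y hxy
    obtain ⟨i, hi⟩ := TopologicalSpace.Opens.mem_iSup.mp x.2
    have hxy' : φ x.1 = φ y.1 := hxy
    have hyi : y.1 ∈ PrimeSpectrum.basicOpen (f i) := by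
      have h1 : x.1 ∈ φ ⁻¹ᵁ PrimeSpectrum.basicOpen (h i) := by
        rw [SpecMap_preimage_basicOpen]
        show x.1 ∈ PrimeSpectrum.basicOpen (q (h i))
        rw [hq]; exact hi
      have h2 : y.1 ∈ φ ⁻¹ᵁ PrimeSpectrum.basicOpen (h i) := by
        show φ y.1 ∈ PrimeSpectrum.basicOpen (h i)
        rw [← hxy']; exact h1
      rw [SpecMap_preimage_basicOpen] at h2
      have h3 : y.1 ∈ PrimeSpectrum.basicOpen (q (h i)) := h2
      rw [hq] at h3; exact h3
    obtain ⟨a, ha⟩ : x.1 ∈ Set.range (ρ i) := by rw [hrange]; exact hi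
    obtain ⟨b, hb⟩ : y.1 ∈ Set.range (ρ i) := by rw [hrange]; exact hyi
    have hab : (ρ i ≫ φ) a = (ρ i ≫ φ) b := by
      show φ (ρ i a) = φ (ρ i b)
      rw [ha, hb, hxy']
    have hab' := (hρφ i).base_open.injective hab
    apply Subtype.ext
    rw [← ha, ← hb, hab']
  · intro x
    obtain ⟨i, hi⟩ := TopologicalSpace.Opens.mem_iSup.mp x.2
    let U : W'.toScheme.Opens :=
      W'.ι ⁻¹ᵁ (PrimeSpectrum.basicOpen (f i) : (Spec (CommRingCat.of R')).Opens)
    refine ⟨U, hi, ?_⟩
    have hsub : Set.range (U.ι ≫ W'.ι) ⊆ Set.range (ρ i) := by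
      rw [hrange]; rintro _ ⟨z, rfl⟩; exact z.2
    haveI := hρφ i
    let l := IsOpenImmersion.lift (ρ i) (U.ι ≫ W'.ι) hsub
    have hl : l ≫ ρ i = U.ι ≫ W'.ι := IsOpenImmersion.lift_fac _ _ _
    haveI : IsOpenImmersion (l ≫ ρ i) := by rw [hl]; infer_instance
    haveI : IsOpenImmersion l := IsOpenImmersion.of_comp l (ρ i)
    have e : U.ι ≫ W'.ι ≫ φ = l ≫ (ρ i ≫ φ) := by
      rw [← Category.assoc, ← hl, Category.assoc]
    rw [e]; infer_instance

end Groth.Agent.S7431
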