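import Groth.Statements.S7444
import Groth.Agent.Lib.helper11.FPColim
import Groth.Agent.S7398
import Groth.Agent.S7400
import Groth.Agent.S7443

set_option autoImplicit false
universe u
open CategoryTheory AlgebraicGeometry
open Mor

namespace Groth.Agent.S7444


open Groth.Agent.Lib.helper11.UnivHomeo Groth.Agent.Lib.helper11.UHRing
open Groth.Agent.Lib.helper11.FPColim Groth.Agent.Lib.helper11.TrivRes Polynomial

theorem trivRes_comp {A C D : Type u} [CommRing A] [CommRing C] [CommRing D]
    (α : A →+* C) (β : C →+* D) (hα : TrivRes α) (hβ : TrivRes β) : TrivRes (β.comp α) := by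
  intro q _ d
  obtain ⟨c, t, ht, hmem⟩ := hβ q d
  exact Groth.Agent.S7400.TrivAt.div (TrivAt.of_hom hα β q t) (TrivAt.of_hom hα β q c) ht hmem

theorem trivRes_comp_surj {A C D : Type u} [CommRing A] [CommRing C] [CommRing D]
    (α : A →+* C) (π : C →+* D) (hπ : Function.Surjective π) (hα : TrivRes α) :
    TrivRes (π.comp α) := by
  intro q _ d
  obtain ⟨c, rfl⟩ := hπ d
  exact TrivAt.of_hom hα π q c

/-- the class of ring maps with trivial residue field extensions. -/
def clsTr (A : Type u) [CommRing A] : Cls A where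
  T := fun α => TrivRes α
  id := trivRes_id
  surj := fun α π hπ hα => trivRes_comp_surj α π hπ hα
  tensor := fun h₁ h₂ => trivRes_tensor _ _ h₁ h₂

theorem surj_tr {A B : Type u} [CommRing A] [CommRing B] [Algebra A B]
    (hB : UH (algebraMap A B)) (htr : TrivRes (algebraMap A B)) :
    ∀ b : B, b ∈ reach A B (clsTr A) := by
  by_contra hcon
  push Not at hcon
  obtain ⟨b₀, hb₀⟩ := hcon
  have hns : ¬ Function.Surjective
      ((reach A B (clsTr A)).val : reach A B (clsTr A) →+* B) := by
    intro hs
    obtain ⟨r, hr⟩ := hs b₀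
    apply hb₀
    rw [← hr]
    exact r.2
  obtain ⟨b, hb, ⟨r₂, h2⟩, ⟨r₃, h3⟩⟩ := Groth.Agent.S7398.result
    ((reach A B (clsTr A)).val : reach A B (clsTr A) →+* B)
    Subtype.val_injective hns (Groth.Agent.S7443.uh_val hB _)
    ((trivRes_iff _).mp (Groth.Agent.S7400.trivRes_val htr _))
  apply hb
  have hbR : b ∈ reach A B (clsTr A) :=
    step23 hB (fun α x y hxy hα => trivRes_comp α _ hα
      ((trivRes_iff _).mpr (Groth.Agent.S7402.result _ x y hxy).2))
      (by rw [← h2]; exact r₂.2) (by rw [← h3]; exact r₃.2)
  exact ⟨⟨b, hbR⟩, rfl⟩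

/-- Let `φ : A → B` be a ring map such that `Spec B → Spec A` is a universal homeomorphism and all
residue field extensions are trivial (every residue field map is surjective). Then `B`, as an
`A`-algebra, is the colimit of a filtered diagram of finitely presented `A`-algebras `B_i`, each of
which has the same two properties over `A`. (The colimit is taken in the category of rings under
`A`, over a small filtered index category.) -/
theorem result {A B : Type u} [CommRing A] [CommRing B]
    (φ : A →+* B) (hφ : FlatMor.IsUnivHomeo (Spec.map (CommRingCat.ofHom φ)))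
    (hres : ∀ x : Spec (CommRingCat.of B), Function.Surjective ((Spec.map (CommRingCat.ofHom φ)).residueFieldMap x)) :
    ∃ (J : Type u) (_ : SmallCategory J) (_ : IsFiltered J) (F : J ⥤ Under (CommRingCat.of A))
      (c : Limits.Cocone F) (_ : Limits.IsColimit c),
      (∀ j, (F.obj j).hom.hom.FinitePresentation ∧ FlatMor.IsUnivHomeo (Spec.map (F.obj j).hom) ∧
        ∀ x : Spec (F.obj j).right, Function.Surjective ((Spec.map (F.obj j).hom).residueFieldMap x)) ∧
      Nonempty (c.pt ≅ Under.mk (CommRingCat.ofHom φ)) := by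

  letI := φ.toAlgebra
  have hB : UH (algebraMap A B) := hφ
  have htr : TrivRes (algebraMap A B) := (trivRes_iff _).mpr hres
  refine ⟨Obj A B (clsTr A), inferInstance, inferInstance, F A B _, cc A B _,
    isColimitCc A B _ hB (surj_tr hB htr), ?_, ⟨Iso.refl _⟩⟩
  intro j
  exact ⟨fp_obj A B _ j, j.uh, (trivRes_iff _).mp j.t⟩

end Groth.Agent.S7444
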