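import Groth.Statements.S7457
import Mathlib.Tactic

set_option autoImplicit false
universe u
open CategoryTheory CategoryTheory.Limits AlgebraicGeometry
open Grpd

namespace Groth.Agent.S7457


section aux
variable {S : Scheme.{u}} (G : Grpd.GroupoidScheme S)

/-- composition on `T`-points -/
noncomputable def cmp {T : Scheme.{u}} (α β : T ⟶ G.R) (h : α ≫ G.s = β ≫ G.t) : T ⟶ G.R :=
  pullback.lift α β h ≫ G.c

theorem cmp_congr {T : Scheme.{u}} {α α' β β' : T ⟶ G.R} (hα : α = α') (hβ : β = β')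
    (h : α ≫ G.s = β ≫ G.t) (h' : α' ≫ G.s = β' ≫ G.t) : cmp G α β h = cmp G α' β' h' := by
  subst hα; subst hβ; rfl

theorem pre_cmp {T T' : Scheme.{u}} (f : T' ⟶ T) (α β : T ⟶ G.R) (h : α ≫ G.s = β ≫ G.t) :
    f ≫ cmp G α β h = cmp G (f ≫ α) (f ≫ β) (by rw [Category.assoc, Category.assoc, h]) := by
  unfold cmp
  rw [← Category.assoc]
  congr 1
  apply pullback.hom_ext
  · rw [Category.assoc, pullback.lift_fst, pullback.lift_fst]
  · rw [Category.assoc, pullback.lift_snd, pullback.lift_snd]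

theorem cmp_s {T : Scheme.{u}} (α β : T ⟶ G.R) (h : α ≫ G.s = β ≫ G.t) :
    cmp G α β h ≫ G.s = β ≫ G.s := G.comp_s α β h

theorem cmp_t {T : Scheme.{u}} (α β : T ⟶ G.R) (h : α ≫ G.s = β ≫ G.t) :
    cmp G α β h ≫ G.t = α ≫ G.t := G.comp_t α β h

theorem cmp_assoc {T : Scheme.{u}} (α β γ : T ⟶ G.R) (h₁ : α ≫ G.s = β ≫ G.t)
    (h₂ : β ≫ G.s = γ ≫ G.t) :
    cmp G (cmp G α β h₁) γ ((cmp_s G α β h₁).trans h₂) =
      cmp G α (cmp G β γ h₂) (h₁.trans (cmp_t G β γ h₂).symm) := G.assoc α β γ h₁ h₂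

theorem i_cmp {T : Scheme.{u}} (α : T ⟶ G.R) (h : (α ≫ G.i) ≫ G.s = α ≫ G.t) :
    cmp G (α ≫ G.i) α h = α ≫ G.s ≫ G.e := G.i_comp α

theorem cmp_i {T : Scheme.{u}} (α : T ⟶ G.R) (h : α ≫ G.s = (α ≫ G.i) ≫ G.t) :
    cmp G α (α ≫ G.i) h = α ≫ G.t ≫ G.e := G.comp_i α

theorem cmp_fst_snd : cmp G (pullback.fst G.s G.t) (pullback.snd G.s G.t) pullback.condition = G.c := by
  unfold cmp
  rw [pullback.lift_fst_snd, Category.id_comp]

theorem hom_eq_lift {T : Scheme.{u}} (w : T ⟶ pullback G.s G.t) :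
    w ≫ G.c = cmp G (w ≫ pullback.fst G.s G.t) (w ≫ pullback.snd G.s G.t)
      (by rw [Category.assoc, Category.assoc, pullback.condition]) := by
  rw [← cmp_fst_snd, pre_cmp]

/-- `a⁻¹ ∘ (a ∘ d) = d`. -/
theorem inv_cmp_cmp {T : Scheme.{u}} (a d : T ⟶ G.R) (h : a ≫ G.s = d ≫ G.t) :
    cmp G (a ≫ G.i) (cmp G a d h)
      (by rw [Category.assoc, G.i_s, cmp_t]) = d := by
  have h1 : (a ≫ G.i) ≫ G.s = a ≫ G.t := by rw [Category.assoc, G.i_s]
  have := cmp_assoc G (a ≫ G.i) a d h1 h
  rw [← this]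
  have h2 : cmp G (a ≫ G.i) a h1 = d ≫ G.t ≫ G.e := by
    rw [i_cmp G a, ← Category.assoc, h, Category.assoc]
  rw [cmp_congr G h2 rfl _ (by rw [Category.assoc, Category.assoc, G.e_s, Category.comp_id])]
  exact G.e_comp d

/-- `a ∘ (a⁻¹ ∘ b) = b`. -/
theorem cmp_inv_cmp {T : Scheme.{u}} (a b : T ⟶ G.R) (h : a ≫ G.t = b ≫ G.t) :
    cmp G a (cmp G (a ≫ G.i) b (by rw [Category.assoc, G.i_s, h]))
      (by rw [cmp_t, Category.assoc, G.i_t]) = b := by
  have h1 : a ≫ G.s = (a ≫ G.i) ≫ G.t := by rw [Category.assoc, G.i_t]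
  have h2 : (a ≫ G.i) ≫ G.s = b ≫ G.t := by rw [Category.assoc, G.i_s, h]
  have := cmp_assoc G a (a ≫ G.i) b h1 h2
  rw [← this]
  have h3 : cmp G a (a ≫ G.i) h1 = b ≫ G.t ≫ G.e := by
    rw [cmp_i G a, ← Category.assoc, h, Category.assoc]
  rw [cmp_congr G h3 rfl _ (by rw [Category.assoc, Category.assoc, G.e_s, Category.comp_id])]
  exact G.e_comp b

/-- `(x ∘ y⁻¹) ∘ y = x`. -/
theorem cmp_inv_cmp' {T : Scheme.{u}} (x y : T ⟶ G.R) (h : x ≫ G.s = y ≫ G.s) :
    cmp G (cmp G x (y ≫ G.i) (by rw [Category.assoc, G.i_t, h])) y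
      (by rw [cmp_s, Category.assoc, G.i_s]) = x := by
  have h1 : x ≫ G.s = (y ≫ G.i) ≫ G.t := by rw [Category.assoc, G.i_t, h]
  have h2 : (y ≫ G.i) ≫ G.s = y ≫ G.t := by rw [Category.assoc, G.i_s]
  rw [cmp_assoc G x (y ≫ G.i) y h1 h2]
  have h3 : cmp G (y ≫ G.i) y h2 = x ≫ G.s ≫ G.e := by
    rw [i_cmp G y, ← Category.assoc, ← h, Category.assoc]
  rw [cmp_congr G rfl h3 _ (by rw [Category.assoc, Category.assoc, G.e_t, Category.comp_id])]
  exact G.comp_e x

/-- `(a ∘ y) ∘ y⁻¹ = a`. -/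
theorem cmp_cmp_inv {T : Scheme.{u}} (a y : T ⟶ G.R) (h : a ≫ G.s = y ≫ G.t) :
    cmp G (cmp G a y h) (y ≫ G.i) (by rw [cmp_s, Category.assoc, G.i_t]) = a := by
  have h2 : y ≫ G.s = (y ≫ G.i) ≫ G.t := by rw [Category.assoc, G.i_t]
  rw [cmp_assoc G a y (y ≫ G.i) h h2]
  have h3 : cmp G y (y ≫ G.i) h2 = a ≫ G.s ≫ G.e := by
    rw [cmp_i G y, ← Category.assoc, ← h, Category.assoc]
  rw [cmp_congr G rfl h3 _ (by rw [Category.assoc, Category.assoc, G.e_t, Category.comp_id])]
  exact G.comp_e a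

end aux

/-- Let (U, R, s, t, c) be a groupoid scheme over S. Let φ : R x_(t,U,t) R -> R x_(s,U,t) R be the
morphism sending a pair (a, b) with the same target to (a, a^{-1} composed with b), that is, the
morphism whose first component is the first projection and whose second component is c applied to (i
composed after the first projection, second projection). Then φ is an isomorphism and composed with
c it gives the second projection. Moreover the square with sides c, the second projection R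
x_(s,U,t) R -> R, s and s is cartesian. (A groupoid scheme carries U, R, s, t, c, e, i over S with
the groupoid axioms on T-points; c is defined on the fibre product of s and t and sends a pair (a,
b) with s(a) = t(b) to a composed with b.) -/
theorem result (S : Scheme.{u}) (G : Grpd.GroupoidScheme S) : (∀ φ : pullback G.t G.t ⟶ pullback G.s G.t, φ ≫ pullback.fst G.s G.t = pullback.fst G.t G.t → φ ≫ pullback.snd G.s G.t = pullback.lift (pullback.fst G.t G.t ≫ G.i) (pullback.snd G.t G.t) ((Category.assoc _ _ _).trans ((congrArg (fun x => pullback.fst G.t G.t ≫ x) G.i_s).trans pullback.condition)) ≫ G.c → IsIso φ ∧ φ ≫ G.c = pullback.snd G.t G.t) ∧ IsPullback G.c (pullback.snd G.s G.t) G.s G.s := by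
  constructor
  · intro φ hφ₁ hφ₂
    -- φ ≫ c = snd
    have hc : φ ≫ G.c = pullback.snd G.t G.t := by
      rw [hom_eq_lift]
      have hsnd : φ ≫ pullback.snd G.s G.t =
          cmp G (pullback.fst G.t G.t ≫ G.i) (pullback.snd G.t G.t)
            (by rw [Category.assoc, G.i_s, pullback.condition]) := hφ₂
      rw [cmp_congr G hφ₁ hsnd _ (by rw [cmp_t, Category.assoc, G.i_t])]
      exact cmp_inv_cmp G _ _ pullback.condition
    refine ⟨?_, hc⟩
    -- inverse
    let ψ : pullback G.s G.t ⟶ pullback G.t G.t :=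
      pullback.lift (pullback.fst G.s G.t) G.c (by
        rw [← cmp_fst_snd, cmp_t])
    refine ⟨ψ, ?_, ?_⟩
    · apply pullback.hom_ext
      · rw [Category.assoc, pullback.lift_fst, hφ₁, Category.id_comp]
      · rw [Category.assoc, pullback.lift_snd, hc, Category.id_comp]
    · apply pullback.hom_ext
      · rw [Category.assoc, hφ₁, pullback.lift_fst, Category.id_comp]
      · rw [Category.assoc, hφ₂, Category.id_comp]
        change ψ ≫ cmp G (pullback.fst G.t G.t ≫ G.i) (pullback.snd G.t G.t) _ = _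
        rw [pre_cmp]
        have e1 : ψ ≫ pullback.fst G.t G.t ≫ G.i = pullback.fst G.s G.t ≫ G.i := by
          rw [← Category.assoc, pullback.lift_fst]
        have e2 : ψ ≫ pullback.snd G.t G.t =
            cmp G (pullback.fst G.s G.t) (pullback.snd G.s G.t) pullback.condition := by
          rw [pullback.lift_snd, cmp_fst_snd]
        rw [cmp_congr G e1 e2 _ (by rw [Category.assoc, G.i_s, cmp_t])]
        exact inv_cmp_cmp G _ _ pullback.condition
  · have hsq : G.c ≫ G.s = pullback.snd G.s G.t ≫ G.s := by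
      rw [← cmp_fst_snd, cmp_s]
    refine IsPullback.of_isLimit (c := PullbackCone.mk G.c (pullback.snd G.s G.t) hsq) ?_
    refine PullbackCone.IsLimit.mk hsq
      (fun sc => pullback.lift
        (cmp G sc.fst (sc.snd ≫ G.i) (by rw [Category.assoc, G.i_t, sc.condition])) sc.snd
        (by rw [cmp_s, Category.assoc, G.i_s])) ?_ ?_ ?_
    · intro sc
      rw [hom_eq_lift]
      rw [cmp_congr G (pullback.lift_fst _ _ _) (pullback.lift_snd _ _ _) _
        (by rw [cmp_s, Category.assoc, G.i_s])]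
      exact cmp_inv_cmp' G sc.fst sc.snd sc.condition
    · intro sc
      exact pullback.lift_snd _ _ _
    · intro sc m hm₁ hm₂
      apply pullback.hom_ext
      · rw [pullback.lift_fst]
        have h0 : (m ≫ pullback.fst G.s G.t) ≫ G.s = sc.snd ≫ G.t := by
          rw [Category.assoc, pullback.condition, ← Category.assoc, hm₂]
        have h1 : sc.fst = cmp G (m ≫ pullback.fst G.s G.t) sc.snd h0 := by
          rw [← hm₁, hom_eq_lift]
          exact cmp_congr G rfl hm₂ _ _
        rw [cmp_congr G h1 rfl _ (by rw [cmp_s, Category.assoc, G.i_t])]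
        exact (cmp_cmp_inv G _ _ h0).symm
      · rw [pullback.lift_snd, hm₂]

end Groth.Agent.S7457
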