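import Groth.Statements.S7452
import Groth.Agent.S7457
import Mathlib.AlgebraicGeometry.Morphisms.UniversallyOpen
import Mathlib.Tactic

set_option autoImplicit false
universe u
open CategoryTheory CategoryTheory.Limits AlgebraicGeometry
open Grpd

namespace Groth.Agent.S7452

/-- Let (U, R, s, t, c) be a groupoid scheme over S with U the spectrum of a field. Then the composition
c : R x_(s,U,t) R -> R is an open map of topological spaces. (A groupoid scheme carries U, R, s, t,
c, e, i over S with the groupoid axioms on T-points; c is defined on the fibre product of s and t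
and sends a pair (a, b) with s(a) = t(b) to a composed with b.) -/
theorem result (S : Scheme.{u}) (G : Grpd.GroupoidScheme S) (k : Type u) [Field k] (eU : G.U ≅ Spec (CommRingCat.of k)) : IsOpenMap ⇑G.c := by
  -- the target morphism is universally open
  haveI : IsIntegral G.U := by
    have : IsIntegral (Spec (CommRingCat.of k)) := inferInstance
    have : Nonempty G.U := ⟨eU.inv (IsLocalRing.closedPoint k)⟩
    exact isIntegral_of_isOpenImmersion eU.hom
  haveI : Subsingleton G.U := eU.hom.homeomorph.subsingleton
  haveI : UniversallyOpen G.t := inferInstance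
  -- the comparison isomorphism
  have hφ0 : (pullback.fst G.t G.t ≫ G.i) ≫ G.s = pullback.snd G.t G.t ≫ G.t :=
    (Category.assoc _ _ _).trans ((congrArg (fun x => pullback.fst G.t G.t ≫ x) G.i_s).trans
      pullback.condition)
  have hφ1 : pullback.fst G.t G.t ≫ G.s =
      (pullback.lift (pullback.fst G.t G.t ≫ G.i) (pullback.snd G.t G.t) hφ0 ≫ G.c) ≫ G.t := by
    rw [G.comp_t, Category.assoc, G.i_t]
  let φ : pullback G.t G.t ⟶ pullback G.s G.t :=
    pullback.lift (pullback.fst G.t G.t)
      (pullback.lift (pullback.fst G.t G.t ≫ G.i) (pullback.snd G.t G.t) hφ0 ≫ G.c) hφ1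
  obtain ⟨hiso, hc⟩ := (Groth.Agent.S7457.result S G).1 φ (pullback.lift_fst _ _ _)
    (pullback.lift_snd _ _ _)
  have hc' : G.c = inv φ ≫ pullback.snd G.t G.t := by
    rw [IsIso.eq_inv_comp, hc]
  rw [hc']
  have h1 : IsOpenMap ⇑(pullback.snd G.t G.t) := (pullback.snd G.t G.t).isOpenMap
  have h2 : IsOpenMap ⇑(inv φ) := (inv φ).homeomorph.isOpenMap
  have : ⇑(inv φ ≫ pullback.snd G.t G.t) = ⇑(pullback.snd G.t G.t) ∘ ⇑(inv φ) := by
    ext x
    simp
  rw [this]
  exact h1.comp h2

end Groth.Agent.S7452
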