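import Groth.Statements.S7453
import Groth.Agent.Lib.helper11.GrpdCmp
import Mathlib.AlgebraicGeometry.Morphisms.Separated
import Mathlib.AlgebraicGeometry.Morphisms.Immersion
import Mathlib.Tactic

set_option autoImplicit false
universe u
open CategoryTheory CategoryTheory.Limits AlgebraicGeometry
open Grpd

namespace Groth.Agent.S7453


open Groth.Agent.Lib.helper11.GrpdCmp

/-- a section over the spectrum of a field has closed image -/
theorem isClosed_range_section {R : Scheme.{u}} (k : Type u) [Field k]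
    (σ : Spec (CommRingCat.of k) ⟶ R) (π : R ⟶ Spec (CommRingCat.of k)) (h : σ ≫ π = 𝟙 _) :
    IsClosed (Set.range σ) := by
  let pt : Spec (CommRingCat.of k) := (default : PrimeSpectrum k)
  have hrange : Set.range σ = {σ pt} := by
    ext r
    constructor
    · rintro ⟨x, rfl⟩
      rw [Set.mem_singleton_iff, Subsingleton.elim (α := PrimeSpectrum k) x pt]
    · rintro rfl
      exact ⟨pt, rfl⟩
  rw [← closure_subset_iff_isClosed, hrange]
  intro r₁ hr₁
  have hspec : σ pt ⤳ r₁ := specializes_iff_mem_closure.mpr hr₁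
  obtain ⟨W, hW, hr₁W, -⟩ := exists_isAffineOpen_mem_and_subset (x := r₁) (U := ⊤) trivial
  have hr₀W : σ pt ∈ W := hspec.mem_open W.2 hr₁W
  -- factor σ through W
  have hσW : Set.range σ ⊆ Set.range W.ι := by
    rw [hrange, Scheme.Opens.range_ι]
    exact Set.singleton_subset_iff.mpr hr₀W
  let σ' : Spec (CommRingCat.of k) ⟶ W.toScheme := IsOpenImmersion.lift W.ι σ hσW
  have hσ' : σ' ≫ W.ι = σ := IsOpenImmersion.lift_fac _ _ _
  let τ : Spec (CommRingCat.of k) ⟶ Spec Γ(R, W) := σ' ≫ hW.isoSpec.hom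
  let ρ : Spec Γ(R, W) ⟶ Spec (CommRingCat.of k) := hW.isoSpec.inv ≫ W.ι ≫ π
  have hτρ : τ ≫ ρ = 𝟙 _ := by
    change (σ' ≫ hW.isoSpec.hom) ≫ hW.isoSpec.inv ≫ W.ι ≫ π = 𝟙 _
    rw [Category.assoc, Iso.hom_inv_id_assoc, ← Category.assoc, hσ', h]
  obtain ⟨φ, hφ⟩ := Spec.map_surjective τ
  obtain ⟨ψ, hψ⟩ := Spec.map_surjective ρ
  have hψφ : ψ ≫ φ = 𝟙 _ := by
    apply Spec.map_injective
    rw [Spec.map_comp, hφ, hψ, hτρ, Spec.map_id]
  have hsurj : Function.Surjective φ.hom := by
    intro x
    refine ⟨ψ.hom x, ?_⟩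
    have := congrArg (fun f => f.hom x) hψφ
    simpa using this
  have hmax : (RingHom.ker φ.hom).IsMaximal := RingHom.ker_isMaximal_of_surjective φ.hom hsurj
  -- the two points of `Spec Γ(R, W)`
  obtain ⟨w₁, hw₁⟩ : ∃ w₁ : W.toScheme, W.ι w₁ = r₁ := ⟨⟨r₁, hr₁W⟩, rfl⟩
  let q₀ : Spec Γ(R, W) := τ pt
  let q₁ : Spec Γ(R, W) := hW.isoSpec.hom w₁
  have hq₀ : q₀.asIdeal = RingHom.ker φ.hom := by
    change (τ pt).asIdeal = _
    rw [← hφ]
    change Ideal.comap φ.hom (pt.asIdeal) = _
    have : pt.asIdeal = ⊥ := by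
      have := (default : PrimeSpectrum k).2
      exact Ideal.eq_bot_of_prime _
    rw [this]; rfl
  have h3 : W.ι (σ' pt) = σ pt := by rw [← Scheme.Hom.comp_apply, hσ']
  have hspec' : q₀ ⤳ q₁ := by
    have h1 : (σ' pt) ⤳ w₁ := by
      rw [← W.ι.isEmbedding.toIsInducing.specializes_iff, h3, hw₁]
      exact hspec
    have := h1.map hW.isoSpec.hom.continuous
    change hW.isoSpec.hom (σ' pt) ⤳ q₁ at this
    rw [← Scheme.Hom.comp_apply] at this
    exact this
  have hle : q₀.asIdeal ≤ q₁.asIdeal := by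
    rw [PrimeSpectrum.asIdeal_le_asIdeal, PrimeSpectrum.le_iff_specializes]
    exact hspec'
  have heq : q₀ = q₁ := by
    apply PrimeSpectrum.ext
    rw [hq₀] at hle ⊢
    exact hmax.eq_of_le q₁.2.ne_top hle
  -- back to `R`
  have e : ∀ z : W.toScheme, hW.isoSpec.inv (hW.isoSpec.hom z) = z := fun z => by
    rw [← Scheme.Hom.comp_apply, Iso.hom_inv_id]; rfl
  have h2 : σ' pt = w₁ := by
    have h4 : hW.isoSpec.hom (σ' pt) = hW.isoSpec.hom w₁ := by
      rw [← Scheme.Hom.comp_apply]; exact heq
    rw [← e (σ' pt), ← e w₁, h4]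
  rw [Set.mem_singleton_iff, ← h3, h2, hw₁]

/-- Let (U, R, s, t, c) be a groupoid scheme over S with U the spectrum of a field. Then R is a
separated scheme. (A groupoid scheme carries U, R, s, t, c, e, i over S with the groupoid axioms on
T-points; c is defined on the fibre product of s and t and sends a pair (a, b) with s(a) = t(b) to a
composed with b.) -/
theorem result (S : Scheme.{u}) (G : Grpd.GroupoidScheme S) (k : Type u) [Field k] (eU : G.U ≅ Spec (CommRingCat.of k)) : G.R.IsSeparated := by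
  classical
  -- `e` is a closed immersion
  have he : IsClosedImmersion G.e := by
    haveI : IsImmersion (G.e ≫ G.s) := by rw [G.e_s]; infer_instance
    haveI : IsImmersion G.e := IsImmersion.of_comp G.e G.s
    apply IsClosedImmersion.of_isPreimmersion
    have hcl := isClosed_range_section k (eU.inv ≫ G.e) (G.s ≫ eU.hom)
      (by rw [Category.assoc, ← Category.assoc G.e, G.e_s, Category.id_comp, Iso.inv_hom_id])
    have : Set.range (eU.inv ≫ G.e) = Set.range G.e := by
      ext r
      constructor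
      · rintro ⟨x, rfl⟩
        exact ⟨eU.inv x, by rw [Scheme.Hom.comp_apply]⟩
      · rintro ⟨x, rfl⟩
        refine ⟨eU.hom x, ?_⟩
        rw [← Scheme.Hom.comp_apply, Iso.hom_inv_id_assoc]
    rw [← this]; exact hcl
  -- the diagonal of `s` is a base change of `e`
  have hδ0 : pullback.fst G.s G.s ≫ G.s = (pullback.snd G.s G.s ≫ G.i) ≫ G.t := by
    rw [Category.assoc, G.i_t, pullback.condition]
  let δ : pullback G.s G.s ⟶ G.R := cmp G (pullback.fst G.s G.s) (pullback.snd G.s G.s ≫ G.i) hδ0
  have hsq : pullback.diagonal G.s ≫ δ = G.t ≫ G.e := by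
    change pullback.diagonal G.s ≫ cmp G _ _ hδ0 = _
    rw [pre_cmp]
    have e1 : pullback.diagonal G.s ≫ pullback.fst G.s G.s = 𝟙 _ := pullback.diagonal_fst _
    have e2 : pullback.diagonal G.s ≫ pullback.snd G.s G.s ≫ G.i = 𝟙 _ ≫ G.i := by
      rw [← Category.assoc, pullback.diagonal_snd]
    rw [cmp_congr G e1 e2 _ (by rw [Category.id_comp, Category.id_comp, G.i_t])]
    rw [cmp_i G (𝟙 G.R), Category.id_comp]
  have hpb : IsPullback (pullback.diagonal G.s) G.t δ G.e := by
    refine IsPullback.of_isLimit (c := PullbackCone.mk (pullback.diagonal G.s) G.t hsq) ?_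
    have key : ∀ sc : PullbackCone δ G.e,
        sc.fst ≫ pullback.fst G.s G.s = sc.fst ≫ pullback.snd G.s G.s ∧
          sc.snd = (sc.fst ≫ pullback.snd G.s G.s) ≫ G.t := by
      intro sc
      have hc : sc.fst ≫ δ = sc.snd ≫ G.e := sc.condition
      have hx : (sc.fst ≫ pullback.fst G.s G.s) ≫ G.s = (sc.fst ≫ pullback.snd G.s G.s) ≫ G.s := by
        rw [Category.assoc, Category.assoc, pullback.condition]
      have h1 : sc.fst ≫ δ = cmp G (sc.fst ≫ pullback.fst G.s G.s)
          ((sc.fst ≫ pullback.snd G.s G.s) ≫ G.i)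
          (by simp only [Category.assoc, G.i_t]; simpa only [Category.assoc] using hx) := by
        change sc.fst ≫ cmp G _ _ hδ0 = _
        rw [pre_cmp]
        exact cmp_congr G rfl (by rw [Category.assoc]) _ _
      have hb : sc.snd = (sc.fst ≫ pullback.snd G.s G.s) ≫ G.t := by
        have := congrArg (· ≫ G.s) hc
        simp only [Category.assoc, G.e_s, Category.comp_id] at this
        rw [← this, ← Category.assoc, h1, cmp_s, Category.assoc, G.i_s]
      refine ⟨?_, hb⟩
      have h2 := cmp_inv_cmp' G (sc.fst ≫ pullback.fst G.s G.s) (sc.fst ≫ pullback.snd G.s G.s) hx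
      rw [← h2]
      have h3 : cmp G (sc.fst ≫ pullback.fst G.s G.s) ((sc.fst ≫ pullback.snd G.s G.s) ≫ G.i)
          (by simp only [Category.assoc, G.i_t]; simpa only [Category.assoc] using hx) =
          (sc.fst ≫ pullback.snd G.s G.s) ≫ G.t ≫ G.e := by
        rw [← h1, hc, hb, Category.assoc]
      rw [cmp_congr G h3 rfl _ (by simp only [Category.assoc, G.e_s, Category.comp_id])]
      exact G.e_comp _
    refine PullbackCone.IsLimit.mk hsq (fun sc => sc.fst ≫ pullback.fst G.s G.s) ?_ ?_ ?_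
    · intro sc
      apply pullback.hom_ext
      · rw [Category.assoc, pullback.diagonal_fst, Category.comp_id]
      · rw [Category.assoc, pullback.diagonal_snd, Category.comp_id]
        exact (key sc).1
    · intro sc
      rw [(key sc).1]
      exact (key sc).2.symm
    · intro sc m hm₁ hm₂
      rw [← hm₁, Category.assoc, pullback.diagonal_fst, Category.comp_id]
  haveI : IsClosedImmersion (pullback.diagonal G.s) :=
    MorphismProperty.of_isPullback hpb.flip he
  haveI : IsSeparated G.s := ⟨inferInstance⟩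
  -- `U` is separated
  haveI : IsAffine G.U := .of_isIso eU.hom
  haveI : G.U.IsSeparated := inferInstance
  have hcomp : terminal.from G.R = G.s ≫ terminal.from G.U := terminal.hom_ext _ _
  refine ⟨?_⟩
  rw [hcomp]
  infer_instance

end Groth.Agent.S7453
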