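import Groth.Statements.S7456
import Mathlib.AlgebraicGeometry.ResidueField
import Mathlib.AlgebraicGeometry.PullbackCarrier
import Mathlib.AlgebraicGeometry.Morphisms.QuasiCompact
import Mathlib.Tactic

set_option autoImplicit false
universe u
open CategoryTheory CategoryTheory.Limits AlgebraicGeometry
open Grpd

namespace Groth.Agent.S7456


theorem c_s (S : Scheme.{u}) (G : Grpd.GroupoidScheme S) : G.c ≫ G.s = pullback.snd G.s G.t ≫ G.s := by
  have := G.comp_s (pullback.fst G.s G.t) (pullback.snd G.s G.t) pullback.condition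
  rwa [pullback.lift_fst_snd, Category.id_comp] at this

theorem c_t (S : Scheme.{u}) (G : Grpd.GroupoidScheme S) : G.c ≫ G.t = pullback.fst G.s G.t ≫ G.t := by
  have := G.comp_t (pullback.fst G.s G.t) (pullback.snd G.s G.t) pullback.condition
  rwa [pullback.lift_fst_snd, Category.id_comp] at this

theorem part1 (S : Scheme.{u}) (G : Grpd.GroupoidScheme S) (W : Set G.U) :
    ⇑G.s ⁻¹' (⇑G.t '' (⇑G.s ⁻¹' W)) = ⇑G.t ⁻¹' (⇑G.t '' (⇑G.s ⁻¹' W)) := by
  ext r
  simp only [Set.mem_preimage, Set.mem_image]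
  constructor
  · rintro ⟨r', hr'W, hr'⟩
    obtain ⟨p, hp1, hp2⟩ := Scheme.Pullback.exists_preimage_pullback (f := G.s) (g := G.t) r r' hr'.symm
    refine ⟨G.c p, ?_, ?_⟩
    · rw [← Scheme.Hom.comp_apply, c_s, Scheme.Hom.comp_apply, hp2]
      exact hr'W
    · rw [← Scheme.Hom.comp_apply, c_t, Scheme.Hom.comp_apply, hp1]
  · rintro ⟨r', hr'W, hr'⟩
    have h1 : G.s (G.i r) = G.t r' := by
      rw [← Scheme.Hom.comp_apply, G.i_s, hr']
    obtain ⟨p, hp1, hp2⟩ := Scheme.Pullback.exists_preimage_pullback (f := G.s) (g := G.t) (G.i r) r' h1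
    refine ⟨G.c p, ?_, ?_⟩
    · rw [← Scheme.Hom.comp_apply, c_s, Scheme.Hom.comp_apply, hp2]
      exact hr'W
    · rw [← Scheme.Hom.comp_apply, c_t, Scheme.Hom.comp_apply, hp1, ← Scheme.Hom.comp_apply, G.i_t]

/-- Let (U, R, s, t, c) be a groupoid scheme over S. For every subset W of U, the subset t(s^{-1}(W)) is
set-theoretically R-invariant: its preimages under s and t coincide. If moreover s and t are open
maps and quasi-compact, then U is covered by R-invariant quasi-compact open subsets. (The published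
statement also asserts that this set is open when W is open and s, t are open maps; this row omits
that clause.) (A groupoid scheme carries U, R, s, t, c, e, i over S with the groupoid axioms on
T-points; c is defined on the fibre product of s and t and sends a pair (a, b) with s(a) = t(b) to a
composed with b.) -/
theorem result (S : Scheme.{u}) (G : Grpd.GroupoidScheme S) : (∀ W : Set G.U, ⇑G.s ⁻¹' (⇑G.t '' (⇑G.s ⁻¹' W)) = ⇑G.t ⁻¹' (⇑G.t '' (⇑G.s ⁻¹' W))) ∧ (IsOpenMap ⇑G.s → IsOpenMap ⇑G.t → QuasiCompact G.s → QuasiCompact G.t → ∀ u : G.U, ∃ W : G.U.Opens, IsCompact (W : Set G.U) ∧ u ∈ W ∧ G.s ⁻¹ᵁ W = G.t ⁻¹ᵁ W) := by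
  refine ⟨part1 S G, fun hs ht hqs hqt u => ?_⟩
  obtain ⟨W₀, hW₀, hu, -⟩ := TopologicalSpace.Opens.isBasis_iff_nbhd.mp G.U.isBasis_affineOpens
    (TopologicalSpace.Opens.mem_top u)
  have hopen : IsOpen (⇑G.t '' (⇑G.s ⁻¹' (W₀ : Set G.U))) :=
    ht _ (W₀.isOpen.preimage G.s.continuous)
  refine ⟨⟨_, hopen⟩, ?_, ?_, ?_⟩
  · change IsCompact (⇑G.t '' (⇑G.s ⁻¹' (W₀ : Set G.U)))
    apply IsCompact.image _ G.t.continuous
    exact QuasiCompact.isCompact_preimage _ W₀.isOpen hW₀.isCompact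
  · change u ∈ ⇑G.t '' (⇑G.s ⁻¹' (W₀ : Set G.U))
    refine ⟨G.e u, ?_, ?_⟩
    · change G.s (G.e u) ∈ W₀
      rw [← Scheme.Hom.comp_apply, G.e_s]
      exact hu
    · rw [← Scheme.Hom.comp_apply, G.e_t]
      rfl
  · ext r
    have := part1 S G (W₀ : Set G.U)
    exact Set.ext_iff.1 this r

end Groth.Agent.S7456
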