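import Groth.Statements.S7458
import Mathlib

set_option autoImplicit false
universe u
open CategoryTheory MonoidalCategory CartesianMonoidalCategory MonObj GrpObj AlgebraicGeometry
open GrpSch

namespace Groth.Agent.S7458

/-- The twisted shear isomorphism `(t, g) ↦ (t, ψ t * g)`. -/
noncomputable def shear {C : Type*} [Category C] [CartesianMonoidalCategory C] (G : C) [GrpObj G]
    {T : C} (ψ : T ⟶ G) : T ⊗ G ≅ T ⊗ G where
  hom := lift (fst T G) ((ψ ▷ G) ≫ μ[G])
  inv := lift (fst T G) (lift (fst T G ≫ ψ ≫ ι[G]) (snd T G) ≫ μ[G])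
  hom_inv_id := by
    apply CartesianMonoidalCategory.hom_ext
    · simp
    · simp only [Category.assoc, lift_snd, Category.id_comp]
      rw [comp_lift_assoc]
      simp only [lift_fst_assoc, lift_snd]
      rw [← Category.assoc (fst T G) ψ ι[G], GrpObj.lift_inv_left_eq]
      apply congrArg (· ≫ μ[G])
      apply CartesianMonoidalCategory.hom_ext <;> simp
  inv_hom_id := by
    apply CartesianMonoidalCategory.hom_ext
    · simp
    · simp only [Category.assoc, lift_snd, Category.id_comp]
      rw [lift_whiskerRight_assoc, ← GrpObj.eq_lift_inv_left, Category.assoc]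

theorem shear_hom_snd {C : Type*} [Category C] [CartesianMonoidalCategory C] (G : C) [GrpObj G]
    {T : C} (ψ : T ⟶ G) : (shear G ψ).hom ≫ snd T G = (ψ ▷ G) ≫ μ[G] := by
  simp [shear]

theorem result (S : Scheme.{u}) (G : Over S) [GrpObj G] : (∀ (T : Over S) (ψ : T ⟶ G), Flat T.hom → Flat (ψ ▷ G ≫ μ[G]).left) ∧ (Flat G.hom → Flat μ[G].left) := by
  have key : ∀ (T : Over S) (ψ : T ⟶ G), Flat T.hom → Flat (ψ ▷ G ≫ μ[G]).left := by
    intro T ψ hT
    have h1 : (ψ ▷ G ≫ μ[G]).left = (shear G ψ).hom.left ≫ (snd T G).left := by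
      rw [← Over.comp_left, shear_hom_snd]
    rw [h1]
    have h3 : Flat (snd T G).left := by
      rw [Over.snd_left]
      infer_instance
    have h4 : IsIso (shear G ψ).hom.left := inferInstance
    infer_instance
  refine ⟨key, fun hG => ?_⟩
  have := key G (𝟙 G) hG
  simpa using this

end Groth.Agent.S7458
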