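import Groth.Statements.S7459
import Groth.Agent.S7458

set_option autoImplicit false
universe u
open CategoryTheory MonoidalCategory CartesianMonoidalCategory MonObj GrpObj AlgebraicGeometry
open GrpSch

namespace Groth.Agent.S7459

theorem result (K : Type u) [Field K] (G : Over (Spec (CommRingCat.of K))) [GrpObj G] (W : G.left.Opens) (T : Scheme.{u}) (f : T ⟶ G.left) : IsOpen (Set.range ⇑(((Over.homMk f rfl : Over.mk (f ≫ G.hom) ⟶ G) ⊗ₘ (Over.homMk W.ι rfl : Over.mk (W.ι ≫ G.hom) ⟶ G)) ≫ μ[G]).left) := by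
  set T' : Over (Spec (CommRingCat.of K)) := Over.mk (f ≫ G.hom) with hT'
  set W' : Over (Spec (CommRingCat.of K)) := Over.mk (W.ι ≫ G.hom) with hW'
  set ψ : T' ⟶ G := Over.homMk f rfl with hψ
  set j : W' ⟶ G := Over.homMk W.ι rfl with hj
  have h1 : ((ψ ⊗ₘ j) ≫ μ[G]).left =
      (T' ◁ j).left ≫ (Groth.Agent.S7458.shear G ψ).hom.left ≫ (snd T' G).left := by
    rw [← Over.comp_left, ← Over.comp_left, Groth.Agent.S7458.shear_hom_snd,
      tensorHom_def', Category.assoc]
  rw [h1]
  have h2 : UniversallyOpen T'.hom := inferInstance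
  have h3 : UniversallyOpen (snd T' G).left := by
    rw [Over.snd_left]
    infer_instance
  have h4 : IsIso (Groth.Agent.S7458.shear G ψ).hom.left := inferInstance
  have h5 : IsOpenMap ((Groth.Agent.S7458.shear G ψ).hom.left) :=
    (Groth.Agent.S7458.shear G ψ).hom.left.homeomorph.isOpenMap
  have h6 : IsOpenMap ((snd T' G).left) := (snd T' G).left.isOpenMap
  have h7 : IsOpenImmersion (T' ◁ j).left := by
    rw [Over.whiskerLeft_left]
    have : IsOpenImmersion j.left := by
      show IsOpenImmersion W.ι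
      infer_instance
    infer_instance
  have h8 : IsOpenMap ((T' ◁ j).left) := (T' ◁ j).left.isOpenEmbedding.isOpenMap
  have := (h6.comp h5).comp h8
  have h9 := this.isOpen_range
  convert h9 using 2
  ext x
  simp
end Groth.Agent.S7459
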