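import Groth.Statements.S7462
import Mathlib.AlgebraicGeometry.Morphisms.UniversallyOpen
import Mathlib.AlgebraicGeometry.PullbackCarrier
import Mathlib.AlgebraicGeometry.ResidueField
import Mathlib.Tactic

set_option autoImplicit false
universe u
open CategoryTheory CategoryTheory.Limits AlgebraicGeometry
open Grpd

namespace Groth.Agent.S7462


section openmaps
variable {X Y U : Scheme.{u}} [IsIntegral U] [Subsingleton U] (f : X ⟶ U) (g : Y ⟶ U)

/-- over a "field", `snd` maps an open subset of the fibre of `fst` over a point to an open set -/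
theorem isOpen_snd_image (z : X) (O : Set ↥(pullback f g)) (hO : IsOpen O) :
    IsOpen (pullback.snd f g '' (O ∩ pullback.fst f g ⁻¹' {z})) := by
  let ι := X.fromSpecResidueField z
  let pr := pullback.snd ι (pullback.fst f g)
  have hrange : Set.range pr = pullback.fst f g ⁻¹' {z} := by
    rw [Scheme.Pullback.range_snd, Scheme.range_fromSpecResidueField]
  let e := pullbackRightPullbackFstIso f g ι
  have he : e.hom ≫ pullback.snd (ι ≫ f) g = pr ≫ pullback.snd f g :=
    pullbackRightPullbackFstIso_hom_snd f g ι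
  haveI : UniversallyOpen (ι ≫ f) := inferInstance
  have hopen : IsOpenMap (pr ≫ pullback.snd f g) := by
    rw [← he]
    exact (e.hom ≫ pullback.snd (ι ≫ f) g).isOpenMap
  have hset : pullback.snd f g '' (O ∩ pullback.fst f g ⁻¹' {z}) =
      (pr ≫ pullback.snd f g) '' (pr ⁻¹' O) := by
    rw [← hrange]
    ext y
    constructor
    · rintro ⟨w, ⟨hwO, v, rfl⟩, rfl⟩
      exact ⟨v, hwO, by rw [Scheme.Hom.comp_apply]⟩
    · rintro ⟨v, hv, rfl⟩
      exact ⟨pr v, ⟨hv, v, rfl⟩, by rw [Scheme.Hom.comp_apply]⟩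
  rw [hset]
  exact hopen _ (hO.preimage pr.continuous)

theorem isOpen_fst_image (y : Y) (O : Set ↥(pullback f g)) (hO : IsOpen O) :
    IsOpen (pullback.fst f g '' (O ∩ pullback.snd f g ⁻¹' {y})) := by
  let ι := Y.fromSpecResidueField y
  let pr := pullback.fst (pullback.snd f g) ι
  have hrange : Set.range pr = pullback.snd f g ⁻¹' {y} := by
    rw [Scheme.Pullback.range_fst, Scheme.range_fromSpecResidueField]
  let e := pullbackLeftPullbackSndIso f g ι
  have he : e.hom ≫ pullback.fst f (ι ≫ g) = pr ≫ pullback.fst f g :=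
    pullbackLeftPullbackSndIso_hom_fst f g ι
  haveI : UniversallyOpen (ι ≫ g) := inferInstance
  have hopen : IsOpenMap (pr ≫ pullback.fst f g) := by
    rw [← he]
    exact (e.hom ≫ pullback.fst f (ι ≫ g)).isOpenMap
  have hset : pullback.fst f g '' (O ∩ pullback.snd f g ⁻¹' {y}) =
      (pr ≫ pullback.fst f g) '' (pr ⁻¹' O) := by
    rw [← hrange]
    ext x
    constructor
    · rintro ⟨w, ⟨hwO, v, rfl⟩, rfl⟩
      exact ⟨v, hwO, by rw [Scheme.Hom.comp_apply]⟩
    · rintro ⟨v, hv, rfl⟩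
      exact ⟨pr v, ⟨hv, v, rfl⟩, by rw [Scheme.Hom.comp_apply]⟩
  rw [hset]
  exact hopen _ (hO.preimage pr.continuous)

/-- a nonempty open of the fibre product meeting `A ×_U B`-closures meets `A ×_U B` -/
theorem exists_mem_of_closure (A : Set X) (B : Set Y) (O : Set ↥(pullback f g)) (hO : IsOpen O)
    (p : ↥(pullback f g)) (hp : p ∈ O) (h₁ : pullback.fst f g p ∈ closure A)
    (h₂ : pullback.snd f g p ∈ closure B) :
    ∃ p' ∈ O, pullback.fst f g p' ∈ A ∧ pullback.snd f g p' ∈ B := by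
  -- move the second coordinate
  have ho1 := isOpen_snd_image f g (pullback.fst f g p) O hO
  have hm1 : pullback.snd f g p ∈ pullback.snd f g '' (O ∩ pullback.fst f g ⁻¹' {pullback.fst f g p}) :=
    ⟨p, ⟨hp, rfl⟩, rfl⟩
  obtain ⟨y, hy1, hyB⟩ := mem_closure_iff.mp h₂ _ ho1 hm1
  obtain ⟨p₁, ⟨hp₁O, hp₁fst⟩, rfl⟩ := hy1
  -- move the first coordinate
  have ho2 := isOpen_fst_image f g (pullback.snd f g p₁) O hO
  have hm2 : pullback.fst f g p₁ ∈ pullback.fst f g '' (O ∩ pullback.snd f g ⁻¹' {pullback.snd f g p₁}) :=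
    ⟨p₁, ⟨hp₁O, rfl⟩, rfl⟩
  have h₁' : pullback.fst f g p₁ ∈ closure A := by
    rw [show pullback.fst f g p₁ = pullback.fst f g p from hp₁fst]; exact h₁
  obtain ⟨x, hx1, hxA⟩ := mem_closure_iff.mp h₁' _ ho2 hm2
  obtain ⟨p₂, ⟨hp₂O, hp₂snd⟩, rfl⟩ := hx1
  refine ⟨p₂, hp₂O, hxA, ?_⟩
  rw [show pullback.snd f g p₂ = pullback.snd f g p₁ from hp₂snd]
  exact hyB

end openmaps

/-- points of `P₂` over a pair of points in the image of `a` come from `P₁` -/
theorem exists_preimage_map {R₁ R₂ U₁ U₂ : Scheme.{u}} (s₁ t₁ : R₁ ⟶ U₁) (s₂ t₂ : R₂ ⟶ U₂)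
    (a : R₁ ⟶ R₂) (φ : U₁ ⟶ U₂) [Mono φ] (hs : a ≫ s₂ = s₁ ≫ φ) (ht : a ≫ t₂ = t₁ ≫ φ)
    (Φ : pullback s₁ t₁ ⟶ pullback s₂ t₂)
    (hΦ1 : Φ ≫ pullback.fst s₂ t₂ = pullback.fst s₁ t₁ ≫ a)
    (hΦ2 : Φ ≫ pullback.snd s₂ t₂ = pullback.snd s₁ t₁ ≫ a)
    (p : ↥(pullback s₂ t₂)) (h1 : pullback.fst s₂ t₂ p ∈ Set.range a)
    (h2 : pullback.snd s₂ t₂ p ∈ Set.range a) : p ∈ Set.range Φ := by
  -- first base change
  have hr1 : Set.range (pullback.snd a (pullback.fst s₂ t₂)) =
      pullback.fst s₂ t₂ ⁻¹' Set.range a := Scheme.Pullback.range_snd _ _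
  obtain ⟨m, hm⟩ : p ∈ Set.range (pullback.snd a (pullback.fst s₂ t₂)) := by
    rw [hr1]; exact h1
  -- second base change
  let q := pullback.snd a (pullback.fst s₂ t₂) ≫ pullback.snd s₂ t₂
  have hr2 : Set.range (pullback.snd a q) = q ⁻¹' Set.range a := Scheme.Pullback.range_snd _ _
  obtain ⟨n, hn⟩ : m ∈ Set.range (pullback.snd a q) := by
    rw [hr2]
    change q m ∈ Set.range a
    rw [show q m = pullback.snd s₂ t₂ (pullback.snd a (pullback.fst s₂ t₂) m) from
      Scheme.Hom.comp_apply _ _ _, hm]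
    exact h2
  -- the map to `P₁`
  have hcond : (pullback.snd a q ≫ pullback.fst a (pullback.fst s₂ t₂)) ≫ s₁ =
      pullback.fst a q ≫ t₁ := by
    rw [← cancel_mono φ]
    have e1 : (pullback.snd a q ≫ pullback.fst a (pullback.fst s₂ t₂)) ≫ s₁ ≫ φ =
        pullback.snd a q ≫ pullback.snd a (pullback.fst s₂ t₂) ≫ pullback.fst s₂ t₂ ≫ s₂ := by
      rw [← hs, Category.assoc, pullback.condition_assoc]
    have e2 : pullback.fst a q ≫ t₁ ≫ φ =
        pullback.snd a q ≫ (pullback.snd a (pullback.fst s₂ t₂) ≫ pullback.snd s₂ t₂) ≫ t₂ := by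
      rw [← ht, pullback.condition_assoc]
    rw [Category.assoc, e1, Category.assoc, e2, Category.assoc, pullback.condition]
  let l : pullback a q ⟶ pullback s₁ t₁ := pullback.lift _ _ hcond
  have hl : l ≫ Φ = pullback.snd a q ≫ pullback.snd a (pullback.fst s₂ t₂) := by
    apply pullback.hom_ext
    · rw [Category.assoc, hΦ1, pullback.lift_fst_assoc, Category.assoc, Category.assoc,
        pullback.condition]
    · rw [Category.assoc, hΦ2, pullback.lift_snd_assoc, Category.assoc, pullback.condition]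
  refine ⟨l n, ?_⟩
  rw [← Scheme.Hom.comp_apply, hl, Scheme.Hom.comp_apply, hn, hm]

/-- Consider two groupoid schemes (U, R_1, s_1, t_1, c_1) and (U, R_2, s_2, t_2, c_2) over S, where U is
the spectrum of a field, together with a map a : R_1 -> R_2 respecting source, target and
composition (in the Lean: a morphism of groupoid schemes whose object-scheme component is an
isomorphism). Write Z for the closure in R_2 of the image of a. Then, as a map of sets, c_2 sends Z
x_(s_2,U,t_2) Z into Z: any point of R_2 x_(s_2,U,t_2) R_2 with both projections in Z has its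
c_2-image in Z. (Here a groupoid scheme over S consists of U, R, s, t, c, e, i satisfying the
groupoid axioms on T-points; c lives on the fibre product of s and t and takes a pair (a, b) with
s(a) = t(b) to the composite of a with b.) -/
theorem result (S : Scheme.{u}) (G₁ G₂ : Grpd.GroupoidScheme S) (f : Grpd.GroupoidScheme.Hom G₁ G₂) [IsIso f.fU] (k : Type u) [Field k] (eU : G₂.U ≅ Spec (CommRingCat.of k)) (p : ↑(pullback G₂.s G₂.t)) (h₁ : pullback.fst G₂.s G₂.t p ∈ closure (Set.range ⇑f.fR)) (h₂ : pullback.snd G₂.s G₂.t p ∈ closure (Set.range ⇑f.fR)) : G₂.c p ∈ closure (Set.range ⇑f.fR) := by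
  classical
  by_contra hcon
  haveI : Nonempty ↥G₂.U := ⟨G₂.s (pullback.fst G₂.s G₂.t p)⟩
  haveI : IsIntegral G₂.U := isIntegral_of_isOpenImmersion eU.hom
  haveI : Subsingleton ↥G₂.U := by
    refine ⟨fun a b => ?_⟩
    have : eU.hom a = eU.hom b := Subsingleton.elim (α := PrimeSpectrum k) _ _
    have := congrArg (fun z => eU.inv z) this
    simpa [← Scheme.Hom.comp_apply] using this
  -- the open set
  let O : Set ↥(pullback G₂.s G₂.t) := G₂.c ⁻¹' (closure (Set.range ⇑f.fR))ᶜ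
  have hO : IsOpen O := isClosed_closure.isOpen_compl.preimage G₂.c.continuous
  obtain ⟨p', hp'O, hp'1, hp'2⟩ := exists_mem_of_closure G₂.s G₂.t _ _ O hO p hcon h₁ h₂
  -- the map on fibre products
  let Φ : pullback G₁.s G₁.t ⟶ pullback G₂.s G₂.t :=
    pullback.lift (pullback.fst _ _ ≫ f.fR) (pullback.snd _ _ ≫ f.fR)
      (by rw [Category.assoc, Category.assoc, f.comm_s, f.comm_t, pullback.condition_assoc])
  have hΦ1 : Φ ≫ pullback.fst G₂.s G₂.t = pullback.fst G₁.s G₁.t ≫ f.fR := pullback.lift_fst _ _ _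
  have hΦ2 : Φ ≫ pullback.snd G₂.s G₂.t = pullback.snd G₁.s G₁.t ≫ f.fR := pullback.lift_snd _ _ _
  obtain ⟨q, hq⟩ := exists_preimage_map G₁.s G₁.t G₂.s G₂.t f.fR f.fU f.comm_s f.comm_t Φ hΦ1 hΦ2
    p' hp'1 hp'2
  have hc : G₁.c ≫ f.fR = Φ ≫ G₂.c := by
    have := f.comm_c (pullback.fst G₁.s G₁.t) (pullback.snd G₁.s G₁.t) pullback.condition
    rw [pullback.lift_fst_snd, Category.id_comp] at this
    exact this
  apply hp'O
  apply subset_closure
  refine ⟨G₁.c q, ?_⟩
  rw [← Scheme.Hom.comp_apply, hc, Scheme.Hom.comp_apply, hq]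

end Groth.Agent.S7462
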