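import Groth.Statements.S7463
import Groth.Agent.S7462
import Groth.Agent.Lib.helper11.GrpdCmp
import Mathlib.Tactic

set_option autoImplicit false
universe u
open CategoryTheory CategoryTheory.Limits AlgebraicGeometry
open Grpd

namespace Groth.Agent.S7463


open Groth.Agent.Lib.helper11.GrpdCmp Groth.Agent.S7462

/-- Consider a groupoid scheme (U, R, s, t, c) over S in which U is the spectrum of a field, and write Z
for the closure of the image of the morphism j = (t, s) : R -> U x_S U. Then, set-theoretically,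
pr_02 carries Z x_(pr_1,U,pr_0) Z into Z: given the morphism pr_02 from (U x_S U) x_(pr_1,U,pr_0) (U
x_S U) to U x_S U, whose components are pr_0 of the first factor and pr_1 of the second, any point
both of whose projections land in Z is mapped to a point of Z. (A groupoid scheme consists of U, R,
s, t, c, e, i over S satisfying the groupoid axioms on T-points; c is defined on the fibre product
of s and t and takes a pair (a, b) with s(a) = t(b) to the composite of a with b.) -/
theorem result (S : Scheme.{u}) (G : Grpd.GroupoidScheme S) (k : Type u) [Field k] (eU : G.U ≅ Spec (CommRingCat.of k)) (pr02 : pullback (pullback.snd G.pU G.pU) (pullback.fst G.pU G.pU) ⟶ pullback G.pU G.pU) (h0 : pr02 ≫ pullback.fst G.pU G.pU = pullback.fst (pullback.snd G.pU G.pU) (pullback.fst G.pU G.pU) ≫ pullback.fst G.pU G.pU) (h1 : pr02 ≫ pullback.snd G.pU G.pU = pullback.snd (pullback.snd G.pU G.pU) (pullback.fst G.pU G.pU) ≫ pullback.snd G.pU G.pU) (p : ↑(pullback (pullback.snd G.pU G.pU) (pullback.fst G.pU G.pU))) (h₁ :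 pullback.fst (pullback.snd G.pU G.pU) (pullback.fst G.pU G.pU) p ∈ closure (Set.range ⇑G.j)) (h₂ : pullback.snd (pullback.snd G.pU G.pU) (pullback.fst G.pU G.pU) p ∈ closure (Set.range ⇑G.j)) : pr02 p ∈ closure (Set.range ⇑G.j) := by
  classical
  by_contra hcon
  have j_fst : G.j ≫ pullback.fst G.pU G.pU = G.t := by
    rw [GroupoidScheme.j, pullback.lift_fst]
  have j_snd : G.j ≫ pullback.snd G.pU G.pU = G.s := by
    rw [GroupoidScheme.j, pullback.lift_snd]
  haveI : Nonempty ↥G.U := ⟨pullback.snd G.pU G.pU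
    (pullback.fst (pullback.snd G.pU G.pU) (pullback.fst G.pU G.pU) p)⟩
  haveI : IsIntegral G.U := isIntegral_of_isOpenImmersion eU.hom
  haveI : Subsingleton ↥G.U := by
    refine ⟨fun a b => ?_⟩
    have : eU.hom a = eU.hom b := Subsingleton.elim (α := PrimeSpectrum k) _ _
    have := congrArg (fun z => eU.inv z) this
    simpa [← Scheme.Hom.comp_apply] using this
  let O : Set ↥(pullback (pullback.snd G.pU G.pU) (pullback.fst G.pU G.pU)) :=
    pr02 ⁻¹' (closure (Set.range ⇑G.j))ᶜ
  have hO : IsOpen O := isClosed_closure.isOpen_compl.preimage pr02.continuous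
  obtain ⟨p', hp'O, hp'1, hp'2⟩ := exists_mem_of_closure (pullback.snd G.pU G.pU)
    (pullback.fst G.pU G.pU) _ _ O hO p hcon h₁ h₂
  let Φ : pullback G.s G.t ⟶ pullback (pullback.snd G.pU G.pU) (pullback.fst G.pU G.pU) :=
    pullback.lift (pullback.fst _ _ ≫ G.j) (pullback.snd _ _ ≫ G.j)
      (by rw [Category.assoc, Category.assoc, j_snd, j_fst, pullback.condition])
  have hΦ1 : Φ ≫ pullback.fst _ _ = pullback.fst G.s G.t ≫ G.j := pullback.lift_fst _ _ _
  have hΦ2 : Φ ≫ pullback.snd _ _ = pullback.snd G.s G.t ≫ G.j := pullback.lift_snd _ _ _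
  obtain ⟨q, hq⟩ := exists_preimage_map G.s G.t (pullback.snd G.pU G.pU) (pullback.fst G.pU G.pU)
    G.j (𝟙 G.U) (by rw [j_snd, Category.comp_id]) (by rw [j_fst, Category.comp_id]) Φ hΦ1 hΦ2
    p' hp'1 hp'2
  have hc : G.c ≫ G.j = Φ ≫ pr02 := by
    have hcs : G.c ≫ G.s = pullback.snd G.s G.t ≫ G.s := by
      rw [← cmp_fst_snd G, cmp_s]
    have hct : G.c ≫ G.t = pullback.fst G.s G.t ≫ G.t := by
      rw [← cmp_fst_snd G, cmp_t]
    apply pullback.hom_ext
    · rw [Category.assoc, j_fst, Category.assoc, h0, ← Category.assoc, hΦ1, Category.assoc, j_fst,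
        hct]
    · rw [Category.assoc, j_snd, Category.assoc, h1, ← Category.assoc, hΦ2, Category.assoc, j_snd,
        hcs]
  apply hp'O
  apply subset_closure
  refine ⟨G.c q, ?_⟩
  rw [← Scheme.Hom.comp_apply, hc, Scheme.Hom.comp_apply, hq]

end Groth.Agent.S7463
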