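import Groth.Statements.S7464
import Groth.Agent.Lib.helper11.GrpdCmp
import Mathlib.AlgebraicGeometry.Morphisms.QuasiFinite
import Mathlib.AlgebraicGeometry.PullbackCarrier
import Mathlib.Tactic

set_option autoImplicit false
universe u
open CategoryTheory CategoryTheory.Limits AlgebraicGeometry
open Grpd

namespace Groth.Agent.S7464


open Groth.Agent.Lib.helper11.GrpdCmp in
/-- composition of points -/
theorem comp_pts {S : Scheme.{u}} (G : Grpd.GroupoidScheme S) (r₁ r₂ : G.R) (h : G.s r₁ = G.t r₂) :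
    ∃ r₃ : G.R, G.s r₃ = G.s r₂ ∧ G.t r₃ = G.t r₁ := by
  obtain ⟨z, hz1, hz2⟩ := Scheme.Pullback.exists_preimage_pullback r₁ r₂ h
  refine ⟨G.c z, ?_, ?_⟩
  · have e : G.c ≫ G.s = pullback.snd G.s G.t ≫ G.s := by
      rw [← cmp_fst_snd G, cmp_s]
    have := congrArg (fun φ : pullback G.s G.t ⟶ G.U => φ z) e
    simp only [Scheme.Hom.comp_apply] at this
    rw [this, hz2]
  · have e : G.c ≫ G.t = pullback.fst G.s G.t ≫ G.t := by
      rw [← cmp_fst_snd G, cmp_t]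
    have := congrArg (fun φ : pullback G.s G.t ⟶ G.U => φ z) e
    simp only [Scheme.Hom.comp_apply] at this
    rw [this, hz1]

/-- no nontrivial specializations in the fibres of a quasi-finite morphism -/
theorem eq_of_specializes_of_fibre {X Y : Scheme.{u}} (f : X ⟶ Y) [LocallyQuasiFinite f]
    {a b : X} (hab : a ⤳ b) (hf : f a = f b) : a = b := by
  haveI : DiscreteTopology ↥(f ⁻¹' {f b}) := (f.fiberHomeo (f b)).symm.isEmbedding.discreteTopology
  have ha : a ∈ f ⁻¹' {f b} := hf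
  have hb : b ∈ f ⁻¹' {f b} := rfl
  have h1 : (⟨a, ha⟩ : ↥(f ⁻¹' {f b})) ⤳ ⟨b, hb⟩ := by
    rw [← Topology.IsInducing.subtypeVal.specializes_iff]
    exact hab
  exact congrArg Subtype.val h1.eq

/-- Let (U, R, s, t, c) be a groupoid scheme over S with s and t finite, and let u, u' be distinct
points of U in the same orbit, say u = s(r) and u' = t(r). Then u' does not lie in the closure of u.
(The published statement calls u, u' points of R; this row takes them to be points of U, as the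
orbit condition and the proof require.) (A groupoid scheme carries U, R, s, t, c, e, i over S with
the groupoid axioms on T-points; c is defined on the fibre product of s and t and sends a pair (a,
b) with s(a) = t(b) to a composed with b.) -/
theorem result (S : Scheme.{u}) (G : Grpd.GroupoidScheme S) [IsFinite G.s] [IsFinite G.t] (r : G.R) (hne : G.s r ≠ G.t r) : ¬ (G.s r ⤳ G.t r) := by
  classical
  intro hspec
  -- the orbit of `u = s r`
  let O : Set G.U := G.t '' (G.s ⁻¹' {G.s r})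
  have hOfin : O.Finite := (G.s.finite_preimage_singleton (G.s r)).image _
  -- arrows with strictly specializing endpoints, starting in the orbit
  let 𝒜 : Set G.R := {ρ | G.s ρ ≠ G.t ρ ∧ G.s ρ ⤳ G.t ρ ∧ G.s ρ ∈ O}
  have hu : G.s r ∈ O := by
    refine ⟨G.e (G.s r), ?_, ?_⟩
    · change G.s (G.e (G.s r)) = G.s r
      rw [← Scheme.Hom.comp_apply, G.e_s]; rfl
    · rw [← Scheme.Hom.comp_apply, G.e_t]; rfl
  have hr𝒜 : r ∈ 𝒜 := ⟨hne, hspec, hu⟩
  -- the step
  have hstep : ∀ ρ ∈ 𝒜, ∃ ρ' ∈ 𝒜, G.s ρ' = G.t ρ := by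
    intro ρ ⟨hρne, hρspec, hρO⟩
    have hclosed : IsClosedMap G.s := G.s.isClosedMap
    obtain ⟨ρ', hρρ', hsρ'⟩ := hclosed.specializingMap hρspec
    have htt : G.t ρ ⤳ G.t ρ' := hρρ'.map G.t.continuous
    refine ⟨ρ', ⟨?_, ?_, ?_⟩, hsρ'⟩
    · rw [hsρ']
      intro heq
      have := eq_of_specializes_of_fibre G.t hρρ' heq
      apply hρne
      rw [← hsρ', ← this]
    · rw [hsρ']; exact htt
    · rw [hsρ']
      obtain ⟨α, hα1, hα2⟩ := hρO
      obtain ⟨β, hβ1, hβ2⟩ := comp_pts G ρ α hα2.symm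
      exact ⟨β, by rw [Set.mem_preimage, Set.mem_singleton_iff, hβ1]; exact hα1, hβ2⟩
  -- strict specialization is well-founded on the finite orbit
  haveI : Finite ↥O := hOfin.to_subtype
  let rel : ↥O → ↥O → Prop := fun a b => b.1 ⤳ a.1 ∧ b.1 ≠ a.1
  haveI : IsTrans ↥O rel := ⟨fun a b c hab hbc => ⟨hbc.1.trans hab.1, fun hca => by
    have h1 : b.1 ⤳ a.1 := hab.1
    have h2 : a.1 ⤳ b.1 := hca ▸ hbc.1
    exact hab.2 (h1.antisymm h2).eq⟩⟩
  haveI : Std.Irrefl rel := ⟨fun a h => h.2 rfl⟩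
  have hwf : WellFounded rel := Finite.wellFounded_of_trans_of_irrefl rel
  let 𝒮 : Set ↥O := {v | ∃ ρ ∈ 𝒜, G.s ρ = v.1}
  have h𝒮ne : 𝒮.Nonempty := ⟨⟨G.s r, hu⟩, r, hr𝒜, rfl⟩
  obtain ⟨m, ⟨ρ, hρ𝒜, hρm⟩, hmin⟩ := hwf.has_min 𝒮 h𝒮ne
  obtain ⟨ρ', hρ'𝒜, hsρ'⟩ := hstep ρ hρ𝒜
  have hmem : (⟨G.s ρ', hρ'𝒜.2.2⟩ : ↥O) ∈ 𝒮 := ⟨ρ', hρ'𝒜, rfl⟩
  apply hmin _ hmem
  refine ⟨?_, ?_⟩
  · change m.1 ⤳ G.s ρ'
    rw [← hρm, hsρ']; exact hρ𝒜.2.1
  · change m.1 ≠ G.s ρ'
    rw [← hρm, hsρ']; exact hρ𝒜.1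

end Groth.Agent.S7464
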