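import Groth.Statements.S7468
import Groth.Agent.Lib.helper11.ValLift

set_option autoImplicit false
universe w u
open HTop

namespace Groth.Agent.S7468

open CategoryTheory CategoryTheory.Limits AlgebraicGeometry in
/-- If T is affine and a finite family is obtained by restricting one proper surjective morphism U -> T
to the pieces of a finite affine open cover of U, then the family is a standard V covering. -/
theorem result {T : Scheme.{u}} (E : PreZeroHypercover.{w} T) (hE : HTop.IsStandardPh E) : HTop.IsStandardV E := by
  obtain ⟨hT, hfin, haff, U, f, ι, hprop, hsurj, hopen, hcomp, hcov⟩ := hE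
  refine ⟨hT, hfin, haff, ?_⟩
  intro V _ _ g
  have hcl : IsClosedMap (pullback.fst g f) := (pullback.fst g f).isClosedMap
  have hsj : Function.Surjective (pullback.fst g f) := (pullback.fst g f).surjective
  obtain ⟨w', hw'⟩ := hsj (Groth.Agent.Lib.helper11.ValLift.gpt V)
  obtain ⟨w, hw, hw1⟩ := hcl.specializingMap (a := w') (b := IsLocalRing.closedPoint V) (by
    rw [hw']
    exact Groth.Agent.Lib.helper11.ValLift.gpt_specializes V _)
  obtain ⟨W, hW1, hW2, φ, hφ, g', hg', -⟩ :=
    Groth.Agent.Lib.helper11.ValLift.exists_lift_of_specializes f V g w' w hw hw' hw1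
  obtain ⟨j, hj⟩ := hcov (g' (IsLocalRing.closedPoint W))
  haveI := hopen j
  obtain ⟨q', hq'⟩ :=
    Groth.Agent.Lib.helper11.ValLift.exists_lift_of_closedPoint_mem g' (ι j) hj
  exact ⟨W, hW1, hW2, φ, hφ, j, q', by rw [← hcomp j, ← Category.assoc, hq', hg']⟩

end Groth.Agent.S7468
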