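import Groth.Statements.S7476
import Groth.Agent.Lib.helper11.ValLift

set_option autoImplicit false
universe w u
open HTop

namespace Groth.Agent.S7476

section
open CategoryTheory CategoryTheory.Limits AlgebraicGeometry
open Groth.Agent.Lib.helper11.ValLift
universe w'

theorem part2 {X Y : Scheme.{u}} (f : X ⟶ Y) :
    (HTop.HasValLift (PreZeroHypercover.singleton.{w} f) ↔ ∀ (Z : Scheme.{u}) (g : Z ⟶ Y) (z' z : Z),
      z' ⤳ z → ∃ w' w : ↑(pullback g f), w' ⤳ w ∧ pullback.fst g f w' = z' ∧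
        pullback.fst g f w = z) := by
  constructor
  · intro H
    refine exists_specializes_of_lift f (fun V _ _ g => ?_)
    obtain ⟨W, h1, h2, φ, hφ, j, g', hg'⟩ := H V g
    exact ⟨W, h1, h2, φ, hφ, g', hg'⟩
  · intro H V _ _ g
    obtain ⟨w', w, hw, h1, h2⟩ := H (Spec V) g (gpt V) (IsLocalRing.closedPoint V)
      (gpt_specializes V _)
    obtain ⟨W, hW1, hW2, φ, hφ, g', hg', -⟩ := exists_lift_of_specializes f V g w' w hw h1 h2
    exact ⟨W, hW1, hW2, φ, hφ, ⟨⟩, g', hg'⟩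

theorem part1a {X Y : Scheme.{u}} (f : X ⟶ Y)
    (hE : HTop.IsVCover (PreZeroHypercover.singleton.{w} f)) :
    HTop.HasValLift (PreZeroHypercover.singleton.{w'} f) := by
  intro V _ _ g
  obtain ⟨U, hU, htU, -⟩ := TopologicalSpace.Opens.isBasis_iff_nbhd.mp Y.isBasis_affineOpens
    (TopologicalSpace.Opens.mem_top (g (IsLocalRing.closedPoint V)))
  obtain ⟨g₀, hg₀⟩ := exists_lift_of_closedPoint_mem g (Scheme.Opens.ι U) (by
    rw [Scheme.Opens.range_ι]
    exact htU)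
  obtain ⟨F, hF, href⟩ := hE ⟨U, hU⟩
  obtain ⟨W, hW1, hW2, φ, hφ, j, g', hg'⟩ := hF.lift V g₀
  obtain ⟨i, h, hh⟩ := href j
  refine ⟨W, hW1, hW2, φ, hφ, ⟨⟩, g' ≫ h, ?_⟩
  change (g' ≫ h) ≫ f = _
  have hh' : h ≫ f = F.f j ≫ Scheme.Opens.ι U := hh
  rw [Category.assoc, hh', ← Category.assoc, hg', Category.assoc, hg₀]

theorem part1b {X Y : Scheme.{u}} (f : X ⟶ Y) [QuasiCompact f]
    (H : HTop.HasValLift (PreZeroHypercover.singleton.{w} f)) :
    HTop.IsVCover (PreZeroHypercover.singleton.{w'} f) := by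
  intro U
  have hc : IsCompact ((f ⁻¹ᵁ U.1 : X.Opens) : Set X) :=
    QuasiCompact.isCompact_preimage (f := f) _ U.1.2 U.2.isCompact
  obtain ⟨Us, hUs, hUf, hUeq⟩ := X.isBasis_affineOpens.exists_finite_of_isCompact hc
  obtain ⟨n, e₀, he₀⟩ := hUf.fin_embedding
  obtain ⟨e, he'⟩ : ∃ e : Fin n → X.Opens, e = fun i => e₀ i := ⟨_, rfl⟩
  have he : Set.range e = Us := by rw [he']; exact he₀
  have hmem : ∀ i, e i ∈ Us := fun i => he ▸ Set.mem_range_self i
  have hle : ∀ i, e i ≤ f ⁻¹ᵁ U.1 := fun i => by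
    rw [hUeq]
    exact le_sSup (hmem i)
  let F : PreZeroHypercover.{0} (U.1 : Scheme.{u}) :=
    { I₀ := Fin n
      X := fun i => (e i).toScheme
      f := fun i => f.resLE U.1 (e i) (hle i) }
  haveI : IsAffine (U.1 : Scheme.{u}) := U.2
  refine ⟨F, ⟨inferInstance, inferInstanceAs (Finite (Fin n)), fun i => hUs (hmem i), ?_⟩, ?_⟩
  · intro V _ _ g₀
    obtain ⟨W, hW1, hW2, φ, hφ, j, g'₀, hg'₀⟩ := H V (g₀ ≫ U.1.ι)
    obtain ⟨g', hg'₁⟩ : ∃ g' : Spec W ⟶ X, g' = g'₀ := ⟨g'₀, rfl⟩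
    have hg'' : g' ≫ f = Spec.map φ ≫ g₀ ≫ U.1.ι := by rw [hg'₁]; exact hg'₀
    clear hg'₁ hg'₀ g'₀
    have hx : g' (IsLocalRing.closedPoint W) ∈ (f ⁻¹ᵁ U.1 : X.Opens) := by
      change f (g' (IsLocalRing.closedPoint W)) ∈ U.1
      rw [← Scheme.Hom.comp_apply, hg'', Scheme.Hom.comp_apply, Scheme.Hom.comp_apply]
      exact (g₀ _).2
    rw [hUeq] at hx
    obtain ⟨U', hU', hxU'⟩ := TopologicalSpace.Opens.mem_sSup.mp hx
    rw [← he] at hU'
    obtain ⟨i, rfl⟩ := hU'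
    obtain ⟨q', hq'⟩ := exists_lift_of_closedPoint_mem g' (e i).ι (by
      rw [Scheme.Opens.range_ι]
      exact hxU')
    refine ⟨W, hW1, hW2, φ, hφ, i, q', ?_⟩
    rw [← cancel_mono U.1.ι]
    change (q' ≫ f.resLE U.1 (e i) (hle i)) ≫ U.1.ι = _
    rw [Category.assoc, Scheme.Hom.resLE_comp_ι, ← Category.assoc, hq', hg'', Category.assoc]
  · intro i
    exact ⟨⟨⟩, (e i).ι, (Scheme.Hom.resLE_comp_ι _ _).symm⟩
end

open CategoryTheory CategoryTheory.Limits AlgebraicGeometry in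
/-- Let f : X -> Y be a quasi-compact morphism of schemes. Then the one-member family of f is a V
covering if and only if every morphism from the spectrum of a valuation ring to Y lifts to X after
an extension of valuation rings; and the latter holds if and only if for every morphism Z -> Y and
every specialization z' ⤳ z of points of Z there is a specialization w' ⤳ w of points of Z x_Y X
mapping to z' ⤳ z. -/
theorem result {X Y : Scheme.{u}} (f : X ⟶ Y) [QuasiCompact f] : (HTop.IsVCover (PreZeroHypercover.singleton f) ↔ HTop.HasValLift (PreZeroHypercover.singleton f)) ∧ (HTop.HasValLift (PreZeroHypercover.singleton f) ↔ ∀ (Z : Scheme.{u}) (g : Z ⟶ Y) (z' z : Z), z' ⤳ z → ∃ w' w : ↑(pullback g f), w' ⤳ w ∧ pullback.fst g f w' = z' ∧ pullback.fst g f w = z) := by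
  exact ⟨⟨part1a f, part1b f⟩, part2 f⟩

end Groth.Agent.S7476
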