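import Groth.Statements.S7477
import Groth.Agent.Lib.helper11.ValLift
import Groth.Agent.S7471

set_option autoImplicit false
universe w u
open HTop

namespace Groth.Agent.S7477

open CategoryTheory CategoryTheory.Limits AlgebraicGeometry in
/-- If {f_i : X_i -> X} is a V covering (indexed by a type in the universe of X), then the morphism from
the coproduct of the X_i to X induced by the f_i is universally submersive. -/
theorem result {X : Scheme.{u}} (E : PreZeroHypercover.{u} X) (hE : HTop.IsVCover E) : SGA1.UnivSubmersive (Sigma.desc E.f) := by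
  intro X' Y' i₁ i₂ f' hpb
  change Topology.IsQuotientMap f'
  have hV : HTop.IsVCover (E.pullback₁ i₂) := Groth.Agent.S7471.result i₂ E hE
  have hκ : ∀ i, ∃ κ : pullback i₂ (E.f i) ⟶ X', κ ≫ f' = pullback.fst i₂ (E.f i) := fun i =>
    ⟨hpb.lift (pullback.fst _ _) (pullback.snd _ _ ≫ Sigma.ι E.X i) (by
      rw [Category.assoc, Sigma.ι_desc, pullback.condition]), hpb.lift_fst _ _ _⟩
  choose κ hκ using hκ
  have key : ∀ (U : Y'.affineOpens), ∃ F : PreZeroHypercover.{0} (U.1 : Scheme.{u}),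
      HTop.IsStandardV F ∧ ∀ j, ∃ h : F.X j ⟶ X', h ≫ f' = F.f j ≫ U.1.ι := by
    intro U
    obtain ⟨F, hF, href⟩ := hV U
    refine ⟨F, hF, fun j => ?_⟩
    obtain ⟨i, h, hh⟩ := href j
    exact ⟨h ≫ κ i, (Category.assoc _ _ _).trans ((congrArg (h ≫ ·) (hκ i)).trans hh)⟩
  refine ⟨Topology.isCoinducing_iff.mpr fun s =>
    ⟨fun hs => ?_, fun hs => hs.preimage f'.continuous⟩, ?_⟩
  rotate_left
  · intro y
    obtain ⟨U, hU, hyU, -⟩ := TopologicalSpace.Opens.isBasis_iff_nbhd.mp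
      Y'.isBasis_affineOpens (TopologicalSpace.Opens.mem_top y)
    obtain ⟨F, hF, hlift⟩ := key ⟨U, hU⟩
    obtain ⟨j, x, hx⟩ := Groth.Agent.Lib.helper11.ValLift.surj_of_hasValLift F hF.lift ⟨y, hyU⟩
    obtain ⟨h, hh⟩ := hlift j
    refine ⟨h x, ?_⟩
    rw [← Scheme.Hom.comp_apply, hh, Scheme.Hom.comp_apply, hx]
    rfl
  · rw [isOpen_iff_mem_nhds]
    intro y hy
    obtain ⟨U, hU, hyU, -⟩ := TopologicalSpace.Opens.isBasis_iff_nbhd.mp
      Y'.isBasis_affineOpens (TopologicalSpace.Opens.mem_top y)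
    obtain ⟨F, hF, hlift⟩ := key ⟨U, hU⟩
    have hopen : IsOpen ((Scheme.Opens.ι U) ⁻¹' s) :=
      Groth.Agent.Lib.helper11.ValLift.isOpen_of_isStandardV F hF _ fun j => by
        obtain ⟨h, hh⟩ := hlift j
        have : (F.f j) ⁻¹' ((Scheme.Opens.ι U) ⁻¹' s) = h ⁻¹' (f' ⁻¹' s) := by
          ext x
          simp only [Set.mem_preimage]
          rw [← Scheme.Hom.comp_apply, ← Scheme.Hom.comp_apply, hh]
        rw [this]
        exact hs.preimage h.continuous
    have h2 : IsOpen ((Scheme.Opens.ι U) '' ((Scheme.Opens.ι U) ⁻¹' s)) :=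
      (Scheme.Opens.ι U).isOpenEmbedding.isOpenMap _ hopen
    exact Filter.mem_of_superset (h2.mem_nhds ⟨⟨y, hyU⟩, hy, rfl⟩)
      (Set.image_preimage_subset _ _)

end Groth.Agent.S7477
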