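import Groth.Statements.S7478

set_option autoImplicit false
universe w u
open HTop

namespace Groth.Agent.S7478

open CategoryTheory CategoryTheory.Limits AlgebraicGeometry in
/-- The base change of a standard ph covering along a morphism of affine schemes T' -> T is a standard
ph covering of T'. -/
theorem result {T T' : Scheme.{u}} [IsAffine T'] (g : T' ⟶ T) (E : PreZeroHypercover.{w} T) (hE : HTop.IsStandardPh E) : HTop.IsStandardPh (E.pullback₁ g) := by
  obtain ⟨hT, hfin, haff, U, f, ι, hprop, hsurj, hopen, hcomp, hcov⟩ := hE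
  have e₂ : ∀ j, E.f j ≫ 𝟙 T = ι j ≫ f := fun j => by rw [Category.comp_id, hcomp j]
  refine ⟨inferInstance, hfin, fun j => ?_, pullback g f, pullback.fst g f,
    fun j => pullback.map g (E.f j) g f (𝟙 _) (ι j) (𝟙 _) (by simp) (e₂ j),
    inferInstance, inferInstance, fun j => ?_, fun j => ?_, fun x => ?_⟩
  · haveI := haff j
    exact inferInstanceAs (IsAffine (pullback g (E.f j)))
  · haveI := hopen j
    change IsOpenImmersion (pullback.map g (E.f j) g f (𝟙 _) (ι j) (𝟙 _) (by simp) (e₂ j))
    infer_instance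
  · change pullback.map g (E.f j) g f (𝟙 _) (ι j) (𝟙 _) (by simp) (e₂ j) ≫ pullback.fst g f =
      pullback.fst g (E.f j)
    rw [pullback.map, pullback.lift_fst, Category.comp_id]
  · obtain ⟨j, hj⟩ := hcov (pullback.snd g f x)
    refine ⟨j, ?_⟩
    change x ∈ Set.range (pullback.map g (E.f j) g f (𝟙 _) (ι j) (𝟙 _) (by simp) (e₂ j))
    rw [Scheme.Pullback.range_map]
    exact ⟨⟨_, rfl⟩, hj⟩

end Groth.Agent.S7478
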