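import Groth.Statements.S7486
import Groth.Agent.Lib.helper11.GrpdCmp
import Groth.Agent.Lib.helper11.GrpdInv
import Mathlib.AlgebraicGeometry.AffineScheme
import Mathlib.Tactic

set_option autoImplicit false
universe u
open CategoryTheory CategoryTheory.Limits AlgebraicGeometry
open Grpd

namespace Groth.Agent.S7486


open Groth.Agent.Lib.helper11.GrpdCmp Groth.Agent.Lib.helper11.GrpdInv

/-- the ring map `Γ(Y) → D` of a `Spec D`-point of `Y` -/
noncomputable def sh {Y : Scheme.{u}} {D : CommRingCat.{u}} (f : Spec D ⟶ Y) : Γ(Y, ⊤) ⟶ D :=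
  f.appTop ≫ (Scheme.ΓSpecIso D).hom

theorem sh_comp {Y Z : Scheme.{u}} {D : CommRingCat.{u}} (f : Spec D ⟶ Y) (g : Y ⟶ Z) :
    sh (f ≫ g) = g.appTop ≫ sh f := by
  unfold sh
  rw [Scheme.Hom.comp_appTop, Category.assoc]

theorem sh_ext {Y : Scheme.{u}} [IsAffine Y] {D : CommRingCat.{u}} {f g : Spec D ⟶ Y}
    (h : sh f = sh g) : f = g := by
  apply ext_of_isAffine
  unfold sh at h
  exact (cancel_mono _).mp h

/-- the `Spec D`-point of an affine scheme with given ring map -/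
noncomputable def pt {Y : Scheme.{u}} [IsAffine Y] {D : CommRingCat.{u}} (φ : Γ(Y, ⊤) ⟶ D) :
    Spec D ⟶ Y := Spec.map φ ≫ Y.isoSpec.inv

theorem sh_pt {Y : Scheme.{u}} [IsAffine Y] {D : CommRingCat.{u}} (φ : Γ(Y, ⊤) ⟶ D) :
    sh (pt φ) = φ := by
  apply Spec.map_injective
  have h1 : pt φ ≫ Y.toSpecΓ = Spec.map φ := by
    unfold pt
    rw [Category.assoc, Scheme.isoSpec_inv_toSpecΓ, Category.comp_id]
  have h2 : pt φ ≫ Y.toSpecΓ = (Spec D).toSpecΓ ≫ Spec.map (pt φ).appTop :=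
    Scheme.toSpecΓ_naturality _
  have h3 : (Spec D).toSpecΓ = Spec.map (Scheme.ΓSpecIso D).hom := by
    rw [← Scheme.isoSpec_Spec_hom]; rfl
  unfold sh
  rw [Spec.map_comp, ← h3, ← h2, h1]

/-- Let (U, R, s, t, c) be a groupoid scheme over S with U = Spec A and R = Spec B affine (A, B the
rings of global functions), and let x_i, i in I, be elements of A such that B is free as an A-module
through s^# with basis the elements t^#(x_i). Let C be the subring of R-invariant functions (those a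
with s^#(a) = t^#(a)). Then the x_i form a basis of A as a C-module, and the C-linear map A (x)_C A
-> B sending a (x) a' to t^#(a) s^#(a') is bijective (B carries the C-module structure through s^#).
(A groupoid scheme carries U, R, s, t, c, e, i over S with the groupoid axioms on T-points; c is
defined on the fibre product of s and t and sends a pair (a, b) with s(a) = t(b) to a composed with
b.) -/
theorem result (S : Scheme.{u}) (G : Grpd.GroupoidScheme S) [IsAffine G.U] [IsAffine G.R] (I : Type u) (x : I → Γ(G.U, ⊤)) (hB : letI := G.s.appTop.hom.toAlgebra; ∃ b : Module.Basis I Γ(G.U, ⊤) Γ(G.R, ⊤), ∀ i, b i = G.t.appTop.hom (x i)) : (∃ b : Module.Basis I G.invariants Γ(G.U, ⊤), ∀ i, b i = x i) ∧ (letI := (G.s.appTop.hom.comp G.invariants.subtype).toAlgebra; ∀ φ : TensorProduct G.invariants Γ(G.U, ⊤) Γ(G.U, ⊤) →ₗ[G.invariants] Γ(G.R, ⊤), (∀ a a' : Γ(G.U, ⊤), φ (a ⊗ₜ[G.invariants] a') = G.t.appTop.hom a * G.s.appTop.hom a') → Function.Bijective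 φ) := by
  classical
  letI : Algebra Γ(G.U, ⊤) Γ(G.R, ⊤) := G.s.appTop.hom.toAlgebra
  obtain ⟨b, hb⟩ := hB
  -- ring maps
  let s' : Γ(G.U, ⊤) →+* Γ(G.R, ⊤) := G.s.appTop.hom
  let t' : Γ(G.U, ⊤) →+* Γ(G.R, ⊤) := G.t.appTop.hom
  let e' : Γ(G.R, ⊤) →+* Γ(G.U, ⊤) := G.e.appTop.hom
  have hes : ∀ a, e' (s' a) = a := by
    intro a
    have := congrArg (fun φ => φ.appTop.hom a) G.e_s
    simpa [Scheme.Hom.comp_appTop] using this
  have het : ∀ a, e' (t' a) = a := by
    intro a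
    have := congrArg (fun φ => φ.appTop.hom a) G.e_t
    simpa [Scheme.Hom.comp_appTop] using this
  -- the test ring
  let D : CommRingCat.{u} := CommRingCat.of (TensorProduct Γ(G.U, ⊤) (Tw t') Γ(G.R, ⊤))
  let l : Γ(G.R, ⊤) ⟶ D := CommRingCat.ofHom
    (Algebra.TensorProduct.includeRight (R := Γ(G.U, ⊤)) (A := Tw t') (B := Γ(G.R, ⊤))).toRingHom
  let r : Γ(G.R, ⊤) ⟶ D := CommRingCat.ofHom
    ((Algebra.TensorProduct.includeLeft (R := Γ(G.U, ⊤)) (S := Γ(G.U, ⊤)) (A := Tw t')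
      (B := Γ(G.R, ⊤))).toRingHom.comp (toTw t'))
  have hlr : G.s.appTop ≫ l = G.t.appTop ≫ r := by
    ext a
    change (1 : Tw t') ⊗ₜ[Γ(G.U, ⊤)] (s' a) = (toTw t' (t' a)) ⊗ₜ[Γ(G.U, ⊤)] (1 : Γ(G.R, ⊤))
    have h1 : s' a = a • (1 : Γ(G.R, ⊤)) := by
      rw [Algebra.smul_def, mul_one]; rfl
    rw [h1, TensorProduct.tmul_smul, TensorProduct.smul_tmul', Algebra.smul_def, mul_one,
      algebraMap_tw]
  have h01 : pt l ≫ G.s = pt r ≫ G.t := by
    apply sh_ext
    rw [sh_comp, sh_comp, sh_pt, sh_pt, hlr]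
  let m : Spec D ⟶ G.R := cmp G (pt l) (pt r) h01
  let γ : Γ(G.R, ⊤) →+* TensorProduct Γ(G.U, ⊤) (Tw t') Γ(G.R, ⊤) := (sh m).hom
  have hγt : G.t.appTop ≫ sh m = G.t.appTop ≫ l := by
    rw [← sh_comp, cmp_t, sh_comp, sh_pt]
  have hγs : G.s.appTop ≫ sh m = G.s.appTop ≫ r := by
    rw [← sh_comp, cmp_s, sh_comp, sh_pt]
  have hkey := key s' t' rfl γ
    (fun a => by
      have := congrArg (fun φ => φ.hom a) hγt
      exact this)
    (fun a => by
      have := congrArg (fun φ => φ.hom a) hγs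
      exact this) x b hb
  have hmain := main s' t' rfl e' hes het x b hb hkey
  refine ⟨hmain.1, ?_⟩
  intro φ hφ
  exact hmain.2 φ.toAddMonoidHom hφ

end Groth.Agent.S7486
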