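import Groth.Statements.S7494
import Mathlib.CategoryTheory.Monoidal.Cartesian.Grp
import Mathlib.Tactic

set_option autoImplicit false
universe u
open CategoryTheory MonoidalCategory CartesianMonoidalCategory MonObj GrpObj AlgebraicGeometry
open AlgGrp

namespace Groth.Agent.S7494


section aux
variable {S : Scheme.{u}} {G X : Over S} [GrpObj G] (a : AlgGrp.Action G X)

theorem one_act' {T : Over S} (x : T ⟶ X) : lift (1 : T ⟶ G) x ≫ a.act = x := by
  have h := a.one_act
  have h1 : lift (1 : T ⟶ G) x = lift (toUnit T) x ≫ (η[G] ▷ X) := by
    rw [lift_whiskerRight]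
    rfl
  rw [h1, Category.assoc, h, lift_leftUnitor_hom]

theorem mul_act' {T : Over S} (g h : T ⟶ G) (x : T ⟶ X) :
    lift (g * h) x ≫ a.act = lift g (lift h x ≫ a.act) ≫ a.act := by
  have hm := a.mul_act
  have h1 : lift (g * h) x = lift (lift g h) x ≫ (μ[G] ▷ X) := by
    rw [lift_whiskerRight]
    rfl
  rw [h1, Category.assoc, hm, ← Category.assoc, lift_lift_associator_hom, ← Category.assoc,
    lift_whiskerLeft]

end aux

/-- Let G be a group scheme over S acting on a scheme X over S by a. The action is free, meaning that
for every scheme T over S and all T-points g of G and x of X with g · x = x one has g = 1, if and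
only if the morphism G x_S X -> X x_S X, (g, x) ↦ (a(g, x), x), is a monomorphism of schemes. -/
theorem result {S : Scheme.{u}} (G X : Over S) [GrpObj G] (a : AlgGrp.Action G X) : (∀ (T : Over S) (g : T ⟶ G) (x : T ⟶ X), lift g x ≫ a.act = x → g = toUnit T ≫ η[G]) ↔ Mono (lift a.act (snd G X)).left := by
  constructor
  · intro hfree
    haveI : Mono (lift a.act (snd G X)) := by
      constructor
      intro T p q hpq
      have hp : p = lift (p ≫ fst G X) (p ≫ snd G X) := by
        apply CartesianMonoidalCategory.hom_ext <;> simp
      have hq : q = lift (q ≫ fst G X) (q ≫ snd G X) := by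
        apply CartesianMonoidalCategory.hom_ext <;> simp
      set g := p ≫ fst G X with hg
      set x := p ≫ snd G X with hx
      set h := q ≫ fst G X with hh
      set y := q ≫ snd G X with hy
      have h1 : p ≫ a.act = q ≫ a.act := by
        have := congrArg (fun k => k ≫ fst X X) hpq
        simpa using this
      have h2 : x = y := by
        have := congrArg (fun k => k ≫ snd X X) hpq
        simpa using this
      rw [hp, hq, ← h2] at h1
      -- (h⁻¹ * g) · x = x
      have h3 : lift (h⁻¹ * g) x ≫ a.act = x := by
        rw [mul_act', h1, ← mul_act', inv_mul_cancel, one_act']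
      have h4 := hfree T (h⁻¹ * g) x h3
      have h5 : h⁻¹ * g = 1 := h4
      have h6 : g = h := by
        have := congrArg (fun k => h * k) h5
        simpa using this
      rw [hp, hq, h6, h2]
    infer_instance
  · intro hmono T g x hgx
    haveI : Mono (lift a.act (snd G X)) := Over.mono_of_mono_left _
    have h1 : lift g x ≫ lift a.act (snd G X) = lift (1 : T ⟶ G) x ≫ lift a.act (snd G X) := by
      apply CartesianMonoidalCategory.hom_ext
      · simp only [Category.assoc, lift_fst]
        rw [hgx, one_act']
      · simp only [Category.assoc, lift_snd]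
    have h2 := (cancel_mono _).1 h1
    have h3 := congrArg (fun k => k ≫ fst G X) h2
    have h4 : g = (1 : T ⟶ G) := by simpa using h3
    exact h4

end Groth.Agent.S7494
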