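import Groth.Statements.S7496

set_option autoImplicit false
universe w u
open CategoryTheory CategoryTheory.Limits AlgebraicGeometry
open HTop

namespace Groth.Agent.S7496

open TopologicalSpace in
theorem isCompact_inf_preimage {X T : Scheme.{u}} [QuasiSeparatedSpace T] (f : X ⟶ T)
    (V : X.Opens) (hV : IsCompact (V : Set X)) (U : T.Opens) (hU : IsCompact (U : Set T)) :
    IsCompact ((V : Set X) ∩ f ⁻¹' (U : Set T)) := by
  haveI : CompactSpace (V.toScheme) := isCompact_iff_compactSpace.mp hV
  haveI : QuasiCompact (V.ι ≫ f) := quasiCompact_of_compactSpace _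
  have h1 : IsCompact ((V.ι ≫ f) ⁻¹' (U : Set T)) :=
    QuasiCompact.isCompact_preimage (f := V.ι ≫ f) _ U.2 hU
  have h2 := h1.image V.ι.continuous
  convert h2 using 1
  ext x
  simp only [Set.mem_inter_iff, SetLike.mem_coe, Set.mem_preimage, Set.mem_image,
    Scheme.Hom.comp_apply]
  constructor
  · rintro ⟨hx, hfx⟩
    exact ⟨⟨x, hx⟩, hfx, rfl⟩
  · rintro ⟨y, hy, rfl⟩
    exact ⟨y.2, hy⟩

/-- Let T be a quasi-separated scheme and {f_i : T_i -> T} a family of morphisms. Then every affine open
of T is the union of the images of finitely many quasi-compact opens of the T_i (the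
quasi-compactness condition in the definition of an fpqc covering) if and only if for every point t
of T there are finitely many quasi-compact opens U_j of members T_(i_j) such that the union of the
f_(i_j)(U_j) is a neighbourhood of t. (The published statement also asks every f_i to be flat, on
both sides, and lists two more equivalent forms of the quasi-compactness condition; this row omits
flatness, which plays no part in the equivalence, and states only the equivalence of the
quasi-compactness condition with the neighbourhood condition.) -/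
theorem result {T : Scheme.{u}} [QuasiSeparatedSpace T] (E : PreZeroHypercover.{w} T) : QuasiCompactCover E ↔ ∀ t : T, ∃ (n : ℕ) (i : Fin n → E.I₀) (V : ∀ j, (E.X (i j)).Opens), (∀ j, IsCompact (V j : Set (E.X (i j)))) ∧ (⋃ j, ⇑(E.f (i j)) '' (V j : Set (E.X (i j)))) ∈ nhds t := by
  constructor
  · intro hE t
    obtain ⟨U, hU, htU, -⟩ := TopologicalSpace.Opens.isBasis_iff_nbhd.mp T.isBasis_affineOpens
      (TopologicalSpace.Opens.mem_top t)
    obtain ⟨n, i, V, hV, hVU⟩ :=
      QuasiCompactCover.exists_isAffineOpen_of_isCompact E hU.isCompact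
    refine ⟨n, i, V, fun j => (hV j).isCompact, ?_⟩
    rw [hVU]
    exact U.2.mem_nhds htU
  · intro H
    refine ⟨fun {U} hU => ?_⟩
    refine .of_isCompact_of_forall_exists_isCompactOpenCovered hU.isCompact fun x hxU => ?_
    obtain ⟨n, i, V, hVc, hnhds⟩ := H x
    obtain ⟨W, hWsub, hWo, hxW⟩ :=
      mem_nhds_iff.mp (Filter.inter_mem hnhds (U.2.mem_nhds hxU))
    obtain ⟨U', hU', hxU', hU'W⟩ := TopologicalSpace.Opens.isBasis_iff_nbhd.mp
      T.isBasis_affineOpens (show x ∈ (⟨W, hWo⟩ : T.Opens) from hxW)
    have hU'W' : (U' : Set T) ⊆ W := hU'W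
    refine ⟨U', (hU'W'.trans hWsub).trans Set.inter_subset_right, hxU', U'.2, ?_⟩
    refine .of_finite i (fun j => V j ⊓ (E.f (i j)) ⁻¹ᵁ U') (fun j => ?_) ?_
    · exact isCompact_inf_preimage (E.f (i j)) (V j) (hVc j) U' hU'.isCompact
    · ext y
      simp only [Set.mem_iUnion, Set.mem_image, SetLike.mem_coe]
      constructor
      · rintro ⟨j, z, hz, rfl⟩
        exact hz.2
      · intro hy
        have := (hU'W'.trans hWsub) hy
        obtain ⟨j, z, hz, rfl⟩ := Set.mem_iUnion.mp this.1
        exact ⟨j, z, ⟨hz, hy⟩, rfl⟩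

end Groth.Agent.S7496
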