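import Groth.Statements.S7497

set_option autoImplicit false
universe u
open CategoryTheory CategoryTheory.Limits AlgebraicGeometry
open HTop

namespace Groth.Agent.S7497

universe w w'

theorem mem_fpqc {T : Scheme.{u}} {R : Presieve T} :
    R ∈ Scheme.fpqcPrecoverage T ↔
      R ∈ Scheme.qcPrecoverage T ∧ R ∈ Scheme.precoverage @Flat T := Iff.rfl

theorem qc_bind {X : Scheme.{u}} (𝒰 : PreZeroHypercover.{w} X) [QuasiCompactCover 𝒰]
    (f : ∀ (x : 𝒰.I₀), PreZeroHypercover.{w'} (𝒰.X x)) [∀ x, QuasiCompactCover (f x)] :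
    QuasiCompactCover (𝒰.bind f) where
  isCompactOpenCovered_of_isAffineOpen {U} hU := by
    obtain ⟨s, hs, V, hcV, hU⟩ := hU.isCompactOpenCovered 𝒰
    have (i) (hi) : IsCompactOpenCovered ((f i).f ·) (V i hi) :=
      QuasiCompactCover.isCompactOpenCovered_of_isCompact (f i) (hcV i hi)
    choose t ht W hcW hV using this
    have : Finite s := hs
    have (i) (hi) : Finite (t i hi) := ht i hi
    refine .of_finite (κ := Σ (i : s), t i.1 i.2) (fun p ↦ ⟨p.1, p.2⟩) (fun p ↦ W _ p.1.2 _ p.2.2)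
      (fun p ↦ hcW ..) ?_
    simpa [← hV, Set.iUnion_sigma, Set.iUnion_subtype, Set.image_iUnion, Set.image_image] using! hU

/-- Let {f_i : T_i -> T} be a family of flat morphisms of schemes and {g_j : S_j -> T} an fpqc covering
such that for every j the family of base changes {S_j x_T T_i -> S_j} is an fpqc covering. Then {f_i
: T_i -> T} is an fpqc covering. (fpqc coverings are Mathlib's: flat, jointly surjective, every
affine open of the target covered by images of finitely many quasi-compact opens.) -/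
theorem result {T : Scheme.{u}} (E : PreZeroHypercover.{u} T) (hflat : ∀ i, Flat (E.f i)) (𝒱 : Scheme.Cover Scheme.fpqcPrecoverage T) (hloc : ∀ j, (E.pullback₁ (𝒱.f j)).presieve₀ ∈ Scheme.fpqcPrecoverage (𝒱.X j)) : E.presieve₀ ∈ Scheme.fpqcPrecoverage T := by
  have h𝒱 := mem_fpqc.mp 𝒱.mem₀
  haveI : QuasiCompactCover 𝒱.toPreZeroHypercover :=
    Scheme.presieve₀_mem_qcPrecoverage_iff.mp h𝒱.1
  haveI : ∀ j, QuasiCompactCover (E.pullback₁ (𝒱.f j)) := fun j =>
    Scheme.presieve₀_mem_qcPrecoverage_iff.mp (mem_fpqc.mp (hloc j)).1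
  refine mem_fpqc.mpr ⟨?_, ?_⟩
  · rw [Scheme.presieve₀_mem_qcPrecoverage_iff]
    haveI := qc_bind 𝒱.toPreZeroHypercover (fun j => E.pullback₁ (𝒱.f j))
    refine QuasiCompactCover.of_hom
      (𝒱 := 𝒱.toPreZeroHypercover.bind (fun j => E.pullback₁ (𝒱.f j)))
      ⟨fun p => p.2, fun p => pullback.snd _ _, ?_⟩
    intro p
    exact pullback.condition.symm
  · rw [Scheme.presieve₀_mem_precoverage_iff]
    refine ⟨fun t => ?_, hflat⟩
    have h1 := ((Scheme.presieve₀_mem_precoverage_iff _).mp h𝒱.2).1 t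
    obtain ⟨j, s, hs⟩ := h1
    have h2 := mem_fpqc.mp (hloc j)
    obtain ⟨i, z, hz⟩ := ((Scheme.presieve₀_mem_precoverage_iff _).mp h2.2).1 s
    refine ⟨i, (pullback.snd (𝒱.f j) (E.f i)) z, ?_⟩
    rw [← Scheme.Hom.comp_apply, ← pullback.condition, Scheme.Hom.comp_apply]
    exact (congrArg (𝒱.f j) hz).trans hs

end Groth.Agent.S7497
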