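import Groth.Statements.S7498
import Groth.Agent.Lib.helper11.GrpdCmp
import Mathlib.AlgebraicGeometry.ResidueField
import Mathlib.AlgebraicGeometry.PullbackCarrier
import Mathlib.Tactic

set_option autoImplicit false
universe u
open CategoryTheory CategoryTheory.Limits AlgebraicGeometry
open Grpd

namespace Groth.Agent.S7498

open Groth.Agent.Lib.helper11.GrpdCmp

/-- Let (U, R, s, t, c) be a groupoid scheme over S and r, r' points of R with t(r) = t(r'); put u =
s(r), u' = s(r') and let F_u, F_u' be the scheme-theoretic fibres of s. Then there are a field k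
which is a common extension of κ(u) and κ(u') (morphisms a, b : Spec k -> U with images u, u') and
an isomorphism of the base changes (F_u)_k and (F_u')_k over Spec k, which moreover can be chosen to
send some point lying over r to a point lying over r'. (The published statement also compares the
germs of s at r and at r' when s and t are flat or flat of finite presentation; this row omits
that.) (A groupoid scheme carries U, R, s, t, c, e, i over S with the groupoid axioms on T-points; c
is defined on the fibre product of s and t and sends a pair (a, b) with s(a) = t(b) to a composed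
with b.) -/
theorem result (S : Scheme.{u}) (G : Grpd.GroupoidScheme S) (r r' : G.R) (h : G.t r = G.t r') : ∃ (k : Type u) (_ : Field k) (a b : Spec (CommRingCat.of k) ⟶ G.U) (φ : pullback G.s a ≅ pullback G.s b) (p : ↑(pullback G.s a)), a (IsLocalRing.closedPoint k) = G.s r ∧ b (IsLocalRing.closedPoint k) = G.s r' ∧ φ.hom ≫ pullback.snd G.s b = pullback.snd G.s a ∧ pullback.fst G.s a p = r ∧ pullback.fst G.s b (φ.hom p) = r' := by
  obtain ⟨q, hq1, hq2⟩ := Scheme.Pullback.exists_preimage_pullback (f := G.t) (g := G.t) r r' h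
  let k : Type u := (pullback G.t G.t).residueField q
  let T : Scheme.{u} := Spec (CommRingCat.of k)
  let ι : T ⟶ pullback G.t G.t := (pullback G.t G.t).fromSpecResidueField q
  let pt : T := IsLocalRing.closedPoint k
  have hιpt : ι pt = q := Scheme.fromSpecResidueField_apply _ _
  let x : T ⟶ G.R := ι ≫ pullback.fst G.t G.t
  let y : T ⟶ G.R := ι ≫ pullback.snd G.t G.t
  have hxpt : x pt = r := by
    change (ι ≫ pullback.fst G.t G.t) pt = r
    rw [Scheme.Hom.comp_apply, hιpt, hq1]
  have hypt : y pt = r' := by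
    change (ι ≫ pullback.snd G.t G.t) pt = r'
    rw [Scheme.Hom.comp_apply, hιpt, hq2]
  have hxyt : x ≫ G.t = y ≫ G.t := by
    change (ι ≫ pullback.fst G.t G.t) ≫ G.t = (ι ≫ pullback.snd G.t G.t) ≫ G.t
    rw [Category.assoc, Category.assoc, pullback.condition]
  have hρ0 : (x ≫ G.i) ≫ G.s = y ≫ G.t := by rw [Category.assoc, G.i_s, hxyt]
  let ρ : T ⟶ G.R := cmp G (x ≫ G.i) y hρ0
  have hρs : ρ ≫ G.s = y ≫ G.s := cmp_s G _ _ _
  have hρt : ρ ≫ G.t = x ≫ G.s := by
    change cmp G (x ≫ G.i) y hρ0 ≫ G.t = _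
    rw [cmp_t, Category.assoc, G.i_t]
  let a : T ⟶ G.U := x ≫ G.s
  let b : T ⟶ G.U := y ≫ G.s
  -- the isomorphism
  have h₁ : pullback.fst G.s a ≫ G.s = (pullback.snd G.s a ≫ ρ) ≫ G.t := by
    rw [Category.assoc, hρt, pullback.condition]
  have h₂ : cmp G (pullback.fst G.s a) (pullback.snd G.s a ≫ ρ) h₁ ≫ G.s = pullback.snd G.s a ≫ b := by
    rw [cmp_s, Category.assoc, hρs]
  have h₃ : pullback.fst G.s b ≫ G.s = ((pullback.snd G.s b ≫ ρ) ≫ G.i) ≫ G.t := by
    rw [Category.assoc, G.i_t, Category.assoc, hρs, pullback.condition]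
  have h₄ : cmp G (pullback.fst G.s b) ((pullback.snd G.s b ≫ ρ) ≫ G.i) h₃ ≫ G.s =
      pullback.snd G.s b ≫ a := by
    rw [cmp_s, Category.assoc, G.i_s, Category.assoc, hρt]
  let φhom : pullback G.s a ⟶ pullback G.s b :=
    pullback.lift (cmp G (pullback.fst G.s a) (pullback.snd G.s a ≫ ρ) h₁) (pullback.snd G.s a) h₂
  let φinv : pullback G.s b ⟶ pullback G.s a :=
    pullback.lift (cmp G (pullback.fst G.s b) ((pullback.snd G.s b ≫ ρ) ≫ G.i) h₃)
      (pullback.snd G.s b) h₄
  have hhom_fst : φhom ≫ pullback.fst G.s b =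
      cmp G (pullback.fst G.s a) (pullback.snd G.s a ≫ ρ) h₁ := pullback.lift_fst _ _ _
  have hhom_snd : φhom ≫ pullback.snd G.s b = pullback.snd G.s a := pullback.lift_snd _ _ _
  have hinv_fst : φinv ≫ pullback.fst G.s a =
      cmp G (pullback.fst G.s b) ((pullback.snd G.s b ≫ ρ) ≫ G.i) h₃ := pullback.lift_fst _ _ _
  have hinv_snd : φinv ≫ pullback.snd G.s a = pullback.snd G.s b := pullback.lift_snd _ _ _
  have hid1 : φhom ≫ φinv = 𝟙 _ := by
    apply pullback.hom_ext
    · rw [Category.assoc, hinv_fst, pre_cmp, Category.id_comp]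
      have e2 : φhom ≫ (pullback.snd G.s b ≫ ρ) ≫ G.i = (pullback.snd G.s a ≫ ρ) ≫ G.i := by
        rw [← Category.assoc, ← Category.assoc, hhom_snd]
      rw [cmp_congr G hhom_fst e2 _ (by simp only [cmp_s, Category.assoc, G.i_t])]
      exact cmp_cmp_inv G _ _ h₁
    · rw [Category.assoc, hinv_snd, hhom_snd, Category.id_comp]
  have hid2 : φinv ≫ φhom = 𝟙 _ := by
    apply pullback.hom_ext
    · rw [Category.assoc, hhom_fst, pre_cmp, Category.id_comp]
      have e2 : φinv ≫ pullback.snd G.s a ≫ ρ = pullback.snd G.s b ≫ ρ := by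
        rw [← Category.assoc, hinv_snd]
      have hh : pullback.fst G.s b ≫ G.s = (pullback.snd G.s b ≫ ρ) ≫ G.s := by
        rw [Category.assoc, hρs, pullback.condition]
      rw [cmp_congr G hinv_fst e2 _ (by simp only [cmp_s, Category.assoc, G.i_s])]
      exact cmp_inv_cmp' G _ _ hh
    · rw [Category.assoc, hhom_snd, hinv_snd, Category.id_comp]
  let φ : pullback G.s a ≅ pullback G.s b := ⟨φhom, φinv, hid1, hid2⟩
  let σ : T ⟶ pullback G.s a := pullback.lift x (𝟙 T) (by rw [Category.id_comp])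
  have hσ_fst : σ ≫ pullback.fst G.s a = x := pullback.lift_fst _ _ _
  have hσ_snd : σ ≫ pullback.snd G.s a = 𝟙 T := pullback.lift_snd _ _ _
  refine ⟨k, inferInstance, a, b, φ, σ pt, ?_, ?_, hhom_snd, ?_, ?_⟩
  · change (x ≫ G.s) pt = G.s r
    rw [Scheme.Hom.comp_apply, hxpt]
  · change (y ≫ G.s) pt = G.s r'
    rw [Scheme.Hom.comp_apply, hypt]
  · rw [← Scheme.Hom.comp_apply, hσ_fst, hxpt]
  · change pullback.fst G.s b (φhom (σ pt)) = r'
    rw [← Scheme.Hom.comp_apply, ← Scheme.Hom.comp_apply, hhom_fst, pre_cmp]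
    have e2 : σ ≫ pullback.snd G.s a ≫ ρ = cmp G (x ≫ G.i) y hρ0 := by
      rw [← Category.assoc, hσ_snd, Category.id_comp]
    rw [cmp_congr G hσ_fst e2 _ (by simp only [cmp_t, Category.assoc, G.i_t])]
    rw [cmp_inv_cmp G x y hxyt, hypt]

end Groth.Agent.S7498
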