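import Groth.Statements.S7500
import Groth.Agent.Lib.helper11.GrpdCmp
import Mathlib.Tactic

set_option autoImplicit false
universe u
open CategoryTheory CategoryTheory.Limits AlgebraicGeometry
open Grpd

namespace Groth.Agent.S7500

open Groth.Agent.Lib.helper11.GrpdCmp

/-- Let (U, R, s, t, c) be a groupoid scheme over S and G -> U its stabilizer group scheme (the base
change of j = (t, s) along the diagonal). The action of G on R by composition, base changed to G_0 =
G x_(U, pr_0) (U x_S U), makes R a pseudo G_0-torsor over U x_S U. Concretely: let α : G x_(U, t) R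
-> R x_(s, U, t) R be the morphism with components (γ viewed in R, r) and β : G x_(U, t) R -> R
x_(j, U x_S U, j) R the morphism with components (c ∘ α, r); then β is an isomorphism. (A groupoid
scheme carries U, R, s, t, c, e, i over S with the groupoid axioms on T-points; c is defined on the
fibre product of s and t and sends a pair (a, b) with s(a) = t(b) to a composed with b.) -/
theorem result (S : Scheme.{u}) (G : Grpd.GroupoidScheme S) (α : pullback G.stabilizerToU G.t ⟶ pullback G.s G.t) (hα₁ : α ≫ pullback.fst G.s G.t = pullback.fst G.stabilizerToU G.t ≫ pullback.fst G.j G.diag) (hα₂ : α ≫ pullback.snd G.s G.t = pullback.snd G.stabilizerToU G.t) (β : pullback G.stabilizerToU G.t ⟶ pullback G.j G.j) (hβ₁ : β ≫ pullback.fst G.j G.j = α ≫ G.c) (hβ₂ : β ≫ pullback.snd G.j G.j = pullback.snd G.stabilizerToU G.t) : IsIso β := by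
  -- notation
  have j_fst : G.j ≫ pullback.fst G.pU G.pU = G.t := by
    rw [GroupoidScheme.j, pullback.lift_fst]
  have j_snd : G.j ≫ pullback.snd G.pU G.pU = G.s := by
    rw [GroupoidScheme.j, pullback.lift_snd]
  have d_fst : G.diag ≫ pullback.fst G.pU G.pU = 𝟙 _ := by
    rw [GroupoidScheme.diag, pullback.lift_fst]
  have d_snd : G.diag ≫ pullback.snd G.pU G.pU = 𝟙 _ := by
    rw [GroupoidScheme.diag, pullback.lift_snd]
  set x : pullback G.j G.j ⟶ G.R := pullback.fst G.j G.j with hx
  set y : pullback G.j G.j ⟶ G.R := pullback.snd G.j G.j with hy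
  have hxy : x ≫ G.j = y ≫ G.j := pullback.condition
  have hxyt : x ≫ G.t = y ≫ G.t := by
    rw [← j_fst, ← Category.assoc, hxy, Category.assoc]
  have hxys : x ≫ G.s = y ≫ G.s := by
    rw [← j_snd, ← Category.assoc, hxy, Category.assoc]
  have hγ'0 : x ≫ G.s = (y ≫ G.i) ≫ G.t := by rw [Category.assoc, G.i_t, hxys]
  set γ' : pullback G.j G.j ⟶ G.R := cmp G x (y ≫ G.i) hγ'0 with hγ'
  have hσ0 : γ' ≫ G.j = (y ≫ G.t) ≫ G.diag := by
    apply pullback.hom_ext
    · rw [Category.assoc, j_fst, Category.assoc, d_fst, Category.comp_id, hγ', cmp_t, hxyt]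
    · rw [Category.assoc, j_snd, Category.assoc, d_snd, Category.comp_id, hγ', cmp_s,
        Category.assoc, G.i_s]
  let σ : pullback G.j G.j ⟶ G.stabilizer := pullback.lift γ' (y ≫ G.t) hσ0
  have hσ_fst : σ ≫ pullback.fst G.j G.diag = γ' := pullback.lift_fst _ _ _
  have hσ_snd : σ ≫ G.stabilizerToU = y ≫ G.t := pullback.lift_snd _ _ _
  let δ : pullback G.j G.j ⟶ pullback G.stabilizerToU G.t := pullback.lift σ y hσ_snd
  have hδ_fst : δ ≫ pullback.fst G.stabilizerToU G.t = σ := pullback.lift_fst _ _ _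
  have hδ_snd : δ ≫ pullback.snd G.stabilizerToU G.t = y := pullback.lift_snd _ _ _
  -- α ≫ c as a composition
  set γR : pullback G.stabilizerToU G.t ⟶ G.R :=
    pullback.fst G.stabilizerToU G.t ≫ pullback.fst G.j G.diag with hγR
  set r : pullback G.stabilizerToU G.t ⟶ G.R := pullback.snd G.stabilizerToU G.t with hr
  have hγRr : γR ≫ G.s = r ≫ G.t := by
    rw [← hα₁, ← hα₂, Category.assoc, Category.assoc, pullback.condition]
  have hαc : α ≫ G.c = cmp G γR r hγRr := by
    rw [hom_eq_lift]
    exact cmp_congr G hα₁ hα₂ _ _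
  refine ⟨δ, ?_, ?_⟩
  · -- β ≫ δ = 𝟙
    apply pullback.hom_ext
    · rw [Category.assoc, hδ_fst, Category.id_comp]
      apply pullback.hom_ext
      · refine (Category.assoc β σ (pullback.fst G.j G.diag)).trans ?_
        rw [hσ_fst, hγ', pre_cmp]
        have e1 : β ≫ x = cmp G γR r hγRr := by rw [hx, hβ₁, hαc]
        have e2 : β ≫ y ≫ G.i = r ≫ G.i := by rw [← Category.assoc, hy, hβ₂]
        rw [cmp_congr G e1 e2 _ (by rw [cmp_s, Category.assoc, G.i_t])]
        exact cmp_cmp_inv G γR r hγRr
      · refine (Category.assoc β σ G.stabilizerToU).trans ?_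
        rw [hσ_snd, ← Category.assoc, hy, hβ₂]
        exact pullback.condition.symm
    · rw [Category.assoc, hδ_snd, hy, hβ₂, Category.id_comp]
  · -- δ ≫ β = 𝟙
    apply pullback.hom_ext
    · rw [Category.assoc, hβ₁, hαc, pre_cmp, Category.id_comp]
      have e1 : δ ≫ γR = γ' := by
        rw [hγR, ← Category.assoc, hδ_fst, hσ_fst]
      have e2 : δ ≫ r = y := hδ_snd
      rw [cmp_congr G e1 e2 _ (by rw [hγ', cmp_s, Category.assoc, G.i_s])]
      exact cmp_inv_cmp' G x y hxys
    · rw [Category.assoc, hβ₂, hδ_snd, Category.id_comp]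

end Groth.Agent.S7500
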