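import Groth.Statements.S7504
import Groth.Agent.Lib.helper11.GrpdCmp
import Mathlib.AlgebraicGeometry.Restrict
import Mathlib.AlgebraicGeometry.Sites.Etale
import Mathlib.AlgebraicGeometry.Sites.Fpqc
import Mathlib.AlgebraicGeometry.Morphisms.UniversallyOpen
import Mathlib.Tactic

set_option autoImplicit false
universe u
open CategoryTheory CategoryTheory.Limits AlgebraicGeometry
open Grpd

namespace Groth.Agent.S7504


/-- base change along an arbitrary pullback square vs. the chosen pullback -/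
theorem bc_iff {P : MorphismProperty Scheme.{u}} [P.RespectsIso] {Z X Y T : Scheme.{u}}
    {a : Z ⟶ X} {b : Z ⟶ T} {f : X ⟶ Y} {g : T ⟶ Y} (h : IsPullback a b f g) :
    P b ↔ P (pullback.snd f g) := by
  rw [← h.isoPullback_hom_snd, P.cancel_left_of_respectsIso]

theorem bc_congr {P : MorphismProperty Scheme.{u}} {X Y T : Scheme.{u}}
    (f : X ⟶ Y) {g g' : T ⟶ Y} (e : g = g') (h : P (pullback.snd f g)) :
    P (pullback.snd f g') := by
  subst e; exact h

/-- descending along a covering -/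
theorem bc_down {K : Precoverage Scheme.{u}} {P : MorphismProperty Scheme.{u}}
    [P.IsLocalAtTarget K] {Z X Y T T' : Scheme.{u}}
    {a : Z ⟶ X} {b : Z ⟶ T} {f : X ⟶ Y} {g : T ⟶ Y} (h : IsPullback a b f g)
    (g' : T' ⟶ T) (hg' : Presieve.singleton g' ∈ K T) (hb : P b) :
    P (pullback.snd f (g' ≫ g)) := by
  have h1 : P (pullback.snd b g') :=
    MorphismProperty.IsLocalAtTarget.pullbackSnd (K := K) hg' (Presieve.singleton.mk) hb
  have h2 := (IsPullback.of_hasPullback b g').paste_horiz h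
  exact (bc_iff h2).mp h1

theorem bc_up {K : Precoverage Scheme.{u}} {P : MorphismProperty Scheme.{u}}
    [P.IsLocalAtTarget K] {Z X Y T T' : Scheme.{u}}
    {a : Z ⟶ X} {b : Z ⟶ T} {f : X ⟶ Y} {g : T ⟶ Y} (h : IsPullback a b f g)
    (g' : T' ⟶ T) (hg' : Presieve.singleton g' ∈ K T) (hb : P (pullback.snd f (g' ≫ g))) :
    P b := by
  apply MorphismProperty.IsLocalAtTarget.of_forall_pullbackSnd (K := K) hg'
  rintro V _ _ ⟨⟩
  have h2 := (IsPullback.of_hasPullback b g').paste_horiz h
  exact (bc_iff h2).mpr hb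

open Groth.Agent.Lib.helper11.GrpdCmp in
/-- the base changes of `s` along `b ≫ s` and `b ≫ t` are isomorphic over `T` -/
theorem bc_st {S : Scheme.{u}} (G : Grpd.GroupoidScheme S) {P : MorphismProperty Scheme.{u}}
    [P.RespectsIso] {T : Scheme.{u}} (b : T ⟶ G.R) (h : P (pullback.snd G.s (b ≫ G.t))) :
    P (pullback.snd G.s (b ≫ G.s)) := by
  have c1 : pullback.fst G.s (b ≫ G.s) ≫ G.s = (pullback.snd G.s (b ≫ G.s) ≫ b ≫ G.i) ≫ G.t := by
    rw [pullback.condition, Category.assoc, Category.assoc, G.i_t]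
  have c2 : pullback.fst G.s (b ≫ G.t) ≫ G.s = (pullback.snd G.s (b ≫ G.t) ≫ b) ≫ G.t := by
    rw [pullback.condition, Category.assoc]
  let φ : pullback G.s (b ≫ G.s) ⟶ pullback G.s (b ≫ G.t) :=
    pullback.lift (cmp G _ _ c1) (pullback.snd _ _)
      (by rw [cmp_s, Category.assoc, Category.assoc, G.i_s])
  let ψ : pullback G.s (b ≫ G.t) ⟶ pullback G.s (b ≫ G.s) :=
    pullback.lift (cmp G _ _ c2) (pullback.snd _ _)
      (by rw [cmp_s, Category.assoc])
  have φ1 : φ ≫ pullback.fst _ _ = cmp G _ _ c1 := pullback.lift_fst _ _ _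
  have φ2 : φ ≫ pullback.snd _ _ = pullback.snd _ _ := pullback.lift_snd _ _ _
  have ψ1 : ψ ≫ pullback.fst _ _ = cmp G _ _ c2 := pullback.lift_fst _ _ _
  have ψ2 : ψ ≫ pullback.snd _ _ = pullback.snd _ _ := pullback.lift_snd _ _ _
  have hφψ : φ ≫ ψ = 𝟙 _ := by
    apply pullback.hom_ext
    · rw [Category.assoc, ψ1, pre_cmp, Category.id_comp]
      have e2 : φ ≫ pullback.snd G.s (b ≫ G.t) ≫ b = pullback.snd G.s (b ≫ G.s) ≫ b := by
        rw [← Category.assoc, φ2]
      have e1 : cmp G _ _ c1 = cmp G (pullback.fst G.s (b ≫ G.s))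
          ((pullback.snd G.s (b ≫ G.s) ≫ b) ≫ G.i)
          (by simp only [pullback.condition, Category.assoc, G.i_t]) :=
        cmp_congr G rfl (by rw [Category.assoc]) _ _
      rw [cmp_congr G (φ1.trans e1) e2 _ (by simp only [cmp_s, Category.assoc, G.i_s])]
      exact cmp_inv_cmp' G _ _ (by simp only [pullback.condition, Category.assoc])
    · rw [Category.assoc, ψ2, φ2, Category.id_comp]
  have hψφ : ψ ≫ φ = 𝟙 _ := by
    apply pullback.hom_ext
    · rw [Category.assoc, φ1, pre_cmp, Category.id_comp]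
      have e2 : ψ ≫ pullback.snd G.s (b ≫ G.s) ≫ b ≫ G.i =
          (pullback.snd G.s (b ≫ G.t) ≫ b) ≫ G.i := by
        rw [← Category.assoc, ψ2, Category.assoc]
      rw [cmp_congr G ψ1 e2 _ (by simp only [cmp_s, Category.assoc, G.i_t])]
      exact cmp_cmp_inv G _ _ c2
    · rw [Category.assoc, φ2, ψ2, Category.id_comp]
  have : IsIso φ := ⟨ψ, hφψ, hψφ⟩
  rw [← φ2, P.cancel_left_of_respectsIso]
  exact h

theorem singleton_restrict {PK : MorphismProperty Scheme.{u}} [PK.IsStableUnderBaseChange]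
    {X Y : Scheme.{u}} (f : X ⟶ Y) (hf : Presieve.singleton f ∈ Scheme.precoverage PK Y)
    (W : Y.Opens) : Presieve.singleton (f ∣_ W) ∈ Scheme.precoverage PK W := by
  rw [Scheme.singleton_mem_precoverage_iff] at hf ⊢
  refine ⟨?_, PK.of_isPullback (isPullback_morphismRestrict f W).flip hf.2⟩
  intro w
  obtain ⟨x, hx⟩ := hf.1 w.1
  have hxW : x ∈ f ⁻¹ᵁ W := by
    change f x ∈ W
    rw [show f x = w.1 from hx]; exact w.2
  refine ⟨⟨x, hxW⟩, ?_⟩
  apply Subtype.ext
  have := congrArg (fun φ : (f ⁻¹ᵁ W).toScheme ⟶ Y => φ ⟨x, hxW⟩) (morphismRestrict_ι f W)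
  simp only [Scheme.Hom.comp_apply, Scheme.Opens.ι_apply] at this
  exact this.trans hx

set_option maxHeartbeats 800000 in
theorem le_of_precoverage (S : Scheme.{u}) (G : Grpd.GroupoidScheme S)
    (PK : MorphismProperty Scheme.{u}) [PK.IsStableUnderBaseChange] [PK.IsStableUnderComposition]
    (hPKoi : ∀ {X Y : Scheme.{u}} (f : X ⟶ Y), IsOpenImmersion f → PK f)
    (hPKopen : ∀ {X Y : Scheme.{u}} (f : X ⟶ Y), PK f → IsOpenMap f)
    (P : MorphismProperty Scheme.{u}) [P.IsLocalAtTarget (Scheme.precoverage PK)]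
    (hs : Presieve.singleton G.s ∈ Scheme.precoverage PK G.U)
    (ht : Presieve.singleton G.t ∈ Scheme.precoverage PK G.U) (W : G.U.Opens)
    (hW : P (G.s ∣_ W)) (hmax : ∀ W' : G.U.Opens, P (G.s ∣_ W') → W' ≤ W) :
    G.t ⁻¹ᵁ W ≤ G.s ⁻¹ᵁ W := by
  have hPKs : PK G.s := ((Scheme.singleton_mem_precoverage_iff PK G.s).mp hs).2
  -- T = t⁻¹W
  have hPKsT : PK ((G.t ⁻¹ᵁ W).ι ≫ G.s) :=
    PK.comp_mem _ _ (hPKoi _ inferInstance) hPKs
  let W' : G.U.Opens := ⟨Set.range ((G.t ⁻¹ᵁ W).ι ≫ G.s), (hPKopen _ hPKsT).isOpen_range⟩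
  have hrange : Set.range ((G.t ⁻¹ᵁ W).ι ≫ G.s) ⊆ Set.range W'.ι := by
    rw [Scheme.Opens.range_ι]; exact subset_rfl
  let σ : (G.t ⁻¹ᵁ W).toScheme ⟶ W'.toScheme :=
    IsOpenImmersion.lift W'.ι ((G.t ⁻¹ᵁ W).ι ≫ G.s) hrange
  have hσ : σ ≫ W'.ι = (G.t ⁻¹ᵁ W).ι ≫ G.s := IsOpenImmersion.lift_fac _ _ _
  have hσK : Presieve.singleton σ ∈ Scheme.precoverage PK W' := by
    rw [Scheme.singleton_mem_precoverage_iff]
    constructor
    · intro w
      obtain ⟨τ, hτ⟩ := w.2
      refine ⟨τ, Subtype.ext ?_⟩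
      have := congrArg (fun φ : (G.t ⁻¹ᵁ W).toScheme ⟶ G.U => φ τ) hσ
      simp only [Scheme.Hom.comp_apply, Scheme.Opens.ι_apply] at this
      exact this.trans hτ
    · have : PK (σ ≫ W'.ι) := hσ ▸ hPKsT
      exact MorphismProperty.of_postcomp (W := PK) (W' := MorphismProperty.monomorphisms _)
        σ W'.ι (MorphismProperty.monomorphisms.infer_property _) this
  -- chain of base changes
  have h1 : P (pullback.snd G.s ((G.t ∣_ W) ≫ W.ι)) :=
    bc_down (isPullback_morphismRestrict G.s W).flip (G.t ∣_ W) (singleton_restrict G.t ht W) hW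
  have h2 : P (pullback.snd G.s ((G.t ⁻¹ᵁ W).ι ≫ G.t)) :=
    bc_congr G.s (morphismRestrict_ι G.t W) h1
  have h3 : P (pullback.snd G.s ((G.t ⁻¹ᵁ W).ι ≫ G.s)) := bc_st G _ h2
  have h4 : P (pullback.snd G.s (σ ≫ W'.ι)) := bc_congr G.s hσ.symm h3
  have h5 : P (G.s ∣_ W') :=
    bc_up (isPullback_morphismRestrict G.s W').flip σ hσK h4
  have hW'W := hmax W' h5
  intro r hr
  apply hW'W
  refine ⟨⟨r, hr⟩, ?_⟩
  simp only [Scheme.Hom.comp_apply, Scheme.Opens.ι_apply]

/-- Let (U, R, s, t, c) be a groupoid scheme over S, let τ be the Zariski, étale, smooth or fppf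
topology (given as the corresponding precoverage K on schemes), and let P be a property of scheme
morphisms that is τ-local on the target. (The published statement also allows the syntomic topology,
which has no precoverage here; this row omits it.) Assume the one-arrow families {s : R -> U} and {t
: R -> U} are τ-coverings. If W is the largest open subscheme of U such that the restriction
s^{-1}(W) -> W of s has P (W has the property and contains every open with the property), then W is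
R-invariant: s^{-1}(W) = t^{-1}(W). (A groupoid scheme carries U, R, s, t, c, e, i over S with the
groupoid axioms on T-points; c is defined on the fibre product of s and t and sends a pair (a, b)
with s(a) = t(b) to a composed with b.) -/
theorem result (S : Scheme.{u}) (G : Grpd.GroupoidScheme S) (K : Precoverage Scheme.{u}) (hK : K = Scheme.zariskiPrecoverage ∨ K = Scheme.etalePrecoverage ∨ K = Scheme.precoverage @Smooth ∨ K = Scheme.fppfPrecoverage) (P : MorphismProperty Scheme.{u}) [P.IsLocalAtTarget K] (hs : Presieve.singleton G.s ∈ K G.U) (ht : Presieve.singleton G.t ∈ K G.U) (W : G.U.Opens) (hW : P (G.s ∣_ W)) (hmax : ∀ W' : G.U.Opens, P (G.s ∣_ W') → W' ≤ W) : G.s ⁻¹ᵁ W = G.t ⁻¹ᵁ W := by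
  have key : G.t ⁻¹ᵁ W ≤ G.s ⁻¹ᵁ W := by
    rcases hK with rfl | rfl | rfl | rfl
    · exact le_of_precoverage S G @IsOpenImmersion (fun f hf => hf)
        (fun f hf => by haveI : IsOpenImmersion f := hf; exact f.isOpenEmbedding.isOpenMap)
        P hs ht W hW hmax
    · haveI : P.IsLocalAtTarget (Scheme.precoverage @Etale) :=
        ‹P.IsLocalAtTarget Scheme.etalePrecoverage›
      exact le_of_precoverage S G @Etale (fun f hf => inferInstance)
        (fun f hf => f.isOpenMap) P hs ht W hW hmax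
    · exact le_of_precoverage S G @Smooth (fun f hf => inferInstance)
        (fun f hf => f.isOpenMap) P hs ht W hW hmax
    · haveI : P.IsLocalAtTarget (Scheme.precoverage (@Flat ⊓ @LocallyOfFinitePresentation)) :=
        ‹P.IsLocalAtTarget Scheme.fppfPrecoverage›
      exact le_of_precoverage S G (@Flat ⊓ @LocallyOfFinitePresentation)
        (fun f hf => ⟨inferInstance, inferInstance⟩)
        (fun f hf => by
          haveI : Flat f := hf.1
          haveI : LocallyOfFinitePresentation f := hf.2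
          exact f.isOpenMap) P hs ht W hW hmax
  apply le_antisymm
  · intro r hr
    have h1 : G.i r ∈ G.t ⁻¹ᵁ W := by
      change G.t (G.i r) ∈ W
      rw [← Scheme.Hom.comp_apply, G.i_t]; exact hr
    have h2 := key h1
    change G.s (G.i r) ∈ W at h2
    rw [← Scheme.Hom.comp_apply, G.i_s] at h2
    exact h2
  · exact key

end Groth.Agent.S7504
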