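import Groth.Statements.S7505
import Groth.Agent.S7504
import Mathlib.Tactic

set_option autoImplicit false
universe u
open CategoryTheory CategoryTheory.Limits AlgebraicGeometry
open Grpd

namespace Groth.Agent.S7505


open Groth.Agent.Lib.helper11.GrpdCmp

section stab
variable {S : Scheme.{u}} (G : Grpd.GroupoidScheme S)

theorem j_fst : G.j ≫ pullback.fst G.pU G.pU = G.t := by
  rw [GroupoidScheme.j, pullback.lift_fst]
theorem j_snd : G.j ≫ pullback.snd G.pU G.pU = G.s := by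
  rw [GroupoidScheme.j, pullback.lift_snd]
theorem d_fst : G.diag ≫ pullback.fst G.pU G.pU = 𝟙 _ := by
  rw [GroupoidScheme.diag, pullback.lift_fst]
theorem d_snd : G.diag ≫ pullback.snd G.pU G.pU = 𝟙 _ := by
  rw [GroupoidScheme.diag, pullback.lift_snd]

/-- the underlying arrow of a point of the stabilizer -/
noncomputable def stabR : G.stabilizer ⟶ G.R := pullback.fst G.j G.diag

theorem stabR_t : stabR G ≫ G.t = G.stabilizerToU := by
  have h : pullback.fst G.j G.diag ≫ G.j = pullback.snd G.j G.diag ≫ G.diag := pullback.condition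
  have := congrArg (· ≫ pullback.fst G.pU G.pU) h
  simp only [Category.assoc, j_fst, d_fst, Category.comp_id] at this
  exact this

theorem stabR_s : stabR G ≫ G.s = G.stabilizerToU := by
  have h : pullback.fst G.j G.diag ≫ G.j = pullback.snd G.j G.diag ≫ G.diag := pullback.condition
  have := congrArg (· ≫ pullback.snd G.pU G.pU) h
  simp only [Category.assoc, j_snd, d_snd, Category.comp_id] at this
  exact this

theorem stab_ext {T : Scheme.{u}} (a b : T ⟶ G.stabilizer) (h : a ≫ stabR G = b ≫ stabR G) :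
    a = b := by
  apply pullback.hom_ext
  · exact h
  · have : a ≫ stabR G ≫ G.t = b ≫ stabR G ≫ G.t := by
      rw [← Category.assoc, h, Category.assoc]
    rw [stabR_t] at this
    exact this

theorem stab_lift {T : Scheme.{u}} (γ : T ⟶ G.R) (h : γ ≫ G.t = γ ≫ G.s) :
    ∃ l : T ⟶ G.stabilizer, l ≫ stabR G = γ ∧ l ≫ G.stabilizerToU = γ ≫ G.t := by
  have e : γ ≫ G.j = (γ ≫ G.t) ≫ G.diag := by
    apply pullback.hom_ext
    · rw [Category.assoc, j_fst, Category.assoc, d_fst, Category.comp_id]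
    · rw [Category.assoc, j_snd, Category.assoc, d_snd, Category.comp_id, h]
  exact ⟨pullback.lift γ (γ ≫ G.t) e, pullback.lift_fst _ _ _, pullback.lift_snd _ _ _⟩

/-- conjugation `a ∘ γ ∘ a⁻¹` -/
noncomputable def conj {T : Scheme.{u}} (a γ : T ⟶ G.R) (h1 : a ≫ G.s = γ ≫ G.t)
    (h2 : γ ≫ G.s = a ≫ G.s) : T ⟶ G.R :=
  cmp G (cmp G a γ h1) (a ≫ G.i) (by rw [cmp_s, Category.assoc, G.i_t, h2])

/-- conjugation `a⁻¹ ∘ γ ∘ a` -/
noncomputable def conj' {T : Scheme.{u}} (a γ : T ⟶ G.R) (h1 : γ ≫ G.t = a ≫ G.t)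
    (h2 : γ ≫ G.s = a ≫ G.t) : T ⟶ G.R :=
  cmp G (cmp G (a ≫ G.i) γ (by rw [Category.assoc, G.i_s, h1])) a (by rw [cmp_s, h2])

theorem conj_t {T : Scheme.{u}} (a γ : T ⟶ G.R) (h1 : a ≫ G.s = γ ≫ G.t)
    (h2 : γ ≫ G.s = a ≫ G.s) : conj G a γ h1 h2 ≫ G.t = a ≫ G.t := by
  unfold conj; rw [cmp_t, cmp_t]

theorem conj_s {T : Scheme.{u}} (a γ : T ⟶ G.R) (h1 : a ≫ G.s = γ ≫ G.t)
    (h2 : γ ≫ G.s = a ≫ G.s) : conj G a γ h1 h2 ≫ G.s = a ≫ G.t := by
  unfold conj; rw [cmp_s, Category.assoc, G.i_s]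

theorem conj'_t {T : Scheme.{u}} (a γ : T ⟶ G.R) (h1 : γ ≫ G.t = a ≫ G.t)
    (h2 : γ ≫ G.s = a ≫ G.t) : conj' G a γ h1 h2 ≫ G.t = a ≫ G.s := by
  unfold conj'; rw [cmp_t, cmp_t, Category.assoc, G.i_t]

theorem conj'_s {T : Scheme.{u}} (a γ : T ⟶ G.R) (h1 : γ ≫ G.t = a ≫ G.t)
    (h2 : γ ≫ G.s = a ≫ G.t) : conj' G a γ h1 h2 ≫ G.s = a ≫ G.s := by
  unfold conj'; rw [cmp_s]

theorem conj_congr {T : Scheme.{u}} {a a' γ γ' : T ⟶ G.R} (ha : a = a') (hγ : γ = γ')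
    (h1 : a ≫ G.s = γ ≫ G.t) (h2 : γ ≫ G.s = a ≫ G.s) (h1' : a' ≫ G.s = γ' ≫ G.t)
    (h2' : γ' ≫ G.s = a' ≫ G.s) : conj G a γ h1 h2 = conj G a' γ' h1' h2' := by
  subst ha; subst hγ; rfl

theorem conj'_congr {T : Scheme.{u}} {a a' γ γ' : T ⟶ G.R} (ha : a = a') (hγ : γ = γ')
    (h1 : γ ≫ G.t = a ≫ G.t) (h2 : γ ≫ G.s = a ≫ G.t) (h1' : γ' ≫ G.t = a' ≫ G.t)
    (h2' : γ' ≫ G.s = a' ≫ G.t) : conj' G a γ h1 h2 = conj' G a' γ' h1' h2' := by
  subst ha; subst hγ; rfl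

theorem pre_conj {T T' : Scheme.{u}} (f : T' ⟶ T) (a γ : T ⟶ G.R) (h1 : a ≫ G.s = γ ≫ G.t)
    (h2 : γ ≫ G.s = a ≫ G.s) :
    f ≫ conj G a γ h1 h2 = conj G (f ≫ a) (f ≫ γ) (by rw [Category.assoc, Category.assoc, h1])
      (by rw [Category.assoc, Category.assoc, h2]) := by
  unfold conj
  rw [pre_cmp]
  exact cmp_congr G (pre_cmp G f a γ h1) (by rw [Category.assoc]) _ _

theorem pre_conj' {T T' : Scheme.{u}} (f : T' ⟶ T) (a γ : T ⟶ G.R) (h1 : γ ≫ G.t = a ≫ G.t)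
    (h2 : γ ≫ G.s = a ≫ G.t) :
    f ≫ conj' G a γ h1 h2 = conj' G (f ≫ a) (f ≫ γ) (by rw [Category.assoc, Category.assoc, h1])
      (by rw [Category.assoc, Category.assoc, h2]) := by
  unfold conj'
  rw [pre_cmp]
  refine cmp_congr G ?_ rfl _ _
  rw [pre_cmp]
  exact cmp_congr G (by rw [Category.assoc]) rfl _ _

/-- `a⁻¹ ∘ (a γ a⁻¹) ∘ a = γ` -/
theorem conj'_conj {T : Scheme.{u}} (a γ : T ⟶ G.R) (h1 : a ≫ G.s = γ ≫ G.t)
    (h2 : γ ≫ G.s = a ≫ G.s) :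
    conj' G a (conj G a γ h1 h2) (conj_t G a γ h1 h2) (conj_s G a γ h1 h2) = γ := by
  unfold conj' conj
  have e1 : cmp G (a ≫ G.i) (cmp G (cmp G a γ h1) (a ≫ G.i)
      (by rw [cmp_s, Category.assoc, G.i_t, h2]))
      (by rw [cmp_t, cmp_t, Category.assoc, G.i_s]) = cmp G γ (a ≫ G.i)
        (by rw [Category.assoc, G.i_t, h2]) := by
    rw [← cmp_assoc G (a ≫ G.i) (cmp G a γ h1) (a ≫ G.i)
      (by rw [cmp_t, Category.assoc, G.i_s]) (by rw [cmp_s, Category.assoc, G.i_t, h2])]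
    exact cmp_congr G (inv_cmp_cmp G a γ h1) rfl _ _
  rw [cmp_congr G e1 rfl _ (by rw [cmp_s, Category.assoc, G.i_s])]
  exact cmp_inv_cmp' G γ a h2

/-- `a ∘ (a⁻¹ γ a) ∘ a⁻¹ = γ` -/
theorem conj_conj' {T : Scheme.{u}} (a γ : T ⟶ G.R) (h1 : γ ≫ G.t = a ≫ G.t)
    (h2 : γ ≫ G.s = a ≫ G.t) :
    conj G a (conj' G a γ h1 h2) (conj'_t G a γ h1 h2).symm (conj'_s G a γ h1 h2) = γ := by
  unfold conj conj'
  have h0 : (a ≫ G.i) ≫ G.s = γ ≫ G.t := by rw [Category.assoc, G.i_s, h1]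
  have e1 : cmp G a (cmp G (cmp G (a ≫ G.i) γ h0) a (by rw [cmp_s, h2]))
      (by rw [cmp_t, cmp_t, Category.assoc, G.i_t]) = cmp G γ a h2 := by
    rw [← cmp_assoc G a (cmp G (a ≫ G.i) γ h0) a
      (by rw [cmp_t, Category.assoc, G.i_t]) (by rw [cmp_s, h2])]
    exact cmp_congr G (cmp_inv_cmp G a γ h1.symm) rfl _ _
  rw [cmp_congr G e1 rfl _ (by rw [cmp_s, Category.assoc, G.i_t])]
  exact cmp_cmp_inv G γ a h2

end stab

/-- the base changes of the stabilizer along `b ≫ s` and `b ≫ t` are isomorphic over `T` -/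
theorem bc_stab {S : Scheme.{u}} (G : Grpd.GroupoidScheme S) {P : MorphismProperty Scheme.{u}}
    [P.RespectsIso] {T : Scheme.{u}} (b : T ⟶ G.R)
    (h : P (pullback.snd G.stabilizerToU (b ≫ G.t))) :
    P (pullback.snd G.stabilizerToU (b ≫ G.s)) := by
  -- points of Z1
  obtain ⟨γ₁, hγ₁⟩ : ∃ γ₁, γ₁ = pullback.fst G.stabilizerToU (b ≫ G.s) ≫ stabR G := ⟨_, rfl⟩
  obtain ⟨β₁, hβ₁⟩ : ∃ β₁, β₁ = pullback.snd G.stabilizerToU (b ≫ G.s) ≫ b := ⟨_, rfl⟩
  have hγ₁t : γ₁ ≫ G.t = β₁ ≫ G.s := by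
    rw [hγ₁, hβ₁, Category.assoc, stabR_t, pullback.condition, Category.assoc]
  have hγ₁s : γ₁ ≫ G.s = β₁ ≫ G.s := by
    rw [hγ₁, hβ₁, Category.assoc, stabR_s, pullback.condition, Category.assoc]
  obtain ⟨l₁, hl₁R, hl₁U⟩ := stab_lift G (conj G β₁ γ₁ hγ₁t.symm hγ₁s)
    (by rw [conj_t, conj_s])
  -- points of Z2
  obtain ⟨γ₂, hγ₂⟩ : ∃ γ₂, γ₂ = pullback.fst G.stabilizerToU (b ≫ G.t) ≫ stabR G := ⟨_, rfl⟩
  obtain ⟨β₂, hβ₂⟩ : ∃ β₂, β₂ = pullback.snd G.stabilizerToU (b ≫ G.t) ≫ b := ⟨_, rfl⟩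
  have hγ₂t : γ₂ ≫ G.t = β₂ ≫ G.t := by
    rw [hγ₂, hβ₂, Category.assoc, stabR_t, pullback.condition, Category.assoc]
  have hγ₂s : γ₂ ≫ G.s = β₂ ≫ G.t := by
    rw [hγ₂, hβ₂, Category.assoc, stabR_s, pullback.condition, Category.assoc]
  obtain ⟨l₂, hl₂R, hl₂U⟩ := stab_lift G (conj' G β₂ γ₂ hγ₂t hγ₂s)
    (by rw [conj'_t, conj'_s])
  let φ : pullback G.stabilizerToU (b ≫ G.s) ⟶ pullback G.stabilizerToU (b ≫ G.t) :=
    pullback.lift l₁ (pullback.snd _ _)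
      (by rw [hl₁U, conj_t, hβ₁, Category.assoc])
  let ψ : pullback G.stabilizerToU (b ≫ G.t) ⟶ pullback G.stabilizerToU (b ≫ G.s) :=
    pullback.lift l₂ (pullback.snd _ _)
      (by rw [hl₂U, conj'_t, hβ₂, Category.assoc])
  have φ1 : φ ≫ pullback.fst _ _ = l₁ := pullback.lift_fst _ _ _
  have φ2 : φ ≫ pullback.snd _ _ = pullback.snd _ _ := pullback.lift_snd _ _ _
  have ψ1 : ψ ≫ pullback.fst _ _ = l₂ := pullback.lift_fst _ _ _
  have ψ2 : ψ ≫ pullback.snd _ _ = pullback.snd _ _ := pullback.lift_snd _ _ _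
  have φβ : φ ≫ β₂ = β₁ := by rw [hβ₂, ← Category.assoc, φ2, hβ₁]
  have φγ : φ ≫ γ₂ = conj G β₁ γ₁ hγ₁t.symm hγ₁s := by
    rw [hγ₂, ← Category.assoc, φ1, hl₁R]
  have ψβ : ψ ≫ β₁ = β₂ := by rw [hβ₁, ← Category.assoc, ψ2, hβ₂]
  have ψγ : ψ ≫ γ₁ = conj' G β₂ γ₂ hγ₂t hγ₂s := by
    rw [hγ₁, ← Category.assoc, ψ1, hl₂R]
  have hφψ : φ ≫ ψ = 𝟙 _ := by
    apply pullback.hom_ext
    · rw [Category.assoc, ψ1, Category.id_comp]
      apply stab_ext
      rw [Category.assoc, hl₂R, pre_conj', ← hγ₁]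
      rw [conj'_congr G φβ φγ _ _ (conj_t G β₁ γ₁ hγ₁t.symm hγ₁s) (conj_s G β₁ γ₁ hγ₁t.symm hγ₁s)]
      exact conj'_conj G β₁ γ₁ hγ₁t.symm hγ₁s
    · rw [Category.assoc, ψ2, φ2, Category.id_comp]
  have hψφ : ψ ≫ φ = 𝟙 _ := by
    apply pullback.hom_ext
    · rw [Category.assoc, φ1, Category.id_comp]
      apply stab_ext
      rw [Category.assoc, hl₁R, pre_conj, ← hγ₂]
      rw [conj_congr G ψβ ψγ _ _ (conj'_t G β₂ γ₂ hγ₂t hγ₂s).symm (conj'_s G β₂ γ₂ hγ₂t hγ₂s)]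
      exact conj_conj' G β₂ γ₂ hγ₂t hγ₂s
    · rw [Category.assoc, φ2, ψ2, Category.id_comp]
  have : IsIso φ := ⟨ψ, hφψ, hψφ⟩
  rw [← φ2, P.cancel_left_of_respectsIso]
  exact h

open Groth.Agent.S7504 in
set_option maxHeartbeats 800000 in
theorem le_of_precoverage' (S : Scheme.{u}) (G : Grpd.GroupoidScheme S)
    (PK : MorphismProperty Scheme.{u}) [PK.IsStableUnderBaseChange] [PK.IsStableUnderComposition]
    (hPKoi : ∀ {X Y : Scheme.{u}} (f : X ⟶ Y), IsOpenImmersion f → PK f)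
    (hPKopen : ∀ {X Y : Scheme.{u}} (f : X ⟶ Y), PK f → IsOpenMap f)
    (P : MorphismProperty Scheme.{u}) [P.IsLocalAtTarget (Scheme.precoverage PK)]
    {X : Scheme.{u}} (f : X ⟶ G.U)
    (hst : ∀ {T : Scheme.{u}} (b : T ⟶ G.R), P (pullback.snd f (b ≫ G.t)) →
      P (pullback.snd f (b ≫ G.s)))
    (hs : Presieve.singleton G.s ∈ Scheme.precoverage PK G.U)
    (ht : Presieve.singleton G.t ∈ Scheme.precoverage PK G.U) (W : G.U.Opens)
    (hW : P (f ∣_ W)) (hmax : ∀ W' : G.U.Opens, P (f ∣_ W') → W' ≤ W) :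
    G.t ⁻¹ᵁ W ≤ G.s ⁻¹ᵁ W := by
  have hPKs : PK G.s := ((Scheme.singleton_mem_precoverage_iff PK G.s).mp hs).2
  have hPKsT : PK ((G.t ⁻¹ᵁ W).ι ≫ G.s) :=
    PK.comp_mem _ _ (hPKoi _ inferInstance) hPKs
  let W' : G.U.Opens := ⟨Set.range ((G.t ⁻¹ᵁ W).ι ≫ G.s), (hPKopen _ hPKsT).isOpen_range⟩
  have hrange : Set.range ((G.t ⁻¹ᵁ W).ι ≫ G.s) ⊆ Set.range W'.ι := by
    rw [Scheme.Opens.range_ι]; exact subset_rfl
  let σ : (G.t ⁻¹ᵁ W).toScheme ⟶ W'.toScheme :=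
    IsOpenImmersion.lift W'.ι ((G.t ⁻¹ᵁ W).ι ≫ G.s) hrange
  have hσ : σ ≫ W'.ι = (G.t ⁻¹ᵁ W).ι ≫ G.s := IsOpenImmersion.lift_fac _ _ _
  have hσK : Presieve.singleton σ ∈ Scheme.precoverage PK W' := by
    rw [Scheme.singleton_mem_precoverage_iff]
    constructor
    · intro w
      obtain ⟨τ, hτ⟩ := w.2
      refine ⟨τ, Subtype.ext ?_⟩
      have := congrArg (fun φ : (G.t ⁻¹ᵁ W).toScheme ⟶ G.U => φ τ) hσ
      simp only [Scheme.Hom.comp_apply, Scheme.Opens.ι_apply] at this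
      exact this.trans hτ
    · have : PK (σ ≫ W'.ι) := hσ ▸ hPKsT
      exact MorphismProperty.of_postcomp (W := PK) (W' := MorphismProperty.monomorphisms _)
        σ W'.ι (MorphismProperty.monomorphisms.infer_property _) this
  have h1 : P (pullback.snd f ((G.t ∣_ W) ≫ W.ι)) :=
    bc_down (isPullback_morphismRestrict f W).flip (G.t ∣_ W) (singleton_restrict G.t ht W) hW
  have h2 : P (pullback.snd f ((G.t ⁻¹ᵁ W).ι ≫ G.t)) :=
    bc_congr f (morphismRestrict_ι G.t W) h1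
  have h3 : P (pullback.snd f ((G.t ⁻¹ᵁ W).ι ≫ G.s)) := hst _ h2
  have h4 : P (pullback.snd f (σ ≫ W'.ι)) := bc_congr f hσ.symm h3
  have h5 : P (f ∣_ W') :=
    bc_up (isPullback_morphismRestrict f W').flip σ hσK h4
  have hW'W := hmax W' h5
  intro r hr
  apply hW'W
  refine ⟨⟨r, hr⟩, ?_⟩
  simp only [Scheme.Hom.comp_apply, Scheme.Opens.ι_apply]

/-- Let (U, R, s, t, c) be a groupoid scheme over S with stabilizer group scheme G -> U, let τ be the
étale, smooth or fppf topology (given as the corresponding precoverage K), and let P be a property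
of scheme morphisms that is τ-local on the target. (The published statement also allows the syntomic
topology; this row omits it.) Assume {s : R -> U} and {t : R -> U} are τ-coverings. If W is the
largest open subscheme of U such that the restriction G_W -> W of the stabilizer has P, then W is
R-invariant: s^{-1}(W) = t^{-1}(W). (A groupoid scheme carries U, R, s, t, c, e, i over S with the
groupoid axioms on T-points; c is defined on the fibre product of s and t and sends a pair (a, b)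
with s(a) = t(b) to a composed with b.) -/
theorem result (S : Scheme.{u}) (G : Grpd.GroupoidScheme S) (K : Precoverage Scheme.{u}) (hK : K = Scheme.etalePrecoverage ∨ K = Scheme.precoverage @Smooth ∨ K = Scheme.fppfPrecoverage) (P : MorphismProperty Scheme.{u}) [P.IsLocalAtTarget K] (hs : Presieve.singleton G.s ∈ K G.U) (ht : Presieve.singleton G.t ∈ K G.U) (W : G.U.Opens) (hW : P (G.stabilizerToU ∣_ W)) (hmax : ∀ W' : G.U.Opens, P (G.stabilizerToU ∣_ W') → W' ≤ W) : G.s ⁻¹ᵁ W = G.t ⁻¹ᵁ W := by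
  have key : G.t ⁻¹ᵁ W ≤ G.s ⁻¹ᵁ W := by
    rcases hK with rfl | rfl | rfl
    · haveI : P.IsLocalAtTarget (Scheme.precoverage @Etale) :=
        ‹P.IsLocalAtTarget Scheme.etalePrecoverage›
      exact le_of_precoverage' S G @Etale (fun f hf => inferInstance)
        (fun f hf => f.isOpenMap) P G.stabilizerToU (fun b h => bc_stab G b h) hs ht W hW hmax
    · exact le_of_precoverage' S G @Smooth (fun f hf => inferInstance)
        (fun f hf => f.isOpenMap) P G.stabilizerToU (fun b h => bc_stab G b h) hs ht W hW hmax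
    · haveI : P.IsLocalAtTarget (Scheme.precoverage (@Flat ⊓ @LocallyOfFinitePresentation)) :=
        ‹P.IsLocalAtTarget Scheme.fppfPrecoverage›
      exact le_of_precoverage' S G (@Flat ⊓ @LocallyOfFinitePresentation)
        (fun f hf => ⟨inferInstance, inferInstance⟩)
        (fun f hf => by
          haveI : Flat f := hf.1
          haveI : LocallyOfFinitePresentation f := hf.2
          exact f.isOpenMap) P G.stabilizerToU (fun b h => bc_stab G b h) hs ht W hW hmax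
  apply le_antisymm
  · intro r hr
    have h1 : G.i r ∈ G.t ⁻¹ᵁ W := by
      change G.t (G.i r) ∈ W
      rw [← Scheme.Hom.comp_apply, G.i_t]; exact hr
    have h2 := key h1
    change G.s (G.i r) ∈ W at h2
    rw [← Scheme.Hom.comp_apply, G.i_s] at h2
    exact h2
  · exact key

end Groth.Agent.S7505
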