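import Groth.Statements.S7510
import Groth.Agent.Lib.helper11.GrpdCmp
import Mathlib.AlgebraicGeometry.Restrict
import Mathlib.Tactic

set_option autoImplicit false
universe u
open CategoryTheory CategoryTheory.Limits AlgebraicGeometry
open Grpd

namespace Groth.Agent.S7510


open Groth.Agent.Lib.helper11.GrpdCmp in
set_option maxHeartbeats 800000 in
theorem main (S : Scheme.{u}) (G : Grpd.GroupoidScheme S) {U' : Scheme.{u}} (g : U' ⟶ G.U) (P Q R : MorphismProperty Scheme.{u}) [P.RespectsIso] (hRQ : R ≤ Q) [Q.IsStableUnderBaseChange] [Q.IsStableUnderComposition] (W : ∀ {X Y : Scheme.{u}} (f : X ⟶ Y), Q f → X.Opens) (hWP : ∀ {X Y : Scheme.{u}} (f : X ⟶ Y) (hf : Q f), P ((W f hf).ι ≫ f)) (hWmax : ∀ {X Y : Scheme.{u}} (f : X ⟶ Y) (hf : Q f) (V : X.Opens), P (V.ι ≫ f) → V ≤ W f hf) (hWbc : ∀ {X Y Y' : Scheme.{u}} (f : X ⟶ Y) (hf : Q f) (b : Y' ⟶ Y), R b → ∀ hf' : Q (pullback.snd f b), pullback.fst f b ⁻¹ᵁ W f hf = W (pullback.snd f b) hf') (hs : R G.s)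 (ht : R G.t) (hg : Q g) (hh : Q (pullback.snd g G.t ≫ G.s)) : ∃ V : U'.Opens, pullback.fst g G.t ⁻¹ᵁ V = W (pullback.snd g G.t ≫ G.s) hh := by
  classical
  -- congruence of `W`
  have Wcongr : ∀ {X Y : Scheme.{u}} (f f' : X ⟶ Y) (e : f = f') (hf : Q f) (hf' : Q f'),
      W f hf = W f' hf' := by
    intro X Y f f' e hf hf'
    subst e
    rfl
  -- transport along isomorphisms
  have Wiso : ∀ {Y Y' Z : Scheme.{u}} (θ : Y ≅ Y') (f' : Y' ⟶ Z) (hf' : Q f')
      (hf : Q (θ.hom ≫ f')), W (θ.hom ≫ f') hf = θ.hom ⁻¹ᵁ W f' hf' := by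
    intro Y Y' Z θ f' hf' hf
    apply le_antisymm
    · have hV : θ.inv ⁻¹ᵁ W (θ.hom ≫ f') hf ≤ W f' hf' := by
        apply hWmax
        have e1 : (θ.inv ⁻¹ᵁ W (θ.hom ≫ f') hf).ι ≫ f' =
            (θ.inv ∣_ W (θ.hom ≫ f') hf) ≫ (W (θ.hom ≫ f') hf).ι ≫ θ.hom ≫ f' := by
          rw [← Category.assoc (θ.inv ∣_ _), morphismRestrict_ι, Category.assoc,
            Iso.inv_hom_id_assoc]
        rw [e1]
        exact (P.cancel_left_of_respectsIso _ _).mpr (hWP _ hf)
      intro y hy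
      have : θ.hom y ∈ θ.inv ⁻¹ᵁ W (θ.hom ≫ f') hf := by
        change θ.inv (θ.hom y) ∈ W (θ.hom ≫ f') hf
        rw [← Scheme.Hom.comp_apply, Iso.hom_inv_id]
        exact hy
      exact hV this
    · apply hWmax
      have e1 : (θ.hom ⁻¹ᵁ W f' hf').ι ≫ θ.hom ≫ f' =
          (θ.hom ∣_ W f' hf') ≫ (W f' hf').ι ≫ f' := by
        rw [← Category.assoc (θ.hom ∣_ _), morphismRestrict_ι, Category.assoc]
      rw [e1]
      exact (P.cancel_left_of_respectsIso _ _).mpr (hWP _ hf')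
  -- notation
  obtain ⟨p1, hp1⟩ : ∃ p1 : pullback g G.t ⟶ U', p1 = pullback.fst g G.t := ⟨_, rfl⟩
  obtain ⟨p2, hp2⟩ : ∃ p2 : pullback g G.t ⟶ G.R, p2 = pullback.snd g G.t := ⟨_, rfl⟩
  have hcond : p1 ≫ g = p2 ≫ G.t := by rw [hp1, hp2, pullback.condition]
  rw [← hp1]
  obtain ⟨h, hh_def⟩ : ∃ h : pullback g G.t ⟶ G.U, h = pullback.snd g G.t ≫ G.s := ⟨_, rfl⟩
  have hh' : Q h := hh_def ▸ hh
  rw [Wcongr _ h hh_def.symm hh hh']
  have hh2 : h = p2 ≫ G.s := by rw [hh_def, hp2]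
  have Xext : ∀ {T : Scheme.{u}} (a b : T ⟶ pullback g G.t), a ≫ p1 = b ≫ p1 → a ≫ p2 = b ≫ p2 →
      a = b := by
    intro T a b e1 e2
    subst hp1; subst hp2
    exact pullback.hom_ext e1 e2
  have Xlift : ∀ {T : Scheme.{u}} (a : T ⟶ U') (b : T ⟶ G.R), a ≫ g = b ≫ G.t →
      ∃ l : T ⟶ pullback g G.t, l ≫ p1 = a ∧ l ≫ p2 = b := by
    intro T a b e
    subst hp1; subst hp2
    exact ⟨pullback.lift a b e, pullback.lift_fst _ _ _, pullback.lift_snd _ _ _⟩
  -- the two fibre products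
  have hQ1 : Q (pullback.snd h G.t) := MorphismProperty.pullback_snd _ _ hh'
  have hQ2 : Q (pullback.snd h G.s) := MorphismProperty.pullback_snd _ _ hh'
  have hbc1 := hWbc h hh' G.t ht hQ1
  have hbc2 := hWbc h hh' G.s hs hQ2
  -- θ : Y1 → Y2
  have c1 : (pullback.fst h G.t ≫ p2) ≫ G.s = pullback.snd h G.t ≫ G.t := by
    rw [Category.assoc, ← hh2, pullback.condition]
  obtain ⟨x', hx'1, hx'2⟩ := Xlift (pullback.fst h G.t ≫ p1)
    (cmp G (pullback.fst h G.t ≫ p2) (pullback.snd h G.t) c1)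
    (by rw [cmp_t, Category.assoc, Category.assoc, hcond])
  have hx'h : x' ≫ h = pullback.snd h G.t ≫ G.s := by
    have e : x' ≫ h = x' ≫ p2 ≫ G.s := by rw [← hh2]
    rw [e, ← Category.assoc, hx'2, cmp_s]
  have c2 : (pullback.fst h G.s ≫ p2) ≫ G.s = (pullback.snd h G.s ≫ G.i) ≫ G.t := by
    rw [Category.assoc, ← hh2, pullback.condition, Category.assoc, G.i_t]
  obtain ⟨x'', hx''1, hx''2⟩ := Xlift (pullback.fst h G.s ≫ p1)
    (cmp G (pullback.fst h G.s ≫ p2) (pullback.snd h G.s ≫ G.i) c2)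
    (by rw [cmp_t, Category.assoc, Category.assoc, hcond])
  have hx''h : x'' ≫ h = pullback.snd h G.s ≫ G.t := by
    have e : x'' ≫ h = x'' ≫ p2 ≫ G.s := by rw [← hh2]
    rw [e, ← Category.assoc, hx''2, cmp_s, Category.assoc, G.i_s]
  let θh : pullback h G.t ⟶ pullback h G.s := pullback.lift x' (pullback.snd h G.t) hx'h
  let θi : pullback h G.s ⟶ pullback h G.t := pullback.lift x'' (pullback.snd h G.s) hx''h
  have θh1 : θh ≫ pullback.fst h G.s = x' := pullback.lift_fst _ _ _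
  have θh2 : θh ≫ pullback.snd h G.s = pullback.snd h G.t := pullback.lift_snd _ _ _
  have θi1 : θi ≫ pullback.fst h G.t = x'' := pullback.lift_fst _ _ _
  have θi2 : θi ≫ pullback.snd h G.t = pullback.snd h G.s := pullback.lift_snd _ _ _
  have hhi : θh ≫ θi = 𝟙 _ := by
    apply pullback.hom_ext
    · rw [Category.assoc, θi1, Category.id_comp]
      apply Xext
      · rw [Category.assoc, hx''1, ← Category.assoc, θh1, hx'1]
      · rw [Category.assoc, hx''2, pre_cmp]
        have e1 : θh ≫ pullback.fst h G.s ≫ p2 =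
            cmp G (pullback.fst h G.t ≫ p2) (pullback.snd h G.t) c1 := by
          rw [← Category.assoc, θh1, hx'2]
        have e2 : θh ≫ pullback.snd h G.s ≫ G.i = pullback.snd h G.t ≫ G.i := by
          rw [← Category.assoc, θh2]
        rw [cmp_congr G e1 e2 _ (by rw [cmp_s, Category.assoc, G.i_t])]
        exact cmp_cmp_inv G _ _ c1
    · rw [Category.assoc, θi2, θh2, Category.id_comp]
  have hih : θi ≫ θh = 𝟙 _ := by
    apply pullback.hom_ext
    · rw [Category.assoc, θh1, Category.id_comp]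
      apply Xext
      · rw [Category.assoc, hx'1, ← Category.assoc, θi1, hx''1]
      · rw [Category.assoc, hx'2, pre_cmp]
        have e1 : θi ≫ pullback.fst h G.t ≫ p2 =
            cmp G (pullback.fst h G.s ≫ p2) (pullback.snd h G.s ≫ G.i) c2 := by
          rw [← Category.assoc, θi1, hx''2]
        have e2 : θi ≫ pullback.snd h G.t = pullback.snd h G.s := θi2
        have c3 : (pullback.fst h G.s ≫ p2) ≫ G.s = pullback.snd h G.s ≫ G.s := by
          rw [Category.assoc, ← hh2, pullback.condition]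
        rw [cmp_congr G e1 e2 _ (by rw [cmp_s, Category.assoc, G.i_s])]
        exact cmp_inv_cmp' G _ _ c3
    · rw [Category.assoc, θh2, θi2, Category.id_comp]
  let θ : pullback h G.t ≅ pullback h G.s := ⟨θh, θi, hhi, hih⟩
  have hQ1' : Q (θ.hom ≫ pullback.snd h G.s) := by
    have : θ.hom ≫ pullback.snd h G.s = pullback.snd h G.t := θh2
    rw [this]; exact hQ1
  have hW12 : W (pullback.snd h G.t) hQ1 = θ.hom ⁻¹ᵁ W (pullback.snd h G.s) hQ2 := by
    rw [← Wiso θ (pullback.snd h G.s) hQ2 hQ1']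
    exact Wcongr _ _ θh2.symm _ _
  -- the section and α
  obtain ⟨σ, hσ1, hσ2⟩ := Xlift (𝟙 U') (g ≫ G.e)
    (by rw [Category.id_comp, Category.assoc, G.e_t, Category.comp_id])
  obtain ⟨x0, hx01, hx02⟩ := Xlift p1 (p1 ≫ g ≫ G.e)
    (by rw [Category.assoc, Category.assoc, G.e_t, Category.comp_id])
  have hx0σ : x0 = p1 ≫ σ := by
    apply Xext
    · rw [hx01, Category.assoc, hσ1, Category.comp_id]
    · rw [hx02, Category.assoc, hσ2]
  have hx0h : x0 ≫ h = p2 ≫ G.t := by
    have e : x0 ≫ h = x0 ≫ p2 ≫ G.s := by rw [← hh2]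
    rw [e, ← Category.assoc, hx02, Category.assoc, Category.assoc, G.e_s, Category.comp_id,
      hcond]
  let α : pullback g G.t ⟶ pullback h G.t := pullback.lift x0 p2 hx0h
  have α1 : α ≫ pullback.fst h G.t = x0 := pullback.lift_fst _ _ _
  have α2 : α ≫ pullback.snd h G.t = p2 := pullback.lift_snd _ _ _
  have hαθ : α ≫ θ.hom ≫ pullback.fst h G.s = 𝟙 _ := by
    change α ≫ θh ≫ pullback.fst h G.s = 𝟙 _
    rw [θh1]
    apply Xext
    · rw [Category.assoc, hx'1, ← Category.assoc, α1, hx01, Category.id_comp]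
    · rw [Category.assoc, hx'2, pre_cmp, Category.id_comp]
      have e1 : α ≫ pullback.fst h G.t ≫ p2 = p2 ≫ G.t ≫ G.e := by
        rw [← Category.assoc, α1, hx02, ← Category.assoc, hcond, Category.assoc]
      rw [cmp_congr G e1 α2 _ (by rw [Category.assoc, Category.assoc, G.e_s, Category.comp_id])]
      exact G.e_comp p2
  refine ⟨σ ⁻¹ᵁ W h hh', ?_⟩
  calc p1 ⁻¹ᵁ σ ⁻¹ᵁ W h hh' = (p1 ≫ σ) ⁻¹ᵁ W h hh' := (Scheme.Hom.comp_preimage _ _ _).symm
    _ = (α ≫ pullback.fst h G.t) ⁻¹ᵁ W h hh' := by rw [α1, hx0σ]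
    _ = α ⁻¹ᵁ (pullback.fst h G.t ⁻¹ᵁ W h hh') := Scheme.Hom.comp_preimage _ _ _
    _ = α ⁻¹ᵁ (θ.hom ⁻¹ᵁ (pullback.fst h G.s ⁻¹ᵁ W h hh')) := by rw [hbc1, hW12, hbc2]
    _ = (α ≫ θ.hom ≫ pullback.fst h G.s) ⁻¹ᵁ W h hh' := by
      rw [Scheme.Hom.comp_preimage, Scheme.Hom.comp_preimage]
    _ = W h hh' := by rw [hαθ]; rfl

/-- Let (U, R, s, t, c, e, i) be a groupoid scheme over S and g : U' -> U a morphism; write h = s ∘ pr_1
: U' x_(g,U,t) R -> U. Let P, Q, R be properties of morphisms of schemes, with P invariant under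
composition with isomorphisms, such that (1) R implies Q, (2) Q is stable under base change and
composition, (3) every morphism f : X -> Y with Q has a largest open W(P, f) of X on which the
restriction of f has P (given here as a function W with these two properties), and (4) for f with Q
and a base change along Y' -> Y with R, the preimage of W(P, f) in X x_Y Y' is W(P, f') for the base
change f'. If s, t have R and g has Q, then there is an open W of U' whose preimage in U' x_(g,U,t)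
R equals W(P, h). (The published statement speaks of arbitrary properties of morphisms; this row
asks P to be invariant under composition with isomorphisms, which the proof uses to identify the
largest opens on the two isomorphic fibre products of h with t and with s.) (A groupoid scheme
carries U, R, s, t, c, e, i over S with the groupoid axioms on T-points; c is defined on the fibre
product of s and t and sends a pair (a, b) with s(a) = t(b) to a composed with b.) -/
theorem result (S : Scheme.{u}) (G : Grpd.GroupoidScheme S) {U' : Scheme.{u}} (g : U' ⟶ G.U) (P Q R : MorphismProperty Scheme.{u}) [P.RespectsIso] (hRQ : R ≤ Q) [Q.IsStableUnderBaseChange] [Q.IsStableUnderComposition] (W : ∀ {X Y : Scheme.{u}} (f : X ⟶ Y), Q f → X.Opens) (hWP : ∀ {X Y : Scheme.{u}} (f : X ⟶ Y) (hf : Q f), P ((W f hf).ι ≫ f)) (hWmax : ∀ {X Y : Scheme.{u}} (f : X ⟶ Y) (hf : Q f) (V : X.Opens), P (V.ι ≫ f) → V ≤ W f hf) (hWbc : ∀ {X Y Y' : Scheme.{u}} (f : X ⟶ Y) (hf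 : Q f) (b : Y' ⟶ Y), R b → ∀ hf' : Q (pullback.snd f b), pullback.fst f b ⁻¹ᵁ W f hf = W (pullback.snd f b) hf') (hs : R G.s) (ht : R G.t) (hg : Q g) (hh : Q (pullback.snd g G.t ≫ G.s)) : ∃ V : U'.Opens, pullback.fst g G.t ⁻¹ᵁ V = W (pullback.snd g G.t ≫ G.s) hh := by
  exact main S G g P Q R hRQ W hWP hWmax hWbc hs ht hg hh

end Groth.Agent.S7510
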