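import Groth.Statements.S7511

set_option autoImplicit false
universe u
open CategoryTheory CategoryTheory.Limits AlgebraicGeometry
open HTop

namespace Groth.Agent.S7511

theorem mem_fpqc {T : Scheme.{u}} {R : Presieve T} :
    R ∈ Scheme.fpqcPrecoverage T ↔
      R ∈ Scheme.qcPrecoverage T ∧ R ∈ Scheme.precoverage @Flat T := Iff.rfl

theorem desc_sigmaMk {T : Scheme.{u}} (E : PreZeroHypercover.{u} T) (p : Σ i, E.X i) :
    (Sigma.desc E.f) (sigmaMk E.X p) = E.f p.1 p.2 := by
  obtain ⟨i, x⟩ := p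
  rw [sigmaMk_mk, ← Scheme.Hom.comp_apply, Sigma.ι_desc]

theorem qc_iff {T : Scheme.{u}} (E : PreZeroHypercover.{u} T) :
    QuasiCompactCover E ↔
      QuasiCompactCover (PreZeroHypercover.singleton.{u} (Sigma.desc E.f)) := by
  constructor
  · intro hE
    exact QuasiCompactCover.of_hom (𝒱 := E)
      ⟨fun _ => ⟨⟩, fun i => Sigma.ι E.X i, fun i => Sigma.ι_desc _ _⟩
  · intro hE
    refine ⟨fun {U} hU => ?_⟩
    have h1 := hU.isCompactOpenCovered (PreZeroHypercover.singleton.{u} (Sigma.desc E.f))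
    rw [IsCompactOpenCovered.iff_of_unique] at h1
    obtain ⟨V, hVc, hVU⟩ := h1
    rw [IsCompactOpenCovered.iff_isCompactOpenCovered_sigmaMk,
      IsCompactOpenCovered.iff_of_unique]
    have hVo : IsOpen (V.1 : Set ↥(∐ E.X)) := V.2
    refine ⟨⟨(sigmaMk E.X) ⁻¹' (V.1 : Set ↥(∐ E.X)), hVo.preimage (sigmaMk E.X).continuous⟩,
      ?_, ?_⟩
    · exact (sigmaMk E.X).isCompact_preimage.mpr hVc
    · rw [← hVU]
      ext y
      simp only [Set.mem_image, Set.mem_preimage]
      constructor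
      · rintro ⟨p, hp, rfl⟩
        exact ⟨sigmaMk E.X p, hp, desc_sigmaMk E p⟩
      · rintro ⟨z, hz, rfl⟩
        obtain ⟨p, rfl⟩ := (sigmaMk E.X).surjective z
        exact ⟨p, hz, (desc_sigmaMk E p).symm⟩

/-- Let {f_i : T_i -> T} be a family of morphisms of schemes (indexed by a type in the universe of T, so
that the coproduct exists). Then it is an fpqc covering if and only if the one-arrow family
consisting of the induced morphism from the coproduct of the T_i to T is an fpqc covering. -/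
theorem result {T : Scheme.{u}} (E : PreZeroHypercover.{u} T) : E.presieve₀ ∈ Scheme.fpqcPrecoverage T ↔ Presieve.singleton (Sigma.desc E.f) ∈ Scheme.fpqcPrecoverage T := by
  rw [mem_fpqc, mem_fpqc, ← PreZeroHypercover.presieve₀_singleton.{_, _, u},
    Scheme.presieve₀_mem_qcPrecoverage_iff, Scheme.presieve₀_mem_qcPrecoverage_iff,
    ← qc_iff, PreZeroHypercover.presieve₀_singleton, Scheme.presieve₀_mem_precoverage_iff,
    Scheme.singleton_mem_precoverage_iff]
  refine and_congr_right fun _ => ⟨fun ⟨h1, h2⟩ => ⟨?_, ?_⟩, fun ⟨h1, h2⟩ => ⟨?_, ?_⟩⟩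
  · intro t
    obtain ⟨i, x, hx⟩ := h1 t
    refine ⟨Sigma.ι E.X i x, ?_⟩
    rw [← hx]
    exact congrArg (fun f : E.X i ⟶ T => f x) (Sigma.ι_desc E.f i)
  · haveI := h2
    exact IsZariskiLocalAtSource.sigmaDesc (P := @Flat) h2
  · intro t
    obtain ⟨z, hz⟩ := h1 t
    obtain ⟨p, rfl⟩ := (sigmaMk E.X).surjective z
    exact ⟨p.1, p.2, (desc_sigmaMk E p).symm.trans hz⟩
  · intro i
    haveI := h2
    rw [← Sigma.ι_desc E.f i]
    infer_instance

end Groth.Agent.S7511
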