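import Groth.Statements.S7512

set_option autoImplicit false
universe w u
open HTop

namespace Groth.Agent.S7512

section
open CategoryTheory CategoryTheory.Limits AlgebraicGeometry

theorem mem_fpqc {T : Scheme.{u}} {R : Presieve T} :
    R ∈ Scheme.fpqcPrecoverage T ↔
      R ∈ Scheme.qcPrecoverage T ∧ R ∈ Scheme.precoverage @Flat T := Iff.rfl
end

open CategoryTheory CategoryTheory.Limits AlgebraicGeometry in
/-- Let {f_i : T_i -> T} be a family of flat morphisms of schemes. Assume that for every affine scheme Z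
and every morphism h : Z -> T there is a standard fpqc covering of Z (a finite family of flat
morphisms Z_j -> Z with Z_j affine whose images cover Z) refining the family of base changes {T_i
x_T Z -> Z} (every Z_j -> Z factors through some T_i compatibly with h). Then {f_i : T_i -> T} is an
fpqc covering (in Mathlib's sense). -/
theorem result {T : Scheme.{u}} (E : PreZeroHypercover.{w} T) (hflat : ∀ i, Flat (E.f i)) (href : ∀ (Z : Scheme.{u}) [IsAffine Z] (h : Z ⟶ T), ∃ F : PreZeroHypercover.{0} Z, Finite F.I₀ ∧ (∀ j, IsAffine (F.X j)) ∧ (∀ j, Flat (F.f j)) ∧ (∀ z : Z, ∃ (j : F.I₀) (x : F.X j), F.f j x = z) ∧ HTop.RefinesOver h F E) : E.presieve₀ ∈ Scheme.fpqcPrecoverage T := by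
  refine mem_fpqc.mpr ⟨?_, ?_⟩
  · rw [Scheme.presieve₀_mem_qcPrecoverage_iff]
    refine ⟨fun {U} hU => ?_⟩
    haveI : IsAffine U.toScheme := hU
    obtain ⟨F, hfin, haff, -, hsurj, href'⟩ := href U.toScheme U.ι
    choose a t ht using href'
    refine IsCompactOpenCovered.of_comp (f := fun i => ⇑(E.f i))
      (fun j : F.I₀ => ⇑(F.f j ≫ U.ι)) (a := a) (fun j => ⇑(t j))
      (fun j => (t j).continuous) (fun j => ?_) (fun i => (E.f i).continuous) U.2 ?_
    · funext x
      simp only [Function.comp_apply, ← Scheme.Hom.comp_apply, ht]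
    · haveI := hfin
      refine IsCompactOpenCovered.of_finite (κ := F.I₀) (fun j => j) (fun j => ⊤)
        (fun j => ?_) ?_
      · haveI := haff j
        exact isCompact_univ
      · ext y
        simp only [Set.mem_iUnion, Set.mem_image, SetLike.mem_coe]
        constructor
        · rintro ⟨j, z, -, rfl⟩
          rw [Scheme.Hom.comp_apply]
          exact (F.f j z).2
        · intro hy
          obtain ⟨j, x, hx⟩ := hsurj ⟨y, hy⟩
          refine ⟨j, x, trivial, ?_⟩
          rw [Scheme.Hom.comp_apply, hx]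
          rfl
  · rw [Scheme.presieve₀_mem_precoverage_iff]
    refine ⟨fun t => ?_, hflat⟩
    obtain ⟨U, hU, htU, -⟩ := TopologicalSpace.Opens.isBasis_iff_nbhd.mp T.isBasis_affineOpens
      (TopologicalSpace.Opens.mem_top t)
    haveI : IsAffine (Scheme.Opens.toScheme U) := hU
    obtain ⟨F, -, -, -, hsurj, href'⟩ := href (Scheme.Opens.toScheme U) (Scheme.Opens.ι U)
    obtain ⟨j, x, hx⟩ := hsurj ⟨t, htU⟩
    obtain ⟨i, h, hh⟩ := href' j
    refine ⟨i, h x, ?_⟩
    rw [← Scheme.Hom.comp_apply, hh, Scheme.Hom.comp_apply, hx]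
    rfl

end Groth.Agent.S7512
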