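import Groth.Statements.S7514
import Mathlib.AlgebraicGeometry.Morphisms.IsIso
import Mathlib.AlgebraicGeometry.Morphisms.FormallyUnramified
import Mathlib.AlgebraicGeometry.ResidueField
import Mathlib.FieldTheory.IsAlgClosed.AlgebraicClosure
import Mathlib.Tactic

set_option autoImplicit false
universe u
open CategoryTheory CategoryTheory.Limits AlgebraicGeometry
open Grpd

namespace Groth.Agent.S7514


theorem mono_of_geom {X Y : Scheme.{u}} (j : X ⟶ Y) [FormallyUnramified j] [LocallyOfFiniteType j]
    (h : ∀ (k : Type u) [Field k] [IsAlgClosed k],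
      Function.Injective (fun r : Spec (CommRingCat.of k) ⟶ X => r ≫ j)) : Mono j := by
  rw [← pullback.isIso_diagonal_iff, isIso_iff_isOpenImmersion_and_surjective]
  refine ⟨inferInstance, ⟨?_⟩⟩
  intro z
  let κ := (pullback j j).residueField z
  let k := AlgebraicClosure κ
  obtain ⟨zb, hzbdef⟩ : ∃ zb : Spec (CommRingCat.of k) ⟶ pullback j j, zb =
    Spec.map (CommRingCat.ofHom (algebraMap κ k)) ≫ (pullback j j).fromSpecResidueField z :=
    ⟨_, rfl⟩
  have h12 : zb ≫ pullback.fst j j = zb ≫ pullback.snd j j := by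
    apply h k
    change (zb ≫ pullback.fst j j) ≫ j = (zb ≫ pullback.snd j j) ≫ j
    rw [Category.assoc, Category.assoc, pullback.condition]
  have hzb : zb = (zb ≫ pullback.fst j j) ≫ pullback.diagonal j := by
    apply pullback.hom_ext
    · rw [Category.assoc, pullback.diagonal_fst, Category.comp_id]
    · rw [Category.assoc, pullback.diagonal_snd, Category.comp_id, h12]
  let pt : Spec (CommRingCat.of k) := (⊥ : PrimeSpectrum k)
  have hz : zb pt = z := by
    rw [hzbdef, Scheme.Hom.comp_apply, Scheme.fromSpecResidueField_apply]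
  refine ⟨(zb ≫ pullback.fst j j) pt, ?_⟩
  rw [← Scheme.Hom.comp_apply, ← hzb, hz]

/-- Let S be a scheme, U a scheme over S and j : R -> U x_S U a pre-relation, with t = pr_0 ∘ j and s =
pr_1 ∘ j. Assume (1) s and t are unramified (formally unramified and locally of finite type), (2)
for every algebraically closed field k, the map from k-points of R to pairs of k-points of U is
injective with image an equivalence relation, and (3) there are morphisms e : U -> R, i : R -> R and
c : R x_(s,U,t) R -> R such that j ∘ e is the diagonal, j ∘ i is j followed by the flip of the two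
factors, and j ∘ c is pr_02 ∘ (j x j) (the arrow c(a, b) has target t(a) and source s(b)). Then j is
an equivalence relation: j is a monomorphism and, for every scheme T, the relation 'there is a
T-point r of R with t ∘ r = a and s ∘ r = b' on T-points a, b of U is an equivalence relation. -/
theorem result {S U R : Scheme.{u}} (pU : U ⟶ S) (j : R ⟶ pullback pU pU) [FormallyUnramified (j ≫ pullback.fst pU pU)] [LocallyOfFiniteType (j ≫ pullback.fst pU pU)] [FormallyUnramified (j ≫ pullback.snd pU pU)] [LocallyOfFiniteType (j ≫ pullback.snd pU pU)] (h₂ : ∀ (k : Type u) [Field k] [IsAlgClosed k], Function.Injective (fun r : Spec (CommRingCat.of k) ⟶ R => r ≫ j) ∧ Equivalence (fun a b : Spec (CommRingCat.of k) ⟶ U => ∃ r : Spec (CommRingCat.of k) ⟶ R, r ≫ j ≫ pullback.fst pU pU = a ∧ r ≫ j ≫ pullback.snd pU pU = b)) (e : U ⟶ R) (he : e ≫ j = pullback.lift (𝟙 U) (𝟙 U) rfl) (i : R ⟶ R) (hi : i ≫ j = j ≫ (pullbackSymmetry pU pU).hom) (c : pullback (j ≫ pullback.snd pU pU) (j ≫ pullback.fst pU pU) ⟶ R) (hc₁ : c ≫ j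 ≫ pullback.fst pU pU = pullback.fst (j ≫ pullback.snd pU pU) (j ≫ pullback.fst pU pU) ≫ j ≫ pullback.fst pU pU) (hc₂ : c ≫ j ≫ pullback.snd pU pU = pullback.snd (j ≫ pullback.snd pU pU) (j ≫ pullback.fst pU pU) ≫ j ≫ pullback.snd pU pU) : Mono j ∧ ∀ T : Scheme.{u}, Equivalence (fun a b : T ⟶ U => ∃ r : T ⟶ R, r ≫ j ≫ pullback.fst pU pU = a ∧ r ≫ j ≫ pullback.snd pU pU = b) := by
  haveI : FormallyUnramified j := FormallyUnramified.of_comp j (pullback.fst pU pU)
  haveI : LocallyOfFiniteType j := locallyOfFiniteType_of_comp j (pullback.fst pU pU)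
  refine ⟨mono_of_geom j (fun k _ _ => (h₂ k).1), ?_⟩
  intro T
  refine ⟨?_, ?_, ?_⟩
  · intro a
    refine ⟨a ≫ e, ?_, ?_⟩
    · rw [Category.assoc, ← Category.assoc e, he, pullback.lift_fst, Category.comp_id]
    · rw [Category.assoc, ← Category.assoc e, he, pullback.lift_snd, Category.comp_id]
  · rintro a b ⟨r, rfl, rfl⟩
    refine ⟨r ≫ i, ?_, ?_⟩
    · rw [Category.assoc, ← Category.assoc i, hi, Category.assoc, pullbackSymmetry_hom_comp_fst]
    · rw [Category.assoc, ← Category.assoc i, hi, Category.assoc, pullbackSymmetry_hom_comp_snd]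
  · rintro a b d ⟨r, rfl, rfl⟩ ⟨r', hr', rfl⟩
    refine ⟨pullback.lift r r' hr'.symm ≫ c, ?_, ?_⟩
    · rw [Category.assoc, hc₁, ← Category.assoc, pullback.lift_fst]
    · rw [Category.assoc, hc₂, ← Category.assoc, pullback.lift_snd]

end Groth.Agent.S7514
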