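import Groth.Statements.S7522
import Mathlib.AlgebraicGeometry.ResidueField
import Mathlib.AlgebraicGeometry.PullbackCarrier
import Mathlib.Tactic

set_option autoImplicit false
universe u
open CategoryTheory CategoryTheory.Limits AlgebraicGeometry
open Grpd

namespace Groth.Agent.S7522

/-- Let S be a scheme, U a scheme over S and j : R -> U x_S U a pre-equivalence relation, that is a
morphism such that for every scheme T the image of the T-points of R in pairs of T-points of U is an
equivalence relation; write t = pr_0 ∘ j and s = pr_1 ∘ j. Then the relation on the points of U in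
which x ∼ y when some point r of R has t(r) = x and s(r) = y is an equivalence relation. -/
theorem result {S U R : Scheme.{u}} (pU : U ⟶ S) (j : R ⟶ pullback pU pU) (hj : ∀ T : Scheme.{u}, Equivalence (fun a b : T ⟶ U => ∃ r : T ⟶ R, r ≫ j ≫ pullback.fst pU pU = a ∧ r ≫ j ≫ pullback.snd pU pU = b)) : Equivalence (fun x y : ↥U => ∃ r : R, (j ≫ pullback.fst pU pU) r = x ∧ (j ≫ pullback.snd pU pU) r = y) := by
  set t' : R ⟶ U := j ≫ pullback.fst pU pU with ht'
  set s' : R ⟶ U := j ≫ pullback.snd pU pU with hs'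
  -- a point of the spectrum of a residue field
  have pt : ∀ {X : Scheme.{u}} (x : X), ∃ q : ↥(Spec (X.residueField x)), True := fun x =>
    ⟨IsLocalRing.closedPoint _, trivial⟩
  refine ⟨fun x => ?_, fun {x y} hxy => ?_, fun {x y z} hxy hyz => ?_⟩
  · -- reflexivity
    obtain ⟨r, hr1, hr2⟩ := (hj _).refl (U.fromSpecResidueField x)
    obtain ⟨q, -⟩ := pt x
    refine ⟨r q, ?_, ?_⟩
    · rw [← Scheme.Hom.comp_apply, hr1, Scheme.fromSpecResidueField_apply]
    · rw [← Scheme.Hom.comp_apply, hr2, Scheme.fromSpecResidueField_apply]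
  · -- symmetry
    obtain ⟨r, hr1, hr2⟩ := hxy
    have h0 : ∃ ρ : Spec (R.residueField r) ⟶ R, ρ ≫ j ≫ pullback.fst pU pU = R.fromSpecResidueField r ≫ t' ∧
        ρ ≫ j ≫ pullback.snd pU pU = R.fromSpecResidueField r ≫ s' :=
      ⟨R.fromSpecResidueField r, rfl, rfl⟩
    obtain ⟨ρ, hρ1, hρ2⟩ := (hj _).symm h0
    obtain ⟨q, -⟩ := pt r
    refine ⟨ρ q, ?_, ?_⟩
    · rw [← Scheme.Hom.comp_apply, hρ1, Scheme.Hom.comp_apply, Scheme.fromSpecResidueField_apply]
      exact hr2
    · rw [← Scheme.Hom.comp_apply, hρ2, Scheme.Hom.comp_apply, Scheme.fromSpecResidueField_apply]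
      exact hr1
  · -- transitivity
    obtain ⟨r₁, h11, h12⟩ := hxy
    obtain ⟨r₂, h21, h22⟩ := hyz
    have hcond : s' r₁ = t' r₂ := by
      change (j ≫ pullback.snd pU pU) r₁ = (j ≫ pullback.fst pU pU) r₂
      rw [h12, h21]
    obtain ⟨p, hp1, hp2⟩ := Scheme.Pullback.exists_preimage_pullback (f := s') (g := t') r₁ r₂ hcond
    set T := Spec ((pullback s' t').residueField p) with hT
    set ι : T ⟶ pullback s' t' := (pullback s' t').fromSpecResidueField p with hι
    have hab : ∃ ρ : T ⟶ R, ρ ≫ j ≫ pullback.fst pU pU = ι ≫ pullback.fst s' t' ≫ t' ∧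
        ρ ≫ j ≫ pullback.snd pU pU = ι ≫ pullback.fst s' t' ≫ s' :=
      ⟨ι ≫ pullback.fst s' t', by rw [Category.assoc], by rw [Category.assoc]⟩
    have hbc : ∃ ρ : T ⟶ R, ρ ≫ j ≫ pullback.fst pU pU = ι ≫ pullback.fst s' t' ≫ s' ∧
        ρ ≫ j ≫ pullback.snd pU pU = ι ≫ pullback.snd s' t' ≫ s' := by
      refine ⟨ι ≫ pullback.snd s' t', ?_, by rw [Category.assoc]⟩
      rw [Category.assoc, pullback.condition]
    obtain ⟨ρ, hρ1, hρ2⟩ := (hj T).trans hab hbc
    obtain ⟨q, -⟩ := pt p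
    refine ⟨ρ q, ?_, ?_⟩
    · rw [← Scheme.Hom.comp_apply, hρ1, Scheme.Hom.comp_apply, Scheme.Hom.comp_apply,
        hι, Scheme.fromSpecResidueField_apply, hp1]
      exact h11
    · rw [← Scheme.Hom.comp_apply, hρ2, Scheme.Hom.comp_apply, Scheme.Hom.comp_apply,
        hι, Scheme.fromSpecResidueField_apply, hp2]
      exact h22

end Groth.Agent.S7522
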