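import Groth.Statements.S7523
import Groth.Agent.Lib.helper11.Spectral

set_option autoImplicit false
universe u
open SpecSp

namespace Groth.Agent.S7523

open Groth.Agent.Lib.helper11.Spec

theorem result {X Y : Type u} [TopologicalSpace X] [TopologicalSpace Y]
    [SpectralSpace X] [SpectralSpace Y] (f : X → Y) (hf : IsSpectralMap f) :
    @Continuous X Y (constructibleTopology X) (constructibleTopology Y) f ∧
    (∀ y : Y, IsCompact (f ⁻¹' {y})) ∧
    @IsClosed Y (constructibleTopology Y) (Set.range f) :=
  ⟨continuous_constr_of_isSpectralMap hf, isCompact_fibre_of_isSpectralMap hf,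
    isClosed_constr_range_of_isSpectralMap hf⟩

end Groth.Agent.S7523
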