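import Groth.Statements.S7524
import Groth.Agent.Lib.helper11.Spectral

set_option autoImplicit false
universe u
open SpecSp

namespace Groth.Agent.S7524

open Groth.Agent.Lib.helper11.Spec

theorem result {X Y : Type u} [TopologicalSpace X] [TopologicalSpace Y]
    [SpectralSpace X] [SpectralSpace Y] (f : X → Y) (hf : Continuous f) :
    IsSpectralMap f ↔ @Continuous X Y (constructibleTopology X) (constructibleTopology Y) f :=
  ⟨fun h => continuous_constr_of_isSpectralMap h, fun h => isSpectralMap_of_continuous_constr hf h⟩

end Groth.Agent.S7524
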