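import Groth.Statements.S7526
import Groth.Agent.Lib.helper11.Spectral

set_option autoImplicit false
universe u
open SpecSp

namespace Groth.Agent.S7526

open Groth.Agent.Lib.helper11.Spec

theorem result {X : Type u} [TopologicalSpace X] [SpectralSpace X] :
    (∀ E : Set X, @IsClosed X (constructibleTopology X) E →
      (∀ x ∈ closure E, ∃ e ∈ E, e ⤳ x) ∧ (StableUnderSpecialization E → IsClosed E)) ∧
    (∀ E' : Set X, @IsOpen X (constructibleTopology X) E' → StableUnderGeneralization E' → IsOpen E') :=
  ⟨fun _ hE => ⟨fun _ hx => exists_specializes_of_mem_closure hE hx,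
    fun hs => isClosed_of_isClosed_constr_of_stableUnderSpecialization hE hs⟩,
   fun _ hE hs => isOpen_of_isOpen_constr_of_stableUnderGeneralization hE hs⟩

end Groth.Agent.S7526
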