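import Groth.Statements.S7527
import Groth.Agent.Lib.helper11.Spectral

set_option autoImplicit false
universe u
open SpecSp

namespace Groth.Agent.S7527

open Groth.Agent.Lib.helper11.Spec

theorem result {X : Type u} [TopologicalSpace X] [SpectralSpace X] (x y : X) :
    (∃ z : X, z ⤳ x ∧ z ⤳ y) ∨
    (∃ U V : Set X, IsOpen U ∧ IsOpen V ∧ x ∈ U ∧ y ∈ V ∧ Disjoint U V) := by
  by_cases h : ∃ U V : Set X, IsOpen U ∧ IsOpen V ∧ x ∈ U ∧ y ∈ V ∧ Disjoint U V
  · exact Or.inr h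
  left
  push Not at h
  have hmeet : ∀ U V : Set X, IsOpen U → IsOpen V → x ∈ U → y ∈ V → (U ∩ V).Nonempty := by
    intro U V hU hV hxU hyV
    exact Set.not_disjoint_iff_nonempty_inter.mp (h U V hU hV hxU hyV)
  obtain ⟨z, -, hz⟩ := exists_mem_inter_sInter (E := (Set.univ : Set X))
    (@isClosed_univ X (constructibleTopology X)) ⟨x, trivial⟩
    {W | IsOpen W ∧ IsCompact W ∧ ∃ U V : Set X, IsOpen U ∧ IsOpen V ∧ x ∈ U ∧ y ∈ V ∧ W = U ∩ V}
    (fun W hW => ⟨hW.1, hW.2.1⟩)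
    (fun W hW => by
      obtain ⟨-, -, U, V, hU, hV, hxU, hyV, rfl⟩ := hW
      simpa using hmeet U V hU hV hxU hyV)
    (fun W hW W' hW' => by
      obtain ⟨hWo, hWc, U, V, hU, hV, hxU, hyV, rfl⟩ := hW
      obtain ⟨hWo', hWc', U', V', hU', hV', hxU', hyV', rfl⟩ := hW'
      refine ⟨hWo.inter hWo', QuasiSeparatedSpace.inter_isCompact _ _ hWo hWc hWo' hWc',
        U ∩ U', V ∩ V', hU.inter hU', hV.inter hV', ⟨hxU, hxU'⟩, ⟨hyV, hyV'⟩, ?_⟩
      ext p
      simp only [Set.mem_inter_iff]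
      tauto)
  refine ⟨z, ?_, ?_⟩
  · rw [specializes_iff_forall_open]
    intro U hU hxU
    obtain ⟨U', ⟨hU'o, hU'c⟩, hxU', hU'U⟩ :=
      PrespectralSpace.isTopologicalBasis.exists_subset_of_mem_open hxU hU
    have := hz (U' ∩ Set.univ) ⟨hU'o.inter isOpen_univ, by simpa using hU'c, U', Set.univ, hU'o,
      isOpen_univ, hxU', trivial, rfl⟩
    exact hU'U this.1
  · rw [specializes_iff_forall_open]
    intro V hV hyV
    obtain ⟨V', ⟨hV'o, hV'c⟩, hyV', hV'V⟩ :=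
      PrespectralSpace.isTopologicalBasis.exists_subset_of_mem_open hyV hV
    have := hz (Set.univ ∩ V') ⟨isOpen_univ.inter hV'o, by simpa using hV'c, Set.univ, V',
      isOpen_univ, hV'o, trivial, hyV', rfl⟩
    exact hV'V this.2

end Groth.Agent.S7527
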