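import Groth.Statements.S7528
import Groth.Agent.Lib.helper11.Spectral
import Mathlib.Topology.Connected.Separation

set_option autoImplicit false
universe u
open SpecSp

namespace Groth.Agent.S7528

open Groth.Agent.Lib.helper11.Spec

theorem result (X : Type u) [tX : TopologicalSpace X] [SpectralSpace X] :
    List.TFAE [
      T2Space X ∧ TotallyDisconnectedSpace X,
      T2Space X,
      TotallyDisconnectedSpace X,
      ∀ U : Set X, IsOpen U → IsCompact U → IsClosed U,
      ∀ x y : X, x ⤳ y → x = y,
      ∀ x : X, IsClosed ({x} : Set X),
      ∀ x : X, closure ({x} : Set X) ∈ irreducibleComponents X,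
      constructibleTopology X = tX] := by
  tfae_have 1 → 2 := fun h => h.1
  tfae_have 2 → 1 := fun h => ⟨h, inferInstance⟩
  tfae_have 1 → 3 := fun h => h.2
  tfae_have 2 → 6 := fun h x => isClosed_singleton
  tfae_have 6 → 5 := by
    intro h x y hxy
    have : y ∈ closure ({x} : Set X) := specializes_iff_mem_closure.mp hxy
    rw [(h x).closure_eq] at this
    exact this.symm
  tfae_have 3 → 5 := by
    intro h x y hxy
    have hpre : IsPreconnected (closure ({x} : Set X)) := isPreconnected_singleton.closure
    exact hpre.subsingleton (subset_closure rfl) (specializes_iff_mem_closure.mp hxy)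
  tfae_have 5 → 4 := by
    intro h U hUo hUc
    refine isClosed_of_isClosed_constr_of_stableUnderSpecialization
      (isClosed_constr_of_isCompact_isOpen hUc hUo) ?_
    intro x y hxy hx
    rwa [← h x y hxy]
  tfae_have 4 → 8 := by
    intro h
    apply le_antisymm constructibleTopology_le
    apply le_generateFrom
    rintro s (⟨hso, -⟩ | ⟨hscl, hsc⟩)
    · exact hso
    · have := h sᶜ hscl.isOpen_compl hsc
      exact isClosed_compl_iff.mp this
  tfae_have 8 → 2 := by
    intro h
    have := t2Space_constr (X := X)
    rwa [h] at this
  tfae_have 5 → 7 := by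
    intro h x
    refine ⟨isIrreducible_singleton.closure, fun Z hZ hle => ?_⟩
    obtain ⟨ξ, hξ⟩ := QuasiSober.sober hZ.closure isClosed_closure
    have hxZ : x ∈ closure Z := subset_closure (hle (subset_closure rfl))
    have : ξ = x := h ξ x (hξ.specializes hxZ)
    subst this
    rw [hξ.def]
    exact subset_closure
  tfae_have 7 → 5 := by
    intro h x y hxy
    have hle : closure ({y} : Set X) ⊆ closure ({x} : Set X) :=
      closure_minimal (by rintro _ rfl; exact specializes_iff_mem_closure.mp hxy) isClosed_closure
    have hge : closure ({x} : Set X) ⊆ closure ({y} : Set X) :=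
      (h y).2 isIrreducible_singleton.closure hle
    have hyx : y ⤳ x := specializes_iff_mem_closure.mpr (hge (subset_closure rfl))
    exact (hxy.antisymm hyx).eq
  tfae_finish

end Groth.Agent.S7528
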