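import Groth.Statements.S7530
import Groth.Agent.Lib.helper11.Spectral

set_option autoImplicit false
universe u
open SpecSp

namespace Groth.Agent.S7530

open Groth.Agent.Lib.helper11.Spec Topology

theorem result {X Y : Type u} [TopologicalSpace X] [TopologicalSpace Y]
    [SpectralSpace X] [SpectralSpace Y] (f : X → Y) (hf : IsSpectralMap f) (hb : Function.Bijective f)
    (hlift : GeneralizingMap f ∨ SpecializingMap f) :
    IsHomeomorph f := by
  have himg : ∀ s : Set X, f '' sᶜ = (f '' s)ᶜ := fun s => Set.image_compl_eq hb
  -- images of closed sets are constructibly closed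
  have hcl : ∀ Z : Set X, IsClosed Z → IsClosed[constructibleTopology Y] (f '' Z) := fun Z hZ =>
    isClosed_constr_image_of_isSpectralMap hf (isClosed_constr_of_isClosed hZ)
  rcases hlift with hg | hs
  · refine ⟨hf.continuous, fun U hU => ?_, hb⟩
    refine isOpen_of_isOpen_constr_of_stableUnderGeneralization ?_
      (hg.stableUnderGeneralization_image hU.stableUnderGeneralization)
    have := hcl Uᶜ hU.isClosed_compl
    rw [himg] at this
    exact (@isClosed_compl_iff Y (constructibleTopology Y) _).mp this
  · have hclosed : IsClosedMap f := fun Z hZ =>
      isClosed_of_isClosed_constr_of_stableUnderSpecialization (hcl Z hZ)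
        (hs.stableUnderSpecialization_image hZ.stableUnderSpecialization)
    refine ⟨hf.continuous, fun U hU => ?_, hb⟩
    have := hclosed Uᶜ hU.isClosed_compl
    rw [himg] at this
    exact isClosed_compl_iff.mp this

end Groth.Agent.S7530
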