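import Groth.Statements.S7531
import Groth.Agent.Lib.helper11.SpectralLimit3
import Mathlib.Topology.NoetherianSpace

set_option autoImplicit false
universe u
open CategoryTheory CategoryTheory.Limits
open SpecSp

namespace Groth.Agent.S7531

open Groth.Agent.Lib.helper11.SpecLim Groth.Agent.Lib.helper11.TopLim

theorem result {J : Type u} [Preorder J] [Nonempty J] [IsDirected J (· ≤ ·)]
    (F : Jᵒᵖ ⥤ TopCat.{u})
    (hF : ∀ j : Jᵒᵖ, Finite (F.obj j) ∧ T0Space (F.obj j) ∧ QuasiSober (F.obj j))
    (c : Cone F) (hc : IsLimit c) :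
    SpectralSpace c.pt := by
  have hsp : ∀ j, SpectralSpace (F.obj j) := by
    intro j
    obtain ⟨h1, h2, h3⟩ := hF j
    exact { toT0Space := h2, toCompactSpace := inferInstance, toQuasiSober := h3,
            toQuasiSeparatedSpace := inferInstance, toPrespectralSpace := inferInstance }
  have hmaps : ∀ {i j : Jᵒᵖ} (a : i ⟶ j), IsSpectralMap (F.map a : F.obj i → F.obj j) := by
    intro i j a
    have := (hF i).1
    exact ⟨continuous_map a, fun s _ _ => (Set.toFinite _).isCompact⟩
  exact spectralSpace_lim hsp hmaps hc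

end Groth.Agent.S7531
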