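import Groth.Statements.S7532
import Groth.Agent.Lib.helper11.Sierpinski
import Groth.Agent.Lib.helper11.SpectralSub

set_option autoImplicit false
universe u
open SpecSp

namespace Groth.Agent.S7532

open Groth.Agent.Lib.helper11.Spec Groth.Agent.Lib.helper11.Sierp Topology Set TopologicalSpace

section forward

variable {X : Type u} [TopologicalSpace X] [SpectralSpace X]

/-- the canonical map to the Sierpiński power indexed by compact opens -/
def canon (x : X) : {U : Set X // IsOpen U ∧ IsCompact U} → Prop := fun U => x ∈ U.1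

theorem continuous_canon : Continuous (canon : X → _) :=
  continuous_pi fun U => continuous_Prop.mpr U.2.1

theorem isInducing_canon : IsInducing (canon : X → _) := by
  refine ⟨le_antisymm continuous_canon.le_induced ?_⟩
  intro s hs
  rw [isOpen_induced_iff]
  refine ⟨⋃ U : {U : {U : Set X // IsOpen U ∧ IsCompact U} // U.1 ⊆ s},
    {u : {U : Set X // IsOpen U ∧ IsCompact U} → Prop | u U.1}, ?_, ?_⟩
  · exact isOpen_iUnion fun U => continuous_Prop.mp (continuous_apply U.1)
  · ext x
    simp only [mem_preimage, mem_iUnion, mem_ofPred_eq, canon]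
    constructor
    · rintro ⟨U, hxU⟩
      exact U.2 hxU
    · intro hx
      obtain ⟨V, ⟨hVo, hVc⟩, hxV, hVs⟩ :=
        PrespectralSpace.isTopologicalBasis.exists_subset_of_mem_open hx hs
      exact ⟨⟨⟨V, hVo, hVc⟩, hVs⟩, hxV⟩

theorem injective_canon : Function.Injective (canon : X → _) := by
  intro x y hxy
  by_contra hne
  obtain ⟨U, hU, hxor⟩ := exists_isOpen_xor'_mem hne
  rcases hxor with ⟨hxU, hyU⟩ | ⟨hyU, hxU⟩
  · obtain ⟨V, ⟨hVo, hVc⟩, hxV, hVU⟩ :=
      PrespectralSpace.isTopologicalBasis.exists_subset_of_mem_open hxU hU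
    have := congrFun hxy ⟨V, hVo, hVc⟩
    simp only [canon] at this
    exact hyU (hVU (this ▸ hxV))
  · obtain ⟨V, ⟨hVo, hVc⟩, hyV, hVU⟩ :=
      PrespectralSpace.isTopologicalBasis.exists_subset_of_mem_open hyU hU
    have := congrFun hxy ⟨V, hVo, hVc⟩
    simp only [canon] at this
    exact hxU (hVU (this.symm ▸ hyV))

theorem isCompact_preimage_box (F : Finset {U : Set X // IsOpen U ∧ IsCompact U}) :
    IsOpen ((canon : X → _) ⁻¹' box F) ∧ IsCompact ((canon : X → _) ⁻¹' box F) := by
  classical
  induction F using Finset.induction_on with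
  | empty =>
    have : (canon : X → _) ⁻¹' box ∅ = univ := by
      ext x; simp [box]
    rw [this]
    exact ⟨isOpen_univ, isCompact_univ⟩
  | insert a F ha ih =>
    have : (canon : X → _) ⁻¹' box (insert a F) = a.1 ∩ (canon : X → _) ⁻¹' box F := by
      ext x
      simp only [box, canon, mem_preimage, mem_ofPred_eq, Finset.mem_insert, forall_eq_or_imp,
        mem_inter_iff]
    rw [this]
    exact ⟨a.2.1.inter ih.1, QuasiSeparatedSpace.inter_isCompact _ _ a.2.1 a.2.2 ih.1 ih.2⟩

theorem isSpectralMap_canon : IsSpectralMap (canon : X → _) := by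
  refine ⟨continuous_canon, fun O hOo hOc => ?_⟩
  obtain ⟨s, hs, rfl⟩ := (isCompact_open_iff_eq_finite_iUnion_of_isTopologicalBasis box
    isTopologicalBasis_box isCompact_box O).mp ⟨hOc, hOo⟩
  rw [preimage_iUnion₂]
  exact hs.isCompact_biUnion fun F _ => (isCompact_preimage_box F).2

end forward

theorem result (X : Type u) [TopologicalSpace X] :
    SpectralSpace X ↔ ∃ (I : Type u) (f : X → (I → Prop)),
      Topology.IsEmbedding f ∧ @IsClosed (I → Prop) (constructibleTopology (I → Prop)) (Set.range f) := by
  constructor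
  · intro hX
    have hS : SpectralSpace ({U : Set X // IsOpen U ∧ IsCompact U} → Prop) := spectralSpace_pi
    exact ⟨{U : Set X // IsOpen U ∧ IsCompact U}, canon, ⟨isInducing_canon, injective_canon⟩,
      isClosed_constr_range_of_isSpectralMap isSpectralMap_canon⟩
  · rintro ⟨I, f, hf, hcl⟩
    have hS : SpectralSpace (I → Prop) := spectralSpace_pi
    have hR : SpectralSpace (range f) := spectralSpace_of_isClosed_constr _ hcl
    let e : X ≃ₜ range f := hf.toHomeomorph
    have hc : CompactSpace X := e.symm.compactSpace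
    exact e.isOpenEmbedding.spectralSpace

end Groth.Agent.S7532
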