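import Groth.Statements.S7534
import Groth.Agent.Lib.helper11.SpectralLimit

set_option autoImplicit false
universe u
open CategoryTheory CategoryTheory.Limits
open SpecSp

namespace Groth.Agent.S7534

open Groth.Agent.Lib.helper11.SpecLim

theorem result {J : Type u} [SmallCategory J] [IsCofiltered J] (F : J ⥤ TopCat.{u})
    (hF : ∀ j, SpectralSpace (F.obj j))
    (hFm : ∀ {i j : J} (a : i ⟶ j), IsSpectralMap (F.map a : F.obj i → F.obj j))
    (c : Cone F) (hc : IsLimit c) :
    (∀ Z : ∀ j, Set (F.obj j),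
      (∀ j, (Z j).Nonempty) →
      (∀ j, @IsClosed (F.obj j) (constructibleTopology (F.obj j)) (Z j)) →
      (∀ {i j : J} (a : i ⟶ j), Set.MapsTo (F.map a) (Z i) (Z j)) →
      ∃ x : c.pt, ∀ j, c.π.app j x ∈ Z j) ∧
    ((∀ j, Nonempty (F.obj j)) → Nonempty c.pt) := by
  refine ⟨fun Z hne hZ hmaps => nonempty_lim hF hFm hc Z hne hZ hmaps, fun hne => ?_⟩
  obtain ⟨x, -⟩ := nonempty_lim hF hFm hc (fun _ => Set.univ) (fun j => Set.univ_nonempty)
    (fun j => @isClosed_univ _ (constructibleTopology (F.obj j))) (fun a => Set.mapsTo_univ _ _)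
  exact ⟨x⟩

end Groth.Agent.S7534
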