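import Groth.Statements.S7535
import Groth.Agent.Lib.helper11.SpectralLimit2

set_option autoImplicit false
universe u
open CategoryTheory CategoryTheory.Limits
open SpecSp

namespace Groth.Agent.S7535

open Groth.Agent.Lib.helper11.SpecLim Groth.Agent.Lib.helper11.TopLim

theorem result {J : Type u} [SmallCategory J] [IsCofiltered J] (F : J ⥤ TopCat.{u})
    (hF : ∀ j, SpectralSpace (F.obj j))
    (hFm : ∀ {i j : J} (a : i ⟶ j), IsSpectralMap (F.map a : F.obj i → F.obj j))
    (c : Cone F) (hc : IsLimit c)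
    (i : J) (E F' : Set (F.obj i)) (hE : @IsClosed (F.obj i) (constructibleTopology (F.obj i)) E)
    (hF' : @IsOpen (F.obj i) (constructibleTopology (F.obj i)) F') :
    (c.π.app i ⁻¹' E ⊆ c.π.app i ⁻¹' F') ↔ ∃ (j : J) (a : j ⟶ i), F.map a ⁻¹' E ⊆ F.map a ⁻¹' F' := by
  constructor
  · exact exists_hom_preimage_subset hF hFm hc i E F' hE hF'
  · rintro ⟨j, a, h⟩ x hx
    have h1 : c.π.app j x ∈ F.map a ⁻¹' E := by
      change F.map a (c.π.app j x) ∈ E
      rw [naturality]
      exact hx
    have h2 := h h1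
    change F.map a (c.π.app j x) ∈ F' at h2
    rw [naturality] at h2
    exact h2

end Groth.Agent.S7535
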