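import Groth.Statements.S7536
import Groth.Agent.Lib.helper11.SpectralLimit3
import Groth.Agent.Lib.helper11.SpectralConstr

set_option autoImplicit false
universe u
open CategoryTheory CategoryTheory.Limits
open SpecSp

namespace Groth.Agent.S7536

open Groth.Agent.Lib.helper11.SpecLim Groth.Agent.Lib.helper11.TopLim Groth.Agent.Lib.helper11.Spec
open Topology

theorem isConstructible_preimage_of_isSpectralMap {A B : Type u} [TopologicalSpace A]
    [TopologicalSpace B] [CompactSpace B] [QuasiSeparatedSpace A] {g : A → B}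
    (hg : IsSpectralMap g) {s : Set B} (hs : IsConstructible s) : IsConstructible (g ⁻¹' s) :=
  hs.preimage hg.continuous fun t hto htr =>
    (hg.isCompact_preimage_of_isOpen hto htr.isCompact).isRetrocompact (hto.preimage hg.continuous)

theorem result {J : Type u} [SmallCategory J] [IsCofiltered J] (F : J ⥤ TopCat.{u})
    (hF : ∀ j, SpectralSpace (F.obj j))
    (hFm : ∀ {i j : J} (a : i ⟶ j), IsSpectralMap (F.map a : F.obj i → F.obj j))
    (c : Cone F) (hc : IsLimit c)
    (E : Set c.pt) (hE : Topology.IsConstructible E) :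
    (∃ (i : J) (Ei : Set (F.obj i)), Topology.IsConstructible Ei ∧ c.π.app i ⁻¹' Ei = E) ∧
    (IsOpen E → ∃ (i : J) (Ei : Set (F.obj i)), Topology.IsConstructible Ei ∧ IsOpen Ei ∧ c.π.app i ⁻¹' Ei = E) ∧
    (IsClosed E → ∃ (i : J) (Ei : Set (F.obj i)), Topology.IsConstructible Ei ∧ IsClosed Ei ∧ c.π.app i ⁻¹' Ei = E) := by
  have hsp : SpectralSpace c.pt := spectralSpace_lim hF hFm hc
  have hopen : ∀ E : Set c.pt, IsConstructible E → IsOpen E →
      ∃ (i : J) (Ei : Set (F.obj i)), IsConstructible Ei ∧ IsOpen Ei ∧ c.π.app i ⁻¹' Ei = E := by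
    intro E hE hEo
    have hEc : IsCompact E := isCompact_of_isClosed_constr (isClosed_constr_of_isConstructible hE)
    obtain ⟨i, Ui, hUi, hUic, rfl⟩ := exists_compact_open_descend hF hFm hc E hEo hEc
    exact ⟨i, Ui, hUic.isConstructible hUi, hUi, rfl⟩
  refine ⟨?_, hopen E hE, ?_⟩
  · induction hE using IsConstructible.empty_union_induction with
    | open_retrocompact U hUopen hUcomp =>
      obtain ⟨i, Ui, hUi, -, h⟩ := hopen U (hUcomp.isConstructible hUopen) hUopen
      exact ⟨i, Ui, hUi, h⟩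
    | union s hs t ht hs' ht' =>
      obtain ⟨i, Ei, hEi, rfl⟩ := hs'
      obtain ⟨j, Ej, hEj, rfl⟩ := ht'
      let k := IsCofiltered.min i j
      let a : k ⟶ i := IsCofiltered.minToLeft i j
      let b : k ⟶ j := IsCofiltered.minToRight i j
      refine ⟨k, F.map a ⁻¹' Ei ∪ F.map b ⁻¹' Ej,
        (isConstructible_preimage_of_isSpectralMap (hFm a) hEi).union
          (isConstructible_preimage_of_isSpectralMap (hFm b) hEj), ?_⟩
      ext x
      simp only [Set.mem_preimage, Set.mem_union]
      rw [naturality, naturality]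
    | compl s hs hs' =>
      obtain ⟨i, Ei, hEi, rfl⟩ := hs'
      exact ⟨i, Eiᶜ, hEi.compl, rfl⟩
  · intro hEcl
    obtain ⟨i, Ui, hUi, hUio, h⟩ := hopen Eᶜ hE.compl hEcl.isOpen_compl
    refine ⟨i, Uiᶜ, hUi.compl, hUio.isClosed_compl, ?_⟩
    rw [Set.preimage_compl, h, compl_compl]

end Groth.Agent.S7536
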