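import Groth.Statements.S7538
import Groth.Agent.Lib.helper11.SpectralLimit3

set_option autoImplicit false
universe u
open CategoryTheory CategoryTheory.Limits
open SpecSp

namespace Groth.Agent.S7538

open Groth.Agent.Lib.helper11.SpecLim Groth.Agent.Lib.helper11.TopLim Groth.Agent.Lib.helper11.Spec
open Topology

variable {J : Type u} [SmallCategory J] [IsCofiltered J] {F : J ⥤ TopCat.{u}}
    (hF : ∀ j, SpectralSpace (F.obj j))
    (hFm : ∀ {i j : J} (a : i ⟶ j), IsSpectralMap (F.map a : F.obj i → F.obj j))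
    {c : Cone F} (hc : IsLimit c)

include hF hFm hc in
theorem exists_hom_preimage_eq (i : J) (E E' : Set (F.obj i))
    (hEc : IsClosed[constructibleTopology (F.obj i)] E)
    (hEo : IsOpen[constructibleTopology (F.obj i)] E)
    (hE'c : IsClosed[constructibleTopology (F.obj i)] E')
    (hE'o : IsOpen[constructibleTopology (F.obj i)] E')
    (h : c.π.app i ⁻¹' E = c.π.app i ⁻¹' E') :
    ∃ (j : J) (a : j ⟶ i), F.map a ⁻¹' E = F.map a ⁻¹' E' := by
  obtain ⟨j₁, a₁, h₁⟩ := exists_hom_preimage_subset hF hFm hc i E E' hEc hE'o h.subset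
  obtain ⟨j₂, a₂, h₂⟩ := exists_hom_preimage_subset hF hFm hc i E' E hE'c hEo h.symm.subset
  let k' := IsCofiltered.min j₁ j₂
  let l₁ : k' ⟶ j₁ := IsCofiltered.minToLeft j₁ j₂
  let l₂ : k' ⟶ j₂ := IsCofiltered.minToRight j₁ j₂
  let k := IsCofiltered.eq (l₁ ≫ a₁) (l₂ ≫ a₂)
  let e : k ⟶ k' := IsCofiltered.eqHom (l₁ ≫ a₁) (l₂ ≫ a₂)
  have he : e ≫ (l₁ ≫ a₁) = e ≫ (l₂ ≫ a₂) := IsCofiltered.eq_condition _ _
  refine ⟨k, e ≫ l₁ ≫ a₁, Set.Subset.antisymm ?_ ?_⟩
  · intro x hx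
    have e1 : F.map (e ≫ l₁ ≫ a₁) x = F.map a₁ (F.map (e ≫ l₁) x) := by
      rw [← Category.assoc, F.map_comp]; rfl
    change F.map (e ≫ l₁ ≫ a₁) x ∈ E at hx
    change F.map (e ≫ l₁ ≫ a₁) x ∈ E'
    rw [e1] at hx ⊢
    exact h₁ hx
  · intro x hx
    have e2 : F.map (e ≫ l₁ ≫ a₁) x = F.map a₂ (F.map (e ≫ l₂) x) := by
      rw [he, ← Category.assoc, F.map_comp]; rfl
    change F.map (e ≫ l₁ ≫ a₁) x ∈ E' at hx
    change F.map (e ≫ l₁ ≫ a₁) x ∈ E
    rw [e2] at hx ⊢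
    exact h₂ hx

theorem result {J : Type u} [SmallCategory J] [IsCofiltered J] (F : J ⥤ TopCat.{u})
    (hF : ∀ j, SpectralSpace (F.obj j))
    (hFm : ∀ {i j : J} (a : i ⟶ j), IsSpectralMap (F.map a : F.obj i → F.obj j))
    (c : Cone F) (hc : IsLimit c) :
    (∀ U : Set c.pt, IsOpen U → IsCompact U →
      ∃ (i : J) (Ui : Set (F.obj i)), IsOpen Ui ∧ IsCompact Ui ∧ c.π.app i ⁻¹' Ui = U) ∧
    (∀ (i j : J) (Ui : Set (F.obj i)) (Uj : Set (F.obj j)),
      IsOpen Ui → IsCompact Ui → IsOpen Uj → IsCompact Uj →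
      c.π.app i ⁻¹' Ui ⊆ c.π.app j ⁻¹' Uj →
      ∃ (k : J) (a : k ⟶ i) (b : k ⟶ j), F.map a ⁻¹' Ui ⊆ F.map b ⁻¹' Uj) ∧
    (∀ (i : J) (n : ℕ) (Ui : Set (F.obj i)) (V : Fin n → Set (F.obj i)),
      IsOpen Ui → IsCompact Ui → (∀ l, IsOpen (V l) ∧ IsCompact (V l)) →
      (c.π.app i ⁻¹' Ui = ⋃ l, c.π.app i ⁻¹' V l →
        ∃ (j : J) (a : j ⟶ i), F.map a ⁻¹' Ui = ⋃ l, F.map a ⁻¹' V l) ∧
      (c.π.app i ⁻¹' Ui = ⋂ l, c.π.app i ⁻¹' V l →
        ∃ (j : J) (a : j ⟶ i), F.map a ⁻¹' Ui = ⋂ l, F.map a ⁻¹' V l)) := by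
  refine ⟨exists_compact_open_descend hF hFm hc, ?_, ?_⟩
  · intro i j Ui Uj hUi hUic hUj hUjc hsub
    let k₀ := IsCofiltered.min i j
    let a₀ : k₀ ⟶ i := IsCofiltered.minToLeft i j
    let b₀ : k₀ ⟶ j := IsCofiltered.minToRight i j
    obtain ⟨k, d, hd⟩ := exists_hom_preimage_subset hF hFm hc k₀ (F.map a₀ ⁻¹' Ui)
      (F.map b₀ ⁻¹' Uj)
      (isClosed_constr_of_isCompact_isOpen ((hFm a₀).isCompact_preimage_of_isOpen hUi hUic)
        (hUi.preimage (continuous_map a₀)))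
      (isOpen_constr_of_isOpen (hUj.preimage (continuous_map b₀)))
      (by
        intro x hx
        change F.map a₀ (c.π.app k₀ x) ∈ Ui at hx
        rw [naturality] at hx
        have := hsub hx
        change F.map b₀ (c.π.app k₀ x) ∈ Uj
        rw [naturality]
        exact this)
    refine ⟨k, d ≫ a₀, d ≫ b₀, ?_⟩
    intro x hx
    have e1 : F.map (d ≫ a₀) x = F.map a₀ (F.map d x) := by rw [F.map_comp]; rfl
    have e2 : F.map (d ≫ b₀) x = F.map b₀ (F.map d x) := by rw [F.map_comp]; rfl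
    change F.map (d ≫ a₀) x ∈ Ui at hx
    change F.map (d ≫ b₀) x ∈ Uj
    rw [e1] at hx
    rw [e2]
    exact hd hx
  · intro i n Ui V hUi hUic hV
    have hUcl := isClosed_constr_of_isCompact_isOpen hUic hUi
    have hUop := isOpen_constr_of_isCompact_isOpen hUic hUi
    constructor
    · intro h
      have := exists_hom_preimage_eq hF hFm hc i Ui (⋃ l, V l) hUcl hUop
        (@isClosed_iUnion_of_finite _ _ (constructibleTopology (F.obj i)) _ _ fun l =>
          isClosed_constr_of_isCompact_isOpen (hV l).2 (hV l).1)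
        (@isOpen_iUnion _ _ (constructibleTopology (F.obj i)) _ fun l =>
          isOpen_constr_of_isCompact_isOpen (hV l).2 (hV l).1)
        (by rw [Set.preimage_iUnion]; exact h)
      obtain ⟨j, a, ha⟩ := this
      exact ⟨j, a, by rw [ha, Set.preimage_iUnion]⟩
    · intro h
      have := exists_hom_preimage_eq hF hFm hc i Ui (⋂ l, V l) hUcl hUop
        (@isClosed_iInter _ _ (constructibleTopology (F.obj i)) _ fun l =>
          isClosed_constr_of_isCompact_isOpen (hV l).2 (hV l).1)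
        (@isOpen_iInter_of_finite _ _ (constructibleTopology (F.obj i)) _ _ fun l =>
          isOpen_constr_of_isCompact_isOpen (hV l).2 (hV l).1)
        (by rw [Set.preimage_iInter]; exact h)
      obtain ⟨j, a, ha⟩ := this
      exact ⟨j, a, by rw [ha, Set.preimage_iInter]⟩

end Groth.Agent.S7538
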