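import Groth.Statements.S7539
import Groth.Agent.Lib.helper11.SpectralConstr

set_option autoImplicit false
universe u
open SpecSp

namespace Groth.Agent.S7539

open Groth.Agent.Lib.helper11.Spec Topology

theorem result {X : Type u} [TopologicalSpace X] [SpectralSpace X] (W : Set X) :
    List.TFAE [
      (∃ S : Set (Set X), (∀ s ∈ S, Topology.IsConstructible s) ∧ W = ⋂₀ S) ∧ StableUnderGeneralization W,
      IsCompact W ∧ StableUnderGeneralization W,
      ∃ E : Set X, IsCompact E ∧ W = {x | ∃ e ∈ E, x ⤳ e},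
      ∃ S : Set (Set X), (∀ s ∈ S, IsOpen s ∧ IsCompact s) ∧ W = ⋂₀ S,
      ∃ (I : Type u) (_ : Nonempty I) (U : I → Set X), (∀ i, IsOpen (U i) ∧ IsCompact (U i)) ∧
        W = ⋂ i, U i ∧ ∀ i j, ∃ k, U k ⊆ U i ∩ U j] := by
  classical
  tfae_have 1 → 2 := by
    rintro ⟨⟨S, hS, rfl⟩, hgen⟩
    refine ⟨isCompact_of_isClosed_constr ?_, hgen⟩
    exact @isClosed_sInter X (constructibleTopology X) S fun s hs =>
      isClosed_constr_of_isConstructible (hS s hs)
  tfae_have 2 → 3 := by
    rintro ⟨hc, hgen⟩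
    refine ⟨W, hc, ?_⟩
    ext x
    constructor
    · intro hx; exact ⟨x, hx, specializes_rfl⟩
    · rintro ⟨e, he, hxe⟩; exact hgen hxe he
  tfae_have 3 → 4 := by
    rintro ⟨E, hE, rfl⟩
    refine ⟨{V | IsOpen V ∧ IsCompact V ∧ E ⊆ V}, fun s hs => ⟨hs.1, hs.2.1⟩, ?_⟩
    ext x
    simp only [Set.mem_ofPred_eq, Set.mem_sInter, and_imp]
    constructor
    · rintro ⟨e, he, hxe⟩ V hVo hVc hEV
      exact (specializes_iff_forall_open.mp hxe) V hVo (hEV he)
    · intro h
      by_contra hcon
      push Not at hcon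
      have hsub : E ⊆ (closure ({x} : Set X))ᶜ := by
        intro e he hex
        exact hcon e he (specializes_iff_mem_closure.mpr hex)
      obtain ⟨V, hVc, hVo, hEV, hVx⟩ := PrespectralSpace.exists_isCompact_and_isOpen_between hE
        isClosed_closure.isOpen_compl hsub
      exact hVx (h V hVo hVc hEV) (subset_closure rfl)
  tfae_have 4 → 5 := by
    rintro ⟨S, hS, rfl⟩
    have hUF : ∀ F : Finset S, IsOpen (⋂ s ∈ F, (s : Set X)) ∧ IsCompact (⋂ s ∈ F, (s : Set X)) := by
      intro F
      induction F using Finset.induction_on with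
      | empty => simpa using (isCompact_univ : IsCompact (Set.univ : Set X))
      | insert a F ha ih =>
        rw [Finset.set_biInter_insert]
        exact ⟨(hS a a.2).1.inter ih.1,
          QuasiSeparatedSpace.inter_isCompact _ _ (hS a a.2).1 (hS a a.2).2 ih.1 ih.2⟩
    refine ⟨Finset S, ⟨∅⟩, fun F => ⋂ s ∈ F, (s : Set X), hUF, ?_, ?_⟩
    · ext x
      simp only [Set.mem_sInter, Set.mem_iInter]
      constructor
      · intro h F s _
        exact h s s.2
      · intro h s hs
        exact h {⟨s, hs⟩} ⟨s, hs⟩ (Finset.mem_singleton_self _)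
    · intro F G
      refine ⟨F ∪ G, ?_⟩
      intro x hx
      simp only [Set.mem_iInter, Set.mem_inter_iff] at hx ⊢
      exact ⟨fun s hs => hx s (Finset.mem_union_left _ hs),
        fun s hs => hx s (Finset.mem_union_right _ hs)⟩
  tfae_have 5 → 1 := by
    rintro ⟨I, _, U, hU, rfl, -⟩
    refine ⟨⟨Set.range U, ?_, (Set.sInter_range U).symm⟩, ?_⟩
    · rintro _ ⟨i, rfl⟩
      exact (hU i).2.isConstructible (hU i).1
    · intro x y hyx hx
      simp only [Set.mem_iInter] at hx ⊢
      exact fun i => (hU i).1.stableUnderGeneralization hyx (hx i)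
  tfae_finish

end Groth.Agent.S7539
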