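import Groth.Statements.S7540
import Groth.Agent.Lib.helper11.Spectral

set_option autoImplicit false
universe u
open SpecSp

namespace Groth.Agent.S7540

open Groth.Agent.Lib.helper11.Spec

theorem result {X : Type u} [TopologicalSpace X] [SpectralSpace X]
    {I : Type u} [Nonempty I] (U : I → Set X) (hU : ∀ i, IsOpen (U i) ∧ IsCompact (U i))
    (hdir : ∀ i j, ∃ k, U k ⊆ U i ∩ U j) :
    ∀ V : Set X, IsOpen V → (⋂ i, U i) ⊆ V → ∃ i, U i ⊆ V := by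
  intro V hV hsub
  by_contra hcon
  push Not at hcon
  have key := nonempty_sInter_of_directed (Set.range fun i => U i ∩ Vᶜ) (Set.range_nonempty _)
    ?_ ?_ ?_
  · obtain ⟨x, hx⟩ := key
    have hxU : x ∈ ⋂ i, U i := Set.mem_iInter.mpr fun i => (hx _ ⟨i, rfl⟩).1
    obtain ⟨i⟩ := ‹Nonempty I›
    exact (hx _ ⟨i, rfl⟩).2 (hsub hxU)
  · rintro _ ⟨i, rfl⟩
    exact @IsClosed.inter X (U i) Vᶜ (constructibleTopology X)
      (isClosed_constr_of_isCompact_isOpen (hU i).2 (hU i).1)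
      (isClosed_constr_of_isClosed hV.isClosed_compl)
  · rintro _ ⟨i, rfl⟩
    obtain ⟨x, hxU, hxV⟩ := Set.not_subset.mp (hcon i)
    exact ⟨x, hxU, hxV⟩
  · rintro _ ⟨i, rfl⟩ _ ⟨j, rfl⟩
    obtain ⟨k, hk⟩ := hdir i j
    refine ⟨U k ∩ Vᶜ, ⟨k, rfl⟩, ?_⟩
    intro x hx
    exact ⟨⟨(hk hx.1).1, hx.2⟩, ⟨(hk hx.1).2, hx.2⟩⟩

end Groth.Agent.S7540
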