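import Groth.Statements.S7541
import Groth.Agent.Lib.helper11.SpectralConstr
import Groth.Agent.Lib.helper11.SpectralSub
import Groth.Agent.S7539

set_option autoImplicit false
universe u
open SpecSp

namespace Groth.Agent.S7541

open Groth.Agent.Lib.helper11.Spec Topology

theorem result {X : Type u} [TopologicalSpace X] [SpectralSpace X]
    (E : Set X) (hE : Topology.IsConstructible E) :
    SpectralSpace ↥({x : X | ∃ e ∈ E, x ⤳ e} \ E) := by
  apply spectralSpace_of_isClosed_constr
  have hEc : IsCompact E := isCompact_of_isClosed_constr (isClosed_constr_of_isConstructible hE)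
  have h34 := (Groth.Agent.S7539.result {x : X | ∃ e ∈ E, x ⤳ e}).out 2 3
  obtain ⟨S, hS, hW⟩ := h34.mp ⟨E, hEc, rfl⟩
  rw [hW, Set.sdiff_eq]
  refine @IsClosed.inter X _ _ (constructibleTopology X) ?_ ?_
  · exact @isClosed_sInter X (constructibleTopology X) S fun s hs =>
      isClosed_constr_of_isCompact_isOpen (hS s hs).2 (hS s hs).1
  · exact isClosed_constr_of_isConstructible hE.compl

end Groth.Agent.S7541
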