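import Groth.Statements.S7542

set_option autoImplicit false
universe u
open ConstrTop

namespace Groth.Agent.S7542

theorem retro_preimage {X : Type u} [TopologicalSpace X] [PrespectralSpace X]
    (T : Set X) (hT : IsRetrocompact T) (s : Set X) (hso : IsOpen s) (hsr : IsRetrocompact s) :
    IsRetrocompact ((Subtype.val : T → X) ⁻¹' s) := by
  intro V' hV'c hV'o
  obtain ⟨V, hV, rfl⟩ := isOpen_induced_iff.mp hV'o
  have hc : IsCompact ((Subtype.val : T → X) '' (Subtype.val ⁻¹' V)) :=
    hV'c.image continuous_subtype_val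
  obtain ⟨W, hWc, hWo, h1, h2⟩ := PrespectralSpace.exists_isCompact_and_isOpen_between hc hV
    (by rintro _ ⟨x, hx, rfl⟩; exact hx)
  have e1 : (Subtype.val : T → X) ⁻¹' V = Subtype.val ⁻¹' W := by
    ext x
    exact ⟨fun hx => h1 ⟨x, hx, rfl⟩, fun hx => h2 hx⟩
  rw [e1, ← Set.preimage_inter, Topology.IsEmbedding.subtypeVal.isCompact_iff,
    Subtype.image_preimage_coe]
  exact hT (hsr hWc hWo) (hso.inter hWo)

theorem result {X : Type u} [TopologicalSpace X] [PrespectralSpace X]
    (T : Set X) (hT : IsRetrocompact T) (E : Set X) (hE : Topology.IsConstructible E) :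
    Topology.IsConstructible ((Subtype.val : T → X) ⁻¹' E) :=
  hE.preimage continuous_subtype_val fun s hso hsr => retro_preimage T hT s hso hsr

end Groth.Agent.S7542
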