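import Groth.Statements.S7543
import Groth.Agent.Lib.helper11.ConstrMore

set_option autoImplicit false
universe u
open ConstrTop

namespace Groth.Agent.S7543

theorem result {X : Type u} [TopologicalSpace X] [PrespectralSpace X]
    (E : Set X) (hE : Topology.IsConstructible E) (F : Set E) (hF : Topology.IsConstructible F) :
    Topology.IsConstructible ((Subtype.val : E → X) '' F) :=
  Groth.Agent.Lib.helper11.isConstructible_image_val E hE F hF

end Groth.Agent.S7543
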