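import Groth.Statements.S7544

set_option autoImplicit false
universe u
open ConstrTop

namespace Groth.Agent.S7544

theorem result {X : Type u} [TopologicalSpace X]
    [CompactSpace X] [PrespectralSpace X] [QuasiSeparatedSpace X]
    (T : Set X) (hT : IsLocallyClosed T) (hTc : IsCompact T) (hTr : IsRetrocompact Tᶜ) :
    Topology.IsConstructible T := by
  have h2 : IsOpen (coborder T) := ((isLocallyClosed_tfae T).out 0 1).mp hT
  obtain ⟨U, hUc, hUo, hTU, hUO⟩ :=
    PrespectralSpace.exists_isCompact_and_isOpen_between hTc h2 subset_coborder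
  have hTeq : T = U ∩ closure T := by
    apply Set.Subset.antisymm
    · exact fun x hx => ⟨hTU hx, subset_closure hx⟩
    · rintro x ⟨hxU, hxc⟩
      have : x ∈ coborder T ∩ closure T := ⟨hUO hxU, hxc⟩
      rwa [coborder_inter_closure] at this
  have hVeq : U \ closure T = Tᶜ ∩ U := by
    ext x
    constructor
    · rintro ⟨hxU, hxc⟩
      exact ⟨fun hxT => hxc (subset_closure hxT), hxU⟩
    · rintro ⟨hxT, hxU⟩
      refine ⟨hxU, fun hxc => hxT ?_⟩
      rw [hTeq]
      exact ⟨hxU, hxc⟩
  have hVo : IsOpen (U \ closure T) := hUo.sdiff isClosed_closure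
  have hVc : IsCompact (U \ closure T) := by
    rw [hVeq]
    exact hTr hUc hUo
  have hT' : T = U \ (U \ closure T) := by
    rw [Set.sdiff_sdiff_right_self]
    exact hTeq
  rw [hT']
  exact (hUc.isConstructible hUo).sdiff (hVc.isConstructible hVo)

end Groth.Agent.S7544
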