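import Groth.Statements.S7545
import Groth.Agent.Lib.helper11.ConstrMore

set_option autoImplicit false
universe u
open ConstrTop

namespace Groth.Agent.S7545

open Groth.Agent.Lib.helper11

theorem result {X : Type u} [TopologicalSpace X] [PrespectralSpace X]
    {m : ℕ} (C : Fin m → Set X) (hC : ∀ j, Topology.IsConstructible (C j)) (hcov : ⋃ j, C j = Set.univ)
    (E : Set X) :
    Topology.IsConstructible E ↔ ∀ j, Topology.IsConstructible ((Subtype.val : C j → X) ⁻¹' E) := by
  constructor
  · intro hE j
    exact isConstructible_preimage_val (C j) (isRetrocompact_of_isConstructible (hC j)) E hE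
  · intro h
    have : E = ⋃ j, (Subtype.val : C j → X) '' (Subtype.val ⁻¹' E) := by
      ext x
      simp only [Set.mem_iUnion, Subtype.image_preimage_coe, Set.mem_inter_iff]
      constructor
      · intro hx
        have hx' : x ∈ ⋃ j, C j := by rw [hcov]; trivial
        obtain ⟨j, hj⟩ := Set.mem_iUnion.mp hx'
        exact ⟨j, hj, hx⟩
      · rintro ⟨j, -, hx⟩
        exact hx
    rw [this]
    exact Topology.IsConstructible.iUnion fun j => isConstructible_image_val (C j) (hC j) _ (h j)

end Groth.Agent.S7545
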