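import Groth.Statements.S7546

set_option autoImplicit false
universe u
open ConstrTop

namespace Groth.Agent.S7546

theorem part1 {X : Type u} [TopologicalSpace X] (Z : Set X) (hZ : IsIrreducible Z)
    {n : ℕ} (L : Fin n → Set X) (hL : ∀ i, IsLocallyClosed (L i)) (E : Set X) (hE : E = ⋃ i, L i) :
    (Z ⊆ closure (E ∩ Z) ↔ ∃ U : Set X, IsOpen U ∧ U ∩ Z ⊆ E ∧ Z ⊆ closure (U ∩ Z)) := by
  classical
  constructor
  · intro h
    have h1 : closure (E ∩ Z) = ⋃ i, closure (L i ∩ Z) := by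
      rw [hE, Set.iUnion_inter, closure_iUnion_of_finite]
    rw [h1] at h
    have := (isIrreducible_iff_sUnion_isClosed.mp hZ)
      (Finset.univ.image fun i => closure (L i ∩ Z))
      (by
        intro z hz
        obtain ⟨i, -, rfl⟩ := Finset.mem_image.mp hz
        exact isClosed_closure)
      (by
        intro x hx
        obtain ⟨i, hi⟩ := Set.mem_iUnion.mp (h hx)
        exact Set.mem_sUnion.mpr ⟨closure (L i ∩ Z), by simp, hi⟩)
    obtain ⟨z, hz, hZz⟩ := this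
    obtain ⟨i, -, rfl⟩ := Finset.mem_image.mp hz
    obtain ⟨U, C, hU, hC, hLi⟩ := hL i
    have hZC : Z ⊆ C := by
      refine hZz.trans (closure_minimal ?_ hC)
      rw [hLi]
      exact fun x hx => hx.1.2
    refine ⟨U, hU, ?_, ?_⟩
    · rintro x ⟨hxU, hxZ⟩
      rw [hE]
      exact Set.mem_iUnion.mpr ⟨i, by rw [hLi]; exact ⟨hxU, hZC hxZ⟩⟩
    · refine hZz.trans (closure_mono ?_)
      rw [hLi]
      exact fun x hx => ⟨hx.1.1, hx.2⟩
  · rintro ⟨U, -, hUE, hZU⟩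
    exact hZU.trans (closure_mono fun x hx => ⟨hUE hx, hx.2⟩)

theorem result {X : Type u} [TopologicalSpace X] (Z : Set X) (hZ : IsIrreducible Z)
    {n : ℕ} (L : Fin n → Set X) (hL : ∀ i, IsLocallyClosed (L i)) (E : Set X) (hE : E = ⋃ i, L i) :
    (Z ⊆ closure (E ∩ Z) ↔ ∃ U : Set X, IsOpen U ∧ U ∩ Z ⊆ E ∧ Z ⊆ closure (U ∩ Z)) ∧
    (∀ ξ : X, ξ ∈ Z → Z ⊆ closure {ξ} → (Z ⊆ closure (E ∩ Z) ↔ ξ ∈ E)) := by
  refine ⟨part1 Z hZ L hL E hE, fun ξ hξZ hξ => ⟨fun h => ?_, fun h => ?_⟩⟩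
  · obtain ⟨U, hU, hUE, hZU⟩ := (part1 Z hZ L hL E hE).mp h
    have hne : (U ∩ Z).Nonempty := by
      rw [← closure_nonempty_iff]
      exact ⟨ξ, hZU hξZ⟩
    obtain ⟨y, hyU, hyZ⟩ := hne
    have hyξ : y ∈ closure {ξ} := hξ hyZ
    rw [mem_closure_iff] at hyξ
    obtain ⟨w, hwU, hw⟩ := hyξ U hU hyU
    rw [Set.mem_singleton_iff] at hw
    subst hw
    exact hUE ⟨hwU, hξZ⟩
  · refine hξ.trans (closure_mono ?_)
    rintro _ rfl
    exact ⟨h, hξZ⟩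

end Groth.Agent.S7546
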