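import Groth.Statements.S7547

set_option autoImplicit false
universe u
open PtTop

namespace Groth.Agent.S7547

theorem result {X : Type u} [TopologicalSpace X]
    [T0Space X] [PrespectralSpace X] (hX : ¬ JacobsonSpace X) :
    ∃ x : X, ¬ IsClosed ({x} : Set X) ∧ IsLocallyClosed ({x} : Set X) := by
  rw [jacobsonSpace_iff_locallyClosed] at hX
  push Not at hX
  obtain ⟨Z, hne, hZ, hZe⟩ := hX
  obtain ⟨U, C, hU, hC, rfl⟩ := hZ
  obtain ⟨z, hzU, hzC⟩ := hne
  obtain ⟨V, ⟨hVo, hVc⟩, hzV, hVU⟩ :=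
    PrespectralSpace.isTopologicalBasis.exists_subset_of_mem_open hzU hU
  have : CompactSpace V := isCompact_iff_compactSpace.mp hVc
  have hS : IsClosed ((Subtype.val : V → X) ⁻¹' C) := hC.preimage continuous_subtype_val
  obtain ⟨x, hxS, hx⟩ := hS.exists_closed_singleton ⟨⟨z, hzV⟩, hzC⟩
  refine ⟨x, ?_, ?_⟩
  · intro hcl
    have : (x : X) ∈ U ∩ C ∩ closedPoints X := ⟨⟨hVU x.2, hxS⟩, hcl⟩
    rw [hZe] at this
    exact this
  · obtain ⟨K, hK, hKx⟩ := isClosed_induced_iff.mp hx
    have : ({(x : X)} : Set X) = V ∩ K := by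
      ext y
      constructor
      · rintro rfl
        refine ⟨x.2, ?_⟩
        have : x ∈ (Subtype.val : V → X) ⁻¹' K := by rw [hKx]; rfl
        exact this
      · rintro ⟨hyV, hyK⟩
        have : (⟨y, hyV⟩ : V) ∈ (Subtype.val : V → X) ⁻¹' K := hyK
        rw [hKx] at this
        exact congrArg Subtype.val this
    rw [this]
    exact hVo.isLocallyClosed.inter hK.isLocallyClosed

end Groth.Agent.S7547
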