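import Groth.Statements.S7548

set_option autoImplicit false
universe u
open PtTop

namespace Groth.Agent.S7548

theorem key {X : Type u} [TopologicalSpace X] [JacobsonSpace X]
    {ι : Type u} (T : ι → Set X) (hT : ∀ i, IsLocallyClosed (T i))
    (Z : Set ↥(⋃ i, T i)) (hne : Z.Nonempty) (hZ : IsLocallyClosed Z) :
    ∃ y ∈ Z, IsClosed ({(y : X)} : Set X) := by
  obtain ⟨U, C, hU, hC, rfl⟩ := hZ
  obtain ⟨U', hU', rfl⟩ := isOpen_induced_iff.mp hU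
  obtain ⟨C', hC', rfl⟩ := isClosed_induced_iff.mp hC
  obtain ⟨⟨t, ht⟩, htU, htC⟩ := hne
  obtain ⟨i, hi⟩ := Set.mem_iUnion.mp ht
  have hW : IsLocallyClosed (U' ∩ C' ∩ T i) :=
    (hU'.isLocallyClosed.inter hC'.isLocallyClosed).inter (hT i)
  obtain ⟨y, ⟨⟨hyU, hyC⟩, hyT⟩, hy⟩ :=
    nonempty_inter_closedPoints (Z := U' ∩ C' ∩ T i) ⟨t, ⟨htU, htC⟩, hi⟩ hW
  exact ⟨⟨y, Set.mem_iUnion.mpr ⟨i, hyT⟩⟩, ⟨hyU, hyC⟩, hy⟩

theorem result {X : Type u} [TopologicalSpace X] [JacobsonSpace X]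
    {ι : Type u} (T : ι → Set X) (hT : ∀ i, IsLocallyClosed (T i)) :
    JacobsonSpace ↥(⋃ i, T i) ∧
      closedPoints ↥(⋃ i, T i) ⊆ (Subtype.val : ↥(⋃ i, T i) → X) ⁻¹' closedPoints X := by
  have hcl : ∀ y : ↥(⋃ i, T i), IsClosed ({(y : X)} : Set X) → IsClosed ({y} : Set ↥(⋃ i, T i)) := by
    intro y hy
    have : ({y} : Set ↥(⋃ i, T i)) = Subtype.val ⁻¹' ({(y : X)} : Set X) := by
      ext z
      simp [Subtype.ext_iff]
    rw [this]
    exact hy.preimage continuous_subtype_val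
  constructor
  · rw [jacobsonSpace_iff_locallyClosed]
    intro Z hne hZ
    obtain ⟨y, hyZ, hy⟩ := key T hT Z hne hZ
    exact ⟨y, hyZ, hcl y hy⟩
  · intro t ht
    have ht' : IsClosed ({t} : Set ↥(⋃ i, T i)) := ht
    obtain ⟨y, hyZ, hy⟩ := key T hT {t} (Set.singleton_nonempty t) ht'.isLocallyClosed
    rw [Set.mem_singleton_iff] at hyZ
    subst hyZ
    exact hy

end Groth.Agent.S7548
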