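import Groth.Statements.S7549
import Groth.Agent.Lib.helper11.ConstrMore

set_option autoImplicit false
universe u
open PtTop

namespace Groth.Agent.S7549

open Topology Groth.Agent.Lib.helper11

variable {X : Type u} [TopologicalSpace X] [JacobsonSpace X]

theorem fact0 (U V : Set X) (hU : IsOpen U) (hV : IsOpen V)
    (h : (Subtype.val : closedPoints X → X) ⁻¹' U ⊆ Subtype.val ⁻¹' V) : U ⊆ V := by
  intro x hxU
  by_contra hxV
  obtain ⟨y, ⟨hyU, hyV⟩, hy⟩ := nonempty_inter_closedPoints (Z := U ∩ Vᶜ) ⟨x, hxU, hxV⟩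
    (hU.isLocallyClosed.inter hV.isClosed_compl.isLocallyClosed)
  exact hyV (h (a := ⟨y, hy⟩) hyU)

theorem lemmaC (U : Set X) (hU : IsOpen U) :
    IsCompact U ↔ IsCompact ((Subtype.val : closedPoints X → X) ⁻¹' U) := by
  constructor
  · intro hc
    rw [isCompact_iff_finite_subcover]
    intro ι W hW hcov
    choose V hV hVW using fun i => isOpen_induced_iff.mp (hW i)
    have h1 : U ⊆ ⋃ i, V i := by
      apply fact0 U _ hU (isOpen_iUnion hV)
      rw [Set.preimage_iUnion]
      simpa [hVW] using hcov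
    obtain ⟨t, ht⟩ := hc.elim_finite_subcover V hV h1
    refine ⟨t, ?_⟩
    intro x hx
    have := ht hx
    simp only [Set.mem_iUnion, exists_prop] at this ⊢
    obtain ⟨i, hi, hxi⟩ := this
    refine ⟨i, hi, ?_⟩
    rw [← hVW i]
    exact hxi
  · intro hc
    rw [isCompact_iff_finite_subcover]
    intro ι V hV hcov
    obtain ⟨t, ht⟩ := hc.elim_finite_subcover (fun i => (Subtype.val : closedPoints X → X) ⁻¹' V i)
      (fun i => (hV i).preimage continuous_subtype_val) (by
        rw [← Set.preimage_iUnion]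
        exact Set.preimage_mono hcov)
    refine ⟨t, ?_⟩
    apply fact0 U _ hU (isOpen_biUnion fun i _ => hV i)
    simpa [Set.preimage_iUnion] using ht

theorem retro_iff (U : Set X) (hU : IsOpen U) :
    IsRetrocompact U ↔ IsRetrocompact ((Subtype.val : closedPoints X → X) ⁻¹' U) := by
  constructor
  · intro hr W' hW'c hW'o
    obtain ⟨W, hW, rfl⟩ := isOpen_induced_iff.mp hW'o
    have hWc : IsCompact W := (lemmaC W hW).mpr hW'c
    rw [← Set.preimage_inter, ← lemmaC _ (hU.inter hW)]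
    exact hr hWc hW
  · intro hr W hWc hWo
    rw [lemmaC _ (hU.inter hWo), Set.preimage_inter]
    exact hr ((lemmaC W hWo).mp hWc) (hWo.preimage continuous_subtype_val)

theorem result {X : Type u} [TopologicalSpace X] [JacobsonSpace X] :
    (∀ U : Set X, IsOpen U →
      (IsCompact U ↔ IsCompact ((Subtype.val : closedPoints X → X) ⁻¹' U)) ∧
      (IsRetrocompact U ↔ IsRetrocompact ((Subtype.val : closedPoints X → X) ⁻¹' U))) ∧
    (∀ E : Set X, Topology.IsConstructible E →
      Topology.IsConstructible ((Subtype.val : closedPoints X → X) ⁻¹' E)) ∧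
    (∀ E E' : Set X, Topology.IsConstructible E → Topology.IsConstructible E' →
      ((Subtype.val : closedPoints X → X) ⁻¹' E ⊆ Subtype.val ⁻¹' E' ↔ E ⊆ E')) ∧
    (∀ F : Set (closedPoints X), Topology.IsConstructible F →
      ∃ E : Set X, Topology.IsConstructible E ∧ (Subtype.val : closedPoints X → X) ⁻¹' E = F) := by
  refine ⟨fun U hU => ⟨lemmaC U hU, retro_iff U hU⟩, ?_, ?_, ?_⟩
  · intro E hE
    exact hE.preimage continuous_subtype_val fun s hso hsr => (retro_iff s hso).mp hsr
  · intro E E' hE hE'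
    refine ⟨fun h => ?_, fun h => Set.preimage_mono h⟩
    intro x hxE
    by_contra hxE'
    obtain ⟨t, ht, hEt⟩ := exists_finset_sdiff_of_isConstructible (hE.sdiff hE')
    have hx : x ∈ E \ E' := ⟨hxE, hxE'⟩
    rw [hEt] at hx
    simp only [Set.mem_iUnion, exists_prop] at hx
    obtain ⟨p, hp, hxp⟩ := hx
    obtain ⟨⟨hU, -⟩, ⟨hV, -⟩⟩ := ht p hp
    obtain ⟨y, hyp, hy⟩ := nonempty_inter_closedPoints (Z := p.1 \ p.2) ⟨x, hxp⟩
      (hU.isLocallyClosed.inter hV.isClosed_compl.isLocallyClosed)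
    have hyE : y ∈ E \ E' := by
      rw [hEt]
      simp only [Set.mem_iUnion, exists_prop]
      exact ⟨p, hp, hyp⟩
    exact hyE.2 (h (a := ⟨y, hy⟩) hyE.1)
  · intro F hF
    induction hF using IsConstructible.empty_union_induction with
    | open_retrocompact G hGo hGr =>
      obtain ⟨U, hU, rfl⟩ := isOpen_induced_iff.mp hGo
      exact ⟨U, ((retro_iff U hU).mpr hGr).isConstructible hU, rfl⟩
    | union s hs t ht hs' ht' =>
      obtain ⟨E₁, hE₁, rfl⟩ := hs'
      obtain ⟨E₂, hE₂, rfl⟩ := ht'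
      exact ⟨E₁ ∪ E₂, hE₁.union hE₂, rfl⟩
    | compl s hs hs' =>
      obtain ⟨E, hE, rfl⟩ := hs'
      exact ⟨Eᶜ, hE.compl, rfl⟩

end Groth.Agent.S7549
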