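import Groth.Statements.S7550

set_option autoImplicit false
universe u
open PtTop

namespace Groth.Agent.S7550

open TopologicalSpace

theorem result {X Y : Type u} [TopologicalSpace X] [TopologicalSpace Y]
    [TopologicalSpace.NoetherianSpace X] [QuasiSober X] [T0Space Y]
    (f : X → Y) (hf : Continuous f) (hfo : IsOpenMap f) :
    GeneralizingMap f := by
  intro x y' hy'
  set F : Set X := f ⁻¹' {y'} with hF
  -- `x` lies in the closure of the fibre over `y'`
  have hxF : x ∈ closure F := by
    rw [mem_closure_iff]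
    intro U hU hxU
    have : y' ∈ f '' U :=
      (specializes_iff_forall_open.mp hy') (f '' U) (hfo U hU) ⟨x, hxU, rfl⟩
    obtain ⟨z, hzU, hz⟩ := this
    exact ⟨z, hzU, hz⟩
  -- a minimal closed set `C` with `x ∈ closure (F ∩ C)`
  let S : Set (Closeds X) := {C | x ∈ closure (F ∩ (C : Set X))}
  have hSne : S.Nonempty := ⟨⊤, by simpa [S] using hxF⟩
  obtain ⟨C, hCS, hCmin⟩ := wellFounded_lt.has_min S hSne
  have hCS' : x ∈ closure (F ∩ (C : Set X)) := hCS
  -- `F ∩ C` is dense in `C`
  have hdense : (C : Set X) = closure (F ∩ (C : Set X)) := by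
    let C' : Closeds X := ⟨closure (F ∩ (C : Set X)), isClosed_closure⟩
    have hC'le : C' ≤ C := by
      intro z hz
      exact closure_minimal Set.inter_subset_right C.isClosed hz
    have hC'S : C' ∈ S := by
      change x ∈ closure (F ∩ closure (F ∩ (C : Set X)))
      refine closure_mono ?_ hCS'
      intro z hz
      exact ⟨hz.1, subset_closure hz⟩
    have : ¬ C' < C := hCmin C' hC'S
    have heq : C' = C := by
      by_contra hne
      exact this (lt_of_le_of_ne hC'le hne)
    exact (congrArg (fun D : Closeds X => (D : Set X)) heq).symm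
  have hxC : x ∈ (C : Set X) := by rw [hdense]; exact hCS'
  have hirr : IsIrreducible (C : Set X) := by
    refine ⟨⟨x, hxC⟩, ?_⟩
    rw [isPreirreducible_iff_isClosed_union_isClosed]
    intro z₁ z₂ hz₁ hz₂ hsub
    let C₁ : Closeds X := ⟨(C : Set X) ∩ z₁, C.isClosed.inter hz₁⟩
    let C₂ : Closeds X := ⟨(C : Set X) ∩ z₂, C.isClosed.inter hz₂⟩
    have hcl : closure (F ∩ (C : Set X)) ⊆
        closure (F ∩ (C₁ : Set X)) ∪ closure (F ∩ (C₂ : Set X)) := by
      rw [← closure_union]
      refine closure_mono ?_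
      rintro z ⟨hzF, hzC⟩
      rcases hsub hzC with h | h
      · exact Or.inl ⟨hzF, hzC, h⟩
      · exact Or.inr ⟨hzF, hzC, h⟩
    rcases hcl hCS' with h | h
    · left
      have : ¬ C₁ < C := hCmin C₁ h
      have heq : C₁ = C := by
        by_contra hne
        exact this (lt_of_le_of_ne (fun z hz => hz.1) hne)
      intro z hz
      have : z ∈ (C₁ : Set X) := by rw [heq]; exact hz
      exact this.2
    · right
      have : ¬ C₂ < C := hCmin C₂ h
      have heq : C₂ = C := by
        by_contra hne
        exact this (lt_of_le_of_ne (fun z hz => hz.1) hne)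
      intro z hz
      have : z ∈ (C₂ : Set X) := by rw [heq]; exact hz
      exact this.2
  obtain ⟨ξ, hξ⟩ := QuasiSober.sober hirr C.isClosed
  refine ⟨ξ, hξ.specializes hxC, ?_⟩
  -- `f ξ = y'`
  have hne : (F ∩ (C : Set X)).Nonempty := by
    rw [← closure_nonempty_iff]; exact ⟨x, hCS'⟩
  obtain ⟨z, hzF, hzC⟩ := hne
  have h1 : f ξ ⤳ y' := by
    have : f ξ ⤳ f z := (hξ.specializes hzC).map hf
    rwa [show f z = y' from hzF] at this
  have h2 : y' ⤳ f ξ := by
    rw [specializes_iff_mem_closure]
    have hξcl : ξ ∈ closure (F ∩ (C : Set X)) := by rw [← hdense]; exact hξ.mem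
    have := image_closure_subset_closure_image hf ⟨ξ, hξcl, rfl⟩
    refine closure_mono ?_ this
    rintro _ ⟨w, ⟨hwF, -⟩, rfl⟩
    exact hwF
  exact (h1.antisymm h2).eq

end Groth.Agent.S7550
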