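import Groth.Statements.S7551
import Mathlib.Topology.Inseparable
import Mathlib.Topology.Separation.Basic
import Mathlib.Order.Preorder.Finite
import Mathlib.Tactic

set_option autoImplicit false
universe u
open PtTop

namespace Groth.Agent.S7551

/-- Let s, t : R → U and π : U → X be continuous maps between topological spaces satisfying: (1) π is an
open map, (2) U is a sober space, (3) s and t have finite fibres, (4) generalizations lift along s
and along t, and (5) the image of (t, s) : R → U × U is an equivalence relation on U and π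
identifies X, as a set, with the quotient of U by it. Then X is Kolmogorov. -/
theorem result {R U X : Type u}
    [TopologicalSpace R] [TopologicalSpace U] [TopologicalSpace X] [QuasiSober U] [T0Space U]
    (s t : R → U) (π : U → X) (hs : Continuous s) (ht : Continuous t) (hπ : Continuous π)
    (hπo : IsOpenMap π) (hsf : ∀ u, (s ⁻¹' {u}).Finite) (htf : ∀ u, (t ⁻¹' {u}).Finite)
    (hsg : GeneralizingMap s) (htg : GeneralizingMap t)
    (hE : Equivalence fun u u' : U => ∃ r, t r = u ∧ s r = u')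
    (hπs : Function.Surjective π) (hπq : ∀ u u' : U, π u = π u' ↔ ∃ r, t r = u ∧ s r = u') :
    T0Space X := by
  classical
  -- fibres of π are finite
  have hcls : ∀ u, {v | π v = π u}.Finite := by
    intro u
    have hsub : {v | π v = π u} ⊆ s '' (t ⁻¹' {u}) := by
      intro v hv
      obtain ⟨r, hr1, hr2⟩ := (hπq u v).1 (Eq.symm hv)
      exact ⟨r, hr1, hr2⟩
    exact ((htf u).image s).subset hsub
  -- key: if `π u ⤳ π u'` then some lift of `π u` specializes to `u'`
  have key : ∀ u u', π u ⤳ π u' → ∃ v, π v = π u ∧ v ⤳ u' := by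
    intro u u' h
    set Z : Set U := ⋃ v ∈ {v | π v = π u}, closure {v} with hZ
    have hZc : IsClosed Z := (hcls u).isClosed_biUnion (fun _ _ => isClosed_closure)
    have hZsat : ∀ z z', z ∈ Z → π z = π z' → z' ∈ Z := by
      intro z z' hz hzz'
      obtain ⟨v, hv, hzv⟩ := Set.mem_iUnion₂.1 hz
      have hvz : v ⤳ z := specializes_iff_mem_closure.2 hzv
      obtain ⟨r', hr1, hr2⟩ := (hπq z' z).1 hzz'.symm
      obtain ⟨r, hr, hsr⟩ := hsg (a := r') (b := v) (hr2 ▸ hvz)
      have h1 : t r ⤳ z' := hr1 ▸ hr.map ht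
      have h2 : π (t r) = π u := by
        rw [(hπq (t r) (s r)).2 ⟨r, rfl, rfl⟩, hsr]
        exact hv
      exact Set.mem_iUnion₂.2 ⟨t r, h2, specializes_iff_mem_closure.1 h1⟩
    by_contra hcon
    push Not at hcon
    have hu'Z : u' ∉ Z := by
      intro hu'
      obtain ⟨v, hv, h'⟩ := Set.mem_iUnion₂.1 hu'
      exact hcon v hv (specializes_iff_mem_closure.2 h')
    have hopen : IsOpen (π '' Zᶜ) := hπo _ hZc.isOpen_compl
    have hx' : π u' ∈ π '' Zᶜ := ⟨u', hu'Z, rfl⟩
    have hx : π u ∈ π '' Zᶜ := h.mem_open hopen hx'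
    obtain ⟨w, hw, hwu⟩ := hx
    have huZ : u ∈ Z := Set.mem_iUnion₂.2 ⟨u, rfl, subset_closure rfl⟩
    exact hw (hZsat u w huZ hwu.symm)
  rw [t0Space_iff_inseparable]
  intro x x' hxx'
  by_contra hne
  obtain ⟨u, rfl⟩ := hπs x
  obtain ⟨u', rfl⟩ := hπs x'
  set S : Set U := {v | π v = π u} ∪ {v | π v = π u'} with hS
  have hSf : S.Finite := (hcls u).union (hcls u')
  have hSne : S.Nonempty := ⟨u, Or.inl rfl⟩
  have hgen : ∀ a ∈ S, ∃ b ∈ S, b ⤳ a ∧ π b ≠ π a := by
    rintro a (ha | ha)
    · have ha' : π a = π u := ha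
      obtain ⟨v, hv, hva⟩ := key u' a (ha'.symm ▸ hxx'.specializes')
      exact ⟨v, Or.inr hv, hva, by rw [hv, ha']; exact Ne.symm hne⟩
    · have ha' : π a = π u' := ha
      obtain ⟨v, hv, hva⟩ := key u a (ha'.symm ▸ hxx'.specializes)
      exact ⟨v, Or.inl hv, hva, by rw [hv, ha']; exact hne⟩
  letI : LE U := ⟨fun a b => b ⤳ a⟩
  haveI : IsTrans U LE.le := ⟨fun a b c hab hbc => Specializes.trans hbc hab⟩
  obtain ⟨a, haS, hmax⟩ := hSf.exists_maximal hSne
  obtain ⟨b, hbS, hba, hπ⟩ := hgen a haS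
  have hab : a ⤳ b := hmax hbS hba
  exact hπ (congrArg π (hba.antisymm hab).eq)

end Groth.Agent.S7551
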