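import Groth.Statements.S7552

set_option autoImplicit false
universe u
open PtTop

namespace Groth.Agent.S7552

open TopologicalSpace

/-- Lifting a finite chain along a fibration. -/
theorem lift_chain {α β : Type u} {r : α → α → Prop} {s : β → β → Prop} {f : α → β}
    (hf : Relation.Fibration r s f) :
    ∀ (n : ℕ) (a : ℕ → β) (x0 : α), f x0 = a 0 → (∀ i < n, s (a (i + 1)) (a i)) →
      ∃ b : ℕ → α, (∀ i ≤ n, f (b i) = a i) ∧ ∀ i < n, r (b (i + 1)) (b i) := by
  classical
  intro n
  induction n with
  | zero =>
    intro a x0 h0 _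
    refine ⟨fun _ => x0, ?_, ?_⟩
    · intro i hi
      obtain rfl : i = 0 := Nat.le_zero.mp hi
      exact h0
    · intro i hi; exact absurd hi (Nat.not_lt_zero i)
  | succ n ih =>
    intro a x0 h0 hs
    obtain ⟨b, hb1, hb2⟩ := ih a x0 h0 (fun i hi => hs i (Nat.lt_succ_of_lt hi))
    have h : s (a (n + 1)) (f (b n)) := by
      rw [hb1 n le_rfl]; exact hs n (Nat.lt_succ_self n)
    obtain ⟨x', hx'r, hx'f⟩ := hf h
    refine ⟨Function.update b (n + 1) x', ?_, ?_⟩
    · intro i hi
      by_cases hin : i = n + 1
      · subst hin; simp [hx'f]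
      · rw [Function.update_of_ne hin]
        exact hb1 i (by omega)
    · intro i hi
      by_cases hin : i = n
      · subst hin
        rw [Function.update_self, Function.update_of_ne (by omega)]
        exact hx'r
      · rw [Function.update_of_ne (by omega), Function.update_of_ne (by omega)]
        exact hb2 i (by omega)

theorem closure_lt_of_specializes {X Y : Type u} [TopologicalSpace X] [TopologicalSpace Y]
    [T0Space Y] (f : X → Y) (hf : Continuous f) {x x' : X} (h : x' ⤳ x) (hne : f x ≠ f x') :
    closure ({x} : Set X) < closure ({x'} : Set X) := by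
  have hle : closure ({x} : Set X) ⊆ closure ({x'} : Set X) :=
    closure_minimal (by
      rintro _ rfl
      exact specializes_iff_mem_closure.mp h) isClosed_closure
  refine lt_of_le_of_ne hle fun heq => hne ?_
  have hx' : x' ∈ closure ({x} : Set X) := by rw [heq]; exact subset_closure rfl
  have h' : x ⤳ x' := specializes_iff_mem_closure.mpr hx'
  exact ((h'.map hf).antisymm (h.map hf)).eq

theorem result {X Y : Type u}
    [TopologicalSpace X] [TopologicalSpace Y] [QuasiSober Y] [T0Space Y]
    (f : X → Y) (hf : Continuous f) (hsurj : Function.Surjective f)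
    (hlift : SpecializingMap f ∨ GeneralizingMap f) :
    topologicalKrullDim Y ≤ topologicalKrullDim X := by
  unfold topologicalKrullDim Order.krullDim
  refine iSup_le fun p => ?_
  set n := p.length with hn
  -- generic points of the members of the chain
  let g : Fin (n + 1) → Y := fun i => (p i).isIrreducible.genericPoint
  have hg : ∀ i, IsGenericPoint (g i) (p i : Set Y) := fun i =>
    (p i).isIrreducible.isGenericPoint_genericPoint (p i).isClosed
  have hgspec : ∀ i j : Fin (n + 1), i ≤ j → g j ⤳ g i := by
    intro i j hij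
    exact (hg j).specializes (p.strictMono.monotone hij (hg i).mem)
  have hgne : ∀ i j : Fin (n + 1), i < j → g i ≠ g j := by
    intro i j hij heq
    have h1 : (p i : Set Y) = p j := by rw [← (hg i).def, ← (hg j).def, heq]
    have h2 : p i < p j := p.strictMono hij
    exact h2.ne (IrreducibleCloseds.ext h1)
  suffices H : ∃ b : Fin (n + 1) → X, (∀ i, f (b i) = g i) ∧
      ∀ i : Fin n, b i.succ ⤳ b (Fin.castSucc i) by
    obtain ⟨b, hb1, hb2⟩ := H
    let q : LTSeries (IrreducibleCloseds X) := LTSeries.mk n
      (fun i => ⟨closure {b i}, isIrreducible_singleton.closure, isClosed_closure⟩)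
      (by
        rw [Fin.strictMono_iff_lt_succ]
        intro i
        have := closure_lt_of_specializes f hf (hb2 i) (by
          rw [hb1, hb1]
          exact hgne _ _ (Fin.castSucc_lt_succ))
        exact this)
    exact le_iSup (fun q : LTSeries (IrreducibleCloseds X) => (q.length : WithBot ℕ∞)) q
  rcases hlift with hspec | hgen
  · -- specializing: lift from the top
    let a : ℕ → Y := fun i => g ⟨min (n - i) n, by omega⟩
    obtain ⟨x0, hx0⟩ := hsurj (a 0)
    obtain ⟨b, hb1, hb2⟩ := lift_chain hspec n a x0 hx0 (by
      intro i hi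
      change a i ⤳ a (i + 1)
      apply hgspec
      rw [Fin.mk_le_mk]
      omega)
    refine ⟨fun i => b (n - i), ?_, ?_⟩
    · intro i
      rw [hb1 (n - i) (by omega)]
      change g ⟨min (n - (n - i)) n, _⟩ = g i
      congr 1
      ext
      simp only
      omega
    · intro i
      have := hb2 (n - (i : ℕ) - 1) (by omega)
      change b (n - (i : ℕ) - 1) ⤳ b (n - (i : ℕ) - 1 + 1) at this
      have e1 : n - ((Fin.succ i : Fin (n + 1)) : ℕ) = n - (i : ℕ) - 1 := by
        simp only [Fin.val_succ]; omega
      have e2 : n - ((Fin.castSucc i : Fin (n + 1)) : ℕ) = n - (i : ℕ) - 1 + 1 := by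
        simp only [Fin.val_castSucc]; omega
      change b (n - ((Fin.succ i : Fin (n + 1)) : ℕ)) ⤳ b (n - ((Fin.castSucc i : Fin (n + 1)) : ℕ))
      rw [e1, e2]
      exact this
  · -- generalizing: lift from the bottom
    let a : ℕ → Y := fun i => g ⟨min i n, by omega⟩
    obtain ⟨x0, hx0⟩ := hsurj (a 0)
    obtain ⟨b, hb1, hb2⟩ := lift_chain hgen n a x0 hx0 (by
      intro i hi
      apply hgspec
      rw [Fin.mk_le_mk]
      omega)
    refine ⟨fun i => b i, ?_, ?_⟩
    · intro i
      rw [hb1 i (by omega)]
      change g ⟨min (i : ℕ) n, _⟩ = g i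
      congr 1
      ext
      simp only
      omega
    · intro i
      have := hb2 i i.2
      simpa using this

end Groth.Agent.S7552
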