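import Groth.Statements.S7553
import Groth.Agent.Lib.helper11.ConstrGeneric

set_option autoImplicit false
universe u
open ConstrTop

namespace Groth.Agent.S7553

theorem result {X : Type u} [TopologicalSpace X]
    [TopologicalSpace.NoetherianSpace X] [QuasiSober X] [T0Space X] (E : Set X) (hE : Topology.IsConstructible E) :
    (StableUnderSpecialization E → IsClosed E) ∧ (StableUnderGeneralization E → IsOpen E) := by
  refine ⟨fun h => Groth.Agent.Lib.helper11.isClosed_of_isConstructible_of_stableUnderSpecialization
    hE h, fun h => ?_⟩
  rw [← isClosed_compl_iff]
  exact Groth.Agent.Lib.helper11.isClosed_of_isConstructible_of_stableUnderSpecialization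
    hE.compl h.compl

end Groth.Agent.S7553
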