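import Groth.Statements.S7556
import Mathlib.Topology.ExtremallyDisconnected
import Mathlib.Tactic

set_option autoImplicit false
universe u
open PtTop

namespace Groth.Agent.S7556

open Set Function

/-- `X` with the discrete topology. -/
structure Disc (X : Type u) : Type u where
  /-- the underlying point -/
  val : X

instance (X : Type u) : TopologicalSpace (Disc X) := ⊥
instance (X : Type u) : DiscreteTopology (Disc X) := ⟨rfl⟩

/-- A continuous self-map `h` of a T2 space `E` compatible with a surjection `ρ` satisfying the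
Zorn condition is the identity. -/
theorem eq_id_of_zorn {E A : Type u} [TopologicalSpace E] [TopologicalSpace A] [T2Space E]
    {ρ : E → A} (ρ_surj : ρ.Surjective)
    (zorn : ∀ E₀ : Set E, E₀ ≠ univ → IsClosed E₀ → ρ '' E₀ ≠ univ)
    {h : E → E} (h_cont : Continuous h) (hρ : ∀ x, ρ (h x) = ρ x) : ∀ x, h x = x := by
  intro x
  by_contra hx
  obtain ⟨V, U, hV, hU, hxV, hxU, hVU⟩ := t2_separation hx
  set W : Set E := U ∩ h ⁻¹' V with hW
  have hWo : IsOpen W := hU.inter (hV.preimage h_cont)
  have hxW : x ∈ W := ⟨hxU, hxV⟩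
  have hne : Wᶜ ≠ univ := by
    intro hc
    have : x ∈ Wᶜ := hc ▸ mem_univ x
    exact this hxW
  have := zorn Wᶜ hne hWo.isClosed_compl
  obtain ⟨a, ha⟩ := (ne_univ_iff_exists_notMem _).1 this
  obtain ⟨y, rfl⟩ := ρ_surj a
  have hyW : y ∈ W := by
    by_contra hy
    exact ha ⟨y, hy, rfl⟩
  have hhy : h y ∉ W := by
    intro hc
    exact (Set.disjoint_left.1 hVU) hyW.2 hc.1
  exact ha ⟨h y, hhy, hρ y⟩

theorem exists_cover (X : Type u) [TopologicalSpace X] [CompactSpace X] [T2Space X] :
    ∃ (X' : Type u) (_ : TopologicalSpace X') (_ : CompactSpace X') (_ : T2Space X')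
        (_ : ExtremallyDisconnected X')
        (p : X' → X), Continuous p ∧ Function.Surjective p ∧
        ∀ E : Set X', IsClosed E → E ≠ Set.univ → p '' E ≠ Set.univ := by
  have hid : Continuous (Disc.val : Disc X → X) := continuous_of_discreteTopology
  let π : StoneCech (Disc X) → X := stoneCechExtend hid
  have π_cont : Continuous π := continuous_stoneCechExtend hid
  have π_surj : π.Surjective := by
    intro x
    refine ⟨stoneCechUnit (⟨x⟩ : Disc X), ?_⟩
    exact congrFun (stoneCechExtend_extends hid) ⟨x⟩
  obtain ⟨E, hEc, E_onto, E_min⟩ := exists_compact_surjective_zorn_subset π_cont π_surj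
  let ρ : E → X := E.domRestrict π
  have ρ_cont : Continuous ρ := π_cont.continuousOn.domRestrict
  have ρ_surj : ρ.Surjective := fun a => by
    rcases (E_onto ▸ mem_univ a : a ∈ π '' E) with ⟨d, ⟨hd, rfl⟩⟩; exact ⟨⟨d, hd⟩, rfl⟩
  -- `E` is a retract of the Stone-Čech compactification
  obtain ⟨g, g_cont, hg⟩ := (StoneCech.projective (X := Disc X)) π_cont ρ_cont ρ_surj
  have hretr : ∀ x : E, g x.1 = x := by
    refine eq_id_of_zorn (h := g ∘ Subtype.val) ρ_surj E_min
      (g_cont.comp continuous_subtype_val) ?_
    intro x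
    exact congrFun hg x.1
  have hproj : CompactT2.Projective E := by
    intro Y Z _ _ _ _ _ _ f q f_cont q_cont q_surj
    obtain ⟨k, k_cont, hk⟩ := (StoneCech.projective (X := Disc X)) (f_cont.comp g_cont)
      q_cont q_surj
    refine ⟨k ∘ Subtype.val, k_cont.comp continuous_subtype_val, ?_⟩
    funext x
    have := congrFun hk x.1
    simp only [comp_apply] at this ⊢
    rw [this, hretr]
  refine ⟨E, inferInstance, hEc, inferInstance, hproj.extremallyDisconnected, ρ, ρ_cont, ρ_surj, ?_⟩
  intro E₀ hcl hne
  exact E_min E₀ hne hcl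

theorem unique_cover (X : Type u) [TopologicalSpace X] [CompactSpace X] [T2Space X]
    (X' X'' : Type u) [TopologicalSpace X'] [CompactSpace X'] [T2Space X']
    [ExtremallyDisconnected X']
    [TopologicalSpace X''] [CompactSpace X''] [T2Space X''] [ExtremallyDisconnected X'']
    (p : X' → X) (q : X'' → X)
    (hp : Continuous p) (_hps : Function.Surjective p)
    (hpm : ∀ E : Set X', IsClosed E → E ≠ Set.univ → p '' E ≠ Set.univ)
    (hq : Continuous q) (hqs : Function.Surjective q)
    (hqm : ∀ E : Set X'', IsClosed E → E ≠ Set.univ → q '' E ≠ Set.univ) :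
    ∃ h : X' ≃ₜ X'', q ∘ h = p := by
  obtain ⟨h, h_cont, hh⟩ := (CompactT2.ExtremallyDisconnected.projective (A := X')) hp hq hqs
  have h_surj : h.Surjective := by
    have hcl : IsClosed (range h) := (isCompact_range h_cont).isClosed
    by_contra hns
    have hne : range h ≠ univ := fun hc => hns (range_eq_univ.1 hc)
    apply hqm _ hcl hne
    rw [← range_comp, hh]
    exact range_eq_univ.2 _hps
  have zorn : ∀ E₀ : Set X', E₀ ≠ univ → IsClosed E₀ → h '' E₀ ≠ univ := by
    intro E₀ hne hcl hc
    apply hpm E₀ hcl hne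
    rw [← hh, image_comp, hc, image_univ]
    exact range_eq_univ.2 hqs
  refine ⟨ExtremallyDisconnected.homeoCompactToT2 h_cont h_surj zorn, ?_⟩
  rw [← hh]
  rfl

/-- Let X be a quasi-compact Hausdorff space. There is a continuous surjection p : X' → X with X'
quasi-compact, Hausdorff and extremally disconnected such that no proper closed subset of X' maps
onto X; and if q : X'' → X is a second cover with the same properties, there is a homeomorphism X' ≃
X'' compatible with p and q. -/
theorem result (X : Type u) [TopologicalSpace X] [CompactSpace X] [T2Space X] :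
    (∃ (X' : Type u) (_ : TopologicalSpace X') (_ : CompactSpace X') (_ : T2Space X') (_ : ExtremallyDisconnected X')
        (p : X' → X), Continuous p ∧ Function.Surjective p ∧
        ∀ E : Set X', IsClosed E → E ≠ Set.univ → p '' E ≠ Set.univ) ∧
    (∀ (X' X'' : Type u) [TopologicalSpace X'] [CompactSpace X'] [T2Space X'] [ExtremallyDisconnected X']
        [TopologicalSpace X''] [CompactSpace X''] [T2Space X''] [ExtremallyDisconnected X'']
        (p : X' → X) (q : X'' → X),
        Continuous p → Function.Surjective p → (∀ E : Set X', IsClosed E → E ≠ Set.univ → p '' E ≠ Set.univ) →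
        Continuous q → Function.Surjective q → (∀ E : Set X'', IsClosed E → E ≠ Set.univ → q '' E ≠ Set.univ) →
        ∃ h : X' ≃ₜ X'', q ∘ h = p) := by
  refine ⟨exists_cover X, ?_⟩
  intro X' X'' _ _ _ _ _ _ _ _ p q hp hps hpm hq hqs hqm
  exact unique_cover X X' X'' p q hp hps hpm hq hqs hqm

end Groth.Agent.S7556
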