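import Groth.Statements.S7557
import Mathlib.Algebra.Category.Ring.Limits
import Mathlib.Topology.Category.TopCat.Limits.Basic
import Mathlib.Topology.Algebra.Ring.Basic
import Mathlib.Topology.Algebra.Monoid
import Mathlib.CategoryTheory.Limits.Preserves.Limits
import Mathlib.Tactic

set_option autoImplicit false
universe u
open CategoryTheory CategoryTheory.Limits
open PtTop

namespace Groth.Agent.S7557

section

variable {J : Type u} [Category.{u} J] {F : J ⥤ TopCommRingCat.{u}}

/-- the limit ring with the initial topology -/
def induced (c : Cone (F ⋙ forget₂ TopCommRingCat CommRingCat)) : TopCommRingCat.{u} :=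
  letI : TopologicalSpace c.pt := ⨅ j, (F.obj j).isTopologicalSpace.induced (c.π.app j).hom
  have h1 : ContinuousAdd c.pt :=
    continuousAdd_iInf fun j => continuousAdd_induced (N := F.obj j) (c.π.app j).hom
  have h2 : ContinuousMul c.pt :=
    continuousMul_iInf fun j => continuousMul_induced (N := F.obj j) (c.π.app j).hom
  have : IsTopologicalRing c.pt := IsTopologicalSemiring.toIsTopologicalRing ⟨⟩
  TopCommRingCat.of c.pt

/-- the cone with the initial topology -/
def ofCone (c : Cone (F ⋙ forget₂ TopCommRingCat CommRingCat)) : Cone F where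
  pt := induced c
  π :=
  { app := fun j => ⟨(c.π.app j).hom, by
      rw [continuous_iff_le_induced]
      exact iInf_le _ j⟩
    naturality := fun X Y g => by
      apply Subtype.ext
      apply RingHom.ext
      intro x
      exact congr($(c.π.naturality g).hom x) }

theorem forget_ofCone (c : Cone (F ⋙ forget₂ TopCommRingCat CommRingCat)) :
    (forget₂ TopCommRingCat CommRingCat).mapCone (ofCone c) = c := rfl

/-- it is a limit -/
noncomputable def isLimit {c : Cone (F ⋙ forget₂ TopCommRingCat CommRingCat)}
    (hc : IsLimit c) : IsLimit (ofCone c) where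
  lift s := ⟨(hc.lift ((forget₂ _ _).mapCone s)).hom, by
    refine continuous_iInf_rng.2 fun j => continuous_induced_rng.2 ?_
    have h2 : Continuous (X := s.pt) (Y := F.obj j)
        (hc.lift ((forget₂ _ CommRingCat).mapCone s) ≫ c.π.app j).hom := by
      rw [hc.fac]
      exact (s.π.app j).2
    exact h2⟩
  fac s i := by
    apply Subtype.ext
    apply RingHom.ext
    intro x
    exact congr($(hc.fac ((forget₂ _ _).mapCone s) i).hom x)
  uniq s m H := by
    apply Subtype.ext
    apply RingHom.ext
    intro x
    refine congr($(hc.uniq ((forget₂ _ _).mapCone s) ((forget₂ _ _).map m) fun j ↦ ?_).hom x)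
    ext y
    exact congr($(H j).1 y)

theorem nonempty_isLimit_top {c : Cone (F ⋙ forget₂ TopCommRingCat CommRingCat)}
    (hc : IsLimit c) : Nonempty (IsLimit ((forget₂ TopCommRingCat TopCat).mapCone (ofCone c))) := by
  rw [TopCat.nonempty_isLimit_iff_eq_induced]
  · rfl
  · exact isLimitOfPreserves (forget CommRingCat) hc

end

/-- The category of topological rings (commutative, with continuous ring homomorphisms) has limits, and
limits commute with the forgetful functors to topological spaces and to rings. -/
theorem result :
    HasLimits TopCommRingCat.{u} ∧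
    PreservesLimits (forget₂ TopCommRingCat.{u} TopCat.{u}) ∧
    PreservesLimits (forget₂ TopCommRingCat.{u} CommRingCat.{u}) := by
  refine ⟨⟨fun J _ => ⟨fun F => ⟨⟨⟨_, isLimit (limit.isLimit _)⟩⟩⟩⟩⟩, ?_, ?_⟩
  · refine ⟨fun {J} _ => ⟨fun {F} => ?_⟩⟩
    apply preservesLimit_of_preserves_limit_cone
      (isLimit (limit.isLimit (F ⋙ forget₂ TopCommRingCat CommRingCat)))
    exact (nonempty_isLimit_top (limit.isLimit _)).some
  · refine ⟨fun {J} _ => ⟨fun {F} => ?_⟩⟩
    apply preservesLimit_of_preserves_limit_cone
      (isLimit (limit.isLimit (F ⋙ forget₂ TopCommRingCat CommRingCat)))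
    rw [forget_ofCone]
    exact limit.isLimit _

end Groth.Agent.S7557
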