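import Groth.Statements.S7558
import Mathlib.Algebra.Category.Ring.Colimits
import Mathlib.Topology.Algebra.Ring.Basic
import Mathlib.Topology.Algebra.Monoid
import Mathlib.CategoryTheory.Limits.Preserves.Limits
import Mathlib.Tactic

set_option autoImplicit false
universe u
open CategoryTheory CategoryTheory.Limits
open PtTop

namespace Groth.Agent.S7558

section

variable {M : CommRingCat.{u}} {I : Type u} {X : I → TopCommRingCat.{u}}
  (f : ∀ i, (forget₂ TopCommRingCat CommRingCat).obj (X i) ⟶ M)

/-- the set of ring topologies making all `f i` continuous -/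
def tset : Set (TopologicalSpace M) :=
  { t | @ContinuousMul M t _ ∧ @ContinuousAdd M t _ ∧
      ∀ i, (X i).isTopologicalSpace.coinduced (f i).hom ≤ t }

/-- The coinduced ring topology. -/
def coinduced : TopCommRingCat.{u} :=
  letI : TopologicalSpace M := sInf (tset f)
  have h1 : ContinuousAdd M := continuousAdd_sInf fun _ hs ↦ hs.2.1
  have h2 : ContinuousMul M := continuousMul_sInf fun _ hs ↦ hs.1
  have : IsTopologicalRing M := IsTopologicalSemiring.toIsTopologicalRing ⟨⟩
  TopCommRingCat.of M

/-- The maps into the coinduced topology. -/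
def toCoinduced (i : I) : X i ⟶ coinduced f :=
  ⟨(f i).hom, continuous_iff_coinduced_le.mpr (le_sInf fun _ hτ ↦ hτ.2.2 i)⟩

end

section

variable {J : Type u} [Category.{u} J] {F : J ⥤ TopCommRingCat.{u}}

/-- the cocone with the coinduced topology -/
def ofCocone (c : Cocone (F ⋙ forget₂ TopCommRingCat CommRingCat)) : Cocone F where
  pt := coinduced (X := F.obj) c.ι.app
  ι :=
  { app := toCoinduced (X := F.obj) c.ι.app
    naturality := fun X Y g => by
      apply Subtype.ext
      apply RingHom.ext
      intro x
      exact congr($(c.ι.naturality g).hom x) }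

theorem forget_ofCocone (c : Cocone (F ⋙ forget₂ TopCommRingCat CommRingCat)) :
    (forget₂ TopCommRingCat CommRingCat).mapCocone (ofCocone c) = c := rfl

/-- it is a colimit -/
noncomputable def isColimit {c : Cocone (F ⋙ forget₂ TopCommRingCat CommRingCat)}
    (hc : IsColimit c) : IsColimit (ofCocone c) where
  desc s := ⟨(hc.desc ((forget₂ _ _).mapCocone s)).hom, by
    rw [continuous_iff_le_induced]
    refine sInf_le ⟨continuousMul_induced (N := s.pt) (hc.desc ((forget₂ _ _).mapCocone s)).hom,
      continuousAdd_induced (N := s.pt) (hc.desc ((forget₂ _ _).mapCocone s)).hom, fun i ↦ ?_⟩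
    rw [← continuous_iff_coinduced_le]
    refine continuous_induced_rng.2 ?_
    have h2 : Continuous (X := F.obj i) (Y := s.pt)
        (c.ι.app i ≫ hc.desc ((forget₂ _ CommRingCat).mapCocone s)).hom := by
      rw [hc.fac]
      exact (s.ι.app i).2
    exact h2⟩
  fac s i := by
    apply Subtype.ext
    apply RingHom.ext
    intro x
    exact congr($(hc.fac ((forget₂ _ _).mapCocone s) i).hom x)
  uniq s m H := by
    apply Subtype.ext
    apply RingHom.ext
    intro x
    refine congr($(hc.uniq ((forget₂ _ _).mapCocone s) ((forget₂ _ _).map m) fun j ↦ ?_).hom x)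
    ext y
    exact congr($(H j).1 y)

end

/-- The category of topological rings (commutative, with continuous ring homomorphisms) has colimits,
and colimits commute with the forgetful functor to rings. -/
theorem result :
    HasColimits TopCommRingCat.{u} ∧
    PreservesColimits (forget₂ TopCommRingCat.{u} CommRingCat.{u}) := by
  refine ⟨⟨fun J _ => ⟨fun F => ⟨⟨⟨_, isColimit (colimit.isColimit _)⟩⟩⟩⟩⟩, ?_⟩
  refine ⟨fun {J} _ => ⟨fun {F} => ?_⟩⟩
  apply preservesColimit_of_preserves_colimit_cocone
    (isColimit (colimit.isColimit (F ⋙ forget₂ TopCommRingCat CommRingCat)))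
  rw [forget_ofCocone]
  exact colimit.isColimit _

end Groth.Agent.S7558
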