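import Groth.Statements.S7559
import Groth.Agent.Lib.helper11.SignatureStrat

set_option autoImplicit false
universe u
open PtTop

namespace Groth.Agent.S7559

open Groth.Agent.Lib.helper11

theorem result {X : Type u} [TopologicalSpace X]
    {n : ℕ} (P : Fin n → Set X) (hP : ∀ k, IsLocallyClosed (P k)) (hcov : ⋃ k, P k = Set.univ)
    (hdisj : ∀ k k', k ≠ k' → Disjoint (P k) (P k')) :
    ∃ (I : Type) (_ : Fintype I) (_ : PartialOrder I) (S : I → Set X),
      (∀ i, IsLocallyClosed (S i)) ∧ (⋃ i, S i = Set.univ) ∧ (∀ i j, i ≠ j → Disjoint (S i) (S j)) ∧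
      (∀ j, closure (S j) ⊆ ⋃ i ∈ Set.Iic j, S i) ∧
      (∀ i k, (S i ∩ P k).Nonempty → S i ⊆ P k) := by
  classical
  let C : Fin n × Bool → Set X := fun a =>
    if a.2 then closure (P a.1) else closure (P a.1) \ P a.1
  have hC : ∀ a, IsClosed (C a) := by
    rintro ⟨k, b⟩
    cases b
    · have h2 : IsOpen (coborder (P k)) := ((isLocallyClosed_tfae (P k)).out 0 1).mp (hP k)
      rw [coborder] at h2
      simpa [C] using isOpen_compl_iff.mp h2
    · simpa [C] using isClosed_closure
  have hmem : ∀ k x, x ∈ P k ↔ (x ∈ C (k, true) ∧ x ∉ C (k, false)) := by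
    intro k x
    simp only [C, if_true, Bool.false_eq_true, if_false, Set.mem_sdiff, not_and, not_not]
    exact ⟨fun h => ⟨subset_closure h, fun _ => h⟩, fun h => h.2 h.1⟩
  refine ⟨(Finset (Fin n × Bool))ᵒᵈ, inferInstance, inferInstance, sigStratum C,
    sigStratum_isLocallyClosed C hC, sigStratum_cover C, sigStratum_disjoint C,
    sigStratum_closure C hC, fun A k hne => ?_⟩
  refine sigStratum_subset_of_nonempty C (P k) (fun x y hxy hx => ?_) A hne
  rw [hmem] at hx ⊢
  rw [← hxy (k, true), ← hxy (k, false)]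
  exact hx

end Groth.Agent.S7559
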