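import Groth.Statements.S7560
import Groth.Agent.Lib.helper11.SignatureStrat

set_option autoImplicit false
universe u
open ConstrTop

namespace Groth.Agent.S7560

open Groth.Agent.Lib.helper11

theorem result {X : Type u} [TopologicalSpace X]
    {n : ℕ} (T : Fin n → Set X) (hT : ∀ k, Topology.IsConstructible (T k)) (hcov : ⋃ k, T k = Set.univ) :
    ∃ (I : Type) (_ : Fintype I) (_ : PartialOrder I) (S : I → Set X),
      (∀ i, IsLocallyClosed (S i) ∧ Topology.IsConstructible (S i)) ∧ (⋃ i, S i = Set.univ) ∧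
      (∀ i j, i ≠ j → Disjoint (S i) (S j)) ∧
      (∀ j, closure (S j) ⊆ ⋃ i ∈ Set.Iic j, S i) ∧
      (∀ i k, (S i ∩ T k).Nonempty → S i ⊆ T k) := by
  classical
  choose κ hκ U hU hUT using fun k => exists_family_of_isConstructible (hT k)
  let C : (Σ k : Fin n, κ k) → Set X := fun a => (U a.1 a.2)ᶜ
  have hC : ∀ a, IsClosed (C a) := fun a => (hU a.1 a.2).1.isClosed_compl
  have hC' : ∀ a, Topology.IsConstructible (C a) := fun a =>
    ((hU a.1 a.2).2.isConstructible (hU a.1 a.2).1).compl
  refine ⟨(Finset (Σ k : Fin n, κ k))ᵒᵈ, inferInstance, inferInstance, sigStratum C,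
    fun A => ⟨sigStratum_isLocallyClosed C hC A, sigStratum_isConstructible C hC' A⟩,
    sigStratum_cover C, sigStratum_disjoint C,
    sigStratum_closure C hC, fun A k hne => ?_⟩
  refine sigStratum_subset_of_nonempty C (T k) (fun x y hxy hx => ?_) A hne
  refine (hUT k x y fun a => ?_).mp hx
  have := hxy ⟨k, a⟩
  simp only [C, Set.mem_compl_iff] at this
  exact not_iff_not.mp this

end Groth.Agent.S7560
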