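import Groth.Statements.S7561

set_option autoImplicit false
universe u
open PtTop

namespace Groth.Agent.S7561

open TopologicalSpace

/-- On some nonempty relatively open subset of `Y`, every member of a finite family of locally
closed sets is "constant". -/
theorem exists_open_const {X : Type u} [TopologicalSpace X] (Y : Set X) (hY : Y.Nonempty)
    (PP : Set (Set X)) (hfin : PP.Finite) (hP : ∀ p ∈ PP, IsLocallyClosed p) :
    ∃ W : Set X, IsOpen W ∧ (Y ∩ W).Nonempty ∧ ∀ p ∈ PP, Y ∩ W ⊆ p ∨ Disjoint (Y ∩ W) p := by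
  induction PP, hfin using Set.Finite.induction_on with
  | empty => exact ⟨Set.univ, isOpen_univ, by simpa using hY, by simp⟩
  | @insert p PP hp hfin ih =>
    obtain ⟨W, hW, hne, hWP⟩ := ih fun q hq => hP q (Set.mem_insert_of_mem _ hq)
    obtain ⟨O, K, hO, hK, rfl⟩ := hP p (Set.mem_insert _ _)
    have mono : ∀ W' : Set X, W' ⊆ W → ∀ q ∈ PP, Y ∩ W' ⊆ q ∨ Disjoint (Y ∩ W') q := by
      intro W' hW' q hq
      rcases hWP q hq with h | h
      · exact Or.inl ((Set.inter_subset_inter_right Y hW').trans h)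
      · exact Or.inr (h.mono_left (Set.inter_subset_inter_right Y hW'))
    by_cases h1 : (Y ∩ (W ∩ Kᶜ)).Nonempty
    · refine ⟨W ∩ Kᶜ, hW.inter hK.isOpen_compl, h1, ?_⟩
      intro q hq
      rcases Set.mem_insert_iff.mp hq with rfl | hq
      · right
        rw [Set.disjoint_left]
        rintro x ⟨-, -, hxK⟩ ⟨-, hxK'⟩
        exact hxK hxK'
      · exact mono _ Set.inter_subset_left q hq
    · have hYK : Y ∩ W ⊆ K := by
        intro x hx
        by_contra hxK
        exact h1 ⟨x, hx.1, hx.2, hxK⟩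
      by_cases h2 : (Y ∩ (W ∩ O)).Nonempty
      · refine ⟨W ∩ O, hW.inter hO, h2, ?_⟩
        intro q hq
        rcases Set.mem_insert_iff.mp hq with rfl | hq
        · left
          rintro x ⟨hxY, hxW, hxO⟩
          exact ⟨hxO, hYK ⟨hxY, hxW⟩⟩
        · exact mono _ Set.inter_subset_left q hq
      · refine ⟨W, hW, hne, ?_⟩
        intro q hq
        rcases Set.mem_insert_iff.mp hq with rfl | hq
        · right
          rw [Set.disjoint_left]
          rintro x ⟨hxY, hxW⟩ ⟨hxO, -⟩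
          exact h2 ⟨x, hxY, hxW, hxO⟩
        · exact hWP q hq

theorem claim {X : Type u} [TopologicalSpace X] [NoetherianSpace X] :
    ∀ Y : Closeds X, ∀ PP : Set (Set X), PP.Finite → (∀ p ∈ PP, IsLocallyClosed p) →
      ∃ SS : Set (Set X), SS.Finite ∧ (∀ s ∈ SS, IsLocallyClosed s) ∧ ⋃₀ SS = (Y : Set X) ∧
        (∀ s ∈ SS, ∀ t ∈ SS, s ≠ t → Disjoint s t) ∧
        (∀ s ∈ SS, ∀ t ∈ SS, (s ∩ closure t).Nonempty → s ⊆ closure t) ∧
        (∀ s ∈ SS, ∀ p ∈ PP, (s ∩ p).Nonempty → s ⊆ p) := by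
  intro Y
  induction Y using WellFoundedLT.induction with
  | _ Y ih =>
  intro PP hfin hP
  by_cases hne : (Y : Set X).Nonempty
  swap
  · rw [Set.not_nonempty_iff_eq_empty] at hne
    exact ⟨∅, Set.finite_empty, by simp, by simp [hne], by simp, by simp, by simp⟩
  obtain ⟨W, hW, hUne, hWP⟩ := exists_open_const (Y : Set X) hne PP hfin hP
  set U : Set X := (Y : Set X) ∩ W with hU
  let Y' : Closeds X := ⟨(Y : Set X) \ W, Y.isClosed.sdiff hW⟩
  have hlt : Y' < Y := by
    refine lt_of_le_of_ne (fun y hy => hy.1) fun h => ?_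
    obtain ⟨x, hxY, hxW⟩ := hUne
    have : x ∈ (Y' : Set X) := by rw [h]; exact hxY
    exact this.2 hxW
  obtain ⟨SS', hfin', hlc', hcov', hdisj', hgood', href'⟩ :=
    ih Y' hlt (insert (closure U) PP) (hfin.insert _) (by
      intro p hp
      rcases Set.mem_insert_iff.mp hp with rfl | hp
      · exact isClosed_closure.isLocallyClosed
      · exact hP p hp)
  have hsub' : ∀ s ∈ SS', s ⊆ (Y : Set X) \ W := by
    intro s hs
    have : s ⊆ ⋃₀ SS' := Set.subset_sUnion_of_mem hs
    rwa [hcov'] at this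
  have hUs : ∀ s ∈ SS', Disjoint U s := by
    intro s hs
    rw [Set.disjoint_left]
    rintro x ⟨-, hxW⟩ hxs
    exact (hsub' s hs hxs).2 hxW
  have hclos : ∀ t ∈ SS', closure t ⊆ (Y : Set X) \ W := fun t ht =>
    closure_minimal (hsub' t ht) (Y.isClosed.sdiff hW)
  refine ⟨insert U SS', hfin'.insert _, ?_, ?_, ?_, ?_, ?_⟩
  · intro s hs
    rcases Set.mem_insert_iff.mp hs with rfl | hs
    · exact Y.isClosed.isLocallyClosed.inter hW.isLocallyClosed
    · exact hlc' s hs
  · rw [Set.sUnion_insert, hcov']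
    ext x
    simp only [hU, Set.mem_union, Set.mem_inter_iff, Set.mem_sdiff, Y', Closeds.coe_mk]
    tauto
  · intro s hs t ht hst
    rcases Set.mem_insert_iff.mp hs with rfl | hs <;> rcases Set.mem_insert_iff.mp ht with rfl | ht
    · exact absurd rfl hst
    · exact hUs t ht
    · exact (hUs s hs).symm
    · exact hdisj' s hs t ht hst
  · intro s hs t ht hne'
    rcases Set.mem_insert_iff.mp hs with rfl | hs <;> rcases Set.mem_insert_iff.mp ht with rfl | ht
    · exact subset_closure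
    · exfalso
      obtain ⟨x, ⟨-, hxW⟩, hxt⟩ := hne'
      exact (hclos t ht hxt).2 hxW
    · exact href' s hs (closure U) (Set.mem_insert _ _) hne'
    · exact hgood' s hs t ht hne'
  · intro s hs p hp hne'
    rcases Set.mem_insert_iff.mp hs with rfl | hs
    · rcases hWP p hp with h | h
      · exact h
      · exfalso
        obtain ⟨x, hxU, hxp⟩ := hne'
        exact Set.disjoint_left.mp h hxU hxp
    · exact href' s hs p (Set.mem_insert_of_mem _ hp) hne'

theorem result {X : Type u} [TopologicalSpace X]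
    [TopologicalSpace.NoetherianSpace X]
    {n : ℕ} (P : Fin n → Set X) (hP : ∀ k, IsLocallyClosed (P k)) (hcov : ⋃ k, P k = Set.univ)
    (hdisj : ∀ k k', k ≠ k' → Disjoint (P k) (P k')) :
    ∃ (m : ℕ) (S : Fin m → Set X),
      (∀ i, IsLocallyClosed (S i)) ∧ (⋃ i, S i = Set.univ) ∧ (∀ i j, i ≠ j → Disjoint (S i) (S j)) ∧
      (∀ i j, (S i ∩ closure (S j)).Nonempty → S i ⊆ closure (S j)) ∧
      (∀ i k, (S i ∩ P k).Nonempty → S i ⊆ P k) := by
  obtain ⟨SS, hfin, hlc, hcov', hdisj', hgood, href⟩ :=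
    claim (⊤ : Closeds X) (Set.range P) (Set.finite_range P) (by
      rintro _ ⟨k, rfl⟩; exact hP k)
  have : Finite SS := hfin.to_subtype
  obtain ⟨m, ⟨e⟩⟩ := Finite.exists_equiv_fin SS
  refine ⟨m, fun i => (e.symm i : Set X), fun i => hlc _ (e.symm i).2, ?_, ?_, ?_, ?_⟩
  · rw [Set.eq_univ_iff_forall]
    intro x
    have hx : x ∈ ⋃₀ SS := by rw [hcov']; trivial
    obtain ⟨s, hs, hxs⟩ := Set.mem_sUnion.mp hx
    refine Set.mem_iUnion.mpr ⟨e ⟨s, hs⟩, ?_⟩
    simpa using hxs
  · intro i j hij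
    refine hdisj' _ (e.symm i).2 _ (e.symm j).2 fun h => hij ?_
    exact e.symm.injective (Subtype.ext h)
  · intro i j h
    exact hgood _ (e.symm i).2 _ (e.symm j).2 h
  · intro i k h
    exact href _ (e.symm i).2 _ ⟨k, rfl⟩ h

end Groth.Agent.S7561
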