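import Groth.Statements.S7562

set_option autoImplicit false
universe u
open PtTop

namespace Groth.Agent.S7562

theorem result {X Y : Type u} [TopologicalSpace X] [TopologicalSpace Y]
    (f : X → Y) (hf : Continuous f) (hc : IsClosedMap f) (hs : Function.Surjective f) (T : Set Y) :
    closure T = f '' closure (f ⁻¹' T) ∧ (IsLocallyClosed T ↔ IsLocallyClosed (f ⁻¹' T)) := by
  have h1 : closure T = f '' closure (f ⁻¹' T) := by
    apply Set.Subset.antisymm
    · apply closure_minimal _ (hc _ isClosed_closure)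
      intro y hy
      obtain ⟨x, rfl⟩ := hs y
      exact ⟨x, subset_closure hy, rfl⟩
    · refine (image_closure_subset_closure_image hf).trans ?_
      rw [Set.image_preimage_eq _ hs]
  refine ⟨h1, fun h => h.preimage hf, fun h => ?_⟩
  have h2 : IsOpen (coborder (f ⁻¹' T)) := ((isLocallyClosed_tfae (f ⁻¹' T)).out 0 1).mp h
  have h3 : IsClosed (closure (f ⁻¹' T) \ f ⁻¹' T) := by
    rw [coborder] at h2
    exact isOpen_compl_iff.mp h2
  have h4 : f '' (closure (f ⁻¹' T) \ f ⁻¹' T) = closure T \ T := by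
    apply Set.Subset.antisymm
    · rintro _ ⟨x, ⟨hx1, hx2⟩, rfl⟩
      refine ⟨?_, hx2⟩
      rw [h1]
      exact ⟨x, hx1, rfl⟩
    · rintro y ⟨hy1, hy2⟩
      rw [h1] at hy1
      obtain ⟨x, hx, rfl⟩ := hy1
      exact ⟨x, ⟨hx, hy2⟩, rfl⟩
  have h5 : IsClosed (closure T \ T) := h4 ▸ hc _ h3
  apply ((isLocallyClosed_tfae T).out 0 1).mpr
  rw [coborder]
  exact h5.isOpen_compl

end Groth.Agent.S7562
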