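import Groth.Statements.S7563

set_option autoImplicit false
universe u
open PtTop

namespace Groth.Agent.S7563

theorem result {X : Type u} [TopologicalSpace X]
    {n : ℕ} (Z : Fin n → Set X) (hZ : ∀ i, IsIrreducible (Z i) ∧ IsClosed (Z i))
    (hcov : ⋃ i, Z i = Set.univ) (hirr : ∀ i, ¬ Z i ⊆ ⋃ j ∈ ({i}ᶜ : Set (Fin n)), Z j) :
    irreducibleComponents X = Set.range Z := by
  classical
  -- any irreducible set is contained in some `Z i`
  have key : ∀ S : Set X, IsIrreducible S → ∃ i, S ⊆ Z i := by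
    intro S hS
    have := (isIrreducible_iff_sUnion_isClosed.mp hS) (Finset.univ.image Z)
      (by
        intro z hz
        obtain ⟨i, -, rfl⟩ := Finset.mem_image.mp hz
        exact (hZ i).2)
      (by
        intro x _
        have hx : x ∈ ⋃ i, Z i := by rw [hcov]; trivial
        obtain ⟨i, hi⟩ := Set.mem_iUnion.mp hx
        exact Set.mem_sUnion.mpr ⟨Z i, by simp, hi⟩)
    obtain ⟨z, hz, hSz⟩ := this
    obtain ⟨i, -, rfl⟩ := Finset.mem_image.mp hz
    exact ⟨i, hSz⟩
  have hmax : ∀ i, Z i ∈ irreducibleComponents X := by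
    intro i
    refine ⟨(hZ i).1, fun S hS hle => ?_⟩
    obtain ⟨j, hj⟩ := key S hS
    by_cases hij : j = i
    · subst hij; exact hj
    · exfalso
      apply hirr i
      intro x hx
      exact Set.mem_biUnion (show j ∈ ({i}ᶜ : Set (Fin n)) from hij) (hj (hle hx))
  apply Set.Subset.antisymm
  · intro S hS
    obtain ⟨j, hj⟩ := key S hS.1
    exact ⟨j, (Set.Subset.antisymm hj (hS.2 (hZ j).1 hj)).symm⟩
  · rintro _ ⟨i, rfl⟩
    exact hmax i

end Groth.Agent.S7563
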