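import Groth.Statements.S7564

set_option autoImplicit false
universe u
open PtTop

namespace Groth.Agent.S7564

theorem result {X Y : Type u} [TopologicalSpace X] [TopologicalSpace Y]
    (f : X → Y) (hf : Continuous f) (hs : Function.Surjective f) (hfin : (irreducibleComponents X).Finite) :
    (irreducibleComponents Y).Finite ∧ (irreducibleComponents Y).ncard ≤ (irreducibleComponents X).ncard := by
  classical
  set g : Set X → Set Y := fun c => closure (f '' c) with hg
  have hsub : irreducibleComponents Y ⊆ g '' irreducibleComponents X := by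
    intro W hW
    have hirr : ∀ c ∈ irreducibleComponents X, IsIrreducible (g c) := fun c hc =>
      (hc.1.image f hf.continuousOn).closure
    have := (isIrreducible_iff_sUnion_isClosed.mp hW.1) (hfin.toFinset.image g)
      (by
        intro z hz
        obtain ⟨c, -, rfl⟩ := Finset.mem_image.mp hz
        exact isClosed_closure)
      (by
        intro y _
        obtain ⟨x, rfl⟩ := hs y
        have hx : x ∈ ⋃₀ irreducibleComponents X := by
          rw [sUnion_irreducibleComponents]; trivial
        obtain ⟨c, hc, hxc⟩ := Set.mem_sUnion.mp hx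
        refine Set.mem_sUnion.mpr ⟨g c, ?_, subset_closure ⟨x, hxc, rfl⟩⟩
        simp only [Finset.coe_image, Set.Finite.coe_toFinset]
        exact ⟨c, hc, rfl⟩)
    obtain ⟨z, hz, hWz⟩ := this
    obtain ⟨c, hc, rfl⟩ := Finset.mem_image.mp hz
    have hc' : c ∈ irreducibleComponents X := hfin.mem_toFinset.mp hc
    exact ⟨c, hc', Set.Subset.antisymm (hW.2 (hirr c hc') hWz) hWz⟩
  have hfin' : (g '' irreducibleComponents X).Finite := hfin.image g
  refine ⟨hfin'.subset hsub, ?_⟩
  exact (Set.ncard_le_ncard hsub hfin').trans (Set.ncard_image_le hfin)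

end Groth.Agent.S7564
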