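import Groth.Statements.S7565

set_option autoImplicit false
universe u
open PtTop

namespace Groth.Agent.S7565

theorem result {X Y : Type u} [TopologicalSpace X] [TopologicalSpace Y]
    (f : X → Y) (hf : Continuous f) (hfo : IsOpenMap f)
    (hX : ∀ x : X, ∃ E ∈ nhds x, TopologicalSpace.NoetherianSpace E) :
    ∀ y : Set.range f, ∃ E : Set (Set.range f), E ∈ nhds y ∧ TopologicalSpace.NoetherianSpace E := by
  rintro ⟨_, x, rfl⟩
  obtain ⟨E, hE, hEN⟩ := hX x
  refine ⟨(Subtype.val : Set.range f → Y) ⁻¹' (f '' E), ?_, ?_⟩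
  · have : f '' E ∈ nhds (f x) := hfo.image_mem_nhds hE
    exact continuous_subtype_val.continuousAt.preimage_mem_nhds this
  · let g : E → ↥((Subtype.val : Set.range f → Y) ⁻¹' (f '' E)) :=
      fun e => ⟨⟨f e, e, rfl⟩, e, e.2, rfl⟩
    have hg : Continuous g :=
      Continuous.subtype_mk (Continuous.subtype_mk (hf.comp continuous_subtype_val) _) _
    have hgs : Function.Surjective g := by
      rintro ⟨⟨y, hy⟩, e, he, hey⟩
      refine ⟨⟨e, he⟩, ?_⟩
      apply Subtype.ext
      apply Subtype.ext
      exact hey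
    exact TopologicalSpace.noetherianSpace_of_surjective g hg hgs

end Groth.Agent.S7565
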