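import Groth.Statements.S7567
import Groth.Agent.Lib.helper11.ClopenComponent

set_option autoImplicit false
universe u
open PtTop

namespace Groth.Agent.S7567

theorem result {X : Type u} [TopologicalSpace X]
    [CompactSpace X] [PrespectralSpace X] [QuasiSeparatedSpace X] (T : Set X) :
    (∃ S : Set (Set X), (∀ Z ∈ S, IsClopen Z) ∧ T = ⋂₀ S) ↔
      (IsClosed T ∧ ∀ x ∈ T, connectedComponent x ⊆ T) := by
  constructor
  · rintro ⟨S, hS, rfl⟩
    refine ⟨isClosed_sInter fun Z hZ => (hS Z hZ).isClosed, fun x hx => ?_⟩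
    intro y hy
    rw [Set.mem_sInter] at hx ⊢
    intro Z hZ
    exact (hS Z hZ).connectedComponent_subset (hx Z hZ) hy
  · rintro ⟨hT, hcc⟩
    refine ⟨{Z | IsClopen Z ∧ T ⊆ Z}, fun Z hZ => hZ.1, ?_⟩
    apply Set.Subset.antisymm
    · intro x hx
      rw [Set.mem_sInter]
      exact fun Z hZ => hZ.2 hx
    · intro y hy
      by_contra hyT
      have key : ∃ Z : Set X, IsClopen Z ∧ T ⊆ Z ∧ y ∉ Z := by
        refine hT.isCompact.induction_on (p := fun s => ∃ Z : Set X, IsClopen Z ∧ s ⊆ Z ∧ y ∉ Z)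
          ⟨∅, isClopen_empty, subset_rfl, fun h => h⟩ ?_ ?_ ?_
        · rintro s t hst ⟨Z, hZ, htZ, hyZ⟩
          exact ⟨Z, hZ, hst.trans htZ, hyZ⟩
        · rintro s t ⟨Z1, hZ1, hs1, hy1⟩ ⟨Z2, hZ2, hs2, hy2⟩
          exact ⟨Z1 ∪ Z2, hZ1.union hZ2, Set.union_subset_union hs1 hs2,
            fun h => h.elim hy1 hy2⟩
        · intro x hx
          have hyx : y ∉ connectedComponent x := fun h => hyT (hcc x hx h)
          rw [Groth.Agent.Lib.helper11.connectedComponent_eq_sInter_isClopen_of_prespectral x,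
            Set.mem_sInter] at hyx
          push Not at hyx
          obtain ⟨Z, ⟨hZ, hxZ⟩, hyZ⟩ := hyx
          exact ⟨Z, mem_nhdsWithin_of_mem_nhds (hZ.isOpen.mem_nhds hxZ), Z, hZ, subset_rfl, hyZ⟩
      obtain ⟨Z, hZ, hTZ, hyZ⟩ := key
      rw [Set.mem_sInter] at hy
      exact hyZ (hy Z ⟨hZ, hTZ⟩)

end Groth.Agent.S7567
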