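import Groth.Statements.S7568
import Mathlib.Topology.ShrinkingLemma
import Mathlib.Topology.Separation.Regular
import Mathlib.Data.Fintype.Pi

set_option autoImplicit false
universe u
open PtTop

namespace Groth.Agent.S7568

open Set in
/-- Let X be a Hausdorff quasi-compact space, X = ⋃ U_i an open covering, p ≥ 0 an integer, and for
every (p+1)-tuple (i_0, …, i_p) an open covering of U_{i_0} ∩ … ∩ U_{i_p} by opens W_{i_0…i_p,k}.
Then there are an open covering X = ⋃_{j ∈ J} V_j and a map α : J → I with closure(V_j) ⊆ U_{α(j)}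
such that each V_{j_0} ∩ … ∩ V_{j_p} is contained in W_{α(j_0)…α(j_p),k} for some k. The published
statement allows a covering of an empty intersection to have no members; this row requires every
covering W_{i_0…i_p} to have at least one member (possibly empty), without which the conclusion
fails. -/
theorem result {X : Type u} [TopologicalSpace X] [CompactSpace X] [T2Space X]
    {ι : Type u} (U : ι → Set X) (hU : ∀ i, IsOpen (U i)) (hcov : ⋃ i, U i = Set.univ) (p : ℕ)
    (W : (Fin (p + 1) → ι) → Set (Set X)) (hWo : ∀ t, ∀ w ∈ W t, IsOpen w)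
    (hWc : ∀ t, ⋃₀ W t = ⋂ l, U (t l)) (hWne : ∀ t, (W t).Nonempty) :
    ∃ (J : Type u) (V : J → Set X) (α : J → ι), (∀ j, IsOpen (V j)) ∧ (⋃ j, V j = Set.univ) ∧
      (∀ j, closure (V j) ⊆ U (α j)) ∧
      (∀ t : Fin (p + 1) → J, ∃ w ∈ W (α ∘ t), (⋂ l, V (t l)) ⊆ w) := by
  classical
  -- finite subcover
  obtain ⟨s, hs⟩ := isCompact_univ.elim_finite_subcover U hU (by rw [hcov])
  -- shrinking
  obtain ⟨V0, hV0cov, hV0o, hV0c⟩ := exists_subset_iUnion_closure_subset (X := X)
    (s := univ) (u := fun i : s => U i.1) isClosed_univ (fun i => hU i.1)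
    (fun x _ => Set.toFinite _) (by
      intro x hx
      obtain ⟨i, hi, hxi⟩ := mem_iUnion₂.mp (hs hx)
      exact mem_iUnion.mpr ⟨⟨i, hi⟩, hxi⟩)
  let V1 : ι → Set X := fun i => if h : i ∈ s then V0 ⟨i, h⟩ else ∅
  have hV1o : ∀ i, IsOpen (V1 i) := by
    intro i
    simp only [V1]
    split_ifs with h
    · exact hV0o _
    · exact isOpen_empty
  have hV1c : ∀ i, closure (V1 i) ⊆ U i := by
    intro i
    simp only [V1]
    split_ifs with h
    · exact hV0c ⟨i, h⟩
    · simp
  have hV1s : ∀ i, i ∉ s → V1 i = ∅ := by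
    intro i hi
    simp only [V1]
    rw [dif_neg hi]
  have hV1cov : ∀ x : X, ∃ i, x ∈ V1 i := by
    intro x
    obtain ⟨i, hi⟩ := mem_iUnion.mp (hV0cov (mem_univ x))
    refine ⟨i.1, ?_⟩
    simp only [V1]
    rw [dif_pos i.2]
    exact hi
  choose α hα using hV1cov
  -- the choice of members of the coverings
  have hw : ∀ (x : X) (t : Fin (p + 1) → ι), ∃ w, (x ∈ ⋂ l, U (t l)) → (w ∈ W t ∧ x ∈ w) := by
    intro x t
    by_cases h : x ∈ ⋂ l, U (t l)
    · rw [← hWc t] at h
      obtain ⟨w, hw1, hw2⟩ := h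
      exact ⟨w, fun _ => ⟨hw1, hw2⟩⟩
    · exact ⟨univ, fun h' => absurd h' h⟩
  choose w hw using hw
  let I : X → Finset ι := fun x => s.filter (fun i => x ∈ closure (V1 i))
  let O : X → Set X := fun x =>
    (⋂ i ∈ s.filter (fun i => x ∉ closure (V1 i)), (closure (V1 i))ᶜ) ∩
      (⋂ t ∈ Fintype.piFinset (fun _ : Fin (p + 1) => I x), w x t)
  have hIU : ∀ x (t : Fin (p + 1) → ι), t ∈ Fintype.piFinset (fun _ : Fin (p + 1) => I x) →
      x ∈ ⋂ l, U (t l) := by
    intro x t ht
    rw [Fintype.mem_piFinset] at ht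
    refine mem_iInter.mpr fun l => hV1c _ ?_
    exact (Finset.mem_filter.mp (ht l)).2
  have hOo : ∀ x, IsOpen (O x) := by
    intro x
    refine IsOpen.inter ?_ ?_
    · exact isOpen_biInter_finset fun i _ => isClosed_closure.isOpen_compl
    · exact isOpen_biInter_finset fun t ht => hWo t _ (hw x t (hIU x t ht)).1
  have hxO : ∀ x, x ∈ O x := by
    intro x
    refine ⟨?_, ?_⟩
    · refine mem_iInter₂.mpr fun i hi => ?_
      exact (Finset.mem_filter.mp hi).2
    · exact mem_iInter₂.mpr fun t ht => (hw x t (hIU x t ht)).2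
  refine ⟨X, fun x => O x ∩ V1 (α x), α, fun x => (hOo x).inter (hV1o _), ?_, ?_, ?_⟩
  · exact eq_univ_of_forall fun x => mem_iUnion.mpr ⟨x, hxO x, hα x⟩
  · intro x
    exact (closure_mono inter_subset_right).trans (hV1c _)
  · intro t
    by_cases hne : (⋂ l, O (t l) ∩ V1 (α (t l))).Nonempty
    · obtain ⟨y, hy⟩ := hne
      have hmem : (α ∘ t) ∈ Fintype.piFinset (fun _ : Fin (p + 1) => I (t 0)) := by
        rw [Fintype.mem_piFinset]
        intro l
        have hyl := mem_iInter.mp hy l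
        have hy0 := (mem_iInter.mp hy 0).1.1
        have hs' : α (t l) ∈ s := by
          by_contra hns
          rw [hV1s _ hns] at hyl
          exact hyl.2
        refine Finset.mem_filter.mpr ⟨hs', ?_⟩
        by_contra hcl
        have := mem_iInter₂.mp hy0 (α (t l)) (Finset.mem_filter.mpr ⟨hs', hcl⟩)
        exact this (subset_closure hyl.2)
      refine ⟨w (t 0) (α ∘ t), (hw (t 0) (α ∘ t) (hIU _ _ hmem)).1, ?_⟩
      intro z hz
      have hz0 := (mem_iInter.mp hz 0).1.2
      exact mem_iInter₂.mp hz0 (α ∘ t) hmem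
    · obtain ⟨w0, hw0⟩ := hWne (α ∘ t)
      refine ⟨w0, hw0, ?_⟩
      rw [Set.not_nonempty_iff_eq_empty] at hne
      rw [hne]
      exact empty_subset _

end Groth.Agent.S7568
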