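import Groth.Statements.S7569
import Groth.Agent.Lib.helper11.CechRefine

set_option autoImplicit false
universe u
open PtTop

namespace Groth.Agent.S7569

open Groth.Agent.Lib.helper11.Cech Set in
/-- Let X be a Hausdorff, locally quasi-compact space and Z ⊆ X a quasi-compact subset. Let p ≥ 0, let
U_i ⊆ X be opens with Z ⊆ ⋃ U_i, and for every (p+1)-tuple (i_0, …, i_p) let W_{i_0…i_p} ⊆ U_{i_0} ∩
… ∩ U_{i_p} be an open with W_{i_0…i_p} ∩ Z = U_{i_0} ∩ … ∩ U_{i_p} ∩ Z. Then there are opens V_i ⊆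
X with Z ⊆ ⋃ V_i, closure(V_i) ⊆ U_i for all i, and V_{i_0} ∩ … ∩ V_{i_p} ⊆ W_{i_0…i_p} for all
(p+1)-tuples. -/
theorem result {X : Type u} [TopologicalSpace X]
    [T2Space X] [LocallyCompactSpace X] (Z : Set X) (hZ : IsCompact Z)
    {ι : Type u} (U : ι → Set X) (hU : ∀ i, IsOpen (U i)) (hcov : Z ⊆ ⋃ i, U i) (p : ℕ)
    (W : (Fin (p + 1) → ι) → Set X) (hWo : ∀ t, IsOpen (W t)) (hWU : ∀ t, W t ⊆ ⋂ l, U (t l))
    (hWZ : ∀ t, W t ∩ Z = (⋂ l, U (t l)) ∩ Z) :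
    ∃ V : ι → Set X, (∀ i, IsOpen (V i)) ∧ (Z ⊆ ⋃ i, V i) ∧ (∀ i, closure (V i) ⊆ U i) ∧
      (∀ t : Fin (p + 1) → ι, (⋂ l, V (t l)) ⊆ W t) := by
  have hP : ∀ (i : ι) (α : Type u) (F : Finset α) (N : α → Set X),
      (∀ x ∈ F, closure (N x) ⊆ U i) → closure (⋃ x ∈ F, N x) ⊆ U i := by
    intro i α F N hN
    rw [Finset.closure_biUnion]
    exact iUnion₂_subset fun x hx => hN x hx
  have hloc : ∀ z ∈ Z, ∃ (i : ι) (N : Set X), IsOpen N ∧ z ∈ N ∧ closure N ⊆ U i := by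
    intro z hz
    obtain ⟨i, hi⟩ := mem_iUnion.mp (hcov hz)
    obtain ⟨t, ht1, ht2, ht3⟩ := exists_mem_nhds_isClosed_subset ((hU i).mem_nhds hi)
    refine ⟨i, interior t, isOpen_interior, mem_interior_iff_mem_nhds.mpr ht1, ?_⟩
    exact (closure_minimal interior_subset ht2).trans ht3
  obtain ⟨s, V, hVo, hVs, hVcov, hVP⟩ := exists_finite_family Z hZ
    (fun i N => closure N ⊆ U i) hP hloc
  obtain ⟨V', h1, h2, h3, h4⟩ := exists_refinement Z U p W hWo hWZ s V hVo hVs hVcov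
    (fun i => inter_subset_left.trans (hVP i))
  exact ⟨V', h1, h2, fun i => (closure_mono (h3 i)).trans (hVP i), h4⟩

end Groth.Agent.S7569
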