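import Groth.Statements.S7570
import Groth.Agent.Lib.helper11.CechRefine

set_option autoImplicit false
universe u
open PtTop

namespace Groth.Agent.S7570

open Groth.Agent.Lib.helper11.Cech Set in
/-- Let X be a topological space and Z ⊆ X a quasi-compact subset such that any two distinct points of Z
have disjoint open neighbourhoods in X. Let p ≥ 0, let U_i ⊆ X be opens with Z ⊆ ⋃ U_i, and for
every (p+1)-tuple let W_{i_0…i_p} ⊆ U_{i_0} ∩ … ∩ U_{i_p} be an open with W_{i_0…i_p} ∩ Z = U_{i_0}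
∩ … ∩ U_{i_p} ∩ Z. Then there are opens V_i with (1) Z ⊆ ⋃ V_i, (2) V_i ⊆ U_i, (3) closure(V_i) ∩ Z
⊆ U_i, and (4) V_{i_0} ∩ … ∩ V_{i_p} ⊆ W_{i_0…i_p} for all (p+1)-tuples. -/
theorem result {X : Type u} [TopologicalSpace X]
    (Z : Set X) (hZ : IsCompact Z)
    (hZsep : ∀ z ∈ Z, ∀ z' ∈ Z, z ≠ z' → ∃ A B : Set X, IsOpen A ∧ IsOpen B ∧ z ∈ A ∧ z' ∈ B ∧ Disjoint A B)
    {ι : Type u} (U : ι → Set X) (hU : ∀ i, IsOpen (U i)) (hcov : Z ⊆ ⋃ i, U i) (p : ℕ)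
    (W : (Fin (p + 1) → ι) → Set X) (hWo : ∀ t, IsOpen (W t)) (hWU : ∀ t, W t ⊆ ⋂ l, U (t l))
    (hWZ : ∀ t, W t ∩ Z = (⋂ l, U (t l)) ∩ Z) :
    ∃ V : ι → Set X, (∀ i, IsOpen (V i)) ∧ (Z ⊆ ⋃ i, V i) ∧ (∀ i, V i ⊆ U i) ∧
      (∀ i, closure (V i) ∩ Z ⊆ U i) ∧ (∀ t : Fin (p + 1) → ι, (⋂ l, V (t l)) ⊆ W t) := by
  have hP : ∀ (i : ι) (α : Type u) (F : Finset α) (N : α → Set X),
      (∀ x ∈ F, N x ⊆ U i ∧ closure (N x) ∩ Z ⊆ U i) →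
      (⋃ x ∈ F, N x) ⊆ U i ∧ closure (⋃ x ∈ F, N x) ∩ Z ⊆ U i := by
    intro i α F N hN
    refine ⟨iUnion₂_subset fun x hx => (hN x hx).1, ?_⟩
    rw [Finset.closure_biUnion, iUnion₂_inter]
    exact iUnion₂_subset fun x hx => (hN x hx).2
  have hloc : ∀ z ∈ Z, ∃ (i : ι) (N : Set X), IsOpen N ∧ z ∈ N ∧ (N ⊆ U i ∧ closure N ∩ Z ⊆ U i) := by
    intro z hz
    obtain ⟨i, hi⟩ := mem_iUnion.mp (hcov hz)
    have hK : IsCompact (Z ∩ (U i)ᶜ) := hZ.inter_right (hU i).isClosed_compl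
    obtain ⟨A, B, hA, hB, hzA, hKB, hAB⟩ := exists_separation Z hZsep z hz _ hK inter_subset_left
      (fun h => h.2 hi)
    refine ⟨i, A ∩ U i, hA.inter (hU i), ⟨hzA, hi⟩, inter_subset_right, ?_⟩
    rintro x ⟨hx1, hx2⟩
    by_contra hxU
    have hxB : x ∈ B := hKB ⟨hx2, hxU⟩
    obtain ⟨y, hyB, hyA, -⟩ := mem_closure_iff.mp hx1 B hB hxB
    exact (Set.disjoint_left.mp hAB hyA) hyB
  obtain ⟨s, V, hVo, hVs, hVcov, hVP⟩ := exists_finite_family Z hZ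
    (fun i N => N ⊆ U i ∧ closure N ∩ Z ⊆ U i) hP hloc
  obtain ⟨V', h1, h2, h3, h4⟩ := exists_refinement Z U p W hWo hWZ s V hVo hVs hVcov
    (fun i => (hVP i).2)
  refine ⟨V', h1, h2, fun i => (h3 i).trans (hVP i).1, fun i => ?_, h4⟩
  exact (inter_subset_inter_left _ (closure_mono (h3 i))).trans (hVP i).2

end Groth.Agent.S7570
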