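import Groth.Statements.S7571
import Mathlib.Topology.Category.TopCat.Limits.Cofiltered

set_option autoImplicit false
universe u
open CategoryTheory CategoryTheory.Limits
open PtTop

namespace Groth.Agent.S7571

open TopologicalSpace

theorem result {J : Type u} [SmallCategory J] [IsCofiltered J]
    (F : J ⥤ TopCat.{u}) (c : Cone F) (hc : IsLimit c) :
    (∀ W : Set c.pt, IsOpen W →
      ∃ S : Set (Σ j, Set (F.obj j)), (∀ s ∈ S, IsOpen s.2) ∧ W = ⋃ s ∈ S, c.π.app s.1 ⁻¹' s.2) ∧
    (∀ W : Set c.pt, IsOpen W → IsCompact W →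
      ∃ (i : J) (Ui : Set (F.obj i)), IsOpen Ui ∧ W = c.π.app i ⁻¹' Ui) := by
  have hB := TopCat.isTopologicalBasis_cofiltered_limit F c hc (fun j => {V | IsOpen V})
    (fun j => isTopologicalBasis_opens) (fun i => isOpen_univ)
    (fun i U1 U2 h1 h2 => IsOpen.inter h1 h2)
    (fun i j f V hV => hV.preimage (F.map f).hom.continuous)
  constructor
  · intro W hW
    refine ⟨{s | IsOpen s.2 ∧ c.π.app s.1 ⁻¹' s.2 ⊆ W}, fun s hs => hs.1, ?_⟩
    apply Set.Subset.antisymm
    · intro x hx
      obtain ⟨U, ⟨j, V, hV, rfl⟩, hxU, hUW⟩ := hB.exists_subset_of_mem_open hx hW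
      exact Set.mem_biUnion (x := (⟨j, V⟩ : Σ j, Set (F.obj j))) ⟨hV, hUW⟩ hxU
    · intro x hx
      simp only [Set.mem_iUnion] at hx
      obtain ⟨s, hs, hxs⟩ := hx
      exact hs.2 hxs
  · intro W hW hWc
    have key : ∃ (i : J) (Ui : Set (F.obj i)), IsOpen Ui ∧ W ⊆ c.π.app i ⁻¹' Ui ∧
        c.π.app i ⁻¹' Ui ⊆ W := by
      refine hWc.induction_on (p := fun s => ∃ (i : J) (Ui : Set (F.obj i)), IsOpen Ui ∧
        s ⊆ c.π.app i ⁻¹' Ui ∧ c.π.app i ⁻¹' Ui ⊆ W) ?_ ?_ ?_ ?_
      · obtain ⟨j⟩ := IsCofiltered.nonempty (C := J)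
        exact ⟨j, ∅, isOpen_empty, by simp, by simp⟩
      · rintro s t hst ⟨i, Ui, hUi, h1, h2⟩
        exact ⟨i, Ui, hUi, hst.trans h1, h2⟩
      · rintro s t ⟨i, Ui, hUi, h1, h2⟩ ⟨j, Uj, hUj, h3, h4⟩
        let k := IsCofiltered.min i j
        let a : k ⟶ i := IsCofiltered.minToLeft i j
        let b : k ⟶ j := IsCofiltered.minToRight i j
        have ha : ∀ x : c.pt, F.map a (c.π.app k x) = c.π.app i x := by
          intro x
          rw [← c.w a]
          rfl
        have hb : ∀ x : c.pt, F.map b (c.π.app k x) = c.π.app j x := by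
          intro x
          rw [← c.w b]
          rfl
        refine ⟨k, F.map a ⁻¹' Ui ∪ F.map b ⁻¹' Uj,
          (hUi.preimage (F.map a).hom.continuous).union (hUj.preimage (F.map b).hom.continuous),
          ?_, ?_⟩
        · rintro x (hx | hx)
          · left
            change F.map a (c.π.app k x) ∈ Ui
            rw [ha]
            exact h1 hx
          · right
            change F.map b (c.π.app k x) ∈ Uj
            rw [hb]
            exact h3 hx
        · rintro x (hx | hx)
          · apply h2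
            change F.map a (c.π.app k x) ∈ Ui at hx
            rw [ha] at hx
            exact hx
          · apply h4
            change F.map b (c.π.app k x) ∈ Uj at hx
            rw [hb] at hx
            exact hx
      · intro x hx
        obtain ⟨U, ⟨j, V, hV, rfl⟩, hxU, hUW⟩ := hB.exists_subset_of_mem_open hx hW
        have hUo : IsOpen (c.π.app j ⁻¹' V) := hV.preimage (c.π.app j).hom.continuous
        exact ⟨_, mem_nhdsWithin_of_mem_nhds (hUo.mem_nhds hxU), j, V, hV, subset_rfl, hUW⟩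
    obtain ⟨i, Ui, hUi, h1, h2⟩ := key
    exact ⟨i, Ui, hUi, Set.Subset.antisymm h1 h2⟩

end Groth.Agent.S7571
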