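import Groth.Statements.S7573
import Mathlib
import Groth.Agent.Lib.helper23.ClEmbT

set_option autoImplicit false
universe u
open CategoryTheory TopologicalSpace
open ShSp

namespace Groth.Agent.S7573

/-- Let i : Z → X be the inclusion of a closed subset (a closed embedding). Then i_* : Sh(Z) → Sh(X) on
sheaves of sets is fully faithful, and its essential image consists exactly of the sheaves G whose
stalk G_x is a one-point set for every x ∈ X not in Z. -/
theorem result {Z X : TopCat.{u}} (i : Z ⟶ X) (hi : Topology.IsClosedEmbedding i) :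
    (TopCat.Sheaf.pushforward (Type u) i).Full ∧ (TopCat.Sheaf.pushforward (Type u) i).Faithful ∧
    ∀ G : X.Sheaf (Type u), (TopCat.Sheaf.pushforward (Type u) i).essImage G ↔
      ∀ x : X, x ∉ Set.range i → Nonempty (Unique (G.presheaf.stalk x)) := by
  have hind : Topology.IsInducing i := hi.isInducing
  refine ⟨ClEmb.full_pushforward (Type u) hind, ClEmb.faithful_pushforward (Type u) hind, ?_⟩
  intro G
  let U : Opens X := ⟨(Set.range i)ᶜ, hi.isClosed_range.isOpen_compl⟩
  have hU : (U : Set X) = (Set.range i)ᶜ := rfl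
  constructor
  · rintro ⟨F, ⟨e⟩⟩ x hx
    have h1 := ClEmbT.termOn_of_iso U e (ClEmbT.termOn_push U hU F)
    exact ClEmbT.stalk_unique_of_termOn U h1 x hx
  · intro h
    have hG : ClEmbT.TermOn U G := ClEmbT.termOn_of_stalk_unique U (fun x hx => h x hx)
    exact ⟨ClEmbT.sheafG U hU hind G hG, ⟨ClEmbT.pushSheafGIso U hU hind G hG⟩⟩

end Groth.Agent.S7573
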