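import Groth.Statements.S7578
import Groth.Agent.Lib.helper11.CodimSober
import Mathlib.Topology.NoetherianSpace
import Mathlib.Topology.LocallyConstant.Basic

set_option autoImplicit false
universe u
open PtTop

namespace Groth.Agent.S7578

open Groth.Agent.Lib.helper11.Codim in
/-- the difference `δ ξ - δ y` along a specialization does not depend on the dimension function -/
theorem diff_eq {X : Type u} [TopologicalSpace X] [QuasiSober X] [T0Space X]
    (δ δ' : X → ℤ) (hδ : PtTop.IsDimensionFunction δ) (hδ' : PtTop.IsDimensionFunction δ')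
    {ξ y : X} (h : ξ ⤳ y) : δ ξ - δ y = δ' ξ - δ' y := by
  have h1 := codim_pt hδ h
  have h2 := codim_pt hδ' h
  rw [h1] at h2
  have h3 : (δ ξ - δ y).toNat = (δ' ξ - δ' y).toNat := by exact_mod_cast h2
  have m1 : δ y ≤ δ ξ := by
    by_cases e : ξ = y
    · rw [e]
    · exact (hδ.1 ξ y h e).le
  have m2 : δ' y ≤ δ' ξ := by
    by_cases e : ξ = y
    · rw [e]
    · exact (hδ'.1 ξ y h e).le
  omega

/-- Let X be a topological space which is locally Noetherian (every point has a Noetherian
neighbourhood) and sober, and let δ, δ' be two dimension functions on X. Then δ − δ' is locally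
constant. -/
theorem result {X : Type u} [TopologicalSpace X] [QuasiSober X] [T0Space X]
    (hX : ∀ x : X, ∃ E ∈ nhds x, TopologicalSpace.NoetherianSpace E)
    (δ δ' : X → ℤ) (hδ : PtTop.IsDimensionFunction δ) (hδ' : PtTop.IsDimensionFunction δ') :
    IsLocallyConstant (fun x => δ x - δ' x) := by
  open Groth.Agent.Lib.helper11.Codim in
  rw [IsLocallyConstant.iff_exists_open]
  intro x
  obtain ⟨E, hE, hN⟩ := hX x
  have hxE : x ∈ E := mem_of_mem_nhds hE
  let xE : E := ⟨x, hxE⟩
  -- irreducible components of `E` not containing `x`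
  set 𝒵 : Set (Set E) := {Z | Z ∈ irreducibleComponents E ∧ xE ∉ Z} with h𝒵
  have hfin : 𝒵.Finite :=
    (TopologicalSpace.NoetherianSpace.finite_irreducibleComponents (α := E)).subset (fun Z hZ => hZ.1)
  have hCcl : IsClosed (⋃₀ 𝒵) := by
    rw [Set.sUnion_eq_biUnion]
    exact hfin.isClosed_biUnion (fun Z hZ => isClosed_of_mem_irreducibleComponents Z hZ.1)
  have hW : IsOpen (⋃₀ 𝒵)ᶜ := hCcl.isOpen_compl
  obtain ⟨V, hVo, hVW⟩ := isOpen_induced_iff.1 hW
  have hxV : x ∈ V := by
    have : xE ∈ (⋃₀ 𝒵)ᶜ := by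
      rintro ⟨Z, hZ, hxZ⟩
      exact hZ.2 hxZ
    rw [← hVW] at this
    exact this
  refine ⟨V ∩ interior E, hVo.inter isOpen_interior, ⟨hxV, mem_interior_iff_mem_nhds.2 hE⟩, ?_⟩
  intro y hy
  have hyE : y ∈ E := interior_subset hy.2
  let yE : E := ⟨y, hyE⟩
  have hyW : yE ∈ (⋃₀ 𝒵)ᶜ := by
    rw [← hVW]
    exact hy.1
  -- the irreducible component of `y` in `E` contains `x`
  have hxZ : xE ∈ irreducibleComponent yE := by
    by_contra hcon
    exact hyW ⟨irreducibleComponent yE, ⟨irreducibleComponent_mem_irreducibleComponents yE, hcon⟩,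
      mem_irreducibleComponent⟩
  have hirr : IsIrreducible (Subtype.val '' irreducibleComponent yE) :=
    isIrreducible_irreducibleComponent.image _ continuous_subtype_val.continuousOn
  let Y' : TopologicalSpace.IrreducibleCloseds X :=
    ⟨closure (Subtype.val '' irreducibleComponent yE), hirr.closure, isClosed_closure⟩
  have hξx : gp Y' ⤳ x := (gp_spec Y').specializes (subset_closure ⟨xE, hxZ, rfl⟩)
  have hξy : gp Y' ⤳ y := (gp_spec Y').specializes (subset_closure ⟨yE, mem_irreducibleComponent, rfl⟩)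
  have e1 := diff_eq δ δ' hδ hδ' hξx
  have e2 := diff_eq δ δ' hδ hδ' hξy
  show δ y - δ' y = δ x - δ' x
  omega

end Groth.Agent.S7578
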