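import Groth.Statements.S7579
import Groth.Agent.Lib.helper11.Spectral
import Mathlib.Topology.Connected.Separation

set_option autoImplicit false
universe u
open SpecSp

namespace Groth.Agent.S7579

open Groth.Agent.Lib.helper11.Spec

theorem exists_isClopen_sep (X : Type u) [TopologicalSpace X] [SpectralSpace X]
    (x y : WithConstructibleTopology X) (hxy : x ≠ y) :
    ∃ U : Set (WithConstructibleTopology X), IsClopen U ∧ x ∈ U ∧ y ∈ Uᶜ := by
  have hne : WithTopology.ofTopology x ≠ WithTopology.ofTopology y := fun h =>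
    hxy (WithTopology.ofTopology_injective _ h)
  have clopen_of : ∀ V : Set X, IsOpen V → IsCompact V →
      IsClopen (WithTopology.ofTopology ⁻¹' V : Set (WithConstructibleTopology X)) := by
    intro V hVo hVc
    constructor
    · rw [WithConstructibleTopology.isClosed_iff]
      exact isClosed_constr_of_isCompact_isOpen hVc hVo
    · rw [WithConstructibleTopology.isOpen_iff]
      exact isOpen_constr_of_isCompact_isOpen hVc hVo
  obtain ⟨U, hU, hxor⟩ := exists_isOpen_xor'_mem hne
  rcases hxor with ⟨hxU, hyU⟩ | ⟨hyU, hxU⟩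
  · obtain ⟨V, ⟨hVo, hVc⟩, hxV, hVU⟩ :=
      PrespectralSpace.isTopologicalBasis.exists_subset_of_mem_open hxU hU
    exact ⟨_, clopen_of V hVo hVc, hxV, fun h => hyU (hVU h)⟩
  · obtain ⟨V, ⟨hVo, hVc⟩, hyV, hVU⟩ :=
      PrespectralSpace.isTopologicalBasis.exists_subset_of_mem_open hyU hU
    refine ⟨(WithTopology.ofTopology ⁻¹' V)ᶜ, (clopen_of V hVo hVc).compl, fun h => hxU (hVU h), ?_⟩
    rw [compl_compl]
    exact hyV

theorem result (X : Type u) [TopologicalSpace X] [SpectralSpace X] :
    T2Space (WithConstructibleTopology X) ∧ TotallyDisconnectedSpace (WithConstructibleTopology X) := by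
  have h : TotallySeparatedSpace (WithConstructibleTopology X) :=
    totallySeparatedSpace_iff_exists_isClopen.mpr (exists_isClopen_sep X)
  exact ⟨inferInstance, inferInstance⟩

end Groth.Agent.S7579
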