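import Groth.Statements.S7580

set_option autoImplicit false
universe u
open PtTop

namespace Groth.Agent.S7580

theorem result {X Y : Type u} [TopologicalSpace X] [TopologicalSpace Y] [T2Space Y]
    (f : X → Y) (hf : Continuous f) (hd : DenseRange f) :
    Cardinal.mk Y ≤ (2 : Cardinal.{u}) ^ ((2 : Cardinal.{u}) ^ Cardinal.mk X) := by
  rw [← Cardinal.mk_set, ← Cardinal.mk_set]
  let Φ : Y → Set (Set X) := fun y => {A | ∃ U : Set Y, IsOpen U ∧ y ∈ U ∧ A = f ⁻¹' U}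
  refine Cardinal.mk_le_of_injective (f := Φ) ?_
  intro y y' hyy'
  by_contra hne
  obtain ⟨U, U', hU, hU', hyU, hy'U', hdisj⟩ := t2_separation hne
  have h1 : f ⁻¹' U ∈ Φ y := ⟨U, hU, hyU, rfl⟩
  rw [hyy'] at h1
  obtain ⟨U'', hU'', hy'U'', heq⟩ := h1
  have hopen : IsOpen (U'' ∩ U') := hU''.inter hU'
  obtain ⟨x, hx⟩ := hd.exists_mem_open hopen ⟨y', hy'U'', hy'U'⟩
  have hxU : f x ∈ U := by
    have : x ∈ f ⁻¹' U'' := hx.1
    rw [← heq] at this
    exact this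
  exact Set.disjoint_left.mp hdisj hxU hx.2

end Groth.Agent.S7580
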