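import Groth.Statements.S7581
import Groth.Agent.Lib.helper11.Codim

set_option autoImplicit false
universe u
open PtTop

namespace Groth.Agent.S7581

open Groth.Agent.Lib.helper11.Codim in
theorem codim_eq_cd {X : Type u} [TopologicalSpace X] (Y Y' : TopologicalSpace.IrreducibleCloseds X) :
    PtTop.codim Y (Y' : Set X) = cd Y Y' := by
  simp only [PtTop.codim, cd, SetLike.coe_subset_coe]

/-- Let X be a topological space. Then X is catenary if and only if for every pair of irreducible closed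
subsets Y ⊆ Y' the codimension codim(Y, Y') is finite and for every triple Y ⊆ Y' ⊆ Y'' of
irreducible closed subsets codim(Y, Y'') = codim(Y, Y') + codim(Y', Y''). -/
theorem result (X : Type u) [TopologicalSpace X] :
    PtTop.IsCatenarySpace X ↔
      (∀ Y Y' : TopologicalSpace.IrreducibleCloseds X, Y ≤ Y' → PtTop.codim Y (Y' : Set X) ≠ ⊤) ∧
      (∀ Y Y' Y'' : TopologicalSpace.IrreducibleCloseds X, Y ≤ Y' → Y' ≤ Y'' →
        PtTop.codim Y (Y'' : Set X) = PtTop.codim Y (Y' : Set X) + PtTop.codim Y' (Y'' : Set X)) := by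
  open Groth.Agent.Lib.helper11.Codim in
  constructor
  · intro h
    refine ⟨fun Y Y' hYY' => (h Y Y' hYY').1, ?_⟩
    intro Y Y' Y'' h1 h2
    have f1 : cd Y Y' ≠ ⊤ := by rw [← codim_eq_cd]; exact (h Y Y' h1).1
    have f2 : cd Y' Y'' ≠ ⊤ := by rw [← codim_eq_cd]; exact (h Y' Y'' h2).1
    obtain ⟨s, hs1, hs2, hs3, hs4⟩ := exists_sat h1 f1
    obtain ⟨s', hs1', hs2', hs3', hs4'⟩ := exists_sat h2 f2
    have hconn : s.last = s'.head := by rw [hs2, hs1']
    have := (h Y Y'' (h1.trans h2)).2 (s.smash s' hconn)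
      (by rw [RelSeries.head_smash, hs1]) (by rw [RelSeries.last_smash, hs2'])
      (sat_smash hconn hs4 hs4')
    rw [← this, codim_eq_cd, codim_eq_cd, ← hs3, ← hs3', RelSeries.smash_length]
    push_cast
    rfl
  · rintro ⟨hfin, hadd⟩
    have hadd' : ∀ x y z : TopologicalSpace.IrreducibleCloseds X, x ≤ y → y ≤ z →
        cd x z = cd x y + cd y z := by
      intro x y z h1 h2
      rw [← codim_eq_cd, ← codim_eq_cd, ← codim_eq_cd]
      exact hadd x y z h1 h2
    intro T T' hTT'
    refine ⟨hfin T T' hTT', ?_⟩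
    intro s h1 h2 hs
    rw [codim_eq_cd, ← h1, ← h2]
    exact length_eq_cd_of_sat hadd' s hs

end Groth.Agent.S7581
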