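import Groth.Statements.S7589
import Mathlib
import Groth.Agent.Lib.helper7.DimSch14

set_option autoImplicit false
universe u
open CategoryTheory CategoryTheory.Limits AlgebraicGeometry
attribute [local instance] Curv2.stalkAlgebra Curv2.resAlgebra
open Variety

namespace Groth.Agent.S7589

/-- Let X be locally of finite type over a field k, K an extension field of k, y a point of the base
change X_K and x its image in X; write a = trdeg_k κ(x) and a' = trdeg_K κ(y). Then dim O_{X_K, y} +
a' = dim O_{X, x} + a, and the fibre ring O_{X_K, y} / m_x O_{X_K, y} has Krull dimension a - a' (in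
particular a' ≤ a); dimensions in WithBot ℕ∞. -/
theorem result (k : Type u) [Field k] (X : Scheme.{u}) [X.Over (Spec (CommRingCat.of k))] [LocallyOfFiniteType (X ↘ (Spec (CommRingCat.of k)))]
    (K : Type u) [Field K] [Algebra k K] (y : ↥(Curv2.bc k X K)) (a a' : ℕ)
    (ha : Algebra.trdeg k (X.residueField (Curv2.bcFst k X K y)) = a)
    (ha' : letI : (Curv2.bc k X K).Over (Spec (CommRingCat.of K)) := ⟨Curv2.bcSnd k X K⟩
      Algebra.trdeg K ((Curv2.bc k X K).residueField y) = a') :
    ringKrullDim ((Curv2.bc k X K).presheaf.stalk y) + (a' : WithBot ℕ∞) =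
        ringKrullDim (X.presheaf.stalk (Curv2.bcFst k X K y)) + (a : WithBot ℕ∞) ∧
      ringKrullDim (↥((Curv2.bc k X K).presheaf.stalk y) ⧸ Ideal.map ((Curv2.bcFst k X K).stalkMap y).hom (IsLocalRing.maximalIdeal ↥(X.presheaf.stalk (Curv2.bcFst k X K y)))) + (a' : WithBot ℕ∞) =
        (a : WithBot ℕ∞) := by
  letI : (Curv2.bc k X K).Over (Spec (CommRingCat.of K)) := ⟨Curv2.bcSnd k X K⟩
  haveI : LocallyOfFiniteType ((Curv2.bc k X K) ↘ Spec (CommRingCat.of K)) :=
    (MorphismProperty.pullback_snd _ _ inferInstance :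
      LocallyOfFiniteType (pullback.snd (X ↘ Spec (CommRingCat.of k))
        (Spec.map (CommRingCat.ofHom (algebraMap k K)))))
  haveI : Flat (Spec.map (CommRingCat.ofHom (algebraMap k K))) :=
    Groth.Agent.Lib.helper7.TensorDim.flat_SpecMap_algebraMap_field k K
  haveI : IsLocallyNoetherian X :=
    LocallyOfFiniteType.isLocallyNoetherian (X ↘ Spec (CommRingCat.of k))
  haveI : IsLocallyNoetherian (Curv2.bc k X K) :=
    LocallyOfFiniteType.isLocallyNoetherian ((Curv2.bc k X K) ↘ Spec (CommRingCat.of K))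
  have hL := Groth.Agent.Lib.helper7.DimSch.localDim_pullback_field_aux
    (X ↘ Spec (CommRingCat.of k)) (Spec.map (CommRingCat.ofHom (algebraMap k K))) rfl y
  rw [Groth.Agent.Lib.helper7.DimSch.localDim_eq_stalk_add_trdegNat K (Curv2.bc k X K) y,
    Groth.Agent.Lib.helper7.DimSch.localDim_eq_stalk_add_trdegNat k X] at hL
  have h1 : Groth.Agent.Lib.helper7.DimSch.trdegNat K (Curv2.bc k X K) y = a' := by
    have := Groth.Agent.Lib.helper7.DimSch.trdegNat_spec K (Curv2.bc k X K) y
    rw [ha'] at this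
    exact_mod_cast this.symm
  have h2 : Groth.Agent.Lib.helper7.DimSch.trdegNat k X (Curv2.bcFst k X K y) = a := by
    have := Groth.Agent.Lib.helper7.DimSch.trdegNat_spec k X (Curv2.bcFst k X K y)
    rw [ha] at this
    exact_mod_cast this.symm
  rw [h1] at hL
  have hL' : ringKrullDim ((Curv2.bc k X K).presheaf.stalk y) + (a' : WithBot ℕ∞) =
      ringKrullDim (X.presheaf.stalk (Curv2.bcFst k X K y)) + (a : WithBot ℕ∞) := by
    rw [← h2]; exact hL
  refine ⟨hL', ?_⟩
  have hF := Groth.Agent.Lib.helper7.DimSch.ringKrullDim_stalk_eq_add_quotient_of_flat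
    (Curv2.bcFst k X K) y
  obtain ⟨b, hb⟩ := Groth.Agent.Lib.helper7.DimSch.exists_ringKrullDim_stalk_eq_nat k X
    (Curv2.bcFst k X K y)
  obtain ⟨b', hb'⟩ := Groth.Agent.Lib.helper7.DimSch.exists_ringKrullDim_stalk_eq_nat K
    (Curv2.bc k X K) y
  rw [hb, hb'] at hL'
  rw [hb, hb'] at hF
  generalize ringKrullDim (↥((Curv2.bc k X K).presheaf.stalk y) ⧸
    Ideal.map ((Curv2.bcFst k X K).stalkMap y).hom
      (IsLocalRing.maximalIdeal ↥(X.presheaf.stalk (Curv2.bcFst k X K y)))) = c at hF ⊢
  induction c using WithBot.recBotCoe with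
  | bot => simp at hF
  | coe c =>
    induction c using ENat.recTopCoe with
    | top =>
      exfalso
      have h3 : ((b : ℕ) : WithBot ℕ∞) + ((⊤ : ℕ∞) : WithBot ℕ∞) = ((⊤ : ℕ∞) : WithBot ℕ∞) := by
        rw [show ((b : ℕ) : WithBot ℕ∞) = (((b : ℕ) : ℕ∞) : WithBot ℕ∞) from rfl, ← WithBot.coe_add,
          add_top]
      rw [h3] at hF
      have h4 : ((b' : ℕ) : ℕ∞) = ⊤ := by exact_mod_cast hF
      exact absurd h4 (ENat.natCast_ne_top b')
    | coe c =>
      have h3 : b' = b + c := by exact_mod_cast hF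
      have h4 : b' + a' = b + a := by exact_mod_cast hL'
      have h5 : c + a' = a := by omega
      exact_mod_cast h5
end Groth.Agent.S7589
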