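import Groth.Statements.S7592
import Mathlib

set_option autoImplicit false
universe u
open CategoryTheory CategoryTheory.Limits AlgebraicGeometry
open Variety

namespace Groth.Agent.S7592

section Aux
open CategoryTheory CategoryTheory.Limits AlgebraicGeometry

/-- General form: `b : B ⟶ S` with `pullback.fst _ b` open and closed maps (e.g. `b = Spec K → Spec k`
for an algebraic field extension). If `T ×_S B` is connected and `X` is connected, `X ×_S B` is connected. -/
theorem connected_bc {S T X B : Scheme.{u}} (pT : T ⟶ S) (pX : X ⟶ S) (f : T ⟶ X) (hf : f ≫ pX = pT)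
    (b : B ⟶ S)
    (hopen : IsOpenMap (pullback.fst pX b).base) (hclosed : IsClosedMap (pullback.fst pX b).base)
    [ConnectedSpace ↥(pullback pT b)] [ConnectedSpace X] :
    ConnectedSpace ↥(pullback pX b) := by
  set π := pullback.fst pX b with hπ
  -- the map T_B → X_B
  set g : pullback pT b ⟶ pullback pX b :=
    pullback.lift (pullback.fst pT b ≫ f) (pullback.snd pT b)
      (by rw [Category.assoc, hf, pullback.condition]) with hg
  have hpb : IsPullback g (pullback.fst pT b) π f := by
    refine IsPullback.of_right (h₁₂ := pullback.snd pX b) (h₂₂ := pX) (v₁₃ := b) ?_ ?_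
      (IsPullback.of_hasPullback pX b).flip
    · have : g ≫ pullback.snd pX b = pullback.snd pT b := pullback.lift_snd _ _ _
      rw [this, hf]
      exact (IsPullback.of_hasPullback pT b).flip
    · exact pullback.lift_fst _ _ _
  -- key claim
  have key : ∀ W : Set ↥(pullback pX b), IsClopen W → g.base ⁻¹' W = Set.univ → Wᶜ = ∅ := by
    intro W hW hgW
    by_contra hne
    have hne' : (Wᶜ).Nonempty := Set.nonempty_iff_ne_empty.2 hne
    have hclopen : IsClopen (π.base '' Wᶜ) :=
      ⟨hclosed _ hW.compl.isClosed, hopen _ hW.compl.isOpen⟩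
    have huniv : π.base '' Wᶜ = Set.univ := by
      rcases isClopen_iff.1 hclopen with h | h
      · exact absurd (hne'.image _) (by rw [h]; exact Set.not_nonempty_empty)
      · exact h
    obtain ⟨t'⟩ : Nonempty ↥(pullback pT b) := inferInstance
    have hx : f.base ((pullback.fst pT b).base t') ∈ π.base '' Wᶜ := huniv ▸ Set.mem_univ _
    obtain ⟨v, hvW, hv⟩ := hx
    obtain ⟨t'', ht1, -⟩ := AlgebraicGeometry.Scheme.exists_preimage_of_isPullback hpb v
      ((pullback.fst pT b).base t') hv
    have : t'' ∈ g.base ⁻¹' W := hgW ▸ Set.mem_univ _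
    rw [Set.mem_preimage, ht1] at this
    exact hvW this
  haveI : Nonempty ↥(pullback pX b) := by
    obtain ⟨t'⟩ : Nonempty ↥(pullback pT b) := inferInstance
    exact ⟨g.base t'⟩
  haveI : PreconnectedSpace ↥(pullback pX b) := by
    rw [preconnectedSpace_iff_clopen]
    intro U hU
    have hgU : IsClopen (g.base ⁻¹' U) := hU.preimage g.continuous
    rcases isClopen_iff.1 hgU with h | h
    · left
      have h2 : g.base ⁻¹' Uᶜ = Set.univ := by rw [Set.preimage_compl, h, Set.compl_empty]
      have := key Uᶜ hU.compl h2
      rwa [compl_compl] at this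
    · right
      have := key U hU h
      exact Set.compl_empty_iff.1 this
  exact { toNonempty := inferInstance }

theorem main (k : Type u) [Field k] (K : Type u) [Field K] [Algebra k K] [IsGalois k K]
    (T X : Scheme.{u}) [T.Over (Spec (CommRingCat.of k))] [X.Over (Spec (CommRingCat.of k))]
    (f : T ⟶ X) [f.IsOver (Spec (CommRingCat.of k))]
    [ConnectedSpace ↥(Curv2.bc k T K)] (hX : ¬ ConnectedSpace ↥(Curv2.bc k X K)) :
    ¬ ConnectedSpace ↥X := by
  intro hXc
  apply hX
  set b := Spec.map (CommRingCat.ofHom (algebraMap k K)) with hb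
  haveI : Algebra.IsIntegral k K := Algebra.IsAlgebraic.isIntegral
  haveI : IsIntegralHom b := by
    rw [hb, IsIntegralHom.SpecMap_iff]
    exact algebraMap_isIntegral_iff.2 inferInstance
  haveI : UniversallyOpen b := inferInstance
  have hf : f ≫ (X ↘ Spec (CommRingCat.of k)) = T ↘ Spec (CommRingCat.of k) := comp_over f _
  exact connected_bc (T ↘ Spec (CommRingCat.of k)) (X ↘ Spec (CommRingCat.of k)) f hf b
    (pullback.fst (X ↘ Spec (CommRingCat.of k)) b).isOpenMap
    (pullback.fst (X ↘ Spec (CommRingCat.of k)) b).isClosedMap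

end Aux

/-- Let K be a (possibly infinite) Galois extension of a field k and f : T → X a morphism of schemes
over k. If the base change T_K is connected and X_K is not connected, then X is not connected. -/
theorem result (k : Type u) [Field k] (K : Type u) [Field K] [Algebra k K] [IsGalois k K]
    (T X : Scheme.{u}) [T.Over (Spec (CommRingCat.of k))] [X.Over (Spec (CommRingCat.of k))]
    (f : T ⟶ X) [f.IsOver (Spec (CommRingCat.of k))]
    [ConnectedSpace ↥(Curv2.bc k T K)] (hX : ¬ ConnectedSpace ↥(Curv2.bc k X K)) :
    ¬ ConnectedSpace ↥X := by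
  exact main k K T X f hX

end Groth.Agent.S7592
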