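import Groth.Statements.S7593
import Mathlib
import Groth.Agent.S7598
import Groth.Agent.S7590
import Groth.Agent.S7592

set_option autoImplicit false
universe u
open CategoryTheory CategoryTheory.Limits AlgebraicGeometry
open Variety

namespace Groth.Agent.S7593

section Aux
open CategoryTheory CategoryTheory.Limits AlgebraicGeometry TensorProduct

section
attribute [local instance] Curv2.resAlgebra
variable (k : Type u) [Field k] (X : Scheme.{u}) [X.Over (Spec (CommRingCat.of k))]

/-- For a closed subset `T` of `X` (with reduced structure `i : T ↪ X`) and `b : B ⟶ Spec k`, the space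
`T ×_k B` is connected iff the preimage of `T` in `X ×_k B` is connected. -/
theorem conn_iff {B : Scheme.{u}} (b : B ⟶ Spec (CommRingCat.of k)) (T : Set X) (hTc : IsClosed T) :
    ConnectedSpace ↥(pullback ((Scheme.IdealSheafData.vanishingIdeal ⟨T, hTc⟩).subschemeι ≫
        (X ↘ Spec (CommRingCat.of k))) b) ↔
      _root_.IsConnected ((pullback.fst (X ↘ Spec (CommRingCat.of k)) b).base ⁻¹' T) := by
  set f := X ↘ Spec (CommRingCat.of k) with hf
  set I := Scheme.IdealSheafData.vanishingIdeal ⟨T, hTc⟩ with hI
  set i := I.subschemeι with hi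
  have hr : Set.range i = T := Groth.Agent.Lib.helper7.RedSub.range_subschemeι_vanishingIdeal ⟨T, hTc⟩
  set g : pullback (i ≫ f) b ⟶ pullback f b :=
    pullback.lift (pullback.fst (i ≫ f) b ≫ i) (pullback.snd (i ≫ f) b)
      (by rw [Category.assoc, pullback.condition]) with hg
  have hpb : IsPullback g (pullback.fst (i ≫ f) b) (pullback.fst f b) i := by
    refine IsPullback.of_right (h₁₂ := pullback.snd f b) (h₂₂ := f) (v₁₃ := b) ?_ ?_
      (IsPullback.of_hasPullback f b).flip
    · have : g ≫ pullback.snd f b = pullback.snd (i ≫ f) b := pullback.lift_snd _ _ _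
      rw [this]
      exact (IsPullback.of_hasPullback (i ≫ f) b).flip
    · exact pullback.lift_fst _ _ _
  haveI : IsClosedImmersion g := MorphismProperty.of_isPullback hpb.flip inferInstance
  have hrange : Set.range g = (pullback.fst f b) ⁻¹' T := by
    rw [← hr]
    ext w
    constructor
    · rintro ⟨z, rfl⟩
      refine ⟨(pullback.fst (i ≫ f) b) z, ?_⟩
      rw [← Scheme.Hom.comp_apply, ← Scheme.Hom.comp_apply, hpb.w]
    · rintro ⟨t, ht⟩
      obtain ⟨z, hz, -⟩ := AlgebraicGeometry.Scheme.exists_preimage_of_isPullback hpb w t ht.symm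
      exact ⟨z, hz⟩
  let e := g.isEmbedding.toHomeomorph
  constructor
  · intro h
    show _root_.IsConnected ((pullback.fst f b) ⁻¹' T)
    rw [← hrange]
    exact isConnected_range g.continuous
  · intro h
    haveI : ConnectedSpace ↥(Set.range g) := by
      rw [hrange]; exact isConnected_iff_connectedSpace.1 h
    exact e.symm.surjective.connectedSpace e.symm.continuous

theorem isConnected_preimage_of_sep (T : Set X) (hTc : IsClosed T)
    (hT : _root_.IsConnected ((Curv2.bcFst k X (SeparableClosure k)).base ⁻¹' T))
    (K : Type u) [Field K] [Algebra k K] :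
    _root_.IsConnected ((Curv2.bcFst k X K).base ⁻¹' T) := by
  set f := X ↘ Spec (CommRingCat.of k) with hf
  set I := Scheme.IdealSheafData.vanishingIdeal ⟨T, hTc⟩ with hI
  set i := I.subschemeι with hi
  letI inst : I.subscheme.Over (Spec (CommRingCat.of k)) := ⟨i ≫ f⟩
  haveI : ConnectedSpace ↥(Curv2.bc k I.subscheme (SeparableClosure k)) :=
    (conn_iff k X (Spec.map (CommRingCat.ofHom (algebraMap k (SeparableClosure k)))) T hTc).2 hT
  haveI : GeometricallyConnected (i ≫ f) := Groth.Agent.S1559.main k I.subscheme
  haveI : ConnectedSpace ↥(pullback (i ≫ f) (Spec.map (CommRingCat.ofHom (algebraMap k K)))) :=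
    GeometricallyConnected.geometrically_connectedSpace (f := i ≫ f) _ _ _
      (IsPullback.of_hasPullback (i ≫ f) _)
  exact (conn_iff k X (Spec.map (CommRingCat.ofHom (algebraMap k K))) T hTc).1 inferInstance

/-- If `W ⊆ S` are closed, `S` connected and the preimage of `W` in `X_{k^s}` is connected, then the
preimage of `S` is connected. -/
theorem conn_preimage_of_sub (W S : Set X) (hWc : IsClosed W) (hSc : IsClosed S) (hWS : W ⊆ S)
    (hS : _root_.IsConnected S)
    (hW : _root_.IsConnected ((Curv2.bcFst k X (SeparableClosure k)).base ⁻¹' W)) :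
    _root_.IsConnected ((Curv2.bcFst k X (SeparableClosure k)).base ⁻¹' S) := by
  set Ks := SeparableClosure k with hKs
  set f := X ↘ Spec (CommRingCat.of k) with hf
  set b := Spec.map (CommRingCat.ofHom (algebraMap k Ks)) with hb
  set IW := Scheme.IdealSheafData.vanishingIdeal ⟨W, hWc⟩ with hIW
  set IS := Scheme.IdealSheafData.vanishingIdeal ⟨S, hSc⟩ with hIS
  have hle : IS ≤ IW := Scheme.IdealSheafData.vanishingIdeal_antimono (show (⟨W, hWc⟩ : TopologicalSpace.Closeds X) ≤ ⟨S, hSc⟩ from hWS)
  set incl := Scheme.IdealSheafData.inclusion hle with hincl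
  have hincl' : incl ≫ IS.subschemeι = IW.subschemeι := Scheme.IdealSheafData.inclusion_subschemeι hle
  haveI : ConnectedSpace ↥(pullback (IW.subschemeι ≫ f) b) := (conn_iff k X b W hWc).2 hW
  haveI : ConnectedSpace ↥IS.subscheme := by
    have hr : Set.range IS.subschemeι = S :=
      Groth.Agent.Lib.helper7.RedSub.range_subschemeι_vanishingIdeal ⟨S, hSc⟩
    haveI : ConnectedSpace ↥(Set.range IS.subschemeι) := by
      rw [hr]; exact isConnected_iff_connectedSpace.1 hS
    let e := IS.subschemeι.isEmbedding.toHomeomorph
    exact e.symm.surjective.connectedSpace e.symm.continuous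
  haveI : Algebra.IsIntegral k Ks := Algebra.IsAlgebraic.isIntegral
  haveI : IsIntegralHom b := by
    rw [hb, IsIntegralHom.SpecMap_iff]
    exact algebraMap_isIntegral_iff.2 inferInstance
  haveI : UniversallyOpen b := inferInstance
  have := Groth.Agent.S7592.connected_bc (IW.subschemeι ≫ f) (IS.subschemeι ≫ f) incl
    (by rw [← Category.assoc, hincl']) b
    (pullback.fst (IS.subschemeι ≫ f) b).isOpenMap (pullback.fst (IS.subschemeι ≫ f) b).isClosedMap
  exact (conn_iff k X b S hSc).1 this


theorem main (t : ↥(Curv2.bc k X (SeparableClosure k))) :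
    (∀ σ : SeparableClosure k ≃ₐ[k] SeparableClosure k,
        (Curv2.galAct k X (SeparableClosure k) σ).base '' connectedComponent t = connectedComponent t) ↔
      ((Curv2.bcFst k X (SeparableClosure k)).base ⁻¹' connectedComponent (Curv2.bcFst k X (SeparableClosure k) t) = connectedComponent t ∧
        ∀ (K : Type u) [Field K] [Algebra k K],
          _root_.IsConnected ((Curv2.bcFst k X K).base ⁻¹' connectedComponent (Curv2.bcFst k X (SeparableClosure k) t))) := by
  set Ks := SeparableClosure k with hKs
  set f := X ↘ Spec (CommRingCat.of k) with hf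
  set b := Spec.map (CommRingCat.ofHom (algebraMap k Ks)) with hb
  set π := Curv2.bcFst k X Ks with hπ
  have hfst : ∀ (σ : Ks ≃ₐ[k] Ks) (z : ↥(Curv2.bc k X Ks)), π (Curv2.galAct k X Ks σ z) = π z := by
    intro σ z
    rw [← Scheme.Hom.comp_apply, Groth.Agent.S7598.galAct_fst]
  set S : Set X := connectedComponent (π t) with hS
  have hScl : IsClosed S := isClosed_connectedComponent
  have hSconn : _root_.IsConnected S := isConnected_connectedComponent
  constructor
  · intro hstab
    haveI : Algebra.IsIntegral k Ks := Algebra.IsAlgebraic.isIntegral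
    haveI : IsIntegralHom b := by
      rw [hb, IsIntegralHom.SpecMap_iff]
      exact algebraMap_isIntegral_iff.2 inferInstance
    have hclosedmap : IsClosedMap π.base := (pullback.fst f b).isClosedMap
    set C := connectedComponent t with hC
    have hCcl : IsClosed C := isClosed_connectedComponent
    have hCconn : _root_.IsConnected C := isConnected_connectedComponent
    set W : Set X := π.base '' C with hW
    have hWcl : IsClosed W := hclosedmap C hCcl
    have hWconn : _root_.IsConnected W := hCconn.image π.base π.continuous.continuousOn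
    have hpreW : π.base ⁻¹' W = C := by
      apply subset_antisymm
      · rintro y ⟨z, hz, hzy⟩
        obtain ⟨σ, hσ⟩ := Groth.Agent.S7598.key k X z y hzy
        rw [← hstab σ]
        exact ⟨z, hz, hσ⟩
      · exact Set.subset_preimage_image _ _
    have htW : π t ∈ W := ⟨t, mem_connectedComponent, rfl⟩
    have hWS : W ⊆ S := hWconn.isPreconnected.subset_connectedComponent htW
    have hconnS : _root_.IsConnected (π.base ⁻¹' S) :=
      conn_preimage_of_sub k X W S hWcl hScl hWS hSconn (by rw [hpreW]; exact hCconn)
    have hpreS : π.base ⁻¹' S = C := by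
      apply subset_antisymm
      · exact hconnS.isPreconnected.subset_connectedComponent
          (show t ∈ π.base ⁻¹' S from mem_connectedComponent)
      · rw [← hpreW]
        exact Set.preimage_mono hWS
    refine ⟨hpreS, ?_⟩
    intro K _ _
    exact isConnected_preimage_of_sep k X S hScl (by rw [hpreS]; exact hCconn) K
  · rintro ⟨hpre, -⟩ σ
    rw [← hpre]
    apply subset_antisymm
    · rintro _ ⟨z, hz, rfl⟩
      show π (Curv2.galAct k X Ks σ z) ∈ S
      rw [hfst]; exact hz
    · intro y hy
      refine ⟨Curv2.galAct k X Ks σ⁻¹ y, ?_, ?_⟩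
      · show π (Curv2.galAct k X Ks σ⁻¹ y) ∈ S
        rw [hfst]; exact hy
      · have := Groth.Agent.S7598.galAct_inv_apply k X Ks σ⁻¹ y
        rwa [inv_inv] at this

end

end Aux

/-- Let k̄ be a separable algebraic closure of a field k, X a scheme over k and t a point of X_{k̄} with
image x in X. The connected component of t is mapped onto itself by the action of every
k-automorphism of k̄ if and only if it equals the full inverse image of the connected component T of
x in X and T is geometrically connected over k (the inverse image of T in X_K is connected for every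
extension field K of k). -/
theorem result (k : Type u) [Field k] (X : Scheme.{u}) [X.Over (Spec (CommRingCat.of k))] (t : ↥(Curv2.bc k X (SeparableClosure k))) :
    (∀ σ : SeparableClosure k ≃ₐ[k] SeparableClosure k,
        (Curv2.galAct k X (SeparableClosure k) σ).base '' connectedComponent t = connectedComponent t) ↔
      ((Curv2.bcFst k X (SeparableClosure k)).base ⁻¹' connectedComponent (Curv2.bcFst k X (SeparableClosure k) t) = connectedComponent t ∧
        ∀ (K : Type u) [Field K] [Algebra k K],
          _root_.IsConnected ((Curv2.bcFst k X K).base ⁻¹' connectedComponent (Curv2.bcFst k X (SeparableClosure k) t))) := by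
  exact main k X t

end Groth.Agent.S7593
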