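import Groth.Statements.S7595
import Mathlib.AlgebraicGeometry.Morphisms.UniversallyOpen
import Mathlib.AlgebraicGeometry.Morphisms.Flat
import Mathlib.Topology.Sober
import Mathlib.Tactic

set_option autoImplicit false
universe u
open CategoryTheory CategoryTheory.Limits AlgebraicGeometry
open Variety

namespace Groth.Agent.S7595


theorem key {X' X : Scheme.{u}} (π : X' ⟶ X) [Flat π] (T : Set ↥X)
    (hT : T ∈ irreducibleComponents ↥X) :
    π.base ⁻¹' T = ⋃₀ {Z : Set ↥X' | Z ∈ irreducibleComponents ↥X' ∧ Z ⊆ π.base ⁻¹' T} := by
  apply Set.Subset.antisymm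
  · intro y hy
    have hTirr : IsIrreducible T := hT.1
    have hTcl : IsClosed T := isClosed_of_mem_irreducibleComponents T hT
    let ξ := hTirr.genericPoint
    have hξ : closure ({ξ} : Set X) = T := hTirr.closure_genericPoint hTcl
    have hspec : ξ ⤳ π y := by
      rw [specializes_iff_mem_closure, hξ]
      exact hy
    obtain ⟨y', hy'y, hy'ξ⟩ := (Flat.generalizingMap π) hspec
    refine ⟨irreducibleComponent y', ⟨irreducibleComponent_mem_irreducibleComponents y', ?_⟩, ?_⟩
    · -- the image lies in `T`
      have hZirr : IsIrreducible (irreducibleComponent y') := isIrreducible_irreducibleComponent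
      have himg : IsIrreducible (closure (π.base '' irreducibleComponent y')) :=
        (hZirr.image _ π.continuous.continuousOn).closure
      have hTle : T ≤ closure (π.base '' irreducibleComponent y') := by
        rw [← hξ]
        apply closure_minimal _ isClosed_closure
        rw [Set.singleton_subset_iff]
        exact subset_closure ⟨y', mem_irreducibleComponent, hy'ξ⟩
      have hle := hT.le_of_ge himg hTle
      intro z hz
      exact hle (subset_closure ⟨z, hz, rfl⟩)
    · exact hy'y.mem_closed isClosed_irreducibleComponent mem_irreducibleComponent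
  · rintro y ⟨Z, ⟨_, hZ⟩, hyZ⟩
    exact hZ hyZ

/-- Let X be a scheme over a field k, K an extension field of k and T an irreducible component of X.
Then each point of the inverse image of T in X_K lies on some irreducible component of X_K that is
contained in this inverse image; so the inverse image of T is the union of the irreducible
components of X_K lying inside it. -/
theorem result (k : Type u) [Field k] (X : Scheme.{u}) [X.Over (Spec (CommRingCat.of k))] (K : Type u) [Field K] [Algebra k K]
    (T : Set ↥X) (hT : T ∈ irreducibleComponents ↥X) :
    (Curv2.bcFst k X K).base ⁻¹' T = ⋃₀ {Z : Set ↥(Curv2.bc k X K) | Z ∈ irreducibleComponents ↥(Curv2.bc k X K) ∧ Z ⊆ (Curv2.bcFst k X K).base ⁻¹' T} := by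
  haveI : Flat (Spec.map (CommRingCat.ofHom (algebraMap k K))) := by
    rw [Flat.SpecMap_iff]
    exact (RingHom.flat_algebraMap_iff).mpr inferInstance
  exact key (Curv2.bcFst k X K) T hT

end Groth.Agent.S7595
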