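import Groth.Statements.S7597
import Mathlib
import Groth.Agent.S7598
import Groth.Agent.S7590

set_option autoImplicit false
universe u
open CategoryTheory CategoryTheory.Limits AlgebraicGeometry
open Variety

namespace Groth.Agent.S7597

section Aux
open CategoryTheory CategoryTheory.Limits AlgebraicGeometry TensorProduct

section
attribute [local instance] Curv2.resAlgebra
variable (k : Type u) [Field k] (X : Scheme.{u}) [X.Over (Spec (CommRingCat.of k))]

/-- If the preimage of a closed set `T` in `X_{k^s}` is irreducible, then its preimage in every `X_K`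
is irreducible. -/
theorem isIrreducible_preimage_of_sep (T : Set X) (hTc : IsClosed T)
    (hT : IsIrreducible ((Curv2.bcFst k X (SeparableClosure k)).base ⁻¹' T))
    (K : Type u) [Field K] [Algebra k K] :
    IsIrreducible ((Curv2.bcFst k X K).base ⁻¹' T) := by
  set f := X ↘ Spec (CommRingCat.of k) with hf
  set I := Scheme.IdealSheafData.vanishingIdeal ⟨T, hTc⟩ with hI
  set i := I.subschemeι with hi
  have hr : Set.range i = T := Groth.Agent.Lib.helper7.RedSub.range_subschemeι_vanishingIdeal ⟨T, hTc⟩
  letI inst : I.subscheme.Over (Spec (CommRingCat.of k)) := ⟨i ≫ f⟩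
  set b := Spec.map (CommRingCat.ofHom (algebraMap k (SeparableClosure k))) with hb
  -- the closed immersion T_{k^s} → X_{k^s}
  set g : pullback (i ≫ f) b ⟶ pullback f b :=
    pullback.lift (pullback.fst (i ≫ f) b ≫ i) (pullback.snd (i ≫ f) b)
      (by rw [Category.assoc, pullback.condition]) with hg
  have hpb : IsPullback g (pullback.fst (i ≫ f) b) (pullback.fst f b) i := by
    refine IsPullback.of_right (h₁₂ := pullback.snd f b) (h₂₂ := f) (v₁₃ := b) ?_ ?_
      (IsPullback.of_hasPullback f b).flip
    · have : g ≫ pullback.snd f b = pullback.snd (i ≫ f) b := pullback.lift_snd _ _ _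
      rw [this]
      exact (IsPullback.of_hasPullback (i ≫ f) b).flip
    · exact pullback.lift_fst _ _ _
  haveI : IsClosedImmersion g := MorphismProperty.of_isPullback hpb.flip inferInstance
  have hrange : Set.range g = (pullback.fst f b) ⁻¹' T := by
    rw [← hr]
    ext w
    constructor
    · rintro ⟨z, rfl⟩
      refine ⟨(pullback.fst (i ≫ f) b) z, ?_⟩
      rw [← Scheme.Hom.comp_apply, ← Scheme.Hom.comp_apply, hpb.w]
    · rintro ⟨t, ht⟩
      obtain ⟨z, hz, -⟩ := AlgebraicGeometry.Scheme.exists_preimage_of_isPullback hpb w t ht.symm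
      exact ⟨z, hz⟩
  haveI : IrreducibleSpace ↥(Curv2.bc k I.subscheme (SeparableClosure k)) := by
    show IrreducibleSpace ↥(pullback (i ≫ f) b)
    haveI : IrreducibleSpace ↥(Set.range g) := by
      rw [hrange]; exact Subtype.irreducibleSpace hT
    let e := g.isEmbedding.toHomeomorph
    exact Groth.Agent.S7590.irreducibleSpace_of_surj e.symm e.symm.continuous e.symm.surjective
  haveI : GeometricallyIrreducible (i ≫ f) := Groth.Agent.S1559.mainIrr k I.subscheme
  haveI : IrreducibleSpace ↥(pullback (i ≫ f) (Spec.map (CommRingCat.ofHom (algebraMap k K)))) :=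
    GeometricallyIrreducible.geometrically_irreducibleSpace (f := i ≫ f) _ _ _
      (IsPullback.of_hasPullback (i ≫ f) _)
  obtain ⟨g', hg'⟩ := Groth.Agent.S7590.exists_cover f K i
  show IsIrreducible ((pullback.fst f (Spec.map (CommRingCat.ofHom (algebraMap k K)))) ⁻¹' T)
  rw [← hr, ← hg', ← Set.image_univ]
  exact (IrreducibleSpace.isIrreducible_univ _).image g' g'.continuous.continuousOn


theorem main (Z : Set ↥(Curv2.bc k X (SeparableClosure k)))
    (hZ : Z ∈ irreducibleComponents ↥(Curv2.bc k X (SeparableClosure k))) :
    (∀ σ : SeparableClosure k ≃ₐ[k] SeparableClosure k, (Curv2.galAct k X (SeparableClosure k) σ).base '' Z = Z) ↔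
      ∃ T ∈ irreducibleComponents ↥X, (Curv2.bcFst k X (SeparableClosure k)).base ⁻¹' T = Z ∧
        ∀ (K : Type u) [Field K] [Algebra k K], IsIrreducible ((Curv2.bcFst k X K).base ⁻¹' T) := by
  set Ks := SeparableClosure k with hKs
  set f := X ↘ Spec (CommRingCat.of k) with hf
  set b := Spec.map (CommRingCat.ofHom (algebraMap k Ks)) with hb
  set π := Curv2.bcFst k X Ks with hπ
  have hfst : ∀ (σ : Ks ≃ₐ[k] Ks) (z : ↥(Curv2.bc k X Ks)), π (Curv2.galAct k X Ks σ z) = π z := by
    intro σ z
    rw [← Scheme.Hom.comp_apply, Groth.Agent.S7598.galAct_fst]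
  constructor
  · intro hstab
    haveI : Algebra.IsIntegral k Ks := Algebra.IsAlgebraic.isIntegral
    haveI : IsIntegralHom b := by
      rw [hb, IsIntegralHom.SpecMap_iff]
      exact algebraMap_isIntegral_iff.2 inferInstance
    have hclosedmap : IsClosedMap π.base := (pullback.fst f b).isClosedMap
    haveI : Flat (pullback.fst f b) := inferInstance
    have hgen : GeneralizingMap π.base := Flat.generalizingMap (pullback.fst f b)
    have hirr : IsIrreducible Z := hZ.1
    have hcl : IsClosed Z := isClosed_of_mem_irreducibleComponents Z hZ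
    have hξ : IsGenericPoint hirr.genericPoint Z := by
      have := hirr.isGenericPoint_genericPoint_closure
      rwa [hcl.closure_eq] at this
    set ξ := hirr.genericPoint
    set T : Set X := π.base '' Z with hT
    have hTcl : IsClosed T := hclosedmap Z hcl
    have hTirr : IsIrreducible T := hirr.image π.base π.continuous.continuousOn
    have hη : IsGenericPoint (π ξ) T := by
      have := hξ.image π.continuous
      rwa [hTcl.closure_eq] at this
    have hpre : π.base ⁻¹' T = Z := by
      apply subset_antisymm
      · rintro y ⟨z, hz, hzy⟩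
        obtain ⟨σ, hσ⟩ := Groth.Agent.S7598.key k X z y hzy
        rw [← hstab σ]
        exact ⟨z, hz, hσ⟩
      · exact Set.subset_preimage_image _ _
    refine ⟨T, ⟨hTirr, ?_⟩, hpre, ?_⟩
    · intro T' hT' hle
      -- maximality
      have hT''irr : IsIrreducible (closure T') := hT'.closure
      have hη'' := hT''irr.isGenericPoint_genericPoint_closure
      rw [closure_closure] at hη''
      set η'' := hT''irr.genericPoint
      have hspec : η'' ⤳ π ξ := by
        rw [specializes_iff_mem_closure, hη''.def]
        exact subset_closure (hle ⟨ξ, hξ.mem, rfl⟩)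
      obtain ⟨ξ'', hξ''spec, hξ''⟩ := hgen hspec
      have hsub : Z ⊆ closure {ξ''} := by
        rw [← hξ.def]
        exact closure_minimal (Set.singleton_subset_iff.2 (specializes_iff_mem_closure.1 hξ''spec)) isClosed_closure
      have hmax := hZ.2 (isIrreducible_singleton.closure) hsub
      have hmem : ξ'' ∈ Z := hmax (subset_closure rfl)
      have : η'' ∈ T := ⟨ξ'', hmem, hξ''⟩
      calc T' ⊆ closure T' := subset_closure
        _ = closure {η''} := hη''.def.symm
        _ ⊆ T := closure_minimal (Set.singleton_subset_iff.2 this) hTcl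
    · intro K _ _
      exact isIrreducible_preimage_of_sep k X T hTcl (hpre ▸ hirr) K
  · rintro ⟨T, -, hpre, -⟩ σ
    rw [← hpre]
    apply subset_antisymm
    · rintro _ ⟨z, hz, rfl⟩
      show π (Curv2.galAct k X Ks σ z) ∈ T
      rw [hfst]; exact hz
    · intro y hy
      refine ⟨Curv2.galAct k X Ks σ⁻¹ y, ?_, ?_⟩
      · show π (Curv2.galAct k X Ks σ⁻¹ y) ∈ T
        rw [hfst]; exact hy
      · have := Groth.Agent.S7598.galAct_inv_apply k X Ks σ⁻¹ y
        rwa [inv_inv] at this

end

end Aux

/-- Let k̄ be a separable algebraic closure of a field k, X a scheme over k and Z an irreducible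
component of X_{k̄}. Then Z is mapped onto itself by the action of every k-automorphism of k̄ if and
only if Z is the full inverse image of some irreducible component T of X which is geometrically
irreducible over k (the inverse image of T in X_K is irreducible for every extension field K of k). -/
theorem result (k : Type u) [Field k] (X : Scheme.{u}) [X.Over (Spec (CommRingCat.of k))]
    (Z : Set ↥(Curv2.bc k X (SeparableClosure k))) (hZ : Z ∈ irreducibleComponents ↥(Curv2.bc k X (SeparableClosure k))) :
    (∀ σ : SeparableClosure k ≃ₐ[k] SeparableClosure k, (Curv2.galAct k X (SeparableClosure k) σ).base '' Z = Z) ↔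
      ∃ T ∈ irreducibleComponents ↥X, (Curv2.bcFst k X (SeparableClosure k)).base ⁻¹' T = Z ∧
        ∀ (K : Type u) [Field K] [Algebra k K], IsIrreducible ((Curv2.bcFst k X K).base ⁻¹' T) := by
  exact main k X Z hZ

end Groth.Agent.S7597
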