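import Groth.Statements.S7612
import Mathlib

set_option autoImplicit false
universe u
open CategoryTheory CategoryTheory.Limits AlgebraicGeometry
open Variety

namespace Groth.Agent.S7612

section Aux
open AlgebraicGeometry CategoryTheory Limits

theorem top_aux {P X Y : Type*} [TopologicalSpace P] [TopologicalSpace X] [TopologicalSpace Y]
    (p : P → X) (q : P → Y)
    (h : ∀ (a : X) (W : Set P), IsOpen W → IsOpen (q '' (W ∩ p ⁻¹' {a}))) (A : Set X) (B : Set Y) :
    p ⁻¹' A ∩ q ⁻¹' closure B ⊆ closure (p ⁻¹' A ∩ q ⁻¹' B) := by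
  rintro z ⟨hzA, hzB⟩
  rw [mem_closure_iff]
  intro W hW hzW
  have h1 := h (p z) W hW
  have h2 : q z ∈ q '' (W ∩ p ⁻¹' {p z}) := ⟨z, ⟨hzW, rfl⟩, rfl⟩
  obtain ⟨_, ⟨w, ⟨hwW, hwp⟩, rfl⟩, hwB⟩ := mem_closure_iff.mp hzB _ h1 h2
  refine ⟨w, hwW, ?_, hwB⟩
  have : p w = p z := hwp
  change p w ∈ A
  rw [this]; exact hzA

theorem isOpen_image_fiber {P X Y S : Scheme.{u}} [IsIntegral S] [Subsingleton S] {fX : X ⟶ S}
    {fY : Y ⟶ S} {p : P ⟶ X} {q : P ⟶ Y} (sqB : IsPullback p q fX fY)
    (a : X) (W : Set ↥P) (hW : IsOpen W) :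
    IsOpen (q.base '' (W ∩ p.base ⁻¹' {a})) := by
  have sqA : IsPullback (p.fiberι a) (p.fiberToSpecResidueField a) p
      (X.fromSpecResidueField a) := IsPullback.of_hasPullback _ _
  have sq := sqA.flip.paste_vert sqB
  haveI : UniversallyOpen (X.fromSpecResidueField a ≫ fX) := inferInstance
  have hg : UniversallyOpen (p.fiberι a ≫ q) :=
    MorphismProperty.of_isPullback sq this
  have heq : q.base '' (W ∩ p.base ⁻¹' {a}) =
      (p.fiberι a ≫ q).base '' ((p.fiberι a).base ⁻¹' W) := by
    ext y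
    constructor
    · rintro ⟨w, ⟨hwW, hwa⟩, rfl⟩
      have : w ∈ Set.range (p.fiberι a).base := by
        rw [Scheme.Hom.range_fiberι]; exact hwa
      obtain ⟨v, rfl⟩ := this
      exact ⟨v, hwW, rfl⟩
    · rintro ⟨v, hv, rfl⟩
      refine ⟨(p.fiberι a).base v, ⟨hv, ?_⟩, rfl⟩
      have : (p.fiberι a).base v ∈ Set.range (p.fiberι a).base := ⟨v, rfl⟩
      rw [Scheme.Hom.range_fiberι] at this
      exact this
  rw [heq]
  exact (p.fiberι a ≫ q).isOpenMap _ (hW.preimage (p.fiberι a).continuous)

theorem main {X Y S : Scheme.{u}} [IsIntegral S] [Subsingleton S] (fX : X ⟶ S) (fY : Y ⟶ S)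
    (A : Set ↥X) (B : Set ↥Y) :
    closure ((pullback.fst fX fY).base ⁻¹' A ∩ (pullback.snd fX fY).base ⁻¹' B) =
      (pullback.fst fX fY).base ⁻¹' closure A ∩ (pullback.snd fX fY).base ⁻¹' closure B := by
  have sqB : IsPullback (pullback.fst fX fY) (pullback.snd fX fY) fX fY :=
    IsPullback.of_hasPullback _ _
  apply subset_antisymm
  · refine closure_minimal ?_ ?_
    · exact Set.inter_subset_inter (Set.preimage_mono subset_closure)
        (Set.preimage_mono subset_closure)
    · exact (isClosed_closure.preimage (pullback.fst fX fY).continuous).inter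
        (isClosed_closure.preimage (pullback.snd fX fY).continuous)
  · have h1 := top_aux (pullback.snd fX fY).base (pullback.fst fX fY).base
      (fun b W hW => isOpen_image_fiber sqB.flip b W hW) (closure B) A
    have h2 := top_aux (pullback.fst fX fY).base (pullback.snd fX fY).base
      (fun a W hW => isOpen_image_fiber sqB a W hW) A B
    rw [Set.inter_comm] at h1
    refine h1.trans ?_
    rw [Set.inter_comm]
    exact closure_minimal h2 isClosed_closure

end Aux

/-- Let X and Y be schemes over a field k and A ⊆ X, B ⊆ Y subsets. Inside X ×_k Y, the closure of the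
set of points projecting into A and into B equals the set of points projecting into the closure of A
and into the closure of B. -/
theorem result (k : Type u) [Field k] (X : Scheme.{u}) [X.Over (Spec (CommRingCat.of k))] (Y : Scheme.{u}) [Y.Over (Spec (CommRingCat.of k))] (A : Set ↥X) (B : Set ↥Y) :
    closure ((pullback.fst (X ↘ (Spec (CommRingCat.of k))) (Y ↘ (Spec (CommRingCat.of k)))).base ⁻¹' A ∩ (pullback.snd (X ↘ (Spec (CommRingCat.of k))) (Y ↘ (Spec (CommRingCat.of k)))).base ⁻¹' B) =
      (pullback.fst (X ↘ (Spec (CommRingCat.of k))) (Y ↘ (Spec (CommRingCat.of k)))).base ⁻¹' closure A ∩ (pullback.snd (X ↘ (Spec (CommRingCat.of k))) (Y ↘ (Spec (CommRingCat.of k)))).base ⁻¹' closure B := by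
  exact main _ _ A B
end Groth.Agent.S7612
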