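import Groth.Statements.S7614
import Mathlib
import Groth.Agent.Lib.helper4.QAffDescent

set_option autoImplicit false
universe u
open CategoryTheory CategoryTheory.Limits AlgebraicGeometry
open Variety

namespace Groth.Agent.S7614aux

open CategoryTheory CategoryTheory.Limits AlgebraicGeometry

theorem main (k : Type u) [Field k] (X : Scheme.{u}) [X.Over (Spec (CommRingCat.of k))] (K : Type u) [Field K] [Algebra k K]
    [hq : (Curv2.bc k X K).IsQuasiAffine] : X.IsQuasiAffine := by
  set p : Spec (CommRingCat.of K) ⟶ Spec (CommRingCat.of k) := Spec.map (CommRingCat.ofHom (algebraMap k K)) with hp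
  set g : X ⟶ Spec (CommRingCat.of k) := X ↘ Spec (CommRingCat.of k) with hg
  have hflat : Flat p := by
    rw [hp, HasRingHomProperty.Spec_iff (P := @Flat)]
    rw [CommRingCat.hom_ofHom]
    exact RingHom.flat_algebraMap_iff.mpr inferInstance
  have hsurj : Surjective p := by
    constructor
    intro z
    have : Subsingleton (Spec (CommRingCat.of k)) := inferInstanceAs (Subsingleton (PrimeSpectrum k))
    have : Nonempty (Spec (CommRingCat.of K)) := inferInstanceAs (Nonempty (PrimeSpectrum K))
    obtain ⟨w⟩ := ‹Nonempty (Spec (CommRingCat.of K))›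
    exact ⟨w, Subsingleton.elim _ _⟩
  have H : IsPullback (pullback.snd g p) (pullback.fst g p) p g := (IsPullback.of_hasPullback g p).flip
  have : Surjective (pullback.fst g p) := inferInstance
  have : CompactSpace X := by
    have hs : Function.Surjective (pullback.fst g p) := (pullback.fst g p).surjective
    exact hs.compactSpace (pullback.fst g p).continuous
  have hqs1 : QuasiSeparated (pullback.snd g p) := by
    rw [quasiSeparated_iff_quasiSeparatedSpace]
    infer_instance
  have hgqs : QuasiSeparated g := by
    have := Groth.Agent.Lib.helper1.quasiSeparated_descendsAlong.{u}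
    exact MorphismProperty.of_isPullback_of_descendsAlong
      (P := @QuasiSeparated)
      (Q := (@Surjective ⊓ @Flat ⊓ @QuasiCompact : MorphismProperty Scheme.{u}))
      H ⟨⟨hsurj, hflat⟩, inferInstance⟩ hqs1
  have : QuasiSeparatedSpace X := quasiSeparatedSpace_of_quasiSeparated g
  refine H4QAffDesc.isQuasiAffine_of_finite_family g (σ := PUnit.{u+1}) (fun _ => Spec (CommRingCat.of K))
    (fun _ => p) ?_ (fun _ => pullback g p) (fun _ => pullback.snd g p) (fun _ => pullback.fst g p) (fun _ => H) (fun _ => hq)
  intro z
  obtain ⟨w, hw⟩ := hsurj.surj z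
  exact ⟨PUnit.unit, w, hw⟩

end Groth.Agent.S7614aux

namespace Groth.Agent.S7614

/-- Let X be a scheme over a field k and K an extension field of k. If X_K is quasi-affine, then X is
quasi-affine. -/
theorem result (k : Type u) [Field k] (X : Scheme.{u}) [X.Over (Spec (CommRingCat.of k))] (K : Type u) [Field K] [Algebra k K]
    [(Curv2.bc k X K).IsQuasiAffine] : X.IsQuasiAffine := by
  exact Groth.Agent.S7614aux.main k X K

end Groth.Agent.S7614
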