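import Groth.Statements.S7618
import Mathlib

set_option autoImplicit false
universe u
open CategoryTheory CategoryTheory.Limits AlgebraicGeometry
open Variety

namespace Groth.Agent.S7618
open Polynomial


theorem exists_inv_of_isIntegral {k R : Type*} [Field k] [CommRing R] [Algebra k R] [IsReduced R]
    (hid : ∀ e : R, IsIdempotentElem e → e = 0 ∨ e = 1) (a : R) (ha : a ≠ 0)
    (hint : IsIntegral k a) : ∃ s : R, IsIntegral k s ∧ a * s = 1 := by
  obtain ⟨p, hp, hpa⟩ := hint
  have hpa' : aeval a p = 0 := hpa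
  obtain ⟨q, hq, hXq⟩ := Polynomial.exists_eq_pow_rootMultiplicity_mul_and_not_dvd p hp.ne_zero 0
  set m := rootMultiplicity 0 p
  rw [C_0, sub_zero] at hq hXq
  have hc : q.coeff 0 ≠ 0 := fun h => hXq (Polynomial.X_dvd_iff.mpr h)
  set c := q.coeff 0
  have hq2 : q = q.divX * X + C c := (Polynomial.divX_mul_X_add q).symm
  set r := aeval a q.divX with hr
  have hqa : aeval a q = r * a + algebraMap k R c := by
    conv_lhs => rw [hq2]
    simp [hr]
  have h0 : a ^ m * (r * a + algebraMap k R c) = 0 := by
    rw [← hqa, ← hpa', hq]; simp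
  let s : R := -(algebraMap k R c⁻¹) * r
  have hcc : algebraMap k R c⁻¹ * algebraMap k R c = 1 := by
    rw [← map_mul, inv_mul_cancel₀ hc, map_one]
  have h1 : a ^ m * (1 - a * s) = 0 := by
    have : 1 - a * s = algebraMap k R c⁻¹ * (r * a + algebraMap k R c) := by
      rw [mul_add, hcc]; simp only [s]; ring
    rw [this, mul_left_comm, h0, mul_zero]
  set e := a * s with he
  have h2 : e * (1 - e) = 0 := by
    apply IsNilpotent.eq_zero
    refine ⟨m + 1, ?_⟩
    have e_pow : e ^ m = a ^ m * s ^ m := by rw [he, mul_pow]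
    clear_value e
    calc (e * (1 - e)) ^ (m + 1) = e ^ m * e * ((1 - e) ^ m * (1 - e)) := by
          rw [mul_pow, pow_succ, pow_succ]
      _ = e * (1 - e) ^ m * s ^ m * (a ^ m * (1 - e)) := by rw [e_pow]; ring
      _ = 0 := by rw [h1, mul_zero]
  have hidem : IsIdempotentElem e := by
    show e * e = e
    have : e * (1 - e) = e - e * e := by ring
    rw [this] at h2
    exact (sub_eq_zero.mp h2).symm
  have hr_int : IsIntegral k r := by
    have : r ∈ integralClosure k R := by
      have ha_int : a ∈ integralClosure k R := ⟨p, hp, hpa⟩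
      have := Subalgebra.aeval_coe (integralClosure k R) ⟨a, ha_int⟩ q.divX
      simp only at this
      rw [hr, this]
      exact Subtype.property _
    exact this
  rcases hid e hidem with h | h
  · exfalso
    rw [h, sub_zero, mul_one] at h1
    exact ha (IsNilpotent.eq_zero ⟨m, h1⟩)
  · refine ⟨s, ?_, h⟩
    exact (isIntegral_algebraMap.neg).mul hr_int

theorem isField_integralClosure {k R : Type*} [Field k] [CommRing R] [Algebra k R] [IsReduced R]
    [Nontrivial R] (hid : ∀ e : R, IsIdempotentElem e → e = 0 ∨ e = 1) :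
    IsField (integralClosure k R) := by
  refine ⟨⟨0, 1, zero_ne_one⟩, mul_comm, ?_⟩
  rintro ⟨a, ha⟩ ha0
  have ha0' : a ≠ 0 := fun h => ha0 (Subtype.ext h)
  obtain ⟨s, hs, has⟩ := exists_inv_of_isIntegral hid a ha0' ha
  exact ⟨⟨s, hs⟩, Subtype.ext has⟩

theorem idempotent_trivial_of_connected (X : Scheme.{u}) [ConnectedSpace ↥X] [IsReduced X]
    (e : Γ(X, ⊤)) (he : IsIdempotentElem e) : e = 0 ∨ e = 1 := by
  have hdisj : X.basicOpen e ⊓ X.basicOpen (1 - e) = ⊥ := by
    rw [← Scheme.basicOpen_mul]
    have : e * (1 - e) = 0 := by rw [mul_sub, mul_one, he.eq, sub_self]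
    rw [this, Scheme.basicOpen_zero]
  have hcov : X.basicOpen e ⊔ X.basicOpen (1 - e) = ⊤ := by
    rw [eq_top_iff]
    intro x _
    have h1 : X.presheaf.germ ⊤ x trivial e + X.presheaf.germ ⊤ x trivial (1 - e) = 1 := by
      rw [← map_add]; simp
    rcases IsLocalRing.isUnit_or_isUnit_of_add_one h1 with h | h
    · exact Or.inl ((X.mem_basicOpen (U := ⊤) e x trivial).mpr h)
    · exact Or.inr ((X.mem_basicOpen (U := ⊤) (1 - e) x trivial).mpr h)
  have hclopen : IsClopen (X.basicOpen e : Set X) := by
    refine ⟨?_, (X.basicOpen e).2⟩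
    have : (X.basicOpen e : Set X) = ((X.basicOpen (1 - e) : Set X))ᶜ := by
      ext x
      constructor
      · intro hx hx'
        have : x ∈ X.basicOpen e ⊓ X.basicOpen (1 - e) := ⟨hx, hx'⟩
        rw [hdisj] at this
        exact this
      · intro hx
        have : x ∈ X.basicOpen e ⊔ X.basicOpen (1 - e) := by rw [hcov]; trivial
        rcases this with h | h
        · exact h
        · exact absurd h hx
    rw [this]
    exact (X.basicOpen (1 - e)).2.isClosed_compl
  rcases isClopen_iff.mp hclopen with h | h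
  · left
    apply (basicOpen_eq_bot_iff e).mp
    ext1
    exact h
  · right
    have h2 : X.basicOpen (1 - e) = ⊥ := by
      rw [← hdisj]
      have : X.basicOpen e = ⊤ := by ext1; exact h
      rw [this, top_inf_eq]
    have := (basicOpen_eq_bot_iff (1 - e)).mp h2
    exact (sub_eq_zero.mp this).symm

/-- Let X be a connected reduced scheme over a field k. Then the global functions on X that are integral
over k form a field. -/
theorem result (k : Type u) [Field k] (X : Scheme.{u}) [X.Over (Spec (CommRingCat.of k))] [ConnectedSpace ↥X] [IsReduced X] :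
    letI := ((X ↘ (Spec (CommRingCat.of k))).appTop.hom.comp (Scheme.ΓSpecIso (CommRingCat.of k)).inv.hom : k →+* Γ(X, ⊤)).toAlgebra
    IsField ↥(integralClosure k ↑Γ(X, ⊤)) := by
  haveI : Nontrivial Γ(X, ⊤) := by
    obtain ⟨x⟩ := (inferInstance : Nonempty ↥X)
    by_contra hnt
    rw [not_nontrivial_iff_subsingleton] at hnt
    have h01 : (0 : Γ(X, ⊤)) = 1 := Subsingleton.elim _ _
    have h1 : (1 : X.presheaf.stalk x) = 0 := by
      rw [← map_one (X.presheaf.germ ⊤ x trivial).hom, ← h01, map_zero]
    exact one_ne_zero h1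
  letI inst : Algebra k Γ(X, ⊤) := ((X ↘ (Spec (CommRingCat.of k))).appTop.hom.comp (Scheme.ΓSpecIso (CommRingCat.of k)).inv.hom : k →+* Γ(X, ⊤)).toAlgebra
  exact isField_integralClosure (k := k) (R := Γ(X, ⊤)) (idempotent_trivial_of_connected X)

end Groth.Agent.S7618
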