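import Groth.Statements.S7620
import Mathlib
import Groth.Agent.Lib.helper9.IntegralDim

set_option autoImplicit false
universe u
open CategoryTheory CategoryTheory.Limits AlgebraicGeometry
open scoped TensorProduct
open Variety

namespace Groth.Agent.S7620


open TensorProduct in
/-- Elements of `κ(p) ⊗[A] B` become pure tensors `1 ⊗ b` after clearing a denominator. -/
theorem exists_smul_eq_one_tmul (A B : Type u) [CommRing A] [CommRing B] [Algebra A B]
    (p : Ideal A) [p.IsPrime] (c : p.ResidueField ⊗[A] B) :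
    ∃ (s : A) (b : B), s ∉ p ∧ algebraMap A p.ResidueField s • c = 1 ⊗ₜ[A] b := by
  induction c using TensorProduct.induction_on with
  | zero => exact ⟨1, 0, fun h => (Ideal.IsPrime.ne_top inferInstance) ((Ideal.eq_top_iff_one p).mpr h),
      by simp⟩
  | tmul x b =>
    obtain ⟨y, rfl⟩ := IsLocalRing.residue_surjective (R := Localization.AtPrime p) x
    obtain ⟨⟨a, s⟩, has⟩ := IsLocalization.surj p.primeCompl y
    refine ⟨s.1, a • b, s.2, ?_⟩
    have h1 : algebraMap A p.ResidueField s.1 * IsLocalRing.residue (Localization.AtPrime p) y =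
        algebraMap A p.ResidueField a := by
      rw [IsScalarTower.algebraMap_apply A (Localization.AtPrime p) p.ResidueField,
        IsScalarTower.algebraMap_apply A (Localization.AtPrime p) p.ResidueField a]
      show IsLocalRing.residue _ _ * IsLocalRing.residue _ y = IsLocalRing.residue _ _
      rw [← map_mul, mul_comm, has]
    rw [TensorProduct.smul_tmul', smul_eq_mul, h1, Algebra.algebraMap_eq_smul_one,
      TensorProduct.smul_tmul]
  | add c₁ c₂ h₁ h₂ =>
    obtain ⟨s₁, b₁, hs₁, e₁⟩ := h₁
    obtain ⟨s₂, b₂, hs₂, e₂⟩ := h₂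
    refine ⟨s₁ * s₂, s₂ • b₁ + s₁ • b₂, ?_, ?_⟩
    · intro h
      rcases Ideal.IsPrime.mem_or_mem inferInstance h with h | h
      · exact hs₁ h
      · exact hs₂ h
    · rw [map_mul, smul_add, TensorProduct.tmul_add]
      congr 1
      · rw [mul_comm, mul_smul, e₁, ← TensorProduct.smul_tmul, ← Algebra.algebraMap_eq_smul_one,
          TensorProduct.smul_tmul', smul_eq_mul, mul_one]
      · rw [mul_smul, e₂, ← TensorProduct.smul_tmul, ← Algebra.algebraMap_eq_smul_one,
          TensorProduct.smul_tmul', smul_eq_mul, mul_one]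

/-- Let A → B be a finite type ring map (a finite type morphism of affine schemes X → S), p a prime of A
and suppose the fibre ring κ(p) ⊗_A B has Krull dimension d. Then there is an A-algebra homomorphism
π : A[t_1, …, t_d] → B such that the induced map of fibres κ(p) ⊗_A A[t_1, …, t_d] → κ(p) ⊗_A B is
finite. -/
theorem result (A B : Type u) [CommRing A] [CommRing B] [Algebra A B] [Algebra.FiniteType A B]
    (p : Ideal A) [p.IsPrime] (d : ℕ) (hd : ringKrullDim (p.ResidueField ⊗[A] B) = d) :
    ∃ π : MvPolynomial (Fin d) A →ₐ[A] B,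
      (Algebra.TensorProduct.map (AlgHom.id p.ResidueField p.ResidueField) π).toRingHom.Finite := by
  classical
  set κ := p.ResidueField with hκ
  haveI : Algebra.FiniteType κ (κ ⊗[A] B) := inferInstance
  haveI : Nontrivial (κ ⊗[A] B) := by
    by_contra h
    rw [not_nontrivial_iff_subsingleton] at h
    rw [ringKrullDim_eq_bot_of_subsingleton] at hd
    exact absurd hd (by simp)
  obtain ⟨s, g, hinj, hfin⟩ := exists_finite_inj_algHom_of_fg κ (κ ⊗[A] B)
  -- s = d
  have hs : s = d := by
    letI : Algebra (MvPolynomial (Fin s) κ) (κ ⊗[A] B) := g.toRingHom.toAlgebra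
    haveI : Module.Finite (MvPolynomial (Fin s) κ) (κ ⊗[A] B) := hfin
    haveI : Algebra.IsIntegral (MvPolynomial (Fin s) κ) (κ ⊗[A] B) :=
      Algebra.IsIntegral.of_finite _ _
    have h1 := Groth.Agent.Lib.helper9.IntegralDim.ringKrullDim_eq_of_isIntegral_of_injective
      (MvPolynomial (Fin s) κ) (κ ⊗[A] B) hinj
    rw [hd, MvPolynomial.ringKrullDim_of_isNoetherianRing, ringKrullDim_eq_zero_of_field,
      zero_add] at h1
    have h2 : ((s : ℕ∞) : WithBot ℕ∞) = ((d : ℕ∞) : WithBot ℕ∞) := by
      simpa using h1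
    exact_mod_cast h2
  subst hs
  choose sd b hsd hb using fun i : Fin s => exists_smul_eq_one_tmul A B p (g (MvPolynomial.X i))
  let π : MvPolynomial (Fin s) A →ₐ[A] B := MvPolynomial.aeval b
  let σ : MvPolynomial (Fin s) κ →ₐ[κ] MvPolynomial (Fin s) κ :=
    MvPolynomial.aeval (fun i => MvPolynomial.C (algebraMap A κ (sd i)) * MvPolynomial.X i)
  have hne : ∀ i, algebraMap A κ (sd i) ≠ 0 := fun i h =>
    hsd i ((Ideal.algebraMap_residueField_eq_zero).mp h)
  have hσsurj : Function.Surjective σ := by
    rw [← AlgHom.range_eq_top, eq_top_iff, ← MvPolynomial.adjoin_range_X]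
    apply Algebra.adjoin_le
    rintro _ ⟨i, rfl⟩
    refine ⟨MvPolynomial.C (algebraMap A κ (sd i))⁻¹ * MvPolynomial.X i, ?_⟩
    show σ _ = _
    rw [map_mul, MvPolynomial.aeval_C, MvPolynomial.aeval_X, MvPolynomial.algebraMap_eq,
      ← mul_assoc, ← MvPolynomial.C_mul, inv_mul_cancel₀ (hne i), MvPolynomial.C_1, one_mul]
  refine ⟨π, ?_⟩
  have key : (Algebra.TensorProduct.map (AlgHom.id κ κ) π) =
      ((g.comp σ).comp (MvPolynomial.algebraTensorAlgEquiv A κ).toAlgHom) := by
    have h1 : (Algebra.TensorProduct.map (AlgHom.id κ κ) π).comp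
        (MvPolynomial.algebraTensorAlgEquiv A κ).symm.toAlgHom = g.comp σ := by
      apply MvPolynomial.algHom_ext
      intro i
      show (Algebra.TensorProduct.map (AlgHom.id κ κ) π)
        ((MvPolynomial.algebraTensorAlgEquiv A κ).symm (MvPolynomial.X i)) = g (σ (MvPolynomial.X i))
      rw [MvPolynomial.algebraTensorAlgEquiv_symm_X, Algebra.TensorProduct.map_tmul]
      show (1 : κ) ⊗ₜ[A] (MvPolynomial.aeval b (MvPolynomial.X i)) = _
      rw [MvPolynomial.aeval_X]
      show _ = g (MvPolynomial.aeval _ (MvPolynomial.X i))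
      rw [MvPolynomial.aeval_X, ← hb i, ← MvPolynomial.algebraMap_eq, ← Algebra.smul_def,
        map_smul]
    rw [← h1]
    ext x
    simp
  rw [key]
  have hfin' : (g.comp σ).toRingHom.Finite :=
    RingHom.Finite.comp hfin (RingHom.Finite.of_surjective _ hσsurj)
  exact RingHom.Finite.comp hfin' (RingHom.Finite.of_surjective _
    (MvPolynomial.algebraTensorAlgEquiv A κ).surjective)
end Groth.Agent.S7620
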