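import Groth.Statements.S7622
import Mathlib
import Groth.Agent.S2451
import Groth.Agent.Lib.helper14.PSurj


set_option autoImplicit false
universe u
open CategoryTheory CategoryTheory.Limits AlgebraicGeometry
open Variety

namespace H14S7622
open IsLocalRing

theorem main (k A : Type u) [Field k] [CommRing A] [Algebra k A]
    [IsNoetherianRing A] [IsLocalRing A] [Algebra.IsGeometricallyReduced k (ResidueField A)] :
    ∃ (n : ℕ) (I : Ideal (MvPowerSeries (Fin n) (ResidueField A)))
      (e : (MvPowerSeries (Fin n) (ResidueField A) ⧸ I) ≃ₐ[k]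
        AdicCompletion (maximalIdeal A) A),
      ∀ a : A, e (Ideal.Quotient.mk I (MvPowerSeries.C (residue A a))) -
          algebraMap A (AdicCompletion (maximalIdeal A) A) a ∈
        (maximalIdeal A).map (algebraMap A (AdicCompletion (maximalIdeal A) A)) := by
  classical
  have fg : (maximalIdeal A).FG := (isNoetherianRing_iff_ideal_fg A).mp inferInstance _
  set Ah := AdicCompletion (maximalIdeal A) A with hAh
  set J : Ideal Ah := (maximalIdeal A).map (algebraMap A Ah) with hJ
  haveI : IsAdicComplete J Ah := AdicCompletion.isAdicComplete_self (maximalIdeal A) fg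
  haveI : Algebra.FormallySmooth k (ResidueField A) := Groth.Agent.S2451.result.2 inferInstance
  let φ : A →ₐ[k] Ah ⧸ J := (Ideal.Quotient.mkₐ k J).comp (IsScalarTower.toAlgHom k A Ah)
  have hφa : ∀ a, φ a = Ideal.Quotient.mk J (algebraMap A Ah a) := fun _ => rfl
  have hφ : ∀ a ∈ maximalIdeal A, φ a = 0 := fun a ha => by
    rw [hφa, Ideal.Quotient.eq_zero_iff_mem]; exact Ideal.mem_map_of_mem _ ha
  let f₀ : ResidueField A →ₐ[k] Ah ⧸ J := Ideal.Quotient.liftₐ (maximalIdeal A) φ hφ
  have hf₀ : ∀ a, f₀ (residue A a) = φ a := fun a => rfl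
  obtain ⟨σ, hσ⟩ := Algebra.FormallySmooth.exists_mkₐ_comp_eq_of_isAdicComplete f₀
  have hσa : ∀ x, Ideal.Quotient.mk J (σ x) = f₀ x := fun x => AlgHom.congr_fun hσ x
  -- generators
  obtain ⟨n, t₀, ht₀⟩ := (Submodule.fg_iff_exists_fin_generating_family).1 fg
  let t : Fin n → Ah := fun i => algebraMap A Ah (t₀ i)
  have ht : Ideal.span (Set.range t) = J := by
    have : Set.range t = (algebraMap A Ah) '' Set.range t₀ := by
      rw [← Set.range_comp]; rfl
    rw [this, ← Ideal.map_span, hJ]
    congr 1
  have hσsurj : Function.Surjective ((Ideal.Quotient.mk J).comp σ.toRingHom) := by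
    intro y
    obtain ⟨b, rfl⟩ := Ideal.Quotient.mk_surjective y
    obtain ⟨a, ha⟩ := Ideal.Quotient.mk_surjective (AdicCompletion.evalOneₐ (maximalIdeal A) b)
    have h1 : b - algebraMap A Ah a ∈
        RingHom.ker (AdicCompletion.evalOneₐ (maximalIdeal A)).toRingHom := by
      rw [RingHom.mem_ker, map_sub]
      change AdicCompletion.evalOneₐ (maximalIdeal A) b -
        AdicCompletion.evalOneₐ (maximalIdeal A) (AdicCompletion.of (maximalIdeal A) A a) = 0
      rw [AdicCompletion.evalOneₐ_of, ha, sub_self]
    rw [AdicCompletion.ker_evalOneₐ_eq_map (maximalIdeal A) fg] at h1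
    refine ⟨residue A a, ?_⟩
    change Ideal.Quotient.mk J (σ (residue A a)) = _
    rw [hσa, hf₀, hφa]
    exact ((Ideal.Quotient.mk_eq_mk_iff_sub_mem _ _).mpr h1).symm
  obtain ⟨F, hFsurj, hFC, -⟩ := H14.PSurj.exists_surjective (Λ := ResidueField A) J n t ht
    σ.toRingHom hσsurj
  let Fk : MvPowerSeries (Fin n) (ResidueField A) →ₐ[k] Ah :=
    { F with
      commutes' := fun c => by
        change F (algebraMap k (MvPowerSeries (Fin n) (ResidueField A)) c) = _
        rw [MvPowerSeries.algebraMap_apply, hFC]
        exact σ.commutes c }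
  have hFk : ∀ x, Fk x = F x := fun _ => rfl
  refine ⟨n, RingHom.ker Fk, Ideal.quotientKerAlgEquivOfSurjective (f := Fk) hFsurj, fun a => ?_⟩
  have h2 : (Ideal.quotientKerAlgEquivOfSurjective (f := Fk) hFsurj)
      (Ideal.Quotient.mk (RingHom.ker Fk) (MvPowerSeries.C (residue A a))) = σ (residue A a) := by
    change Fk (MvPowerSeries.C (residue A a)) = _
    rw [hFk, hFC]
    rfl
  rw [h2, ← Ideal.Quotient.mk_eq_mk_iff_sub_mem, hσa, hf₀, hφa]

end H14S7622

namespace Groth.Agent.S7622

/-- Let A be a Noetherian local algebra over a field k (such as the local ring of a locally Noetherian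
k-scheme at a point) whose residue field κ is a separable extension of k, meaning geometrically
reduced over k; κ need not be algebraic over k. Then there are n ≥ 0, an ideal I of κ[[x_1, …, x_n]]
and a k-algebra isomorphism e from κ[[x_1, …, x_n]]/I onto the completion A^∧ of A at its maximal
ideal which induces the identity on residue fields: for every a in A, the value of e on the constant
power series whose value is the residue class of a is congruent to the image of a modulo the
extended maximal ideal of A^∧. -/
theorem result (k A : Type u) [Field k] [CommRing A] [Algebra k A]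
    [IsNoetherianRing A] [IsLocalRing A] [Algebra.IsGeometricallyReduced k (IsLocalRing.ResidueField A)] :
    ∃ (n : ℕ) (I : Ideal (MvPowerSeries (Fin n) (IsLocalRing.ResidueField A)))
      (e : (MvPowerSeries (Fin n) (IsLocalRing.ResidueField A) ⧸ I) ≃ₐ[k]
        AdicCompletion (IsLocalRing.maximalIdeal A) A),
      ∀ a : A, e (Ideal.Quotient.mk I (MvPowerSeries.C (IsLocalRing.residue A a))) -
          algebraMap A (AdicCompletion (IsLocalRing.maximalIdeal A) A) a ∈
        (IsLocalRing.maximalIdeal A).map (algebraMap A (AdicCompletion (IsLocalRing.maximalIdeal A) A)) := by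
  exact H14S7622.main k A

end Groth.Agent.S7622
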