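import Groth.Statements.S7627
import Mathlib
import Groth.Agent.Lib.helper7.DimSch17

set_option autoImplicit false
universe u
open CategoryTheory CategoryTheory.Limits AlgebraicGeometry
attribute [local instance] Curv2.resAlgebra
open scoped TensorProduct
open Variety

namespace Groth.Agent.S7627

/-- Let X be locally of finite type over a field k, K an extension field of k, y a point of X_K with
image x in X. Assume dim O_{X, x} = dim O_{X_K, y} and that κ(x) ⊗_k K is reduced (for instance
κ(x)/k separable or K/k separable). Then m_x O_{X_K, y} = m_y. -/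
theorem result (k : Type u) [Field k] (X : Scheme.{u}) [X.Over (Spec (CommRingCat.of k))] [LocallyOfFiniteType (X ↘ (Spec (CommRingCat.of k)))]
    (K : Type u) [Field K] [Algebra k K] (y : ↥(Curv2.bc k X K))
    (hdim : ringKrullDim ↥(X.presheaf.stalk (Curv2.bcFst k X K y)) = ringKrullDim ↥((Curv2.bc k X K).presheaf.stalk y))
    (hred : _root_.IsReduced (X.residueField (Curv2.bcFst k X K y) ⊗[k] K)) :
    Ideal.map ((Curv2.bcFst k X K).stalkMap y).hom (IsLocalRing.maximalIdeal ↥(X.presheaf.stalk (Curv2.bcFst k X K y))) =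
      IsLocalRing.maximalIdeal ↥((Curv2.bc k X K).presheaf.stalk y) := by
  letI : (Curv2.bc k X K).Over (Spec (CommRingCat.of K)) := ⟨Curv2.bcSnd k X K⟩
  haveI : LocallyOfFiniteType ((Curv2.bc k X K) ↘ Spec (CommRingCat.of K)) :=
    (MorphismProperty.pullback_snd _ _ inferInstance :
      LocallyOfFiniteType (pullback.snd (X ↘ Spec (CommRingCat.of k))
        (Spec.map (CommRingCat.ofHom (algebraMap k K)))))
  haveI : Flat (Spec.map (CommRingCat.ofHom (algebraMap k K))) :=
    Groth.Agent.Lib.helper7.TensorDim.flat_SpecMap_algebraMap_field k K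
  haveI : Flat (Curv2.bcFst k X K) :=
    (inferInstance : Flat (pullback.fst (X ↘ Spec (CommRingCat.of k))
        (Spec.map (CommRingCat.ofHom (algebraMap k K)))))
  haveI : IsLocallyNoetherian X :=
    LocallyOfFiniteType.isLocallyNoetherian (X ↘ Spec (CommRingCat.of k))
  haveI : IsLocallyNoetherian (Curv2.bc k X K) :=
    LocallyOfFiniteType.isLocallyNoetherian ((Curv2.bc k X K) ↘ Spec (CommRingCat.of K))
  obtain ⟨x, z₀, rfl⟩ : ∃ x, ∃ z₀ : (Curv2.bcFst k X K).fiber x,
      y = (Curv2.bcFst k X K).fiberι x z₀ :=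
    ⟨_, (Curv2.bcFst k X K).asFiber y, ((Curv2.bcFst k X K).fiberι_asFiber y).symm⟩
  have hx : (Curv2.bcFst k X K) ((Curv2.bcFst k X K).fiberι x z₀) = x :=
    Groth.Agent.Lib.helper7.FibStalk.apply_fiberι _ x z₀
  have hred' : _root_.IsReduced (X.residueField x ⊗[k] K) := by
    rw [hx] at hred
    exact hred
  haveI := Groth.Agent.Lib.helper7.DimSch.isReduced_fiber_bcFst k X K x hred'
  obtain ⟨b, hb⟩ := Groth.Agent.Lib.helper7.DimSch.exists_ringKrullDim_stalk_eq_nat K
    (Curv2.bc k X K) ((Curv2.bcFst k X K).fiberι x z₀)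
  exact Groth.Agent.Lib.helper7.DimSch.map_maximalIdeal_eq_of_isReduced_fiber
    (Curv2.bcFst k X K) x z₀ b hb hdim
end Groth.Agent.S7627
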