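import Groth.Statements.S7644
import Mathlib
import Groth.Agent.Lib.helper7.DimBC

set_option autoImplicit false
universe u
open CategoryTheory CategoryTheory.Limits AlgebraicGeometry
open Variety

namespace Groth.Agent.S7644

/-- If X is an irreducible scheme of positive dimension, separated over a field k, and x is a closed
point of X, then the open subscheme obtained by removing x is not proper over k. -/
theorem result (k : Type u) [Field k] (X : Scheme.{u}) [X.Over (Spec (CommRingCat.of k))]
    [IsSeparated (X ↘ (Spec (CommRingCat.of k)))] [IrreducibleSpace X] (hdim : 0 < topologicalKrullDim X)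
    (x : X) (hx : IsClosed ({x} : Set X)) :
    ¬ IsProper (Scheme.Opens.ι (⟨({x} : Set X)ᶜ, hx.isOpen_compl⟩ : X.Opens) ≫ (X ↘ (Spec (CommRingCat.of k)))) := by
  intro hprop
  set U : X.Opens := ⟨({x} : Set X)ᶜ, hx.isOpen_compl⟩ with hU
  haveI : IsProper (U.ι ≫ (X ↘ (Spec (CommRingCat.of k)))) := hprop
  haveI : IsProper U.ι := IsProper.of_comp U.ι (X ↘ (Spec (CommRingCat.of k)))
  have hclosed : IsClosed (Set.range U.ι.base) := U.ι.isClosedMap.isClosed_range
  have hrange : Set.range U.ι.base = ({x} : Set X)ᶜ := by
    rw [Scheme.Opens.range_ι]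
    rfl
  rw [hrange] at hclosed
  have hopen : IsOpen ({x} : Set X) := by
    rw [← isClosed_compl_iff]; exact hclosed
  have hall : ∀ y : X, y = x := by
    intro y
    have hdense : Dense ({x} : Set X) := hopen.dense ⟨x, rfl⟩
    have h1 : y ∈ closure ({x} : Set X) := hdense y
    rw [hx.closure_eq] at h1
    exact h1
  haveI : Subsingleton X := ⟨fun a b => (hall a).trans (hall b).symm⟩
  have h0 : topologicalKrullDim X ≤ 0 := by
    rw [Groth.Agent.Lib.helper7.DimBC.topologicalKrullDim_eq_krullDim]
    exact Order.krullDim_nonpos_of_subsingleton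
  exact absurd hdim (not_lt.mpr h0)

end Groth.Agent.S7644
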