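import Groth.Statements.S7658
import Mathlib

set_option autoImplicit false
universe u
open CategoryTheory CategoryTheory.Limits AlgebraicGeometry
open Variety

namespace Groth.Agent.S7658

section Helpers

open CategoryTheory AlgebraicGeometry CategoryTheory.Limits

theorem comp_of_openEmbedding {P X : Type*} [TopologicalSpace P] [TopologicalSpace X] (g : P → X)
    (hg : Topology.IsOpenEmbedding g) (η : P)
    (hη : closure ({η} : Set P) ∈ irreducibleComponents P) :
    closure ({g η} : Set X) ∈ irreducibleComponents X := by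
  refine ⟨isIrreducible_singleton.closure, ?_⟩
  intro T hT hle
  -- S = g ⁻¹' T
  have hηT : g η ∈ T := hle (subset_closure rfl)
  have hS : IsIrreducible (g ⁻¹' T) := ⟨⟨η, hηT⟩, hT.isPreirreducible.preimage hg⟩
  have h1 : closure (g ⁻¹' T) ≤ closure ({η} : Set P) := by
    refine hη.2 hS.closure ?_
    exact closure_minimal (Set.singleton_subset_iff.mpr (subset_closure hηT)) isClosed_closure
  have h2 : T ⊆ closure (T ∩ Set.range g) :=
    subset_closure_inter_of_isPreirreducible_of_isOpen hT.isPreirreducible hg.isOpen_range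
      ⟨g η, hηT, η, rfl⟩
  refine h2.trans (closure_minimal ?_ isClosed_closure)
  rintro _ ⟨ht, p, rfl⟩
  have hp : p ∈ closure ({η} : Set P) := h1 (subset_closure ht)
  have := image_closure_subset_closure_image hg.continuous (Set.mem_image_of_mem g hp)
  simpa using this

theorem eq_univ_of_generic {P : Type*} [TopologicalSpace P] [QuasiSober P] (Z : Set P)
    (hZ : IsClosed Z)
    (h : ∀ η : P, closure ({η} : Set P) ∈ irreducibleComponents P → η ∈ Z) : Z = Set.univ := by
  rw [Set.eq_univ_iff_forall]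
  intro p
  have hc : irreducibleComponent p ∈ irreducibleComponents P := irreducibleComponent_mem_irreducibleComponents p
  have hirr : IsIrreducible (irreducibleComponent p) := isIrreducible_irreducibleComponent
  have hcl : IsClosed (irreducibleComponent p) := isClosed_irreducibleComponent
  obtain ⟨ξ, hξ⟩ := QuasiSober.sober hirr hcl
  have h1 : closure ({ξ} : Set P) = irreducibleComponent p := hξ.def
  have h2 : ξ ∈ Z := h ξ (by rw [h1]; exact hc)
  have h3 : irreducibleComponent p ⊆ Z := by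
    rw [← h1]
    exact closure_minimal (Set.singleton_subset_iff.mpr h2) hZ
  exact h3 mem_irreducibleComponent


theorem inj_of {X Y : Scheme.{u}} (f : X ⟶ Y) [IsSeparated f]
    (hinj : ∀ ξ ξ' : X, closure ({ξ} : Set X) ∈ irreducibleComponents (X : Type u) →
      closure ({ξ'} : Set X) ∈ irreducibleComponents (X : Type u) → f.base ξ = f.base ξ' → ξ = ξ')
    (U1 U2 : X.Opens) [IsOpenImmersion (U1.ι ≫ f)] [IsOpenImmersion (U2.ι ≫ f)]
    (x1 : U1) (x2 : U2) (h : f (U1.ι x1) = f (U2.ι x2)) : U1.ι x1 = U2.ι x2 := by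
  have hd1 : pullback.mapDesc U1.ι U2.ι f ≫ pullback.fst (U1.ι ≫ f) (U2.ι ≫ f) =
      pullback.fst U1.ι U2.ι := (pullback.lift_fst _ _ _).trans (Category.comp_id _)
  have hd2 : pullback.mapDesc U1.ι U2.ι f ≫ pullback.snd (U1.ι ≫ f) (U2.ι ≫ f) =
      pullback.snd U1.ι U2.ι := (pullback.lift_snd _ _ _).trans (Category.comp_id _)
  haveI : IsOpenImmersion (pullback.mapDesc U1.ι U2.ι f ≫ pullback.fst (U1.ι ≫ f) (U2.ι ≫ f)) := by
    rw [hd1]; infer_instance
  haveI : IsOpenImmersion (pullback.mapDesc U1.ι U2.ι f) :=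
    IsOpenImmersion.of_comp _ (pullback.fst (U1.ι ≫ f) (U2.ι ≫ f))
  have hclosed : IsClosed (Set.range (pullback.mapDesc U1.ι U2.ι f)) :=
    (pullback.mapDesc U1.ι U2.ι f).isClosedEmbedding.isClosed_range
  have hrange : Set.range (pullback.mapDesc U1.ι U2.ι f) = Set.univ := by
    apply eq_univ_of_generic _ hclosed
    intro η hη
    have e1 := comp_of_openEmbedding (pullback.fst (U1.ι ≫ f) (U2.ι ≫ f) ≫ U1.ι)
      (pullback.fst (U1.ι ≫ f) (U2.ι ≫ f) ≫ U1.ι).isOpenEmbedding η hη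
    have e2 := comp_of_openEmbedding (pullback.snd (U1.ι ≫ f) (U2.ι ≫ f) ≫ U2.ι)
      (pullback.snd (U1.ι ≫ f) (U2.ι ≫ f) ≫ U2.ι).isOpenEmbedding η hη
    have hf : f ((pullback.fst (U1.ι ≫ f) (U2.ι ≫ f) ≫ U1.ι) η) =
        f ((pullback.snd (U1.ι ≫ f) (U2.ι ≫ f) ≫ U2.ι) η) := by
      rw [← Scheme.Hom.comp_apply, ← Scheme.Hom.comp_apply, Category.assoc, Category.assoc,
        pullback.condition]
    have hξ := hinj _ _ e1 e2 hf
    obtain ⟨z, hz1, hz2⟩ := Scheme.Pullback.exists_preimage_pullback (f := U1.ι) (g := U2.ι)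
      (pullback.fst (U1.ι ≫ f) (U2.ι ≫ f) η) (pullback.snd (U1.ι ≫ f) (U2.ι ≫ f) η)
      (by simpa using hξ)
    refine ⟨z, ?_⟩
    apply (pullback.fst (U1.ι ≫ f) (U2.ι ≫ f)).isOpenEmbedding.injective
    rw [← Scheme.Hom.comp_apply, hd1, hz1]
  obtain ⟨q, hq1, hq2⟩ := Scheme.Pullback.exists_preimage_pullback (f := U1.ι ≫ f)
    (g := U2.ι ≫ f) x1 x2 (by simpa using h)
  obtain ⟨z, rfl⟩ : q ∈ Set.range (pullback.mapDesc U1.ι U2.ι f) := by rw [hrange]; trivial
  have : U1.ι (pullback.fst U1.ι U2.ι z) = U2.ι (pullback.snd U1.ι U2.ι z) := by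
    rw [← Scheme.Hom.comp_apply, ← Scheme.Hom.comp_apply, pullback.condition]
  rw [← hd1, ← hd2, Scheme.Hom.comp_apply, Scheme.Hom.comp_apply, hq1, hq2] at this
  exact this

theorem main {X Y : Scheme.{u}} (f : X ⟶ Y) [IsSeparated f]
    (hloc : ∀ x : X, ∃ U : X.Opens, x ∈ U ∧ IsOpenImmersion (U.ι ≫ f))
    (hinj : ∀ ξ ξ' : X, closure ({ξ} : Set X) ∈ irreducibleComponents (X : Type u) →
      closure ({ξ'} : Set X) ∈ irreducibleComponents (X : Type u) → f.base ξ = f.base ξ' → ξ = ξ') :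
    IsOpenImmersion f := by
  have hinjf : Function.Injective f := by
    intro a b hab
    obtain ⟨U1, ha, h1⟩ := hloc a
    obtain ⟨U2, hb, h2⟩ := hloc b
    exact inj_of f hinj U1 U2 ⟨a, ha⟩ ⟨b, hb⟩ hab
  rw [isOpenImmersion_iff_stalk]
  refine ⟨?_, ?_⟩
  · refine Topology.IsOpenEmbedding.of_continuous_injective_isOpenMap f.continuous hinjf ?_
    intro O hO
    rw [isOpen_iff_forall_mem_open]
    rintro _ ⟨x, hx, rfl⟩
    obtain ⟨U, hxU, hU⟩ := hloc x
    refine ⟨(U.ι ≫ f) '' (U.ι ⁻¹' O), ?_, ?_, ?_⟩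
    · rintro _ ⟨y, hy, rfl⟩
      exact ⟨U.ι y, hy, by simp⟩
    · exact (U.ι ≫ f).isOpenEmbedding.isOpenMap _ (hO.preimage U.ι.continuous)
    · exact ⟨⟨x, hxU⟩, hx, rfl⟩
  · intro x
    obtain ⟨U, hxU, hU⟩ := hloc x
    have hcomp := Scheme.Hom.stalkMap_comp U.ι f (⟨x, hxU⟩ : U.toScheme)
    haveI := hU
    haveI h3 : IsIso ((U.ι ≫ f).stalkMap (⟨x, hxU⟩ : U.toScheme)) := inferInstance
    haveI : IsIso (f.stalkMap (U.ι (⟨x, hxU⟩ : U.toScheme)) ≫
        U.ι.stalkMap (⟨x, hxU⟩ : U.toScheme)) := by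
      rw [← hcomp]; exact h3
    exact IsIso.of_isIso_comp_right (f.stalkMap (U.ι (⟨x, hxU⟩ : U.toScheme)))
      (U.ι.stalkMap (⟨x, hxU⟩ : U.toScheme))

end Helpers

/-- A separated morphism of schemes f : X → Y such that X has an open covering on whose members f
restricts to open immersions, and such that no two distinct generic points of irreducible components
of X have the same image under f, is an open immersion. -/
theorem result {X Y : Scheme.{u}}
    (f : X ⟶ Y) [IsSeparated f]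
    (hloc : ∀ x : X, ∃ U : X.Opens, x ∈ U ∧ IsOpenImmersion (U.ι ≫ f))
    (hinj : ∀ ξ ξ' : X, closure ({ξ} : Set X) ∈ irreducibleComponents (X : Type u) → closure ({ξ'} : Set X) ∈ irreducibleComponents (X : Type u) →
      f.base ξ = f.base ξ' → ξ = ξ') :
    IsOpenImmersion f := by
  exact main f hloc hinj

end Groth.Agent.S7658
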