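import Groth.Statements.S7661

set_option autoImplicit false
universe u
open CategoryTheory CategoryTheory.Limits AlgebraicGeometry
open Variety

namespace Groth.Agent.S7661

/-- Let A be a ring, I an ideal, p_1, …, p_r prime ideals with I ⊄ p_i for all i, and let f̄ ∈ A/I. Then
f̄ lifts to an element f ∈ A with f ∉ p_i for all i. -/
theorem result (A : Type u) [CommRing A] (I : Ideal A)
    (s : Finset (Ideal A)) (hs : ∀ p ∈ s, p.IsPrime) (hI : ∀ p ∈ s, ¬ I ≤ p) (fbar : A ⧸ I) :
    ∃ f : A, Ideal.Quotient.mk I f = fbar ∧ ∀ p ∈ s, f ∉ p := by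
  classical
  induction s using Finset.strongInduction with
  | H s ih =>
    rcases s.eq_empty_or_nonempty with rfl | hne
    · obtain ⟨f, hf⟩ := Ideal.Quotient.mk_surjective fbar
      exact ⟨f, hf, by simp⟩
    · obtain ⟨q, hq, hqmin⟩ := s.exists_minimal hne
      obtain ⟨f, hf, hfp⟩ := ih (s.erase q) (Finset.erase_ssubset hq)
        (fun p hp => hs p (Finset.mem_of_mem_erase hp))
        (fun p hp => hI p (Finset.mem_of_mem_erase hp))
      by_cases hfq : f ∈ q
      · have hqprime := hs q hq
        have hnle : ¬ (I * ∏ p ∈ s.erase q, p) ≤ q := by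
          intro h
          rcases (Ideal.IsPrime.mul_le hqprime).1 h with h1 | h2
          · exact hI q hq h1
          · obtain ⟨p, hp, hpq⟩ := (Ideal.IsPrime.prod_le hqprime).1 h2
            have hps : p ∈ s := Finset.mem_of_mem_erase hp
            have hne' : p ≠ q := Finset.ne_of_mem_erase hp
            exact hne' (le_antisymm hpq (hqmin hps hpq))
        obtain ⟨x, hx, hxq⟩ := SetLike.not_le_iff_exists.1 hnle
        have hxI : x ∈ I := Ideal.mul_le_left hx
        refine ⟨f + x, ?_, ?_⟩
        · rw [map_add, hf, Ideal.Quotient.eq_zero_iff_mem.2 hxI, add_zero]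
        · intro p hp hfx
          by_cases hpq : p = q
          · subst hpq
            exact hxq ((Ideal.add_mem_iff_right _ hfq).1 hfx)
          · have hpe : p ∈ s.erase q := Finset.mem_erase.2 ⟨hpq, hp⟩
            have hxp : x ∈ p := by
              have : x ∈ ∏ p ∈ s.erase q, p := Ideal.mul_le_right hx
              exact (Ideal.prod_le_inf.trans (Finset.inf_le hpe)) this
            exact hfp p hpe ((Ideal.add_mem_iff_left _ hxp).1 hfx)
      · refine ⟨f, hf, ?_⟩
        intro p hp
        by_cases hpq : p = q
        · subst hpq; exact hfq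
        · exact hfp p (Finset.mem_erase.2 ⟨hpq, hp⟩)

end Groth.Agent.S7661
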