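import Groth.Statements.S7666
import Mathlib.RingTheory.KrullDimension.Basic
import Mathlib.RingTheory.Finiteness.Ideal
import Mathlib.RingTheory.Localization.AtPrime.Basic
import Mathlib.Tactic

set_option autoImplicit false
universe u
open CategoryTheory CategoryTheory.Limits AlgebraicGeometry
open Variety

namespace Groth.Agent.S7666

/-- In a one-dimensional Noetherian local ring, an element `d` killed, for every minimal prime `p`,
by some element outside `p`, is killed by a power of the maximal ideal. -/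
lemma exists_pow_mul_eq_zero (A : Type*) [CommRing A] [IsLocalRing A] [IsNoetherianRing A]
    (hdim : ringKrullDim A = 1) (d : A)
    (hd : ∀ p ∈ minimalPrimes A, ∃ c : A, c ∉ p ∧ c * d = 0) :
    ∃ N : ℕ, ∀ x ∈ IsLocalRing.maximalIdeal A ^ N, x * d = 0 := by
  set J : Ideal A := (Ideal.span {d}).annihilator with hJ
  have hmemJ : ∀ x : A, x ∈ J ↔ x * d = 0 := by
    intro x
    rw [hJ, Submodule.mem_annihilator_span_singleton, smul_eq_mul]
  have hdim1 : Ring.KrullDimLE 1 A := Ring.krullDimLE_iff.2 (by rw [hdim]; rfl)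
  have hprimes := Ring.krullDimLE_one_iff.1 hdim1
  have hle : IsLocalRing.maximalIdeal A ≤ J.radical := by
    rw [Ideal.radical_eq_sInf]
    refine le_sInf ?_
    rintro q ⟨hJq, hq⟩
    rcases hprimes q hq with hmin | hmax
    · exfalso
      obtain ⟨c, hc, hcd⟩ := hd q hmin
      exact hc (hJq ((hmemJ c).2 hcd))
    · rw [IsLocalRing.eq_maximalIdeal hmax]
  obtain ⟨N, hN⟩ := Ideal.exists_radical_pow_le_of_fg J (IsNoetherian.noetherian _)
  refine ⟨N, fun x hx => (hmemJ x).1 (hN (Ideal.pow_right_mono hle N hx))⟩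


/-- Let A be a one-dimensional Noetherian local ring and L = ∏ A_p, the product over the minimal primes
of A. If a_1, a_2 ∈ m_A have the same image in L, then a_1 and a_2 have equal n-th powers for some
positive integer n. -/
theorem result (A : Type u) [CommRing A]
    [IsLocalRing A] [IsNoetherianRing A] (hdim : ringKrullDim A = 1)
    (a₁ a₂ : A) (h₁ : a₁ ∈ IsLocalRing.maximalIdeal A) (h₂ : a₂ ∈ IsLocalRing.maximalIdeal A)
    (heq : ∀ p : {p : PrimeSpectrum A // p.asIdeal ∈ minimalPrimes A},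
      algebraMap A (Localization.AtPrime p.1.asIdeal) a₁ = algebraMap A (Localization.AtPrime p.1.asIdeal) a₂) :
    ∃ n : ℕ, 0 < n ∧ a₁ ^ n = a₂ ^ n := by
  set m := IsLocalRing.maximalIdeal A with hm
  have hd : ∀ p ∈ minimalPrimes A, ∃ c : A, c ∉ p ∧ c * (a₁ - a₂) = 0 := by
    intro p hp
    have hpp : p.IsPrime := hp.1.1
    have h := heq ⟨⟨p, hpp⟩, hp⟩
    obtain ⟨c, hc⟩ := (IsLocalization.eq_iff_exists p.primeCompl (Localization.AtPrime p)).1 h
    exact ⟨c, c.2, by rw [mul_sub, hc, sub_self]⟩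
  obtain ⟨N, hN⟩ := exists_pow_mul_eq_zero A hdim (a₁ - a₂) hd
  refine ⟨N + 1, Nat.succ_pos N, ?_⟩
  have hgeom := Commute.geom_sum₂_mul (Commute.all a₁ a₂) (N + 1)
  have hmem : ∑ i ∈ Finset.range (N + 1), a₁ ^ i * a₂ ^ (N + 1 - 1 - i) ∈ m ^ N := by
    refine Ideal.sum_mem _ fun i hi => ?_
    have hi' : i ≤ N := Nat.lt_succ_iff.1 (Finset.mem_range.1 hi)
    have hN' : m ^ N = m ^ i * m ^ (N + 1 - 1 - i) := by
      rw [← pow_add]; congr 1; omega
    rw [hN']
    exact Ideal.mul_mem_mul (Ideal.pow_mem_pow h₁ i) (Ideal.pow_mem_pow h₂ _)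
  have := hN _ hmem
  rw [hgeom] at this
  exact sub_eq_zero.1 this

end Groth.Agent.S7666
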