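import Groth.Statements.S7668
import Mathlib.RingTheory.Localization.Ideal
import Mathlib.RingTheory.Ideal.Operations
import Mathlib.Tactic

set_option autoImplicit false
universe u
open CategoryTheory CategoryTheory.Limits AlgebraicGeometry
open Variety

namespace Groth.Agent.S7668

/-- Let A be a ring, p_1, …, p_r primes of A and S = A ∖ ⋃ p_i. Then S is a multiplicative subset, S⁻¹A
is semi-local, and contraction to A is a bijection from the maximal ideals of S⁻¹A onto the maximal
elements of {p_1, …, p_r}. -/
theorem result (A : Type u) [CommRing A]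
    (r : ℕ) (p : Fin r → PrimeSpectrum A) :
    Finite (MaximalSpectrum (Localization (⨅ i, (p i).asIdeal.primeCompl))) ∧
      Set.BijOn (fun m : Ideal (Localization (⨅ i, (p i).asIdeal.primeCompl)) =>
          m.comap (algebraMap A (Localization (⨅ i, (p i).asIdeal.primeCompl))))
        {m | m.IsMaximal}
        {q | q ∈ Set.range (fun i => (p i).asIdeal) ∧
          ∀ j, q ≤ (p j).asIdeal → q = (p j).asIdeal} := by
  classical
  set S : Submonoid A := ⨅ i, (p i).asIdeal.primeCompl with hS
  set L := Localization S with hL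
  have hmemS : ∀ x : A, x ∈ S ↔ ∀ i, x ∉ (p i).asIdeal := by
    intro x
    simp only [hS, Submonoid.mem_iInf]
    rfl
  -- disjointness from S
  have hdisj_p : ∀ i, Disjoint (S : Set A) ((p i).asIdeal : Set A) := by
    intro i
    rw [Set.disjoint_left]
    intro x hx hxp
    exact (hmemS x).1 hx i hxp
  have hdisj_le : ∀ (q : Ideal A) (i : Fin r), q ≤ (p i).asIdeal → Disjoint (S : Set A) (q : Set A) := by
    intro q i hq
    exact (hdisj_p i).mono_right hq
  have hle_of_disj : ∀ q : Ideal A, q.IsPrime → Disjoint (S : Set A) (q : Set A) →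
      ∃ i, q ≤ (p i).asIdeal := by
    intro q _ hq
    have hsub : (q : Set A) ⊆ ⋃ i ∈ ((Finset.univ : Finset (Fin r)) : Set (Fin r)), ((p i).asIdeal : Set A) := by
      intro x hx
      by_contra hcon
      have : x ∈ S := by
        rw [hmemS]
        intro i hi
        apply hcon
        simp only [Finset.coe_univ, Set.mem_univ, Set.iUnion_true, Set.mem_iUnion]
        exact ⟨i, hi⟩
      exact Set.disjoint_left.1 hq this hx
    by_cases hr : r = 0
    · subst hr
      exfalso
      have h0 : (0 : A) ∈ S := by rw [hmemS]; intro i; exact i.elim0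
      exact Set.disjoint_left.1 hq h0 q.zero_mem
    · have i0 : Fin r := ⟨0, Nat.pos_of_ne_zero hr⟩
      obtain ⟨i, _, hi⟩ := (Ideal.subset_union_prime (R := A) (s := Finset.univ)
        (f := fun i => (p i).asIdeal) i0 i0 (fun i _ _ _ => (p i).isPrime)).1 hsub
      exact ⟨i, hi⟩
  -- the map
  set f : Ideal L → Ideal A := fun m => m.comap (algebraMap A L) with hf
  have hmaps : Set.MapsTo f {m | m.IsMaximal}
      {q | q ∈ Set.range (fun i => (p i).asIdeal) ∧ ∀ j, q ≤ (p j).asIdeal → q = (p j).asIdeal} := by
    intro m hm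
    have hm' : m.IsMaximal := hm
    have hmprime : m.IsPrime := hm'.isPrime
    obtain ⟨hqprime, hqdisj⟩ := (IsLocalization.isPrime_iff_isPrime_disjoint S L m).1 hmprime
    obtain ⟨i, hi⟩ := hle_of_disj _ hqprime hqdisj
    have key : ∀ j, f m ≤ (p j).asIdeal → f m = (p j).asIdeal := by
      intro j hj
      have hpj : ((p j).asIdeal.map (algebraMap A L)).IsPrime :=
        IsLocalization.isPrime_of_isPrime_disjoint S L _ (p j).isPrime (hdisj_p j)
      have hle : m ≤ (p j).asIdeal.map (algebraMap A L) := by
        rw [← IsLocalization.map_under S L m]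
        exact Ideal.map_mono hj
      have heq : m = (p j).asIdeal.map (algebraMap A L) := hm'.eq_of_le hpj.ne_top hle
      change m.comap (algebraMap A L) = _
      rw [heq]
      exact IsLocalization.under_map_of_isPrime_disjoint S L (p j).isPrime (hdisj_p j)
    exact ⟨⟨i, (key i hi).symm⟩, key⟩
  have hinj : Set.InjOn f {m | m.IsMaximal} := by
    intro m₁ _ m₂ _ h
    have h1 := IsLocalization.map_under S L m₁
    have h2 := IsLocalization.map_under S L m₂
    rw [← h1, ← h2]
    exact congrArg (Ideal.map (algebraMap A L)) h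
  have hsurj : Set.SurjOn f {m | m.IsMaximal}
      {q | q ∈ Set.range (fun i => (p i).asIdeal) ∧ ∀ j, q ≤ (p j).asIdeal → q = (p j).asIdeal} := by
    rintro q ⟨⟨i, rfl⟩, hmax⟩
    have hpi : ((p i).asIdeal.map (algebraMap A L)).IsPrime :=
      IsLocalization.isPrime_of_isPrime_disjoint S L _ (p i).isPrime (hdisj_p i)
    obtain ⟨m, hm, hle⟩ := Ideal.exists_le_maximal _ hpi.ne_top
    refine ⟨m, hm, ?_⟩
    obtain ⟨hqprime, hqdisj⟩ := (IsLocalization.isPrime_iff_isPrime_disjoint S L m).1 hm.isPrime
    obtain ⟨j, hj⟩ := hle_of_disj _ hqprime hqdisj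
    have h1 : (p i).asIdeal ≤ f m := by
      have := Ideal.comap_mono (f := algebraMap A L) hle
      rw [show Ideal.comap (algebraMap A L) ((p i).asIdeal.map (algebraMap A L)) = (p i).asIdeal from
        IsLocalization.under_map_of_isPrime_disjoint S L (p i).isPrime (hdisj_p i)] at this
      exact this
    have h2 : (p i).asIdeal = (p j).asIdeal := hmax j (h1.trans hj)
    exact le_antisymm (by change f m ≤ (p i).asIdeal; rw [h2]; exact hj) h1
  refine ⟨?_, hmaps, hinj, hsurj⟩
  have hfin : {m : Ideal L | m.IsMaximal}.Finite :=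
    Set.Finite.of_injOn (fun m hm => (hmaps hm).1) hinj (Set.finite_range _)
  have : Finite {m : Ideal L // m.IsMaximal} := hfin
  exact Finite.of_injective (fun m : MaximalSpectrum L => (⟨m.asIdeal, m.isMaximal⟩ : {m : Ideal L // m.IsMaximal}))
    (fun a b h => MaximalSpectrum.ext (congrArg Subtype.val h))

end Groth.Agent.S7668
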