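import Groth.Statements.S8256
import Mathlib
import Groth.Prelude.Def_AffAlg
import Groth.Prelude.Def_RelSpec
import Groth.Agent.S3571
import Groth.Agent.S3569

set_option autoImplicit false
universe u
open CategoryTheory CategoryTheory.Limits AlgebraicGeometry Opposite TopologicalSpace
open EGA2

namespace Groth.Agent.S8256aux
open CategoryTheory CategoryTheory.Limits AlgebraicGeometry Opposite TopologicalSpace

variable {S : Scheme.{u}}

/-- the induced homomorphism of direct-image algebras. -/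
noncomputable def dHom {U V : Scheme.{u}} (u : U ⟶ S) (v : V ⟶ S) [QuasiCompact u] [QuasiSeparated u]
    [QuasiCompact v] [QuasiSeparated v] (h : V ⟶ U) (w : h ≫ u = v) :
    RelSpec.QCAlg.directImage u ⟶ RelSpec.QCAlg.directImage v :=
  ⟨AffAlg.algHom u v h w, AffAlg.algHom_comm u v h w⟩

theorem dHom_congr {U V : Scheme.{u}} (u : U ⟶ S) (v : V ⟶ S) [QuasiCompact u] [QuasiSeparated u]
    [QuasiCompact v] [QuasiSeparated v] (h h' : V ⟶ U) (w : h ≫ u = v) (w' : h' ≫ u = v)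
    (e : h = h') : dHom u v h w = dHom u v h' w' := by
  subst e; rfl

theorem dHom_comp {U V T : Scheme.{u}} (u : U ⟶ S) (v : V ⟶ S) (t : T ⟶ S)
    [QuasiCompact u] [QuasiSeparated u] [QuasiCompact v] [QuasiSeparated v]
    [QuasiCompact t] [QuasiSeparated t] (h : V ⟶ U) (w : h ≫ u = v) (h' : T ⟶ V) (w' : h' ≫ v = t)
    (w3 : (h' ≫ h) ≫ u = t) :
    dHom u v h w ≫ dHom v t h' w' = dHom u t (h' ≫ h) w3 := by
  apply RelSpec.QCAlg.hom_ext
  change AffAlg.algHom u v h w ≫ AffAlg.algHom v t h' w' = AffAlg.algHom u t (h' ≫ h) w3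
  ext W : 2
  · have e1 : v ⁻¹ᵁ W ≤ h ⁻¹ᵁ u ⁻¹ᵁ W := by subst w; exact le_rfl
    have e2 : t ⁻¹ᵁ W ≤ h' ⁻¹ᵁ v ⁻¹ᵁ W := by subst w'; exact le_rfl
    have e3 : t ⁻¹ᵁ W ≤ (h' ≫ h) ⁻¹ᵁ u ⁻¹ᵁ W := by subst w' w; exact le_rfl
    rw [NatTrans.comp_app, S3569aux.algHom_app u v h w W e1, S3569aux.algHom_app v t h' w' W e2,
      S3569aux.algHom_app u t (h' ≫ h) w3 W e3, Scheme.Hom.appLE_comp_appLE]

theorem dHom_injective {U V : Scheme.{u}} (u : U ⟶ S) (v : V ⟶ S) [IsAffineHom u]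
    [QuasiCompact v] [QuasiSeparated v] (h h' : V ⟶ U) (w : h ≫ u = v) (w' : h' ≫ u = v)
    (e : dHom u v h w = dHom u v h' w') : h = h' := by
  have e1 : AffAlg.algHom u v h w = AffAlg.algHom u v h' w' := congrArg (fun k => k.hom) e
  have := S3569aux.inj u v (a₁ := ⟨h, w⟩) (a₂ := ⟨h', w'⟩) (Subtype.ext e1)
  exact congrArg Subtype.val this

theorem dHom_surj {U V : Scheme.{u}} (u : U ⟶ S) (v : V ⟶ S) [IsAffineHom u]
    [QuasiCompact v] [QuasiSeparated v] (b : RelSpec.QCAlg.directImage u ⟶ RelSpec.QCAlg.directImage v) :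
    ∃ (h : V ⟶ U) (w : h ≫ u = v), dHom u v h w = b := by
  obtain ⟨h, hh⟩ := S3569aux.surj_aux u v b.hom b.comm
  refine ⟨h.1, h.2, ?_⟩
  apply RelSpec.QCAlg.hom_ext
  exact congrArg Subtype.val hh

variable (T : RelSpec.QCAlg S)

instance isIso_gammaMap : IsIso T.gammaMap := by
  have hi1 : S3571aux.gSheaf T ≫ inv (S3571aux.gSheaf T) = 𝟙 _ := IsIso.hom_inv_id _
  have hi2 : inv (S3571aux.gSheaf T) ≫ S3571aux.gSheaf T = 𝟙 _ := IsIso.inv_hom_id _
  exact ⟨⟨(inv (S3571aux.gSheaf T)).hom, congrArg (fun k => k.hom) hi1,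
    congrArg (fun k => k.hom) hi2⟩⟩

/-- the inverse presheaf map. -/
noncomputable def γi : T.presheaf ⟶ T.π.base _* T.spec.presheaf := inv T.gammaMap

theorem γi_comm : T.str ≫ γi T = T.π.c := by
  unfold γi
  rw [← T.π_c_gammaMap, Category.assoc, IsIso.hom_inv_id, Category.comp_id]

/-- inverse of `gammaHom`. -/
noncomputable def γinv : T ⟶ RelSpec.QCAlg.directImage T.π := ⟨γi T, γi_comm T⟩

theorem γ_γinv : T.gammaHom ≫ γinv T = 𝟙 _ := by
  apply RelSpec.QCAlg.hom_ext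
  change T.gammaMap ≫ γi T = 𝟙 _
  unfold γi
  exact IsIso.hom_inv_id _

theorem γinv_γ : γinv T ≫ T.gammaHom = 𝟙 _ := by
  apply RelSpec.QCAlg.hom_ext
  change γi T ≫ T.gammaMap = 𝟙 _
  unfold γi
  exact IsIso.inv_hom_id _

section main
variable {X X' Y Z : Scheme.{u}} (g : Y ⟶ S) [IsAffineHom g]
    (f : X ⟶ Y) [IsAffineHom f] (f' : X' ⟶ Y) [IsAffineHom f'] (p : Z ⟶ X) (p' : Z ⟶ X') [IsAffineHom p]
    (hZ : IsPullback p p' f f')

omit [IsAffineHom g] [IsAffineHom f] [IsAffineHom f'] [IsAffineHom p] in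
include hZ in
theorem w4 : p' ≫ f' ≫ g = p ≫ f ≫ g :=
  (Category.assoc p' f' g).symm.trans ((congrArg (· ≫ g) hZ.w.symm).trans (Category.assoc p f g))

include hZ in
theorem key (T : RelSpec.QCAlg S) (a : RelSpec.QCAlg.directImage (f ≫ g) ⟶ T)
    (a' : RelSpec.QCAlg.directImage (f' ≫ g) ⟶ T)
    (hcomm : dHom g (f ≫ g) f rfl ≫ a = dHom g (f' ≫ g) f' rfl ≫ a') :
    ∃ m : RelSpec.QCAlg.directImage (p ≫ f ≫ g) ⟶ T,
      dHom (f ≫ g) (p ≫ f ≫ g) p rfl ≫ m = a ∧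
      dHom (f' ≫ g) (p ≫ f ≫ g) p' (w4 g f f' p p' hZ) ≫ m = a' ∧
      ∀ m' : RelSpec.QCAlg.directImage (p ≫ f ≫ g) ⟶ T,
        dHom (f ≫ g) (p ≫ f ≫ g) p rfl ≫ m' = a →
        dHom (f' ≫ g) (p ≫ f ≫ g) p' (w4 g f f' p p' hZ) ≫ m' = a' → m' = m := by
  obtain ⟨x, wx, hx⟩ := dHom_surj (f ≫ g) T.π (a ≫ γinv T)
  obtain ⟨x', wx', hx'⟩ := dHom_surj (f' ≫ g) T.π (a' ≫ γinv T)
  have wxf : (x ≫ f) ≫ g = T.π := by rw [Category.assoc]; exact wx
  have wxf' : (x' ≫ f') ≫ g = T.π := by rw [Category.assoc]; exact wx'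
  have hxx : x ≫ f = x' ≫ f' := by
    apply dHom_injective g T.π (x ≫ f) (x' ≫ f') wxf wxf'
    rw [← dHom_comp g (f ≫ g) T.π f rfl x wx wxf, ← dHom_comp g (f' ≫ g) T.π f' rfl x' wx' wxf',
      hx, hx', ← Category.assoc, ← Category.assoc, hcomm]
  let z : T.spec ⟶ Z := hZ.lift x x' hxx
  have hzp : z ≫ p = x := hZ.lift_fst x x' hxx
  have hzp' : z ≫ p' = x' := hZ.lift_snd x x' hxx
  have wz : z ≫ p ≫ f ≫ g = T.π := by rw [← Category.assoc, hzp]; exact wx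
  have wzp : (z ≫ p) ≫ f ≫ g = T.π := by rw [hzp]; exact wx
  have wzp' : (z ≫ p') ≫ f' ≫ g = T.π := by rw [hzp']; exact wx'
  refine ⟨dHom (p ≫ f ≫ g) T.π z wz ≫ T.gammaHom, ?_, ?_, ?_⟩
  · rw [← Category.assoc, dHom_comp (f ≫ g) (p ≫ f ≫ g) T.π p rfl z wz wzp,
      dHom_congr (f ≫ g) T.π (z ≫ p) x wzp wx hzp, hx, Category.assoc, γinv_γ, Category.comp_id]
  · rw [← Category.assoc, dHom_comp (f' ≫ g) (p ≫ f ≫ g) T.π p' (w4 g f f' p p' hZ) z wz wzp',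
      dHom_congr (f' ≫ g) T.π (z ≫ p') x' wzp' wx' hzp', hx', Category.assoc, γinv_γ,
      Category.comp_id]
  · intro m' h1 h2
    obtain ⟨z', wz', hz'⟩ := dHom_surj (p ≫ f ≫ g) T.π (m' ≫ γinv T)
    have wz'p : (z' ≫ p) ≫ f ≫ g = T.π := by rw [Category.assoc]; exact wz'
    have wz'p' : (z' ≫ p') ≫ f' ≫ g = T.π := by
      rw [Category.assoc, w4 g f f' p p' hZ]; exact wz'
    have e1 : z' ≫ p = x := by
      apply dHom_injective (f ≫ g) T.π (z' ≫ p) x wz'p wx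
      rw [← dHom_comp (f ≫ g) (p ≫ f ≫ g) T.π p rfl z' wz' wz'p, hz', hx, ← Category.assoc, h1]
    have e2 : z' ≫ p' = x' := by
      apply dHom_injective (f' ≫ g) T.π (z' ≫ p') x' wz'p' wx'
      rw [← dHom_comp (f' ≫ g) (p ≫ f ≫ g) T.π p' (w4 g f f' p p' hZ) z' wz' wz'p', hz', hx',
        ← Category.assoc, h2]
    have e3 : z' = z := hZ.hom_ext (e1.trans hzp.symm) (e2.trans hzp'.symm)
    have e4 : m' = (m' ≫ γinv T) ≫ T.gammaHom := by
      rw [Category.assoc, γinv_γ, Category.comp_id]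
    rw [e4, ← hz', dHom_congr (p ≫ f ≫ g) T.π z' z wz' wz e3]

include hZ in
theorem isPushout :
    IsPushout (dHom g (f ≫ g) f rfl) (dHom g (f' ≫ g) f' rfl)
      (dHom (f ≫ g) (p ≫ f ≫ g) p rfl) (dHom (f' ≫ g) (p ≫ f ≫ g) p' (w4 g f f' p p' hZ)) := by
  have hw : dHom g (f ≫ g) f rfl ≫ dHom (f ≫ g) (p ≫ f ≫ g) p rfl =
      dHom g (f' ≫ g) f' rfl ≫ dHom (f' ≫ g) (p ≫ f ≫ g) p' (w4 g f f' p p' hZ) := by
    have w5 : (p ≫ f) ≫ g = p ≫ f ≫ g := Category.assoc _ _ _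
    have w6 : (p' ≫ f') ≫ g = p ≫ f ≫ g := (Category.assoc _ _ _).trans (w4 g f f' p p' hZ)
    rw [dHom_comp g (f ≫ g) (p ≫ f ≫ g) f rfl p rfl w5,
      dHom_comp g (f' ≫ g) (p ≫ f ≫ g) f' rfl p' (w4 g f f' p p' hZ) w6]
    exact dHom_congr g (p ≫ f ≫ g) (p ≫ f) (p' ≫ f') w5 w6 hZ.w
  refine ⟨⟨hw⟩, ⟨PushoutCocone.IsColimit.mk hw
    (fun s => Classical.choose (key g f f' p p' hZ s.pt s.inl s.inr s.condition))
    (fun s => (Classical.choose_spec (key g f f' p p' hZ s.pt s.inl s.inr s.condition)).1)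
    (fun s => (Classical.choose_spec (key g f f' p p' hZ s.pt s.inl s.inr s.condition)).2.1)
    (fun s m h1 h2 =>
      (Classical.choose_spec (key g f f' p p' hZ s.pt s.inl s.inr s.condition)).2.2 m h1 h2)⟩⟩

end main

end Groth.Agent.S8256aux

namespace Groth.Agent.S8256

/-- Let Y be affine over S (g : Y → S affine) and X, X' affine over Y (f, f' affine), and let Z = X ×_Y
X' with projections p : Z → X, p' : Z → X'. Then Z is affine over Y and over S, and its direct-image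
algebra on S is the tensor product: the square of quasi-coherent O_S-algebras A(Y) → A(X), A(Y) →
A(X'), A(X) → A(Z), A(X') → A(Z), whose maps are induced by f, f', p, p', is a pushout square in the
category of quasi-coherent O_S-algebras. -/
theorem result {X X' Y Z S : Scheme.{u}} (g : Y ⟶ S) [IsAffineHom g]
    (f : X ⟶ Y) [IsAffineHom f] (f' : X' ⟶ Y) [IsAffineHom f'] (p : Z ⟶ X) (p' : Z ⟶ X') [IsAffineHom p]
    (hZ : IsPullback p p' f f') :
    IsPushout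
      (C := RelSpec.QCAlg S)
      (⟨AffAlg.algHom g (f ≫ g) f rfl, AffAlg.algHom_comm g (f ≫ g) f rfl⟩ :
        RelSpec.QCAlg.directImage g ⟶ RelSpec.QCAlg.directImage (f ≫ g))
      (⟨AffAlg.algHom g (f' ≫ g) f' rfl, AffAlg.algHom_comm g (f' ≫ g) f' rfl⟩ :
        RelSpec.QCAlg.directImage g ⟶ RelSpec.QCAlg.directImage (f' ≫ g))
      (⟨AffAlg.algHom (f ≫ g) (p ≫ f ≫ g) p rfl, AffAlg.algHom_comm (f ≫ g) (p ≫ f ≫ g) p rfl⟩ :
        RelSpec.QCAlg.directImage (f ≫ g) ⟶ RelSpec.QCAlg.directImage (p ≫ f ≫ g))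
      (⟨AffAlg.algHom (f' ≫ g) (p ≫ f ≫ g) p'
          ((Category.assoc p' f' g).symm.trans ((congrArg (· ≫ g) hZ.w.symm).trans (Category.assoc p f g))),
        AffAlg.algHom_comm (f' ≫ g) (p ≫ f ≫ g) p'
          ((Category.assoc p' f' g).symm.trans ((congrArg (· ≫ g) hZ.w.symm).trans (Category.assoc p f g)))⟩ :
        RelSpec.QCAlg.directImage (f' ≫ g) ⟶ RelSpec.QCAlg.directImage (p ≫ f ≫ g)) := by
  exact S8256aux.isPushout g f f' p p' hZ

end Groth.Agent.S8256
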