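import Groth.Statements.S8260
import Mathlib

set_option autoImplicit false
universe u
open CategoryTheory CategoryTheory.Limits AlgebraicGeometry Opposite TopologicalSpace
open scoped HomogeneousIdeal
open EGA2

namespace Groth.Agent.S8260aux
open CategoryTheory CategoryTheory.Limits AlgebraicGeometry Opposite TopologicalSpace
open scoped HomogeneousIdeal

section alg
variable {R A : Type u} [CommRing R] [CommRing A] (𝒜 : ℕ → AddSubgroup A) [GradedRing 𝒜]

theorem ft_zero (f : R →+* A) (f0 : R →+* 𝒜 0) (h0 : ∀ r, (f0 r : A) = f r)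
    (hf : f.FiniteType) : Algebra.FiniteType (𝒜 0) A := by
  have h1 : ((algebraMap (𝒜 0) A).comp f0) = f := by
    ext r; exact h0 r
  rw [← h1] at hf
  have := RingHom.FiniteType.of_comp_finiteType hf
  exact RingHom.finiteType_algebraMap.mp this

theorem ft_strZero (f : R →+* A) (f0 : R →+* 𝒜 0) (h0 : ∀ r, (f0 r : A) = f r)
    (hf : f.FiniteType) : f0.FiniteType := by
  have h1 : (GradedRing.projZeroRingHom' 𝒜).comp f = f0 := by
    ext r
    rw [RingHom.comp_apply, ← h0 r, GradedRing.projZeroRingHom'_apply_coe]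
  rw [← h1]
  exact RingHom.FiniteType.comp
    (RingHom.FiniteType.of_surjective _ (GradedRing.projZeroRingHom'_surjective 𝒜)) hf

end alg

theorem restrict_eq {Y P : Scheme.{u}} (𝒮 : RelProj.QCGrAlg Y) (p : P ⟶ Y)
    (chart : ∀ (U : Y.Opens) (hU : IsAffineOpen U), (((p ⁻¹ᵁ U : P.Opens) : Scheme.{u}) ≅ Proj (𝒮.deg U hU)))
    (hP : RelProj.IsRelProj 𝒮 p chart) (U : Y.Opens) (hU : IsAffineOpen U) :
    p ∣_ U = (chart U hU).hom ≫ Proj.toSpecZero (𝒮.deg U hU) ≫ Spec.map (𝒮.strZero U hU) ≫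
      hU.isoSpec.inv := by
  rw [← cancel_mono U.ι, morphismRestrict_ι, ← hP.chart_over U hU]
  simp only [Category.assoc, IsAffineOpen.isoSpec_inv_ι]

theorem chart_ft {Y P : Scheme.{u}} (𝒮 : RelProj.QCGrAlg Y)
    (hft : ∀ (U : Y.Opens) (hU : IsAffineOpen U), (𝒮.str.app (op U)).hom.FiniteType)
    (p : P ⟶ Y)
    (chart : ∀ (U : Y.Opens) (hU : IsAffineOpen U), (((p ⁻¹ᵁ U : P.Opens) : Scheme.{u}) ≅ Proj (𝒮.deg U hU)))
    (hP : RelProj.IsRelProj 𝒮 p chart) : LocallyOfFiniteType p ∧ QuasiCompact p := by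
  have key : ∀ (U : Y.Opens) (hU : IsAffineOpen U),
      LocallyOfFiniteType (p ∣_ U) ∧ QuasiCompact (p ∣_ U) := by
    intro U hU
    rw [restrict_eq 𝒮 p chart hP U hU]
    have : Algebra.FiniteType (𝒮.deg U hU 0) (𝒮.presheaf.obj (op U)) :=
      ft_zero (𝒮.deg U hU) (𝒮.str.app (op U)).hom (𝒮.strZero U hU).hom (fun r => rfl) (hft U hU)
    have : LocallyOfFiniteType (Spec.map (𝒮.strZero U hU)) := by
      rw [HasRingHomProperty.Spec_iff (P := @LocallyOfFiniteType)]
      exact ft_strZero (𝒮.deg U hU) (𝒮.str.app (op U)).hom (𝒮.strZero U hU).hom (fun r => rfl) (hft U hU)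
    exact ⟨inferInstance, inferInstance⟩
  constructor
  · rw [IsZariskiLocalAtTarget.iff_of_iSup_eq_top (P := @LocallyOfFiniteType)
      (fun i : Y.affineOpens => (i : Y.Opens)) (iSup_affineOpens_eq_top Y)]
    exact fun i => (key i.1 i.2).1
  · rw [IsZariskiLocalAtTarget.iff_of_iSup_eq_top (P := @QuasiCompact)
      (fun i : Y.affineOpens => (i : Y.Opens)) (iSup_affineOpens_eq_top Y)]
    exact fun i => (key i.1 i.2).2

end Groth.Agent.S8260aux

namespace Groth.Agent.S8260

/-- If the quasi-coherent positively graded O_Y-algebra 𝒮 is of finite type (over every affine open U of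
Y the ring 𝒮(U) is a finitely generated O_Y(U)-algebra), then its relative homogeneous spectrum
Proj(𝒮) is of finite type over Y. -/
theorem result {Y P : Scheme.{u}} (𝒮 : RelProj.QCGrAlg Y)
    (hft : ∀ (U : Y.Opens) (hU : IsAffineOpen U), (𝒮.str.app (op U)).hom.FiniteType)
    (p : P ⟶ Y)
    (chart : ∀ (U : Y.Opens) (hU : IsAffineOpen U), (((p ⁻¹ᵁ U : P.Opens) : Scheme.{u}) ≅ Proj (𝒮.deg U hU)))
    (hP : RelProj.IsRelProj 𝒮 p chart) : LocallyOfFiniteType p ∧ QuasiCompact p := by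
  exact Groth.Agent.S8260aux.chart_ft 𝒮 hft p chart hP

end Groth.Agent.S8260
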