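import Groth.Statements.S8261
import Mathlib
import Groth.Agent.S8260

set_option autoImplicit false
universe u
open CategoryTheory CategoryTheory.Limits AlgebraicGeometry Opposite TopologicalSpace
open scoped HomogeneousIdeal
open EGA2

namespace Groth.Agent.S8261aux
open CategoryTheory CategoryTheory.Limits AlgebraicGeometry Opposite TopologicalSpace
open scoped HomogeneousIdeal

theorem ft_of_tower {R S B : Type*} [CommRing R] [CommRing S] [CommRing B] [Algebra R S]
    [Algebra S B] [Algebra R B] [IsScalarTower R S B]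
    [Algebra.FiniteType S B] (F : Finset B)
    (hF : ∀ s : S, algebraMap S B s ∈ Algebra.adjoin R (F : Set B)) : Algebra.FiniteType R B := by
  classical
  obtain ⟨G, hG⟩ := (Algebra.FiniteType.out : (⊤ : Subalgebra S B).FG)
  refine ⟨⟨F ∪ G, ?_⟩⟩
  rw [eq_top_iff]
  let C : Subalgebra R B := Algebra.adjoin R ((F ∪ G : Finset B) : Set B)
  let C' : Subalgebra S B :=
    { C.toSubsemiring with
      algebraMap_mem' := fun s =>
        Algebra.adjoin_mono (by simp) (hF s) }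
  have h1 : Algebra.adjoin S (G : Set B) ≤ C' :=
    Algebra.adjoin_le (fun x hx => Algebra.subset_adjoin (by simp [hx]))
  rw [hG] at h1
  intro x _
  exact h1 Algebra.mem_top

section alg
variable {R A : Type u} [CommRing R] [CommRing A] (𝒜 : ℕ → AddSubgroup A) [GradedRing 𝒜]

theorem adjoin_top (f0 : R →+* 𝒜 0)
    (hgen : Subring.closure ((𝒜 0 : Set A) ∪ (𝒜 1 : Set A)) = ⊤)
    (T : Finset A)
    (hspan : ∀ x ∈ 𝒜 1, ∃ c : A → R, x = ∑ t ∈ T, (f0 (c t) : A) * t) :
    Algebra.adjoin (𝒜 0) (T : Set A) = ⊤ := by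
  rw [eq_top_iff]
  intro x _
  have hx : x ∈ Subring.closure ((𝒜 0 : Set A) ∪ (𝒜 1 : Set A)) := hgen ▸ Subring.mem_top x
  have hle : Subring.closure ((𝒜 0 : Set A) ∪ (𝒜 1 : Set A)) ≤
      (Algebra.adjoin (𝒜 0) (T : Set A)).toSubring := by
    rw [Subring.closure_le]
    rintro y (hy | hy)
    · exact (Algebra.adjoin (𝒜 0) (T : Set A)).algebraMap_mem ⟨y, hy⟩
    · obtain ⟨c, hc⟩ := hspan y hy
      change y ∈ Algebra.adjoin (𝒜 0) (T : Set A)
      rw [hc]
      refine Subalgebra.sum_mem _ fun t ht => ?_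
      exact Subalgebra.mul_mem _ ((Algebra.adjoin (𝒜 0) (T : Set A)).algebraMap_mem (f0 (c t)))
        (Algebra.subset_adjoin ht)
  exact hle hx

theorem away_ft (f0 : R →+* 𝒜 0) (T : Finset A) (hT : ∀ t ∈ T, t ∈ 𝒜 1)
    (hspan : ∀ x ∈ 𝒜 1, ∃ c : A → R, x = ∑ t ∈ T, (f0 (c t) : A) * t)
    [Algebra.FiniteType (𝒜 0) A] (t : A) (ht : t ∈ 𝒜 1) :
    ((HomogeneousLocalization.fromZeroRingHom 𝒜 (Submonoid.powers t)).comp f0).FiniteType := by
  classical
  let _ : Algebra R (𝒜 0) := f0.toAlgebra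
  let _ : Algebra R (HomogeneousLocalization.Away 𝒜 t) :=
    ((HomogeneousLocalization.fromZeroRingHom 𝒜 (Submonoid.powers t)).comp f0).toAlgebra
  have : IsScalarTower R (𝒜 0) (HomogeneousLocalization.Away 𝒜 t) :=
    IsScalarTower.of_algebraMap_eq (fun _ => rfl)
  have : Algebra.FiniteType (𝒜 0) (HomogeneousLocalization.Away 𝒜 t) :=
    HomogeneousLocalization.Away.finiteType t 1 ht
  let φ : A → HomogeneousLocalization.Away 𝒜 t := fun a =>
    HomogeneousLocalization.Away.mk 𝒜 ht 1 ((DirectSum.decompose 𝒜 a 1 : 𝒜 1) : A)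
      (SetLike.coe_mem _)
  change Algebra.FiniteType R (HomogeneousLocalization.Away 𝒜 t)
  refine ft_of_tower (S := 𝒜 0) (T.image φ) ?_
  intro s
  have hst : (s : A) * t ∈ 𝒜 1 := by
    have := SetLike.mul_mem_graded s.2 ht
    rwa [zero_add] at this
  obtain ⟨c, hc⟩ := hspan _ hst
  have key : algebraMap (𝒜 0) (HomogeneousLocalization.Away 𝒜 t) s =
      ∑ t' ∈ T, (c t') • φ t' := by
    apply HomogeneousLocalization.val_injective
    rw [← HomogeneousLocalization.algebraMap_apply, ← HomogeneousLocalization.algebraMap_apply,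
      map_sum]
    have h1 : ∀ t' ∈ T, algebraMap (HomogeneousLocalization.Away 𝒜 t) (Localization.Away t)
        ((c t') • φ t') = Localization.mk ((f0 (c t') : A) * t')
          (⟨t ^ 1, 1, rfl⟩ : Submonoid.powers t) := by
      intro t' ht'
      rw [Algebra.smul_def, map_mul]
      simp only [HomogeneousLocalization.algebraMap_apply, φ,
        HomogeneousLocalization.Away.val_mk]
      rw [DirectSum.decompose_of_mem_same 𝒜 (hT t' ht')]
      change (HomogeneousLocalization.fromZeroRingHom 𝒜 (Submonoid.powers t) (f0 (c t'))).val * _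
        = _
      change Localization.mk ((f0 (c t') : A)) 1 * _ = _
      rw [Localization.mk_mul, one_mul]
    rw [Finset.sum_congr rfl h1]
    change Localization.mk (s : A) 1 = _
    rw [← Localization.mk_sum, ← hc, Localization.mk_eq_mk_iff, Localization.r_iff_exists]
    exact ⟨1, by simp; ring⟩
  rw [key]
  refine Subalgebra.sum_mem _ fun t' ht' => ?_
  exact Subalgebra.smul_mem _ (Algebra.subset_adjoin (Finset.mem_coe.mpr (Finset.mem_image_of_mem _ ht'))) _

end alg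

theorem proj_lft {R : CommRingCat.{u}} {A : Type u} [CommRing A] (𝒜 : ℕ → AddSubgroup A) [GradedRing 𝒜]
    (g : R ⟶ CommRingCat.of (𝒜 0))
    (hgen : Subring.closure ((𝒜 0 : Set A) ∪ (𝒜 1 : Set A)) = ⊤)
    (T : Finset A) (hT : ∀ t ∈ T, t ∈ 𝒜 1)
    (hspan : ∀ x ∈ 𝒜 1, ∃ c : A → R, x = ∑ t ∈ T, (g.hom (c t) : A) * t) :
    LocallyOfFiniteType (Proj.toSpecZero 𝒜 ≫ Spec.map g) ∧
      QuasiCompact (Proj.toSpecZero 𝒜 ≫ Spec.map g) := by
  have hA0 := adjoin_top 𝒜 g.hom hgen T hspan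
  have hft : Algebra.FiniteType (𝒜 0) A := ⟨⟨T, hA0⟩⟩
  refine ⟨?_, inferInstance⟩
  rw [IsZariskiLocalAtSource.iff_of_iSup_eq_top (P := @LocallyOfFiniteType) _
    (Proj.iSup_basicOpen_eq_top' 𝒜 (ι := T) (↑) (fun i ↦ ⟨1, hT _ i.2⟩) (by simpa using hA0))]
  intro i
  rw [← MorphismProperty.cancel_left_of_respectsIso (P := @LocallyOfFiniteType)
    (Proj.basicOpenIsoSpec 𝒜 (i : A) (hT _ i.2) one_pos).inv, ← Category.assoc, ← Category.assoc,
    ← Proj.awayι, Proj.awayι_toSpecZero, ← Spec.map_comp,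
    HasRingHomProperty.Spec_iff (P := @LocallyOfFiniteType)]
  exact away_ft 𝒜 g.hom T hT hspan (i : A) (hT _ i.2)

theorem chart_ft {Y P : Scheme.{u}} (𝒮 : RelProj.QCGrAlg Y)
    (hgen : 𝒮.IsGenDegOne) (hft : 𝒮.IsFTDeg 1) (p : P ⟶ Y)
    (chart : ∀ (U : Y.Opens) (hU : IsAffineOpen U), (((p ⁻¹ᵁ U : P.Opens) : Scheme.{u}) ≅ Proj (𝒮.deg U hU)))
    (hP : RelProj.IsRelProj 𝒮 p chart) : LocallyOfFiniteType p ∧ QuasiCompact p := by
  have key : ∀ (U : Y.Opens) (hU : IsAffineOpen U),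
      LocallyOfFiniteType (p ∣_ U) ∧ QuasiCompact (p ∣_ U) := by
    intro U hU
    rw [Groth.Agent.S8260aux.restrict_eq 𝒮 p chart hP U hU]
    obtain ⟨T, hT, hspan⟩ := hft U hU
    obtain ⟨h1, h2⟩ := proj_lft (𝒮.deg U hU) (𝒮.strZero U hU) (hgen U hU) T
      (fun t ht => hT ht) hspan
    rw [← Category.assoc (Proj.toSpecZero (𝒮.deg U hU))]
    exact ⟨inferInstance, inferInstance⟩
  constructor
  · rw [IsZariskiLocalAtTarget.iff_of_iSup_eq_top (P := @LocallyOfFiniteType)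
      (fun i : Y.affineOpens => (i : Y.Opens)) (iSup_affineOpens_eq_top Y)]
    exact fun i => (key i.1 i.2).1
  · rw [IsZariskiLocalAtTarget.iff_of_iSup_eq_top (P := @QuasiCompact)
      (fun i : Y.affineOpens => (i : Y.Opens)) (iSup_affineOpens_eq_top Y)]
    exact fun i => (key i.1 i.2).2

end Groth.Agent.S8261aux

namespace Groth.Agent.S8261

/-- Let 𝒮 be a quasi-coherent positively graded O_Y-algebra generated by 𝒮_1 with 𝒮_1 of finite type
over O_Y. Then Proj(𝒮) is of finite type over Y. -/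
theorem result {Y P : Scheme.{u}} (𝒮 : RelProj.QCGrAlg Y)
    (hgen : 𝒮.IsGenDegOne) (hft : 𝒮.IsFTDeg 1) (p : P ⟶ Y)
    (chart : ∀ (U : Y.Opens) (hU : IsAffineOpen U), (((p ⁻¹ᵁ U : P.Opens) : Scheme.{u}) ≅ Proj (𝒮.deg U hU)))
    (hP : RelProj.IsRelProj 𝒮 p chart) : LocallyOfFiniteType p ∧ QuasiCompact p := by
  exact Groth.Agent.S8261aux.chart_ft 𝒮 hgen hft p chart hP

end Groth.Agent.S8261
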