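import Groth.Statements.S8262
import Mathlib
import Groth.Agent.Lib.helper27.RelProjMap
import Groth.Agent.Lib.helper27.GlueAff

set_option autoImplicit false
universe u
open CategoryTheory CategoryTheory.Limits AlgebraicGeometry Opposite TopologicalSpace
open scoped HomogeneousIdeal
open EGA2

namespace Groth.Agent.S8262aux
open CategoryTheory CategoryTheory.Limits AlgebraicGeometry Opposite TopologicalSpace
open scoped HomogeneousIdeal
open Groth.Agent.Lib.helper27

section congr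
variable {A B σ τ : Type u} [CommRing A] [CommRing B] [SetLike σ A] [AddSubgroupClass σ A]
  [SetLike τ B] [AddSubgroupClass τ B] {𝒜 : ℕ → σ} {ℬ : ℕ → τ} [GradedRing 𝒜] [GradedRing ℬ]

theorem map_congr (f f' : 𝒜 →+*ᵍ ℬ) (h : f = f')
    (hf : HomogeneousIdeal.irrelevant ℬ ≤ (HomogeneousIdeal.irrelevant 𝒜).map f)
    (hf' : HomogeneousIdeal.irrelevant ℬ ≤ (HomogeneousIdeal.irrelevant 𝒜).map f') :
    Proj.map f hf = Proj.map f' hf' := by
  subst h; rfl

end congr

variable {Y PA PB : Scheme.{u}} {𝒜 ℬ : RelProj.QCGrAlg Y}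
    (φ : 𝒜.toQCAlg ⟶ ℬ.toQCAlg) (hφ : RelProj.IsGradedHom φ)
    (hirr : ∀ (U : Y.Opens) (hU : IsAffineOpen U),
      (ℬ.deg U hU)₊ ≤ ((𝒜.deg U hU)₊).map (RelProj.gradedHomAt φ hφ U hU))
    (pA : PA ⟶ Y) (pB : PB ⟶ Y)
    (chartA : ∀ (U : Y.Opens) (hU : IsAffineOpen U), (((pA ⁻¹ᵁ U : PA.Opens) : Scheme.{u}) ≅ Proj (𝒜.deg U hU)))
    (chartB : ∀ (U : Y.Opens) (hU : IsAffineOpen U), (((pB ⁻¹ᵁ U : PB.Opens) : Scheme.{u}) ≅ Proj (ℬ.deg U hU)))

theorem graded_comm (U : Y.Opens) (hU : IsAffineOpen U) (r : Γ(Y, U)) :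
    (ℬ.res hU (hU.basicOpen r) (Y.basicOpen_le r)).comp (RelProj.gradedHomAt φ hφ U hU) =
      (RelProj.gradedHomAt φ hφ (Y.basicOpen r) (hU.basicOpen r)).comp
        (𝒜.res hU (hU.basicOpen r) (Y.basicOpen_le r)) := by
  apply GradedRingHom.ext
  intro x
  have := congrArg (fun t => t.hom x) (φ.hom.naturality (homOfLE (Y.basicOpen_le r)).op)
  exact this.symm

theorem map_comm (U : Y.Opens) (hU : IsAffineOpen U) (r : Γ(Y, U)) :
    Proj.map (ℬ.res hU (hU.basicOpen r) (Y.basicOpen_le r)) (ℬ.irrelevant_le_map U hU r) ≫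
        Proj.map (RelProj.gradedHomAt φ hφ U hU) (hirr U hU) =
      Proj.map (RelProj.gradedHomAt φ hφ (Y.basicOpen r) (hU.basicOpen r))
          (hirr (Y.basicOpen r) (hU.basicOpen r)) ≫
        Proj.map (𝒜.res hU (hU.basicOpen r) (Y.basicOpen_le r)) (𝒜.irrelevant_le_map U hU r) := by
  rw [← Proj.map_comp, ← Proj.map_comp]
  exact map_congr _ _ (graded_comm φ hφ U hU r) _ _

/-- the local morphism. -/
noncomputable def m (U : Y.AffineZariskiSite) : ((pB ⁻¹ᵁ U.1 : PB.Opens) : Scheme.{u}) ⟶ PA :=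
  (chartB U.1 U.2).hom ≫ Proj.map (RelProj.gradedHomAt φ hφ U.1 U.2) (hirr U.1 U.2) ≫
    (chartA U.1 U.2).inv ≫ (pA ⁻¹ᵁ U.1).ι

variable (hA : RelProj.IsRelProj 𝒜 pA chartA) (hB : RelProj.IsRelProj ℬ pB chartB)

include hA hB in
theorem m_res_basic (U : Y.Opens) (hU : IsAffineOpen U) (r : Γ(Y, U)) :
    PB.homOfLE (pB.preimage_mono (Y.basicOpen_le r)) ≫ m φ hφ hirr pA pB chartA chartB ⟨U, hU⟩ =
      m φ hφ hirr pA pB chartA chartB ⟨Y.basicOpen r, hU.basicOpen r⟩ := by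
  unfold m
  have hA' : Proj.map (𝒜.res hU (hU.basicOpen r) (Y.basicOpen_le r)) (𝒜.irrelevant_le_map U hU r) =
      (chartA (Y.basicOpen r) (hU.basicOpen r)).inv ≫
        PA.homOfLE (pA.preimage_mono (Y.basicOpen_le r)) ≫ (chartA U hU).hom := by
    rw [hA.chart_res U hU r, Iso.inv_hom_id_assoc]
  rw [← Category.assoc, hB.chart_res U hU r, Category.assoc, reassoc_of% (map_comm φ hφ hirr U hU r),
    hA', Category.assoc, Category.assoc, Iso.hom_inv_id_assoc, Scheme.homOfLE_ι]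

include hA hB in
theorem m_res (U W : Y.AffineZariskiSite) (h : W ≤ U) :
    PB.homOfLE (pB.preimage_mono (Scheme.AffineZariskiSite.toOpens_mono h)) ≫
      m φ hφ hirr pA pB chartA chartB U = m φ hφ hirr pA pB chartA chartB W := by
  obtain ⟨U, hU⟩ := U
  obtain ⟨W, hW⟩ := W
  obtain ⟨r, hr⟩ := h
  change Y.basicOpen r = W at hr
  subst hr
  exact m_res_basic φ hφ hirr pA pB chartA chartB hA hB U hU r

include hA hB in
theorem main :
    (∃! h : PB ⟶ PA, RelProj.IsRelProjMap φ hφ hirr chartA chartB h) ∧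
      ∀ h : PB ⟶ PA, RelProj.IsRelProjMap φ hφ hirr chartA chartB h → h ≫ pA = pB := by
  refine ⟨?_, fun h hh => RelProjMap.comp_eq hA hB h hh⟩
  obtain ⟨v, hv, huniq⟩ := GlueAff.existsUnique pB (m φ hφ hirr pA pB chartA chartB)
    (m_res φ hφ hirr pA pB chartA chartB hA hB)
  refine ⟨v, fun U hU => hv ⟨U, hU⟩, fun v' hv' => huniq v' fun U => hv' U.1 U.2⟩

end Groth.Agent.S8262aux

namespace Groth.Agent.S8262

/-- The morphism of relative homogeneous spectra induced by a graded homomorphism, in the case where it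
is everywhere defined: let φ : 𝒜 → ℬ be a graded homomorphism of quasi-coherent positively graded
O_Y-algebras such that over every affine open U the irrelevant ideal of ℬ(U) lies in the ideal
generated by the image of that of 𝒜(U) (a condition stronger than the published one, which only asks
that the induced rational map be everywhere defined). Then there is a unique morphism h : Proj(ℬ) →
Proj(𝒜) that over each affine open U of Y is, under the charts, the morphism Proj ℬ(U) → Proj 𝒜(U)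
induced by φ(U); and such an h is a Y-morphism. -/
theorem result {Y PA PB : Scheme.{u}} {𝒜 ℬ : RelProj.QCGrAlg Y}
    (φ : 𝒜.toQCAlg ⟶ ℬ.toQCAlg) (hφ : RelProj.IsGradedHom φ)
    (hirr : ∀ (U : Y.Opens) (hU : IsAffineOpen U),
      (ℬ.deg U hU)₊ ≤ ((𝒜.deg U hU)₊).map (RelProj.gradedHomAt φ hφ U hU))
    (pA : PA ⟶ Y) (pB : PB ⟶ Y)
    (chartA : ∀ (U : Y.Opens) (hU : IsAffineOpen U), (((pA ⁻¹ᵁ U : PA.Opens) : Scheme.{u}) ≅ Proj (𝒜.deg U hU)))
    (chartB : ∀ (U : Y.Opens) (hU : IsAffineOpen U), (((pB ⁻¹ᵁ U : PB.Opens) : Scheme.{u}) ≅ Proj (ℬ.deg U hU)))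
    (hA : RelProj.IsRelProj 𝒜 pA chartA) (hB : RelProj.IsRelProj ℬ pB chartB) :
    (∃! h : PB ⟶ PA, RelProj.IsRelProjMap φ hφ hirr chartA chartB h) ∧
      ∀ h : PB ⟶ PA, RelProj.IsRelProjMap φ hφ hirr chartA chartB h → h ≫ pA = pB := by
  exact Groth.Agent.S8262aux.main φ hφ hirr pA pB chartA chartB hA hB

end Groth.Agent.S8262
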