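import Groth.Statements.S8266
import Mathlib

set_option autoImplicit false
universe u
open CategoryTheory CategoryTheory.Limits AlgebraicGeometry Opposite TopologicalSpace
open scoped HomogeneousIdeal
open EGA2

namespace Groth.Agent.S8266aux
open CategoryTheory CategoryTheory.Limits AlgebraicGeometry Opposite TopologicalSpace
open scoped HomogeneousIdeal

section alg
variable {A : Type u} [CommRing A] (𝒜 : ℕ → AddSubgroup A) [GradedRing 𝒜]

theorem locAway_reduced (hred : ∀ x : A, x ∈ (𝒜)₊ → IsNilpotent x → x = 0)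
    {f : A} {m : ℕ} (hf : f ∈ 𝒜 m) (hm : 0 < m) : IsReduced (Localization.Away f) := by
  refine ⟨fun z hz => ?_⟩
  obtain ⟨a, s, rfl⟩ := IsLocalization.exists_mk'_eq (Submonoid.powers f) z
  obtain ⟨k, hk⟩ := hz
  rw [← IsLocalization.mk'_pow, IsLocalization.mk'_eq_zero_iff] at hk
  obtain ⟨⟨t, j, rfl⟩, hj⟩ := hk
  have hfI : f * a ∈ (𝒜)₊ := by
    have h1 : f ∈ (𝒜)₊ := HomogeneousIdeal.mem_irrelevant_of_mem 𝒜 hm hf
    exact Ideal.mul_mem_right a (HomogeneousIdeal.irrelevant 𝒜).toIdeal h1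
  have hnil : IsNilpotent (f * a) := by
    refine ⟨j + k, ?_⟩
    have : (f * a) ^ (j + k) = f ^ k * a ^ j * (f ^ j * a ^ k) := by ring
    rw [this]
    simp only at hj
    rw [hj, mul_zero]
  have h0 := hred _ hfI hnil
  rw [IsLocalization.mk'_eq_zero_iff]
  exact ⟨⟨f, 1, pow_one f⟩, h0⟩

theorem proj_reduced (hred : ∀ x : A, x ∈ (𝒜)₊ → IsNilpotent x → x = 0) :
    IsReduced (Proj 𝒜) := by
  have : ∀ i, IsReduced ((Proj.affineOpenCover 𝒜).openCover.X i) := by
    intro i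
    change IsReduced (Spec (.of (HomogeneousLocalization.Away 𝒜 (i.2 : A))))
    rw [affine_isReduced_iff]
    have := locAway_reduced 𝒜 hred i.2.2 i.1.2
    exact isReduced_of_injective
      (algebraMap (HomogeneousLocalization.Away 𝒜 (i.2 : A)) (Localization.Away (i.2 : A)))
      (HomogeneousLocalization.val_injective _)
  exact IsReduced.of_openCover _ (Proj.affineOpenCover 𝒜).openCover

end alg

theorem rel_reduced {Y P : Scheme.{u}} (𝒮 : RelProj.QCGrAlg Y)
    (hred : ∀ (U : Y.Opens) (hU : IsAffineOpen U) (x : 𝒮.presheaf.obj (op U)),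
      x ∈ (𝒮.deg U hU)₊ → IsNilpotent x → x = 0)
    (p : P ⟶ Y)
    (chart : ∀ (U : Y.Opens) (hU : IsAffineOpen U), (((p ⁻¹ᵁ U : P.Opens) : Scheme.{u}) ≅ Proj (𝒮.deg U hU))) :
    IsReduced P := by
  have hc : IsOpenCover (fun i : Y.affineOpens => p ⁻¹ᵁ i.1) := by
    change (⨆ i : Y.affineOpens, p ⁻¹ᵁ i.1) = ⊤
    rw [← Scheme.Hom.preimage_iSup, iSup_affineOpens_eq_top]
    rfl
  have : ∀ i, IsReduced ((P.openCoverOfIsOpenCover _ hc).X i) := by
    intro i
    have := proj_reduced (𝒮.deg i.1 i.2) (hred i.1 i.2)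
    exact isReduced_of_isOpenImmersion (chart i.1 i.2).hom
  exact IsReduced.of_openCover _ (P.openCoverOfIsOpenCover _ hc)

end Groth.Agent.S8266aux

namespace Groth.Agent.S8266

/-- If the quasi-coherent positively graded O_Y-algebra 𝒮 is essentially reduced (affine-locally, no
nonzero nilpotent element in the irrelevant ideal), then Proj(𝒮) is reduced. -/
theorem result {Y P : Scheme.{u}} (𝒮 : RelProj.QCGrAlg Y)
    (hred : ∀ (U : Y.Opens) (hU : IsAffineOpen U) (x : 𝒮.presheaf.obj (op U)),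
      x ∈ (𝒮.deg U hU)₊ → IsNilpotent x → x = 0)
    (p : P ⟶ Y)
    (chart : ∀ (U : Y.Opens) (hU : IsAffineOpen U), (((p ⁻¹ᵁ U : P.Opens) : Scheme.{u}) ≅ Proj (𝒮.deg U hU)))
    (hP : RelProj.IsRelProj 𝒮 p chart) : IsReduced P := by
  exact Groth.Agent.S8266aux.rel_reduced 𝒮 hred p chart

end Groth.Agent.S8266
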