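import Groth.Statements.S8264
import Mathlib
import Groth.Agent.S8266

set_option autoImplicit false
universe u
open CategoryTheory CategoryTheory.Limits AlgebraicGeometry Opposite TopologicalSpace
open scoped HomogeneousIdeal
open EGA2

namespace Groth.Agent.S8264aux
open CategoryTheory CategoryTheory.Limits AlgebraicGeometry Opposite TopologicalSpace
open scoped HomogeneousIdeal

/-- A space covered by preirreducible opens which pairwise meet is preirreducible. -/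
lemma preirreducibleSpace_of_cover {X ι : Type*} [TopologicalSpace X] (V : ι → Set X)
    (hopen : ∀ i, IsOpen (V i)) (hirr : ∀ i, IsPreirreducible (V i))
    (hcov : ∀ x : X, ∃ i, x ∈ V i) (hmeet : ∀ i j, (V i ∩ V j).Nonempty) :
    PreirreducibleSpace X := by
  refine PreirreducibleSpace.of_forall_nonempty_inter fun A B hA hB ⟨a, ha⟩ ⟨b, hb⟩ => ?_
  obtain ⟨i, hi⟩ := hcov a
  obtain ⟨j, hj⟩ := hcov b
  obtain ⟨c, hc1, hc2, hc3⟩ := hirr i A (V j) hA (hopen j) ⟨a, hi, ha⟩ (hmeet i j)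
  obtain ⟨d, -, hd2, hd3⟩ := hirr j A B hA hB ⟨c, hc3, hc2⟩ ⟨b, hj, hb⟩
  exact ⟨d, hd2, hd3⟩

section alg
variable {A : Type u} [CommRing A] [IsDomain A] (𝒜 : ℕ → AddSubgroup A) [GradedRing 𝒜]

theorem away_isDomain {f : A} (hf0 : f ≠ 0) : IsDomain (HomogeneousLocalization.Away 𝒜 f) := by
  have : IsDomain (Localization.Away f) :=
    IsLocalization.isDomain_localization
      (powers_le_nonZeroDivisors_of_noZeroDivisors hf0)
  exact Function.Injective.isDomain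
    (algebraMap (HomogeneousLocalization.Away 𝒜 f) (Localization.Away f))
    (HomogeneousLocalization.val_injective _)

theorem basicOpen_irr {f : A} {m : ℕ} (hf : f ∈ 𝒜 m) (hm : 0 < m) (hf0 : f ≠ 0) :
    IsPreirreducible (Proj.basicOpen 𝒜 f : Set (Proj 𝒜)) ∧
      (Proj.basicOpen 𝒜 f : Set (Proj 𝒜)).Nonempty := by
  have := away_isDomain 𝒜 hf0
  have h1 : (Proj.basicOpen 𝒜 f : Set (Proj 𝒜)) = Set.range (Proj.awayι 𝒜 f hf hm) := by
    rw [← Proj.opensRange_awayι 𝒜 f hf hm]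
    rfl
  rw [h1]
  constructor
  · rw [← Set.image_univ]
    exact (PreirreducibleSpace.isPreirreducible_univ).image _ (Proj.awayι 𝒜 f hf hm).continuous.continuousOn
  · exact Set.range_nonempty _

theorem exists_homog (hne : (HomogeneousIdeal.irrelevant 𝒜).toIdeal ≠ ⊥) :
    ∃ (m : ℕ) (f : A), 0 < m ∧ f ∈ 𝒜 m ∧ f ≠ 0 := by
  classical
  obtain ⟨x, hx, hx0⟩ := Submodule.exists_mem_ne_zero_of_ne_bot hne
  by_contra hcon
  push Not at hcon
  apply hx0
  rw [← DirectSum.sum_support_decompose 𝒜 x]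
  refine Finset.sum_eq_zero fun i _ => ?_
  rcases Nat.eq_zero_or_pos i with rfl | hi
  · exact (HomogeneousIdeal.mem_irrelevant_iff 𝒜 x).mp hx
  · exact hcon i _ hi (SetLike.coe_mem _)

theorem proj_integral (hne : (HomogeneousIdeal.irrelevant 𝒜).toIdeal ≠ ⊥) : IsIntegral (Proj 𝒜) := by
  obtain ⟨m₀, f₀, hm₀, hf₀, hf₀0⟩ := exists_homog 𝒜 hne
  have hred : IsReduced (Proj 𝒜) :=
    Groth.Agent.S8266aux.proj_reduced 𝒜 (fun x _ hx => hx.eq_zero)
  have hpre : PreirreducibleSpace (Proj 𝒜) := by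
    refine preirreducibleSpace_of_cover
      (ι := {i : Σ n : ℕ, A // 0 < i.1 ∧ i.2 ∈ 𝒜 i.1 ∧ i.2 ≠ 0})
      (fun i => (Proj.basicOpen 𝒜 i.1.2 : Set (Proj 𝒜)))
      (fun i => (Proj.basicOpen 𝒜 i.1.2).2)
      (fun i => (basicOpen_irr 𝒜 i.2.2.1 i.2.1 i.2.2.2).1) ?_ ?_
    · intro x
      have hx : x ∈ (⊤ : (Proj 𝒜).Opens) := trivial
      rw [← Proj.iSup_basicOpen_eq_top 𝒜 (fun i : (Σ i : PNat, 𝒜 i) => (i.2 : A)) ?_,
        Opens.mem_iSup] at hx
      · obtain ⟨i, hi⟩ := hx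
        have h0 : (i.2 : A) ≠ 0 := by
          intro h0
          rw [h0, Proj.basicOpen_zero] at hi
          exact hi
        exact ⟨⟨⟨i.1, i.2⟩, i.1.2, i.2.2, h0⟩, hi⟩
      · classical
        intro z hz
        rw [← DirectSum.sum_support_decompose 𝒜 z]
        refine Ideal.sum_mem _ fun c hc ↦ if hc0 : c = 0 then ?_ else
          Ideal.subset_span ⟨⟨⟨c, Nat.pos_iff_ne_zero.mpr hc0⟩, _⟩, rfl⟩
        subst hc0
        have : (DirectSum.decompose 𝒜 z 0 : A) = 0 := (HomogeneousIdeal.mem_irrelevant_iff 𝒜 z).mp hz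
        rw [this]
        exact Ideal.zero_mem _
    · intro i j
      have := (basicOpen_irr 𝒜 (SetLike.mul_mem_graded i.2.2.1 j.2.2.1)
        (Nat.add_pos_left i.2.1 _) (mul_ne_zero i.2.2.2 j.2.2.2)).2
      rw [Proj.basicOpen_mul] at this
      exact this
  have hne' : Nonempty (Proj 𝒜) := (basicOpen_irr 𝒜 hf₀ hm₀ hf₀0).2.to_subtype.map Subtype.val
  have : IrreducibleSpace (Proj 𝒜) := { hpre with toNonempty := hne' }
  exact isIntegral_of_irreducibleSpace_of_isReduced _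

end alg

theorem preimage_facts {Y P : Scheme.{u}} (𝒮 : RelProj.QCGrAlg Y)
    (hint : ∀ (U : Y.Opens) (hU : IsAffineOpen U), (U : Set Y).Nonempty →
      IsDomain (𝒮.presheaf.obj (op U)) ∧ ((𝒮.deg U hU)₊).toIdeal ≠ ⊥)
    (p : P ⟶ Y)
    (chart : ∀ (U : Y.Opens) (hU : IsAffineOpen U), (((p ⁻¹ᵁ U : P.Opens) : Scheme.{u}) ≅ Proj (𝒮.deg U hU)))
    (U : Y.Opens) (hU : IsAffineOpen U) (hne : (U : Set Y).Nonempty) :
    IsIntegral (Proj (𝒮.deg U hU)) ∧ IsPreirreducible ((p ⁻¹ᵁ U : P.Opens) : Set P) ∧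
      ((p ⁻¹ᵁ U : P.Opens) : Set P).Nonempty := by
  have hdom := (hint U hU hne).1
  have hI : IsIntegral (Proj (𝒮.deg U hU)) := proj_integral (𝒮.deg U hU) (hint U hU hne).2
  have h1 : ((p ⁻¹ᵁ U : P.Opens) : Set P) = Set.range ((chart U hU).inv ≫ (p ⁻¹ᵁ U).ι) := by
    rw [Scheme.Hom.comp_base, TopCat.coe_comp, Set.range_comp,
      Set.range_eq_univ.mpr (show Function.Surjective (chart U hU).inv from
        (chart U hU).inv.homeomorph.surjective), Set.image_univ, Scheme.Opens.range_ι]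
  refine ⟨hI, ?_, ?_⟩
  · rw [h1, ← Set.image_univ]
    exact (PreirreducibleSpace.isPreirreducible_univ).image _
      ((chart U hU).inv ≫ (p ⁻¹ᵁ U).ι).continuous.continuousOn
  · rw [h1]
    exact Set.range_nonempty _

theorem rel_integral {Y P : Scheme.{u}} [IsIntegral Y] (𝒮 : RelProj.QCGrAlg Y)
    (hint : ∀ (U : Y.Opens) (hU : IsAffineOpen U), (U : Set Y).Nonempty →
      IsDomain (𝒮.presheaf.obj (op U)) ∧ ((𝒮.deg U hU)₊).toIdeal ≠ ⊥)
    (p : P ⟶ Y)
    (chart : ∀ (U : Y.Opens) (hU : IsAffineOpen U), (((p ⁻¹ᵁ U : P.Opens) : Scheme.{u}) ≅ Proj (𝒮.deg U hU))) :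
    IsIntegral P ∧ DenseRange p.base := by
  have facts := preimage_facts 𝒮 hint p chart
  -- every nonempty open contains a nonempty affine open
  have haff : ∀ V : Set Y, IsOpen V → V.Nonempty →
      ∃ W : Y.affineOpens, (W.1 : Set Y).Nonempty ∧ (W.1 : Set Y) ⊆ V := by
    rintro V hV ⟨y, hy⟩
    obtain ⟨_, ⟨W, hW, rfl⟩, hyW, hWV⟩ := Y.isBasis_affineOpens.exists_subset_of_mem_open hy hV
    exact ⟨⟨W, hW⟩, ⟨y, hyW⟩, hWV⟩
  have hdense : DenseRange p.base := by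
    rw [DenseRange, dense_iff_inter_open]
    intro V hV hVne
    obtain ⟨W, hWne, hWV⟩ := haff V hV hVne
    obtain ⟨x, hx⟩ := (facts W.1 W.2 hWne).2.2
    exact ⟨p.base x, hWV hx, x, rfl⟩
  refine ⟨?_, hdense⟩
  let I := {U : Y.affineOpens // (U.1 : Set Y).Nonempty}
  have hcov : ∀ x : P, ∃ i : I, x ∈ ((p ⁻¹ᵁ i.1.1 : P.Opens) : Set P) := by
    intro x
    obtain ⟨U, hxU⟩ := Opens.mem_iSup.mp
      ((iSup_affineOpens_eq_top Y).symm ▸ (Opens.mem_top (p.base x)) :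
        p.base x ∈ ⨆ i : Y.affineOpens, (i : Y.Opens))
    exact ⟨⟨U, ⟨p.base x, hxU⟩⟩, hxU⟩
  have hpre : PreirreducibleSpace P := by
    refine preirreducibleSpace_of_cover (ι := I)
      (fun i => ((p ⁻¹ᵁ i.1.1 : P.Opens) : Set P)) (fun i => (p ⁻¹ᵁ i.1.1 : P.Opens).2)
      (fun i => (facts i.1.1 i.1.2 i.2).2.1) hcov ?_
    intro i j
    have hne : ((i.1.1 : Set Y) ∩ (j.1.1 : Set Y)).Nonempty :=
      nonempty_preirreducible_inter i.1.1.2 j.1.1.2 i.2 j.2
    obtain ⟨W, hWne, hWV⟩ := haff _ (i.1.1.2.inter j.1.1.2) hne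
    obtain ⟨x, hx⟩ := (facts W.1 W.2 hWne).2.2
    exact ⟨x, (hWV hx).1, (hWV hx).2⟩
  obtain ⟨y₀⟩ := (inferInstance : Nonempty Y)
  obtain ⟨W₀, hW₀ne, -⟩ := haff Set.univ isOpen_univ ⟨y₀, trivial⟩
  obtain ⟨x₀, -⟩ := (facts W₀.1 W₀.2 hW₀ne).2.2
  have : IrreducibleSpace P := { hpre with toNonempty := ⟨x₀⟩ }
  have hc : IsOpenCover (fun i : I => p ⁻¹ᵁ i.1.1) := by
    change (⨆ i : I, p ⁻¹ᵁ i.1.1) = ⊤
    rw [eq_top_iff]
    intro x _
    obtain ⟨i, hi⟩ := hcov x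
    exact Opens.mem_iSup.mpr ⟨i, hi⟩
  have hredi : ∀ i, IsReduced ((P.openCoverOfIsOpenCover _ hc).X i) := by
    intro i
    have := (facts i.1.1 i.1.2 i.2).1
    exact isReduced_of_isOpenImmersion (chart i.1.1 i.1.2).hom
  have hred : IsReduced P := IsReduced.of_openCover _ (P.openCoverOfIsOpenCover _ hc)
  exact isIntegral_of_irreducibleSpace_of_isReduced _

end Groth.Agent.S8264aux

namespace Groth.Agent.S8264

/-- Let Y be an integral scheme and 𝒮 a quasi-coherent positively graded O_Y-algebra with 𝒮_0 = O_Y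
which is integral, stated here affine-locally: over every nonempty affine open U the ring 𝒮(U) is an
integral domain whose irrelevant ideal is nonzero (for Y integral this is equivalent to the
stalkwise condition of the published text: every stalk 𝒮_y an integral domain with (𝒮_y)_+ ≠ 0).
Then Proj(𝒮) is integral and its structure morphism to Y is dominant. -/
theorem result {Y P : Scheme.{u}} [IsIntegral Y] (𝒮 : RelProj.QCGrAlg Y)
    (h0 : ∀ (U : Y.Opens) (hU : IsAffineOpen U), Function.Bijective (𝒮.strZero U hU).hom)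
    (hint : ∀ (U : Y.Opens) (hU : IsAffineOpen U), (U : Set Y).Nonempty →
      IsDomain (𝒮.presheaf.obj (op U)) ∧ ((𝒮.deg U hU)₊).toIdeal ≠ ⊥)
    (p : P ⟶ Y)
    (chart : ∀ (U : Y.Opens) (hU : IsAffineOpen U), (((p ⁻¹ᵁ U : P.Opens) : Scheme.{u}) ≅ Proj (𝒮.deg U hU)))
    (hP : RelProj.IsRelProj 𝒮 p chart) : IsIntegral P ∧ DenseRange p.base := by
  exact Groth.Agent.S8264aux.rel_integral 𝒮 hint p chart

end Groth.Agent.S8264
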