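import Groth.Statements.S8265
import Mathlib

set_option autoImplicit false
universe u
open CategoryTheory CategoryTheory.Limits AlgebraicGeometry Opposite TopologicalSpace
open scoped HomogeneousIdeal
open EGA2

namespace Groth.Agent.S8265aux
open CategoryTheory CategoryTheory.Limits AlgebraicGeometry Opposite TopologicalSpace
open scoped HomogeneousIdeal

section alg
variable {R A : Type u} [CommRing R] [IsDomain R] [CommRing A] (𝒜 : ℕ → AddSubgroup A) [GradedRing 𝒜]

omit [IsDomain R] in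
theorem away_nontrivial (hred : ∀ x : A, x ∈ (𝒜)₊ → IsNilpotent x → x = 0)
    {n : ℕ} {y : A} (hn : 0 < n) (hy : y ∈ 𝒜 n) (hy0 : y ≠ 0) :
    Nontrivial (HomogeneousLocalization.Away 𝒜 y) := by
  by_contra hcon
  rw [not_nontrivial_iff_subsingleton] at hcon
  have h10 : (1 : HomogeneousLocalization.Away 𝒜 y) = 0 := Subsingleton.elim _ _
  have h1 := congrArg HomogeneousLocalization.val h10
  rw [HomogeneousLocalization.val_one, HomogeneousLocalization.val_zero,
    ← map_one (algebraMap A (Localization.Away y)),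
    IsLocalization.map_eq_zero_iff (Submonoid.powers y)] at h1
  obtain ⟨⟨_, k, rfl⟩, hk⟩ := h1
  simp only [mul_one] at hk
  exact hy0 (hred y (HomogeneousIdeal.mem_irrelevant_of_mem 𝒜 hn hy) ⟨k, hk⟩)

theorem basicOpen_nonempty (hred : ∀ x : A, x ∈ (𝒜)₊ → IsNilpotent x → x = 0)
    {n : ℕ} {y : A} (hn : 0 < n) (hy : y ∈ 𝒜 n) (hy0 : y ≠ 0) :
    (Proj.basicOpen 𝒜 y : Set (Proj 𝒜)).Nonempty := by
  have := away_nontrivial 𝒜 hred hn hy hy0
  have h1 : (Proj.basicOpen 𝒜 y : Set (Proj 𝒜)) = Set.range (Proj.awayι 𝒜 y hy hn) := by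
    rw [← Proj.opensRange_awayι 𝒜 y hy hn]
    rfl
  rw [h1]
  exact Set.range_nonempty _

omit [IsDomain R] in
theorem fromZero_eq_zero {y : A} (x : 𝒜 0) (hxy : (x : A) * y = 0) :
    HomogeneousLocalization.fromZeroRingHom 𝒜 (Submonoid.powers y) x = 0 := by
  apply HomogeneousLocalization.val_injective
  rw [HomogeneousLocalization.val_zero]
  change Localization.mk (x : A) 1 = 0
  rw [Localization.mk_eq_mk', IsLocalization.mk'_eq_zero_iff]
  exact ⟨⟨y, 1, pow_one y⟩, by rw [mul_comm]; exact hxy⟩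

theorem domain_core (f0 : R →+* 𝒜 0) (hf0 : Function.Bijective f0)
    (hred : ∀ x : A, x ∈ (𝒜)₊ → IsNilpotent x → x = 0)
    [IsIntegral (Proj 𝒜)]
    (hinj : ∀ (n : ℕ) (y : A), 0 < n → y ∈ 𝒜 n →
      Nontrivial (HomogeneousLocalization.Away 𝒜 y) →
      Function.Injective ((HomogeneousLocalization.fromZeroRingHom 𝒜 (Submonoid.powers y)).comp f0)) :
    IsDomain A ∧ (HomogeneousIdeal.irrelevant 𝒜).toIdeal ≠ ⊥ := by
  have hne : (HomogeneousIdeal.irrelevant 𝒜).toIdeal ≠ ⊥ := by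
    intro h
    obtain ⟨x⟩ := (inferInstance : Nonempty (Proj 𝒜))
    apply x.not_irrelevant_le
    change (HomogeneousIdeal.irrelevant 𝒜).toIdeal ≤ x.asHomogeneousIdeal.toIdeal
    rw [h]
    exact bot_le
  refine ⟨?_, hne⟩
  have hnt : Nontrivial A := by
    obtain ⟨x, -, hx0⟩ := Submodule.exists_mem_ne_zero_of_ne_bot hne
    exact ⟨⟨x, 0, hx0⟩⟩
  -- mixed case
  have mixed : ∀ (x y : A) (n : ℕ), x ∈ 𝒜 0 → 0 < n → y ∈ 𝒜 n → x * y = 0 → x = 0 ∨ y = 0 := by
    intro x y n hx hn hy hxy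
    by_contra hcon
    push Not at hcon
    obtain ⟨r, hr⟩ := hf0.2 ⟨x, hx⟩
    have hnt' := away_nontrivial 𝒜 hred hn hy hcon.2
    have h1 := hinj n y hn hy hnt'
    have h2 : ((HomogeneousLocalization.fromZeroRingHom 𝒜 (Submonoid.powers y)).comp f0) r = 0 := by
      rw [RingHom.comp_apply, hr]
      exact fromZero_eq_zero 𝒜 ⟨x, hx⟩ hxy
    have h3 : r = 0 := h1 (by rw [h2, map_zero])
    apply hcon.1
    have := congrArg (Subtype.val) hr
    simp only at this
    rw [← this, h3, map_zero]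
    rfl
  have hom : ∀ {x y : A}, SetLike.IsHomogeneousElem 𝒜 x → SetLike.IsHomogeneousElem 𝒜 y →
      x * y ∈ (⊥ : Ideal A) → x ∈ (⊥ : Ideal A) ∨ y ∈ (⊥ : Ideal A) := by
    rintro x y ⟨m, hx⟩ ⟨n, hy⟩ hxy
    simp only [Ideal.mem_bot] at hxy ⊢
    rcases Nat.eq_zero_or_pos m with rfl | hm <;> rcases Nat.eq_zero_or_pos n with rfl | hn
    · obtain ⟨r, hr⟩ := hf0.2 ⟨x, hx⟩
      obtain ⟨r', hr'⟩ := hf0.2 ⟨y, hy⟩
      have h1 : f0 (r * r') = 0 := by
        rw [map_mul, hr, hr']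
        exact Subtype.ext hxy
      have h2 : r * r' = 0 := hf0.1 (by rw [h1, map_zero])
      rcases mul_eq_zero.mp h2 with h | h
      · left
        have := congrArg (Subtype.val) hr
        simp only at this
        rw [← this, h, map_zero]; rfl
      · right
        have := congrArg (Subtype.val) hr'
        simp only at this
        rw [← this, h, map_zero]; rfl
    · exact mixed x y n hx hn hy hxy
    · exact (mixed y x m hy hm hx (by rw [mul_comm]; exact hxy)).symm
    · by_contra hcon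
      push Not at hcon
      have h1 := basicOpen_nonempty 𝒜 hred hm hx hcon.1
      have h2 := basicOpen_nonempty 𝒜 hred hn hy hcon.2
      have h3 := nonempty_preirreducible_inter (Proj.basicOpen 𝒜 x).2 (Proj.basicOpen 𝒜 y).2 h1 h2
      obtain ⟨z, hz1, hz2⟩ := h3
      have hz : z ∈ Proj.basicOpen 𝒜 (x * y) := by
        rw [Proj.basicOpen_mul]
        exact ⟨hz1, hz2⟩
      rw [hxy, Proj.basicOpen_zero] at hz
      exact hz
  have hprime : (⊥ : Ideal A).IsPrime :=
    Ideal.IsHomogeneous.isPrime_of_homogeneous_mem_or_mem (Ideal.IsHomogeneous.bot 𝒜)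
      bot_ne_top hom
  exact IsDomain.of_bot_isPrime A

end alg

theorem injective_of_dominant {R S : CommRingCat.{u}} [IsDomain R] (g : R ⟶ S)
    [hd : IsDominant (Spec.map g)] : Function.Injective g.hom := by
  have hdr : DenseRange (PrimeSpectrum.comap g.hom) := (Spec.map g).denseRange
  rw [PrimeSpectrum.denseRange_comap_iff_ker_le_nilRadical, nilradical_eq_zero] at hdr
  exact (RingHom.injective_iff_ker_eq_bot g.hom).mpr (le_bot_iff.mp hdr)

theorem rel_domain {Y P : Scheme.{u}} [IsIntegral Y] (𝒮 : RelProj.QCGrAlg Y)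
    (h0 : ∀ (U : Y.Opens) (hU : IsAffineOpen U), Function.Bijective (𝒮.strZero U hU).hom)
    (hred : ∀ (U : Y.Opens) (hU : IsAffineOpen U) (x : 𝒮.presheaf.obj (op U)),
      x ∈ (𝒮.deg U hU)₊ → IsNilpotent x → x = 0)
    (p : P ⟶ Y)
    (chart : ∀ (U : Y.Opens) (hU : IsAffineOpen U), (((p ⁻¹ᵁ U : P.Opens) : Scheme.{u}) ≅ Proj (𝒮.deg U hU)))
    (hP : RelProj.IsRelProj 𝒮 p chart) [IsIntegral P] (hdom : DenseRange p.base)
    (U : Y.Opens) (hU : IsAffineOpen U) (hne : (U : Set Y).Nonempty) :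
    IsDomain (𝒮.presheaf.obj (op U)) ∧ ((𝒮.deg U hU)₊).toIdeal ≠ ⊥ := by
  have : Nonempty U := hne.to_subtype
  have : IsDomain Γ(Y, U) := inferInstance
  obtain ⟨x, hx⟩ := hdom.exists_mem_open U.2 hne
  let j : Proj (𝒮.deg U hU) ⟶ P := (chart U hU).inv ≫ (p ⁻¹ᵁ U).ι
  have : Nonempty (Proj (𝒮.deg U hU)) := ⟨(chart U hU).hom.base ⟨x, hx⟩⟩
  have : IsIntegral (Proj (𝒮.deg U hU)) := isIntegral_of_isOpenImmersion j
  have hjp : j ≫ p = Proj.toSpecZero _ ≫ Spec.map (𝒮.strZero U hU) ≫ hU.fromSpec := by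
    rw [Category.assoc, ← hP.chart_over U hU, Iso.inv_hom_id_assoc]
  refine domain_core (𝒮.deg U hU) (𝒮.strZero U hU).hom (h0 U hU) (hred U hU) ?_
  intro n y hn hy hnt
  let q := Proj.awayι (𝒮.deg U hU) y hy hn ≫ j
  have : IsDominant q := ⟨q.isOpenEmbedding.isOpen_range.dense (Set.range_nonempty _)⟩
  have : IsDominant p := ⟨hdom⟩
  let g : Γ(Y, U) ⟶ CommRingCat.of (HomogeneousLocalization.Away (𝒮.deg U hU) y) :=
    𝒮.strZero U hU ≫ CommRingCat.ofHom
      (HomogeneousLocalization.fromZeroRingHom (𝒮.deg U hU) (Submonoid.powers y))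
  have hq : q ≫ p = Spec.map g ≫ hU.fromSpec := by
    rw [Category.assoc, hjp, Proj.awayι_toSpecZero_assoc, Spec.map_comp, Category.assoc]
  have : IsDominant (Spec.map g ≫ hU.fromSpec) := hq ▸ inferInstance
  have hd : IsDominant (Spec.map g) := IsDominant.of_comp_of_isOpenImmersion _ hU.fromSpec
  exact injective_of_dominant g

end Groth.Agent.S8265aux

namespace Groth.Agent.S8265

/-- Let Y be an integral scheme and 𝒮 a quasi-coherent positively graded O_Y-algebra with 𝒮_0 = O_Y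
which is essentially reduced (affine-locally, every nilpotent element of the irrelevant ideal of
𝒮(U) vanishes). If Proj(𝒮) is integral and dominant over Y, then 𝒮 is integral: over every nonempty
affine open U, 𝒮(U) is an integral domain with nonzero irrelevant ideal (for Y integral, the
affine-local form of the stalkwise condition of the text). -/
theorem result {Y P : Scheme.{u}} [IsIntegral Y] (𝒮 : RelProj.QCGrAlg Y)
    (h0 : ∀ (U : Y.Opens) (hU : IsAffineOpen U), Function.Bijective (𝒮.strZero U hU).hom)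
    (hred : ∀ (U : Y.Opens) (hU : IsAffineOpen U) (x : 𝒮.presheaf.obj (op U)),
      x ∈ (𝒮.deg U hU)₊ → IsNilpotent x → x = 0)
    (p : P ⟶ Y)
    (chart : ∀ (U : Y.Opens) (hU : IsAffineOpen U), (((p ⁻¹ᵁ U : P.Opens) : Scheme.{u}) ≅ Proj (𝒮.deg U hU)))
    (hP : RelProj.IsRelProj 𝒮 p chart) [IsIntegral P] (hdom : DenseRange p.base)
    (U : Y.Opens) (hU : IsAffineOpen U) (hne : (U : Set Y).Nonempty) :
    IsDomain (𝒮.presheaf.obj (op U)) ∧ ((𝒮.deg U hU)₊).toIdeal ≠ ⊥ := by
  exact Groth.Agent.S8265aux.rel_domain 𝒮 h0 hred p chart hP hdom U hU hne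

end Groth.Agent.S8265
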