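import Groth.Statements.S8272
import Mathlib

set_option autoImplicit false
universe u
open CategoryTheory CategoryTheory.Limits AlgebraicGeometry Opposite TopologicalSpace
open EGA2

namespace Groth.Agent.S8272

section Aux
open HomogeneousLocalization

theorem awayMap_injective' {A : Type u} {σ : Type*} [CommRing A] [SetLike σ A]
    [AddSubgroupClass σ A] (𝒜 : ℕ → σ) [GradedRing 𝒜] {e : ℕ} {f g : A} (hg : g ∈ 𝒜 e)
    (hnz : g ∈ nonZeroDivisors A) {x : A} (hx : x = f * g) :
    Function.Injective (awayMap 𝒜 hg hx) := by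
  rw [injective_iff_map_eq_zero]
  intro z hz
  obtain ⟨⟨n, ⟨a, ha⟩, ⟨b, hb'⟩, j, rfl : _ = b⟩, rfl⟩ := mk_surjective z
  have h1 := congrArg HomogeneousLocalization.val hz
  rw [val_awayMap_mk, val_zero, Localization.mk_eq_mk', IsLocalization.mk'_eq_zero_iff] at h1
  obtain ⟨⟨c, N, rfl⟩, hc⟩ := h1
  apply val_injective
  rw [val_mk, val_zero, Localization.mk_eq_mk', IsLocalization.mk'_eq_zero_iff]
  refine ⟨⟨f ^ N, N, rfl⟩, ?_⟩
  simp only at hc ⊢
  have h2 : g ^ (N + j) * (f ^ N * a) = 0 := by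
    rw [← hc, hx]; ring
  exact (nonZeroDivisors A).pow_mem hnz (N + j) |> fun h => (mul_left_mem_nonZeroDivisors_eq_zero_iff h).mp h2
  
end Aux

/-- Let T be a positively graded ring, Z = Proj T and g ∈ T_d (d > 0) a homogeneous element that is not
a zero divisor in T. Then Z is the smallest closed subscheme of Z containing the open D_+(g);
equivalently the kernel (ideal sheaf) of the open immersion D_+(g) → Z vanishes. -/
theorem result {R A : Type u} [CommRing R] [CommRing A] [Algebra R A]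
    (𝒜 : ℕ → Submodule R A) [GradedAlgebra 𝒜] {d : ℕ} (hd : 0 < d) (g : A) (hg : g ∈ 𝒜 d)
    (hnz : g ∈ nonZeroDivisors A) :
    (Proj.basicOpen 𝒜 g).ι.ker = ⊥ := by
  classical
  haveI : IsAffine (Proj.basicOpen 𝒜 g).toScheme := Proj.isAffineOpen_basicOpen 𝒜 g hg hd
  haveI : QuasiCompact (Proj.basicOpen 𝒜 g).ι := inferInstance
  refine Scheme.IdealSheafData.ext_of_iSup_eq_top
    (ι := Σ i : ℕ+, 𝒜 i) (fun p => ⟨Proj.basicOpen 𝒜 (p.2 : A),
      Proj.isAffineOpen_basicOpen 𝒜 _ p.2.2 p.1.pos⟩) ?_ ?_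
  · apply Proj.iSup_basicOpen_eq_top 𝒜 (fun p : Σ i : ℕ+, 𝒜 i => (p.2 : A))
    intro z hz
    rw [← DirectSum.sum_support_decompose 𝒜 z]
    refine Ideal.sum_mem _ fun c hc => ?_
    by_cases hc0 : c = 0
    · subst hc0
      have : (DirectSum.decompose 𝒜 z 0 : A) = 0 := by
        have hz' : z ∈ HomogeneousIdeal.irrelevant 𝒜 := hz
        rw [HomogeneousIdeal.mem_irrelevant_iff, GradedRing.proj_apply] at hz'
        exact hz'
      rw [this]
      exact Ideal.zero_mem _
    · exact Ideal.subset_span ⟨⟨⟨c, Nat.pos_iff_ne_zero.mpr hc0⟩, _⟩, rfl⟩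
  · rintro ⟨i, f, hf⟩
    rw [Scheme.Hom.ker_apply]
    simp only [Scheme.IdealSheafData.ideal_bot, Pi.bot_apply]
    rw [← RingHom.injective_iff_ker_eq_bot]
    have hfg : f * g ∈ 𝒜 (i + d) := SetLike.mul_mem_graded hf hg
    haveI : IsIso (Proj.awayToSection 𝒜 f) := by
      rw [← Proj.basicOpenIsoAway_hom 𝒜 f hf i.pos]; infer_instance
    haveI : IsIso (Proj.awayToSection 𝒜 (f * g)) := by
      rw [← Proj.basicOpenIsoAway_hom 𝒜 (f * g) hfg (by have := i.pos; omega)]; infer_instance
    have key : ∀ (W : (Proj 𝒜).Opens) (hW : W = Proj.basicOpen 𝒜 (f * g))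
        (h : W ≤ Proj.basicOpen 𝒜 f),
        Function.Injective ((Proj 𝒜).presheaf.map (homOfLE h).op).hom := by
      intro W hW h
      subst hW
      have e := Proj.awayMap_awayToSection 𝒜 (f := f) hg (x := f * g) rfl
      rw [injective_iff_map_eq_zero]
      intro s hs
      obtain ⟨a, rfl⟩ := (ConcreteCategory.bijective_of_isIso (Proj.awayToSection 𝒜 f)).2 s
      have h1 := ConcreteCategory.congr_hom e a
      simp only [CommRingCat.comp_apply] at h1
      have h2 : (Proj.awayToSection 𝒜 (f * g)).hom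
          ((HomogeneousLocalization.awayMap 𝒜 hg rfl) a) = 0 := by
        refine Eq.trans ?_ hs
        exact h1
      have h3 : (HomogeneousLocalization.awayMap 𝒜 hg (rfl : f * g = f * g)) a = 0 := by
        apply (ConcreteCategory.bijective_of_isIso (Proj.awayToSection 𝒜 (f * g))).1
        rw [h2]
        exact (map_zero _).symm
      have h4 : a = 0 := awayMap_injective' 𝒜 hg hnz rfl (by rw [h3, map_zero])
      rw [h4]
      exact map_zero _
    rw [Scheme.Opens.ι_app]
    refine key _ ?_ _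
    rw [Scheme.Hom.image_preimage_eq_opensRange_inf, Scheme.Opens.opensRange_ι,
      Proj.basicOpen_mul, inf_comm]

end Groth.Agent.S8272
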