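import Groth.Statements.S8273
import Mathlib
import Groth.Agent.Lib.helper27.GlueAff

set_option autoImplicit false
universe u
open CategoryTheory CategoryTheory.Limits AlgebraicGeometry Opposite TopologicalSpace
open scoped HomogeneousIdeal
open EGA2

namespace Groth.Agent.S8273aux
open CategoryTheory CategoryTheory.Limits AlgebraicGeometry Opposite TopologicalSpace
open scoped HomogeneousIdeal
open Groth.Agent.Lib.helper27

variable {Y P P' : Scheme.{u}} (𝒮 : RelProj.QCGrAlg Y) (p : P ⟶ Y)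
    (chart : ∀ (U : Y.Opens) (hU : IsAffineOpen U), (((p ⁻¹ᵁ U : P.Opens) : Scheme.{u}) ≅ Proj (𝒮.deg U hU)))
    (p' : P' ⟶ Y)
    (chart' : ∀ (U : Y.Opens) (hU : IsAffineOpen U), (((p' ⁻¹ᵁ U : P'.Opens) : Scheme.{u}) ≅ Proj (𝒮.deg U hU)))

/-- the local morphism. -/
noncomputable def m (U : Y.AffineZariskiSite) : ((p ⁻¹ᵁ U.1 : P.Opens) : Scheme.{u}) ⟶ P' :=
  (chart U.1 U.2).hom ≫ (chart' U.1 U.2).inv ≫ (p' ⁻¹ᵁ U.1).ι

variable (hP : RelProj.IsRelProj 𝒮 p chart) (hP' : RelProj.IsRelProj 𝒮 p' chart')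

include hP hP' in
theorem m_res_basic (U : Y.Opens) (hU : IsAffineOpen U) (r : Γ(Y, U)) :
    P.homOfLE (p.preimage_mono (Y.basicOpen_le r)) ≫ m 𝒮 p chart p' chart' ⟨U, hU⟩ =
      m 𝒮 p chart p' chart' ⟨Y.basicOpen r, hU.basicOpen r⟩ := by
  unfold m
  have hA' : Proj.map (𝒮.res hU (hU.basicOpen r) (Y.basicOpen_le r)) (𝒮.irrelevant_le_map U hU r) =
      (chart' (Y.basicOpen r) (hU.basicOpen r)).inv ≫
        P'.homOfLE (p'.preimage_mono (Y.basicOpen_le r)) ≫ (chart' U hU).hom := by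
    rw [hP'.chart_res U hU r, Iso.inv_hom_id_assoc]
  rw [← Category.assoc, hP.chart_res U hU r, Category.assoc, hA', Category.assoc, Category.assoc,
    Iso.hom_inv_id_assoc, Scheme.homOfLE_ι]

include hP hP' in
theorem m_res (U W : Y.AffineZariskiSite) (h : W ≤ U) :
    P.homOfLE (p.preimage_mono (Scheme.AffineZariskiSite.toOpens_mono h)) ≫
      m 𝒮 p chart p' chart' U = m 𝒮 p chart p' chart' W := by
  obtain ⟨U, hU⟩ := U
  obtain ⟨W, hW⟩ := W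
  obtain ⟨r, hr⟩ := h
  change Y.basicOpen r = W at hr
  subst hr
  exact m_res_basic 𝒮 p chart p' chart' hP hP' U hU r

include hP hP' in
theorem over_base (e : P ⟶ P') (he : ∀ (U : Y.Opens) (hU : IsAffineOpen U),
    (p ⁻¹ᵁ U).ι ≫ e = (chart U hU).hom ≫ (chart' U hU).inv ≫ (p' ⁻¹ᵁ U).ι) : e ≫ p' = p := by
  refine (GlueAff.cover p).hom_ext _ _ ?_
  intro (U : Y.AffineZariskiSite)
  change (p ⁻¹ᵁ U.1).ι ≫ e ≫ p' = (p ⁻¹ᵁ U.1).ι ≫ p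
  rw [← Category.assoc, he U.1 U.2, Category.assoc, Category.assoc, ← hP'.chart_over U.1 U.2,
    Iso.inv_hom_id_assoc, hP.chart_over U.1 U.2]

theorem comp_id (e : P ⟶ P') (e' : P' ⟶ P)
    (he : ∀ (U : Y.Opens) (hU : IsAffineOpen U),
      (p ⁻¹ᵁ U).ι ≫ e = (chart U hU).hom ≫ (chart' U hU).inv ≫ (p' ⁻¹ᵁ U).ι)
    (he' : ∀ (U : Y.Opens) (hU : IsAffineOpen U),
      (p' ⁻¹ᵁ U).ι ≫ e' = (chart' U hU).hom ≫ (chart U hU).inv ≫ (p ⁻¹ᵁ U).ι) : e ≫ e' = 𝟙 P := by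
  refine (GlueAff.cover p).hom_ext _ _ ?_
  intro (U : Y.AffineZariskiSite)
  change (p ⁻¹ᵁ U.1).ι ≫ e ≫ e' = (p ⁻¹ᵁ U.1).ι ≫ 𝟙 P
  rw [← Category.assoc, he U.1 U.2, Category.assoc, Category.assoc, he' U.1 U.2,
    Iso.inv_hom_id_assoc, Iso.hom_inv_id_assoc, Category.comp_id]

include hP hP' in
theorem main :
    (∃! e : P ⟶ P', ∀ (U : Y.Opens) (hU : IsAffineOpen U),
        (p ⁻¹ᵁ U).ι ≫ e = (chart U hU).hom ≫ (chart' U hU).inv ≫ (p' ⁻¹ᵁ U).ι) ∧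
      ∀ e : P ⟶ P', (∀ (U : Y.Opens) (hU : IsAffineOpen U),
        (p ⁻¹ᵁ U).ι ≫ e = (chart U hU).hom ≫ (chart' U hU).inv ≫ (p' ⁻¹ᵁ U).ι) → IsIso e ∧ e ≫ p' = p := by
  obtain ⟨v, hv, huniq⟩ := GlueAff.existsUnique p (m 𝒮 p chart p' chart')
    (m_res 𝒮 p chart p' chart' hP hP')
  obtain ⟨v', hv', -⟩ := GlueAff.existsUnique p' (m 𝒮 p' chart' p chart)
    (m_res 𝒮 p' chart' p chart hP' hP)
  refine ⟨⟨v, fun U hU => hv ⟨U, hU⟩, fun w hw => huniq w fun U => hw U.1 U.2⟩, fun e he => ⟨?_, ?_⟩⟩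
  · have h1 : e ≫ v' = 𝟙 P := comp_id 𝒮 p chart p' chart' e v' he (fun U hU => hv' ⟨U, hU⟩)
    have h2 : v' ≫ e = 𝟙 P' := comp_id 𝒮 p' chart' p chart v' e (fun U hU => hv' ⟨U, hU⟩) he
    exact ⟨⟨v', h1, h2⟩⟩
  · exact over_base 𝒮 p chart p' chart' hP hP' e he

end Groth.Agent.S8273aux

namespace Groth.Agent.S8273

/-- Uniqueness of the relative homogeneous spectrum: two schemes over Y equipped with the chart data of
Proj(𝒮) are related by a unique morphism compatible with the charts (chartwise the identity of Proj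
𝒮(U)), and that morphism is a Y-isomorphism. -/
theorem result {Y P P' : Scheme.{u}} (𝒮 : RelProj.QCGrAlg Y) (p : P ⟶ Y)
    (chart : ∀ (U : Y.Opens) (hU : IsAffineOpen U), (((p ⁻¹ᵁ U : P.Opens) : Scheme.{u}) ≅ Proj (𝒮.deg U hU)))
    (hP : RelProj.IsRelProj 𝒮 p chart) (p' : P' ⟶ Y)
    (chart' : ∀ (U : Y.Opens) (hU : IsAffineOpen U), (((p' ⁻¹ᵁ U : P'.Opens) : Scheme.{u}) ≅ Proj (𝒮.deg U hU)))
    (hP' : RelProj.IsRelProj 𝒮 p' chart') :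
    (∃! e : P ⟶ P', ∀ (U : Y.Opens) (hU : IsAffineOpen U),
        (p ⁻¹ᵁ U).ι ≫ e = (chart U hU).hom ≫ (chart' U hU).inv ≫ (p' ⁻¹ᵁ U).ι) ∧
      ∀ e : P ⟶ P', (∀ (U : Y.Opens) (hU : IsAffineOpen U),
        (p ⁻¹ᵁ U).ι ≫ e = (chart U hU).hom ≫ (chart' U hU).inv ≫ (p' ⁻¹ᵁ U).ι) → IsIso e ∧ e ≫ p' = p := by
  exact Groth.Agent.S8273aux.main 𝒮 p chart p' chart' hP hP'

end Groth.Agent.S8273
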