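import Groth.Statements.S8274
import Mathlib

set_option autoImplicit false
universe u
open CategoryTheory CategoryTheory.Limits AlgebraicGeometry Opposite TopologicalSpace
open scoped HomogeneousIdeal
open EGA2

namespace Groth.Agent.S8274aux
open CategoryTheory CategoryTheory.Limits AlgebraicGeometry Opposite TopologicalSpace
open scoped HomogeneousIdeal

variable {Y P : Scheme.{u}} (𝒮 : RelProj.QCGrAlg Y) (p : P ⟶ Y)
    (chart : ∀ (U : Y.Opens) (hU : IsAffineOpen U), (((p ⁻¹ᵁ U : P.Opens) : Scheme.{u}) ≅ Proj (𝒮.deg U hU)))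
    (f : 𝒮.presheaf.obj (op ⊤))

/-- the restriction of `f`. -/
noncomputable abbrev fU (U : Y.Opens) : 𝒮.presheaf.obj (op U) :=
  (𝒮.presheaf.map (homOfLE le_top).op).hom f

/-- the piece over `U`. -/
noncomputable def piece (U : Y.AffineZariskiSite) : P.Opens :=
  (p ⁻¹ᵁ U.1).ι ''ᵁ ((chart U.1 U.2).hom ⁻¹ᵁ Proj.basicOpen (𝒮.deg U.1 U.2) (fU 𝒮 f U.1))

theorem piece_le (U : Y.AffineZariskiSite) : piece 𝒮 p chart f U ≤ p ⁻¹ᵁ U.1 := by
  rintro _ ⟨y, _, rfl⟩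
  exact y.2

theorem mem_piece_iff (U : Y.AffineZariskiSite) (x : P) (hx : p.base x ∈ U.1) :
    x ∈ piece 𝒮 p chart f U ↔
      (chart U.1 U.2).hom.base ⟨x, hx⟩ ∈ Proj.basicOpen (𝒮.deg U.1 U.2) (fU 𝒮 f U.1) := by
  constructor
  · rintro ⟨y, hy, hyx⟩
    have : y = ⟨x, hx⟩ := Subtype.ext hyx
    rw [← this]; exact hy
  · intro h
    exact ⟨⟨x, hx⟩, h, rfl⟩

variable (hP : RelProj.IsRelProj 𝒮 p chart)

include hP in
theorem piece_basic (U : Y.Opens) (hU : IsAffineOpen U) (r : Γ(Y, U)) (x : P)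
    (hx : p.base x ∈ Y.basicOpen r) :
    x ∈ piece 𝒮 p chart f ⟨Y.basicOpen r, hU.basicOpen r⟩ ↔ x ∈ piece 𝒮 p chart f ⟨U, hU⟩ := by
  have hxU : p.base x ∈ U := Y.basicOpen_le r hx
  rw [mem_piece_iff 𝒮 p chart f ⟨Y.basicOpen r, hU.basicOpen r⟩ x hx,
    mem_piece_iff 𝒮 p chart f ⟨U, hU⟩ x hxU]
  have h1 := congrArg (fun k => k.base (⟨x, hx⟩ : (p ⁻¹ᵁ Y.basicOpen r : P.Opens)))
    (hP.chart_res U hU r)
  simp only [Scheme.Hom.comp_base, TopCat.hom_comp, ContinuousMap.comp_apply] at h1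
  have h2 : (P.homOfLE (p.preimage_mono (Y.basicOpen_le r))).base
      (⟨x, hx⟩ : (p ⁻¹ᵁ Y.basicOpen r : P.Opens)) = (⟨x, hxU⟩ : (p ⁻¹ᵁ U : P.Opens)) := by
    apply Subtype.ext
    have := congrArg (fun k => k.base (⟨x, hx⟩ : (p ⁻¹ᵁ Y.basicOpen r : P.Opens)))
      (P.homOfLE_ι (p.preimage_mono (Y.basicOpen_le r)))
    exact this
  rw [h2] at h1
  change _ ↔ (chart U hU).hom.base ⟨x, hxU⟩ ∈ _
  rw [h1]
  have h3 : 𝒮.res hU (hU.basicOpen r) (Y.basicOpen_le r) (fU 𝒮 f U) = fU 𝒮 f (Y.basicOpen r) := by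
    change (𝒮.presheaf.map _).hom ((𝒮.presheaf.map _).hom f) = (𝒮.presheaf.map _).hom f
    rw [← CommRingCat.comp_apply, ← Functor.map_comp]
    rfl
  change _ ↔ (chart (Y.basicOpen r) (hU.basicOpen r)).hom.base ⟨x, hx⟩ ∈
    (Proj.map (𝒮.res hU (hU.basicOpen r) (Y.basicOpen_le r)) (𝒮.irrelevant_le_map U hU r)) ⁻¹ᵁ
      Proj.basicOpen (𝒮.deg U hU) (fU 𝒮 f U)
  rw [Proj.map_preimage_basicOpen, h3]

include hP in
theorem piece_of_le (U W : Y.AffineZariskiSite) (h : W ≤ U) (x : P) (hx : p.base x ∈ W.1) :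
    x ∈ piece 𝒮 p chart f W ↔ x ∈ piece 𝒮 p chart f U := by
  obtain ⟨U, hU⟩ := U
  obtain ⟨W, hW⟩ := W
  obtain ⟨r, hr⟩ := h
  change Y.basicOpen r = W at hr
  subst hr
  exact piece_basic 𝒮 p chart f hP U hU r x hx

/-- the open `X_f`. -/
noncomputable def Xf : P.Opens := ⨆ U : Y.AffineZariskiSite, piece 𝒮 p chart f U

include hP in
theorem Xf_inf (U : Y.AffineZariskiSite) :
    Xf 𝒮 p chart f ⊓ p ⁻¹ᵁ U.1 = piece 𝒮 p chart f U := by
  apply le_antisymm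
  · rintro x ⟨hx1, hx2⟩
    have hx1' : x ∈ Xf 𝒮 p chart f := hx1
    unfold Xf at hx1'
    rw [Opens.mem_iSup] at hx1'
    obtain ⟨V, hV⟩ := hx1'
    have hxV : p.base x ∈ V.1 := piece_le 𝒮 p chart f V hV
    have hxU : p.base x ∈ U.1 := hx2
    obtain ⟨a, b, hab, hy⟩ := exists_basicOpen_le_affine_inter U.2 V.2 (p.base x) ⟨hxU, hxV⟩
    let W : Y.AffineZariskiSite := ⟨Y.basicOpen a, U.2.basicOpen a⟩
    have hWU : W ≤ U := ⟨a, rfl⟩
    have hWV : W ≤ V := ⟨b, hab.symm⟩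
    exact (piece_of_le 𝒮 p chart f hP U W hWU x hy).mp
      ((piece_of_le 𝒮 p chart f hP V W hWV x hy).mpr hV)
  · intro x hx
    refine ⟨?_, piece_le 𝒮 p chart f U hx⟩
    change x ∈ Xf 𝒮 p chart f
    unfold Xf
    rw [Opens.mem_iSup]
    exact ⟨U, hx⟩

include hP in
theorem main {d : ℕ} (hd : 0 < d)
    (hf : ∀ (U : Y.Opens) (hU : IsAffineOpen U), (𝒮.presheaf.map (homOfLE le_top).op).hom f ∈ 𝒮.deg U hU d) :
    ∃ Xf : P.Opens,
      (∀ (U : Y.Opens) (hU : IsAffineOpen U),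
        Xf ⊓ p ⁻¹ᵁ U =
          (p ⁻¹ᵁ U).ι ''ᵁ ((chart U hU).hom ⁻¹ᵁ
            Proj.basicOpen (𝒮.deg U hU) ((𝒮.presheaf.map (homOfLE le_top).op).hom f))) ∧
      IsAffineHom (Xf.ι ≫ p) := by
  refine ⟨Xf 𝒮 p chart f, fun U hU => Xf_inf 𝒮 p chart f hP ⟨U, hU⟩, ?_⟩
  constructor
  intro U hU
  rw [Scheme.Hom.comp_preimage,
    ← (Xf 𝒮 p chart f).ι.isAffineOpen_iff_of_isOpenImmersion,
    Scheme.Hom.image_preimage_eq_opensRange_inf, Scheme.Opens.opensRange_ι,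
    Xf_inf 𝒮 p chart f hP ⟨U, hU⟩]
  unfold piece
  rw [Scheme.Hom.isAffineOpen_iff_of_isOpenImmersion]
  exact (Proj.isAffineOpen_basicOpen (𝒮.deg U hU) _ (hf U hU) hd).preimage_of_isIso _

end Groth.Agent.S8274aux

namespace Groth.Agent.S8274

/-- Let 𝒮 be a quasi-coherent positively graded O_Y-algebra, P = Proj(𝒮) with structure morphism p and
charts, and f a global section of 𝒮 homogeneous of degree d > 0. There is an open subset X_f of P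
such that for every affine open U of Y, X_f ∩ p⁻¹(U) is the open D_+(f|U) of Proj 𝒮(U) transported
by the chart; moreover X_f is affine over Y. (The identification of X_f with the spectrum of a
quotient of the d-th Veronese algebra is not stated here.) -/
theorem result {Y P : Scheme.{u}} (𝒮 : RelProj.QCGrAlg Y) (p : P ⟶ Y)
    (chart : ∀ (U : Y.Opens) (hU : IsAffineOpen U), (((p ⁻¹ᵁ U : P.Opens) : Scheme.{u}) ≅ Proj (𝒮.deg U hU)))
    (hP : RelProj.IsRelProj 𝒮 p chart) {d : ℕ} (hd : 0 < d) (f : 𝒮.presheaf.obj (op ⊤))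
    (hf : ∀ (U : Y.Opens) (hU : IsAffineOpen U), (𝒮.presheaf.map (homOfLE le_top).op).hom f ∈ 𝒮.deg U hU d) :
    ∃ Xf : P.Opens,
      (∀ (U : Y.Opens) (hU : IsAffineOpen U),
        Xf ⊓ p ⁻¹ᵁ U =
          (p ⁻¹ᵁ U).ι ''ᵁ ((chart U hU).hom ⁻¹ᵁ
            Proj.basicOpen (𝒮.deg U hU) ((𝒮.presheaf.map (homOfLE le_top).op).hom f))) ∧
      IsAffineHom (Xf.ι ≫ p) := by
  exact Groth.Agent.S8274aux.main 𝒮 p chart f hP hd hf

end Groth.Agent.S8274
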