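import Groth.Statements.S8279
import Mathlib
import Groth.Agent.Lib.helper27.RelProjMap

set_option autoImplicit false
universe u
open CategoryTheory CategoryTheory.Limits AlgebraicGeometry Opposite TopologicalSpace
open scoped HomogeneousIdeal
open EGA2

namespace Groth.Agent.S8279aux
open CategoryTheory CategoryTheory.Limits AlgebraicGeometry Opposite TopologicalSpace
open scoped HomogeneousIdeal
open Groth.Agent.Lib.helper27.RelProjMap

section alg
variable {A B : Type u} [CommRing A] [CommRing B] {𝒜 : ℕ → AddSubgroup A} {ℬ : ℕ → AddSubgroup B}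
  [GradedRing 𝒜] [GradedRing ℬ] (f : 𝒜 →+*ᵍ ℬ)

theorem awayMap_bijective (hpos : ∀ n : ℕ, 0 < n → Set.BijOn f (𝒜 n) (ℬ n))
    {i : ℕ} (hi : 0 < i) (s : A) (hs : s ∈ 𝒜 i) :
    Function.Bijective (HomogeneousLocalization.Away.map f s) := by
  constructor
  · rw [injective_iff_map_eq_zero]
    intro z hz
    obtain ⟨n, a, ha, rfl⟩ := z.mk_surjective _ hs
    rw [HomogeneousLocalization.Away.map_mk] at hz
    have hz' := congrArg HomogeneousLocalization.val hz
    rw [HomogeneousLocalization.Away.val_mk, HomogeneousLocalization.val_zero,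
      Localization.mk_eq_mk', IsLocalization.mk'_eq_zero_iff] at hz'
    obtain ⟨⟨_, k, rfl⟩, hk⟩ := hz'
    simp only at hk
    have hmem : s ^ (k + 1) * a ∈ 𝒜 ((k + 1) • i + n • i) :=
      SetLike.mul_mem_graded (SetLike.pow_mem_graded _ hs) ha
    have hdeg : 0 < (k + 1) • i + n • i := by
      simp only [smul_eq_mul]; positivity
    have h0 : s ^ (k + 1) * a = 0 := by
      apply (hpos _ hdeg).injOn hmem (zero_mem _)
      rw [map_zero, map_mul, map_pow, pow_succ', mul_assoc, hk, mul_zero]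
    apply HomogeneousLocalization.val_injective
    rw [HomogeneousLocalization.Away.val_mk, HomogeneousLocalization.val_zero,
      Localization.mk_eq_mk', IsLocalization.mk'_eq_zero_iff]
    exact ⟨⟨s ^ (k + 1), k + 1, rfl⟩, h0⟩
  · intro z
    obtain ⟨n, b, hb, rfl⟩ := z.mk_surjective _ (f.map_mem hs)
    have hmem : b * f s ∈ ℬ ((n + 1) • i) := by
      have := SetLike.mul_mem_graded hb (f.map_mem hs)
      rwa [show n • i + i = (n + 1) • i by simp [add_mul]] at this
    have hdeg : 0 < (n + 1) • i := by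
      simp only [smul_eq_mul]; positivity
    obtain ⟨a, ha, hab⟩ := (hpos _ hdeg).surjOn hmem
    refine ⟨HomogeneousLocalization.Away.mk 𝒜 hs (n + 1) a ha, ?_⟩
    rw [HomogeneousLocalization.Away.map_mk]
    apply HomogeneousLocalization.val_injective
    rw [HomogeneousLocalization.Away.val_mk, HomogeneousLocalization.Away.val_mk,
      Localization.mk_eq_mk_iff, Localization.r_iff_exists]
    refine ⟨1, ?_⟩
    simp only [hab, OneMemClass.coe_one, one_mul, GradedRingHom.toRingHom_eq_toRingHom,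
      GradedRingHom.coe_toRingHom, RingHom.coe_coe]
    ring

theorem projMap_isIso (hf : (ℬ)₊ ≤ ((𝒜)₊).map f)
    (hpos : ∀ n : ℕ, 0 < n → Set.BijOn f (𝒜 n) (ℬ n)) :
    IsIso (Proj.map f hf) := by
  refine map_of_away f hf (MorphismProperty.isomorphisms Scheme.{u}) fun i s hi hs => ?_
  rw [MorphismProperty.isomorphisms.iff]
  have : IsIso (CommRingCat.ofHom (HomogeneousLocalization.Away.map f s)) :=
    (RingEquiv.ofBijective _ (awayMap_bijective f hpos hi s hs)).toCommRingCatIso.isIso_hom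
  infer_instance

end alg

theorem rel_isIso {Y P P' : Scheme.{u}} {𝒮' 𝒮 : RelProj.QCGrAlg Y}
    (φ : 𝒮'.toQCAlg ⟶ 𝒮.toQCAlg) (hφ : RelProj.IsGradedHom φ)
    (hpos : ∀ (U : Y.Opens) (hU : IsAffineOpen U) (n : ℕ), 0 < n →
      Set.BijOn (φ.hom.app (op U)).hom (𝒮'.deg U hU n) (𝒮.deg U hU n))
    (hirr : ∀ (U : Y.Opens) (hU : IsAffineOpen U),
      (𝒮.deg U hU)₊ ≤ ((𝒮'.deg U hU)₊).map (RelProj.gradedHomAt φ hφ U hU))
    (p' : P' ⟶ Y) (p : P ⟶ Y)
    (chart' : ∀ (U : Y.Opens) (hU : IsAffineOpen U), (((p' ⁻¹ᵁ U : P'.Opens) : Scheme.{u}) ≅ Proj (𝒮'.deg U hU)))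
    (chart : ∀ (U : Y.Opens) (hU : IsAffineOpen U), (((p ⁻¹ᵁ U : P.Opens) : Scheme.{u}) ≅ Proj (𝒮.deg U hU)))
    (hP' : RelProj.IsRelProj 𝒮' p' chart') (hP : RelProj.IsRelProj 𝒮 p chart)
    (h : P ⟶ P') (hh : RelProj.IsRelProjMap φ hφ hirr chart' chart h) : IsIso h := by
  rw [← MorphismProperty.isomorphisms.iff]
  refine relProjMap_of_local (MorphismProperty.isomorphisms Scheme.{u}) hP' hP h hh fun U hU => ?_
  rw [MorphismProperty.isomorphisms.iff]
  exact projMap_isIso _ _ (hpos U hU)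

end Groth.Agent.S8279aux

namespace Groth.Agent.S8279

/-- Let 𝒮 be a quasi-coherent positively graded O_Y-algebra and 𝒮' the graded O_Y-algebra O_Y ⊕ (⊕_{n>0}
𝒮_n), presented here as a quasi-coherent graded algebra 𝒮' with 𝒮'_0 = O_Y together with a graded
homomorphism φ : 𝒮' → 𝒮 that is bijective in every positive degree over every affine open. Then the
morphism Proj(𝒮) → Proj(𝒮') induced by φ is an isomorphism (the canonical Y-isomorphism of the two
relative homogeneous spectra). -/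
theorem result {Y P P' : Scheme.{u}} {𝒮' 𝒮 : RelProj.QCGrAlg Y}
    (φ : 𝒮'.toQCAlg ⟶ 𝒮.toQCAlg) (hφ : RelProj.IsGradedHom φ)
    (h0 : ∀ (U : Y.Opens) (hU : IsAffineOpen U), Function.Bijective (𝒮'.strZero U hU).hom)
    (hpos : ∀ (U : Y.Opens) (hU : IsAffineOpen U) (n : ℕ), 0 < n →
      Set.BijOn (φ.hom.app (op U)).hom (𝒮'.deg U hU n) (𝒮.deg U hU n))
    (hirr : ∀ (U : Y.Opens) (hU : IsAffineOpen U),
      (𝒮.deg U hU)₊ ≤ ((𝒮'.deg U hU)₊).map (RelProj.gradedHomAt φ hφ U hU))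
    (p' : P' ⟶ Y) (p : P ⟶ Y)
    (chart' : ∀ (U : Y.Opens) (hU : IsAffineOpen U), (((p' ⁻¹ᵁ U : P'.Opens) : Scheme.{u}) ≅ Proj (𝒮'.deg U hU)))
    (chart : ∀ (U : Y.Opens) (hU : IsAffineOpen U), (((p ⁻¹ᵁ U : P.Opens) : Scheme.{u}) ≅ Proj (𝒮.deg U hU)))
    (hP' : RelProj.IsRelProj 𝒮' p' chart') (hP : RelProj.IsRelProj 𝒮 p chart)
    (h : P ⟶ P') (hh : RelProj.IsRelProjMap φ hφ hirr chart' chart h) : IsIso h := by
  exact Groth.Agent.S8279aux.rel_isIso φ hφ hpos hirr p' p chart' chart hP' hP h hh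

end Groth.Agent.S8279
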