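import Groth.Statements.S8280
import Mathlib

set_option autoImplicit false
universe u
open CategoryTheory CategoryTheory.Limits AlgebraicGeometry Opposite TopologicalSpace
open scoped HomogeneousIdeal
open EGA2

namespace Groth.Agent.S8280aux
open CategoryTheory CategoryTheory.Limits AlgebraicGeometry Opposite TopologicalSpace
open scoped HomogeneousIdeal

section alg
variable {A : Type u} [CommRing A] (𝒜 : ℕ → AddSubgroup A) [GradedRing 𝒜]

theorem exists_mem_basicOpen {ι : Type*} (g : ι → A) (n₀ : ℕ)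
    (hgen : ∀ n, n₀ ≤ n → (𝒜 n : Set A) ⊆ (Ideal.span (Set.range g) : Set A))
    (x : Proj 𝒜) : ∃ a, x ∈ Proj.basicOpen 𝒜 (g a) := by
  by_contra hcon
  push Not at hcon
  have h1 : ∀ a, g a ∈ x.asHomogeneousIdeal.toIdeal := by
    intro a
    have := hcon a
    rw [Proj.mem_basicOpen, not_not] at this
    exact this
  have h2 : Ideal.span (Set.range g) ≤ x.asHomogeneousIdeal.toIdeal := by
    rw [Ideal.span_le]
    rintro _ ⟨a, rfl⟩
    exact h1 a
  apply x.not_irrelevant_le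
  rw [HomogeneousIdeal.irrelevant_le]
  intro i hi b hb
  -- b ^ (n₀ + 1) ∈ 𝒜 ((n₀+1) • i)
  have hb' : b ^ (n₀ + 1) ∈ 𝒜 ((n₀ + 1) • i) := SetLike.pow_mem_graded _ hb
  have hle : n₀ ≤ (n₀ + 1) • i := by
    rw [smul_eq_mul]
    nlinarith
  have h3 : b ^ (n₀ + 1) ∈ x.asHomogeneousIdeal.toIdeal := h2 (hgen _ hle hb')
  exact x.isPrime.mem_of_pow_mem _ h3

end alg

theorem cover {Y P : Scheme.{u}} (𝒮 : RelProj.QCGrAlg Y) (p : P ⟶ Y)
    (chart : ∀ (U : Y.Opens) (hU : IsAffineOpen U), (((p ⁻¹ᵁ U : P.Opens) : Scheme.{u}) ≅ Proj (𝒮.deg U hU)))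
    {ι : Type u}
    (f : ι → 𝒮.presheaf.obj (op ⊤))
    (hgen : ∀ (U : Y.Opens) (hU : IsAffineOpen U), ∃ n₀ : ℕ, ∀ n, n₀ ≤ n →
      (𝒮.deg U hU n : Set (𝒮.presheaf.obj (op U))) ⊆
        (Ideal.span (Set.range fun a => (𝒮.presheaf.map (homOfLE (le_top : U ≤ ⊤)).op).hom (f a)) :
          Set (𝒮.presheaf.obj (op U))))
    (X : ι → P.Opens)
    (hX : ∀ (a : ι) (U : Y.Opens) (hU : IsAffineOpen U),
      X a ⊓ p ⁻¹ᵁ U =
        (p ⁻¹ᵁ U).ι ''ᵁ ((chart U hU).hom ⁻¹ᵁ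
          Proj.basicOpen (𝒮.deg U hU) ((𝒮.presheaf.map (homOfLE le_top).op).hom (f a)))) :
    ⨆ a, X a = ⊤ := by
  rw [eq_top_iff]
  intro x _
  obtain ⟨U, hxU⟩ := Opens.mem_iSup.mp
    ((iSup_affineOpens_eq_top Y).symm ▸ (Opens.mem_top (p.base x)) : p.base x ∈ ⨆ i : Y.affineOpens, (i : Y.Opens))
  have hx' : x ∈ p ⁻¹ᵁ U.1 := hxU
  obtain ⟨n₀, hn₀⟩ := hgen U.1 U.2
  obtain ⟨a, ha⟩ := exists_mem_basicOpen (𝒮.deg U.1 U.2) _ n₀ hn₀
    ((chart U.1 U.2).hom.base ⟨x, hx'⟩)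
  rw [Opens.mem_iSup]
  refine ⟨a, ?_⟩
  have : x ∈ X a ⊓ p ⁻¹ᵁ U.1 := by
    rw [hX a U.1 U.2]
    exact ⟨⟨x, hx'⟩, ha, rfl⟩
  exact this.1

end Groth.Agent.S8280aux

namespace Groth.Agent.S8280

/-- Let (f_α) be global sections of the quasi-coherent positively graded O_Y-algebra 𝒮, homogeneous of
positive degrees, such that the ideal they generate contains all 𝒮_n from some degree on
(affine-locally). Then the opens X_{f_α} of Proj(𝒮) (characterised chartwise by the basic opens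
D_+(f_α|U)) cover Proj(𝒮). (The published hypothesis fixes one degree, valid over all of Y, from
which on the f_α generate; this row asks for such a degree over each affine open separately, which
is all the proof, carried out one affine open at a time, uses.) -/
theorem result {Y P : Scheme.{u}} (𝒮 : RelProj.QCGrAlg Y) (p : P ⟶ Y)
    (chart : ∀ (U : Y.Opens) (hU : IsAffineOpen U), (((p ⁻¹ᵁ U : P.Opens) : Scheme.{u}) ≅ Proj (𝒮.deg U hU)))
    (hP : RelProj.IsRelProj 𝒮 p chart) {ι : Type u} (d : ι → ℕ) (hd : ∀ a, 0 < d a)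
    (f : ι → 𝒮.presheaf.obj (op ⊤))
    (hf : ∀ (a : ι) (U : Y.Opens) (hU : IsAffineOpen U), (𝒮.presheaf.map (homOfLE le_top).op).hom (f a) ∈ 𝒮.deg U hU (d a))
    (hgen : ∀ (U : Y.Opens) (hU : IsAffineOpen U), ∃ n₀ : ℕ, ∀ n, n₀ ≤ n →
      (𝒮.deg U hU n : Set (𝒮.presheaf.obj (op U))) ⊆
        (Ideal.span (Set.range fun a => (𝒮.presheaf.map (homOfLE (le_top : U ≤ ⊤)).op).hom (f a)) :
          Set (𝒮.presheaf.obj (op U))))
    (X : ι → P.Opens)
    (hX : ∀ (a : ι) (U : Y.Opens) (hU : IsAffineOpen U),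
      X a ⊓ p ⁻¹ᵁ U =
        (p ⁻¹ᵁ U).ι ''ᵁ ((chart U hU).hom ⁻¹ᵁ
          Proj.basicOpen (𝒮.deg U hU) ((𝒮.presheaf.map (homOfLE le_top).op).hom (f a)))) :
    ⨆ a, X a = ⊤ := by
  exact Groth.Agent.S8280aux.cover 𝒮 p chart f hgen X hX

end Groth.Agent.S8280
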