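import Groth.Statements.S8281
import Mathlib
import Groth.Agent.Lib.helper27.SpecQ

set_option autoImplicit false
universe u
open CategoryTheory CategoryTheory.Limits AlgebraicGeometry Opposite TopologicalSpace
open EGA2

namespace Groth.Agent.S8281aux
open CategoryTheory CategoryTheory.Limits AlgebraicGeometry Opposite TopologicalSpace
open Groth.Agent.Lib.helper27

variable {S S' : Scheme.{u}} (q : S' ⟶ S) (B : RelSpec.QCAlg S) (B' : RelSpec.QCAlg S')
  (u : B.presheaf ⟶ q.base _* B'.presheaf)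
  (hu : B.str ≫ u = q.c ≫ (TopCat.Presheaf.pushforward CommRingCat.{u} q.base).map B'.str)

include hu in
theorem str_ρ (U : S.Opens) (U' : S'.Opens) (hle : U' ≤ q ⁻¹ᵁ U) :
    B.str.app (op U) ≫ SpecQ.ρ q B B' u U U' hle = q.appLE U U' hle ≫ B'.str.app (op U') := by
  unfold SpecQ.ρ
  have h1 : B.str.app (op U) ≫ u.app (op U) =
      q.c.app (op U) ≫ ((TopCat.Presheaf.pushforward CommRingCat.{u} q.base).map B'.str).app (op U) :=
    congrArg (fun t => t.app (op U)) hu
  rw [← Category.assoc, h1, Category.assoc]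
  change q.c.app (op U) ≫ B'.str.app (op (q ⁻¹ᵁ U)) ≫ B'.presheaf.map (homOfLE hle).op = _
  rw [← B'.str.naturality, ← Category.assoc]
  rfl

include hu in
theorem lies_over (v : B'.spec ⟶ B.spec)
    (hv : ∀ (U : S.Opens) (hU : IsAffineOpen U) (U' : S'.Opens) (hU' : IsAffineOpen U')
      (hle : U' ≤ q ⁻¹ᵁ U), B'.ι U' hU' ≫ v = SpecQ.gm q B B' u U hU U' hle) :
    v ≫ B.π = B'.π ≫ q := by
  refine (SpecQ.cover q B').hom_ext _ _ ?_
  intro (k : SpecQ.K q)
  change B'.ι k.U' k.hU' ≫ v ≫ B.π = B'.ι k.U' k.hU' ≫ B'.π ≫ q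
  rw [← Category.assoc, hv k.U k.hU k.U' k.hU' k.hle, ← Category.assoc (B'.ι k.U' k.hU'),
    B'.ι_π k.U' k.hU', Category.assoc, Category.assoc, B.ι_π k.U k.hU, ← Spec.map_comp_assoc,
    str_ρ q B B' u hu, Spec.map_comp_assoc, IsAffineOpen.SpecMap_appLE_fromSpec]

include hu in
theorem main :
    (∃! v : B'.spec ⟶ B.spec,
        ∀ (U : S.Opens) (hU : IsAffineOpen U) (U' : S'.Opens) (hU' : IsAffineOpen U') (hle : U' ≤ q ⁻¹ᵁ U),
          B'.ι U' hU' ≫ v =
            Spec.map ((u.app (op U) : B.presheaf.obj (op U) ⟶ B'.presheaf.obj (op (q ⁻¹ᵁ U))) ≫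
              B'.presheaf.map (homOfLE hle).op) ≫ B.ι U hU) ∧
      ∀ v : B'.spec ⟶ B.spec,
        (∀ (U : S.Opens) (hU : IsAffineOpen U) (U' : S'.Opens) (hU' : IsAffineOpen U') (hle : U' ≤ q ⁻¹ᵁ U),
          B'.ι U' hU' ≫ v =
            Spec.map ((u.app (op U) : B.presheaf.obj (op U) ⟶ B'.presheaf.obj (op (q ⁻¹ᵁ U))) ≫
              B'.presheaf.map (homOfLE hle).op) ≫ B.ι U hU) →
        v ≫ B.π = B'.π ≫ q := by
  refine ⟨⟨SpecQ.specQ q B B' u, fun U hU U' hU' hle => SpecQ.ι_specQ q B B' u U hU U' hU' hle,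
    fun v hv => SpecQ.specQ_unique q B B' u v hv⟩, fun v hv => lies_over q B B' u hu v hv⟩

end Groth.Agent.S8281aux

namespace Groth.Agent.S8281

/-- Let q : S' → S be a morphism, B and B' quasi-coherent algebras over O_S and O_{S'}, and u : B →
q_*B' a q-morphism (compatible with the structure maps). Then u induces a unique morphism v =
Spec(u) : Spec(B') → Spec(B) which on the charts over affine opens U ⊆ S, U' ⊆ q⁻¹(U) is Spec of the
ring map B(U) → B'(U') given by u and restriction; it lies over q. -/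
theorem result {S S' : Scheme.{u}} (q : S' ⟶ S) (B : RelSpec.QCAlg S)
    (B' : RelSpec.QCAlg S') (u : B.presheaf ⟶ q.base _* B'.presheaf)
    (hu : B.str ≫ u = q.c ≫ (TopCat.Presheaf.pushforward CommRingCat.{u} q.base).map B'.str) :
    (∃! v : B'.spec ⟶ B.spec,
        ∀ (U : S.Opens) (hU : IsAffineOpen U) (U' : S'.Opens) (hU' : IsAffineOpen U') (hle : U' ≤ q ⁻¹ᵁ U),
          B'.ι U' hU' ≫ v =
            Spec.map ((u.app (op U) : B.presheaf.obj (op U) ⟶ B'.presheaf.obj (op (q ⁻¹ᵁ U))) ≫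
              B'.presheaf.map (homOfLE hle).op) ≫ B.ι U hU) ∧
      ∀ v : B'.spec ⟶ B.spec,
        (∀ (U : S.Opens) (hU : IsAffineOpen U) (U' : S'.Opens) (hU' : IsAffineOpen U') (hle : U' ≤ q ⁻¹ᵁ U),
          B'.ι U' hU' ≫ v =
            Spec.map ((u.app (op U) : B.presheaf.obj (op U) ⟶ B'.presheaf.obj (op (q ⁻¹ᵁ U))) ≫
              B'.presheaf.map (homOfLE hle).op) ≫ B.ι U hU) →
        v ≫ B.π = B'.π ≫ q := by
  exact Groth.Agent.S8281aux.main q B B' u hu

end Groth.Agent.S8281
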