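import Groth.Statements.S8289
import Mathlib
import Groth.Agent.Lib.helper27.ProjCone3
import Groth.Agent.Lib.helper27.ProjCone2
import Groth.Agent.Lib.helper27.ProjCone

set_option autoImplicit false
universe u
open CategoryTheory CategoryTheory.Limits AlgebraicGeometry Opposite TopologicalSpace
open scoped HomogeneousIdeal
noncomputable section
open EGA2

namespace Groth.Agent.S8289aux
open CategoryTheory CategoryTheory.Limits AlgebraicGeometry Opposite TopologicalSpace
open scoped HomogeneousIdeal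
open Groth.Agent.Lib.helper27

variable {Y PC : Scheme.{u}} (𝒮 Sh : RelProj.QCGrAlg Y)
    (ι : 𝒮.toQCAlg ⟶ Sh.toQCAlg) (z : Sh.presheaf.obj (op ⊤))
    (hz : RelCone.IsPolyOver 𝒮 Sh ι z)
    (pC : PC ⟶ Y)
    (chartC : ∀ (U : Y.Opens) (hU : IsAffineOpen U), (((pC ⁻¹ᵁ U : PC.Opens) : Scheme.{u}) ≅ Proj (Sh.deg U hU)))
    (hPC : RelProj.IsRelProj Sh pC chartC)
    (θ : ∀ (U : Y.Opens) (hU : IsAffineOpen U),
      CommRingCat.of (HomogeneousLocalization.Away (Sh.deg U hU) (RelCone.restrictTop Sh z U)) ⟶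
        𝒮.presheaf.obj (op U))
    (hθ : ∀ (U : Y.Opens) (hU : IsAffineOpen U)
      (q : HomogeneousLocalization.Away (Sh.deg U hU) (RelCone.restrictTop Sh z U))
      (k : ℕ) (x : 𝒮.presheaf.obj (op U)), x ∈ 𝒮.deg U hU k →
        q.val = Localization.mk ((ι.hom.app (op U)).hom x)
          ⟨RelCone.restrictTop Sh z U ^ k,
            pow_mem (Submonoid.mem_powers (RelCone.restrictTop Sh z U)) k⟩ →
        (θ U hU).hom q = x)

include hθ in
theorem θ_eq (U : Y.Opens) (hU : IsAffineOpen U) :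
    θ U hU = CommRingCat.ofHom (hz.awayZToBase U hU) := by
  ext t
  change (θ U hU).hom t = hz.awayZToBase U hU t
  have hinj := ProjCone.awayZ_injective hz U hU
  have hsurj := ProjCone.awayZ_surjective hz U hU
  have key : ∀ a : 𝒮.presheaf.obj (op U), ∀ t, hz.awayZToBase U hU t = a → (θ U hU).hom t = a := by
    intro a
    refine DirectSum.Decomposition.inductionOn (𝒮.deg U hU)
      (motive := fun a => ∀ t, hz.awayZToBase U hU t = a → (θ U hU).hom t = a) ?_ ?_ ?_ a
    · intro t ht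
      have : t = 0 := hinj (by rw [ht, map_zero])
      rw [this, map_zero]
    · intro k m t ht
      have hmem : (ι.hom.app (op U)).hom (m : 𝒮.presheaf.obj (op U)) ∈ Sh.deg U hU (k • 1) := by
        simpa using hz.graded U hU k _ m.2
      have h1 : t = HomogeneousLocalization.Away.mk _ (hz.deg_z U hU) k
          ((ι.hom.app (op U)).hom m) hmem := by
        apply hinj
        rw [ht, ProjCone.awayZ_mk, hz.evalOne_ι]
      rw [h1]
      exact hθ U hU _ k m m.2 (HomogeneousLocalization.Away.val_mk _ _ _ _ _)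
    · intro a a' ha ha' t ht
      obtain ⟨t1, ht1⟩ := hsurj a
      obtain ⟨t2, ht2⟩ := hsurj a'
      have : t = t1 + t2 := hinj (by rw [ht, map_add, ht1, ht2])
      rw [this, map_add, ha t1 ht1, ha' t2 ht2]
  exact key _ t rfl

include hθ in
theorem conv (i : 𝒮.toQCAlg.spec ⟶ PC) :
    (∀ (U : Y.Opens) (hU : IsAffineOpen U),
        𝒮.toQCAlg.ι U hU ≫ i =
          Spec.map (θ U hU) ≫
            Proj.awayι (Sh.deg U hU) (RelCone.restrictTop Sh z U) (hz.deg_z U hU) one_pos ≫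
              RelProj.emb pC chartC U hU) ↔ RelCone.IsConeImm 𝒮 hz pC chartC i := by
  unfold RelCone.IsConeImm
  constructor
  · intro h U hU
    rw [← θ_eq 𝒮 Sh ι z hz θ hθ U hU]
    exact h U hU
  · intro h U hU
    rw [θ_eq 𝒮 Sh ι z hz θ hθ U hU]
    exact h U hU

include hPC in
theorem range_eq (i : 𝒮.toQCAlg.spec ⟶ PC) (hi : RelCone.IsConeImm 𝒮 hz pC chartC i)
    (Xz : PC.Opens) (hXz : ∀ (U : Y.Opens) (hU : IsAffineOpen U),
      Xz ⊓ pC ⁻¹ᵁ U =
        (pC ⁻¹ᵁ U).ι ''ᵁ ((chartC U hU).hom ⁻¹ᵁ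
          Proj.basicOpen (Sh.deg U hU) (RelCone.restrictTop Sh z U))) :
    Set.range i.base = (Xz : Set PC) := by
  ext x
  obtain ⟨⟨U, hU⟩, q, rfl⟩ := ProjCone.cover_emb pC chartC x
  rw [ProjCone.emb_mem_range_i_iff hz pC chartC hPC i hi U hU q]
  have hmemU : (RelProj.emb pC chartC U hU).base q ∈ pC ⁻¹ᵁ U := ((chartC U hU).inv.base q).2
  have e1 : (RelProj.emb pC chartC U hU).base q ∈ (Xz : Set PC) ↔
      (RelProj.emb pC chartC U hU).base q ∈ Xz ⊓ pC ⁻¹ᵁ U :=
    ⟨fun h => ⟨h, hmemU⟩, fun h => h.1⟩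
  rw [e1, hXz U hU]
  have hcomp : (chartC U hU).hom.base ((chartC U hU).inv.base q) = q := by
    change ((chartC U hU).inv ≫ (chartC U hU).hom).base q = q
    rw [Iso.inv_hom_id]
    rfl
  constructor
  · intro hzq
    refine ⟨(chartC U hU).inv.base q, ?_, rfl⟩
    change (chartC U hU).hom.base ((chartC U hU).inv.base q) ∈ Proj.basicOpen _ _
    rw [hcomp, Proj.mem_basicOpen]
    exact hzq
  · rintro ⟨y, hy, hyq⟩
    have hy' : y = (chartC U hU).inv.base q := (pC ⁻¹ᵁ U).ι.isOpenEmbedding.injective hyq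
    have hy2 : (chartC U hU).hom.base y ∈ Proj.basicOpen (Sh.deg U hU) (RelCone.restrictTop Sh z U) := hy
    rw [hy', hcomp, Proj.mem_basicOpen] at hy2
    exact hy2

include hPC hθ in
theorem main :
    (∃! i : 𝒮.toQCAlg.spec ⟶ PC, ∀ (U : Y.Opens) (hU : IsAffineOpen U),
        𝒮.toQCAlg.ι U hU ≫ i =
          Spec.map (θ U hU) ≫
            Proj.awayι (Sh.deg U hU) (RelCone.restrictTop Sh z U) (hz.deg_z U hU) one_pos ≫
              RelProj.emb pC chartC U hU) ∧
      ∀ i : 𝒮.toQCAlg.spec ⟶ PC, (∀ (U : Y.Opens) (hU : IsAffineOpen U),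
        𝒮.toQCAlg.ι U hU ≫ i =
          Spec.map (θ U hU) ≫
            Proj.awayι (Sh.deg U hU) (RelCone.restrictTop Sh z U) (hz.deg_z U hU) one_pos ≫
              RelProj.emb pC chartC U hU) →
        IsOpenImmersion i ∧ IsAffineHom i ∧ i ≫ pC = 𝒮.toQCAlg.π ∧ i.ker = ⊥ ∧
          ∀ Xz : PC.Opens, (∀ (U : Y.Opens) (hU : IsAffineOpen U),
            Xz ⊓ pC ⁻¹ᵁ U =
              (pC ⁻¹ᵁ U).ι ''ᵁ ((chartC U hU).hom ⁻¹ᵁ
                Proj.basicOpen (Sh.deg U hU) (RelCone.restrictTop Sh z U))) →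
            Set.range i.base = (Xz : Set PC) := by
  constructor
  · exact (existsUnique_congr (conv 𝒮 Sh ι z hz pC chartC θ hθ)).mpr
      (ProjCone.existsUnique_coneImm hz pC chartC hPC)
  · intro i hi0
    have hi := (conv 𝒮 Sh ι z hz pC chartC θ hθ i).mp hi0
    exact ⟨ProjCone.isOpenImmersion_i hz pC chartC hPC i hi,
      ProjCone.isAffineHom_i hz pC chartC hPC i hi,
      ProjCone.i_comp_pC hz pC chartC hPC i hi,
      ProjCone.ker_i hz pC chartC i hi,
      fun Xz hXz => range_eq 𝒮 Sh ι z hz pC chartC hPC i hi Xz hXz⟩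

end Groth.Agent.S8289aux

namespace Groth.Agent.S8289

/-- The canonical morphism i from the affine cone to the projective cone: let 𝒮 be a quasi-coherent
positively graded O_Y-algebra with 𝒮_0 = O_Y, Ŝ = 𝒮[z] (z of degree one; presented through a graded
homomorphism ι : 𝒮 → Ŝ and a degree-one global section z with 𝒮(U)[X] → Ŝ(U), X ↦ z, bijective on
affine opens), C = Spec(𝒮) and Ĉ = Proj(Ŝ). There is a unique morphism i : C → Ĉ which, on the chart
Spec 𝒮(U) of C over an affine open U, is Spec of the ring isomorphism Ŝ(U)_(z) ≅ 𝒮(U) (sending x/z^k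
to x for x homogeneous of degree k) followed by the inclusion of D_+(z|U) into Proj Ŝ(U) and the
chart of Ĉ; this i is an open immersion, affine, lies over Y, Ĉ is the smallest closed subscheme of
Ĉ containing its image (its kernel ideal sheaf is zero), and its image is the open Ĉ_z where the
section z does not vanish (characterised chartwise by D_+(z|U)). -/
theorem result {Y PC : Scheme.{u}} (𝒮 Sh : RelProj.QCGrAlg Y)
    (h0 : ∀ (U : Y.Opens) (hU : IsAffineOpen U), Function.Bijective (𝒮.strZero U hU).hom)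
    (ι : 𝒮.toQCAlg ⟶ Sh.toQCAlg) (hι : RelProj.IsGradedHom ι) (z : Sh.presheaf.obj (op ⊤))
    (hz : ∀ (U : Y.Opens) (hU : IsAffineOpen U), (Sh.presheaf.map (homOfLE le_top).op).hom z ∈ Sh.deg U hU 1)
    (hpoly : ∀ (U : Y.Opens) (hU : IsAffineOpen U),
      Function.Bijective (Polynomial.eval₂RingHom (ι.hom.app (op U)).hom ((Sh.presheaf.map (homOfLE le_top).op).hom z)))
    (pC : PC ⟶ Y)
    (chartC : ∀ (U : Y.Opens) (hU : IsAffineOpen U), (((pC ⁻¹ᵁ U : PC.Opens) : Scheme.{u}) ≅ Proj (Sh.deg U hU)))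
    (hPC : RelProj.IsRelProj Sh pC chartC)
    (θ : ∀ (U : Y.Opens) (hU : IsAffineOpen U),
      CommRingCat.of (HomogeneousLocalization.Away (Sh.deg U hU) ((Sh.presheaf.map (homOfLE le_top).op).hom z)) ⟶
        𝒮.presheaf.obj (op U))
    (hθ : ∀ (U : Y.Opens) (hU : IsAffineOpen U)
      (q : HomogeneousLocalization.Away (Sh.deg U hU) ((Sh.presheaf.map (homOfLE le_top).op).hom z))
      (k : ℕ) (x : 𝒮.presheaf.obj (op U)), x ∈ 𝒮.deg U hU k →
        q.val = Localization.mk ((ι.hom.app (op U)).hom x)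
          ⟨(Sh.presheaf.map (homOfLE le_top).op).hom z ^ k,
            pow_mem (Submonoid.mem_powers ((Sh.presheaf.map (homOfLE le_top).op).hom z)) k⟩ →
        (θ U hU).hom q = x) :
    (∃! i : 𝒮.toQCAlg.spec ⟶ PC, ∀ (U : Y.Opens) (hU : IsAffineOpen U),
        𝒮.toQCAlg.ι U hU ≫ i =
          Spec.map (θ U hU) ≫
            Proj.awayι (Sh.deg U hU) ((Sh.presheaf.map (homOfLE le_top).op).hom z) (hz U hU) one_pos ≫
              RelProj.emb pC chartC U hU) ∧
      ∀ i : 𝒮.toQCAlg.spec ⟶ PC, (∀ (U : Y.Opens) (hU : IsAffineOpen U),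
        𝒮.toQCAlg.ι U hU ≫ i =
          Spec.map (θ U hU) ≫
            Proj.awayι (Sh.deg U hU) ((Sh.presheaf.map (homOfLE le_top).op).hom z) (hz U hU) one_pos ≫
              RelProj.emb pC chartC U hU) →
        IsOpenImmersion i ∧ IsAffineHom i ∧ i ≫ pC = 𝒮.toQCAlg.π ∧ i.ker = ⊥ ∧
          ∀ Xz : PC.Opens, (∀ (U : Y.Opens) (hU : IsAffineOpen U),
            Xz ⊓ pC ⁻¹ᵁ U =
              (pC ⁻¹ᵁ U).ι ''ᵁ ((chartC U hU).hom ⁻¹ᵁ
                Proj.basicOpen (Sh.deg U hU) ((Sh.presheaf.map (homOfLE le_top).op).hom z))) →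
            Set.range i.base = (Xz : Set PC) := by
  exact Groth.Agent.S8289aux.main 𝒮 Sh ι z ⟨hι, hz, hpoly⟩ pC chartC hPC θ hθ

end Groth.Agent.S8289
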