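import Groth.Statements.S8295
import Mathlib
import Groth.Agent.Lib.helper27.ProjQMap

set_option autoImplicit false
universe u
open CategoryTheory CategoryTheory.Limits AlgebraicGeometry Opposite TopologicalSpace
open scoped HomogeneousIdeal
noncomputable section
open EGA2

namespace Groth.Agent.S8295aux
open CategoryTheory CategoryTheory.Limits AlgebraicGeometry Opposite TopologicalSpace
open Groth.Agent.Lib.helper27

variable {Y : Scheme.{u}}

theorem cover_affine (y : Y) : ∃ U : Y.affineOpens, y ∈ Set.range (U.2.fromSpec).base := by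
  obtain ⟨U, hxU⟩ := Opens.mem_iSup.mp
    ((iSup_affineOpens_eq_top Y).symm ▸ (Opens.mem_top y) : y ∈ ⨆ i : Y.affineOpens, (i : Y.Opens))
  refine ⟨U, ?_⟩
  have : y ∈ U.2.fromSpec.opensRange := by rw [U.2.opensRange_fromSpec]; exact hxU
  exact this

/-- the structure morphism of `Spec(O_Y)` is an isomorphism. -/
theorem isIso_unit_π : IsIso (RelSpec.QCAlg.unit Y).π := by
  change MorphismProperty.isomorphisms Scheme.{u} _
  refine ProjQMap.of_charts (MorphismProperty.isomorphisms Scheme.{u}) (RelSpec.QCAlg.unit Y).π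
    (ι := Y.affineOpens)
    (fun U => Spec Γ(Y, U.1)) (fun U => Spec ((RelSpec.QCAlg.unit Y).presheaf.obj (op U.1)))
    (fun U => U.2.fromSpec) (fun U => inferInstance)
    (fun U => (RelSpec.QCAlg.unit Y).ι U.1 U.2) (fun U => inferInstance)
    (fun U => Spec.map ((RelSpec.QCAlg.unit Y).str.app (op U.1))) cover_affine
    (fun U => (RelSpec.QCAlg.unit Y).ι_π U.1 U.2) ?_ ?_
  · intro U
    rw [U.2.opensRange_fromSpec]
    exact (RelSpec.QCAlg.unit Y).π_preimage U.1 U.2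
  · intro U
    change IsIso (Spec.map (𝟙 _))
    infer_instance

variable (𝒮 : RelProj.QCGrAlg Y) (aug : 𝒮.toQCAlg ⟶ RelSpec.QCAlg.unit Y)

/-- the vertex section. -/
noncomputable def ε₀ : Y ⟶ 𝒮.toQCAlg.spec :=
  haveI := isIso_unit_π (Y := Y)
  inv (RelSpec.QCAlg.unit Y).π ≫ RelSpec.QCAlg.specMap aug

theorem ι_unit_π (U : Y.Opens) (hU : IsAffineOpen U) :
    (RelSpec.QCAlg.unit Y).ι U hU ≫ (RelSpec.QCAlg.unit Y).π = hU.fromSpec := by
  have h := (RelSpec.QCAlg.unit Y).ι_π U hU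
  have e : Spec.map ((RelSpec.QCAlg.unit Y).str.app (op U)) = 𝟙 _ := by
    change Spec.map (𝟙 _) = 𝟙 _
    exact Spec.map_id _
  exact h.trans ((congrArg (· ≫ hU.fromSpec) e).trans (Category.id_comp _))

theorem fromSpec_inv (U : Y.Opens) (hU : IsAffineOpen U) :
    haveI := isIso_unit_π (Y := Y)
    hU.fromSpec ≫ inv (RelSpec.QCAlg.unit Y).π = (RelSpec.QCAlg.unit Y).ι U hU := by
  have := isIso_unit_π (Y := Y)
  exact (IsIso.comp_inv_eq _).mpr (ι_unit_π U hU).symm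

theorem isVertex_ε₀ : RelCone.IsVertex 𝒮 aug (ε₀ 𝒮 aug) := by
  have := isIso_unit_π (Y := Y)
  constructor
  · unfold ε₀
    rw [Category.assoc, RelSpec.QCAlg.specMap_π, IsIso.inv_hom_id]
  · intro U hU
    unfold ε₀
    exact ((Category.assoc _ _ _).symm.trans
      (congrArg (· ≫ RelSpec.QCAlg.specMap aug) (fromSpec_inv U hU))).trans
      (RelSpec.QCAlg.ι_specMap U hU aug)

theorem vertex_unique (ε ε' : Y ⟶ 𝒮.toQCAlg.spec) (h : RelCone.IsVertex 𝒮 aug ε)
    (h' : RelCone.IsVertex 𝒮 aug ε') : ε = ε' := by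
  refine (Y.openCoverOfIsOpenCover (fun U : Y.affineOpens => U.1)
    (iSup_affineOpens_eq_top Y)).hom_ext _ _ fun U => ?_
  change U.1.ι ≫ ε = U.1.ι ≫ ε'
  have e : U.1.ι = U.2.isoSpec.hom ≫ U.2.fromSpec := by
    rw [← U.2.isoSpec_inv_ι, Iso.hom_inv_id_assoc]
  rw [e, Category.assoc, Category.assoc, h.chart U.1 U.2, h'.chart U.1 U.2]

theorem isClosedImmersion_vertex (ε : Y ⟶ 𝒮.toQCAlg.spec) (h : RelCone.IsVertex 𝒮 aug ε) :
    IsClosedImmersion ε := by
  refine ProjQMap.of_charts @IsClosedImmersion ε (ι := Y.affineOpens)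
    (fun U => Spec (𝒮.presheaf.obj (op U.1))) (fun U => Spec Γ(Y, U.1))
    (fun U => 𝒮.toQCAlg.ι U.1 U.2) (fun U => inferInstance)
    (fun U => U.2.fromSpec) (fun U => inferInstance)
    (fun U => Spec.map (aug.hom.app (op U.1))) ?_ (fun U => h.chart U.1 U.2) ?_ ?_
  · intro c
    obtain ⟨U, hxU⟩ := Opens.mem_iSup.mp
      ((iSup_affineOpens_eq_top Y).symm ▸ (Opens.mem_top (𝒮.toQCAlg.π.base c)) :
        𝒮.toQCAlg.π.base c ∈ ⨆ i : Y.affineOpens, (i : Y.Opens))
    refine ⟨U, ?_⟩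
    have : c ∈ 𝒮.toQCAlg.π ⁻¹ᵁ U.1 := hxU
    rw [𝒮.toQCAlg.π_preimage U.1 U.2] at this
    exact this
  · intro U
    rw [U.2.opensRange_fromSpec, ← 𝒮.toQCAlg.π_preimage U.1 U.2, ← Scheme.Hom.comp_preimage, h.comp_π]
    rfl
  · intro U
    apply IsClosedImmersion.spec_of_surjective
    intro r
    refine ⟨(𝒮.str.app (op U.1)).hom r, ?_⟩
    have := congrArg (fun t => (t.app (op U.1)).hom r) aug.comm
    exact this

theorem main :
    (∃! ε : Y ⟶ 𝒮.toQCAlg.spec, RelCone.IsVertex 𝒮 aug ε) ∧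
      ∀ ε : Y ⟶ 𝒮.toQCAlg.spec, RelCone.IsVertex 𝒮 aug ε → IsClosedImmersion ε :=
  ⟨⟨ε₀ 𝒮 aug, isVertex_ε₀ 𝒮 aug, fun _ h' => vertex_unique 𝒮 aug _ _ h' (isVertex_ε₀ 𝒮 aug)⟩,
    fun ε h => isClosedImmersion_vertex 𝒮 aug ε h⟩

end Groth.Agent.S8295aux

namespace Groth.Agent.S8295

/-- The vertex section of the affine cone: let 𝒮 be a quasi-coherent positively graded O_Y-algebra with
𝒮_0 = O_Y, aug : 𝒮 → O_Y its augmentation (the algebra homomorphism over O_Y that vanishes on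
sections of positive degree) and C = Spec(𝒮) the affine cone. There is exactly one morphism ε : Y →
C which is a section of the structure morphism and which over every affine open U of Y is, on Spec
O_Y(U), the morphism Spec of aug(U) followed by the chart Spec 𝒮(U) → C; moreover every such ε is a
closed immersion. -/
theorem result {Y : Scheme.{u}} (𝒮 : RelProj.QCGrAlg Y)
    (h0 : RelCone.StrZeroBij 𝒮) (aug : 𝒮.toQCAlg ⟶ RelSpec.QCAlg.unit Y) (haug : RelCone.IsAugmentation 𝒮 aug) :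
    (∃! ε : Y ⟶ 𝒮.toQCAlg.spec, RelCone.IsVertex 𝒮 aug ε) ∧
      ∀ ε : Y ⟶ 𝒮.toQCAlg.spec, RelCone.IsVertex 𝒮 aug ε → IsClosedImmersion ε := by
  exact Groth.Agent.S8295aux.main 𝒮 aug

end Groth.Agent.S8295
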