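import Groth.Statements.S8296
import Mathlib

set_option autoImplicit false
universe u
open CategoryTheory CategoryTheory.Limits AlgebraicGeometry Opposite TopologicalSpace
open scoped HomogeneousIdeal
noncomputable section
open EGA2

namespace Groth.Agent.S8296aux
open CategoryTheory CategoryTheory.Limits AlgebraicGeometry Opposite TopologicalSpace
open scoped HomogeneousIdeal

variable {Y : Scheme.{u}} (𝒮 : RelProj.QCGrAlg Y)

theorem exists_chart (c : 𝒮.toQCAlg.spec) :
    ∃ (U : Y.Opens) (hU : IsAffineOpen U) (w : Spec (𝒮.presheaf.obj (op U))),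
      (𝒮.toQCAlg.ι U hU).base w = c := by
  obtain ⟨U, hU, hyU⟩ : ∃ U : Y.Opens, IsAffineOpen U ∧ 𝒮.toQCAlg.π.base c ∈ U := by
    obtain ⟨U, hxU⟩ := Opens.mem_iSup.mp
      ((iSup_affineOpens_eq_top Y).symm ▸ (Opens.mem_top (𝒮.toQCAlg.π.base c)) :
        𝒮.toQCAlg.π.base c ∈ ⨆ i : Y.affineOpens, (i : Y.Opens))
    exact ⟨U.1, U.2, hxU⟩
  have : c ∈ 𝒮.toQCAlg.π ⁻¹ᵁ U := hyU
  rw [𝒮.toQCAlg.π_preimage U hU] at this
  obtain ⟨w, hw⟩ := this
  exact ⟨U, hU, w, hw⟩

variable (h0 : RelCone.StrZeroBij 𝒮) (aug : 𝒮.toQCAlg ⟶ RelSpec.QCAlg.unit Y)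
  (haug : RelCone.IsAugmentation 𝒮 aug)

include haug in
theorem irrelevant_le_ker (U : Y.Opens) (hU : IsAffineOpen U) :
    (HomogeneousIdeal.irrelevant (𝒮.deg U hU)).toIdeal ≤ RingHom.ker (aug.hom.app (op U)).hom := by
  rw [HomogeneousIdeal.toIdeal_irrelevant_le]
  intro i hi x hx
  obtain ⟨d, rfl⟩ : ∃ d, i = d + 1 := ⟨i - 1, by omega⟩
  exact haug U hU d x hx

theorem aug_str (U : Y.Opens) (r : Γ(Y, U)) :
    (aug.hom.app (op U)).hom ((𝒮.str.app (op U)).hom r) = r := by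
  have := congrArg (fun t => (t.app (op U)).hom r) aug.comm
  exact this

include h0 haug in
theorem sub_mem (U : Y.Opens) (hU : IsAffineOpen U) (x : 𝒮.presheaf.obj (op U)) :
    x - (𝒮.str.app (op U)).hom ((aug.hom.app (op U)).hom x) ∈
      (HomogeneousIdeal.irrelevant (𝒮.deg U hU)).toIdeal := by
  classical
  set x₀ : 𝒮.presheaf.obj (op U) := (DirectSum.decompose (𝒮.deg U hU) x 0 : 𝒮.presheaf.obj (op U)) with hx₀
  have hx₀mem : x₀ ∈ 𝒮.deg U hU 0 := SetLike.coe_mem _
  obtain ⟨r, hr⟩ := (h0 U hU).2 ⟨x₀, hx₀mem⟩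
  have hr' : (𝒮.str.app (op U)).hom r = x₀ := congrArg Subtype.val hr
  have hmem : x - x₀ ∈ (HomogeneousIdeal.irrelevant (𝒮.deg U hU)).toIdeal := by
    change x - x₀ ∈ HomogeneousIdeal.irrelevant (𝒮.deg U hU)
    rw [HomogeneousIdeal.mem_irrelevant_iff, map_sub, GradedRing.proj_apply, GradedRing.proj_apply,
      DirectSum.decompose_of_mem_same _ hx₀mem, sub_self]
  have hker := irrelevant_le_ker 𝒮 aug haug U hU hmem
  rw [RingHom.mem_ker, map_sub, sub_eq_zero] at hker
  rw [hker, ← hr', aug_str, hr']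
  exact hmem

variable (ε : Y ⟶ 𝒮.toQCAlg.spec) (hε : RelCone.IsVertex 𝒮 aug ε)

include hε in
theorem ε_fromSpec (U : Y.Opens) (hU : IsAffineOpen U) (v : Spec Γ(Y, U)) :
    ε.base (hU.fromSpec.base v) =
      (𝒮.toQCAlg.ι U hU).base ((Spec.map (aug.hom.app (op U))).base v) := by
  have := congrArg (fun g => g.base v) (hε.chart U hU)
  simp only [Scheme.Hom.comp_base, TopCat.hom_comp, ContinuousMap.comp_apply] at this
  exact this

theorem π_ι (U : Y.Opens) (hU : IsAffineOpen U) (w : Spec (𝒮.presheaf.obj (op U))) :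
    𝒮.toQCAlg.π.base ((𝒮.toQCAlg.ι U hU).base w) =
      hU.fromSpec.base ((Spec.map (𝒮.str.app (op U))).base w) := by
  have := congrArg (fun g => g.base w) (𝒮.toQCAlg.ι_π U hU)
  simpa using this

include h0 haug hε in
theorem mem_range_iff (U : Y.Opens) (hU : IsAffineOpen U) (w : Spec (𝒮.presheaf.obj (op U))) :
    (𝒮.toQCAlg.ι U hU).base w ∈ Set.range ε.base ↔
      (HomogeneousIdeal.irrelevant (𝒮.deg U hU)).toIdeal ≤ w.asIdeal := by
  constructor
  · rintro ⟨y, hy⟩
    have hy1 : y = hU.fromSpec.base ((Spec.map (𝒮.str.app (op U))).base w) := by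
      have h1 := congrArg (fun g => g.base y) hε.comp_π
      simp only [Scheme.Hom.comp_base, TopCat.hom_comp, ContinuousMap.comp_apply, Scheme.Hom.id_base,
        TopCat.hom_id, ContinuousMap.id_apply] at h1
      rw [← h1, hy, π_ι]
    rw [hy1, ε_fromSpec 𝒮 aug ε hε] at hy
    have hw := (𝒮.toQCAlg.ι U hU).isOpenEmbedding.injective hy
    rw [← hw]
    intro x hx
    have hk := irrelevant_le_ker 𝒮 aug haug U hU hx
    change (aug.hom.app (op U)).hom x ∈ ((Spec.map (𝒮.str.app (op U))).base w).asIdeal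
    rw [RingHom.mem_ker.mp hk]
    exact zero_mem _
  · intro hle
    refine ⟨hU.fromSpec.base ((Spec.map (𝒮.str.app (op U))).base w), ?_⟩
    rw [ε_fromSpec 𝒮 aug ε hε]
    congr 1
    apply PrimeSpectrum.ext
    ext x
    change (𝒮.str.app (op U)).hom ((aug.hom.app (op U)).hom x) ∈ w.asIdeal ↔ x ∈ w.asIdeal
    have hsub := hle (sub_mem 𝒮 h0 aug haug U hU x)
    constructor
    · intro h
      have := w.asIdeal.add_mem hsub h
      simpa using this
    · intro h
      have := w.asIdeal.sub_mem h hsub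
      simpa using this

include h0 haug hε in
theorem main :
    ((RelCone.pointedCone 𝒮 : 𝒮.toQCAlg.spec.Opens) : Set 𝒮.toQCAlg.spec) = (Set.range ε.base)ᶜ := by
  ext c
  constructor
  · intro hc
    have hc' : c ∈ RelCone.pointedCone 𝒮 := hc
    unfold RelCone.pointedCone at hc'
    rw [Opens.mem_iSup] at hc'
    obtain ⟨⟨U, hU⟩, w, hw, rfl⟩ := hc'
    intro hmem
    have hmem' : (𝒮.toQCAlg.ι U hU).base w ∈ Set.range ε.base := hmem
    rw [mem_range_iff 𝒮 h0 aug haug ε hε] at hmem'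
    exact hw ((PrimeSpectrum.mem_zeroLocus _ _).mpr hmem')
  · intro hc
    obtain ⟨U, hU, w, rfl⟩ := exists_chart 𝒮 c
    have hw : w ∈ RelCone.vertexCompl (𝒮.deg U hU) := by
      intro hmem
      exact hc ((mem_range_iff 𝒮 h0 aug haug ε hε U hU w).mpr ((PrimeSpectrum.mem_zeroLocus _ _).mp hmem))
    change _ ∈ RelCone.pointedCone 𝒮
    unfold RelCone.pointedCone
    rw [Opens.mem_iSup]
    exact ⟨⟨U, hU⟩, w, hw, rfl⟩

end Groth.Agent.S8296aux

namespace Groth.Agent.S8296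

/-- The pointed affine cone: let 𝒮 be a quasi-coherent positively graded O_Y-algebra with 𝒮_0 = O_Y, aug
its augmentation, C = Spec(𝒮) its affine cone and ε : Y → C the vertex section. Then the open subset
of C which is the union, over the affine opens U of Y, of the chart images of the complements of the
closed sets V(𝒮(U)_+) in Spec 𝒮(U), is exactly the complement of ε(Y); in other words the pointed
affine cone E, defined chart by chart through the irrelevant ideals, is C − ε(Y). -/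
theorem result {Y : Scheme.{u}} (𝒮 : RelProj.QCGrAlg Y)
    (h0 : RelCone.StrZeroBij 𝒮) (aug : 𝒮.toQCAlg ⟶ RelSpec.QCAlg.unit Y) (haug : RelCone.IsAugmentation 𝒮 aug)
    (ε : Y ⟶ 𝒮.toQCAlg.spec) (hε : RelCone.IsVertex 𝒮 aug ε) :
    ((RelCone.pointedCone 𝒮 : 𝒮.toQCAlg.spec.Opens) : Set 𝒮.toQCAlg.spec) = (Set.range ε.base)ᶜ := by
  exact Groth.Agent.S8296aux.main 𝒮 h0 aug haug ε hε

end Groth.Agent.S8296
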