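import Groth.Statements.S8298
import Mathlib
import Groth.Agent.S8296
import Groth.Agent.Lib.helper27.PointedCone
import Groth.Agent.Lib.helper27.ProjCone

set_option autoImplicit false
universe u
open CategoryTheory CategoryTheory.Limits AlgebraicGeometry Opposite TopologicalSpace
open scoped HomogeneousIdeal
noncomputable section
open EGA2

namespace Groth.Agent.S8298aux
open CategoryTheory CategoryTheory.Limits AlgebraicGeometry Opposite TopologicalSpace
open scoped HomogeneousIdeal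
open Groth.Agent.Lib.helper27

variable {Y PC : Scheme.{u}} (𝒮 𝒮h : RelProj.QCGrAlg Y) (h0 : RelCone.StrZeroBij 𝒮)
    (ι : 𝒮.toQCAlg ⟶ 𝒮h.toQCAlg) (z : 𝒮h.presheaf.obj (op ⊤)) (hz : RelCone.IsPolyOver 𝒮 𝒮h ι z)
    (pC : PC ⟶ Y)
    (chartC : ∀ (U : Y.Opens) (hU : IsAffineOpen U), (((pC ⁻¹ᵁ U : PC.Opens) : Scheme.{u}) ≅ Proj (𝒮h.deg U hU)))
    (hPC : RelProj.IsRelProj 𝒮h pC chartC)
    (aug : 𝒮.toQCAlg ⟶ RelSpec.QCAlg.unit Y) (haug : RelCone.IsAugmentation 𝒮 aug)
    (ε : Y ⟶ 𝒮.toQCAlg.spec) (hε : RelCone.IsVertex 𝒮 aug ε)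
    (i : 𝒮.toQCAlg.spec ⟶ PC) (hi : RelCone.IsConeImm 𝒮 hz pC chartC i)

theorem emb_mem (U : Y.Opens) (hU : IsAffineOpen U) (q : Proj (𝒮h.deg U hU)) :
    (RelProj.emb pC chartC U hU).base q ∈ pC ⁻¹ᵁ U :=
  ((chartC U hU).inv.base q).2

theorem exists_emb (x : PC) (U : Y.Opens) (hU : IsAffineOpen U) (hx : x ∈ pC ⁻¹ᵁ U) :
    ∃ q, (RelProj.emb pC chartC U hU).base q = x := by
  refine ⟨(chartC U hU).hom.base ⟨x, hx⟩, ?_⟩
  change ((chartC U hU).hom ≫ RelProj.emb pC chartC U hU).base ⟨x, hx⟩ = x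
  rw [RelProj.emb, Iso.hom_inv_id_assoc]
  rfl

theorem emb_injective (U : Y.Opens) (hU : IsAffineOpen U) :
    Function.Injective (RelProj.emb pC chartC U hU).base := by
  rw [RelProj.emb]
  exact ((chartC U hU).inv ≫ (pC ⁻¹ᵁ U).ι).isOpenEmbedding.injective

include h0 hPC haug hε hi in
theorem main :
    ((RelCone.pointedProjCone 𝒮 hz pC chartC : PC.Opens) : Set PC) = (Set.range (ε ≫ i).base)ᶜ := by
  ext x
  constructor
  · intro hx
    have hx' : x ∈ RelCone.pointedProjCone 𝒮 hz pC chartC := hx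
    unfold RelCone.pointedProjCone at hx'
    rw [Opens.mem_iSup] at hx'
    obtain ⟨⟨U, hU⟩, q, hq, rfl⟩ := hx'
    rintro ⟨y, hy⟩
    have hy' : i.base (ε.base y) = (RelProj.emb pC chartC U hU).base q := hy
    have hyU : y ∈ U := by
      obtain ⟨V, hV, w, hw⟩ := PointedCone.exists_chart 𝒮 (ε.base y)
      have h1 : pC.base (i.base (ε.base y)) = 𝒮.toQCAlg.π.base (ε.base y) := by
        rw [← hw]
        exact ProjCone.pC_i hz V hV pC chartC i hi hPC w
      have h2 : 𝒮.toQCAlg.π.base (ε.base y) = y := by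
        have := congrArg (fun g => g.base y) hε.comp_π
        simpa using this
      have h3 : (RelProj.emb pC chartC U hU).base q ∈ pC ⁻¹ᵁ U := emb_mem 𝒮h pC chartC U hU q
      rw [← hy'] at h3
      change pC.base (i.base (ε.base y)) ∈ U at h3
      rwa [h1, h2] at h3
    obtain ⟨y', rfl⟩ : ∃ y', hU.fromSpec.base y' = y := by
      have : y ∈ Set.range hU.fromSpec.base := by
        rw [hU.range_fromSpec]; exact hyU
      exact this
    set w := (Spec.map (aug.hom.app (op U))).base y' with hw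
    have h4 : i.base (ε.base (hU.fromSpec.base y')) =
        (RelProj.emb pC chartC U hU).base ((ProjCone.j hz U hU).base w) := by
      rw [S8296aux.ε_fromSpec 𝒮 aug ε hε, ProjCone.i_ι hz U hU pC chartC i hi]
    have h5 : q = (ProjCone.j hz U hU).base w :=
      emb_injective 𝒮h pC chartC U hU (hy'.symm.trans h4)
    have hq0 : q ∈ RelCone.domOpen (RelProj.gradedHomAt ι hz.graded U hU) := hq
    rw [h5, ProjCone.j_mem_domOpen_iff] at hq0
    apply hq0
    have : (𝒮.toQCAlg.ι U hU).base w ∈ Set.range ε.base :=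
      ⟨hU.fromSpec.base y', S8296aux.ε_fromSpec 𝒮 aug ε hε U hU y'⟩
    exact (S8296aux.mem_range_iff 𝒮 h0 aug haug ε hε U hU w).mp this
  · intro hx
    obtain ⟨⟨U, hU⟩, hxU⟩ := ProjQMap.exists_affine_mem PC pC x
    obtain ⟨q, rfl⟩ := exists_emb 𝒮h pC chartC x U hU hxU
    change _ ∈ RelCone.pointedProjCone 𝒮 hz pC chartC
    unfold RelCone.pointedProjCone
    rw [Opens.mem_iSup]
    refine ⟨⟨U, hU⟩, q, ?_, rfl⟩
    by_contra hq
    have hzq := ProjCone.z_not_mem_of_not_mem_domOpen hz U hU q hq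
    obtain ⟨w, rfl⟩ := (ProjCone.mem_range_j_iff hz U hU q).mpr hzq
    have hq' : ¬ (ProjCone.j hz U hU).base w ∈
        RelCone.domOpen (RelProj.gradedHomAt ι hz.graded U hU) := hq
    rw [ProjCone.j_mem_domOpen_iff, not_not] at hq'
    obtain ⟨y, hy⟩ := (S8296aux.mem_range_iff 𝒮 h0 aug haug ε hε U hU w).mpr hq'
    apply hx
    refine ⟨y, ?_⟩
    change i.base (ε.base y) = _
    rw [hy, ProjCone.i_ι hz U hU pC chartC i hi]

end Groth.Agent.S8298aux

namespace Groth.Agent.S8298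

/-- The pointed projective cone: let 𝒮 be a quasi-coherent positively graded O_Y-algebra with 𝒮_0 = O_Y,
aug its augmentation and ε : Y → C = Spec(𝒮) the vertex section; let Ŝ = 𝒮[z] (given through a
graded homomorphism ι : 𝒮 → Ŝ and a degree-one global section z, polynomial over every affine open),
Ĉ = Proj(Ŝ) its relative homogeneous spectrum with charts, and i : C → Ĉ the canonical open
immersion. Then the open subset of Ĉ which is the union, over the affine opens U of Y, of the chart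
images of the opens of Proj Ŝ(U) where the morphism induced by ι(U) : 𝒮(U) → Ŝ(U) is defined (the
complement of V_+ of the ideal generated by ι(𝒮(U)_+)) has underlying set exactly the complement of
i(ε(Y)): the pointed projective cone Ê is Ĉ minus its vertex section. -/
theorem result {Y PC : Scheme.{u}} (𝒮 𝒮h : RelProj.QCGrAlg Y) (h0 : RelCone.StrZeroBij 𝒮)
    (ι : 𝒮.toQCAlg ⟶ 𝒮h.toQCAlg) (z : 𝒮h.presheaf.obj (op ⊤)) (hz : RelCone.IsPolyOver 𝒮 𝒮h ι z)
    (pC : PC ⟶ Y)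
    (chartC : ∀ (U : Y.Opens) (hU : IsAffineOpen U), (((pC ⁻¹ᵁ U : PC.Opens) : Scheme.{u}) ≅ Proj (𝒮h.deg U hU)))
    (hPC : RelProj.IsRelProj 𝒮h pC chartC)
    (aug : 𝒮.toQCAlg ⟶ RelSpec.QCAlg.unit Y) (haug : RelCone.IsAugmentation 𝒮 aug)
    (ε : Y ⟶ 𝒮.toQCAlg.spec) (hε : RelCone.IsVertex 𝒮 aug ε)
    (i : 𝒮.toQCAlg.spec ⟶ PC) (hi : RelCone.IsConeImm 𝒮 hz pC chartC i) :
    ((RelCone.pointedProjCone 𝒮 hz pC chartC : PC.Opens) : Set PC) = (Set.range (ε ≫ i).base)ᶜ := by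
  exact Groth.Agent.S8298aux.main 𝒮 𝒮h h0 ι z hz pC chartC hPC aug haug ε hε i hi

end Groth.Agent.S8298
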