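import Groth.Statements.S8297
import Mathlib
import Groth.Agent.S8298
import Groth.Agent.Lib.helper27.RelProjMap
import Groth.Agent.Lib.helper27.PointedCone
import Groth.Agent.Lib.helper27.ProjCone

set_option autoImplicit false
universe u
open CategoryTheory CategoryTheory.Limits AlgebraicGeometry Opposite TopologicalSpace
open scoped HomogeneousIdeal
noncomputable section
open EGA2

namespace Groth.Agent.S8297aux
open CategoryTheory CategoryTheory.Limits AlgebraicGeometry Opposite TopologicalSpace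
open scoped HomogeneousIdeal
open Groth.Agent.Lib.helper27

variable {Y PC P : Scheme.{u}} (𝒮 𝒮h : RelProj.QCGrAlg Y)
    (ι : 𝒮.toQCAlg ⟶ 𝒮h.toQCAlg) (z : 𝒮h.presheaf.obj (op ⊤)) (hz : RelCone.IsPolyOver 𝒮 𝒮h ι z)
    (pC : PC ⟶ Y)
    (chartC : ∀ (U : Y.Opens) (hU : IsAffineOpen U), (((pC ⁻¹ᵁ U : PC.Opens) : Scheme.{u}) ≅ Proj (𝒮h.deg U hU)))
    (hPC : RelProj.IsRelProj 𝒮h pC chartC)
    (i : 𝒮.toQCAlg.spec ⟶ PC) (hi : RelCone.IsConeImm 𝒮 hz pC chartC i)
    (θ : 𝒮h.toQCAlg ⟶ 𝒮.toQCAlg) (hθ : RelProj.IsGradedHom θ) (hιθ : ι ≫ θ = 𝟙 _)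
    (hθz : (θ.hom.app (op ⊤)).hom z = 0)
    (hirr : ∀ (U : Y.Opens) (hU : IsAffineOpen U),
      (𝒮.deg U hU)₊ ≤ ((𝒮h.deg U hU)₊).map (RelProj.gradedHomAt θ hθ U hU))
    (p : P ⟶ Y)
    (chart : ∀ (U : Y.Opens) (hU : IsAffineOpen U), (((p ⁻¹ᵁ U : P.Opens) : Scheme.{u}) ≅ Proj (𝒮.deg U hU)))
    (hP : RelProj.IsRelProj 𝒮 p chart) (j : P ⟶ PC) (hj : RelProj.IsRelProjMap θ hθ hirr chartC chart j)

include hιθ in
theorem θ_ι (U : Y.Opens) (a : 𝒮.presheaf.obj (op U)) :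
    (θ.hom.app (op U)).hom ((ι.hom.app (op U)).hom a) = a := by
  have := congrArg (fun t => (t.hom.app (op U)).hom a) hιθ
  exact this

include hθz in
theorem θ_z (U : Y.Opens) : (θ.hom.app (op U)).hom (RelCone.restrictTop 𝒮h z U) = 0 := by
  have := congrArg (fun t => t.hom z) (θ.hom.naturality (homOfLE (le_top : U ≤ ⊤)).op)
  simp only [CommRingCat.hom_comp, RingHom.comp_apply] at this
  rw [hθz, map_zero] at this
  exact this

include hj in
theorem j_emb (U : Y.Opens) (hU : IsAffineOpen U) (t' : Proj (𝒮.deg U hU)) :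
    j.base ((RelProj.emb p chart U hU).base t') =
      (RelProj.emb pC chartC U hU).base
        ((Proj.map (RelProj.gradedHomAt θ hθ U hU) (hirr U hU)).base t') := by
  have h1 : RelProj.emb p chart U hU ≫ j =
      Proj.map (RelProj.gradedHomAt θ hθ U hU) (hirr U hU) ≫ RelProj.emb pC chartC U hU := by
    rw [RelProj.emb, Category.assoc, hj U hU, Iso.inv_hom_id_assoc, RelProj.emb]
  have := congrArg (fun g => g.base t') h1
  simp only [Scheme.Hom.comp_base, TopCat.hom_comp, ContinuousMap.comp_apply] at this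
  exact this

include hθz in
theorem z_mem_map (U : Y.Opens) (hU : IsAffineOpen U) (t' : Proj (𝒮.deg U hU)) :
    RelCone.restrictTop 𝒮h z U ∈
      ((Proj.map (RelProj.gradedHomAt θ hθ U hU) (hirr U hU)).base t').asHomogeneousIdeal := by
  change (θ.hom.app (op U)).hom (RelCone.restrictTop 𝒮h z U) ∈ t'.asHomogeneousIdeal
  rw [θ_z 𝒮 𝒮h z θ hθz U]
  exact zero_mem _

include hz hιθ hθz in
theorem exists_of_z_mem (U : Y.Opens) (hU : IsAffineOpen U) (q : Proj (𝒮h.deg U hU))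
    (hzq : RelCone.restrictTop 𝒮h z U ∈ q.asHomogeneousIdeal) :
    ∃ t', (Proj.map (RelProj.gradedHomAt θ hθ U hU) (hirr U hU)).base t' = q := by
  have hnot : ¬ HomogeneousIdeal.irrelevant (𝒮.deg U hU) ≤
      q.asHomogeneousIdeal.comap (RelProj.gradedHomAt ι hz.graded U hU) := by
    intro hle
    apply q.not_irrelevant_le
    have := PolyGr.irrelevant_le (𝒮.deg U hU) (𝒮h.deg U hU) (ι.hom.app (op U)).hom
      (RelCone.restrictTop 𝒮h z U) (hz.graded U hU) (hz.deg_z U hU) (hz.bij U hU)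
      q.asHomogeneousIdeal.toIdeal (fun f hf => hle hf) hzq
    exact this
  let t' : ProjectiveSpectrum (𝒮.deg U hU) :=
    ⟨q.asHomogeneousIdeal.comap (RelProj.gradedHomAt ι hz.graded U hU), q.isPrime.comap _, hnot⟩
  refine ⟨t', ?_⟩
  apply ProjectiveSpectrum.ext
  apply HomogeneousIdeal.toIdeal_injective
  ext x
  change (ι.hom.app (op U)).hom ((θ.hom.app (op U)).hom x) ∈ q.asHomogeneousIdeal.toIdeal ↔
    x ∈ q.asHomogeneousIdeal.toIdeal
  have hsub : x - (ι.hom.app (op U)).hom ((θ.hom.app (op U)).hom x) ∈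
      q.asHomogeneousIdeal.toIdeal := by
    have := PolyGr.sub_mem_span (ι.hom.app (op U)).hom (RelCone.restrictTop 𝒮h z U) (hz.bij U hU)
      (θ.hom.app (op U)).hom (θ_ι 𝒮 𝒮h ι θ hιθ U) (θ_z 𝒮 𝒮h z θ hθz U) x
    exact ((Ideal.span_singleton_le_iff_mem _).mpr hzq) this
  constructor
  · intro h
    have := Ideal.add_mem _ hsub h
    simpa using this
  · intro h
    have := Ideal.sub_mem _ h hsub
    simpa using this

include hPC hi hιθ hθz hP hj in
theorem main : Set.range i.base = (Set.range j.base)ᶜ := by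
  ext x
  obtain ⟨⟨U, hU⟩, hxU⟩ := ProjQMap.exists_affine_mem PC pC x
  obtain ⟨q, rfl⟩ := S8298aux.exists_emb 𝒮h pC chartC x U hU hxU
  constructor
  · rintro ⟨c, hc⟩ ⟨t, ht⟩
    obtain ⟨V, hV, w₀, hw₀⟩ := PointedCone.exists_chart 𝒮 c
    have h1 : pC.base (i.base c) = 𝒮.toQCAlg.π.base c := by
      rw [← hw₀]
      exact ProjCone.pC_i hz V hV pC chartC i hi hPC w₀
    have hcU : c ∈ 𝒮.toQCAlg.π ⁻¹ᵁ U := by
      change 𝒮.toQCAlg.π.base c ∈ U
      rw [← h1, hc]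
      exact hxU
    rw [𝒮.toQCAlg.π_preimage U hU] at hcU
    obtain ⟨w, rfl⟩ := hcU
    have hc' : i.base ((𝒮.toQCAlg.ι U hU).base w) = (RelProj.emb pC chartC U hU).base q := hc
    rw [ProjCone.i_ι hz U hU pC chartC i hi] at hc'
    have hq : (ProjCone.j hz U hU).base w = q := S8298aux.emb_injective 𝒮h pC chartC U hU hc'
    have hzq : RelCone.restrictTop 𝒮h z U ∉ q.asHomogeneousIdeal :=
      (ProjCone.mem_range_j_iff hz U hU q).mp ⟨w, hq⟩
    have h2 : p.base t = pC.base (j.base t) := by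
      have := congrArg (fun g => g.base t) (RelProjMap.comp_eq hPC hP j hj)
      simp only [Scheme.Hom.comp_base, TopCat.hom_comp, ContinuousMap.comp_apply] at this
      exact this.symm
    have htU : t ∈ p ⁻¹ᵁ U := by
      change p.base t ∈ U
      rw [h2, ht]
      exact hxU
    obtain ⟨t', rfl⟩ := S8298aux.exists_emb 𝒮 p chart t U hU htU
    rw [j_emb 𝒮 𝒮h pC chartC θ hθ hirr p chart j hj U hU t'] at ht
    have hq2 := S8298aux.emb_injective 𝒮h pC chartC U hU ht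
    apply hzq
    rw [← hq2]
    exact z_mem_map 𝒮 𝒮h z θ hθ hθz hirr U hU t'
  · intro hx
    by_cases hzq : RelCone.restrictTop 𝒮h z U ∈ q.asHomogeneousIdeal
    · exfalso
      apply hx
      obtain ⟨t', ht'⟩ := exists_of_z_mem 𝒮 𝒮h ι z hz θ hθ hιθ hθz hirr U hU q hzq
      exact ⟨(RelProj.emb p chart U hU).base t', by
        rw [j_emb 𝒮 𝒮h pC chartC θ hθ hirr p chart j hj U hU t', ht']⟩
    · obtain ⟨w, rfl⟩ := (ProjCone.mem_range_j_iff hz U hU q).mpr hzq
      exact ⟨(𝒮.toQCAlg.ι U hU).base w, ProjCone.i_ι hz U hU pC chartC i hi w⟩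

end Groth.Agent.S8297aux

namespace Groth.Agent.S8297

/-- The relation i(C) = Ĉ − j(X): let 𝒮 be a quasi-coherent positively graded O_Y-algebra with 𝒮_0 =
O_Y, Ŝ = 𝒮[z] (given through a graded homomorphism ι : 𝒮 → Ŝ and a global section z of degree one,
the map 𝒮(U)[X] → Ŝ(U), X ↦ z, being bijective over every affine open U), C = Spec(𝒮) the affine
cone, Ĉ = Proj(Ŝ) the projective cone and X = Proj(𝒮), each relative homogeneous spectrum given with
its charts; let i : C → Ĉ be the canonical open immersion (chartwise Spec of Ŝ(U)_(z) → 𝒮(U), z ↦ 1,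
followed by the inclusion of D_+(z)), θ : Ŝ → 𝒮 the graded retraction of ι sending z to 0, and j : X
→ Ĉ the morphism chartwise induced by θ (the immersion of the locus at infinity). Then the
underlying set of the image of i is the complement of the image of j. -/
theorem result {Y PC P : Scheme.{u}} (𝒮 𝒮h : RelProj.QCGrAlg Y) (h0 : RelCone.StrZeroBij 𝒮)
    (ι : 𝒮.toQCAlg ⟶ 𝒮h.toQCAlg) (z : 𝒮h.presheaf.obj (op ⊤)) (hz : RelCone.IsPolyOver 𝒮 𝒮h ι z)
    (pC : PC ⟶ Y)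
    (chartC : ∀ (U : Y.Opens) (hU : IsAffineOpen U), (((pC ⁻¹ᵁ U : PC.Opens) : Scheme.{u}) ≅ Proj (𝒮h.deg U hU)))
    (hPC : RelProj.IsRelProj 𝒮h pC chartC)
    (i : 𝒮.toQCAlg.spec ⟶ PC) (hi : RelCone.IsConeImm 𝒮 hz pC chartC i)
    (θ : 𝒮h.toQCAlg ⟶ 𝒮.toQCAlg) (hθ : RelProj.IsGradedHom θ) (hιθ : ι ≫ θ = 𝟙 _)
    (hθz : (θ.hom.app (op ⊤)).hom z = 0)
    (hirr : ∀ (U : Y.Opens) (hU : IsAffineOpen U),
      (𝒮.deg U hU)₊ ≤ ((𝒮h.deg U hU)₊).map (RelProj.gradedHomAt θ hθ U hU))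
    (p : P ⟶ Y)
    (chart : ∀ (U : Y.Opens) (hU : IsAffineOpen U), (((p ⁻¹ᵁ U : P.Opens) : Scheme.{u}) ≅ Proj (𝒮.deg U hU)))
    (hP : RelProj.IsRelProj 𝒮 p chart) (j : P ⟶ PC) (hj : RelProj.IsRelProjMap θ hθ hirr chartC chart j) :
    Set.range i.base = (Set.range j.base)ᶜ := by
  exact Groth.Agent.S8297aux.main 𝒮 𝒮h ι z hz pC chartC hPC i hi θ hθ hιθ hθz hirr p chart hP j hj

end Groth.Agent.S8297
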