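import Groth.Statements.S8299
import Mathlib
import Groth.Agent.Lib.helper27.PointedCone

set_option autoImplicit false
universe u
open CategoryTheory CategoryTheory.Limits AlgebraicGeometry Opposite TopologicalSpace
open scoped HomogeneousIdeal
noncomputable section
open EGA2

namespace Groth.Agent.S8299aux
open CategoryTheory CategoryTheory.Limits AlgebraicGeometry Opposite TopologicalSpace
open scoped HomogeneousIdeal
open Groth.Agent.Lib.helper27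

variable {Y Y' : Scheme.{u}} (q : Y' ⟶ Y) (𝒮 : RelProj.QCGrAlg Y) (𝒮' : RelProj.QCGrAlg Y')
    (u : 𝒮.presheaf ⟶ q.base _* 𝒮'.presheaf)
    (φ : ∀ (U : Y.Opens) (hU : IsAffineOpen U) (U' : Y'.Opens) (hU' : IsAffineOpen U') (_ : U' ≤ q ⁻¹ᵁ U),
      𝒮.deg U hU →+*ᵍ 𝒮'.deg U' hU')
    (hφ : ∀ (U : Y.Opens) (hU : IsAffineOpen U) (U' : Y'.Opens) (hU' : IsAffineOpen U') (hle : U' ≤ q ⁻¹ᵁ U),
      (φ U hU U' hU' hle).toRingHom =
        ((u.app (op U) : 𝒮.presheaf.obj (op U) ⟶ 𝒮'.presheaf.obj (op (q ⁻¹ᵁ U))) ≫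
          𝒮'.presheaf.map (homOfLE hle).op).hom)
    (Φ : 𝒮'.toQCAlg.spec ⟶ 𝒮.toQCAlg.spec)
    (hΦ : ∀ (U : Y.Opens) (hU : IsAffineOpen U) (U' : Y'.Opens) (hU' : IsAffineOpen U') (hle : U' ≤ q ⁻¹ᵁ U),
      𝒮'.toQCAlg.ι U' hU' ≫ Φ =
        Spec.map ((u.app (op U) : 𝒮.presheaf.obj (op U) ⟶ 𝒮'.presheaf.obj (op (q ⁻¹ᵁ U))) ≫
          𝒮'.presheaf.map (homOfLE hle).op) ≫ 𝒮.toQCAlg.ι U hU)

theorem exists_pair (c' : 𝒮'.toQCAlg.spec) :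
    ∃ (U : Y.Opens) (_ : IsAffineOpen U) (U' : Y'.Opens) (hU' : IsAffineOpen U') (_ : U' ≤ q ⁻¹ᵁ U)
      (w' : Spec (𝒮'.presheaf.obj (op U'))), (𝒮'.toQCAlg.ι U' hU').base w' = c' := by
  obtain ⟨U, hU, hyU⟩ : ∃ U : Y.Opens, IsAffineOpen U ∧
      q.base (𝒮'.toQCAlg.π.base c') ∈ U := by
    obtain ⟨U, hxU⟩ := Opens.mem_iSup.mp
      ((iSup_affineOpens_eq_top Y).symm ▸ (Opens.mem_top (q.base (𝒮'.toQCAlg.π.base c'))) :
        q.base (𝒮'.toQCAlg.π.base c') ∈ ⨆ i : Y.affineOpens, (i : Y.Opens))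
    exact ⟨U.1, U.2, hxU⟩
  have hy' : 𝒮'.toQCAlg.π.base c' ∈ q ⁻¹ᵁ U := hyU
  obtain ⟨_, ⟨U', hU', rfl⟩, hxU', hle⟩ :=
    Y'.isBasis_affineOpens.exists_subset_of_mem_open hy' (q ⁻¹ᵁ U).2
  have : c' ∈ 𝒮'.toQCAlg.π ⁻¹ᵁ U' := hxU'
  rw [𝒮'.toQCAlg.π_preimage U' hU'] at this
  obtain ⟨w', hw'⟩ := this
  exact ⟨U, hU, U', hU', hle, w', hw'⟩

include hΦ in
theorem Φ_ι (U : Y.Opens) (hU : IsAffineOpen U) (U' : Y'.Opens) (hU' : IsAffineOpen U')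
    (hle : U' ≤ q ⁻¹ᵁ U) (w' : Spec (𝒮'.presheaf.obj (op U'))) :
    Φ.base ((𝒮'.toQCAlg.ι U' hU').base w') = (𝒮.toQCAlg.ι U hU).base
      ((Spec.map ((u.app (op U) : 𝒮.presheaf.obj (op U) ⟶ 𝒮'.presheaf.obj (op (q ⁻¹ᵁ U))) ≫
          𝒮'.presheaf.map (homOfLE hle).op)).base w') := by
  have := congrArg (fun k => k.base w') (hΦ U hU U' hU' hle)
  simp only [Scheme.Hom.comp_base, TopCat.hom_comp, ContinuousMap.comp_apply] at this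
  exact this

include hφ in
theorem mem_comap_iff (U : Y.Opens) (hU : IsAffineOpen U) (U' : Y'.Opens) (hU' : IsAffineOpen U')
    (hle : U' ≤ q ⁻¹ᵁ U) (w' : Spec (𝒮'.presheaf.obj (op U'))) (x : 𝒮.presheaf.obj (op U)) :
    x ∈ ((Spec.map ((u.app (op U) : 𝒮.presheaf.obj (op U) ⟶ 𝒮'.presheaf.obj (op (q ⁻¹ᵁ U))) ≫
          𝒮'.presheaf.map (homOfLE hle).op)).base w').asIdeal ↔
      φ U hU U' hU' hle x ∈ w'.asIdeal := by
  change ((u.app (op U) : 𝒮.presheaf.obj (op U) ⟶ 𝒮'.presheaf.obj (op (q ⁻¹ᵁ U))) ≫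
          𝒮'.presheaf.map (homOfLE hle).op).hom x ∈ w'.asIdeal ↔ _
  rw [← hφ U hU U' hU' hle]
  rfl

include hφ hΦ in
/-- the basic pair lemma: `Φ (ι' w') ∈ E ↔ ∃ f ∈ 𝒮(U)₊, φ f ∉ w'`. -/
theorem Φ_mem_iff (U : Y.Opens) (hU : IsAffineOpen U) (U' : Y'.Opens) (hU' : IsAffineOpen U')
    (hle : U' ≤ q ⁻¹ᵁ U) (w' : Spec (𝒮'.presheaf.obj (op U'))) :
    Φ.base ((𝒮'.toQCAlg.ι U' hU').base w') ∈ RelCone.pointedCone 𝒮 ↔
      ∃ f ∈ (HomogeneousIdeal.irrelevant (𝒮.deg U hU)).toIdeal, φ U hU U' hU' hle f ∉ w'.asIdeal := by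
  rw [Φ_ι q 𝒮 𝒮' u Φ hΦ U hU U' hU' hle w', PointedCone.mem_pointedCone_iff, SetLike.not_le_iff_exists]
  constructor
  · rintro ⟨f, hf, hfw⟩
    exact ⟨f, hf, fun h => hfw ((mem_comap_iff q 𝒮 𝒮' u φ hφ U hU U' hU' hle w' f).mpr h)⟩
  · rintro ⟨f, hf, hfw⟩
    exact ⟨f, hf, fun h => hfw ((mem_comap_iff q 𝒮 𝒮' u φ hφ U hU U' hU' hle w' f).mp h)⟩

include hφ hΦ in
theorem main : Φ ⁻¹ᵁ RelCone.pointedCone 𝒮 ≤ RelCone.pointedCone 𝒮' := by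
  intro c' hc
  obtain ⟨U, hU, U', hU', hle, w', rfl⟩ := exists_pair q 𝒮' c'
  have hc' : Φ.base ((𝒮'.toQCAlg.ι U' hU').base w') ∈ RelCone.pointedCone 𝒮 := hc
  rw [Φ_mem_iff q 𝒮 𝒮' u φ hφ Φ hΦ U hU U' hU' hle w'] at hc'
  obtain ⟨f, hf, hfw⟩ := hc'
  change _ ∈ RelCone.pointedCone 𝒮'
  rw [PointedCone.mem_pointedCone_iff]
  intro hle'
  -- f ∈ 𝒮(U)₊ ⟹ φ f ∈ 𝒮'(U')₊
  apply hfw
  have hmap : (HomogeneousIdeal.irrelevant (𝒮.deg U hU)).toIdeal ≤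
      Ideal.comap (φ U hU U' hU' hle) w'.asIdeal := by
    rw [HomogeneousIdeal.toIdeal_irrelevant_le]
    intro i hi x hx
    have hx' : φ U hU U' hU' hle x ∈ 𝒮'.deg U' hU' i := GradedFunLike.map_mem _ hx
    exact hle' (HomogeneousIdeal.mem_irrelevant_of_mem _ hi hx')
  exact hmap hf

include hφ hΦ in
theorem main300 :
    (∀ (U : Y.Opens) (hU : IsAffineOpen U) (U' : Y'.Opens) (hU' : IsAffineOpen U') (hle : U' ≤ q ⁻¹ᵁ U),
        RelCone.domOpen (φ U hU U' hU' hle) = ⊤) ↔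
      Φ ⁻¹ᵁ RelCone.pointedCone 𝒮 = RelCone.pointedCone 𝒮' := by
  constructor
  · intro hdom
    apply le_antisymm (main q 𝒮 𝒮' u φ hφ Φ hΦ)
    intro c' hc
    obtain ⟨U, hU, U', hU', hle, w', rfl⟩ := exists_pair q 𝒮' c'
    change Φ.base ((𝒮'.toQCAlg.ι U' hU').base w') ∈ RelCone.pointedCone 𝒮
    rw [Φ_mem_iff q 𝒮 𝒮' u φ hφ Φ hΦ U hU U' hU' hle w']
    have hc' : (𝒮'.toQCAlg.ι U' hU').base w' ∈ RelCone.pointedCone 𝒮' := hc
    rw [PointedCone.mem_pointedCone_iff] at hc'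
    -- the homogeneous core
    have hP : w'.asIdeal.IsPrime := w'.isPrime
    let x : Proj (𝒮'.deg U' hU') :=
      ⟨w'.asIdeal.homogeneousCore (𝒮'.deg U' hU'), hP.homogeneousCore, by
        intro hle'
        apply hc'
        intro z hz
        exact Ideal.toIdeal_homogeneousCore_le _ _ (hle' hz)⟩
    have hx : x ∈ RelCone.domOpen (φ U hU U' hU' hle) := by
      rw [hdom U hU U' hU' hle]; trivial
    rw [RelCone.mem_domOpen] at hx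
    obtain ⟨f, hf, hfx⟩ := hx
    classical
    -- some homogeneous component works
    by_contra hcon
    push Not at hcon
    apply hfx
    rw [← DirectSum.sum_support_decompose (𝒮.deg U hU) f, map_sum]
    refine Ideal.sum_mem _ fun i _ => ?_
    have hfi : (DirectSum.decompose (𝒮.deg U hU) f i : 𝒮.presheaf.obj (op U)) ∈
        (HomogeneousIdeal.irrelevant (𝒮.deg U hU)).toIdeal :=
      (HomogeneousIdeal.irrelevant (𝒮.deg U hU)).isHomogeneous i hf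
    have h1 := hcon _ hfi
    exact Ideal.mem_homogeneousCore_of_homogeneous_of_mem
      ⟨i, GradedFunLike.map_mem (φ U hU U' hU' hle) (SetLike.coe_mem _)⟩ h1
  · intro heq U hU U' hU' hle
    rw [eq_top_iff]
    intro x _
    rw [RelCone.mem_domOpen]
    let w' : Spec (𝒮'.presheaf.obj (op U')) := ⟨x.asHomogeneousIdeal.toIdeal, x.isPrime⟩
    have hmem : (𝒮'.toQCAlg.ι U' hU').base w' ∈ RelCone.pointedCone 𝒮' := by
      rw [PointedCone.mem_pointedCone_iff]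
      intro hle'
      exact x.not_irrelevant_le hle'
    rw [← heq] at hmem
    have hmem' : Φ.base ((𝒮'.toQCAlg.ι U' hU').base w') ∈ RelCone.pointedCone 𝒮 := hmem
    rw [Φ_mem_iff q 𝒮 𝒮' u φ hφ Φ hΦ U hU U' hU' hle w'] at hmem'
    exact hmem'

end Groth.Agent.S8299aux

namespace Groth.Agent.S8299

/-- Let q : Y' → Y be a morphism of schemes, 𝒮 and 𝒮' quasi-coherent positively graded algebras over O_Y
and O_{Y'} with 𝒮_0 = O_Y and 𝒮'_0 = O_{Y'}, and φ : 𝒮 → q_*𝒮' a graded q-morphism (a map of sheaves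
of rings compatible with the structure maps through q^♯, whose components 𝒮(U) → 𝒮'(U') for affine
opens U' ⊆ q⁻¹(U) preserve degrees, recorded as graded ring homomorphisms); let C = Spec(𝒮), C' =
Spec(𝒮') be the affine cones and Φ : C' → C the morphism Spec(φ), i.e. the morphism which on the
charts over affine opens U' ⊆ q⁻¹(U) is Spec of 𝒮(U) → 𝒮'(U'); let E ⊆ C and E' ⊆ C' be the pointed
affine cones (defined chart by chart as the complements of V(𝒮(U)_+), resp. V(𝒮'(U')_+)). Then the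
inverse image of E under Φ is contained in E'. -/
theorem result {Y Y' : Scheme.{u}} (q : Y' ⟶ Y) (𝒮 : RelProj.QCGrAlg Y) (𝒮' : RelProj.QCGrAlg Y')
    (h0 : RelCone.StrZeroBij 𝒮) (h0' : RelCone.StrZeroBij 𝒮')
    (u : 𝒮.presheaf ⟶ q.base _* 𝒮'.presheaf)
    (hu : 𝒮.str ≫ u = q.c ≫ (TopCat.Presheaf.pushforward CommRingCat.{u} q.base).map 𝒮'.str)
    (φ : ∀ (U : Y.Opens) (hU : IsAffineOpen U) (U' : Y'.Opens) (hU' : IsAffineOpen U') (_ : U' ≤ q ⁻¹ᵁ U),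
      𝒮.deg U hU →+*ᵍ 𝒮'.deg U' hU')
    (hφ : ∀ (U : Y.Opens) (hU : IsAffineOpen U) (U' : Y'.Opens) (hU' : IsAffineOpen U') (hle : U' ≤ q ⁻¹ᵁ U),
      (φ U hU U' hU' hle).toRingHom =
        ((u.app (op U) : 𝒮.presheaf.obj (op U) ⟶ 𝒮'.presheaf.obj (op (q ⁻¹ᵁ U))) ≫
          𝒮'.presheaf.map (homOfLE hle).op).hom)
    (Φ : 𝒮'.toQCAlg.spec ⟶ 𝒮.toQCAlg.spec)
    (hΦ : ∀ (U : Y.Opens) (hU : IsAffineOpen U) (U' : Y'.Opens) (hU' : IsAffineOpen U') (hle : U' ≤ q ⁻¹ᵁ U),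
      𝒮'.toQCAlg.ι U' hU' ≫ Φ =
        Spec.map ((u.app (op U) : 𝒮.presheaf.obj (op U) ⟶ 𝒮'.presheaf.obj (op (q ⁻¹ᵁ U))) ≫
          𝒮'.presheaf.map (homOfLE hle).op) ≫ 𝒮.toQCAlg.ι U hU) :
    Φ ⁻¹ᵁ RelCone.pointedCone 𝒮 ≤ RelCone.pointedCone 𝒮' := by
  exact Groth.Agent.S8299aux.main q 𝒮 𝒮' u φ hφ Φ hΦ

end Groth.Agent.S8299
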