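import Groth.Statements.S8305
import Mathlib
import Groth.Agent.Lib.helper9.QcohIso
import Groth.Agent.Lib.helper9.PushAff

set_option autoImplicit false
universe u
open CategoryTheory CategoryTheory.Limits AlgebraicGeometry Opposite TopologicalSpace
noncomputable section
open EGA2

namespace Groth.Agent.S8305

theorem algHom_app {X Y S : Scheme.{u}} (gX : X ⟶ S) (gY : Y ⟶ S) (h : Y ⟶ X) (hh : h ≫ gX = gY)
    (W : S.Opens) :
    IsIso ((AffAlg.algHom gX gY h hh).app (op W)) ↔ IsIso (h.app (gX ⁻¹ᵁ W)) := by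
  subst hh
  unfold AffAlg.algHom
  rw [NatTrans.comp_app]
  have : IsIso ((eqToHom (show (gX.base _* (h.base _* Y.presheaf)) = AffAlg.alg (h ≫ gX) by rfl)).app (op W)) :=
    inferInstance
  constructor
  · intro h1
    haveI := h1
    exact IsIso.of_isIso_comp_right
      (((TopCat.Presheaf.pushforward CommRingCat.{u} gX.base).map h.c).app (op W))
      ((eqToHom (show (gX.base _* (h.base _* Y.presheaf)) = AffAlg.alg (h ≫ gX) by rfl)).app (op W))
  · intro h1
    have : IsIso (((TopCat.Presheaf.pushforward CommRingCat.{u} gX.base).map h.c).app (op W)) := h1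
    infer_instance


theorem isIso_h {X Y S : Scheme.{u}} (gX : X ⟶ S) [IsAffineHom gX]
    (gY : Y ⟶ S) [IsAffineHom gY] (h : Y ⟶ X) (hh : h ≫ gX = gY)
    (h1 : IsIso (AffAlg.algHom gX gY h hh)) : IsIso h := by
  haveI : IsAffineHom (h ≫ gX) := by rw [hh]; infer_instance
  haveI : IsAffineHom h := IsAffineHom.of_comp h gX
  let 𝒰 : S.affineOpens → X.Opens := fun W => gX ⁻¹ᵁ W.1
  have hcov : ⨆ W, 𝒰 W = ⊤ := by
    apply top_unique
    intro x _
    obtain ⟨_, ⟨W, hW, rfl⟩, hxW, -⟩ :=
      (S.isBasis_affineOpens).exists_subset_of_mem_open (Set.mem_univ (gX.base x)) isOpen_univ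
    exact Opens.mem_iSup.mpr ⟨⟨W, hW⟩, hxW⟩
  have key : ∀ W : S.affineOpens, IsIso (h ∣_ (gX ⁻¹ᵁ W.1)) := fun W =>
    (isIso_morphismRestrict_iff_isIso_app (f := h) (W.2.preimage gX)).mpr
      ((algHom_app gX gY h hh W.1).mp
        (NatIso.isIso_app_of_isIso (AffAlg.algHom gX gY h hh) (op W.1)))
  have h5 : MorphismProperty.isomorphisms Scheme h :=
    IsZariskiLocalAtTarget.of_iSup_eq_top (P := MorphismProperty.isomorphisms Scheme)
      (f := h) 𝒰 hcov (fun W => (MorphismProperty.isomorphisms.iff _).mpr (key W))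
  exact (MorphismProperty.isomorphisms.iff _).mp h5

theorem isIso_algHom {X Y S : Scheme.{u}} (gX : X ⟶ S) (gY : Y ⟶ S) (h : Y ⟶ X) (hh : h ≫ gX = gY)
    [IsIso h] : IsIso (AffAlg.algHom gX gY h hh) := by
  apply (config := { allowSynthFailures := true }) NatIso.isIso_of_isIso_app
  intro U
  have : U = op U.unop := rfl
  rw [this, algHom_app]
  infer_instance

open Scheme.Modules in
set_option backward.isDefEq.respectTransparency false in
theorem isIso_v {X Y S : Scheme.{u}} (gX : X ⟶ S) [IsAffineHom gX] (h : Y ⟶ X) [IsAffineHom h]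
    (F : X.Modules) (G : Y.Modules) [F.IsQuasicoherent] [G.IsQuasicoherent]
    (v : F ⟶ (Scheme.Modules.pushforward h).obj G)
    (h2 : IsIso ((Scheme.Modules.pushforward gX).map v)) : IsIso v := by
  haveI : ((pushforward h).obj G).IsQuasicoherent :=
    Groth.Agent.Lib.helper9.PushAff.isQuasicoherent_pushforward h G
  apply Groth.Agent.Lib.helper9.QcohIso.isIso_of_app_bijective
  intro x
  obtain ⟨_, ⟨W, hW, rfl⟩, hxW, -⟩ :=
    (S.isBasis_affineOpens).exists_subset_of_mem_open (Set.mem_univ (gX.base x)) isOpen_univ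
  refine ⟨gX ⁻¹ᵁ W, hW.preimage gX, hxW, ?_⟩
  have h3 : IsIso (((pushforward gX).map v).app W) := inferInstance
  exact ConcreteCategory.bijective_of_isIso (((pushforward gX).map v).app W)

theorem main {X Y S : Scheme.{u}} (gX : X ⟶ S) [IsAffineHom gX]
    (gY : Y ⟶ S) [IsAffineHom gY] (h : Y ⟶ X) (hh : h ≫ gX = gY)
    (F : X.Modules) (G : Y.Modules) [F.IsQuasicoherent] [G.IsQuasicoherent]
    (v : F ⟶ (Scheme.Modules.pushforward h).obj G) :
    (IsIso h ∧ IsIso v) ↔
      (IsIso (AffAlg.algHom gX gY h hh) ∧ IsIso ((Scheme.Modules.pushforward gX).map v)) := by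
  constructor
  · rintro ⟨h1, h2⟩
    exact ⟨isIso_algHom gX gY h hh, inferInstance⟩
  · rintro ⟨h1, h2⟩
    haveI : IsAffineHom (h ≫ gX) := by rw [hh]; infer_instance
    haveI : IsAffineHom h := IsAffineHom.of_comp h gX
    exact ⟨isIso_h gX gY h hh h1, isIso_v gX h F G v h2⟩


/-- Let X and Y be schemes affine over S with structure morphisms gX and gY, h : Y → X a morphism over
S, F a quasi-coherent O_X-module, G a quasi-coherent O_Y-module and v : F → h_*G a homomorphism of
O_X-modules, so that (h, v) is a morphism of pairs (Y, G) → (X, F). Then h and v are isomorphisms if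
and only if the direct-image algebra homomorphism A(h) : gX_*O_X → gY_*O_Y and the direct image A(v)
= gX_*(v) : gX_*F → gX_*h_*G are isomorphisms (the pair (A(h), A(v)) is a di-isomorphism). -/
theorem result {X Y S : Scheme.{u}} (gX : X ⟶ S) [IsAffineHom gX]
    (gY : Y ⟶ S) [IsAffineHom gY] (h : Y ⟶ X) (hh : h ≫ gX = gY)
    (F : X.Modules) (G : Y.Modules) (hF : Coh.IsQCoh F) (hG : Coh.IsQCoh G)
    (v : F ⟶ (Scheme.Modules.pushforward h).obj G) :
    (IsIso h ∧ IsIso v) ↔
      (IsIso (AffAlg.algHom gX gY h hh) ∧ IsIso ((Scheme.Modules.pushforward gX).map v)) := by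
  haveI : F.IsQuasicoherent := hF
  haveI : G.IsQuasicoherent := hG
  exact main gX gY h hh F G v

end Groth.Agent.S8305
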