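import Groth.Statements.S8306
import Mathlib
import Groth.Agent.Lib.helper9.QcohLocal

set_option autoImplicit false
universe u
open CategoryTheory CategoryTheory.Limits AlgebraicGeometry Opposite TopologicalSpace
noncomputable section
open EGA2

namespace Groth.Agent.S8306

open Scheme.Modules Groth.Agent.Lib.helper9.CohB Groth.Agent.Lib.helper9.AffSect
  Groth.Agent.Lib.helper9.FPLocal Groth.Agent.Lib.helper9.QcohLocal in
set_option backward.isDefEq.respectTransparency false in
theorem sections_surjective {X : Scheme.{u}} {G C : X.Modules} (π : G ⟶ C) [Epi π]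
    [G.IsQuasicoherent] [C.IsQuasicoherent] {W : X.Opens} (hW : IsAffineOpen W) :
    Function.Surjective (π.val.app (op W)).hom := by
  haveI : (G.restrict hW.fromSpec).IsQuasicoherent := inferInstance
  haveI : (C.restrict hW.fromSpec).IsQuasicoherent := inferInstance
  haveI : Epi ((restrictFunctor hW.fromSpec).map π) := inferInstance
  haveI hepi := epi_Γ_of_epi ((restrictFunctor hW.fromSpec).map π)
  have hsurj : Function.Surjective
      (moduleSpecΓFunctor.map ((restrictFunctor hW.fromSpec).map π)).hom :=
    (ModuleCat.epi_iff_surjective _).mp hepi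
  intro c
  obtain ⟨c', hc'⟩ := (toSect_bijective C hW).2 c
  obtain ⟨g', hg'⟩ := hsurj c'
  refine ⟨toSect G hW g', ?_⟩
  rw [← hc', ← hg']
  have hnat := PresheafOfModules.naturality_apply π.val (homOfLE (le_of_eq (image_top hW).symm)).op
    (show Γ(G, hW.fromSpec ''ᵁ ⊤) from g')
  exact hnat

theorem main {X S : Scheme.{u}} (f : X ⟶ S) [IsAffineHom f]
    (F G : X.Modules) [F.IsQuasicoherent] [G.IsQuasicoherent] (v : F ⟶ G) [Epi v] :
    Epi ((AMod.dirImg f).map v) := by
  have hepi : Epi ((SheafOfModules.toSheaf _).map ((AMod.dirImg f).map v)) := by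
    refine (CategoryTheory.Sheaf.isLocallySurjective_iff_epi' _ _).mp ?_
    refine (TopCat.Presheaf.isLocallySurjective_iff (X := S.carrier) _).mpr ?_
    intro U t x hx
    obtain ⟨W, hW, hxW, hWU⟩ : ∃ W : S.Opens, IsAffineOpen W ∧ x ∈ W ∧ W ≤ U := by
      obtain ⟨_, ⟨W, hW, rfl⟩, hxW, hWU⟩ :=
        (S.isBasis_affineOpens).exists_subset_of_mem_open hx U.isOpen
      exact ⟨W, hW, hxW, hWU⟩
    refine ⟨W, hWU, ?_, hxW⟩
    have hW' : IsAffineOpen (f ⁻¹ᵁ W) := hW.preimage f
    obtain ⟨s, hs⟩ := sections_surjective v hW' (TopCat.Presheaf.restrictOpen t W hWU)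
    exact ⟨s, hs⟩
  exact (SheafOfModules.toSheaf _).epi_of_epi_map hepi


/-- Exactness: in the form it takes for the direct image: let f : X → S be an affine morphism and v : F
→ G an epimorphism between quasi-coherent O_X-modules. Then the direct image f_*(v) : f_*F → f_*G, a
homomorphism of modules over the direct-image algebra f_*O_X, is again an epimorphism. (The
published statement says that the module on X attached to a quasi-coherent f_*O_X-module is an exact
functor of that module; since this functor is inverse to the direct image on quasi-coherent modules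
and the direct image is left exact, its exactness amounts to the direct image preserving
epimorphisms between quasi-coherent modules.) -/
theorem result {X S : Scheme.{u}} (f : X ⟶ S) [IsAffineHom f]
    (F G : X.Modules) (hF : Coh.IsQCoh F) (hG : Coh.IsQCoh G) (v : F ⟶ G) [Epi v] :
    Epi ((AMod.dirImg f).map v) := by
  haveI : F.IsQuasicoherent := hF
  haveI : G.IsQuasicoherent := hG
  exact main f F G v

end Groth.Agent.S8306
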