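import Groth.Statements.S8308
import Mathlib
import Groth.Agent.S12156
import Groth.Agent.S12140
import Groth.Agent.Lib.helper27.ProjQGlue
import Groth.Agent.Lib.helper27.DomQ
import Groth.Agent.Lib.helper27.PolyGr
import Groth.Agent.Lib.helper27.ProjCone2
import Groth.Agent.Lib.helper27.ProjQMap
import Groth.Prelude.Def_RelSpec2
import Groth.Prelude.Def_RelProj4

set_option autoImplicit false
universe u
open CategoryTheory CategoryTheory.Limits AlgebraicGeometry Opposite TopologicalSpace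
open scoped HomogeneousIdeal
noncomputable section
open EGA2

namespace Groth.Agent.S8308aux
open CategoryTheory CategoryTheory.Limits AlgebraicGeometry Opposite TopologicalSpace
open scoped HomogeneousIdeal
open Groth.Agent.Lib.helper27

variable {Y PC P : Scheme.{u}} (𝒮 𝒮h : RelProj.QCGrAlg Y)
    (ι : 𝒮.toQCAlg ⟶ 𝒮h.toQCAlg) (z : 𝒮h.presheaf.obj (op ⊤)) (hz : RelCone.IsPolyOver 𝒮 𝒮h ι z)
    (pC : PC ⟶ Y)
    (chartC : ∀ (U : Y.Opens) (hU : IsAffineOpen U), (((pC ⁻¹ᵁ U : PC.Opens) : Scheme.{u}) ≅ Proj (𝒮h.deg U hU)))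
    (hPC : RelProj.IsRelProj 𝒮h pC chartC)
    (p : P ⟶ Y)
    (chart : ∀ (U : Y.Opens) (hU : IsAffineOpen U), (((p ⁻¹ᵁ U : P.Opens) : Scheme.{u}) ≅ Proj (𝒮.deg U hU)))
    (hP : RelProj.IsRelProj 𝒮 p chart)

include hPC in
theorem E_eq : RelCone.pointedProjCone 𝒮 hz pC chartC =
    RelProj.domQ (RelProj.QGrHom.ofHom ι hz.graded) pC chartC := by
  apply le_antisymm
  · intro x hx
    unfold RelCone.pointedProjCone at hx
    rw [Opens.mem_iSup] at hx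
    obtain ⟨⟨U, hU0⟩, pt0, hpt0, heq0⟩ := hx
    have hU : IsAffineOpen U := hU0
    have h2 := S12140aux.part2 ι hz.graded pC chartC hPC U hU
    have hmem : x ∈ (RelProj.emb pC chartC U hU) ''ᵁ
        RelCone.domOpen (RelProj.gradedHomAt ι hz.graded U hU) := ⟨pt0, hpt0, heq0⟩
    rw [← h2] at hmem
    exact hmem.1
  · intro x hx
    obtain ⟨U, hxU⟩ := ProjQMap.exists_affine_mem PC pC x
    have h2 := S12140aux.part2 ι hz.graded pC chartC hPC U.1 U.2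
    have hmem : x ∈ RelProj.domQ (RelProj.QGrHom.ofHom ι hz.graded) pC chartC ⊓ pC ⁻¹ᵁ U.1 :=
      ⟨hx, hxU⟩
    rw [h2] at hmem
    obtain ⟨pt, hpt, rfl⟩ := hmem
    change _ ∈ RelCone.pointedProjCone 𝒮 hz pC chartC
    unfold RelCone.pointedProjCone
    rw [Opens.mem_iSup]
    exact ⟨U, pt, hpt, rfl⟩

/-- the chart equations of the statement. -/
def IsRetr (r : ((RelCone.pointedProjCone 𝒮 hz pC chartC : PC.Opens) : Scheme.{u}) ⟶ P) : Prop :=
  ∀ (U : Y.Opens) (hU : IsAffineOpen U) (d : ℕ) (hd : 0 < d) (f : 𝒮.presheaf.obj (op U)) (hf : f ∈ 𝒮.deg U hU d)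
    (g : Spec (CommRingCat.of (HomogeneousLocalization.Away (𝒮h.deg U hU) ((RelProj.gradedHomAt ι hz.graded U hU) f))) ⟶
      ((RelCone.pointedProjCone 𝒮 hz pC chartC : PC.Opens) : Scheme.{u})),
    g ≫ (RelCone.pointedProjCone 𝒮 hz pC chartC).ι =
        Proj.awayι (𝒮h.deg U hU) ((RelProj.gradedHomAt ι hz.graded U hU) f) ((RelProj.gradedHomAt ι hz.graded U hU).2 hf) hd ≫
          RelProj.emb pC chartC U hU →
      g ≫ r =
        Spec.map (CommRingCat.ofHom (HomogeneousLocalization.Away.map (RelProj.gradedHomAt ι hz.graded U hU) f)) ≫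
          Proj.awayι (𝒮.deg U hU) f hf hd ≫ RelProj.emb p chart U hU

/-- the retraction. -/
noncomputable def r₀ : ((RelCone.pointedProjCone 𝒮 hz pC chartC : PC.Opens) : Scheme.{u}) ⟶ P :=
  (PC.isoOfEq (E_eq 𝒮 𝒮h ι z hz pC chartC hPC)).hom ≫
    ProjQGlue.glued (RelProj.QGrHom.ofHom ι hz.graded) p chart pC chartC hP hPC

theorem r₀_gen (U : Y.Opens) (hU : IsAffineOpen U) (d : ℕ) (hd : 0 < d) (f : 𝒮.presheaf.obj (op U))
    (hf : f ∈ 𝒮.deg U hU d) (t : 𝒮h.presheaf.obj (op U))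
    (e : t = ProjQMap.psi ι hz.graded U hU f) (ht : t ∈ 𝒮h.deg U hU d)
    (τ : HomogeneousLocalization.Away (𝒮.deg U hU) f →+* HomogeneousLocalization.Away (𝒮h.deg U hU) t)
    (hτ : ∀ (n : ℕ) (a : 𝒮.presheaf.obj (op U)) (ha : a ∈ 𝒮.deg U hU (n • d)),
      τ (HomogeneousLocalization.Away.mk (𝒮.deg U hU) hf n a ha) =
        HomogeneousLocalization.Away.mk (𝒮h.deg U hU) ht n ((ι.hom.app (op U)).hom a)
          (hz.graded U hU _ a ha))
    (g : Spec (CommRingCat.of (HomogeneousLocalization.Away (𝒮h.deg U hU) t)) ⟶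
      ((RelCone.pointedProjCone 𝒮 hz pC chartC : PC.Opens) : Scheme.{u}))
    (hg : g ≫ (RelCone.pointedProjCone 𝒮 hz pC chartC).ι =
      Proj.awayι (𝒮h.deg U hU) t ht hd ≫ RelProj.emb pC chartC U hU) :
    g ≫ r₀ 𝒮 𝒮h ι z hz pC chartC hPC p chart hP =
      Spec.map (CommRingCat.ofHom τ) ≫ Proj.awayι (𝒮.deg U hU) f hf hd ≫ RelProj.emb p chart U hU := by
  subst e
  let i : ProjQGlue.Idx (𝟙 Y) 𝒮 := ⟨U, hU, U, hU, ProjQMap.hle U, d, hd, f, hf⟩
  have h1 : g ≫ (PC.isoOfEq (E_eq 𝒮 𝒮h ι z hz pC chartC hPC)).hom =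
      ProjQGlue.Lf (RelProj.QGrHom.ofHom ι hz.graded) pC chartC i := by
    rw [← cancel_mono (RelProj.domQ (RelProj.QGrHom.ofHom ι hz.graded) pC chartC).ι, Category.assoc,
      Scheme.isoOfEq_hom_ι, hg, ProjQGlue.Lf_ι]
    rfl
  have hτ' : τ = HomogeneousLocalization.Away.map (ProjQMap.psi ι hz.graded U hU) f := by
    refine RingHom.ext fun x => ?_
    obtain ⟨n, a, ha, rfl⟩ := x.mk_surjective _ hf
    rw [hτ, HomogeneousLocalization.Away.map_mk]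
    exact ProjQGlue.mk_congr (𝒜 := 𝒮h.deg U hU) _ n _ _ (ProjQMap.psi_apply ι hz.graded U hU a).symm _ _
  unfold r₀
  rw [← Category.assoc, h1, ProjQGlue.Lf_glued, hτ']
  rfl

theorem isRetr_r₀ : IsRetr 𝒮 𝒮h ι z hz pC chartC p chart
    (r₀ 𝒮 𝒮h ι z hz pC chartC hPC p chart hP) := by
  intro U hU d hd f hf g hg
  exact r₀_gen 𝒮 𝒮h ι z hz pC chartC hPC p chart hP U hU d hd f hf
    ((RelProj.gradedHomAt ι hz.graded U hU) f) (ProjQMap.psi_apply ι hz.graded U hU f).symm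
    ((RelProj.gradedHomAt ι hz.graded U hU).2 hf)
    (HomogeneousLocalization.Away.map (RelProj.gradedHomAt ι hz.graded U hU) f)
    (fun n a ha => HomogeneousLocalization.Away.map_mk _ _ _ _ _ _) g hg

/-- the standard chart of `Ê`. -/
noncomputable def gE (U : Y.Opens) (hU : IsAffineOpen U) (d : ℕ) (hd : 0 < d) (f : 𝒮.presheaf.obj (op U))
    (hf : f ∈ 𝒮.deg U hU d) :
    Spec (CommRingCat.of (HomogeneousLocalization.Away (𝒮h.deg U hU) ((RelProj.gradedHomAt ι hz.graded U hU) f))) ⟶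
      ((RelCone.pointedProjCone 𝒮 hz pC chartC : PC.Opens) : Scheme.{u}) :=
  IsOpenImmersion.lift (RelCone.pointedProjCone 𝒮 hz pC chartC).ι
    (Proj.awayι (𝒮h.deg U hU) ((RelProj.gradedHomAt ι hz.graded U hU) f)
      ((RelProj.gradedHomAt ι hz.graded U hU).2 hf) hd ≫ RelProj.emb pC chartC U hU)
    (S12156aux.range_subset_pointed hz pC chartC U hU hd f hf _ rfl
      ((RelProj.gradedHomAt ι hz.graded U hU).2 hf))

theorem gE_ι (U : Y.Opens) (hU : IsAffineOpen U) (d : ℕ) (hd : 0 < d) (f : 𝒮.presheaf.obj (op U))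
    (hf : f ∈ 𝒮.deg U hU d) :
    gE 𝒮 𝒮h ι z hz pC chartC U hU d hd f hf ≫ (RelCone.pointedProjCone 𝒮 hz pC chartC).ι =
      Proj.awayι (𝒮h.deg U hU) ((RelProj.gradedHomAt ι hz.graded U hU) f)
        ((RelProj.gradedHomAt ι hz.graded U hU).2 hf) hd ≫ RelProj.emb pC chartC U hU :=
  IsOpenImmersion.lift_fac _ _ _

instance isOpenImmersion_gE (U : Y.Opens) (hU : IsAffineOpen U) (d : ℕ) (hd : 0 < d)
    (f : 𝒮.presheaf.obj (op U)) (hf : f ∈ 𝒮.deg U hU d) :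
    IsOpenImmersion (gE 𝒮 𝒮h ι z hz pC chartC U hU d hd f hf) := by
  have : IsOpenImmersion (gE 𝒮 𝒮h ι z hz pC chartC U hU d hd f hf ≫
      (RelCone.pointedProjCone 𝒮 hz pC chartC).ι) := by
    rw [gE_ι]; infer_instance
  exact IsOpenImmersion.of_comp _ (RelCone.pointedProjCone 𝒮 hz pC chartC).ι

theorem exists_gE (b : ((RelCone.pointedProjCone 𝒮 hz pC chartC : PC.Opens) : Scheme.{u})) :
    ∃ (U : Y.Opens) (hU : IsAffineOpen U) (d : ℕ) (hd : 0 < d) (f : 𝒮.presheaf.obj (op U))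
      (hf : f ∈ 𝒮.deg U hU d) (w : _), (gE 𝒮 𝒮h ι z hz pC chartC U hU d hd f hf).base w = b := by
  have hb : (RelCone.pointedProjCone 𝒮 hz pC chartC).ι.base b ∈ RelCone.pointedProjCone 𝒮 hz pC chartC := by
    have h0 : (RelCone.pointedProjCone 𝒮 hz pC chartC).ι.base b ∈
        Set.range (RelCone.pointedProjCone 𝒮 hz pC chartC).ι.base := ⟨b, rfl⟩
    rw [Scheme.Opens.range_ι] at h0
    exact h0
  unfold RelCone.pointedProjCone at hb
  rw [Opens.mem_iSup] at hb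
  obtain ⟨⟨U, hU0⟩, pt0, hpt0, heq0⟩ := hb
  have hU : IsAffineOpen U := hU0
  obtain ⟨pt, hpt, heq⟩ : ∃ pt : Proj (𝒮h.deg U hU),
      pt ∈ RelCone.domOpen (RelProj.gradedHomAt ι hz.graded U hU) ∧
      (RelProj.emb pC chartC U hU).base pt = (RelCone.pointedProjCone 𝒮 hz pC chartC).ι.base b :=
    ⟨pt0, hpt0, heq0⟩
  rw [RelCone.mem_domOpen] at hpt
  obtain ⟨g₀, hg₀, hgq⟩ := hpt
  have hnot : ¬ (HomogeneousIdeal.irrelevant (𝒮.deg U hU)).toIdeal ≤
      Ideal.comap (ι.hom.app (op U)).hom pt.asHomogeneousIdeal.toIdeal := by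
    intro h
    exact hgq (h hg₀)
  rw [HomogeneousIdeal.toIdeal_irrelevant_le] at hnot
  push Not at hnot
  obtain ⟨d, hd, hnle⟩ := hnot
  obtain ⟨f, hf, hfq⟩ := SetLike.not_le_iff_exists.mp hnle
  have hmem : pt ∈ Proj.basicOpen (𝒮h.deg U hU) ((RelProj.gradedHomAt ι hz.graded U hU) f) := by
    rw [Proj.mem_basicOpen]; exact hfq
  have hmem' : pt ∈ (Proj.awayι (𝒮h.deg U hU) ((RelProj.gradedHomAt ι hz.graded U hU) f)
      ((RelProj.gradedHomAt ι hz.graded U hU).2 hf) hd).opensRange := by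
    rw [Proj.opensRange_awayι]; exact hmem
  obtain ⟨w, rfl⟩ := hmem'
  refine ⟨U, hU, d, hd, f, hf, w, ?_⟩
  apply (RelCone.pointedProjCone 𝒮 hz pC chartC).ι.isOpenEmbedding.injective
  rw [← heq]
  have := congrArg (fun k => k.base w) (gE_ι 𝒮 𝒮h ι z hz pC chartC U hU d hd f hf)
  simp only [Scheme.Hom.comp_base, TopCat.hom_comp, ContinuousMap.comp_apply] at this
  exact this

theorem unique (r r' : ((RelCone.pointedProjCone 𝒮 hz pC chartC : PC.Opens) : Scheme.{u}) ⟶ P)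
    (hr : IsRetr 𝒮 𝒮h ι z hz pC chartC p chart r) (hr' : IsRetr 𝒮 𝒮h ι z hz pC chartC p chart r') :
    r = r' := by
  apply Scheme.hom_ext_of_forall
  intro b
  obtain ⟨U, hU, d, hd, f, hf, w, hw⟩ := exists_gE 𝒮 𝒮h ι z hz pC chartC b
  refine ⟨(gE 𝒮 𝒮h ι z hz pC chartC U hU d hd f hf).opensRange, ⟨w, hw⟩, ?_⟩
  have hr0 : Set.range ((gE 𝒮 𝒮h ι z hz pC chartC U hU d hd f hf).opensRange.ι).base ⊆
      Set.range (gE 𝒮 𝒮h ι z hz pC chartC U hU d hd f hf).base := by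
    intro x hx
    rw [Scheme.Opens.range_ι] at hx
    exact hx
  have ha := IsOpenImmersion.lift_fac (gE 𝒮 𝒮h ι z hz pC chartC U hU d hd f hf)
    ((gE 𝒮 𝒮h ι z hz pC chartC U hU d hd f hf).opensRange.ι) hr0
  rw [← ha, Category.assoc, Category.assoc,
    hr U hU d hd f hf _ (gE_ι 𝒮 𝒮h ι z hz pC chartC U hU d hd f hf),
    hr' U hU d hd f hf _ (gE_ι 𝒮 𝒮h ι z hz pC chartC U hU d hd f hf)]

theorem r₀_comp_p : r₀ 𝒮 𝒮h ι z hz pC chartC hPC p chart hP ≫ p =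
    (RelCone.pointedProjCone 𝒮 hz pC chartC).ι ≫ pC := by
  unfold r₀
  rw [Category.assoc, ProjQGlue.comp_p_of_isProjQMapOn (RelProj.QGrHom.ofHom ι hz.graded) p chart pC chartC
    hP hPC _ (ProjQGlue.isProjQMapOn_glued (RelProj.QGrHom.ofHom ι hz.graded) p chart pC chartC hP hPC),
    Category.comp_id, Scheme.isoOfEq_hom_ι_assoc]

theorem isAffineHom_r₀ : IsAffineHom (r₀ 𝒮 𝒮h ι z hz pC chartC hPC p chart hP) := by
  have := S12140aux.isAffineHom_Φ ι hz.graded p chart hP pC chartC hPC _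
    (ProjQGlue.isProjQMapOn_glued (RelProj.QGrHom.ofHom ι hz.graded) p chart pC chartC hP hPC)
  unfold r₀
  infer_instance

section tau
variable (U : Y.Opens) (hU : IsAffineOpen U) (Θ : 𝒮h.deg U hU →+*ᵍ 𝒮.deg U hU)
    (hΘι : ∀ a, Θ ((ι.hom.app (op U)).hom a) = a)

theorem exists_τθ (d : ℕ) (hd : 0 < d) (f : 𝒮.presheaf.obj (op U)) (hf : f ∈ 𝒮.deg U hU d)
    (f' : 𝒮.presheaf.obj (op U)) (e : f' = Θ ((RelProj.gradedHomAt ι hz.graded U hU) f))
    (hf' : f' ∈ 𝒮.deg U hU d) :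
    ∃ τθ : HomogeneousLocalization.Away (𝒮h.deg U hU) ((RelProj.gradedHomAt ι hz.graded U hU) f) →+*
        HomogeneousLocalization.Away (𝒮.deg U hU) f',
      (∀ (n : ℕ) (y : 𝒮h.presheaf.obj (op U)) (hy : y ∈ 𝒮h.deg U hU (n • d)),
        τθ (HomogeneousLocalization.Away.mk (𝒮h.deg U hU) ((RelProj.gradedHomAt ι hz.graded U hU).2 hf) n y hy) =
          HomogeneousLocalization.Away.mk (𝒮.deg U hU) hf' n (Θ y) (Θ.map_mem hy)) ∧
      (∀ (hirr : (𝒮.deg U hU)₊ ≤ ((𝒮h.deg U hU)₊).map Θ),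
        Proj.awayι (𝒮.deg U hU) f' hf' hd ≫ Proj.map Θ hirr =
          Spec.map (CommRingCat.ofHom τθ) ≫
            Proj.awayι (𝒮h.deg U hU) ((RelProj.gradedHomAt ι hz.graded U hU) f)
              ((RelProj.gradedHomAt ι hz.graded U hU).2 hf) hd) := by
  subst e
  exact ⟨HomogeneousLocalization.Away.map Θ _, fun n y hy => HomogeneousLocalization.Away.map_mk _ _ _ _ _ _,
    fun hirr => Proj.awayι_comp_map Θ hirr hd _ _⟩

include hΘι in
theorem τθ_comp (d : ℕ) (f : 𝒮.presheaf.obj (op U)) (hf : f ∈ 𝒮.deg U hU d)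
    (τθ : HomogeneousLocalization.Away (𝒮h.deg U hU) ((RelProj.gradedHomAt ι hz.graded U hU) f) →+*
        HomogeneousLocalization.Away (𝒮.deg U hU) f)
    (hτθ : ∀ (n : ℕ) (y : 𝒮h.presheaf.obj (op U)) (hy : y ∈ 𝒮h.deg U hU (n • d)),
        τθ (HomogeneousLocalization.Away.mk (𝒮h.deg U hU) ((RelProj.gradedHomAt ι hz.graded U hU).2 hf) n y hy) =
          HomogeneousLocalization.Away.mk (𝒮.deg U hU) hf n (Θ y) (Θ.map_mem hy)) :
    CommRingCat.ofHom (HomogeneousLocalization.Away.map (RelProj.gradedHomAt ι hz.graded U hU) f) ≫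
      CommRingCat.ofHom τθ = 𝟙 _ := by
  refine CommRingCat.hom_ext (RingHom.ext fun x => ?_)
  obtain ⟨n, a, ha, rfl⟩ := x.mk_surjective _ hf
  rw [CommRingCat.hom_comp, CommRingCat.hom_ofHom, CommRingCat.hom_ofHom, RingHom.comp_apply,
    HomogeneousLocalization.Away.map_mk, hτθ]
  exact ProjQGlue.mk_congr (𝒜 := 𝒮.deg U hU) _ n _ _ (hΘι a) _ _

end tau

/-- the retraction `z ↦ 0` over an affine open. -/
noncomputable def θU (U : Y.Opens) (hU : IsAffineOpen U) :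
    𝒮h.presheaf.obj (op U) →+* 𝒮.presheaf.obj (op U) :=
  (Polynomial.evalRingHom 0).comp (hz.polyEquiv U hU).symm.toRingHom

theorem θU_eval₂ (U : Y.Opens) (hU : IsAffineOpen U) (q : Polynomial (𝒮.presheaf.obj (op U))) :
    θU 𝒮 𝒮h ι z hz U hU (Polynomial.eval₂ (ι.hom.app (op U)).hom (RelCone.restrictTop 𝒮h z U) q) =
      q.coeff 0 := by
  rw [← RelCone.IsPolyOver.polyEquiv_apply hz U hU q]
  simp only [θU, RingHom.comp_apply, RingEquiv.toRingHom_eq_coe, RingHom.coe_coe,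
    RingEquiv.symm_apply_apply, Polynomial.coe_evalRingHom]
  exact (Polynomial.coeff_zero_eq_eval_zero q).symm

theorem θU_ι (U : Y.Opens) (hU : IsAffineOpen U) (a : 𝒮.presheaf.obj (op U)) :
    θU 𝒮 𝒮h ι z hz U hU ((ι.hom.app (op U)).hom a) = a := by
  have := θU_eval₂ 𝒮 𝒮h ι z hz U hU (Polynomial.C a)
  rwa [Polynomial.eval₂_C, Polynomial.coeff_C_zero] at this

theorem θU_mem (U : Y.Opens) (hU : IsAffineOpen U) (k : ℕ) (y : 𝒮h.presheaf.obj (op U))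
    (hy : y ∈ 𝒮h.deg U hU k) : θU 𝒮 𝒮h ι z hz U hU y ∈ 𝒮.deg U hU k := by
  obtain ⟨q, hq, rfl⟩ := PolyGr.exists_of_mem (𝒮.deg U hU) (𝒮h.deg U hU) (ι.hom.app (op U)).hom
    (RelCone.restrictTop 𝒮h z U) (hz.graded U hU) (hz.deg_z U hU) (hz.bij U hU) hy
  rw [θU_eval₂]
  have := (hq 0).1
  rwa [Nat.sub_zero] at this

/-- the graded retraction. -/
noncomputable def ΘU (U : Y.Opens) (hU : IsAffineOpen U) : 𝒮h.deg U hU →+*ᵍ 𝒮.deg U hU :=
  { θU 𝒮 𝒮h ι z hz U hU with map_mem := fun hx => θU_mem 𝒮 𝒮h ι z hz U hU _ _ hx }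

theorem ΘU_ι (U : Y.Opens) (hU : IsAffineOpen U) (a : 𝒮.presheaf.obj (op U)) :
    ΘU 𝒮 𝒮h ι z hz U hU ((ι.hom.app (op U)).hom a) = a := θU_ι 𝒮 𝒮h ι z hz U hU a

theorem surjective_r₀ : Function.Surjective (r₀ 𝒮 𝒮h ι z hz pC chartC hPC p chart hP).base := by
  intro x
  obtain ⟨U, hxU⟩ := ProjQMap.exists_affine_mem P p x
  have hx3 : x ∈ (RelProj.emb p chart U.1 U.2).opensRange := by
    rw [ProjCone.range_emb]; exact hxU
  obtain ⟨ptA, rfl⟩ := hx3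
  have hnot : ¬ (HomogeneousIdeal.irrelevant (𝒮.deg U.1 U.2)).toIdeal ≤
      ptA.asHomogeneousIdeal.toIdeal := fun h => ptA.not_irrelevant_le h
  rw [HomogeneousIdeal.toIdeal_irrelevant_le] at hnot
  push Not at hnot
  obtain ⟨d, hd, hnle⟩ := hnot
  obtain ⟨f, hf, hfq⟩ := SetLike.not_le_iff_exists.mp hnle
  have hmem : ptA ∈ Proj.basicOpen (𝒮.deg U.1 U.2) f := by
    rw [Proj.mem_basicOpen]; exact hfq
  have hmem' : ptA ∈ (Proj.awayι (𝒮.deg U.1 U.2) f hf hd).opensRange := by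
    rw [Proj.opensRange_awayι]; exact hmem
  obtain ⟨v, rfl⟩ := hmem'
  obtain ⟨τθ, hτθ, -⟩ := exists_τθ 𝒮 𝒮h ι z hz U.1 U.2 (ΘU 𝒮 𝒮h ι z hz U.1 U.2) d hd f hf f
    (ΘU_ι 𝒮 𝒮h ι z hz U.1 U.2 f).symm hf
  have hcomp := τθ_comp 𝒮 𝒮h ι z hz U.1 U.2 (ΘU 𝒮 𝒮h ι z hz U.1 U.2) (ΘU_ι 𝒮 𝒮h ι z hz U.1 U.2)
    d f hf τθ hτθ
  refine ⟨(gE 𝒮 𝒮h ι z hz pC chartC U.1 U.2 d hd f hf).base ((Spec.map (CommRingCat.ofHom τθ)).base v), ?_⟩
  have h1 := congrArg (fun k => k.base ((Spec.map (CommRingCat.ofHom τθ)).base v))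
    (isRetr_r₀ 𝒮 𝒮h ι z hz pC chartC hPC p chart hP U.1 U.2 d hd f hf _
      (gE_ι 𝒮 𝒮h ι z hz pC chartC U.1 U.2 d hd f hf))
  simp only [Scheme.Hom.comp_base, TopCat.hom_comp, ContinuousMap.comp_apply] at h1
  rw [h1]
  have h2 : (Spec.map (CommRingCat.ofHom (HomogeneousLocalization.Away.map
      (RelProj.gradedHomAt ι hz.graded U.1 U.2) f))).base ((Spec.map (CommRingCat.ofHom τθ)).base v) = v := by
    have := congrArg (fun k => k.base v) (congrArg Spec.map hcomp)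
    simp only [Spec.map_comp, Spec.map_id, Scheme.Hom.comp_base, TopCat.hom_comp,
      ContinuousMap.comp_apply, Scheme.Hom.id_base, TopCat.hom_id, ContinuousMap.id_apply] at this
    exact this
  rw [h2]

theorem θι_apply (θ : 𝒮h.toQCAlg ⟶ 𝒮.toQCAlg) (hθι : ι ≫ θ = 𝟙 _) (U : Y.Opens)
    (a : 𝒮.presheaf.obj (op U)) :
    (θ.hom.app (op U)).hom ((ι.hom.app (op U)).hom a) = a := by
  have := congrArg (fun t : 𝒮.toQCAlg ⟶ 𝒮.toQCAlg => (t.hom.app (op U)).hom a) hθι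
  exact this

theorem retract (θ : 𝒮h.toQCAlg ⟶ 𝒮.toQCAlg) (hθ : RelProj.IsGradedHom θ) (hθι : ι ≫ θ = 𝟙 _)
    (hirr : ∀ (U : Y.Opens) (hU : IsAffineOpen U),
      (𝒮.deg U hU)₊ ≤ ((𝒮h.deg U hU)₊).map (RelProj.gradedHomAt θ hθ U hU))
    (j : P ⟶ PC) (hj : RelProj.IsRelProjMap θ hθ hirr chartC chart j)
    (j' : P ⟶ ((RelCone.pointedProjCone 𝒮 hz pC chartC : PC.Opens) : Scheme.{u}))
    (hj' : j' ≫ (RelCone.pointedProjCone 𝒮 hz pC chartC).ι = j) :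
    j' ≫ r₀ 𝒮 𝒮h ι z hz pC chartC hPC p chart hP = 𝟙 P := by
  apply Scheme.hom_ext_of_forall
  intro x
  obtain ⟨U, hxU⟩ := ProjQMap.exists_affine_mem P p x
  have hx3 : x ∈ (RelProj.emb p chart U.1 U.2).opensRange := by
    rw [ProjCone.range_emb]; exact hxU
  obtain ⟨ptA, rfl⟩ := hx3
  have hnot : ¬ (HomogeneousIdeal.irrelevant (𝒮.deg U.1 U.2)).toIdeal ≤
      ptA.asHomogeneousIdeal.toIdeal := fun h => ptA.not_irrelevant_le h
  rw [HomogeneousIdeal.toIdeal_irrelevant_le] at hnot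
  push Not at hnot
  obtain ⟨d, hd, hnle⟩ := hnot
  obtain ⟨f, hf, hfq⟩ := SetLike.not_le_iff_exists.mp hnle
  have hmem : ptA ∈ Proj.basicOpen (𝒮.deg U.1 U.2) f := by
    rw [Proj.mem_basicOpen]; exact hfq
  have hmem' : ptA ∈ (Proj.awayι (𝒮.deg U.1 U.2) f hf hd).opensRange := by
    rw [Proj.opensRange_awayι]; exact hmem
  obtain ⟨v, rfl⟩ := hmem'
  obtain ⟨U, hU⟩ := U
  set cP := Proj.awayι (𝒮.deg U hU) f hf hd ≫ RelProj.emb p chart U hU with hcP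
  refine ⟨cP.opensRange, ⟨v, rfl⟩, ?_⟩
  have hr0 : Set.range (cP.opensRange.ι).base ⊆ Set.range cP.base := by
    intro y hy
    rw [Scheme.Opens.range_ι] at hy
    exact hy
  have ha := IsOpenImmersion.lift_fac cP (cP.opensRange.ι) hr0
  have hΘι : ∀ a, (RelProj.gradedHomAt θ hθ U hU) ((ι.hom.app (op U)).hom a) = a :=
    fun a => θι_apply 𝒮 𝒮h ι θ hθι U a
  obtain ⟨τθ, hτθ, hτθ2⟩ := exists_τθ 𝒮 𝒮h ι z hz U hU (RelProj.gradedHomAt θ hθ U hU) d hd f hf f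
    (hΘι f).symm hf
  have hcomp := τθ_comp 𝒮 𝒮h ι z hz U hU (RelProj.gradedHomAt θ hθ U hU) hΘι d f hf τθ hτθ
  have hemb : RelProj.emb p chart U hU ≫ j =
      Proj.map (RelProj.gradedHomAt θ hθ U hU) (hirr U hU) ≫ RelProj.emb pC chartC U hU := by
    unfold RelProj.emb
    rw [Category.assoc, hj U hU, Iso.inv_hom_id_assoc]
  have h1 : cP ≫ j' = Spec.map (CommRingCat.ofHom τθ) ≫ gE 𝒮 𝒮h ι z hz pC chartC U hU d hd f hf := by
    rw [← cancel_mono (RelCone.pointedProjCone 𝒮 hz pC chartC).ι]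
    simp only [Category.assoc]
    rw [hj', gE_ι, hcP, Category.assoc, hemb, ← Category.assoc (Proj.awayι _ f hf hd),
      hτθ2 (hirr U hU), Category.assoc]
  have key : cP ≫ j' ≫ r₀ 𝒮 𝒮h ι z hz pC chartC hPC p chart hP = cP := by
    rw [← Category.assoc, h1, Category.assoc,
      isRetr_r₀ 𝒮 𝒮h ι z hz pC chartC hPC p chart hP U hU d hd f hf _
        (gE_ι 𝒮 𝒮h ι z hz pC chartC U hU d hd f hf), ← Spec.map_comp_assoc, hcomp, Spec.map_id,
      Category.id_comp]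
  rw [← ha, Category.assoc, key, Category.comp_id]

end Groth.Agent.S8308aux

namespace Groth.Agent.S8308

/-- The canonical retraction of the pointed projective cone: let 𝒮 be a quasi-coherent positively graded
O_Y-algebra with 𝒮_0 = O_Y, Ŝ = 𝒮[z] (given through a graded homomorphism ι : 𝒮 → Ŝ and a global
section z of degree one, polynomial over every affine open), X = Proj(𝒮) and Ĉ = Proj(Ŝ) the
relative homogeneous spectra with their charts, and Ê ⊆ Ĉ the pointed projective cone. There is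
exactly one morphism p : Ê → X such that for every affine open U of Y and every f ∈ 𝒮(U) homogeneous
of positive degree, on the affine piece Spec Ŝ(U)_(ι f) of Ê (the standard open D_+(ι f) of Proj
Ŝ(U) carried into Ĉ by the chart) p is Spec of the canonical homomorphism 𝒮(U)_(f) → Ŝ(U)_(ι f)
followed by the standard open D_+(f) of Proj 𝒮(U) and the chart of X. Every such p is affine and
surjective, lies over Y, and is a retraction of the immersion at infinity: if j : X → Ĉ is the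
morphism chartwise induced by the graded retraction θ : Ŝ → 𝒮 of ι with θ(z) = 0, then j factors
through Ê and the factorisation followed by p is the identity of X. -/
theorem result {Y PC P : Scheme.{u}} (𝒮 𝒮h : RelProj.QCGrAlg Y) (h0 : RelCone.StrZeroBij 𝒮)
    (ι : 𝒮.toQCAlg ⟶ 𝒮h.toQCAlg) (z : 𝒮h.presheaf.obj (op ⊤)) (hz : RelCone.IsPolyOver 𝒮 𝒮h ι z)
    (pC : PC ⟶ Y)
    (chartC : ∀ (U : Y.Opens) (hU : IsAffineOpen U), (((pC ⁻¹ᵁ U : PC.Opens) : Scheme.{u}) ≅ Proj (𝒮h.deg U hU)))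
    (hPC : RelProj.IsRelProj 𝒮h pC chartC)
    (p : P ⟶ Y)
    (chart : ∀ (U : Y.Opens) (hU : IsAffineOpen U), (((p ⁻¹ᵁ U : P.Opens) : Scheme.{u}) ≅ Proj (𝒮.deg U hU)))
    (hP : RelProj.IsRelProj 𝒮 p chart) :
    (∃! r : ((RelCone.pointedProjCone 𝒮 hz pC chartC : PC.Opens) : Scheme.{u}) ⟶ P,
      (∀ (U : Y.Opens) (hU : IsAffineOpen U) (d : ℕ) (hd : 0 < d) (f : 𝒮.presheaf.obj (op U)) (hf : f ∈ 𝒮.deg U hU d)
        (g : Spec (CommRingCat.of (HomogeneousLocalization.Away (𝒮h.deg U hU) ((RelProj.gradedHomAt ι hz.graded U hU) f))) ⟶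
          ((RelCone.pointedProjCone 𝒮 hz pC chartC : PC.Opens) : Scheme.{u})),
        g ≫ (RelCone.pointedProjCone 𝒮 hz pC chartC).ι =
            Proj.awayι (𝒮h.deg U hU) ((RelProj.gradedHomAt ι hz.graded U hU) f) ((RelProj.gradedHomAt ι hz.graded U hU).2 hf) hd ≫
              RelProj.emb pC chartC U hU →
          g ≫ r =
            Spec.map (CommRingCat.ofHom (HomogeneousLocalization.Away.map (RelProj.gradedHomAt ι hz.graded U hU) f)) ≫
              Proj.awayι (𝒮.deg U hU) f hf hd ≫ RelProj.emb p chart U hU)) ∧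
    ∀ r : ((RelCone.pointedProjCone 𝒮 hz pC chartC : PC.Opens) : Scheme.{u}) ⟶ P,
      (∀ (U : Y.Opens) (hU : IsAffineOpen U) (d : ℕ) (hd : 0 < d) (f : 𝒮.presheaf.obj (op U)) (hf : f ∈ 𝒮.deg U hU d)
        (g : Spec (CommRingCat.of (HomogeneousLocalization.Away (𝒮h.deg U hU) ((RelProj.gradedHomAt ι hz.graded U hU) f))) ⟶
          ((RelCone.pointedProjCone 𝒮 hz pC chartC : PC.Opens) : Scheme.{u})),
        g ≫ (RelCone.pointedProjCone 𝒮 hz pC chartC).ι =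
            Proj.awayι (𝒮h.deg U hU) ((RelProj.gradedHomAt ι hz.graded U hU) f) ((RelProj.gradedHomAt ι hz.graded U hU).2 hf) hd ≫
              RelProj.emb pC chartC U hU →
          g ≫ r =
            Spec.map (CommRingCat.ofHom (HomogeneousLocalization.Away.map (RelProj.gradedHomAt ι hz.graded U hU) f)) ≫
              Proj.awayι (𝒮.deg U hU) f hf hd ≫ RelProj.emb p chart U hU) →
      IsAffineHom r ∧ Function.Surjective r.base ∧ r ≫ p = (RelCone.pointedProjCone 𝒮 hz pC chartC).ι ≫ pC ∧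
        ∀ (θ : 𝒮h.toQCAlg ⟶ 𝒮.toQCAlg) (hθ : RelProj.IsGradedHom θ), ι ≫ θ = 𝟙 _ →
          (θ.hom.app (op ⊤)).hom z = 0 →
          ∀ (hirr : ∀ (U : Y.Opens) (hU : IsAffineOpen U),
              (𝒮.deg U hU)₊ ≤ ((𝒮h.deg U hU)₊).map (RelProj.gradedHomAt θ hθ U hU))
            (j : P ⟶ PC), RelProj.IsRelProjMap θ hθ hirr chartC chart j →
            ∀ j' : P ⟶ ((RelCone.pointedProjCone 𝒮 hz pC chartC : PC.Opens) : Scheme.{u}), j' ≫ (RelCone.pointedProjCone 𝒮 hz pC chartC).ι = j → j' ≫ r = 𝟙 P := by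
  have h0' := Groth.Agent.S8308aux.isRetr_r₀ 𝒮 𝒮h ι z hz pC chartC hPC p chart hP
  refine ⟨⟨Groth.Agent.S8308aux.r₀ 𝒮 𝒮h ι z hz pC chartC hPC p chart hP, h0',
    fun r hr => Groth.Agent.S8308aux.unique 𝒮 𝒮h ι z hz pC chartC p chart r _ hr h0'⟩, ?_⟩
  intro r hr
  have e : r = Groth.Agent.S8308aux.r₀ 𝒮 𝒮h ι z hz pC chartC hPC p chart hP :=
    Groth.Agent.S8308aux.unique 𝒮 𝒮h ι z hz pC chartC p chart r _ hr h0'
  rw [e]
  exact ⟨Groth.Agent.S8308aux.isAffineHom_r₀ 𝒮 𝒮h ι z hz pC chartC hPC p chart hP,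
    Groth.Agent.S8308aux.surjective_r₀ 𝒮 𝒮h ι z hz pC chartC hPC p chart hP,
    Groth.Agent.S8308aux.r₀_comp_p 𝒮 𝒮h ι z hz pC chartC hPC p chart hP,
    fun θ hθ hθι _ hirr j hj j' hj' =>
      Groth.Agent.S8308aux.retract 𝒮 𝒮h ι z hz pC chartC hPC p chart hP θ hθ hθι hirr j hj j' hj'⟩

end Groth.Agent.S8308
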