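import Groth.Statements.S8309
import Mathlib
import Groth.Agent.Lib.helper27.ProjQMap
import Groth.Agent.Lib.helper27.PointedCone
import Groth.Agent.Lib.helper27.ProjCone2
import Groth.Agent.Lib.helper27.ProjCone
import Groth.Agent.S12156
import Groth.Agent.S8308

set_option autoImplicit false
universe u
open CategoryTheory CategoryTheory.Limits AlgebraicGeometry Opposite TopologicalSpace
open scoped HomogeneousIdeal
noncomputable section
open EGA2

namespace Groth.Agent.S8309aux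
open CategoryTheory CategoryTheory.Limits AlgebraicGeometry Opposite TopologicalSpace
open scoped HomogeneousIdeal
open Groth.Agent.Lib.helper27

theorem proj_ext {A : Type u} [CommRing A] {𝒜 : ℕ → AddSubgroup A} [GradedRing 𝒜]
    (x y : Proj 𝒜) {d : ℕ} (hd : 0 < d) (f : A) (hf : f ∈ 𝒜 d)
    (hfx : f ∉ x.asHomogeneousIdeal) (hfy : f ∉ y.asHomogeneousIdeal)
    (h : ∀ (e : ℕ) (_ : 0 < e) (g : A) (_ : g ∈ 𝒜 e),
      (g ∈ x.asHomogeneousIdeal ↔ g ∈ y.asHomogeneousIdeal)) : x = y := by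
  apply ProjectiveSpectrum.ext
  apply HomogeneousSubmodule.ext'
  intro k g hg
  have hx : g ∈ x.asHomogeneousIdeal ↔ g * f ∈ x.asHomogeneousIdeal := by
    constructor
    · intro hgx
      exact Ideal.mul_mem_right f x.asHomogeneousIdeal.toIdeal hgx
    · intro hgf
      rcases x.isPrime.mem_or_mem hgf with h1 | h1
      · exact h1
      · exact absurd h1 hfx
  have hy : g ∈ y.asHomogeneousIdeal ↔ g * f ∈ y.asHomogeneousIdeal := by
    constructor
    · intro hgx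
      exact Ideal.mul_mem_right f y.asHomogeneousIdeal.toIdeal hgx
    · intro hgf
      rcases y.isPrime.mem_or_mem hgf with h1 | h1
      · exact h1
      · exact absurd h1 hfy
  rw [hx, hy]
  exact h (k + d) (by omega) (g * f) (SetLike.GradedMul.mul_mem hg hf)

variable {Y PC P : Scheme.{u}} (𝒮 𝒮h : RelProj.QCGrAlg Y)
    (ι : 𝒮.toQCAlg ⟶ 𝒮h.toQCAlg) (z : 𝒮h.presheaf.obj (op ⊤)) (hz : RelCone.IsPolyOver 𝒮 𝒮h ι z)
    (pC : PC ⟶ Y)
    (chartC : ∀ (U : Y.Opens) (hU : IsAffineOpen U), (((pC ⁻¹ᵁ U : PC.Opens) : Scheme.{u}) ≅ Proj (𝒮h.deg U hU)))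
    (hPC : RelProj.IsRelProj 𝒮h pC chartC)
    (p : P ⟶ Y)
    (chart : ∀ (U : Y.Opens) (hU : IsAffineOpen U), (((p ⁻¹ᵁ U : P.Opens) : Scheme.{u}) ≅ Proj (𝒮.deg U hU)))
    (hP : RelProj.IsRelProj 𝒮 p chart)
    (i : 𝒮.toQCAlg.spec ⟶ PC) (hi : RelCone.IsConeImm 𝒮 hz pC chartC i)

include hi hPC in
theorem mem_iff (c : 𝒮.toQCAlg.spec) :
    c ∈ RelCone.pointedCone 𝒮 ↔ i.base c ∈ RelCone.pointedProjCone 𝒮 hz pC chartC := by
  obtain ⟨U, hU, w, rfl⟩ := PointedCone.exists_chart 𝒮 c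
  rw [PointedCone.mem_pointedCone_iff, ProjCone.i_ι hz U hU pC chartC i hi,
    S12156aux.emb_mem_pointedProjCone_iff hz pC chartC hPC U hU, ProjCone.j_mem_domOpen_iff]

include hi hPC in
theorem E_eq : RelCone.pointedCone 𝒮 = i ⁻¹ᵁ RelCone.pointedProjCone 𝒮 hz pC chartC := by
  ext c
  exact mem_iff 𝒮 𝒮h ι z hz pC chartC hPC i hi c

include hi hPC in
theorem isAffineHom_i'
    (i' : ((RelCone.pointedCone 𝒮 : 𝒮.toQCAlg.spec.Opens) : Scheme.{u}) ⟶
      ((RelCone.pointedProjCone 𝒮 hz pC chartC : PC.Opens) : Scheme.{u}))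
    (hi' : i' ≫ (RelCone.pointedProjCone 𝒮 hz pC chartC).ι = (RelCone.pointedCone 𝒮).ι ≫ i) :
    IsAffineHom i' := by
  have hA : IsAffineHom i := ProjCone.isAffineHom_i hz pC chartC hPC i hi
  have hR : IsAffineHom (i ∣_ RelCone.pointedProjCone 𝒮 hz pC chartC) :=
    IsZariskiLocalAtTarget.restrict hA _
  have e : i' = (𝒮.toQCAlg.spec.isoOfEq (E_eq 𝒮 𝒮h ι z hz pC chartC hPC i hi)).hom ≫
      (i ∣_ RelCone.pointedProjCone 𝒮 hz pC chartC) := by
    rw [← cancel_mono (RelCone.pointedProjCone 𝒮 hz pC chartC).ι, hi', Category.assoc,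
      morphismRestrict_ι, Scheme.isoOfEq_hom_ι_assoc]
  rw [e]
  infer_instance

include hi in
theorem surj (r : ((RelCone.pointedProjCone 𝒮 hz pC chartC : PC.Opens) : Scheme.{u}) ⟶ P)
    (hr : S8308aux.IsRetr 𝒮 𝒮h ι z hz pC chartC p chart r)
    (i' : ((RelCone.pointedCone 𝒮 : 𝒮.toQCAlg.spec.Opens) : Scheme.{u}) ⟶
      ((RelCone.pointedProjCone 𝒮 hz pC chartC : PC.Opens) : Scheme.{u}))
    (hi' : i' ≫ (RelCone.pointedProjCone 𝒮 hz pC chartC).ι = (RelCone.pointedCone 𝒮).ι ≫ i) :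
    Function.Surjective (i' ≫ r).base := by
  intro x
  obtain ⟨U, hxU⟩ := ProjQMap.exists_affine_mem P p x
  have hx3 : x ∈ (RelProj.emb p chart U.1 U.2).opensRange := by
    rw [ProjCone.range_emb]; exact hxU
  obtain ⟨ptA, rfl⟩ := hx3
  have hnot : ¬ (HomogeneousIdeal.irrelevant (𝒮.deg U.1 U.2)).toIdeal ≤
      ptA.asHomogeneousIdeal.toIdeal := fun h => ptA.not_irrelevant_le h
  have hnot2 := hnot
  rw [HomogeneousIdeal.toIdeal_irrelevant_le] at hnot
  push Not at hnot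
  obtain ⟨d, hd, hnle⟩ := hnot
  obtain ⟨f, hf, hfq⟩ := SetLike.not_le_iff_exists.mp hnle
  let w : Spec (𝒮.presheaf.obj (op U.1)) := ⟨ptA.asHomogeneousIdeal.toIdeal, ptA.isPrime⟩
  have hwE : (𝒮.toQCAlg.ι U.1 U.2).base w ∈ RelCone.pointedCone 𝒮 := by
    rw [PointedCone.mem_pointedCone_iff]; exact hnot2
  let e : ((RelCone.pointedCone 𝒮 : 𝒮.toQCAlg.spec.Opens) : Scheme.{u}) := ⟨_, hwE⟩
  refine ⟨e, ?_⟩
  have h1 : (RelCone.pointedProjCone 𝒮 hz pC chartC).ι.base (i'.base e) =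
      (RelProj.emb pC chartC U.1 U.2).base ((ProjCone.j hz U.1 U.2).base w) := by
    have := congrArg (fun k => k.base e) hi'
    simp only [Scheme.Hom.comp_base, TopCat.hom_comp, ContinuousMap.comp_apply] at this
    rw [this]
    exact ProjCone.i_ι hz U.1 U.2 pC chartC i hi w
  have hjw : (ProjCone.j hz U.1 U.2).base w ∈
      Proj.basicOpen (𝒮h.deg U.1 U.2) ((ι.hom.app (op U.1)).hom f) :=
    (ProjCone.j_mem_basicOpen_iff hz U.1 U.2 hd f hf w).mpr hfq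
  have hjw' : (ProjCone.j hz U.1 U.2).base w ∈
      (Proj.awayι (𝒮h.deg U.1 U.2) ((RelProj.gradedHomAt ι hz.graded U.1 U.2) f)
        ((RelProj.gradedHomAt ι hz.graded U.1 U.2).2 hf) hd).opensRange := by
    rw [Proj.opensRange_awayι]; exact hjw
  obtain ⟨w', hw'⟩ := hjw'
  have h2 : i'.base e = (S8308aux.gE 𝒮 𝒮h ι z hz pC chartC U.1 U.2 d hd f hf).base w' := by
    apply (RelCone.pointedProjCone 𝒮 hz pC chartC).ι.isOpenEmbedding.injective
    rw [h1, ← hw']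
    have := congrArg (fun k => k.base w') (S8308aux.gE_ι 𝒮 𝒮h ι z hz pC chartC U.1 U.2 d hd f hf)
    simp only [Scheme.Hom.comp_base, TopCat.hom_comp, ContinuousMap.comp_apply] at this
    exact this.symm
  have h3 := congrArg (fun k => k.base w') (hr U.1 U.2 d hd f hf _
    (S8308aux.gE_ι 𝒮 𝒮h ι z hz pC chartC U.1 U.2 d hd f hf))
  simp only [Scheme.Hom.comp_base, TopCat.hom_comp, ContinuousMap.comp_apply] at h3
  change r.base (i'.base e) = _
  rw [h2, h3]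
  congr 1
  refine proj_ext _ _ hd f hf ?_ hfq ?_
  · have : (Proj.awayι (𝒮.deg U.1 U.2) f hf hd).base
        ((Spec.map (CommRingCat.ofHom (HomogeneousLocalization.Away.map
          (RelProj.gradedHomAt ι hz.graded U.1 U.2) f))).base w') ∈
        (Proj.awayι (𝒮.deg U.1 U.2) f hf hd).opensRange := ⟨_, rfl⟩
    rw [Proj.opensRange_awayι, Proj.mem_basicOpen] at this
    exact this
  · intro k hk g hg
    have h4 := ProjQMap.mem_basicOpen_iff' (RelProj.gradedHomAt ι hz.graded U.1 U.2) hk hd g f hg hf w'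
    rw [hw'] at h4
    have h5 : (ProjCone.j hz U.1 U.2).base w ∈
        Proj.basicOpen (𝒮h.deg U.1 U.2) ((RelProj.gradedHomAt ι hz.graded U.1 U.2) g) ↔
        g ∉ w.asIdeal := ProjCone.j_mem_basicOpen_iff hz U.1 U.2 hk g hg w
    rw [h5, Proj.mem_basicOpen] at h4
    exact not_iff_not.mp h4

end Groth.Agent.S8309aux

namespace Groth.Agent.S8309

/-- The canonical retraction of the pointed affine cone: let 𝒮 be a quasi-coherent positively graded
O_Y-algebra with 𝒮_0 = O_Y, Ŝ = 𝒮[z] (graded homomorphism ι : 𝒮 → Ŝ and a degree-one global section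
z, polynomial over affine opens), C = Spec(𝒮), X = Proj(𝒮) and Ĉ = Proj(Ŝ) with their charts, E ⊆ C
and Ê ⊆ Ĉ the pointed cones, i : C → Ĉ the canonical open immersion and p : Ê → X the canonical
retraction (the morphism which on each affine piece Spec Ŝ(U)_(ι f), f ∈ 𝒮(U) homogeneous of
positive degree, is Spec of 𝒮(U)_(f) → Ŝ(U)_(ι f) followed by the chart of X). Then the image of E
under i lies in Ê, and for the induced morphism i' : E → Ê the composite π = i' ≫ p : E → X is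
affine and surjective. -/
theorem result {Y PC P : Scheme.{u}} (𝒮 𝒮h : RelProj.QCGrAlg Y) (h0 : RelCone.StrZeroBij 𝒮)
    (ι : 𝒮.toQCAlg ⟶ 𝒮h.toQCAlg) (z : 𝒮h.presheaf.obj (op ⊤)) (hz : RelCone.IsPolyOver 𝒮 𝒮h ι z)
    (pC : PC ⟶ Y)
    (chartC : ∀ (U : Y.Opens) (hU : IsAffineOpen U), (((pC ⁻¹ᵁ U : PC.Opens) : Scheme.{u}) ≅ Proj (𝒮h.deg U hU)))
    (hPC : RelProj.IsRelProj 𝒮h pC chartC)
    (p : P ⟶ Y)
    (chart : ∀ (U : Y.Opens) (hU : IsAffineOpen U), (((p ⁻¹ᵁ U : P.Opens) : Scheme.{u}) ≅ Proj (𝒮.deg U hU)))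
    (hP : RelProj.IsRelProj 𝒮 p chart)
    (i : 𝒮.toQCAlg.spec ⟶ PC) (hi : RelCone.IsConeImm 𝒮 hz pC chartC i)
    (r : ((RelCone.pointedProjCone 𝒮 hz pC chartC : PC.Opens) : Scheme.{u}) ⟶ P)
    (hr : (∀ (U : Y.Opens) (hU : IsAffineOpen U) (d : ℕ) (hd : 0 < d) (f : 𝒮.presheaf.obj (op U)) (hf : f ∈ 𝒮.deg U hU d)
        (g : Spec (CommRingCat.of (HomogeneousLocalization.Away (𝒮h.deg U hU) ((RelProj.gradedHomAt ι hz.graded U hU) f))) ⟶
          ((RelCone.pointedProjCone 𝒮 hz pC chartC : PC.Opens) : Scheme.{u})),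
        g ≫ (RelCone.pointedProjCone 𝒮 hz pC chartC).ι =
            Proj.awayι (𝒮h.deg U hU) ((RelProj.gradedHomAt ι hz.graded U hU) f) ((RelProj.gradedHomAt ι hz.graded U hU).2 hf) hd ≫
              RelProj.emb pC chartC U hU →
          g ≫ r =
            Spec.map (CommRingCat.ofHom (HomogeneousLocalization.Away.map (RelProj.gradedHomAt ι hz.graded U hU) f)) ≫
              Proj.awayι (𝒮.deg U hU) f hf hd ≫ RelProj.emb p chart U hU)) :
    (RelCone.pointedCone 𝒮 : 𝒮.toQCAlg.spec.Opens) ≤ i ⁻¹ᵁ (RelCone.pointedProjCone 𝒮 hz pC chartC) ∧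
      ∀ i' : ((RelCone.pointedCone 𝒮 : 𝒮.toQCAlg.spec.Opens) : Scheme.{u}) ⟶ ((RelCone.pointedProjCone 𝒮 hz pC chartC : PC.Opens) : Scheme.{u}),
        i' ≫ (RelCone.pointedProjCone 𝒮 hz pC chartC).ι = (RelCone.pointedCone 𝒮).ι ≫ i →
          IsAffineHom (i' ≫ r) ∧ Function.Surjective (i' ≫ r).base := by
  have hrr : r = S8308aux.r₀ 𝒮 𝒮h ι z hz pC chartC hPC p chart hP :=
    S8308aux.unique 𝒮 𝒮h ι z hz pC chartC p chart r _ hr
      (S8308aux.isRetr_r₀ 𝒮 𝒮h ι z hz pC chartC hPC p chart hP)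
  refine ⟨(S8309aux.E_eq 𝒮 𝒮h ι z hz pC chartC hPC i hi).le, fun i' hi' =>
    ⟨?_, S8309aux.surj 𝒮 𝒮h ι z hz pC chartC p chart i hi r hr i' hi'⟩⟩
  have h1 := S8309aux.isAffineHom_i' 𝒮 𝒮h ι z hz pC chartC hPC i hi i' hi'
  have h2 : IsAffineHom r := by
    rw [hrr]
    exact S8308aux.isAffineHom_r₀ 𝒮 𝒮h ι z hz pC chartC hPC p chart hP
  infer_instance

end Groth.Agent.S8309
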