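import Groth.Statements.S8338
import Mathlib
import Groth.Agent.Lib.helper24.GrFrac

set_option autoImplicit false
universe u
open CategoryTheory CategoryTheory.Limits AlgebraicGeometry Opposite TopologicalSpace
noncomputable section
open EGA2

namespace Groth.Agent.S8338

section Aux
open CategoryTheory AlgebraicGeometry Opposite TopologicalSpace DirectSum
variable {A σ : Type u} [CommRing A] [SetLike σ A] [AddSubgroupClass σ A] (𝒜 : ℕ → σ) [GradedRing 𝒜]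
variable {M τ : Type u} [AddCommGroup M] [Module A M] [SetLike τ M] [AddSubgroupClass τ M]
  (ℳ : ℕ → τ) [SetLike.GradedSMul 𝒜 ℳ] [DirectSum.Decomposition ℳ]

/-- sections over `D_+(f)` are single fractions -/
theorem sect_eq_frac (n : ℤ) {d : ℕ} (hd : 0 < d) {f : A} (hf : f ∈ 𝒜 d)
    (t : GrMod.sect 𝒜 ℳ n (op (ProjectiveSpectrum.basicOpen 𝒜 f))) :
    ∃ (k i : ℕ) (m : M), m ∈ ℳ i ∧ (i : ℤ) = k * d + n ∧
      ∀ (x : ProjectiveSpectrum 𝒜) (hx : f ∉ x.asHomogeneousIdeal),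
        ((t.1 ⟨x, (ProjectiveSpectrum.mem_basicOpen 𝒜 f x).mpr hx⟩ : GrMod.tildeAt 𝒜 ℳ n x) :
          GrMod.LocMod 𝒜 (M := M) x) =
          (LocalizedModule.mk m ⟨f ^ k, fun h => hx (x.isPrime.mem_of_pow_mem k h)⟩ :
            GrMod.LocMod 𝒜 (M := M) x) := by
  classical
  let s' : ∀ x : ProjectiveSpectrum 𝒜, f ∉ x.asHomogeneousIdeal →
      LocalizedModule x.asHomogeneousIdeal.toIdeal.primeCompl M := fun x hx =>
    ((t.1 ⟨x, (ProjectiveSpectrum.mem_basicOpen 𝒜 f x).mpr hx⟩ : GrMod.tildeAt 𝒜 ℳ n x) :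
      GrMod.LocMod 𝒜 (M := M) x)
  have hloc : Groth.Agent.Lib.helper24.GrFrac.IsLocFracOn 𝒜 ℳ n f s' := by
    intro x hx
    obtain ⟨V, hxV, iVU, i, j, m, a, nin, hdeg, hw⟩ :=
      t.2 ⟨x, (ProjectiveSpectrum.mem_basicOpen 𝒜 f x).mpr hx⟩
    refine ⟨V.1, V.2, hxV, i, j, m.1, a.1, m.2, a.2, hdeg, ?_⟩
    intro y hfy hyV
    exact ⟨nin ⟨y, hyV⟩, hw ⟨y, hyV⟩⟩
  exact Groth.Agent.Lib.helper24.GrFrac.exists_global_frac 𝒜 ℳ n hd hf s' hloc

/-- the section `m / f ^ k` over `D_+(f)` -/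
def fracSect (n : ℤ) {d : ℕ} {f : A} (hf : f ∈ 𝒜 d) (k i : ℕ) (m : M) (hm : m ∈ ℳ i)
    (hi : (i : ℤ) = k * d + n) :
    GrMod.sect 𝒜 ℳ n (op (ProjectiveSpectrum.basicOpen 𝒜 f)) :=
  have hfk : f ^ k ∈ 𝒜 (k * d) := by
    have := SetLike.pow_mem_graded k hf
    rw [smul_eq_mul] at this
    exact this
  have hnin : ∀ y : ProjectiveSpectrum.basicOpen 𝒜 f, f ^ k ∉ y.1.asHomogeneousIdeal := fun y h =>
    (ProjectiveSpectrum.mem_basicOpen 𝒜 f y.1).mp y.2 (y.1.isPrime.mem_of_pow_mem k h)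
  have hi' : (i : ℤ) = ((k * d : ℕ) : ℤ) + n := by
    rw [hi]
    push_cast
    ring
  ⟨fun x => ⟨LocalizedModule.mk m ⟨f ^ k, hnin x⟩,
    Submodule.subset_span ⟨i, k * d, ⟨m, hm⟩, ⟨f ^ k, hfk⟩, hnin x, hi', rfl⟩⟩,
   fun x => ⟨ProjectiveSpectrum.basicOpen 𝒜 f, x.2, 𝟙 _, i, k * d, ⟨m, hm⟩, ⟨f ^ k, hfk⟩,
    fun y => hnin y, Or.inl hi', fun _ => rfl⟩⟩

variable {N τ' : Type u} [AddCommGroup N] [Module A N] [SetLike τ' N] [AddSubgroupClass τ' N]
  (𝒩 : ℕ → τ') [SetLike.GradedSMul 𝒜 𝒩] [DirectSum.Decomposition 𝒩]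

theorem map_decompose (u : M →ₗ[A] N) (hu : ∀ (i : ℕ) (m : M), m ∈ ℳ i → u m ∈ 𝒩 i) (m : M)
    (j : ℕ) : u (decompose ℳ m j : M) = (decompose 𝒩 (u m) j : N) := by
  classical
  conv_rhs => rw [← sum_support_decompose ℳ m, map_sum]
  rw [decompose_sum, DFinsupp.finsetSum_apply, AddSubmonoidClass.coe_finsetSum]
  have hterm : ∀ c : ℕ, ((decompose 𝒩 (u (decompose ℳ m c : M))) j : N) =
      if c = j then u (decompose ℳ m c : M) else 0 := by
    intro c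
    have hmem : u (decompose ℳ m c : M) ∈ 𝒩 c := hu c _ (decompose ℳ m c).2
    split_ifs with h
    · subst h
      exact decompose_of_mem_same 𝒩 hmem
    · exact decompose_of_mem_ne 𝒩 hmem h
  simp only [hterm]
  rw [Finset.sum_ite_eq']
  split_ifs with h
  · rfl
  · rw [DFinsupp.notMem_support_iff] at h
    rw [h]
    simp

end Aux

/-- For an exact sequence M₁ → M₂ → M₃ of graded S-modules with degree-preserving maps u, v and every
integer n, the induced morphisms M₁(n)~ → M₂(n)~ → M₃(n)~ of modules on X = Proj S give an exact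
sequence of sections over every basic open D_+(f), f homogeneous of positive degree (these opens are
affine and cover X, so the sequence of modules is exact). Gradings by additive subgroups, modules
graded in non-negative degrees. -/
theorem result {A σ : Type u} [CommRing A] [SetLike σ A] [AddSubgroupClass σ A] (𝒜 : ℕ → σ)
    [GradedRing 𝒜] {M₁ τ₁ : Type u} [AddCommGroup M₁] [Module A M₁] [SetLike τ₁ M₁] [AddSubgroupClass τ₁ M₁]
    (ℳ₁ : ℕ → τ₁) [SetLike.GradedSMul 𝒜 ℳ₁] [DirectSum.Decomposition ℳ₁]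
    {M₂ τ₂ : Type u} [AddCommGroup M₂] [Module A M₂] [SetLike τ₂ M₂] [AddSubgroupClass τ₂ M₂]
    (ℳ₂ : ℕ → τ₂) [SetLike.GradedSMul 𝒜 ℳ₂] [DirectSum.Decomposition ℳ₂]
    {M₃ τ₃ : Type u} [AddCommGroup M₃] [Module A M₃] [SetLike τ₃ M₃] [AddSubgroupClass τ₃ M₃]
    (ℳ₃ : ℕ → τ₃) [SetLike.GradedSMul 𝒜 ℳ₃] [DirectSum.Decomposition ℳ₃]
    (u : M₁ →ₗ[A] M₂) (hu : ∀ (i : ℕ) (m : M₁), m ∈ ℳ₁ i → u m ∈ ℳ₂ i)
    (v : M₂ →ₗ[A] M₃) (hv : ∀ (i : ℕ) (m : M₂), m ∈ ℳ₂ i → v m ∈ ℳ₃ i)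
    (hex : Function.Exact u v) (n : ℤ) {d : ℕ} (hd : 0 < d) (f : A) (hf : f ∈ 𝒜 d) :
    Function.Exact ((GrMod.map 𝒜 u hu n).app (Proj.basicOpen 𝒜 f))
      ((GrMod.map 𝒜 v hv n).app (Proj.basicOpen 𝒜 f)) := by
  classical
  intro t
  constructor
  · intro hbt
    -- `t` is a single fraction
    obtain ⟨k, i, m₂, hm₂, hi, hglob⟩ := sect_eq_frac 𝒜 ℳ₂ n hd hf
      (t : GrMod.sect 𝒜 ℳ₂ n (op (ProjectiveSpectrum.basicOpen 𝒜 f)))
    -- `v m₂` is locally killed on `D_+(f)`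
    have hpt : ∀ x : ProjectiveSpectrum 𝒜, f ∉ x.asHomogeneousIdeal →
        ∃ w : A, w ∉ x.asHomogeneousIdeal ∧ w • v m₂ = 0 := by
      intro x hx
      let y : (Proj.basicOpen 𝒜 f : (Proj 𝒜).Opens) :=
        ⟨x, (ProjectiveSpectrum.mem_basicOpen 𝒜 f x).mpr hx⟩
      have h1 : GrMod.val ((GrMod.map 𝒜 v hv n).app (Proj.basicOpen 𝒜 f) t) y =
          GrMod.locMap v x (GrMod.val t y) := GrMod.map_app_val v hv n _ t y
      have h2 : GrMod.val ((GrMod.map 𝒜 v hv n).app (Proj.basicOpen 𝒜 f) t) y = 0 := by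
        rw [hbt]
        rfl
      have h3 : GrMod.val t y = (LocalizedModule.mk m₂
          ⟨f ^ k, fun h => hx (x.isPrime.mem_of_pow_mem k h)⟩ :
            GrMod.LocMod 𝒜 (M := M₂) x) := hglob x hx
      rw [h2, h3, GrMod.locMap_mk] at h1
      have h4 := h1.symm
      rw [← LocalizedModule.zero_mk 1, LocalizedModule.mk_eq] at h4
      obtain ⟨w, hw⟩ := h4
      refine ⟨w.1, w.2, ?_⟩
      have hw' : w • (1 : x.asHomogeneousIdeal.toIdeal.primeCompl) • v m₂ = 0 := by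
        rw [hw, smul_zero, smul_zero]
      rw [one_smul] at hw'
      exact hw'
    obtain ⟨N, hN⟩ := Groth.Agent.Lib.helper24.GrAnn.exists_pow_smul_eq_zero 𝒜 ℳ₃
      (hv i m₂ hm₂) hd hf hpt
    have hker : v (f ^ N • m₂) = 0 := by
      rw [map_smul, hN]
    obtain ⟨m₁', hm₁'⟩ := (hex _).mp hker
    have hfN : f ^ N ∈ 𝒜 (N * d) := by
      have := SetLike.pow_mem_graded N hf
      rw [smul_eq_mul] at this
      exact this
    have hmem₂ : f ^ N • m₂ ∈ ℳ₂ (N * d + i) := by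
      have := SetLike.GradedSMul.smul_mem (A := 𝒜) (B := ℳ₂) hfN hm₂
      simpa [vadd_eq_add] using this
    let m₁ : M₁ := (DirectSum.decompose ℳ₁ m₁' (N * d + i) : M₁)
    have hm₁mem : m₁ ∈ ℳ₁ (N * d + i) := (DirectSum.decompose ℳ₁ m₁' (N * d + i)).2
    have hum₁ : u m₁ = f ^ N • m₂ := by
      rw [map_decompose ℳ₁ ℳ₂ u hu, hm₁']
      exact DirectSum.decompose_of_mem_same ℳ₂ hmem₂
    have hdeg : ((N * d + i : ℕ) : ℤ) = ((N + k : ℕ) : ℤ) * d + n := by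
      push_cast
      rw [hi]
      ring
    refine ⟨(fracSect 𝒜 ℳ₁ n hf (N + k) (N * d + i) m₁ hm₁mem hdeg :
      GrMod.sect 𝒜 ℳ₁ n (op (ProjectiveSpectrum.basicOpen 𝒜 f))), ?_⟩
    refine Subtype.ext (funext fun y => Subtype.ext ?_)
    have hy : f ∉ y.1.asHomogeneousIdeal := (ProjectiveSpectrum.mem_basicOpen 𝒜 f y.1).mp y.2
    have h3 : GrMod.val t y = (LocalizedModule.mk m₂
        ⟨f ^ k, fun h => hy (y.1.isPrime.mem_of_pow_mem k h)⟩ :
          GrMod.LocMod 𝒜 (M := M₂) y.1) := hglob y.1 hy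
    change GrMod.locMap u y.1 (LocalizedModule.mk m₁ ⟨f ^ (N + k), _⟩) = GrMod.val t y
    rw [h3, GrMod.locMap_mk, hum₁, LocalizedModule.mk_eq]
    refine ⟨1, ?_⟩
    rw [one_smul, one_smul]
    change f ^ k • f ^ N • m₂ = f ^ (N + k) • m₂
    rw [smul_smul, ← pow_add, add_comm]
  · rintro ⟨s, rfl⟩
    refine Subtype.ext (funext fun y => Subtype.ext ?_)
    change GrMod.locMap v y.1 (GrMod.locMap u y.1 (GrMod.val s y)) = 0
    induction GrMod.val s y using LocalizedModule.induction_on with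
    | h m a =>
      rw [GrMod.locMap_mk, GrMod.locMap_mk]
      have : v (u m) = 0 := (hex (u m)).mpr ⟨m, rfl⟩
      rw [this, LocalizedModule.zero_mk]

end Groth.Agent.S8338
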