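import Groth.Statements.S8345

set_option autoImplicit false
universe u
open ConstrTop

namespace Groth.Agent.S8345

open TopologicalSpace in
/-- Suppose X is a topological space that is Noetherian. Then a subset s of X is constructible exactly
when s can be written as the union of finitely many locally closed subsets of X. -/
theorem result {X : Type u} [TopologicalSpace X]
    [NoetherianSpace X] (s : Set X) :
    Topology.IsConstructible s ↔
      ∃ (n : ℕ) (Z : Fin n → Set X), (∀ i, IsLocallyClosed (Z i)) ∧ s = ⋃ i, Z i := by
  have hretro : ∀ U : Set X, IsRetrocompact U := fun U V _ _ =>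
    NoetherianSpace.isCompact _
  constructor
  · intro hs
    induction s, hs using BooleanSubalgebra.closure_sdiff_sup_induction with
    | isSublattice =>
      exact ⟨fun s hs t ht ↦ ⟨hs.1.union ht.1, hs.2.union ht.2⟩,
        fun s hs t ht ↦ ⟨hs.1.inter ht.1, hs.2.inter_isOpen ht.2 ht.1⟩⟩
    | bot_mem => exact ⟨isOpen_empty, .empty⟩
    | top_mem => exact ⟨isOpen_univ, .univ⟩
    | sdiff U hU V hV =>
      refine ⟨1, fun _ => U \ V, fun _ => ?_, ?_⟩
      · exact ⟨U, Vᶜ, hU.1, hV.1.isClosed_compl, rfl⟩
      · simp [Set.iUnion_const]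
    | sup s _ t _ hs' ht' =>
      obtain ⟨n, Z, hZ, rfl⟩ := hs'
      obtain ⟨m, W, hW, rfl⟩ := ht'
      refine ⟨n + m, Fin.append Z W, ?_, ?_⟩
      · intro i
        refine Fin.addCases (fun j => ?_) (fun j => ?_) i
        · simpa using hZ j
        · simpa using hW j
      · ext x
        simp only [Set.sup_eq_union, Set.mem_union, Set.mem_iUnion]
        constructor
        · rintro (⟨i, hi⟩ | ⟨i, hi⟩)
          · exact ⟨Fin.castAdd m i, by simpa using hi⟩
          · exact ⟨Fin.natAdd n i, by simpa using hi⟩
        · rintro ⟨i, hi⟩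
          revert hi
          refine Fin.addCases (fun j hj => ?_) (fun j hj => ?_) i
          · left; exact ⟨j, by simpa using hj⟩
          · right; exact ⟨j, by simpa using hj⟩
  · rintro ⟨n, Z, hZ, rfl⟩
    refine Topology.IsConstructible.iUnion fun i => ?_
    obtain ⟨U, C, hU, hC, hUC⟩ := hZ i
    rw [hUC]
    refine Topology.IsConstructible.inter ((hretro U).isConstructible hU) ?_
    have : Topology.IsConstructible Cᶜ := (hretro _).isConstructible hC.isOpen_compl
    simpa using this.compl

end Groth.Agent.S8345
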