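import Groth.Statements.S8346
import Groth.Agent.S8344

set_option autoImplicit false
universe u
open ConstrTop
open scoped Set.Notation

namespace Groth.Agent.S8346

open TopologicalSpace in
/-- Let X be a topological space admitting a basis of open subsets which are retrocompact in X. Then
every locally constructible subset T of X is retrocompact in X. -/
theorem result {X : Type u} [TopologicalSpace X]
    {B : Set (Set X)} (hB : IsTopologicalBasis B) (hBr : ∀ U ∈ B, IsRetrocompact U) {T : Set X}
    (hT : Topology.IsLocallyConstructible T) : IsRetrocompact T := by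
  intro W hWc hWo
  -- for each x in W choose a basic open inside W and inside a neighbourhood where T is constructible
  have key : ∀ x ∈ W, ∃ V ∈ B, x ∈ V ∧ V ⊆ W ∧ IsCompact (T ∩ V) := by
    intro x hx
    obtain ⟨U, hUx, hUo, hUc⟩ := hT x
    have hxU : x ∈ U := mem_of_mem_nhds hUx
    obtain ⟨V, hVB, hxV, hVsub⟩ := hB.exists_subset_of_mem_open (a := x) (u := U ∩ W)
      ⟨hxU, hx⟩ (hUo.inter hWo)
    refine ⟨V, hVB, hxV, fun y hy => (hVsub hy).2, ?_⟩
    have hVU : V ⊆ U := fun y hy => (hVsub hy).1
    have hVW : V ⊆ W := fun y hy => (hVsub hy).2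
    have hVo : IsOpen V := hB.isOpen hVB
    have hVc : IsCompact V := by
      have := hBr V hVB hWc hWo
      rwa [Set.inter_eq_left.mpr hVW] at this
    have hretro : IsRetrocompact (U ↓∩ T) := Groth.Agent.S8344.result hUc
    have hV'o : IsOpen (U ↓∩ V) := hVo.preimage continuous_subtype_val
    have hV'c : IsCompact (U ↓∩ V) := by
      rw [Topology.IsEmbedding.subtypeVal.isCompact_iff]
      rw [Subtype.image_preimage_coe, Set.inter_eq_right.mpr hVU]
      exact hVc
    have h1 := hretro hV'c hV'o
    have h2 := h1.image continuous_subtype_val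
    have h3 : (Subtype.val '' ((U ↓∩ T) ∩ (U ↓∩ V)) : Set X) = T ∩ V := by
      rw [← Set.preimage_inter, Subtype.image_preimage_coe]
      ext y
      simp only [Set.mem_inter_iff]
      constructor
      · rintro ⟨_, h⟩; exact h
      · intro h; exact ⟨hVU h.2, h⟩
    rwa [h3] at h2
  choose! V hVB hxV hVW hVc using key
  obtain ⟨t, htW, htfin, hcover⟩ := hWc.elim_finite_subcover_image (b := W) (c := V)
    (fun x hx => hB.isOpen (hVB x hx)) (fun x hx => Set.mem_biUnion hx (hxV x hx))
  have hEq : T ∩ W = ⋃ x ∈ t, T ∩ V x := by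
    ext y
    simp only [Set.mem_inter_iff, Set.mem_iUnion, exists_prop]
    constructor
    · rintro ⟨hyT, hyW⟩
      obtain ⟨x, hxt, hyx⟩ := Set.mem_iUnion₂.mp (hcover hyW)
      exact ⟨x, hxt, hyT, hyx⟩
    · rintro ⟨x, hxt, hyT, hyx⟩
      exact ⟨hyT, hVW x (htW hxt) hyx⟩
  rw [hEq]
  exact htfin.isCompact_biUnion fun x hx => hVc x (htW hx)

end Groth.Agent.S8346
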