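import Groth.Statements.S8355
-- import your own Groth.Agent.* helpers here

set_option autoImplicit false
universe v u
open CategoryTheory CategoryTheory.Limits
open SpSeq

namespace Groth.Agent.S8355

section helpers

variable {C : Type u} [Category.{v} C] [Abelian C] {r₀ : ℤ}

lemma isZero_succ (E : CohomologicalSpectralSequence C r₀) (k : ℤ) (hk : r₀ ≤ k) (pq : ℤ × ℤ)
    (h : IsZero ((E.page k hk).X pq)) :
    IsZero ((E.page (k + 1) (hk.trans (Int.le_add_one le_rfl))).X pq) := by
  have h1 : IsZero ((E.page k hk).homology pq) :=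
    ShortComplex.isZero_homology_of_isZero_X₂ ((E.page k hk).sc pq) h
  exact h1.of_iso (E.iso k (k + 1) pq rfl hk).symm

lemma isZero_of_succ (E : CohomologicalSpectralSequence C r₀) (k : ℤ) (hk : r₀ ≤ k) (pq : ℤ × ℤ)
    (hd1 : (E.page k hk).d (pq - (k, 1 - k)) pq = 0)
    (hd2 : (E.page k hk).d pq (pq + (k, 1 - k)) = 0)
    (h : IsZero ((E.page (k + 1) (hk.trans (Int.le_add_one le_rfl))).X pq)) :
    IsZero ((E.page k hk).X pq) := by
  have h1 : IsZero ((E.page k hk).homology pq) :=
    h.of_iso (E.iso k (k + 1) pq rfl hk)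
  have hprev : (ComplexShape.up' (⟨k, 1 - k⟩ : ℤ × ℤ)).prev pq = pq - (k, 1 - k) := by
    apply ComplexShape.prev_eq'
    show pq - (k, 1 - k) + (k, 1 - k) = pq
    simp
  have hnext : (ComplexShape.up' (⟨k, 1 - k⟩ : ℤ × ℤ)).next pq = pq + (k, 1 - k) := by
    apply ComplexShape.next_eq'
    show pq + (k, 1 - k) = pq + (k, 1 - k)
    rfl
  have hf : ((E.page k hk).sc pq).f = 0 := by
    show (E.page k hk).d ((ComplexShape.up' (⟨k, 1 - k⟩ : ℤ × ℤ)).prev pq) pq = 0
    rw [hprev]; exact hd1
  have hg : ((E.page k hk).sc pq).g = 0 := by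
    show (E.page k hk).d pq ((ComplexShape.up' (⟨k, 1 - k⟩ : ℤ × ℤ)).next pq) = 0
    rw [hnext]; exact hd2
  have e : ((E.page k hk).sc pq).homology ≅ (E.page k hk).X pq :=
    (ShortComplex.HomologyData.ofZeros _ hf hg).left.homologyIso
  exact h1.of_iso e.symm

end helpers

/-- Let E be a spectral sequence in an abelian category and suppose E_r^{p,q} = 0. Then E_k^{p,q} = 0
for every k ≥ r, and E_∞^{p,q} = 0: for any abutment data (H^n) of E, the graded piece gr^p H^{p+q},
identified by the abutment with the limit term at (p, q), is zero. -/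
theorem result {C : Type u} [Category.{v} C] [Abelian C] {r₀ : ℤ}
    (E : CohomologicalSpectralSequence C r₀) (r : ℤ) (hr : r₀ ≤ r) (pq : ℤ × ℤ)
    (h : IsZero ((E.page r hr).X pq)) :
    (∀ (k : ℤ) (hk : r ≤ k), IsZero ((E.page k (hr.trans hk)).X pq)) ∧
      ∀ (H : ℤ → C) (a : SpSeq.Abutment E H),
        IsZero (SpSeq.grPiece (a.fil (pq.1 + pq.2)) (a.anti (pq.1 + pq.2)) pq.1) := by
  have part1 : ∀ (k : ℤ) (hk : r ≤ k), IsZero ((E.page k (hr.trans hk)).X pq) := by
    intro k hk
    induction k, hk using Int.le_induction with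
    | base => exact h
    | succ k hk ih => exact isZero_succ E k (hr.trans hk) pq ih
  refine ⟨part1, ?_⟩
  intro H a
  refine IsZero.of_iso ?_ (a.β pq).symm
  -- downward induction
  have hstat := a.stat pq
  have key : ∀ (n : ℕ) (k : ℤ) (hk : r₀ ≤ k), a.rk pq ≤ k → r ≤ k + n →
      IsZero ((E.page k hk).X pq) := by
    intro n
    induction n with
    | zero =>
      intro k hk _ hrk
      exact part1 k (by simpa using hrk)
    | succ n ih =>
      intro k hk hak hrk
      obtain ⟨hd1, hd2⟩ := hstat.2 k hk hak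
      refine isZero_of_succ E k hk pq hd1 hd2 ?_
      exact ih (k + 1) _ (by omega) (by push_cast at hrk; omega)
  by_cases hc : r ≤ a.rk pq
  · exact key 0 _ _ le_rfl (by simpa using hc)
  · have hc := not_le.mp hc
    exact key (r - a.rk pq).toNat _ _ le_rfl (by omega)

end Groth.Agent.S8355
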