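import Groth.Statements.S8347
import Groth.Agent.S8355

set_option autoImplicit false
universe v u
open CategoryTheory CategoryTheory.Limits
open SpSeq

namespace Groth.Agent.S8347

section helpers

variable {C : Type u} [Category.{v} C] [Abelian C] {r₀ : ℤ}

/-- Consecutive pages agree at a position where both differentials vanish. -/
lemma nonempty_iso_succ (E : CohomologicalSpectralSequence C r₀) (k : ℤ) (hk : r₀ ≤ k) (pq : ℤ × ℤ)
    (hd1 : (E.page k hk).d (pq - (k, 1 - k)) pq = 0)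
    (hd2 : (E.page k hk).d pq (pq + (k, 1 - k)) = 0) :
    Nonempty ((E.page k hk).X pq ≅
      (E.page (k + 1) (hk.trans (Int.le_add_one le_rfl))).X pq) := by
  have hprev : (ComplexShape.up' (⟨k, 1 - k⟩ : ℤ × ℤ)).prev pq = pq - (k, 1 - k) := by
    apply ComplexShape.prev_eq'
    show pq - (k, 1 - k) + (k, 1 - k) = pq
    simp
  have hnext : (ComplexShape.up' (⟨k, 1 - k⟩ : ℤ × ℤ)).next pq = pq + (k, 1 - k) := by
    apply ComplexShape.next_eq'
    show pq + (k, 1 - k) = pq + (k, 1 - k)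
    rfl
  have hf : ((E.page k hk).sc pq).f = 0 := by
    show (E.page k hk).d ((ComplexShape.up' (⟨k, 1 - k⟩ : ℤ × ℤ)).prev pq) pq = 0
    rw [hprev]; exact hd1
  have hg : ((E.page k hk).sc pq).g = 0 := by
    show (E.page k hk).d pq ((ComplexShape.up' (⟨k, 1 - k⟩ : ℤ × ℤ)).next pq) = 0
    rw [hnext]; exact hd2
  have e : ((E.page k hk).sc pq).homology ≅ (E.page k hk).X pq :=
    (ShortComplex.HomologyData.ofZeros _ hf hg).left.homologyIso
  exact ⟨e.symm ≪≫ E.iso k (k + 1) pq rfl hk⟩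

lemma nonempty_iso_of_eq (E : CohomologicalSpectralSequence C r₀) (pq : ℤ × ℤ) (k k' : ℤ)
    (hk : r₀ ≤ k) (hk' : r₀ ≤ k') (h : k = k') :
    Nonempty ((E.page k hk).X pq ≅ (E.page k' hk').X pq) := by
  subst h
  exact ⟨Iso.refl _⟩

lemma nonempty_iso_add (E : CohomologicalSpectralSequence C r₀) (pq : ℤ × ℤ) (s : ℤ)
    (hs : StationaryAt E pq s) (n : ℕ) :
    ∀ (k : ℤ) (hk : r₀ ≤ k) (_ : s ≤ k) (hk' : r₀ ≤ k + n),
      Nonempty ((E.page k hk).X pq ≅ (E.page (k + n) hk').X pq) := by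
  induction n with
  | zero =>
    intro k hk _ hk'
    exact nonempty_iso_of_eq E pq _ _ _ _ (by simp)
  | succ n ih =>
    intro k hk hsk hk'
    obtain ⟨hd1, hd2⟩ := hs.2 k hk hsk
    obtain ⟨e1⟩ := nonempty_iso_succ E k hk pq hd1 hd2
    obtain ⟨e2⟩ := ih (k + 1) (by omega) (by omega) (by omega)
    obtain ⟨e3⟩ := nonempty_iso_of_eq E pq (k + 1 + (n : ℤ)) (k + ((n + 1 : ℕ) : ℤ))
      (by omega) hk' (by push_cast; omega)
    exact ⟨e1 ≪≫ e2 ≪≫ e3⟩

lemma nonempty_iso_of_le (E : CohomologicalSpectralSequence C r₀) (pq : ℤ × ℤ) (s : ℤ)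
    (hs : StationaryAt E pq s) (k k' : ℤ) (hk : r₀ ≤ k) (hk' : r₀ ≤ k') (hsk : s ≤ k)
    (hkk' : k ≤ k') :
    Nonempty ((E.page k hk).X pq ≅ (E.page k' hk').X pq) := by
  obtain ⟨e1⟩ := nonempty_iso_add E pq s hs (k' - k).toNat k hk hsk (by omega)
  obtain ⟨e2⟩ := nonempty_iso_of_eq E pq (k + ((k' - k).toNat : ℤ)) k' (by omega) hk' (by omega)
  exact ⟨e1 ≪≫ e2⟩

/-- Two pages from which a position is stationary agree at that position. -/
lemma nonempty_iso_of_stationary (E : CohomologicalSpectralSequence C r₀) (pq : ℤ × ℤ) (s t : ℤ)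
    (hs : StationaryAt E pq s) (ht : StationaryAt E pq t) :
    Nonempty ((E.page s hs.1).X pq ≅ (E.page t ht.1).X pq) := by
  rcases le_total s t with h | h
  · exact nonempty_iso_of_le E pq s hs s t hs.1 ht.1 le_rfl h
  · obtain ⟨e⟩ := nonempty_iso_of_le E pq t ht t s ht.1 hs.1 le_rfl h
    exact ⟨e.symm⟩

lemma isIso_cokernel_π_of_eq_zero {X Y : C} (f : X ⟶ Y) (hf : f = 0) : IsIso (cokernel.π f) := by
  subst hf
  infer_instance

lemma eq_of_isZero_grPiece {X : C} (F : ℤ → Subobject X) (hF : Antitone F) (p : ℤ)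
    (h : IsZero (grPiece F hF p)) : F (p + 1) = F p := by
  have hle : F (p + 1) ≤ F p := hF (Int.le_add_one le_rfl)
  have hepi : Epi ((F (p + 1)).ofLE (F p) hle) := Preadditive.epi_of_isZero_cokernel _ h
  have hiso : IsIso ((F (p + 1)).ofLE (F p) hle) := isIso_of_mono_of_epi _
  refine le_antisymm hle ?_
  refine Subobject.le_of_comm (inv ((F (p + 1)).ofLE (F p) hle)) ?_
  rw [IsIso.inv_comp_eq, Subobject.ofLE_arrow]

lemma grPiece_iso_of_top_bot {X : C} (F : ℤ → Subobject X) (hF : Antitone F) (p : ℤ)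
    (htop : F p = ⊤) (hbot : F (p + 1) = ⊥) : Nonempty (grPiece F hF p ≅ X) := by
  have hle : F (p + 1) ≤ F p := hF (Int.le_add_one le_rfl)
  have hz : IsZero ((F (p + 1) : Subobject X) : C) :=
    (isZero_zero C).of_iso (Subobject.isoOfEq _ _ hbot ≪≫ Subobject.botCoeIsoZero)
  have hf : (F (p + 1)).ofLE (F p) hle = 0 := hz.eq_of_src _ _
  have hiso : IsIso (cokernel.π ((F (p + 1)).ofLE (F p) hle)) := isIso_cokernel_π_of_eq_zero _ hf
  exact ⟨(asIso (cokernel.π ((F (p + 1)).ofLE (F p) hle))).symm ≪≫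
    Subobject.isoOfEq _ _ htop ≪≫ asIso (⊤ : Subobject X).arrow⟩

lemma fil_stable_up {X : C} (F : ℤ → Subobject X) (p₀ : ℤ)
    (h : ∀ p, p ≠ p₀ → F (p + 1) = F p) (n : ℕ) : F (p₀ + 1 + n) = F (p₀ + 1) := by
  induction n with
  | zero => simp
  | succ n ih =>
    have := h (p₀ + 1 + n) (by omega)
    rw [← ih, ← this]
    congr 1
    push_cast; omega

lemma fil_stable_down {X : C} (F : ℤ → Subobject X) (p₀ : ℤ)
    (h : ∀ p, p ≠ p₀ → F (p + 1) = F p) (n : ℕ) : F (p₀ - n) = F p₀ := by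
  induction n with
  | zero => simp
  | succ n ih =>
    have := h (p₀ - (n + 1 : ℕ)) (by push_cast; omega)
    rw [← ih, ← this]
    congr 1
    push_cast; omega

lemma fil_bot {X : C} (F : ℤ → Subobject X) (hF : Antitone F) (p₀ : ℤ)
    (h : ∀ p, p ≠ p₀ → F (p + 1) = F p) (hdisc : ∃ b : ℤ, F b = ⊥) : F (p₀ + 1) = ⊥ := by
  obtain ⟨b, hb⟩ := hdisc
  rcases le_total (p₀ + 1) b with hle | hle
  · have := fil_stable_up F p₀ h (b - (p₀ + 1)).toNat
    rw [← this, ← hb]
    congr 1
    omega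
  · exact le_bot_iff.mp (hb ▸ hF hle)

lemma fil_top {X : C} (F : ℤ → Subobject X) (hF : Antitone F) (p₀ : ℤ)
    (h : ∀ p, p ≠ p₀ → F (p + 1) = F p) (hexh : IsLUB (Set.range F) ⊤) : F p₀ = ⊤ := by
  refine top_le_iff.mp (hexh.2 ?_)
  rintro _ ⟨p, rfl⟩
  rcases le_total p₀ p with hle | hle
  · exact hF hle
  · have := fil_stable_down F p₀ h (p₀ - p).toNat
    rw [← this]
    apply le_of_eq
    congr 1
    omega

lemma grPiece_congr {H : ℤ → C} (fil : ∀ n : ℤ, ℤ → Subobject (H n))
    (anti : ∀ n, Antitone (fil n)) (m n p : ℤ) (hm : m = n) :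
    Nonempty (grPiece (fil m) (anti m) p ≅ grPiece (fil n) (anti n) p) := by
  subst hm
  exact ⟨Iso.refl _⟩

end helpers

/-- Let E be a spectral sequence in an abelian category with abutment data (H^m), and suppose that for
some page r and every total degree m there is an integer q(m) such that E_r^{m-q,q} = 0 for every q
other than q(m). Let n be a total degree such that the filtration of H^n is discrete (some step is
zero) and exhaustive (H^n is the supremum of the steps), and such that the position (n - q(n), q(n))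
is stationary from page r on. Then H^n is isomorphic to E_r^{n-q(n), q(n)}. (The published statement
asserts this without any condition on the differentials at the surviving positions; that version
fails when a differential d_r links the surviving terms of two consecutive total degrees, for
instance a spectral sequence whose only nonzero page-2 terms are E_2^{0,1} and E_2^{2,0} with d_2 an
isomorphism between them and zero abutment. The stationarity assumed here is automatic when q(m)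
does not depend on m and r ≥ 2.) -/
theorem result {C : Type u} [Category.{v} C] [Abelian C] {r₀ : ℤ}
    (E : CohomologicalSpectralSequence C r₀) {H : ℤ → C} (a : SpSeq.Abutment E H)
    (r : ℤ) (hr : r₀ ≤ r) (q : ℤ → ℤ)
    (hdeg : ∀ m q' : ℤ, q' ≠ q m → IsZero ((E.page r hr).X (m - q', q')))
    (n : ℤ) (hdisc : (a.filObj n).IsDiscrete) (hexh : a.IsExhaustive n)
    (hst : SpSeq.StationaryAt E (n - q n, q n) r) :
    Nonempty (H n ≅ (E.page r hr).X (n - q n, q n)) := by
  set p₀ : ℤ := n - q n with hp₀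
  -- graded pieces away from p₀ vanish
  have hgr : ∀ p, p ≠ p₀ → a.fil n (p + 1) = a.fil n p := by
    intro p hp
    refine eq_of_isZero_grPiece (a.fil n) (a.anti n) p ?_
    have h0 : IsZero ((E.page r hr).X (p, n - p)) := by
      have := hdeg n (n - p) (by omega)
      have e : n - (n - p) = p := by omega
      rw [e] at this
      exact this
    have h1 := (Groth.Agent.S8355.result E r hr (p, n - p) h0).2 H a
    obtain ⟨e⟩ := grPiece_congr a.fil a.anti (p + (n - p)) n p (by omega)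
    exact h1.of_iso e.symm
  have hbot : a.fil n (p₀ + 1) = ⊥ := fil_bot (a.fil n) (a.anti n) p₀ hgr hdisc
  have htop : a.fil n p₀ = ⊤ := fil_top (a.fil n) (a.anti n) p₀ hgr hexh
  obtain ⟨e1⟩ := grPiece_iso_of_top_bot (a.fil n) (a.anti n) p₀ htop hbot
  obtain ⟨e2⟩ := grPiece_congr a.fil a.anti (p₀ + q n) n p₀ (by omega)
  have e3 := a.β (p₀, q n)
  obtain ⟨e4⟩ := nonempty_iso_of_stationary E (p₀, q n) r (a.rk (p₀, q n)) hst (a.stat (p₀, q n))
  exact ⟨e1.symm ≪≫ e2.symm ≪≫ e3.symm ≪≫ e4.symm⟩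

end Groth.Agent.S8347
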