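import Groth.Statements.S8352
import Mathlib

set_option autoImplicit false
universe u
open CategoryTheory CategoryTheory.Limits Opposite
open HomAlg3

namespace Groth.Agent.S8352

/-- A tower of surjections of types has a section through any prescribed element. -/
theorem exists_section_of_surjective (G : ℕᵒᵖ ⥤ Type u)
    (hsurj : ∀ n : ℕ, Function.Surjective (G.map (homOfLE (Nat.le_succ n)).op))
    (n : ℕ) (x : G.obj (op n)) :
    ∃ s : (∀ j : ℕᵒᵖ, G.obj j), s ∈ G.sections ∧ s (op n) = x := by
  classical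
  -- the sequence above `n`
  let y : ∀ k : ℕ, G.obj (op (n + k)) := fun k =>
    Nat.rec (motive := fun k => G.obj (op (n + k))) x
      (fun k yk => (hsurj (n + k) yk).choose) k
  have hy0 : y 0 = x := rfl
  have hysucc : ∀ k, G.map (homOfLE (Nat.le_succ (n + k))).op (y (k + 1)) = y k := fun k =>
    (hsurj (n + k) (y k)).choose_spec
  -- compatibility of the y's
  have hycompat : ∀ (k d : ℕ) (h : n + k ≤ n + (k + d)),
      G.map (homOfLE h).op (y (k + d)) = y k := by
    intro k d
    induction d with
    | zero =>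
      intro h
      have : (homOfLE h).op = 𝟙 (op (n + k)) := Subsingleton.elim _ _
      rw [this]
      simp
    | succ d ih =>
      intro h
      have h1 : n + k ≤ n + (k + d) := by omega
      have h2 : n + (k + d) ≤ n + (k + d) + 1 := Nat.le_succ _
      have : (homOfLE h).op = (homOfLE h2).op ≫ (homOfLE h1).op := Subsingleton.elim _ _
      rw [this, Functor.map_comp_apply]
      show G.map (homOfLE h1).op (G.map (homOfLE h2).op (y (k + d + 1))) = y k
      rw [hysucc (k + d), ih h1]
  have hycompat' : ∀ (k k' : ℕ) (hk : k ≤ k') (h : n + k ≤ n + k'),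
      G.map (homOfLE h).op (y k') = y k := by
    intro k k' hk h
    obtain ⟨d, rfl⟩ := Nat.exists_eq_add_of_le hk
    exact hycompat k d h
  refine ⟨fun j => G.map (homOfLE (Nat.le_add_left j.unop n)).op (y j.unop), ?_, ?_⟩
  · intro j j' f
    have hle : j'.unop ≤ j.unop := leOfHom f.unop
    show G.map f (G.map (homOfLE (Nat.le_add_left j.unop n)).op (y j.unop)) =
      G.map (homOfLE (Nat.le_add_left j'.unop n)).op (y j'.unop)
    have h3 : n + j'.unop ≤ n + j.unop := by omega
    rw [← hycompat' j'.unop j.unop hle h3]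
    rw [← Functor.map_comp_apply, ← Functor.map_comp_apply]
    congr 1
  · show G.map (homOfLE (Nat.le_add_left n n)).op (y n) = x
    rw [← hy0]
    exact hycompat' 0 n (Nat.zero_le n) (Nat.le_add_left n n)

/-- an element of the limit from a compatible family -/
theorem exists_limit_elt (F : ℕᵒᵖ ⥤ AddCommGrpCat.{u}) (s : ∀ j : ℕᵒᵖ, F.obj j)
    (hs : ∀ {j j' : ℕᵒᵖ} (f : j ⟶ j'), (F.map f).hom (s j) = s j') :
    ∃ y : (limit F : AddCommGrpCat.{u}), ∀ j, (limit.π F j).hom y = s j := by
  let c : Cone F :=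
    { pt := AddCommGrpCat.of (ULift.{u} ℤ)
      π :=
        { app := fun j => AddCommGrpCat.ofHom
            ((zmultiplesHom (F.obj j) (s j)).comp AddEquiv.ulift.toAddMonoidHom)
          naturality := by
            intro j j' f
            ext
            simp [hs f] } }
  refine ⟨(limit.lift F c).hom ⟨1⟩, fun j => ?_⟩
  calc (limit.π F j).hom ((limit.lift F c).hom ⟨1⟩)
      = (limit.lift F c ≫ limit.π F j).hom ⟨1⟩ := rfl
    _ = (c.π.app j).hom ⟨1⟩ := by rw [limit.lift_π]
    _ = s j := by
      simp only [c, AddCommGrpCat.hom_ofHom, AddMonoidHom.coe_comp, Function.comp_apply]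
      show ((zmultiplesHom ↑(F.obj j)) (s j)) (1 : ℤ) = s j
      simp

theorem range_π (F : ℕᵒᵖ ⥤ AddCommGrpCat.{u})
    (hF : (F ⋙ forget AddCommGrpCat).IsMittagLeffler) (n : ℕ) :
    (limit.π F (op n)).hom.range =
      ⨅ (k : ℕ) (hk : n ≤ k), (F.map (homOfLE hk).op).hom.range := by
  apply le_antisymm
  · rintro x ⟨y, rfl⟩
    simp only [AddSubgroup.mem_iInf]
    intro k hk
    refine ⟨(limit.π F (op k)).hom y, ?_⟩
    rw [← limit.w F (homOfLE hk).op]
    rfl
  · intro x hx
    simp only [AddSubgroup.mem_iInf] at hx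
    -- x lies in the eventual range
    have hxE : x ∈ (F ⋙ forget AddCommGrpCat).eventualRange (op n) := by
      rw [Functor.mem_eventualRange_iff]
      intro i f
      have hle : n ≤ i.unop := leOfHom f.unop
      obtain ⟨z, hz⟩ := hx i.unop hle
      refine ⟨z, ?_⟩
      have : f = (homOfLE hle).op := Subsingleton.elim _ _
      rw [this]
      exact hz
    let G := (F ⋙ forget AddCommGrpCat).toEventualRanges
    obtain ⟨s, hs, hsn⟩ := exists_section_of_surjective G
      (fun m => Functor.surjective_toEventualRanges _ hF _) n ⟨x, hxE⟩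
    obtain ⟨y, hy⟩ := exists_limit_elt F (fun j => (s j).val) (by
      intro j j' f
      have := hs f
      exact congrArg Subtype.val this)
    refine ⟨y, ?_⟩
    rw [hy (op n), hsn]

/-- Category of abelian groups, system indexed by the natural numbers: Let (A_k) be an inverse system of
abelian groups satisfying the Mittag-Leffler condition, A = lim A_k with projections π_p : A ⟶ A_p.
Filter A and each A_k by the kernels of the maps to A_{p-1} (with A_{-1} = 0); the graded piece
gr^p(A) is identified with Im(π_p) ∩ Ker(A_p ⟶ A_{p-1}) and gr^p(A_k), k ≥ p, with Im(A_k ⟶ A_p) ∩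
Ker(A_p ⟶ A_{p-1}), a decreasing family of subgroups of A_p. The statement gr^p(A) ≅ lim_k gr^p(A_k)
then reads: Im(π_0) = ⋂_k Im(A_k ⟶ A_0), and for every p, Im(π_{p+1}) ∩ Ker(A_{p+1} ⟶ A_p) = ⋂_{k ≥
p+1} (Im(A_k ⟶ A_{p+1}) ∩ Ker(A_{p+1} ⟶ A_p)). -/
theorem result (F : ℕᵒᵖ ⥤ AddCommGrpCat.{u})
    (hF : (F ⋙ forget AddCommGrpCat).IsMittagLeffler) :
    (limit.π F (op 0)).hom.range = ⨅ k : ℕ, (F.map (homOfLE (Nat.zero_le k)).op).hom.range ∧
      ∀ p : ℕ, (limit.π F (op (p + 1))).hom.range ⊓ (F.map (homOfLE (Nat.le_succ p)).op).hom.ker =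
        ⨅ (k : ℕ) (hk : p + 1 ≤ k),
          (F.map (homOfLE hk).op).hom.range ⊓ (F.map (homOfLE (Nat.le_succ p)).op).hom.ker := by
  constructor
  · rw [range_π F hF 0]
    apply le_antisymm
    · exact le_iInf fun k => (iInf_le _ k).trans (iInf_le _ (Nat.zero_le k))
    · exact le_iInf fun k => le_iInf fun hk => iInf_le _ k
  · intro p
    rw [range_π F hF (p + 1)]
    apply le_antisymm
    · exact le_iInf fun k => le_iInf fun hk =>
        inf_le_inf_right _ ((iInf_le _ k).trans (iInf_le _ hk))
    · refine le_inf ?_ ?_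
      · exact le_iInf fun k => le_iInf fun hk =>
          ((iInf_le _ k).trans (iInf_le _ hk)).trans inf_le_left
      · exact ((iInf_le _ (p + 1)).trans (iInf_le _ le_rfl)).trans inf_le_right

end Groth.Agent.S8352
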