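import Groth.Statements.S8353
import Mathlib

set_option autoImplicit false
universe u

namespace Groth.Agent.S8353

section aux
variable {S : Type u} [CommRing S] {M : Type u} [AddCommGroup M] [Module S M]

theorem exists_family_of_fg_map {N : Type*} [AddCommGroup N] [Module S N] (f : M →ₗ[S] N)
    (P : Submodule S M) (h : (P.map f).FG) :
    ∃ (r : ℕ) (m : Fin r → M), (∀ i, m i ∈ P) ∧
      P ≤ Submodule.span S (Set.range m) ⊔ LinearMap.ker f := by
  obtain ⟨r, s, hs⟩ := Submodule.fg_iff_exists_fin_generating_family.mp h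
  have hex : ∀ i, ∃ x ∈ P, f x = s i := fun i => by
    have : s i ∈ P.map f := hs ▸ Submodule.subset_span ⟨i, rfl⟩
    simpa using this
  choose m hmP hm using hex
  refine ⟨r, m, hmP, ?_⟩
  intro x hx
  have hfx : f x ∈ Submodule.span S (Set.range s) := hs ▸ Submodule.mem_map_of_mem hx
  have hspan : Submodule.span S (Set.range s) = (Submodule.span S (Set.range m)).map f := by
    rw [Submodule.map_span, ← Set.range_comp]
    congr 2
    ext i
    simp [hm]
  rw [hspan] at hfx
  obtain ⟨y, hy, hyx⟩ := hfx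
  have hker : x - y ∈ LinearMap.ker f := by
    rw [LinearMap.mem_ker, map_sub, hyx, sub_self]
  have hx' : x = y + (x - y) := by abel
  rw [hx']
  exact Submodule.add_mem_sup hy hker

variable (J : Ideal S) (F : ℤ → Submodule S M)

theorem pow_smul_le (hJ : ∀ p : ℤ, J • F p ≤ F (p + 1)) (k : ℕ) (q : ℤ) :
    J ^ k • F q ≤ F (q + (k : ℤ)) := by
  induction k generalizing q with
  | zero => simp
  | succ k ih =>
    rw [pow_succ, Submodule.mul_smul]
    calc J ^ k • J • F q ≤ J ^ k • F (q + 1) := Submodule.smul_mono le_rfl (hJ q)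
      _ ≤ F (q + 1 + (k : ℤ)) := ih (q + 1)
      _ = F (q + ((k + 1 : ℕ) : ℤ)) := by
          congr 1
          push_cast
          ring

theorem step_le (hJ : ∀ p : ℤ, J • F p ≤ F (p + 1)) (p : ℤ)
    (hc : ∀ q : ℤ, p ≤ q → F (q + 1) = J • F q ⊔ F (q + 2)) (N : Submodule S M)
    (hgen : F p ≤ N ⊔ F (p + 1)) (k : ℕ) :
    F (p + (k : ℤ)) ≤ J ^ k • N ⊔ F (p + (k : ℤ) + 1) := by
  induction k with
  | zero => simpa using hgen
  | succ k ih =>
    have h1 : p + ((k + 1 : ℕ) : ℤ) = p + (k : ℤ) + 1 := by push_cast; ring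
    have h2 : p + (k : ℤ) + 1 + 1 = p + (k : ℤ) + 2 := by ring
    rw [h1, hc (p + (k : ℤ)) (by omega), h2]
    apply sup_le _ le_sup_right
    calc J • F (p + (k : ℤ)) ≤ J • (J ^ k • N ⊔ F (p + (k : ℤ) + 1)) :=
          Submodule.smul_mono le_rfl ih
      _ = J • J ^ k • N ⊔ J • F (p + (k : ℤ) + 1) := Submodule.smul_sup _ _ _
      _ ≤ J ^ (k + 1) • N ⊔ F (p + (k : ℤ) + 2) := by
          apply sup_le_sup
          · rw [← Submodule.mul_smul, ← pow_succ']
          · rw [← h2]
            exact hJ _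

theorem decomp (hJ : ∀ p : ℤ, J • F p ≤ F (p + 1)) (p : ℤ)
    (hc : ∀ q : ℤ, p ≤ q → F (q + 1) = J • F q ⊔ F (q + 2)) (r : ℕ) (m : Fin r → M)
    (hgen : F p ≤ Submodule.span S (Set.range m) ⊔ F (p + 1)) (k : ℕ) (x : M)
    (hx : x ∈ F (p + (k : ℤ))) :
    ∃ s : Fin r → S, (∀ i, s i ∈ J ^ k) ∧ x - ∑ i, s i • m i ∈ F (p + ((k + 1 : ℕ) : ℤ)) := by
  have h1 := step_le J F hJ p hc _ hgen k hx
  obtain ⟨y, hy, z, hz, rfl⟩ := Submodule.mem_sup.mp h1
  obtain ⟨a, ha, hay⟩ := (Submodule.mem_ideal_smul_span_iff_exists_sum (J ^ k) m y).mp hy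
  refine ⟨fun i => a i, ha, ?_⟩
  have hsum : ∑ i, a i • m i = y := by
    rw [← hay, Finsupp.sum_fintype]
    intro i
    exact zero_smul _ _
  rw [hsum, add_sub_cancel_left]
  have h2 : p + ((k + 1 : ℕ) : ℤ) = p + (k : ℤ) + 1 := by push_cast; ring
  rw [h2]
  exact hz

theorem key [IsAdicComplete J S] (hF : Antitone F) (hJ : ∀ p : ℤ, J • F p ≤ F (p + 1))
    (hsep : ⨅ p : ℤ, F p = ⊥) (p : ℤ)
    (hc : ∀ q : ℤ, p ≤ q → F (q + 1) = J • F q ⊔ F (q + 2)) (r : ℕ) (m : Fin r → M)
    (hm : ∀ i, m i ∈ F p)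
    (hgen : F p ≤ Submodule.span S (Set.range m) ⊔ F (p + 1)) :
    F p ≤ Submodule.span S (Set.range m) := by
  intro x hx
  -- the recursive construction
  let T : ℕ → Type u := fun k => {t : Fin r → S // x - ∑ i, t i • m i ∈ F (p + (k : ℤ))}
  have hstep : ∀ (k : ℕ) (t : T k), ∃ t' : T (k + 1), ∀ i, t'.1 i - t.1 i ∈ J ^ k := by
    intro k t
    obtain ⟨s, hs, hxs⟩ := decomp J F hJ p hc r m hgen k _ t.2
    refine ⟨⟨fun i => t.1 i + s i, ?_⟩, fun i => ?_⟩
    · have : x - ∑ i, (t.1 i + s i) • m i = x - ∑ i, t.1 i • m i - ∑ i, s i • m i := by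
        simp only [add_smul, Finset.sum_add_distrib]
        abel
      rw [this]
      exact hxs
    · simpa using hs i
  choose step hstep' using hstep
  let seq : ∀ k, T k := fun k => Nat.rec (motive := T) ⟨0, by simpa using hx⟩ (fun k t => step k t) k
  have hseq : ∀ k i, (seq (k + 1)).1 i - (seq k).1 i ∈ J ^ k := fun k i => hstep' k (seq k) i
  -- Cauchy
  have hcauchy : ∀ (i : Fin r) {a b : ℕ}, a ≤ b →
      (seq a).1 i ≡ (seq b).1 i [SMOD (J ^ a • ⊤ : Submodule S S)] := by
    intro i a b hab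
    induction b, hab using Nat.le_induction with
    | base => exact SModEq.rfl
    | succ b hab ih =>
      refine ih.trans ?_
      rw [SModEq.sub_mem, smul_eq_mul, Ideal.mul_top]
      have := hseq b i
      have h2 : (seq b).1 i - (seq (b + 1)).1 i = -((seq (b + 1)).1 i - (seq b).1 i) := by ring
      rw [h2]
      exact (J ^ a).neg_mem (Ideal.pow_le_pow_right hab this)
  have hlim : ∀ i : Fin r, ∃ L : S, ∀ n, (seq n).1 i ≡ L [SMOD (J ^ n • ⊤ : Submodule S S)] :=
    fun i => IsPrecomplete.prec' (I := J) (fun k => (seq k).1 i) (fun hab => hcauchy i hab)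
  choose L hL using hlim
  -- the limit works
  have hfinal : x - ∑ i, L i • m i ∈ ⨅ q : ℤ, F q := by
    rw [Submodule.mem_iInf]
    intro q
    have hsumFp : ∀ c : Fin r → S, ∑ i, c i • m i ∈ F p :=
      fun c => Submodule.sum_mem _ fun i _ => Submodule.smul_mem _ _ (hm i)
    by_cases hq : q ≤ p
    · exact hF hq (Submodule.sub_mem _ hx (hsumFp L))
    · push Not at hq
      obtain ⟨k, rfl⟩ : ∃ k : ℕ, q = p + (k : ℤ) := ⟨(q - p).toNat, by omega⟩
      have hdec : x - ∑ i, L i • m i =
          (x - ∑ i, (seq k).1 i • m i) + ∑ i, ((seq k).1 i - L i) • m i := by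
        simp only [sub_smul, Finset.sum_sub_distrib]
        abel
      rw [hdec]
      refine Submodule.add_mem _ (seq k).2 (Submodule.sum_mem _ fun i _ => ?_)
      apply pow_smul_le J F hJ k p
      apply Submodule.smul_mem_smul _ (hm i)
      have := hL i k
      rwa [SModEq.sub_mem, smul_eq_mul, Ideal.mul_top] at this
  rw [hsep, Submodule.mem_bot, sub_eq_zero] at hfinal
  rw [hfinal]
  exact Submodule.sum_mem _ fun i _ => Submodule.smul_mem _ _ (Submodule.subset_span ⟨i, rfl⟩)

end aux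

/-- Let S be a Noetherian ring which is separated and complete for the adic topology of an ideal J, and
let M be an S-module with a decreasing filtration (F^p M)_{p ∈ ℤ} by submodules such that F^p M = M
for some p, J·F^p M ⊆ F^{p+1} M for all p, and ⋂_p F^p M = 0. Then the following are equivalent: (a)
M is a finitely generated S-module and J·F^p M = F^{p+1} M for all large p; (c) every F^p M /
F^{p+1} M is a finitely generated S-module and, for all large p, the map J ⊗ (F^p M/F^{p+1} M) ⟶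
F^{p+1} M/F^{p+2} M is surjective, that is F^{p+1} M = J·F^p M + F^{p+2} M. (The published statement
also lists a third equivalent condition, finite generation of the associated graded module over the
associated graded ring; this row states the equivalence of the other two.) -/
theorem result {S : Type u} [CommRing S] [IsNoetherianRing S]
    (J : Ideal S) [IsAdicComplete J S] {M : Type u} [AddCommGroup M] [Module S M]
    (F : ℤ → Submodule S M) (hF : Antitone F) (hcod : ∃ p₀ : ℤ, F p₀ = ⊤)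
    (hJ : ∀ p : ℤ, J • F p ≤ F (p + 1)) (hsep : ⨅ p : ℤ, F p = ⊥) :
    (Module.Finite S M ∧ ∃ p₁ : ℤ, ∀ p : ℤ, p₁ ≤ p → J • F p = F (p + 1)) ↔
      ((∀ p : ℤ, (Submodule.map (F (p + 1)).mkQ (F p)).FG) ∧
        ∃ p₁ : ℤ, ∀ p : ℤ, p₁ ≤ p → F (p + 1) = J • F p ⊔ F (p + 2)) := by
  constructor
  · rintro ⟨hfin, p₁, h⟩
    have hnoeth : IsNoetherian S M := isNoetherian_of_isNoetherianRing_of_finite S M
    refine ⟨fun p => Submodule.FG.map _ (IsNoetherian.noetherian _), p₁, fun p hp => ?_⟩
    apply le_antisymm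
    · rw [← h p hp]
      exact le_sup_left
    · exact sup_le (hJ p) (hF (by omega))
  · rintro ⟨hfg, p₁, hc⟩
    -- finite generation of `F p` for `p ≥ p₁`
    have hFGge : ∀ p : ℤ, p₁ ≤ p → (F p).FG := by
      intro p hp
      obtain ⟨r, m, hmP, hle⟩ := exists_family_of_fg_map (F (p + 1)).mkQ (F p) (hfg p)
      rw [Submodule.ker_mkQ] at hle
      have hk := key J F hF hJ hsep p (fun q hq => hc q (le_trans hp hq)) r m hmP hle
      have heq : F p = Submodule.span S (Set.range m) :=
        le_antisymm hk (Submodule.span_le.mpr (by rintro _ ⟨i, rfl⟩; exact hmP i))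
      rw [heq]
      exact Submodule.fg_span (Set.finite_range m)
    have hFGdown : ∀ k : ℕ, (F (p₁ - (k : ℤ))).FG := by
      intro k
      induction k with
      | zero => simpa using hFGge p₁ le_rfl
      | succ k ih =>
        apply Submodule.fg_of_fg_map_of_fg_inf_ker (F (p₁ - ((k + 1 : ℕ) : ℤ) + 1)).mkQ (hfg _)
        rw [Submodule.ker_mkQ]
        have h1 : p₁ - ((k + 1 : ℕ) : ℤ) + 1 = p₁ - (k : ℤ) := by push_cast; ring
        rw [h1, inf_eq_right.mpr (hF (by push_cast; omega))]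
        exact ih
    have hFGall : ∀ p : ℤ, (F p).FG := by
      intro p
      by_cases hp : p₁ ≤ p
      · exact hFGge p hp
      · push Not at hp
        obtain ⟨k, rfl⟩ : ∃ k : ℕ, p = p₁ - (k : ℤ) := ⟨(p₁ - p).toNat, by omega⟩
        exact hFGdown k
    obtain ⟨p₀, hp₀⟩ := hcod
    refine ⟨⟨hp₀ ▸ hFGall p₀⟩, p₁, fun p hp => le_antisymm (hJ p) ?_⟩
    -- `F (p + 1) ≤ J • F p`
    have hmapeq : Submodule.map (F (p + 2)).mkQ (F (p + 1)) =
        Submodule.map (F (p + 2)).mkQ (J • F p) := by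
      rw [hc p hp, Submodule.map_sup]
      have : Submodule.map (F (p + 2)).mkQ (F (p + 2)) = ⊥ := by
        rw [eq_bot_iff]
        rintro _ ⟨y, hy, rfl⟩
        rw [Submodule.mem_bot, Submodule.mkQ_apply, Submodule.Quotient.mk_eq_zero]
        exact hy
      rw [this, sup_bot_eq]
    have hfg' : (Submodule.map (F (p + 2)).mkQ (J • F p)).FG := by
      rw [← hmapeq]
      have h2 : p + 2 = p + 1 + 1 := by ring
      rw [h2]
      exact hfg (p + 1)
    obtain ⟨r, m, hmP, hle⟩ := exists_family_of_fg_map (F (p + 2)).mkQ (J • F p) hfg'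
    rw [Submodule.ker_mkQ] at hle
    have h2 : p + 1 + 1 = p + 2 := by ring
    have hgen : F (p + 1) ≤ Submodule.span S (Set.range m) ⊔ F (p + 1 + 1) := by
      rw [h2, hc p hp]
      exact sup_le hle le_sup_right
    have hk := key J F hF hJ hsep (p + 1) (fun q hq => hc q (by omega)) r m
      (fun i => hJ p (hmP i)) hgen
    exact hk.trans (Submodule.span_le.mpr (by rintro _ ⟨i, rfl⟩; exact hmP i))



end Groth.Agent.S8353
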