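import Groth.Statements.S8357
import Groth.Agent.Lib.helper1.DN4

set_option autoImplicit false
universe u
open CategoryTheory MonObj AlgebraicGeometry
open LieS

namespace Groth.Agent.S8357

/-- For a group scheme G over a scheme S and an affine S-scheme T = Spec B, the map induced on
Lie(G/S)(T) by the n-th power map of G is multiplication by n; that is, for v in Lie(G/S)(T) and an
integer n, the n-th power of v in the group law inherited from G is the rescaling of v by the image
of n in B. -/
theorem result (S : Scheme.{u}) (G : Over S) [GrpObj G] (B : Type u) [CommRing B]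
    (f : Spec (CommRingCat.of B) ⟶ S) (v : LieS.Lie G B f) (n : ℤ) :
    v ^ n = ((n : B) • v : LieS.Lie G B f) := by
  classical
  have hu : LieS.zeroSec B f ≫ v.1 = 1 := (LieS.mem_Lie_iff G B f v.1).1 v.2
  have hnat : ∀ k : ℕ, v.1 ^ k = LieS.scale B f (k : B) ≫ v.1 := by
    intro k
    induction k with
    | zero =>
      rw [pow_zero, Nat.cast_zero, Groth.Agent.Lib.helper1.DN.scale_zero_comp f v.1 hu]
    | succ k ih =>
      rw [pow_succ, ih, Nat.cast_succ,
        ← Groth.Agent.Lib.helper1.DN.scale_mul_scale f v.1 hu (k : B) 1,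
        Groth.Agent.Lib.helper1.DN.scale_one_comp]
  have hneg : ∀ b : B, (LieS.scale B f b ≫ v.1)⁻¹ = LieS.scale B f (-b) ≫ v.1 := by
    intro b
    rw [inv_eq_iff_mul_eq_one, Groth.Agent.Lib.helper1.DN.scale_mul_scale f v.1 hu, add_neg_cancel,
      Groth.Agent.Lib.helper1.DN.scale_zero_comp f v.1 hu]
  apply Subtype.ext
  rw [LieS.smul_val, Subgroup.coe_zpow]
  cases n with
  | ofNat k =>
    rw [Int.ofNat_eq_natCast, zpow_natCast, Int.cast_natCast]
    exact hnat k
  | negSucc k =>
    rw [zpow_negSucc, hnat, hneg, Int.cast_negSucc]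

end Groth.Agent.S8357
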