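import Groth.Statements.S8362
import Mathlib

set_option autoImplicit false
universe u
open CategoryTheory AlgebraicGeometry
open SGA3

namespace Groth.Agent.S8362

section Helpers

open CategoryTheory AlgebraicGeometry CategoryTheory.Limits

theorem ring_bij {R' A : Type u} [CommRing R'] [CommRing A] (f : R' →+* A) (K : Ideal R')
    (hK : K * K = ⊥) (ψ : A →+* A) (hψf : ∀ r, ψ (f r) = f r)
    (hψ : ∀ a, ψ a - a ∈ Ideal.map f K) : Function.Bijective ψ := by
  have hII : Ideal.map f K * Ideal.map f K = ⊥ := by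
    rw [← Ideal.map_mul, hK, Ideal.map_bot]
  have hfix : ∀ x ∈ Ideal.map f K, ψ x = x := by
    intro x hx
    refine Submodule.span_induction (p := fun x _ => ψ x = x) ?_ ?_ ?_ ?_ hx
    · rintro _ ⟨r, _, rfl⟩
      exact hψf r
    · simp
    · intro x y _ _ hx hy
      rw [map_add, hx, hy]
    · intro a x hx' hx
      have h1 : (ψ a - a) * x ∈ Ideal.map f K * Ideal.map f K :=
        Ideal.mul_mem_mul (hψ a) hx'
      rw [hII, Ideal.mem_bot] at h1
      rw [smul_eq_mul, map_mul, hx]
      linear_combination h1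
  constructor
  · rw [injective_iff_map_eq_zero]
    intro a ha
    have h1 := hψ a
    rw [ha, zero_sub] at h1
    have h2 := hfix a (by simpa using (Ideal.map f K).neg_mem h1)
    rw [← h2, ha]
  · intro a
    refine ⟨a - (ψ a - a), ?_⟩
    rw [map_sub, hfix _ (hψ a)]
    ring

theorem ker_le_of_isPushout {R' A Q P : CommRingCat.{u}} (f : R' ⟶ A) (g : R' ⟶ Q) (f' : A ⟶ P)
    (g' : Q ⟶ P) (hpo : IsPushout f g f' g') (hg : Function.Surjective g.hom) :
    RingHom.ker f'.hom ≤ Ideal.map f.hom (RingHom.ker g.hom) := by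
  let q : A ⟶ CommRingCat.of (A ⧸ Ideal.map f.hom (RingHom.ker g.hom)) :=
    CommRingCat.ofHom (Ideal.Quotient.mk _)
  have hker : RingHom.ker g.hom ≤ RingHom.ker ((Ideal.Quotient.mk
      (Ideal.map f.hom (RingHom.ker g.hom))).comp f.hom) := by
    intro r hr
    rw [RingHom.mem_ker, RingHom.comp_apply, Ideal.Quotient.eq_zero_iff_mem]
    exact Ideal.mem_map_of_mem _ hr
  let k : Q ⟶ CommRingCat.of (A ⧸ Ideal.map f.hom (RingHom.ker g.hom)) :=
    CommRingCat.ofHom (g.hom.liftOfSurjective hg ⟨_, hker⟩)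
  have hw : f ≫ q = g ≫ k := by
    ext r
    simp only [CommRingCat.hom_comp, CommRingCat.hom_ofHom, RingHom.comp_apply, q, k]
    rw [RingHom.liftOfSurjective_comp_apply]
    rfl
  intro a ha
  have h1 : f' ≫ hpo.desc q k hw = q := hpo.inl_desc _ _ _
  have h2 : q.hom a = 0 := by
    rw [← h1]
    simp only [CommRingCat.hom_comp, RingHom.comp_apply]
    rw [RingHom.mem_ker] at ha
    rw [ha, map_zero]
  exact Ideal.Quotient.eq_zero_iff_mem.mp h2


theorem affine_piece {S S₀ X X₀ : Scheme.{u}} [IsAffine S] [IsAffine S₀] (i : S₀ ⟶ S)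
    (hisurj : Function.Surjective i.appTop.hom)
    (hsq : RingHom.ker i.appTop.hom * RingHom.ker i.appTop.hom = ⊥)
    (s : X ⟶ S) (p : X₀ ⟶ X) (t : X₀ ⟶ S₀) (hpb : IsPullback p t s i)
    (u : X ⟶ X) (hus : u ≫ s = s) (hpu : p ≫ u = p) (U : X.Opens) (hU : IsAffineOpen U)
    (hUu : u ⁻¹ᵁ U = U) : IsIso (u ∣_ U) := by
  have : IsAffine U.toScheme := hU
  have hle : Set.range (U.ι ≫ u) ⊆ Set.range U.ι := by
    rintro _ ⟨x, rfl⟩
    have hx : U.ι x ∈ u ⁻¹ᵁ U := by rw [hUu]; exact x.2
    simpa using hx
  let uU : U.toScheme ⟶ U.toScheme := IsOpenImmersion.lift U.ι (U.ι ≫ u) hle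
  have huU : uU ≫ U.ι = U.ι ≫ u := IsOpenImmersion.lift_fac _ _ _
  have hpb2 : IsPullback (p ∣_ U) ((p ⁻¹ᵁ U).ι ≫ t) (U.ι ≫ s) i :=
    (isPullback_morphismRestrict p U).paste_vert hpb
  have hpo := isPushout_appTop_of_isPullback hpb2
  have hker := ker_le_of_isPushout _ _ _ _ hpo hisurj
  have h1 : uU ≫ (U.ι ≫ s) = U.ι ≫ s := by rw [← Category.assoc, huU, Category.assoc, hus]
  have h2 : (p ∣_ U) ≫ uU = p ∣_ U := by
    rw [← cancel_mono U.ι, Category.assoc, huU, morphismRestrict_ι_assoc, hpu, morphismRestrict_ι]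
  have hbij : Function.Bijective uU.appTop.hom := by
    refine ring_bij (U.ι ≫ s).appTop.hom _ hsq uU.appTop.hom ?_ ?_
    · intro r
      have := congrArg (fun φ => φ.appTop.hom r) h1
      simpa using this
    · intro a
      apply hker
      rw [RingHom.mem_ker, map_sub, sub_eq_zero]
      have := congrArg (fun φ => φ.appTop.hom a) h2
      simpa using this
  have hiso : IsIso uU := by
    have : IsIso uU.appTop := by
      rw [ConcreteCategory.isIso_iff_bijective]
      exact hbij
    exact (HasAffineProperty.iff_of_isAffine (P := MorphismProperty.isomorphisms Scheme)).mpr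
      ⟨inferInstance, this⟩
  have : u ∣_ U = (X.isoOfEq hUu).hom ≫ uU := by
    rw [← cancel_mono U.ι, morphismRestrict_ι, Category.assoc, huU, Scheme.isoOfEq_hom_ι_assoc]
  rw [this]
  infer_instance


theorem main (R : Type u) [CommRing R] (J : Ideal R) (hJ : J * J = ⊥)
    (X : Over (Spec (CommRingCat.of R))) (u : X ⟶ X)
    (h : (Over.pullback (Spec.map (CommRingCat.ofHom (Ideal.Quotient.mk J)))).map u = 𝟙 _) :
    IsIso u := by
  have hp : pullback.fst X.hom (Spec.map (CommRingCat.ofHom (Ideal.Quotient.mk J))) ≫ u.left =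
      pullback.fst X.hom (Spec.map (CommRingCat.ofHom (Ideal.Quotient.mk J))) := by
    have := congrArg (fun t => t.left ≫ pullback.fst X.hom
      (Spec.map (CommRingCat.ofHom (Ideal.Quotient.mk J)))) h
    simp only [Over.pullback_map_left, Over.id_left, Category.id_comp] at this
    rw [pullback.lift_fst] at this
    exact this
  suffices hsuff : IsIso u.left by
    haveI : IsIso ((Over.forget _).map u) := hsuff
    exact isIso_of_reflects_iso u (Over.forget _)
  -- facts about i
  have hnat := Scheme.ΓSpecIso_naturality (CommRingCat.ofHom (Ideal.Quotient.mk J))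
  have hi_eq : ∀ x, (Scheme.ΓSpecIso (CommRingCat.of (R ⧸ J))).hom.hom
      ((Spec.map (CommRingCat.ofHom (Ideal.Quotient.mk J))).appTop.hom x) =
      Ideal.Quotient.mk J ((Scheme.ΓSpecIso (CommRingCat.of R)).hom.hom x) := by
    intro x
    have := congrArg (fun φ => φ.hom x) hnat
    exact this
  have hinj1 : Function.Injective (Scheme.ΓSpecIso (CommRingCat.of (R ⧸ J))).hom.hom :=
    ((ConcreteCategory.isIso_iff_bijective _).mp inferInstance).1
  have hbij2 : Function.Bijective (Scheme.ΓSpecIso (CommRingCat.of R)).hom.hom :=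
    (ConcreteCategory.isIso_iff_bijective _).mp inferInstance
  have hsurj1 : Function.Surjective (Scheme.ΓSpecIso (CommRingCat.of (R ⧸ J))).hom.hom :=
    ((ConcreteCategory.isIso_iff_bijective _).mp inferInstance).2
  have hisurj : Function.Surjective
      (Spec.map (CommRingCat.ofHom (Ideal.Quotient.mk J))).appTop.hom := by
    intro y
    obtain ⟨r, hr⟩ := Ideal.Quotient.mk_surjective
      ((Scheme.ΓSpecIso (CommRingCat.of (R ⧸ J))).hom.hom y)
    obtain ⟨x, rfl⟩ := hbij2.2 r
    refine ⟨x, hinj1 ?_⟩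
    rw [hi_eq, hr]
  have hsq : RingHom.ker (Spec.map (CommRingCat.ofHom (Ideal.Quotient.mk J))).appTop.hom *
      RingHom.ker (Spec.map (CommRingCat.ofHom (Ideal.Quotient.mk J))).appTop.hom = ⊥ := by
    rw [eq_bot_iff, Ideal.mul_le]
    intro a ha b hb
    rw [RingHom.mem_ker] at ha hb
    have ha' : (Scheme.ΓSpecIso (CommRingCat.of R)).hom.hom a ∈ J := by
      rw [← Ideal.Quotient.eq_zero_iff_mem, ← hi_eq, ha, map_zero]
    have hb' : (Scheme.ΓSpecIso (CommRingCat.of R)).hom.hom b ∈ J := by
      rw [← Ideal.Quotient.eq_zero_iff_mem, ← hi_eq, hb, map_zero]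
    have hab := Ideal.mul_mem_mul ha' hb'
    rw [hJ, Ideal.mem_bot, ← map_mul] at hab
    rw [Ideal.mem_bot]
    exact hbij2.1 (by rw [hab, map_zero])
  -- i is surjective on points
  have hisurj' : Surjective (Spec.map (CommRingCat.ofHom (Ideal.Quotient.mk J))) := by
    constructor
    intro x
    have hx : x ∈ PrimeSpectrum.zeroLocus (J : Set R) := by
      intro r hr
      have : r * r ∈ J * J := Ideal.mul_mem_mul hr hr
      rw [hJ, Ideal.mem_bot] at this
      have h0 : r * r ∈ x.asIdeal := by rw [this]; exact x.asIdeal.zero_mem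
      exact (x.isPrime.mem_or_mem h0).elim id id
    have hr := range_comap_of_surjective (R ⧸ J) (Ideal.Quotient.mk J) Ideal.Quotient.mk_surjective
    rw [Ideal.mk_ker] at hr
    rw [← hr] at hx
    exact hx
  have hpsurj : Function.Surjective
      (pullback.fst X.hom (Spec.map (CommRingCat.ofHom (Ideal.Quotient.mk J)))) :=
    (inferInstance : Surjective (pullback.fst X.hom
      (Spec.map (CommRingCat.ofHom (Ideal.Quotient.mk J))))).surj
  have hux : ∀ x, u.left x = x := by
    intro x
    obtain ⟨y, rfl⟩ := hpsurj x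
    rw [← Scheme.Hom.comp_apply, hp]
  have hUu : ∀ U : X.left.Opens, u.left ⁻¹ᵁ U = U := by
    intro U
    ext x
    simp [hux]
  refine IsZariskiLocalAtTarget.of_iSup_eq_top (P := MorphismProperty.isomorphisms Scheme)
    (fun U : X.left.affineOpens => (U : X.left.Opens)) (iSup_affineOpens_eq_top _) ?_
  intro U
  exact affine_piece (Spec.map (CommRingCat.ofHom (Ideal.Quotient.mk J))) hisurj hsq X.hom
    _ _ (IsPullback.of_hasPullback _ _) u.left (Over.w u) hp U U.2 (hUu U)

end Helpers

/-- Over an affine base S = Spec R with S₀ = Spec (R/J) for an ideal J of square zero: for an arbitrary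
S-scheme X, every S-endomorphism of X inducing the identity on X ×_S S₀ is an automorphism. (The
published statement is over an arbitrary base scheme with a quasi-coherent ideal of square zero;
this row is its case of an affine base, to which it reduces since being an isomorphism is local on
the base.) -/
theorem result (R : Type u) [CommRing R] (J : Ideal R) (hJ : J * J = ⊥)
    (X : Over (Spec (CommRingCat.of R))) (u : X ⟶ X)
    (h : (Over.pullback (Spec.map (CommRingCat.ofHom (Ideal.Quotient.mk J)))).map u = 𝟙 _) :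
    IsIso u := by
  exact main R J hJ X u h

end Groth.Agent.S8362
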