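import Groth.Statements.S8364
import Mathlib.Tactic

set_option autoImplicit false
universe u
open SGA3

namespace Groth.Agent.S8364

/-- An algebra endomorphism which is the identity modulo the extension of a square-zero ideal of
the base is bijective. -/
theorem bijective_of_mk_comp_eq (R A : Type u) [CommRing R] [CommRing A] [Algebra R A]
    (J : Ideal R) (hJ : J * J = ⊥) (u : A →ₐ[R] A)
    (hu : ∀ a, u a - a ∈ Ideal.map (algebraMap R A) J) : Function.Bijective u := by
  set I := Ideal.map (algebraMap R A) J with hI
  have hI2 : I * I = ⊥ := by rw [hI, ← Ideal.map_mul, hJ, Ideal.map_bot]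
  have hmul : ∀ x ∈ I, ∀ y ∈ I, x * y = 0 := by
    intro x hx y hy
    have : x * y ∈ I * I := Ideal.mul_mem_mul hx hy
    rw [hI2] at this
    simpa using this
  -- u is the identity on I
  have hfix : ∀ x ∈ I, u x = x := by
    intro x hx
    rw [hI, Ideal.map] at hx
    induction hx using Submodule.span_induction with
    | mem x hx =>
      obtain ⟨j, _, rfl⟩ := hx
      exact u.commutes j
    | zero => simp
    | add x y _ _ hx hy => rw [map_add, hx, hy]
    | smul a x hx' hx =>
      have hxI : x ∈ I := hx'
      rw [smul_eq_mul, map_mul, hx]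
      have := hmul (u a - a) (hu a) x hxI
      linear_combination this
  constructor
  · intro a b hab
    have h0 : u (a - b) = 0 := by rw [map_sub, hab, sub_self]
    have h1 : a - b ∈ I := by
      have := hu (a - b)
      rw [h0, zero_sub] at this
      simpa using I.neg_mem this
    have h2 := hfix _ h1
    rw [h0] at h2
    exact sub_eq_zero.mp h2.symm
  · intro b
    refine ⟨b - (u b - b), ?_⟩
    rw [map_sub, hfix _ (hu b)]
    ring

/-- For a commutative ring R, an ideal J of R of square zero, a smooth R-algebra A and the extended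
ideal I = J·A, every R-algebra automorphism of A/I lifts to an R-algebra automorphism of A. (The
published statement concerns the automorphism functor of a smooth affine S-scheme E and affine test
schemes Y; this row is the case Y = S = Spec R, E = Spec A, which gives the general one after
replacing R by the ring of Y.) -/
theorem result (R A : Type u) [CommRing R] [CommRing A] [Algebra R A]
    [Algebra.Smooth R A] (J : Ideal R) (hJ : J * J = ⊥)
    (φ₀ : (A ⧸ Ideal.map (algebraMap R A) J) ≃ₐ[R] (A ⧸ Ideal.map (algebraMap R A) J)) :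
    ∃ φ : A ≃ₐ[R] A,
      (Ideal.Quotient.mkₐ R (Ideal.map (algebraMap R A) J)).comp φ.toAlgHom =
        φ₀.toAlgHom.comp (Ideal.Quotient.mkₐ R (Ideal.map (algebraMap R A) J)) := by
  have hI2 : (Ideal.map (algebraMap R A) J) ^ 2 = ⊥ := by
    rw [pow_two, ← Ideal.map_mul, hJ, Ideal.map_bot]
  have hInil : IsNilpotent (Ideal.map (algebraMap R A) J) := ⟨2, hI2⟩
  obtain ⟨φ, hφ⟩ := Algebra.FormallySmooth.exists_lift _ hInil
    (φ₀.toAlgHom.comp (Ideal.Quotient.mkₐ R (Ideal.map (algebraMap R A) J)))
  obtain ⟨ψ, hψ⟩ := Algebra.FormallySmooth.exists_lift _ hInil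
    (φ₀.symm.toAlgHom.comp (Ideal.Quotient.mkₐ R (Ideal.map (algebraMap R A) J)))
  have hφ' : ∀ a, Ideal.Quotient.mk (Ideal.map (algebraMap R A) J) (φ a) =
      φ₀ (Ideal.Quotient.mk (Ideal.map (algebraMap R A) J) a) := fun a =>
    AlgHom.congr_fun hφ a
  have hψ' : ∀ a, Ideal.Quotient.mk (Ideal.map (algebraMap R A) J) (ψ a) =
      φ₀.symm (Ideal.Quotient.mk (Ideal.map (algebraMap R A) J) a) := fun a =>
    AlgHom.congr_fun hψ a
  have h1 : Function.Bijective (ψ.comp φ) := by
    apply bijective_of_mk_comp_eq R A J hJ
    intro a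
    rw [← Ideal.Quotient.eq]
    simp [hφ', hψ']
  have h2 : Function.Bijective (φ.comp ψ) := by
    apply bijective_of_mk_comp_eq R A J hJ
    intro a
    rw [← Ideal.Quotient.eq]
    simp [hφ', hψ']
  have hbij : Function.Bijective φ := by
    constructor
    · have := h1.1
      rw [AlgHom.coe_comp] at this
      exact Function.Injective.of_comp this
    · have := h2.2
      rw [AlgHom.coe_comp] at this
      exact Function.Surjective.of_comp this
  refine ⟨AlgEquiv.ofBijective φ hbij, ?_⟩
  rw [← hφ]
  rfl

end Groth.Agent.S8364
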