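import Groth.Statements.S8365
import Groth.Agent.Lib.helper1.DN4

set_option autoImplicit false
universe u
open CategoryTheory MonObj AlgebraicGeometry
open LieS

namespace Groth.Agent.S8365

/-- For a monoid scheme X over a scheme S (an associative unital monoid object in S-schemes) and an
affine S-scheme T = Spec B, a point of X with values in the dual numbers over T is invertible if and
only if its restriction along the zero section ε = 0 is invertible in X(T); in particular every such
point restricting to the unit section is invertible. (The published statement is for monoid-valued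
functors satisfying a tangent-space exactness condition, which every representable functor
satisfies, and its special case where the restriction is the unit section allows unital composition
laws that need not be associative; this row treats monoid schemes only.) -/
theorem result (S : Scheme.{u}) (X : Over S) [MonObj X] (B : Type u) [CommRing B]
    (f : Spec (CommRingCat.of B) ⟶ S) (v : LieS.dpt B f ⟶ X) :
    IsUnit v ↔ IsUnit (LieS.zeroSec B f ≫ v) := by
  classical
  -- points restricting to the unit are invertible
  have key : ∀ u : LieS.dpt B f ⟶ X, LieS.zeroSec B f ≫ u = 1 → IsUnit u := by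
    intro u hu
    rw [isUnit_iff_exists]
    refine ⟨LieS.scale B f (-1) ≫ u, ?_, ?_⟩
    · have := Groth.Agent.Lib.helper1.DN.scale_mul_scale f u hu 1 (-1)
      rw [Groth.Agent.Lib.helper1.DN.scale_one_comp, add_neg_cancel,
        Groth.Agent.Lib.helper1.DN.scale_zero_comp f u hu] at this
      exact this
    · have := Groth.Agent.Lib.helper1.DN.scale_mul_scale f u hu (-1) 1
      rw [Groth.Agent.Lib.helper1.DN.scale_one_comp, neg_add_cancel,
        Groth.Agent.Lib.helper1.DN.scale_zero_comp f u hu] at this
      exact this
  constructor
  · intro hv
    let φ : (LieS.dpt B f ⟶ X) →* (LieS.pt B f ⟶ X) :=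
      { toFun := fun t => LieS.zeroSec B f ≫ t
        map_one' := MonObj.comp_one _
        map_mul' := fun a b => MonObj.comp_mul _ a b }
    exact hv.map φ
  · intro hv₀
    obtain ⟨w₀, h1, h2⟩ := isUnit_iff_exists.1 hv₀
    have hzp : ∀ t : LieS.pt B f ⟶ X, LieS.zeroSec B f ≫ LieS.proj B f ≫ t = t := by
      intro t
      rw [← Category.assoc, LieS.zeroSec_proj, Category.id_comp]
    have hu : IsUnit (v * (LieS.proj B f ≫ w₀)) := by
      apply key
      rw [MonObj.comp_mul, hzp, h1]
    have hu' : IsUnit ((LieS.proj B f ≫ w₀) * v) := by
      apply key
      rw [MonObj.comp_mul, hzp, h2]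
    obtain ⟨r, hr1, hr2⟩ := isUnit_iff_exists.1 hu
    obtain ⟨l, hl1, hl2⟩ := isUnit_iff_exists.1 hu'
    rw [isUnit_iff_exists_and_exists]
    refine ⟨⟨(LieS.proj B f ≫ w₀) * r, ?_⟩, ⟨l * (LieS.proj B f ≫ w₀), ?_⟩⟩
    · rw [← _root_.mul_assoc]; exact hr1
    · rw [_root_.mul_assoc]; exact hl2

end Groth.Agent.S8365
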