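import Groth.Statements.S8369
import Mathlib.RingTheory.Flat.Basic
import Mathlib.LinearAlgebra.TensorProduct.RightExactness

set_option autoImplicit false
universe u v
open SGA3
open scoped TensorProduct

namespace Groth.Agent.S8369

section
variable {A : Type u} [CommRing A] (J : Ideal A)

/-- the multiplication map `J ⊗ P → P` -/
noncomputable def mu (P : Type*) [AddCommGroup P] [Module A P] : J ⊗[A] P →ₗ[A] P :=
  TensorProduct.lift ((LinearMap.lsmul A P).comp J.subtype)

@[simp] theorem mu_tmul (P : Type*) [AddCommGroup P] [Module A P] (j : J) (p : P) :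
    mu J P (j ⊗ₜ p) = (j : A) • p := by
  simp [mu]

theorem mu_natural {P P' : Type*} [AddCommGroup P] [Module A P] [AddCommGroup P'] [Module A P']
    (f : P →ₗ[A] P') (t : J ⊗[A] P) : mu J P' (f.lTensor J t) = f (mu J P t) := by
  induction t using TensorProduct.induction_on with
  | zero => simp
  | tmul j p => simp
  | add a b ha hb => simp [ha, hb]

theorem exists_mu_eq {P : Type*} [AddCommGroup P] [Module A P] (x : P)
    (hx : x ∈ J • (⊤ : Submodule A P)) : ∃ t, mu J P t = x := by
  refine Submodule.smul_induction_on hx ?_ ?_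
  · intro j hj p _
    exact ⟨(⟨j, hj⟩ : J) ⊗ₜ p, by simp⟩
  · rintro a b ⟨ta, rfl⟩ ⟨tb, rfl⟩
    exact ⟨ta + tb, by simp⟩

theorem mu_injective_of_flat (Q : Type*) [AddCommGroup Q] [Module A Q] [Module.Flat A Q] :
    Function.Injective (mu J Q) := by
  have h1 : Function.Injective (J.subtype.rTensor Q) :=
    Module.Flat.rTensor_preserves_injective_linearMap _ J.injective_subtype
  have h2 : mu J Q = (TensorProduct.lid A Q).toLinearMap ∘ₗ (J.subtype.rTensor Q) := by
    apply TensorProduct.ext'
    intro j q
    simp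
  rw [h2]
  exact (TensorProduct.lid A Q).injective.comp h1

theorem mu_sub_mem {M : Type v} [AddCommGroup M] [Module A M] (N : Submodule A M)
    (t : J ⊗[A] N) : (mu J N t : M) ∈ J • N := by
  induction t using TensorProduct.induction_on with
  | zero => simp
  | tmul j n =>
    simp only [mu_tmul, Submodule.coe_smul]
    exact Submodule.smul_mem_smul j.2 n.2
  | add a b ha hb =>
    simp only [map_add, Submodule.coe_add]
    exact Submodule.add_mem _ ha hb

theorem inf_smul_top_le {M : Type v} [AddCommGroup M] [Module A M] (N : Submodule A M)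
    [Module.Flat A (M ⧸ N)] : N ⊓ J • (⊤ : Submodule A M) ≤ J • N := by
  rintro x ⟨hxN, hxJ⟩
  obtain ⟨t, rfl⟩ := exists_mu_eq J x hxJ
  have h0 : mu J (M ⧸ N) (N.mkQ.lTensor J t) = 0 := by
    rw [mu_natural]
    simpa using hxN
  have h1 : N.mkQ.lTensor J t = 0 := by
    apply mu_injective_of_flat J (M ⧸ N)
    rw [h0, map_zero]
  have hex : Function.Exact N.subtype N.mkQ := by
    rw [LinearMap.exact_iff]
    simp
  have h2 := lTensor_exact J hex N.mkQ_surjective
  obtain ⟨t', rfl⟩ := (h2 t).mp h1
  rw [mu_natural]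
  exact mu_sub_mem J N t'

theorem le_sup_pow_smul {M : Type v} [AddCommGroup M] [Module A M] (N N' : Submodule A M)
    (h : N ≤ N' ⊔ J • N) (k : ℕ) : N ≤ N' ⊔ J ^ k • N := by
  induction k with
  | zero => simp
  | succ k ih =>
    calc N ≤ N' ⊔ J • N := h
      _ ≤ N' ⊔ J • (N' ⊔ J ^ k • N) := sup_le_sup_left (Submodule.smul_mono le_rfl ih) _
      _ = N' ⊔ (J • N' ⊔ J • (J ^ k • N)) := by rw [Submodule.smul_sup]
      _ ≤ N' ⊔ J ^ (k + 1) • N := by
        refine sup_le le_sup_left (sup_le ?_ ?_)
        · exact le_sup_of_le_left Submodule.smul_le_right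
        · rw [← Submodule.mul_smul, ← pow_succ']
          exact le_sup_right

end

/-- Let A be a commutative ring, J a nilpotent ideal, N ⊆ M A-modules with M/N flat over A. If elements
of N have images generating the image of N in M/JM, then they generate N. (The published statement
takes finitely many elements; this row allows an arbitrary set, which the same argument permits.) -/
theorem result (A : Type u) [CommRing A] (J : Ideal A) (hJ : IsNilpotent J)
    (M : Type v) [AddCommGroup M] [Module A M] (N : Submodule A M) [Module.Flat A (M ⧸ N)] (s : Set M)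
    (hs : s ⊆ N)
    (hgen : (Submodule.span A s).map (J • (⊤ : Submodule A M)).mkQ = N.map (J • (⊤ : Submodule A M)).mkQ) :
    Submodule.span A s = N := by
  have hle : Submodule.span A s ≤ N := Submodule.span_le.mpr hs
  refine le_antisymm hle ?_
  -- N ≤ span s ⊔ J • ⊤
  have h1 : N ≤ Submodule.span A s ⊔ J • (⊤ : Submodule A M) := by
    have := congrArg (Submodule.comap (J • (⊤ : Submodule A M)).mkQ) hgen
    rw [Submodule.comap_map_eq, Submodule.comap_map_eq, Submodule.ker_mkQ] at this
    rw [this]
    exact le_sup_left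
  -- N ≤ span s ⊔ J • N
  have h2 : N ≤ Submodule.span A s ⊔ J • N := by
    intro x hx
    obtain ⟨y, hy, z, hz, rfl⟩ := Submodule.mem_sup.mp (h1 hx)
    have hzN : z ∈ N := by
      have := N.sub_mem hx (hle hy)
      simpa using this
    exact Submodule.mem_sup.mpr ⟨y, hy, z, inf_smul_top_le J N ⟨hzN, hz⟩, rfl⟩
  obtain ⟨k, hk⟩ := hJ
  have h3 := le_sup_pow_smul J N (Submodule.span A s) h2 k
  rw [hk] at h3
  simpa using h3

end Groth.Agent.S8369
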