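import Groth.Statements.S8370
import Mathlib

set_option autoImplicit false
universe u
open CategoryTheory MonObj AlgebraicGeometry
open LieS

namespace Groth.Agent.S8370

/-- For a group scheme G over a scheme S (the group law of the Lie algebra functor of a group scheme is
commutative, which the published statement assumes), a sub-group-scheme K of G given by a
monomorphic homomorphism i, and an affine S-scheme T = Spec B: an element x of Lie(G/S)(T) belongs
to the Lie algebra of the centraliser of K, i.e. the point x of G with values in the dual numbers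
I_T commutes with every point of K with values in any scheme over I_T, if and only if x is fixed by
the adjoint action of every point of K with values in an affine scheme T' = Spec B' over T (acting
on the restriction of x to T'). -/
theorem result (S : Scheme.{u}) (G K : Over S) [GrpObj G] [GrpObj K] (i : K ⟶ G)
    [IsMonHom i] [Mono i] (B : Type u) [CommRing B] (f : Spec (CommRingCat.of B) ⟶ S) (x : LieS.Lie G B f) :
    (∀ (X' : Over S) (y : X' ⟶ LieS.dpt B f) (h : X' ⟶ K), (y ≫ x.1) * (h ≫ i) = (h ≫ i) * (y ≫ x.1)) ↔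
    (∀ (B' : Type u) [CommRing B'] (h : B →+* B')
      (k : LieS.pt B' (Spec.map (CommRingCat.ofHom h) ≫ f) ⟶ K),
      LieS.Ad G B' (Spec.map (CommRingCat.ofHom h) ≫ f) (k ≫ i) (LieS.pull G f h x) = LieS.pull G f h x) := by
  classical
  constructor
  · intro hA B' _ h k
    apply Subtype.ext
    have key := hA (LieS.dpt B' (Spec.map (CommRingCat.ofHom h) ≫ f)) (LieS.dptMap f h)
      (LieS.proj B' (Spec.map (CommRingCat.ofHom h) ≫ f) ≫ k)
    change (LieS.proj B' (Spec.map (CommRingCat.ofHom h) ≫ f) ≫ (k ≫ i)) * (LieS.dptMap f h ≫ x.1) *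
      (LieS.proj B' (Spec.map (CommRingCat.ofHom h) ≫ f) ≫ (k ≫ i))⁻¹ = LieS.dptMap f h ≫ x.1
    rw [Category.assoc] at key
    rw [← key, mul_inv_cancel_right]
  · intro hB X' y hK
    apply Over.OverMorphism.ext
    refine Scheme.Cover.hom_ext X'.left.affineOpenCover.openCover _ _ (fun j => ?_)
    -- the affine piece
    set Rj : CommRingCat := X'.left.affineOpenCover.X j with hRj
    set gj : Spec Rj ⟶ X'.left := X'.left.affineOpenCover.f j with hgj
    change gj ≫ _ = gj ≫ _
    let φ : CommRingCat.of (DualNumber B) ⟶ Rj := Spec.preimage (gj ≫ y.left)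
    have hφ : Spec.map φ = gj ≫ y.left := Spec.map_preimage _
    let h₀ : B →+* Rj := φ.hom.comp (algebraMap B (DualNumber B))
    have hε : φ.hom (DualNumber.eps : DualNumber B) * φ.hom DualNumber.eps = 0 := by
      rw [← map_mul, LieS.eps_sq, map_zero]
    let ψ : DualNumber Rj →+* Rj := LieS.dualHom (RingHom.id Rj) (φ.hom DualNumber.eps) hε
    have hψ1 : ψ.comp (algebraMap Rj (DualNumber Rj)) = RingHom.id Rj :=
      LieS.dualHom_comp_algebraMap _ _ _
    have hψ2 : ψ.comp (LieS.bcHom h₀) = φ.hom := by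
      ext z
      · simp [ψ, LieS.bcHom, h₀, TrivSqZeroExt.algebraMap_eq_inl']
      · simp [ψ, LieS.bcHom, h₀, TrivSqZeroExt.algebraMap_eq_inl']
    have hφof : φ = CommRingCat.ofHom φ.hom := rfl
    -- the structure morphism of the affine piece
    have hstr : gj ≫ X'.hom = Spec.map (CommRingCat.ofHom h₀) ≫ f := by
      have hw : y.left ≫ (LieS.dpt B f).hom = X'.hom := Over.w y
      rw [← hw, ← Category.assoc, ← hφ]
      change Spec.map φ ≫ Spec.map (CommRingCat.ofHom (algebraMap B (DualNumber B))) ≫ f = _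
      rw [← Category.assoc, hφof, LieS.specMap_comp]
    let J : LieS.pt Rj (Spec.map (CommRingCat.ofHom h₀) ≫ f) ⟶ X' := Over.homMk gj hstr
    let σ : LieS.pt Rj (Spec.map (CommRingCat.ofHom h₀) ≫ f) ⟶
        LieS.dpt Rj (Spec.map (CommRingCat.ofHom h₀) ≫ f) :=
      Over.homMk (Spec.map (CommRingCat.ofHom ψ)) (by
        change Spec.map _ ≫ Spec.map _ ≫ _ = _
        rw [← Category.assoc, LieS.specMap_comp, hψ1, CommRingCat.ofHom_id]
        erw [Spec.map_id]; exact Category.id_comp _)
    have hσproj : σ ≫ LieS.proj Rj (Spec.map (CommRingCat.ofHom h₀) ≫ f) = 𝟙 _ := by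
      ext
      change Spec.map _ ≫ Spec.map _ = 𝟙 _
      rw [LieS.specMap_comp, hψ1, CommRingCat.ofHom_id]; erw [Spec.map_id]
    have hσmap : σ ≫ LieS.dptMap f h₀ = J ≫ y := by
      ext
      change Spec.map _ ≫ Spec.map _ = gj ≫ y.left
      rw [LieS.specMap_comp, hψ2, ← hφof, hφ]
    have key := hB Rj h₀ (J ≫ hK)
    have key1 : (LieS.proj Rj (Spec.map (CommRingCat.ofHom h₀) ≫ f) ≫ ((J ≫ hK) ≫ i)) *
        (LieS.dptMap f h₀ ≫ x.1) *
        (LieS.proj Rj (Spec.map (CommRingCat.ofHom h₀) ≫ f) ≫ ((J ≫ hK) ≫ i))⁻¹ =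
        LieS.dptMap f h₀ ≫ x.1 := congrArg Subtype.val key
    have key2 := congrArg (fun t => σ ≫ t) key1
    simp only [MonObj.comp_mul, GrpObj.comp_inv] at key2
    rw [← Category.assoc σ, hσproj, Category.id_comp, ← Category.assoc σ, hσmap] at key2
    have key3 : (J ≫ y ≫ x.1) * (J ≫ hK ≫ i) = (J ≫ hK ≫ i) * (J ≫ y ≫ x.1) := by
      rw [Category.assoc] at key2
      rw [Category.assoc] at key2
      exact (mul_inv_eq_iff_eq_mul.mp key2).symm
    have key4 : J ≫ ((y ≫ x.1) * (hK ≫ i)) = J ≫ ((hK ≫ i) * (y ≫ x.1)) := by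
      rw [MonObj.comp_mul, MonObj.comp_mul]
      exact key3
    exact congrArg (fun t => t.left) key4

end Groth.Agent.S8370
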