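import Groth.Statements.S8371
import Mathlib

set_option autoImplicit false
universe u
open CategoryTheory MonObj AlgebraicGeometry
open LieS

namespace Groth.Agent.S8371

/-- The sequence of Lie algebras, with M = O_S: if 1 → G' → G → G'' → 1 is a sequence of homomorphisms
of group schemes over a scheme S which is exact on points with values in every S-scheme, then for
every affine S-scheme T = Spec B the derived morphisms give an exact sequence 1 → Lie(G'/S)(T) →
Lie(G/S)(T) → Lie(G''/S)(T) → 1: the first is injective, the second surjective, and the kernel of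
the second is the image of the first. -/
theorem result (S : Scheme.{u}) (G' G G'' : Over S) [GrpObj G'] [GrpObj G] [GrpObj G'']
    (i : G' ⟶ G) [IsMonHom i] (q : G ⟶ G'') [IsMonHom q]
    (hex : ∀ T : Over S, Function.Injective (fun a : T ⟶ G' => a ≫ i) ∧
      Function.Surjective (fun b : T ⟶ G => b ≫ q) ∧ ∀ b : T ⟶ G, b ≫ q = 1 ↔ ∃ a : T ⟶ G', a ≫ i = b)
    (B : Type u) [CommRing B] (f : Spec (CommRingCat.of B) ⟶ S) :
    Function.Injective (LieS.map B f i) ∧ Function.Surjective (LieS.map B f q) ∧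
      ∀ v : LieS.Lie G B f, LieS.map B f q v = 1 ↔ ∃ w : LieS.Lie G' B f, LieS.map B f i w = v := by
  classical
  have hq : ∀ (T : Over S) (b c : T ⟶ G), (b * c) ≫ q = (b ≫ q) * (c ≫ q) := fun T b c =>
    (IsMonHom.monoidHom q T).map_mul b c
  have hq1 : ∀ (T : Over S), (1 : T ⟶ G) ≫ q = 1 := fun T => (IsMonHom.monoidHom q T).map_one
  have hqinv : ∀ (T : Over S) (b : T ⟶ G), b⁻¹ ≫ q = (b ≫ q)⁻¹ := fun T b =>
    (IsMonHom.monoidHom q T).map_inv b
  have hi1 : ∀ (T : Over S), (1 : T ⟶ G') ≫ i = 1 := fun T => (IsMonHom.monoidHom i T).map_one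
  have hmapi : ∀ w : LieS.Lie G' B f, (LieS.map B f i w).1 = w.1 ≫ i := fun w => rfl
  have hmapq : ∀ v : LieS.Lie G B f, (LieS.map B f q v).1 = v.1 ≫ q := fun v => rfl
  refine ⟨?_, ?_, ?_⟩
  · intro v w hvw
    apply Subtype.ext
    have h1 : v.1 ≫ i = w.1 ≫ i := by
      rw [← hmapi, ← hmapi, hvw]
    exact (hex (LieS.dpt B f)).1 h1
  · intro w
    obtain ⟨b, hb⟩ := (hex (LieS.dpt B f)).2.1 w.1
    have hb' : b ≫ q = w.1 := hb
    have hw : LieS.zeroSec B f ≫ w.1 = 1 := (LieS.mem_Lie_iff G'' B f w.1).1 w.2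
    set g : LieS.pt B f ⟶ G := LieS.zeroSec B f ≫ b with hg
    have hgq : g ≫ q = 1 := by
      rw [hg, Category.assoc, hb', hw]
    have hpg : (LieS.proj B f ≫ g) ≫ q = 1 := by
      rw [Category.assoc, hgq, MonObj.comp_one]
    have hmem : b * (LieS.proj B f ≫ g)⁻¹ ∈ LieS.Lie G B f := by
      rw [LieS.mem_Lie_iff, MonObj.comp_mul, GrpObj.comp_inv, ← Category.assoc, LieS.zeroSec_proj,
        Category.id_comp, ← hg, mul_inv_cancel]
    refine ⟨⟨b * (LieS.proj B f ≫ g)⁻¹, hmem⟩, ?_⟩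
    apply Subtype.ext
    rw [hmapq]
    change (b * (LieS.proj B f ≫ g)⁻¹) ≫ q = w.1
    rw [hq, hqinv, hpg, hb', inv_one, _root_.mul_one]
  · intro v
    constructor
    · intro hv
      have hv1 : v.1 ≫ q = 1 := by
        rw [← hmapq, hv]; rfl
      obtain ⟨a, ha⟩ := ((hex (LieS.dpt B f)).2.2 v.1).1 hv1
      have hmem : a ∈ LieS.Lie G' B f := by
        rw [LieS.mem_Lie_iff]
        apply (hex (LieS.pt B f)).1
        change (LieS.zeroSec B f ≫ a) ≫ i = 1 ≫ i
        rw [Category.assoc, ha, hi1]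
        exact (LieS.mem_Lie_iff G B f v.1).1 v.2
      exact ⟨⟨a, hmem⟩, Subtype.ext ha⟩
    · rintro ⟨w, rfl⟩
      apply Subtype.ext
      rw [hmapq, hmapi]
      change (w.1 ≫ i) ≫ q = 1
      exact ((hex (LieS.dpt B f)).2.2 (w.1 ≫ i)).2 ⟨w.1, rfl⟩

end Groth.Agent.S8371
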