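import Groth.Statements.S8383
import Mathlib
-- import your own Groth.Agent.* helpers here

set_option autoImplicit false
universe u
open scoped TensorProduct
open SGA3t2b

namespace Groth.Agent.S8383

open Matrix in
/-- Transversal lemma: if a square matrix over an extension field `K/k` is invertible, one can apply
a `k`-linear functional `K → k` to each row so that the resulting matrix over `k` is invertible. -/
theorem exists_transversal {k K : Type*} [Field k] [Field K] [Algebra k K] {n : ℕ}
    (M : Matrix (Fin n) (Fin n) K) (hM : M.det ≠ 0) :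
    ∃ a : Fin n → (K →ₗ[k] k), (Matrix.of fun i j => a i (M i j)).det ≠ 0 := by
  classical
  let β := Module.Basis.ofVectorSpace k K
  let S : Finset (Module.Basis.ofVectorSpaceIndex k K) :=
    Finset.univ.biUnion fun i : Fin n => Finset.univ.biUnion fun j : Fin n => (β.repr (M i j)).support
  have hS : ∀ i j, (β.repr (M i j)).support ⊆ S := by
    intro i j α hα
    simp only [S, Finset.mem_biUnion, Finset.mem_univ, true_and]
    exact ⟨i, j, hα⟩
  have hrow : ∀ i, M i = ∑ α ∈ S, β α • (fun j => algebraMap k K (β.repr (M i j) α)) := by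
    intro i
    funext j
    simp only [Finset.sum_apply, Pi.smul_apply, smul_eq_mul]
    conv_lhs => rw [← β.linearCombination_repr (M i j)]
    rw [Finsupp.linearCombination_apply, Finsupp.sum]
    rw [Finset.sum_subset (hS i j) (fun α _ hα => by
      rw [Finsupp.notMem_support_iff.mp hα, zero_smul])]
    apply Finset.sum_congr rfl
    intro α _
    rw [Algebra.smul_def, mul_comm]
  have hdet : M.det = ∑ a ∈ Fintype.piFinset (fun _ : Fin n => S),
      (∏ i, β (a i)) * (Matrix.of fun i j => algebraMap k K (β.repr (M i j) (a i))).det := by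
    have h1 : M = fun i => ∑ α ∈ S, β α • (fun j => algebraMap k K (β.repr (M i j) α)) := by
      funext i
      exact hrow i
    conv_lhs => rw [h1]
    change (Matrix.detRowAlternating : (Fin n → K) [⋀^Fin n]→ₗ[K] K).toMultilinearMap _ = _
    rw [MultilinearMap.map_sum_finset]
    apply Finset.sum_congr rfl
    intro a _
    rw [MultilinearMap.map_smul_univ, smul_eq_mul]
    rfl
  obtain ⟨a, _, ha⟩ := Finset.exists_ne_zero_of_sum_ne_zero (hdet ▸ hM)
  refine ⟨fun i => β.coord (a i), ?_⟩
  have h2 := right_ne_zero_of_mul ha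
  have h3 : (Matrix.of fun i j => algebraMap k K (β.repr (M i j) (a i))) =
      (algebraMap k K).mapMatrix (Matrix.of fun i j => β.coord (a i) (M i j)) := by
    ext i j
    simp
  rw [h3, ← RingHom.map_det] at h2
  intro h0
  rw [h0, map_zero] at h2
  exact h2 rfl

theorem exists_vec_ne_zero {k K : Type*} [Field k] [Field K] [Algebra k K] {n : ℕ}
    (M : Matrix (Fin n) (Fin n) K) (hM : M.det ≠ 0) :
    ∃ c : Fin n → k, ∀ i, ∑ j, algebraMap k K (c j) * M i j ≠ 0 := by
  classical
  obtain ⟨a, ha⟩ := exists_transversal (k := k) M hM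
  set P : Matrix (Fin n) (Fin n) k := Matrix.of fun i j => a i (M i j) with hP
  have hu : IsUnit P.det := isUnit_iff_ne_zero.mpr ha
  obtain ⟨c, hc⟩ : ∃ c : Fin n → k, P.mulVec c = fun _ => 1 :=
    ⟨P⁻¹.mulVec (fun _ => 1), by
      rw [Matrix.mulVec_mulVec, Matrix.mul_nonsing_inv P hu, Matrix.one_mulVec]⟩
  refine ⟨c, fun i h0 => ?_⟩
  have h2 : P.mulVec c i = 1 := congrFun hc i
  have h3 : a i (∑ j, algebraMap k K (c j) * M i j) = P.mulVec c i := by
    rw [map_sum]
    simp only [Matrix.mulVec, dotProduct]
    apply Finset.sum_congr rfl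
    intro j _
    rw [← Algebra.smul_def, map_smul, smul_eq_mul, mul_comm]
    rfl
  rw [h0, map_zero, h2] at h3
  exact zero_ne_one h3


/-- Let k be a finite field with algebraic closure K, V a finite-dimensional vector space over k, and
θ₁, …, θₙ a basis of the dual of the K-vector space K ⊗ V. Then there is x ∈ V with θᵢ(1 ⊗ x) ≠ 0
for every i. -/
theorem result (k : Type u) [Field k] [Finite k]
    (V : Type u) [AddCommGroup V] [Module k V] [Module.Finite k V] {ι : Type} [Fintype ι]
    (θ : Module.Basis ι (AlgebraicClosure k) (Module.Dual (AlgebraicClosure k) (AlgebraicClosure k ⊗[k] V))) :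
    ∃ x : V, ∀ i : ι, θ i ((1 : AlgebraicClosure k) ⊗ₜ[k] x) ≠ 0 := by
  classical
  let K := AlgebraicClosure k
  let n := Module.finrank k V
  let e : Module.Basis (Fin n) k V := Module.finBasis k V
  let b : Module.Basis (Fin n) K (K ⊗[k] V) := e.baseChange K
  let eqv : ι ≃ Fin n := θ.indexEquiv b.dualBasis
  let θ' : Module.Basis (Fin n) K (Module.Dual K (K ⊗[k] V)) := θ.reindex eqv
  let M : Matrix (Fin n) (Fin n) K := Matrix.of fun i j => θ' i (b j)
  have hMT : M = (b.dualBasis.toMatrix θ').transpose := by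
    ext i j
    simp [M, Module.Basis.toMatrix_apply]
  have hM : M.det ≠ 0 := by
    rw [hMT, Matrix.det_transpose]
    intro h0
    have h1 := congrArg Matrix.det (Module.Basis.toMatrix_mul_toMatrix_flip b.dualBasis θ')
    rw [Matrix.det_mul, Matrix.det_one, h0, zero_mul] at h1
    exact zero_ne_one h1
  obtain ⟨c, hc⟩ := exists_vec_ne_zero (k := k) M hM
  refine ⟨∑ j, c j • e j, fun i => ?_⟩
  have h1 := hc (eqv i)
  have h2 : θ i ((1 : K) ⊗ₜ[k] (∑ j, c j • e j)) = ∑ j, algebraMap k K (c j) * M (eqv i) j := by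
    rw [TensorProduct.tmul_sum, map_sum]
    apply Finset.sum_congr rfl
    intro j _
    have h3 : (1 : K) ⊗ₜ[k] (c j • e j) = algebraMap k K (c j) • ((1 : K) ⊗ₜ[k] e j) := by
      rw [TensorProduct.tmul_smul, algebraMap_smul]
    rw [h3, map_smul, smul_eq_mul]
    simp [M, θ', b]
  rw [h2]
  exact h1

end Groth.Agent.S8383
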