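import Groth.Statements.S8384
import Mathlib.RingTheory.AdicCompletion.RingHom

set_option autoImplicit false
universe u
open CategoryTheory MonoidalCategory CartesianMonoidalCategory MonObj GrpObj AlgebraicGeometry
open SGA3x

namespace Groth.Agent.S8384

theorem exists_affine_nbhd (X : Scheme.{u}) (x : X) :
    ∃ (R : CommRingCat.{u}) (j : Spec R ⟶ X), IsOpenImmersion j ∧ x ∈ Set.range j := by
  refine ⟨X.affineOpenCover.X (X.affineOpenCover.idx x), X.affineOpenCover.f _, inferInstance, ?_⟩
  exact X.affineOpenCover.covers x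

theorem range_subset_of_closedPoint {B : Type u} [CommRing B] [IsLocalRing B] {X U : Scheme.{u}}
    (f : Spec (CommRingCat.of B) ⟶ X) (j : U ⟶ X) [IsOpenImmersion j]
    (h : f (IsLocalRing.closedPoint B) ∈ Set.range j) : Set.range f ⊆ Set.range j := by
  rintro _ ⟨y, rfl⟩
  have hs : y ⤳ IsLocalRing.closedPoint B := IsLocalRing.specializes_closedPoint y
  have := hs.map f.continuous
  exact this.mem_open (IsOpenImmersion.isOpen_range j) h

section
variable (A : Type u) [CommRing A] [IsLocalRing A]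

theorem comap_mk_eq_closedPoint (n : ℕ) (p : PrimeSpectrum (A ⧸ IsLocalRing.maximalIdeal A ^ n)) :
    PrimeSpectrum.comap (Ideal.Quotient.mk (IsLocalRing.maximalIdeal A ^ n)) p =
      IsLocalRing.closedPoint A := by
  ext1
  apply le_antisymm
  · exact IsLocalRing.le_maximalIdeal (PrimeSpectrum.comap _ p).isPrime.ne_top
  · apply (PrimeSpectrum.comap _ p).isPrime.le_of_pow_le (n := n)
    intro a ha
    simp only [PrimeSpectrum.comap_asIdeal, Ideal.mem_comap]
    have ha' : a ∈ IsLocalRing.maximalIdeal A ^ n := ha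
    rw [Ideal.Quotient.eq_zero_iff_mem.mpr ha']
    exact zero_mem _

theorem subsingleton_quot (n : ℕ) :
    Subsingleton (PrimeSpectrum (A ⧸ IsLocalRing.maximalIdeal A ^ n)) := by
  constructor
  intro p q
  apply PrimeSpectrum.comap_injective_of_surjective
    (Ideal.Quotient.mk (IsLocalRing.maximalIdeal A ^ n)) Ideal.Quotient.mk_surjective
  rw [comap_mk_eq_closedPoint, comap_mk_eq_closedPoint]

theorem nonempty_quot (n : ℕ) :
    Nonempty (PrimeSpectrum (A ⧸ IsLocalRing.maximalIdeal A ^ (n + 1))) := by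
  have : Nontrivial (A ⧸ IsLocalRing.maximalIdeal A ^ (n + 1)) := by
    apply Ideal.Quotient.nontrivial_iff.mpr
    intro h
    have : IsLocalRing.maximalIdeal A ^ (n + 1) ≤ IsLocalRing.maximalIdeal A :=
      Ideal.pow_le_self (Nat.succ_ne_zero n)
    rw [h] at this
    exact (IsLocalRing.maximalIdeal.isMaximal A).ne_top (top_le_iff.mp this)
  infer_instance

end

theorem part1 (A : Type u) [CommRing A] [IsLocalRing A]
    [IsAdicComplete (IsLocalRing.maximalIdeal A) A] (X : Scheme.{u})
    (f g : (Spec (CommRingCat.of A)) ⟶ X)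
    (h : ∀ n : ℕ, (Spec.map (CommRingCat.ofHom (Ideal.Quotient.mk ((IsLocalRing.maximalIdeal A) ^ n)))) ≫ f = (Spec.map (CommRingCat.ofHom (Ideal.Quotient.mk ((IsLocalRing.maximalIdeal A) ^ n)))) ≫ g) : f = g := by
  obtain ⟨R, j, hj, hx⟩ := exists_affine_nbhd X (f (IsLocalRing.closedPoint A))
  obtain ⟨pt⟩ := nonempty_quot A 0
  have hpt : (Spec.map (CommRingCat.ofHom (Ideal.Quotient.mk
      ((IsLocalRing.maximalIdeal A) ^ (0 + 1))))) pt = IsLocalRing.closedPoint A :=
    comap_mk_eq_closedPoint A 1 pt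
  have hgx : g (IsLocalRing.closedPoint A) ∈ Set.range j := by
    have h1 := congrArg (fun φ => φ pt) (h (0 + 1))
    simp only [Scheme.Hom.comp_apply] at h1
    rw [hpt] at h1
    rw [← h1]
    exact hx
  have hf' := IsOpenImmersion.lift_fac j f (range_subset_of_closedPoint f j hx)
  have hg' := IsOpenImmersion.lift_fac j g (range_subset_of_closedPoint g j hgx)
  set f' := IsOpenImmersion.lift j f (range_subset_of_closedPoint f j hx)
  set g' := IsOpenImmersion.lift j g (range_subset_of_closedPoint g j hgx)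
  rw [← hf', ← hg']
  congr 1
  have hn : ∀ n : ℕ, (Spec.map (CommRingCat.ofHom (Ideal.Quotient.mk
      ((IsLocalRing.maximalIdeal A) ^ n)))) ≫ f' = (Spec.map (CommRingCat.ofHom (Ideal.Quotient.mk
      ((IsLocalRing.maximalIdeal A) ^ n)))) ≫ g' := by
    intro n
    rw [← cancel_mono j, Category.assoc, Category.assoc, hf', hg', h n]
  obtain ⟨α, hα⟩ : ∃ α, Spec.map α = f' := ⟨Spec.preimage f', Spec.map_preimage _⟩
  obtain ⟨β, hβ⟩ : ∃ β, Spec.map β = g' := ⟨Spec.preimage g', Spec.map_preimage _⟩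
  rw [← hα, ← hβ]
  congr 1
  apply CommRingCat.hom_ext
  apply DFunLike.coe_injective
  apply IsHausdorff.funext' (IsLocalRing.maximalIdeal A)
  intro n r
  have h2 := hn n
  rw [← hα, ← hβ, ← Spec.map_comp, ← Spec.map_comp] at h2
  have h3 := Spec.map_injective h2
  exact congrArg (fun φ => φ.hom r) h3

theorem part2 (A : Type u) [CommRing A] [IsLocalRing A]
    [IsAdicComplete (IsLocalRing.maximalIdeal A) A] (X : Scheme.{u})
    (u : (n : ℕ) → (Spec (CommRingCat.of (A ⧸ (IsLocalRing.maximalIdeal A) ^ n)) ⟶ X))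
    (hu : ∀ n : ℕ, (Spec.map (CommRingCat.ofHom (Ideal.Quotient.factor
          (Ideal.pow_le_pow_right (I := (IsLocalRing.maximalIdeal A)) (Nat.le_succ n))))) ≫ u (n + 1) = u n) :
    ∃ f : (Spec (CommRingCat.of A)) ⟶ X, ∀ n : ℕ, (Spec.map (CommRingCat.ofHom (Ideal.Quotient.mk ((IsLocalRing.maximalIdeal A) ^ n)))) ≫ f = u n := by
  obtain ⟨pt⟩ := nonempty_quot A 0
  obtain ⟨R, j, hj, hx⟩ := exists_affine_nbhd X (u (0 + 1) pt)
  have hall : ∀ (n : ℕ) (p : Spec (CommRingCat.of (A ⧸ (IsLocalRing.maximalIdeal A) ^ (n + 1)))),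
      u (n + 1) p = u (0 + 1) pt := by
    intro n
    induction n with
    | zero =>
      intro p
      have : p = pt := (subsingleton_quot A (0 + 1)).elim p pt
      rw [this]
    | succ k ih =>
      intro p
      obtain ⟨q⟩ := nonempty_quot A k
      have hq : (Spec.map (CommRingCat.ofHom (Ideal.Quotient.factor
          (Ideal.pow_le_pow_right (I := (IsLocalRing.maximalIdeal A)) (Nat.le_succ (k + 1)))))) q = p :=
        (subsingleton_quot A (k + 1 + 1)).elim _ _
      rw [← hq, ← Scheme.Hom.comp_apply, hu (k + 1)]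
      exact ih q
  have hrange : ∀ n, Set.range (u n) ⊆ Set.range j := by
    intro n
    rintro _ ⟨p, rfl⟩
    cases n with
    | zero =>
      exfalso
      have hsub : Subsingleton (A ⧸ (IsLocalRing.maximalIdeal A) ^ 0) := by
        rw [pow_zero]
        exact Ideal.Quotient.subsingleton_iff.mpr Ideal.one_eq_top
      have hp : (p : PrimeSpectrum (A ⧸ (IsLocalRing.maximalIdeal A) ^ 0)).asIdeal = ⊤ :=
        Subsingleton.elim _ _
      exact (p : PrimeSpectrum (A ⧸ (IsLocalRing.maximalIdeal A) ^ 0)).isPrime.ne_top hp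
    | succ k =>
      rw [hall k p]
      exact hx
  have hv := fun n => IsOpenImmersion.lift_fac j (u n) (hrange n)
  have hφ : ∀ n, ∃ φ : R ⟶ CommRingCat.of (A ⧸ (IsLocalRing.maximalIdeal A) ^ n),
      Spec.map φ = IsOpenImmersion.lift j (u n) (hrange n) :=
    fun n => ⟨Spec.preimage _, Spec.map_preimage _⟩
  choose φ hφ using hφ
  have hcompat : ∀ n, (Ideal.Quotient.factor
      (Ideal.pow_le_pow_right (I := (IsLocalRing.maximalIdeal A)) (Nat.le_succ n))).comp (φ (n + 1)).hom
        = (φ n).hom := by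
    intro n
    have h1 : Spec.map (CommRingCat.ofHom (Ideal.Quotient.factor
          (Ideal.pow_le_pow_right (I := (IsLocalRing.maximalIdeal A)) (Nat.le_succ n)))) ≫
          IsOpenImmersion.lift j (u (n + 1)) (hrange (n + 1)) =
          IsOpenImmersion.lift j (u n) (hrange n) := by
      rw [← cancel_mono j, Category.assoc, hv, hv, hu]
    rw [← hφ, ← hφ, ← Spec.map_comp] at h1
    have h2 := Spec.map_injective h1
    exact congrArg CommRingCat.Hom.hom h2
  have hgen : ∀ {a b : ℕ} (hle : a ≤ b), (Ideal.Quotient.factorPow (IsLocalRing.maximalIdeal A) hle).comp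
      (φ b).hom = (φ a).hom := by
    intro a b hle
    ext r
    have := Ideal.Quotient.eq_factor_of_eq_factor_succ (I := fun n => (IsLocalRing.maximalIdeal A) ^ n)
      (fun a b h => Ideal.pow_le_pow_right h) (fun n => (φ n).hom r)
      (fun n => (congrArg (fun ψ => ψ r) (hcompat n)).symm) hle
    exact this.symm
  refine ⟨Spec.map (CommRingCat.ofHom (IsAdicComplete.liftRingHom (IsLocalRing.maximalIdeal A)
    (fun n => (φ n).hom) hgen)) ≫ j, fun n => ?_⟩
  rw [← Category.assoc, ← Spec.map_comp, ← hv n, ← hφ n]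
  congr 2
  apply CommRingCat.hom_ext
  exact IsAdicComplete.mk_comp_liftRingHom (IsLocalRing.maximalIdeal A) _ hgen n

/-- Let A be a local ring, separated and complete for the topology defined by its maximal ideal m, S =
Spec A and Sₙ = Spec(A/mⁿ). Then for every scheme X the canonical map Hom(S, X) → lim Hom(Sₙ, X) is
bijective: two morphisms S → X that agree on every Sₙ are equal, and every family of morphisms Sₙ →
X compatible with the closed immersions Sₙ → Sₙ₊₁ is induced by a morphism S → X. -/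
theorem result (A : Type u) [CommRing A] [IsLocalRing A]
    [IsAdicComplete (IsLocalRing.maximalIdeal A) A] (X : Scheme.{u}) :
    (∀ f g : (Spec (CommRingCat.of A)) ⟶ X,
      (∀ n : ℕ, (Spec.map (CommRingCat.ofHom (Ideal.Quotient.mk ((IsLocalRing.maximalIdeal A) ^ n)))) ≫ f = (Spec.map (CommRingCat.ofHom (Ideal.Quotient.mk ((IsLocalRing.maximalIdeal A) ^ n)))) ≫ g) → f = g) ∧
    (∀ u : (n : ℕ) → (Spec (CommRingCat.of (A ⧸ (IsLocalRing.maximalIdeal A) ^ n)) ⟶ X),
      (∀ n : ℕ, (Spec.map (CommRingCat.ofHom (Ideal.Quotient.factor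
          (Ideal.pow_le_pow_right (I := (IsLocalRing.maximalIdeal A)) (Nat.le_succ n))))) ≫ u (n + 1) = u n) →
      ∃ f : (Spec (CommRingCat.of A)) ⟶ X, ∀ n : ℕ, (Spec.map (CommRingCat.ofHom (Ideal.Quotient.mk ((IsLocalRing.maximalIdeal A) ^ n)))) ≫ f = u n) := by
  exact ⟨part1 A X, part2 A X⟩

end Groth.Agent.S8384
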