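import Groth.Statements.S8441
import Mathlib
-- import your own Groth.Agent.* helpers here

set_option autoImplicit false
universe u v w
open SGA3t2b

namespace Groth.Agent.S8441

open Submodule in
/-- Unitriangular change of a linearly independent family. -/
theorem unitriangular_lemma {R : Type*} {M : Type*} [CommRing R] [AddCommGroup M] [Module R M]
    {n : ℕ} (a θ : Fin n → M) (ha : LinearIndependent R a)
    (hθ : ∀ i, θ i - a i ∈ span R (a '' {j | i < j})) :
    LinearIndependent R θ ∧ span R (Set.range θ) = span R (Set.range a) := by
  classical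
  let E := span R (Set.range a)
  let B : Module.Basis (Fin n) R E := Module.Basis.span ha
  have hBa : ∀ i, (B i : M) = a i := fun i => Module.Basis.coe_span_apply ha i
  have haE : ∀ i, a i ∈ E := fun i => subset_span (Set.mem_range_self i)
  have hWE : ∀ i, span R (a '' {j | i < j}) ≤ E := fun i =>
    span_mono (Set.image_subset_range _ _)
  have hθE : ∀ i, θ i ∈ E := by
    intro i
    have := E.add_mem (hWE i (hθ i)) (haE i)
    simpa using this
  let θ' : Fin n → E := fun i => ⟨θ i, hθE i⟩
  -- coordinates of elements of W_i vanish at indices ≤ i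
  have hW : ∀ (i : Fin n) (w : E), (w : M) ∈ span R (a '' {j | i < j}) →
      ∀ j, j ≤ i → B.repr w j = 0 := by
    intro i w hw
    have : ∀ (x : M) (hx : x ∈ span R (a '' {j | i < j})),
        ∀ j, j ≤ i → B.repr ⟨x, hWE i hx⟩ j = 0 := by
      intro x hx
      induction hx using Submodule.span_induction with
      | mem x hx =>
        obtain ⟨l, hl, rfl⟩ := hx
        intro j hj
        have : (⟨a l, hWE i (subset_span ⟨l, hl, rfl⟩)⟩ : E) = B l := by
          ext; exact (hBa l).symm
        rw [this, Module.Basis.repr_self, Finsupp.single_apply, if_neg]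
        intro h
        subst h
        exact absurd (lt_of_lt_of_le hl hj) (lt_irrefl _)
      | zero =>
        intro j _
        have : (⟨0, hWE i (zero_mem _)⟩ : E) = 0 := rfl
        rw [this, map_zero, Finsupp.zero_apply]
      | add x y hx hy ihx ihy =>
        intro j hj
        have : (⟨x + y, hWE i (add_mem hx hy)⟩ : E) = ⟨x, hWE i hx⟩ + ⟨y, hWE i hy⟩ := rfl
        rw [this, map_add, Finsupp.add_apply, ihx j hj, ihy j hj, add_zero]
      | smul r x hx ihx =>
        intro j hj
        have : (⟨r • x, hWE i (smul_mem _ r hx)⟩ : E) = r • ⟨x, hWE i hx⟩ := rfl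
        rw [this, map_smul, Finsupp.smul_apply, ihx j hj, smul_zero]
    exact this w hw
  have hrepr : ∀ i j, j ≤ i → B.repr (θ' i) j = if j = i then 1 else 0 := by
    intro i j hj
    have hdecomp : θ' i = ⟨θ i - a i, hWE i (hθ i)⟩ + B i := by
      ext
      simp [θ', hBa]
    rw [hdecomp, map_add, Finsupp.add_apply, hW i _ (hθ i) j hj, zero_add, Module.Basis.repr_self,
      Finsupp.single_apply]
    by_cases h : i = j
    · rw [if_pos h, if_pos h.symm]
    · rw [if_neg h, if_neg (fun h' => h h'.symm)]
  have hdet : B.det θ' = 1 := by
    rw [Module.Basis.det_apply, Matrix.det_of_isLowerTriangular]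
    · apply Finset.prod_eq_one
      intro i _
      rw [Module.Basis.toMatrix_apply, hrepr i i le_rfl, if_pos rfl]
    · intro i j hij
      have hij' : i < j := hij
      rw [Module.Basis.toMatrix_apply, hrepr j i hij'.le, if_neg hij'.ne]
  have hunit : IsUnit (B.det θ') := by rw [hdet]; exact isUnit_one
  obtain ⟨hli, hspan⟩ := (Module.Basis.is_basis_iff_det B).mpr hunit
  constructor
  · have := hli.map' E.subtype (Submodule.ker_subtype E)
    exact this
  · have h1 : Submodule.map E.subtype (span R (Set.range θ')) = E := by
      rw [hspan, Submodule.map_subtype_top]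
    rw [Submodule.map_span, ← Set.range_comp] at h1
    exact h1


/-- Let R be a root system with a system of simple roots a₁, …, aₙ and simple reflections rᵢ, and put θᵢ
= rₙ ⋯ rᵢ₊₁(aᵢ). Then the θᵢ form a basis of the group generated by the roots. Stated for a root
pairing over ℤ (Mathlib) with a base whose support is enumerated by Fin n: the θᵢ are ℤ-linearly
independent and their ℤ-span is the ℤ-span of all roots. -/
theorem result {ι : Type u} {M : Type v} {N : Type w} [AddCommGroup M] [Module ℤ M]
    [AddCommGroup N] [Module ℤ N] (P : RootPairing ι ℤ M N) (b : P.Base) (n : ℕ) (e : Fin n ≃ ↥b.support) :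
    LinearIndependent ℤ (fun i : Fin n =>
      ((List.finRange n).filter (fun j => i < j)).foldl (fun x j => P.reflection (e j : ι) x) (P.root (e i : ι))) ∧
    Submodule.span ℤ (Set.range (fun i : Fin n =>
      ((List.finRange n).filter (fun j => i < j)).foldl (fun x j => P.reflection (e j : ι) x) (P.root (e i : ι)))) =
      Submodule.span ℤ (Set.range P.root) := by
  classical
  let a : Fin n → M := fun i => P.root (e i : ι)
  let θ : Fin n → M := fun i =>
    ((List.finRange n).filter (fun j => i < j)).foldl (fun x j => P.reflection (e j : ι) x) (P.root (e i : ι))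
  have ha : LinearIndependent ℤ a := by
    have h := b.linearIndepOn_root
    exact LinearIndependent.comp h e e.injective
  have hrange : Set.range a = P.root '' (b.support : Set ι) := by
    ext x
    constructor
    · rintro ⟨i, rfl⟩
      exact ⟨e i, (e i).2, rfl⟩
    · rintro ⟨j, hj, rfl⟩
      exact ⟨e.symm ⟨j, hj⟩, by simp [a]⟩
  have hfold : ∀ (i : Fin n) (l : List (Fin n)), (∀ j ∈ l, i < j) → ∀ x : M,
      x - a i ∈ Submodule.span ℤ (a '' {j | i < j}) →
      l.foldl (fun x j => P.reflection (e j : ι) x) x - a i ∈ Submodule.span ℤ (a '' {j | i < j}) := by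
    intro i l
    induction l with
    | nil => intro _ x hx; simpa using hx
    | cons j l ih =>
      intro hl x hx
      rw [List.foldl_cons]
      apply ih (fun j' hj' => hl j' (List.mem_cons_of_mem _ hj'))
      rw [RootPairing.reflection_apply]
      have hj : a j ∈ Submodule.span ℤ (a '' {j | i < j}) :=
        Submodule.subset_span ⟨j, hl j List.mem_cons_self, rfl⟩
      have hmem := Submodule.sub_mem _ hx (Submodule.smul_mem _ (P.coroot' (e j : ι) x) hj)
      convert hmem using 1
      simp only [a]
      abel
  have hθ : ∀ i, θ i - a i ∈ Submodule.span ℤ (a '' {j | i < j}) := by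
    intro i
    apply hfold i _ (fun j hj => by simpa using (List.mem_filter.mp hj).2)
    simp [a]
  obtain ⟨h1, h2⟩ := unitriangular_lemma a θ ha hθ
  refine ⟨h1, ?_⟩
  rw [show (fun i : Fin n =>
    ((List.finRange n).filter (fun j => i < j)).foldl (fun x j => P.reflection (e j : ι) x)
      (P.root (e i : ι))) = θ from rfl, h2, hrange]
  convert b.span_int_root_support
  all_goals first | rfl | exact Subsingleton.elim _ _

end Groth.Agent.S8441
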