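import Groth.Statements.S8448
import Mathlib
import Groth.Agent.Lib.helper27.RankOneBridge

set_option autoImplicit false
universe u
open CategoryTheory MonoidalCategory CartesianMonoidalCategory MonObj GrpObj AlgebraicGeometry CategoryTheory.Limits
open Red

namespace Groth.Agent.S8448aux

open CategoryTheory MonoidalCategory CartesianMonoidalCategory MonObj GrpObj AlgebraicGeometry CategoryTheory.Limits
open Red
open Groth.Agent.Lib.helper27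

/-- the unit with value `a` and inverse `-b` when `b * a = -1`. -/
def unitOf {R : Type*} [CommRing R] (a b : R) (h : b * a = -1) : Rˣ :=
  ⟨a, -b, by rw [mul_neg, mul_comm, h, neg_neg], by rw [neg_mul, h, neg_neg]⟩

theorem unitOf_val {R : Type*} [CommRing R] (a b : R) (h : b * a = -1) : ((unitOf a b h : Rˣ) : R) = a := rfl

theorem unitOf_inv {R : Type*} [CommRing R] (a b : R) (h : b * a = -1) :
    b = -(((unitOf a b h)⁻¹ : Rˣ) : R) := by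
  change b = - -b
  rw [neg_neg]

theorem main (S : Scheme.{u}) (G T : Over S) [GrpObj G] [GrpObj T] (i : T ⟶ G) [IsMonHom i]
    (α : T ⟶ Red.Gm S) [IsMonHom α]
    (pp pm : Red.Ga S ⟶ G) [IsMonHom pp] [IsMonHom pm]
    (hpp : ∀ (X : Over S) (t : X ⟶ T) (x : X ⟶ Red.Ga S), ∃ x' : X ⟶ Red.Ga S,
      x' ≫ pp = (t ≫ i) * (x ≫ pp) * (t ≫ i)⁻¹ ∧ Red.gaFn x' = Red.gmFn (t ≫ α) * Red.gaFn x)
    (hpm : ∀ (X : Over S) (t : X ⟶ T) (y : X ⟶ Red.Ga S), ∃ y' : X ⟶ Red.Ga S,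
      y' ≫ pm = (t ≫ i) * (y ≫ pm) * (t ≫ i)⁻¹ ∧ Red.gaFn y' * Red.gmFn (t ≫ α) = Red.gaFn y)
    (av : Red.Gm S ⟶ T) [IsMonHom av] (h2 : av ≫ α = (𝟙 (Red.Gm S)) ^ 2)
    (hF : ∀ (X : Over S) (x y : X ⟶ Red.Ga S), IsUnit (1 + Red.gaFn x * Red.gaFn y) →
      ∃ (x' y' : X ⟶ Red.Ga S) (z : X ⟶ Red.Gm S), Red.gmFn z = 1 + Red.gaFn x * Red.gaFn y ∧
        Red.gaFn x' * Red.gmFn z = Red.gaFn x ∧ Red.gaFn y' * Red.gmFn z = Red.gaFn y ∧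
        (x ≫ pp) * (y ≫ pm) = (y' ≫ pm) * (z ≫ av ≫ i) * (x' ≫ pp))
    (X : Over S) (x x' : X ⟶ Red.Ga S) (hx : Red.gaFn x' * Red.gaFn x = -1) :
    (∀ t : X ⟶ T, ((x ≫ pp) * (x' ≫ pm) * (x ≫ pp)) * (t ≫ i) * ((x ≫ pp) * (x' ≫ pm) * (x ≫ pp))⁻¹ =
        (t ≫ α ≫ av ≫ i)⁻¹ * (t ≫ i)) ∧
      ∀ (z : X ⟶ Red.Gm S) (y y' : X ⟶ Red.Ga S), Red.gaFn y = Red.gmFn z * Red.gaFn x →
        Red.gaFn y' * Red.gaFn y = -1 →
        (y ≫ pp) * (y' ≫ pm) * (y ≫ pp) = (z ≫ av ≫ i) * ((x ≫ pp) * (x' ≫ pm) * (x ≫ pp)) ∧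
          (y ≫ pp) * (y' ≫ pm) * (y ≫ pp) = ((x ≫ pp) * (x' ≫ pm) * (x ≫ pp)) * (z ≫ av ≫ i)⁻¹ := by
  set s := RankOneBridge.mkSys i α pp pm hpp hpm av h2 hF X with hs
  set ux := unitOf (Red.gaFn x) (Red.gaFn x') hx with hux
  have hxp : x = GaPts.ptOfElt (ux : Γ(X.left, ⊤)) := RankOneBridge.pt_eq_of_gaFn X rfl
  have hxp' : x' = GaPts.ptOfElt (-((ux⁻¹ : (Γ(X.left, ⊤))ˣ) : Γ(X.left, ⊤))) :=
    RankOneBridge.pt_eq_of_gaFn X (unitOf_inv _ _ hx)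
  have hw : (x ≫ pp) * (x' ≫ pm) * (x ≫ pp) = s.w ux := by
    conv_lhs => rw [hxp, hxp']
    rfl
  rw [hw]
  refine ⟨?_, ?_⟩
  · intro t
    have e := s.w_conj t ux
    have ht : t ≫ α ≫ av ≫ i = s.I (s.ν (s.χ t)) := by
      change t ≫ α ≫ av ≫ i = (GmPts.ptOfUnit (GmPts.unitOfPt (t ≫ α)) ≫ av) ≫ i
      rw [GmPts.ptOfUnit_unitOfPt, Category.assoc, Category.assoc]
    rw [ht]
    exact e
  · intro z y y' hy hy'
    set uy := unitOf (Red.gaFn y) (Red.gaFn y') hy' with huy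
    set uz := GmPts.unitOfPt z with huz
    have hyp : y = GaPts.ptOfElt (uy : Γ(X.left, ⊤)) := RankOneBridge.pt_eq_of_gaFn X rfl
    have hyp' : y' = GaPts.ptOfElt (-((uy⁻¹ : (Γ(X.left, ⊤))ˣ) : Γ(X.left, ⊤))) :=
      RankOneBridge.pt_eq_of_gaFn X (unitOf_inv _ _ hy')
    have hwy : (y ≫ pp) * (y' ≫ pm) * (y ≫ pp) = s.w uy := by
      conv_lhs => rw [hyp, hyp']
      rfl
    have huyz : uy = uz * ux := Units.ext hy
    have hzI : z ≫ av ≫ i = s.I (s.ν uz) := by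
      change z ≫ av ≫ i = (GmPts.ptOfUnit (GmPts.unitOfPt z) ≫ av) ≫ i
      rw [GmPts.ptOfUnit_unitOfPt, Category.assoc]
    rw [hwy, hzI, huyz]
    exact ⟨s.w_smul_left uz ux, s.w_smul_right uz ux⟩

end Groth.Agent.S8448aux

namespace Groth.Agent.S8448

/-- Let G be an S-group scheme, i : T ⟶ G a torus of G (a monomorphism of groups), α : T ⟶ 𝔾_m and α^* :
𝔾_m ⟶ T homomorphisms with α ∘ α^* the squaring map, and p₊, p₋ : 𝔾_a ⟶ G homomorphisms normalised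
by T with multipliers α and α⁻¹ which satisfy the rank-one commutation rule: whenever 1 + xy is
invertible, p₊(x) p₋(y) = p₋(y/(1+xy)) · i(α^*(1+xy)) · p₊(x/(1+xy)) (the situation of any reductive
group of semisimple rank 1 with trivialised root groups, where α^* is the coroot). For a point x of
𝔾_a whose coordinate is invertible put w(x) = p₊(x) p₋(-x⁻¹) p₊(x). Then w(x) normalises T: w(x)
i(t) w(x)⁻¹ = i(α^*(α(t)))⁻¹ · i(t) for every point t of T, and for every point z of 𝔾_m one has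
w(zx) = i(α^*(z)) · w(x) = w(x) · i(α^*(z))⁻¹. (The published statement is for a reductive group of
semisimple rank one with a maximal torus and a root; this row assumes only the commutation rule, the
normalisation of p₊, p₋ by T and α ∘ α^* the squaring map, which is all the published proof uses.) -/
theorem result (S : Scheme.{u}) (G T : Over S) [GrpObj G] [GrpObj T] (i : T ⟶ G) [IsMonHom i] [Mono i] (hT : Red.IsTorus T)
    (α : T ⟶ Red.Gm S) [IsMonHom α]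
    (pp pm : Red.Ga S ⟶ G) [IsMonHom pp] [IsMonHom pm]
    (hpp : ∀ (X : Over S) (t : X ⟶ T) (x : X ⟶ Red.Ga S), ∃ x' : X ⟶ Red.Ga S,
      x' ≫ pp = (t ≫ i) * (x ≫ pp) * (t ≫ i)⁻¹ ∧ Red.gaFn x' = Red.gmFn (t ≫ α) * Red.gaFn x)
    (hpm : ∀ (X : Over S) (t : X ⟶ T) (y : X ⟶ Red.Ga S), ∃ y' : X ⟶ Red.Ga S,
      y' ≫ pm = (t ≫ i) * (y ≫ pm) * (t ≫ i)⁻¹ ∧ Red.gaFn y' * Red.gmFn (t ≫ α) = Red.gaFn y)
    (av : Red.Gm S ⟶ T) [IsMonHom av] (h2 : av ≫ α = (𝟙 (Red.Gm S)) ^ 2)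
    (hF : ∀ (X : Over S) (x y : X ⟶ Red.Ga S), IsUnit (1 + Red.gaFn x * Red.gaFn y) →
      ∃ (x' y' : X ⟶ Red.Ga S) (z : X ⟶ Red.Gm S), Red.gmFn z = 1 + Red.gaFn x * Red.gaFn y ∧
        Red.gaFn x' * Red.gmFn z = Red.gaFn x ∧ Red.gaFn y' * Red.gmFn z = Red.gaFn y ∧
        (x ≫ pp) * (y ≫ pm) = (y' ≫ pm) * (z ≫ av ≫ i) * (x' ≫ pp))
    (X : Over S) (x x' : X ⟶ Red.Ga S) (hx : Red.gaFn x' * Red.gaFn x = -1) :
    (∀ t : X ⟶ T, ((x ≫ pp) * (x' ≫ pm) * (x ≫ pp)) * (t ≫ i) * ((x ≫ pp) * (x' ≫ pm) * (x ≫ pp))⁻¹ =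
        (t ≫ α ≫ av ≫ i)⁻¹ * (t ≫ i)) ∧
      ∀ (z : X ⟶ Red.Gm S) (y y' : X ⟶ Red.Ga S), Red.gaFn y = Red.gmFn z * Red.gaFn x →
        Red.gaFn y' * Red.gaFn y = -1 →
        (y ≫ pp) * (y' ≫ pm) * (y ≫ pp) = (z ≫ av ≫ i) * ((x ≫ pp) * (x' ≫ pm) * (x ≫ pp)) ∧
          (y ≫ pp) * (y' ≫ pm) * (y ≫ pp) = ((x ≫ pp) * (x' ≫ pm) * (x ≫ pp)) * (z ≫ av ≫ i)⁻¹ := by
  exact Groth.Agent.S8448aux.main S G T i α pp pm hpp hpm av h2 hF X x x' hx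

end Groth.Agent.S8448
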