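import Groth.Statements.S8471
import Mathlib

set_option autoImplicit false
open Red

namespace Groth.Agent.S8471

section helpers
open Polynomial

section core
variable {K : Type*} [Field K]

/-- comparing coprime representations under an affine substitution -/
theorem core (P Q : K[X]) (hcop : IsCoprime P Q) (hP : P ≠ 0) (hQ : Q ≠ 0) (x t : K) (ht : t ≠ 0)
    (h : P.comp (C x + X * C t) * Q = C t * P * Q.comp (C x + X * C t)) :
    P.eval x = t ^ P.natDegree * P.eval 0 ∧ Q.eval x = t ^ Q.natDegree * Q.eval 0 := by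
  set ℓ : K[X] := C x + X * C t with hℓ
  have hℓdeg : ℓ.natDegree = 1 := by
    rw [hℓ, add_comm, mul_comm]
    exact natDegree_linear ht
  have hℓlc : ℓ.leadingCoeff = t := by
    rw [hℓ, add_comm, mul_comm]
    exact leadingCoeff_linear ht
  have hℓ0 : ℓ.eval 0 = x := by simp [hℓ]
  have hdP : (P.comp ℓ).natDegree = P.natDegree := by rw [natDegree_comp, hℓdeg, mul_one]
  have hdQ : (Q.comp ℓ).natDegree = Q.natDegree := by rw [natDegree_comp, hℓdeg, mul_one]
  have hlcP : (P.comp ℓ).leadingCoeff = P.leadingCoeff * t ^ P.natDegree := by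
    rw [leadingCoeff_comp (by rw [hℓdeg]; exact one_ne_zero), hℓlc]
  have hlcQ : (Q.comp ℓ).leadingCoeff = Q.leadingCoeff * t ^ Q.natDegree := by
    rw [leadingCoeff_comp (by rw [hℓdeg]; exact one_ne_zero), hℓlc]
  have hP1 : P.comp ℓ ≠ 0 := by
    intro h0
    have := congrArg leadingCoeff h0
    rw [hlcP, leadingCoeff_zero] at this
    exact mul_ne_zero (leadingCoeff_ne_zero.mpr hP) (pow_ne_zero _ ht) this
  -- P ∣ P.comp ℓ
  have hdvd : P ∣ P.comp ℓ := by
    apply hcop.dvd_of_dvd_mul_right
    rw [h]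
    exact ⟨C t * Q.comp ℓ, by ring⟩
  obtain ⟨r, hr⟩ := hdvd
  have hr0 : r ≠ 0 := by
    rintro rfl
    rw [mul_zero] at hr
    exact hP1 hr
  have hrdeg : r.natDegree = 0 := by
    have := congrArg natDegree hr
    rw [hdP, natDegree_mul hP hr0] at this
    omega
  obtain ⟨e, he⟩ : ∃ e : K, r = C e := ⟨r.coeff 0, eq_C_of_natDegree_eq_zero hrdeg⟩
  rw [he] at hr
  -- e = t ^ d
  have hlc := congrArg leadingCoeff hr
  rw [hlcP, leadingCoeff_mul, leadingCoeff_C] at hlc
  have het : e = t ^ P.natDegree := (mul_left_cancel₀ (leadingCoeff_ne_zero.mpr hP) hlc).symm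
  have hev := congrArg (eval 0) hr
  rw [eval_comp, hℓ0, eval_mul, eval_C] at hev
  refine ⟨by rw [hev, het]; ring, ?_⟩
  -- now Q
  rw [hr] at h
  have h2 : C e * Q = C t * Q.comp ℓ := by
    apply mul_left_cancel₀ hP
    rw [← mul_assoc, h]
    ring
  have hlc2 := congrArg leadingCoeff h2
  rw [leadingCoeff_mul, leadingCoeff_mul, leadingCoeff_C, leadingCoeff_C, hlcQ] at hlc2
  have he2 : e = t ^ (Q.natDegree + 1) := by
    have hq := leadingCoeff_ne_zero.mpr hQ
    have : Q.leadingCoeff * e = Q.leadingCoeff * t ^ (Q.natDegree + 1) := by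
      rw [mul_comm, hlc2]; ring
    exact mul_left_cancel₀ hq this
  have hev2 := congrArg (eval 0) h2
  rw [eval_mul, eval_mul, eval_C, eval_C, eval_comp, hℓ0, he2] at hev2
  apply mul_left_cancel₀ ht
  rw [← hev2]
  ring

theorem comp_linear_ne_zero (P : K[X]) (hP : P ≠ 0) (x t : K) (ht : t ≠ 0) :
    P.comp (C x + X * C t) ≠ 0 := by
  have hℓdeg : (C x + X * C t).natDegree = 1 := by
    rw [add_comm, mul_comm]
    exact natDegree_linear ht
  have hℓlc : (C x + X * C t).leadingCoeff = t := by
    rw [add_comm, mul_comm]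
    exact leadingCoeff_linear ht
  intro h0
  have := congrArg leadingCoeff h0
  rw [leadingCoeff_comp (by rw [hℓdeg]; exact one_ne_zero), hℓlc, leadingCoeff_zero] at this
  exact mul_ne_zero (leadingCoeff_ne_zero.mpr hP) (pow_ne_zero _ ht) this

end core

section endgame
variable {k : Type*} [Field k]

theorem aux_field {K : Type*} [Field K] (p q c : K) (n : ℕ) (hq : q ≠ 0)
    (h : q = (p / q) ^ n * c) : q * q ^ n = p ^ n * c := by
  calc q * q ^ n = ((p / q) ^ n * c) * q ^ n := by rw [← h]
    _ = p ^ n * c := by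
      rw [div_pow]
      field_simp

theorem endgame (F : RatFunc k) (h0 : F.denom.eval 0 ≠ 0) (h1 : F.num.eval 0 = F.denom.eval 0)
    (hA : algebraMap k[X] (RatFunc k) F.num =
      F ^ F.num.natDegree * algebraMap k (RatFunc k) (F.num.eval 0))
    (hB : algebraMap k[X] (RatFunc k) F.denom =
      F ^ F.denom.natDegree * algebraMap k (RatFunc k) (F.denom.eval 0)) :
    ∃ a : k, F = 1 + RatFunc.C a * RatFunc.X := by
  set P := F.num with hP
  set Q := F.denom with hQ
  have hinj : Function.Injective (algebraMap k[X] (RatFunc k)) := RatFunc.algebraMap_injective k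
  have hQne : Q ≠ 0 := F.denom_ne_zero
  have hq : algebraMap k[X] (RatFunc k) Q ≠ 0 := by
    intro h
    exact hQne (hinj (by rw [h, map_zero]))
  have hF : F = algebraMap k[X] (RatFunc k) P / algebraMap k[X] (RatFunc k) Q :=
    (RatFunc.num_div_denom F).symm
  have hcop : IsCoprime P Q := RatFunc.isCoprime_num_denom F
  -- the polynomial identity for Q
  have hBpoly : Q * Q ^ Q.natDegree = P ^ Q.natDegree * C (Q.eval 0) := by
    apply hinj
    rw [map_mul, map_mul, map_pow, map_pow]
    have : algebraMap k[X] (RatFunc k) (C (Q.eval 0)) = algebraMap k (RatFunc k) (Q.eval 0) :=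
      (IsScalarTower.algebraMap_apply k k[X] (RatFunc k) _).symm
    rw [this]
    apply aux_field _ _ _ _ hq
    rw [← hF]
    exact hB
  have hd' : Q.natDegree = 0 := by
    have hdvd : Q ∣ P ^ Q.natDegree * C (Q.eval 0) := ⟨Q ^ Q.natDegree, hBpoly.symm⟩
    have hcop' : IsCoprime Q (P ^ Q.natDegree) := (hcop.pow_left).symm
    have hdvd' : Q ∣ C (Q.eval 0) := hcop'.dvd_of_dvd_mul_left hdvd
    have hC : C (Q.eval 0) ≠ 0 := by
      rw [Ne, C_eq_zero]; exact h0
    have := natDegree_le_of_dvd hdvd' hC
    rwa [natDegree_C, Nat.le_zero] at this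
  have hQ1 : Q = 1 := (F.monic_denom.natDegree_eq_zero).mp hd'
  have hq0 : Q.eval 0 = 1 := by rw [hQ1, eval_one]
  have hp0 : P.eval 0 = 1 := by rw [h1, hq0]
  have hFp : F = algebraMap k[X] (RatFunc k) P := by
    rw [hF, hQ1, map_one, div_one]
  have hApoly : P = P ^ P.natDegree := by
    apply hinj
    rw [map_pow, ← hFp]
    conv_lhs => rw [hFp, hA, hp0, map_one, mul_one]
  have hPne : P ≠ 0 := by
    intro h
    rw [h, eval_zero] at hp0
    exact zero_ne_one hp0
  have hd : P.natDegree ≤ 1 := by
    have := congrArg natDegree hApoly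
    rw [natDegree_pow] at this
    by_contra hcon
    push Not at hcon
    nlinarith
  have hPlin := eq_X_add_C_of_natDegree_le_one hd
  refine ⟨P.coeff 1, ?_⟩
  rw [hFp]
  conv_lhs => rw [hPlin]
  rw [map_add, map_mul, RatFunc.algebraMap_C, RatFunc.algebraMap_X, RatFunc.algebraMap_C,
    coeff_zero_eq_eval_zero, hp0, map_one, add_comm]

end endgame

section transfer
variable {k : Type} [Field k]

/-- `k[x] → k(x)` as a map from `MvPolynomial (Fin 1) k`. -/
noncomputable def jA : MvPolynomial (Fin 1) k →ₐ[k] RatFunc k :=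
  MvPolynomial.aeval (fun _ => (RatFunc.X : RatFunc k))

theorem jA_injective : Function.Injective (jA (k := k)) :=
  algebraicIndependent_iff_injective_aeval.mp
    (algebraicIndependent_unique_type_iff.mpr RatFunc.transcendental_X)

/-- `k[x,y] → k(x)(Y)`, `x ↦ x`, `y ↦ Y`. -/
noncomputable def phi : MvPolynomial (Fin 2) k →+* RatFunc (RatFunc k) :=
  (algebraMap (Polynomial (RatFunc k)) (RatFunc (RatFunc k))).comp
    ((Polynomial.mapRingHom (jA (k := k)).toRingHom).comp
      ((MvPolynomial.finSuccEquiv k 1).toRingHom.comp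
        (MvPolynomial.rename (Equiv.swap (0 : Fin 2) 1)).toRingHom))

theorem phi_injective : Function.Injective (phi (k := k)) := by
  intro a b h
  simp only [phi, RingHom.comp_apply] at h
  have h1 := RatFunc.algebraMap_injective _ h
  have h2 := Polynomial.map_injective _ jA_injective h1
  have h3 := (MvPolynomial.finSuccEquiv k 1).injective h2
  exact MvPolynomial.rename_injective _ (Equiv.injective _) h3

theorem phi_C (a : k) : phi (MvPolynomial.C a) =
    algebraMap (RatFunc k) (RatFunc (RatFunc k)) (algebraMap k (RatFunc k) a) := by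
  simp only [phi, RingHom.comp_apply]
  have h1 : (MvPolynomial.finSuccEquiv k 1) (MvPolynomial.C a) =
      Polynomial.C (MvPolynomial.C a) := by
    rw [← MvPolynomial.algebraMap_eq, AlgEquiv.commutes]
    rfl
  simp [jA, h1, RatFunc.algebraMap_eq_C]

theorem phi_X0 : phi (MvPolynomial.X 0 : MvPolynomial (Fin 2) k) =
    algebraMap (RatFunc k) (RatFunc (RatFunc k)) RatFunc.X := by
  simp only [phi, RingHom.comp_apply]
  have h1 : (MvPolynomial.finSuccEquiv k 1) (MvPolynomial.X 1) =
      Polynomial.C (MvPolynomial.X 0) :=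
    MvPolynomial.finSuccEquiv_X_succ (j := (0 : Fin 1))
  simp [jA, h1, RatFunc.algebraMap_eq_C]

theorem phi_X1 : phi (MvPolynomial.X 1 : MvPolynomial (Fin 2) k) = RatFunc.X := by
  simp only [phi, RingHom.comp_apply]
  simp [jA, MvPolynomial.finSuccEquiv_X_zero]

theorem map_ratFunc_eval {L M : Type} [Field L] [Field M] (ψ : L →+* M) (f : k →+* L) (a : L)
    (F : RatFunc k) : ψ (RatFunc.eval f a F) = RatFunc.eval (ψ.comp f) (ψ a) F := by
  simp only [RatFunc.eval, map_div₀, Polynomial.hom_eval₂]

theorem eval₂_eq_algebraMap_comp (ℓ : Polynomial (RatFunc k)) (p : k[X]) :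
    Polynomial.eval₂ ((algebraMap (RatFunc k) (RatFunc (RatFunc k))).comp (algebraMap k (RatFunc k)))
      (algebraMap (Polynomial (RatFunc k)) (RatFunc (RatFunc k)) ℓ) p =
    algebraMap (Polynomial (RatFunc k)) (RatFunc (RatFunc k))
      ((p.map (algebraMap k (RatFunc k))).comp ℓ) := by
  rw [Polynomial.comp, Polynomial.eval₂_map, Polynomial.hom_eval₂]
  congr 1

theorem cross_mul {M : Type*} [Field M] (A B Cc D t : M) (hB : B ≠ 0) (hD : D ≠ 0)
    (h : A / B = t * (Cc / D)) : A * D = t * Cc * B := by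
  field_simp at h
  linear_combination h

theorem main (F : RatFunc k)
    (h0 : F.denom.eval 0 ≠ 0) (h1 : F.num.eval 0 = F.denom.eval 0)
    (hFE : RatFunc.eval (algebraMap k (FractionRing (MvPolynomial (Fin 2) k)))
        (algebraMap (MvPolynomial (Fin 2) k) (FractionRing (MvPolynomial (Fin 2) k)) (MvPolynomial.X 0) +
          algebraMap (MvPolynomial (Fin 2) k) (FractionRing (MvPolynomial (Fin 2) k)) (MvPolynomial.X 1) *
            RatFunc.eval (algebraMap k (FractionRing (MvPolynomial (Fin 2) k)))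
              (algebraMap (MvPolynomial (Fin 2) k) (FractionRing (MvPolynomial (Fin 2) k)) (MvPolynomial.X 0)) F) F =
      RatFunc.eval (algebraMap k (FractionRing (MvPolynomial (Fin 2) k)))
          (algebraMap (MvPolynomial (Fin 2) k) (FractionRing (MvPolynomial (Fin 2) k)) (MvPolynomial.X 0)) F *
        RatFunc.eval (algebraMap k (FractionRing (MvPolynomial (Fin 2) k)))
          (algebraMap (MvPolynomial (Fin 2) k) (FractionRing (MvPolynomial (Fin 2) k)) (MvPolynomial.X 1)) F) :
    ∃ a : k, F = 1 + RatFunc.C a * RatFunc.X := by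
  let ψ : FractionRing (MvPolynomial (Fin 2) k) →+* RatFunc (RatFunc k) :=
    IsFractionRing.lift (phi_injective (k := k))
  have hψ : ∀ p, ψ (algebraMap _ (FractionRing (MvPolynomial (Fin 2) k)) p) = phi p :=
    fun p => IsFractionRing.lift_algebraMap _ p
  have hψk : ψ.comp (algebraMap k (FractionRing (MvPolynomial (Fin 2) k))) =
      (algebraMap (RatFunc k) (RatFunc (RatFunc k))).comp (algebraMap k (RatFunc k)) := by
    ext a
    simp only [RingHom.comp_apply]
    rw [IsScalarTower.algebraMap_apply k (MvPolynomial (Fin 2) k)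
      (FractionRing (MvPolynomial (Fin 2) k)), hψ, MvPolynomial.algebraMap_eq, phi_C]
  have h := congrArg ψ hFE
  rw [map_mul, map_ratFunc_eval, map_ratFunc_eval, map_ratFunc_eval, map_add, map_mul,
    map_ratFunc_eval, hψ, hψ, phi_X0, phi_X1, hψk] at h
  have hx : RatFunc.eval ((algebraMap (RatFunc k) (RatFunc (RatFunc k))).comp
      (algebraMap k (RatFunc k))) (algebraMap (RatFunc k) (RatFunc (RatFunc k)) RatFunc.X) F =
      algebraMap (RatFunc k) (RatFunc (RatFunc k)) F := by
    rw [← map_ratFunc_eval]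
    congr 1
    rw [RatFunc.eval, ← Polynomial.aeval_def, ← Polynomial.aeval_def,
      RatFunc.aeval_X_left_eq_algebraMap, RatFunc.aeval_X_left_eq_algebraMap,
      RatFunc.num_div_denom]
  rw [hx] at h
  have hXM : (RatFunc.X : RatFunc (RatFunc k)) =
      algebraMap (Polynomial (RatFunc k)) (RatFunc (RatFunc k)) Polynomial.X :=
    (RatFunc.algebraMap_X).symm
  have hℓ : algebraMap (RatFunc k) (RatFunc (RatFunc k)) RatFunc.X +
      RatFunc.X * algebraMap (RatFunc k) (RatFunc (RatFunc k)) F =
      algebraMap (Polynomial (RatFunc k)) (RatFunc (RatFunc k))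
        (C (RatFunc.X : RatFunc k) + X * C F) := by
    rw [map_add, map_mul, RatFunc.algebraMap_C, RatFunc.algebraMap_C, RatFunc.algebraMap_X,
      RatFunc.algebraMap_eq_C]
  rw [hℓ] at h
  unfold RatFunc.eval at h
  rw [hXM, eval₂_eq_algebraMap_comp, eval₂_eq_algebraMap_comp, eval₂_eq_algebraMap_comp,
    eval₂_eq_algebraMap_comp, Polynomial.comp_X, Polynomial.comp_X] at h
  have hinjM : Function.Injective (algebraMap (Polynomial (RatFunc k)) (RatFunc (RatFunc k))) :=
    RatFunc.algebraMap_injective _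
  have hFne : F ≠ 0 := by
    intro hF
    rw [hF, RatFunc.num_zero, RatFunc.denom_zero, eval_zero, eval_one] at h1
    exact zero_ne_one h1
  have hPne : F.num ≠ 0 := fun hn => hFne (RatFunc.num_eq_zero_iff.mp hn)
  have hP2 : F.num.map (algebraMap k (RatFunc k)) ≠ 0 := Polynomial.map_ne_zero hPne
  have hQ2 : F.denom.map (algebraMap k (RatFunc k)) ≠ 0 := Polynomial.map_ne_zero F.denom_ne_zero
  have hQ1 : (F.denom.map (algebraMap k (RatFunc k))).comp (C (RatFunc.X : RatFunc k) + X * C F) ≠ 0 :=
    comp_linear_ne_zero _ hQ2 _ _ hFne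
  have hcop : IsCoprime (F.num.map (algebraMap k (RatFunc k))) (F.denom.map (algebraMap k (RatFunc k))) :=
    (RatFunc.isCoprime_num_denom F).map (Polynomial.mapRingHom (algebraMap k (RatFunc k)))
  have hcross := cross_mul _ _ _ _ _ (fun h' => hQ1 (hinjM (by rw [h', map_zero])))
    (fun h' => hQ2 (hinjM (by rw [h', map_zero]))) h
  have hCF : algebraMap (RatFunc k) (RatFunc (RatFunc k)) F =
      algebraMap (Polynomial (RatFunc k)) (RatFunc (RatFunc k)) (C F) := by
    rw [RatFunc.algebraMap_C, RatFunc.algebraMap_eq_C]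
  rw [hCF, ← map_mul, ← map_mul, ← map_mul] at hcross
  have hpoly := hinjM hcross
  obtain ⟨hA, hB⟩ := core _ _ hcop hP2 hQ2 _ _ hFne hpoly
  rw [Polynomial.eval_map, ← Polynomial.aeval_def, RatFunc.aeval_X_left_eq_algebraMap,
    Polynomial.eval_zero_map, Polynomial.natDegree_map] at hA hB
  exact endgame F h0 h1 hA hB

end transfer

end helpers

/-- Let k be a field and F ∈ k(X) a rational function whose denominator does not vanish at 0 and with
F(0) = 1. Suppose that in the field of fractions L of k[X₀, X₁] one has F(X₀ + X₁ · F(X₀)) = F(X₀) ·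
F(X₁) (the functional equation F(x + y F(x)) = F(x) F(y)). Then there is a ∈ k with F = 1 + a X.
(The published statement takes the identity on an open neighbourhood of the origin of 𝔾_a × 𝔾_a on
which all terms are defined; this row takes it as an identity of rational functions in two
variables.) -/
theorem result (k : Type) [Field k] (F : RatFunc k)
    (h0 : F.denom.eval 0 ≠ 0) (h1 : F.num.eval 0 = F.denom.eval 0)
    (hFE : RatFunc.eval (algebraMap k (FractionRing (MvPolynomial (Fin 2) k)))
        (algebraMap (MvPolynomial (Fin 2) k) (FractionRing (MvPolynomial (Fin 2) k)) (MvPolynomial.X 0) +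
          algebraMap (MvPolynomial (Fin 2) k) (FractionRing (MvPolynomial (Fin 2) k)) (MvPolynomial.X 1) *
            RatFunc.eval (algebraMap k (FractionRing (MvPolynomial (Fin 2) k)))
              (algebraMap (MvPolynomial (Fin 2) k) (FractionRing (MvPolynomial (Fin 2) k)) (MvPolynomial.X 0)) F) F =
      RatFunc.eval (algebraMap k (FractionRing (MvPolynomial (Fin 2) k)))
          (algebraMap (MvPolynomial (Fin 2) k) (FractionRing (MvPolynomial (Fin 2) k)) (MvPolynomial.X 0)) F *
        RatFunc.eval (algebraMap k (FractionRing (MvPolynomial (Fin 2) k)))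
          (algebraMap (MvPolynomial (Fin 2) k) (FractionRing (MvPolynomial (Fin 2) k)) (MvPolynomial.X 1)) F) :
    ∃ a : k, F = 1 + RatFunc.C a * RatFunc.X := by
  exact main F h0 h1 hFE

end Groth.Agent.S8471
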