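import Groth.Statements.S8476
import Mathlib
import Groth.Agent.Lib.helper27.RankOneBridge

set_option autoImplicit false
universe u
open CategoryTheory MonoidalCategory CartesianMonoidalCategory MonObj GrpObj AlgebraicGeometry CategoryTheory.Limits
open Red

namespace Groth.Agent.S8476aux

open CategoryTheory MonoidalCategory CartesianMonoidalCategory MonObj GrpObj AlgebraicGeometry CategoryTheory.Limits
open Red
open Groth.Agent.Lib.helper27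

theorem main (S : Scheme.{u}) (G T : Over S) [GrpObj G] [GrpObj T] (i : T ⟶ G) [IsMonHom i]
    (α : T ⟶ Red.Gm S) [IsMonHom α]
    (pp pm : Red.Ga S ⟶ G) [IsMonHom pp] [IsMonHom pm]
    (hpp : ∀ (X : Over S) (t : X ⟶ T) (x : X ⟶ Red.Ga S), ∃ x' : X ⟶ Red.Ga S,
      x' ≫ pp = (t ≫ i) * (x ≫ pp) * (t ≫ i)⁻¹ ∧ Red.gaFn x' = Red.gmFn (t ≫ α) * Red.gaFn x)
    (hpm : ∀ (X : Over S) (t : X ⟶ T) (y : X ⟶ Red.Ga S), ∃ y' : X ⟶ Red.Ga S,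
      y' ≫ pm = (t ≫ i) * (y ≫ pm) * (t ≫ i)⁻¹ ∧ Red.gaFn y' * Red.gmFn (t ≫ α) = Red.gaFn y)
    (av : Red.Gm S ⟶ T) [IsMonHom av] (h2 : av ≫ α = (𝟙 (Red.Gm S)) ^ 2)
    (hF : ∀ (X : Over S) (x y : X ⟶ Red.Ga S), IsUnit (1 + Red.gaFn x * Red.gaFn y) →
      ∃ (x' y' : X ⟶ Red.Ga S) (z : X ⟶ Red.Gm S), Red.gmFn z = 1 + Red.gaFn x * Red.gaFn y ∧
        Red.gaFn x' * Red.gmFn z = Red.gaFn x ∧ Red.gaFn y' * Red.gmFn z = Red.gaFn y ∧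
        (x ≫ pp) * (y ≫ pm) = (y' ≫ pm) * (z ≫ av ≫ i) * (x' ≫ pp))
    (X : Over S) (x y x' y' y₂ x₂ : X ⟶ Red.Ga S) (t t' : X ⟶ T) (z : X ⟶ Red.Gm S)
    (hz : Red.gmFn z = 1 + Red.gaFn x * Red.gaFn y')
    (hy₂ : (Red.gaFn y₂ - Red.gaFn y) * Red.gmFn z * Red.gmFn (t ≫ α) = Red.gaFn y')
    (hx₂ : (Red.gaFn x₂ - Red.gaFn x') * Red.gmFn z * Red.gmFn (t' ≫ α) = Red.gaFn x) :
    ((y ≫ pm) * (t ≫ i) * (x ≫ pp)) * ((y' ≫ pm) * (t' ≫ i) * (x' ≫ pp)) =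
      (y₂ ≫ pm) * ((t * (z ≫ av) * t') ≫ i) * (x₂ ≫ pp) := by
  set s := RankOneBridge.mkSys i α pp pm hpp hpm av h2 hF X with hs
  set u := GmPts.unitOfPt z with hu
  have hzu : Red.gmFn z = (u : Γ(X.left, ⊤)) := rfl
  have hzp : z = GmPts.ptOfUnit u := (GmPts.ptOfUnit_unitOfPt z).symm
  have e := s.bigcell (Red.gaFn y) (Red.gaFn x) (Red.gaFn y') (Red.gaFn x') t t' u (by rw [← hzu, hz])
  have hχt : Red.gmFn (t ≫ α) = ((s.χ t : (Γ(X.left, ⊤))ˣ) : Γ(X.left, ⊤)) := rfl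
  have hχt' : Red.gmFn (t' ≫ α) = ((s.χ t' : (Γ(X.left, ⊤))ˣ) : Γ(X.left, ⊤)) := rfl
  have h1 : Red.gaFn y₂ = Red.gaFn y + (((s.χ t)⁻¹ : (Γ(X.left, ⊤))ˣ) : Γ(X.left, ⊤)) *
      (((u⁻¹ : (Γ(X.left, ⊤))ˣ) : Γ(X.left, ⊤)) * Red.gaFn y') := by
    rw [← hy₂, hzu, hχt]
    have e1 : (((s.χ t)⁻¹ : (Γ(X.left, ⊤))ˣ) : Γ(X.left, ⊤)) *
        (((u⁻¹ : (Γ(X.left, ⊤))ˣ) : Γ(X.left, ⊤)) * ((Red.gaFn y₂ - Red.gaFn y) * (u : Γ(X.left, ⊤)) *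
          ((s.χ t : (Γ(X.left, ⊤))ˣ) : Γ(X.left, ⊤)))) =
        (Red.gaFn y₂ - Red.gaFn y) * ((((s.χ t)⁻¹ : (Γ(X.left, ⊤))ˣ) : Γ(X.left, ⊤)) *
          ((s.χ t : (Γ(X.left, ⊤))ˣ) : Γ(X.left, ⊤))) * (((u⁻¹ : (Γ(X.left, ⊤))ˣ) : Γ(X.left, ⊤)) * (u : Γ(X.left, ⊤))) := by
      ring
    rw [e1, Units.inv_mul, Units.inv_mul]; ring
  have h3 : Red.gaFn x₂ = (((s.χ t')⁻¹ : (Γ(X.left, ⊤))ˣ) : Γ(X.left, ⊤)) *
      (((u⁻¹ : (Γ(X.left, ⊤))ˣ) : Γ(X.left, ⊤)) * Red.gaFn x) + Red.gaFn x' := by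
    rw [← hx₂, hzu, hχt']
    have e1 : (((s.χ t')⁻¹ : (Γ(X.left, ⊤))ˣ) : Γ(X.left, ⊤)) *
        (((u⁻¹ : (Γ(X.left, ⊤))ˣ) : Γ(X.left, ⊤)) * ((Red.gaFn x₂ - Red.gaFn x') * (u : Γ(X.left, ⊤)) *
          ((s.χ t' : (Γ(X.left, ⊤))ˣ) : Γ(X.left, ⊤)))) =
        (Red.gaFn x₂ - Red.gaFn x') * ((((s.χ t')⁻¹ : (Γ(X.left, ⊤))ˣ) : Γ(X.left, ⊤)) *
          ((s.χ t' : (Γ(X.left, ⊤))ˣ) : Γ(X.left, ⊤))) * (((u⁻¹ : (Γ(X.left, ⊤))ˣ) : Γ(X.left, ⊤)) * (u : Γ(X.left, ⊤))) := by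
      ring
    rw [e1, Units.inv_mul, Units.inv_mul]; ring
  have hx0 : x = GaPts.ptOfElt (Red.gaFn x) := (GaPts.ptOfElt_gaFn x).symm
  have hy0 : y = GaPts.ptOfElt (Red.gaFn y) := (GaPts.ptOfElt_gaFn y).symm
  have hx0' : x' = GaPts.ptOfElt (Red.gaFn x') := (GaPts.ptOfElt_gaFn x').symm
  have hy0' : y' = GaPts.ptOfElt (Red.gaFn y') := (GaPts.ptOfElt_gaFn y').symm
  rw [RankOneBridge.pt_eq_of_gaFn X h1, RankOneBridge.pt_eq_of_gaFn X h3, hzp]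
  conv_lhs => rw [hx0, hy0, hx0', hy0']
  exact e

end Groth.Agent.S8476aux

namespace Groth.Agent.S8476

/-- The product of two elements of the big cell: Let G be an S-group scheme, i : T ⟶ G a torus of G (a
monomorphism of groups), α : T ⟶ 𝔾_m and α^* : 𝔾_m ⟶ T homomorphisms with α ∘ α^* the squaring map,
and p₊, p₋ : 𝔾_a ⟶ G homomorphisms normalised by T with multipliers α and α⁻¹ which satisfy the
rank-one commutation rule: whenever 1 + xy is invertible, p₊(x) p₋(y) = p₋(y/(1+xy)) · i(α^*(1+xy))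
· p₊(x/(1+xy)) (the situation of any reductive group of semisimple rank 1 with trivialised root
groups, where α^* is the coroot). Let y, t, x, y', t', x' be points (of 𝔾_a, T, 𝔾_a, ...) with u = 1
+ x y' invertible. Then p₋(y) i(t) p₊(x) · p₋(y') i(t') p₊(x') = p₋(y + y'/(u α(t))) · i(t α^*(u)
t') · p₊(x/(u α(t')) + x'). (The published statement is for a reductive group of semisimple rank one
with a maximal torus and a root, and also asserts that the product lies in the big cell only if u is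
invertible; this row assumes only the commutation rule, the normalisation of p₊, p₋ by T and α ∘ α^*
the squaring map, which is all the published proof uses for the product formula, and does not assert
the converse membership statement.) -/
theorem result (S : Scheme.{u}) (G T : Over S) [GrpObj G] [GrpObj T] (i : T ⟶ G) [IsMonHom i] [Mono i] (hT : Red.IsTorus T)
    (α : T ⟶ Red.Gm S) [IsMonHom α]
    (pp pm : Red.Ga S ⟶ G) [IsMonHom pp] [IsMonHom pm]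
    (hpp : ∀ (X : Over S) (t : X ⟶ T) (x : X ⟶ Red.Ga S), ∃ x' : X ⟶ Red.Ga S,
      x' ≫ pp = (t ≫ i) * (x ≫ pp) * (t ≫ i)⁻¹ ∧ Red.gaFn x' = Red.gmFn (t ≫ α) * Red.gaFn x)
    (hpm : ∀ (X : Over S) (t : X ⟶ T) (y : X ⟶ Red.Ga S), ∃ y' : X ⟶ Red.Ga S,
      y' ≫ pm = (t ≫ i) * (y ≫ pm) * (t ≫ i)⁻¹ ∧ Red.gaFn y' * Red.gmFn (t ≫ α) = Red.gaFn y)
    (av : Red.Gm S ⟶ T) [IsMonHom av] (h2 : av ≫ α = (𝟙 (Red.Gm S)) ^ 2)
    (hF : ∀ (X : Over S) (x y : X ⟶ Red.Ga S), IsUnit (1 + Red.gaFn x * Red.gaFn y) →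
      ∃ (x' y' : X ⟶ Red.Ga S) (z : X ⟶ Red.Gm S), Red.gmFn z = 1 + Red.gaFn x * Red.gaFn y ∧
        Red.gaFn x' * Red.gmFn z = Red.gaFn x ∧ Red.gaFn y' * Red.gmFn z = Red.gaFn y ∧
        (x ≫ pp) * (y ≫ pm) = (y' ≫ pm) * (z ≫ av ≫ i) * (x' ≫ pp))
    (X : Over S) (x y x' y' y₂ x₂ : X ⟶ Red.Ga S) (t t' : X ⟶ T) (z : X ⟶ Red.Gm S)
    (hz : Red.gmFn z = 1 + Red.gaFn x * Red.gaFn y')
    (hy₂ : (Red.gaFn y₂ - Red.gaFn y) * Red.gmFn z * Red.gmFn (t ≫ α) = Red.gaFn y')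
    (hx₂ : (Red.gaFn x₂ - Red.gaFn x') * Red.gmFn z * Red.gmFn (t' ≫ α) = Red.gaFn x) :
    ((y ≫ pm) * (t ≫ i) * (x ≫ pp)) * ((y' ≫ pm) * (t' ≫ i) * (x' ≫ pp)) =
      (y₂ ≫ pm) * ((t * (z ≫ av) * t') ≫ i) * (x₂ ≫ pp) := by
  exact Groth.Agent.S8476aux.main S G T i α pp pm hpp hpm av h2 hF X x y x' y' y₂ x₂ t t' z hz hy₂ hx₂

end Groth.Agent.S8476
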