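import Mathlib
import Groth.Agent.Lib.helper10.CechTA
import Groth.Statements.S8564

set_option autoImplicit false
open CategoryTheory CategoryTheory.Limits
universe u
open CohCx

namespace Groth.Agent.S8564

/-- Let (F_t) be a family of abelian sheaves on a small site, indexed by a small set, such that each F_t
is totally acyclic, i.e. H^p(K, F_t) = 0 for every sheaf of sets K and every p > 0. Then the product
sheaf of the family is totally acyclic. (The published statement is for modules over a ringed topos;
this row is the case of abelian sheaves.) -/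
theorem result {C : Type u} [SmallCategory C] (J : GrothendieckTopology C)
    {T : Type u} (F : T → Sheaf J AddCommGrpCat.{u}) (hF : ∀ t, CohCx.IsTotallyAcyclic (F t)) :
    CohCx.IsTotallyAcyclic (∏ᶜ F) := by
  apply Groth.Agent.Lib.helper10.CechTA.main12106
  intro K' K f hf q
  apply Groth.Agent.Lib.helper10.CechTA.isZero_of_cechLift
  intro q φ hφ
  have h1 : ∀ t, ∃ χ : (Groth.Agent.Lib.helper10.CechRes.Cx f).X q ⟶ F t,
      (Groth.Agent.Lib.helper10.CechRes.Cx f).d (q + 1) q ≫ χ = φ ≫ CategoryTheory.Limits.Pi.π F t := by
    intro t
    have := hf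
    refine Groth.Agent.Lib.helper10.CechTA.cechLift_of_TA (F t) (hF t) f q _ ?_
    rw [← CategoryTheory.Category.assoc, hφ, CategoryTheory.Limits.zero_comp]
  choose χ hχ using h1
  refine ⟨CategoryTheory.Limits.Pi.lift χ, ?_⟩
  apply CategoryTheory.Limits.Pi.hom_ext
  intro t
  rw [CategoryTheory.Category.assoc, CategoryTheory.Limits.Pi.lift_π, hχ]

end Groth.Agent.S8564
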