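import Groth.Statements.S8569
import Mathlib
import Groth.Agent.Lib.helper23.SC19

set_option autoImplicit false
open CategoryTheory
universe v u
open SGA4

namespace Groth.Agent.S8569

/-- Let E be a topos (a category equivalent to the category of sheaves of sets on a small site, for the
universe u) and D a u-small category. Then the category of functors D ⥤ E, which is the category of
sections of the constant D-topos with value E, is a topos. (The published statement is for an
arbitrary D-topos, i.e. a category bifibred in topoi over D; this row is the case of a constant
one.) -/
theorem result {E : Type v} [Category.{u} E] (hE : SGA4.IsTopos E)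
    (D : Type u) [SmallCategory D] : SGA4.IsTopos (D ⥤ E) := by
  obtain ⟨C, _, J, ⟨e₀⟩⟩ := hE
  obtain ⟨J', ⟨e₁⟩⟩ := Groth.Agent.Lib.helper23.FT.exists_site J D
  exact ⟨(D × Cᵒᵖ)ᵒᵖ, inferInstance, J', ⟨(e₀.congrRight (E := D)).trans e₁⟩⟩

end Groth.Agent.S8569
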