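import Groth.Statements.S8586
import Mathlib

set_option autoImplicit false
universe u
open CAlg

namespace Groth.Agent.S8586

section helpers

variable {A : Type u} [CommRing A] [IsLocalRing A]

/-- `w` is a tuple in the maximal ideal generating an `m`-primary ideal. -/
def IsSop {d : ℕ} (w : Fin d → A) : Prop :=
  (∀ i, w i ∈ IsLocalRing.maximalIdeal A) ∧
    IsLocalRing.maximalIdeal A ≤ (Ideal.span (Set.range w)).radical

/-- adjacent tuples: both sop and differing in at most one coordinate. -/
def Adj {d : ℕ} (w w' : Fin d → A) : Prop :=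
  IsSop w ∧ IsSop w' ∧ ∃ i : Fin d, ∀ i' : Fin d, i' ≠ i → w i' = w' i'

lemma le_radical_iff (I : Ideal A) :
    IsLocalRing.maximalIdeal A ≤ I.radical ↔
      ∀ Q : Ideal A, Q.IsPrime → I ≤ Q → IsLocalRing.maximalIdeal A ≤ Q := by
  rw [Ideal.radical_eq_sInf, le_sInf_iff]
  constructor
  · intro h Q hQ hIQ
    exact h Q ⟨hIQ, hQ⟩
  · intro h Q hQ
    exact h Q hQ.2 hQ.1

/-- box connectivity. -/
lemma box_connected {α : Type*} {d : ℕ} (P : (Fin d → α) → Prop) (x y : Fin d → α)
    (hP : ∀ z : Fin d → α, (∀ i, z i = x i ∨ z i = y i) → P z) :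
    Relation.ReflTransGen
      (fun a b : Fin d → α => P a ∧ P b ∧ ∃ i : Fin d, ∀ i' : Fin d, i' ≠ i → a i' = b i') x y := by
  classical
  have key : ∀ k : ℕ, Relation.ReflTransGen
      (fun a b : Fin d → α => P a ∧ P b ∧ ∃ i : Fin d, ∀ i' : Fin d, i' ≠ i → a i' = b i') x
      (fun i => if i.val < k then y i else x i) := by
    intro k
    induction k with
    | zero =>
      have : (fun i : Fin d => if i.val < 0 then y i else x i) = x := by
        funext i; simp
      rw [this]
    | succ k ih =>
      by_cases hk : k < d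
      · refine ih.tail ⟨hP _ ?_, hP _ ?_, ⟨k, hk⟩, ?_⟩
        · intro i; by_cases h : i.val < k <;> simp [h]
        · intro i; by_cases h : i.val < k + 1 <;> simp [h]
        · intro i' hi'
          have hne : i'.val ≠ k := fun h => hi' (Fin.ext h)
          by_cases h : i'.val < k
          · have h' : i'.val < k + 1 := by omega
            simp [h, h']
          · have h' : ¬ i'.val < k + 1 := by omega
            simp [h, h']
      · have : (fun i : Fin d => if i.val < k + 1 then y i else x i) =
            (fun i : Fin d => if i.val < k then y i else x i) := by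
          funext i
          have h1 : i.val < k := by have := i.isLt; omega
          have h2 : i.val < k + 1 := by omega
          simp [h1, h2]
        rw [this]; exact ih
  have := key d
  have e : (fun i : Fin d => if i.val < d then y i else x i) = y := by
    funext i; simp [i.isLt]
  rwa [e] at this

end helpers

section quot

variable {A : Type u} [CommRing A] [IsLocalRing A]

lemma mk_mem_maximalIdeal_iff (I : Ideal A) [IsLocalRing (A ⧸ I)] (x : A) :
    Ideal.Quotient.mk I x ∈ IsLocalRing.maximalIdeal (A ⧸ I) ↔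
      x ∈ IsLocalRing.maximalIdeal A := by
  haveI := IsLocalHom.of_surjective (Ideal.Quotient.mk I) Ideal.Quotient.mk_surjective
  rw [IsLocalRing.mem_maximalIdeal, IsLocalRing.mem_maximalIdeal]
  exact map_mem_nonunits_iff (Ideal.Quotient.mk I) x

lemma isSop_quot {d : ℕ} (t : A) [IsLocalRing (A ⧸ Ideal.span {t})] (z : Fin (d + 1) → A)
    (hz0 : z 0 = t) (hz : IsSop z) :
    IsSop (fun j : Fin d => Ideal.Quotient.mk (Ideal.span {t}) (z j.succ)) := by
  refine ⟨fun j => (mk_mem_maximalIdeal_iff _ _).2 (hz.1 _), ?_⟩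
  intro a' ha'
  obtain ⟨a, rfl⟩ := Ideal.Quotient.mk_surjective a'
  have ha : a ∈ IsLocalRing.maximalIdeal A := (mk_mem_maximalIdeal_iff _ _).1 ha'
  obtain ⟨n, hn⟩ := hz.2 ha
  refine ⟨n, ?_⟩
  rw [← map_pow]
  have h1 : Ideal.Quotient.mk (Ideal.span {t}) (a ^ n) ∈
      (Ideal.span (Set.range z)).map (Ideal.Quotient.mk (Ideal.span {t})) :=
    Ideal.mem_map_of_mem _ hn
  refine (?_ : (Ideal.span (Set.range z)).map (Ideal.Quotient.mk (Ideal.span {t})) ≤ _) h1
  rw [Ideal.map_span, Ideal.span_le]
  rintro _ ⟨_, ⟨i, rfl⟩, rfl⟩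
  induction i using Fin.cases with
  | zero =>
    rw [hz0]
    have : Ideal.Quotient.mk (Ideal.span {t}) t = 0 :=
      Ideal.Quotient.eq_zero_iff_mem.2 (Ideal.mem_span_singleton_self t)
    rw [this]
    exact Ideal.zero_mem _
  | succ j => exact Ideal.subset_span ⟨j, rfl⟩

lemma isSop_of_quot {d : ℕ} (t : A) (ht : t ∈ IsLocalRing.maximalIdeal A)
    [IsLocalRing (A ⧸ Ideal.span {t})] (z : Fin (d + 1) → A)
    (hz0 : z 0 = t) (hzm : ∀ j : Fin d, z j.succ ∈ IsLocalRing.maximalIdeal A)
    (hz : IsSop (fun j : Fin d => Ideal.Quotient.mk (Ideal.span {t}) (z j.succ))) :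
    IsSop z := by
  refine ⟨fun i => ?_, ?_⟩
  · induction i using Fin.cases with
    | zero => rw [hz0]; exact ht
    | succ j => exact hzm j
  · intro a ha
    have ha' : Ideal.Quotient.mk (Ideal.span {t}) a ∈
        IsLocalRing.maximalIdeal (A ⧸ Ideal.span {t}) := (mk_mem_maximalIdeal_iff _ _).2 ha
    obtain ⟨n, hn⟩ := hz.2 ha'
    refine ⟨n, ?_⟩
    rw [← map_pow] at hn
    have hle : Ideal.span (Set.range
        (fun j : Fin d => Ideal.Quotient.mk (Ideal.span {t}) (z j.succ))) ≤
        (Ideal.span (Set.range z)).map (Ideal.Quotient.mk (Ideal.span {t})) := by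
      rw [Ideal.span_le]
      rintro _ ⟨j, rfl⟩
      exact Ideal.mem_map_of_mem _ (Ideal.subset_span ⟨j.succ, rfl⟩)
    have h2 : a ^ n ∈ ((Ideal.span (Set.range z)).map
        (Ideal.Quotient.mk (Ideal.span {t}))).comap (Ideal.Quotient.mk (Ideal.span {t})) :=
      hle hn
    rw [Ideal.comap_map_of_surjective _ Ideal.Quotient.mk_surjective,
      ← RingHom.ker_eq_comap_bot, Ideal.mk_ker] at h2
    refine (sup_le le_rfl ?_ : _ ≤ Ideal.span (Set.range z)) h2
    rw [Ideal.span_le, Set.singleton_subset_iff]
    exact Ideal.subset_span ⟨0, hz0⟩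

lemma isSop_cons_of_avoid [IsNoetherianRing A] {d : ℕ} (u : Fin (d + 1) → A) (hu : IsSop u)
    (t : A) (ht : t ∈ IsLocalRing.maximalIdeal A)
    (havoid : ∀ P ∈ (Ideal.span (Set.range (Fin.tail u))).minimalPrimes,
      P ≠ IsLocalRing.maximalIdeal A → t ∉ P) :
    IsSop (Fin.cons t (Fin.tail u) : Fin (d + 1) → A) := by
  refine ⟨fun i => ?_, ?_⟩
  · induction i using Fin.cases with
    | zero => rw [Fin.cons_zero]; exact ht
    | succ j => rw [Fin.cons_succ]; exact hu.1 _
  · rw [le_radical_iff]
    intro Q hQ hle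
    by_contra hmQ
    have hQm : Q < IsLocalRing.maximalIdeal A :=
      lt_of_le_of_ne (IsLocalRing.le_maximalIdeal hQ.ne_top) (fun h => hmQ h.ge)
    have hJQ : Ideal.span (Set.range (Fin.tail u)) ≤ Q := by
      rw [Ideal.span_le]
      rintro _ ⟨j, rfl⟩
      refine hle (Ideal.subset_span ⟨j.succ, ?_⟩)
      rw [Fin.cons_succ]
    have htQ : t ∈ Q := hle (Ideal.subset_span ⟨0, by rw [Fin.cons_zero]⟩)
    obtain ⟨P, hP, hPQ⟩ := Ideal.exists_minimalPrimes_le hJQ
    have hPm : P ≠ IsLocalRing.maximalIdeal A := by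
      rintro rfl
      exact hmQ hPQ
    have htP : t ∉ P := havoid P hP hPm
    have hPQ' : P < Q := lt_of_le_of_ne hPQ (fun h => htP (h ▸ htQ))
    haveI := hP.1.1
    obtain ⟨q, hq1, hq2, hq3⟩ := PrimeSpectrum.exist_mem_one_of_mem_maximal_ideal
      (p₀ := ⟨P, hP.1.1⟩) (p₁ := ⟨Q, hQ⟩) hPQ' hQm (hu.1 0)
    have hspan : Ideal.span (Set.range u) ≤ q.asIdeal := by
      rw [Ideal.span_le]
      rintro _ ⟨i, rfl⟩
      induction i using Fin.cases with
      | zero => exact hq1
      | succ j =>
        exact hq2.le (hP.1.2 (Ideal.subset_span ⟨j, rfl⟩))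
    have := (le_radical_iff _).1 hu.2 q.asIdeal q.isPrime hspan
    exact absurd this (not_le_of_gt hq3)

lemma exists_common [IsNoetherianRing A] {d : ℕ} (u v : Fin (d + 1) → A)
    (hu : IsSop u) (hv : IsSop v) :
    ∃ t ∈ IsLocalRing.maximalIdeal A, IsSop (Fin.cons t (Fin.tail u) : Fin (d + 1) → A) ∧
      IsSop (Fin.cons t (Fin.tail v) : Fin (d + 1) → A) := by
  classical
  set Ju := Ideal.span (Set.range (Fin.tail u)) with hJu
  set Jv := Ideal.span (Set.range (Fin.tail v)) with hJv
  let S : Set (Ideal A) := {P | (P ∈ Ju.minimalPrimes ∨ P ∈ Jv.minimalPrimes) ∧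
    P ≠ IsLocalRing.maximalIdeal A}
  have hfin : S.Finite := by
    refine ((Ideal.finite_minimalPrimes_of_isNoetherianRing A Ju).union
      (Ideal.finite_minimalPrimes_of_isNoetherianRing A Jv)).subset ?_
    intro P hP
    exact hP.1
  have hex : ∃ t ∈ IsLocalRing.maximalIdeal A, ∀ P ∈ S, t ∉ P := by
    by_contra hcon
    push_neg at hcon
    have hsub : ((IsLocalRing.maximalIdeal A : Ideal A) : Set A) ⊆
        ⋃ P ∈ (↑hfin.toFinset : Set (Ideal A)), ((id P : Ideal A) : Set A) := by
      intro t ht
      obtain ⟨P, hP, htP⟩ := hcon t ht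
      simp only [Set.mem_iUnion]
      exact ⟨P, by simpa using hP, htP⟩
    rw [Ideal.subset_union_prime (f := id) ⊥ ⊥] at hsub
    · obtain ⟨P, hP, hmP⟩ := hsub
      have hPS : P ∈ S := by simpa using hP
      have hPprime : P.IsPrime := by
        rcases hPS.1 with h | h
        · exact h.1.1
        · exact h.1.1
      exact hPS.2 (le_antisymm (IsLocalRing.le_maximalIdeal hPprime.ne_top) hmP)
    · intro P hP _ _
      have hPS : P ∈ S := by simpa using hP
      rcases hPS.1 with h | h
      · exact h.1.1
      · exact h.1.1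
  obtain ⟨t, ht, hav⟩ := hex
  refine ⟨t, ht, isSop_cons_of_avoid u hu t ht ?_, isSop_cons_of_avoid v hv t ht ?_⟩
  · intro P hP hPm
    exact hav P ⟨Or.inl hP, hPm⟩
  · intro P hP hPm
    exact hav P ⟨Or.inr hP, hPm⟩

end quot

section main

theorem chain (d : ℕ) : ∀ (A : Type u) [CommRing A] [IsLocalRing A] [IsNoetherianRing A]
    (u v : Fin d → A), IsSop u → IsSop v → Relation.ReflTransGen Adj u v := by
  induction d with
  | zero =>
    intro A _ _ _ u v _ _
    have : u = v := by funext i; exact i.elim0
    rw [this]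
  | succ d ih =>
    intro A _ _ _ u v hu hv
    obtain ⟨t, ht, htu, htv⟩ := exists_common u v hu hv
    have hI : Ideal.span {t} ≠ (⊤ : Ideal A) := by
      intro h
      have : Ideal.span {t} ≤ IsLocalRing.maximalIdeal A := by
        rw [Ideal.span_le, Set.singleton_subset_iff]; exact ht
      rw [h] at this
      exact (IsLocalRing.maximalIdeal.isMaximal A).ne_top (top_le_iff.1 this)
    haveI : Nontrivial (A ⧸ Ideal.span {t}) := Ideal.Quotient.nontrivial_iff.mpr hI
    haveI : IsLocalRing (A ⧸ Ideal.span {t}) :=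
      IsLocalRing.of_surjective' (Ideal.Quotient.mk (Ideal.span {t}))
        Ideal.Quotient.mk_surjective
    -- the images
    set mk := Ideal.Quotient.mk (Ideal.span {t}) with hmk
    have hu' : IsSop (fun j : Fin d => mk ((Fin.cons t (Fin.tail u) : Fin (d + 1) → A) j.succ)) :=
      isSop_quot t _ (Fin.cons_zero _ _) htu
    have hv' : IsSop (fun j : Fin d => mk ((Fin.cons t (Fin.tail v) : Fin (d + 1) → A) j.succ)) :=
      isSop_quot t _ (Fin.cons_zero _ _) htv
    have hchain := ih (A ⧸ Ideal.span {t}) _ _ hu' hv'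
    -- a section
    let s : A ⧸ Ideal.span {t} → A := Function.surjInv Ideal.Quotient.mk_surjective
    have hs : ∀ b, mk (s b) = b := Function.surjInv_eq Ideal.Quotient.mk_surjective
    let f : (Fin d → A ⧸ Ideal.span {t}) → (Fin (d + 1) → A) := fun x => Fin.cons t (s ∘ x)
    have hf : ∀ a, IsSop a → IsSop (f a) := by
      intro a ha
      refine isSop_of_quot t ht (f a) (Fin.cons_zero _ _) ?_ ?_
      · intro j
        change (Fin.cons t (s ∘ a) : Fin (d + 1) → A) j.succ ∈ _
        rw [Fin.cons_succ]
        refine (mk_mem_maximalIdeal_iff (Ideal.span {t}) _).1 ?_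
        change mk (s (a j)) ∈ _
        rw [hs]
        exact ha.1 j
      · have : (fun j : Fin d => Ideal.Quotient.mk (Ideal.span {t}) (f a j.succ)) = a := by
          funext j
          change mk ((Fin.cons t (s ∘ a) : Fin (d + 1) → A) j.succ) = _
          rw [Fin.cons_succ]
          exact hs _
        rw [this]
        exact ha
    have hlift : Relation.ReflTransGen Adj (f _) (f _) :=
      Relation.ReflTransGen.lift (r := Adj) (p := Adj) f (fun a b (hab : Adj a b) => by
        obtain ⟨ha, hb, i, hi⟩ := hab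
        refine ⟨hf a ha, hf b hb, i.succ, ?_⟩
        intro i' hi'
        induction i' using Fin.cases with
        | zero => rfl
        | succ j =>
          change (Fin.cons t (s ∘ a) : Fin (d + 1) → A) j.succ =
            (Fin.cons t (s ∘ b) : Fin (d + 1) → A) j.succ
          rw [Fin.cons_succ, Fin.cons_succ]
          have : j ≠ i := fun h => hi' (by rw [h])
          change s (a j) = s (b j)
          rw [hi j this]) _ _ hchain
    -- two lifts of the same tuple are connected
    have htwo : ∀ (x y : Fin (d + 1) → A), IsSop x → x 0 = t → y 0 = t →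
        (∀ j : Fin d, y j.succ ∈ IsLocalRing.maximalIdeal A) →
        (∀ j : Fin d, mk (x j.succ) = mk (y j.succ)) → Relation.ReflTransGen Adj x y := by
      intro x y hx hx0 hy0 hym hxy
      have hP : ∀ z : Fin (d + 1) → A, (∀ i, z i = x i ∨ z i = y i) → IsSop z := by
        intro z hz
        have hz0 : z 0 = t := by
          rcases hz 0 with h | h
          · rw [h, hx0]
          · rw [h, hy0]
        refine isSop_of_quot t ht z hz0 ?_ ?_
        · intro j
          rcases hz j.succ with h | h
          · rw [h]; exact hx.1 _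
          · rw [h]; exact hym j
        · have : (fun j : Fin d => Ideal.Quotient.mk (Ideal.span {t}) (z j.succ)) =
              (fun j : Fin d => Ideal.Quotient.mk (Ideal.span {t}) (x j.succ)) := by
            funext j
            rcases hz j.succ with h | h
            · rw [h]
            · rw [h]; exact (hxy j).symm
          rw [this]
          exact isSop_quot t x hx0 hx
      have := box_connected IsSop x y hP
      exact this
    -- assemble
    have e1 : Adj u (Fin.cons t (Fin.tail u)) := by
      refine ⟨hu, htu, 0, ?_⟩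
      intro i' hi'
      induction i' using Fin.cases with
      | zero => exact absurd rfl hi'
      | succ j => rw [Fin.cons_succ]; rfl
    have e5 : Adj (Fin.cons t (Fin.tail v)) v := by
      refine ⟨htv, hv, 0, ?_⟩
      intro i' hi'
      induction i' using Fin.cases with
      | zero => exact absurd rfl hi'
      | succ j => rw [Fin.cons_succ]; rfl
    have e2 : Relation.ReflTransGen Adj (Fin.cons t (Fin.tail u) : Fin (d + 1) → A)
        (f (fun j : Fin d => mk ((Fin.cons t (Fin.tail u) : Fin (d + 1) → A) j.succ))) := by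
      refine htwo _ _ htu (Fin.cons_zero _ _) (Fin.cons_zero _ _) ?_ ?_
      · intro j
        exact (hf _ hu').1 j.succ
      · intro j
        change _ = mk ((Fin.cons t (s ∘ _) : Fin (d + 1) → A) j.succ)
        rw [Fin.cons_succ]
        exact (hs _).symm
    have hfv := hf _ hv'
    have e4 : Relation.ReflTransGen Adj
        (f (fun j : Fin d => mk ((Fin.cons t (Fin.tail v) : Fin (d + 1) → A) j.succ)))
        (Fin.cons t (Fin.tail v) : Fin (d + 1) → A) := by
      refine htwo _ _ hfv (Fin.cons_zero _ _) (Fin.cons_zero _ _) ?_ ?_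
      · intro j
        exact htv.1 j.succ
      · intro j
        change mk ((Fin.cons t (s ∘ _) : Fin (d + 1) → A) j.succ) = _
        rw [Fin.cons_succ]
        exact hs _
    exact (Relation.ReflTransGen.single e1).trans (e2.trans (hlift.trans (e4.trans
      (Relation.ReflTransGen.single e5))))

theorem exists_fin_chain {A : Type u} [CommRing A] [IsLocalRing A] {d : ℕ} {u v : Fin d → A}
    (hu : IsSop u) (hr : Relation.ReflTransGen Adj u v) :
    ∃ (m : ℕ) (w : Fin (m + 1) → Fin d → A), w 0 = u ∧ w (Fin.last m) = v ∧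
      (∀ k : Fin (m + 1), IsSop (w k)) ∧
      (∀ k : Fin m, ∃ i : Fin d, ∀ i' : Fin d, i' ≠ i → w k.castSucc i' = w k.succ i') := by
  induction hr with
  | refl => exact ⟨0, fun _ => u, rfl, rfl, fun _ => hu, fun i => i.elim0⟩
  | @tail b c' _ hbc ih =>
    obtain ⟨n, c, hc0, hcl, hcm, hcc⟩ := ih
    refine ⟨n + 1, Fin.snoc c c', ?_, ?_, ?_, ?_⟩
    · have : (0 : Fin (n + 2)) = Fin.castSucc (0 : Fin (n + 1)) := rfl
      rw [this, Fin.snoc_castSucc]
      exact hc0
    · exact Fin.snoc_last _ _
    · intro i
      induction i using Fin.lastCases with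
      | last => rw [Fin.snoc_last]; exact hbc.2.1
      | cast j => rw [Fin.snoc_castSucc]; exact hcm j
    · intro i
      induction i using Fin.lastCases with
      | last =>
        rw [Fin.succ_last, Fin.snoc_last, Fin.snoc_castSucc, hcl]
        exact hbc.2.2
      | cast j =>
        have e1 : (Fin.snoc c c' : Fin (n + 2) → Fin d → A) (Fin.castSucc (Fin.castSucc j)) =
            c (Fin.castSucc j) := Fin.snoc_castSucc (α := fun _ => Fin d → A) c' c _
        have e2 : (Fin.snoc c c' : Fin (n + 2) → Fin d → A) (Fin.succ (Fin.castSucc j)) =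
            c (Fin.succ j) := by
          rw [← Fin.castSucc_succ]
          exact Fin.snoc_castSucc (α := fun _ => Fin d → A) c' c _
        rw [e1, e2]
        exact hcc j

end main

/-- Suppose A is a Cohen–Macaulay local ring whose Krull dimension is d, and consider two systems of
parameters u = (u_1, ..., u_d) and v = (v_1, ..., v_d) of A (that is, d-tuples of elements of the
maximal ideal m such that the ideal they generate has radical m). Then one can find a finite
sequence w_0 = u, w_1, ..., w_m = v, each term a system of parameters of A, where w_{k+1} arises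
from w_k by altering just one coordinate. -/
theorem result (A : Type u) [CommRing A] [LocCoh.IsCohenMacaulayLocalRing A]
    (d : ℕ) (hd : ringKrullDim A = d) (u v : Fin d → A)
    (hu : ∀ i, u i ∈ IsLocalRing.maximalIdeal A) (hu' : IsLocalRing.maximalIdeal A ≤ (Ideal.span (Set.range u)).radical)
    (hv : ∀ i, v i ∈ IsLocalRing.maximalIdeal A) (hv' : IsLocalRing.maximalIdeal A ≤ (Ideal.span (Set.range v)).radical) :
    ∃ (m : ℕ) (w : Fin (m + 1) → Fin d → A), w 0 = u ∧ w (Fin.last m) = v ∧
      (∀ k : Fin (m + 1), (∀ i, w k i ∈ IsLocalRing.maximalIdeal A) ∧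
        IsLocalRing.maximalIdeal A ≤ (Ideal.span (Set.range (w k))).radical) ∧
      (∀ k : Fin m, ∃ i : Fin d, ∀ i' : Fin d, i' ≠ i → w k.castSucc i' = w k.succ i') := by
  have hU : IsSop u := ⟨hu, hu'⟩
  have hV : IsSop v := ⟨hv, hv'⟩
  obtain ⟨m, w, h0, hl, hs, hc⟩ := exists_fin_chain hU (chain d A u v hU hV)
  exact ⟨m, w, h0, hl, fun k => hs k, hc⟩

end Groth.Agent.S8586
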