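import Groth.Statements.S8604
import Groth.Agent.Lib.helper13.PLinear

set_option autoImplicit false
universe u
open CAlg

namespace Groth.Agent.S8604

/-- Over an algebraically closed field: let k be an algebraically closed field of characteristic p > 0,
V a finite-dimensional k-vector space and F : V -> V a p-linear endomorphism (additive with F(a·v) =
a^p·F(v)). Let V^F be the set of vectors fixed by F (an F_p-subspace), V_0 the k-span of V^F and V_n
the k-span of the vectors killed by some iterate of F (these already form an F-stable subspace on
which F is nilpotent). Then V = V_0 ⊕ V_n, and V^F ⊗ k -> V_0 is bijective in the sense that any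
finitely many F-fixed vectors linearly independent over Z/p (every vanishing integer combination has
all coefficients divisible by p) are linearly independent over k. (The published statement asserts
this decomposition, with V^F ⊗ k ≅ V_0, for every PERFECT field k; that is false when k is not
separably closed — for k = Z/3, V = k and F = multiplication by 2 there are no nonzero fixed vectors
although F is bijective — and the decomposition is stated here over an algebraically closed field,
the case in which it holds.) -/
theorem result (p : ℕ) [Fact p.Prime] (k : Type u) [Field k]
    [IsAlgClosed k] [CharP k p] (V : Type u) [AddCommGroup V] [Module k V] [FiniteDimensional k V]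
    (F : V →+ V) (hF : ∀ (a : k) (v : V), F (a • v) = a ^ p • F v) :
    IsCompl (Submodule.span k {v : V | F v = v})
        (Submodule.span k {v : V | ∃ m : ℕ, (⇑F)^[m] v = 0}) ∧
      ∀ (s : Finset V), (∀ v ∈ s, F v = v) →
        (∀ c : s → ℤ, (∑ v : s, c v • (v : V)) = 0 → ∀ v : s, (p : ℤ) ∣ c v) →
          LinearIndependent k (fun v : s => (v : V)) := by
  classical
  let Fs : Groth.Agent.Lib.helper13.PLinear.PLin p k V :=
    { toFun := F
      map_add' := F.map_add
      map_smul' := fun a v => by simpa [frobenius_def] using hF a v }
  have hcoe : (⇑Fs : V → V) = ⇑F := rfl
  constructor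
  · have h1 := Groth.Agent.Lib.helper13.PLinear.fix_inf_nil Fs
    have h2 := Groth.Agent.Lib.helper13.PLinear.fix_sup_nil (p := p) (k := k) _ V Fs rfl
    have h3 := Groth.Agent.Lib.helper13.PLinear.span_nil_eq Fs
    rw [hcoe] at h3
    rw [h3]
    exact IsCompl.of_eq h1 h2
  · intro s hs hZ
    exact Groth.Agent.Lib.helper13.PLinear.indep_of_fixed Fs (fun v : s => (v : V))
      (fun v => hs v v.2) hZ

end Groth.Agent.S8604
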