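import Groth.Statements.S8625
import Mathlib.Tactic.Group

set_option autoImplicit false
universe u
open SGA4h

namespace Groth.Agent.S8625

section
variable {G : Type u} [Group G] (F : G →* G)

theorem part_one (g : G) (h : F (F g * g⁻¹) = F g * g⁻¹) : F (g⁻¹ * F g) = g⁻¹ * F g := by
  -- set a = F g g⁻¹, so F g = a g, F a = a
  obtain ⟨a, ha⟩ : ∃ a, a = F g * g⁻¹ := ⟨_, rfl⟩
  have hFg : F g = a * g := by rw [ha]; group
  rw [← ha] at h
  rw [map_mul, map_inv, hFg, map_mul, h, hFg]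
  group

/-- the fixed subgroup -/
abbrev Fix : Subgroup G := F.eqLocus (MonoidHom.id G)

theorem lemmaA (g g' : G) (h : F (F g * g⁻¹) = F g * g⁻¹) (h' : F (F g' * g'⁻¹) = F g' * g'⁻¹)
    (hc : IsConj (⟨F g * g⁻¹, h⟩ : Fix F) ⟨F g' * g'⁻¹, h'⟩) :
    IsConj (⟨g⁻¹ * F g, part_one F g h⟩ : Fix F) ⟨g'⁻¹ * F g', part_one F g' h'⟩ := by
  rw [isConj_iff] at hc ⊢
  obtain ⟨⟨c, hcF⟩, hc⟩ := hc
  have hcF' : F c = c := hcF
  have hc' : c * (F g * g⁻¹) * c⁻¹ = F g' * g'⁻¹ := congrArg Subtype.val hc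
  obtain ⟨a, ha⟩ : ∃ a, a = F g * g⁻¹ := ⟨_, rfl⟩
  obtain ⟨a', ha'⟩ : ∃ a', a' = F g' * g'⁻¹ := ⟨_, rfl⟩
  have hFg : F g = a * g := by rw [ha]; group
  have hFg' : F g' = a' * g' := by rw [ha']; group
  rw [← ha, ← ha'] at hc'
  have hd : F (g'⁻¹ * c * g) = g'⁻¹ * c * g := by
    simp only [map_mul, map_inv, hFg, hFg', hcF', ← hc']
    group
  refine ⟨⟨g'⁻¹ * c * g, hd⟩, ?_⟩
  apply Subtype.ext
  show g'⁻¹ * c * g * (g⁻¹ * F g) * (g'⁻¹ * c * g)⁻¹ = g'⁻¹ * F g'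
  rw [hFg, hFg', ← hc']
  group

theorem lemmaB (g g' : G) (h : F (F g * g⁻¹) = F g * g⁻¹) (h' : F (F g' * g'⁻¹) = F g' * g'⁻¹)
    (hc : IsConj (⟨g⁻¹ * F g, part_one F g h⟩ : Fix F) ⟨g'⁻¹ * F g', part_one F g' h'⟩) :
    IsConj (⟨F g * g⁻¹, h⟩ : Fix F) ⟨F g' * g'⁻¹, h'⟩ := by
  rw [isConj_iff] at hc ⊢
  obtain ⟨⟨c, hcF⟩, hc⟩ := hc
  have hcF' : F c = c := hcF
  have hc' : c * (g⁻¹ * F g) * c⁻¹ = g'⁻¹ * F g' := congrArg Subtype.val hc
  obtain ⟨b, hb⟩ : ∃ b, b = g⁻¹ * F g := ⟨_, rfl⟩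
  obtain ⟨b', hb'⟩ : ∃ b', b' = g'⁻¹ * F g' := ⟨_, rfl⟩
  have hFg : F g = g * b := by rw [hb]; group
  have hFg' : F g' = g' * b' := by rw [hb']; group
  rw [← hb, ← hb'] at hc'
  have hd : F (g' * c * g⁻¹) = g' * c * g⁻¹ := by
    simp only [map_mul, map_inv, hFg, hFg', hcF', ← hc']
    group
  refine ⟨⟨g' * c * g⁻¹, hd⟩, ?_⟩
  apply Subtype.ext
  show g' * c * g⁻¹ * (F g * g⁻¹) * (g' * c * g⁻¹)⁻¹ = F g' * g'⁻¹
  rw [hFg, hFg', ← hc']
  group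

end

/-- Let G be a group with an endomorphism F, and assume the Lang map g ↦ F(g)g⁻¹ is surjective (for
instance the geometric points of a connected algebraic group over F_q with its Frobenius, where the
surjectivity is the classical result of Lang; the other Lang map g ↦ g⁻¹F(g) is then surjective too,
by g ↦ g⁻¹). Let G^F be the subgroup of fixed points of F. (i) If F(g)g⁻¹ is fixed by F then so is
g⁻¹F(g). (ii), (iii) There is a bijection of the set of conjugacy classes of G^F with itself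
sending, for every g with F(g)g⁻¹ ∈ G^F, the class of F(g)g⁻¹ to the class of g⁻¹F(g) (in particular
the latter class depends only on the former). -/
theorem result {G : Type u} [Group G] (F : G →* G)
    (hL : Function.Surjective fun g : G => F g * g⁻¹) :
    (∀ g : G, F (F g * g⁻¹) = F g * g⁻¹ → F (g⁻¹ * F g) = g⁻¹ * F g) ∧
    ∃ φ : ConjClasses ↥(F.eqLocus (MonoidHom.id G)) → ConjClasses ↥(F.eqLocus (MonoidHom.id G)),
      Function.Bijective φ ∧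
      ∀ (g : G) (h : F (F g * g⁻¹) = F g * g⁻¹) (h' : F (g⁻¹ * F g) = g⁻¹ * F g),
        φ (ConjClasses.mk (⟨F g * g⁻¹, h⟩ : ↥(F.eqLocus (MonoidHom.id G)))) =
          ConjClasses.mk (⟨g⁻¹ * F g, h'⟩ : ↥(F.eqLocus (MonoidHom.id G))) := by
  refine ⟨part_one F, ?_⟩
  -- choice of a Lang preimage
  have hex : ∀ a : Fix F, ∃ g : G, F g * g⁻¹ = a.1 := fun a => hL a.1
  choose γ hγ using hex
  have hγF : ∀ a : Fix F, F (F (γ a) * (γ a)⁻¹) = F (γ a) * (γ a)⁻¹ := by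
    intro a
    rw [hγ a]
    exact a.2
  have hγeq : ∀ a : Fix F, (⟨F (γ a) * (γ a)⁻¹, hγF a⟩ : Fix F) = a := fun a =>
    Subtype.ext (hγ a)
  let φ₀ : Fix F → ConjClasses (Fix F) := fun a =>
    ConjClasses.mk ⟨(γ a)⁻¹ * F (γ a), part_one F _ (hγF a)⟩
  have hφ₀ : ∀ a b : Fix F, IsConj a b → φ₀ a = φ₀ b := by
    intro a b hab
    apply ConjClasses.mk_eq_mk_iff_isConj.mpr
    apply lemmaA F _ _ (hγF a) (hγF b)
    rw [hγeq a, hγeq b]
    exact hab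
  let φ : ConjClasses (Fix F) → ConjClasses (Fix F) := Quotient.lift φ₀ hφ₀
  have hφmk : ∀ (g : G) (h : F (F g * g⁻¹) = F g * g⁻¹) (h' : F (g⁻¹ * F g) = g⁻¹ * F g),
      φ (ConjClasses.mk (⟨F g * g⁻¹, h⟩ : Fix F)) = ConjClasses.mk (⟨g⁻¹ * F g, h'⟩ : Fix F) := by
    intro g h h'
    show φ₀ _ = _
    apply ConjClasses.mk_eq_mk_iff_isConj.mpr
    apply lemmaA F _ _ (hγF _) h
    rw [hγeq]
  refine ⟨φ, ⟨?_, ?_⟩, hφmk⟩
  · -- injective
    intro x y hxy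
    obtain ⟨a, rfl⟩ := ConjClasses.mk_surjective x
    obtain ⟨b, rfl⟩ := ConjClasses.mk_surjective y
    have h1 : φ₀ a = φ₀ b := hxy
    have h2 := ConjClasses.mk_eq_mk_iff_isConj.mp h1
    have h3 := lemmaB F _ _ (hγF a) (hγF b) h2
    rw [hγeq a, hγeq b] at h3
    exact ConjClasses.mk_eq_mk_iff_isConj.mpr h3
  · -- surjective
    intro y
    obtain ⟨b, rfl⟩ := ConjClasses.mk_surjective y
    obtain ⟨g, hg⟩ := hL (b.1⁻¹)
    -- k = g⁻¹ satisfies k⁻¹ F k = b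
    have hb : F b.1 = b.1 := b.2
    have hk : (g⁻¹)⁻¹ * F g⁻¹ = b.1 := by
      have : F g * g⁻¹ = b.1⁻¹ := hg
      rw [map_inv, inv_inv]
      have h2 : (F g * g⁻¹)⁻¹ = b.1 := by rw [this, inv_inv]
      rw [← h2]; group
    have hFk : F g⁻¹ = g⁻¹ * b.1 := by rw [← hk]; group
    have hk1 : F (F g⁻¹ * (g⁻¹)⁻¹) = F g⁻¹ * (g⁻¹)⁻¹ := by
      rw [hFk]
      simp only [map_mul, map_inv, hb, inv_inv]
      have : F g = b.1⁻¹ * g := by
        have : F g * g⁻¹ = b.1⁻¹ := hg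
        rw [← this]; group
      rw [this]; group
    refine ⟨ConjClasses.mk ⟨F g⁻¹ * (g⁻¹)⁻¹, hk1⟩, ?_⟩
    rw [hφmk g⁻¹ hk1 (part_one F _ hk1)]
    congr 1
    exact Subtype.ext hk

end Groth.Agent.S8625
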