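import Groth.Statements.S8630
import Mathlib

set_option autoImplicit false
open Zeta

namespace Groth.Agent.S8630

open Polynomial in
/-- Core lemma: if a primitive integer polynomial `Q` times an integral power series is a nonzero
constant, then no prime divides `Q(0)`. -/
theorem core (Q : Polynomial ℤ) (hQ : Q.IsPrimitive) (p : ℕ) (hp : p.Prime) :
    ∀ (n : ℕ) (N : ℤ), N.natAbs = n → N ≠ 0 → ∀ W : PowerSeries ℤ,
      (Q : PowerSeries ℤ) * W = PowerSeries.C N → ¬ ((p : ℤ) ∣ Q.coeff 0) := by
  have : Fact p.Prime := ⟨hp⟩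
  intro n
  induction n using Nat.strong_induction_on with
  | _ n ih =>
    intro N hn hN W hW hdiv
    by_cases hpN : (p : ℤ) ∣ N
    · -- reduce mod p
      let φ : PowerSeries ℤ →+* PowerSeries (ZMod p) := PowerSeries.map (Int.castRingHom (ZMod p))
      have h1 : φ (Q : PowerSeries ℤ) * φ W = 0 := by
        rw [← map_mul, hW]
        ext k
        simp only [φ, PowerSeries.coeff_map, PowerSeries.coeff_C, map_zero]
        split_ifs
        · simpa using (ZMod.intCast_zmod_eq_zero_iff_dvd N p).mpr hpN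
        · simp
      have h2 : φ (Q : PowerSeries ℤ) ≠ 0 := by
        intro h0
        -- then p divides all coefficients of Q
        have hall : ∀ k, (p : ℤ) ∣ Q.coeff k := by
          intro k
          have := congrArg (PowerSeries.coeff k) h0
          simp only [φ, PowerSeries.coeff_map, Polynomial.coeff_coe, map_zero] at this
          exact (ZMod.intCast_zmod_eq_zero_iff_dvd _ p).mp (by simpa using this)
        have hC : Polynomial.C (p : ℤ) ∣ Q := (Polynomial.C_dvd_iff_dvd_coeff _ _).mpr hall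
        have hu := hQ _ hC
        have : ((p : ℤ)).natAbs = 1 := Int.isUnit_iff_natAbs_eq.mp hu
        simp at this
        exact hp.one_lt.ne' this
      have h3 : φ W = 0 := (mul_eq_zero.mp h1).resolve_left h2
      -- W = p W'
      have hall : ∀ k, (p : ℤ) ∣ PowerSeries.coeff k W := by
        intro k
        have := congrArg (PowerSeries.coeff k) h3
        simp only [φ, PowerSeries.coeff_map, map_zero] at this
        exact (ZMod.intCast_zmod_eq_zero_iff_dvd _ p).mp (by simpa using this)
      choose w hw using hall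
      obtain ⟨N', rfl⟩ := hpN
      have hN' : N' ≠ 0 := by
        rintro rfl
        simp at hN
      have hW' : (Q : PowerSeries ℤ) * PowerSeries.mk w = PowerSeries.C N' := by
        have hWeq : W = PowerSeries.C (p : ℤ) * PowerSeries.mk w := by
          ext k
          rw [PowerSeries.coeff_C_mul, PowerSeries.coeff_mk, hw k]
        rw [hWeq, ← mul_assoc, mul_comm _ (PowerSeries.C (p : ℤ)), mul_assoc, map_mul] at hW
        have hpne : (PowerSeries.C (p : ℤ) : PowerSeries ℤ) ≠ 0 := by
          intro h0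
          have := congrArg (PowerSeries.coeff 0) h0
          simp at this
          exact hp.ne_zero this
        exact mul_left_cancel₀ hpne hW
      have hlt : N'.natAbs < n := by
        rw [← hn, Int.natAbs_mul, Int.natAbs_natCast]
        have : 0 < N'.natAbs := Int.natAbs_pos.mpr hN'
        nlinarith [hp.two_le]
      exact ih _ hlt N' rfl hN' _ hW' hdiv
    · -- compare constant coefficients
      have := congrArg PowerSeries.constantCoeff hW
      rw [map_mul, PowerSeries.constantCoeff_C] at this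
      have h5 : PowerSeries.constantCoeff (Q : PowerSeries ℤ) = Q.coeff 0 := by
        rw [← PowerSeries.coeff_zero_eq_constantCoeff_apply, Polynomial.coeff_coe]
      rw [h5] at this
      apply hpN
      rw [← this]
      exact Dvd.dvd.mul_right hdiv _

/-- coercion of polynomials to power series commutes with `map`. -/
theorem coe_map_eq {R S : Type*} [CommRing R] [CommRing S] (f : R →+* S) (p : Polynomial R) :
    ((p.map f : Polynomial S) : PowerSeries S) = PowerSeries.map f (p : PowerSeries R) := by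
  ext n
  simp [Polynomial.coeff_coe]

theorem int_isUnit_of_no_prime_dvd (b : ℤ) (hb : b ≠ 0) (h : ∀ p : ℕ, p.Prime → ¬ ((p : ℤ) ∣ b)) :
    b * b = 1 := by
  have h1 : b.natAbs = 1 := by
    by_contra hne
    obtain ⟨p, hp, hpd⟩ := Nat.exists_prime_and_dvd hne
    exact h p hp (Int.natCast_dvd.mpr hpd)
  rcases Int.natAbs_eq b with hb' | hb' <;> rw [hb', h1] <;> norm_num

/-- Fatou's lemma: let P, Q ∈ ℚ[T] be coprime with constant coefficient 1, and suppose the power series
P/Q has integer coefficients, i.e. P = Q·Z in ℚ⟦T⟧ for a power series Z with coefficients in ℤ. Then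
P and Q have integer coefficients. -/
theorem result (P Q : Polynomial ℚ)
    (hPQ : IsCoprime P Q) (hP : P.coeff 0 = 1) (hQ : Q.coeff 0 = 1) (Z : PowerSeries ℤ)
    (hZ : (P : PowerSeries ℚ) = (Q : PowerSeries ℚ) * PowerSeries.map (Int.castRingHom ℚ) Z) :
    (∃ P₀ : Polynomial ℤ, P₀.map (Int.castRingHom ℚ) = P) ∧
      ∃ Q₀ : Polynomial ℤ, Q₀.map (Int.castRingHom ℚ) = Q := by
  obtain ⟨U, V, hUV⟩ := hPQ
  have hQne : Q ≠ 0 := by
    rintro rfl
    simp at hQ
  -- integer normalizations
  obtain ⟨b, hb, hQ1⟩ := IsLocalization.integerNormalization_spec (nonZeroDivisors ℤ) Q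
  obtain ⟨a, ha, hU1⟩ := IsLocalization.integerNormalization_spec (nonZeroDivisors ℤ) U
  obtain ⟨c, hc, hV1⟩ := IsLocalization.integerNormalization_spec (nonZeroDivisors ℤ) V
  set Q₁ := IsLocalization.integerNormalization (nonZeroDivisors ℤ) Q with hQ₁def
  set U₁ := IsLocalization.integerNormalization (nonZeroDivisors ℤ) U with hU₁def
  set V₁ := IsLocalization.integerNormalization (nonZeroDivisors ℤ) V with hV₁def
  have hb0 : b ≠ 0 := nonZeroDivisors.ne_zero hb
  have ha0 : a ≠ 0 := nonZeroDivisors.ne_zero ha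
  have hc0 : c ≠ 0 := nonZeroDivisors.ne_zero hc
  have halg : algebraMap ℤ ℚ = Int.castRingHom ℚ := rfl
  rw [halg] at hQ1 hU1 hV1
  have hsm : ∀ (z : ℤ) (R : Polynomial ℚ), z • R = Polynomial.C (z : ℚ) * R := by
    intro z R
    rw [zsmul_eq_mul, ← map_intCast (Polynomial.C : ℚ →+* Polynomial ℚ)]
  rw [hsm] at hQ1 hU1 hV1
  -- primitive part
  set g := Q₁.content with hg
  set Q₂ := Q₁.primPart with hQ₂
  have hQ₁eq : Q₁ = Polynomial.C g * Q₂ := Polynomial.eq_C_content_mul_primPart Q₁
  have hprim : Q₂.IsPrimitive := Polynomial.isPrimitive_primPart Q₁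
  have hcoeff0 : Q₁.coeff 0 = b := by
    have := congrArg (fun q => Polynomial.coeff q 0) hQ1
    simp only [Polynomial.coeff_map, Polynomial.coeff_C_mul, hQ, eq_intCast, mul_one] at this
    exact_mod_cast this
  set b₂ := Q₂.coeff 0 with hb₂
  have hbg : b = g * b₂ := by
    rw [← hcoeff0, hQ₁eq, Polynomial.coeff_C_mul]
  have hg0 : g ≠ 0 := by
    rintro h0
    rw [h0, zero_mul] at hbg
    exact hb0 hbg
  have hb₂0 : b₂ ≠ 0 := by
    rintro h0
    rw [h0, mul_zero] at hbg
    exact hb0 hbg
  have hQ2 : Q₂.map (Int.castRingHom ℚ) = Polynomial.C (b₂ : ℚ) * Q := by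
    have h1 : (Polynomial.C (g : ℚ)) * Q₂.map (Int.castRingHom ℚ) =
        (Polynomial.C (g : ℚ)) * (Polynomial.C (b₂ : ℚ) * Q) := by
      have : Q₁.map (Int.castRingHom ℚ) = Polynomial.C (g : ℚ) * Q₂.map (Int.castRingHom ℚ) := by
        rw [hQ₁eq, Polynomial.map_mul, Polynomial.map_C]
        simp
      rw [← this, hQ1, hbg]
      simp only [Int.cast_mul, map_mul]
      ring
    have hCg : (Polynomial.C (g : ℚ)) ≠ 0 := by
      simpa using hg0
    exact mul_left_cancel₀ hCg h1
  -- the power series identity over ℤ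
  let W : PowerSeries ℤ := PowerSeries.C c * (U₁ : PowerSeries ℤ) * Z +
    PowerSeries.C a * (V₁ : PowerSeries ℤ)
  let N : ℤ := a * c * b₂
  have hN0 : N ≠ 0 := mul_ne_zero (mul_ne_zero ha0 hc0) hb₂0
  have hmain : (Q₂ : PowerSeries ℤ) * W = PowerSeries.C N := by
    apply PowerSeries.map_injective (Int.castRingHom ℚ) Int.cast_injective
    simp only [W, N, map_mul, map_add, ← coe_map_eq, hQ2, hU1, hV1, PowerSeries.map_C]
    have hUV' : (U : PowerSeries ℚ) * (P : PowerSeries ℚ) + (V : PowerSeries ℚ) * (Q : PowerSeries ℚ)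
        = 1 := by
      rw [← Polynomial.coe_mul, ← Polynomial.coe_mul, ← Polynomial.coe_add, hUV, Polynomial.coe_one]
    simp only [Polynomial.coe_mul, Polynomial.coe_C,
      eq_intCast, Int.cast_mul, map_mul]
    have hZ' := hZ
    calc (PowerSeries.C (b₂ : ℚ) * (Q : PowerSeries ℚ)) *
          (PowerSeries.C (c : ℚ) * (PowerSeries.C ((a : ℤ) : ℚ) * (U : PowerSeries ℚ)) *
              PowerSeries.map (Int.castRingHom ℚ) Z +
            PowerSeries.C (a : ℚ) * (PowerSeries.C ((c : ℤ) : ℚ) * (V : PowerSeries ℚ)))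
        = PowerSeries.C (a : ℚ) * PowerSeries.C (c : ℚ) * PowerSeries.C (b₂ : ℚ) *
            ((U : PowerSeries ℚ) * ((Q : PowerSeries ℚ) * PowerSeries.map (Int.castRingHom ℚ) Z) +
              (V : PowerSeries ℚ) * (Q : PowerSeries ℚ)) := by ring
      _ = PowerSeries.C (a : ℚ) * PowerSeries.C (c : ℚ) * PowerSeries.C (b₂ : ℚ) := by
          rw [← hZ', hUV', mul_one]
  have hunit : b₂ * b₂ = 1 := by
    apply int_isUnit_of_no_prime_dvd b₂ hb₂0
    intro p hp
    exact core Q₂ hprim p hp N.natAbs N rfl hN0 W hmain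
  -- Q is integral
  have hQ₀ : (Polynomial.C b₂ * Q₂).map (Int.castRingHom ℚ) = Q := by
    rw [Polynomial.map_mul, Polynomial.map_C, hQ2, ← mul_assoc,
      ← map_mul]
    have : ((Int.castRingHom ℚ) b₂ * (b₂ : ℚ)) = 1 := by
      have := congrArg (fun z : ℤ => (z : ℚ)) hunit
      simpa using this
    rw [this, map_one, one_mul]
  refine ⟨?_, ⟨_, hQ₀⟩⟩
  -- P is integral
  rw [← Polynomial.mem_lifts, Polynomial.lifts_iff_coeff_lifts]
  intro n
  refine ⟨PowerSeries.coeff n (((Polynomial.C b₂ * Q₂ : Polynomial ℤ) : PowerSeries ℤ) * Z), ?_⟩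
  have h1 : PowerSeries.map (Int.castRingHom ℚ)
      (((Polynomial.C b₂ * Q₂ : Polynomial ℤ) : PowerSeries ℤ) * Z) = (P : PowerSeries ℚ) := by
    rw [map_mul, ← coe_map_eq, hQ₀, hZ]
  have h2 := congrArg (PowerSeries.coeff n) h1
  rw [PowerSeries.coeff_map, Polynomial.coeff_coe] at h2
  exact h2

end Groth.Agent.S8630
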