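import Groth.Statements.S8637
import Mathlib.Tactic

set_option autoImplicit false
open Zeta

namespace Groth.Agent.S8637

theorem coeff_mul_nonneg (f g : PowerSeries ℝ) (hf : ∀ n, 0 ≤ PowerSeries.coeff n f)
    (hg : ∀ n, 0 ≤ PowerSeries.coeff n g) (n : ℕ) : 0 ≤ PowerSeries.coeff n (f * g) := by
  rw [PowerSeries.coeff_mul]
  exact Finset.sum_nonneg fun p _ => mul_nonneg (hf _) (hg _)

theorem coeff_prod_nonneg {ι : Type} (s : Finset ι) (f : ι → PowerSeries ℝ)
    (hpos : ∀ i ∈ s, ∀ n : ℕ, 0 ≤ PowerSeries.coeff n (f i)) (n : ℕ) :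
    0 ≤ PowerSeries.coeff n (∏ j ∈ s, f j) := by
  classical
  induction s using Finset.induction_on generalizing n with
  | empty =>
    simp only [Finset.prod_empty, PowerSeries.coeff_one]
    split_ifs <;> norm_num
  | insert a s ha ih =>
    rw [Finset.prod_insert ha]
    exact coeff_mul_nonneg _ _ (hpos a (Finset.mem_insert_self a s))
      (fun m => ih (fun i hi => hpos i (Finset.mem_insert_of_mem hi)) m) n

theorem le_coeff_mul (f g : PowerSeries ℝ) (hf : ∀ n, 0 ≤ PowerSeries.coeff n f)
    (hg : ∀ n, 0 ≤ PowerSeries.coeff n g) (hg0 : PowerSeries.constantCoeff g = 1) (n : ℕ) :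
    PowerSeries.coeff n f ≤ PowerSeries.coeff n (f * g) := by
  rw [PowerSeries.coeff_mul]
  have hmem : (n, 0) ∈ Finset.antidiagonal n := by simp
  have h1 : PowerSeries.coeff n f = PowerSeries.coeff (n, 0).1 f * PowerSeries.coeff (n, 0).2 g := by
    simp only [PowerSeries.coeff_zero_eq_constantCoeff_apply, hg0, mul_one]
  rw [h1]
  exact Finset.single_le_sum (f := fun p : ℕ × ℕ => PowerSeries.coeff p.1 f * PowerSeries.coeff p.2 g)
    (fun p _ => mul_nonneg (hf _) (hg _)) hmem

/-- First assertion, for a finite family: let (f_i) be finitely many formal power series with real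
coefficients, each with constant term 1 and all coefficients ≥ 0, and let f be their product. Then
for every i and every n the n-th coefficient of f_i is at most the n-th coefficient of f (so the
radius of absolute convergence of f_i is at least that of f). (Stated for a finite family; for an
infinite product whose factors f_i - 1 have orders tending to infinity each coefficient is that of a
finite sub-product, so the same inequality holds.) -/
theorem result {ι : Type} (s : Finset ι) (f : ι → PowerSeries ℝ)
    (h0 : ∀ i ∈ s, PowerSeries.constantCoeff (f i) = 1)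
    (hpos : ∀ i ∈ s, ∀ n : ℕ, 0 ≤ PowerSeries.coeff n (f i)) (i : ι) (hi : i ∈ s) (n : ℕ) :
    PowerSeries.coeff n (f i) ≤ PowerSeries.coeff n (∏ j ∈ s, f j) := by
  classical
  rw [← Finset.mul_prod_erase s f hi]
  apply le_coeff_mul _ _ (hpos i hi)
  · intro m
    exact coeff_prod_nonneg _ _ (fun j hj => hpos j (Finset.mem_of_mem_erase hj)) m
  · rw [map_prod]
    exact Finset.prod_eq_one fun j hj => h0 j (Finset.mem_of_mem_erase hj)

end Groth.Agent.S8637
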