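import Groth.Statements.S8650
import Groth.Agent.Lib.helper13.LamSeries

set_option autoImplicit false
universe u
open Finset
open LambdaRing

namespace Groth.Agent.S8650

open Groth.Agent.Lib.helper13.Lam

/-- if `b = a * (1 + X)` as power series then the alternating partial sums of `b` telescope. -/
theorem alt_sum_of_mul_one_add_X {K : Type u} [CommRing K] (a b : PowerSeries K)
    (hab : b = a * (1 + PowerSeries.X)) (m : ℕ) :
    ∑ i ∈ range (m + 1), (-1 : K) ^ i * PowerSeries.coeff i b = (-1 : K) ^ m * PowerSeries.coeff m a := by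
  induction m with
  | zero =>
    simp [hab]
  | succ m ih =>
    rw [Finset.sum_range_succ, ih]
    have : PowerSeries.coeff (m + 1) b = PowerSeries.coeff (m + 1) a + PowerSeries.coeff m a := by
      rw [hab, mul_add, mul_one, map_add, PowerSeries.coeff_succ_mul_X]
    rw [this, pow_succ]
    ring

/-- Let K be a pre-λ-ring (λ^0 = 1, λ^1 = id, additive formula) in which λ^k(1) = 0 for all k ≥ 2. Then
for every x ∈ K and every n, λ^n(x + n − 1) = (−1)^n Σ_{i=0}^{n} (−1)^i λ^i(x + n). (The published
statement is for a λ-ring; its proof uses only additivity and λ_t(1) = 1 + t, the hypotheses taken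
here.) -/
theorem result (K : Type u) [CommRing K] [LambdaRing.LambdaOps K]
    (h1 : ∀ k : ℕ, 2 ≤ k → LambdaRing.LambdaOps.lam k (1 : K) = 0) (n : ℕ) (x : K) :
    LambdaRing.LambdaOps.lam n (x + (n : K) - 1) =
      (-1 : K) ^ n * ∑ i ∈ range (n + 1), (-1 : K) ^ i * LambdaRing.LambdaOps.lam i (x + (n : K)) := by
  have hab : lamSeries (x + (n : K)) = lamSeries (x + (n : K) - 1) * (1 + PowerSeries.X) := by
    rw [← lamSeries_one h1, ← lamSeries_add]
    congr 1
    ring
  have := alt_sum_of_mul_one_add_X _ _ hab n
  simp only [coeff_lamSeries] at this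
  rw [this, ← mul_assoc, ← pow_add, ← two_mul, pow_mul]
  simp

end Groth.Agent.S8650
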