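import Groth.Statements.S8666
import Mathlib
-- import your own Groth.Agent.* helpers here

set_option autoImplicit false
set_option linter.style.haveILetI false
universe u
open CAlg

namespace Groth.Agent.S8666

/-- The localization of `A` at the complement of a finite union of primes is semilocal. -/
theorem finite_maximalSpectrum_localization (A : Type u) [CommRing A] (ι : Type) [Fintype ι]
    (p : ι → PrimeSpectrum A) :
    Finite (MaximalSpectrum (Localization (⨅ i, (p i).asIdeal.primeCompl))) := by
  classical
  set S : Submonoid A := ⨅ i, (p i).asIdeal.primeCompl with hS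
  let A' := Localization S
  have hSle : ∀ i, S ≤ (p i).asIdeal.primeCompl := fun i => iInf_le _ i
  have hdisj : ∀ i, Disjoint (S : Set A) ((p i).asIdeal : Set A) := by
    intro i
    rw [Set.disjoint_left]
    intro a ha hap
    exact hSle i ha hap
  have key : ∀ m : MaximalSpectrum A', ∃ i : ι,
      m.asIdeal = (p i).asIdeal.map (algebraMap A A') := by
    intro m
    haveI := m.isMaximal
    haveI : m.asIdeal.IsPrime := m.isMaximal.isPrime
    set q : Ideal A := m.asIdeal.comap (algebraMap A A') with hq
    haveI : q.IsPrime := Ideal.comap_isPrime _ _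
    have hqS : Disjoint (S : Set A) (q : Set A) := by
      rw [Set.disjoint_left]
      intro a ha haq
      have hu : IsUnit (algebraMap A A' a) := IsLocalization.map_units A' ⟨a, ha⟩
      exact m.isMaximal.ne_top (Ideal.eq_top_of_isUnit_mem _ haq hu)
    have hsub : (q : Set A) ⊆ ⋃ i ∈ ((Finset.univ : Finset ι) : Set ι), ((p i).asIdeal : Set A) := by
      intro a ha
      by_contra hcon
      simp only [Finset.coe_univ, Set.mem_univ, Set.iUnion_true, Set.mem_iUnion, not_exists] at hcon
      have haS : a ∈ S := by
        rw [hS, Submonoid.mem_iInf]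
        intro i
        exact hcon i
      exact Set.disjoint_left.mp hqS haS ha
    haveI hne : Nonempty ι := by
      by_contra hne
      rw [not_nonempty_iff] at hne
      have h0 : (q : Set A) ⊆ ∅ := by
        intro a ha
        exfalso
        have haS : a ∈ S := by
          rw [hS, Submonoid.mem_iInf]
          intro i
          exact isEmptyElim i
        exact Set.disjoint_left.mp hqS haS ha
      exact h0 q.zero_mem
    rw [Ideal.subset_union_prime (f := fun i => (p i).asIdeal) (Classical.arbitrary ι)
      (Classical.arbitrary ι) (fun i _ _ _ => (p i).isPrime)] at hsub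
    obtain ⟨i, _, hi⟩ := hsub
    refine ⟨i, ?_⟩
    have hprime : ((p i).asIdeal.map (algebraMap A A')).IsPrime :=
      IsLocalization.isPrime_of_isPrime_disjoint S A' _ (p i).isPrime (hdisj i)
    have hle : m.asIdeal ≤ (p i).asIdeal.map (algebraMap A A') := by
      rw [← IsLocalization.map_under S A' m.asIdeal]
      exact Ideal.map_mono hi
    exact m.isMaximal.eq_of_le hprime.ne_top hle
  choose f hf using key
  apply Finite.of_injective f
  intro m m' h
  ext1
  rw [hf m, hf m', h]


/-- Let A be a Noetherian ring, M an invertible A-module and p_1, …, p_k finitely many primes of A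
(points of Spec A). Then there is a single element s ∈ M whose image generates M_{p_i} as an
A_{p_i}-module for every i, i.e. s is a basis of the stalk of M at each of the given points. -/
theorem result (A : Type u) [CommRing A] [IsNoetherianRing A]
    (M : Type u) [AddCommGroup M] [Module A M] [Module.Invertible A M] (ι : Type) [Finite ι] (p : ι → PrimeSpectrum A) :
    ∃ s : M, ∀ i : ι, Submodule.span (Localization.AtPrime (p i).asIdeal)
      {LocalizedModule.mkLinearMap (p i).asIdeal.primeCompl M s} = ⊤ := by
  classical
  haveI : Fintype ι := Fintype.ofFinite ι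
  set S : Submonoid A := ⨅ i, (p i).asIdeal.primeCompl with hS
  have hSle : ∀ i, S ≤ (p i).asIdeal.primeCompl := fun i => iInf_le _ i
  let A' := Localization S
  let M' := LocalizedModule S M
  haveI : Finite (MaximalSpectrum A') := finite_maximalSpectrum_localization A ι p
  haveI : Module.Free A' M' := inferInstance
  obtain ⟨e⟩ := Module.Invertible.free_iff_linearEquiv.mp (inferInstance : Module.Free A' M')
  -- generator
  obtain ⟨m, s, hms⟩ : ∃ (m : M) (s : S), e.symm 1 = LocalizedModule.mk m s := by
    induction e.symm 1 using LocalizedModule.induction_on with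
    | h m s => exact ⟨m, s, rfl⟩
  have hgen : ∀ x : M, ∃ (a : A) (v : S), (v : A) • x = a • m := by
    intro x
    have h1 : (LocalizedModule.mk x 1 : M') = e (LocalizedModule.mk x 1) • e.symm 1 := by
      rw [← map_smul, smul_eq_mul, mul_one, e.symm_apply_apply]
    obtain ⟨a, s', hc⟩ := IsLocalization.exists_mk'_eq S (e (LocalizedModule.mk x 1))
    rw [← hc, hms, ← Localization.mk_eq_mk', LocalizedModule.mk_smul_mk, LocalizedModule.mk_eq] at h1
    obtain ⟨u, hu⟩ := h1
    refine ⟨u * a, u * (s' * s), ?_⟩
    simp only [one_smul, Submonoid.smul_def, Submonoid.coe_mul] at hu ⊢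
    rw [mul_smul (u : A) ((s' : A) * (s : A)) x, mul_smul (u : A) a m]
    exact hu
  refine ⟨m, fun i => ?_⟩
  rw [eq_top_iff]
  rintro y -
  induction y using LocalizedModule.induction_on with
  | h x t =>
    obtain ⟨a, v, hv⟩ := hgen x
    rw [Submodule.mem_span_singleton]
    refine ⟨Localization.mk a (⟨v, hSle i v.2⟩ * t), ?_⟩
    rw [LocalizedModule.mkLinearMap_apply, LocalizedModule.mk_smul_mk, LocalizedModule.mk_eq]
    refine ⟨1, ?_⟩
    simp only [one_smul, Submonoid.smul_def, Submonoid.coe_mul, mul_one]
    rw [mul_smul, smul_comm (v : A) (t : A) x, hv]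

end Groth.Agent.S8666
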