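import Groth.Statements.S8678
import Groth.Agent.Lib.helper13.LamSeries
import Groth.Agent.S8650
-- import your own Groth.Agent.* helpers here

set_option autoImplicit false
universe u
open Finset
open LambdaRing
open PowerSeries Groth.Agent.Lib.helper13.Lam

namespace Groth.Agent.S8678

/-- As the identity it proves in the pre-λ-ring K(Y') of the exceptional divisor: let K be a pre-λ-ring
(λ^0 = 1, λ^1 = id, additive formula) with λ^k(1) = 0 for all k ≥ 2, let d ≥ 2, and let F, L, N' ∈ K
satisfy λ^j(L) = 0 for j ≥ 2 (L is the class of an invertible module), λ^i(N') = 0 for i ≥ d − 1 (N'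
is the class of a bundle of rank d − 2) and F + L = N' + 2 (for the blowing up of a regular
immersion of codimension d: on the exceptional divisor the pulled-back conormal class is F + L, and
N = N' + 2). Then 1 − L divides λ_{−1}(F) = Σ_{i<d} (−1)^i λ^i(F). (The published proof uses only
additivity of λ_t and λ_t(1) = 1 + t, the hypotheses taken here.) -/
theorem result (K : Type u) [CommRing K] [LambdaRing.LambdaOps K]
    (h1 : ∀ k : ℕ, 2 ≤ k → LambdaRing.LambdaOps.lam k (1 : K) = 0) (d : ℕ) (hd : 2 ≤ d) (F L N' : K)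
    (hL : ∀ j : ℕ, 2 ≤ j → LambdaRing.LambdaOps.lam j L = 0) (hN' : ∀ i : ℕ, d - 1 ≤ i → LambdaRing.LambdaOps.lam i N' = 0)
    (hrel : F + L = N' + 2) :
    (1 - L) ∣ ∑ i ∈ range d, (-1 : K) ^ i * LambdaRing.LambdaOps.lam i F := by
  have hLs : lamSeries L = 1 + C L * X := by
    ext n
    rw [coeff_lamSeries]
    rcases n with _ | _ | n
    · simp [LambdaOps.lam_zero]
    · simp [LambdaOps.lam_one]
    · rw [hL (n + 2) (by omega)]
      simp [coeff_one, coeff_succ_mul_X]
  have h2 : lamSeries (2 : K) = (1 + X) ^ 2 := by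
    have := lamSeries_natCast h1 2
    simpa using this
  have hmain : lamSeries F * (1 + C L * X) = lamSeries N' * (1 + X) ^ 2 := by
    rw [← hLs, ← h2, ← lamSeries_add, ← lamSeries_add, hrel]
  let I : Ideal K := Ideal.span {1 - L}
  let q : K →+* K ⧸ I := Ideal.Quotient.mk I
  have hqL : q L = 1 := by
    have : q (1 - L) = 0 := Ideal.Quotient.eq_zero_iff_mem.mpr (Ideal.mem_span_singleton_self _)
    rw [map_sub, map_one, sub_eq_zero] at this
    exact this.symm
  have hq := congrArg (PowerSeries.map q) hmain
  rw [map_mul, map_mul, map_add, map_mul, map_one, map_C, map_X, hqL, map_pow, map_add, map_one,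
    map_X, map_one, one_mul, pow_two, ← mul_assoc] at hq
  have hunit : IsUnit (1 + X : PowerSeries (K ⧸ I)) := by
    rw [PowerSeries.isUnit_iff_constantCoeff]
    simp
  have hb : PowerSeries.map q (lamSeries F) = PowerSeries.map q (lamSeries N') * (1 + X) :=
    hunit.mul_left_injective hq
  have hd' : d = (d - 1) + 1 := by omega
  have halt := Groth.Agent.S8650.alt_sum_of_mul_one_add_X _ _ hb (d - 1)
  rw [← hd'] at halt
  simp only [coeff_map, coeff_lamSeries] at halt
  rw [hN' (d - 1) le_rfl, map_zero, mul_zero] at halt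
  have hzero : q (∑ i ∈ range d, (-1 : K) ^ i * LambdaOps.lam i F) = 0 := by
    rw [map_sum, ← halt]
    apply Finset.sum_congr rfl
    intro i _
    simp
  have hmem : (∑ i ∈ range d, (-1 : K) ^ i * LambdaOps.lam i F) ∈ I :=
    Ideal.Quotient.eq_zero_iff_mem.mp hzero
  exact Ideal.mem_span_singleton.mp hmem

end Groth.Agent.S8678
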