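import Groth.Statements.S8686
import Groth.Agent.Lib.helper13.LamSeries

set_option autoImplicit false
universe u
open LambdaRing

namespace Groth.Agent.S8686

open Groth.Agent.Lib.helper13.Lam

/-- the geometric series with alternating signs is the inverse of `1 + X`. -/
theorem one_add_X_mul_alt {K : Type u} [CommRing K] :
    (1 + PowerSeries.X : PowerSeries K) * PowerSeries.mk (fun n => (-1 : K) ^ n) = 1 := by
  ext n
  rcases n with _ | n
  · simp
  · rw [add_mul, one_mul, map_add, PowerSeries.coeff_succ_X_mul]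
    simp [PowerSeries.coeff_mk, PowerSeries.coeff_one, pow_succ]

theorem invOfUnit_one_add_X {K : Type u} [CommRing K] :
    PowerSeries.invOfUnit (1 + PowerSeries.X : PowerSeries K) 1 =
      PowerSeries.mk (fun n => (-1 : K) ^ n) := by
  have h1 : PowerSeries.invOfUnit (1 + PowerSeries.X : PowerSeries K) 1 * (1 + PowerSeries.X) = 1 :=
    PowerSeries.invOfUnit_mul _ _ (by simp)
  calc PowerSeries.invOfUnit (1 + PowerSeries.X : PowerSeries K) 1
      = PowerSeries.invOfUnit (1 + PowerSeries.X : PowerSeries K) 1 *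
          ((1 + PowerSeries.X) * PowerSeries.mk (fun n => (-1 : K) ^ n)) := by
        rw [one_add_X_mul_alt, mul_one]
    _ = PowerSeries.mk (fun n => (-1 : K) ^ n) := by rw [← mul_assoc, h1, one_mul]

/-- Let K be a pre-λ-ring with λ^n(1) = 0 for all n ≥ 2, i.e. λ_t(1) = 1 + t. Then the Adams operations,
defined for k ≥ 1 through (d/dt λ_t(x)) · λ_t(x)⁻¹ = Σ_{k ≥ 1} (−1)^{k−1} ψ^k(x) t^{k−1}, satisfy
ψ^k(1) = 1 for every k ≥ 1. (The published statement is for a λ-ring in the strict sense; this
identity uses only λ_t(1) = 1 + t, the hypothesis taken here.) -/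
theorem result (K : Type u) [CommRing K] [LambdaRing.LambdaOps K]
    (h1 : ∀ n : ℕ, 2 ≤ n → LambdaRing.LambdaOps.lam n (1 : K) = 0) (k : ℕ) (hk : 1 ≤ k) :
    LambdaRing.adamsOp k (1 : K) = 1 := by
  obtain ⟨m, rfl⟩ : ∃ m, k = m + 1 := ⟨k - 1, by omega⟩
  simp only [LambdaRing.adamsOp, LambdaRing.logDerivSeries]
  rw [lamSeries_one h1, invOfUnit_one_add_X]
  have hd : PowerSeries.derivative K (1 + PowerSeries.X : PowerSeries K) = 1 := by
    simp
  rw [hd, one_mul, PowerSeries.coeff_mk, ← pow_add, ← two_mul, pow_mul]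
  simp

end Groth.Agent.S8686
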