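import Groth.Statements.S8691
import Groth.Agent.Lib.helper13.USym

set_option autoImplicit false
universe u
open Finset
open LambdaRing

namespace Groth.Agent.S8691

/-- Let K be a λ-ring in the strict sense, d a natural number and N ∈ K with λ^i(N) = 0 for every i > d;
put λ_{−1}(N) = Σ_{i=0}^{d} (−1)^i λ^i(N). Then for every p ≥ 1 and every x ∈ K the element λ^p(x ·
λ_{−1}(N)) is divisible by λ_{−1}(N). (The published statement is for the λ-ring generated over the
integers by N and x subject to λ^i(N) = 0 for i > d, a polynomial ring; the divisibility passes to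
any λ-ring along the λ-homomorphism sending the generators to N and x, which is the substituted form
stated here.) The hypotheses hP and hQ, existence of the universal polynomials, are true statements
carried so that the identities of K can be used at every index. -/
theorem result (K : Type u) [CommRing K] [LambdaRing.LambdaOps K]
    (hK : LambdaRing.IsSpecial K)
    (hP : ∀ n : ℕ, ∃ P : MvPolynomial (Fin n ⊕ Fin n) ℤ, LambdaRing.IsMulPoly n P)
    (hQ : ∀ i j : ℕ, ∃ Q : MvPolynomial (Fin (i * j)) ℤ, LambdaRing.IsCompPoly i j Q)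
    (d : ℕ) (N : K) (hN : ∀ i : ℕ, d < i → LambdaRing.LambdaOps.lam i N = 0)
    (p : ℕ) (hp : 1 ≤ p) (x : K) :
    (∑ i ∈ range (d + 1), (-1 : K) ^ i * LambdaRing.LambdaOps.lam i N) ∣
      LambdaRing.LambdaOps.lam p (x * ∑ i ∈ range (d + 1), (-1 : K) ^ i * LambdaRing.LambdaOps.lam i N) := by
  letI : LambdaRing.LambdaOps ℤ := LambdaRing.binomialLambdaOps ℤ
  have hKb : LambdaRing.IsBinomial ℤ := fun _ _ => rfl
  have hZ : LambdaRing.IsSpecial ℤ :=
    Groth.Agent.Lib.helper13.BinomialSpecial.isSpecial_of_isBinomial ℤ hKb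
  have hKA : LambdaRing.IsLambdaAlg ℤ K := by
    intro n y
    have hy : y ∈ Groth.Agent.Lib.helper13.SubLam.lamCompat hZ hK (algebraMap ℤ K) := by
      have := intCast_mem (Groth.Agent.Lib.helper13.SubLam.lamCompat hZ hK (algebraMap ℤ K)) y
      simpa using this
    exact hy n
  let φ := Groth.Agent.Lib.helper13.USym.evU (K := ℤ) (S := Unit) (d := d) (fun _ => x) N
  have hφlam : ∀ (q : Groth.Agent.Lib.helper13.USym.UR ℤ Unit d) (n : ℕ),
      φ (LambdaRing.LambdaOps.lam n q) = LambdaRing.LambdaOps.lam n (φ q) :=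
    fun q n => Groth.Agent.Lib.helper13.USym.evU_lam hKb hK hKA (fun _ => x) N hN q n
  have hu : φ (Groth.Agent.Lib.helper13.USym.uU : Groth.Agent.Lib.helper13.USym.UR ℤ Unit d) =
      ∑ i ∈ range (d + 1), (-1 : K) ^ i * LambdaRing.LambdaOps.lam i N := by
    rw [Groth.Agent.Lib.helper13.USym.uU, Groth.Agent.Lib.helper13.USym.lamNeg, map_sum]
    refine Finset.sum_congr rfl fun i _ => ?_
    rw [map_mul, map_pow, map_neg, map_one]
    congr 1
    exact Groth.Agent.Lib.helper13.USym.evU_lam_NU (K := ℤ) (fun _ => x) N hN i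
  have hx : φ (Groth.Agent.Lib.helper13.USym.xU (K := ℤ) (d := d) ()) = x :=
    Groth.Agent.Lib.helper13.USym.evU_xU (K := ℤ) (fun _ => x) N ()
  have hdvd := Groth.Agent.Lib.helper13.USym.uU_dvd_lam
    (Groth.Agent.Lib.helper13.USym.xU (K := ℤ) (S := Unit) (d := d) ()) p hp
  have h2 := map_dvd φ hdvd
  rw [hφlam, map_mul, hx, hu] at h2
  exact h2

end Groth.Agent.S8691
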