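import Groth.Statements.S8697
import Groth.Agent.Lib.helper13.UFree

set_option autoImplicit false
universe u v
open Finset
open LambdaRing

namespace Groth.Agent.S8697

/-- Let K be a binomial ring with its binomial λ-structure and B a λ-ring in the strict sense which is
an augmented K-λ-algebra with augmentation ε. Let x ∈ B satisfy ε(x) = 0 and γ^k(x) = 0 for every k
> n, and assume that γ^1(x), …, γ^n(x) are algebraically independent over K and generate B as a
K-algebra — so B is the K-λ-algebra generated by one element subject to the relations γ^k = 0 for k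
> n, a polynomial ring K[γ^1 x, …, γ^n x]. Then for every k, the k-th ideal Fil^k B of the
γ-filtration (generated by the products of γ^{i}(z), ε(z) = 0, of total weight ≥ k) is the ideal
generated by the monomials ∏_j (γ^j x)^{e_j} with Σ_j j·e_j ≥ k: the λ-ring filtration is the
filtration by the weight in the γ^j x. (With λ in place of γ — relations λ^k x = 0 for k > n and
weights in the λ^j x — the assertion fails already for n = 1, where γ^i(x) = x for all i ≥ 1 puts x
in every Fil^k while x is not in the ideal (x²); the form with γ stated here is the one the proof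
establishes.) The hypotheses hP and hQ, existence of the universal polynomials, are true statements
carried so that the identities of B can be used at every index. -/
theorem result
    (K : Type u) [CommRing K] [LambdaRing.LambdaOps K] [BinomialRing K] (hKb : LambdaRing.IsBinomial K)
    (hK : LambdaRing.IsSpecial K)
    (B : Type v) [CommRing B] [LambdaRing.LambdaOps B] [Algebra K B] (hB : LambdaRing.IsSpecial B)
    (hP : ∀ n : ℕ, ∃ P : MvPolynomial (Fin n ⊕ Fin n) ℤ, LambdaRing.IsMulPoly n P)
    (hQ : ∀ i j : ℕ, ∃ Q : MvPolynomial (Fin (i * j)) ℤ, LambdaRing.IsCompPoly i j Q)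
    (ε : B →ₐ[K] K) (hε : LambdaRing.IsAugLambdaAlg K B ε)
    (n : ℕ) (x : B) (hx : ε x = 0) (hγ : ∀ k : ℕ, n < k → LambdaRing.gamma k x = 0)
    (hind : AlgebraicIndependent K (fun j : Fin n => LambdaRing.gamma ((j : ℕ) + 1) x))
    (hgen : Algebra.adjoin K (Set.range fun j : Fin n => LambdaRing.gamma ((j : ℕ) + 1) x) = ⊤)
    (k : ℕ) :
    LambdaRing.gammaFil (ε : B →+* K) k =
      Ideal.span {m : B | ∃ e : Fin n → ℕ, k ≤ ∑ j : Fin n, ((j : ℕ) + 1) * e j ∧
        m = ∏ j : Fin n, LambdaRing.gamma ((j : ℕ) + 1) x ^ e j} := by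
  classical
  set W : ℕ → Ideal B := fun k => Ideal.span {m : B | ∃ e : Fin n → ℕ,
    k ≤ ∑ j : Fin n, ((j : ℕ) + 1) * e j ∧
      m = ∏ j : Fin n, LambdaRing.gamma ((j : ℕ) + 1) x ^ e j} with hW
  have hWgood : Groth.Agent.Lib.helper13.UFree.GoodFil W := by
    refine ⟨?_, ?_, ?_⟩
    · intro a b
      simp only [hW]
      rw [Ideal.span_mul_span]
      apply Ideal.span_le.mpr
      rintro z ⟨y1, ⟨e, he, rfl⟩, y2, ⟨e', he', rfl⟩, rfl⟩
      refine Ideal.subset_span ⟨e + e', ?_, ?_⟩
      · have : ∑ j : Fin n, ((j : ℕ) + 1) * (e + e') j =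
            ∑ j : Fin n, ((j : ℕ) + 1) * e j + ∑ j : Fin n, ((j : ℕ) + 1) * e' j := by
          rw [← Finset.sum_add_distrib]
          refine Finset.sum_congr rfl fun j _ => ?_
          rw [Pi.add_apply, Nat.mul_add]
        rw [this]
        exact Nat.add_le_add he he'
      · beta_reduce
        rw [← Finset.prod_mul_distrib]
        refine Finset.prod_congr rfl fun j _ => ?_
        rw [Pi.add_apply, pow_add]
    · intro a b hab
      simp only [hW]
      apply Ideal.span_mono
      rintro m ⟨e, he, rfl⟩
      exact ⟨e, hab.trans he, rfl⟩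
    · simp only [hW]
      rw [Ideal.eq_top_iff_one]
      exact Ideal.subset_span ⟨0, Nat.zero_le _, by simp⟩
  apply le_antisymm
  · have hsurj : Function.Surjective
        (Groth.Agent.Lib.helper13.UFree.evA (K := K) (fun _ : Unit => x)) := by
      rw [← AlgHom.range_eq_top, eq_top_iff, ← hgen]
      apply Algebra.adjoin_le
      rintro _ ⟨j, rfl⟩
      refine ⟨LambdaRing.gamma ((j : ℕ) + 1) (Groth.Agent.Lib.helper13.UFree.xg K Unit ()), ?_⟩
      change Groth.Agent.Lib.helper13.UFree.evA (K := K) (fun _ : Unit => x)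
        (LambdaRing.gamma ((j : ℕ) + 1) (Groth.Agent.Lib.helper13.UFree.xg K Unit ())) =
          LambdaRing.gamma ((j : ℕ) + 1) x
      rw [Groth.Agent.Lib.helper13.UFree.evA_gamma hKb hB ε hε,
        Groth.Agent.Lib.helper13.UFree.evA_xg]
    refine Groth.Agent.Lib.helper13.UFree.gammaFil_le_good hKb hB ε hε (fun _ : Unit => x)
      (fun _ => hx) hsurj hWgood ?_ k
    intro _ j
    by_cases hj : j < n
    · simp only [hW]
      refine Ideal.subset_span ⟨Pi.single ⟨j, hj⟩ 1, ?_, ?_⟩
      · rw [Finset.sum_eq_single (⟨j, hj⟩ : Fin n)]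
        · simp
        · intro b _ hb
          simp [hb]
        · intro h
          exact absurd (Finset.mem_univ _) h
      · rw [Finset.prod_eq_single (⟨j, hj⟩ : Fin n)]
        · simp
        · intro b _ hb
          simp [hb]
        · intro h
          exact absurd (Finset.mem_univ _) h
    · rw [hγ (j + 1) (by omega)]
      exact Ideal.zero_mem _
  · apply Ideal.span_le.mpr
    rintro m ⟨e, he, rfl⟩
    have h1 := Groth.Agent.Lib.helper13.GammaBasic.prod_mem_gammaFil (ε : B →+* K)
      (Finset.univ : Finset (Fin n)) (fun j => LambdaRing.gamma ((j : ℕ) + 1) x ^ e j)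
      (fun j => ((j : ℕ) + 1) * e j)
      (fun j _ => Groth.Agent.Lib.helper13.GammaBasic.pow_mem_gammaFil (ε : B →+* K)
        (Groth.Agent.Lib.helper13.GammaBasic.gamma_mem_gammaFil (ε : B →+* K) hx ((j : ℕ) + 1))
        (e j))
    exact Groth.Agent.Lib.helper13.GammaBasic.gammaFil_anti (ε : B →+* K) he h1

end Groth.Agent.S8697
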