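import Groth.Statements.S8698
import Groth.Agent.Lib.helper13.UFree

set_option autoImplicit false
universe u v w
open Finset
open LambdaRing

namespace Groth.Agent.S8698

/-- Let K be a binomial ring with its binomial λ-structure, A a λ-ring in the strict sense which is an
augmented K-λ-algebra with augmentation ε_A, and B a λ-ring in the strict sense which is at once an
augmented K-λ-algebra with augmentation ε_B and an A-algebra compatibly with the K-structures, the
structure map A → B commuting with the λ^n and ε_B restricting to ε_A on A. Let x ∈ B with ε_B(x) =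
0, and assume that the family (γ^{j+1} x)_{j ∈ ℕ} is algebraically independent over A and generates
B as an A-algebra: B is the free λ-ring A[X, γ^2 X, γ^3 X, …] on one generator over A, augmented by
X ↦ 0. Then for every k the k-th ideal Fil^k B of the γ-filtration of B is the ideal generated by
the products a · m where m = ∏_j (γ^{j+1} x)^{e_j} is a monomial of weight i = Σ_j (j+1) e_j and a
lies in (the image of) Fil^{k−i} A, with Fil^s A = A for s ≤ 0; that is, Fil^k B = Fil^k A +
Fil^{k−1} A·M_1 + ⋯ + Fil^0 A·M_k + (monomials of weight > k), M_i denoting the monomials of weight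
i. The hypotheses hP and hQ, existence of the universal polynomials, are true statements carried so
that the identities of A and B can be used at every index. -/
theorem result
    (K : Type u) [CommRing K] [LambdaRing.LambdaOps K] [BinomialRing K] (hKb : LambdaRing.IsBinomial K)
    (hK : LambdaRing.IsSpecial K)
    (A : Type v) [CommRing A] [LambdaRing.LambdaOps A] [Algebra K A] (hA : LambdaRing.IsSpecial A)
    (εA : A →ₐ[K] K) (hεA : LambdaRing.IsAugLambdaAlg K A εA)
    (B : Type w) [CommRing B] [LambdaRing.LambdaOps B] [Algebra K B] [Algebra A B] [IsScalarTower K A B]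
    (hB : LambdaRing.IsSpecial B) (hAB : LambdaRing.IsLambdaAlg A B)
    (εB : B →ₐ[K] K) (hεB : LambdaRing.IsAugLambdaAlg K B εB) (hεAB : ∀ a : A, εB (algebraMap A B a) = εA a)
    (hP : ∀ n : ℕ, ∃ P : MvPolynomial (Fin n ⊕ Fin n) ℤ, LambdaRing.IsMulPoly n P)
    (hQ : ∀ i j : ℕ, ∃ Q : MvPolynomial (Fin (i * j)) ℤ, LambdaRing.IsCompPoly i j Q)
    (x : B) (hx : εB x = 0)
    (hind : AlgebraicIndependent A (fun j : ℕ => LambdaRing.gamma (j + 1) x))
    (hgen : Algebra.adjoin A (Set.range fun j : ℕ => LambdaRing.gamma (j + 1) x) = ⊤)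
    (k : ℕ) :
    LambdaRing.gammaFil (εB : B →+* K) k =
      Ideal.span {b : B | ∃ (e : ℕ →₀ ℕ) (a : A),
        a ∈ LambdaRing.gammaFil (εA : A →+* K) (k - e.sum fun j n => (j + 1) * n) ∧
        b = algebraMap A B a * e.prod fun j n => LambdaRing.gamma (j + 1) x ^ n} := by
  classical
  have hγAB : ∀ (i : ℕ) (a : A), algebraMap A B (LambdaRing.gamma i a) =
      LambdaRing.gamma i (algebraMap A B a) := fun i a =>
    Groth.Agent.Lib.helper13.GammaBasic.map_gamma (algebraMap A B) a (fun n => hAB n a) i
  set V : ℕ → Ideal B := fun k => Ideal.span {b : B | ∃ (e : ℕ →₀ ℕ) (a : A),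
        a ∈ LambdaRing.gammaFil (εA : A →+* K) (k - e.sum fun j n => (j + 1) * n) ∧
        b = algebraMap A B a * e.prod fun j n => LambdaRing.gamma (j + 1) x ^ n} with hV
  have hVgood : Groth.Agent.Lib.helper13.UFree.GoodFil V := by
    refine ⟨?_, ?_, ?_⟩
    · intro a b
      simp only [hV]
      rw [Ideal.span_mul_span]
      apply Ideal.span_le.mpr
      rintro z ⟨y1, ⟨e, c, hc, rfl⟩, y2, ⟨e', c', hc', rfl⟩, rfl⟩
      refine Ideal.subset_span ⟨e + e', c * c', ?_, ?_⟩
      · have hw : ((e + e').sum fun j n => (j + 1) * n) =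
            (e.sum fun j n => (j + 1) * n) + (e'.sum fun j n => (j + 1) * n) :=
          Finsupp.sum_add_index' (fun j => Nat.mul_zero _) (fun j m₁ m₂ => Nat.mul_add _ _ _)
        rw [hw]
        refine Groth.Agent.Lib.helper13.GammaBasic.gammaFil_anti (εA : A →+* K) ?_
          (Groth.Agent.Lib.helper13.GammaBasic.mul_mem_gammaFil (εA : A →+* K) hc hc')
        omega
      · beta_reduce
        rw [Finsupp.prod_add_index' (fun j => pow_zero _) (fun j m₁ m₂ => pow_add _ _ _), map_mul]
        ring
    · intro a b hab
      simp only [hV]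
      apply Ideal.span_mono
      rintro m ⟨e, c, hc, rfl⟩
      exact ⟨e, c, Groth.Agent.Lib.helper13.GammaBasic.gammaFil_anti (εA : A →+* K)
        (Nat.sub_le_sub_right hab _) hc, rfl⟩
    · simp only [hV]
      rw [Ideal.eq_top_iff_one]
      refine Ideal.subset_span ⟨0, 1, ?_, by simp⟩
      simp only [Finsupp.sum_zero_index, Nat.sub_zero]
      exact Groth.Agent.Lib.helper13.GammaBasic.one_mem_gammaFil_zero (εA : A →+* K)
  apply le_antisymm
  · let f : ({a : A // εA a = 0} ⊕ Unit) → B :=
      Sum.elim (fun a => algebraMap A B a.1) (fun _ => x)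
    have hf : ∀ s, εB (f s) = 0 := by
      rintro (a | _)
      · simp only [f, Sum.elim_inl]
        rw [hεAB, a.2]
      · exact hx
    have hsurj : Function.Surjective (Groth.Agent.Lib.helper13.UFree.evA (K := K) f) := by
      intro b
      have hb : b ∈ Algebra.adjoin A (Set.range fun j : ℕ => LambdaRing.gamma (j + 1) x) := by
        rw [hgen]; trivial
      have key : b ∈ (Groth.Agent.Lib.helper13.UFree.evA (K := K) f).range := by
        induction hb using Algebra.adjoin_induction with
        | mem y hy =>
          obtain ⟨j, rfl⟩ := hy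
          refine ⟨LambdaRing.gamma (j + 1)
            (Groth.Agent.Lib.helper13.UFree.xg K _ (Sum.inr ())), ?_⟩
          change Groth.Agent.Lib.helper13.UFree.evA (K := K) f (LambdaRing.gamma (j + 1)
            (Groth.Agent.Lib.helper13.UFree.xg K _ (Sum.inr ()))) = LambdaRing.gamma (j + 1) x
          rw [Groth.Agent.Lib.helper13.UFree.evA_gamma hKb hB εB hεB,
            Groth.Agent.Lib.helper13.UFree.evA_xg]
          rfl
        | algebraMap a =>
          have h0 : εA (a - algebraMap K A (εA a)) = 0 := by
            rw [map_sub, εA.commutes]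
            simp
          have e : algebraMap A B a = algebraMap K B (εA a) +
              algebraMap A B (a - algebraMap K A (εA a)) := by
            rw [map_sub, ← IsScalarTower.algebraMap_apply]
            ring
          rw [e]
          refine Subalgebra.add_mem _ (Subalgebra.algebraMap_mem _ _) ?_
          refine ⟨Groth.Agent.Lib.helper13.UFree.xg K _
            (Sum.inl ⟨a - algebraMap K A (εA a), h0⟩), ?_⟩
          change Groth.Agent.Lib.helper13.UFree.evA (K := K) f
            (Groth.Agent.Lib.helper13.UFree.xg K _ (Sum.inl ⟨a - algebraMap K A (εA a), h0⟩)) = _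
          rw [Groth.Agent.Lib.helper13.UFree.evA_xg]
          rfl
        | add y z _ _ hy hz => exact Subalgebra.add_mem _ hy hz
        | mul y z _ _ hy hz => exact Subalgebra.mul_mem _ hy hz
      exact key
    refine Groth.Agent.Lib.helper13.UFree.gammaFil_le_good hKb hB εB hεB f hf hsurj hVgood ?_ k
    rintro (a | _) j
    · simp only [f, Sum.elim_inl, hV]
      refine Ideal.subset_span ⟨0, LambdaRing.gamma (j + 1) a.1, ?_, ?_⟩
      · simp only [Finsupp.sum_zero_index, Nat.sub_zero]
        exact Groth.Agent.Lib.helper13.GammaBasic.gamma_mem_gammaFil (εA : A →+* K) a.2 (j + 1)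
      · rw [hγAB]
        simp
    · simp only [f, Sum.elim_inr, hV]
      refine Ideal.subset_span ⟨Finsupp.single j 1, 1, ?_, ?_⟩
      · rw [Finsupp.sum_single_index (h := fun j n => (j + 1) * n) (Nat.mul_zero _)]
        simp only [Nat.mul_one, Nat.sub_self]
        exact Groth.Agent.Lib.helper13.GammaBasic.one_mem_gammaFil_zero (εA : A →+* K)
      · rw [Finsupp.prod_single_index (h := fun j n => LambdaRing.gamma (j + 1) x ^ n) (pow_zero _)]
        simp
  · apply Ideal.span_le.mpr
    rintro m ⟨e, c, hc, rfl⟩
    have h1 : algebraMap A B c ∈ LambdaRing.gammaFil (εB : B →+* K)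
        (k - e.sum fun j n => (j + 1) * n) :=
      Groth.Agent.Lib.helper13.GammaBasic.map_mem_gammaFil (εA : A →+* K) (εB : B →+* K)
        (algebraMap A B) hεAB hγAB hc
    have h2 : (e.prod fun j n => LambdaRing.gamma (j + 1) x ^ n) ∈
        LambdaRing.gammaFil (εB : B →+* K) (e.sum fun j n => (j + 1) * n) :=
      Groth.Agent.Lib.helper13.GammaBasic.prod_mem_gammaFil (εB : B →+* K) e.support
        (fun j => LambdaRing.gamma (j + 1) x ^ e j) (fun j => (j + 1) * e j)
        (fun j _ => Groth.Agent.Lib.helper13.GammaBasic.pow_mem_gammaFil (εB : B →+* K)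
          (Groth.Agent.Lib.helper13.GammaBasic.gamma_mem_gammaFil (εB : B →+* K) hx (j + 1))
          (e j))
    refine Groth.Agent.Lib.helper13.GammaBasic.gammaFil_anti (εB : B →+* K) ?_
      (Groth.Agent.Lib.helper13.GammaBasic.mul_mem_gammaFil (εB : B →+* K) h1 h2)
    omega

end Groth.Agent.S8698
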