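import Groth.Statements.S8703
import Groth.Agent.Lib.helper13.LogDeriv
-- import your own Groth.Agent.* helpers here

set_option autoImplicit false
universe u
open LambdaRing
open PowerSeries Groth.Agent.Lib.helper13.Lam Groth.Agent.Lib.helper13.LogDeriv

namespace Groth.Agent.S8703

theorem derivative_map {K K' : Type u} [CommRing K] [CommRing K'] (f : K →+* K') (F : K⟦X⟧) :
    d⁄dX K' (PowerSeries.map f F) = PowerSeries.map f (d⁄dX K F) := by
  ext n
  simp [coeff_derivative]


/-- The Adams operations commute with λ-homomorphisms, and conversely, if K and K' are pre-λ-rings which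
are algebras over the rationals, a ring homomorphism f : K → K' commuting with the ψ^k for all k ≥ 1
is a λ-homomorphism (commutes with all λ^i), the λ^i being expressible through the ψ^k in
characteristic zero. -/
theorem result (K K' : Type u) [CommRing K] [CommRing K']
    [LambdaRing.LambdaOps K] [LambdaRing.LambdaOps K'] [Algebra ℚ K] [Algebra ℚ K'] (f : K →+* K') :
    LambdaRing.IsLambdaHom f ↔
      ∀ k : ℕ, 1 ≤ k → ∀ x : K, f (LambdaRing.adamsOp k x) = LambdaRing.adamsOp k (f x) := by
  constructor
  · intro hf k hk x
    obtain ⟨k, rfl⟩ : ∃ j, k = j + 1 := ⟨k - 1, by omega⟩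
    have hmap : PowerSeries.map f (lamSeries x) = lamSeries (f x) := by
      ext n
      rw [coeff_map, coeff_lamSeries, coeff_lamSeries, hf]
    have hd : d⁄dX K' (lamSeries (f x)) = lamSeries (f x) * PowerSeries.map f (logDerivSeries x) := by
      rw [← hmap, derivative_map, derivative_lamSeries, map_mul]
    have hlog := logDerivSeries_eq_of_derivative hd
    rw [adamsOp_succ, adamsOp_succ, hlog, coeff_map]
    simp
  · intro h i x
    have hlog : PowerSeries.map f (logDerivSeries x) = logDerivSeries (f x) := by
      ext k
      rw [coeff_map, coeff_logDerivSeries, coeff_logDerivSeries, map_mul, h (k + 1) (by omega)]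
      simp
    have hG : d⁄dX K' (PowerSeries.map f (lamSeries x)) =
        PowerSeries.map f (lamSeries x) * logDerivSeries (f x) := by
      rw [derivative_map, derivative_lamSeries, map_mul, hlog]
    have hH := derivative_lamSeries (f x)
    have h0 : constantCoeff (PowerSeries.map f (lamSeries x)) = constantCoeff (lamSeries (f x)) := by
      rw [constantCoeff_lamSeries, ← coeff_zero_eq_constantCoeff_apply, coeff_map, coeff_lamSeries,
        LambdaOps.lam_zero, map_one]
    have := ode_unique h0 hG hH
    have hc := congrArg (coeff i) this
    rwa [coeff_map, coeff_lamSeries, coeff_lamSeries] at hc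

end Groth.Agent.S8703
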