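import Groth.Statements.S8702
import Groth.Agent.Lib.helper13.LogDeriv
import Groth.Agent.S8703
-- import your own Groth.Agent.* helpers here

set_option autoImplicit false
set_option linter.style.haveILetI false
set_option warn.classDefReducibility false
universe u
open LambdaRing
open PowerSeries Finset Groth.Agent.Lib.helper13.Lam Groth.Agent.Lib.helper13.LogDeriv

namespace Groth.Agent.S8702

theorem lambdaOps_ext {K : Type u} [CommRing K] {L₁ L₂ : LambdaOps K}
    (h : ∀ i x, L₁.lam i x = L₂.lam i x) : L₁ = L₂ := by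
  cases L₁ with
  | mk lam₁ _ _ _ =>
    cases L₂ with
    | mk lam₂ _ _ _ =>
      have : lam₁ = lam₂ := by funext i x; exact h i x
      subst this
      rfl

/-- The series `Σ (-1)^k ψ^{k+1}(x) t^k`. -/
noncomputable def psiSeries {K : Type u} [CommRing K] (ψ : ℕ → K →+ K) (x : K) : K⟦X⟧ :=
  PowerSeries.mk fun k => (-1) ^ k * ψ (k + 1) x

theorem psiSeries_add {K : Type u} [CommRing K] (ψ : ℕ → K →+ K) (x y : K) :
    psiSeries ψ (x + y) = psiSeries ψ x + psiSeries ψ y := by
  ext k
  simp [psiSeries, mul_add]

/-- The candidate series `λ_t(x)`. -/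
noncomputable def lamSol {K : Type u} [CommRing K] [Algebra ℚ K] (ψ : ℕ → K →+ K) (x : K) : K⟦X⟧ :=
  odeSol (psiSeries ψ x)

theorem lamSol_add {K : Type u} [CommRing K] [Algebra ℚ K] (ψ : ℕ → K →+ K) (x y : K) :
    lamSol ψ (x + y) = lamSol ψ x * lamSol ψ y := by
  apply ode_unique (P := psiSeries ψ (x + y))
  · rw [map_mul]
    simp [lamSol, constantCoeff_odeSol]
  · exact derivative_odeSol _
  · rw [Derivation.leibniz, lamSol, lamSol, derivative_odeSol, derivative_odeSol, psiSeries_add]
    simp only [smul_eq_mul]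
    ring

/-- The λ-operations built from the family `ψ`. -/
noncomputable def lamOfPsi {K : Type u} [CommRing K] [Algebra ℚ K] (ψ : ℕ → K →+ K)
    (hψ : ψ 1 = AddMonoidHom.id K) : LambdaOps K where
  lam i x := coeff i (lamSol ψ x)
  lam_zero x := coeff_zero_odeSol _
  lam_one x := by
    have h := congrArg (coeff 0) (derivative_odeSol (psiSeries ψ x))
    rw [coeff_derivative, coeff_mul, Finset.Nat.antidiagonal_zero, Finset.sum_singleton] at h
    simp only [zero_add, Nat.cast_zero, mul_one, coeff_zero_odeSol, one_mul] at h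
    rw [lamSol, h, psiSeries, coeff_mk, hψ]
    simp
  lam_add k x y := by
    rw [lamSol_add, PowerSeries.coeff_mul, Finset.Nat.sum_antidiagonal_eq_sum_range_succ_mk]


/-- Let K be a commutative ring which is an algebra over the rationals, and let ψ^k : K → K, k ≥ 1, be
additive maps with ψ^1 the identity. Then there is one and only one pre-λ-structure on K whose Adams
operations (defined through the logarithmic derivative of λ_t) are the ψ^k for every k ≥ 1, namely
λ_t(x) = exp(Σ_{k ≥ 1} (−1)^{k−1} ψ^k(x) t^k / k): in characteristic zero, pre-λ-structures and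
families of additive operations ψ^k with ψ^1 = id determine each other. (The value of the family at
k = 0 is ignored.) -/
theorem result (K : Type u) [CommRing K] [Algebra ℚ K]
    (ψ : ℕ → K →+ K) (hψ : ψ 1 = AddMonoidHom.id K) :
    ∃! L : LambdaRing.LambdaOps K, ∀ k : ℕ, 1 ≤ k → ∀ x : K, @LambdaRing.adamsOp K _ L k x = ψ k x := by
  refine ⟨lamOfPsi ψ hψ, ?_, ?_⟩
  · intro k hk x
    obtain ⟨k, rfl⟩ : ∃ j, k = j + 1 := ⟨k - 1, by omega⟩
    letI : LambdaOps K := lamOfPsi ψ hψ
    have hlam : lamSeries x = lamSol ψ x := by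
      ext n
      rw [coeff_lamSeries]
      rfl
    have hd : d⁄dX K (lamSeries x) = lamSeries x * psiSeries ψ x := by
      rw [hlam]
      exact derivative_odeSol _
    have hlog := logDerivSeries_eq_of_derivative hd
    rw [adamsOp_succ, hlog, psiSeries, coeff_mk, ← mul_assoc, ← pow_add, ← two_mul, pow_mul]
    simp
  · intro L hL
    apply lambdaOps_ext
    have hiff := @Groth.Agent.S8703.result K K _ _ L (lamOfPsi ψ hψ) _ _ (RingHom.id K)
    have hhom : @IsLambdaHom K _ L K _ (lamOfPsi ψ hψ) (RingHom.id K) := by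
      rw [hiff]
      intro k hk x
      simp only [RingHom.id_apply]
      rw [hL k hk x]
      letI : LambdaOps K := lamOfPsi ψ hψ
      obtain ⟨k, rfl⟩ : ∃ j, k = j + 1 := ⟨k - 1, by omega⟩
      have hlam : lamSeries x = lamSol ψ x := by
        ext n
        rw [coeff_lamSeries]
        rfl
      have hd : d⁄dX K (lamSeries x) = lamSeries x * psiSeries ψ x := by
        rw [hlam]
        exact derivative_odeSol _
      have hlog := logDerivSeries_eq_of_derivative hd
      rw [adamsOp_succ, hlog, psiSeries, coeff_mk, ← mul_assoc, ← pow_add, ← two_mul, pow_mul]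
      simp
    intro i x
    exact hhom i x

end Groth.Agent.S8702
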