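import Groth.Statements.S8705
import Groth.Agent.Lib.helper13.SymCocycle
-- import your own Groth.Agent.* helpers here

set_option autoImplicit false
universe u
open SGA7
open Groth.Agent.Lib.helper13.SymCoc

namespace Groth.Agent.S8705

/-- In the case of the punctual topos (ordinary abelian groups): let P be an abelian group and consider
the complex of free abelian groups Z[P × P × P] ⊕ Z[P × P] → Z[P × P] → Z[P], augmented to P by [p]
↦ p, with d₀[p, q] = [p + q] − [p] − [q], with d₁ on the first summand given by [p, q, r] ↦ [p + q,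
r] − [p, q + r] + [p, q] − [q, r] and on the second summand by [p, q] ↦ [p, q] − [q, p]. Then the
augmentation is surjective with kernel the image of d₀ (so H₀ is P), and the kernel of d₀ is the sum
of the images of the two components of d₁ (so H₁ vanishes). (The published statement is for abelian
sheaves on an arbitrary topos; this row is its case of a one-point space.) -/
theorem result (P : Type u) [AddCommGroup P] :
    letI ε : (P →₀ ℤ) →ₗ[ℤ] P := Finsupp.linearCombination ℤ (fun p : P => p)
    letI d₀ : (P × P →₀ ℤ) →ₗ[ℤ] (P →₀ ℤ) := Finsupp.linearCombination ℤ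
      (fun pq : P × P => Finsupp.single (pq.1 + pq.2) 1 - Finsupp.single pq.1 1 - Finsupp.single pq.2 1)
    letI d₁ : (P × P × P →₀ ℤ) →ₗ[ℤ] (P × P →₀ ℤ) := Finsupp.linearCombination ℤ
      (fun t : P × P × P => Finsupp.single (t.1 + t.2.1, t.2.2) 1 - Finsupp.single (t.1, t.2.1 + t.2.2) 1
        + Finsupp.single (t.1, t.2.1) 1 - Finsupp.single (t.2.1, t.2.2) 1)
    letI d₁' : (P × P →₀ ℤ) →ₗ[ℤ] (P × P →₀ ℤ) := Finsupp.linearCombination ℤ
      (fun pq : P × P => Finsupp.single pq 1 - Finsupp.single (pq.2, pq.1) 1)
    Function.Surjective ε ∧ LinearMap.ker ε = LinearMap.range d₀ ∧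
      LinearMap.ker d₀ = LinearMap.range d₁ ⊔ LinearMap.range d₁' := by
  let ε : (P →₀ ℤ) →ₗ[ℤ] P := Finsupp.linearCombination ℤ (fun p : P => p)
  let d₀ : (P × P →₀ ℤ) →ₗ[ℤ] (P →₀ ℤ) := Finsupp.linearCombination ℤ
      (fun pq : P × P => Finsupp.single (pq.1 + pq.2) 1 - Finsupp.single pq.1 1 - Finsupp.single pq.2 1)
  let d₁ : (P × P × P →₀ ℤ) →ₗ[ℤ] (P × P →₀ ℤ) := Finsupp.linearCombination ℤ
      (fun t : P × P × P => Finsupp.single (t.1 + t.2.1, t.2.2) 1 - Finsupp.single (t.1, t.2.1 + t.2.2) 1
        + Finsupp.single (t.1, t.2.1) 1 - Finsupp.single (t.2.1, t.2.2) 1)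
  let d₁' : (P × P →₀ ℤ) →ₗ[ℤ] (P × P →₀ ℤ) := Finsupp.linearCombination ℤ
      (fun pq : P × P => Finsupp.single pq 1 - Finsupp.single (pq.2, pq.1) 1)
  change Function.Surjective ε ∧ LinearMap.ker ε = LinearMap.range d₀ ∧
      LinearMap.ker d₀ = LinearMap.range d₁ ⊔ LinearMap.range d₁'
  have hε : ∀ p : P, ε (Finsupp.single p 1) = p := by
    intro p; simp [ε]
  have hd₀ : ∀ p q : P, d₀ (Finsupp.single (p, q) 1) =
      Finsupp.single (p + q) 1 - Finsupp.single p 1 - Finsupp.single q 1 := by
    intro p q; simp [d₀]
  have hd₁ : ∀ p q r : P, d₁ (Finsupp.single (p, q, r) 1) =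
      Finsupp.single (p + q, r) 1 - Finsupp.single (p, q + r) 1
        + Finsupp.single (p, q) 1 - Finsupp.single (q, r) 1 := by
    intro p q r; simp [d₁]
  have hd₁' : ∀ p q : P, d₁' (Finsupp.single (p, q) 1) =
      Finsupp.single (p, q) 1 - Finsupp.single (q, p) 1 := by
    intro p q; simp [d₁']
  refine ⟨fun p => ⟨Finsupp.single p 1, hε p⟩, ?_, ?_⟩
  · apply le_antisymm
    · -- ker ε ≤ range d₀
      intro x hx
      let Q := (P →₀ ℤ) ⧸ LinearMap.range d₀
      let s : P →+ Q :=
        { toFun := fun p => Submodule.Quotient.mk (Finsupp.single p 1)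
          map_zero' := by
            have : (Finsupp.single (0 : P) (1 : ℤ)) ∈ LinearMap.range d₀ := by
              refine ⟨- Finsupp.single (0, 0) 1, ?_⟩
              rw [map_neg, hd₀]
              simp
            exact (Submodule.Quotient.mk_eq_zero _).mpr this
          map_add' := by
            intro p q
            rw [← Submodule.Quotient.mk_add, Submodule.Quotient.eq]
            refine ⟨Finsupp.single (p, q) 1, ?_⟩
            rw [hd₀]
            abel }
      have hs : s.toIntLinearMap ∘ₗ ε = (LinearMap.range d₀).mkQ := by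
        refine Finsupp.lhom_ext' (fun a => LinearMap.ext_ring ?_)
        simp only [LinearMap.coe_comp, Function.comp_apply, Finsupp.lsingle_apply, hε,
          AddMonoidHom.coe_toIntLinearMap]
        rfl
      have hx' : ε x = 0 := hx
      have : (LinearMap.range d₀).mkQ x = 0 := by
        rw [← hs, LinearMap.comp_apply, hx', map_zero]
      exact (Submodule.Quotient.mk_eq_zero _).mp this
    · rw [LinearMap.range_le_ker_iff]
      refine Finsupp.lhom_ext' (fun a => LinearMap.ext_ring ?_)
      obtain ⟨p, q⟩ := a
      simp only [LinearMap.coe_comp, Function.comp_apply, Finsupp.lsingle_apply, hd₀, map_sub, hε,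
        LinearMap.zero_apply]
      abel
  · apply le_antisymm
    · intro x hx
      let N := LinearMap.range d₁ ⊔ LinearMap.range d₁'
      let E := (P × P →₀ ℤ) ⧸ N
      let c : SymCocycle P E :=
        { f := fun p q => Submodule.Quotient.mk (Finsupp.single (p, q) 1)
          symm := by
            intro p q
            rw [Submodule.Quotient.eq]
            apply Submodule.mem_sup_right
            exact ⟨Finsupp.single (p, q) 1, hd₁' p q⟩
          cocycle := by
            intro p q r
            change (Submodule.Quotient.mk (Finsupp.single (p + q, r) 1) : E)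
              - Submodule.Quotient.mk (Finsupp.single (p, q + r) 1)
              + Submodule.Quotient.mk (Finsupp.single (p, q) 1)
              - Submodule.Quotient.mk (Finsupp.single (q, r) 1) = 0
            rw [← Submodule.Quotient.mk_sub, ← Submodule.Quotient.mk_add,
              ← Submodule.Quotient.mk_sub, Submodule.Quotient.mk_eq_zero]
            apply Submodule.mem_sup_left
            exact ⟨Finsupp.single (p, q, r) 1, hd₁ p q r⟩ }
      let σ : (P →₀ ℤ) →ₗ[ℤ] c.Ext := Finsupp.linearCombination ℤ c.sec
      have hσ : ∀ p : P, σ (Finsupp.single p 1) = c.sec p := by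
        intro p; simp [σ]
      have key : σ ∘ₗ d₀ = - (c.ι.toIntLinearMap ∘ₗ N.mkQ) := by
        refine Finsupp.lhom_ext' (fun a => LinearMap.ext_ring ?_)
        obtain ⟨p, q⟩ := a
        simp only [LinearMap.coe_comp, Function.comp_apply, Finsupp.lsingle_apply, hd₀, map_sub,
          hσ, LinearMap.neg_apply, AddMonoidHom.coe_toIntLinearMap]
        have h := c.sec_add_sec p q
        change c.sec p + c.sec q = c.ι (Submodule.Quotient.mk (Finsupp.single (p, q) 1))
          + c.sec (p + q) at h
        rw [sub_sub, h]
        abel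
      have hx' : d₀ x = 0 := hx
      have h1 : (σ ∘ₗ d₀) x = 0 := by
        rw [LinearMap.comp_apply, hx', map_zero]
      rw [key] at h1
      simp only [LinearMap.neg_apply, LinearMap.coe_comp, Function.comp_apply,
        AddMonoidHom.coe_toIntLinearMap, neg_eq_zero] at h1
      have h2 : (Submodule.Quotient.mk x : E) = 0 := c.ι_injective (by rw [map_zero]; exact h1)
      exact (Submodule.Quotient.mk_eq_zero _).mp h2
    · apply sup_le
      · rw [LinearMap.range_le_ker_iff]
        refine Finsupp.lhom_ext' (fun a => LinearMap.ext_ring ?_)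
        obtain ⟨p, q, r⟩ := a
        simp only [LinearMap.coe_comp, Function.comp_apply, Finsupp.lsingle_apply, hd₁, map_sub,
          map_add, hd₀, LinearMap.zero_apply, add_assoc]
        abel
      · rw [LinearMap.range_le_ker_iff]
        refine Finsupp.lhom_ext' (fun a => LinearMap.ext_ring ?_)
        obtain ⟨p, q⟩ := a
        simp only [LinearMap.coe_comp, Function.comp_apply, Finsupp.lsingle_apply, hd₁', map_sub,
          hd₀, LinearMap.zero_apply, add_comm q p]
        abel

end Groth.Agent.S8705
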