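import Groth.Statements.S8710
-- import your own Groth.Agent.* helpers here
import Groth.Agent.Lib.helper6.TorDim

set_option autoImplicit false
universe u
open CategoryTheory CategoryTheory.Limits
open SGA7

namespace Groth.Agent.S8710

/-- Let f : B' → B be a surjective map of R-algebras with B' flat over R, g : C → B a map of R-algebras,
P = B' ×_B C their fibre product (the equalizer of f ∘ pr₁ and g ∘ pr₂ in B' × C), S an R-algebra
and n a natural number. If Tor_i^R(C, S) = 0 for 0 < i < n and Tor_i^R(B, S) = 0 for 0 < i ≤ n, then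
Tor_i^R(P, S) = 0 for 0 < i < n. Here Tor_i^R(M, S) is the i-th left derived functor of M ⊗_R − on
R-modules, evaluated at S. (The published statement asks the vanishing for B only in degrees 0 < i <
n; the published proof and the corollary following it use it in degrees 0 < i ≤ n, which this row
assumes.) -/
theorem result (R B' B C S : Type u) [CommRing R] [CommRing B'] [CommRing B]
    [CommRing C] [CommRing S] [Algebra R B'] [Algebra R B] [Algebra R C] [Algebra R S]
    (f : B' →ₐ[R] B) (hf : Function.Surjective f) (g : C →ₐ[R] B) [Module.Flat R B'] (n : ℕ)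
    (hC : ∀ i : ℕ, 0 < i → i < n →
      IsZero (((Tor (ModuleCat.{u} R) i).obj (ModuleCat.of R C)).obj (ModuleCat.of R S)))
    (hB : ∀ i : ℕ, 0 < i → i ≤ n →
      IsZero (((Tor (ModuleCat.{u} R) i).obj (ModuleCat.of R B)).obj (ModuleCat.of R S))) :
    letI P := AlgHom.equalizer (f.comp (AlgHom.fst R B' C)) (g.comp (AlgHom.snd R B' C))
    ∀ i : ℕ, 0 < i → i < n →
      IsZero (((Tor (ModuleCat.{u} R) i).obj (ModuleCat.of R ↥P)).obj (ModuleCat.of R S)) := by
  intro i hi hin
  let P := AlgHom.equalizer (f.comp (AlgHom.fst R B' C)) (g.comp (AlgHom.snd R B' C))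
  -- the short exact sequence 0 → P → B' × C → B → 0
  let ι : ↥P →ₗ[R] (B' × C) := P.val.toLinearMap
  let d : (B' × C) →ₗ[R] B :=
    (f.comp (AlgHom.fst R B' C)).toLinearMap - (g.comp (AlgHom.snd R B' C)).toLinearMap
  have hd : ∀ x : B' × C, d x = f x.1 - g x.2 := fun x => rfl
  let S₁ : ShortComplex (ModuleCat.{u} R) :=
    ShortComplex.mk (ModuleCat.ofHom ι) (ModuleCat.ofHom d) (by
      ext x
      change d (ι x) = 0
      rw [hd]
      have := x.2
      rw [AlgHom.mem_equalizer] at this
      exact sub_eq_zero.2 this)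
  have hS₁ : S₁.ShortExact := by
    refine ModuleCat.shortComplex_shortExact _ ?_ ?_ ?_
    · intro x
      change d x = 0 ↔ x ∈ Set.range ι
      rw [hd, sub_eq_zero]
      constructor
      · intro h
        exact ⟨⟨x, (AlgHom.mem_equalizer _ _ x).2 h⟩, rfl⟩
      · rintro ⟨y, rfl⟩
        exact (AlgHom.mem_equalizer _ _ _).1 y.2
    · exact Subtype.val_injective
    · intro b
      obtain ⟨b', rfl⟩ := hf b
      exact ⟨(b', 0), by change d (b', 0) = f b'; rw [hd]; simp⟩
  -- the split sequence 0 → B' → B' × C → C → 0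
  let S₂ : ShortComplex (ModuleCat.{u} R) :=
    ShortComplex.mk (ModuleCat.ofHom (LinearMap.inl R B' C)) (ModuleCat.ofHom (LinearMap.snd R B' C))
      (by ext x; simp)
  have hS₂ : S₂.ShortExact := by
    refine ModuleCat.shortComplex_shortExact _ ?_ ?_ ?_
    · intro x
      change (LinearMap.snd R B' C) x = 0 ↔ x ∈ Set.range (LinearMap.inl R B' C)
      constructor
      · intro h
        exact ⟨x.1, Prod.ext rfl (by simpa using h.symm)⟩
      · rintro ⟨y, rfl⟩
        simp
    · exact LinearMap.inl_injective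
    · exact LinearMap.snd_surjective
  obtain ⟨j, rfl⟩ : ∃ j, i = j + 1 := ⟨i - 1, by omega⟩
  have hB' : IsZero (((Tor (ModuleCat.{u} R) (j + 1)).obj (ModuleCat.of R B')).obj (ModuleCat.of R S)) :=
    Groth.Agent.Lib.helper6.TorBal.isZero_tor_succ_of_flat_left _ _ j
  have hprod : IsZero (((Tor (ModuleCat.{u} R) (j + 1)).obj (ModuleCat.of R (B' × C))).obj
      (ModuleCat.of R S)) :=
    Groth.Agent.Lib.helper6.TorDim.isZero_tor_X₂' (ModuleCat.of R S) hS₂ (j + 1) hB'
      (hC (j + 1) hi hin)
  exact Groth.Agent.Lib.helper6.TorDim.isZero_tor_X₁' (ModuleCat.of R S) hS₁ (j + 1)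
    (hB (j + 1 + 1) (by omega) (by omega)) hprod

end Groth.Agent.S8710
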