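import Groth.Statements.S8719
import Mathlib
import Groth.Agent.Lib.helper20.FormalIFT3

set_option autoImplicit false
universe u
open VanCyc

namespace Groth.Agent.S8719

/-- The formal computation carried out in its proof: let k be a field and f a power series in k[[x_0,
..., x_n]] with vanishing constant and linear terms whose degree-two part is a non-degenerate
quadratic form (the Gram determinant of its polar bilinear form is a unit). Then the partial
derivatives of f generate the maximal ideal of k[[x_0, ..., x_n]] (so f together with its partial
derivatives cut out the origin with multiplicity one). -/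
theorem result (k : Type u) [Field k] (n : ℕ)
    (f : MvPowerSeries (Fin (n + 1)) k) (hf : VanCyc.NondegQuadSeries f) :
    Ideal.span (Set.range fun i : Fin (n + 1) => MvPowerSeries.pderiv k i f) =
      IsLocalRing.maximalIdeal (MvPowerSeries (Fin (n + 1)) k) := by
  classical
  obtain ⟨⟨hc, hl⟩, hq⟩ := hf
  have hy0 : ∀ i, MvPowerSeries.constantCoeff (MvPowerSeries.pderiv k i f) = 0 := by
    intro i
    rw [← MvPowerSeries.coeff_zero_eq_constantCoeff_apply, MvPowerSeries.coeff_pderiv, zero_add,
      hl i, zero_mul]
  have hJ : (Matrix.of fun i j : Fin (n + 1) =>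
      MvPowerSeries.coeff (Finsupp.single j 1) (MvPowerSeries.pderiv k i f)) =
        polarMatrix (quadPart f) := by
    ext i j
    rw [Matrix.of_apply, MvPowerSeries.coeff_pderiv]
    by_cases hij : i = j
    · subst hij
      have e1 : polarMatrix (quadPart f) i i =
          2 * MvPowerSeries.coeff (Finsupp.single i 2) f := by
        simp [polarMatrix, quadPart]
      rw [e1, Finsupp.single_eq_same, ← Finsupp.single_add]
      norm_num [mul_comm]
    · have hji : (Finsupp.single j 1 : Fin (n + 1) →₀ ℕ) i = 0 := by
        rw [Finsupp.single_apply, if_neg (Ne.symm hij)]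
      rw [hji, Nat.cast_zero, zero_add, mul_one]
      by_cases hlt : i < j
      · have e1 : polarMatrix (quadPart f) i j =
            MvPowerSeries.coeff (Finsupp.single i 1 + Finsupp.single j 1) f := by
          simp [polarMatrix, quadPart, hij, hlt]
        rw [e1, add_comm (Finsupp.single j 1) (Finsupp.single i 1)]
      · have hlt' : j < i := lt_of_le_of_ne (not_lt.mp hlt) (Ne.symm hij)
        have e1 : polarMatrix (quadPart f) i j =
            MvPowerSeries.coeff (Finsupp.single j 1 + Finsupp.single i 1) f := by
          simp [polarMatrix, quadPart, hij, hlt, hlt', Ne.symm hij]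
        rw [e1]
  rw [Groth.Agent.Lib.helper20.FormalIFT.span_range_eq_I_one _ hy0 (by rw [hJ]; exact hq)]
  ext h
  rw [Groth.Agent.Lib.helper20.FormalIFT.mem_I_one_iff, IsLocalRing.mem_maximalIdeal,
    mem_nonunits_iff, MvPowerSeries.isUnit_iff_constantCoeff, isUnit_iff_ne_zero, not_not]

end Groth.Agent.S8719
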