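import Groth.Statements.S8720
import Groth.Agent.Lib.helper19.MvPSLemma
import Mathlib

set_option autoImplicit false
universe u
open VanCyc

namespace Groth.Agent.S8720

open MvPowerSeries

section
variable {σ : Type*} [Finite σ] {k : Type*} [Field k]

/-- the ideal of the variables -/
noncomputable def nn (σ : Type*) (k : Type*) [Field k] : Ideal (MvPowerSeries σ k) :=
  Ideal.span (Set.range (X : σ → MvPowerSeries σ k))

lemma mem_nn_pow_of_order (N : ℕ) (g : MvPowerSeries σ k)
    (hg : ∀ d : σ →₀ ℕ, d.degree < N → coeff d g = 0) : g ∈ nn σ k ^ N := by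
  have h := Groth.Agent.Lib.helper19.sub_truncTotal_mem_span_X_pow N g
  have h0 : truncTotal N g = 0 := by
    ext d
    rw [coeff_truncTotal_eq_ite, MvPolynomial.coeff_zero]
    split_ifs with hd
    · exact hg d hd
    · rfl
  rw [h0, MvPolynomial.coe_zero, sub_zero] at h
  exact h

lemma X_mem_nn (v : σ) : (X v : MvPowerSeries σ k) ∈ nn σ k := Ideal.subset_span ⟨v, rfl⟩

lemma nn_le_jacobson : nn σ k ≤ Ideal.jacobson (⊥ : Ideal (MvPowerSeries σ k)) := by
  refine le_trans ?_ (IsLocalRing.maximalIdeal_le_jacobson _)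
  rw [nn, Ideal.span_le]
  rintro _ ⟨i, rfl⟩
  change X i ∈ IsLocalRing.maximalIdeal _
  rw [IsLocalRing.mem_maximalIdeal, mem_nonunits_iff, MvPowerSeries.isUnit_iff_constantCoeff]
  simp

lemma pderiv_order (N : ℕ) (v : σ) (h : MvPowerSeries σ k)
    (hh : ∀ d : σ →₀ ℕ, d.degree < N + 1 → coeff d h = 0) :
    ∀ d : σ →₀ ℕ, d.degree < N → coeff d (pderiv k v h) = 0 := by
  intro d hd
  rw [coeff_pderiv, hh, zero_mul]
  rw [map_add, Finsupp.degree_single]
  omega

end


section Main
variable (k : Type u) [Field k] (m : ℕ)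

/-- the leading form -/
noncomputable def Q : MvPowerSeries (Option (Fin m ⊕ Fin m)) k :=
  X none ^ 2 + ∑ i : Fin m, X (some (Sum.inl i)) * X (some (Sum.inr i))

/-- the target ideal -/
noncomputable def NN : Ideal (MvPowerSeries (Option (Fin m ⊕ Fin m)) k) :=
  Ideal.span ({MvPowerSeries.X none ^ 2} ∪
        Set.range fun j : Fin m ⊕ Fin m => (MvPowerSeries.X (some j) : MvPowerSeries (Option (Fin m ⊕ Fin m)) k))

lemma Xsq_mem_NN : (X none ^ 2 : MvPowerSeries (Option (Fin m ⊕ Fin m)) k) ∈ NN k m :=
  Ideal.subset_span (Or.inl rfl)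

lemma Xsome_mem_NN (j : Fin m ⊕ Fin m) :
    (X (some j) : MvPowerSeries (Option (Fin m ⊕ Fin m)) k) ∈ NN k m :=
  Ideal.subset_span (Or.inr ⟨j, rfl⟩)

lemma nn_sq_le (M : Ideal (MvPowerSeries (Option (Fin m ⊕ Fin m)) k))
    (h0 : (X none ^ 2 : MvPowerSeries (Option (Fin m ⊕ Fin m)) k) ∈ M)
    (h1 : ∀ (v : Option (Fin m ⊕ Fin m)) (j : Fin m ⊕ Fin m),
      (X v * X (some j) : MvPowerSeries (Option (Fin m ⊕ Fin m)) k) ∈ M) :
    nn (Option (Fin m ⊕ Fin m)) k ^ 2 ≤ M := by
  rw [nn, pow_two, Ideal.span_mul_span', Ideal.span_le]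
  rintro _ ⟨_, ⟨v, rfl⟩, _, ⟨w, rfl⟩, rfl⟩
  cases w with
  | some j => exact h1 v j
  | none =>
    cases v with
    | some j =>
      show X (some j) * X none ∈ M
      rw [mul_comm]; exact h1 none j
    | none =>
      show X none * X none ∈ M
      rw [← pow_two]; exact h0

lemma nn_sq_le_NN : nn (Option (Fin m ⊕ Fin m)) k ^ 2 ≤ NN k m :=
  nn_sq_le k m _ (Xsq_mem_NN k m) (fun v j => Ideal.mul_mem_left _ _ (Xsome_mem_NN k m j))

variable [CharP k 2]

lemma X_add_X (v : Option (Fin m ⊕ Fin m)) :
    (X v + X v : MvPowerSeries (Option (Fin m ⊕ Fin m)) k) = 0 := by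
  ext d
  rw [map_add, map_zero]
  exact CharTwo.add_self_eq_zero _

lemma pderiv_Q_none : pderiv k none (Q k m) = 0 := by
  rw [Q, map_add, map_sum, pow_two, Derivation.leibniz, pderiv_X_self, smul_eq_mul, mul_one,
    X_add_X, zero_add]
  apply Finset.sum_eq_zero
  intro i _
  rw [Derivation.leibniz, pderiv_X_of_ne (Option.some_ne_none _),
    pderiv_X_of_ne (Option.some_ne_none _), smul_zero, smul_zero, add_zero]

lemma pderiv_Q_inl (i0 : Fin m) :
    pderiv k (some (Sum.inl i0)) (Q k m) = X (some (Sum.inr i0)) := by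
  rw [Q, map_add, map_sum, pow_two, Derivation.leibniz,
    pderiv_X_of_ne (Option.some_ne_none _).symm, smul_zero, add_zero, zero_add]
  rw [Finset.sum_eq_single i0]
  · rw [Derivation.leibniz, pderiv_X_self, pderiv_X_of_ne (by simp), smul_zero, zero_add,
      smul_eq_mul, mul_one]
  · intro i _ hi
    rw [Derivation.leibniz, pderiv_X_of_ne (by simp), pderiv_X_of_ne (by simpa using hi),
      smul_zero, smul_zero, add_zero]
  · intro h; exact absurd (Finset.mem_univ _) h

lemma pderiv_Q_inr (i0 : Fin m) :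
    pderiv k (some (Sum.inr i0)) (Q k m) = X (some (Sum.inl i0)) := by
  rw [Q, map_add, map_sum, pow_two, Derivation.leibniz,
    pderiv_X_of_ne (Option.some_ne_none _).symm, smul_zero, add_zero, zero_add]
  rw [Finset.sum_eq_single i0]
  · rw [Derivation.leibniz, pderiv_X_self, pderiv_X_of_ne (by simp), smul_zero, add_zero,
      smul_eq_mul, mul_one]
  · intro i _ hi
    rw [Derivation.leibniz, pderiv_X_of_ne (by simpa using hi), pderiv_X_of_ne (by simp),
      smul_zero, smul_zero, add_zero]
  · intro h; exact absurd (Finset.mem_univ _) h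

lemma Q_mem_NN : Q k m ∈ NN k m := by
  rw [Q]
  apply Ideal.add_mem _ (Xsq_mem_NN k m)
  apply Ideal.sum_mem
  intro i _
  exact Ideal.mul_mem_left _ _ (Xsome_mem_NN k m _)

theorem part1 (f : MvPowerSeries (Option (Fin m ⊕ Fin m)) k)
    (hf : ∀ d : Option (Fin m ⊕ Fin m) →₀ ℕ, d.degree < 3 →
      MvPowerSeries.coeff d f = MvPowerSeries.coeff d (Q k m)) :
    Ideal.span ({f} ∪ Set.range fun i : Option (Fin m ⊕ Fin m) => MvPowerSeries.pderiv k i f) =
      NN k m := by
  obtain ⟨h, hh⟩ : ∃ h, h = f - Q k m := ⟨_, rfl⟩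
  have hh3 : ∀ d : Option (Fin m ⊕ Fin m) →₀ ℕ, d.degree < 3 → coeff d h = 0 := by
    intro d hd; rw [hh, map_sub, hf d hd, sub_self]
  have hf_eq : f = Q k m + h := by rw [hh]; ring
  have hh_mem : h ∈ nn _ k ^ 3 := mem_nn_pow_of_order 3 h hh3
  have hdh : ∀ v, pderiv k v h ∈ nn _ k ^ 2 := fun v =>
    mem_nn_pow_of_order 2 _ (pderiv_order 2 v h hh3)
  have hdf : ∀ v, pderiv k v f = pderiv k v (Q k m) + pderiv k v h := by
    intro v; rw [hf_eq, map_add]
  apply le_antisymm
  · rw [Ideal.span_le]
    rintro x (hx | ⟨v, rfl⟩)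
    · rw [Set.mem_singleton_iff] at hx
      rw [hx, hf_eq]
      exact Ideal.add_mem _ (Q_mem_NN k m)
        (nn_sq_le_NN k m (Ideal.pow_le_pow_right (by norm_num) hh_mem))
    · show pderiv k v f ∈ NN k m
      rw [hdf]
      refine Ideal.add_mem _ ?_ (nn_sq_le_NN k m (hdh v))
      rcases v with _ | (i | i)
      · rw [pderiv_Q_none]; exact Ideal.zero_mem _
      · rw [pderiv_Q_inl]; exact Xsome_mem_NN k m _
      · rw [pderiv_Q_inr]; exact Xsome_mem_NN k m _
  · set J := Ideal.span ({f} ∪ Set.range fun i : Option (Fin m ⊕ Fin m) => MvPowerSeries.pderiv k i f)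
      with hJ
    have hfJ : f ∈ J := Ideal.subset_span (Or.inl rfl)
    have hdJ : ∀ v, pderiv k v f ∈ J := fun v => Ideal.subset_span (Or.inr ⟨v, rfl⟩)
    have hfg : (NN k m).FG := by
      apply Submodule.fg_span
      exact (Set.finite_singleton _).union (Set.finite_range _)
    apply Submodule.le_of_le_smul_of_le_jacobson_bot hfg (nn_le_jacobson (σ := Option (Fin m ⊕ Fin m)) (k := k))
    set K := J ⊔ nn (Option (Fin m ⊕ Fin m)) k • NN k m with hK
    have hJK : J ≤ K := le_sup_left
    have hnK : nn (Option (Fin m ⊕ Fin m)) k • NN k m ≤ K := le_sup_right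
    have hcube : h ∈ K := by
      apply hnK
      rw [pow_succ'] at hh_mem
      exact Ideal.mul_mono_right (nn_sq_le_NN k m) hh_mem
    have hX0 : (X none ^ 2 : MvPowerSeries (Option (Fin m ⊕ Fin m)) k) ∈ K := by
      have : (X none ^ 2 : MvPowerSeries (Option (Fin m ⊕ Fin m)) k) =
          f - (∑ i : Fin m, X (some (Sum.inl i)) * X (some (Sum.inr i))) - h := by
        rw [hh, Q]; ring
      rw [this]
      refine Submodule.sub_mem _ (Submodule.sub_mem _ (hJK hfJ) ?_) hcube
      apply Submodule.sum_mem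
      intro i _
      apply hnK
      exact Submodule.smul_mem_smul (X_mem_nn _) (Xsome_mem_NN k m _)
    have hsqK : nn (Option (Fin m ⊕ Fin m)) k ^ 2 ≤ K := by
      apply nn_sq_le k m K hX0
      intro v j
      apply hnK
      exact Submodule.smul_mem_smul (X_mem_nn _) (Xsome_mem_NN k m _)
    show NN k m ≤ K
    rw [NN, Ideal.span_le]
    rintro x (hx | ⟨j, rfl⟩)
    · rw [Set.mem_singleton_iff] at hx
      rw [hx]; exact hX0
    · rcases j with i | i
      · have : (X (some (Sum.inl i)) : MvPowerSeries (Option (Fin m ⊕ Fin m)) k) =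
            pderiv k (some (Sum.inr i)) f - pderiv k (some (Sum.inr i)) h := by
          rw [hdf, pderiv_Q_inr]; ring
        show X (some (Sum.inl i)) ∈ K
        rw [this]
        exact Submodule.sub_mem _ (hJK (hdJ _)) (hsqK (hdh _))
      · have : (X (some (Sum.inr i)) : MvPowerSeries (Option (Fin m ⊕ Fin m)) k) =
            pderiv k (some (Sum.inl i)) f - pderiv k (some (Sum.inl i)) h := by
          rw [hdf, pderiv_Q_inl]; ring
        show X (some (Sum.inr i)) ∈ K
        rw [this]
        exact Submodule.sub_mem _ (hJK (hdJ _)) (hsqK (hdh _))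

end Main


section Fin
variable (k : Type u) [Field k] (m : ℕ)

/-- the two coefficient functionals -/
noncomputable def φ : MvPowerSeries (Option (Fin m ⊕ Fin m)) k →ₗ[k] k × k :=
  (coeff (R := k) (0 : Option (Fin m ⊕ Fin m) →₀ ℕ)).prod
    (coeff (R := k) (Finsupp.single (none : Option (Fin m ⊕ Fin m)) 1))

lemma φ_apply (g : MvPowerSeries (Option (Fin m ⊕ Fin m)) k) :
    φ k m g = (coeff 0 g, coeff (Finsupp.single none 1) g) := rfl

lemma φ_surj : Function.Surjective (φ k m) := by
  classical
  rintro ⟨a, b⟩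
  refine ⟨C a + C b * X none, ?_⟩
  rw [φ_apply, map_add, map_add, coeff_zero_C, coeff_zero_mul_X, add_zero, coeff_C, if_neg,
    zero_add, coeff_C_mul, coeff_index_single_self_X, mul_one]
  intro h
  have := DFunLike.congr_fun h none
  simp at this

lemma φ_mul_monomial (n : Option (Fin m ⊕ Fin m) →₀ ℕ)
    (h0 : ¬ n ≤ 0) (h1 : ¬ n ≤ Finsupp.single none 1)
    (a : MvPowerSeries (Option (Fin m ⊕ Fin m)) k) : φ k m (a * monomial n 1) = 0 := by
  rw [φ_apply, coeff_mul_monomial, coeff_mul_monomial, if_neg h0, if_neg h1]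
  rfl

lemma NN_le_ker (x : MvPowerSeries (Option (Fin m ⊕ Fin m)) k) (hx : x ∈ NN k m) :
    φ k m x = 0 := by
  have key : ∀ a : MvPowerSeries (Option (Fin m ⊕ Fin m)) k, φ k m (a * x) = 0 := by
    rw [NN] at hx
    induction hx using Submodule.span_induction with
    | mem x hx =>
      intro a
      rcases hx with hx | ⟨j, rfl⟩
      · rw [Set.mem_singleton_iff] at hx
        rw [hx, X_pow_eq]
        apply φ_mul_monomial
        · intro h
          have := h none
          simp at this
        · intro h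
          have := h none
          simp at this
      · show φ k m (a * X (some j)) = 0
        rw [X_def]
        apply φ_mul_monomial
        · intro h
          have := h (some j)
          simp at this
        · intro h
          have := h (some j)
          simp at this
    | zero => intro a; rw [mul_zero, map_zero]
    | add x y _ _ hx hy => intro a; rw [mul_add, map_add, hx, hy, add_zero]
    | smul b x _ hx => intro a; rw [smul_eq_mul, ← mul_assoc]; exact hx _
  have := key 1
  rwa [one_mul] at this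

lemma ker_le_NN (g : MvPowerSeries (Option (Fin m ⊕ Fin m)) k) (hg : φ k m g = 0) :
    g ∈ NN k m := by
  classical
  rw [φ_apply, Prod.mk_eq_zero] at hg
  obtain ⟨hg0, hg1⟩ := hg
  set L : MvPowerSeries (Option (Fin m ⊕ Fin m)) k :=
    ∑ j : Fin m ⊕ Fin m, C (coeff (Finsupp.single (some j) 1) g) * X (some j) with hL
  have hLmem : L ∈ NN k m := by
    apply Ideal.sum_mem
    intro j _
    exact Ideal.mul_mem_left _ _ (Xsome_mem_NN k m j)
  have hord : ∀ d : Option (Fin m ⊕ Fin m) →₀ ℕ, d.degree < 2 → coeff d (g - L) = 0 := by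
    intro d hd
    by_cases hd0 : d = 0
    · subst hd0
      rw [map_sub, hg0, hL, map_sum, zero_sub, neg_eq_zero]
      apply Finset.sum_eq_zero
      intro j _
      rw [coeff_zero_mul_X]
    · obtain ⟨v, hv⟩ : ∃ v, d v ≠ 0 := by
        by_contra h
        push_neg at h
        exact hd0 (Finsupp.ext h)
      have hdv : d = Finsupp.single v 1 := by
        have hle : Finsupp.single v 1 ≤ d := by
          rw [Finsupp.single_le_iff]
          exact Nat.one_le_iff_ne_zero.2 hv
        have hdec : d = Finsupp.single v 1 + (d - Finsupp.single v 1) :=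
          (add_tsub_cancel_of_le hle).symm
        have hdeg : (d - Finsupp.single v 1).degree = 0 := by
          have := congrArg Finsupp.degree hdec
          rw [map_add, Finsupp.degree_single] at this
          omega
        rw [Finsupp.degree_eq_zero_iff] at hdeg
        rw [hdec, hdeg, add_zero]
      subst hdv
      rw [map_sub, hL, map_sum]
      rcases v with _ | j0
      · rw [hg1, zero_sub, neg_eq_zero]
        apply Finset.sum_eq_zero
        intro j _
        rw [coeff_C_mul, coeff_index_single_X, if_neg (by simp), mul_zero]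
      · rw [Finset.sum_eq_single j0, coeff_C_mul, coeff_index_single_self_X, mul_one, sub_self]
        · intro j _ hj
          rw [coeff_C_mul, coeff_index_single_X, if_neg (by simpa using hj.symm), mul_zero]
        · intro h; exact absurd (Finset.mem_univ _) h
  have h2 : g - L ∈ NN k m := nn_sq_le_NN k m (mem_nn_pow_of_order 2 _ hord)
  have : g = (g - L) + L := by ring
  rw [this]
  exact Ideal.add_mem _ h2 hLmem

theorem part2 : Module.finrank k (MvPowerSeries (Option (Fin m ⊕ Fin m)) k ⧸ NN k m) = 2 := by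
  have hker : LinearMap.ker (φ k m) = (NN k m).restrictScalars k := by
    ext g
    rw [LinearMap.mem_ker, Submodule.restrictScalars_mem]
    exact ⟨ker_le_NN k m g, NN_le_ker k m g⟩
  let e1 : (MvPowerSeries (Option (Fin m ⊕ Fin m)) k ⧸ (NN k m).restrictScalars k) ≃ₗ[k]
      (MvPowerSeries (Option (Fin m ⊕ Fin m)) k ⧸ NN k m) :=
    Submodule.Quotient.restrictScalarsEquiv k (NN k m)
  let e2 : (MvPowerSeries (Option (Fin m ⊕ Fin m)) k ⧸ LinearMap.ker (φ k m)) ≃ₗ[k]
      (MvPowerSeries (Option (Fin m ⊕ Fin m)) k ⧸ (NN k m).restrictScalars k) :=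
    Submodule.quotEquivOfEq _ _ hker
  let e3 := (φ k m).quotKerEquivOfSurjective (φ_surj k m)
  rw [← e1.finrank_eq, ← e2.finrank_eq, e3.finrank_eq, Module.finrank_prod, Module.finrank_self]

end Fin

/-- The formal computation carried out in its proof: let k be a field of characteristic 2, m a natural
number, and f a power series over k in the variables x_0 and x_i, x_i' (i = 1, ..., m) whose terms
of degree less than 3 are exactly those of x_0^2 + x_1 x_1' + ... + x_m x_m'. Then the ideal
generated by f and all its partial derivatives is the ideal generated by x_0^2 and the x_i, x_i',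
and the quotient of the power series ring by this ideal is two-dimensional over k. (Characteristic 2
is what makes the derivative in x_0 lose its linear term.) -/
theorem result (k : Type u) [Field k] [CharP k 2] (m : ℕ)
    (f : MvPowerSeries (Option (Fin m ⊕ Fin m)) k)
    (hf : ∀ d : Option (Fin m ⊕ Fin m) →₀ ℕ, d.degree < 3 →
      MvPowerSeries.coeff d f = MvPowerSeries.coeff d
        (MvPowerSeries.X none ^ 2 +
          ∑ i : Fin m, MvPowerSeries.X (some (Sum.inl i)) * MvPowerSeries.X (some (Sum.inr i)))) :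
    Ideal.span ({f} ∪ Set.range fun i : Option (Fin m ⊕ Fin m) => MvPowerSeries.pderiv k i f) =
      Ideal.span ({MvPowerSeries.X none ^ 2} ∪
        Set.range fun j : Fin m ⊕ Fin m => (MvPowerSeries.X (some j) : MvPowerSeries (Option (Fin m ⊕ Fin m)) k)) ∧
    Module.finrank k (MvPowerSeries (Option (Fin m ⊕ Fin m)) k ⧸
      Ideal.span ({MvPowerSeries.X none ^ 2} ∪
        Set.range fun j : Fin m ⊕ Fin m => (MvPowerSeries.X (some j) : MvPowerSeries (Option (Fin m ⊕ Fin m)) k))) = 2 := by
  exact ⟨part1 k m f hf, part2 k m⟩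

end Groth.Agent.S8720
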