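import Groth.Statements.S8722
import Groth.Agent.Lib.helper13.QLinear

set_option autoImplicit false
universe u v
open SGA7II

namespace Groth.Agent.S8722

/-- Let k be a separably closed field of characteristic p > 0, q = p^r with r >= 1, V a
finite-dimensional k-vector space and phi : V -> V additive with phi(c v) = c^q phi(v), semisimple
in the sense that its image spans V. Then for n >= 1 the fixed vectors of the n-th iterate of phi
are exactly the finite linear combinations of phi-fixed vectors with coefficients c satisfying
c^(q^n) = c; that is, the fixed space of phi^n is obtained from the F_q-space of phi-fixed vectors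
by extending scalars to F_{q^n}. -/
theorem result (k : Type u) [Field k] [IsSepClosed k] (p : ℕ)
    [Fact p.Prime] [CharP k p] (r : ℕ) (hr : 0 < r) (V : Type v) [AddCommGroup V] [Module k V]
    [FiniteDimensional k V] (φ : V →+ V) (hφ : ∀ (c : k) (v : V), φ (c • v) = c ^ (p ^ r) • φ v)
    (hss : Submodule.span k (Set.range φ) = ⊤) (n : ℕ) (hn : 0 < n) (v : V) :
    φ^[n] v = v ↔ ∃ (s : Finset V) (c : V → k), (∀ w ∈ s, φ w = w) ∧
      (∀ w ∈ s, c w ^ ((p ^ r) ^ n) = c w) ∧ v = ∑ w ∈ s, c w • w := by
  classical
  let F := Groth.Agent.Lib.helper13.QLinear.ofAdd (p := p) (r := r) φ hφ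
  have hcoe : (⇑F : V → V) = ⇑φ := rfl
  constructor
  · intro hv
    obtain ⟨b, hb⟩ := Groth.Agent.Lib.helper13.QLinear.exists_basis_fixed hr F hss
    have hc := (Groth.Agent.Lib.helper13.QLinear.repr_fixed_iff F b hb n v).mp hv
    refine ⟨Finset.univ.image b, fun w => if h : ∃ i, b i = w then b.repr v h.choose else 0,
      ?_, ?_, ?_⟩
    · intro w hw
      obtain ⟨i, -, rfl⟩ := Finset.mem_image.mp hw
      exact hb i
    · intro w hw
      obtain ⟨i, -, rfl⟩ := Finset.mem_image.mp hw
      have hex : ∃ j, b j = b i := ⟨i, rfl⟩
      simp only [dif_pos hex]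
      have : hex.choose = i := b.injective hex.choose_spec
      rw [this]
      exact hc i
    · rw [Finset.sum_image (fun i _ j _ h => b.injective h)]
      conv_lhs => rw [← b.sum_repr v]
      apply Finset.sum_congr rfl
      intro i _
      have hex : ∃ j, b j = b i := ⟨i, rfl⟩
      simp only [dif_pos hex]
      have : hex.choose = i := b.injective hex.choose_spec
      rw [this]
  · rintro ⟨s, c, hfix, hc, rfl⟩
    rw [← hcoe, Groth.Agent.Lib.helper13.QLinear.iter_sum]
    apply Finset.sum_congr rfl
    intro w hw
    rw [Groth.Agent.Lib.helper13.QLinear.iter_smul,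
      Groth.Agent.Lib.helper13.QLinear.iter_fixed F n (hfix w hw), hc w hw]

end Groth.Agent.S8722
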