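import Groth.Statements.S8724
import Mathlib
-- import your own Groth.Agent.* helpers here

set_option autoImplicit false
open LefPen

namespace Groth.Agent.S8724

open Finset in
theorem antidiag_collapse {A : Type*} [CommRing A] (F : ℕ → ℕ → A) (n N : ℕ) (hN : n + 1 ≤ N) :
    (∑ i ∈ range N, ∑ j ∈ range N, if i + j = n then F i j else 0) =
      ∑ i ∈ range (n + 1), F i (n - i) := by
  have h1 : ∀ i ∈ range N, (∑ j ∈ range N, if i + j = n then F i j else 0) =
      if i ≤ n then F i (n - i) else 0 := by
    intro i _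
    by_cases hi : i ≤ n
    · rw [if_pos hi, Finset.sum_eq_single (n - i)]
      · rw [if_pos (by omega)]
      · intro j _ hj
        rw [if_neg (by omega)]
      · intro h
        exact absurd (Finset.mem_range.mpr (by omega)) h
    · rw [if_neg hi]
      apply Finset.sum_eq_zero
      intro j _
      rw [if_neg (by omega)]
  rw [Finset.sum_congr rfl h1, ← Finset.sum_filter]
  apply Finset.sum_congr
  · ext i
    simp only [Finset.mem_filter, Finset.mem_range]
    omega
  · intro _ _; rfl

open Finset in
theorem lemmaG {A : Type*} [CommRing A] (y z : A) (c : ℕ → A) (N : ℕ) :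
    ∀ n, n ≤ N → ∑ k ∈ range (n + 1), c k * (y ^ k - z ^ k) =
      (y - z) * ∑ i ∈ range N, ∑ j ∈ range N,
        if i + j + 1 ≤ n then c (i + j + 1) * y ^ i * z ^ j else 0 := by
  intro n
  induction n with
  | zero =>
    intro _
    simp
  | succ n ih =>
    intro hn
    rw [Finset.sum_range_succ, ih (by omega)]
    have hsplit : ∀ i j : ℕ, (if i + j + 1 ≤ n + 1 then c (i + j + 1) * y ^ i * z ^ j else 0) =
        (if i + j + 1 ≤ n then c (i + j + 1) * y ^ i * z ^ j else 0) +
          (if i + j = n then c (n + 1) * (y ^ i * z ^ j) else 0) := by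
      intro i j
      by_cases h1 : i + j + 1 ≤ n
      · rw [if_pos (by omega), if_pos h1, if_neg (by omega), add_zero]
      · by_cases h2 : i + j = n
        · rw [if_pos (by omega), if_neg h1, if_pos h2, zero_add, h2, mul_assoc]
        · rw [if_neg (by omega), if_neg h1, if_neg h2, add_zero]
    simp only [hsplit, Finset.sum_add_distrib, mul_add]
    congr 1
    rw [antidiag_collapse (fun i j => c (n + 1) * (y ^ i * z ^ j)) n N (by omega)]
    rw [← Finset.mul_sum, ← geom_sum₂_mul y z (n + 1)]
    simp only [Nat.add_sub_cancel]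
    ring


/-- The algebraic identity established in its proof: let a >= 1 and work in Z[y, z]. Then (1+y)^(a-1) -
(1+z)^(a-1) = (y - z) * (sum over i, j >= 0 with i + j + 1 <= a - 1 of C(a-1, i+j+1) y^i z^j), and
(1+y)^a z - (1+z)^a y = (y - z) * (-1 + sum over i, j >= 1 with i + j <= a of C(a, i+j) y^i z^j).
Consequently the rational function -((1+y)^(a-1) - (1+z)^(a-1)) / ((1+y)^a z - (1+z)^a y), the
generating series of the primitive middle Hodge numbers of smooth hypersurfaces of degree a, equals
(sum_{i,j >= 0} C(a-1, i+j+1) y^i z^j) / (1 - sum_{i,j >= 1} C(a, i+j) y^i z^j). -/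
theorem result (a : ℕ) (ha : 1 ≤ a) :
    let y : MvPolynomial (Fin 2) ℤ := MvPolynomial.X 0
    let z : MvPolynomial (Fin 2) ℤ := MvPolynomial.X 1
    ((1 + y) ^ (a - 1) - (1 + z) ^ (a - 1) =
      (y - z) * ∑ i ∈ Finset.range a, ∑ j ∈ Finset.range a,
        if i + j + 1 ≤ a - 1 then ((a - 1).choose (i + j + 1) : MvPolynomial (Fin 2) ℤ) * y ^ i * z ^ j else 0) ∧
    ((1 + y) ^ a * z - (1 + z) ^ a * y =
      (y - z) * (-1 + ∑ i ∈ Finset.range (a + 1), ∑ j ∈ Finset.range (a + 1),
        if 1 ≤ i ∧ 1 ≤ j ∧ i + j ≤ a then (a.choose (i + j) : MvPolynomial (Fin 2) ℤ) * y ^ i * z ^ j else 0)) := by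
  intro y z
  constructor
  · have h := lemmaG y z (fun k => ((a - 1).choose k : MvPolynomial (Fin 2) ℤ)) a (a - 1) (by omega)
    rw [← h, add_comm 1 y, add_comm 1 z, add_pow, add_pow, ← Finset.sum_sub_distrib]
    have ha : a - 1 + 1 = a := by omega
    apply Finset.sum_congr rfl
    intro k _
    simp only [one_pow, mul_one]
    ring
  · have h := lemmaG y z (fun k => (a.choose (k + 1) : MvPolynomial (Fin 2) ℤ)) a (a - 1) (by omega)
    have ha : a - 1 + 1 = a := by omega
    rw [ha] at h
    -- the target double sum, shifted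
    have hT : (∑ i ∈ Finset.range (a + 1), ∑ j ∈ Finset.range (a + 1),
        if 1 ≤ i ∧ 1 ≤ j ∧ i + j ≤ a then (a.choose (i + j) : MvPolynomial (Fin 2) ℤ) * y ^ i * z ^ j else 0) =
        y * z * ∑ i ∈ Finset.range a, ∑ j ∈ Finset.range a,
          if i + j + 1 ≤ a - 1 then (a.choose (i + j + 1 + 1) : MvPolynomial (Fin 2) ℤ) * y ^ i * z ^ j else 0 := by
      rw [Finset.sum_range_succ', Finset.mul_sum]
      have h0 : (∑ j ∈ Finset.range (a + 1),
          if 1 ≤ 0 ∧ 1 ≤ j ∧ 0 + j ≤ a then (a.choose (0 + j) : MvPolynomial (Fin 2) ℤ) * y ^ 0 * z ^ j else 0) = 0 := by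
        apply Finset.sum_eq_zero
        intro j _
        rw [if_neg (by omega)]
      rw [h0, add_zero]
      apply Finset.sum_congr rfl
      intro i _
      rw [Finset.sum_range_succ', Finset.mul_sum]
      rw [if_neg (by omega), add_zero]
      apply Finset.sum_congr rfl
      intro j _
      by_cases hij : i + j + 1 ≤ a - 1
      · rw [if_pos (by omega), if_pos hij]
        have : i + 1 + (j + 1) = i + j + 1 + 1 := by omega
        rw [this]
        ring
      · rw [if_neg (by omega), if_neg hij, mul_zero]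
    rw [hT]
    have hL : (1 + y) ^ a * z - (1 + z) ^ a * y =
        y * z * (∑ k ∈ Finset.range a, (a.choose (k + 1) : MvPolynomial (Fin 2) ℤ) * (y ^ k - z ^ k))
          - (y - z) := by
      rw [add_comm 1 y, add_comm 1 z, add_pow, add_pow, Finset.sum_mul, Finset.sum_mul,
        ← Finset.sum_sub_distrib, Finset.sum_range_succ', Finset.mul_sum]
      simp only [one_pow, mul_one, pow_zero, Nat.choose_zero_right, Nat.cast_one, one_mul]
      have hs : ∀ x ∈ Finset.range a,
          (y ^ (x + 1) * (a.choose (x + 1) : MvPolynomial (Fin 2) ℤ) * z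
            - z ^ (x + 1) * (a.choose (x + 1) : MvPolynomial (Fin 2) ℤ) * y) =
          y * z * ((a.choose (x + 1) : MvPolynomial (Fin 2) ℤ) * (y ^ x - z ^ x)) := by
        intro x _
        ring
      rw [Finset.sum_congr rfl hs]
      ring
    rw [hL, h]
    ring

end Groth.Agent.S8724
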