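import Groth.Statements.S8770
import Groth.Agent.S2057
import Mathlib
-- import your own Groth.Agent.* helpers here

set_option autoImplicit false
universe u
open PureExt

namespace Groth.Agent.S8770

/-- generic form: a family of modules with maps to `M` through which every finite system of
relations factors gives a pure cover. -/
theorem generic (R : Type u) [CommRing R] (M : Type u) [AddCommGroup M] [Module R M]
    (ι : Type u) (Q : ι → Type u) [∀ i, AddCommGroup (Q i)] [∀ i, Module R (Q i)]
    (F : ∀ i, Q i →ₗ[R] M)
    (H : ∀ (n m : ℕ) (a : Fin n → Fin m → R) (v : Fin m → M), (∀ i, ∑ j, a i j • v j = 0) →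
      ∃ (i0 : ι) (q : Fin m → Q i0), (∀ j, F i0 (q j) = v j) ∧ (∀ i, ∑ j, a i j • q j = 0)) :
    ∃ g : (Π₀ i, Q i) →ₗ[R] M, Function.Surjective g ∧
        CAlgX.UniversallyInjective R (LinearMap.ker g).subtype := by
  classical
  refine ⟨DFinsupp.lsum ℕ F, ?_, ?_⟩
  · intro x
    obtain ⟨i0, q, hq, -⟩ := H 0 1 (fun i => Fin.elim0 i) (fun _ => x) (fun i => Fin.elim0 i)
    refine ⟨DFinsupp.single i0 (q 0), ?_⟩
    rw [DFinsupp.lsum_single]
    exact hq 0
  · rw [Groth.Agent.S2057.result _ (Submodule.injective_subtype _)]
    intro n m x y a hxy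
    obtain ⟨i0, q, hq, hq0⟩ := H n m a (fun j => DFinsupp.lsum ℕ F (y j)) (by
      intro i
      have h1 : ∑ j, a i j • (DFinsupp.lsum ℕ F) (y j) = DFinsupp.lsum ℕ F (∑ j, a i j • y j) := by
        simp [map_sum]
      rw [h1, ← hxy i]
      exact (x i).2)
    refine ⟨fun j => ⟨y j - DFinsupp.single i0 (q j), ?_⟩, ?_⟩
    · rw [LinearMap.mem_ker, map_sub, DFinsupp.lsum_single, hq j, sub_self]
    · intro i
      apply Subtype.ext
      have := hxy i
      simp only [Submodule.coe_subtype] at this
      rw [this]
      simp only [Submodule.coe_sum, Submodule.coe_smul]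
      have h2 : ∑ j, a i j • DFinsupp.single i0 (q j) = 0 := by
        have : ∑ j, a i j • DFinsupp.single i0 (q j) = DFinsupp.single i0 (∑ j, a i j • q j) := by
          rw [← DFinsupp.lsingle_apply (R := R), map_sum]
          refine Finset.sum_congr rfl (fun j _ => ?_)
          rw [map_smul, DFinsupp.lsingle_apply]
        rw [this, hq0 i, DFinsupp.single_zero]
      simp only [smul_sub, Finset.sum_sub_distrib, h2, sub_zero]

/-- index type: finite presentations together with a map to `M`. -/
abbrev Idx (R : Type u) [CommRing R] (M : Type u) [AddCommGroup M] [Module R M] : Type u :=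
  Σ (n : ℕ) (m : ℕ) (a : Fin n → Fin m → R),
    (((Fin m → R) ⧸ Submodule.span R (Set.range a)) →ₗ[R] M)

/-- the f.p. module attached to an index. -/
abbrev Qm (R : Type u) [CommRing R] (M : Type u) [AddCommGroup M] [Module R M] (i : Idx R M) : Type u :=
  (Fin i.2.1 → R) ⧸ Submodule.span R (Set.range i.2.2.1)

theorem fp_Qm (R : Type u) [CommRing R] (M : Type u) [AddCommGroup M] [Module R M] (i : Idx R M) :
    Module.FinitePresentation R (Qm R M i) := by
  refine Module.finitePresentation_of_surjective (M := Fin i.2.1 → R)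
    (Submodule.mkQ (Submodule.span R (Set.range i.2.2.1))) (Submodule.mkQ_surjective _) ?_
  rw [Submodule.ker_mkQ]
  exact Submodule.fg_span (Set.finite_range _)

theorem key (R : Type u) [CommRing R] (M : Type u) [AddCommGroup M] [Module R M]
    (n m : ℕ) (a : Fin n → Fin m → R) (v : Fin m → M) (hv : ∀ i, ∑ j, a i j • v j = 0) :
      ∃ (i0 : Idx R M) (q : Fin m → Qm R M i0), (∀ j, i0.2.2.2 (q j) = v j) ∧
        (∀ i, ∑ j, a i j • q j = 0) := by
  let φ0 : (Fin m → R) →ₗ[R] M := Fintype.linearCombination R v
  have hle : Submodule.span R (Set.range a) ≤ LinearMap.ker φ0 := by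
    rw [Submodule.span_le]
    rintro _ ⟨i, rfl⟩
    show φ0 (a i) = 0
    simp only [φ0, Fintype.linearCombination_apply]
    exact hv i
  let φ : ((Fin m → R) ⧸ Submodule.span R (Set.range a)) →ₗ[R] M :=
    Submodule.liftQ _ φ0 hle
  refine ⟨⟨n, m, a, φ⟩, fun j => Submodule.Quotient.mk (Pi.single j (1 : R)), ?_, ?_⟩
  · intro j
    show φ (Submodule.Quotient.mk (Pi.single j (1 : R))) = _
    simp [φ, φ0, Fintype.linearCombination_apply]
  · intro i
    have h3 : (a i) = ∑ j, a i j • (Pi.single j (1 : R) : Fin m → R) := by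
      ext k
      simp [Finset.sum_apply, Pi.single_apply]
    have h4 : (Submodule.Quotient.mk (∑ j, a i j • (Pi.single j (1 : R) : Fin m → R)) :
        (Fin m → R) ⧸ Submodule.span R (Set.range a)) =
        ∑ j, a i j • (Submodule.Quotient.mk (Pi.single j (1 : R) : Fin m → R)) := by
      rw [← Submodule.mkQ_apply, map_sum]
      simp
    have h5 : (Submodule.Quotient.mk (a i) : (Fin m → R) ⧸ Submodule.span R (Set.range a)) = 0 := by
      rw [Submodule.Quotient.mk_eq_zero]
      exact Submodule.subset_span ⟨i, rfl⟩
    rw [h3, h4] at h5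
    exact h5

/-- For every `R`-module `M` there is a universally exact sequence `0 → N → P → M → 0` with `P` pure
projective; this row takes `P` to be a direct sum of finitely presented modules, which is pure
projective: there is a surjection from such a direct sum onto `M` whose kernel inclusion is
universally injective. -/
theorem result (R : Type u) [CommRing R]
    (M : Type u) [AddCommGroup M] [Module R M] :
    ∃ (ι : Type u) (Q : ι → Type u) (_ : ∀ i, AddCommGroup (Q i)) (_ : ∀ i, Module R (Q i)),
      (∀ i, Module.FinitePresentation R (Q i)) ∧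
      ∃ g : (Π₀ i, Q i) →ₗ[R] M, Function.Surjective g ∧
        CAlgX.UniversallyInjective R (LinearMap.ker g).subtype := by
  exact ⟨Idx R M, Qm R M, fun i => inferInstance, fun i => inferInstance, fp_Qm R M,
    generic R M (Idx R M) (Qm R M) (fun i => i.2.2.2) (key R M)⟩

end Groth.Agent.S8770
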