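import Groth.Statements.S8769
import Groth.Agent.S2057
import Groth.Agent.S8770
import Mathlib
-- import your own Groth.Agent.* helpers here

set_option autoImplicit false
universe u
open PureExt

namespace Groth.Agent.S8769

/-- finitely presented modules are pure projective. -/
theorem lift_fp (R : Type u) [CommRing R] (Q : Type u) [AddCommGroup Q] [Module R Q]
    [Module.FinitePresentation R Q] {L N : Type u} [AddCommGroup L] [Module R L] [AddCommGroup N]
    [Module R N] (g : L →ₗ[R] N) (hg : Function.Surjective g)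
    (hpure : CAlgX.UniversallyInjective R (LinearMap.ker g).subtype) (φ : Q →ₗ[R] N) :
    ∃ ψ : Q →ₗ[R] L, g ∘ₗ ψ = φ := by
  obtain ⟨n, m, π, ρ, hπ, hex⟩ := Module.FinitePresentation.exists_fin' R Q
  -- lifts of the generators
  choose y hy using fun j : Fin n => hg (φ (π (Pi.single j 1)))
  let a : Fin m → Fin n → R := fun i => ρ (Pi.single i 1)
  have hv : ∀ v : Fin n → R, v = ∑ j, v j • (Pi.single j (1 : R) : Fin n → R) := by
    intro v
    ext k
    simp [Finset.sum_apply, Pi.single_apply]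
  have hgy : ∀ v : Fin n → R, g (∑ j, v j • y j) = φ (π v) := by
    intro v
    conv_rhs => rw [hv v]
    simp only [map_sum, map_smul, hy]
  have hx : ∀ i, ∑ j, a i j • y j ∈ LinearMap.ker g := by
    intro i
    rw [LinearMap.mem_ker, hgy (a i)]
    have : π (a i) = 0 := hex.apply_apply_eq_zero _
    rw [this, map_zero]
  obtain ⟨z, hz⟩ := (Groth.Agent.S2057.result _ (Submodule.injective_subtype _)).mp hpure m n
    (fun i => ⟨_, hx i⟩) y a (fun i => rfl)
  let ψ0 : (Fin n → R) →ₗ[R] L := Fintype.linearCombination R (fun j => y j - (z j : L))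
  have hψ0 : ∀ v, ψ0 v = ∑ j, v j • (y j - (z j : L)) := fun v => by
    simp [ψ0, Fintype.linearCombination_apply]
  have hker : LinearMap.ker π ≤ LinearMap.ker ψ0 := by
    intro v hv'
    obtain ⟨w, rfl⟩ := (hex v).mp hv'
    -- ρ w = Σ_i w i • a i
    have hw : ρ w = ∑ i, w i • a i := by
      have hw' : w = ∑ i, w i • (Pi.single i (1 : R) : Fin m → R) := by
        ext k
        simp [Finset.sum_apply, Pi.single_apply]
      conv_lhs => rw [hw']
      simp only [map_sum, map_smul, a]
    rw [LinearMap.mem_ker, hw, map_sum]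
    refine Finset.sum_eq_zero (fun i _ => ?_)
    rw [map_smul]
    have h0 : ψ0 (a i) = 0 := by
      rw [hψ0]
      simp only [smul_sub, Finset.sum_sub_distrib]
      have := congrArg (fun t : LinearMap.ker g => (t : L)) (hz i)
      simp only [Submodule.coe_sum, Submodule.coe_smul] at this
      rw [← this, sub_self]
    rw [h0, smul_zero]
  let e := LinearMap.quotKerEquivOfSurjective π hπ
  refine ⟨(Submodule.liftQ _ ψ0 hker) ∘ₗ e.symm.toLinearMap, ?_⟩
  ext q
  obtain ⟨v, rfl⟩ := hπ q
  have he : e.symm (π v) = Submodule.Quotient.mk v := by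
    rw [LinearEquiv.symm_apply_eq]
    rfl
  simp only [LinearMap.comp_apply, LinearEquiv.coe_coe, he, Submodule.liftQ_apply]
  rw [hψ0, ← hgy v]
  simp only [map_sum, map_smul, map_sub]
  refine Finset.sum_congr rfl (fun j _ => ?_)
  have : g (z j : L) = 0 := (z j).2
  rw [this, sub_zero]

/-- direct sums of finitely presented modules are pure projective -/
theorem lift_dfinsupp (R : Type u) [CommRing R] (ι : Type u) (Q : ι → Type u)
    [∀ i, AddCommGroup (Q i)] [∀ i, Module R (Q i)] (hQ : ∀ i, Module.FinitePresentation R (Q i))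
    {L N : Type u} [AddCommGroup L] [Module R L] [AddCommGroup N]
    [Module R N] (g : L →ₗ[R] N) (hg : Function.Surjective g)
    (hpure : CAlgX.UniversallyInjective R (LinearMap.ker g).subtype) (φ : (Π₀ i, Q i) →ₗ[R] N) :
    ∃ ψ : (Π₀ i, Q i) →ₗ[R] L, g ∘ₗ ψ = φ := by
  classical
  have := fun i => lift_fp R (Q i) g hg hpure (φ ∘ₗ DFinsupp.lsingle i)
  choose ψ hψ using this
  refine ⟨DFinsupp.lsum ℕ ψ, ?_⟩
  apply DFinsupp.lhom_ext'
  intro i
  rw [← hψ i]
  ext q
  simp

/-- An `R`-module `P` is pure projective (every linear map `P → N` lifts along every surjection `L → N`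
for which `0 → ker → L → N → 0` is universally exact, i.e. whose kernel inclusion is universally
injective) if and only if `P` is a direct summand of a direct sum of finitely presented `R`-modules. -/
theorem result (R : Type u) [CommRing R]
    (P : Type u) [AddCommGroup P] [Module R P] :
    (∀ ⦃L N : Type u⦄ [AddCommGroup L] [Module R L] [AddCommGroup N] [Module R N] (g : L →ₗ[R] N),
        Function.Surjective g → CAlgX.UniversallyInjective R (LinearMap.ker g).subtype →
        ∀ φ : P →ₗ[R] N, ∃ ψ : P →ₗ[R] L, g ∘ₗ ψ = φ) ↔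
    ∃ (ι : Type u) (Q : ι → Type u) (_ : ∀ i, AddCommGroup (Q i)) (_ : ∀ i, Module R (Q i)),
      (∀ i, Module.FinitePresentation R (Q i)) ∧
      ∃ (s : P →ₗ[R] (Π₀ i, Q i)) (r : (Π₀ i, Q i) →ₗ[R] P), r ∘ₗ s = LinearMap.id := by
  constructor
  · intro H
    obtain ⟨ι, Q, i1, i2, hfp, g, hg, hpure⟩ := Groth.Agent.S8770.result R P
    obtain ⟨ψ, hψ⟩ := H g hg hpure LinearMap.id
    exact ⟨ι, Q, i1, i2, hfp, ψ, g, hψ⟩
  · rintro ⟨ι, Q, i1, i2, hfp, s, r, hrs⟩ L N _ _ _ _ g hg hpure φ
    obtain ⟨ψ, hψ⟩ := lift_dfinsupp R ι Q hfp g hg hpure (φ ∘ₗ r)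
    refine ⟨ψ ∘ₗ s, ?_⟩
    rw [← LinearMap.comp_assoc, hψ, LinearMap.comp_assoc, hrs, LinearMap.comp_id]

end Groth.Agent.S8769
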