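import Groth.Statements.S8774
import Mathlib
import Groth.Agent.Lib.helper28.PureRes
import Groth.Agent.S8770

set_option autoImplicit false
universe u
open CategoryTheory
open PureExt

namespace Groth.Agent.S8774
open CategoryTheory
open scoped TensorProduct
open Groth.Agent.Lib.helper28.PureRes

section helpers



variable {R : Type u} [CommRing R]

/-- a pure cover by a direct sum of finitely presented modules -/
structure Cover (M : ModuleCat.{u} R) where
  ι : Type u
  Q : ι → Type u
  [acg : ∀ i, AddCommGroup (Q i)]
  [mod : ∀ i, Module R (Q i)]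
  fp : ∀ i, Module.FinitePresentation R (Q i)
  g : (Π₀ i, Q i) →ₗ[R] M
  surj : Function.Surjective g
  ui : CAlgX.UniversallyInjective R (LinearMap.ker g).subtype

attribute [instance] Cover.acg Cover.mod

theorem cover_nonempty (M : ModuleCat.{u} R) : Nonempty (Cover M) := by
  obtain ⟨ι, Q, i1, i2, fp, g, hs, hu⟩ := Groth.Agent.S8770.result R M
  exact ⟨{ ι := ι, Q := Q, fp := fp, g := g, surj := hs, ui := hu }⟩

noncomputable def cover (M : ModuleCat.{u} R) : Cover M := Classical.choice (cover_nonempty M)

noncomputable def Cover.obj {M : ModuleCat.{u} R} (c : Cover M) : ModuleCat.{u} R :=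
  ModuleCat.of R (Π₀ i, c.Q i)

noncomputable def Cover.hom {M : ModuleCat.{u} R} (c : Cover M) : c.obj ⟶ M := ModuleCat.ofHom c.g

/-- one stage of the construction: a map `f : X ⟶ Y` -/
structure Stage (R : Type u) [CommRing R] where
  X : ModuleCat.{u} R
  Y : ModuleCat.{u} R
  f : X ⟶ Y

noncomputable def Stage.next (s : Stage R) : Stage R where
  X := (cover (ModuleCat.of R (LinearMap.ker s.f.hom))).obj
  Y := s.X
  f := (cover (ModuleCat.of R (LinearMap.ker s.f.hom))).hom ≫
    ModuleCat.ofHom (LinearMap.ker s.f.hom).subtype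

noncomputable def stage (M : ModuleCat.{u} R) : ℕ → Stage R
  | 0 => ⟨(cover M).obj, M, (cover M).hom⟩
  | n+1 => (stage M n).next

theorem tensor_exact_of {A B C : Type u} [AddCommGroup A] [Module R A] [AddCommGroup B] [Module R B]
    [AddCommGroup C] [Module R C] (a : A →ₗ[R] B) (b : B →ₗ[R] C) (hab : Function.Exact a b)
    (hb : CAlgX.UniversallyInjective R (LinearMap.range b).subtype)
    (Q : Type u) [AddCommGroup Q] [Module R Q] :
    Function.Exact (a.rTensor Q) (b.rTensor Q) := by
  have h1 : Function.Exact a b.rangeRestrict := by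
    intro x
    rw [← hab x]
    constructor
    · intro h; exact congrArg Subtype.val h
    · intro h; exact Subtype.ext h
  have h2 := rTensor_exact Q h1 b.surjective_rangeRestrict
  have h3 : b.rTensor Q = (LinearMap.range b).subtype.rTensor Q ∘ₗ b.rangeRestrict.rTensor Q := by
    rw [← LinearMap.rTensor_comp]; rfl
  rw [h3]
  exact (Function.Injective.comp_exact_iff_exact (hb Q)).mpr h2

theorem next_range (s : Stage R) : LinearMap.range s.next.f.hom = LinearMap.ker s.f.hom := by
  show LinearMap.range ((LinearMap.ker s.f.hom).subtype ∘ₗ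
    (cover (ModuleCat.of R (LinearMap.ker s.f.hom))).g) = _
  rw [LinearMap.range_comp, LinearMap.range_eq_top.mpr (cover _).surj, Submodule.map_top,
    Submodule.range_subtype]

theorem next_ker (s : Stage R) :
    CAlgX.UniversallyInjective R (LinearMap.ker s.next.f.hom).subtype := by
  have : LinearMap.ker s.next.f.hom =
      LinearMap.ker (cover (ModuleCat.of R (LinearMap.ker s.f.hom))).g := by
    show LinearMap.ker ((LinearMap.ker s.f.hom).subtype ∘ₗ
      (cover (ModuleCat.of R (LinearMap.ker s.f.hom))).g) = _
    exact LinearMap.ker_comp_of_ker_eq_bot _ (Submodule.ker_subtype _)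
  rw [this]
  exact (cover _).ui

theorem stage_ker (M : ModuleCat.{u} R) (n : ℕ) :
    CAlgX.UniversallyInjective R (LinearMap.ker (stage M n).f.hom).subtype := by
  cases n with
  | zero => exact (cover M).ui
  | succ n => exact next_ker _

theorem top_ui {A : Type u} [AddCommGroup A] [Module R A] (p : Submodule R A) (hp : p = ⊤) :
    CAlgX.UniversallyInjective R p.subtype := by
  subst hp
  intro Q _ _
  have : (⊤ : Submodule R A).subtype.rTensor Q =
      ((Submodule.topEquiv (R := R) (M := A)).rTensor Q).toLinearMap := by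
    ext x q; rfl
  rw [this]
  exact (LinearEquiv.rTensor Q Submodule.topEquiv).injective

theorem stage_range (M : ModuleCat.{u} R) (n : ℕ) :
    CAlgX.UniversallyInjective R (LinearMap.range (stage M n).f.hom).subtype := by
  cases n with
  | zero => exact top_ui _ (LinearMap.range_eq_top.mpr (cover M).surj)
  | succ n =>
    show CAlgX.UniversallyInjective R (LinearMap.range (stage M n).next.f.hom).subtype
    rw [next_range]
    exact stage_ker M n

theorem next_exact (s : Stage R) (hs : CAlgX.UniversallyInjective R (LinearMap.range s.f.hom).subtype)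
    (Q : Type u) [AddCommGroup Q] [Module R Q] :
    Function.Exact (s.next.f.hom.rTensor Q) (s.f.hom.rTensor Q) := by
  have hab : Function.Exact s.next.f.hom s.f.hom := by
    intro y
    have h := next_range s
    constructor
    · intro hy
      have h1 : (y : s.X) ∈ LinearMap.ker s.f.hom := hy
      rw [← h] at h1
      exact h1
    · intro hy
      have h1 : (y : s.X) ∈ LinearMap.range s.next.f.hom := hy
      rw [h] at h1
      exact h1
  exact tensor_exact_of _ _ hab hs Q

theorem stage_exact (M : ModuleCat.{u} R) (n : ℕ) (Q : Type u) [AddCommGroup Q] [Module R Q] :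
    Function.Exact ((stage M (n+1)).f.hom.rTensor Q) ((stage M n).f.hom.rTensor Q) :=
  next_exact (stage M n) (stage_range M n) Q

theorem stage_comp (M : ModuleCat.{u} R) (n : ℕ) :
    (stage M (n+1)).f ≫ (stage M n).f = 0 := by
  apply ModuleCat.hom_ext
  have := exact_of_rTensor_self _ _ (stage_exact M n R)
  exact this.linearMap_comp_eq_zero

theorem stage_retract (M : ModuleCat.{u} R) (n : ℕ) :
    ∃ (ι : Type u) (Q : ι → Type u) (_ : ∀ i, AddCommGroup (Q i)) (_ : ∀ i, Module R (Q i)),
        (∀ i, Module.FinitePresentation R (Q i)) ∧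
        ∃ (s : (stage M n).X →ₗ[R] (Π₀ i, Q i)) (r : (Π₀ i, Q i) →ₗ[R] (stage M n).X),
          r ∘ₗ s = LinearMap.id := by
  cases n with
  | zero =>
    exact ⟨(cover M).ι, (cover M).Q, inferInstance, inferInstance, (cover M).fp,
      LinearMap.id, LinearMap.id, rfl⟩
  | succ n =>
    exact ⟨(cover _).ι, (cover _).Q, inferInstance, inferInstance, (cover _).fp,
      LinearMap.id, LinearMap.id, rfl⟩



end helpers

/-- Every `R`-module `M` has a pure projective resolution: a complex `… → P_1 → P_0` with an
augmentation to `M` such that each `P_n` is pure projective (a direct summand of a direct sum of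
finitely presented modules) and `… → P_1 → P_0 → M → 0` is universally exact, i.e. the augmentation
stays a quasi-isomorphism after tensoring with any `R`-module `N`. -/
theorem result (R : Type u) [CommRing R] (M : ModuleCat.{u} R) :
    ∃ (P : ChainComplex (ModuleCat.{u} R) ℕ) (π : P ⟶ (ChainComplex.single₀ (ModuleCat.{u} R)).obj M),
      (∀ n : ℕ, ∃ (ι : Type u) (Q : ι → Type u) (_ : ∀ i, AddCommGroup (Q i)) (_ : ∀ i, Module R (Q i)),
        (∀ i, Module.FinitePresentation R (Q i)) ∧
        ∃ (s : P.X n →ₗ[R] (Π₀ i, Q i)) (r : (Π₀ i, Q i) →ₗ[R] P.X n), r ∘ₗ s = LinearMap.id) ∧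
      ∀ N : ModuleCat.{u} R,
        QuasiIso (((MonoidalCategory.tensorRight N).mapHomologicalComplex (ComplexShape.down ℕ)).map π) := by
  let P : ChainComplex (ModuleCat.{u} R) ℕ :=
    ChainComplex.of (fun n => (stage M n).X) (fun n => (stage M (n+1)).f)
      (fun n => stage_comp M (n+1))
  have hd : ∀ n, P.d (n+1) n = (stage M (n+1)).f := fun n =>
    ChainComplex.of_d (fun n => (stage M n).X) (fun n => (stage M (n+1)).f) n
  have h10 : P.d 1 0 ≫ (stage M 0).f = 0 := by rw [hd]; exact stage_comp M 0
  let π : P ⟶ (ChainComplex.single₀ (ModuleCat.{u} R)).obj M :=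
    (ChainComplex.toSingle₀Equiv P M).symm ⟨(stage M 0).f, h10⟩
  have hπ : π.f 0 = (stage M 0).f := ChainComplex.toSingle₀Equiv_symm_apply_f_zero _ _
  refine ⟨P, π, fun n => stage_retract M n, fun T => ⟨fun i => ?_⟩⟩
  cases i with
  | zero =>
    rw [quasiIsoAt_zero_iff]
    · constructor
      · show Function.Exact ((P.d 1 0).hom.rTensor T) ((π.f 0).hom.rTensor T)
        rw [hd 0, hπ]
        exact stage_exact M 0 T
      · show Function.Surjective ((π.f 0).hom.rTensor T)
        rw [hπ]
        exact LinearMap.rTensor_surjective T (cover M).surj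
    · exact (MonoidalCategory.tensorRight T).map_zero _ _
  | succ n =>
    rw [quasiIsoAt_succ_iff]
    · show Function.Exact ((P.d (n+2) (n+1)).hom.rTensor T) ((P.d (n+1) n).hom.rTensor T)
      rw [hd n, hd (n+1)]
      exact stage_exact M (n+1) T
    · exact Functor.map_isZero (MonoidalCategory.tensorRight T)
        (HomologicalComplex.isZero_single_obj_X (ComplexShape.down ℕ) 0 M (n+1) (by simp))

end Groth.Agent.S8774
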