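import Groth.Statements.S8777
import Mathlib
import Groth.Agent.Lib.helper28.PureRes

set_option autoImplicit false
universe u
open CategoryTheory
open PureExt

namespace Groth.Agent.S8777
open CategoryTheory
open scoped TensorProduct
open Groth.Agent.Lib.helper28.PureRes

section helpers



variable {R : Type u} [CommRing R]

/-- the evaluation map into the double character module -/
def ev (M : Type u) [AddCommGroup M] [Module R M] :
    M →ₗ[R] CharacterModule (CharacterModule M) where
  toFun m :=
    { toFun := fun c => c m
      map_zero' := rfl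
      map_add' := fun _ _ => rfl }
  map_add' m m' := by
    ext c
    exact c.map_add m m'
  map_smul' r m := by
    ext c
    rfl

theorem ev_ui (M : Type u) [AddCommGroup M] [Module R M] :
    CAlgX.UniversallyInjective R (ev (R := R) M) := by
  intro Q _ _
  rw [rTensor_injective_iff_lcomp_surjective]
  intro φ
  -- flip φ : M → Q^∨ to φ' : Q → M^∨
  let φ' : Q →ₗ[R] CharacterModule M :=
    { toFun := fun q =>
        { toFun := fun m => φ m q
          map_zero' := by rw [map_zero]; rfl
          map_add' := fun m m' => by rw [map_add]; rfl }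
      map_add' := fun q q' => by
        ext m
        exact (φ m).map_add q q'
      map_smul' := fun r q => by
        ext m
        change φ m (r • q) = φ (r • m) q
        have := LinearMap.map_smul φ r m
        rw [this]; rfl }
  refine ⟨CharacterModule.dual φ', ?_⟩
  ext m q
  rfl

theorem char_pinj (B : Type u) [AddCommGroup B] [Module R B] : PInj R (CharacterModule B) := by
  intro K L _ _ _ _ g hg φ
  have := (rTensor_injective_iff_lcomp_surjective (B := B)).mp (hg B)
  obtain ⟨ψ, hψ⟩ := this φ
  exact ⟨ψ, hψ⟩

/-- one stage of the construction: a map `f : Y ⟶ X` -/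
structure Stage (R : Type u) [CommRing R] where
  Y : ModuleCat.{u} R
  X : ModuleCat.{u} R
  f : Y ⟶ X

def under (M : ModuleCat.{u} R) : ModuleCat.{u} R :=
  ModuleCat.of R (CharacterModule (CharacterModule M))

def Stage.next (s : Stage R) : Stage R where
  Y := s.X
  X := under (ModuleCat.of R (s.X ⧸ LinearMap.range s.f.hom))
  f := ModuleCat.ofHom ((ev (R := R) (s.X ⧸ LinearMap.range s.f.hom)) ∘ₗ
    (LinearMap.range s.f.hom).mkQ)

def stage (M : ModuleCat.{u} R) : ℕ → Stage R
  | 0 => ⟨M, under M, ModuleCat.ofHom (ev (R := R) M)⟩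
  | n+1 => (stage M n).next

theorem next_exact (s : Stage R) (Q : Type u) [AddCommGroup Q] [Module R Q] :
    Function.Exact (s.f.hom.rTensor Q) (s.next.f.hom.rTensor Q) := by
  have h1 : Function.Exact (s.f.hom.rTensor Q) ((LinearMap.range s.f.hom).mkQ.rTensor Q) :=
    rTensor_exact Q (LinearMap.exact_map_mkQ_range s.f.hom) (Submodule.mkQ_surjective _)
  have h2 : s.next.f.hom.rTensor Q =
      (ev (R := R) (s.X ⧸ LinearMap.range s.f.hom)).rTensor Q ∘ₗ
        (LinearMap.range s.f.hom).mkQ.rTensor Q := by
    rw [← LinearMap.rTensor_comp]; rfl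
  rw [h2]
  exact (Function.Injective.comp_exact_iff_exact (ev_ui _ Q)).mpr h1

theorem stage_pinj (M : ModuleCat.{u} R) (n : ℕ) : PInj R (stage M n).X := by
  cases n with
  | zero => exact char_pinj _
  | succ n => exact char_pinj _

theorem stage_comp (M : ModuleCat.{u} R) (n : ℕ) :
    (stage M n).f ≫ (stage M (n+1)).f = 0 := by
  apply ModuleCat.hom_ext
  have := exact_of_rTensor_self _ _ (next_exact (stage M n) R)
  exact this.linearMap_comp_eq_zero



end helpers

/-- Every `R`-module `M` has a pure injective resolution: a complex `I^0 → I^1 → …` with a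
coaugmentation from `M` such that each `I^n` is pure injective (every linear map into `I^n` extends
along every universally injective map) and `0 → M → I^0 → I^1 → …` is universally exact, i.e. the
coaugmentation stays a quasi-isomorphism after tensoring with any `R`-module. -/
theorem result (R : Type u) [CommRing R] (M : ModuleCat.{u} R) :
    ∃ (I : CochainComplex (ModuleCat.{u} R) ℕ) (η : (CochainComplex.single₀ (ModuleCat.{u} R)).obj M ⟶ I),
      (∀ n : ℕ, (∀ ⦃K L : Type u⦄ [AddCommGroup K] [Module R K] [AddCommGroup L] [Module R L] (g : K →ₗ[R] L),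
          CAlgX.UniversallyInjective R g → ∀ φ : K →ₗ[R] I.X n, ∃ ψ : L →ₗ[R] I.X n, ψ ∘ₗ g = φ)) ∧
      ∀ T : ModuleCat.{u} R,
      QuasiIso (((MonoidalCategory.tensorRight T).mapHomologicalComplex (ComplexShape.up ℕ)).map η) := by
  let I : CochainComplex (ModuleCat.{u} R) ℕ :=
    CochainComplex.of (fun n => (stage M n).X) (fun n => (stage M (n+1)).f)
      (fun n => stage_comp M (n+1))
  have hd : ∀ n, I.d n (n+1) = (stage M (n+1)).f := fun n =>
    CochainComplex.of_d (fun n => (stage M n).X) (fun n => (stage M (n+1)).f) n
  have h01 : (stage M 0).f ≫ I.d 0 1 = 0 := by rw [hd]; exact stage_comp M 0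
  let η : (CochainComplex.single₀ (ModuleCat.{u} R)).obj M ⟶ I :=
    (CochainComplex.fromSingle₀Equiv I M).symm ⟨(stage M 0).f, h01⟩
  have hη : η.f 0 = (stage M 0).f := CochainComplex.fromSingle₀Equiv_symm_apply_f_zero _ _
  refine ⟨I, η, fun n => stage_pinj M n, fun T => ⟨fun i => ?_⟩⟩
  cases i with
  | zero =>
    rw [coQuasiIsoAt_zero_iff]
    · constructor
      · show Function.Exact ((η.f 0).hom.rTensor T) ((I.d 0 1).hom.rTensor T)
        rw [hd 0, hη]
        exact next_exact (stage M 0) T
      · show Function.Injective ((η.f 0).hom.rTensor T)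
        rw [hη]
        exact ev_ui (R := R) M T
    · exact (MonoidalCategory.tensorRight T).map_zero _ _
  | succ n =>
    rw [coQuasiIsoAt_succ_iff]
    · show Function.Exact ((I.d n (n+1)).hom.rTensor T) ((I.d (n+1) (n+2)).hom.rTensor T)
      rw [hd n, hd (n+1)]
      exact next_exact (stage M (n+1)) T
    · exact Functor.map_isZero (MonoidalCategory.tensorRight T)
        (HomologicalComplex.isZero_single_obj_X (ComplexShape.up ℕ) 0 M (n+1) (by simp))

end Groth.Agent.S8777
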