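import Groth.Statements.S8812
import Groth.Agent.Lib.helper13.DeltaZ

set_option autoImplicit false
universe u
open CategoryTheory AlgebraicGeometry
open Algz

namespace Groth.Agent.S8812

/-- Let Y be a Noetherian scheme and Z ⊆ Y a closed subset. If y specializes to y' then δ_Z(y') ≤
δ_Z(y); equivalently each set {y | δ_Z(y) ≤ k} is stable under specialization. -/
theorem result (Y : Scheme.{u}) [IsNoetherian Y] (Z : Set Y) (hZ : IsClosed Z) (y y' : Y) (h : y ⤳ y') : Algz.deltaZ Z y' ≤ Algz.deltaZ Z y := by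
  unfold Algz.deltaZ
  refine le_iInf₂ fun k S => ?_
  change Algz.deltaZ Z y' ≤ S.delta
  by_cases hyy : y' ⤳ y
  · have : y = y' := (h.antisymm hyy).eq
    subst this
    exact Groth.Agent.Lib.helper13.DeltaZ.deltaZ_le S
  by_cases hc : S.c (Fin.last k) = 0
  · -- construction B
    have h0 : S.v (Fin.last k) ⤳ S.w (Fin.last k) :=
      Groth.Agent.Lib.helper13.DeltaZ.specializes_of_codimPt_eq_zero _ hc
    exact (Groth.Agent.Lib.helper13.DeltaZ.deltaZ_le _).trans
      (Groth.Agent.Lib.helper13.DeltaZ.replaceLast_delta_le hZ S y' h h0)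
  · -- construction A
    have hc1 : 1 ≤ S.c (Fin.last k) := Order.one_le_iff_ne_zero.mpr hc
    refine (Groth.Agent.Lib.helper13.DeltaZ.deltaZ_le
      (Groth.Agent.Lib.helper13.DeltaZ.snocSys S y' h)).trans ?_
    rw [Groth.Agent.Lib.helper13.DeltaZ.delta_eq_val, Groth.Agent.Lib.helper13.DeltaZ.delta_eq_val,
      Groth.Agent.Lib.helper13.DeltaZ.snocSys_c, Groth.Agent.Lib.helper13.DeltaZ.snocSys_b]
    apply Groth.Agent.Lib.helper13.DeltaZ.val_snoc_le _ _ _ _ _ hc1
    apply Groth.Agent.Lib.helper13.DeltaZ.one_le_codimPt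
    rw [S.last_eq]
    exact hyy

end Groth.Agent.S8812
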