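import Groth.Statements.S8813
import Groth.Agent.Lib.helper13.DeltaZ

set_option autoImplicit false
universe u
open CategoryTheory AlgebraicGeometry
open Algz

namespace Groth.Agent.S8813

/-- Let Y be a Noetherian scheme, Z ⊆ Y a closed subset, y a point of Y and z a point of Z lying in the
closure of y. Then δ_Z(y) is at most the dimension of the local ring at z of the closure of y with
its reduced structure, that is, the Krull dimension of O_{Y,z}/𝔭 where 𝔭 is the prime ideal of the
local ring O_{Y,z} given by the point of Spec O_{Y,z} that maps to y. -/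
theorem result (Y : Scheme.{u}) [IsNoetherian Y] (Z : Set Y) (hZ : IsClosed Z) (y z : Y) (h : y ⤳ z) (hz : z ∈ Z) (P : PrimeSpectrum (Y.presheaf.stalk z)) (hP : (Y.fromSpecStalk z).base P = y) : ((Algz.deltaZ Z y : ℕ∞) : WithBot ℕ∞) ≤ ringKrullDim (↥(Y.presheaf.stalk z) ⧸ P.asIdeal) := by
  -- the system of length `0` with `V_0 = closure z`, `W_0 = closure y`
  let S : Algz.DSystem Z y 0 :=
    { v := fun _ => z
      w := fun _ => y
      spec := fun _ => h
      spec_succ := fun i => i.elim0
      start_mem := hz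
      last_eq := rfl }
  have hdelta : S.delta = Algz.codimPt y z h := by
    simp [Algz.DSystem.delta, Algz.DSystem.c, Finset.univ_unique, S]
  have h1 : Algz.deltaZ Z y ≤ Algz.codimPt y z h :=
    hdelta ▸ Groth.Agent.Lib.helper13.DeltaZ.deltaZ_le S
  refine (WithBot.coe_le_coe.mpr h1).trans ?_
  rw [Algz.codimPt, Order.height_eq_krullDim_Iic, ringKrullDim_quotient,
    ← Order.krullDim_orderDual (α := PrimeSpectrum.zeroLocus (R := ↑(Y.presheaf.stalk z)) P.asIdeal)]
  set a : Set.Ici (Specialization.toEquiv z) :=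
    ⟨Specialization.toEquiv y, Specialization.toEquiv_le_toEquiv.mpr h⟩ with ha
  have hemb := (Y.fromSpecStalk z).isEmbedding
  -- choose preimages
  have hex : ∀ t : Set.Iic a, ∃ Q : PrimeSpectrum (Y.presheaf.stalk z),
      (Y.fromSpecStalk z) Q = Specialization.ofEquiv t.1.1 := by
    intro t
    have hxz : Specialization.ofEquiv t.1.1 ⤳ z := Specialization.toEquiv_le_toEquiv.mp t.1.2
    have : Specialization.ofEquiv t.1.1 ∈ Set.range (Y.fromSpecStalk z) := by
      rw [Scheme.range_fromSpecStalk]
      exact hxz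
    exact this
  choose g hg using hex
  have key : ∀ Q Q' : PrimeSpectrum (Y.presheaf.stalk z),
      Q ≤ Q' ↔ (Y.fromSpecStalk z) Q ⤳ (Y.fromSpecStalk z) Q' := by
    intro Q Q'
    rw [PrimeSpectrum.le_iff_specializes]
    exact hemb.isInducing.specializes_iff.symm
  have hPg : ∀ t : Set.Iic a, P ≤ g t := by
    intro t
    rw [key]
    have hyx : y ⤳ Specialization.ofEquiv t.1.1 := Specialization.toEquiv_le_toEquiv.mp t.2
    have hP' : (Y.fromSpecStalk z) P = y := hP
    rw [hP', hg]
    exact hyx
  let G : Set.Iic a → (PrimeSpectrum.zeroLocus (R := ↑(Y.presheaf.stalk z)) P.asIdeal)ᵒᵈ :=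
    fun t => OrderDual.toDual ⟨g t, by
      rw [PrimeSpectrum.mem_zeroLocus]
      exact hPg t⟩
  have hle : ∀ t t' : Set.Iic a, t ≤ t' ↔ G t ≤ G t' := by
    intro t t'
    change t.1.1 ≤ t'.1.1 ↔ g t' ≤ g t
    rw [key, hg, hg]
    exact Iff.rfl
  have hG : StrictMono G := by
    intro t t' htt
    rw [lt_iff_le_not_ge] at htt ⊢
    exact ⟨(hle t t').mp htt.1, fun hcon => htt.2 ((hle t' t).mpr hcon)⟩
  exact Order.krullDim_le_of_strictMono G hG

end Groth.Agent.S8813
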