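import Groth.Statements.S8814
import Groth.Agent.Lib.helper13.DimFun

set_option autoImplicit false
universe u
open CategoryTheory AlgebraicGeometry
open Algz

namespace Groth.Agent.S8814

/-- Let Y be a Noetherian scheme, Z ⊆ Y a closed subset and δ a dimension function on Y. If δ_Z(y) is a
natural number n, then δ(y) ≤ n + δ(z) for some z ∈ Z; in other words δ(y) ≤ δ_Z(y) + δ_max with
δ_max the maximum of δ on Z. -/
theorem result (Y : Scheme.{u}) [IsNoetherian Y] (Z : Set Y) (hZ : IsClosed Z) (δ : Y → ℤ) (hδ : Cyc.IsDimFun Y δ) (y : Y) (n : ℕ) (hn : Algz.deltaZ Z y = n) : ∃ z ∈ Z, δ y ≤ n + δ z := by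
  -- a system of value at most `n`
  have hlt : Algz.deltaZ Z y < (n : ℕ∞) + 1 := by
    rw [hn]
    exact_mod_cast Nat.lt_succ_self n
  unfold Algz.deltaZ at hlt
  rw [iInf_lt_iff] at hlt
  obtain ⟨k, hk⟩ := hlt
  rw [iInf_lt_iff] at hk
  obtain ⟨S, hS⟩ := hk
  have hSn : S.delta ≤ n := (ENat.lt_add_one_iff (ENat.natCast_ne_top n)).mp hS
  -- the term `i = 0`
  have hT0 : (∑ j : Fin (k + 1), S.c j) - ∑ j : Fin k, S.b j ≤ (n : ℕ∞) := by
    refine le_trans ?_ hSn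
    unfold Algz.DSystem.delta
    refine le_trans ?_ (le_add_self)
    refine le_trans (le_of_eq ?_) (Finset.le_sup (f := fun i : Fin (k + 1) =>
      (∑ j ∈ Finset.univ.filter (fun j : Fin (k + 1) => i ≤ j), S.c j) -
        ∑ j ∈ Finset.univ.filter (fun j : Fin k => i.val ≤ j.val), S.b j) (Finset.mem_univ 0))
    simp
  -- codimensions through `δ`
  have hc : ∀ j, S.c j = (((δ (S.w j) - δ (S.v j)).toNat : ℕ) : ℕ∞) :=
    fun j => Groth.Agent.Lib.helper13.DimFun.codimPt_eq δ hδ (S.spec j)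
  have hb : ∀ j, S.b j = (((δ (S.w j.castSucc) - δ (S.v j.succ)).toNat : ℕ) : ℕ∞) :=
    fun j => Groth.Agent.Lib.helper13.DimFun.codimPt_eq δ hδ (S.spec_succ j)
  simp only [hc, hb] at hT0
  rw [← Nat.cast_sum, ← Nat.cast_sum, ← ENat.natCast_sub] at hT0
  have hT0' : (∑ j : Fin (k + 1), (δ (S.w j) - δ (S.v j)).toNat) -
      ∑ j : Fin k, (δ (S.w j.castSucc) - δ (S.v j.succ)).toNat ≤ n := by exact_mod_cast hT0
  -- telescoping
  have hcz : ∀ j, ((δ (S.w j) - δ (S.v j)).toNat : ℤ) = δ (S.w j) - δ (S.v j) := fun j =>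
    Int.toNat_of_nonneg (sub_nonneg.mpr
      (Groth.Agent.Lib.helper13.DimFun.le_of_specializes δ hδ (S.spec j)))
  have hbz : ∀ j : Fin k, ((δ (S.w j.castSucc) - δ (S.v j.succ)).toNat : ℤ) =
      δ (S.w j.castSucc) - δ (S.v j.succ) := fun j =>
    Int.toNat_of_nonneg (sub_nonneg.mpr
      (Groth.Agent.Lib.helper13.DimFun.le_of_specializes δ hδ (S.spec_succ j)))
  have htel : δ (S.w (Fin.last k)) - δ (S.v 0) =
      ((∑ j : Fin (k + 1), (δ (S.w j) - δ (S.v j)).toNat : ℕ) : ℤ) -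
      ((∑ j : Fin k, (δ (S.w j.castSucc) - δ (S.v j.succ)).toNat : ℕ) : ℤ) := by
    push_cast
    simp only [hcz, hbz, Finset.sum_sub_distrib]
    rw [Fin.sum_univ_castSucc (fun j => δ (S.w j)), Fin.sum_univ_succ (fun j => δ (S.v j))]
    ring
  refine ⟨S.v 0, S.start_mem, ?_⟩
  have hy : δ y = δ (S.w (Fin.last k)) := by rw [S.last_eq]
  rw [hy]
  omega

end Groth.Agent.S8814
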