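import Groth.Statements.S8816
import Groth.Agent.Lib.helper13.DeltaZ

set_option autoImplicit false
universe u
open CategoryTheory AlgebraicGeometry
open Algz

namespace Groth.Agent.S8816

/-- Let Y be a Noetherian scheme and Z ⊆ Y closed. Given points y_0, …, y_k and y'_0, …, y'_{k-1} of Y
with y_0 ∈ Z such that each y'_i specializes to y_{i+1} with y'_i ≠ y_{i+1}, and each y'_i ⤳ y_i is
an immediate specialization (y'_i ≠ y_i and no point strictly between), one has δ_Z(y_k) ≤ k. (The
published statement also allows y'_i = y_{i+1}. In that generality the bound needs catenarity: for a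
Noetherian local domain of dimension 3 having a saturated chain of primes (0) ⊂ 𝔭 ⊂ 𝔪 of length 2,
with Z the closed point and the pattern y_0 = 𝔪, y'_0 = y_1 = 𝔭, y'_1 = y_2 = (0), one has k = 2 but
δ_Z((0)) = 3. The published proof handles nontrivial specializations y'_i ⤳ y_{i+1}, for which the
closures of the y_i and y'_i form a system of value k, and reduces to that case by shortening the
chain, which does not preserve immediacy; this row states the case the proof establishes.) -/
theorem result (Y : Scheme.{u}) [IsNoetherian Y] (Z : Set Y) (hZ : IsClosed Z) (k : ℕ) (y : Fin (k + 1) → Y) (y' : Fin k → Y) (h0 : y 0 ∈ Z) (hdown : ∀ i : Fin k, y' i ⤳ y i.castSucc ∧ y' i ≠ y i.castSucc ∧ ∀ z : Y, y' i ⤳ z → z ⤳ y i.castSucc → z = y' i ∨ z = y i.castSucc) (hup : ∀ i : Fin k, y' i ⤳ y i.succ ∧ y' i ≠ y i.succ) : Algz.deltaZ Z (y (Fin.last k)) ≤ k := by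
  -- the system `V_i = closure (y i)`, `W_i = closure (y' i)`, `W_k = closure (y k)`
  let S : Algz.DSystem Z (y (Fin.last k)) k :=
    { v := y
      w := Fin.snoc (α := fun _ => Y) y' (y (Fin.last k))
      spec := by
        intro i
        induction i using Fin.lastCases with
        | last => rw [Fin.snoc_last]
        | cast i => rw [Fin.snoc_castSucc]; exact (hdown i).1
      spec_succ := by
        intro i
        rw [Fin.snoc_castSucc]
        exact (hup i).1
      start_mem := h0
      last_eq := by rw [Fin.snoc_last] }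
  refine (Groth.Agent.Lib.helper13.DeltaZ.deltaZ_le S).trans ?_
  rw [Groth.Agent.Lib.helper13.DeltaZ.delta_eq_val]
  apply Groth.Agent.Lib.helper13.DeltaZ.val_le_of
  · unfold Algz.DSystem.c
    rw [Groth.Agent.Lib.helper13.DeltaZ.codimPt_congr (w' := y (Fin.last k)) (v' := y (Fin.last k))
      (by simp [S]) rfl _ specializes_rfl]
    exact Groth.Agent.Lib.helper13.DeltaZ.codimPt_self _ _
  · intro j
    have hc : S.c j.castSucc ≤ 1 := by
      unfold Algz.DSystem.c
      rw [Groth.Agent.Lib.helper13.DeltaZ.codimPt_congr (w' := y' j) (v' := y j.castSucc)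
        (by simp [S]) rfl _ (hdown j).1]
      exact Groth.Agent.Lib.helper13.DeltaZ.codimPt_le_one _ (hdown j).2.2
    have hb : 1 ≤ S.b j := by
      unfold Algz.DSystem.b
      rw [Groth.Agent.Lib.helper13.DeltaZ.codimPt_congr (w' := y' j) (v' := y j.succ)
        (by simp [S]) rfl _ (hup j).1]
      apply Groth.Agent.Lib.helper13.DeltaZ.one_le_codimPt
      intro hcon
      exact (hup j).2 (((hup j).1.antisymm hcon).eq)
    exact hc.trans hb

end Groth.Agent.S8816
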