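import Groth.Statements.S8819

set_option autoImplicit false
universe u
open scoped BigOperators
open LocCoh

namespace Groth.Agent.S8819

noncomputable def Phi {A : Type u} [CommRing A] {r : ℕ} (ψ : Fin r → A → A) :
    ℕ → A → MvPolynomial (Fin r) A
  | 0 => fun a => MvPolynomial.C a
  | n + 1 => fun g => ∑ j, MvPolynomial.X j * Phi ψ n (ψ j g)

section
variable {A : Type u} [CommRing A] {r : ℕ} (ψ : Fin r → A → A) (I : Ideal A) (c : ℕ)
  (hadd : ∀ j x y, x ∈ I ^ c → y ∈ I ^ c → ψ j (x + y) = ψ j x + ψ j y)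
  (hsmul : ∀ j a x, x ∈ I ^ c → ψ j (a * x) = a * ψ j x)
  (hmem : ∀ j n x, x ∈ I ^ ((n + 1) * c) → ψ j x ∈ I ^ (n * c))
  (hJ : ∀ n, I ^ ((n + 1) * c) ≤ I ^ c)

include hadd hmem hJ in
lemma Phi_add : ∀ (n : ℕ), ∀ g ∈ I ^ (n * c), ∀ h ∈ I ^ (n * c),
    Phi ψ n (g + h) = Phi ψ n g + Phi ψ n h := by
  intro n
  induction n with
  | zero => intro g _ h _; simp [Phi]
  | succ n ih =>
    intro g hg h hh
    simp only [Phi]
    rw [← Finset.sum_add_distrib]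
    refine Finset.sum_congr rfl (fun j _ => ?_)
    rw [hadd j g h (hJ n hg) (hJ n hh), ih _ (hmem j n g hg) _ (hmem j n h hh), mul_add]

include hsmul hmem hJ in
lemma Phi_smul : ∀ (n : ℕ) (a g : A), g ∈ I ^ (n * c) →
    Phi ψ n (a * g) = a • Phi ψ n g := by
  intro n
  induction n with
  | zero => intro a g _; simp [Phi, MvPolynomial.smul_eq_C_mul]
  | succ n ih =>
    intro a g hg
    simp only [Phi]
    rw [Finset.smul_sum]
    refine Finset.sum_congr rfl (fun j _ => ?_)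
    rw [hsmul j a g (hJ n hg), ih _ _ (hmem j n g hg), mul_smul_comm]

lemma Phi_homog : ∀ (n : ℕ) (g : A), (Phi ψ n g).IsHomogeneous n := by
  intro n
  induction n with
  | zero => intro g; exact MvPolynomial.isHomogeneous_C _ _
  | succ n ih =>
    intro g
    simp only [Phi]
    refine MvPolynomial.IsHomogeneous.sum _ _ _ (fun j _ => ?_)
    rw [add_comm]
    exact (MvPolynomial.isHomogeneous_X A j).mul (ih _)

include hsmul hmem hJ in
lemma Phi_mul : ∀ (n m : ℕ), ∀ g ∈ I ^ (n * c), ∀ h ∈ I ^ (m * c),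
    Phi ψ (n + m) (g * h) = Phi ψ n g * Phi ψ m h := by
  intro n
  induction n with
  | zero =>
    intro m g _ h hh
    rw [zero_add, Phi_smul ψ I c hsmul hmem hJ m g h hh]
    simp [Phi, MvPolynomial.smul_eq_C_mul]
  | succ n ih =>
    intro m g hg h hh
    have e : n + 1 + m = (n + m) + 1 := by omega
    rw [e]
    simp only [Phi]
    rw [Finset.sum_mul]
    refine Finset.sum_congr rfl (fun j _ => ?_)
    rw [mul_comm g h, hsmul j h g (hJ n hg), mul_comm h, ih m _ (hmem j n g hg) h hh, mul_assoc]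

end

/-- Let A be a Noetherian ring, f_1, …, f_r ∈ A and I = (f_1, …, f_r) with cd(A, I) = 1; let c ≥ 1 and
let φ_j : I^c → A be A-linear maps with x = Σ_j f_j φ_j(x) for all x ∈ I^c. Under these assumptions,
exactly one homomorphism of graded A-algebras, from ⊕_{n ≥ 0} I^{nc} into the polynomial ring A[T_1,
…, T_r], exists that sends each g ∈ I^c to Σ_j φ_j(g) T_j; call it Φ. Here Φ is encoded by functions
Φ_n : A → A[T_1, …, T_r] whose values on I^{nc} are A-linear, homogeneous of degree n,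
multiplicative (Φ_{n+m}(gh) = Φ_n(g)Φ_m(h)), with Φ_0 the structure map and Φ_1 as prescribed;
uniqueness is asserted for the values on the I^{nc}. Moreover substituting T_j ↦ f_j in Φ_n(g) gives
back g for every g ∈ I^{nc}. -/
theorem result (A : Type u) [CommRing A] [IsNoetherianRing A] (r : ℕ) (f : Fin r → A) (I : Ideal A) (hI : I = Ideal.span (Set.range f)) (h1 : LocCoh.CdLE A I 1) (h0 : ¬ LocCoh.CdLE A I 0) (c : ℕ) (hc : 1 ≤ c) (φ : Fin r → (↥(I ^ c) →ₗ[A] A)) (hφ : ∀ x : ↥(I ^ c), (x : A) = ∑ j, f j * φ j x) : ∃ Φ : ℕ → A → MvPolynomial (Fin r) A, (((∀ n : ℕ, ∀ g ∈ I ^ (n * c), ∀ h ∈ I ^ (n * c), Φ n (g + h) = Φ n g + Φ n h) ∧ (∀ (n : ℕ) (a : A), ∀ g ∈ I ^ (n * c), Φ n (a * g) = a • Φ n g) ∧ (∀ n : ℕ, ∀ g ∈ I ^ (n * c), (Φ n g).IsHomogeneous n) ∧ (∀ n m : ℕ, ∀ g ∈ I ^ (n * c), ∀ h ∈ I ^ (m * c), Φ (n + m) (g * h) = Φ n g * Φ m h) ∧ (∀ a : A, Φ 0 a = MvPolynomial.C a) ∧ (∀ (g : A) (hg : g ∈ I ^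 c), Φ 1 g = ∑ j, MvPolynomial.C (φ j ⟨g, hg⟩) * MvPolynomial.X j)) ∧ ∀ n : ℕ, ∀ g ∈ I ^ (n * c), MvPolynomial.aeval f (Φ n g) = g) ∧ ∀ Ψ : ℕ → A → MvPolynomial (Fin r) A, ((∀ n : ℕ, ∀ g ∈ I ^ (n * c), ∀ h ∈ I ^ (n * c), Ψ n (g + h) = Ψ n g + Ψ n h) ∧ (∀ (n : ℕ) (a : A), ∀ g ∈ I ^ (n * c), Ψ n (a * g) = a • Ψ n g) ∧ (∀ n : ℕ, ∀ g ∈ I ^ (n * c), (Ψ n g).IsHomogeneous n) ∧ (∀ n m : ℕ, ∀ g ∈ I ^ (n * c), ∀ h ∈ I ^ (m * c), Ψ (n + m) (g * h) = Ψ n g * Ψ m h) ∧ (∀ a : A, Ψ 0 a = MvPolynomial.C a) ∧ (∀ (g : A) (hg : g ∈ I ^ c), Ψ 1 g = ∑ j, MvPolynomial.C (φ j ⟨g, hg⟩) * MvPolynomial.X j)) → ∀ n : ℕ, ∀ g ∈ I ^ (n * c), Ψ n g = Φ n g := by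
  classical
  let ψ : Fin r → A → A := fun j x => if h : x ∈ I ^ c then φ j ⟨x, h⟩ else 0
  have hψ : ∀ j x (h : x ∈ I ^ c), ψ j x = φ j ⟨x, h⟩ := fun j x h => dif_pos h
  have hJ : ∀ n, I ^ ((n + 1) * c) ≤ I ^ c := fun n =>
    Ideal.pow_le_pow_right (by nlinarith)
  have hadd : ∀ j x y, x ∈ I ^ c → y ∈ I ^ c → ψ j (x + y) = ψ j x + ψ j y := by
    intro j x y hx hy
    rw [hψ j _ (Ideal.add_mem _ hx hy), hψ j x hx, hψ j y hy, ← map_add]
    rfl
  have hsmul : ∀ j a x, x ∈ I ^ c → ψ j (a * x) = a * ψ j x := by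
    intro j a x hx
    rw [hψ j _ (Ideal.mul_mem_left _ a hx), hψ j x hx, ← smul_eq_mul a (φ j _), ← map_smul]
    rfl
  have hmem : ∀ j n x, x ∈ I ^ ((n + 1) * c) → ψ j x ∈ I ^ (n * c) := by
    intro j n x hx
    have e : (n + 1) * c = n * c + c := by ring
    rw [e, pow_add] at hx
    have : x ∈ I ^ c ∧ ψ j x ∈ I ^ (n * c) := by
      refine Submodule.smul_induction_on hx (fun y hy z hz => ?_) (fun y z hy hz => ?_)
      · rw [smul_eq_mul]
        refine ⟨Ideal.mul_mem_left _ y hz, ?_⟩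
        rw [hsmul j y z hz]
        exact Ideal.mul_mem_right _ _ hy
      · refine ⟨Ideal.add_mem _ hy.1 hz.1, ?_⟩
        rw [hadd j y z hy.1 hz.1]
        exact Ideal.add_mem _ hy.2 hz.2
    exact this.2
  have hone : ∀ (g : A) (hg : g ∈ I ^ c), Phi ψ 1 g =
      ∑ j, MvPolynomial.C (φ j ⟨g, hg⟩) * MvPolynomial.X j := by
    intro g hg
    simp only [Phi]
    refine Finset.sum_congr rfl (fun j _ => ?_)
    rw [hψ j g hg, mul_comm]
  refine ⟨Phi ψ, ⟨⟨Phi_add ψ I c hadd hmem hJ, Phi_smul ψ I c hsmul hmem hJ,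
    fun n g _ => Phi_homog ψ n g, Phi_mul ψ I c hsmul hmem hJ, fun a => rfl, hone⟩, ?_⟩, ?_⟩
  · intro n
    induction n with
    | zero => intro g _; simp [Phi]
    | succ n ih =>
      intro g hg
      simp only [Phi, map_sum, map_mul, MvPolynomial.aeval_X]
      have := hφ ⟨g, hJ n hg⟩
      rw [show ((⟨g, hJ n hg⟩ : ↥(I ^ c)) : A) = g from rfl] at this
      refine Eq.trans ?_ this.symm
      refine Finset.sum_congr rfl (fun j _ => ?_)
      rw [ih _ (hmem j n g hg), hψ j g (hJ n hg)]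
  · rintro Ψ ⟨Ψadd, Ψsmul, -, Ψmul, Ψzero, Ψone⟩ n
    induction n with
    | zero => intro g _; rw [Ψzero]; rfl
    | succ n ih =>
      intro g hg
      have e : (n + 1) * c = 1 * c + n * c := by ring
      have hg' := hg
      rw [e, pow_add] at hg'
      have : g ∈ I ^ ((n + 1) * c) ∧ Ψ (n + 1) g = Phi ψ (n + 1) g := by
        refine Submodule.smul_induction_on hg' (fun y hy z hz => ?_) (fun y z hy hz => ?_)
        · rw [smul_eq_mul]
          have hyz : y * z ∈ I ^ ((n + 1) * c) := by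
            rw [e, pow_add]; exact Ideal.mul_mem_mul hy hz
          refine ⟨hyz, ?_⟩
          rw [add_comm n 1, Ψmul 1 n y hy z hz, Phi_mul ψ I c hsmul hmem hJ 1 n y hy z hz,
            ih z hz]
          have hy' : y ∈ I ^ c := by simpa using hy
          rw [Ψone y hy', hone y hy']
        · refine ⟨Ideal.add_mem _ hy.1 hz.1, ?_⟩
          rw [Ψadd (n + 1) y hy.1 z hz.1, Phi_add ψ I c hadd hmem hJ (n + 1) y hy.1 z hz.1,
            hy.2, hz.2]
      exact this.2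

end Groth.Agent.S8819
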