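import Groth.Statements.S8829
import Mathlib
import Groth.Agent.S8804
import Groth.Agent.Lib.helper14.PSFinite
-- import your own Groth.Agent.* helpers here

set_option autoImplicit false
universe u
open AdicRing

namespace Groth.Agent.S8829

namespace H5S8829
open Groth.Agent.S8804

section localdata
variable (B : Type u) [CommRing B] [IsNoetherianRing B] (J : Ideal B) [IsAdicComplete J B]
  (q : PrimeSpectrum B)

def RigClosed : Prop :=
  ¬ J ≤ q.asIdeal ∧ ∀ y : PrimeSpectrum B, q ≤ y → ¬ J ≤ y.asIdeal → y = q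

variable {B J q}

theorem dim_one (hq : RigClosed B J q) : ringKrullDim (B ⧸ q.asIdeal) = 1 := by
  have h := (H5S8804.main B J q).out 0 1
  exact (h.mp hq).1

theorem max_eq (hq : RigClosed B J q) (m : Ideal (B ⧸ q.asIdeal)) (hm : m.IsMaximal) :
    m = (J.map (Ideal.Quotient.mk q.asIdeal)).radical := by
  have h := (H5S8804.main B J q).out 0 2
  exact (h.mp hq).2.1 m hm

theorem isLocalRing (hq : RigClosed B J q) : IsLocalRing (B ⧸ q.asIdeal) := by
  haveI : Nontrivial (B ⧸ q.asIdeal) := Ideal.Quotient.nontrivial_iff.mpr q.2.ne_top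
  obtain ⟨m, hm⟩ := Ideal.exists_maximal (B ⧸ q.asIdeal)
  exact IsLocalRing.of_unique_max_ideal ⟨m, hm, fun m' hm' => by
    rw [max_eq hq m hm, max_eq hq m' hm']⟩

theorem J_le_of_maximal (m : Ideal B) (hm : m.IsMaximal) : J ≤ m :=
  (IsAdicComplete.le_jacobson_bot J).trans (by rw [Ideal.jacobson]; exact sInf_le ⟨bot_le, hm⟩)

end localdata

section main
variable (A : Type u) [CommRing A] [IsNoetherianRing A] (I : Ideal A) [IsAdicComplete I A]
  (B : Type u) [CommRing B] [Algebra A B] [IsNoetherianRing B]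
  [IsAdicComplete (I.map (algebraMap A B)) B]

variable {A B} in
omit [IsNoetherianRing A] [IsNoetherianRing B] in
theorem fin_quot_of_fin (q m : Ideal B) (hqm : q ≤ m) (h : Module.Finite A (B ⧸ q)) :
    Module.Finite A (B ⧸ m) :=
  Module.Finite.of_surjective ((Ideal.Quotient.factorₐ A hqm).toLinearMap)
    (Ideal.Quotient.factor_surjective hqm)

/-- (a) ⇒ (c): complete Nakayama -/
theorem fin_of_res (q : PrimeSpectrum B) (hq : RigClosed B (I.map (algebraMap A B)) q)
    (ha : ∀ m : Ideal B, m.IsMaximal → q.asIdeal ≤ m → Module.Finite A (B ⧸ m)) :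
    Module.Finite A (B ⧸ q.asIdeal) := by
  haveI := isLocalRing hq
  haveI : IsDomain (B ⧸ q.asIdeal) := Ideal.Quotient.isDomain _
  let f : A →+* (B ⧸ q.asIdeal) := (Ideal.Quotient.mk q.asIdeal).comp (algebraMap A B)
  have hIf : I.map f = (I.map (algebraMap A B)).map (Ideal.Quotient.mk q.asIdeal) := by
    rw [Ideal.map_map]
  have hmaxeq := max_eq hq (IsLocalRing.maximalIdeal (B ⧸ q.asIdeal)) (IsLocalRing.maximalIdeal.isMaximal _)
  have hJ : I.map f ≤ IsLocalRing.maximalIdeal (B ⧸ q.asIdeal) := by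
    rw [hIf, hmaxeq]; exact Ideal.le_radical
  have hJ0 : I.map f ≠ ⊥ := by
    rw [hIf]
    intro h
    rw [Ideal.map_eq_bot_iff_le_ker, Ideal.mk_ker] at h
    exact hq.1 h
  obtain ⟨hnf, hmax⟩ := H5S8804.dim_eq_one_iff.mp (dim_one hq)
  have hart : IsArtinianRing ((B ⧸ q.asIdeal) ⧸ I.map f) := by
    rw [isArtinianRing_iff_isNoetherianRing_krullDimLE_zero]
    refine ⟨inferInstance, ?_⟩
    rw [Ideal.krullDimLE_zero_quotient_iff_forall_minimalPrimes_isMaximal]
    intro P hP
    apply hmax P _ hP.1.1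
    intro h0
    rw [h0] at hP
    exact hJ0 (le_bot_iff.mp hP.1.2)
  -- the maximal ideal of B over q
  let m : Ideal B := (IsLocalRing.maximalIdeal (B ⧸ q.asIdeal)).comap (Ideal.Quotient.mk q.asIdeal)
  have hm : m.IsMaximal := Ideal.comap_isMaximal_of_surjective _ Ideal.Quotient.mk_surjective
  have hqm : q.asIdeal ≤ m := by
    intro b hb
    change Ideal.Quotient.mk q.asIdeal b ∈ IsLocalRing.maximalIdeal (B ⧸ q.asIdeal)
    rw [Ideal.Quotient.eq_zero_iff_mem.mpr hb]; exact zero_mem _
  have hfinm : Module.Finite A (B ⧸ m) := ha m hm hqm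
  let φ' : B ⧸ m →+* IsLocalRing.ResidueField (B ⧸ q.asIdeal) :=
    Ideal.Quotient.lift m ((IsLocalRing.residue (B ⧸ q.asIdeal)).comp (Ideal.Quotient.mk q.asIdeal))
      (by
        intro b hb
        rw [RingHom.comp_apply, IsLocalRing.residue_eq_zero_iff]
        exact hb)
  have hφ' : Function.Surjective φ' := by
    intro x
    obtain ⟨d, rfl⟩ := IsLocalRing.residue_surjective x
    obtain ⟨b, rfl⟩ := Ideal.Quotient.mk_surjective d
    exact ⟨Ideal.Quotient.mk m b, rfl⟩
  have hres : ((IsLocalRing.residue (B ⧸ q.asIdeal)).comp f).Finite := by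
    have : (IsLocalRing.residue (B ⧸ q.asIdeal)).comp f = φ'.comp (algebraMap A (B ⧸ m)) := by
      ext a; rfl
    rw [this]
    exact RingHom.Finite.comp (RingHom.Finite.of_surjective φ' hφ')
      (RingHom.finite_algebraMap.mpr hfinm)
  have hfin : f.Finite := H14.PSFin.finite_of_artinian_quotient I f hJ hart hres
  have : algebraMap A (B ⧸ q.asIdeal) = f := rfl
  rw [← this] at hfin
  exact RingHom.finite_algebraMap.mp hfin

/-- (c) ⇒ (b) -/
theorem rig_of_fin (q : PrimeSpectrum B) (hq : RigClosed B (I.map (algebraMap A B)) q)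
    (hc : Module.Finite A (B ⧸ q.asIdeal)) :
    RigClosed A I (PrimeSpectrum.comap (algebraMap A B) q) := by
  have h21 := (H5S8804.main A I (PrimeSpectrum.comap (algebraMap A B) q)).out 1 0
  apply h21.mp
  have hp : (PrimeSpectrum.comap (algebraMap A B) q).asIdeal = q.asIdeal.comap (algebraMap A B) := rfl
  constructor
  · rw [hp, ← dim_one hq]
    haveI : Module.Finite (A ⧸ q.asIdeal.comap (algebraMap A B)) (B ⧸ q.asIdeal) :=
      Module.Finite.of_restrictScalars_finite A _ _
    haveI : Algebra.IsIntegral (A ⧸ q.asIdeal.comap (algebraMap A B)) (B ⧸ q.asIdeal) :=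
      Algebra.IsIntegral.of_finite _ _
    exact Groth.Agent.Lib.helper9.IntegralDim.ringKrullDim_eq_of_isIntegral_of_injective _ _
      Ideal.algebraMap_quotient_injective
  · rw [hp]
    intro hI
    exact hq.1 (Ideal.map_le_iff_le_comap.mpr hI)

/-- (b) ⇒ (a) -/
theorem res_of_rig (hft : Algebra.FiniteType A (B ⧸ (I.map (algebraMap A B)))) (q : PrimeSpectrum B)
    (hb : RigClosed A I (PrimeSpectrum.comap (algebraMap A B) q))
    (m : Ideal B) (hm : m.IsMaximal) (hqm : q.asIdeal ≤ m) : Module.Finite A (B ⧸ m) := by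
  have hp : (PrimeSpectrum.comap (algebraMap A B) q).asIdeal = q.asIdeal.comap (algebraMap A B) := rfl
  set p : Ideal A := q.asIdeal.comap (algebraMap A B) with hpdef
  haveI hpprime : p.IsPrime := Ideal.comap_isPrime _ _
  have hJm : I.map (algebraMap A B) ≤ m := J_le_of_maximal m hm
  set n : Ideal A := m.comap (algebraMap A B) with hndef
  haveI hnprime : n.IsPrime := Ideal.comap_isPrime _ _
  have hpn : p ≤ n := Ideal.comap_mono hqm
  have hIn : I ≤ n := Ideal.map_le_iff_le_comap.mp hJm
  -- n is maximal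
  have hnmax : n.IsMaximal := by
    haveI : IsDomain (A ⧸ p) := Ideal.Quotient.isDomain _
    obtain ⟨hnf, hmax⟩ := H5S8804.dim_eq_one_iff.mp (hp ▸ dim_one hb)
    have hker : RingHom.ker (Ideal.Quotient.mk p) ≤ n := by rw [Ideal.mk_ker]; exact hpn
    have h1 : (n.map (Ideal.Quotient.mk p)).IsPrime :=
      Ideal.map_isPrime_of_surjective Ideal.Quotient.mk_surjective hker
    have h2 : n.map (Ideal.Quotient.mk p) ≠ ⊥ := by
      intro h0
      rw [Ideal.map_eq_bot_iff_le_ker, Ideal.mk_ker] at h0
      exact hb.1 (hp ▸ (hIn.trans h0))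
    have h3 := hmax _ h2 h1
    have h4 : n = (n.map (Ideal.Quotient.mk p)).comap (Ideal.Quotient.mk p) := by
      rw [Ideal.comap_map_of_surjective _ Ideal.Quotient.mk_surjective, ← RingHom.ker_eq_comap_bot,
        Ideal.mk_ker, sup_eq_left.mpr hpn]
    rw [h4]
    exact Ideal.comap_isMaximal_of_surjective _ Ideal.Quotient.mk_surjective
  -- B/m is of finite type over A
  haveI hftm : Algebra.FiniteType A (B ⧸ m) :=
    Algebra.FiniteType.of_surjective (Ideal.Quotient.factorₐ A hJm) (Ideal.Quotient.factor_surjective hJm)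
  letI : Field (A ⧸ n) := Ideal.Quotient.field n
  letI : Field (B ⧸ m) := Ideal.Quotient.field m
  haveI : Algebra.FiniteType (A ⧸ n) (B ⧸ m) := Algebra.FiniteType.of_restrictScalars_finiteType A _ _
  haveI : Module.Finite (A ⧸ n) (B ⧸ m) := finite_of_finite_type_of_isJacobsonRing (A ⧸ n) (B ⧸ m)
  haveI : Module.Finite A (A ⧸ n) := Module.Finite.of_surjective (Submodule.mkQ n) (Submodule.mkQ_surjective n)
  exact Module.Finite.trans (A ⧸ n) (B ⧸ m)

theorem main (hft : Algebra.FiniteType A (B ⧸ (I.map (algebraMap A B)))) (q : PrimeSpectrum B)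
    (hq : RigClosed B (I.map (algebraMap A B)) q) :
    List.TFAE [∀ m : Ideal B, m.IsMaximal → q.asIdeal ≤ m → Module.Finite A (B ⧸ m),
      RigClosed A I (PrimeSpectrum.comap (algebraMap A B) q),
      Module.Finite A (B ⧸ q.asIdeal)] := by
  tfae_have 1 → 3 := fin_of_res A I B q hq
  tfae_have 3 → 1 := fun h m _ hqm => fin_quot_of_fin q.asIdeal m hqm h
  tfae_have 3 → 2 := rig_of_fin A I B q hq
  tfae_have 2 → 1 := fun h m hm hqm => res_of_rig A I B hft q h m hm hqm
  tfae_finish

end main

end H5S8829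

/-- In the case of adic Noetherian topological rings: let A be a Noetherian ring complete for the adic
topology of an ideal I, and B a Noetherian A-algebra complete for the IB-adic topology with B/IB of
finite type over A (so A → B is an adic morphism, topologically of finite type). Let q be a
rig-closed prime of B (IB ⊄ q and q maximal among the primes not containing IB) and p its inverse
image in A. Three conditions turn out to be equivalent: (1) whenever m is a maximal ideal of B with
m ⊇ q, the quotient B/m is finite as an A-module (that is, residue fields of B/q are finite over A);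
(2) p is rig-closed in A (I ⊄ p and p maximal among the primes not containing I); (3) B/q is a
finite A-module, i.e. A/p ⊆ B/q is a finite extension of rings. -/
theorem result (A : Type u) [CommRing A] [IsNoetherianRing A] (I : Ideal A) [IsAdicComplete I A] (B : Type u) [CommRing B] [Algebra A B] [IsNoetherianRing B] [IsAdicComplete (I.map (algebraMap A B)) B] (hft : Algebra.FiniteType A (B ⧸ (I.map (algebraMap A B)))) (q : PrimeSpectrum B) (hq : (¬ (I.map (algebraMap A B)) ≤ q.asIdeal ∧ ∀ y : PrimeSpectrum B, q ≤ y → ¬ (I.map (algebraMap A B)) ≤ y.asIdeal → y = q)) : List.TFAE [∀ m : Ideal B, m.IsMaximal → q.asIdeal ≤ m → Module.Finite A (B ⧸ m), (¬ I ≤ (PrimeSpectrum.comap (algebraMap A B) q).asIdeal ∧ ∀ y : PrimeSpectrum A, (PrimeSpectrum.comap (algebraMap A B) q) ≤ y → ¬ I ≤ y.asIdeal → y = (PrimeSpectrum.comap (algebraMap A B) q)), Module.Finite A (B ⧸ q.asIdeal)] := by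
  exact H5S8829.main A I B hft q hq

end Groth.Agent.S8829
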