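import Groth.Statements.S8833
import Groth.Agent.S8819
import Groth.Agent.Lib.helper21.RG1

set_option autoImplicit false
universe u
open scoped BigOperators TensorProduct
open LocCoh

namespace Groth.Agent.S8833

open Groth.Agent.S8819 (Phi Phi_add Phi_smul Phi_homog Phi_mul)
open Groth.Agent.H21.RG

section
variable {A : Type u} [CommRing A] {r : ℕ} (ψ : Fin r → A → A) (I : Ideal A) (c : ℕ)
  (hadd : ∀ j x y, x ∈ I ^ c → y ∈ I ^ c → ψ j (x + y) = ψ j x + ψ j y)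
  (hsmul : ∀ j a x, x ∈ I ^ c → ψ j (a * x) = a * ψ j x)
  (hmem : ∀ j n x, x ∈ I ^ ((n + 1) * c) → ψ j x ∈ I ^ (n * c))
  (hJ : ∀ n, I ^ ((n + 1) * c) ≤ I ^ c)

include hmem hJ in
lemma Phi_aeval (f : Fin r → A) (hf : ∀ g ∈ I ^ c, g = ∑ j, f j * ψ j g) :
    ∀ n : ℕ, ∀ g ∈ I ^ (n * c), MvPolynomial.aeval f (Phi ψ n g) = g := by
  intro n
  induction n with
  | zero => intro g _; simp [Phi]
  | succ n ih =>
    intro g hg
    simp only [Phi, map_sum, map_mul, MvPolynomial.aeval_X]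
    refine Eq.trans ?_ (hf g (hJ n hg)).symm
    refine Finset.sum_congr rfl (fun j _ => ?_)
    rw [ih _ (hmem j n g hg)]

include hadd hsmul hmem hJ in
lemma Phi_unique (Ψ : ℕ → A → MvPolynomial (Fin r) A)
    (Ψadd : ∀ n : ℕ, ∀ g ∈ I ^ (n * c), ∀ h ∈ I ^ (n * c), Ψ n (g + h) = Ψ n g + Ψ n h)
    (Ψmul : ∀ n m : ℕ, ∀ g ∈ I ^ (n * c), ∀ h ∈ I ^ (m * c), Ψ (n + m) (g * h) = Ψ n g * Ψ m h)
    (Ψzero : ∀ a : A, Ψ 0 a = MvPolynomial.C a)
    (Ψone : ∀ g ∈ I ^ c, Ψ 1 g = Phi ψ 1 g) :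
    ∀ n : ℕ, ∀ g ∈ I ^ (n * c), Ψ n g = Phi ψ n g := by
  intro n
  induction n with
  | zero => intro g _; rw [Ψzero]; rfl
  | succ n ih =>
    intro g hg
    have e : (n + 1) * c = 1 * c + n * c := by ring
    have hg' := hg
    rw [e, pow_add] at hg'
    have : g ∈ I ^ ((n + 1) * c) ∧ Ψ (n + 1) g = Phi ψ (n + 1) g := by
      refine Submodule.smul_induction_on hg' (fun y hy z hz => ?_) (fun y z hy hz => ?_)
      · rw [smul_eq_mul]
        have hyz : y * z ∈ I ^ ((n + 1) * c) := by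
          rw [e, pow_add]; exact Ideal.mul_mem_mul hy hz
        refine ⟨hyz, ?_⟩
        rw [add_comm n 1, Ψmul 1 n y hy z hz, Phi_mul ψ I c hsmul hmem hJ 1 n y hy z hz,
          ih z hz]
        have hy' : y ∈ I ^ c := by simpa using hy
        rw [Ψone y hy']
      · refine ⟨Ideal.add_mem _ hy.1 hz.1, ?_⟩
        rw [Ψadd (n + 1) y hy.1 z hz.1, Phi_add ψ I c hadd hmem hJ (n + 1) y hy.1 z hz.1,
          hy.2, hz.2]
    exact this.2

include hmem in
lemma Phi_coeff (m : ℕ) (hψm : ∀ j, ∀ g ∈ I ^ c, ψ j g ∈ I ^ m) :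
    ∀ k : ℕ, ∀ g ∈ I ^ ((k + 1) * c), ∀ d, MvPolynomial.coeff d (Phi ψ (k + 1) g) ∈ I ^ m := by
  classical
  intro k
  induction k with
  | zero =>
    intro g hg d
    have hg' : g ∈ I ^ c := by simpa using hg
    simp only [Phi, MvPolynomial.coeff_sum]
    refine Ideal.sum_mem _ (fun j _ => ?_)
    rw [MvPolynomial.coeff_X_mul', MvPolynomial.coeff_C]
    split_ifs
    · exact hψm j g hg'
    · exact Ideal.zero_mem _
    · exact Ideal.zero_mem _
  | succ k ih =>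
    intro g hg d
    rw [show Phi ψ (k + 1 + 1) g = ∑ j, MvPolynomial.X j * Phi ψ (k + 1) (ψ j g) from rfl,
      MvPolynomial.coeff_sum]
    refine Ideal.sum_mem _ (fun j _ => ?_)
    rw [MvPolynomial.coeff_X_mul']
    split_ifs
    · exact ih _ (hmem j (k + 1) g hg) _
    · exact Ideal.zero_mem _

end

/-- Let A be a Noetherian ring, f_1, …, f_r ∈ A and I = (f_1, …, f_r) with cd(A, I) = 1; let c ≥ 1 and
φ_j : I^c → A be A-linear maps with x = Σ_j f_j φ_j(x) for all x ∈ I^c. Let B be a Noetherian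
A-algebra and N a finite B-module. Then there is c' ≥ c with the following property. Write φ_j again
for the restrictions of the φ_j to I^{c'} and let Φ be a graded A-algebra homomorphism from ⊕_{n ≥
0} I^{nc'} to A[T_1, …, T_r] with Φ(g) = Σ_j φ_j(g) T_j for g ∈ I^{c'} (there is exactly one; it is
encoded by functions Φ_n : A → A[T_1, …, T_r] whose values on I^{nc'} are additive, A-homogeneous,
homogeneous of degree n and multiplicative across degrees, with Φ_0 the structure map and Φ_1 as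
prescribed). Then for every n there is a unique B-linear map Ψ_n from the submodule I^{nc'}N of N to
N[T_1, …, T_r] = B[T_1, …, T_r] ⊗_B N with Ψ_n(g x) = Φ_n(g) ⊗ x for g ∈ I^{nc'} and x ∈ N; that is,
the Ψ_n form the unique graded B-module map from ⊕_n I^{nc'}N to N[T_1, …, T_r] with this property.
Moreover substituting T_j ↦ f_j after Ψ_n gives back the inclusion of I^{nc'}N into N. -/
theorem result (A : Type u) [CommRing A] [IsNoetherianRing A] (r : ℕ) (f : Fin r → A) (I : Ideal A) (hI : I = Ideal.span (Set.range f)) (h1 : LocCoh.CdLE A I 1) (h0 : ¬ LocCoh.CdLE A I 0) (c : ℕ) (hc : 1 ≤ c) (φ : Fin r → (↥(I ^ c) →ₗ[A] A)) (hφ : ∀ x : ↥(I ^ c), (x : A) = ∑ j, f j * φ j x) (B : Type u) [CommRing B] [Algebra A B] [IsNoetherianRing B] (N : Type u) [AddCommGroup N] [Module B N] [Module.Finite B N] : ∃ c' : ℕ, ∃ hcc' : c ≤ c', ∀ Φ : ℕ → A → MvPolynomial (Fin r) A, ((∀ n : ℕ, ∀ g ∈ I ^ (n * c'), ∀ h ∈ I ^ (n * c'), Φ n (g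 + h) = Φ n g + Φ n h) ∧ (∀ (n : ℕ) (a : A), ∀ g ∈ I ^ (n * c'), Φ n (a * g) = a • Φ n g) ∧ (∀ n : ℕ, ∀ g ∈ I ^ (n * c'), (Φ n g).IsHomogeneous n) ∧ (∀ n m : ℕ, ∀ g ∈ I ^ (n * c'), ∀ h ∈ I ^ (m * c'), Φ (n + m) (g * h) = Φ n g * Φ m h) ∧ (∀ a : A, Φ 0 a = MvPolynomial.C a) ∧ (∀ (g : A) (hg : g ∈ I ^ c'), Φ 1 g = ∑ j, MvPolynomial.C (φ j ⟨g, Ideal.pow_le_pow_right hcc' hg⟩) * MvPolynomial.X j)) → ∀ n : ℕ, ∃ Ψ : ↥(Submodule.span B {y : N | ∃ g ∈ I ^ (n * c'), ∃ x : N, y = algebraMap A B g • x}) →ₗ[B] (MvPolynomial (Fin r) B ⊗[B] N), (∀ (g : A) (hg : g ∈ I ^ (n * c')) (x : N), Ψ ⟨algebraMap A B g • x, Submodule.subset_span ⟨g, hg, x, rfl⟩⟩ = MvPolynomial.map (algebraMap A B) (Φ n g) ⊗ₜ[B] x) ∧ (∀ y : ↥(Submodule.span B {y : N | ∃ g ∈ I ^ (n * c'), ∃ x : N, y = algebraMap A B g • x}), TensorProduct.lift ((LinearMap.lsmul B N).comp (MvPolynomial.aeval (fun j ↦ algebraMap A B (f j))).toLinearMap) (Ψ y) = (y : N)) ∧ (∀ Ψ' : ↥(Submodule.span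 B {y : N | ∃ g ∈ I ^ (n * c'), ∃ x : N, y = algebraMap A B g • x}) →ₗ[B] (MvPolynomial (Fin r) B ⊗[B] N), (∀ (g : A) (hg : g ∈ I ^ (n * c')) (x : N), Ψ' ⟨algebraMap A B g • x, Submodule.subset_span ⟨g, hg, x, rfl⟩⟩ = MvPolynomial.map (algebraMap A B) (Φ n g) ⊗ₜ[B] x) → Ψ' = Ψ) := by
  classical
  obtain ⟨m, hm⟩ := ar_torsion B N (I.map (algebraMap A B))
  have hcc' : c ≤ c + m := Nat.le_add_right c m
  refine ⟨c + m, hcc', ?_⟩
  rintro Φ ⟨Φadd, Φsmul, -, Φmul, Φzero, Φone⟩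
  let ψ : Fin r → A → A := fun j x =>
    if h : x ∈ I ^ (c + m) then φ j ⟨x, Ideal.pow_le_pow_right hcc' h⟩ else 0
  have hψ : ∀ j x (h : x ∈ I ^ (c + m)), ψ j x = φ j ⟨x, Ideal.pow_le_pow_right hcc' h⟩ :=
    fun j x h => dif_pos h
  have hJ : ∀ n, I ^ ((n + 1) * (c + m)) ≤ I ^ (c + m) := fun n =>
    Ideal.pow_le_pow_right (by nlinarith)
  have hadd : ∀ j x y, x ∈ I ^ (c + m) → y ∈ I ^ (c + m) → ψ j (x + y) = ψ j x + ψ j y := by
    intro j x y hx hy
    rw [hψ j _ (Ideal.add_mem _ hx hy), hψ j x hx, hψ j y hy, ← map_add]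
    rfl
  have hsmul : ∀ j a x, x ∈ I ^ (c + m) → ψ j (a * x) = a * ψ j x := by
    intro j a x hx
    rw [hψ j _ (Ideal.mul_mem_left _ a hx), hψ j x hx, ← smul_eq_mul a (φ j _), ← map_smul]
    rfl
  have hmem : ∀ j n x, x ∈ I ^ ((n + 1) * (c + m)) → ψ j x ∈ I ^ (n * (c + m)) := by
    intro j n x hx
    have e : (n + 1) * (c + m) = n * (c + m) + (c + m) := by ring
    rw [e, pow_add] at hx
    have : x ∈ I ^ (c + m) ∧ ψ j x ∈ I ^ (n * (c + m)) := by
      refine Submodule.smul_induction_on hx (fun y hy z hz => ?_) (fun y z hy hz => ?_)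
      · rw [smul_eq_mul]
        refine ⟨Ideal.mul_mem_left _ y hz, ?_⟩
        rw [hsmul j y z hz]
        exact Ideal.mul_mem_right _ _ hy
      · refine ⟨Ideal.add_mem _ hy.1 hz.1, ?_⟩
        rw [hadd j y z hy.1 hz.1]
        exact Ideal.add_mem _ hy.2 hz.2
    exact this.2
  have hψm : ∀ j, ∀ g ∈ I ^ (c + m), ψ j g ∈ I ^ m := by
    intro j g hg
    have hg' := hg
    rw [pow_add] at hg'
    have : g ∈ I ^ (c + m) ∧ ψ j g ∈ I ^ m := by
      refine Submodule.smul_induction_on hg' (fun y hy z hz => ?_) (fun y z hy hz => ?_)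
      · rw [smul_eq_mul]
        have hyz : y * z ∈ I ^ (c + m) := by rw [pow_add]; exact Ideal.mul_mem_mul hy hz
        refine ⟨hyz, ?_⟩
        rw [hψ j _ hyz]
        have e : (⟨y * z, Ideal.pow_le_pow_right hcc' hyz⟩ : ↥(I ^ c)) = z • ⟨y, hy⟩ :=
          Subtype.ext (by simp [mul_comm])
        rw [e, map_smul, smul_eq_mul]
        exact Ideal.mul_mem_right _ _ hz
      · refine ⟨Ideal.add_mem _ hy.1 hz.1, ?_⟩
        rw [hadd j y z hy.1 hz.1]
        exact Ideal.add_mem _ hy.2 hz.2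
    exact this.2
  have hf : ∀ g ∈ I ^ (c + m), g = ∑ j, f j * ψ j g := by
    intro g hg
    have := hφ ⟨g, Ideal.pow_le_pow_right hcc' hg⟩
    refine this.trans (Finset.sum_congr rfl (fun j _ => ?_))
    rw [hψ j g hg]
  have hone : ∀ g ∈ I ^ (c + m), Φ 1 g = Phi ψ 1 g := by
    intro g hg
    rw [Φone g hg]
    simp only [Phi]
    refine Finset.sum_congr rfl (fun j _ => ?_)
    rw [hψ j g hg, mul_comm]
  have huniq := Phi_unique ψ I (c + m) hadd hsmul hmem hJ Φ Φadd Φmul Φzero hone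
  have haev := Phi_aeval ψ I (c + m) hmem hJ f hf
  have hcoef := Phi_coeff ψ I (c + m) hmem m hψm
  have haevB : ∀ p : MvPolynomial (Fin r) A,
      MvPolynomial.aeval (fun j ↦ algebraMap A B (f j)) (MvPolynomial.map (algebraMap A B) p) =
        algebraMap A B (MvPolynomial.aeval f p) := by
    intro p
    rw [MvPolynomial.aeval_map_algebraMap]
    exact MvPolynomial.aeval_algebraMap_apply B f p
  intro n
  let ι := ↥(I ^ (n * (c + m))) × N
  let v : ι → N := fun p => algebraMap A B (p.1 : A) • p.2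
  let w : ι → MvPolynomial (Fin r) B ⊗[B] N := fun p =>
    MvPolynomial.map (algebraMap A B) (Φ n (p.1 : A)) ⊗ₜ[B] p.2
  have hwd : ∀ l : ι →₀ B, Finsupp.linearCombination B v l = 0 →
      Finsupp.linearCombination B w l = 0 := by
    intro l hl
    rw [Finsupp.linearCombination_apply, Finsupp.sum] at hl ⊢
    apply sum_tmul_eq_zero
    intro d
    simp only [MvPolynomial.coeff_map]
    rcases Nat.eq_zero_or_pos n with hn | hn
    · subst hn
      simp only [Φzero, MvPolynomial.coeff_C]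
      by_cases hd : 0 = d
      · simp only [hd, if_true]
        exact hl
      · simp [hd]
    · obtain ⟨k, rfl⟩ : ∃ k, n = k + 1 := ⟨n - 1, by omega⟩
      refine wd I ((k + 1) * (c + m)) m (fun g => MvPolynomial.coeff d (Φ (k + 1) g)) ?_ ?_ hm
        l.support (fun p => l p) (fun p => (p.1 : A)) (fun p => p.1.2) (fun p => p.2) hl
      · intro a g hg
        change MvPolynomial.coeff d (Φ (k + 1) (a * g)) = a * MvPolynomial.coeff d (Φ (k + 1) g)
        rw [Φsmul (k + 1) a g hg, MvPolynomial.coeff_smul, smul_eq_mul]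
      · intro g hg
        change MvPolynomial.coeff d (Φ (k + 1) g) ∈ I ^ m
        rw [huniq (k + 1) g hg]
        exact hcoef k g hg d
  have hS : {y : N | ∃ g ∈ I ^ (n * (c + m)), ∃ x : N, y = algebraMap A B g • x} = Set.range v := by
    ext y
    constructor
    · rintro ⟨g, hg, x, rfl⟩
      exact ⟨(⟨g, hg⟩, x), rfl⟩
    · rintro ⟨⟨⟨g, hg⟩, x⟩, rfl⟩
      exact ⟨g, hg, x, rfl⟩
  obtain ⟨Ψ, hΨ⟩ := exists_lift v w hwd _ hS
  have hΨ' : ∀ (g : A) (hg : g ∈ I ^ (n * (c + m))) (x : N),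
      Ψ ⟨algebraMap A B g • x, Submodule.subset_span ⟨g, hg, x, rfl⟩⟩ =
        MvPolynomial.map (algebraMap A B) (Φ n g) ⊗ₜ[B] x :=
    fun g hg x => hΨ (⟨g, hg⟩, x) _
  refine ⟨Ψ, hΨ', ?_, ?_⟩
  · rintro ⟨y, hy⟩
    induction hy using Submodule.span_induction with
    | mem y hy =>
      obtain ⟨g, hg, x, rfl⟩ := hy
      rw [hΨ' g hg x, TensorProduct.lift.tmul]
      simp only [LinearMap.comp_apply, AlgHom.toLinearMap_apply, LinearMap.lsmul_apply]
      rw [haevB, huniq n g hg, haev n g hg]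
    | zero =>
      have : (⟨0, Submodule.zero_mem _⟩ : ↥(Submodule.span B
        {y : N | ∃ g ∈ I ^ (n * (c + m)), ∃ x : N, y = algebraMap A B g • x})) = 0 := rfl
      rw [this, map_zero, map_zero]
      rfl
    | add x y hx hy ihx ihy =>
      have : (⟨x + y, Submodule.add_mem _ hx hy⟩ : ↥(Submodule.span B
        {y : N | ∃ g ∈ I ^ (n * (c + m)), ∃ x : N, y = algebraMap A B g • x})) =
          ⟨x, hx⟩ + ⟨y, hy⟩ := rfl
      rw [this, map_add, map_add, ihx, ihy]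
      rfl
    | smul a x hx ihx =>
      have : (⟨a • x, Submodule.smul_mem _ a hx⟩ : ↥(Submodule.span B
        {y : N | ∃ g ∈ I ^ (n * (c + m)), ∃ x : N, y = algebraMap A B g • x})) =
          a • ⟨x, hx⟩ := rfl
      rw [this, map_smul, map_smul, ihx]
      rfl
  · intro Ψ' hΨ''
    apply LinearMap.ext
    rintro ⟨y, hy⟩
    induction hy using Submodule.span_induction with
    | mem y hy =>
      obtain ⟨g, hg, x, rfl⟩ := hy
      rw [hΨ' g hg x, hΨ'' g hg x]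
    | zero =>
      have : (⟨0, Submodule.zero_mem _⟩ : ↥(Submodule.span B
        {y : N | ∃ g ∈ I ^ (n * (c + m)), ∃ x : N, y = algebraMap A B g • x})) = 0 := rfl
      rw [this, map_zero, map_zero]
    | add x y hx hy ihx ihy =>
      have : (⟨x + y, Submodule.add_mem _ hx hy⟩ : ↥(Submodule.span B
        {y : N | ∃ g ∈ I ^ (n * (c + m)), ∃ x : N, y = algebraMap A B g • x})) =
          ⟨x, hx⟩ + ⟨y, hy⟩ := rfl
      rw [this, map_add, map_add, ihx, ihy]
    | smul a x hx ihx =>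
      have : (⟨a • x, Submodule.smul_mem _ a hx⟩ : ↥(Submodule.span B
        {y : N | ∃ g ∈ I ^ (n * (c + m)), ∃ x : N, y = algebraMap A B g • x})) =
          a • ⟨x, hx⟩ := rfl
      rw [this, map_smul, map_smul, ihx]

end Groth.Agent.S8833
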