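import Groth.Statements.S8834
import Mathlib

set_option autoImplicit false
universe u
open AdicRing

namespace Groth.Agent.S8834

section helpers


lemma sup_pow_smul_top {P M : Type*} [CommRing P] [AddCommGroup M] [Module P M] (I : Ideal P)
    (N : Submodule P M) (h : N ⊔ I • (⊤ : Submodule P M) = ⊤) (k : ℕ) :
    N ⊔ (I ^ k) • (⊤ : Submodule P M) = ⊤ := by
  induction k with
  | zero => simp
  | succ k ih =>
    refine le_antisymm le_top ?_
    calc (⊤ : Submodule P M) = N ⊔ I • (⊤ : Submodule P M) := h.symm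
      _ ≤ N ⊔ I ^ (k + 1) • (⊤ : Submodule P M) := sup_le le_sup_left ?_
    calc I • (⊤ : Submodule P M) = I • (N ⊔ I ^ k • (⊤ : Submodule P M)) := by rw [ih]
      _ = I • N ⊔ I • (I ^ k • (⊤ : Submodule P M)) := Submodule.smul_sup _ _ _
      _ ≤ N ⊔ I ^ (k + 1) • (⊤ : Submodule P M) := by
        refine sup_le_sup Submodule.smul_le_right ?_
        rw [← Submodule.mul_smul, pow_succ']

theorem main (A : Type u) [CommRing A] (B : Type u) [CommRing B] [Algebra A B] [IsNoetherianRing B]
    (J : Ideal B) (hft : Algebra.FiniteType A (B ⧸ J.radical)) :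
    ∃ (ι : Type) (_ : Fintype ι) (b : ι → B), ∀ (y : B) (n : ℕ), ∃ p : MvPolynomial ι A,
      y - MvPolynomial.aeval b p ∈ J ^ n := by
  obtain ⟨m, f, hf⟩ := Algebra.FiniteType.iff_quotient_mvPolynomial''.mp hft
  choose b₁ hb₁ using fun i => Ideal.Quotient.mk_surjective (f (MvPolynomial.X i))
  obtain ⟨t, c, hc⟩ : ∃ (t : ℕ) (c : Fin t → B), Ideal.span (Set.range c) = J.radical := by
    obtain ⟨t, c, hc⟩ := Submodule.fg_iff_exists_fin_generating_family.mp
      (IsNoetherian.noetherian J.radical)
    exact ⟨t, c, hc⟩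
  obtain ⟨N, hN⟩ := Ideal.exists_radical_pow_le_of_fg J (IsNoetherian.noetherian J.radical)
  let b : Fin m ⊕ Fin t → B := Sum.elim b₁ c
  refine ⟨Fin m ⊕ Fin t, inferInstance, b, ?_⟩
  let P := MvPolynomial (Fin m ⊕ Fin t) A
  let φ : P →ₐ[A] B := MvPolynomial.aeval b
  let _ : Algebra P B := φ.toRingHom.toAlgebra
  have hsmul : ∀ (p : P) (y : B), p • y = φ p * y := fun p y => rfl
  let K : Ideal P := Ideal.span (Set.range fun j : Fin t => (MvPolynomial.X (Sum.inr j) : P))
  let N0 : Submodule P B := LinearMap.range (Algebra.linearMap P B)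
  have hKmap : K.map (algebraMap P B) = J.radical := by
    rw [Ideal.map_span, ← hc, ← Set.range_comp]
    congr 1
    ext y
    simp only [Set.mem_range, Function.comp_apply]
    constructor
    · rintro ⟨j, rfl⟩
      exact ⟨j, (MvPolynomial.aeval_X b (Sum.inr j)).symm⟩
    · rintro ⟨j, rfl⟩
      exact ⟨j, MvPolynomial.aeval_X b (Sum.inr j)⟩
  have h1 : N0 ⊔ K • (⊤ : Submodule P B) = ⊤ := by
    rw [eq_top_iff]
    rintro y -
    obtain ⟨p, hp⟩ := hf (Ideal.Quotient.mk _ y)
    have hcomp : ∀ p : MvPolynomial (Fin m) A,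
        Ideal.Quotient.mk J.radical (φ (MvPolynomial.rename Sum.inl p)) = f p := by
      intro p
      have : ((Ideal.Quotient.mkₐ A J.radical).comp (φ.comp (MvPolynomial.rename Sum.inl))) = f := by
        apply MvPolynomial.algHom_ext
        intro i
        rw [AlgHom.comp_apply, AlgHom.comp_apply, MvPolynomial.rename_X]
        show Ideal.Quotient.mk J.radical (MvPolynomial.aeval b (MvPolynomial.X (Sum.inl i))) = _
        rw [MvPolynomial.aeval_X]
        exact hb₁ i
      exact DFunLike.congr_fun this p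
    have hmem : y - φ (MvPolynomial.rename Sum.inl p) ∈ J.radical := by
      rw [← Ideal.Quotient.eq, hcomp, hp]
    have hy : y = φ (MvPolynomial.rename Sum.inl p) + (y - φ (MvPolynomial.rename Sum.inl p)) := by
      ring
    rw [hy]
    refine Submodule.add_mem_sup ⟨MvPolynomial.rename Sum.inl p, ?_⟩ ?_
    · simp [Algebra.linearMap_apply]; rfl
    · rw [Ideal.smul_top_eq_map, hKmap]
      exact hmem
  intro y n
  have h2 := sup_pow_smul_top K N0 h1 (N * n)
  have hy : y ∈ N0 ⊔ (K ^ (N * n)) • (⊤ : Submodule P B) := by rw [h2]; trivial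
  obtain ⟨y1, ⟨p, hp⟩, y2, hy2, rfl⟩ := Submodule.mem_sup.mp hy
  refine ⟨p, ?_⟩
  have hp' : φ p = y1 := by rw [← hp]; rfl
  have : y1 + y2 - φ p = y2 := by rw [hp']; ring
  show y1 + y2 - φ p ∈ J ^ n
  rw [this]
  rw [Ideal.smul_top_eq_map, Ideal.map_pow, hKmap, pow_mul] at hy2
  exact Ideal.pow_right_mono hN n hy2


end helpers

/-- Let A be a Noetherian ring complete for the adic topology of an ideal I and B a Noetherian ring
complete for the adic topology of an ideal J, with an algebra map A → B sending I into the radical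
of J (a continuous homomorphism of adic Noetherian topological rings; the radicals of I and J are
the ideals of topologically nilpotent elements). Assume B/√J is of finite type over A, equivalently
over A/√I. Then B is topologically of finite type over A: there are b_1, …, b_s ∈ B such that the
A-algebra map A[x_1, …, x_s] → B with x_i ↦ b_i has dense image for the J-adic topology, that is,
for every y ∈ B and every n there is a polynomial whose value at b differs from y by an element of
J^n. -/
theorem result (A : Type u) [CommRing A] [IsNoetherianRing A] (I : Ideal A) [IsAdicComplete I A] (B : Type u) [CommRing B] [Algebra A B] [IsNoetherianRing B] (J : Ideal B) [IsAdicComplete J B] (hIJ : I.map (algebraMap A B) ≤ J.radical) (hft : Algebra.FiniteType A (B ⧸ J.radical)) : ∃ s : ℕ, ∃ b : Fin s → B, ∀ (y : B) (n : ℕ), ∃ p : MvPolynomial (Fin s) A, y - MvPolynomial.aeval b p ∈ J ^ n := by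
  obtain ⟨ι, _, b, hb⟩ := main A B J hft
  let e := Fintype.equivFin ι
  refine ⟨Fintype.card ι, b ∘ e.symm, fun y n => ?_⟩
  obtain ⟨p, hp⟩ := hb y n
  refine ⟨MvPolynomial.rename e p, ?_⟩
  rw [MvPolynomial.aeval_rename]
  have : (b ∘ e.symm) ∘ e = b := by
    ext i; simp
  rw [this]
  exact hp

end Groth.Agent.S8834
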