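import Groth.Statements.S8836
import Mathlib
import Groth.Agent.S8829
-- import your own Groth.Agent.* helpers here

set_option autoImplicit false
universe u
open AdicRing

namespace Groth.Agent.S8836

namespace H5S8836
open Groth.Agent.S8829 Groth.Agent.S8804

variable (A : Type u) [CommRing A] [IsNoetherianRing A] (I : Ideal A) [IsAdicComplete I A]
  (B : Type u) [CommRing B] [Algebra A B] [IsNoetherianRing B]
  [IsAdicComplete (I.map (algebraMap A B)) B]

/-- the contraction of a maximal ideal above `q` is maximal when the contraction of `q` is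
rig-closed -/
theorem comap_maximal (q : PrimeSpectrum B)
    (hb : H5S8829.RigClosed A I (PrimeSpectrum.comap (algebraMap A B) q))
    (m : Ideal B) (hm : m.IsMaximal) (hqm : q.asIdeal ≤ m) : (m.comap (algebraMap A B)).IsMaximal := by
  have hp : (PrimeSpectrum.comap (algebraMap A B) q).asIdeal = q.asIdeal.comap (algebraMap A B) := rfl
  set p : Ideal A := q.asIdeal.comap (algebraMap A B) with hpdef
  haveI hpprime : p.IsPrime := Ideal.comap_isPrime _ _
  have hJm : I.map (algebraMap A B) ≤ m := H5S8829.J_le_of_maximal m hm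
  set n : Ideal A := m.comap (algebraMap A B) with hndef
  haveI hnprime : n.IsPrime := Ideal.comap_isPrime _ _
  have hpn : p ≤ n := Ideal.comap_mono hqm
  have hIn : I ≤ n := Ideal.map_le_iff_le_comap.mp hJm
  haveI : IsDomain (A ⧸ p) := Ideal.Quotient.isDomain _
  obtain ⟨hnf, hmax⟩ := H5S8804.dim_eq_one_iff.mp (hp ▸ H5S8829.dim_one hb)
  have hker : RingHom.ker (Ideal.Quotient.mk p) ≤ n := by rw [Ideal.mk_ker]; exact hpn
  have h1 : (n.map (Ideal.Quotient.mk p)).IsPrime :=
    Ideal.map_isPrime_of_surjective Ideal.Quotient.mk_surjective hker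
  have h2 : n.map (Ideal.Quotient.mk p) ≠ ⊥ := by
    intro h0
    rw [Ideal.map_eq_bot_iff_le_ker, Ideal.mk_ker] at h0
    exact hb.1 (hp ▸ (hIn.trans h0))
  have h3 := hmax _ h2 h1
  have h4 : n = (n.map (Ideal.Quotient.mk p)).comap (Ideal.Quotient.mk p) := by
    rw [Ideal.comap_map_of_surjective _ Ideal.Quotient.mk_surjective, ← RingHom.ker_eq_comap_bot,
      Ideal.mk_ker, sup_eq_left.mpr hpn]
  rw [h4]
  exact Ideal.comap_isMaximal_of_surjective _ Ideal.Quotient.mk_surjective

theorem main [Module.Flat A B] (p : PrimeSpectrum A) (hp : H5S8829.RigClosed A I p) :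
    (∃ Q : PrimeSpectrum B, (I.map (algebraMap A B)) ≤ Q.asIdeal ∧
      p.asIdeal ≤ (PrimeSpectrum.comap (algebraMap A B) Q).asIdeal ∧
      (PrimeSpectrum.comap (algebraMap A B) Q).asIdeal.IsMaximal) ↔
    (∃ q : PrimeSpectrum B, H5S8829.RigClosed B (I.map (algebraMap A B)) q ∧
      PrimeSpectrum.comap (algebraMap A B) q = p) := by
  constructor
  · rintro ⟨Q, -, hpQ, hQmax⟩
    -- going down
    haveI : Q.asIdeal.LiesOver (PrimeSpectrum.comap (algebraMap A B) Q).asIdeal := ⟨rfl⟩
    haveI := p.2
    haveI : (PrimeSpectrum.comap (algebraMap A B) Q).asIdeal.IsPrime := hQmax.isPrime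
    obtain ⟨q₀, -, hq₀prime, hq₀over⟩ :=
      Ideal.exists_ideal_le_liesOver_of_le (p := p.asIdeal) Q.asIdeal hpQ
    have hq₀p : q₀.comap (algebraMap A B) = p.asIdeal := hq₀over.over.symm
    -- a maximal prime above q₀ not containing IB
    let S : Set (Ideal B) := {y | y.IsPrime ∧ q₀ ≤ y ∧ ¬ I.map (algebraMap A B) ≤ y}
    have hS : S.Nonempty := ⟨q₀, hq₀prime, le_rfl, fun h => hp.1 (by
      rw [← hq₀p]; exact Ideal.map_le_iff_le_comap.mp h)⟩
    obtain ⟨q, hqS, hqmax⟩ := set_has_maximal_iff_noetherian.mpr (inferInstance : IsNoetherian B B) S hS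
    refine ⟨⟨q, hqS.1⟩, ⟨hqS.2.2, fun y hqy hy => ?_⟩, ?_⟩
    · have hyS : y.asIdeal ∈ S := ⟨y.2, hqS.2.1.trans hqy, hy⟩
      have : ¬ q < y.asIdeal := hqmax y.asIdeal hyS
      have hle : (q : Ideal B) ≤ y.asIdeal := hqy
      exact PrimeSpectrum.ext (eq_of_le_of_not_lt hle this).symm
    · apply hp.2
      · intro a ha
        change algebraMap A B a ∈ q
        apply hqS.2.1
        have : a ∈ q₀.comap (algebraMap A B) := hq₀p ▸ ha
        exact this
      · intro hI
        exact hqS.2.2 (Ideal.map_le_iff_le_comap.mpr hI)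
  · rintro ⟨q, hq, rfl⟩
    obtain ⟨m, hm, hqm⟩ := Ideal.exists_le_maximal q.asIdeal q.2.ne_top
    refine ⟨⟨m, hm.isPrime⟩, H5S8829.J_le_of_maximal m hm, Ideal.comap_mono hqm, ?_⟩
    exact comap_maximal A I B q hp m hm hqm

end H5S8836

/-- Let A be a Noetherian ring complete for the adic topology of an ideal I, and B a Noetherian
A-algebra complete for the IB-adic topology, flat over A, with B/IB of finite type over A (a flat
adic morphism, topologically of finite type, of adic Noetherian topological rings). Let p be a prime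
of A which is rig-closed (I ⊄ p and p maximal among the primes not containing I). The following are
equivalent: (1) the maximal ideal of the local ring A/p lies in the image of Spec(B/√(IB)) →
Spec(A/√I), stated as: some prime Q of B containing IB lies over a maximal ideal of A containing p;
(2) there is a rig-closed prime q of B (IB ⊄ q, q maximal among the primes not containing IB) whose
inverse image in A is p. (The published statement adds that, when these hold, A/p ⊆ B/q is a finite
extension of rings and the residue field of the local ring B/q is finite over A/√I; this is not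
restated here.) -/
theorem result (A : Type u) [CommRing A] [IsNoetherianRing A] (I : Ideal A) [IsAdicComplete I A] (B : Type u) [CommRing B] [Algebra A B] [IsNoetherianRing B] [IsAdicComplete (I.map (algebraMap A B)) B] (hft : Algebra.FiniteType A (B ⧸ (I.map (algebraMap A B)))) [Module.Flat A B] (p : PrimeSpectrum A) (hp : (¬ I ≤ p.asIdeal ∧ ∀ y : PrimeSpectrum A, p ≤ y → ¬ I ≤ y.asIdeal → y = p)) : (∃ Q : PrimeSpectrum B, (I.map (algebraMap A B)) ≤ Q.asIdeal ∧ p.asIdeal ≤ (PrimeSpectrum.comap (algebraMap A B) Q).asIdeal ∧ (PrimeSpectrum.comap (algebraMap A B) Q).asIdeal.IsMaximal) ↔ (∃ q : PrimeSpectrum B, (¬ (I.map (algebraMap A B)) ≤ q.asIdeal ∧ ∀ y : PrimeSpectrum B, q ≤ y → ¬ (I.map (algebraMap A B)) ≤ y.asIdeal → y = q) ∧ PrimeSpectrum.comap (algebraMap A B) q = p) := by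
  exact H5S8836.main A I B p hp

end Groth.Agent.S8836
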