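import Groth.Statements.S8849
import Mathlib
import Groth.Agent.Lib.helper22.EtaleFlatSch
import Groth.Agent.Lib.helper22.CartierFlat

set_option autoImplicit false
universe u
open CategoryTheory CategoryTheory.Limits AlgebraicGeometry TopologicalSpace
open SDiv

namespace Groth.Agent.S8849

section Helpers

open Groth.Agent.H22.EtaleFlat Groth.Agent.H22.CartierFlat

theorem main {X S : Scheme.{u}} (f : X ⟶ S) (𝓘 : X.IdealSheafData)
    (hD : BlowUp.IsEffCartierIdeal 𝓘 ∧ Flat (𝓘.subschemeι ≫ f))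
    (hflat : ∀ x : ↥X, x ∉ 𝓘.support → (f.stalkMap x).hom.Flat) : Flat f := by
  rw [Flat.iff_flat_stalkMap]
  intro x
  obtain ⟨_, ⟨V, hV, rfl⟩, hxV, -⟩ :=
    S.isBasis_affineOpens.exists_subset_of_mem_open (Set.mem_univ (f x)) isOpen_univ
  obtain ⟨U₀, hxU₀, t₀, ht₀, hI₀⟩ := hD.1 x
  obtain ⟨g, hgle, hxg⟩ := U₀.2.exists_basicOpen_le (V := f ⁻¹ᵁ V) ⟨x, hxV⟩ hxU₀
  have hU : IsAffineOpen (X.basicOpen g) := U₀.2.basicOpen g
  -- the generator on the basic open
  set t : Γ(X, X.basicOpen g) := (X.presheaf.map (homOfLE <| X.basicOpen_le g).op).hom t₀ with htdef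
  have hI : 𝓘.ideal (X.affineBasicOpen g) = Ideal.span {t} := by
    rw [← 𝓘.map_ideal_basicOpen U₀ g, hI₀, Ideal.map_span, Set.image_singleton]
  have ht : t ∈ nonZeroDivisors Γ(X, X.basicOpen g) := by
    haveI := U₀.2.isLocalization_basicOpen g
    exact IsLocalization.map_nonZeroDivisors_le (Submonoid.powers g) Γ(X, X.basicOpen g)
      (Submonoid.mem_map_of_mem _ ht₀)
  letI := (f.appLE V (X.basicOpen g) hgle).hom.toAlgebra
  rw [flat_stalkMap_iff f hV hU hgle x hxg]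
  suffices hfl : Module.Flat Γ(S, V) Γ(X, X.basicOpen g) from
    Module.Flat.trans Γ(S, V) Γ(X, X.basicOpen g) _
  apply flat_of_nzd_of_flat_quot t ht
  · -- quotient flat
    have haff : IsAffineOpen (𝓘.subschemeι ⁻¹ᵁ X.basicOpen g) := hU.preimage 𝓘.subschemeι
    have hle : 𝓘.subschemeι ⁻¹ᵁ X.basicOpen g ≤ (𝓘.subschemeι ≫ f) ⁻¹ᵁ V := by
      intro z hz
      exact hgle hz
    have h1 := HasRingHomProperty.appLE @Flat (𝓘.subschemeι ≫ f) hD.2 ⟨V, hV⟩
      ⟨𝓘.subschemeι ⁻¹ᵁ X.basicOpen g, haff⟩ hle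
    refine flat_quot_of_surjective (𝓘.subschemeι.app (X.basicOpen g)).hom
      (𝓘.subschemeι_app_surjective (X.affineBasicOpen g)) t
      ((𝓘.ker_subschemeι_app (X.affineBasicOpen g)).trans hI) ?_
    have e : f.appLE V (X.basicOpen g) hgle ≫ 𝓘.subschemeι.app (X.basicOpen g) =
        (𝓘.subschemeι ≫ f).appLE V (𝓘.subschemeι ⁻¹ᵁ X.basicOpen g) hle := by
      rw [Scheme.Hom.app_eq_appLE, Scheme.Hom.appLE_comp_appLE]
    change (f.appLE V (X.basicOpen g) hgle ≫ 𝓘.subschemeι.app (X.basicOpen g)).hom.Flat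
    rw [e]
    exact h1
  · intro q hq htq
    have hx'U : hU.fromSpec ⟨q, hq⟩ ∈ X.basicOpen g := by
      have := hU.range_fromSpec
      have h2 : hU.fromSpec ⟨q, hq⟩ ∈ Set.range hU.fromSpec := Set.mem_range_self _
      rw [this] at h2
      exact h2
    have hx't : hU.fromSpec ⟨q, hq⟩ ∈ X.basicOpen t := by
      change (⟨q, hq⟩ : Spec Γ(X, X.basicOpen g)) ∈ hU.fromSpec ⁻¹ᵁ X.basicOpen t
      rw [hU.fromSpec_preimage_basicOpen]
      exact htq
    have hns : hU.fromSpec ⟨q, hq⟩ ∉ 𝓘.support := by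
      rw [Scheme.IdealSheafData.mem_support_iff_of_mem (U := X.affineBasicOpen g) hx'U, hI]
      intro hmem
      rw [Scheme.mem_zeroLocus_iff] at hmem
      exact hmem t (Ideal.subset_span rfl) hx't
    have h3 := hflat _ hns
    rw [flat_stalkMap_iff f hV hU hgle _ hx'U] at h3
    have hprime : hU.primeIdealOf ⟨hU.fromSpec ⟨q, hq⟩, hx'U⟩ = ⟨q, hq⟩ := by
      apply hU.fromSpec.isOpenEmbedding.injective
      exact hU.fromSpec_primeIdealOf ⟨_, hx'U⟩
    rw [hprime] at h3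
    exact h3

end Helpers

/-- Let f : X ⟶ S be a morphism of schemes and 𝓘 the ideal sheaf of an effective Cartier divisor D ⊆ X
with D flat over S (a relative effective Cartier divisor). If f is flat at every point of X not in
D, then f is flat. -/
theorem result {X S : Scheme.{u}} (f : X ⟶ S) (𝓘 : X.IdealSheafData)
    (hD : BlowUp.IsEffCartierIdeal 𝓘 ∧ Flat (𝓘.subschemeι ≫ f))
    (hflat : ∀ x : ↥X, x ∉ 𝓘.support → (f.stalkMap x).hom.Flat) : Flat f := by
  exact main f 𝓘 hD hflat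

end Groth.Agent.S8849
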