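import Groth.Statements.S8854
import Mathlib
-- import your own Groth.Agent.* helpers here

set_option autoImplicit false
set_option linter.style.haveILetI false
universe u
open SDiv

namespace Groth.Agent.S8854

/-- Let R be a Noetherian unique factorisation domain and I ⊆ R an ideal such that every associated
prime of R/I is minimal over I (R/I has no embedded primes) and every prime minimal over I has
height 1. Then I is principal: it is generated by one element. -/
theorem result (R : Type u) [CommRing R] [IsDomain R] [IsNoetherianRing R]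
    [UniqueFactorizationMonoid R] (I : Ideal R)
    (h1 : ∀ p : Ideal R, p ∈ associatedPrimes R (R ⧸ I) → p ∈ I.minimalPrimes)
    (h2 : ∀ p : Ideal R, p ∈ I.minimalPrimes → p.height = 1) :
    ∃ f : R, I = Ideal.span {f} := by
  classical
  by_cases hI0 : I = ⊥
  · exact ⟨0, by simp [hI0]⟩
  obtain ⟨_⟩ : Nonempty (NormalizedGCDMonoid R) := inferInstance
  obtain ⟨s, hs⟩ : I.FG := IsNoetherian.noetherian I
  have hsne : s.Nonempty := by
    rw [Finset.nonempty_iff_ne_empty]
    rintro rfl
    apply hI0
    rw [← hs]
    simp
  obtain ⟨g, hg, hg1⟩ := Finset.extract_gcd (id : R → R) hsne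
  set f := s.gcd id with hfdef
  have hf0 : f ≠ 0 := by
    intro h0
    apply hI0
    rw [← hs, Ideal.span_eq_bot]
    intro x hx
    have := hg x hx
    rw [h0, zero_mul] at this
    exact this
  let I' : Ideal R := Ideal.span (g '' (s : Set R))
  have hII' : I = Ideal.span {f} * I' := by
    rw [← hs]
    apply le_antisymm
    · rw [Ideal.span_le]
      intro x hx
      have hx' := hg x hx
      simp only [id] at hx'
      rw [SetLike.mem_coe, hx']
      exact Ideal.mul_mem_mul (Ideal.mem_span_singleton_self f)
        (Ideal.subset_span ⟨x, hx, rfl⟩)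
    · rw [Ideal.span_singleton_mul_le_iff]
      intro z hz
      refine Submodule.span_induction (p := fun z _ => f * z ∈ Ideal.span (s : Set R))
        ?_ ?_ ?_ ?_ hz
      · rintro _ ⟨b, hb, rfl⟩
        have := hg b hb
        simp only [id] at this
        rw [← this]
        exact Ideal.subset_span hb
      · simp
      · intro x y _ _ hx hy
        rw [mul_add]
        exact Ideal.add_mem _ hx hy
      · intro a x _ hx
        rw [smul_eq_mul, mul_left_comm]
        exact Ideal.mul_mem_left _ a hx
  suffices hI' : I' = ⊤ by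
    exact ⟨f, by rw [hII', hI', Ideal.mul_top]⟩
  by_contra hI'
  haveI : Nontrivial (R ⧸ I') := Ideal.Quotient.nontrivial_iff.mpr hI'
  obtain ⟨P, hP⟩ := associatedPrimes.nonempty R (R ⧸ I')
  have hle : I' ≤ Submodule.comap (LinearMap.mulLeft R f) I := by
    intro x hx
    change f * x ∈ I
    rw [hII']
    exact Ideal.mul_mem_mul (Ideal.mem_span_singleton_self f) hx
  let φ : (R ⧸ I') →ₗ[R] (R ⧸ I) := Submodule.mapQ I' I (LinearMap.mulLeft R f) hle
  have hinj : Function.Injective φ := by
    rw [injective_iff_map_eq_zero]
    intro x hx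
    obtain ⟨x, rfl⟩ := Submodule.Quotient.mk_surjective _ x
    rw [Submodule.mapQ_apply, Submodule.Quotient.mk_eq_zero] at hx
    change f * x ∈ I at hx
    rw [hII', Ideal.mem_span_singleton_mul] at hx
    obtain ⟨y, hy, hxy⟩ := hx
    have : y = x := mul_left_cancel₀ hf0 hxy
    rw [Submodule.Quotient.mk_eq_zero, ← this]
    exact hy
  have hP' : P ∈ associatedPrimes R (R ⧸ I) := associatedPrimes.subset_of_injective hinj hP
  have hPh : P.height = 1 := h2 P (h1 P hP')
  haveI hPprime : P.IsPrime := hP.isPrime
  have hI'P : I' ≤ P := by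
    have := hP.annihilator_le
    rwa [Submodule.annihilator_top, Ideal.annihilator_quotient] at this
  obtain ⟨π, hπP, hπ⟩ := hPprime.exists_mem_prime_of_ne_bot (Ideal.ne_bot_of_height_eq_one hPh)
  have hPeq : P = Ideal.span {π} := Ideal.eq_span_singleton_of_height_eq_one hPh hπP hπ
  have hdvd : π ∣ s.gcd g := by
    apply Finset.dvd_gcd
    intro b hb
    have : g b ∈ P := hI'P (Ideal.subset_span ⟨b, hb, rfl⟩)
    rwa [hPeq, Ideal.mem_span_singleton] at this
  rw [hg1] at hdvd
  exact hπ.not_isUnit (isUnit_of_dvd_one hdvd)

end Groth.Agent.S8854
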