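import Groth.Statements.S8861
import Mathlib
import Groth.Agent.Lib.helper9.WeakAssSch
import Groth.Agent.Lib.helper9.UnitStalk
import Groth.Agent.Lib.helper22.CartierBC

set_option autoImplicit false
universe u
open CategoryTheory CategoryTheory.Limits AlgebraicGeometry TopologicalSpace
open SDiv

namespace Groth.Agent.S8861

section Helpers

open Groth.Agent.Lib.helper9.UnitStalk Groth.Agent.Lib.helper9.WeakAssSch Groth.Agent.H22.CartierFlat

instance unit_isQuasicoherent (X : Scheme.{u}) : (OX X).IsQuasicoherent := by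
  have e : SheafOfModules.free (R := X.ringCatSheaf) PUnit.{u+1} ≅ SheafOfModules.unit X.ringCatSheaf :=
    Limits.coproductUniqueIso _
  have h1 : (SheafOfModules.free (R := X.ringCatSheaf) PUnit.{u+1}).IsQuasicoherent := inferInstance
  obtain ⟨⟨q⟩⟩ := h1
  exact (SheafOfModules.QuasicoherentData.ofIsIso e.hom q).isQuasicoherent

lemma isUnit_germ_appLE {X Y : Scheme.{u}} (f : X ⟶ Y) {V : Y.Opens} {U : X.Opens}
    (hUV : U ≤ f ⁻¹ᵁ V) (t : Γ(Y, V)) (x : X) (hx : x ∈ U)
    (ht : IsUnit (Y.presheaf.germ V (f x) (hUV hx) t)) :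
    IsUnit (X.presheaf.germ U x hx ((f.appLE V U hUV).hom t)) := by
  have h1 := ht.map (f.stalkMap x).hom
  rw [Scheme.Hom.germ_stalkMap_apply] at h1
  have h2 : X.presheaf.germ U x hx ((f.appLE V U hUV).hom t) =
      X.presheaf.germ (f ⁻¹ᵁ V) x (hUV hx) ((f.app V).hom t) := by
    rw [Scheme.Hom.appLE]
    exact TopCat.Presheaf.germ_res_apply X.presheaf (homOfLE hUV) x hx _
  rw [h2]; exact h1

lemma mem_basicOpen_of_not_mem_support {Y : Scheme.{u}} (𝓘 : Y.IdealSheafData) (V : Y.affineOpens)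
    (t : Γ(Y, V.1)) (hI : 𝓘.ideal V = Ideal.span {t}) (y : Y) (hy : y ∈ V.1)
    (hns : y ∉ 𝓘.support) : y ∈ Y.basicOpen t := by
  by_contra hcon
  apply hns
  rw [Scheme.IdealSheafData.mem_support_iff_of_mem (U := V) hy, hI, Scheme.zeroLocus_span,
    Scheme.zeroLocus_singleton]
  exact hcon

theorem main {X Y : Scheme.{u}} (f : X ⟶ Y) (𝓘 : Y.IdealSheafData) (hD : BlowUp.IsEffCartierIdeal 𝓘)
    (h : ∀ x : ↥X, Curv2.IsWeakAssPoint (Coh.structureModule X) x → f x ∉ 𝓘.support) :
    BlowUp.IsEffCartierIdeal (𝓘.comap f) := by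
  intro x
  obtain ⟨V, hxV, t, ht, hI⟩ := hD (f x)
  obtain ⟨_, ⟨U, hU, rfl⟩, hxU, hUV : U ≤ f ⁻¹ᵁ V.1⟩ :=
    X.isBasis_affineOpens.exists_subset_of_mem_open hxV (f ⁻¹ᵁ V.1).isOpen
  refine ⟨⟨U, hU⟩, hxU, (f.appLE V.1 U hUV).hom t, ?_, ?_⟩
  · rw [mem_nonZeroDivisors_iff_right]
    intro c hc
    have h0 : toUnit U c = 0 := by
      apply eq_zero_of_germ_eq_zero_of_weakAss (OX X) U
      intro x' hx' hw
      rw [← unitGerm_germ]
      have hfx : f x' ∉ 𝓘.support := h x' hw
      have h1 : f x' ∈ Y.basicOpen t :=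
        mem_basicOpen_of_not_mem_support 𝓘 V t hI (f x') (hUV hx') hfx
      have h3 : IsUnit (X.presheaf.germ U x' hx' ((f.appLE V.1 U hUV).hom t)) :=
        isUnit_germ_appLE f hUV t x' hx' ((Scheme.mem_basicOpen Y t (f x') (hUV hx')).mp h1)
      have h4 : X.presheaf.germ U x' hx' c *
          X.presheaf.germ U x' hx' ((f.appLE V.1 U hUV).hom t) = 0 := by
        rw [← map_mul, hc, map_zero]
      rw [h3.mul_left_eq_zero] at h4
      rw [h4, map_zero]
    exact toUnit_injective U (h0.trans (toUnit_zero U).symm)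
  · rw [comap_ideal_eq_map 𝓘 f ⟨U, hU⟩ V hUV, hI, Ideal.map_span, Set.image_singleton]

end Helpers

/-- Let f : X ⟶ Y be a morphism of schemes and 𝓘 the ideal sheaf of an effective Cartier divisor D ⊆ Y.
If f x ∉ D for every weakly associated point x of X (weakly associated point of the structure
sheaf), then the inverse image ideal sheaf of 𝓘 on X is the ideal of an effective Cartier divisor,
i.e. the pullback of D by f is defined. -/
theorem result {X Y : Scheme.{u}} (f : X ⟶ Y) (𝓘 : Y.IdealSheafData)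
    (hD : BlowUp.IsEffCartierIdeal 𝓘)
    (h : ∀ x : ↥X, Curv2.IsWeakAssPoint (Coh.structureModule X) x → f x ∉ 𝓘.support) :
    BlowUp.IsEffCartierIdeal (𝓘.comap f) := by
  exact main f 𝓘 hD h

end Groth.Agent.S8861
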