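import Groth.Statements.S8864
import Groth.Agent.Lib.helper11.MeroFrac

set_option autoImplicit false
universe u
open CategoryTheory CategoryTheory.Limits AlgebraicGeometry TopologicalSpace
open SDiv

namespace Groth.Agent.S8864

/-- Let X be a locally Noetherian scheme and U an affine open of X. Then K_X(U), viewed as an
O_X(U)-algebra through the canonical map r ↦ r/1, is the total ring of fractions of O_X(U): it is a
localization of O_X(U) at the monoid of nonzerodivisors. -/
theorem result (X : Scheme.{u}) [IsLocallyNoetherian X] (U : X.affineOpens) :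
    @IsLocalization Γ(X, U.1) _ (nonZeroDivisors Γ(X, U.1)) Γ(Mero.kmod X, U.1) _ (Mero.toK X U.1).toAlgebra := by
  classical
  letI := (Mero.toK X U.1).toAlgebra
  haveI : IsNoetherianRing Γ(X, U.1) := IsLocallyNoetherian.component_noetherian U
  refine (isLocalization_iff _ _).mpr ⟨?_, ?_, ?_⟩
  · intro b
    have hbreg : b.1 ∈ Mero.regSub X U.1 :=
      Groth.Agent.Lib.helper11.MeroPseudo.mem_regSub_of_mem_nonZeroDivisors U.2 b.1 b.2
    let inv : Γ(Mero.kmod X, U.1) :=
      ⟨fun y => LocalizedModule.mk 1 (Mero.regGerm y ⟨b.1, hbreg⟩),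
        fun y => ⟨U.1, y.2, 𝟙 _, 1, ⟨b.1, hbreg⟩, fun z => Mero.mk_congr (map_one _).symm rfl⟩⟩
    refine isUnit_iff_exists_inv.mpr ⟨inv, ?_⟩
    refine Subtype.ext (funext fun y => ?_)
    change (LocalizedModule.mk (X.presheaf.germ U.1 y.1 y.2 b.1) 1 : Mero.KStalk X y.1) *
      LocalizedModule.mk 1 (Mero.regGerm y ⟨b.1, hbreg⟩) = 1
    refine LocalizedModule.mk_mul_mk.trans ?_
    refine (Mero.mk_congr (mul_one _) ?_).trans (Mero.mk_self_eq_one (Mero.regGerm y ⟨b.1, hbreg⟩))
    simp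
  · intro s
    obtain ⟨a, b, hb, h⟩ := Groth.Agent.Lib.helper11.MeroFrac.exists_global_frac U.2
      (Or.inl inferInstance) s
    exact ⟨(a, ⟨b, hb⟩), h⟩
  · intro a a' h
    refine ⟨1, ?_⟩
    rw [OneMemClass.coe_one, one_mul, one_mul]
    refine TopCat.Presheaf.section_ext X.sheaf U.1 a a' (fun y hy => ?_)
    change X.presheaf.germ U.1 y hy a = X.presheaf.germ U.1 y hy a'
    have h1 : (Mero.toK X U.1 a).1 ⟨y, hy⟩ = (Mero.toK X U.1 a').1 ⟨y, hy⟩ := by
      have h0 : Mero.toK X U.1 a = Mero.toK X U.1 a' := h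
      rw [h0]
    rw [Mero.toK_apply, Mero.toK_apply, Groth.Agent.Lib.helper11.MeroBasic.mk_eq_mk_iff
      (Mero.regStalk_le_nonZeroDivisors y)] at h1
    simpa using h1

end Groth.Agent.S8864
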