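import Groth.Statements.S8868
import Groth.Agent.Lib.helper9.WeakAssSch
import Groth.Agent.Lib.helper9.ZC5

set_option autoImplicit false
universe u
open CategoryTheory CategoryTheory.Limits AlgebraicGeometry TopologicalSpace
open SDiv

namespace Groth.Agent.S8868

/-- Let X be a scheme and F a quasi-coherent O_X-module. Then F is zero if and only if F has no weakly
associated point. -/
theorem result (X : Scheme.{u}) (F : X.Modules) (hF : Coh.IsQCoh F) :
    IsZero F ↔ ∀ x : ↥X, ¬ Curv2.IsWeakAssPoint F x := by
  haveI : F.IsQuasicoherent := hF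
  constructor
  · intro hz x
    rintro ⟨m, hm⟩
    have h0 : 𝟙 F = 0 := (IsZero.iff_id_eq_zero F).mp hz
    obtain ⟨V, hxV, s, rfl⟩ := F.presheaf.exists_germ_eq m
    have hs : s = 0 := by
      have h1 := congrArg (fun φ => Scheme.Modules.Hom.app φ V) h0
      exact congr($h1 s)
    have hm0 : (F.presheaf.germ V x hxV) s = 0 := by
      rw [hs]
      exact map_zero (F.presheaf.germ V x hxV).hom
    rw [hm0] at hm
    have h1 : (1 : X.presheaf.stalk x) ∈ IsLocalRing.maximalIdeal (X.presheaf.stalk x) := by
      rw [← hm]
      apply Ideal.le_radical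
      rw [LinearMap.mem_ker, LinearMap.toSpanSingleton_apply, smul_zero]
    exact (Ideal.ne_top_iff_one _).mp (IsLocalRing.maximalIdeal.isMaximal _).ne_top h1
  · intro hno
    have key : ∀ (U : X.Opens) (s : Γ(F, U)), s = 0 := by
      intro U s
      apply Groth.Agent.Lib.helper9.WeakAssSch.eq_zero_of_germ_eq_zero_of_weakAss F U s
      intro x hx hwx
      exact absurd hwx (hno x)
    rw [IsZero.iff_id_eq_zero]
    apply Scheme.Modules.hom_ext
    intro U
    apply ConcreteCategory.hom_ext
    intro s
    exact (key U _).trans (key U _).symm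

end Groth.Agent.S8868
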