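import Groth.Statements.S8870
import Groth.Agent.Lib.helper9.StalkExact

set_option autoImplicit false
universe u
open CategoryTheory CategoryTheory.Limits AlgebraicGeometry TopologicalSpace
open SDiv

namespace Groth.Agent.S8870

lemma ker_eq_of_injective {R : Type*} [CommRing R] {M N : Type*} [AddCommGroup M] [AddCommGroup N]
    [Module R M] [Module R N] (f : M →ₗ[R] N) (hf : Function.Injective f) (m : M) :
    LinearMap.ker (LinearMap.toSpanSingleton R N (f m)) =
      LinearMap.ker (LinearMap.toSpanSingleton R M m) := by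
  ext a
  rw [LinearMap.mem_ker, LinearMap.mem_ker, LinearMap.toSpanSingleton_apply,
    LinearMap.toSpanSingleton_apply, ← map_smul]
  exact ⟨fun h => hf (h.trans (map_zero f).symm), fun h => by rw [h, map_zero]⟩

lemma local_weak_of_exact {R : Type*} [CommRing R] [IsLocalRing R] {M₁ M₂ M₃ : Type*}
    [AddCommGroup M₁] [AddCommGroup M₂] [AddCommGroup M₃] [Module R M₁] [Module R M₂] [Module R M₃]
    (f : M₁ →ₗ[R] M₂) (g : M₂ →ₗ[R] M₃) (hf : Function.Injective f) (hfg : Function.Exact f g)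
    (m : M₂) (hm : Ideal.radical (LinearMap.ker (LinearMap.toSpanSingleton R M₂ m)) =
      IsLocalRing.maximalIdeal R) :
    (∃ m₁ : M₁, Ideal.radical (LinearMap.ker (LinearMap.toSpanSingleton R M₁ m₁)) =
      IsLocalRing.maximalIdeal R) ∨
    (∃ m₃ : M₃, Ideal.radical (LinearMap.ker (LinearMap.toSpanSingleton R M₃ m₃)) =
      IsLocalRing.maximalIdeal R) := by
  by_cases h : g m = 0
  · obtain ⟨m₁, rfl⟩ := (hfg m).mp h
    left
    refine ⟨m₁, ?_⟩
    rw [← ker_eq_of_injective f hf m₁]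
    exact hm
  · right
    refine ⟨g m, le_antisymm ?_ ?_⟩
    · rw [(IsLocalRing.maximalIdeal.isMaximal R).isPrime.radical_le_iff]
      apply IsLocalRing.le_maximalIdeal
      intro htop
      have h1 : (1 : R) ∈ LinearMap.ker (LinearMap.toSpanSingleton R M₃ (g m)) := by
        rw [htop]; trivial
      rw [LinearMap.mem_ker, LinearMap.toSpanSingleton_apply, one_smul] at h1
      exact h h1
    · rw [← hm]
      apply Ideal.radical_mono
      intro a ha
      rw [LinearMap.mem_ker, LinearMap.toSpanSingleton_apply] at ha ⊢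
      rw [← map_smul, ha, map_zero]


/-- Let X be a scheme and 0 → F₁ → F₂ → F₃ → 0 a short exact sequence of quasi-coherent O_X-modules.
Then WeakAss(F₂) ⊆ WeakAss(F₁) ∪ WeakAss(F₃) and WeakAss(F₁) ⊆ WeakAss(F₂). -/
theorem result (X : Scheme.{u}) (S : ShortComplex X.Modules) (hS : S.ShortExact)
    (h₁ : Coh.IsQCoh S.X₁) (h₂ : Coh.IsQCoh S.X₂) (h₃ : Coh.IsQCoh S.X₃) :
    (∀ x : ↥X, Curv2.IsWeakAssPoint S.X₂ x → Curv2.IsWeakAssPoint S.X₁ x ∨ Curv2.IsWeakAssPoint S.X₃ x) ∧
      (∀ x : ↥X, Curv2.IsWeakAssPoint S.X₁ x → Curv2.IsWeakAssPoint S.X₂ x) := by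
  haveI := hS.mono_f
  constructor
  · rintro x ⟨m, hm⟩
    exact local_weak_of_exact (Groth.Agent.Lib.helper9.StalkExact.stalkLin S.f x)
      (Groth.Agent.Lib.helper9.StalkExact.stalkLin S.g x)
      (Groth.Agent.Lib.helper9.StalkExact.stalkLin_injective_of_mono S.f x)
      (Groth.Agent.Lib.helper9.StalkExact.stalkLin_exact S hS.exact x) m hm
  · rintro x ⟨m, hm⟩
    refine ⟨Groth.Agent.Lib.helper9.StalkExact.stalkLin S.f x m, ?_⟩
    rw [ker_eq_of_injective (Groth.Agent.Lib.helper9.StalkExact.stalkLin S.f x)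
      (Groth.Agent.Lib.helper9.StalkExact.stalkLin_injective_of_mono S.f x) m]
    exact hm

end Groth.Agent.S8870
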