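import Groth.Statements.S8871
import Groth.Agent.Lib.helper9.CohB8
-- import your own Groth.Agent.* helpers here

set_option autoImplicit false
universe u
open CategoryTheory CategoryTheory.Limits AlgebraicGeometry TopologicalSpace
open SDiv

namespace Groth.Agent.S8871

/-- Let X be a locally Noetherian scheme and F a coherent O_X-module. Then F has no embedded associated
points (every associated point of F is maximal among the associated points of F under
specialization) if and only if F has property (S_1): for every point x, depth F_x ≥ min(1, dim Supp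
F_x), where dim Supp F_x is the Krull dimension of the support of the O_{X,x}-module F_x (for F_x =
0 the depth is infinite and the support empty, so the condition holds). -/
theorem result (X : Scheme.{u}) [IsLocallyNoetherian X] (F : X.Modules) (hF : Coh.IsCoh F) :
    (∀ x : ↥X, Curv2.IsAssPoint F x → ∀ y : ↥X, Curv2.IsAssPoint F y → y ⤳ x → y = x) ↔
      ∀ x : ↥X, min (1 : WithBot ℕ∞) (Module.supportDim ↑(X.presheaf.stalk x) ↑(F.presheaf.stalk x)) ≤
        ((LocCoh.depth (X.presheaf.stalk x) (F.presheaf.stalk x) : ℕ∞) : WithBot ℕ∞) := by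
  haveI := hF.1
  haveI := hF.2
  open Groth.Agent.Lib.helper9.CohB Groth.Agent.Lib.helper9.Depth in
  constructor
  · -- no embedded points ⇒ S_1
    intro h x
    obtain ⟨W, hW, hxW, hN, hfin⟩ := exists_good_affine F x
    obtain ⟨q, rfl⟩ := exists_fromSpec_eq hW hxW
    rw [supportDim_stalk_eq F hW q, depth_stalk_eq' F hW q]
    have hSk : LocCoh.HasSk 1 Γ(X, W) (Γmod (F.restrict hW.fromSpec)) := by
      rw [← noEmbedded_iff_hasSk_one]
      intro p hp
      haveI : p.IsPrime := IsAssociatedPrime.isPrime hp
      have hann : Module.annihilator Γ(X, W) (Γmod (F.restrict hW.fromSpec)) ≤ p := by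
        have := IsAssociatedPrime.annihilator_le hp
        rwa [Submodule.annihilator_top] at this
      obtain ⟨p', hp'min, hp'le⟩ := Ideal.exists_minimalPrimes_le hann
      have hp'ass : p' ∈ associatedPrimes Γ(X, W) (Γmod (F.restrict hW.fromSpec)) :=
        Module.associatedPrimes.minimalPrimes_annihilator_subset_associatedPrimes _ _ hp'min
      haveI : p'.IsPrime := hp'min.1.1
      have h1 := (isAssociatedPrime_maximalIdeal_stalk_iff F hW ⟨p, inferInstance⟩).mpr hp
      have h2 := (isAssociatedPrime_maximalIdeal_stalk_iff F hW ⟨p', inferInstance⟩).mpr hp'ass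
      have h3 : hW.fromSpec ⟨p', inferInstance⟩ ⤳ hW.fromSpec ⟨p, inferInstance⟩ :=
        (fromSpec_specializes_iff hW _ _).mpr hp'le
      have h4 := h _ h1 _ h2 h3
      have h5 : (⟨p', inferInstance⟩ : PrimeSpectrum Γ(X, W)) = ⟨p, inferInstance⟩ :=
        hW.fromSpec.isOpenEmbedding.injective h4
      have h6 : p' = p := congrArg PrimeSpectrum.asIdeal h5
      rw [← h6]
      exact hp'min
    exact hSk q.asIdeal
  · -- S_1 ⇒ no embedded points
    intro h x hx y hy hyx
    obtain ⟨W, hW, hxW, hN, hfin⟩ := exists_good_affine F x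
    have hyW : y ∈ W := hyx.mem_open W.2 hxW
    obtain ⟨q, rfl⟩ := exists_fromSpec_eq hW hxW
    obtain ⟨q', rfl⟩ := exists_fromSpec_eq hW hyW
    have hSk : LocCoh.HasSk 1 Γ(X, W) (Γmod (F.restrict hW.fromSpec)) := by
      intro p _
      have := h (hW.fromSpec ⟨p, inferInstance⟩)
      rwa [supportDim_stalk_eq F hW ⟨p, inferInstance⟩, depth_stalk_eq' F hW ⟨p, inferInstance⟩]
        at this
    have hmin := (noEmbedded_iff_hasSk_one _).mpr hSk
    have hq := (isAssociatedPrime_maximalIdeal_stalk_iff F hW q).mp hx
    have hq' := (isAssociatedPrime_maximalIdeal_stalk_iff F hW q').mp hy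
    have hle : q'.asIdeal ≤ q.asIdeal := (fromSpec_specializes_iff hW _ _).mp hyx
    have hqmin := hmin _ hq
    have hann : Module.annihilator Γ(X, W) (Γmod (F.restrict hW.fromSpec)) ≤ q'.asIdeal := by
      have := IsAssociatedPrime.annihilator_le hq'
      rwa [Submodule.annihilator_top] at this
    have hge : q.asIdeal ≤ q'.asIdeal := hqmin.2 ⟨q'.2, hann⟩ hle
    have : q' = q := PrimeSpectrum.ext (le_antisymm hle hge)
    rw [this]

end Groth.Agent.S8871
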