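import Groth.Statements.S8889
import Groth.Agent.Lib.helper9.WeakAssSch
import Groth.Agent.Lib.helper9.ZC5

set_option autoImplicit false
universe u
open CategoryTheory CategoryTheory.Limits AlgebraicGeometry TopologicalSpace
open SDiv

namespace Groth.Agent.S8889

/-- Let X be a scheme and φ : F ⟶ G a morphism of quasi-coherent O_X-modules. Assume that for every
point x of X either the stalk map F_x → G_x is injective or x is not a weakly associated point of F.
Then φ is injective. -/
theorem result (X : Scheme.{u}) {F G : X.Modules} (φ : F ⟶ G) (hF : Coh.IsQCoh F)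
    (hG : Coh.IsQCoh G)
    (h : ∀ x : ↥X, Function.Injective ((TopCat.Presheaf.stalkFunctor AddCommGrpCat.{u} x).map (Scheme.Modules.Hom.mapPresheaf φ)) ∨ ¬ Curv2.IsWeakAssPoint F x) :
    Mono φ := by
  haveI : F.IsQuasicoherent := hF
  apply Groth.Agent.Lib.helper9.ZC.mono_of_app_injective φ
  intro U a b hab
  have h0 : a - b = 0 := by
    apply Groth.Agent.Lib.helper9.WeakAssSch.eq_zero_of_germ_eq_zero_of_weakAss F U (a - b)
    intro x hx hwx
    have hinj := (h x).resolve_right (not_not.mpr hwx)
    apply hinj
    have h1 := Groth.Agent.Lib.helper9.ZC.stalk_map_germ φ U x hx (a - b)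
    refine h1.trans ?_
    have h2 : φ.app U (a - b) = 0 :=
      (map_sub (ConcreteCategory.hom (φ.app U)) a b).trans (sub_eq_zero.mpr hab)
    rw [h2]
    refine (map_zero (G.presheaf.germ U x hx).hom).trans ?_
    exact (map_zero _).symm
  exact sub_eq_zero.mp h0

end Groth.Agent.S8889
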