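import Groth.Statements.S8890
import Groth.Agent.Lib.helper9.StalkNat
import Groth.Agent.Lib.helper9.DepthIso

set_option autoImplicit false
universe u
open CategoryTheory CategoryTheory.Limits AlgebraicGeometry TopologicalSpace
open SDiv

namespace Groth.Agent.S8890

/-- Let X be a locally Noetherian scheme and φ : F ⟶ G a morphism of quasi-coherent O_X-modules with F
coherent. Assume that for every point x of X either the stalk map F_x → G_x is an isomorphism, or
depth(F_x) ≥ 2 and x is not an associated point of G. Then φ is an isomorphism. -/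
theorem result (X : Scheme.{u}) [IsLocallyNoetherian X] {F G : X.Modules} (φ : F ⟶ G)
    (hF : Coh.IsCoh F) (hG : Coh.IsQCoh G)
    (h : ∀ x : ↥X, Function.Bijective ((TopCat.Presheaf.stalkFunctor AddCommGrpCat.{u} x).map (Scheme.Modules.Hom.mapPresheaf φ)) ∨
      ((2 : ℕ∞) ≤ LocCoh.depth (X.presheaf.stalk x) (F.presheaf.stalk x) ∧ ¬ Curv2.IsAssPoint G x)) :
    IsIso φ := by
  obtain ⟨hqc, hft⟩ := hF
  haveI : F.IsQuasicoherent := hqc
  haveI : SheafOfModules.IsFiniteType.{u} F := hft
  haveI : G.IsQuasicoherent := hG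
  have hall : ∀ x : X, Function.Bijective (Groth.Agent.Lib.helper9.CohB.stalkMap φ x) := by
    intro x
    obtain ⟨V, hV, hxV, hNoeth, hfin⟩ := Groth.Agent.Lib.helper9.CohB.exists_good_affine F x
    haveI := hNoeth
    haveI := hfin
    obtain ⟨q, rfl⟩ := Groth.Agent.Lib.helper9.CohB.exists_fromSpec_eq hV hxV
    have hbij : Function.Bijective (Groth.Agent.Lib.helper9.CohB.Γmap φ hV).hom := by
      apply Groth.Agent.Lib.helper9.Depth.bijective_of_local_conditions
      intro p hp
      rcases h (hV.fromSpec ⟨p, hp⟩) with h1 | ⟨h2, h3⟩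
      · left
        exact (Groth.Agent.Lib.helper9.CohB.stalkMap_bijective_iff φ hV ⟨p, hp⟩).mp h1
      · right
        refine ⟨?_, fun hpN => h3
          ((Groth.Agent.Lib.helper9.CohB.isAssPoint_fromSpec_iff G hV ⟨p, hp⟩).mpr hpN)⟩
        rw [← Groth.Agent.Lib.helper9.CohB.depth_stalk_eq' F hV ⟨p, hp⟩]
        exact h2
    rw [Groth.Agent.Lib.helper9.CohB.stalkMap_bijective_iff φ hV q]
    exact ⟨LocalizedModule.map_injective _ _ hbij.1, LocalizedModule.map_surjective _ _ hbij.2⟩
  exact Groth.Agent.Lib.helper9.ZC.isIso_of_stalk_bijective φ hall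

end Groth.Agent.S8890
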