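import Groth.Statements.S8891
import Groth.Agent.Lib.helper9.StalkNat
import Groth.Agent.Lib.helper9.DepthIso
import Groth.Agent.S8890

set_option autoImplicit false
universe u
open CategoryTheory CategoryTheory.Limits AlgebraicGeometry TopologicalSpace
open SDiv

namespace Groth.Agent.S8891

/-- Let X be an integral locally Noetherian scheme and φ : F ⟶ G a morphism of quasi-coherent
O_X-modules with F coherent and G torsion free. Assume that for every point x either the stalk map
F_x → G_x is an isomorphism, or depth(F_x) ≥ 2 and x is not the generic point of X. Then φ is an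
isomorphism. (The published statement allows the second alternative at the generic point as well;
since the zero module has infinite depth, F = 0 and G = O_X then satisfy every hypothesis while 0 →
O_X is not an isomorphism. The general criterion this is a special case of requires x not to be
associated to G, which for torsion-free G ≠ 0 fails exactly at the generic point; so the generic
point is excluded from the second alternative here.) -/
theorem result (X : Scheme.{u}) [IsIntegral X] [IsLocallyNoetherian X] {F G : X.Modules}
    (φ : F ⟶ G) (hF : Coh.IsCoh F) (hG : Coh.IsQCoh G)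
    (htf : ∀ x : ↥X, NoZeroSMulDivisors ↑(X.presheaf.stalk x) ↑(G.presheaf.stalk x))
    (h : ∀ x : ↥X, Function.Bijective ((TopCat.Presheaf.stalkFunctor AddCommGrpCat.{u} x).map (Scheme.Modules.Hom.mapPresheaf φ)) ∨
      ((2 : ℕ∞) ≤ LocCoh.depth (X.presheaf.stalk x) (F.presheaf.stalk x) ∧ x ≠ genericPoint ↥X)) :
    IsIso φ := by
  apply Groth.Agent.S8890.result X φ hF hG
  intro x
  rcases h x with h1 | ⟨h2, h3⟩
  · exact Or.inl h1
  · refine Or.inr ⟨h2, fun hass => h3 ?_⟩
    obtain ⟨V, hV, hxV, -⟩ := TopologicalSpace.Opens.isBasis_iff_nbhd.mp X.isBasis_affineOpens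
      (show x ∈ (⊤ : X.Opens) from trivial)
    have hηx : genericPoint ↥X ⤳ x := (genericPoint_spec ↥X).specializes (Set.mem_univ x)
    have hηV : genericPoint ↥X ∈ V := hηx.mem_open V.2 hxV
    obtain ⟨q, rfl⟩ := Groth.Agent.Lib.helper9.CohB.exists_fromSpec_eq hV hxV
    obtain ⟨qη, hqη⟩ := Groth.Agent.Lib.helper9.CohB.exists_fromSpec_eq hV hηV
    obtain ⟨hprime, g, hg⟩ := hass
    haveI := htf (hV.fromSpec q)
    have hm : IsLocalRing.maximalIdeal (X.presheaf.stalk (hV.fromSpec q)) = ⊥ := by
      by_cases hg0 : g = 0
      · exfalso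
        apply hprime.ne_top
        have hcol : (⊥ : Submodule (X.presheaf.stalk (hV.fromSpec q))
            (G.presheaf.stalk (hV.fromSpec q))).colon {g} = ⊤ := by
          ext r
          simp [Submodule.mem_colon_singleton, hg0]
        rw [hg, hcol, Ideal.radical_top]
      · have hcol : (⊥ : Submodule (X.presheaf.stalk (hV.fromSpec q))
            (G.presheaf.stalk (hV.fromSpec q))).colon {g} = ⊥ := by
          ext r
          rw [Submodule.mem_colon_singleton, Submodule.mem_bot, Ideal.mem_bot, smul_eq_zero]
          exact ⟨fun h => h.resolve_right hg0, fun h => Or.inl h⟩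
        rw [hg, hcol]
        exact (Ideal.isPrime_bot : (⊥ : Ideal (X.presheaf.stalk (hV.fromSpec q))).IsPrime).radical
    have hqηle : qη.asIdeal ≤ q.asIdeal := by
      refine (Groth.Agent.Lib.helper9.CohB.fromSpec_specializes_iff hV qη q).mp ?_
      rw [hqη]
      exact hηx
    have hle : q.asIdeal ≤ qη.asIdeal := by
      intro a ha
      letI : Algebra Γ(X, V) (X.presheaf.stalk (hV.fromSpec q)) :=
        TopCat.Presheaf.algebra_section_stalk X.presheaf
          ⟨hV.fromSpec q, Groth.Agent.Lib.helper9.CohB.fromSpec_mem hV q⟩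
      haveI : IsLocalization.AtPrime (X.presheaf.stalk (hV.fromSpec q)) q.asIdeal :=
        hV.isLocalization_stalk' q (Groth.Agent.Lib.helper9.CohB.fromSpec_mem hV q)
      have h1 : algebraMap Γ(X, V) (X.presheaf.stalk (hV.fromSpec q)) a ∈
          IsLocalRing.maximalIdeal (X.presheaf.stalk (hV.fromSpec q)) :=
        (IsLocalization.AtPrime.to_map_mem_maximal_iff (X.presheaf.stalk (hV.fromSpec q))
          q.asIdeal a).mpr ha
      rw [hm, Ideal.mem_bot] at h1
      obtain ⟨t, ht⟩ := (IsLocalization.map_eq_zero_iff q.asIdeal.primeCompl _ a).mp h1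
      have h2 : (t : Γ(X, V)) * a ∈ qη.asIdeal := by rw [ht]; exact zero_mem _
      rcases qη.2.mem_or_mem h2 with h3 | h3
      · exact absurd (hqηle h3) t.2
      · exact h3
    have hxη : hV.fromSpec q ⤳ genericPoint ↥X := by
      rw [← hqη]
      exact (Groth.Agent.Lib.helper9.CohB.fromSpec_specializes_iff hV q qη).mpr hle
    exact (hxη.antisymm hηx).eq

end Groth.Agent.S8891
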