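import Groth.Statements.S8925

set_option autoImplicit false
universe u
open InjHull
open scoped TensorProduct

namespace Groth.Agent.S8925

/-- If S is a flat R-algebra and E is an injective S-module, then E, viewed as an R-module by
restriction of scalars, is an injective R-module. -/
theorem result (R S : Type u) [CommRing R] [CommRing S] [Algebra R S] [Module.Flat R S] (E : Type u) [AddCommGroup E] [Module S E] [Module R E] [IsScalarTower R S E] [Module.Injective S E] : Module.Injective R E := by
  constructor
  intro X Y _ _ _ _ f hf g
  -- base change
  let f' : S ⊗[R] X →ₗ[S] S ⊗[R] Y := f.baseChange S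
  have hf' : Function.Injective f' := by
    have := Module.Flat.lTensor_preserves_injective_linearMap (M := S) f hf
    exact this
  let g' : S ⊗[R] X →ₗ[S] E := LinearMap.liftBaseChange S g
  obtain ⟨h', hh'⟩ := Module.Injective.out (R := S) (Q := E) f' hf' g'
  refine ⟨(h'.restrictScalars R).comp (TensorProduct.mk R S Y 1), fun x => ?_⟩
  have := hh' (1 ⊗ₜ x)
  simpa [f', g'] using this

end Groth.Agent.S8925
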