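import Groth.Statements.S8927
import Mathlib.RingTheory.Flat.Basic
import Mathlib.RingTheory.Ideal.AssociatedPrime.Basic

set_option autoImplicit false
universe u
open Disc

namespace Groth.Agent.S8927

/-- For a map A → B of Noetherian rings such that the localization B_q is flat over A for every
associated prime q of B, every nonzerodivisor of A maps to a nonzerodivisor of B. -/
theorem result (A B : Type u) [CommRing A] [CommRing B] [IsNoetherianRing A] [IsNoetherianRing B] [Algebra A B] (h3 : ∀ (q : Ideal B) [q.IsPrime], IsAssociatedPrime q B → Module.Flat A (Localization.AtPrime q)) : nonZeroDivisors A ≤ (nonZeroDivisors B).comap (algebraMap A B) := by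
  intro a ha
  rw [Submonoid.mem_comap]
  by_contra hcon
  have hmem : algebraMap A B a ∈ ((nonZeroDivisors B : Set B))ᶜ := hcon
  rw [← biUnion_associatedPrimes_eq_compl_nonZeroDivisors B] at hmem
  obtain ⟨q, hq, haq⟩ := Set.mem_iUnion₂.mp hmem
  have hq' : IsAssociatedPrime q B := hq
  have : q.IsPrime := hq'.isPrime
  obtain ⟨_, y, hy⟩ := (isAssociatedPrime_iff).mp hq'
  have := h3 q hq'
  -- a is regular on A, hence on B_q
  have hreg : IsSMulRegular A a := by
    intro x z hxz
    simp only [smul_eq_mul] at hxz
    have h5 : a * (x - z) = 0 := by rw [mul_sub, hxz, sub_self]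
    exact sub_eq_zero.mp ((mem_nonZeroDivisors_iff_left.mp ha) _ h5)
  have hreg' : IsSMulRegular (Localization.AtPrime q)
      (algebraMap A (Localization.AtPrime q) a) := IsSMulRegular.of_flat hreg
  -- a • y = 0 in B
  have hay : algebraMap A B a * y = 0 := by
    have : algebraMap A B a ∈ Submodule.colon (⊥ : Submodule B B) {y} := hy ▸ haq
    rw [Submodule.mem_colon_singleton] at this
    simpa using this
  have h0 : (algebraMap A (Localization.AtPrime q) a) • (algebraMap B (Localization.AtPrime q) y)
      = (algebraMap A (Localization.AtPrime q) a) • (0 : Localization.AtPrime q) := by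
    rw [smul_zero, smul_eq_mul, IsScalarTower.algebraMap_apply A B (Localization.AtPrime q),
      ← map_mul, hay, map_zero]
  have h1 : algebraMap B (Localization.AtPrime q) y = 0 := hreg' h0
  rw [IsLocalization.map_eq_zero_iff q.primeCompl] at h1
  obtain ⟨⟨s, hs⟩, hsy⟩ := h1
  apply hs
  show s ∈ q
  rw [hy, Submodule.mem_colon_singleton]
  simpa using hsy

end Groth.Agent.S8927
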