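import Groth.Statements.S8928
import Mathlib
-- import your own Groth.Agent.* helpers here

set_option autoImplicit false
set_option linter.style.haveILetI false
universe u
open scoped TensorProduct
open Disc

namespace Groth.Agent.S8928

open scoped TensorProduct in
attribute [local instance] Algebra.TensorProduct.rightAlgebra in
theorem flat_atPrime_of_disjoint (A B : Type u) [CommRing A] [CommRing B] [Algebra A B]
    (h2 : Module.Flat (FractionRing A) (FractionRing A ⊗[A] B))
    (q : Ideal B) [q.IsPrime]
    (hq : Algebra.algebraMapSubmonoid B (nonZeroDivisors A) ≤ q.primeCompl) :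
    Module.Flat A (Localization.AtPrime q) := by
  let Q := FractionRing A
  let B' := Q ⊗[A] B
  let T := Algebra.algebraMapSubmonoid B (nonZeroDivisors A)
  haveI : IsLocalization T B' := IsLocalization.tensorRight (S := B) Q (nonZeroDivisors A)
  letI : Algebra B' (Localization.AtPrime q) :=
    IsLocalization.localizationAlgebraOfSubmonoidLe B' (Localization.AtPrime q) T q.primeCompl hq
  haveI : IsScalarTower B B' (Localization.AtPrime q) :=
    IsLocalization.localization_isScalarTower_of_submonoid_le B' (Localization.AtPrime q) T
      q.primeCompl hq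
  haveI : IsLocalization (q.primeCompl.map (algebraMap B B')) (Localization.AtPrime q) :=
    IsLocalization.isLocalization_of_submonoid_le B' (Localization.AtPrime q) T q.primeCompl hq
  haveI : Module.Flat B' (Localization.AtPrime q) :=
    IsLocalization.flat _ (q.primeCompl.map (algebraMap B B'))
  letI : Algebra Q (Localization.AtPrime q) :=
    ((algebraMap B' (Localization.AtPrime q)).comp (algebraMap Q B')).toAlgebra
  haveI : IsScalarTower Q B' (Localization.AtPrime q) :=
    IsScalarTower.of_algebraMap_eq (R := Q) (S := B') (A := Localization.AtPrime q) (fun _ => rfl)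
  haveI : Module.Flat Q (Localization.AtPrime q) := Module.Flat.trans Q B' _
  haveI : IsScalarTower A Q (Localization.AtPrime q) := by
    refine IsScalarTower.of_algebraMap_eq (fun a => ?_)
    rw [IsScalarTower.algebraMap_apply A B (Localization.AtPrime q),
      IsScalarTower.algebraMap_apply B B' (Localization.AtPrime q),
      IsScalarTower.algebraMap_apply Q B' (Localization.AtPrime q)]
    congr 1
    rw [Algebra.TensorProduct.algebraMap_apply]
    change (1 : Q) ⊗ₜ[A] (algebraMap A B a) = _
    rw [Algebra.algebraMap_self, RingHom.id_apply, Algebra.algebraMap_eq_smul_one a,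
      Algebra.algebraMap_eq_smul_one a, TensorProduct.smul_tmul]
  haveI : Module.Flat A Q := IsLocalization.flat Q (nonZeroDivisors A)
  exact Module.Flat.trans A Q _

/-- Let A → B be a map of Noetherian rings such that nonzerodivisors of A map to nonzerodivisors of B
and Q(A) ⊗_A B is flat over the total ring of fractions Q(A). Then B_q is flat over A for every
associated prime q of B and for every prime q of B lying over an associated prime of A. -/
theorem result (A B : Type u) [CommRing A] [CommRing B] [IsNoetherianRing A] [IsNoetherianRing B] [Algebra A B] (h1 : nonZeroDivisors A ≤ (nonZeroDivisors B).comap (algebraMap A B)) (h2 : Module.Flat (FractionRing A) (FractionRing A ⊗[A] B)) : (∀ (q : Ideal B) [q.IsPrime], IsAssociatedPrime q B → Module.Flat A (Localization.AtPrime q)) ∧ (∀ (q : Ideal B) [q.IsPrime], IsAssociatedPrime (q.comap (algebraMap A B)) A → Module.Flat A (Localization.AtPrime q)) := by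
  refine ⟨fun q _ hq => ?_, fun q _ hq => ?_⟩
  · apply flat_atPrime_of_disjoint A B h2 q
    rintro _ ⟨s, hs, rfl⟩
    intro hsq
    have hmem : algebraMap A B s ∈ ⋃ p ∈ associatedPrimes B B, (p : Set B) :=
      Set.mem_iUnion₂_of_mem (i := q) hq hsq
    rw [biUnion_associatedPrimes_eq_compl_nonZeroDivisors] at hmem
    exact hmem (h1 hs)
  · apply flat_atPrime_of_disjoint A B h2 q
    rintro _ ⟨s, hs, rfl⟩
    intro hsq
    have hmem : s ∈ ⋃ p ∈ associatedPrimes A A, (p : Set A) :=
      Set.mem_iUnion₂_of_mem (i := q.comap (algebraMap A B)) hq hsq
    rw [biUnion_associatedPrimes_eq_compl_nonZeroDivisors] at hmem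
    exact hmem hs

end Groth.Agent.S8928
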