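import Groth.Statements.S8929
import Mathlib
-- import your own Groth.Agent.* helpers here

set_option autoImplicit false
set_option linter.style.haveILetI false
universe u
open scoped TensorProduct
open Disc

namespace Groth.Agent.S8929

/-- Let A → B be a map of Noetherian rings with the going-up property. If B_q is flat over A for every
associated prime q of B and for every prime q of B lying over an associated prime of A, then Q(A)
⊗_A B is flat over the total ring of fractions Q(A). -/
theorem result (A B : Type u) [CommRing A] [CommRing B] [IsNoetherianRing A] [IsNoetherianRing B] [Algebra A B] [Algebra.HasGoingUp A B] (h3 : ∀ (q : Ideal B) [q.IsPrime], IsAssociatedPrime q B → Module.Flat A (Localization.AtPrime q)) (h4 : ∀ (q : Ideal B) [q.IsPrime], IsAssociatedPrime (q.comap (algebraMap A B)) A → Module.Flat A (Localization.AtPrime q)) : Module.Flat (FractionRing A) (FractionRing A ⊗[A] B) := by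
  classical
  let Q := FractionRing A
  let B' := Q ⊗[A] B
  letI : Algebra B B' := Algebra.TensorProduct.rightAlgebra
  let T := Algebra.algebraMapSubmonoid B (nonZeroDivisors A)
  haveI : IsLocalization T B' := IsLocalization.tensorRight (S := B) Q (nonZeroDivisors A)
  have hAB' : ∀ a : A, algebraMap A B' a = algebraMap B B' (algebraMap A B a) := by
    intro a
    change _ = (1 : Q) ⊗ₜ[A] (algebraMap A B a)
    rw [Algebra.TensorProduct.algebraMap_apply, Algebra.algebraMap_eq_smul_one a,
      Algebra.algebraMap_eq_smul_one a, TensorProduct.smul_tmul]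
  rw [Module.flat_iff_of_isLocalization Q (nonZeroDivisors A) B']
  refine Module.flat_of_isLocalized_maximal B' B' (fun P _ => Localization.AtPrime P)
    (fun P _ => Algebra.linearMap B' (Localization.AtPrime P)) ?_
  intro P hP
  let q : Ideal B := P.comap (algebraMap B B')
  haveI hqprime : q.IsPrime := Ideal.comap_isPrime _ _
  haveI : IsScalarTower B B' (Localization.AtPrime P) := inferInstance
  haveI : IsLocalization.AtPrime (Localization.AtPrime P) q :=
    IsLocalization.isLocalization_isLocalization_atPrime_isLocalization T (Localization.AtPrime P) P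
  haveI : IsScalarTower A B (Localization.AtPrime P) := by
    refine IsScalarTower.of_algebraMap_eq' (RingHom.ext fun a => ?_)
    rw [RingHom.comp_apply, IsScalarTower.algebraMap_apply A B' (Localization.AtPrime P),
      IsScalarTower.algebraMap_apply B B' (Localization.AtPrime P), hAB']
  -- key: q lies over an associated prime of A
  have hqT : Disjoint (T : Set B) (q : Set B) := by
    rw [Set.disjoint_left]
    intro t ht htq
    have hu : IsUnit (algebraMap B B' t) := IsLocalization.map_units B' ⟨t, ht⟩
    exact hP.ne_top (Ideal.eq_top_of_isUnit_mem _ htq hu)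
  have hass : IsAssociatedPrime (q.comap (algebraMap A B)) A := by
    set p : Ideal A := q.comap (algebraMap A B) with hp
    haveI : p.IsPrime := Ideal.comap_isPrime _ _
    have hsub : (p : Set A) ⊆ ⋃ i ∈ ((associatedPrimes.finite A A).toFinset : Set (Ideal A)),
        ((fun x : Ideal A => x) i : Set A) := by
      intro a ha
      have : a ∈ ((nonZeroDivisors A : Set A))ᶜ := by
        intro hnz
        exact Set.disjoint_left.mp hqT ⟨a, hnz, rfl⟩ ha
      rw [← biUnion_associatedPrimes_eq_compl_nonZeroDivisors] at this
      simpa using this
    rw [Ideal.subset_union_prime ⊥ ⊥] at hsub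
    swap
    · intro i hi _ _
      exact ((associatedPrimes.finite A A).mem_toFinset.mp hi).isPrime
    obtain ⟨p', hp', hle⟩ := hsub
    have hp'ass : IsAssociatedPrime p' A := (associatedPrimes.finite A A).mem_toFinset.mp hp'
    haveI : p'.IsPrime := hp'ass.isPrime
    haveI : q.LiesOver p := ⟨rfl⟩
    obtain ⟨Q', hqQ', hQ'prime, hQ'over⟩ := Ideal.exists_ideal_ge_liesOver_of_le (p := p) (q := p') q hle
    have hQ'T : Disjoint (T : Set B) (Q' : Set B) := by
      rw [Set.disjoint_left]
      rintro _ ⟨s, hs, rfl⟩ hsQ'
      have hsp' : s ∈ p' := by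
        rw [hQ'over.over]
        exact hsQ'
      have hmem : s ∈ ⋃ p ∈ associatedPrimes A A, (p : Set A) :=
        Set.mem_iUnion₂_of_mem (i := p') hp'ass hsp'
      rw [biUnion_associatedPrimes_eq_compl_nonZeroDivisors] at hmem
      exact hmem hs
    have hmapprime : (Q'.map (algebraMap B B')).IsPrime :=
      IsLocalization.isPrime_of_isPrime_disjoint T B' Q' hQ'prime hQ'T
    have hPle : P ≤ Q'.map (algebraMap B B') := by
      rw [← IsLocalization.map_under T B' P]
      exact Ideal.map_mono hqQ'
    have hPeq : P = Q'.map (algebraMap B B') := hP.eq_of_le hmapprime.ne_top hPle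
    have hqQ'eq : q = Q' := by
      change P.comap (algebraMap B B') = Q'
      rw [hPeq]
      exact IsLocalization.under_map_of_isPrime_disjoint T B' hQ'prime hQ'T
    rw [hp, hqQ'eq]
    have : Q'.comap (algebraMap A B) = p' := hQ'over.over.symm
    rw [this]
    exact hp'ass
  haveI : Module.Flat A (Localization.AtPrime q) := h4 q hass
  let e : Localization.AtPrime q ≃ₐ[B] Localization.AtPrime P :=
    IsLocalization.algEquiv q.primeCompl _ _
  exact Module.Flat.of_linearEquiv (e.restrictScalars A).toLinearEquiv.symm

end Groth.Agent.S8929
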