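import Groth.Statements.S8930
import Mathlib

set_option autoImplicit false
universe u
open AlgebraicGeometry
open Disc

namespace Groth.Agent.S8930
open AlgebraicGeometry CategoryTheory TensorProduct

section helpers




section OI
variable {B' C B : Type u} [CommRing B'] [CommRing C] [CommRing B] [Algebra B' C] [Algebra B' B]
  [Algebra C B] [IsScalarTower B' C B]

noncomputable def mu : C ⊗[B'] B →ₐ[B'] B :=
  Algebra.TensorProduct.productMap (IsScalarTower.toAlgHom B' C B) (AlgHom.id B' B)

theorem mu_tmul (c : C) (b : B) : mu (B' := B') (c ⊗ₜ[B'] b) = algebraMap C B c * b := by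
  simp [mu]

theorem mu_bij [Module.Flat B' B] [Algebra.IsEpi B' B]
    (hinj : Function.Injective (algebraMap C B)) : Function.Bijective (mu (B' := B') (C := C) (B := B)) := by
  constructor
  · have h1 : ∀ x : C ⊗[B'] B, mu (B' := B') x =
        TensorProduct.lift (LinearMap.mul B' B)
          (LinearMap.rTensor B (IsScalarTower.toAlgHom B' C B).toLinearMap x) := by
      intro x
      induction x using TensorProduct.induction_on with
      | zero => simp
      | tmul c b => simp [mu_tmul]
      | add x y hx hy => rw [map_add, map_add, map_add, hx, hy]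
    have h2 : Function.Injective (LinearMap.rTensor B (IsScalarTower.toAlgHom B' C B).toLinearMap) :=
      Module.Flat.rTensor_preserves_injective_linearMap _ hinj
    intro x y hxy
    rw [h1, h1] at hxy
    exact h2 (Algebra.IsEpi.injective_lift_mul hxy)
  · intro b
    exact ⟨1 ⊗ₜ b, by simp [mu_tmul]⟩

theorem OI (hinj : Function.Injective (algebraMap C B))
    (h : IsOpenImmersion (Spec.map (CommRingCat.ofHom (algebraMap B' B)))) :
    IsOpenImmersion (Spec.map (CommRingCat.ofHom (algebraMap C B))) := by
  have hflat : Module.Flat B' B := by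
    have : Flat (Spec.map (CommRingCat.ofHom (algebraMap B' B))) := inferInstance
    rw [Flat.SpecMap_iff] at this
    exact RingHom.flat_algebraMap_iff.1 this
  have hepi : Algebra.IsEpi B' B := by
    rw [← CommRingCat.epi_iff_epi]
    have hm : Mono (Spec.map (CommRingCat.ofHom (algebraMap B' B))) := inferInstance
    have hm' : Mono (Scheme.Spec.map (CommRingCat.ofHom (algebraMap B' B)).op) := hm
    have hm2 : Mono (CommRingCat.ofHom (algebraMap B' B)).op :=
      Functor.mono_of_mono_map Scheme.Spec hm'
    exact unop_epi_of_mono (CommRingCat.ofHom (algebraMap B' B)).op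
  let e : C ⊗[B'] B ≃+* B := RingEquiv.ofBijective (mu (B' := B') (C := C) (B := B)).toRingHom
    (mu_bij hinj)
  have hcomp : CommRingCat.ofHom (algebraMap C B) =
      CommRingCat.ofHom (Algebra.TensorProduct.includeLeftRingHom : C →+* C ⊗[B'] B) ≫
        CommRingCat.ofHom e.toRingHom := by
    ext c
    simp [e, mu_tmul]
  rw [hcomp, Spec.map_comp]
  have h1 : IsOpenImmersion (Spec.map (CommRingCat.ofHom
      (Algebra.TensorProduct.includeLeftRingHom : C →+* C ⊗[B'] B))) := by
    rw [← pullbackSpecIso_inv_fst]
    infer_instance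
  have h2 : IsIso (Spec.map (CommRingCat.ofHom e.toRingHom)) := by
    have : IsIso (CommRingCat.ofHom e.toRingHom) := (e.toCommRingCatIso).isIso_hom
    infer_instance
  infer_instance

end OI

theorem OI' {B' C B : Type u} [CommRing B'] [CommRing C] [CommRing B] (φ : B' →+* C) (ψ : C →+* B)
    (hψ : Function.Injective ψ)
    (h : IsOpenImmersion (Spec.map (CommRingCat.ofHom (ψ.comp φ)))) :
    IsOpenImmersion (Spec.map (CommRingCat.ofHom ψ)) := by
  letI := φ.toAlgebra
  letI := ψ.toAlgebra
  letI := (ψ.comp φ).toAlgebra
  haveI : IsScalarTower B' C B := IsScalarTower.of_algebraMap_eq (fun _ => rfl)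
  exact OI (B' := B') (C := C) (B := B) hψ h



end helpers

/-- Given two factorizations A → B' → B and A → B'' → B of a ring map with A → B' and A → B'' finite and
Spec(B) → Spec(B'), Spec(B) → Spec(B'') open immersions, there is an A-subalgebra C of B which is
finite over A, contains the images of B' and B'', and is such that Spec(B) → Spec(C) is an open
immersion. (Such an A → B is quasi-finite; that hypothesis of the published statement is implied by
the factorizations and is not repeated.) -/
theorem result (A B B' B'' : Type u) [CommRing A] [CommRing B] [CommRing B'] [CommRing B''] [Algebra A B] [Algebra A B'] [Algebra A B''] [Algebra B' B] [Algebra B'' B] [IsScalarTower A B' B] [IsScalarTower A B'' B] [Module.Finite A B'] [Module.Finite A B''] (h' : IsOpenImmersion (Spec.map (CommRingCat.ofHom (algebraMap B' B)))) (h'' : IsOpenImmersion (Spec.map (CommRingCat.ofHom (algebraMap B'' B)))) : ∃ C : Subalgebra A B, Module.Finite A C ∧ Set.range (algebraMap B' B) ⊆ (C : Set B) ∧ Set.range (algebraMap B'' B) ⊆ (C : Set B) ∧ IsOpenImmersion (Spec.map (CommRingCat.ofHom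 C.val.toRingHom)) := by
  let f' : B' →ₐ[A] B := IsScalarTower.toAlgHom A B' B
  let f'' : B'' →ₐ[A] B := IsScalarTower.toAlgHom A B'' B
  let p : B' ⊗[A] B'' →ₐ[A] B := Algebra.TensorProduct.productMap f' f''
  refine ⟨p.range, ?_, ?_, ?_, ?_⟩
  · exact Module.Finite.range p.toLinearMap
  · rintro _ ⟨b, rfl⟩
    exact ⟨b ⊗ₜ 1, by simp [p, f']⟩
  · rintro _ ⟨b, rfl⟩
    exact ⟨1 ⊗ₜ b, by simp [p, f'']⟩
  · let φ : B' →+* p.range :=
      { toFun := fun b => ⟨algebraMap B' B b, ⟨b ⊗ₜ 1, by simp [p, f']⟩⟩
        map_one' := Subtype.ext (map_one _)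
        map_mul' := fun x y => Subtype.ext (map_mul _ x y)
        map_zero' := Subtype.ext (map_zero _)
        map_add' := fun x y => Subtype.ext (map_add _ x y) }
    apply OI' φ p.range.val.toRingHom Subtype.val_injective
    exact h'

end Groth.Agent.S8930
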