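import Groth.Statements.S8931
import Mathlib
import Groth.Agent.Lib.helper27.Fitting

set_option autoImplicit false
universe u
open Disc

namespace Groth.Agent.S8931

theorem det_sub_mem {B : Type*} [CommRing B] {n : ℕ} (J : Matrix (Fin n) (Fin n) B)
    (σ e : Fin n → Fin n) :
    (Matrix.of fun a b => J (σ b) (e a)).det ∈ Ideal.span {J.det} := by
  classical
  by_cases hσ : Function.Injective σ
  · by_cases he : Function.Injective e
    · let σ' : Equiv.Perm (Fin n) := Equiv.ofBijective σ (Finite.injective_iff_bijective.mp hσ)
      let e' : Equiv.Perm (Fin n) := Equiv.ofBijective e (Finite.injective_iff_bijective.mp he)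
      have h : (Matrix.of fun a b => J (σ b) (e a)) = ((J.submatrix σ' id).submatrix id e').transpose := by
        ext a b
        rfl
      rw [h, Matrix.det_transpose, Matrix.det_permute', Matrix.det_permute]
      apply Ideal.mul_mem_left
      apply Ideal.mul_mem_left
      exact Ideal.subset_span rfl
    · have : ∃ a a', e a = e a' ∧ a ≠ a' := by
        by_contra hcon
        push_neg at hcon
        exact he fun a a' h => hcon a a' h
      obtain ⟨a, a', heq, hne⟩ := this
      have h0 : (Matrix.of fun a b => J (σ b) (e a)).det = 0 :=
        Matrix.det_zero_of_row_eq hne (by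
          ext b
          change J (σ b) (e a) = J (σ b) (e a')
          rw [heq])
      rw [h0]
      exact Ideal.zero_mem _
  · have : ∃ b b', σ b = σ b' ∧ b ≠ b' := by
      by_contra hcon
      push_neg at hcon
      exact hσ fun a a' h => hcon a a' h
    obtain ⟨b, b', heq, hne⟩ := this
    have h0 : (Matrix.of fun a b => J (σ b) (e a)).det = 0 :=
      Matrix.det_zero_of_column_eq hne (by
        intro a
        change J (σ b) (e a) = J (σ b') (e a)
        rw [heq])
    rw [h0]
    exact Ideal.zero_mem _

/-- For a ring A, n ≥ 1 and f_1, …, f_n in A[x_1, …, x_n], with B = A[x_1, …, x_n]/(f_1, …, f_n), the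
zeroth Fitting ideal of Ω_{B/A} (the Kähler different of B over A) is generated by the image in B of
the Jacobian determinant det(∂f_i/∂x_j). -/
theorem result (A : Type u) [CommRing A] (n : ℕ) (hn : 1 ≤ n) (f : Fin n → MvPolynomial (Fin n) A) : Fitt.ideal (MvPolynomial (Fin n) A ⧸ Ideal.span (Set.range f)) (KaehlerDifferential A (MvPolynomial (Fin n) A ⧸ Ideal.span (Set.range f))) 0 = Ideal.span {Ideal.Quotient.mk (Ideal.span (Set.range f)) (Matrix.det (Matrix.of fun i j : Fin n => MvPolynomial.pderiv j (f i)))} := by
  classical
  let pres : Algebra.Presentation A (MvPolynomial (Fin n) A ⧸ Ideal.span (Set.range f)) (Fin n) (Fin n) :=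
    Algebra.Presentation.naive (v := f)
  have hpres := pres.differentialsSolution_isPresentation
  let x : Fin n → KaehlerDifferential A (MvPolynomial (Fin n) A ⧸ Ideal.span (Set.range f)) :=
    pres.differentialsSolution.var
  have hx : Submodule.span (MvPolynomial (Fin n) A ⧸ Ideal.span (Set.range f)) (Set.range x) = ⊤ :=
    (Module.Relations.Solution.surjective_π_iff_span_eq_top _).mp hpres.surjective_π
  rw [Groth.Agent.Lib.helper27.Fitting.ideal_eq_minors x hx 0, Nat.sub_zero]
  let Jb : Matrix (Fin n) (Fin n) (MvPolynomial (Fin n) A ⧸ Ideal.span (Set.range f)) :=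
    Matrix.of fun i j => Ideal.Quotient.mk _ (MvPolynomial.pderiv j (f i))
  have hdet : Ideal.Quotient.mk (Ideal.span (Set.range f))
      (Matrix.det (Matrix.of fun i j : Fin n => MvPolynomial.pderiv j (f i))) = Jb.det := by
    rw [RingHom.map_det]
    rfl
  let G : Set (Fin n → (MvPolynomial (Fin n) A ⧸ Ideal.span (Set.range f))) :=
    Set.range (fun i : Fin n => Jb i)
  have hrel : ∀ i j, (pres.differentialsRelations.relation i) j = Jb i j := by
    intro i j
    change algebraMap (MvPolynomial (Fin n) A) (MvPolynomial (Fin n) A ⧸ Ideal.span (Set.range f))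
      (((KaehlerDifferential.mvPolynomialBasis A (Fin n)).repr
        (KaehlerDifferential.D A (MvPolynomial (Fin n) A) (f i))) j) = _
    rw [KaehlerDifferential.mvPolynomialBasis_repr_apply]
    rfl
  have hG : Submodule.span _ G = LinearMap.ker (Fintype.linearCombination
      (MvPolynomial (Fin n) A ⧸ Ideal.span (Set.range f)) x) := by
    have hGmap : Submodule.span (MvPolynomial (Fin n) A ⧸ Ideal.span (Set.range f)) G =
        (Submodule.span _ (Set.range pres.differentialsRelations.relation)).map
          (Finsupp.linearEquivFunOnFinite (MvPolynomial (Fin n) A ⧸ Ideal.span (Set.range f))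
            (MvPolynomial (Fin n) A ⧸ Ideal.span (Set.range f)) (Fin n)).toLinearMap := by
      have hGimg : G = (Finsupp.linearEquivFunOnFinite (MvPolynomial (Fin n) A ⧸ Ideal.span (Set.range f))
            (MvPolynomial (Fin n) A ⧸ Ideal.span (Set.range f)) (Fin n)).toLinearMap ''
            (Set.range pres.differentialsRelations.relation) := by
        rw [← Set.range_comp]
        change Set.range (fun i : Fin n => Jb i) = _
        apply congrArg Set.range
        funext i
        funext j
        exact (hrel i j).symm
      rw [hGimg, Submodule.span_image]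
      rfl
    ext z
    rw [hGmap, Submodule.mem_map_equiv]
    have hk := hpres.ker_π
    constructor
    · intro hz
      have h1 : ((Finsupp.linearEquivFunOnFinite (MvPolynomial (Fin n) A ⧸ Ideal.span (Set.range f))
            (MvPolynomial (Fin n) A ⧸ Ideal.span (Set.range f)) (Fin n)).symm z) ∈
          LinearMap.ker pres.differentialsSolution.π := by
        rw [hk]
        exact hz
      rw [LinearMap.mem_ker, ← Finsupp.linearCombination_eq_fintype_linearCombination_apply]
      exact h1
    · intro hz
      rw [LinearMap.mem_ker, ← Finsupp.linearCombination_eq_fintype_linearCombination_apply] at hz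
      have h1 : ((Finsupp.linearEquivFunOnFinite (MvPolynomial (Fin n) A ⧸ Ideal.span (Set.range f))
            (MvPolynomial (Fin n) A ⧸ Ideal.span (Set.range f)) (Fin n)).symm z) ∈
          LinearMap.ker pres.differentialsSolution.π := hz
      rw [hk] at h1
      exact h1
  rw [Groth.Agent.Lib.helper27.Fitting.minors_eq_span_of_span_eq x n G hG, hdet]
  apply le_antisymm
  · apply Ideal.span_le.2
    rintro d ⟨z, e, hz, rfl⟩
    choose σ hσ using hz
    have : (Matrix.of fun a b => z b (e a)) = Matrix.of fun a b => Jb (σ b) (e a) := by
      ext a b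
      simp only [Matrix.of_apply]
      rw [← hσ b]
    rw [this]
    exact det_sub_mem Jb σ e
  · apply Ideal.span_le.2
    rintro d hd
    rw [Set.mem_singleton_iff] at hd
    subst hd
    apply Ideal.subset_span
    refine ⟨fun b => Jb b, id, fun j => ⟨j, rfl⟩, ?_⟩
    rw [← Matrix.det_transpose]
    rfl

end Groth.Agent.S8931
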