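import Groth.Statements.S8958
import Mathlib

set_option autoImplicit false
universe u
open TensorProduct
open QFDual

namespace Groth.Agent.S8958

section Aux
open TensorProduct

/-- `toDual` is a base change for finitely presented source and flat extension. -/
theorem isBaseChange_toDual {R S M P : Type*} [CommRing R] [CommRing S] [Algebra R S]
    [Module.Flat R S] [AddCommGroup M] [Module R M] [Module.FinitePresentation R M]
    [AddCommGroup P] [Module R P] [Module S P] [IsScalarTower R S P]
    {α : M →ₗ[R] P} (j : IsBaseChange S α) : IsBaseChange S (j.toDual) := by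
  have ibc0 := Module.FinitePresentation.isBaseChange_map R M R S
  let e2 : (S ⊗[R] M →ₗ[S] S ⊗[R] R) ≃ₗ[S] (P →ₗ[S] S) :=
    LinearEquiv.arrowCongr j.equiv (AlgebraTensorModule.rid R S S)
  refine IsBaseChange.of_equiv (ibc0.equiv ≪≫ₗ e2) (fun f => ?_)
  rw [LinearEquiv.trans_apply, ibc0.equiv_tmul, one_smul]
  apply j.algHom_ext
  intro m
  rw [IsBaseChange.toDual_comp_apply]
  simp [e2, LinearEquiv.arrowCongr_apply, IsBaseChange.equiv_symm_apply, Algebra.algebraMap_eq_smul_one]

theorem isBaseChange_of_pushout (R S T T' N N₁ : Type*) [CommRing R] [CommRing S] [CommRing T]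
    [CommRing T'] [Algebra R S] [Algebra R T] [Algebra T T'] [Algebra S T'] [Algebra R T']
    [IsScalarTower R S T'] [IsScalarTower R T T'] [Algebra.IsPushout R S T T']
    [AddCommGroup N] [Module T N] [Module R N] [IsScalarTower R T N]
    [AddCommGroup N₁] [Module T' N₁] [Module S N₁] [IsScalarTower S T' N₁] [Module R N₁]
    [IsScalarTower R S N₁] [Module T N₁] [IsScalarTower T T' N₁]
    (β : N →ₗ[T] N₁) (βR : N →ₗ[R] N₁) (hβ : ∀ n, βR n = β n) (ibc : IsBaseChange S βR) :
    IsBaseChange T' β := by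
  let γ : T' ⊗[T] N →ₗ[T'] N₁ := LinearMap.liftBaseChange T' β
  let cbc := Algebra.IsPushout.cancelBaseChange R S T T' N
  have h1 : ∀ x : S ⊗[R] N, γ (cbc.symm x) = ibc.equiv x := by
    intro x
    induction x using TensorProduct.induction_on with
    | zero => simp
    | add x y hx hy => rw [map_add, map_add, map_add, hx, hy]
    | tmul s n =>
      rw [Algebra.IsPushout.cancelBaseChange_symm_tmul, LinearMap.liftBaseChange_tmul,
        ibc.equiv_tmul, hβ, algebraMap_smul]
  have h2 : ∀ y, γ y = ibc.equiv (cbc y) := by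
    intro y
    rw [← h1, LinearEquiv.symm_apply_apply]
  have hγ : Function.Bijective γ := by
    have : (γ : T' ⊗[T] N → N₁) = ibc.equiv ∘ cbc := funext h2
    rw [this]
    exact ibc.equiv.bijective.comp cbc.bijective
  refine IsBaseChange.of_equiv (LinearEquiv.ofBijective γ hγ) (fun x => ?_)
  rw [LinearEquiv.ofBijective_apply, LinearMap.liftBaseChange_tmul, one_smul]

theorem main (A B' A₁ B'₁ B₁ : Type u) [CommRing A] [CommRing B'] [CommRing A₁] [CommRing B'₁]
    [CommRing B₁] [IsNoetherianRing A] [IsNoetherianRing A₁] [Algebra A B'] [Module.Finite A B']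
    [Algebra A A₁] [Module.Flat A A₁] [Algebra B' B'₁] [Algebra A₁ B'₁] [Algebra A B'₁]
    [IsScalarTower A A₁ B'₁] [IsScalarTower A B' B'₁] (h : Algebra.IsPushout A A₁ B' B'₁)
    [Algebra B'₁ B₁] [Algebra B' B₁] [IsScalarTower B' B'₁ B₁] :
    Function.Bijective (QFDual.omegaBC (B₁ := B₁) h) := by
  classical
  haveI : Module.FinitePresentation A B' := Module.finitePresentation_of_finite A B'
  -- module structures
  letI mAM : Module A (Disc.Omega A B') := Module.compHom (Disc.Omega A B') (algebraMap A B')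
  haveI : IsScalarTower A B' (Disc.Omega A B') := IsScalarTower.of_algebraMap_smul fun r x => rfl
  letI mA₁M₁ : Module A₁ (Disc.Omega A₁ B'₁) :=
    Module.compHom (Disc.Omega A₁ B'₁) (algebraMap A₁ B'₁)
  haveI : IsScalarTower A₁ B'₁ (Disc.Omega A₁ B'₁) :=
    IsScalarTower.of_algebraMap_smul fun r x => rfl
  letI mB'M₁ : Module B' (Disc.Omega A₁ B'₁) :=
    Module.compHom (Disc.Omega A₁ B'₁) (algebraMap B' B'₁)
  haveI : IsScalarTower B' B'₁ (Disc.Omega A₁ B'₁) :=
    IsScalarTower.of_algebraMap_smul fun r x => rfl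
  letI mAM₁ : Module A (Disc.Omega A₁ B'₁) :=
    Module.compHom (Disc.Omega A₁ B'₁) (algebraMap A B'₁)
  haveI : IsScalarTower A A₁ (Disc.Omega A₁ B'₁) :=
    IsScalarTower.of_algebraMap_smul fun r x => by
      show algebraMap A₁ B'₁ (algebraMap A A₁ r) • x = algebraMap A B'₁ r • x
      rw [← IsScalarTower.algebraMap_apply]
  -- the maps
  let β : Disc.Omega A B' →ₗ[B'] Disc.Omega A₁ B'₁ :=
    { toFun := QFDual.bcFin h
      map_add' := fun x y => map_add _ x y
      map_smul' := fun b x => by
        rw [LinearMap.map_smulₛₗ, RingHom.id_apply]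
        rfl }
  let βR : Disc.Omega A B' →ₗ[A] Disc.Omega A₁ B'₁ :=
    { toFun := QFDual.bcFin h
      map_add' := fun x y => map_add _ x y
      map_smul' := fun a x => by
        show QFDual.bcFin h (algebraMap A B' a • x) = algebraMap A B'₁ a • QFDual.bcFin h x
        rw [LinearMap.map_smulₛₗ, ← IsScalarTower.algebraMap_apply] }
  -- wrappers
  let wrap : Disc.Omega A B' ≃ₗ[A] (B' →ₗ[A] A) :=
    { toFun := fun φ => φ.toLinearMap
      invFun := fun f => ⟨f⟩
      left_inv := fun φ => rfl
      right_inv := fun f => rfl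
      map_add' := fun x y => rfl
      map_smul' := fun a x => by
        ext b
        show x.toLinearMap (algebraMap A B' a * b) = a • x.toLinearMap b
        rw [← Algebra.smul_def, map_smul] }
  let wrap₁ : Disc.Omega A₁ B'₁ ≃ₗ[A₁] (B'₁ →ₗ[A₁] A₁) :=
    { toFun := fun φ => φ.toLinearMap
      invFun := fun f => ⟨f⟩
      left_inv := fun φ => rfl
      right_inv := fun f => rfl
      map_add' := fun x y => rfl
      map_smul' := fun a x => by
        ext b
        show x.toLinearMap (algebraMap A₁ B'₁ a * b) = a • x.toLinearMap b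
        rw [← Algebra.smul_def, map_smul] }
  have ibcD : IsBaseChange A₁ h.out.toDual := isBaseChange_toDual h.out
  have ibc : IsBaseChange A₁ βR := by
    refine IsBaseChange.of_equiv
      ((LinearEquiv.baseChange A A₁ _ _ wrap) ≪≫ₗ ibcD.equiv ≪≫ₗ wrap₁.symm) (fun x => ?_)
    simp only [LinearEquiv.trans_apply, LinearEquiv.baseChange_tmul, ibcD.equiv_tmul, one_smul]
    rfl
  haveI := h
  have ibcT : IsBaseChange B'₁ β :=
    isBaseChange_of_pushout A A₁ B' B'₁ _ _ β βR (fun n => rfl) ibc
  let te := ibcT.tensorEquiv B₁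
  have hleft : ∀ x, te (QFDual.omegaBC (B₁ := B₁) h x) = x := by
    intro x
    induction x using TensorProduct.induction_on with
    | zero => simp
    | add x y hx hy => rw [map_add, map_add, hx, hy]
    | tmul b φ =>
      rw [QFDual.omegaBC_tmul]
      show (AlgebraTensorModule.cancelBaseChange B' B'₁ B'₁ B₁ (Disc.Omega A B'))
        ((LinearEquiv.lTensor B₁ ibcT.equiv.symm) (b ⊗ₜ[B'₁] β φ)) = _
      rw [LinearEquiv.lTensor_tmul, ibcT.equiv_symm_apply,
        AlgebraTensorModule.cancelBaseChange_tmul, one_smul]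
  constructor
  · intro x y hxy
    rw [← hleft x, ← hleft y, hxy]
  · intro y
    refine ⟨te y, ?_⟩
    apply te.injective
    rw [hleft]

end Aux

/-- Flat base change of the relative dualizing module. Let A be a Noetherian ring, A → B' a finite ring
map, A → A₁ a flat ring map with A₁ Noetherian, and B'₁ a ring making A → A₁, B' → B'₁ a cocartesian
square (so B'₁ = B' ⊗_A A₁). For every B'₁-algebra B₁ the base-change map B₁ ⊗_{B'} Hom_A(B', A) →
B₁ ⊗_{B'₁} Hom_{A₁}(B'₁, A₁), sending b₁ ⊗ φ to b₁ ⊗ φ₁ where φ₁(b' a₁) = φ(b') a₁, is bijective.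
(The published statement is the case in which A → B' → B, with Spec B → Spec B' an open immersion,
computes the relative dualizing module ω_{B/A} of a quasi-finite map A → B and B₁ = B ⊗_A A₁, where
the map reads ω_{B/A} ⊗_B B₁ → ω_{B₁/A₁}; the version for an arbitrary B'₁-algebra B₁ is what the
printed argument gives, and with A₁ = A_f, B₁ = B it also yields ω_{B/A} = ω_{B/A_f} when A → B
factors through A_f.) -/
theorem result (A B' A₁ B'₁ B₁ : Type u) [CommRing A] [CommRing B'] [CommRing A₁] [CommRing B'₁] [CommRing B₁] [IsNoetherianRing A] [IsNoetherianRing A₁] [Algebra A B'] [Module.Finite A B'] [Algebra A A₁] [Module.Flat A A₁] [Algebra B' B'₁] [Algebra A₁ B'₁] [Algebra A B'₁] [IsScalarTower A A₁ B'₁] [IsScalarTower A B' B'₁] (h : Algebra.IsPushout A A₁ B' B'₁) [Algebra B'₁ B₁] [Algebra B' B₁] [IsScalarTower B' B'₁ B₁] : Function.Bijective (QFDual.omegaBC (B₁ := B₁) h) := by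
  exact main A B' A₁ B'₁ B₁ h

end Groth.Agent.S8958
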