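import Groth.Statements.S8960
import Mathlib

set_option autoImplicit false
universe u
open QFDual

namespace Groth.Agent.S8960

section Aux
open TensorProduct

theorem trace_eq_sum {K L : Type*} [CommRing K] [CommRing L] [Algebra K L] [Module.Free K L]
    [Module.Finite K L] {ι : Type*} [Fintype ι] (Φ : ι → (L →ₗ[K] K)) (y : ι → L)
    (hrep : ∀ l, l = ∑ j, Φ j l • y j) (b : L) :
    Algebra.trace K L b = ∑ j, Φ j (b * y j) := by
  classical
  have h1 : Algebra.lmul K L b = ∑ j, dualTensorHom K L L (Φ j ⊗ₜ[K] (b * y j)) := by
    ext l
    simp only [LinearMap.sum_apply, dualTensorHom_apply, Algebra.lmul_algebraMap, Algebra.coe_lmul_eq_mul, LinearMap.mul_apply']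
    conv_lhs => rw [hrep l]
    rw [Finset.mul_sum]
    refine Finset.sum_congr rfl fun j _ => ?_
    rw [mul_smul_comm]
  rw [Algebra.trace_apply, h1, map_sum]
  refine Finset.sum_congr rfl fun j _ => ?_
  rw [LinearMap.trace_eq_contract_apply, contractLeft_apply]

theorem main (A K B L : Type u) [CommRing A] [CommRing K] [CommRing B] [CommRing L] [Algebra A K]
    [Algebra A B] [Algebra B L] [Algebra K L] [Algebra A L] [IsScalarTower A K L]
    [IsScalarTower A B L] (h : QFDual.IsDedekindDefined A K B L) [Module.Flat A B] :
    (1 : L) ∈ QFDual.complementary A K B L := by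
  classical
  haveI := h.isFractionRing
  haveI := h.isLocalization
  haveI := h.isNoetherianRing
  haveI := h.finite
  haveI := h.free
  haveI := h.finiteKL
  haveI : Module.FinitePresentation A B := Module.finitePresentation_of_finite A B
  haveI : Module.Projective A B := Module.Flat.projective_of_finitePresentation
  obtain ⟨n, p, i, hp, hi, hpi⟩ := Module.Finite.exists_comp_eq_id_of_projective A B
  set S := nonZeroDivisors A with hS
  let fB : B →ₗ[A] L := (IsScalarTower.toAlgHom A B L).toLinearMap
  let fA : A →ₗ[A] K := Algebra.linearMap A K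
  haveI : IsLocalizedModule S fB := inferInstance
  haveI : IsLocalizedModule S fA := inferInstance
  let x : Fin n → B := fun j => p (Pi.single j 1)
  let φ : Fin n → (B →ₗ[A] A) := fun j => (LinearMap.proj j) ∘ₗ i
  let Φ : Fin n → (L →ₗ[K] K) := fun j => IsLocalizedModule.mapExtendScalars S fB fA K (φ j)
  have hΦ : ∀ j b, Φ j (algebraMap B L b) = algebraMap A K (φ j b) := by
    intro j b
    have := IsLocalizedModule.map_apply S fB fA (φ j) b
    simpa [Φ, fB, fA, IsLocalizedModule.mapExtendScalars_apply_apply] using this
  have hx : ∀ b : B, b = ∑ j, φ j b • x j := by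
    intro b
    have h1 : p (i b) = b := by
      have := LinearMap.congr_fun hpi b
      simpa using this
    conv_lhs => rw [← h1]
    have h2 : i b = ∑ j, (i b j) • (Pi.single j (1 : A) : Fin n → A) := by
      ext k
      simp [Finset.sum_apply, Pi.single_apply]
    conv_lhs => rw [h2]
    rw [map_sum]
    refine Finset.sum_congr rfl fun j _ => ?_
    rw [map_smul]
    rfl
  have hrep : ∀ l : L, l = ∑ j, Φ j l • algebraMap B L (x j) := by
    intro l
    have key : (LinearMap.id : L →ₗ[A] L) =
        ∑ j, ((LinearMap.toSpanSingleton K L (algebraMap B L (x j))).restrictScalars A) ∘ₗ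
          ((Φ j).restrictScalars A) := by
      apply IsLocalizedModule.linearMap_ext S fB fB
      ext b
      simp only [LinearMap.comp_apply, LinearMap.id_apply, LinearMap.sum_apply,
        LinearMap.restrictScalars_apply, LinearMap.toSpanSingleton_apply]
      have hfb : fB b = algebraMap B L b := rfl
      rw [hfb]
      conv_lhs => rw [hx b]
      rw [map_sum]
      refine Finset.sum_congr rfl fun j _ => ?_
      rw [hΦ, algebraMap_smul, Algebra.smul_def, map_mul, ← IsScalarTower.algebraMap_apply,
        Algebra.smul_def]
    have := LinearMap.congr_fun key l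
    simpa using this
  intro b
  rw [one_mul, trace_eq_sum Φ (fun j => algebraMap B L (x j)) hrep]
  refine Subring.sum_mem _ fun j _ => ?_
  rw [← map_mul, hΦ]
  exact ⟨_, rfl⟩

end Aux

/-- Suppose the Dedekind different of A → B is defined: A is Noetherian, B is a finite A-algebra,
nonzerodivisors of A are nonzerodivisors on B, and with K = Q(A) the total ring of fractions and L =
B ⊗_A K the map K → L is étale (here with L finite free over K). If A → B is flat, then
Trace_{L/K}(b) lies in A for every b ∈ B; equivalently 1 ∈ 𝓛_{B/A}, the Dedekind complementary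
module. -/
theorem result (A K B L : Type u) [CommRing A] [CommRing K] [CommRing B] [CommRing L] [Algebra A K] [Algebra A B] [Algebra B L] [Algebra K L] [Algebra A L] [IsScalarTower A K L] [IsScalarTower A B L] (h : QFDual.IsDedekindDefined A K B L) [Module.Flat A B] : (1 : L) ∈ QFDual.complementary A K B L := by
  exact main A K B L h

end Groth.Agent.S8960
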