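import Groth.Statements.S8961
import Mathlib

set_option autoImplicit false
universe u
open QFDual

namespace Groth.Agent.S8961

section Aux
open Polynomial

theorem isIntegral_trace_matrix {R Ω : Type*} [CommRing R] [Field Ω] [IsAlgClosed Ω] [Algebra R Ω]
    {n : Type*} [Fintype n] [DecidableEq n] (N : Matrix n n Ω) (p : R[X]) (hp : p.Monic)
    (hN : aeval N (p.map (algebraMap R Ω)) = 0) : IsIntegral R N.trace := by
  rw [Matrix.trace_eq_sum_roots_charpoly]
  apply IsIntegral.multiset_sum
  intro μ hμ
  have hroot : N.charpoly.IsRoot μ := (Polynomial.mem_roots (N.charpoly_monic.ne_zero)).1 hμ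
  have hsp : μ ∈ spectrum Ω N := Matrix.mem_spectrum_of_isRoot_charpoly hroot
  rcases subsingleton_or_nontrivial (Matrix n n Ω) with hsub | hnt
  · rw [spectrum.of_subsingleton] at hsp
    exact hsp.elim
  have h1 := spectrum.subset_polynomial_aeval N (p.map (algebraMap R Ω)) ⟨μ, hsp, rfl⟩
  rw [hN, spectrum.zero_eq] at h1
  refine ⟨p, hp, ?_⟩
  rw [← Polynomial.eval_map]
  exact h1

theorem aeval_mapMatrix {K Ω : Type*} [CommRing K] [CommRing Ω] (ψ : K →+* Ω)
    {n : Type*} [Fintype n] [DecidableEq n] (M : Matrix n n K) (q : K[X]) :
    aeval (ψ.mapMatrix M) (q.map ψ) = ψ.mapMatrix (aeval M q) := by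
  rw [aeval_def, aeval_def, Polynomial.eval₂_map, Polynomial.hom_eval₂]
  congr 1
  ext k i j
  by_cases hij : i = j
  · simp [Matrix.algebraMap_eq_diagonal, Matrix.diagonal_apply, hij]
  · simp [Matrix.algebraMap_eq_diagonal, Matrix.diagonal_apply, hij]

theorem main (A K B L : Type u) [CommRing A] [CommRing K] [CommRing B] [CommRing L] [Algebra A K]
    [Algebra A B] [Algebra B L] [Algebra K L] [Algebra A L] [IsScalarTower A K L]
    [IsScalarTower A B L] (h : QFDual.IsDedekindDefined A K B L) (hA : EGA4.IsNormalRing A) :
    (1 : L) ∈ QFDual.complementary A K B L := by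
  classical
  haveI := h.isFractionRing
  haveI := h.isLocalization
  haveI := h.finite
  haveI := h.free
  haveI := h.finiteKL
  intro b
  rw [one_mul]
  obtain ⟨p, hpm, hpb⟩ := Algebra.IsIntegral.isIntegral (R := A) b
  let bas := Module.Free.chooseBasis K L
  let M : Matrix _ _ K := Algebra.leftMulMatrix bas (algebraMap B L b)
  have htM : Algebra.trace K L (algebraMap B L b) = M.trace := Algebra.trace_eq_matrix_trace bas _
  have hpM : aeval M (p.map (algebraMap A K)) = 0 := by
    have h1 : aeval (algebraMap B L b) (p.map (algebraMap A K)) = 0 := by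
      rw [aeval_def, Polynomial.eval₂_map, ← IsScalarTower.algebraMap_eq A K L,
        IsScalarTower.algebraMap_eq A B L, ← Polynomial.hom_eval₂, hpb, map_zero]
    show aeval (Algebra.leftMulMatrix bas (algebraMap B L b)) (p.map (algebraMap A K)) = 0
    rw [Polynomial.aeval_algHom_apply, h1, map_zero]
  set t := Algebra.trace K L (algebraMap B L b) with ht
  obtain ⟨⟨a, s⟩, hs⟩ := IsLocalization.surj (nonZeroDivisors A) t
  simp only at hs
  suffices hmem : a ∈ Ideal.span {(s : A)} by
    obtain ⟨c, hc⟩ := Ideal.mem_span_singleton'.1 hmem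
    refine ⟨c, ?_⟩
    have hu : IsUnit (algebraMap A K s) := IsLocalization.map_units K s
    apply hu.mul_left_injective
    show algebraMap A K c * algebraMap A K s = t * algebraMap A K s
    rw [hs, ← map_mul, hc]
  apply Ideal.mem_of_localization_maximal
  intro P hP
  haveI : P.IsPrime := hP.isPrime
  obtain ⟨hdom, hic⟩ := hA P
  have hinjF : Function.Injective (algebraMap (Localization.AtPrime P)
      (FractionRing (Localization.AtPrime P))) := IsFractionRing.injective _ _
  let ι : A →+* FractionRing (Localization.AtPrime P) :=
    (algebraMap (Localization.AtPrime P) (FractionRing (Localization.AtPrime P))).comp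
      (algebraMap A (Localization.AtPrime P))
  have hι : ∀ s' : nonZeroDivisors A, IsUnit (ι s') := by
    intro s'
    rw [isUnit_iff_ne_zero]
    intro h0
    have h1 : algebraMap A (Localization.AtPrime P) s' = 0 := hinjF (by rw [map_zero]; exact h0)
    obtain ⟨u, hu⟩ := (IsLocalization.map_eq_zero_iff P.primeCompl (Localization.AtPrime P) _).1 h1
    have h2 : (u : A) = 0 := (mem_nonZeroDivisors_iff.1 s'.2).2 _ hu
    exact u.2 (by rw [h2]; exact P.zero_mem)
  let ψF : K →+* FractionRing (Localization.AtPrime P) := IsLocalization.lift hι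
  have hψF : ∀ x, ψF (algebraMap A K x) = ι x := IsLocalization.lift_eq hι
  let ψ : K →+* AlgebraicClosure (FractionRing (Localization.AtPrime P)) :=
    (algebraMap _ _).comp ψF
  -- integrality
  have hint : IsIntegral (Localization.AtPrime P) (ψ t) := by
    have h1 : ψ t = (ψ.mapMatrix M).trace := by
      rw [htM]
      simp [Matrix.trace, RingHom.mapMatrix_apply, Matrix.map_apply, map_sum]
    rw [h1]
    apply isIntegral_trace_matrix _ (p.map (algebraMap A (Localization.AtPrime P))) (hpm.map _)
    have h2 : (p.map (algebraMap A (Localization.AtPrime P))).map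
        (algebraMap (Localization.AtPrime P)
          (AlgebraicClosure (FractionRing (Localization.AtPrime P)))) =
        (p.map (algebraMap A K)).map ψ := by
      rw [Polynomial.map_map, Polynomial.map_map]
      congr 1
      ext x
      simp only [RingHom.comp_apply, ψ, hψF, ι]
      rw [IsScalarTower.algebraMap_apply (Localization.AtPrime P)
        (FractionRing (Localization.AtPrime P))
        (AlgebraicClosure (FractionRing (Localization.AtPrime P)))]
    rw [h2, aeval_mapMatrix, hpM, map_zero]
  have hintF : IsIntegral (Localization.AtPrime P) (ψF t) :=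
    (isIntegral_algebraMap_iff (algebraMap (FractionRing (Localization.AtPrime P))
      (AlgebraicClosure (FractionRing (Localization.AtPrime P)))).injective).1 hint
  obtain ⟨y, hy⟩ := IsIntegrallyClosed.isIntegral_iff.1 hintF
  have h3 : y * algebraMap A (Localization.AtPrime P) s = algebraMap A (Localization.AtPrime P) a := by
    apply hinjF
    rw [map_mul, hy]
    have := congrArg ψF hs
    rw [map_mul, hψF, hψF] at this
    exact this
  rw [Ideal.map_span, Set.image_singleton, Ideal.mem_span_singleton']
  exact ⟨y, h3⟩

end Aux

/-- Suppose the Dedekind different of A → B is defined: A is Noetherian, B is a finite A-algebra,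
nonzerodivisors of A are nonzerodivisors on B, and with K = Q(A) and L = B ⊗_A K the map K → L is
étale (here with L finite free over K). If A is a normal ring, i.e. every localization A_p at a
prime is an integrally closed domain, then Trace_{L/K}(b) lies in A for every b ∈ B; equivalently 1
∈ 𝓛_{B/A}. -/
theorem result (A K B L : Type u) [CommRing A] [CommRing K] [CommRing B] [CommRing L] [Algebra A K] [Algebra A B] [Algebra B L] [Algebra K L] [Algebra A L] [IsScalarTower A K L] [IsScalarTower A B L] (h : QFDual.IsDedekindDefined A K B L) (hA : EGA4.IsNormalRing A) : (1 : L) ∈ QFDual.complementary A K B L := by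
  exact main A K B L h hA

end Groth.Agent.S8961
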