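import Groth.Statements.S8962
import Mathlib
import Groth.Agent.Lib.helper29.Disc4

set_option autoImplicit false
universe u
open QFDual

namespace Groth.Agent.S8962

section Aux

theorem main (A K B L : Type u) [CommRing A] [CommRing K] [CommRing B] [CommRing L] [Algebra A K]
    [Algebra A B] [Algebra B L] [Algebra K L] [Algebra A L] [IsScalarTower A K L]
    [IsScalarTower A B L] (h : QFDual.IsDedekindDefined A K B L) :
    ∃ e : QFDual.complementary A K B L ≃ₗ[B] Disc.Omega A B,
      ∀ (x : QFDual.complementary A K B L) (b : B),
        algebraMap A K ((e x).toLinearMap b) = Algebra.trace K L ((x : L) * algebraMap B L b) := by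
  classical
  haveI := h.isFractionRing
  haveI := h.isLocalization
  haveI := h.free
  haveI := h.finiteKL
  haveI := h.etale
  have hinj : Function.Injective (algebraMap A K) := IsFractionRing.injective A K
  have hbij : Function.Bijective (Algebra.traceForm K L) :=
    (H29.Disc4.etale_iff_bijective_traceForm).1 inferInstance
  have hval : ∀ (x : QFDual.complementary A K B L) (b : B),
      ∃ a : A, algebraMap A K a = Algebra.trace K L ((x : L) * algebraMap B L b) := fun x b => x.2 b
  choose v hv using hval
  have hsm : ∀ (a : A) (b : B), algebraMap B L (a • b) = algebraMap A K a • algebraMap B L b := by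
    intro a b
    rw [Algebra.smul_def, map_mul, ← IsScalarTower.algebraMap_apply,
      IsScalarTower.algebraMap_apply A K L, ← Algebra.smul_def]
  let toLin : QFDual.complementary A K B L → (B →ₗ[A] A) := fun x =>
    { toFun := v x
      map_add' := fun b c => hinj (by rw [map_add, hv, hv, hv, map_add, mul_add, map_add])
      map_smul' := fun a b => hinj (by
        rw [RingHom.id_apply, smul_eq_mul, map_mul, hv, hv, hsm, mul_smul_comm, map_smul,
          smul_eq_mul]) }
  let e0 : QFDual.complementary A K B L →ₗ[B] Disc.Omega A B :=
    { toFun := fun x => ⟨toLin x⟩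
      map_add' := fun x y => by
        apply Disc.Omega.ext; ext b; apply hinj
        show algebraMap A K (v (x+y) b) = algebraMap A K (v x b + v y b)
        rw [map_add, hv, hv, hv, Submodule.coe_add, add_mul, map_add]
      map_smul' := fun c x => by
        apply Disc.Omega.ext; ext b; apply hinj
        show algebraMap A K (v (c • x) b) = algebraMap A K (v x (c * b))
        rw [hv, hv, Submodule.coe_smul, Algebra.smul_def, (algebraMap B L).map_mul]
        congr 1; ring }
  have he0 : ∀ x b, (e0 x).toLinearMap b = v x b := fun x b => rfl
  have hinj0 : Function.Injective e0 := by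
    rw [← LinearMap.ker_eq_bot, LinearMap.ker_eq_bot']
    intro x hx
    have h0 : ∀ b : B, Algebra.trace K L ((x : L) * algebraMap B L b) = 0 := by
      intro b
      rw [← hv, ← he0, hx]
      simp
    have h1 : Algebra.traceForm K L (x : L) = 0 := by
      ext l
      obtain ⟨⟨b, s⟩, hbs⟩ := IsLocalization.surj (Algebra.algebraMapSubmonoid B (nonZeroDivisors A)) l
      obtain ⟨a, ha, has⟩ := s.2
      have hu : IsUnit (algebraMap A K a) := IsLocalization.map_units K (⟨a, ha⟩ : nonZeroDivisors A)
      have h2 : algebraMap A K a • l = algebraMap B L b := by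
        rw [← hbs, Algebra.smul_def, mul_comm, ← IsScalarTower.algebraMap_apply,
          IsScalarTower.algebraMap_apply A B L, has]
      have h3 : algebraMap A K a * Algebra.trace K L ((x : L) * l) = 0 := by
        rw [← smul_eq_mul, ← map_smul, ← mul_smul_comm, h2, h0]
      simpa [Algebra.traceForm_apply] using (hu.mul_right_eq_zero).1 h3
    have h4 : (x : L) = 0 := hbij.1 (by rw [h1, map_zero])
    exact Subtype.ext h4
  have hsurj0 : Function.Surjective e0 := by
    intro ω
    let fB : B →ₗ[A] L := (IsScalarTower.toAlgHom A B L).toLinearMap
    let fA : A →ₗ[A] K := Algebra.linearMap A K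
    haveI : IsLocalizedModule (nonZeroDivisors A) fB := inferInstance
    haveI : IsLocalizedModule (nonZeroDivisors A) fA := inferInstance
    let Φ : L →ₗ[K] K := IsLocalizedModule.mapExtendScalars (nonZeroDivisors A) fB fA K ω.toLinearMap
    have hΦ : ∀ b, Φ (algebraMap B L b) = algebraMap A K (ω.toLinearMap b) := by
      intro b
      have := IsLocalizedModule.map_apply (nonZeroDivisors A) fB fA ω.toLinearMap b
      simpa [Φ, fB, fA, IsLocalizedModule.mapExtendScalars_apply_apply] using this
    obtain ⟨x, hx⟩ := hbij.2 Φ
    have hxb : ∀ b, Algebra.trace K L (x * algebraMap B L b) = algebraMap A K (ω.toLinearMap b) := by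
      intro b
      rw [← hΦ, ← hx, Algebra.traceForm_apply]
    have hxm : x ∈ QFDual.complementary A K B L := fun b => ⟨_, (hxb b).symm⟩
    refine ⟨⟨x, hxm⟩, ?_⟩
    apply Disc.Omega.ext; ext b; apply hinj
    rw [he0, hv, hxb]
  refine ⟨LinearEquiv.ofBijective e0 ⟨hinj0, hsurj0⟩, fun x b => ?_⟩
  rw [LinearEquiv.ofBijective_apply, he0, hv]

end Aux

/-- If the Dedekind different of A → B is defined (A Noetherian, B a finite A-algebra, nonzerodivisors
of A nonzerodivisors on B, K = Q(A) → L = B ⊗_A K étale, here with L finite free over K), then x ↦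
(b ↦ Trace_{L/K}(x b)) is a B-linear isomorphism from the Dedekind complementary module 𝓛_{B/A} onto
ω_{B/A} = Hom_A(B, A), the latter with B acting through the argument. Stated as the existence of a
B-linear equivalence e with algebraMap (e(x)(b)) = Trace_{L/K}(x b) in K for all x and b, which
determines e since A → K is injective. -/
theorem result (A K B L : Type u) [CommRing A] [CommRing K] [CommRing B] [CommRing L] [Algebra A K] [Algebra A B] [Algebra B L] [Algebra K L] [Algebra A L] [IsScalarTower A K L] [IsScalarTower A B L] (h : QFDual.IsDedekindDefined A K B L) : ∃ e : QFDual.complementary A K B L ≃ₗ[B] Disc.Omega A B, ∀ (x : QFDual.complementary A K B L) (b : B), algebraMap A K ((e x).toLinearMap b) = Algebra.trace K L ((x : L) * algebraMap B L b) := by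
  exact main A K B L h

end Groth.Agent.S8962
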