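import Groth.Statements.S8965
import Mathlib
import Groth.Agent.Lib.helper29.Disc4
import Groth.Agent.S8960
import Groth.Agent.S8962

set_option autoImplicit false
universe u
open QFDual

namespace Groth.Agent.S8965

section Aux

theorem eq_zero_of_trace (A K B L : Type u) [CommRing A] [CommRing K] [CommRing B] [CommRing L]
    [Algebra A K] [Algebra A B] [Algebra B L] [Algebra K L] [Algebra A L] [IsScalarTower A K L]
    [IsScalarTower A B L] (h : QFDual.IsDedekindDefined A K B L) (z : L)
    (h0 : ∀ b : B, Algebra.trace K L (z * algebraMap B L b) = 0) : z = 0 := by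
  classical
  haveI := h.isFractionRing
  haveI := h.isLocalization
  haveI := h.free
  haveI := h.finiteKL
  haveI := h.etale
  have hbij : Function.Bijective (Algebra.traceForm K L) :=
    (H29.Disc4.etale_iff_bijective_traceForm).1 inferInstance
  have h1 : Algebra.traceForm K L z = 0 := by
    ext l
    obtain ⟨⟨b, s⟩, hbs⟩ := IsLocalization.surj (Algebra.algebraMapSubmonoid B (nonZeroDivisors A)) l
    obtain ⟨a, ha, has⟩ := s.2
    have hu : IsUnit (algebraMap A K a) := IsLocalization.map_units K (⟨a, ha⟩ : nonZeroDivisors A)
    have h2 : algebraMap A K a • l = algebraMap B L b := by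
      rw [← hbs, Algebra.smul_def, mul_comm, ← IsScalarTower.algebraMap_apply,
        IsScalarTower.algebraMap_apply A B L, has]
    have h3 : algebraMap A K a * Algebra.trace K L (z * l) = 0 := by
      rw [← smul_eq_mul, ← map_smul, ← mul_smul_comm, h2, h0]
    simpa [Algebra.traceForm_apply] using (hu.mul_right_eq_zero).1 h3
  exact hbij.1 (by rw [h1, map_zero])

theorem main (A K B L : Type u) [CommRing A] [CommRing K] [CommRing B] [CommRing L] [Algebra A K]
    [Algebra A B] [Algebra B L] [Algebra K L] [Algebra A L] [IsScalarTower A K L]
    [IsScalarTower A B L] (h : QFDual.IsDedekindDefined A K B L) [Module.Finite A B]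
    [Module.Free A B] :
    QFDual.dedekindDifferent A K B L =
      Submodule.map (Algebra.linearMap B L) (QFDual.different B (Disc.Omega.trace A B)) := by
  classical
  haveI := h.isFractionRing
  haveI := h.isLocalization
  have hinj : Function.Injective (algebraMap A K) := IsFractionRing.injective A K
  have htr : ∀ b : B, Algebra.trace K L (algebraMap B L b) = algebraMap A K (Algebra.trace A B b) :=
    fun b => Algebra.trace_localization A (nonZeroDivisors A) b
  obtain ⟨e, he⟩ := Groth.Agent.S8962.result A K B L h
  have h1 : (1 : L) ∈ QFDual.complementary A K B L := Groth.Agent.S8960.result A K B L h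
  ext x
  constructor
  · intro hx
    obtain ⟨b, hb⟩ := hx 1 h1
    rw [mul_one] at hb
    refine ⟨b, ?_, hb⟩
    rw [SetLike.mem_coe, QFDual.mem_different_iff]
    intro ω
    obtain ⟨y, hy⟩ := e.surjective ω
    obtain ⟨c, hc⟩ := hx y y.2
    refine ⟨c, ?_⟩
    apply Disc.Omega.ext; ext x'
    apply hinj
    show algebraMap A K (Algebra.trace A B (c * x')) = algebraMap A K (ω.toLinearMap (b * x'))
    rw [← htr, (algebraMap B L).map_mul, hc, ← hy, he, ← hb, (algebraMap B L).map_mul]
    congr 1; ring
  · rintro ⟨b, hb, rfl⟩
    rw [SetLike.mem_coe, QFDual.mem_different_iff] at hb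
    intro y hy
    obtain ⟨c, hc⟩ := hb (e ⟨y, hy⟩)
    refine ⟨c, ?_⟩
    have hz : algebraMap B L c - Algebra.linearMap B L b * y = 0 := by
      apply eq_zero_of_trace A K B L h
      intro x'
      have h2 := congrArg (fun ω : Disc.Omega A B => algebraMap A K (ω.toLinearMap x')) hc
      simp only [Disc.Omega.smul_toLinearMap_apply] at h2
      rw [he] at h2
      have h3 : (Disc.Omega.trace A B).toLinearMap (c * x') = Algebra.trace A B (c * x') := rfl
      rw [h3, ← htr] at h2
      rw [sub_mul, map_sub, sub_eq_zero, ← (algebraMap B L).map_mul, h2, Algebra.linearMap_apply,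
        (algebraMap B L).map_mul]
      congr 1; ring
    exact sub_eq_zero.1 hz

end Aux

/-- Suppose the Dedekind different of A → B is defined (A Noetherian, B a finite A-algebra,
nonzerodivisors of A nonzerodivisors on B, K = Q(A) → L = B ⊗_A K étale, here with L finite free
over K) and that B is free as an A-module. Then the Dedekind different 𝔇_{B/A} ⊆ L is the image
under B → L of the ideal of b ∈ B with b · Hom_A(B, A) ⊆ B · Trace_{B/A}, where B acts on Hom_A(B,
A) through the argument. (The published statement assumes only A → B flat, with the trace element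
τ_{B/A} of the relative dualizing module ω_{B/A}; for B finite free these are Trace_{B/A} and
Hom_A(B, A), the case taken here.) -/
theorem result (A K B L : Type u) [CommRing A] [CommRing K] [CommRing B] [CommRing L] [Algebra A K] [Algebra A B] [Algebra B L] [Algebra K L] [Algebra A L] [IsScalarTower A K L] [IsScalarTower A B L] (h : QFDual.IsDedekindDefined A K B L) [Module.Finite A B] [Module.Free A B] : QFDual.dedekindDifferent A K B L = Submodule.map (Algebra.linearMap B L) (QFDual.different B (Disc.Omega.trace A B)) := by
  exact main A K B L h

end Groth.Agent.S8965
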