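import Groth.Statements.S8967
import Mathlib
import Groth.Agent.S8958

set_option autoImplicit false
universe u
open QFDual

namespace Groth.Agent.S8967

section Aux
open TensorProduct

theorem trace_pushout (A B A' B' : Type*) [CommRing A] [CommRing B] [CommRing A'] [CommRing B']
    [Algebra A B] [Module.Finite A B] [Module.Free A B] [Algebra A A'] [Algebra B B']
    [Algebra A' B'] [Algebra A B'] [IsScalarTower A A' B'] [IsScalarTower A B B']
    (hB : Algebra.IsPushout A A' B B') (x : B) :
    Algebra.trace A' B' (algebraMap B B' x) = algebraMap A A' (Algebra.trace A B x) := by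
  classical
  let bas := Module.Free.chooseBasis A B
  let bas' := hB.out.basis bas
  rw [Algebra.trace_eq_matrix_trace bas', Algebra.trace_eq_matrix_trace bas]
  simp only [Matrix.trace, Matrix.diag_apply, map_sum]
  refine Finset.sum_congr rfl fun i _ => ?_
  rw [Algebra.leftMulMatrix_eq_repr_mul, Algebra.leftMulMatrix_eq_repr_mul]
  have h1 : algebraMap B B' x * bas' i = (IsScalarTower.toAlgHom A B B').toLinearMap (x * bas i) := by
    rw [IsBaseChange.basis_apply]
    simp
  rw [h1, IsBaseChange.basis_repr_comp_apply]

section Abstract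

variable {B B' M M' : Type*} [CommRing B] [CommRing B'] [Algebra B B'] [AddCommGroup M]
  [Module B M] [AddCommGroup M'] [Module B' M'] [Module B M'] [IsScalarTower B B' M']

theorem map_different_le (β : M →ₗ[B] M') (ibc : IsBaseChange B' β) (τ : M) :
    Ideal.map (algebraMap B B') (QFDual.different B τ) ≤ QFDual.different B' (β τ) := by
  rw [Ideal.map_le_iff_le_comap]
  intro r hr
  rw [Ideal.mem_comap, QFDual.mem_different_iff]
  rw [QFDual.mem_different_iff] at hr
  intro m'
  induction m' using ibc.inductionOn with
  | zero => exact ⟨0, by simp⟩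
  | tmul m =>
    obtain ⟨c, hc⟩ := hr m
    exact ⟨algebraMap B B' c, by rw [algebraMap_smul, ← map_smul, hc, map_smul, algebraMap_smul]⟩
  | smul b' m' ih =>
    obtain ⟨c', hc'⟩ := ih
    exact ⟨b' * c', by rw [mul_smul, hc', smul_comm]⟩
  | add x y hx hy =>
    obtain ⟨c1, h1⟩ := hx
    obtain ⟨c2, h2⟩ := hy
    exact ⟨c1 + c2, by rw [add_smul, smul_add, h1, h2]⟩

theorem ker_le_span {N N' P P' : Type*} [AddCommGroup N] [Module B N] [AddCommGroup N']
    [Module B' N'] [Module B N'] [IsScalarTower B B' N'] [AddCommGroup P] [Module B P]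
    [AddCommGroup P'] [Module B' P'] [Module B P'] [IsScalarTower B B' P'] [Module.Flat B B']
    (f : N →ₗ[B] P) (ν : N →ₗ[B] N') (hν : IsBaseChange B' ν) (π : P →ₗ[B] P')
    (hπ : IsBaseChange B' π) (f' : N' →ₗ[B'] P') (hcomm : ∀ x, f' (ν x) = π (f x)) :
    LinearMap.ker f' ≤ Submodule.span B' (ν '' (LinearMap.ker f : Set N)) := by
  intro y hy
  have h1 : ∀ x' : B' ⊗[B] N, hπ.equiv (AlgebraTensorModule.lTensor B' B' f x') = f' (hν.equiv x') := by
    intro x'
    induction x' using TensorProduct.induction_on with
    | zero => simp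
    | add a b ha hb => rw [map_add, map_add, map_add, map_add, ha, hb]
    | tmul b' n =>
      rw [AlgebraTensorModule.lTensor_tmul, hπ.equiv_tmul, hν.equiv_tmul, map_smul, hcomm]
  have h2 : AlgebraTensorModule.lTensor B' B' f (hν.equiv.symm y) = 0 := by
    apply hπ.equiv.injective
    rw [h1, LinearEquiv.apply_symm_apply, map_zero]
    exact hy
  have h3 : hν.equiv.symm y ∈ LinearMap.ker (AlgebraTensorModule.lTensor B' B' f) := h2
  rw [Module.Flat.ker_lTensor_eq] at h3
  obtain ⟨z, hz⟩ := h3
  have h4 : y = hν.equiv (AlgebraTensorModule.lTensor B' B' (LinearMap.ker f).subtype z) := by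
    rw [hz, LinearEquiv.apply_symm_apply]
  have h5 : ∀ z : B' ⊗[B] (LinearMap.ker f),
      hν.equiv (AlgebraTensorModule.lTensor B' B' (LinearMap.ker f).subtype z) ∈
        Submodule.span B' (ν '' (LinearMap.ker f : Set N)) := by
    intro z
    induction z using TensorProduct.induction_on with
    | zero => simp
    | add a b ha hb =>
      rw [map_add, map_add]
      exact Submodule.add_mem _ ha hb
    | tmul b' k =>
      rw [AlgebraTensorModule.lTensor_tmul, hν.equiv_tmul]
      exact Submodule.smul_mem _ _ (Submodule.subset_span ⟨k.1, k.2, rfl⟩)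
  rw [h4]
  exact h5 z

theorem different_le_map [Module.Flat B B'] [Module.Finite B M] (β : M →ₗ[B] M')
    (ibc : IsBaseChange B' β) (τ : M) :
    QFDual.different B' (β τ) ≤ Ideal.map (algebraMap B B') (QFDual.different B τ) := by
  classical
  obtain ⟨n, m, hm⟩ := Module.Finite.exists_fin (R := B) (M := M)
  let F : (Fin (n + 1) → B) →ₗ[B] (Fin n → M) :=
    LinearMap.pi fun i => (LinearMap.proj 0).smulRight (m i) - (LinearMap.proj i.succ).smulRight τ
  have hF : ∀ v i, F v i = v 0 • m i - v i.succ • τ := fun v i => rfl
  let F' : (Fin (n + 1) → B') →ₗ[B'] (Fin n → M') :=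
    LinearMap.pi fun i =>
      (LinearMap.proj 0).smulRight (β (m i)) - (LinearMap.proj i.succ).smulRight (β τ)
  have hF' : ∀ v i, F' v i = v 0 • β (m i) - v i.succ • β τ := fun v i => rfl
  have K1 : ∀ v ∈ LinearMap.ker F, v 0 ∈ QFDual.different B τ := by
    intro v hv
    rw [QFDual.mem_different_iff]
    intro x
    have hx : x ∈ Submodule.span B (Set.range m) := by rw [hm]; trivial
    induction hx using Submodule.span_induction with
    | mem x hx =>
      obtain ⟨i, rfl⟩ := hx
      refine ⟨v i.succ, ?_⟩
      have := congrFun (LinearMap.mem_ker.1 hv) i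
      rw [hF, Pi.zero_apply, sub_eq_zero] at this
      exact this.symm
    | zero => exact ⟨0, by simp⟩
    | add x y _ _ hx hy =>
      obtain ⟨c1, h1⟩ := hx
      obtain ⟨c2, h2⟩ := hy
      exact ⟨c1 + c2, by rw [add_smul, smul_add, h1, h2]⟩
    | smul a x _ hx =>
      obtain ⟨c, hc⟩ := hx
      exact ⟨a * c, by rw [mul_smul, hc, smul_comm]⟩
  let ν : (Fin (n + 1) → B) →ₗ[B] (Fin (n + 1) → B') := (Algebra.linearMap B B').compLeft _
  have hν : IsBaseChange B' ν := (IsBaseChange.linearMap B B').finitePow _
  let π : (Fin n → M) →ₗ[B] (Fin n → M') := β.compLeft _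
  have hπ : IsBaseChange B' π := ibc.finitePow _
  have hcomm : ∀ x, F' (ν x) = π (F x) := by
    intro x
    ext i
    rw [hF']
    show algebraMap B B' (x 0) • β (m i) - algebraMap B B' (x i.succ) • β τ = β (F x i)
    rw [hF, map_sub, map_smul, map_smul, algebraMap_smul, algebraMap_smul]
  have hker := ker_le_span F ν hν π hπ F' hcomm
  intro r' hr'
  rw [QFDual.mem_different_iff] at hr'
  have hc : ∀ i, ∃ c : B', c • β τ = r' • β (m i) := fun i => hr' _
  choose c' hc' using hc
  have hv' : (Fin.cons r' c' : Fin (n + 1) → B') ∈ LinearMap.ker F' := by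
    rw [LinearMap.mem_ker]
    ext i
    rw [hF', Fin.cons_zero, Fin.cons_succ, hc', sub_self, Pi.zero_apply]
  have h1 := hker hv'
  have h2 : (LinearMap.proj 0 : (Fin (n + 1) → B') →ₗ[B'] B') (Fin.cons r' c') ∈
      Submodule.map (LinearMap.proj 0 : (Fin (n + 1) → B') →ₗ[B'] B')
        (Submodule.span B' (ν '' (LinearMap.ker F : Set (Fin (n + 1) → B)))) :=
    Submodule.mem_map_of_mem h1
  rw [LinearMap.proj_apply, Fin.cons_zero, Submodule.map_span] at h2
  refine (Submodule.span_le.2 ?_) h2
  rintro _ ⟨_, ⟨v, hv, rfl⟩, rfl⟩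
  exact Ideal.mem_map_of_mem _ (K1 v hv)

end Abstract

theorem main (A B A' B' : Type u) [CommRing A] [CommRing B] [CommRing A'] [CommRing B']
    [IsNoetherianRing A] [IsNoetherianRing A'] [Algebra A B] [Module.Finite A B] [Module.Free A B]
    [Algebra A A'] [Algebra B B'] [Algebra A' B'] [Algebra A B'] [IsScalarTower A A' B']
    [IsScalarTower A B B'] (hB : Algebra.IsPushout A A' B B') [Module.Finite A' B']
    [Module.Free A' B'] [Module.Flat A A'] :
    Ideal.map (algebraMap B B') (QFDual.different B (Disc.Omega.trace A B)) =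
      QFDual.different B' (Disc.Omega.trace A' B') := by
  classical
  -- module structures
  letI mAM : Module A (Disc.Omega A B) := Module.compHom (Disc.Omega A B) (algebraMap A B)
  haveI : IsScalarTower A B (Disc.Omega A B) := IsScalarTower.of_algebraMap_smul fun r x => rfl
  letI mA₁M₁ : Module A' (Disc.Omega A' B') :=
    Module.compHom (Disc.Omega A' B') (algebraMap A' B')
  haveI : IsScalarTower A' B' (Disc.Omega A' B') :=
    IsScalarTower.of_algebraMap_smul fun r x => rfl
  letI mB'M₁ : Module B (Disc.Omega A' B') :=
    Module.compHom (Disc.Omega A' B') (algebraMap B B')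
  haveI : IsScalarTower B B' (Disc.Omega A' B') :=
    IsScalarTower.of_algebraMap_smul fun r x => rfl
  letI mAM₁ : Module A (Disc.Omega A' B') :=
    Module.compHom (Disc.Omega A' B') (algebraMap A B')
  haveI : IsScalarTower A A' (Disc.Omega A' B') :=
    IsScalarTower.of_algebraMap_smul fun r x => by
      show algebraMap A' B' (algebraMap A A' r) • x = algebraMap A B' r • x
      rw [← IsScalarTower.algebraMap_apply]
  let β : Disc.Omega A B →ₗ[B] Disc.Omega A' B' :=
    { toFun := QFDual.bcFin hB
      map_add' := fun x y => map_add _ x y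
      map_smul' := fun b x => by
        rw [LinearMap.map_smulₛₗ, RingHom.id_apply]
        rfl }
  let βR : Disc.Omega A B →ₗ[A] Disc.Omega A' B' :=
    { toFun := QFDual.bcFin hB
      map_add' := fun x y => map_add _ x y
      map_smul' := fun a x => by
        show QFDual.bcFin hB (algebraMap A B a • x) = algebraMap A B' a • QFDual.bcFin hB x
        rw [LinearMap.map_smulₛₗ, ← IsScalarTower.algebraMap_apply] }
  let wrap : Disc.Omega A B ≃ₗ[A] (B →ₗ[A] A) :=
    { toFun := fun φ => φ.toLinearMap
      invFun := fun f => ⟨f⟩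
      left_inv := fun φ => rfl
      right_inv := fun f => rfl
      map_add' := fun x y => rfl
      map_smul' := fun a x => by
        ext b
        show x.toLinearMap (algebraMap A B a * b) = a • x.toLinearMap b
        rw [← Algebra.smul_def, map_smul] }
  let wrap₁ : Disc.Omega A' B' ≃ₗ[A'] (B' →ₗ[A'] A') :=
    { toFun := fun φ => φ.toLinearMap
      invFun := fun f => ⟨f⟩
      left_inv := fun φ => rfl
      right_inv := fun f => rfl
      map_add' := fun x y => rfl
      map_smul' := fun a x => by
        ext b
        show x.toLinearMap (algebraMap A' B' a * b) = a • x.toLinearMap b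
        rw [← Algebra.smul_def, map_smul] }
  have ibcD : IsBaseChange A' hB.out.toDual := hB.out.dual
  have ibc : IsBaseChange A' βR := by
    refine IsBaseChange.of_equiv
      ((LinearEquiv.baseChange A A' _ _ wrap) ≪≫ₗ ibcD.equiv ≪≫ₗ wrap₁.symm) (fun x => ?_)
    simp only [LinearEquiv.trans_apply, LinearEquiv.baseChange_tmul, ibcD.equiv_tmul, one_smul]
    rfl
  haveI := hB
  have ibcT : IsBaseChange B' β :=
    Groth.Agent.S8958.isBaseChange_of_pushout A A' B B' _ _ β βR (fun n => rfl) ibc
  -- flatness of B → B'
  haveI : Module.Flat B B' := by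
    have hsymm : Algebra.IsPushout A B A' B' := Algebra.IsPushout.symm hB
    exact Module.Flat.isBaseChange (R := A) (S := B) (M := A') B' hsymm.out
  -- finiteness
  haveI : Module.Finite A (Disc.Omega A B) := Module.Finite.equiv wrap.symm
  haveI : Module.Finite B (Disc.Omega A B) := Module.Finite.of_restrictScalars_finite A B _
  -- trace
  have hτ : β (Disc.Omega.trace A B) = Disc.Omega.trace A' B' := by
    apply Disc.Omega.ext
    refine hB.out.algHom_ext _ _ fun x => ?_
    show (QFDual.bcFin hB (Disc.Omega.trace A B)).toLinearMap (algebraMap B B' x) =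
      Algebra.trace A' B' (algebraMap B B' x)
    rw [QFDual.bcFin_apply_algebraMap, trace_pushout A B A' B' hB]
    rfl
  rw [← hτ]
  exact le_antisymm (map_different_le β ibcT _) (different_le_map β ibcT _)

end Aux

/-- Flat base change, affine finite free case. Let A and A' be Noetherian rings, B an A-algebra which is
finite free as an A-module, A → A' a ring map and B' a ring making A → A', B → B' cocartesian (B' =
B ⊗_A A', again finite free over A'). Write 𝔇 ⊆ B and 𝔇' ⊆ B' for the differents: the ideals of
elements b with b · Hom_A(B, A) ⊆ B · Trace_{B/A}, respectively b' · Hom_{A'}(B', A') ⊆ B' ·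
Trace_{B'/A'}. If A → A' is flat, then 𝔇B' = 𝔇'. (The published statement is for the different of a
flat quasi-finite morphism of Noetherian schemes under base change, phrased with the closed
subschemes the differents cut out; this row is the affine finite free case, where the relative
dualizing module is Hom_A(B, A) and the trace element is the trace.) -/
theorem result (A B A' B' : Type u) [CommRing A] [CommRing B] [CommRing A'] [CommRing B'] [IsNoetherianRing A] [IsNoetherianRing A'] [Algebra A B] [Module.Finite A B] [Module.Free A B] [Algebra A A'] [Algebra B B'] [Algebra A' B'] [Algebra A B'] [IsScalarTower A A' B'] [IsScalarTower A B B'] (hB : Algebra.IsPushout A A' B B') [Module.Finite A' B'] [Module.Free A' B'] [Module.Flat A A'] : Ideal.map (algebraMap B B') (QFDual.different B (Disc.Omega.trace A B)) = QFDual.different B' (Disc.Omega.trace A' B') := by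
  exact main A B A' B' hB

end Groth.Agent.S8967
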