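import Groth.Statements.S8966
import Mathlib
import Groth.Agent.S8958
import Groth.Agent.S8967
import Groth.Agent.S6891
import Groth.Agent.Lib.helper27.Fitting

set_option autoImplicit false
universe u
open QFDual

namespace Groth.Agent.S8966

section Aux
open TensorProduct

theorem different_le_radical {B B' M M' : Type u} [CommRing B] [CommRing B'] [Algebra B B']
    [AddCommGroup M] [Module B M] [AddCommGroup M'] [Module B' M'] [Module B M']
    [IsScalarTower B B' M'] [Module.Finite B M] [Module.Finite B' M']
    (β : M →ₗ[B] M') (ibc : IsBaseChange B' β) (τ : M) :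
    QFDual.different B' (β τ) ≤ (Ideal.map (algebraMap B B') (QFDual.different B τ)).radical := by
  have hD : QFDual.different B τ = Module.annihilator B (M ⧸ (Submodule.span B {τ})) :=
    Submodule.annihilator_quotient.symm
  have hD' : QFDual.different B' (β τ) = Module.annihilator B' (M' ⧸ (Submodule.span B' {β τ})) :=
    Submodule.annihilator_quotient.symm
  let g0 : M' →ₗ[B'] B' ⊗[B] (M ⧸ (Submodule.span B {τ})) :=
    (AlgebraTensorModule.lTensor B' B' (Submodule.mkQ (Submodule.span B {τ}))) ∘ₗ
      ibc.equiv.symm.toLinearMap
  have hg0 : Function.Surjective g0 := by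
    intro y
    induction y using TensorProduct.induction_on with
    | zero => exact ⟨0, map_zero _⟩
    | add a b ha hb =>
      obtain ⟨x1, h1⟩ := ha
      obtain ⟨x2, h2⟩ := hb
      exact ⟨x1 + x2, by rw [map_add, h1, h2]⟩
    | tmul b' q =>
      obtain ⟨m, rfl⟩ := Submodule.mkQ_surjective _ q
      refine ⟨ibc.equiv (b' ⊗ₜ m), ?_⟩
      simp only [g0, LinearMap.comp_apply, LinearEquiv.coe_coe, LinearEquiv.symm_apply_apply,
        AlgebraTensorModule.lTensor_tmul]
  have hker : Submodule.span B' {β τ} ≤ LinearMap.ker g0 := by
    rw [Submodule.span_le, Set.singleton_subset_iff]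
    show g0 (β τ) = 0
    simp only [g0, LinearMap.comp_apply, LinearEquiv.coe_coe, ibc.equiv_symm_apply,
      AlgebraTensorModule.lTensor_tmul, Submodule.mkQ_apply]
    rw [(Submodule.Quotient.mk_eq_zero _).2 (Submodule.mem_span_singleton_self τ), tmul_zero]
  let g : (M' ⧸ (Submodule.span B' {β τ})) →ₗ[B'] B' ⊗[B] (M ⧸ (Submodule.span B {τ})) :=
    Submodule.liftQ _ g0 hker
  have hg : Function.Surjective g := by
    intro y
    obtain ⟨x, rfl⟩ := hg0 y
    exact ⟨Submodule.Quotient.mk x, rfl⟩
  obtain ⟨n, hn⟩ := Groth.Agent.S6891aux.exists_pow_mem_fit0 (R := B')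
    (M := M' ⧸ (Submodule.span B' {β τ}))
  intro r' hr'
  rw [hD'] at hr'
  refine ⟨n, ?_⟩
  have h1 := hn r' hr'
  have h2 := Groth.Agent.Lib.helper27.Fitting.ideal_le_of_surjective g hg 0 h1
  rw [Groth.Agent.Lib.helper27.Fitting.ideal_baseChange] at h2
  exact Ideal.map_mono (by rw [hD]; exact Groth.Agent.S6891aux.fit0_le_ann) h2

theorem main (A B A' B' : Type u) [CommRing A] [CommRing B] [CommRing A'] [CommRing B']
    [IsNoetherianRing A] [IsNoetherianRing A'] [Algebra A B] [Module.Finite A B] [Module.Free A B]
    [Algebra A A'] [Algebra B B'] [Algebra A' B'] [Algebra A B'] [IsScalarTower A A' B']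
    [IsScalarTower A B B'] (hB : Algebra.IsPushout A A' B B') [Module.Finite A' B']
    [Module.Free A' B'] :
    Ideal.map (algebraMap B B') (QFDual.different B (Disc.Omega.trace A B)) ≤
        QFDual.different B' (Disc.Omega.trace A' B') ∧
      (Ideal.map (algebraMap B B') (QFDual.different B (Disc.Omega.trace A B))).radical =
        (QFDual.different B' (Disc.Omega.trace A' B')).radical := by
  classical
  letI mAM : Module A (Disc.Omega A B) := Module.compHom (Disc.Omega A B) (algebraMap A B)
  haveI : IsScalarTower A B (Disc.Omega A B) := IsScalarTower.of_algebraMap_smul fun r x => rfl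
  letI mA₁M₁ : Module A' (Disc.Omega A' B') :=
    Module.compHom (Disc.Omega A' B') (algebraMap A' B')
  haveI : IsScalarTower A' B' (Disc.Omega A' B') :=
    IsScalarTower.of_algebraMap_smul fun r x => rfl
  letI mB'M₁ : Module B (Disc.Omega A' B') :=
    Module.compHom (Disc.Omega A' B') (algebraMap B B')
  haveI : IsScalarTower B B' (Disc.Omega A' B') :=
    IsScalarTower.of_algebraMap_smul fun r x => rfl
  letI mAM₁ : Module A (Disc.Omega A' B') :=
    Module.compHom (Disc.Omega A' B') (algebraMap A B')
  haveI : IsScalarTower A A' (Disc.Omega A' B') :=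
    IsScalarTower.of_algebraMap_smul fun r x => by
      show algebraMap A' B' (algebraMap A A' r) • x = algebraMap A B' r • x
      rw [← IsScalarTower.algebraMap_apply]
  let β : Disc.Omega A B →ₗ[B] Disc.Omega A' B' :=
    { toFun := QFDual.bcFin hB
      map_add' := fun x y => map_add _ x y
      map_smul' := fun b x => by
        rw [LinearMap.map_smulₛₗ, RingHom.id_apply]
        rfl }
  let βR : Disc.Omega A B →ₗ[A] Disc.Omega A' B' :=
    { toFun := QFDual.bcFin hB
      map_add' := fun x y => map_add _ x y
      map_smul' := fun a x => by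
        show QFDual.bcFin hB (algebraMap A B a • x) = algebraMap A B' a • QFDual.bcFin hB x
        rw [LinearMap.map_smulₛₗ, ← IsScalarTower.algebraMap_apply] }
  let wrap : Disc.Omega A B ≃ₗ[A] (B →ₗ[A] A) :=
    { toFun := fun φ => φ.toLinearMap
      invFun := fun f => ⟨f⟩
      left_inv := fun φ => rfl
      right_inv := fun f => rfl
      map_add' := fun x y => rfl
      map_smul' := fun a x => by
        ext b
        show x.toLinearMap (algebraMap A B a * b) = a • x.toLinearMap b
        rw [← Algebra.smul_def, map_smul] }
  let wrap₁ : Disc.Omega A' B' ≃ₗ[A'] (B' →ₗ[A'] A') :=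
    { toFun := fun φ => φ.toLinearMap
      invFun := fun f => ⟨f⟩
      left_inv := fun φ => rfl
      right_inv := fun f => rfl
      map_add' := fun x y => rfl
      map_smul' := fun a x => by
        ext b
        show x.toLinearMap (algebraMap A' B' a * b) = a • x.toLinearMap b
        rw [← Algebra.smul_def, map_smul] }
  have ibcD : IsBaseChange A' hB.out.toDual := hB.out.dual
  have ibc : IsBaseChange A' βR := by
    refine IsBaseChange.of_equiv
      ((LinearEquiv.baseChange A A' _ _ wrap) ≪≫ₗ ibcD.equiv ≪≫ₗ wrap₁.symm) (fun x => ?_)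
    simp only [LinearEquiv.trans_apply, LinearEquiv.baseChange_tmul, ibcD.equiv_tmul, one_smul]
    rfl
  haveI := hB
  have ibcT : IsBaseChange B' β :=
    Groth.Agent.S8958.isBaseChange_of_pushout A A' B B' _ _ β βR (fun n => rfl) ibc
  haveI : Module.Finite A (Disc.Omega A B) := Module.Finite.equiv wrap.symm
  haveI : Module.Finite B (Disc.Omega A B) := Module.Finite.of_restrictScalars_finite A B _
  haveI : Module.Finite A' (Disc.Omega A' B') := Module.Finite.equiv wrap₁.symm
  haveI : Module.Finite B' (Disc.Omega A' B') := Module.Finite.of_restrictScalars_finite A' B' _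
  have hτ : β (Disc.Omega.trace A B) = Disc.Omega.trace A' B' := by
    apply Disc.Omega.ext
    refine hB.out.algHom_ext _ _ fun x => ?_
    show (QFDual.bcFin hB (Disc.Omega.trace A B)).toLinearMap (algebraMap B B' x) =
      Algebra.trace A' B' (algebraMap B B' x)
    rw [QFDual.bcFin_apply_algebraMap, Groth.Agent.S8967.trace_pushout A B A' B' hB]
    rfl
  rw [← hτ]
  have h1 := Groth.Agent.S8967.map_different_le β ibcT (Disc.Omega.trace A B)
  refine ⟨h1, le_antisymm (Ideal.radical_mono h1) ?_⟩
  rw [Ideal.radical_le_radical_iff]
  exact different_le_radical β ibcT _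

end Aux

/-- First assertion, affine finite free case. Let A and A' be Noetherian rings, B an A-algebra which is
finite free as an A-module, A → A' a ring map and B' a ring making A → A', B → B' cocartesian (B' =
B ⊗_A A', again finite free over A'). Write 𝔇 ⊆ B and 𝔇' ⊆ B' for the differents: the ideals of
elements b with b · Hom_A(B, A) ⊆ B · Trace_{B/A}, respectively b' · Hom_{A'}(B', A') ⊆ B' ·
Trace_{B'/A'}. Then 𝔇B' ⊆ 𝔇' and these two ideals of B' have the same radical. (The published
statement is for the different of a flat quasi-finite morphism of Noetherian schemes under base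
change, phrased with the closed subschemes the differents cut out; this row is the affine finite
free case, where the relative dualizing module is Hom_A(B, A) and the trace element is the trace.) -/
theorem result (A B A' B' : Type u) [CommRing A] [CommRing B] [CommRing A'] [CommRing B'] [IsNoetherianRing A] [IsNoetherianRing A'] [Algebra A B] [Module.Finite A B] [Module.Free A B] [Algebra A A'] [Algebra B B'] [Algebra A' B'] [Algebra A B'] [IsScalarTower A A' B'] [IsScalarTower A B B'] (hB : Algebra.IsPushout A A' B B') [Module.Finite A' B'] [Module.Free A' B'] : Ideal.map (algebraMap B B') (QFDual.different B (Disc.Omega.trace A B)) ≤ QFDual.different B' (Disc.Omega.trace A' B') ∧ (Ideal.map (algebraMap B B') (QFDual.different B (Disc.Omega.trace A B))).radical = (QFDual.different B' (Disc.Omega.trace A' B')).radical := by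
  exact main A B A' B' hB

end Groth.Agent.S8966
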