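import Groth.Statements.S8971
import Mathlib
import Groth.Agent.S2218

set_option autoImplicit false
universe u
open TensorProduct
open QFDual

namespace Groth.Agent.S8971


section Aux
open AlgebraicGeometry CategoryTheory TensorProduct

theorem localRingHom_bijective {R S : Type u} [CommRing R] [CommRing S] (φ : R →+* S)
    (h : IsOpenImmersion (Spec.map (CommRingCat.ofHom φ))) (q : Ideal S) [q.IsPrime] :
    Function.Bijective (Localization.localRingHom (q.comap φ) q φ rfl) := by
  let p : PrimeSpectrum S := ⟨q, inferInstance⟩
  have hiso : IsIso ((Spec.map (CommRingCat.ofHom φ)).stalkMap p) := inferInstance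
  have e := Scheme.arrowStalkMapSpecIso (CommRingCat.ofHom φ) p
  have h2 := ((MorphismProperty.isomorphisms CommRingCat).arrow_mk_iso_iff e).1 hiso
  have h3 : IsIso (CommRingCat.ofHom (Localization.localRingHom
      (p.comap (CommRingCat.ofHom φ).hom).asIdeal p.asIdeal (CommRingCat.ofHom φ).hom rfl)) := h2
  rw [ConcreteCategory.isIso_iff_bijective] at h3
  exact h3

theorem isLocalization_atPrime {R S : Type u} [CommRing R] [CommRing S] [Algebra R S]
    (h : IsOpenImmersion (Spec.map (CommRingCat.ofHom (algebraMap R S)))) (q : Ideal S) [q.IsPrime] :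
    IsLocalization.AtPrime (Localization.AtPrime q) (q.comap (algebraMap R S)) := by
  have hb := localRingHom_bijective (algebraMap R S) h q
  let e0 : Localization.AtPrime (q.comap (algebraMap R S)) ≃+* Localization.AtPrime q :=
    RingEquiv.ofBijective _ hb
  let e : Localization.AtPrime (q.comap (algebraMap R S)) ≃ₐ[R] Localization.AtPrime q :=
    AlgEquiv.ofRingEquiv (f := e0) (by
      intro r
      show Localization.localRingHom (q.comap (algebraMap R S)) q (algebraMap R S) rfl
        (algebraMap R _ r) = _
      rw [Localization.localRingHom_to_map]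
      rw [IsScalarTower.algebraMap_apply R S (Localization.AtPrime q)])
  exact IsLocalization.isLocalization_of_algEquiv (q.comap (algebraMap R S)).primeCompl e

theorem ass_openImmersion {R S : Type u} [CommRing R] [CommRing S] [Algebra R S]
    [IsNoetherianRing R] [IsNoetherianRing S]
    (h : IsOpenImmersion (Spec.map (CommRingCat.ofHom (algebraMap R S))))
    (M : Type u) [AddCommGroup M] [Module R M] (q : Ideal S) [q.IsPrime] :
    q ∈ associatedPrimes S (S ⊗[R] M) ↔ q.comap (algebraMap R S) ∈ associatedPrimes R M := by
  haveI hloc : IsLocalization.AtPrime (Localization.AtPrime q) (q.comap (algebraMap R S)) :=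
    isLocalization_atPrime h q
  let f₂ : (S ⊗[R] M) →ₗ[S] (Localization.AtPrime q) ⊗[S] (S ⊗[R] M) :=
    TensorProduct.mk S (Localization.AtPrime q) (S ⊗[R] M) 1
  have hb₂ : IsBaseChange (Localization.AtPrime q) f₂ :=
    TensorProduct.isBaseChange S (S ⊗[R] M) (Localization.AtPrime q)
  haveI hl₂ : IsLocalizedModule q.primeCompl f₂ :=
    (isLocalizedModule_iff_isBaseChange q.primeCompl (Localization.AtPrime q) f₂).2 hb₂
  let f₀ : M →ₗ[R] S ⊗[R] M := TensorProduct.mk R S M 1
  have hb₀ : IsBaseChange S f₀ := TensorProduct.isBaseChange R M S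
  let f₁ : M →ₗ[R] (Localization.AtPrime q) ⊗[S] (S ⊗[R] M) := (f₂.restrictScalars R).comp f₀
  have hb₁ : IsBaseChange (Localization.AtPrime q) f₁ := IsBaseChange.comp hb₀ hb₂
  haveI hl₁ : IsLocalizedModule (q.comap (algebraMap R S)).primeCompl f₁ :=
    (isLocalizedModule_iff_isBaseChange (q.comap (algebraMap R S)).primeCompl
      (Localization.AtPrime q) f₁).2 hb₁
  have e₂ := Module.associatedPrimes.preimage_comap_associatedPrimes_eq_associatedPrimes_of_isLocalizedModule
    q.primeCompl (Localization.AtPrime q) f₂
  have e₁ := Module.associatedPrimes.preimage_comap_associatedPrimes_eq_associatedPrimes_of_isLocalizedModule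
    (q.comap (algebraMap R S)).primeCompl (Localization.AtPrime q) f₁
  have hm₂ : (IsLocalRing.maximalIdeal (Localization.AtPrime q)).comap
      (algebraMap S (Localization.AtPrime q)) = q :=
    IsLocalization.AtPrime.comap_maximalIdeal (Localization.AtPrime q) q
  have hm₁ : (IsLocalRing.maximalIdeal (Localization.AtPrime q)).comap
      (algebraMap R (Localization.AtPrime q)) = q.comap (algebraMap R S) :=
    IsLocalization.AtPrime.comap_maximalIdeal (Localization.AtPrime q) (q.comap (algebraMap R S))
  have k₂ : IsLocalRing.maximalIdeal (Localization.AtPrime q) ∈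
      associatedPrimes (Localization.AtPrime q) ((Localization.AtPrime q) ⊗[S] (S ⊗[R] M)) ↔
      q ∈ associatedPrimes S (S ⊗[R] M) := by
    rw [← e₂, Set.mem_preimage, hm₂]
  have k₁ : IsLocalRing.maximalIdeal (Localization.AtPrime q) ∈
      associatedPrimes (Localization.AtPrime q) ((Localization.AtPrime q) ⊗[S] (S ⊗[R] M)) ↔
      q.comap (algebraMap R S) ∈ associatedPrimes R M := by
    rw [← e₁, Set.mem_preimage, hm₁]
  rw [← k₂, k₁]

theorem main (A B' B : Type u) [CommRing A] [CommRing B'] [CommRing B] [IsNoetherianRing A]
    [IsNoetherianRing B] [Algebra A B'] [Algebra B' B] [Algebra A B] [IsScalarTower A B' B]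
    (hf : QFDual.IsQFFactor A B' B) :
    associatedPrimes B (QFDual.omega A B' B) =
      {q : Ideal B | q.IsPrime ∧ q.comap (algebraMap A B) ∈ associatedPrimes A A} := by
  haveI := hf.finite
  haveI : IsNoetherianRing B' := isNoetherian_of_isNoetherianRing_of_finite A B' |> fun h => IsNoetherianRing.of_finite A B'
  have h2218 := Groth.Agent.S2218.result (A := A) (B := B')
  ext q
  constructor
  · intro hq
    haveI hqp : q.IsPrime := hq.isPrime
    refine ⟨hqp, ?_⟩
    have h1 := (ass_openImmersion hf.isOpenImmersion (Disc.Omega A B') q).1 hq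
    rw [h2218] at h1
    obtain ⟨_, h3⟩ := h1
    rwa [Ideal.comap_comap, ← IsScalarTower.algebraMap_eq] at h3
  · rintro ⟨hqp, hq⟩
    haveI := hqp
    refine (ass_openImmersion hf.isOpenImmersion (Disc.Omega A B') q).2 ?_
    rw [h2218]
    refine ⟨Ideal.comap_isPrime _ _, ?_⟩
    rwa [Ideal.comap_comap, ← IsScalarTower.algebraMap_eq]

end Aux

/-- Let A → B be a quasi-finite homomorphism of Noetherian rings, presented by writing it as a composite
A → B' → B, where the map A → B' is finite and the induced morphism Spec B → Spec B' is an open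
immersion, so that ω_{B/A} = B ⊗_{B'} Hom_A(B', A) (B' acting on Hom_A(B', A) through the argument).
Then Ass_B(ω_{B/A}) is the set of primes of B whose preimage in A is an associated prime of A. -/
theorem result (A B' B : Type u) [CommRing A] [CommRing B'] [CommRing B] [IsNoetherianRing A] [IsNoetherianRing B] [Algebra A B'] [Algebra B' B] [Algebra A B] [IsScalarTower A B' B] (hf : QFDual.IsQFFactor A B' B) : associatedPrimes B (QFDual.omega A B' B) = {q : Ideal B | q.IsPrime ∧ q.comap (algebraMap A B) ∈ associatedPrimes A A} := by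
  exact main A B' B hf

end Groth.Agent.S8971
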