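import Groth.Statements.S8975
import Mathlib

set_option autoImplicit false
universe u
open TensorProduct
open QFDual

namespace Groth.Agent.S8975


section Aux
open TensorProduct QFDual

variable {A B' C' : Type u} [CommRing A] [CommRing B'] [CommRing C'] [Algebra A B'] [Algebra A C']

def resB (φ : Disc.Omega A (B' × C')) : Disc.Omega A B' :=
  Disc.Omega.mk (φ.toLinearMap ∘ₗ LinearMap.inl A B' C')
def resC (φ : Disc.Omega A (B' × C')) : Disc.Omega A C' :=
  Disc.Omega.mk (φ.toLinearMap ∘ₗ LinearMap.inr A B' C')
def extB (ψ : Disc.Omega A B') : Disc.Omega A (B' × C') :=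
  Disc.Omega.mk (ψ.toLinearMap ∘ₗ LinearMap.fst A B' C')
def extC (ψ : Disc.Omega A C') : Disc.Omega A (B' × C') :=
  Disc.Omega.mk (ψ.toLinearMap ∘ₗ LinearMap.snd A B' C')

theorem resB_add (φ ψ : Disc.Omega A (B' × C')) : resB (φ + ψ) = resB φ + resB ψ := by
  ext x; simp [resB]
theorem resC_add (φ ψ : Disc.Omega A (B' × C')) : resC (φ + ψ) = resC φ + resC ψ := by
  ext x; simp [resC]
theorem extB_add (φ ψ : Disc.Omega A B') : extB (C' := C') (φ + ψ) = extB φ + extB ψ := by
  ext x <;> simp [extB]
theorem extC_add (φ ψ : Disc.Omega A C') : extC (B' := B') (φ + ψ) = extC φ + extC ψ := by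
  ext x <;> simp [extC]
theorem resB_smul (r : B' × C') (φ : Disc.Omega A (B' × C')) : resB (r • φ) = r.1 • resB φ := by
  ext x
  simp only [resB, LinearMap.coe_comp, Function.comp_apply, LinearMap.coe_inl,
    Disc.Omega.smul_toLinearMap_apply]
  congr 1
  ext <;> simp
theorem resC_smul (r : B' × C') (φ : Disc.Omega A (B' × C')) : resC (r • φ) = r.2 • resC φ := by
  ext x
  simp only [resC, LinearMap.coe_comp, Function.comp_apply, LinearMap.coe_inr,
    Disc.Omega.smul_toLinearMap_apply]
  congr 1
  ext <;> simp
theorem extB_smul (r : B') (ψ : Disc.Omega A B') :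
    extB (C' := C') (r • ψ) = ((r, 0) : B' × C') • extB ψ := by
  ext x <;> simp [extB]
theorem extC_smul (r : C') (ψ : Disc.Omega A C') :
    extC (B' := B') (r • ψ) = ((0, r) : B' × C') • extC ψ := by
  ext x <;> simp [extC]
theorem resB_extB (ψ : Disc.Omega A B') : resB (extB (C' := C') ψ) = ψ := by
  ext x; simp [resB, extB]
theorem resC_extC (ψ : Disc.Omega A C') : resC (extC (B' := B') ψ) = ψ := by
  ext x; simp [resC, extC]
theorem resB_extC (ψ : Disc.Omega A C') : resB (extC (B' := B') ψ) = 0 := by
  ext x; simp [resB, extC]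
theorem resC_extB (ψ : Disc.Omega A B') : resC (extB (C' := C') ψ) = 0 := by
  ext x; simp [resC, extB]
theorem e1_smul (φ : Disc.Omega A (B' × C')) : ((1, 0) : B' × C') • φ = extB (resB φ) := by
  ext x <;> simp [resB, extB]
theorem e2_smul (φ : Disc.Omega A (B' × C')) : ((0, 1) : B' × C') • φ = extC (resC φ) := by
  ext x <;> simp [resC, extC]

theorem resB_zero : resB (0 : Disc.Omega A (B' × C')) = 0 := by
  ext x; simp [resB]
theorem resC_zero : resC (0 : Disc.Omega A (B' × C')) = 0 := by
  ext x; simp [resC]
theorem extB_zero : extB (C' := C') (0 : Disc.Omega A B') = 0 := by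
  ext x <;> simp [extB]
theorem extC_zero : extC (B' := B') (0 : Disc.Omega A C') = 0 := by
  ext x <;> simp [extC]

variable {B C : Type u} [CommRing B] [CommRing C] [Algebra B' B] [Algebra C' C]
  [Algebra A B] [Algebra A C] [IsScalarTower A B' B] [IsScalarTower A C' C]
  [Algebra (B' × C') (B × C)] [IsScalarTower A (B' × C') (B × C)]

theorem smul_Q (halg : algebraMap (B' × C') (B × C) = (algebraMap B' B).prodMap (algebraMap C' C))
    (r : B' × C') (q : B × C) : r • q = (r.1 • q.1, r.2 • q.2) := by
  rw [Algebra.smul_def, halg]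
  ext <;> simp [Algebra.smul_def]

noncomputable def fwd
    (halg : algebraMap (B' × C') (B × C) = (algebraMap B' B).prodMap (algebraMap C' C)) :
    omega A (B' × C') (B × C) →+ omega A B' B × omega A C' C :=
  TensorProduct.liftAddHom
    { toFun := fun q =>
        { toFun := fun φ => (q.1 ⊗ₜ[B'] resB φ, q.2 ⊗ₜ[C'] resC φ)
          map_zero' := by simp [resB_zero, resC_zero]
          map_add' := fun φ ψ => by simp [resB_add, resC_add, tmul_add] }
      map_zero' := by ext φ <;> simp
      map_add' := fun q q' => by ext φ <;> simp [add_tmul] }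
    (fun r q φ => by
      simp only [AddMonoidHom.coe_mk, ZeroHom.coe_mk]
      rw [smul_Q halg, resB_smul, resC_smul]
      simp [TensorProduct.smul_tmul])

theorem fwd_tmul
    (halg : algebraMap (B' × C') (B × C) = (algebraMap B' B).prodMap (algebraMap C' C))
    (q : B × C) (φ : Disc.Omega A (B' × C')) :
    fwd halg (q ⊗ₜ[B' × C'] φ) = (q.1 ⊗ₜ[B'] resB φ, q.2 ⊗ₜ[C'] resC φ) := rfl

noncomputable def bwd1
    (halg : algebraMap (B' × C') (B × C) = (algebraMap B' B).prodMap (algebraMap C' C)) :
    omega A B' B →+ omega A (B' × C') (B × C) :=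
  TensorProduct.liftAddHom
    { toFun := fun b =>
        { toFun := fun ψ => ((b, 0) : B × C) ⊗ₜ[B' × C'] extB ψ
          map_zero' := by simp [extB_zero]
          map_add' := fun φ ψ => by simp [extB_add, tmul_add] }
      map_zero' := by
        ext φ
        simp only [AddMonoidHom.coe_mk, ZeroHom.coe_mk, AddMonoidHom.zero_apply]
        rw [show ((0, 0) : B × C) = 0 from rfl, zero_tmul]
      map_add' := fun q q' => by
        ext φ
        simp only [AddMonoidHom.coe_mk, ZeroHom.coe_mk, AddMonoidHom.add_apply]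
        rw [← add_tmul]
        congr 1
        ext <;> simp }
    (fun r b ψ => by
      simp only [AddMonoidHom.coe_mk, ZeroHom.coe_mk]
      rw [extB_smul, ← TensorProduct.smul_tmul, smul_Q halg]
      simp)

noncomputable def bwd2
    (halg : algebraMap (B' × C') (B × C) = (algebraMap B' B).prodMap (algebraMap C' C)) :
    omega A C' C →+ omega A (B' × C') (B × C) :=
  TensorProduct.liftAddHom
    { toFun := fun c =>
        { toFun := fun ψ => ((0, c) : B × C) ⊗ₜ[B' × C'] extC ψ
          map_zero' := by simp [extC_zero]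
          map_add' := fun φ ψ => by simp [extC_add, tmul_add] }
      map_zero' := by
        ext φ
        simp only [AddMonoidHom.coe_mk, ZeroHom.coe_mk, AddMonoidHom.zero_apply]
        rw [show ((0, 0) : B × C) = 0 from rfl, zero_tmul]
      map_add' := fun q q' => by
        ext φ
        simp only [AddMonoidHom.coe_mk, ZeroHom.coe_mk, AddMonoidHom.add_apply]
        rw [← add_tmul]
        congr 1
        ext <;> simp }
    (fun r c ψ => by
      simp only [AddMonoidHom.coe_mk, ZeroHom.coe_mk]
      rw [extC_smul, ← TensorProduct.smul_tmul, smul_Q halg]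
      simp)

theorem bwd1_tmul
    (halg : algebraMap (B' × C') (B × C) = (algebraMap B' B).prodMap (algebraMap C' C))
    (b : B) (ψ : Disc.Omega A B') :
    bwd1 (C := C) halg (b ⊗ₜ[B'] ψ) = ((b, 0) : B × C) ⊗ₜ[B' × C'] extB ψ := rfl

theorem bwd2_tmul
    (halg : algebraMap (B' × C') (B × C) = (algebraMap B' B).prodMap (algebraMap C' C))
    (c : C) (ψ : Disc.Omega A C') :
    bwd2 (B := B) halg (c ⊗ₜ[C'] ψ) = ((0, c) : B × C) ⊗ₜ[B' × C'] extC ψ := rfl

theorem fwd_bwd1
    (halg : algebraMap (B' × C') (B × C) = (algebraMap B' B).prodMap (algebraMap C' C))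
    (x : omega A B' B) : fwd halg (bwd1 (C := C) halg x) = (x, 0) := by
  induction x using TensorProduct.induction_on with
  | zero => simp; rfl
  | tmul b ψ =>
    rw [bwd1_tmul, fwd_tmul, resB_extB, resC_extB]
    simp
  | add x y hx hy =>
    rw [map_add, map_add, hx, hy]
    simp

theorem fwd_bwd2
    (halg : algebraMap (B' × C') (B × C) = (algebraMap B' B).prodMap (algebraMap C' C))
    (y : omega A C' C) : fwd halg (bwd2 (B := B) halg y) = (0, y) := by
  induction y using TensorProduct.induction_on with
  | zero => simp; rfl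
  | tmul c ψ =>
    rw [bwd2_tmul, fwd_tmul, resB_extC, resC_extC]
    simp
  | add x y hx hy =>
    rw [map_add, map_add, hx, hy]
    simp

theorem bwd_fwd
    (halg : algebraMap (B' × C') (B × C) = (algebraMap B' B).prodMap (algebraMap C' C))
    (t : omega A (B' × C') (B × C)) :
    bwd1 halg (fwd halg t).1 + bwd2 halg (fwd halg t).2 = t := by
  induction t using TensorProduct.induction_on with
  | zero => simp
  | tmul q φ =>
    rw [fwd_tmul]
    simp only
    rw [bwd1_tmul, bwd2_tmul, ← e1_smul, ← e2_smul, ← TensorProduct.smul_tmul,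
      ← TensorProduct.smul_tmul, smul_Q halg, smul_Q halg, ← add_tmul]
    congr 1
    ext <;> simp
  | add x y hx hy =>
    rw [map_add, Prod.fst_add, Prod.snd_add, map_add, map_add]
    rw [add_add_add_comm, hx, hy]

theorem fwd_smul
    (halg : algebraMap (B' × C') (B × C) = (algebraMap B' B).prodMap (algebraMap C' C))
    (a : A) (t : omega A (B' × C') (B × C)) : fwd halg (a • t) = a • fwd halg t := by
  induction t using TensorProduct.induction_on with
  | zero => simp
  | tmul q φ =>
    rw [TensorProduct.smul_tmul', fwd_tmul, fwd_tmul]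
    simp [TensorProduct.smul_tmul']
  | add x y hx hy =>
    rw [smul_add, map_add, map_add, hx, hy, smul_add]

theorem main
    (halg : algebraMap (B' × C') (B × C) = (algebraMap B' B).prodMap (algebraMap C' C)) :
    ∃ e : QFDual.omega A (B' × C') (B × C) ≃ₗ[A] QFDual.omega A B' B × QFDual.omega A C' C,
      ∀ (b : B) (c : C) (φ : Disc.Omega A (B' × C')),
        e ((b, c) ⊗ₜ[B' × C'] φ) =
          (b ⊗ₜ[B'] Disc.Omega.mk (φ.toLinearMap ∘ₗ LinearMap.inl A B' C'),
            c ⊗ₜ[C'] Disc.Omega.mk (φ.toLinearMap ∘ₗ LinearMap.inr A B' C')) := by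
  refine ⟨AddEquiv.toLinearEquiv
    { toFun := fwd halg
      invFun := fun p => bwd1 halg p.1 + bwd2 halg p.2
      left_inv := bwd_fwd halg
      right_inv := fun p => by
        rw [map_add, fwd_bwd1, fwd_bwd2]
        ext <;> simp
      map_add' := map_add _ } (fwd_smul halg), ?_⟩
  intro b c φ
  rfl

end Aux

/-- The relative dualizing module of a product. Suppose A, B, C are Noetherian rings and the ring maps A
→ B, A → C are quasi-finite, presented by factorizations A → B' → B and A → C' → C with A → B', A →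
C' finite and Spec B → Spec B', Spec C → Spec C' open immersions, and let B × C carry the product
algebra structure over B' × C' (so that A → B' × C' → B × C is a factorization of the same kind).
Then ω_{(B × C)/A} = (B × C) ⊗_{B' × C'} Hom_A(B' × C', A) is identified with ω_{B/A} × ω_{C/A}:
there is an A-linear isomorphism sending (b, c) ⊗ φ to (b ⊗ φ∘ι_{B'}, c ⊗ φ∘ι_{C'}), where ι_{B'},
ι_{C'} are the inclusions of the factors; this formula determines the isomorphism and makes it (B ×
C)-linear. -/
theorem result (A B' B C' C : Type u) [CommRing A] [CommRing B'] [CommRing B] [CommRing C'] [CommRing C] [IsNoetherianRing A] [IsNoetherianRing B] [IsNoetherianRing C] [Algebra A B'] [Algebra B' B] [Algebra A B] [IsScalarTower A B' B] [Algebra A C'] [Algebra C' C] [Algebra A C] [IsScalarTower A C' C] (hB : QFDual.IsQFFactor A B' B) (hC : QFDual.IsQFFactor A C' C) [Algebra (B' × C') (B × C)] [IsScalarTower A (B' × C') (B × C)] (halg : algebraMap (B' × C') (B × C) = (algebraMap B' B).prodMap (algebraMap C' C)) : ∃ e : QFDual.omega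 A (B' × C') (B × C) ≃ₗ[A] QFDual.omega A B' B × QFDual.omega A C' C, ∀ (b : B) (c : C) (φ : Disc.Omega A (B' × C')), e ((b, c) ⊗ₜ[B' × C'] φ) = (b ⊗ₜ[B'] Disc.Omega.mk (φ.toLinearMap ∘ₗ LinearMap.inl A B' C'), c ⊗ₜ[C'] Disc.Omega.mk (φ.toLinearMap ∘ₗ LinearMap.inr A B' C')) := by
  exact main halg

end Groth.Agent.S8975
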