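import Groth.Statements.S8979
import Mathlib

set_option autoImplicit false
universe u
open HTop

namespace Groth.Agent.S8979
open CategoryTheory CategoryTheory.Limits AlgebraicGeometry Opposite

section helpers



lemma val_lift {X Y : Scheme.{u}} (f : Y ⟶ X) [IsProper f] [Surjective f] (V : CommRingCat.{u})
    [IsDomain V] [ValuationRing V] (g : Spec V ⟶ X) :
    ∃ (W : CommRingCat.{u}) (_ : IsDomain W) (_ : ValuationRing W) (φ : V ⟶ W),
      HTop.IsExtVal V W φ ∧ ∃ l : Spec W ⟶ Y, l ≫ f = Spec.map φ ≫ g := by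
  let η : Spec V := (⟨⊥, Ideal.isPrime_bot⟩ : PrimeSpectrum V)
  obtain ⟨y, hy⟩ := f.surjective (g η)
  obtain ⟨z, hz1, hz2⟩ := Scheme.Pullback.exists_preimage_pullback (f := g) (g := f) η y hy.symm
  let P := pullback g f
  let L := P.residueField z
  let t : Spec L ⟶ Spec V := P.fromSpecResidueField z ≫ pullback.fst g f
  let ψ : V ⟶ L := Spec.preimage t
  have hψ : Spec.map ψ = t := Spec.map_preimage t
  have hinj : Function.Injective ψ.hom := by
    rw [RingHom.injective_iff_ker_eq_bot]
    let pt : Spec L := IsLocalRing.closedPoint L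
    have h1 : (Spec.map ψ) pt = η := by
      rw [hψ]
      show pullback.fst g f (P.fromSpecResidueField z pt) = η
      rw [Scheme.fromSpecResidueField_apply, hz1]
    have h2 : ((Spec.map ψ) pt).asIdeal = Ideal.comap ψ.hom pt.asIdeal := rfl
    have h3 : pt.asIdeal = ⊥ := by
      show IsLocalRing.maximalIdeal L = ⊥
      exact IsLocalRing.maximalIdeal_eq_bot
    rw [h1, h3] at h2
    exact h2.symm
  obtain ⟨W, hW, hloc⟩ := IsLocalRing.exists_factor_valuationRing ψ.hom
  let φ : V ⟶ CommRingCat.of W := CommRingCat.ofHom (ψ.hom.codRestrict W.toSubring hW)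
  have hφψ : φ ≫ CommRingCat.ofHom (algebraMap W L) = ψ := by
    ext v; rfl
  refine ⟨CommRingCat.of W, inferInstance, inferInstance, φ, ⟨?_, hloc⟩, ?_⟩
  · intro a b hab
    apply hinj
    exact congrArg Subtype.val hab
  · have hE : ValuativeCriterion.Existence f :=
      (UniversallyClosed.eq_valuativeCriterion ▸
        (inferInstance : UniversallyClosed f) : (ValuativeCriterion.Existence ⊓ @QuasiCompact) f).1
    have w : (P.fromSpecResidueField z ≫ pullback.snd g f) ≫ f =
        Spec.map (CommRingCat.ofHom (algebraMap W L)) ≫ (Spec.map φ ≫ g) := by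
      rw [← Category.assoc, ← Spec.map_comp, hφψ, hψ, Category.assoc, Category.assoc,
        pullback.condition]
    obtain ⟨l, hl₁, hl₂⟩ := (hE { R := W, K := L, commSq := ⟨w⟩, .. }).exists_lift
    exact ⟨l, hl₂⟩



end helpers

open CategoryTheory CategoryTheory.Limits AlgebraicGeometry in
/-- A surjective proper morphism of finite presentation, as a one-member family, is an h covering of its
target. -/
theorem result {X Y : Scheme.{u}} (f : Y ⟶ X) [IsProper f] [Surjective f] [LocallyOfFinitePresentation f] : HTop.IsHCover (PreZeroHypercover.singleton.{0} f) := by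
  refine ⟨fun i => (inferInstance : LocallyOfFinitePresentation f), ?_⟩
  intro U
  have hc : IsCompact ((f ⁻¹ᵁ U.1 : Y.Opens) : Set Y) :=
    QuasiCompact.isCompact_preimage (f := f) _ U.1.isOpen U.2.isCompact
  obtain ⟨s, hs, hsU⟩ := isCompact_iff_finite_and_eq_biUnion_affineOpens.mp hc
  have : Finite s := hs
  let n := Nat.card s
  let e : Fin n ≃ s := (Finite.equivFin s).symm
  have hle : ∀ j : Fin n, (((e j : s) : Y.affineOpens) : Y.Opens) ≤ f ⁻¹ᵁ U.1 := by
    intro j
    rw [hsU]
    exact le_iSup₂ (f := fun (i : Y.affineOpens) (_ : i ∈ s) => (i : Y.Opens)) (e j).1 (e j).2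
  let F : PreZeroHypercover.{0} ((U : X.Opens) : Scheme.{u}) :=
    { I₀ := Fin n
      X := fun j => ((((e j : s) : Y.affineOpens) : Y.Opens) : Scheme.{u})
      f := fun j => f.resLE U.1 (e j).1.1 (hle j) }
  have hUaff : IsAffine ((U : X.Opens) : Scheme.{u}) := U.2
  refine ⟨F, ⟨hUaff, (inferInstance : Finite (Fin n)), fun j => (e j).1.2, ?_⟩, ?_⟩
  · -- HasValLift
    intro V _ _ g
    obtain ⟨W, hWd, hWv, φ, hφ, l, hl⟩ := val_lift f V (g ≫ U.1.ι)
    refine ⟨W, hWd, hWv, φ, hφ, ?_⟩
    let c : Spec W := IsLocalRing.closedPoint W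
    have hlc : l c ∈ f ⁻¹ᵁ U.1 := by
      show f (l c) ∈ U.1
      have : f (l c) = U.1.ι ((Spec.map φ ≫ g) c) := by
        have h1 : f (l c) = (l ≫ f) c := rfl
        rw [h1, hl]
        rfl
      rw [this]
      exact Subtype.property _
    rw [hsU] at hlc
    obtain ⟨i, hi, hci⟩ : ∃ i ∈ s, l c ∈ ((i : Y.affineOpens) : Y.Opens) := by
      simpa [TopologicalSpace.Opens.mem_iSup] using hlc
    let j : Fin n := e.symm ⟨i, hi⟩
    have hj : (((e j : s) : Y.affineOpens) : Y.Opens) = i := by simp [j]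
    have hrange : Set.range l.base ⊆ ((((e j : s) : Y.affineOpens) : Y.Opens) : Set Y) := by
      rintro _ ⟨w, rfl⟩
      have hsp : w ⤳ c := IsLocalRing.specializes_closedPoint w
      have h2 := hsp.map l.continuous
      exact h2.mem_open (TopologicalSpace.Opens.isOpen _) (by rw [hj]; exact hci)
    let g' : Spec W ⟶ F.X j := IsOpenImmersion.lift ((e j).1.1.ι) l
      (by rw [Scheme.Opens.range_ι]; exact hrange)
    have hg' : g' ≫ (e j).1.1.ι = l := IsOpenImmersion.lift_fac _ _ _
    refine ⟨j, g', ?_⟩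
    rw [← cancel_mono U.1.ι]
    show (g' ≫ f.resLE _ _ _) ≫ U.1.ι = _
    rw [Category.assoc, Scheme.Hom.resLE_comp_ι, ← Category.assoc, hg', hl, Category.assoc]
  · -- RefinesOver
    intro j
    refine ⟨PUnit.unit, (e j).1.1.ι, ?_⟩
    show (e j).1.1.ι ≫ f = f.resLE _ _ _ ≫ U.1.ι
    rw [Scheme.Hom.resLE_comp_ι]

end Groth.Agent.S8979
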