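import Groth.Statements.S8980
import Mathlib
import Groth.Agent.S7473
import Groth.Agent.Lib.helper11.VCover

set_option autoImplicit false
universe u
open HTop

namespace Groth.Agent.S8980
open CategoryTheory CategoryTheory.Limits AlgebraicGeometry Opposite HTop

section helpers


universe w w'

set_option backward.isDefEq.respectTransparency false in
instance lfpLocalSrc : IsZariskiLocalAtSource (@LocallyOfFinitePresentation.{u}) :=
  HasRingHomProperty.instIsZariskiLocalAtSource (Q := RingHom.FinitePresentation)

lemma isVCover_of_hom {T : Scheme.{u}} (E : PreZeroHypercover.{w} T) (E' : PreZeroHypercover.{w'} T)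
    (φ : E.Hom E') (hE : IsVCover E) : IsVCover E' := by
  intro U
  obtain ⟨F, hF, hr⟩ := hE U
  exact ⟨F, hF, hr.of_hom φ⟩



end helpers

open CategoryTheory CategoryTheory.Limits AlgebraicGeometry in
/-- A family of morphisms T_i → T, indexed by a type in the universe of T and all locally of finite
presentation, is an h covering if and only if the one-member family given by the induced morphism
from the coproduct of the T_i to T is an h covering. (The published statement also lists, as a
further equivalent condition, that some h covering refines the family; that equivalence is immediate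
from the definitions and is not restated here.) -/
theorem result {T : Scheme.{u}} (E : PreZeroHypercover.{u} T) (hE : ∀ i, LocallyOfFinitePresentation (E.f i)) : HTop.IsHCover E ↔ HTop.IsHCover (PreZeroHypercover.singleton.{0} (Sigma.desc E.f)) := by
  constructor
  · rintro ⟨_, hV⟩
    refine ⟨fun _ => ?_, isVCover_of_hom E _
      ⟨fun _ => PUnit.unit, fun i => Sigma.ι E.X i, fun i => ?_⟩ hV⟩
    · show LocallyOfFinitePresentation (Sigma.desc E.f)
      exact IsZariskiLocalAtSource.sigmaDesc hE
    · exact Sigma.ι_desc _ _
  · rintro ⟨_, hV⟩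
    refine ⟨hE, ?_⟩
    let E₀ : PreZeroHypercover.{u} T := PreZeroHypercover.singleton (Sigma.desc E.f)
    have h0 : IsVCover E₀ := isVCover_of_hom
      (PreZeroHypercover.singleton.{0} (Sigma.desc E.f)) E₀
      ⟨fun _ => PUnit.unit, fun _ => 𝟙 _, fun _ => Category.id_comp _⟩ hV
    let 𝒰 : Scheme.Cover Scheme.fpqcPrecoverage (∐ E.X) :=
      ⟨(sigmaOpenCover E.X).toPreZeroHypercover,
        Scheme.zariskiPrecoverage_le_fpqcPrecoverage _ (sigmaOpenCover E.X).mem₀⟩
    have h1 : IsVCover 𝒰.toPreZeroHypercover := Groth.Agent.S7473.result 𝒰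
    have h2 := Groth.Agent.Lib.helper11.VCover.isVCover_bind E₀ h0
      (fun _ => 𝒰.toPreZeroHypercover) (fun _ => h1)
    refine isVCover_of_hom (E₀.bind (fun _ => 𝒰.toPreZeroHypercover)) E
      ⟨fun p => p.2, fun p => 𝟙 (E.X p.2), fun p => ?_⟩ h2
    have e1 : (E₀.bind (fun _ => 𝒰.toPreZeroHypercover)).f p =
        Sigma.ι E.X p.2 ≫ Sigma.desc E.f := rfl
    have e2 : 𝟙 (E.X p.2) ≫ E.f p.2 = E.f p.2 := Category.id_comp _
    exact e2.trans ((Sigma.ι_desc _ _).symm.trans e1.symm)

end Groth.Agent.S8980
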