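import Groth.Statements.S8988
import Mathlib
import Groth.Agent.S8979

set_option autoImplicit false
universe u
open HTop

namespace Groth.Agent.S8988
open CategoryTheory CategoryTheory.Limits AlgebraicGeometry Opposite HTop

section helpers


universe v w

lemma bij_of_mono_cover {C : Type*} [Category C] (J : GrothendieckTopology C)
    (F : Sheaf J (Type v)) {X X' : C} (f : X ⟶ X') [Mono f]
    (hf : Sieve.generate (Presieve.singleton f) ∈ J X') : Function.Bijective (F.obj.map f.op) := by
  have h1 : Presieve.IsSheafFor F.obj (Sieve.generate (Presieve.singleton f)).arrows :=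
    Presheaf.IsSheaf.isSheafFor F.property _ hf
  have h2 : Presieve.IsSheafFor F.obj (Presieve.singleton f) :=
    (Presieve.isSheafFor_iff_generate _).mpr h1
  rw [Presieve.isSheafFor_singleton] at h2
  have compat : ∀ x : F.obj.obj (op X), ∀ {Z : C} (p₁ p₂ : Z ⟶ X), p₁ ≫ f = p₂ ≫ f →
      F.obj.map p₁.op x = F.obj.map p₂.op x := by
    intro x Z p₁ p₂ h
    rw [(cancel_mono f).mp h]
  constructor
  · intro y₁ y₂ h
    obtain ⟨t, -, ht⟩ := h2 (F.obj.map f.op y₁) (compat _)
    rw [ht y₁ rfl, ht y₂ h.symm]
  · intro x
    obtain ⟨t, ht, -⟩ := h2 x (compat x)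
    exact ⟨t, ht⟩

lemma over_mem {S : Scheme.{u}} (J : GrothendieckTopology Scheme.{u}) {X X' : Over S} (f : X ⟶ X')
    (hf : Sieve.generate (Presieve.singleton f.left) ∈ J X'.left) :
    Sieve.generate (Presieve.singleton f) ∈ (J.over S) X' := by
  rw [GrothendieckTopology.mem_over_iff, Sieve.overEquiv_generate]
  refine J.superset_covering ?_ hf
  rw [Sieve.generate_le_iff]
  rintro Z g ⟨⟩
  have h0 : Presieve.functorPushforward (Over.forget S) (Presieve.singleton f) f.left :=
    ⟨X, f, 𝟙 _, Presieve.singleton.mk, (Category.id_comp _).symm⟩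
  exact Sieve.le_generate _ _ _ h0



end helpers

open CategoryTheory CategoryTheory.Limits AlgebraicGeometry Opposite in
/-- An h sheaf on schemes over S takes the same sections on an S-scheme and on any thickening of it of
finite presentation. -/
theorem result (S : Scheme.{u}) (F : HTop.ShH S) {X X' : Over S} (f : X ⟶ X') (hf : MoreMor.IsThickening f.left) [LocallyOfFinitePresentation f.left] : Function.Bijective (F.obj.map f.op) := by
  obtain ⟨hci, hsurj⟩ := hf
  have : Mono f.left := inferInstance
  have : Mono f := Over.mono_of_mono_left f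
  apply bij_of_mono_cover (HTop.Jh S) F f
  apply over_mem
  apply Precoverage.generate_mem_toGrothendieck
  have := (HTop.presieve₀_mem_hPrecoverage_iff (PreZeroHypercover.singleton.{0} f.left)).mpr
    (Groth.Agent.S8979.result f.left)
  rwa [PreZeroHypercover.presieve₀_singleton] at this

end Groth.Agent.S8988
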