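import Groth.Statements.S8991
import Mathlib
import Groth.Agent.S8988

set_option autoImplicit false
universe u
open HTop

namespace Groth.Agent.S8991
open CategoryTheory CategoryTheory.Limits AlgebraicGeometry Opposite HTop

section helpers



lemma ph_of_thickening {X X' : Scheme.{u}} (f : X ⟶ X') [IsClosedImmersion f] [Surjective f] :
    HTop.IsPhCover (PreZeroHypercover.singleton.{0} f) := by
  refine ⟨fun _ => (inferInstance : LocallyOfFiniteType f), ?_⟩
  intro U
  have hW : IsAffineOpen (f ⁻¹ᵁ U.1) := U.2.preimage f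
  have hUaff : IsAffine ((U : X'.Opens) : Scheme.{u}) := U.2
  have hWaff : IsAffine ((f ⁻¹ᵁ U.1 : X.Opens) : Scheme.{u}) := hW
  have hsurj : Surjective (f ∣_ U.1) :=
    MorphismProperty.of_isPullback (P := @Surjective) (isPullback_morphismRestrict f U.1).flip
      inferInstance
  refine ⟨PreZeroHypercover.singleton.{0} (f ∣_ U.1), ⟨hUaff, (inferInstance : Finite PUnit.{1}),
    fun _ => hWaff, ?_⟩, ?_⟩
  · refine ⟨((f ⁻¹ᵁ U.1 : X.Opens) : Scheme.{u}), f ∣_ U.1, fun _ => 𝟙 _, inferInstance,
      hsurj, fun _ => (inferInstance : IsOpenImmersion (𝟙 _)), fun _ => Category.id_comp _,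
      fun x => ⟨PUnit.unit, x, rfl⟩⟩
  · intro j
    exact ⟨PUnit.unit, (f ⁻¹ᵁ U.1).ι, (morphismRestrict_ι f U.1).symm⟩



end helpers

open CategoryTheory CategoryTheory.Limits AlgebraicGeometry Opposite in
/-- A ph sheaf on schemes over S takes the same sections on an S-scheme and on any thickening of it. -/
theorem result (S : Scheme.{u}) (F : HTop.ShPh S) {X X' : Over S} (f : X ⟶ X') (hf : MoreMor.IsThickening f.left) : Function.Bijective (F.obj.map f.op) := by
  obtain ⟨hci, hsurj⟩ := hf
  have : Mono f.left := inferInstance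
  have : Mono f := Over.mono_of_mono_left f
  apply Groth.Agent.S8988.bij_of_mono_cover (HTop.Jph S) F f
  apply Groth.Agent.S8988.over_mem
  apply Precoverage.generate_mem_toGrothendieck
  have := (HTop.presieve₀_mem_phPrecoverage_iff (PreZeroHypercover.singleton.{0} f.left)).mpr
    (ph_of_thickening f.left)
  rwa [PreZeroHypercover.presieve₀_singleton] at this

end Groth.Agent.S8991
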