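import Groth.Statements.S8992
import Mathlib

set_option autoImplicit false
universe u
open HTop

namespace Groth.Agent.S8992

/-- An algebra over the prime field with p elements is absolutely weakly normal if and only if its p-th
power map is bijective (the algebra is perfect). -/
theorem result (p : ℕ) [Fact p.Prime] (A : Type u) [CommRing A] [Algebra (ZMod p) A] : HTop.IsAWNRing A ↔ PerfectRing A p := by
  have hp : p.Prime := Fact.out
  have hpA : (p : A) = 0 := by
    have h := congrArg (algebraMap (ZMod p) A) (ZMod.natCast_self p)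
    rwa [map_natCast, map_zero] at h
  constructor
  · rintro ⟨-, hℓ⟩
    have H := hℓ p hp
    have h00 : ∀ x : A, (p : A) ^ p * x = (0 : A) ^ p := fun x => by
      rw [hpA, zero_pow hp.ne_zero, zero_mul]
    refine ⟨⟨?_, ?_⟩⟩
    · intro a b hab
      have hab' : a ^ p = b ^ p := hab
      exact (H (a ^ p) 0 (h00 _)).unique ⟨rfl, by rw [hpA, zero_mul]⟩
        ⟨hab', by rw [hpA, zero_mul]⟩
    · intro x
      obtain ⟨a, ⟨ha, -⟩, -⟩ := H x 0 (h00 x)
      exact ⟨a, ha.symm⟩
  · intro hperf
    have inj : ∀ a b : A, a ^ p = b ^ p → a = b := fun a b h => hperf.bijective_frobenius.1 h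
    have surj : ∀ x : A, ∃ a : A, a ^ p = x := fun x => hperf.bijective_frobenius.2 x
    have hred : ∀ (n : ℕ) (z : A), z ^ n = 0 → z = 0 := by
      intro n z hz
      have hk : ∀ k : ℕ, z ^ (p ^ k) = 0 → z = 0 := by
        intro k
        induction k with
        | zero => intro h; simpa using h
        | succ k ih =>
          intro h
          apply ih
          apply inj
          rw [← pow_mul, ← pow_succ, h, zero_pow hp.ne_zero]
      apply hk n
      have hle : n ≤ p ^ n := (Nat.lt_pow_self hp.one_lt).le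
      rw [← Nat.sub_add_cancel hle, pow_add, hz, mul_zero]
    refine ⟨?_, ?_⟩
    · intro x y hxy
      obtain ⟨u, v, huv⟩ : ∃ u v : ℕ, 3 * u + 2 * v = p := by
        rcases hp.eq_two_or_odd with h | h
        · exact ⟨0, 1, by omega⟩
        · exact ⟨1, (p - 3) / 2, by have := hp.two_le; omega⟩
      obtain ⟨a, ha⟩ := surj (y ^ u * x ^ v)
      have h2 : a ^ 2 = x := by
        apply inj
        calc (a ^ 2) ^ p = (a ^ p) ^ 2 := by ring
          _ = (y ^ 2) ^ u * x ^ (2 * v) := by rw [ha]; ring
          _ = x ^ (3 * u + 2 * v) := by rw [← hxy]; ring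
          _ = x ^ p := by rw [huv]
      have h3 : a ^ 3 = y := by
        apply inj
        calc (a ^ 3) ^ p = (a ^ p) ^ 3 := by ring
          _ = y ^ (3 * u) * (x ^ 3) ^ v := by rw [ha]; ring
          _ = y ^ (3 * u + 2 * v) := by rw [hxy]; ring
          _ = y ^ p := by rw [huv]
      refine ⟨a, ⟨h2.symm, h3.symm⟩, ?_⟩
      rintro b ⟨hb2, hb3⟩
      have e2 : b ^ 2 = a ^ 2 := by rw [← hb2, h2]
      have e3 : b ^ 3 = a ^ 3 := by rw [← hb3, h3]
      have hz : (b - a) ^ 3 = 0 := by linear_combination 4 * e3 - 3 * (b + a) * e2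
      have := hred 3 (b - a) hz
      exact sub_eq_zero.mp this
    · intro ℓ hℓ x y hxy
      by_cases hℓp : ℓ = p
      · rw [hℓp] at hxy ⊢
        rw [hpA, zero_pow hp.ne_zero, zero_mul] at hxy
        have hy : y = 0 := hred p y hxy.symm
        obtain ⟨a, ha⟩ := surj x
        refine ⟨a, ⟨ha.symm, by rw [hy, hpA, zero_mul]⟩, ?_⟩
        rintro b ⟨hb, -⟩
        exact inj b a (by rw [← hb, ha])
      · have hunit : IsUnit ((ℓ : ℕ) : A) := by
          have h1 : ((ℓ : ℕ) : ZMod p) ≠ 0 := by
            intro h0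
            have hdvd := (ZMod.natCast_eq_zero_iff ℓ p).mp h0
            exact hℓp ((Nat.prime_dvd_prime_iff_eq hp hℓ).mp hdvd).symm
          have h2 : IsUnit (((ℓ : ℕ) : ZMod p)) := isUnit_iff_ne_zero.mpr h1
          have h3 := h2.map (algebraMap (ZMod p) A)
          rwa [map_natCast] at h3
        obtain ⟨c, hc⟩ := hunit.exists_right_inv
        refine ⟨c * y, ⟨?_, ?_⟩, ?_⟩
        · calc x = ((ℓ : A) * c) ^ ℓ * x := by rw [hc, one_pow, one_mul]
            _ = c ^ ℓ * ((ℓ : A) ^ ℓ * x) := by ring
            _ = (c * y) ^ ℓ := by rw [hxy]; ring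
        · calc y = ((ℓ : A) * c) * y := by rw [hc, one_mul]
            _ = (ℓ : A) * (c * y) := by ring
        · rintro b ⟨-, hb⟩
          calc b = ((ℓ : A) * c) * b := by rw [hc, one_mul]
            _ = c * ((ℓ : A) * b) := by ring
            _ = c * y := by rw [← hb]

end Groth.Agent.S8992
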