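import Groth.Statements.S8993
import Groth.Agent.Lib.helper11.CharPUH
import Groth.Agent.Lib.helper11.FPColim
import Groth.Agent.S14254
import Mathlib.FieldTheory.IsPerfectClosure

set_option autoImplicit false
universe u
open HTop

namespace Groth.Agent.S8993


open Groth.Agent.Lib.helper11.UnivHomeo Groth.Agent.Lib.helper11.UHRing
open Groth.Agent.Lib.helper11.CharPUH Groth.Agent.Lib.helper11.FPColim

/-- For a ring A of prime characteristic p, the map from A to the direct limit of A along Frobenius (the
perfect closure) is an absolute weak normalization of A. (The published statement also identifies,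
over a base of characteristic p, the h sheafification of the structure sheaf on quasi-compact
quasi-separated objects with this colimit; that part is not stated here.) -/
theorem result (p : ℕ) [Fact p.Prime] (A : Type u) [CommRing A] [CharP A p] : HTop.IsRingAWN (PerfectClosure.of A p) := by

  have hp : Fact p.Prime := inferInstance
  have hker : ∀ a, PerfectClosure.of A p a = 0 → IsNilpotent a := fun a ha => by
    have := IsPRadical.ker_le (PerfectClosure.of A p) p (RingHom.mem_ker.mpr ha)
    rw [mem_pNilradical] at this
    obtain ⟨n, hn⟩ := this
    exact ⟨_, hn⟩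
  have hUH : UH (PerfectClosure.of A p) := by
    refine uh_of_pow_mem p _ hker ?_
    intro x
    obtain ⟨n, y, hy⟩ := IsPRadical.pow_mem (PerfectClosure.of A p) p x
    exact ⟨n, y, hy⟩
  refine ⟨hUH, ?_⟩
  intro C _ ψ hψ
  have hψ' := (uh_iff ψ).mp hψ
  haveI : Nontrivial A := CharP.nontrivial_of_char_ne_one (R := A) hp.out.ne_one
  haveI : Nontrivial C := by
    by_contra hcon
    rw [not_nontrivial_iff_subsingleton] at hcon
    have h1 : IsNilpotent (1 : A) := hψ'.2.2 1 (Subsingleton.elim _ _)
    obtain ⟨n, hn⟩ := h1
    rw [one_pow] at hn
    exact one_ne_zero hn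
  haveI : CharP C p := by
    rw [CharP.charP_iff_prime_eq_zero hp.out]
    have : (p : C) = ψ (p : A) := by rw [map_natCast]
    rw [this, CharP.cast_eq_zero A p, map_zero]
  let φ' : PerfectClosure A p →+* PerfectClosure C p :=
    PerfectClosure.lift A p (PerfectClosure C p) ((PerfectClosure.of C p).comp ψ)
  have hφ' : φ'.comp (PerfectClosure.of A p) = (PerfectClosure.of C p).comp ψ :=
    (PerfectClosure.lift A p (PerfectClosure C p)).symm_apply_apply _
  have hbij : Function.Bijective φ' :=
    (Groth.Agent.S14254.result p ψ (PerfectClosure.of A p) (PerfectClosure.of C p) φ' hφ').mp hψ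
  let e := RingEquiv.ofBijective φ' hbij
  refine ⟨(e.symm : PerfectClosure C p →+* PerfectClosure A p).comp (PerfectClosure.of C p), ?_, ?_⟩
  · ext a
    have := congrArg (fun f : A →+* PerfectClosure C p => f a) hφ'
    simp only [RingHom.comp_apply] at this ⊢
    rw [← this]
    exact e.symm_apply_apply (PerfectClosure.of A p a)
  · intro χ hχ
    ext c
    have hnil := nilpotent_sub_of_uh ψ hψ χ
      ((e.symm : PerfectClosure C p →+* PerfectClosure A p).comp (PerfectClosure.of C p)) (by
        rw [hχ]
        ext a
        have := congrArg (fun f : A →+* PerfectClosure C p => f a) hφ'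
        simp only [RingHom.comp_apply] at this ⊢
        rw [← this]
        exact (e.symm_apply_apply (PerfectClosure.of A p a)).symm) c
    exact sub_eq_zero.mp (IsReduced.eq_zero _ hnil)

end Groth.Agent.S8993
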