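import Groth.Statements.S8995
import Mathlib
import Groth.Agent.S1412
import Groth.Agent.Lib.helper22.FlatDiagU

set_option autoImplicit false
universe v u
open FlatMor

namespace Groth.Agent.S8995

section Helpers

open CategoryTheory CategoryTheory.Limits AlgebraicGeometry TensorProduct

theorem flat_of_WE {A B : Type u} [CommRing A] [CommRing B] [Algebra A B]
    (h : Groth.Agent.S1412.WE (algebraMap A B)) (M : Type v) [AddCommGroup M] [Module B M]
    [Module A M] [IsScalarTower A B M] [Module.Flat A M] : Module.Flat B M := by
  have heq : (algebraMap A B).toAlgebra = (inferInstance : Algebra A B) :=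
    Algebra.algebra_ext _ _ (fun _ => rfl)
  unfold Groth.Agent.S1412.WE at h
  rw [heq] at h
  exact Groth.Agent.H22.FlatDiagU.flat_of_flat_lmul A B h.flat_lmul' M

theorem main {T S : Scheme.{u}} (g : T ⟶ S) [Etale g] (t : T) (M : Type v) [AddCommGroup M]
    [Module (T.presheaf.stalk t) M] [Algebra (S.presheaf.stalk (g.base t)) (T.presheaf.stalk t)]
    [Module (S.presheaf.stalk (g.base t)) M]
    [IsScalarTower (S.presheaf.stalk (g.base t)) (T.presheaf.stalk t) M]
    (halg : algebraMap (S.presheaf.stalk (g.base t)) (T.presheaf.stalk t) = (g.stalkMap t).hom) :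
    Module.Flat (S.presheaf.stalk (g.base t)) M ↔ Module.Flat (T.presheaf.stalk t) M := by
  have hWE : Groth.Agent.S1412.WE (g.stalkMap t).hom :=
    (Groth.Agent.S1412.main g).mp inferInstance t
  rw [← halg] at hWE
  constructor
  · intro h
    exact flat_of_WE hWE M
  · intro h
    have hfl : (g.stalkMap t).hom.Flat := Flat.stalkMap g t
    rw [← halg] at hfl
    haveI : Module.Flat (S.presheaf.stalk (g.base t)) (T.presheaf.stalk t) :=
      RingHom.flat_algebraMap_iff.mp hfl
    exact Module.Flat.trans (S.presheaf.stalk (g.base t)) (T.presheaf.stalk t) M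

end Helpers

open CategoryTheory CategoryTheory.Limits AlgebraicGeometry in
/-- For an etale morphism T → S and a point t of T over s, a module over the local ring of T at t is
flat over the local ring of S at s (through the stalk map) if and only if it is flat over the local
ring of T at t. -/
theorem result {T S : Scheme.{u}} (g : T ⟶ S) [Etale g] (t : T) (M : Type v) [AddCommGroup M] [Module (T.presheaf.stalk t) M] [Algebra (S.presheaf.stalk (g.base t)) (T.presheaf.stalk t)] [Module (S.presheaf.stalk (g.base t)) M] [IsScalarTower (S.presheaf.stalk (g.base t)) (T.presheaf.stalk t) M] (halg : algebraMap (S.presheaf.stalk (g.base t)) (T.presheaf.stalk t) = (g.stalkMap t).hom) : Module.Flat (S.presheaf.stalk (g.base t)) M ↔ Module.Flat (T.presheaf.stalk t) M := by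
  exact main g t M halg

end Groth.Agent.S8995
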