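import Groth.Statements.S9005
import Mathlib


set_option autoImplicit false
universe u
open FlatMor

attribute [local instance] Algebra.TensorProduct.rightAlgebra

namespace Groth.Agent.S9005aux
open TensorProduct

theorem smul_mem_of_mem_map {Λ Γ : Type u} [CommRing Λ] [CommRing Γ] [Algebra Λ Γ] (t : Ideal Λ)
    (M : Type u) [AddCommGroup M] [Module Γ M] [Module Λ M] [IsScalarTower Λ Γ M] :
    ∀ a ∈ t.map (algebraMap Λ Γ), ∀ n : M, a • n ∈ (t • ⊤ : Submodule Λ M) := by
  intro a ha
  induction ha using Submodule.span_induction with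
  | mem x hx =>
    obtain ⟨r, hr, rfl⟩ := hx
    intro n
    rw [algebraMap_smul]
    exact Submodule.smul_mem_smul hr trivial
  | zero => intro n; simp
  | add x y _ _ hx hy => intro n; rw [add_smul]; exact add_mem (hx n) (hy n)
  | smul b x _ hx => intro n; rw [smul_eq_mul, mul_comm, mul_smul]; exact hx (b • n)

theorem key {Λ : Type u} [CommRing Λ] (t' t : Ideal Λ) [t'.IsPrime] [t.IsPrime] (hle : t' ≤ t)
    (M : Type u) [AddCommGroup M] [Module Λ M] [Module.Projective Λ M]
    (φ : M →ₗ[Λ] M) (s : Λ) (hs : s ∉ t)
    (hφ : ∀ n, φ n - s • n ∈ (t • ⊤ : Submodule Λ M))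
    (z : t'.ResidueField ⊗[Λ] M) (hz : LinearMap.lTensor t'.ResidueField φ z = 0) : z = 0 := by
  classical
  obtain ⟨σ, hσ⟩ := Module.projective_def'.1 (inferInstance : Module.Projective Λ M)
  let π : (M →₀ Λ) →ₗ[Λ] M := Finsupp.linearCombination Λ id
  let e := TensorProduct.finsuppScalarRight Λ Λ t'.ResidueField M
  let u := LinearMap.lTensor t'.ResidueField σ z
  have hzu : LinearMap.lTensor t'.ResidueField π u = z := by
    show LinearMap.lTensor t'.ResidueField π (LinearMap.lTensor t'.ResidueField σ z) = z
    rw [← LinearMap.comp_apply, ← LinearMap.lTensor_comp, hσ, LinearMap.lTensor_id]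
    rfl
  let E : (M →₀ Λ) →ₗ[Λ] (M →₀ Λ) := σ ∘ₗ (φ - s • LinearMap.id) ∘ₗ π
  have huE : LinearMap.lTensor t'.ResidueField E u = -(s • u) := by
    show LinearMap.lTensor t'.ResidueField (σ ∘ₗ (φ - s • LinearMap.id) ∘ₗ π) u = -(s • u)
    rw [LinearMap.lTensor_comp, LinearMap.lTensor_comp, LinearMap.comp_apply, LinearMap.comp_apply, hzu,
      LinearMap.lTensor_sub, LinearMap.lTensor_smul, LinearMap.lTensor_id, LinearMap.sub_apply, hz, zero_sub,
      LinearMap.smul_apply, LinearMap.id_apply, map_neg, map_smul]
  let w := e u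
  have hu' : u = w.sum (fun n k => k ⊗ₜ[Λ] (Finsupp.single n (1:Λ))) := by
    have h2 : e.symm w = u := e.symm_apply_apply u
    rw [← h2]
    conv_lhs => rw [← Finsupp.sum_single w]
    rw [map_finsuppSum]
    simp [e, TensorProduct.finsuppScalarRight_symm_apply_single]
  have hcoord : ∀ n0, s • w n0 = -(w.sum (fun n k => (E (Finsupp.single n 1) n0) • k)) := by
    intro n0
    have h3 : e (LinearMap.lTensor t'.ResidueField E u) n0 = -(s • w n0) := by
      rw [huE]
      simp [w]
    have h4 : e (LinearMap.lTensor t'.ResidueField E u) n0 =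
        w.sum (fun n k => (E (Finsupp.single n 1) n0) • k) := by
      conv_lhs => rw [hu']
      rw [map_finsuppSum, map_finsuppSum, Finsupp.sum_apply]
      simp [e, TensorProduct.finsuppScalarRight_apply_tmul_apply]
    rw [← h4, h3, neg_neg]
  have hcoordm : ∀ f ∈ (t • ⊤ : Submodule Λ (M →₀ Λ)), ∀ n0, f n0 ∈ t := by
    intro f hf n0
    refine Submodule.smul_induction_on hf ?_ ?_
    · intro r hr f _
      rw [Finsupp.smul_apply, smul_eq_mul]
      exact Ideal.mul_mem_right _ _ hr
    · intro x y hx hy
      rw [Finsupp.add_apply]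
      exact add_mem hx hy
  have ha : ∀ n n0, E (Finsupp.single n 1) n0 ∈ t := by
    intro n n0
    apply hcoordm
    have h2 := hφ (π (Finsupp.single n 1))
    have h3 : σ ((φ - s • LinearMap.id : M →ₗ[Λ] M) (π (Finsupp.single n 1))) ∈ Submodule.map σ (t • ⊤) := by
      apply Submodule.mem_map_of_mem
      simpa using h2
    rw [Submodule.map_smul''] at h3
    exact Submodule.smul_mono le_rfl le_top h3
  let c : Submodule Λ t'.ResidueField := Submodule.span Λ (Set.range w)
  have hcfg : c.FG := Submodule.fg_span (Finsupp.finite_range w)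
  have hsc : ∀ x ∈ c, s • x ∈ t • c := by
    intro x hx
    induction hx using Submodule.span_induction with
    | mem x hx =>
      obtain ⟨n0, rfl⟩ := hx
      rw [hcoord n0, Finsupp.sum]
      apply neg_mem
      apply Submodule.sum_mem
      intro n _
      exact Submodule.smul_mem_smul (ha n n0) (Submodule.subset_span ⟨n, rfl⟩)
    | zero => simp
    | add x y _ _ hx hy => rw [smul_add]; exact add_mem hx hy
    | smul a x _ hx => rw [smul_comm]; exact Submodule.smul_mem _ a hx
  haveI : Module.Finite Λ c := Module.Finite.iff_fg.2 hcfg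
  let f : Module.End Λ c := algebraMap Λ (Module.End Λ c) s
  have hrange : LinearMap.range f ≤ t • ⊤ := by
    rintro _ ⟨x, rfl⟩
    rw [Submodule.mem_smul_top_iff]
    simpa [f] using hsc x.1 x.2
  obtain ⟨P, hmonic, -, hcoeff, hP⟩ :=
    LinearMap.exists_monic_and_natDegree_eq_and_coeff_mem_pow_and_aeval_eq_zero Λ f t hrange
  have hPs : ∀ x ∈ c, (P.eval s) • x = 0 := by
    intro x hx
    have h5 : (Polynomial.aeval f P) ⟨x, hx⟩ = 0 := by rw [hP]; rfl
    rw [Polynomial.aeval_algebraMap_apply] at h5
    have h6 := congrArg Subtype.val h5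
    simpa [Module.algebraMap_end_apply] using h6
  have hPt : P.eval s ∉ t := by
    intro hmem
    have h7 : P.eval s - s ^ P.natDegree ∈ t := by
      rw [Polynomial.eval_eq_sum_range, Finset.sum_range_succ, hmonic.coeff_natDegree, one_mul,
        add_sub_cancel_right]
      apply Ideal.sum_mem
      intro k hk
      have hk' := Finset.mem_range.1 hk
      apply Ideal.mul_mem_right
      exact Ideal.pow_le_self (by omega) (hcoeff k)
    have h8 : s ^ P.natDegree ∈ t := by
      have h9 := Ideal.sub_mem t hmem h7
      simpa using h9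
    exact hs (Ideal.IsPrime.mem_of_pow_mem inferInstance _ h8)
  have hw0 : w = 0 := by
    ext n
    have h9 := hPs (w n) (Submodule.subset_span ⟨n, rfl⟩)
    rw [Algebra.smul_def, mul_eq_zero] at h9
    rcases h9 with h9 | h9
    · exfalso
      rw [Ideal.algebraMap_residueField_eq_zero] at h9
      exact hPt (hle h9)
    · simpa using h9
  have hu0 : u = 0 := by
    have h2 : e u = e 0 := by rw [map_zero]; exact hw0
    exact e.injective h2
  rw [← hzu, hu0, map_zero]

end Groth.Agent.S9005aux

namespace Groth.Agent.S9005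

/-- For an affine finite type morphism Spec B → Spec A: a finite B-module which is projective as an
A-module is universally pure over Spec A. (The published statement allows any base scheme S and asks
the direct image to be locally projective; over an affine base a projective module gives such a
direct image, so this row is that case.) -/
theorem result {A B : Type u} [CommRing A] [CommRing B] [Algebra A B] [Algebra.FiniteType A B] (N : Type u) [AddCommGroup N] [Module B N] [Module A N] [IsScalarTower A B N] [Module.Finite B N] [Module.Projective A N] : FlatCA.IsUnivPure A B N := by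
  intro p _
  unfold FlatCA.IsUnivPureAlong
  intro A' B' N' _ _ _ _ _ _ _ _ _ _ _ _ _ _ f t' t _ _ P _ himp
  obtain ⟨hpush, hbc, hle, hover, hP, hass, hno⟩ := himp
  have hS : ∃ s ∉ t, ∃ g ∈ P, algebraMap A' B' s - g ∈ t.map (algebraMap A' B') := by
    by_contra hcon
    push Not at hcon
    have hdisj : Disjoint ((P ⊔ t.map (algebraMap A' B') : Ideal B') : Set B')
        ((t.primeCompl.map (algebraMap A' B' : A' →* B') : Submonoid B') : Set B') := by
      rw [Set.disjoint_left]
      rintro x hx ⟨s, hs, rfl⟩
      obtain ⟨g, hg, h, hh, hgh⟩ := Submodule.mem_sup.1 hx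
      refine hcon s hs g hg ?_
      have h2 : algebraMap A' B' s - g = h := by
        have h3 : g + h = algebraMap A' B' s := hgh
        rw [← h3]; ring
      rw [h2]; exact hh
    obtain ⟨P', hP'prime, hle', hdisj'⟩ := Ideal.exists_le_prime_disjoint _ _ hdisj
    haveI := hP'prime
    refine hno P' (le_sup_left.trans hle') ⟨?_⟩
    ext a
    rw [Ideal.under_def, Ideal.mem_comap]
    constructor
    · intro ha; exact hle' (Ideal.mem_sup_right (Ideal.mem_map_of_mem _ ha))
    · intro ha
      by_contra hna
      exact Set.disjoint_left.1 hdisj' ha ⟨a, hna, rfl⟩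
  haveI : Algebra.IsPushout A A' B B' := Algebra.IsPushout.symm hpush
  haveI : Module.Projective A' N' :=
    Module.Projective.of_equiv
      ((Algebra.IsPushout.cancelBaseChange A A' B B' N).symm.trans (hbc.equiv.restrictScalars A'))
  obtain ⟨hQprime, m, hm⟩ := hass
  obtain ⟨s, hs, g, hg, hsg⟩ := hS
  let G : t'.Fiber B' :=
    Algebra.TensorProduct.includeRight (R := A') (A := t'.ResidueField) (B := B') g
  have hG : G ∈ FlatCA.fiberIdeal t' P := Ideal.mem_map_of_mem _ hg
  rw [hm] at hG
  obtain ⟨k, hk⟩ := hG
  rw [Submodule.mem_colon_singleton, Submodule.mem_bot] at hk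
  let m' : TensorProduct B' (t'.Fiber B') N' := m
  have hk' : G ^ k • m' = 0 := hk
  have hm0 : m' ≠ 0 := by
    intro h0
    apply hQprime.ne_top
    rw [hm, Ideal.radical_eq_top, Ideal.eq_top_iff_one, Submodule.mem_colon_singleton]
    have h1 : m = 0 := h0
    rw [h1]; simp
  let φg : N' →ₗ[A'] N' := (LinearMap.lsmul B' N' g).restrictScalars A'
  have hφg : ∀ n, φg n - s • n ∈ (t • ⊤ : Submodule A' N') := by
    intro n
    have h1 := Groth.Agent.S9005aux.smul_mem_of_mem_map t N' _ hsg n
    have h2 : φg n - s • n = -((algebraMap A' B' s - g) • n) := by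
      simp [φg, sub_smul, algebraMap_smul]
    rw [h2]; exact neg_mem h1
  let e0 := Algebra.IsPushout.cancelBaseChange A' t'.ResidueField B' (t'.Fiber B') N'
  have hcompat : ∀ z' : TensorProduct A' t'.ResidueField N',
      e0.symm (LinearMap.lTensor t'.ResidueField φg z') = G • e0.symm z' := by
    intro z'
    induction z' using TensorProduct.induction_on with
    | zero => simp
    | tmul k n =>
      rw [LinearMap.lTensor_tmul, Algebra.IsPushout.cancelBaseChange_symm_tmul,
        Algebra.IsPushout.cancelBaseChange_symm_tmul, TensorProduct.smul_tmul', smul_eq_mul]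
      have e : G * algebraMap t'.ResidueField (t'.Fiber B') k =
          g • algebraMap t'.ResidueField (t'.Fiber B') k := by
        rw [Algebra.smul_def]; rfl
      rw [e, TensorProduct.smul_tmul]
      rfl
    | add x y hx hy => rw [map_add, map_add, map_add, smul_add, hx, hy]
  have hinj : ∀ y : TensorProduct B' (t'.Fiber B') N', G • y = 0 → y = 0 := by
    intro y hy
    have h1 : LinearMap.lTensor t'.ResidueField φg (e0 y) = 0 := by
      apply e0.symm.injective
      rw [hcompat, e0.symm_apply_apply, hy, map_zero]
    have h2 := Groth.Agent.S9005aux.key t' t hle N' φg s hs hφg (e0 y) h1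
    apply e0.injective
    rw [h2, map_zero]
  have hpow : ∀ k : ℕ, G ^ k • m' = 0 → m' = 0 := by
    intro k
    induction k with
    | zero => intro h; simpa using h
    | succ k ih => intro h; rw [pow_succ', mul_smul] at h; exact ih (hinj _ h)
  exact hm0 (hpow k hk')

end Groth.Agent.S9005
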