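import Groth.Statements.S9007
import Mathlib

set_option autoImplicit false
universe u
open FlatMor

namespace Groth.Agent.S9007

section Aux
open AlgebraicGeometry CategoryTheory Limits TopologicalSpace

theorem main {X S : Scheme.{u}} (p : X ⟶ S) {Y Y' : Scheme.{u}} (j : X ⟶ Y) (q : Y ⟶ S) [IsOpenImmersion j] [IsProper q] (j' : X ⟶ Y') (q' : Y' ⟶ S) [IsOpenImmersion j'] [IsProper q'] (f : Y' ⟶ Y) (hf : f ≫ q = q') (hfj : j' ≫ f = j) (hd : Dense (Set.range j'.base)) : f ⁻¹ᵁ j.opensRange = j'.opensRange := by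
  set W := f ⁻¹ᵁ j.opensRange with hW
  have hle : j'.opensRange ≤ W := by
    rintro _ ⟨x, rfl⟩
    show f.base (j'.base x) ∈ j.opensRange
    rw [← Scheme.Hom.comp_apply, hfj]; exact ⟨x, rfl⟩
  let s : X ⟶ W := IsOpenImmersion.lift W.ι j' (by rw [Scheme.Opens.range_ι]; exact hle)
  have hs : s ≫ W.ι = j' := IsOpenImmersion.lift_fac _ _ _
  let g : (W : Scheme) ⟶ j.opensRange := f ∣_ j.opensRange
  have hg : g ≫ j.opensRange.ι = W.ι ≫ f := morphismRestrict_ι _ _
  have : IsSeparated f := by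
    have : IsSeparated (f ≫ q) := by rw [hf]; infer_instance
    exact IsSeparated.of_comp f q
  have : IsSeparated g := by
    have : IsSeparated (g ≫ j.opensRange.ι) := by rw [hg]; infer_instance
    exact IsSeparated.of_comp g j.opensRange.ι
  have hsg : s ≫ g = j.isoOpensRange.hom := by
    rw [← cancel_mono j.opensRange.ι, Category.assoc, hg, reassoc_of% hs, hfj]
    simp
  have : IsClosedImmersion (s ≫ g) := by rw [hsg]; infer_instance
  have : IsClosedImmersion s := IsClosedImmersion.of_comp s g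
  have hcl : IsClosed (Set.range s.base) := s.isClosedEmbedding.isClosed_range
  apply le_antisymm _ hle
  intro y hy
  by_contra hne
  have hopen : IsOpen (W.ι.base '' (Set.range s.base)ᶜ) :=
    W.ι.isOpenEmbedding.isOpenMap _ hcl.isOpen_compl
  have hw : (⟨y, hy⟩ : W) ∉ Set.range s.base := by
    rintro ⟨x, hx⟩
    apply hne
    refine ⟨x, ?_⟩
    rw [← hs, Scheme.Hom.comp_apply, hx]; rfl
  obtain ⟨z, ⟨w', hw', rfl⟩, ⟨x, hx⟩⟩ := hd.inter_open_nonempty _ hopen ⟨y, ⟨⟨y, hy⟩, hw, rfl⟩⟩
  apply hw'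
  refine ⟨x, ?_⟩
  apply W.ι.isOpenEmbedding.injective
  rw [← Scheme.Hom.comp_apply, hs, hx]

end Aux

open CategoryTheory CategoryTheory.Limits AlgebraicGeometry in
/-- For a morphism f of compactifications of X over a quasi-compact quasi-separated S whose source
contains X as a dense open, the preimage under f of the image of X in the target is the image of X
in the source. -/
theorem result {X S : Scheme.{u}} [CompactSpace S] [QuasiSeparatedSpace S] (p : X ⟶ S) [IsSeparated p] [QuasiCompact p] [LocallyOfFiniteType p] {Y Y' : Scheme.{u}} (j : X ⟶ Y) (q : Y ⟶ S) [IsOpenImmersion j] [IsProper q] (h : j ≫ q = p) (j' : X ⟶ Y') (q' : Y' ⟶ S) [IsOpenImmersion j'] [IsProper q'] (h' : j' ≫ q' = p) (f : Y' ⟶ Y) (hf : f ≫ q = q') (hfj : j' ≫ f = j) (hd : Dense (Set.range j'.base)) : f ⁻¹ᵁ j.opensRange = j'.opensRange := by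
  exact main p j q j' q' f hf hfj hd

end Groth.Agent.S9007
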