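import Groth.Statements.S9008



set_option autoImplicit false
universe u
open FlatMor

namespace Groth.Agent.S9008

/-- For Spec B → Spec A affine of finite type: a finite B-module is universally pure along the fibre
over a prime p of A exactly when every base change of it along a ring map A → A' is pure along the
fibre over every prime of A' above p. -/
theorem result {A B : Type u} [CommRing A] [CommRing B] [Algebra A B] [Algebra.FiniteType A B] (N : Type u) [AddCommGroup N] [Module B N] [Module.Finite B N] (p : Ideal A) [p.IsPrime] : FlatCA.IsUnivPureAlong A B N p ↔ ∀ (A' B' N' : Type u) [CommRing A'] [CommRing B'] [Algebra A A'] [Algebra B B'] [Algebra A' B'] [Algebra A B'] [IsScalarTower A B B'] [IsScalarTower A A' B'] [Algebra.IsPushout A B A' B'] [AddCommGroup N'] [Module B' N'] [Module B N'] [IsScalarTower B B' N'] (g : N →ₗ[B] N'), IsBaseChange B' g → ∀ (p' : Ideal A') [p'.IsPrime], p'.LiesOver p → FlatCA.IsPureAlong A' B' N' p' := by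
  constructor
  · intro hU A' B' N' _ _ _ _ _ _ _ _ _ _ _ _ _ g hg p' _ hp'
    unfold FlatCA.IsPureAlong
    intro A'' B'' N'' _ _ _ _ _ _ _ _ _ _ _ _ _ _ f t' t _ _ P _ _ himp
    obtain ⟨h1, h2, h3, h4, h5, h6, h7⟩ := himp
    letI iAA'' : Algebra A A'' := ((algebraMap A' A'').comp (algebraMap A A')).toAlgebra
    letI iBB'' : Algebra B B'' := ((algebraMap B' B'').comp (algebraMap B B')).toAlgebra
    letI iAB'' : Algebra A B'' := ((algebraMap A' B'').comp (algebraMap A A')).toAlgebra
    haveI : IsScalarTower A A' A'' := IsScalarTower.of_algebraMap_eq (fun _ => rfl)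
    haveI : IsScalarTower B B' B'' := IsScalarTower.of_algebraMap_eq (fun _ => rfl)
    haveI : IsScalarTower A A' B'' := IsScalarTower.of_algebraMap_eq (fun _ => rfl)
    haveI : IsScalarTower A B' B'' := IsScalarTower.of_algebraMap_eq (fun x => by
      change algebraMap A' B'' (algebraMap A A' x) = algebraMap B' B'' (algebraMap A B' x)
      rw [IsScalarTower.algebraMap_apply A A' B', ← IsScalarTower.algebraMap_apply A' B' B''])
    haveI : IsScalarTower A B B'' := IsScalarTower.of_algebraMap_eq (fun x => by
      change algebraMap A' B'' (algebraMap A A' x) =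
        algebraMap B' B'' (algebraMap B B' (algebraMap A B x))
      rw [← IsScalarTower.algebraMap_apply A B B', IsScalarTower.algebraMap_apply A A' B',
        ← IsScalarTower.algebraMap_apply A' B' B''])
    haveI : IsScalarTower A A'' B'' := IsScalarTower.of_algebraMap_eq (fun x => by
      change algebraMap A' B'' (algebraMap A A' x) =
        algebraMap A'' B'' (algebraMap A' A'' (algebraMap A A' x))
      rw [← IsScalarTower.algebraMap_apply A' A'' B''])
    letI iBN'' : Module B N'' := Module.compHom N'' (algebraMap B B')
    haveI : IsScalarTower B B' N'' := ⟨fun b b' n => by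
      change (b • b') • n = algebraMap B B' b • (b' • n)
      rw [Algebra.smul_def, mul_smul]⟩
    haveI : IsScalarTower B B'' N'' := ⟨fun b b'' n => by
      change (b • b'') • n = algebraMap B B' b • (b'' • n)
      rw [Algebra.smul_def, mul_smul]
      change algebraMap B' B'' (algebraMap B B' b) • (b'' • n) = _
      rw [algebraMap_smul]⟩
    have hpo : Algebra.IsPushout A B A'' B'' := by
      haveI : Algebra.IsPushout A A' B B' := Algebra.IsPushout.symm inferInstance
      have h1' : Algebra.IsPushout A' A'' B' B'' := h1.symm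
      exact ((Algebra.IsPushout.comp_iff (R := A) (S := A') (R' := B) (S' := B') (T := A'')
        (T' := B'')).mpr h1').symm
    have hl : t.LiesOver p := by
      haveI := h4
      haveI := hp'
      exact Ideal.LiesOver.trans t p' p
    exact hU A'' B'' N'' ((f.restrictScalars B).comp g) t' t P
      ⟨hpo, hg.comp h2, h3, hl, h5, h6, h7⟩
  · intro hP
    unfold FlatCA.IsUnivPureAlong
    intro A' B' N' _ _ _ _ _ _ _ _ _ _ _ _ _ _ f t' t _ _ P _ himp
    obtain ⟨h1, h2, h3, h4, h5, h6, h7⟩ := himp
    haveI := h1
    have key := hP A' B' N' f h2 t h4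
    have hover : t.LiesOver t := ⟨by ext x; simp [Ideal.under]⟩
    have hid : ∀ x, Ideal.ResidueField.mapₐ t t (Algebra.ofId A' A') hover.over x = x := by
      intro x
      obtain ⟨a, s, hs, rfl⟩ := IsFractionRing.div_surjective (A := A' ⧸ t) x
      obtain ⟨a0, rfl⟩ := Ideal.Quotient.mk_surjective a
      obtain ⟨s0, rfl⟩ := Ideal.Quotient.mk_surjective s
      rw [map_div₀]
      have e : ∀ y : A', algebraMap (A' ⧸ t) t.ResidueField (Ideal.Quotient.mk t y) =
          algebraMap A' t.ResidueField y := fun y =>
        (IsScalarTower.algebraMap_apply A' (A' ⧸ t) t.ResidueField y).symm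
      rw [e, e, AlgHom.commutes, AlgHom.commutes]
    have hEt : FlatCA.IsEtaleNhd A' A' t t :=
      ⟨inferInstance, hover, fun x y h => by rw [← hid x, ← hid y, h], fun y => ⟨y, hid y⟩⟩
    have hbc : IsBaseChange B' (LinearMap.id : N' →ₗ[B'] N') :=
      IsBaseChange.of_equiv (TensorProduct.lid B' N') (fun x => by simp)
    exact key A' B' N' LinearMap.id t' t P hEt ⟨inferInstance, hbc, h3, hover, h5, h6, h7⟩

end Groth.Agent.S9008
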