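import Mathlib
import Groth.Agent.Lib.helper10.ConstSh
import Groth.Statements.S9097

set_option autoImplicit false
universe u
open CategoryTheory Opposite
open CohSite

namespace Groth.Agent.S9097
open CategoryTheory.Limits

/-- If 0 → A → B → C → 0 is short exact in the category of abelian groups then, for every object U, the
sequence 0 → A̲(U) → B̲(U) → C̲(U) → 0 of sections of the constant abelian sheaves is short exact;
in other words the sequence of constant sheaves is exact even as a sequence of abelian presheaves.
The instance binder on the sections-of-constant-sheaf functor (it preserves zero morphisms) always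
holds and is only needed to form the complex. -/
theorem result {C : Type u} [SmallCategory C] (J : GrothendieckTopology C)
    (S : ShortComplex AddCommGrpCat.{u}) (hS : S.ShortExact) (U : C)
    [(constantSheaf J AddCommGrpCat.{u} ⋙ (sheafSections J AddCommGrpCat.{u}).obj (op U)).PreservesZeroMorphisms] :
    (S.map (constantSheaf J AddCommGrpCat.{u} ⋙ (sheafSections J AddCommGrpCat.{u}).obj (op U))).ShortExact := by
  have hlim : PreservesFiniteLimits
      (constantSheaf J AddCommGrpCat.{u} ⋙ (sheafSections J AddCommGrpCat.{u}).obj (op U)) := by
    have h1 : PreservesFiniteLimits (constantSheaf J AddCommGrpCat.{u}) := by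
      change PreservesFiniteLimits (Functor.const Cᵒᵖ ⋙ presheafToSheaf J AddCommGrpCat.{u})
      infer_instance
    have h2 : PreservesFiniteLimits ((sheafSections J AddCommGrpCat.{u}).obj (op U)) := by
      change PreservesFiniteLimits (sheafToPresheaf J AddCommGrpCat.{u} ⋙ (evaluation _ _).obj (op U))
      have : PreservesLimitsOfSize.{0, 0} (sheafToPresheaf J AddCommGrpCat.{u}) :=
        (sheafificationAdjunction J AddCommGrpCat.{u}).rightAdjoint_preservesLimits
      infer_instance
    infer_instance
  have hm : Mono S.f := hS.mono_f
  have he : Epi S.g := hS.epi_g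
  refine ShortComplex.ShortExact.mk' ?_ ?_ ?_
  · exact hS.exact.map_of_mono_of_preservesKernel _ hm inferInstance
  · exact (constantSheaf J AddCommGrpCat.{u} ⋙ (sheafSections J AddCommGrpCat.{u}).obj (op U)).map_mono S.f
  · refine (AddCommGrpCat.epi_iff_surjective _).2 ?_
    exact Groth.Agent.Lib.helper10.ConstSh.surjective_sections J S.g
      ((AddCommGrpCat.epi_iff_surjective _).1 he) U

end Groth.Agent.S9097
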