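import Groth.Statements.S9106
import Mathlib
import Groth.Agent.Lib.helper23.PseudoFilt2

set_option autoImplicit false
universe u
open CategoryTheory CategoryTheory.Limits
open CohSite

namespace Groth.Agent.S9106

/-- Let u : C ⥤ D be a functor between small sites which is cocontinuous and continuous, and assume that
C has fibre products and equalizers and that u commutes with them. Let g be the morphism of topoi
attached to u. Then g_! on abelian sheaves, i.e. the left adjoint of restriction along u (left Kan
extension along u followed by sheafification), is exact: being a left adjoint it is right exact, and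
it moreover preserves finite limits. -/
theorem result {C D : Type u} [SmallCategory C] [SmallCategory D]
    (J : GrothendieckTopology C) (K : GrothendieckTopology D) (u : C ⥤ D)
    [u.IsCocontinuous J K] [u.IsContinuous J K] [HasPullbacks C] [HasEqualizers C]
    [PreservesLimitsOfShape WalkingCospan u] [PreservesLimitsOfShape WalkingParallelPair u] :
    PreservesFiniteLimits (u.sheafPullback AddCommGrpCat.{u} J K) := by
  have hlan : PreservesFiniteLimits (u.op.lan :
      (Cᵒᵖ ⥤ AddCommGrpCat.{u}) ⥤ (Dᵒᵖ ⥤ AddCommGrpCat.{u})) := by
    apply preservesFiniteLimits_of_preservesFiniteLimitsOfSize.{u}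
    intro T _ _
    apply preservesLimitsOfShape_of_evaluation _ T
    intro d
    have e1 : PreservesLimitsOfShape WalkingSpanᵒᵖ u :=
      preservesLimitsOfShape_of_equiv walkingSpanOpEquiv.symm u
    have e2 : PreservesLimitsOfShape WalkingParallelPairᵒᵖ u :=
      preservesLimitsOfShape_of_equiv walkingParallelPairOpEquiv u
    have e3 : PreservesColimitsOfShape WalkingSpan u.op := preservesColimitsOfShape_op _ _
    have e4 : PreservesColimitsOfShape WalkingParallelPair u.op := preservesColimitsOfShape_op _ _
    have e5 : HasPushouts (CostructuredArrow u.op d) := inferInstance
    have e6 : HasCoequalizers (CostructuredArrow u.op d) := inferInstance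
    have e7 := PseudoFilt.colim_preservesFiniteLimits (I := CostructuredArrow u.op d)
    have e8 : PreservesLimitsOfShape T
        ((Functor.whiskeringLeft _ _ AddCommGrpCat.{u}).obj (CostructuredArrow.proj u.op d) ⋙
          colim) := inferInstance
    exact preservesLimitsOfShape_of_natIso (lanEvaluationIsoColim _ _ _).symm
  have : PreservesFiniteLimits (u.op.lan ⋙
      presheafToSheaf K AddCommGrpCat.{u}) :=
    comp_preservesFiniteLimits _ _
  have h2 : PreservesFiniteLimits
      (Functor.sheafPullbackConstruction.sheafPullback u AddCommGrpCat.{u} J K) := by
    unfold Functor.sheafPullbackConstruction.sheafPullback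
    apply comp_preservesFiniteLimits
  exact preservesFiniteLimits_of_natIso
    (Functor.sheafPullbackConstruction.sheafPullbackIso u AddCommGrpCat.{u} J K).symm

end Groth.Agent.S9106
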