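import Mathlib
import Groth.Agent.Lib.helper10.StalkExact
import Groth.Statements.S9112

set_option autoImplicit false
universe u
open CategoryTheory
open ModSite

namespace Groth.Agent.S9112

/-- Part (1): on a small ringed site (C, O) with O commutative, for a point p of the site: the stalk
functor F ↦ F_p from O-modules to O_p-modules is exact. Stated on a short exact sequence 0 → F₁ → F₂
→ F₃ → 0 of O-modules: the induced O_p-linear map F₁,p → F₂,p is injective, F₂,p → F₃,p is
surjective, and the range of the first is the kernel of the second. -/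
theorem result {C : Type u} [SmallCategory C] {J : GrothendieckTopology C}
    (O : Sheaf J CommRingCat.{u}) (S : ShortComplex (ModSite.Mod O)) (hS : S.ShortExact)
    (p : GrothendieckTopology.Point.{u} J) :
    Function.Injective (ModSite.stalkMap p S.f).hom ∧ Function.Surjective (ModSite.stalkMap p S.g).hom ∧
      LinearMap.range (ModSite.stalkMap p S.f).hom = LinearMap.ker (ModSite.stalkMap p S.g).hom := by
  have hSE := Groth.Agent.Lib.helper10.StalkExact.stalk_shortExact O S hS p
  have hm := (AddCommGrpCat.mono_iff_injective _).1 hSE.mono_f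
  have he := (AddCommGrpCat.epi_iff_surjective _).1 hSE.epi_g
  have hex := (ShortComplex.ab_exact_iff _).1 hSE.exact
  refine ⟨hm, he, ?_⟩
  ext x
  rw [LinearMap.mem_range, LinearMap.mem_ker]
  constructor
  · rintro ⟨y, rfl⟩
    have hz := congrArg (fun κ => κ.hom y)
      ((S.map (SheafOfModules.toSheaf (ModSite.ringSh O) ⋙ p.sheafFiber (A := AddCommGrpCat.{u}))).zero)
    exact hz
  · intro hx
    obtain ⟨y, hy⟩ := hex x hx
    exact ⟨y, hy⟩

end Groth.Agent.S9112
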