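import Mathlib
import Groth.Statements.S9121

set_option autoImplicit false
universe u
open CategoryTheory CategoryTheory.Limits
open CohSite

namespace Groth.Agent.S9121
open CategoryTheory.Limits

/-- Part (1): for the morphism of topoi f : Sh(C) → Sh(D) attached to a continuous functor u : D ⥤ C
between small sites whose induced pullback of sheaves of sets is exact (f_* is restriction along u):
if f_* transforms epimorphisms of sheaves of sets into epimorphisms, then f_* on abelian sheaves is
exact; being a right adjoint it preserves finite limits, and the statement is that it also preserves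
finite colimits. -/
theorem result {C D : Type u} [SmallCategory C] [SmallCategory D]
    (J : GrothendieckTopology C) (K : GrothendieckTopology D) (u : D ⥤ C) [u.IsContinuous K J]
    [PreservesFiniteLimits (u.sheafPullback (Type u) K J)]
    [(u.sheafPushforwardContinuous (Type u) K J).PreservesEpimorphisms] :
    PreservesFiniteColimits (u.sheafPushforwardContinuous AddCommGrpCat.{u} K J) := by
  let G := u.sheafPushforwardContinuous AddCommGrpCat.{u} K J
  have hlim : PreservesFiniteLimits G := by
    have : PreservesLimitsOfSize.{0, 0} G :=
      (u.sheafAdjunctionContinuous AddCommGrpCat.{u} K J).rightAdjoint_preservesLimits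
    infer_instance
  have hadd : G.Additive := Functor.additive_of_preserves_binary_products _
  have hepi : ∀ {A B : Sheaf J AddCommGrpCat.{u}} (g : A ⟶ B), Epi g → Epi (G.map g) := by
    intro A B g hg
    have h1 : Sheaf.IsLocallySurjective g := (Sheaf.isLocallySurjective_iff_epi' _ g).2 hg
    have h3 : Epi ((sheafCompose J (forget AddCommGrpCat.{u})).map g) := inferInstance
    have h4 : Epi ((u.sheafPushforwardContinuous (Type u) K J).map
      ((sheafCompose J (forget AddCommGrpCat.{u})).map g)) := inferInstance
    have h5 := (Sheaf.isLocallySurjective_iff_epi _).2 h4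
    have h6 : Sheaf.IsLocallySurjective (G.map g) :=
      (Presheaf.isLocallySurjective_iff_whisker_forget K (G.map g).hom).2 h5
    infer_instance
  have key0 : ∀ (S : ShortComplex (Sheaf J AddCommGrpCat.{u})), S.ShortExact →
      (S.map G).Exact ∧ Mono (G.map S.f) := ((Functor.preservesFiniteLimits_tfae G).out 3 0).1 hlim
  have key : ∀ (S : ShortComplex (Sheaf J AddCommGrpCat.{u})), S.ShortExact →
      (S.map G).Exact ∧ Epi (G.map S.g) := fun S hS =>
    ⟨(key0 S hS).1, hepi _ hS.epi_g⟩
  exact ((Functor.preservesFiniteColimits_tfae G).out 0 3).1 key

end Groth.Agent.S9121
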