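import Groth.Statements.S9125
import Groth.Agent.Lib.helper14.Catenary

set_option autoImplicit false
universe u
open CAlg

namespace Groth.Agent.S9125

/-- A quotient of a catenary ring is catenary. -/
theorem result (A : Type u) [CommRing A] (I : Ideal A)
    (hA : CAlg.IsCatenary A) : CAlg.IsCatenary (A ⧸ I) := by
  have hsurj : Function.Surjective (Ideal.Quotient.mk I) := Ideal.Quotient.mk_surjective
  refine Groth.Agent.H14.isCatenary_of_embedding (PrimeSpectrum.comap (Ideal.Quotient.mk I)) ?_ ?_ hA
  · intro a b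
    change a.asIdeal.comap _ ≤ b.asIdeal.comap _ ↔ a.asIdeal ≤ b.asIdeal
    exact Ideal.comap_le_comap_iff_of_surjective _ hsurj _ _
  · intro a b y h1 _
    have hker : RingHom.ker (Ideal.Quotient.mk I) ≤ y.asIdeal := by
      have h2 : RingHom.ker (Ideal.Quotient.mk I) ≤ a.asIdeal.comap (Ideal.Quotient.mk I) :=
        Ideal.comap_mono bot_le
      exact h2.trans h1.le
    refine ⟨⟨y.asIdeal.map (Ideal.Quotient.mk I), Ideal.map_isPrime_of_surjective hsurj hker⟩, ?_⟩
    ext1
    change (y.asIdeal.map (Ideal.Quotient.mk I)).comap (Ideal.Quotient.mk I) = y.asIdeal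
    rw [Ideal.comap_map_of_surjective _ hsurj]
    exact sup_eq_left.mpr hker

end Groth.Agent.S9125
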