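import Groth.Statements.S9127
import Groth.Agent.Lib.helper14.Catenary

set_option autoImplicit false
universe u
open CAlg

namespace Groth.Agent.S9127

theorem isCatenary_quotient (A : Type u) [CommRing A] (I : Ideal A)
    (hA : CAlg.IsCatenary A) : CAlg.IsCatenary (A ⧸ I) := by
  have hsurj : Function.Surjective (Ideal.Quotient.mk I) := Ideal.Quotient.mk_surjective
  refine Groth.Agent.H14.isCatenary_of_embedding (PrimeSpectrum.comap (Ideal.Quotient.mk I)) ?_ ?_ hA
  · intro a b
    change a.asIdeal.comap _ ≤ b.asIdeal.comap _ ↔ a.asIdeal ≤ b.asIdeal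
    exact Ideal.comap_le_comap_iff_of_surjective _ hsurj _ _
  · intro a b y h1 _
    have hker : RingHom.ker (Ideal.Quotient.mk I) ≤ y.asIdeal := by
      have h2 : RingHom.ker (Ideal.Quotient.mk I) ≤ a.asIdeal.comap (Ideal.Quotient.mk I) :=
        Ideal.comap_mono bot_le
      exact h2.trans h1.le
    refine ⟨⟨y.asIdeal.map (Ideal.Quotient.mk I), Ideal.map_isPrime_of_surjective hsurj hker⟩, ?_⟩
    ext1
    change (y.asIdeal.map (Ideal.Quotient.mk I)).comap (Ideal.Quotient.mk I) = y.asIdeal
    rw [Ideal.comap_map_of_surjective _ hsurj]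
    exact sup_eq_left.mpr hker

/-- A Noetherian ring is catenary if and only if its quotient by every minimal prime is catenary. -/
theorem result (R : Type u) [CommRing R] [IsNoetherianRing R] :
    CAlg.IsCatenary R ↔ ∀ p ∈ minimalPrimes R, CAlg.IsCatenary (R ⧸ p) := by
  constructor
  · intro h p _
    exact isCatenary_quotient R p h
  · intro h
    apply Groth.Agent.H14.isCatenary_of_local_embeddings
    intro p
    obtain ⟨p₀, hp₀, hle⟩ := Ideal.exists_minimalPrimes_le (I := ⊥) (J := p.asIdeal) bot_le
    have hsurj : Function.Surjective (Ideal.Quotient.mk p₀) := Ideal.Quotient.mk_surjective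
    refine ⟨R ⧸ p₀, inferInstance, PrimeSpectrum.comap (Ideal.Quotient.mk p₀), ?_, ?_, h p₀ hp₀⟩
    · intro a b
      change a.asIdeal.comap _ ≤ b.asIdeal.comap _ ↔ a.asIdeal ≤ b.asIdeal
      exact Ideal.comap_le_comap_iff_of_surjective _ hsurj _ _
    · intro y hy
      have hker : RingHom.ker (Ideal.Quotient.mk p₀) ≤ y.asIdeal := by
        rw [Ideal.mk_ker]
        exact hle.trans hy
      refine ⟨⟨y.asIdeal.map (Ideal.Quotient.mk p₀),
        Ideal.map_isPrime_of_surjective hsurj hker⟩, ?_⟩
      ext1
      change (y.asIdeal.map (Ideal.Quotient.mk p₀)).comap (Ideal.Quotient.mk p₀) = y.asIdeal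
      rw [Ideal.comap_map_of_surjective _ hsurj]
      exact sup_eq_left.mpr hker

end Groth.Agent.S9127
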