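import Groth.Statements.S9128
import Mathlib


set_option autoImplicit false
universe u
open CAlg

namespace H14S9128

/-! Order lemmas on saturated series (following `Groth.Agent.Lib.helper9.Depth19`). -/

section OrderLemmas

variable {α : Type*} [PartialOrder α]

lemma covBy_of_length_eq_coheight {p : LTSeries α} (h : (p.length : ℕ∞) = Order.coheight p.head)
    (i : Fin p.length) : p i.castSucc ⋖ p i.succ := by
  refine ⟨p.step i, fun z hz1 hz2 => ?_⟩
  have e1 := Order.coheight_eq_index_of_length_eq_head_coheight h i.castSucc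
  have e2 := Order.coheight_eq_index_of_length_eq_head_coheight h i.succ
  have h1 := Order.coheight_add_one_le hz1
  have h2 := Order.coheight_add_one_le hz2
  rw [e1, Fin.rev_castSucc] at h1
  rw [e2, Fin.rev_succ] at h2
  obtain ⟨c, hc⟩ : ∃ c : ℕ, Order.coheight z = c := by
    have : Order.coheight z ≠ ⊤ := by
      intro htop
      rw [htop] at h1
      simp at h1
    exact ⟨_, (ENat.natCast_toNat this).symm⟩
  rw [hc] at h1 h2
  simp only [Fin.val_succ, Fin.val_castSucc] at h1 h2
  have h1' : c + 1 ≤ (i.rev : ℕ) + 1 := by exact_mod_cast h1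
  have h2' : (i.rev : ℕ) + 1 ≤ c := by exact_mod_cast h2
  omega

lemma isMax_last_of_length_eq_coheight {p : LTSeries α}
    (h : (p.length : ℕ∞) = Order.coheight p.head) : IsMax p.last := by
  have e1 := Order.coheight_eq_index_of_length_eq_head_coheight h (Fin.last _)
  rw [Fin.rev_last] at e1
  have e2 : Order.coheight p.last = 0 := by
    change Order.coheight (p (Fin.last _)) = 0
    rw [e1]; rfl
  exact Order.coheight_eq_zero.mp e2

def consSeries (t : LTSeries α) (a : α) (h : a < t.head) : LTSeries α where
  length := t.length + 1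
  toFun := Fin.cons a t.toFun
  step := by
    intro i
    refine Fin.cases ?_ (fun j => ?_) i
    · exact h
    · exact t.step j

lemma consSeries_last (t : LTSeries α) (a : α) (h : a < t.head) :
    (consSeries t a h).last = t.last := by
  change Fin.cons (α := fun _ => α) a t.toFun (Fin.last (t.length + 1)) = t.toFun (Fin.last t.length)
  rw [← Fin.succ_last, Fin.cons_succ]

lemma consSeries_covBy (t : LTSeries α) (a : α) (h : a ⋖ t.head)
    (ht : ∀ i : Fin t.length, t i.castSucc ⋖ t i.succ) (i : Fin (consSeries t a h.lt).length) :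
    (consSeries t a h.lt) i.castSucc ⋖ (consSeries t a h.lt) i.succ := by
  refine Fin.cases ?_ (fun j => ?_) i
  · exact h
  · exact ht j

/-- along a saturated series, a function dropping by one along coverings drops by the length -/
lemma sat_length {δ : α → ℕ} (hδ : ∀ x y : α, x ⋖ y → δ x = δ y + 1) (s : LTSeries α)
    (hs : ∀ i : Fin s.length, s (Fin.castSucc i) ⋖ s (Fin.succ i)) :
    δ s.head = δ s.last + s.length := by
  have key : ∀ k : ℕ, (hk : k ≤ s.length) → δ s.head = δ (s ⟨k, by omega⟩) + k := by
    intro k
    induction k with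
    | zero => intro _; rfl
    | succ k ih =>
      intro hk
      have h1 := ih (by omega)
      have h2 := hδ _ _ (hs ⟨k, by omega⟩)
      have e1 : s (Fin.castSucc (⟨k, by omega⟩ : Fin s.length)) = s ⟨k, by omega⟩ := rfl
      have e2 : s (Fin.succ (⟨k, by omega⟩ : Fin s.length)) = s ⟨k + 1, by omega⟩ := rfl
      rw [e1, e2] at h2
      rw [h1, h2]; ring
  exact key s.length le_rfl

end OrderLemmas

section Catenary

variable {A : Type u} [CommRing A] [IsLocalRing A] [IsNoetherianRing A]

lemma ringKrullDim_quotient_eq_coheight (P : PrimeSpectrum A) :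
    ringKrullDim (A ⧸ P.asIdeal) = (Order.coheight P : WithBot ℕ∞) := by
  rw [ringKrullDim_quotient, Order.coheight_eq_krullDim_Ici]
  have : PrimeSpectrum.zeroLocus (P.asIdeal : Set A) = Set.Ici P := by
    ext x
    rw [PrimeSpectrum.mem_zeroLocus, Set.mem_Ici]
    rfl
  rw [this]

omit [IsNoetherianRing A] in
lemma eq_closedPoint_of_isMax {x : PrimeSpectrum A} (hx : IsMax x) :
    x = IsLocalRing.closedPoint A := by
  have h1 : x ≤ IsLocalRing.closedPoint A := IsLocalRing.le_maximalIdeal x.isPrime.ne_top
  exact le_antisymm h1 (hx h1)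

lemma coheight_ne_top (x : PrimeSpectrum A) : Order.coheight x ≠ ⊤ := by
  intro htop
  have h1 := Order.coheight_le_krullDim x
  rw [htop] at h1
  have h2 : ringKrullDim A < ⊤ := ringKrullDim_lt_top
  exact absurd (lt_of_le_of_lt h1 h2) (by simp)

theorem coheight_eq_add_one_of_covBy (hcat : CAlg.IsCatenary A) {x y : PrimeSpectrum A}
    (hxy : x ⋖ y) : Order.coheight x = Order.coheight y + 1 := by
  obtain ⟨n, hn⟩ : ∃ n : ℕ, Order.coheight x = n := ⟨_, (ENat.natCast_toNat (coheight_ne_top x)).symm⟩
  obtain ⟨k, hk⟩ : ∃ k : ℕ, Order.coheight y = k := ⟨_, (ENat.natCast_toNat (coheight_ne_top y)).symm⟩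
  obtain ⟨s, hs1, hs2⟩ := Order.exists_series_of_coheight_eq_coe x hn
  obtain ⟨t', ht1, ht2⟩ := Order.exists_series_of_coheight_eq_coe y hk
  have hsmax : (s.length : ℕ∞) = Order.coheight s.head := by rw [hs1, hn, hs2]
  have htmax : (t'.length : ℕ∞) = Order.coheight t'.head := by rw [ht1, hk, ht2]
  have hxy' : x ⋖ t'.head := by rw [ht1]; exact hxy
  let t := consSeries t' x hxy'.lt
  have h1 : s.length = t.length := by
    apply hcat.2 s t
    · rw [hs1]; rfl
    · rw [eq_closedPoint_of_isMax (isMax_last_of_length_eq_coheight hsmax)]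
      change _ = (consSeries t' x hxy'.lt).last
      rw [consSeries_last, eq_closedPoint_of_isMax (isMax_last_of_length_eq_coheight htmax)]
    · exact covBy_of_length_eq_coheight hsmax
    · exact consSeries_covBy t' x hxy' (covBy_of_length_eq_coheight htmax)
  rw [hn, hk]
  have : n = k + 1 := by
    rw [← hs2, ← ht2]
    exact h1
  exact_mod_cast this

theorem main : CAlg.IsCatenary A ↔
      ∀ p q : PrimeSpectrum A, p < q →
        ringKrullDim (A ⧸ q.asIdeal) < ringKrullDim (A ⧸ p.asIdeal) ∧
          (p ⋖ q → ringKrullDim (A ⧸ p.asIdeal) = ringKrullDim (A ⧸ q.asIdeal) + 1) := by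
  constructor
  · intro hcat p q hpq
    rw [ringKrullDim_quotient_eq_coheight, ringKrullDim_quotient_eq_coheight]
    refine ⟨?_, fun hcov => ?_⟩
    · exact_mod_cast Order.coheight_strictAnti hpq (lt_top_iff_ne_top.mpr (coheight_ne_top q))
    · rw [coheight_eq_add_one_of_covBy hcat hcov]
      rfl
  · intro H
    -- the natural-number valued dimension function
    let δ : PrimeSpectrum A → ℕ := fun p => (Order.coheight p).toNat
    have hδ : ∀ p : PrimeSpectrum A, (Order.coheight p : ℕ∞) = (δ p : ℕ∞) :=
      fun p => (ENat.natCast_toNat (coheight_ne_top p)).symm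
    have hcov : ∀ x y : PrimeSpectrum A, x ⋖ y → δ x = δ y + 1 := by
      intro x y hxy
      have := (H x y hxy.lt).2 hxy
      rw [ringKrullDim_quotient_eq_coheight, ringKrullDim_quotient_eq_coheight, hδ, hδ] at this
      exact_mod_cast this
    refine ⟨?_, ?_⟩
    · intro p q _
      refine ⟨δ p, fun s hs1 _ => ?_⟩
      have h1 : (s.length : ℕ∞) ≤ Order.coheight s.head := Order.length_le_coheight_head
      rw [hs1, hδ] at h1
      exact_mod_cast h1
    · intro s t hst1 hst2 hs ht
      have h1 := sat_length hcov s hs
      have h2 := sat_length hcov t ht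
      rw [hst1, hst2] at h1
      omega

end Catenary

end H14S9128

namespace Groth.Agent.S9128

/-- A Noetherian local ring A is catenary if and only if the assignment sending a prime p to the Krull
dimension of A/p is a dimension function on Spec A, i.e. it decreases strictly along strict
inclusions of primes and drops by exactly one along inclusions with no prime strictly in between. -/
theorem result (A : Type u) [CommRing A] [IsNoetherianRing A]
    [IsLocalRing A] :
    CAlg.IsCatenary A ↔
      ∀ p q : PrimeSpectrum A, p < q →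
        ringKrullDim (A ⧸ q.asIdeal) < ringKrullDim (A ⧸ p.asIdeal) ∧
          (p ⋖ q → ringKrullDim (A ⧸ p.asIdeal) = ringKrullDim (A ⧸ q.asIdeal) + 1) := by
  exact H14S9128.main

end Groth.Agent.S9128
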