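import Groth.Statements.S9129
import Groth.Agent.Lib.helper9.FlatLocal
import Groth.Agent.Lib.helper9.IntegralDim

set_option autoImplicit false
universe u
open CAlg

namespace Groth.Agent.S9129

/-- Suppose R → S is a flat local homomorphism between Noetherian local rings, with R Cohen–Macaulay.
Assume either that S is finite over R or that the Krull dimension of S is at most that of R. Then
the two rings have equal dimension and S is itself Cohen–Macaulay. -/
theorem result (R S : Type u) [CommRing R] [CommRing S]
    [LocCoh.IsCohenMacaulayLocalRing R] [IsNoetherianRing S] [IsLocalRing S] [Algebra R S]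
    [IsLocalHom (algebraMap R S)] [Module.Flat R S]
    (h : Module.Finite R S ∨ ringKrullDim S ≤ ringKrullDim R) :
    LocCoh.IsCohenMacaulayLocalRing S ∧ ringKrullDim R = ringKrullDim S := by
  classical
  haveI hRloc : IsLocalRing R := LocCoh.IsCohenMacaulayLocalRing.toIsLocalRing
  haveI hRnoeth : IsNoetherianRing R := LocCoh.IsCohenMacaulayLocalRing.toIsNoetherian
  have hCM : Module.supportDim R R = ((LocCoh.depth R R : ℕ∞) : WithBot ℕ∞) :=
    LocCoh.IsCohenMacaulayLocalRing.supportDim_eq_depth
  rw [Module.supportDim_self_eq_ringKrullDim] at hCM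
  have hle : ringKrullDim S ≤ ringKrullDim R := by
    rcases h with h | h
    · haveI := h
      haveI : Algebra.IsIntegral R S := inferInstance
      exact Groth.Agent.Lib.helper9.IntegralDim.ringKrullDim_le_of_isIntegral R S
    · exact h
  have hdim := Groth.Agent.Lib.helper9.FlatLocal.ringKrullDim_eq_add (R := R) (S := S)
  have hdepth := Groth.Agent.Lib.helper9.FlatLocal.depth_eq_add (R := R) (S := S)
    (EGA4.mB R S) rfl
  haveI : IsNoetherianRing (EGA4.FibRing R S) := inferInstance
  have hF0 : (0 : WithBot ℕ∞) ≤ ringKrullDim (EGA4.FibRing R S) := ringKrullDim_nonneg_of_nontrivial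
  -- dim F = 0
  have hFle : ringKrullDim (EGA4.FibRing R S) ≤ 0 := by
    rw [hdim, hCM] at hle
    obtain ⟨n, hn⟩ := Groth.Agent.Lib.helper9.Depth.exists_nat_depth (R := R) R
    rw [hn] at hle
    cases hd : ringKrullDim (EGA4.FibRing R S) with
    | bot => exact bot_le
    | coe d =>
      rw [hd] at hle
      have h1 : ((n : ℕ∞) : WithBot ℕ∞) + ((d : ℕ∞) : WithBot ℕ∞) ≤ ((n : ℕ∞) : WithBot ℕ∞) := hle
      rw [← WithBot.coe_add, WithBot.coe_le_coe] at h1
      have h2 : d ≤ 0 := by
        have : (n : ℕ∞) + d ≤ (n : ℕ∞) + 0 := by simpa using h1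
        exact (ENat.add_le_add_iff_left (ENat.natCast_ne_top n)).mp this
      exact_mod_cast h2
  have hF : ringKrullDim (EGA4.FibRing R S) = 0 := le_antisymm hFle hF0
  have hdF : LocCoh.depth (EGA4.FibRing R S) (EGA4.FibRing R S) = 0 := by
    have h1 := Groth.Agent.Lib.helper9.Depth.depth_le_supportDim (R := EGA4.FibRing R S)
      (EGA4.FibRing R S)
    rw [Module.supportDim_self_eq_ringKrullDim, hF] at h1
    have h2 : LocCoh.depth (EGA4.FibRing R S) (EGA4.FibRing R S) ≤ 0 := by exact_mod_cast h1
    exact le_antisymm h2 bot_le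
  change LocCoh.depth S S = LocCoh.depth R R +
    LocCoh.depth (EGA4.FibRing R S) (EGA4.FibRing R S) at hdepth
  rw [hdF, add_zero] at hdepth
  rw [hF, add_zero] at hdim
  refine ⟨?_, hdim.symm⟩
  refine { supportDim_eq_depth := ?_ }
  rw [Module.supportDim_self_eq_ringKrullDim, hdim, hCM, hdepth]

end Groth.Agent.S9129
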