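import Groth.Statements.S9130
import Mathlib
import Groth.Agent.Lib.helper26.DimIneq


set_option autoImplicit false
universe u
open CAlg

namespace Groth.Agent.S9130

/-- Let A ⊆ B be domains with B of finite type over A and A Noetherian, and assume every element of B is
algebraic over A. For a height-one prime p of A, only finitely many primes of B lie over p and each
of them has height one. (The published statement assumes that Frac(B) is finite over Frac(A); this
row assumes B algebraic over A, which is equivalent for a finite type extension of domains.) -/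
theorem result (A B : Type u) [CommRing A] [IsDomain A]
    [IsNoetherianRing A] [CommRing B] [IsDomain B] [Algebra A B] [FaithfulSMul A B]
    [Algebra.FiniteType A B] [Algebra.IsAlgebraic A B] (p : Ideal A) [p.IsPrime]
    (hp : p.height = 1) :
    (p.primesOver B).Finite ∧ ∀ q ∈ p.primesOver B, q.height = 1 := by
  haveI : IsNoetherianRing B := Algebra.FiniteType.isNoetherianRing A B
  have hinj : Function.Injective (algebraMap A B) := FaithfulSMul.algebraMap_injective A B
  have hpne : p ≠ ⊥ := by
    rintro rfl
    have h0 : (⊥ : Ideal A).height = 0 := by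
      rw [Ideal.height_eq_zero_iff, IsDomain.minimalPrimes_eq_singleton_bot]
      rfl
    rw [h0] at hp
    exact zero_ne_one hp
  have hht : ∀ q ∈ p.primesOver B, q.height = 1 := by
    intro q hq
    obtain ⟨hqp, hqo⟩ := hq
    haveI := hqp
    haveI := hqo
    have h1 := Groth.Agent.Lib.helper26.DimIneq.dimension_inequality A B p q
    rw [show Algebra.trdeg A B = 0 from trdeg_eq_zero, add_zero, hp] at h1
    have h2 : (q.height : Cardinal.{u}) ≤ ((1 : ℕ∞) : Cardinal.{u}) := le_trans le_self_add h1
    have h3 : q.height ≤ 1 := by exact_mod_cast h2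
    have h4 : q.height ≠ 0 := by
      rw [Ne, Ideal.height_eq_zero_iff, IsDomain.minimalPrimes_eq_singleton_bot,
        Set.mem_singleton_iff]
      rintro rfl
      apply hpne
      have h5 : p = (⊥ : Ideal B).under A := Ideal.LiesOver.over
      rw [h5]
      ext x
      simp only [Ideal.under_def, Ideal.mem_comap, Ideal.mem_bot]
      exact ⟨fun hx => hinj (by rw [hx, map_zero]), fun hx => by rw [hx, map_zero]⟩
    exact le_antisymm h3 (Order.one_le_iff_ne_zero.mpr h4)
  refine ⟨?_, hht⟩
  apply Set.Finite.subset
    (Ideal.finite_minimalPrimes_of_isNoetherianRing B (p.map (algebraMap A B)))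
  intro q hq
  have hq1 := hht q hq
  obtain ⟨hqp, hqo⟩ := hq
  haveI := hqp
  haveI := hqo
  have hpq : p = q.under A := Ideal.LiesOver.over
  refine ⟨⟨hqp, Ideal.map_le_iff_le_comap.mpr (le_of_eq hpq)⟩, ?_⟩
  rintro q' ⟨hq'p, hq'le⟩ hq'q
  haveI := hq'p
  have hover : q'.LiesOver p := by
    refine ⟨le_antisymm (Ideal.map_le_iff_le_comap.mp hq'le) ?_⟩
    rw [hpq]
    exact Ideal.comap_mono hq'q
  have h1 := hht q' ⟨hq'p, hover⟩
  by_contra hnot
  have hlt : q' < q := lt_of_le_of_ne hq'q (fun h => hnot (h ▸ le_refl _))
  have := Ideal.height_strict_mono_of_isPrime hlt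
  rw [h1, hq1] at this
  exact lt_irrefl _ this

end Groth.Agent.S9130
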