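import Groth.Statements.S9131
import Mathlib
import Groth.Agent.Lib.helper21.LocalCrit

set_option autoImplicit false
universe u
open CAlg

namespace Groth.Agent.S9131

section Aux


variable {R : Type u} [CommRing R]

/-- KF: for `0 → K → P → M → 0` exact with `M` flat, `f⁻¹(J P) = J K`. -/
theorem mem_smul_top_of_map_mem (J : Ideal R) {K P M : Type u} [AddCommGroup K] [Module R K]
    [AddCommGroup P] [Module R P] [AddCommGroup M] [Module R M] (f : K →ₗ[R] P) (g : P →ₗ[R] M)
    (hf : Function.Injective f) (hg : Function.Surjective g) (hfg : Function.Exact f g)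
    [Module.Flat R M] (k : K) (hk : f k ∈ (J • ⊤ : Submodule R P)) :
    k ∈ (J • ⊤ : Submodule R K) := by
  have hinj := LinearMap.lTensor_injective_of_exact_of_flat g hg f hf hfg (R ⧸ J)
  rw [← Groth.Agent.H21.one_tmul_eq_zero_iff]
  apply hinj
  rw [LinearMap.lTensor_tmul, map_zero, Groth.Agent.H21.one_tmul_eq_zero_iff]
  exact hk

theorem cauchy_sub_mem' (I : Ideal R) {M : Type u} [AddCommGroup M] [Module R M]
    (c : AdicCompletion.AdicCauchySequence I M)
    {m n : ℕ} (hmn : m ≤ n) : c m - c n ∈ (I ^ m • ⊤ : Submodule R M) := by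
  have := c.2 hmn
  rw [SModEq.sub_mem] at this
  exact this

theorem map_injective_of_flat (I : Ideal R) {K P M : Type u} [AddCommGroup K] [Module R K]
    [AddCommGroup P] [Module R P] [AddCommGroup M] [Module R M] (f : K →ₗ[R] P) (g : P →ₗ[R] M)
    (hf : Function.Injective f) (hg : Function.Surjective g) (hfg : Function.Exact f g)
    [Module.Flat R M] : Function.Injective (AdicCompletion.map I f) := by
  rw [injective_iff_map_eq_zero]
  intro x hx
  obtain ⟨a, rfl⟩ := AdicCompletion.mk_surjective I K x
  apply AdicCompletion.ext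
  intro n
  have h1 := congrArg (fun y => y.val n) hx
  simp only [AdicCompletion.map_mk, AdicCompletion.mk_apply_coe, AdicCompletion.val_zero,
    AdicCompletion.AdicCauchySequence.map_apply_coe] at h1
  rw [AdicCompletion.mk_apply_coe, AdicCompletion.val_zero]
  simp only [Pi.zero_apply, Submodule.mkQ_apply, Submodule.Quotient.mk_eq_zero] at h1 ⊢
  exact mem_smul_top_of_map_mem (I ^ n) f g hf hg hfg _ h1

theorem map_exact_of_flat (I : Ideal R) {K P M : Type u} [AddCommGroup K] [Module R K]
    [AddCommGroup P] [Module R P] [AddCommGroup M] [Module R M] (f : K →ₗ[R] P) (g : P →ₗ[R] M)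
    (hf : Function.Injective f) (hg : Function.Surjective g) (hfg : Function.Exact f g)
    [Module.Flat R M] : Function.Exact (AdicCompletion.map I f) (AdicCompletion.map I g) := by
  refine LinearMap.exact_of_comp_eq_zero_of_ker_le_range ?_ (fun y hy => ?_)
  · rw [AdicCompletion.map_comp, hfg.linearMap_comp_eq_zero, AdicCompletion.map_zero]
  · obtain ⟨b, rfl⟩ := AdicCompletion.mk_surjective I P y
    have hb : ∀ n, g (b n) ∈ (I ^ n • ⊤ : Submodule R M) := by
      intro n
      have h1 := congrArg (fun y => y.val n) (LinearMap.mem_ker.mp hy)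
      simp only [AdicCompletion.map_mk, AdicCompletion.mk_apply_coe, AdicCompletion.val_zero,
        AdicCompletion.AdicCauchySequence.map_apply_coe] at h1
      simp only [Pi.zero_apply, Submodule.mkQ_apply, Submodule.Quotient.mk_eq_zero] at h1
      exact h1
    have hd : ∀ n, ∃ d ∈ (I ^ n • ⊤ : Submodule R P), g d = g (b n) := by
      intro n
      have : g (b n) ∈ Submodule.map g (I ^ n • ⊤ : Submodule R P) := by
        rw [Submodule.map_smul'', Submodule.map_top, LinearMap.range_eq_top.mpr hg]
        exact hb n
      obtain ⟨d, hd, hdg⟩ := this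
      exact ⟨d, hd, hdg⟩
    choose d hd1 hd2 using hd
    have ha : ∀ n, ∃ a : K, f a = b n - d n := by
      intro n
      apply (hfg _).mp
      rw [map_sub, hd2, sub_self]
    choose a ha using ha
    have hcau : ∀ n, a n ≡ a (n + 1) [SMOD (I ^ n • ⊤ : Submodule R K)] := by
      intro n
      rw [SModEq.sub_mem]
      apply mem_smul_top_of_map_mem (I ^ n) f g hf hg hfg
      rw [map_sub, ha, ha]
      have e : b n - d n - (b (n + 1) - d (n + 1)) = (b n - b (n + 1)) - d n + d (n + 1) := by abel
      rw [e]
      refine Submodule.add_mem _ (Submodule.sub_mem _ (cauchy_sub_mem' I b (Nat.le_succ n)) (hd1 n)) ?_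
      exact Submodule.smul_mono_left (Ideal.pow_le_pow_right (Nat.le_succ n)) (hd1 (n + 1))
    refine ⟨AdicCompletion.mk I K (AdicCompletion.AdicCauchySequence.mk I K a hcau), ?_⟩
    apply AdicCompletion.ext
    intro n
    simp only [AdicCompletion.map_mk, AdicCompletion.mk_apply_coe,
      AdicCompletion.AdicCauchySequence.map_apply_coe, AdicCompletion.AdicCauchySequence.mk_coe]
    rw [Submodule.mkQ_apply, Submodule.mkQ_apply, Submodule.Quotient.eq, ha, sub_sub_cancel_left]
    exact Submodule.neg_mem _ (hd1 n)




theorem map_bijective_of_sub_mem (I : Ideal R) {Z : Type u} [AddCommGroup Z] [Module R Z]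
    (θ : Z →ₗ[R] Z) (hθ : ∀ z, θ z - z ∈ (I • ⊤ : Submodule R Z)) :
    Function.Bijective (AdicCompletion.map I θ) := by
  have hδ : ∀ k : ℕ, ∀ z ∈ (I ^ k • ⊤ : Submodule R Z), θ z - z ∈ (I ^ (k + 1) • ⊤ : Submodule R Z) := by
    intro k z hz
    refine Submodule.smul_induction_on hz ?_ ?_
    · intro c hc y _
      have h1 : θ (c • y) - c • y = c • (θ y - y) := by rw [map_smul, smul_sub]
      rw [h1, pow_succ, Submodule.mul_smul]
      exact Submodule.smul_mem_smul hc (hθ y)
    · intro x y hx hy
      have h1 : θ (x + y) - (x + y) = (θ x - x) + (θ y - y) := by rw [map_add]; abel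
      rw [h1]
      exact Submodule.add_mem _ hx hy
  have key : ∀ n : ℕ, ∀ z : Z, θ z ∈ (I ^ n • ⊤ : Submodule R Z) → z ∈ (I ^ n • ⊤ : Submodule R Z) := by
    intro n z hz
    have : ∀ k : ℕ, k ≤ n → z ∈ (I ^ k • ⊤ : Submodule R Z) := by
      intro k
      induction k with
      | zero => intro _; simp
      | succ k ih =>
        intro hk
        have h1 := hδ k z (ih (Nat.le_of_succ_le hk))
        have h2 : θ z ∈ (I ^ (k + 1) • ⊤ : Submodule R Z) :=
          Submodule.smul_mono_left (Ideal.pow_le_pow_right hk) hz
        have h3 : z = θ z - (θ z - z) := by abel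
        rw [h3]
        exact Submodule.sub_mem _ h2 h1
    exact this n le_rfl
  constructor
  · rw [injective_iff_map_eq_zero]
    intro x hx
    obtain ⟨a, rfl⟩ := AdicCompletion.mk_surjective I Z x
    apply AdicCompletion.ext
    intro n
    have h1 := congrArg (fun y => y.val n) hx
    simp only [AdicCompletion.map_mk, AdicCompletion.mk_apply_coe, AdicCompletion.val_zero,
      AdicCompletion.AdicCauchySequence.map_apply_coe] at h1
    rw [AdicCompletion.mk_apply_coe, AdicCompletion.val_zero]
    simp only [Pi.zero_apply, Submodule.mkQ_apply, Submodule.Quotient.mk_eq_zero] at h1 ⊢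
    exact key n _ h1
  · apply AdicCompletion.map_surjective_of_mkQ_comp_surjective
    intro y
    obtain ⟨z, rfl⟩ := Submodule.mkQ_surjective _ y
    refine ⟨z, ?_⟩
    rw [LinearMap.comp_apply, Submodule.mkQ_apply, Submodule.mkQ_apply, Submodule.Quotient.eq]
    exact hθ z

/-- From a retraction of `j` and exactness, a section of `g`. -/
theorem exists_section_of_retraction {A : Type u} [CommRing A] {Z F M : Type u}
    [AddCommGroup Z] [Module A Z] [AddCommGroup F] [Module A F] [AddCommGroup M] [Module A M]
    (j : Z →ₗ[A] F) (g : F →ₗ[A] M) (hex : Function.Exact j g) (hg : Function.Surjective g)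
    (ρ : F →ₗ[A] Z) (hρ : ρ ∘ₗ j = LinearMap.id) :
    ∃ s : M →ₗ[A] F, g ∘ₗ s = LinearMap.id := by
  let e : F →ₗ[A] F := LinearMap.id - j ∘ₗ ρ
  have he : LinearMap.ker g ≤ LinearMap.ker e := by
    intro x hx
    obtain ⟨z, rfl⟩ := (hex x).mp hx
    have h1 : ρ (j z) = z := LinearMap.congr_fun hρ z
    simp [e, h1]
  let s : M →ₗ[A] F :=
    ((LinearMap.ker g).liftQ e he) ∘ₗ (g.quotKerEquivOfSurjective hg).symm.toLinearMap
  refine ⟨s, ?_⟩
  ext m
  obtain ⟨x, rfl⟩ := hg m
  have h1 : (g.quotKerEquivOfSurjective hg).symm (g x) = Submodule.Quotient.mk x := by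
    rw [LinearEquiv.symm_apply_eq]
    rfl
  simp only [s, LinearMap.comp_apply, LinearEquiv.coe_coe, h1, Submodule.liftQ_apply,
    LinearMap.id_apply, e, LinearMap.sub_apply, map_sub]
  rw [hex.apply_apply_eq_zero, sub_zero]




/-- the key retraction-mod-`I`. -/
theorem exists_almost_retraction (I : Ideal R) (M : Type u) [AddCommGroup M] [Module R M]
    [Module.Flat R M] [Module.Projective (R ⧸ I) (M ⧸ (I • ⊤ : Submodule R M))] :
    ∃ r : (M →₀ R) →ₗ[R] LinearMap.ker (Finsupp.linearCombination R (id : M → M)),
      ∀ z : LinearMap.ker (Finsupp.linearCombination R (id : M → M)),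
        r z.1 - z ∈ (I • ⊤ : Submodule R (LinearMap.ker (Finsupp.linearCombination R (id : M → M)))) := by
  classical
  set u : (M →₀ R) →ₗ[R] M := Finsupp.linearCombination R (id : M → M) with hu
  have husurj : Function.Surjective u := Finsupp.linearCombination_id_surjective R M
  set IF : Submodule R (M →₀ R) := I • ⊤ with hIF
  set IM : Submodule R M := I • ⊤ with hIM
  have hle : IF ≤ IM.comap u := by
    rw [← Submodule.map_le_iff_le_comap, hIF, Submodule.map_smul'']
    exact Submodule.smul_mono le_rfl le_top
  let ubar : ((M →₀ R) ⧸ IF) →ₗ[R] (M ⧸ IM) := Submodule.mapQ IF IM u hle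
  have hubar_surj : Function.Surjective ubar := by
    intro y
    obtain ⟨m, rfl⟩ := Submodule.mkQ_surjective _ y
    obtain ⟨x, rfl⟩ := husurj m
    exact ⟨Submodule.Quotient.mk x, rfl⟩
  let ubar' : ((M →₀ R) ⧸ IF) →ₗ[R ⧸ I] (M ⧸ IM) :=
    ubar.extendScalarsOfSurjective Ideal.Quotient.mk_surjective
  obtain ⟨σ, hσ⟩ := Module.projective_lifting_property ubar' LinearMap.id hubar_surj
  obtain ⟨τ, hτ⟩ := Module.projective_lifting_property IF.mkQ
    ((σ.restrictScalars R) ∘ₗ IM.mkQ ∘ₗ u) (Submodule.mkQ_surjective _)
  have hτ' : ∀ x, Submodule.Quotient.mk (p := IF) (τ x) = σ (Submodule.Quotient.mk (u x)) :=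
    fun x => LinearMap.congr_fun hτ x
  have hσ' : ∀ y, ubar (σ y) = y := fun y => LinearMap.congr_fun hσ y
  -- r' = id - τ lands in u⁻¹(IM)
  have h4 : ∀ x, u (x - τ x) ∈ IM := by
    intro x
    rw [← Submodule.Quotient.mk_eq_zero, map_sub, Submodule.Quotient.mk_sub]
    have : Submodule.Quotient.mk (p := IM) (u (τ x)) = ubar (Submodule.Quotient.mk (τ x)) := rfl
    rw [this, hτ', hσ', sub_self]
  have h5 : ∀ x, ∃ y ∈ IF, u y = u (x - τ x) := by
    intro x
    have : u (x - τ x) ∈ Submodule.map u IF := by
      rw [hIF, Submodule.map_smul'', Submodule.map_top, LinearMap.range_eq_top.mpr husurj]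
      exact h4 x
    obtain ⟨y, hy, hyu⟩ := this
    exact ⟨y, hy, hyu⟩
  choose y hy1 hy2 using h5
  let zfun : M → LinearMap.ker u := fun m =>
    ⟨(Finsupp.single m (1 : R) - τ (Finsupp.single m 1)) - y (Finsupp.single m 1), by
      rw [LinearMap.mem_ker, map_sub, hy2, sub_self]⟩
  let r : (M →₀ R) →ₗ[R] LinearMap.ker u := Finsupp.linearCombination R zfun
  -- D = j ∘ r - r' has values in IF
  have h6 : ∀ x : M →₀ R, ((r x : LinearMap.ker u) : M →₀ R) - (x - τ x) ∈ IF := by
    intro x
    induction x using Finsupp.induction_linear with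
    | zero => simp
    | add a b ha hb =>
      have e : ((r (a + b) : LinearMap.ker u) : M →₀ R) - ((a + b) - τ (a + b)) =
          (((r a : LinearMap.ker u) : M →₀ R) - (a - τ a)) +
            (((r b : LinearMap.ker u) : M →₀ R) - (b - τ b)) := by
        rw [map_add, map_add, Submodule.coe_add]; abel
      rw [e]
      exact Submodule.add_mem _ ha hb
    | single m c =>
      have e1 : Finsupp.single m c = c • Finsupp.single m (1 : R) := by
        rw [Finsupp.smul_single_one]
      have e : ((r (Finsupp.single m c) : LinearMap.ker u) : M →₀ R) -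
          (Finsupp.single m c - τ (Finsupp.single m c)) = c • (- y (Finsupp.single m 1)) := by
        rw [e1, map_smul, map_smul]
        simp only [r, Finsupp.linearCombination_single, one_smul, zfun, Submodule.coe_smul]
        rw [← smul_sub, ← smul_sub]
        congr 1
        abel
      rw [e]
      exact Submodule.smul_mem _ _ (Submodule.neg_mem _ (hy1 _))
  refine ⟨r, fun z => ?_⟩
  refine mem_smul_top_of_map_mem I (LinearMap.ker u).subtype u (Submodule.injective_subtype _)
    husurj (LinearMap.exact_subtype_ker_map u) (r z.1 - z) ?_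
  change ((r z.1 : LinearMap.ker u) : M →₀ R) - z.1 ∈ IF
  have h7 : τ z.1 ∈ IF := by
    rw [← Submodule.Quotient.mk_eq_zero, hτ', LinearMap.mem_ker.mp z.2, Submodule.Quotient.mk_zero,
      map_zero]
  have e : ((r z.1 : LinearMap.ker u) : M →₀ R) - z.1 =
      (((r z.1 : LinearMap.ker u) : M →₀ R) - (z.1 - τ z.1)) - τ z.1 := by abel
  rw [e]
  exact Submodule.sub_mem _ (h6 z.1) h7


theorem exists_section_of_almost_retraction (I : Ideal R) {Z F M : Type u} [AddCommGroup Z] [Module R Z]
    [AddCommGroup F] [Module R F] [AddCommGroup M] [Module R M] (j : Z →ₗ[R] F) (u : F →ₗ[R] M)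
    (hj : Function.Injective j) (hu : Function.Surjective u) (hex : Function.Exact j u)
    [Module.Flat R M] (r : F →ₗ[R] Z) (hr : ∀ z, r (j z) - z ∈ (I • ⊤ : Submodule R Z)) :
    ∃ s : AdicCompletion I M →ₗ[AdicCompletion I R] AdicCompletion I F,
      AdicCompletion.map I u ∘ₗ s = LinearMap.id := by
  have hbij := map_bijective_of_sub_mem I (r ∘ₗ j) hr
  let θe := LinearEquiv.ofBijective (AdicCompletion.map I (r ∘ₗ j)) hbij
  let ρ : AdicCompletion I F →ₗ[AdicCompletion I R] AdicCompletion I Z :=
    θe.symm.toLinearMap ∘ₗ AdicCompletion.map I r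
  have hρ : ρ ∘ₗ AdicCompletion.map I j = LinearMap.id := by
    refine LinearMap.ext fun x => ?_
    have h1 : AdicCompletion.map I r (AdicCompletion.map I j x) = θe x := by
      rw [AdicCompletion.map_comp_apply]
      rfl
    simp only [ρ, LinearMap.comp_apply, LinearEquiv.coe_coe, h1, LinearEquiv.symm_apply_apply,
      LinearMap.id_apply]
  exact exists_section_of_retraction (A := AdicCompletion I R)
    (AdicCompletion.map I j) (AdicCompletion.map I u)
    (map_exact_of_flat I j u hj hu hex) (AdicCompletion.map_surjective I hu) ρ hρ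

end Aux

/-- Let R be a ring, I an ideal, and 0 → K → P → M → 0 a short exact sequence of R-modules with M flat
over R and M/IM projective over R/I. Then the induced sequence of I-adic completions is split short
exact: the map on completions of K → P is injective, the sequence is exact in the middle, and the
map on completions of P → M has a section linear over the completion of R (so it is surjective). -/
theorem result (R : Type u) [CommRing R] (I : Ideal R)
    (K P M : Type u) [AddCommGroup K] [Module R K] [AddCommGroup P] [Module R P]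
    [AddCommGroup M] [Module R M] (f : K →ₗ[R] P) (g : P →ₗ[R] M)
    (hf : Function.Injective f) (hg : Function.Surjective g) (hfg : Function.Exact f g)
    [Module.Flat R M] [Module.Projective (R ⧸ I) (M ⧸ (I • ⊤ : Submodule R M))] :
    Function.Injective (AdicCompletion.map I f) ∧
      Function.Exact (AdicCompletion.map I f) (AdicCompletion.map I g) ∧
      ∃ s : AdicCompletion I M →ₗ[AdicCompletion I R] AdicCompletion I P,
        AdicCompletion.map I g ∘ₗ s = LinearMap.id := by
  refine ⟨map_injective_of_flat I f g hf hg hfg, map_exact_of_flat I f g hf hg hfg, ?_⟩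
  obtain ⟨r, hr⟩ := exists_almost_retraction I M
  have hr' : ∀ z : LinearMap.ker (Finsupp.linearCombination R (id : M → M)),
      r ((LinearMap.ker (Finsupp.linearCombination R (id : M → M))).subtype z) - z ∈
        (I • ⊤ : Submodule R (LinearMap.ker (Finsupp.linearCombination R (id : M → M)))) := hr
  have hj : Function.Injective (LinearMap.ker (Finsupp.linearCombination R (id : M → M))).subtype :=
    Submodule.injective_subtype _
  have hu : Function.Surjective (Finsupp.linearCombination R (id : M → M)) :=
    Finsupp.linearCombination_id_surjective R M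
  have hex : Function.Exact (LinearMap.ker (Finsupp.linearCombination R (id : M → M))).subtype
      (Finsupp.linearCombination R (id : M → M)) := LinearMap.exact_subtype_ker_map _
  obtain ⟨sF, hsF⟩ := exists_section_of_almost_retraction I (Z := ↥(LinearMap.ker (Finsupp.linearCombination R (id : M → M)))) (F := M →₀ R) (M := M) (LinearMap.ker (Finsupp.linearCombination R (id : M → M))).subtype (Finsupp.linearCombination R (id : M → M)) hj hu hex r hr'
  obtain ⟨ℓ, hℓ⟩ := Module.projective_lifting_property g
    (Finsupp.linearCombination R (id : M → M)) hg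
  refine ⟨AdicCompletion.map I ℓ ∘ₗ sF, ?_⟩
  rw [← LinearMap.comp_assoc, AdicCompletion.map_comp, hℓ, hsF]

end Groth.Agent.S9131
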