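import Groth.Statements.S9135
import Mathlib


set_option autoImplicit false
universe u
open CAlg

namespace H14S9135
open TensorProduct

lemma finite_fiber (R S : Type u) [CommRing R] [CommRing S] [Algebra R S] [Algebra.FiniteType R S]
    (p : Ideal R) [hp : p.IsPrime] (hfin : (p.primesOver S).Finite) :
    Module.Finite p.ResidueField (p.Fiber S) := by
  have H : (PrimeSpectrum.comap (algebraMap R S) ⁻¹' {⟨p, hp⟩}).Finite := by
    apply Set.Finite.of_finite_image (f := PrimeSpectrum.asIdeal) (hfin.subset _)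
      (fun _ _ _ _ h => PrimeSpectrum.ext h)
    rintro _ ⟨q, hq, rfl⟩
    refine ⟨q.isPrime, ⟨?_⟩⟩
    have := congrArg PrimeSpectrum.asIdeal hq
    exact this.symm
  rw [Module.finite_iff_isArtinianRing, isArtinianRing_iff_isNoetherianRing_krullDimLE_zero]
  have : IsJacobsonRing (p.Fiber S) := isJacobsonRing_of_finiteType (A := p.ResidueField)
  have : Finite (PrimeSpectrum (p.Fiber S)) :=
    (PrimeSpectrum.preimageEquivFiber R S ⟨p, hp⟩).finite_iff.mp H
  exact ⟨Algebra.FiniteType.isNoetherianRing p.ResidueField _,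
    (PrimeSpectrum.discreteTopology_iff_finite_and_krullDimLE_zero.mp inferInstance).right⟩

lemma isIntegral_of_nil {A T F : Type*} [CommRing A] [CommRing T] [CommRing F] [Algebra A T]
    [Algebra A F] (φ : T →ₐ[A] F) (hker : RingHom.ker φ ≤ nilradical T)
    (hF : Algebra.IsIntegral A F) : Algebra.IsIntegral A T := by
  refine ⟨fun t => ?_⟩
  obtain ⟨f, hf, hft⟩ := hF.isIntegral (φ t)
  have h1 : φ (Polynomial.aeval t f) = 0 := by
    rw [← Polynomial.aeval_algHom_apply]
    exact hft
  have h2 : Polynomial.aeval t f ∈ nilradical T := hker (RingHom.mem_ker.mpr h1)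
  obtain ⟨N, hN⟩ := h2
  refine ⟨f ^ N, hf.pow N, ?_⟩
  change Polynomial.aeval t (f ^ N) = 0
  rw [map_pow, hN]


/-- spreading out: generators become integral over `R_g` -/
lemma finite_awayMap (R S : Type u) [CommRing R] [CommRing S] [Algebra R S]
    (s : Finset S) (hs : Algebra.adjoin R (s : Set S) = ⊤) (g : R)
    (m h : S → R) (F : S → Polynomial R) (hF : ∀ x ∈ s, (F x).Monic)
    (hzero : ∀ x ∈ s, h x • Polynomial.aeval (m x • x) (F x) = 0)
    (hm : ∀ x ∈ s, m x ∣ g) (hh : ∀ x ∈ s, h x ∣ g) :
    (Localization.awayMap (algebraMap R S) g).Finite := by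
  classical
  let Rg := Localization.Away g
  let Sg := Localization.Away (algebraMap R S g)
  let f : Rg →+* Sg := Localization.awayMap (algebraMap R S) g
  letI : Algebra Rg Sg := f.toAlgebra
  have hfalg : ∀ r : R, algebraMap Rg Sg (algebraMap R Rg r) = algebraMap S Sg (algebraMap R S r) := by
    intro r
    change f (algebraMap R Rg r) = _
    simp [f, IsLocalization.Away.map]
    rfl
  haveI : IsScalarTower R Rg Sg := IsScalarTower.of_algebraMap_eq (fun r => by
    rw [hfalg, ← IsScalarTower.algebraMap_apply R S Sg])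
  haveI : Algebra.FiniteType R S := ⟨⟨s, hs⟩⟩
  haveI : Algebra.FiniteType S Sg := IsLocalization.finiteType_of_monoid_fg (Submonoid.powers (algebraMap R S g)) Sg
  haveI : Algebra.FiniteType R Sg := Algebra.FiniteType.trans (R := R) (S := S) (A := Sg) inferInstance inferInstance
  haveI : Algebra.FiniteType Rg Sg := Algebra.FiniteType.of_restrictScalars_finiteType R Rg Sg
  -- units
  have hgu : IsUnit (algebraMap R Rg g) := IsLocalization.Away.algebraMap_isUnit g
  have hgSu : IsUnit (algebraMap S Sg (algebraMap R S g)) := IsLocalization.Away.algebraMap_isUnit _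
  have hunitR : ∀ r : R, r ∣ g → IsUnit (algebraMap R Rg r) := by
    rintro r ⟨c, rfl⟩
    rw [map_mul] at hgu
    exact isUnit_of_mul_isUnit_left hgu
  have hunitS : ∀ r : R, r ∣ g → IsUnit (algebraMap R Sg r) := by
    intro r hr
    rw [IsScalarTower.algebraMap_apply R Rg Sg]
    exact (hunitR r hr).map _
  let C : Subalgebra Rg Sg := integralClosure Rg Sg
  -- generators are integral
  have hgen : ∀ x ∈ s, algebraMap S Sg x ∈ C := by
    intro x hx
    let y : Sg := algebraMap S Sg (m x • x)
    have hy0 : Polynomial.aeval y (F x) = 0 := by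
      have h1 : Polynomial.aeval y (F x) = algebraMap S Sg (Polynomial.aeval (m x • x) (F x)) := by
        change Polynomial.aeval ((IsScalarTower.toAlgHom R S Sg) (m x • x)) (F x) = _
        rw [Polynomial.aeval_algHom_apply]
        rfl
      have h2 := congrArg (algebraMap S Sg) (hzero x hx)
      rw [Algebra.smul_def, map_mul, map_zero, ← IsScalarTower.algebraMap_apply R S Sg] at h2
      rw [h1]
      exact (hunitS (h x) (hh x hx)).mul_right_eq_zero.mp h2
    have hyR : IsIntegral R y := ⟨F x, hF x hx, hy0⟩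
    have hyRg : IsIntegral Rg y := hyR.tower_top
    obtain ⟨u, hu⟩ := hunitR (m x) (hm x hx)
    have hxy : algebraMap S Sg x = algebraMap Rg Sg (↑u⁻¹ : Rg) * y := by
      change _ = _ * algebraMap S Sg (m x • x)
      rw [Algebra.smul_def, map_mul, ← hfalg, ← hu, ← mul_assoc, ← map_mul, Units.inv_mul, map_one,
        one_mul]
    change IsIntegral Rg (algebraMap S Sg x)
    rw [hxy]
    exact IsIntegral.mul isIntegral_algebraMap hyRg
  -- hence the image of `S` is integral
  have himage : ∀ a : S, algebraMap S Sg a ∈ C := by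
    intro a
    let C' : Subalgebra R S := (C.restrictScalars R).comap (IsScalarTower.toAlgHom R S Sg)
    have hle : Algebra.adjoin R (s : Set S) ≤ C' := Algebra.adjoin_le (fun x hx => hgen x hx)
    rw [hs] at hle
    exact hle (Algebra.mem_top)
  haveI : Algebra.IsIntegral Rg Sg := by
    refine ⟨fun y => ?_⟩
    obtain ⟨a, ⟨_, n, rfl⟩, rfl⟩ := IsLocalization.exists_mk'_eq (Submonoid.powers (algebraMap R S g)) y
    obtain ⟨u, hu⟩ := hgu
    have hy : IsLocalization.mk' Sg a (⟨algebraMap R S g ^ n, n, rfl⟩ : Submonoid.powers (algebraMap R S g)) =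
        algebraMap S Sg a * algebraMap Rg Sg ((↑u⁻¹ : Rg) ^ n) := by
      rw [IsLocalization.mk'_eq_iff_eq_mul]
      simp only []
      rw [mul_assoc, map_pow, map_pow, ← mul_pow, ← hfalg, ← hu, ← map_mul, Units.inv_mul, map_one,
        one_pow, mul_one]
    rw [hy]
    exact IsIntegral.mul (himage a) isIntegral_algebraMap
  exact Algebra.IsIntegral.finite


theorem main (R S : Type u) [CommRing R] [CommRing S] [Algebra R S] [Algebra.FiniteType R S]
    (p : Ideal R) (hp : p ∈ minimalPrimes R) (hfin : (p.primesOver S).Finite) :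
    ∃ g : R, g ∉ p ∧ (Localization.awayMap (algebraMap R S) g).Finite := by
  classical
  haveI hpp : p.IsPrime := Ideal.IsMinimalPrime.isPrime hp
  let Rp := Localization.AtPrime p
  let T := Rp ⊗[R] S
  haveI hfib := finite_fiber R S p hfin
  have hres : Function.Surjective (Algebra.ofId Rp p.ResidueField) := IsLocalRing.residue_surjective
  let φ : T →ₐ[Rp] p.Fiber S :=
    Algebra.TensorProduct.map (Algebra.ofId Rp p.ResidueField) (AlgHom.id R S)
  have hnil : IsLocalRing.maximalIdeal Rp ≤ nilradical Rp := by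
    have := IsLocalization.AtPrime.radical_map_of_mem_minimalPrimes (A := Rp) p ⊥ hp
    rw [Ideal.map_bot, IsLocalization.AtPrime.map_eq_maximalIdeal p Rp] at this
    exact this.symm.le
  have hφker : RingHom.ker φ ≤ nilradical T := by
    have h1 : RingHom.ker φ = (RingHom.ker (Algebra.ofId Rp p.ResidueField)).map
        (Algebra.TensorProduct.includeLeft : Rp →ₐ[R] Rp ⊗[R] S) :=
      Algebra.TensorProduct.rTensor_ker _ hres
    rw [h1, Ideal.map_le_iff_le_comap]
    intro x hx
    have hx' : x ∈ IsLocalRing.maximalIdeal Rp := by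
      rw [RingHom.mem_ker] at hx
      exact (IsLocalRing.residue_eq_zero_iff x).mp hx
    have h2 : IsNilpotent x := mem_nilradical.mp (hnil hx')
    exact mem_nilradical.mpr (h2.map _)
  haveI : Algebra.IsIntegral Rp p.ResidueField :=
    Algebra.IsIntegral.of_surjective (Algebra.ofId Rp p.ResidueField) hres
  haveI : Algebra.IsIntegral p.ResidueField (p.Fiber S) := inferInstance
  have hFint : Algebra.IsIntegral Rp (p.Fiber S) := Algebra.IsIntegral.trans p.ResidueField
  have hTint : Algebra.IsIntegral Rp T := isIntegral_of_nil φ hφker hFint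
  obtain ⟨s, hs⟩ := (inferInstance : Algebra.FiniteType R S).out
  haveI hloc : IsLocalizedModule p.primeCompl (TensorProduct.mk R Rp S 1) :=
    (isLocalizedModule_iff_isBaseChange p.primeCompl Rp _).mpr (TensorProduct.isBaseChange R S Rp)
  have key : ∀ x : S, ∃ (m h : R) (F : Polynomial R), m ∉ p ∧ h ∉ p ∧ F.Monic ∧
      h • Polynomial.aeval (m • x) F = 0 := by
    intro x
    obtain ⟨m, hm⟩ := IsIntegral.exists_multiple_integral_of_isLocalization p.primeCompl
      ((1 : Rp) ⊗ₜ[R] x : T) (hTint.isIntegral _)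
    obtain ⟨F, hF, hFx⟩ := hm
    have h1 : m • ((1 : Rp) ⊗ₜ[R] x : T) = (Algebra.TensorProduct.includeRight : S →ₐ[R] T) ((m : R) • x) := by
      change (m : R) • ((1 : Rp) ⊗ₜ[R] x : T) = (1 : Rp) ⊗ₜ[R] ((m : R) • x)
      rw [TensorProduct.tmul_smul]
    have h2 : (Algebra.TensorProduct.includeRight : S →ₐ[R] T) (Polynomial.aeval ((m : R) • x) F) = 0 := by
      rw [← Polynomial.aeval_algHom_apply, ← h1]
      exact hFx
    have h3 : TensorProduct.mk R Rp S 1 (Polynomial.aeval ((m : R) • x) F) = 0 := h2
    rw [IsLocalizedModule.eq_zero_iff p.primeCompl] at h3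
    obtain ⟨c, hc⟩ := h3
    exact ⟨m, c, F, m.2, c.2, hF, hc⟩
  choose m h F hm hh hF hzero using key
  let g : R := ∏ x ∈ s, (m x * h x)
  refine ⟨g, ?_, ?_⟩
  · intro hg
    obtain ⟨x, -, hx⟩ := (Ideal.IsPrime.prod_mem_iff).mp hg
    rcases hpp.mem_or_mem hx with h1 | h1
    · exact hm x h1
    · exact hh x h1
  · apply finite_awayMap R S s hs g m h F (fun x _ => hF x) (fun x _ => hzero x)
    · intro x hx
      exact Dvd.dvd.trans (Dvd.intro _ rfl) (Finset.dvd_prod_of_mem _ hx)
    · intro x hx
      exact Dvd.dvd.trans (Dvd.intro_left _ rfl) (Finset.dvd_prod_of_mem _ hx)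


end H14S9135

namespace Groth.Agent.S9135

/-- Let R → S be of finite type and p a minimal prime of R over which only finitely many primes of S
lie. Then for some g ∈ R outside p the localized map R_g → S_g is finite. -/
theorem result (R S : Type u) [CommRing R] [CommRing S]
    [Algebra R S] [Algebra.FiniteType R S] (p : Ideal R) (hp : p ∈ minimalPrimes R)
    (hfin : (p.primesOver S).Finite) :
    ∃ g : R, g ∉ p ∧ (Localization.awayMap (algebraMap R S) g).Finite := by
  exact H14S9135.main R S p hp hfin

end Groth.Agent.S9135
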