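import Groth.Statements.S9622
import Mathlib

set_option autoImplicit false
universe u
open CAlg

namespace Groth.Agent.S9622

open IsLocalRing

theorem finite_of_residue {R S : Type u} [CommRing R] [CommRing S] [Algebra R S]
    [IsArtinianRing S] [IsLocalRing S] [Module.Finite R (S ⧸ maximalIdeal S)] :
    Module.Finite R S := by
  refine Module.finite_of_surjective_of_ker_le_nilradical (Ideal.Quotient.mkₐ R (maximalIdeal S))
    Ideal.Quotient.mk_surjective ?_ ?_
  · rw [← RingHom.ker_coe_toRingHom, Ideal.Quotient.mkₐ_ker,
      ← Ring.KrullDimLE.nilradical_eq_maximalIdeal]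
  · rw [← RingHom.ker_coe_toRingHom, Ideal.Quotient.mkₐ_ker]
    exact IsNoetherian.noetherian _

/-- Let R → S be a ring map whose target S is a local Artinian ring, and write m for the maximal ideal
of S. Then S is a finite R-module exactly when S/m is, and S is an R-algebra of finite type exactly
when S/m is. -/
theorem result {R S : Type u} [CommRing R] [CommRing S] [Algebra R S] [IsArtinianRing S] [IsLocalRing S] :
    (Module.Finite R S ↔ Module.Finite R (S ⧸ IsLocalRing.maximalIdeal S)) ∧
      (Algebra.FiniteType R S ↔ Algebra.FiniteType R (S ⧸ IsLocalRing.maximalIdeal S)) := by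
  refine ⟨⟨fun h => inferInstance, fun h => finite_of_residue⟩, ⟨fun h => inferInstance, fun h => ?_⟩⟩
  obtain ⟨n, f, hf⟩ := Algebra.FiniteType.iff_quotient_mvPolynomial''.mp h
  have hx : ∀ i : Fin n, ∃ x : S, Ideal.Quotient.mk (maximalIdeal S) x = f (MvPolynomial.X i) :=
    fun i => Ideal.Quotient.mk_surjective _
  choose x hx using hx
  let g : MvPolynomial (Fin n) R →ₐ[R] S := MvPolynomial.aeval x
  have hgf : (Ideal.Quotient.mkₐ R (maximalIdeal S)).comp g = f := by
    apply MvPolynomial.algHom_ext
    intro i
    simp [g, hx]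
  letI : Algebra (MvPolynomial (Fin n) R) S := g.toRingHom.toAlgebra
  haveI : IsScalarTower R (MvPolynomial (Fin n) R) S :=
    IsScalarTower.of_algebraMap_eq' g.comp_algebraMap.symm
  haveI : Module.Finite (MvPolynomial (Fin n) R) (S ⧸ maximalIdeal S) := by
    apply Module.Finite.of_surjective
      (Algebra.linearMap (MvPolynomial (Fin n) R) (S ⧸ maximalIdeal S))
    intro y
    obtain ⟨p, rfl⟩ := hf y
    refine ⟨p, ?_⟩
    rw [← hgf]
    rfl
  haveI : Module.Finite (MvPolynomial (Fin n) R) S := finite_of_residue
  exact Algebra.FiniteType.trans (S := MvPolynomial (Fin n) R) inferInstance inferInstance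

end Groth.Agent.S9622
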