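import Groth.Statements.S9137
import Groth.Agent.S9622
import Mathlib

set_option autoImplicit false
universe u
open CAlg

namespace Groth.Agent.S9137

open IsLocalRing

theorem finite_quotient (R S : Type u) [CommRing R] [CommRing S] [IsLocalRing R] [IsLocalRing S]
    [Algebra R S] [IsLocalHom (algebraMap R S)] [Algebra.EssFiniteType R S]
    (hres : Module.Finite (ResidueField R) (ResidueField S))
    (hdim : ringKrullDim (S ⧸ (maximalIdeal R).map (algebraMap R S)) = 0) :
    Module.Finite R (S ⧸ (maximalIdeal R).map (algebraMap R S)) := by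
  set J := (maximalIdeal R).map (algebraMap R S) with hJdef
  have hJ : J ≤ maximalIdeal S :=
    ((local_hom_TFAE (algebraMap R S)).out 0 2 rfl rfl).mp ‹_›
  haveI : Nontrivial (S ⧸ J) := by
    rw [Ideal.Quotient.nontrivial_iff]
    intro h
    exact (Ideal.IsPrime.ne_top (inferInstance : (maximalIdeal S).IsPrime)) (top_le_iff.mp (h ▸ hJ))
  haveI : IsLocalRing (S ⧸ J) := IsLocalRing.of_surjective' (Ideal.Quotient.mk J)
    Ideal.Quotient.mk_surjective
  letI : Field (R ⧸ maximalIdeal R) := Ideal.Quotient.field _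
  haveI : IsNoetherianRing (S ⧸ J) :=
    Algebra.EssFiniteType.isNoetherianRing (R ⧸ maximalIdeal R) (S ⧸ J)
  haveI : Ring.KrullDimLE 0 (S ⧸ J) := by
    rw [Ring.krullDimLE_iff, hdim]
    rfl
  haveI : IsArtinianRing (S ⧸ J) := isArtinianRing_iff_krullDimLE_zero.mpr inferInstance
  haveI : Module.Finite R (ResidueField S) := Module.Finite.trans (ResidueField R) (ResidueField S)
  haveI : Module.Finite R ((S ⧸ J) ⧸ maximalIdeal (S ⧸ J)) := by
    let φ : (ResidueField S) →ₐ[R] ((S ⧸ J) ⧸ maximalIdeal (S ⧸ J)) :=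
      Ideal.Quotient.liftₐ (maximalIdeal S)
        ((Ideal.Quotient.mkₐ R (maximalIdeal (S ⧸ J))).comp (Ideal.Quotient.mkₐ R J)) (by
          intro a ha
          show Ideal.Quotient.mk (maximalIdeal (S ⧸ J)) (Ideal.Quotient.mk J a) = 0
          rw [Ideal.Quotient.eq_zero_iff_mem, mem_maximalIdeal, mem_nonunits_iff]
          intro hu
          obtain ⟨b, hb⟩ := hu.exists_right_inv
          obtain ⟨b, rfl⟩ := Ideal.Quotient.mk_surjective b
          rw [← map_mul, ← map_one (Ideal.Quotient.mk J), Ideal.Quotient.eq] at hb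
          have h1 : a * b - 1 ∈ maximalIdeal S := hJ hb
          have h2 : a * b ∈ maximalIdeal S := Ideal.mul_mem_right _ _ ha
          have h3 : (1 : S) ∈ maximalIdeal S := by
            have := Ideal.sub_mem _ h2 h1
            simpa using this
          exact (Ideal.IsPrime.ne_top (inferInstance : (maximalIdeal S).IsPrime))
            ((Ideal.eq_top_iff_one _).mpr h3))
    refine Module.Finite.of_surjective φ.toLinearMap ?_
    intro x
    obtain ⟨x, rfl⟩ := Ideal.Quotient.mk_surjective x
    obtain ⟨x, rfl⟩ := Ideal.Quotient.mk_surjective x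
    exact ⟨IsLocalRing.residue S x, rfl⟩
  exact Groth.Agent.S9622.finite_of_residue

/-- a local ring that is a localization of a subalgebra `T`, and a smaller subalgebra `S''`
which agrees with `T` after inverting `r`, is the localization of `S''` at a prime -/
theorem isLocalization_atPrime_of_subalgebra (R S : Type u) [CommRing R] [CommRing S] [IsLocalRing S]
    [Algebra R S] (T : Subalgebra R S) (hT : ∀ s : S, ∃ t ∈ T, IsUnit t ∧ s * t ∈ T)
    (S'' : Subalgebra R S) (r : S) (hr : r ∈ S'') (hru : IsUnit r)
    (hstar : ∀ t ∈ T, ∃ m : ℕ, r ^ m * t ∈ S'') :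
    IsLocalization.AtPrime S ((maximalIdeal S).comap (algebraMap S'' S)) := by
  refine ⟨?_, ?_, ?_⟩
  · rintro ⟨y, hy⟩
    have : algebraMap S'' S y ∉ maximalIdeal S := hy
    rwa [mem_maximalIdeal, mem_nonunits_iff, not_not] at this
  · intro s
    obtain ⟨t, htT, htu, hst⟩ := hT s
    obtain ⟨m, hm⟩ := hstar t htT
    obtain ⟨n, hn⟩ := hstar (s * t) hst
    have hd : r ^ n * (r ^ m * t) ∈ S'' := S''.mul_mem (S''.pow_mem hr n) hm
    have hdu : IsUnit (r ^ n * (r ^ m * t)) := (hru.pow n).mul ((hru.pow m).mul htu)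
    have hnum : r ^ m * (r ^ n * (s * t)) ∈ S'' := S''.mul_mem (S''.pow_mem hr m) hn
    refine ⟨⟨⟨_, hnum⟩, ⟨⟨_, hd⟩, ?_⟩⟩, ?_⟩
    · show (⟨_, hd⟩ : S'') ∉ (maximalIdeal S).comap (algebraMap S'' S)
      rw [Ideal.mem_comap, mem_maximalIdeal, mem_nonunits_iff, not_not]
      exact hdu
    · show s * (r ^ n * (r ^ m * t)) = r ^ m * (r ^ n * (s * t))
      ring
  · intro x y hxy
    refine ⟨1, ?_⟩
    have : x = y := Subtype.ext hxy
    rw [this]

/-- Let R → S be a local ring homomorphism between local rings, essentially of finite type, such that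
the residue field of S is finite over that of R and S/m_R S has dimension zero. Then S is, as an
R-algebra, the localization of a finite R-algebra at a prime. -/
theorem result (R S : Type u) [CommRing R] [CommRing S]
    [IsLocalRing R] [IsLocalRing S] [Algebra R S] [IsLocalHom (algebraMap R S)]
    [Algebra.EssFiniteType R S]
    (hres : Module.Finite (IsLocalRing.ResidueField R) (IsLocalRing.ResidueField S))
    (hdim : ringKrullDim (S ⧸ (IsLocalRing.maximalIdeal R).map (algebraMap R S)) = 0) :
    ∃ (S' : Type u) (_ : CommRing S') (_ : Algebra R S') (_ : Algebra S' S) (_ : IsScalarTower R S' S)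
      (q : Ideal S') (_ : q.IsPrime), Module.Finite R S' ∧ IsLocalization.AtPrime S q := by
  have hfin := finite_quotient R S hres hdim
  let T := Algebra.EssFiniteType.subalgebra R S
  let M := Algebra.EssFiniteType.submonoid R S
  have hT : ∀ s : S, ∃ t ∈ T, IsUnit t ∧ s * t ∈ T :=
    (Algebra.essFiniteType_cond_iff (R := R) (S := S) (Algebra.EssFiniteType.finset R S)).mp
      (inferInstance : IsLocalization M S)
  let q : Ideal T := (maximalIdeal S).comap (algebraMap T S)
  haveI : q.IsPrime := Ideal.comap_isPrime _ _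
  have hM : M = q.primeCompl := by
    ext t
    show IsUnit (algebraMap T S t) ↔ t ∉ q
    rw [Ideal.mem_comap, mem_maximalIdeal, mem_nonunits_iff, not_not]
  haveI : IsLocalization.AtPrime S q := by
    show IsLocalization q.primeCompl S
    rw [← hM]
    infer_instance
  have hqR : q.under R = maximalIdeal R := by
    show (q.comap (algebraMap R T)) = _
    rw [Ideal.comap_comap, ← IsScalarTower.algebraMap_eq]
    exact ((local_hom_TFAE (algebraMap R S)).out 0 4 rfl rfl).mp ‹_›
  haveI : Algebra.WeaklyQuasiFiniteAt R q := by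
    rw [Algebra.weaklyQuasiFiniteAt_iff]
    let e : Localization.AtPrime q ≃ₐ[T] S := IsLocalization.algEquiv q.primeCompl _ _
    let e' : S ≃ₐ[R] Localization.AtPrime q := (e.restrictScalars R).symm
    haveI : Algebra.QuasiFinite R (S ⧸ (maximalIdeal R).map (algebraMap R S)) := inferInstance
    let g : S →ₐ[R] (Localization.AtPrime q ⧸
        (q.under R).map (algebraMap R (Localization.AtPrime q))) :=
      (Ideal.Quotient.mkₐ R _).comp e'.toAlgHom
    have hg : (maximalIdeal R).map (algebraMap R S) ≤ RingHom.ker g.toRingHom := by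
      rw [Ideal.map_le_iff_le_comap]
      intro a ha
      rw [Ideal.mem_comap, RingHom.mem_ker]
      show g (algebraMap R S a) = 0
      rw [g.commutes, IsScalarTower.algebraMap_apply R (Localization.AtPrime q)
        (Localization.AtPrime q ⧸ (q.under R).map (algebraMap R (Localization.AtPrime q))),
        Ideal.Quotient.algebraMap_eq, Ideal.Quotient.eq_zero_iff_mem]
      apply Ideal.mem_map_of_mem
      rw [hqR]; exact ha
    let f : (S ⧸ (maximalIdeal R).map (algebraMap R S)) →ₐ[R] (Localization.AtPrime q ⧸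
        (q.under R).map (algebraMap R (Localization.AtPrime q))) :=
      Ideal.Quotient.liftₐ _ g (fun a ha => hg ha)
    refine Algebra.QuasiFinite.of_surjective_algHom f ?_
    intro x
    obtain ⟨x, rfl⟩ := Ideal.Quotient.mk_surjective x
    obtain ⟨s, rfl⟩ := e'.surjective x
    exact ⟨Ideal.Quotient.mk _ s, rfl⟩
  obtain ⟨S', hS'fg, r, hrq, hbij⟩ :=
    Algebra.QuasiFiniteAt.exists_fg_and_exists_notMem_and_awayMap_bijective (R := R) q
  have hstar := Localization.awayMap_surjective_iff.mp hbij.2
  -- transport to a subalgebra of `S`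
  let S'' : Subalgebra R S := S'.map T.val
  have hS''fg : S''.toSubmodule.FG := by
    have : S''.toSubmodule = S'.toSubmodule.map T.val.toLinearMap := rfl
    rw [this]
    exact hS'fg.map _
  haveI : Module.Finite R S'' := Module.Finite.iff_fg.mpr hS''fg
  have hr'' : ((r : T) : S) ∈ S'' := ⟨(r : T), r.2, rfl⟩
  have hru : IsUnit ((r : T) : S) := by
    have : (r : T) ∉ q := hrq
    rwa [Ideal.mem_comap, mem_maximalIdeal, mem_nonunits_iff, not_not] at this
  have hstar' : ∀ t ∈ T, ∃ m : ℕ, ((r : T) : S) ^ m * t ∈ S'' := by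
    intro t ht
    obtain ⟨b, m, hb⟩ := hstar ⟨t, ht⟩
    refine ⟨m, ⟨(b : T), b.2, ?_⟩⟩
    have := congrArg (fun z : T => (z : S)) hb
    simpa using this
  exact ⟨S'', inferInstance, inferInstance, inferInstance, inferInstance,
    (maximalIdeal S).comap (algebraMap S'' S), Ideal.comap_isPrime _ _, inferInstance,
    isLocalization_atPrime_of_subalgebra R S T hT S'' _ hr'' hru hstar'⟩

end Groth.Agent.S9137
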