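import Groth.Statements.S9138
import Mathlib
import Groth.Agent.Lib.helper24.AdicUnit

set_option autoImplicit false
universe u
open CAlg

namespace Groth.Agent.S9138

section Aux
open Groth.Agent.Lib.helper24.AdicUnit


theorem finite_quot (R S : Type u) [CommRing R] [CommRing S]
    [IsLocalRing R] [Algebra R S]
    (hfib : Module.Finite (IsLocalRing.maximalIdeal R).ResidueField ((IsLocalRing.maximalIdeal R).Fiber S)) :
    Module.Finite R (S ⧸ (IsLocalRing.maximalIdeal R).map (algebraMap R S)) ∧
    IsArtinian R (S ⧸ (IsLocalRing.maximalIdeal R).map (algebraMap R S)) := by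
  set 𝔪 := IsLocalRing.maximalIdeal R with h𝔪
  set κ := 𝔪.ResidueField
  have hsurj : Function.Surjective (algebraMap R κ) := Ideal.algebraMap_residueField_surjective 𝔪
  have hbij : Function.Bijective (algebraMap (R ⧸ 𝔪) κ) := Ideal.bijective_algebraMap_quotient_residueField 𝔪
  let e0 : (R ⧸ 𝔪) ≃ₗ[R] κ :=
    LinearEquiv.ofBijective ((Algebra.linearMap (R ⧸ 𝔪) κ).restrictScalars R) hbij
  let e1 : (S ⧸ (𝔪 • ⊤ : Submodule R S)) ≃ₗ[R] TensorProduct R κ S :=
    (TensorProduct.quotTensorEquivQuotSMul S 𝔪).symm ≪≫ₗ (LinearEquiv.rTensor S e0)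
  have hidl : (𝔪 • ⊤ : Submodule R S) = (𝔪.map (algebraMap R S)).restrictScalars R :=
    Ideal.smul_top_eq_map 𝔪
  let e2 : (S ⧸ 𝔪.map (algebraMap R S)) ≃ₗ[R] (S ⧸ (𝔪 • ⊤ : Submodule R S)) :=
    (Submodule.Quotient.restrictScalarsEquiv R (𝔪.map (algebraMap R S))).symm ≪≫ₗ
      Submodule.quotEquivOfEq _ _ hidl.symm
  let e := e2 ≪≫ₗ e1
  haveI : Module.Finite R κ := Module.Finite.of_surjective (Algebra.linearMap R κ) hsurj
  haveI : Module.Finite κ (TensorProduct R κ S) := hfib
  haveI : Module.Finite R (TensorProduct R κ S) := Module.Finite.trans κ _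
  haveI : IsArtinian κ (TensorProduct R κ S) := inferInstance
  haveI : IsArtinian R (TensorProduct R κ S) := isArtinian_of_surjective_algebraMap (R := κ) hsurj
  exact ⟨Module.Finite.equiv e.symm, isArtinian_of_linearEquiv e.symm⟩



theorem exists_pow_le (R S : Type u) [CommRing R] [CommRing S]
    [IsLocalRing S] [Algebra R S] (I : Ideal S)
    [IsArtinian R (S ⧸ I)] :
    ∃ k : ℕ, IsLocalRing.maximalIdeal S ^ k ≤ I := by
  haveI : IsArtinian S (S ⧸ I) := isArtinian_of_tower R inferInstance
  haveI : IsArtinianRing (S ⧸ I) := isArtinian_of_tower S (inferInstance : IsArtinian S (S ⧸ I))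
  obtain ⟨k, hk⟩ := IsArtinianRing.isNilpotent_jacobson_bot (R := S ⧸ I)
  refine ⟨k, ?_⟩
  have h1 : (IsLocalRing.maximalIdeal S).map (Ideal.Quotient.mk I) ≤ Ideal.jacobson ⊥ := by
    rw [Ideal.map_le_iff_le_comap]
    intro a ha
    rw [Ideal.mem_comap, Ideal.mem_jacobson_bot]
    intro y
    obtain ⟨b, rfl⟩ := Ideal.Quotient.mk_surjective y
    rw [← map_mul, ← map_one (Ideal.Quotient.mk I), ← map_add]
    apply IsUnit.map
    have : a * b ∈ IsLocalRing.maximalIdeal S := Ideal.mul_mem_right _ _ ha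
    by_contra hu
    have h2 : a * b + 1 ∈ IsLocalRing.maximalIdeal S := (IsLocalRing.mem_maximalIdeal _).mpr hu
    have h3 : (1 : S) ∈ IsLocalRing.maximalIdeal S := by
      have := Ideal.sub_mem _ h2 this
      simpa using this
    exact (Ideal.ne_top_iff_one _).mp (IsLocalRing.maximalIdeal.isMaximal S).ne_top h3
  have h2 : (IsLocalRing.maximalIdeal S ^ k).map (Ideal.Quotient.mk I) ≤ ⊥ := by
    rw [Ideal.map_pow, ← Ideal.zero_eq_bot, ← hk]
    exact Ideal.pow_right_mono h1 k
  intro x hx
  have := h2 (Ideal.mem_map_of_mem _ hx)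
  rw [Ideal.mem_bot, Ideal.Quotient.eq_zero_iff_mem] at this
  exact this



theorem pow_mul_add_le {S : Type u} [CommRing S] (I K : Ideal S) (k : ℕ) (hk : K ^ k ≤ I) (n : ℕ) :
    K ^ (k * n + n) ≤ I ^ n := by
  calc K ^ (k * n + n) ≤ K ^ (k * n) := Ideal.pow_le_pow_right (Nat.le_add_right _ _)
    _ = (K ^ k) ^ n := pow_mul K k n
    _ ≤ I ^ n := Ideal.pow_right_mono hk n

theorem cauchy_sub_mem {S : Type u} [CommRing S] (I : Ideal S) (c : AdicCompletion.AdicCauchySequence I S)
    {m n : ℕ} (hmn : m ≤ n) : c m - c n ∈ I ^ m := by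
  have := c.2 hmn
  rw [SModEq.sub_mem, smul_eq_mul, Ideal.mul_top] at this
  exact this

theorem complMap_id_bijective {S : Type u} [CommRing S] (I K : Ideal S)
    (h' : I.map (RingHom.id S) ≤ K) (k : ℕ) (hk : K ^ k ≤ I) :
    Function.Bijective (FSch.complMap I K (RingHom.id S) h') := by
  constructor
  · rw [injective_iff_map_eq_zero]
    intro x hx
    obtain ⟨c, rfl⟩ := AdicCompletion.mk_surjective I S x
    have h1 : ∀ m, c m ∈ K ^ m := by
      intro m
      have := evalₐ_complMap_of_eq I K (RingHom.id S) h' m (AdicCompletion.mk I S c) (c m)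
        (AdicCompletion.evalₐ_mk I m c)
      rw [hx, map_zero] at this
      exact Ideal.Quotient.eq_zero_iff_mem.mp this.symm
    apply AdicCompletion.ext_evalₐ
    intro n
    rw [AdicCompletion.evalₐ_mk, map_zero, Ideal.Quotient.eq_zero_iff_mem]
    have h2 := cauchy_sub_mem I c (Nat.le_add_left n (k * n))
    have h3 := pow_mul_add_le I K k hk n (h1 (k * n + n))
    have := Ideal.add_mem _ h2 h3
    simpa using this
  · intro y
    obtain ⟨c, rfl⟩ := AdicCompletion.mk_surjective K S y
    have hb : AdicCompletion.IsAdicCauchy I S (fun n => c (k * n + n)) := by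
      intro m n hmn
      rw [SModEq.sub_mem, smul_eq_mul, Ideal.mul_top]
      have h1 : k * m + m ≤ k * n + n := by nlinarith
      exact pow_mul_add_le I K k hk m (cauchy_sub_mem K c h1)
    refine ⟨AdicCompletion.mk I S ⟨_, hb⟩, ?_⟩
    apply AdicCompletion.ext_evalₐ
    intro n
    rw [evalₐ_complMap_of_eq I K (RingHom.id S) h' n _ (c (k * n + n))
      (AdicCompletion.evalₐ_mk I n _), AdicCompletion.evalₐ_mk, RingHom.id_apply, Ideal.Quotient.eq]
    have := cauchy_sub_mem K c (Nat.le_add_left n (k * n))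
    rw [← neg_sub]
    exact Ideal.neg_mem_iff _ |>.mpr this



theorem complMap_finite (R S : Type u) [CommRing R] [CommRing S] [Algebra R S] (𝔪 : Ideal R)
    (hm : 𝔪.FG) [Module.Finite R (S ⧸ 𝔪.map (algebraMap R S))] :
    (FSch.complMap 𝔪 (𝔪.map (algebraMap R S)) (algebraMap R S) le_rfl).Finite := by
  classical
  set I := 𝔪.map (algebraMap R S) with hIdef
  have hIfg : I.FG := hm.map _
  set φ := FSch.complMap 𝔪 I (algebraMap R S) le_rfl with hφ
  letI alg : Algebra (AdicCompletion 𝔪 R) (AdicCompletion I S) := φ.toAlgebra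
  show Module.Finite (AdicCompletion 𝔪 R) (AdicCompletion I S)
  have halg : ∀ a : AdicCompletion 𝔪 R, algebraMap (AdicCompletion 𝔪 R) (AdicCompletion I S) a = φ a :=
    fun a => rfl
  have hφof : ∀ r : R, φ (AdicCompletion.of 𝔪 R r) = AdicCompletion.of I S (algebraMap R S r) :=
    fun r => complMap_of 𝔪 I (algebraMap R S) le_rfl r
  -- generators
  obtain ⟨d, sbar, hs⟩ := Module.Finite.exists_fin (R := R) (M := S ⧸ I)
  choose s hs' using fun i => Ideal.Quotient.mk_surjective (sbar i)
  set 𝔪h : Ideal (AdicCompletion 𝔪 R) := 𝔪.map (algebraMap R (AdicCompletion 𝔪 R)) with h𝔪h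
  let f : AdicCompletion 𝔪 (Fin d → R) →ₗ[AdicCompletion 𝔪 R] AdicCompletion I S :=
    ∑ i, (LinearMap.toSpanSingleton (AdicCompletion 𝔪 R) (AdicCompletion I S)
      (AdicCompletion.of I S (s i))) ∘ₗ (AdicCompletion.map 𝔪 (LinearMap.proj i))
  have hf_of : ∀ r : Fin d → R, f (AdicCompletion.of 𝔪 (Fin d → R) r) =
      ∑ i, AdicCompletion.of I S (algebraMap R S (r i)) * AdicCompletion.of I S (s i) := by
    intro r
    simp only [f, LinearMap.sum_apply, LinearMap.comp_apply, AdicCompletion.map_of,
      LinearMap.toSpanSingleton_apply, LinearMap.proj_apply]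
    refine Finset.sum_congr rfl fun i _ => ?_
    rw [Algebra.smul_def, halg]
    change φ (AdicCompletion.of 𝔪 R (r i)) * _ = _
    rw [hφof]
  haveI : IsPrecomplete 𝔪h (AdicCompletion 𝔪 (Fin d → R)) :=
    (IsPrecomplete.map_algebraMap_iff).mpr (AdicCompletion.isAdicComplete hm).toIsPrecomplete
  -- ideal comparison
  have hmap : I.map (algebraMap S (AdicCompletion I S)) = 𝔪h.map φ := by
    have e1 : I.map (algebraMap S (AdicCompletion I S)) =
        𝔪.map ((algebraMap S (AdicCompletion I S)).comp (algebraMap R S)) := Ideal.map_map _ _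
    have e2 : 𝔪h.map φ = 𝔪.map (φ.comp (algebraMap R (AdicCompletion 𝔪 R))) := Ideal.map_map _ _
    rw [e1, e2]
    congr 1
  have hker : ∀ x : AdicCompletion I S, AdicCompletion.evalOneₐ I x = 0 →
      x ∈ (𝔪h • ⊤ : Submodule (AdicCompletion 𝔪 R) (AdicCompletion I S)) := by
    intro x hx
    have h1 : x ∈ RingHom.ker (AdicCompletion.evalOneₐ I).toRingHom := hx
    rw [AdicCompletion.ker_evalOneₐ_eq_map I hIfg, hmap] at h1
    rw [Ideal.smul_top_eq_map]
    exact h1
  have hev : ∀ n, ∀ x ∈ (𝔪h ^ n • ⊤ : Submodule (AdicCompletion 𝔪 R) (AdicCompletion I S)),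
      AdicCompletion.evalₐ I n x = 0 := by
    intro n x hx
    have hle : 𝔪h ^ n ≤ RingHom.ker (AdicCompletion.evalₐ 𝔪 n).toRingHom := by
      rw [h𝔪h, ← Ideal.map_pow, Ideal.map_le_iff_le_comap]
      intro r hr
      rw [Ideal.mem_comap, RingHom.mem_ker]
      show AdicCompletion.evalₐ 𝔪 n (algebraMap R (AdicCompletion 𝔪 R) r) = 0
      rw [AlgHom.commutes]
      exact Ideal.Quotient.eq_zero_iff_mem.mpr hr
    refine Submodule.smul_induction_on hx ?_ ?_
    · intro a ha t _
      rw [Algebra.smul_def, halg, map_mul, evalₐ_complMap]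
      have : AdicCompletion.evalₐ 𝔪 n a = 0 := hle ha
      rw [this, map_zero, zero_mul]
    · intro x y hx hy
      rw [map_add, hx, hy, add_zero]
  haveI : IsHausdorff 𝔪h (AdicCompletion I S) := by
    refine ⟨fun x hx => ?_⟩
    apply AdicCompletion.ext_evalₐ
    intro n
    rw [map_zero]
    exact hev n x ((SModEq.zero).mp (hx n))
  have hsurj : Function.Surjective (Submodule.mkQ (𝔪h • ⊤ : Submodule (AdicCompletion 𝔪 R) (AdicCompletion I S)) ∘ₗ f) := by
    intro y
    obtain ⟨t, rfl⟩ := Submodule.mkQ_surjective _ y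
    have hmem : AdicCompletion.evalOneₐ I t ∈ Submodule.span R (Set.range sbar) := by
      rw [hs]; trivial
    obtain ⟨r, hr⟩ := (Submodule.mem_span_range_iff_exists_fun R).mp hmem
    refine ⟨AdicCompletion.of 𝔪 (Fin d → R) r, ?_⟩
    rw [LinearMap.comp_apply, Submodule.mkQ_apply, Submodule.mkQ_apply, Submodule.Quotient.eq]
    apply hker
    rw [map_sub, hf_of, map_sum, ← hr, sub_eq_zero]
    refine Finset.sum_congr rfl fun i _ => ?_
    rw [map_mul, AdicCompletion.evalOneₐ_of, AdicCompletion.evalOneₐ_of, ← hs' i, Algebra.smul_def]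
    rfl
  haveI : Module.Finite (AdicCompletion 𝔪 R) (AdicCompletion 𝔪 (Fin d → R)) :=
    Module.Finite.equiv (AdicCompletion.piEquivFin 𝔪 d).symm
  exact Module.Finite.of_surjective f (_root_.surjective_of_mkQ_comp_surjective hsurj)


end Aux

open Groth.Agent.Lib.helper24.AdicUnit in

/-- Let R → S be a local ring homomorphism between local rings with finitely generated maximal ideals m
and n, such that S/mS is a finite-dimensional κ(m)-vector space. Then (1) the canonical ring map
from the mS-adic completion of S to the n-adic completion of S is bijective, and (2) the induced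
ring map from the m-adic completion of R to the n-adic completion of S is finite. (The hypotheses h
and h' record the inclusion mS ⊆ n, which holds for any local homomorphism; they are the arguments
the completion maps take.) -/
theorem result (R S : Type u) [CommRing R] [CommRing S]
    [IsLocalRing R] [IsLocalRing S] [Algebra R S] [IsLocalHom (algebraMap R S)]
    (hm : (IsLocalRing.maximalIdeal R).FG) (hn : (IsLocalRing.maximalIdeal S).FG)
    (hfib : Module.Finite (IsLocalRing.maximalIdeal R).ResidueField ((IsLocalRing.maximalIdeal R).Fiber S))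
    (h : (IsLocalRing.maximalIdeal R).map (algebraMap R S) ≤ IsLocalRing.maximalIdeal S)
    (h' : ((IsLocalRing.maximalIdeal R).map (algebraMap R S)).map (RingHom.id S) ≤ IsLocalRing.maximalIdeal S) :
    Function.Bijective (FSch.complMap ((IsLocalRing.maximalIdeal R).map (algebraMap R S))
        (IsLocalRing.maximalIdeal S) (RingHom.id S) h') ∧
      (FSch.complMap (IsLocalRing.maximalIdeal R) (IsLocalRing.maximalIdeal S) (algebraMap R S) h).Finite := by
  obtain ⟨hfin, hart⟩ := finite_quot R S hfib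
  haveI := hfin
  haveI := hart
  obtain ⟨k, hk⟩ := exists_pow_le R S ((IsLocalRing.maximalIdeal R).map (algebraMap R S))
  have hbij := complMap_id_bijective ((IsLocalRing.maximalIdeal R).map (algebraMap R S))
    (IsLocalRing.maximalIdeal S) h' k hk
  refine ⟨hbij, ?_⟩
  have hfinφ := complMap_finite R S (IsLocalRing.maximalIdeal R) hm
  have hcomp : FSch.complMap (IsLocalRing.maximalIdeal R) (IsLocalRing.maximalIdeal S) (algebraMap R S) h =
      (FSch.complMap ((IsLocalRing.maximalIdeal R).map (algebraMap R S))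
        (IsLocalRing.maximalIdeal S) (RingHom.id S) h').comp
      (FSch.complMap (IsLocalRing.maximalIdeal R) ((IsLocalRing.maximalIdeal R).map (algebraMap R S))
        (algebraMap R S) le_rfl) := by
    refine RingHom.ext fun z => ?_
    apply AdicCompletion.ext_evalₐ
    intro n
    obtain ⟨s, hs⟩ := Ideal.Quotient.mk_surjective (AdicCompletion.evalₐ (IsLocalRing.maximalIdeal R) n z)
    rw [RingHom.comp_apply, evalₐ_complMap_of_eq _ _ _ h n z s hs.symm,
      evalₐ_complMap_of_eq _ _ _ h' n _ (algebraMap R S s)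
        (evalₐ_complMap_of_eq _ _ _ le_rfl n z s hs.symm)]
    rfl
  rw [hcomp]
  exact RingHom.Finite.comp (RingHom.Finite.of_surjective _ hbij.surjective) hfinφ

end Groth.Agent.S9138
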