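import Groth.Statements.S9139
import Mathlib

set_option autoImplicit false
universe u
open CAlg

namespace Groth.Agent.S9139

/-- An element of `I • ⊤` lies in `I₀ • ⊤` for a finitely generated subideal `I₀`. -/
theorem exists_fg_le_mem_smul_top {R M : Type u} [CommRing R] [AddCommGroup M] [Module R M]
    (I : Ideal R) (z : M) (hz : z ∈ I • (⊤ : Submodule R M)) :
    ∃ I₀ : Ideal R, I₀ ≤ I ∧ I₀.FG ∧ z ∈ I₀ • (⊤ : Submodule R M) := by
  refine Submodule.smul_induction_on hz ?_ ?_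
  · intro a ha y _
    refine ⟨Ideal.span {a}, (Ideal.span_singleton_le_iff_mem I).mpr ha, ⟨{a}, by simp⟩, ?_⟩
    exact Submodule.smul_mem_smul (Ideal.mem_span_singleton_self a) Submodule.mem_top
  · rintro x y ⟨I₁, h1, hfg1, hx⟩ ⟨I₂, h2, hfg2, hy⟩
    refine ⟨I₁ ⊔ I₂, sup_le h1 h2, Submodule.FG.sup hfg1 hfg2, ?_⟩
    exact add_mem (Submodule.smul_mono_left le_sup_left hx) (Submodule.smul_mono_left le_sup_right hy)

/-- Let I be a locally nilpotent ideal of a ring R (every element of I is nilpotent) and S → S' a map of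
R-algebras with S' of finite type over R. If S → S'/IS' is surjective then so is S → S'. -/
theorem result (R S S' : Type u) [CommRing R] [CommRing S]
    [CommRing S'] [Algebra R S] [Algebra R S'] [Algebra.FiniteType R S'] (I : Ideal R)
    (hI : ∀ x ∈ I, IsNilpotent x) (f : S →ₐ[R] S')
    (hf : Function.Surjective ((Ideal.Quotient.mk (I.map (algebraMap R S'))).comp f.toRingHom)) :
    Function.Surjective f := by
  classical
  obtain ⟨G, hG⟩ := (Algebra.FiniteType.out : (⊤ : Subalgebra R S').FG)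
  -- for every element `y` there is `s` with `y - f s ∈ I • ⊤`
  have h1 : ∀ y : S', ∃ s : S, y - f s ∈ I • (⊤ : Submodule R S') := by
    intro y
    obtain ⟨s, hs⟩ := hf (Ideal.Quotient.mk _ y)
    refine ⟨s, ?_⟩
    rw [Ideal.smul_top_eq_map]
    change y - f s ∈ I.map (algebraMap R S')
    rw [← Ideal.Quotient.eq]
    exact hs.symm
  choose σ hσ using h1
  -- finitely generated subideal working for the generators
  have h2 : ∃ I₀ : Ideal R, I₀ ≤ I ∧ I₀.FG ∧ ∀ x ∈ G, x - f (σ x) ∈ I₀ • (⊤ : Submodule R S') := by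
    have : ∀ x : S', ∃ I₀ : Ideal R, I₀ ≤ I ∧ I₀.FG ∧ x - f (σ x) ∈ I₀ • (⊤ : Submodule R S') :=
      fun x => exists_fg_le_mem_smul_top I _ (hσ x)
    choose J hJ1 hJ2 hJ3 using this
    refine ⟨G.sup J, Finset.sup_le (fun x _ => hJ1 x), ?_, ?_⟩
    · exact Submodule.fg_finset_sup G J (fun x _ => hJ2 x)
    · intro x hx
      exact Submodule.smul_mono_left (Finset.le_sup hx) (hJ3 x)
  obtain ⟨I₀, hI₀I, hI₀fg, hI₀⟩ := h2
  -- `I₀` is nilpotent
  obtain ⟨N, hN⟩ : IsNilpotent I₀ := by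
    rw [hI₀fg.isNilpotent_iff_le_nilradical]
    intro a ha
    exact hI a (hI₀I ha)
  -- the ring map to the quotient by `I₀ S'` is surjective
  let J' : Ideal S' := I₀.map (algebraMap R S')
  have hsurj' : Function.Surjective ((Ideal.Quotient.mkₐ R J').comp f) := by
    rw [← AlgHom.range_eq_top, eq_top_iff]
    have htop : (⊤ : Subalgebra R (S' ⧸ J')) = (Algebra.adjoin R (G : Set S')).map
        (Ideal.Quotient.mkₐ R J') := by
      rw [hG, Algebra.map_top, eq_comm, AlgHom.range_eq_top]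
      exact Ideal.Quotient.mk_surjective
    rw [htop, AlgHom.map_adjoin, Algebra.adjoin_le_iff]
    rintro _ ⟨x, hx, rfl⟩
    refine ⟨σ x, ?_⟩
    change Ideal.Quotient.mk J' (f (σ x)) = Ideal.Quotient.mk J' x
    rw [eq_comm, Ideal.Quotient.eq]
    have := hI₀ x hx
    rw [Ideal.smul_top_eq_map] at this
    exact this
  -- hence `⊤ = T ⊔ I₀ • ⊤`
  let T : Submodule R S' := Subalgebra.toSubmodule f.range
  have h3 : (⊤ : Submodule R S') ≤ T ⊔ I₀ • ⊤ := by
    intro y _
    obtain ⟨s, hs⟩ := hsurj' (Ideal.Quotient.mk J' y)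
    simp only [AlgHom.comp_apply, Ideal.Quotient.mkₐ_eq_mk] at hs
    rw [Ideal.Quotient.eq] at hs
    have hy : y = f s + (y - f s) := by ring
    rw [hy]
    refine Submodule.add_mem_sup ⟨s, rfl⟩ ?_
    rw [Ideal.smul_top_eq_map]
    have : y - f s ∈ J' := by
      have := J'.neg_mem hs
      simpa using this
    exact this
  have h4 : ∀ i : ℕ, (⊤ : Submodule R S') ≤ T ⊔ I₀ ^ i • ⊤ := by
    intro i
    induction i with
    | zero => rw [pow_zero, Ideal.one_eq_top, Submodule.top_smul]; exact le_sup_right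
    | succ i ih =>
      calc (⊤ : Submodule R S') ≤ T ⊔ I₀ ^ i • ⊤ := ih
        _ ≤ T ⊔ I₀ ^ i • (T ⊔ I₀ • ⊤) := sup_le_sup_left (Submodule.smul_mono le_rfl h3) _
        _ = T ⊔ (I₀ ^ i • T ⊔ I₀ ^ i • (I₀ • ⊤)) := by rw [Submodule.smul_sup]
        _ ≤ T ⊔ (T ⊔ I₀ ^ (i + 1) • ⊤) := by
            refine sup_le_sup_left (sup_le_sup Submodule.smul_le_right ?_) _
            rw [← mul_smul, ← pow_succ]
        _ = T ⊔ I₀ ^ (i + 1) • ⊤ := by rw [← sup_assoc, sup_idem]
  have h5 := h4 N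
  rw [hN, Ideal.zero_eq_bot, Submodule.bot_smul, sup_bot_eq] at h5
  intro y
  have := h5 (Submodule.mem_top : y ∈ ⊤)
  obtain ⟨s, hs⟩ := this
  exact ⟨s, hs⟩

end Groth.Agent.S9139
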