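import Groth.Statements.S9140
import Groth.Agent.S9139
import Mathlib

set_option autoImplicit false
universe u
open CAlg
open TensorProduct

namespace Groth.Agent.S9140

/-- Let I be a locally nilpotent ideal of a ring R and S → S' a map of R-algebras with S of finite type
over R and S' of finite presentation and flat over R. If the induced map S/IS → S'/IS' is bijective
(stated as: S → S'/IS' is surjective with kernel IS), then S → S' is bijective. -/
theorem result (R S S' : Type u)
    [CommRing R] [CommRing S] [CommRing S'] [Algebra R S] [Algebra R S'] [Algebra.FiniteType R S]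
    [Algebra.FinitePresentation R S'] [Module.Flat R S'] (I : Ideal R) (hI : ∀ x ∈ I, IsNilpotent x)
    (f : S →ₐ[R] S')
    (hsurj : Function.Surjective ((Ideal.Quotient.mk (I.map (algebraMap R S'))).comp f.toRingHom))
    (hker : ∀ s : S, f s ∈ I.map (algebraMap R S') → s ∈ I.map (algebraMap R S)) :
    Function.Bijective f := by
  have hfsurj : Function.Surjective f := Groth.Agent.S9139.result R S S' I hI f hsurj
  refine ⟨?_, hfsurj⟩
  -- the kernel is finitely generated
  set K : Ideal S := RingHom.ker f.toRingHom with hK
  have hKfg : K.FG := by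
    obtain ⟨n, g, hg⟩ := Algebra.FiniteType.iff_quotient_mvPolynomial''.mp
      (inferInstance : Algebra.FiniteType R S)
    have := (Algebra.FinitePresentation.ker_fg_of_mvPolynomial (f.comp g) (hfsurj.comp hg)).map
      g.toRingHom
    convert this
    simp_rw [hK, RingHom.ker_eq_comap_bot, AlgHom.toRingHom_eq_coe, AlgHom.comp_toRingHom]
    rw [← Ideal.comap_comap, Ideal.map_comap_of_surjective (g : MvPolynomial (Fin n) R →+* S) hg]
  set J : Ideal S := I.map (algebraMap R S) with hJ
  -- `K ≤ J * K`
  let Kr : Submodule R S := K.restrictScalars R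
  have hexact : Function.Exact Kr.subtype f.toLinearMap := by
    rw [LinearMap.exact_iff]
    ext x
    simp only [LinearMap.mem_ker, AlgHom.toLinearMap_apply, Submodule.range_subtype]
    rfl
  have hinj := LinearMap.lTensor_injective_of_exact_of_flat f.toLinearMap hfsurj Kr.subtype
    Kr.subtype_injective hexact (R ⧸ I)
  have h1 : ∀ x ∈ I • (⊤ : Submodule R S), (1 : R ⧸ I) ⊗ₜ[R] x = 0 := by
    intro x hx
    refine Submodule.smul_induction_on hx ?_ ?_
    · intro a ha s _
      rw [TensorProduct.tmul_smul, TensorProduct.smul_tmul', ← Algebra.algebraMap_eq_smul_one]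
      have : algebraMap R (R ⧸ I) a = 0 := Ideal.Quotient.eq_zero_iff_mem.mpr ha
      rw [this, TensorProduct.zero_tmul]
    · intro x y hx hy
      rw [TensorProduct.tmul_add, hx, hy, add_zero]
  have hKJ : K ≤ J * K := by
    intro x hxK
    have hxJ : x ∈ I • (⊤ : Submodule R S) := by
      rw [Ideal.smul_top_eq_map]
      apply hker
      have : f x = 0 := hxK
      rw [this]; exact Ideal.zero_mem _
    have h2 : (1 : R ⧸ I) ⊗ₜ[R] (⟨x, hxK⟩ : Kr) = 0 := by
      apply hinj
      rw [LinearMap.lTensor_tmul, map_zero]
      exact h1 x hxJ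
    have h3 := congrArg (TensorProduct.quotTensorEquivQuotSMul Kr I) h2
    rw [TensorProduct.quotTensorEquivQuotSMul_mk_one_tmul, map_zero,
      Submodule.Quotient.mk_eq_zero] at h3
    have h4 : x ∈ (I • (⊤ : Submodule R Kr)).map Kr.subtype := ⟨⟨x, hxK⟩, h3, rfl⟩
    rw [Submodule.map_smul'', Submodule.map_top, Submodule.range_subtype] at h4
    refine Submodule.smul_induction_on h4 ?_ ?_
    · intro a ha k hk
      rw [Algebra.smul_def]
      exact Ideal.mul_mem_mul (Ideal.mem_map_of_mem _ ha) hk
    · intro x y hx hy
      exact add_mem hx hy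
  have hJjac : J ≤ Ideal.jacobson ⊥ := by
    have h5 : J ≤ nilradical S := by
      rw [hJ, Ideal.map_le_iff_le_comap]
      intro a ha
      exact (hI a ha).map (algebraMap R S)
    refine h5.trans ?_
    rw [nilradical_eq_sInf]
    exact le_sInf_iff.mpr fun m hm => sInf_le (by
      obtain ⟨-, hm⟩ := hm
      exact hm.isPrime)
  have hK0 : K = ⊥ := Submodule.eq_bot_of_le_smul_of_le_jacobson_bot J K hKfg hKJ hJjac
  rw [injective_iff_map_eq_zero]
  intro x hx
  have : x ∈ K := hx
  rw [hK0] at this
  exact (Submodule.mem_bot S).mp this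

end Groth.Agent.S9140
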