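import Groth.Statements.S9143
-- import your own Groth.Agent.* helpers here
import Mathlib
import Groth.Agent.Lib.helper6.GCIPoint3

set_option autoImplicit false
universe u
open Synt

namespace Groth.Agent.S9143

/-- For a local k-algebra S which is essentially of finite type over a field k, being a complete
intersection over k is equivalent to each of: (2) whenever a regular local ring R, essentially of
finite type over k, maps onto S by a surjective k-algebra map, the kernel is generated by a regular
sequence; (3) some regular local ring R, essentially of finite type over k, maps onto S by a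
surjective k-algebra map whose kernel is generated by a list of dim R − dim S elements (stated as
dim R = dim S + the length of the list); (4) S is isomorphic over k to a localization at a prime of
a global complete intersection over k; (5) the same with a local complete intersection over k. -/
theorem result (k S : Type u) [Field k] [CommRing S]
    [IsLocalRing S] [Algebra k S] [Algebra.EssFiniteType k S] :
    (Synt.IsCIOver k S ↔
        ∀ (R : Type u) [CommRing R] [IsRegularLocalRing R] [Algebra k R], Algebra.EssFiniteType k R →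
          ∀ π : R →ₐ[k] S, Function.Surjective π →
            ∃ rs : List R, RingTheory.Sequence.IsRegular R rs ∧ RingHom.ker π.toRingHom = Ideal.ofList rs) ∧
      (Synt.IsCIOver k S ↔
        ∃ (R : Type u) (_ : CommRing R) (_ : IsRegularLocalRing R) (_ : Algebra k R),
          Algebra.EssFiniteType k R ∧ ∃ π : R →ₐ[k] S, Function.Surjective π ∧
            ∃ rs : List R, RingHom.ker π.toRingHom = Ideal.ofList rs ∧
              ringKrullDim R = ringKrullDim S + (rs.length : WithBot ℕ∞)) ∧
      (Synt.IsCIOver k S ↔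
        ∃ (A : Type u) (_ : CommRing A) (_ : Algebra k A) (a : Ideal A) (_ : a.IsPrime),
          Algebra.FiniteType k A ∧ Synt.IsGlobalCI k A ∧ Nonempty (S ≃ₐ[k] Localization.AtPrime a)) ∧
      (Synt.IsCIOver k S ↔
        ∃ (A : Type u) (_ : CommRing A) (_ : Algebra k A) (a : Ideal A) (_ : a.IsPrime),
          Synt.IsLCIOver k A ∧ Nonempty (S ≃ₐ[k] Localization.AtPrime a)) := by
  have hN : IsNoetherianRing S := Algebra.EssFiniteType.isNoetherianRing k S
  refine ⟨⟨?_, ?_⟩, ⟨?_, ?_⟩, ⟨?_, ?_⟩, ⟨?_, ?_⟩⟩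
  · intro h R _ _ _ hR π hπ
    have hci := Groth.Agent.H6.GCIPoint.isCI_of_isCIOver k h
    obtain ⟨rs, h1, h2⟩ := Groth.Agent.H6.CIReg.ker_regular_of_isCI π.toRingHom hπ hci
    exact ⟨rs, h2, h1.symm⟩
  · intro H
    obtain ⟨R, i1, i2, i3, hR, π, hπ⟩ := Groth.Agent.H6.GCIPoint.exists_regular_presentation k S
    obtain ⟨rs, hreg, hker⟩ := H R hR π hπ
    exact Groth.Agent.H6.GCIPoint.isCIOver_of_surj k R hR π hπ rs hreg hker
  · rintro ⟨R, i1, i2, i3, hR, rs, hm, hreg, ⟨ε⟩⟩
    refine ⟨R, i1, i2, i3, hR,
      ε.symm.toAlgHom.comp (Ideal.Quotient.mkₐ k (Ideal.ofList rs)), ?_, rs, ?_, ?_⟩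
    · exact ε.symm.surjective.comp (Ideal.Quotient.mkₐ_surjective k _)
    · ext x
      rw [RingHom.mem_ker]
      show ε.symm (Ideal.Quotient.mk _ x) = 0 ↔ _
      rw [EmbeddingLike.map_eq_zero_iff, Ideal.Quotient.eq_zero_iff_mem]
    · have := ringKrullDim_add_length_eq_ringKrullDim_of_isRegular rs hreg
      rw [← this, ringKrullDim_eq_of_ringEquiv ε.toRingEquiv]
  · rintro ⟨R, i1, i2, i3, hR, π, hπ, rs, hker, hdim⟩
    exact Groth.Agent.H6.GCIPoint.isCIOver_of_surj_dim k R hR π hπ rs hker hdim
  · exact Groth.Agent.H6.GCIPoint.exists_globalCI_of_isCIOver k S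
  · rintro ⟨A, i1, i2, a, i3, hft, hgci, ⟨e⟩⟩
    exact Groth.Agent.H6.GCIPoint.isCIOver_of_algEquiv k e.symm
      (Groth.Agent.H6.GCIPoint.isCIOver_atPrime_of_isGlobalCI k hgci a)
  · intro h
    obtain ⟨A, i1, i2, a, i3, hft, hgci, he⟩ :=
      Groth.Agent.H6.GCIPoint.exists_globalCI_of_isCIOver k S h
    exact ⟨A, i1, i2, a, i3, Groth.Agent.H6.GCIPoint.isLCIOver_of_isGlobalCI k hgci, he⟩
  · rintro ⟨A, i1, i2, a, i3, hlci, ⟨e⟩⟩
    exact Groth.Agent.H6.GCIPoint.isCIOver_of_algEquiv k e.symm
      (Groth.Agent.H6.GCIPoint.isCIOver_atPrime_of_isLCIOver k hlci a)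

end Groth.Agent.S9143
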