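import Groth.Statements.S9144
-- import your own Groth.Agent.* helpers here
import Mathlib
import Groth.Agent.Lib.helper6.GCIPoint2

set_option autoImplicit false
universe u
open Synt

namespace Groth.Agent.S9144

/-- For a finite type algebra S over a field k and a prime q of S, the local ring S_q is a complete
intersection over k if and only if some basic open neighbourhood S_g (g ∉ q) is a local complete
intersection over k, if and only if some S_g (g ∉ q) is a global complete intersection over k. -/
theorem result (k S : Type u) [Field k] [CommRing S] [Algebra k S]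
    [Algebra.FiniteType k S] (q : Ideal S) [q.IsPrime] :
    (Synt.IsCIOver k (Localization.AtPrime q) ↔ ∃ g : S, g ∉ q ∧ Synt.IsLCIOver k (Localization.Away g)) ∧
      (Synt.IsCIOver k (Localization.AtPrime q) ↔
        ∃ g : S, g ∉ q ∧ Synt.IsGlobalCI k (Localization.Away g)) := by
  have hft : ∀ g : S, Algebra.FiniteType k (Localization.Away g) := by
    intro g
    have h1 : Algebra.FiniteType S (Localization.Away g) :=
      (Algebra.Presentation.localizationAway (Localization.Away g) g).toGenerators.finiteType
    exact Algebra.FiniteType.trans inferInstance h1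
  constructor
  · constructor
    · intro h
      obtain ⟨g, hg, hgci⟩ :=
        Groth.Agent.H6.GCIPoint.exists_isGlobalCI_away_of_isCIOver k q h
      have := hft g
      exact ⟨g, hg, Groth.Agent.H6.GCIPoint.isLCIOver_of_isGlobalCI k hgci⟩
    · rintro ⟨g, hg, h⟩
      exact Groth.Agent.H6.GCIPoint.isCIOver_atPrime_of_isLCIOver_away k q g hg h
  · constructor
    · exact Groth.Agent.H6.GCIPoint.exists_isGlobalCI_away_of_isCIOver k q
    · rintro ⟨g, hg, h⟩
      exact Groth.Agent.H6.GCIPoint.isCIOver_atPrime_of_isGlobalCI_away k q g hg h

end Groth.Agent.S9144
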