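import Groth.Statements.S9145
-- import your own Groth.Agent.* helpers here
import Mathlib
import Groth.Agent.Lib.helper6.GCIPoint2

set_option autoImplicit false
universe u
open Synt

namespace Groth.Agent.S9145

/-- A finite type algebra S over a field k is a local complete intersection over k if and only if all
its local rings at primes (equivalently, at maximal ideals) are complete intersections over k. -/
theorem result (k S : Type u) [Field k] [CommRing S] [Algebra k S]
    [Algebra.FiniteType k S] :
    (Synt.IsLCIOver k S ↔ ∀ p : PrimeSpectrum S, Synt.IsCIOver k (Localization.AtPrime p.asIdeal)) ∧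
      (Synt.IsLCIOver k S ↔
        ∀ m : MaximalSpectrum S, Synt.IsCIOver k (Localization.AtPrime m.asIdeal)) := by
  have key : (∀ m : MaximalSpectrum S, Synt.IsCIOver k (Localization.AtPrime m.asIdeal)) →
      Synt.IsLCIOver k S := by
    intro h
    refine ⟨inferInstance, fun p => ?_⟩
    obtain ⟨m, hm, hpm⟩ := Ideal.exists_le_maximal p.asIdeal p.isPrime.ne_top
    have := hm.isPrime
    obtain ⟨g, hg, hgci⟩ :=
      Groth.Agent.H6.GCIPoint.exists_isGlobalCI_away_of_isCIOver k m (h ⟨m, hm⟩)
    exact ⟨g, fun hgp => hg (hpm hgp), hgci⟩
  constructor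
  · constructor
    · intro h p
      have := p.isPrime
      exact Groth.Agent.H6.GCIPoint.isCIOver_atPrime_of_isLCIOver k h p.asIdeal
    · intro h
      exact key (fun m => h ⟨m.asIdeal, m.isMaximal.isPrime⟩)
  · constructor
    · intro h m
      have := m.isMaximal.isPrime
      exact Groth.Agent.H6.GCIPoint.isCIOver_atPrime_of_isLCIOver k h m.asIdeal
    · exact key

end Groth.Agent.S9145
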