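import Groth.Statements.S9146
import Mathlib
import Groth.Agent.Lib.helper3.SyntTransport

set_option autoImplicit false
universe u
open Synt

namespace Groth.Agent.S9146

open Groth.Agent.Lib.helper3 in
theorem exists_globalCI_of_away {K T : Type u} [Field K] [CommRing T] [Algebra K T] (t : T)
    (h : Synt.IsLCIOver K (Localization.Away t)) (P : PrimeSpectrum T) (ht : t ∉ P.asIdeal) :
    ∃ G : T, G ∉ P.asIdeal ∧ Synt.IsGlobalCI K (Localization.Away G) := by
  have hdisj : Disjoint (Submonoid.powers t : Set T) (P.asIdeal : Set T) := by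
    rw [Set.disjoint_left]
    rintro x ⟨n, rfl⟩ hx
    exact ht (P.2.mem_of_pow_mem n hx)
  have hP' : (P.asIdeal.map (algebraMap T (Localization.Away t))).IsPrime :=
    IsLocalization.isPrime_of_isPrime_disjoint (Submonoid.powers t) _ _ P.2 hdisj
  obtain ⟨h', hh', hG⟩ := h.2 ⟨_, hP'⟩
  obtain ⟨n, a, ha⟩ := IsLocalization.Away.surj t h'
  have hunit : IsUnit (algebraMap T (Localization.Away t) t ^ n) :=
    (IsLocalization.Away.algebraMap_isUnit t).pow n
  have hassoc : Associated (algebraMap T (Localization.Away t) a) h' := by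
    rw [← ha]
    exact (associated_mul_unit_right h' _ hunit).symm
  have haP : a ∉ P.asIdeal := by
    intro haP
    apply hh'
    have h1 : algebraMap T (Localization.Away t) a ∈
        P.asIdeal.map (algebraMap T (Localization.Away t)) := Ideal.mem_map_of_mem _ haP
    rw [← ha] at h1
    exact (hP'.mem_or_mem h1).resolve_right (fun h2 => hP'.ne_top (Ideal.eq_top_of_isUnit_mem _ h2 hunit))
  refine ⟨t * a, fun h => (P.2.mem_or_mem h).elim ht haP, ?_⟩
  haveI : IsLocalization.Away (t * a) (Localization.Away h') :=
    IsLocalization.Away.mul_of_associated t a h' hassoc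
  haveI : IsScalarTower K T (Localization.Away h') :=
    IsScalarTower.to₁₂₄ K T (Localization.Away t) (Localization.Away h')
  let e : Localization.Away h' ≃ₐ[K] Localization.Away (t * a) :=
    (IsLocalization.algEquiv (Submonoid.powers (t * a)) (Localization.Away h')
      (Localization.Away (t * a))).restrictScalars K
  exact SyntTransport.isGlobalCI_of_algEquiv e hG

open TensorProduct in
theorem fibre_aux (R S : Type u) [CommRing R] [CommRing S] [Algebra R S]
    (s : Finset S) (hs : Ideal.span (s : Set S) = ⊤)
    (h : ∀ g ∈ s, Synt.IsSyntomic R (Localization.Away g)) (p : PrimeSpectrum R)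
    (P : PrimeSpectrum (p.asIdeal.Fiber S)) :
    ∃ G : p.asIdeal.Fiber S, G ∉ P.asIdeal ∧
      Synt.IsGlobalCI p.asIdeal.ResidueField (Localization.Away G) := by
  -- find `g ∈ s` with `1 ⊗ g ∉ P`
  have hex : ∃ g ∈ s, ((1 : p.asIdeal.ResidueField) ⊗ₜ[R] g) ∉ P.asIdeal := by
    by_contra hcon
    push Not at hcon
    have hle : (Ideal.span (s : Set S)).map
        (Algebra.TensorProduct.includeRight : S →ₐ[R] p.asIdeal.ResidueField ⊗[R] S) ≤
          P.asIdeal := by
      rw [Ideal.map_span, Ideal.span_le]
      rintro _ ⟨g, hg, rfl⟩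
      exact hcon g hg
    rw [hs, Ideal.map_top] at hle
    exact P.2.ne_top (top_le_iff.mp hle)
  obtain ⟨g, hg, hgP⟩ := hex
  have hLCI : Synt.IsLCIOver p.asIdeal.ResidueField
      (Localization.Away ((1 : p.asIdeal.ResidueField) ⊗ₜ[R] g)) :=
    Groth.Agent.Lib.helper3.SyntTransport.isLCIOver_of_algEquiv
      (IsLocalization.Away.tensorProductEquivTMulRight R p.asIdeal.ResidueField g
        (Localization.Away g)) ((h g hg).2.2 p)
  exact exists_globalCI_of_away _ hLCI P hgP

/-- Being syntomic is local on the target ring: if finitely many elements of S generating the unit ideal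
have syntomic localizations R → S_g, then R → S is syntomic. -/
theorem result (R S : Type u) [CommRing R] [CommRing S] [Algebra R S]
    (s : Finset S) (hs : Ideal.span (s : Set S) = ⊤)
    (h : ∀ g ∈ s, Synt.IsSyntomic R (Localization.Away g)) : Synt.IsSyntomic R S := by
  have hflat : Module.Flat R S := by
    rw [← RingHom.flat_algebraMap_iff]
    refine RingHom.Flat.ofLocalizationSpanTarget (algebraMap R S) (s : Set S) hs ?_
    rintro ⟨g, hg⟩
    rw [← IsScalarTower.algebraMap_eq R S (Localization.Away g), RingHom.flat_algebraMap_iff]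
    exact (h g hg).1
  have hfp : Algebra.FinitePresentation R S := by
    rw [← RingHom.finitePresentation_algebraMap]
    refine RingHom.finitePresentation_ofLocalizationSpanTarget (algebraMap R S) (s : Set S) hs ?_
    rintro ⟨g, hg⟩
    rw [← IsScalarTower.algebraMap_eq R S (Localization.Away g),
      RingHom.finitePresentation_algebraMap]
    exact (h g hg).2.1
  exact ⟨hflat, hfp, fun p => ⟨inferInstance, fun P => fibre_aux R S s hs h p P⟩⟩

end Groth.Agent.S9146
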