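import Groth.Statements.S9149
import Mathlib
import Groth.Agent.S18933
import Groth.Agent.S18934

set_option autoImplicit false
universe u
open Synt

namespace Groth.Agent.S9149

open Polynomial TensorProduct in
/-- a presentation of `A[X]/(f)` with one generator and one relation -/
theorem exists_presentation_adjoinRoot (A : Type u) [CommRing A] (f : A[X]) :
    Nonempty (Algebra.Presentation A (AdjoinRoot f) (Fin 1) (Fin 1)) := by
  let v : Fin 1 → MvPolynomial (Fin 1) A :=
    fun _ => Polynomial.aeval (MvPolynomial.X 0 : MvPolynomial (Fin 1) A) f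
  have hv : Ideal.span (Set.range v) = Ideal.span
      {Polynomial.aeval (MvPolynomial.X 0 : MvPolynomial (Fin 1) A) f} := by
    rw [Set.range_const]
  let e : (MvPolynomial (Fin 1) A ⧸ Ideal.span (Set.range v)) ≃ₐ[A] AdjoinRoot f :=
    ((Ideal.quotientEquivAlgOfEq A hv).trans (Groth.Agent.S18934.presEquiv A A f)).trans
      (Algebra.TensorProduct.lid A (AdjoinRoot f))
  exact ⟨(Algebra.Presentation.naive (v := v)).ofAlgEquiv e⟩

open Polynomial in
theorem splitting_aux (n : ℕ) : ∀ (A : Type u) [CommRing A] (P : A[X]), P.Monic → P.natDegree = n →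
    ∃ (A' : Type u) (_ : CommRing A') (_ : Algebra A A'),
      Module.Finite A A' ∧ Module.Free A A' ∧ (Nontrivial A → Nontrivial A') ∧
        (∃ N : ℕ, Nonempty (Algebra.Presentation A A' (Fin N) (Fin N))) ∧
        ∃ s : Multiset A', P.map (algebraMap A A') = (s.map fun b => X - C b).prod := by
  induction n with
  | zero =>
    intro A _ P hP hdeg
    refine ⟨A, inferInstance, inferInstance, inferInstance, inferInstance, fun h => h,
      ⟨0, ⟨(Algebra.Presentation.id.{0, 0, u} A).reindex (Equiv.equivPEmpty.{1, 1} (Fin 0))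
        (Equiv.equivPEmpty.{1, 1} (Fin 0))⟩⟩, 0, ?_⟩
    have : P = 1 := hP.natDegree_eq_zero.mp hdeg
    simp [this]
  | succ n ih =>
    intro A _ P hP hdeg
    have hA : Nontrivial A := by
      by_contra h
      rw [not_nontrivial_iff_subsingleton] at h
      have : P.natDegree = 0 := by rw [Subsingleton.elim P 0, natDegree_zero]
      omega
    let A₁ := AdjoinRoot P
    have hfin₁ : Module.Finite A A₁ := (AdjoinRoot.powerBasis' hP).finite
    have hfree₁ : Module.Free A A₁ := Module.Free.of_basis (AdjoinRoot.powerBasis' hP).basis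
    have hnt₁ : Nontrivial A₁ := by
      have : 0 < (AdjoinRoot.powerBasis' hP).dim := by
        change 0 < P.natDegree
        omega
      exact nontrivial_of_ne _ _ ((AdjoinRoot.powerBasis' hP).basis.ne_zero ⟨0, this⟩)
    let r : A₁ := AdjoinRoot.root P
    let P₁ : A₁[X] := P.map (algebraMap A A₁)
    have hroot : IsRoot P₁ r := by
      change eval r (P.map (AdjoinRoot.of P)) = 0
      rw [eval_map]
      exact AdjoinRoot.eval₂_root P
    let Q : A₁[X] := P₁ /ₘ (X - C r)
    have hPQ : (X - C r) * Q = P₁ := mul_divByMonic_eq_iff_isRoot.mpr hroot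
    have hP₁ : P₁.Monic := hP.map _
    have hQ : Q.Monic := by
      refine Monic.of_mul_monic_left (monic_X_sub_C r) ?_
      rw [hPQ]
      exact hP₁
    have hQdeg : Q.natDegree = n := by
      have h1 := (monic_X_sub_C r).natDegree_mul hQ
      have h2 : P₁.natDegree = n + 1 := by
        change (P.map (algebraMap A A₁)).natDegree = n + 1
        rw [hP.natDegree_map, hdeg]
      rw [hPQ, natDegree_X_sub_C, h2] at h1
      omega
    obtain ⟨A', _, _, hfin, hfree, hnt, ⟨N, ⟨pres⟩⟩, s, hs⟩ := ih A₁ Q hQ hQdeg
    letI : Algebra A A' := ((algebraMap A₁ A').comp (algebraMap A A₁)).toAlgebra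
    haveI : IsScalarTower A A₁ A' := IsScalarTower.of_algebraMap_eq (fun _ => rfl)
    obtain ⟨pres₁⟩ := exists_presentation_adjoinRoot A P
    refine ⟨A', inferInstance, inferInstance, Module.Finite.trans A₁ A', ?_, fun _ => hnt hnt₁,
      ⟨N + 1, ⟨(pres.comp pres₁).reindex finSumFinEquiv.symm finSumFinEquiv.symm⟩⟩,
      algebraMap A₁ A' r ::ₘ s, ?_⟩
    · exact Module.Free.of_basis
        ((Module.Free.chooseBasis A A₁).smulTower (Module.Free.chooseBasis A₁ A'))
    · rw [IsScalarTower.algebraMap_eq A A₁ A', ← Polynomial.map_map]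
      change P₁.map (algebraMap A₁ A') = _
      rw [← hPQ, Polynomial.map_mul, hs, Multiset.map_cons, Multiset.prod_cons]
      simp

open Polynomial in
/-- A monic polynomial over a ring A splits into linear factors over some A-algebra A' that is syntomic,
finite free and faithfully flat over A. -/
theorem result (A : Type u) [CommRing A] (P : A[X]) (hP : P.Monic) :
    ∃ (A' : Type u) (_ : CommRing A') (_ : Algebra A A'),
      Synt.IsSyntomic A A' ∧ Module.Finite A A' ∧ Module.Free A A' ∧ Module.FaithfullyFlat A A' ∧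
        ∃ s : Multiset A', P.map (algebraMap A A') = (s.map fun b => X - C b).prod := by
  obtain ⟨A', _, _, hfin, hfree, hnt, ⟨N, ⟨pres⟩⟩, s, hs⟩ := splitting_aux P.natDegree A P hP rfl
  have hff : Module.FaithfullyFlat A A' := by
    rcases subsingleton_or_nontrivial A with h | h
    · refine ⟨fun m hm => ?_⟩
      exact absurd (Subsingleton.elim m ⊤) hm.ne_top
    · have := hnt h
      infer_instance
  refine ⟨A', inferInstance, inferInstance, ⟨inferInstance, pres.finitePresentation_of_isFinite,
    fun q => ?_⟩, hfin, hfree, hff, s, hs⟩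
  refine ⟨inferInstance, fun Q => ⟨1, ?_,
    Groth.Agent.S18933.globalCI_of_presentation pres q.asIdeal.ResidueField⟩⟩
  exact fun h => Q.2.ne_top ((Ideal.eq_top_iff_one _).mpr h)

end Groth.Agent.S9149
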