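import Groth.Statements.S9153
import Mathlib
import Groth.Agent.Lib.helper17.CMChain
set_option linter.style.haveILetI false

set_option autoImplicit false
universe u
open CAlg

namespace Groth.Agent.S9153

/-- In a polynomial ring in finitely many variables over a field, every saturated chain of primes
between two primes p ⊆ q has length equal to the difference of their heights (stated additively:
length + height p = height q). -/
theorem result (k : Type u) [Field k] (n : ℕ)
    (s : LTSeries (PrimeSpectrum (MvPolynomial (Fin n) k)))
    (hsat : ∀ i : Fin s.length, s (Fin.castSucc i) ⋖ s (Fin.succ i)) :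
    (s.length : ℕ∞) + s.head.asIdeal.height = s.last.asIdeal.height := by
  haveI : IsRegularRing (MvPolynomial (Fin n) k) := inferInstance
  haveI : IsNoetherianRing (MvPolynomial (Fin n) k) := inferInstance
  haveI : LocCoh.IsCohenMacaulayRing (MvPolynomial (Fin n) k) :=
    ⟨fun p _ => Groth.Agent.Lib.helper17.FlatCM.isCM_of_regular _⟩
  exact Groth.Agent.Lib.helper17.CMChain.length_add_height _ s hsat

end Groth.Agent.S9153
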