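import Groth.Statements.S9155
import Mathlib
import Groth.Agent.Lib.helper5.DiffEt2

set_option autoImplicit false
universe u
open Diff16

namespace Groth.Agent.S9155

/-- A differential operator of order at most k between modules over B (relative to A → B) has exactly
one extension to the localized modules over S⁻¹B that is again a differential operator of order at
most k (relative to A → S⁻¹B), compatible with the localization maps. -/
theorem result (A B : Type u) [CommRing A] [CommRing B] [Algebra A B]
    (S : Submonoid B) (M N : Type u) [AddCommGroup M] [Module B M] [Module A M] [IsScalarTower A B M]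
    [AddCommGroup N] [Module B N] [Module A N] [IsScalarTower A B N] (k : ℕ) (D : M →ₗ[A] N)
    (hD : Diff16.IsDiffOpLE A B M N k D) :
    ∃! E : LocalizedModule S M →ₗ[A] LocalizedModule S N,
      Diff16.IsDiffOpLE A (Localization S) (LocalizedModule S M) (LocalizedModule S N) k E ∧
        E ∘ₗ (LocalizedModule.mkLinearMap S M).restrictScalars A =
          (LocalizedModule.mkLinearMap S N).restrictScalars A ∘ₗ D := by
  have bcM : IsBaseChange (Localization S) (LocalizedModule.mkLinearMap S M) :=
    IsLocalizedModule.isBaseChange S (Localization S) _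
  have bcN : IsBaseChange (Localization S) (LocalizedModule.mkLinearMap S N) :=
    IsLocalizedModule.isBaseChange S (Localization S) _
  obtain ⟨D', hD', hD'1⟩ :=
    Groth.Agent.H5.DiffEt2.exists_extension A B (Localization S) M N k D hD
  have hG : ∀ (s : B), ∀ g ∈ Set.range (LocalizedModule.mkLinearMap S M), s • g ∈
      Set.range (LocalizedModule.mkLinearMap S M) := by
    rintro s _ ⟨m, rfl⟩
    exact ⟨s • m, by simp⟩
  have hspan : Submodule.span (Localization S) (Set.range (LocalizedModule.mkLinearMap S M)) = ⊤ := by
    rw [eq_top_iff]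
    rintro x -
    induction x using LocalizedModule.induction_on with
    | h m s =>
      have : LocalizedModule.mk m s = (Localization.mk 1 s : Localization S) •
          LocalizedModule.mkLinearMap S M m := by
        rw [LocalizedModule.mkLinearMap_apply, LocalizedModule.mk_smul_mk]
        simp
      rw [this]
      exact Submodule.smul_mem _ _ (Submodule.subset_span ⟨m, rfl⟩)
  refine ⟨(bcN.equiv.toLinearMap.restrictScalars A) ∘ₗ D' ∘ₗ
    (bcM.equiv.symm.toLinearMap.restrictScalars A), ⟨?_, ?_⟩, ?_⟩
  · refine Groth.Agent.H5.DiffOp.isDiffOpLE_comp A (Localization S) _ _ _ k k 0 (by simp) _ _ ?_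
      (fun b m => by simp)
    exact Groth.Agent.H5.DiffOp.isDiffOpLE_comp A (Localization S) _ _ _ k 0 k (by simp) _ _
      (fun b m => by simp) hD'
  · ext m
    simp only [LinearMap.coe_comp, Function.comp_apply, LinearMap.coe_restrictScalars,
      LinearEquiv.coe_coe]
    rw [bcM.equiv_symm_apply, hD'1, bcN.equiv_tmul, one_smul]
  · rintro E ⟨hE, hE1⟩
    set E0 := (bcN.equiv.toLinearMap.restrictScalars A) ∘ₗ D' ∘ₗ
      (bcM.equiv.symm.toLinearMap.restrictScalars A) with hE0
    have hE0d : Diff16.IsDiffOpLE A (Localization S) (LocalizedModule S M) (LocalizedModule S N) k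
        E0 := by
      refine Groth.Agent.H5.DiffOp.isDiffOpLE_comp A (Localization S) _ _ _ k k 0 (by simp) _ _ ?_
        (fun b m => by simp)
      exact Groth.Agent.H5.DiffOp.isDiffOpLE_comp A (Localization S) _ _ _ k 0 k (by simp) _ _
        (fun b m => by simp) hD'
    have h2 := Groth.Agent.H5.DiffOp.isDiffOpLE_sub A (Localization S) _ _ k _ _ hE hE0d
    have h3 := Groth.Agent.H5.DiffOp.eq_zero_of_vanish_on_generators A B (Localization S)
      (LocalizedModule S M) (LocalizedModule S N) _ hG hspan k _ h2 ?_
    · exact sub_eq_zero.mp h3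
    · rintro _ ⟨m, rfl⟩
      have h4 := LinearMap.congr_fun hE1 m
      simp only [LinearMap.coe_comp, Function.comp_apply, LinearMap.coe_restrictScalars] at h4
      simp only [LinearMap.sub_apply, hE0, LinearMap.coe_comp, Function.comp_apply,
        LinearMap.coe_restrictScalars, LinearEquiv.coe_coe]
      rw [h4, bcM.equiv_symm_apply, hD'1, bcN.equiv_tmul, one_smul, sub_self]

end Groth.Agent.S9155
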