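import Groth.Statements.S9157
import Mathlib

set_option autoImplicit false
universe u
open CAlg

namespace H14F

theorem mk_eq_zero_iff {R : Type*} [CommRing R] {S : Submonoid R} {M : Type*} [AddCommGroup M]
    [Module R M] (m : M) (s : S) :
    LocalizedModule.mk m s = 0 ↔ ∃ u : S, u • m = 0 := by
  rw [← LocalizedModule.zero_mk (1 : S), LocalizedModule.mk_eq]
  constructor
  · rintro ⟨u, hu⟩
    exact ⟨u, by simpa using hu⟩
  · rintro ⟨u, hu⟩
    exact ⟨u, by simpa using hu⟩

theorem main (R : Type u) [CommRing R] (S : Submonoid R)
    (M : Type u) [AddCommGroup M] [Module R M]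
    [Module.FinitePresentation (Localization S) (LocalizedModule S M)] :
    ∃ (M' : Type u) (_ : AddCommGroup M') (_ : Module R M') (φ : M' →ₗ[R] M),
      Module.FinitePresentation R M' ∧ Function.Bijective (LocalizedModule.map S φ) := by
  classical
  obtain ⟨n, g, hg⟩ := Module.Finite.exists_fin (R := Localization S) (M := LocalizedModule S M)
  have hex : ∀ i, ∃ (m : M) (s : S), g i = LocalizedModule.mk m s := fun i => by
    induction g i using LocalizedModule.induction_on with | _ m s => exact ⟨m, s, rfl⟩
  choose m s hms using hex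
  let π : (Fin n → R) →ₗ[R] M := Fintype.linearCombination R m
  have hπ : ∀ i, π (Pi.single i 1) = m i := fun i => by
    simp [π, Fintype.linearCombination_apply_single]
  have hsurj : Function.Surjective (LocalizedModule.map S π) := by
    rw [← LinearMap.range_eq_top, eq_top_iff, ← hg, Submodule.span_le]
    rintro _ ⟨i, rfl⟩
    refine ⟨LocalizedModule.mk (Pi.single i 1) (s i), ?_⟩
    rw [LocalizedModule.map_mk, hπ, hms]
  have hfg := Module.FinitePresentation.fg_ker (LocalizedModule.map S π) hsurj
  obtain ⟨p, k, hk⟩ := Submodule.fg_iff_exists_fin_generating_family.mp hfg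
  have hex2 : ∀ j, ∃ (w : Fin n → R) (t : S), k j = LocalizedModule.mk w t := fun j => by
    induction k j using LocalizedModule.induction_on with | _ w t => exact ⟨w, t, rfl⟩
  choose w t hwt using hex2
  have hex3 : ∀ j, ∃ u : S, u • π (w j) = 0 := by
    intro j
    have hmem : k j ∈ LinearMap.ker (LocalizedModule.map S π) := by
      rw [← hk]; exact Submodule.subset_span ⟨j, rfl⟩
    rw [LinearMap.mem_ker, hwt, LocalizedModule.map_mk, mk_eq_zero_iff] at hmem
    exact hmem
  choose u hu using hex3
  let W : Submodule R (Fin n → R) := Submodule.span R (Set.range fun j => u j • w j)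
  have hW : W ≤ LinearMap.ker π := by
    rw [Submodule.span_le]
    rintro _ ⟨j, rfl⟩
    rw [SetLike.mem_coe, LinearMap.mem_ker]
    change π (u j • w j) = 0
    rw [Submonoid.smul_def, map_smul, ← Submonoid.smul_def]
    exact hu j
  refine ⟨(Fin n → R) ⧸ W, inferInstance, inferInstance, W.liftQ π hW, ?_, ?_, ?_⟩
  · exact Module.finitePresentation_of_surjective W.mkQ (Submodule.mkQ_surjective W)
      (by rw [Submodule.ker_mkQ]; exact Submodule.fg_span (Set.finite_range _))
  · rw [injective_iff_map_eq_zero]
    intro x hx
    induction x using LocalizedModule.induction_on with | _ q r =>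
    obtain ⟨v, rfl⟩ := Submodule.mkQ_surjective W q
    rw [LocalizedModule.map_mk, Submodule.mkQ_apply, Submodule.liftQ_apply] at hx
    have hmem : LocalizedModule.mk v r ∈ LinearMap.ker (LocalizedModule.map S π) := by
      rw [LinearMap.mem_ker, LocalizedModule.map_mk]; exact hx
    have hle : LinearMap.ker (LocalizedModule.map S π) ≤
        LinearMap.ker (LocalizedModule.map S W.mkQ) := by
      rw [← hk, Submodule.span_le]
      rintro _ ⟨j, rfl⟩
      rw [SetLike.mem_coe, LinearMap.mem_ker, hwt, LocalizedModule.map_mk, mk_eq_zero_iff]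
      refine ⟨u j, ?_⟩
      rw [Submonoid.smul_def, ← map_smul, ← Submonoid.smul_def, Submodule.mkQ_apply,
        Submodule.Quotient.mk_eq_zero]
      exact Submodule.subset_span ⟨j, rfl⟩
    have := hle hmem
    rwa [LinearMap.mem_ker, LocalizedModule.map_mk] at this
  · intro y
    obtain ⟨x, rfl⟩ := hsurj y
    induction x using LocalizedModule.induction_on with | _ v r =>
    refine ⟨LocalizedModule.mk (W.mkQ v) r, ?_⟩
    rw [LocalizedModule.map_mk, LocalizedModule.map_mk, Submodule.mkQ_apply, Submodule.liftQ_apply]

end H14F


namespace Groth.Agent.S9157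

/-- If the localization S⁻¹M of an R-module M is finitely presented over S⁻¹R, then some finitely
presented R-module M' maps to M inducing an isomorphism S⁻¹M' → S⁻¹M. -/
theorem result (R : Type u) [CommRing R] (S : Submonoid R)
    (M : Type u) [AddCommGroup M] [Module R M]
    [Module.FinitePresentation (Localization S) (LocalizedModule S M)] :
    ∃ (M' : Type u) (_ : AddCommGroup M') (_ : Module R M') (φ : M' →ₗ[R] M),
      Module.FinitePresentation R M' ∧ Function.Bijective (LocalizedModule.map S φ) := by
  exact H14F.main R S M

end Groth.Agent.S9157
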