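import Groth.Statements.S9160
import Mathlib

set_option autoImplicit false
universe u
open CAlg

namespace Groth.Agent.S9160

theorem dim_le_zero {R : Type u} [CommRing R] (hdim : ringKrullDim R = 1) (a : R)
    (ha : IsRegular a) : ringKrullDim (R ⧸ Ideal.span ({a} : Set R)) ≤ 0 := by
  have h1 := ringKrullDim_quotient_succ_le_of_nonZeroDivisor ha.mem_nonZeroDivisors
  rw [hdim] at h1
  generalize ringKrullDim (R ⧸ Ideal.span ({a} : Set R)) = d at h1
  induction d using WithBot.recBotCoe with
  | bot => exact bot_le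
  | coe d =>
    have h2 : ((d + 1 : ℕ∞) : WithBot ℕ∞) ≤ ((1 : ℕ∞) : WithBot ℕ∞) := h1
    rw [WithBot.coe_le_coe] at h2
    have h3 : d ≤ 0 := by
      induction d using ENat.recTopCoe with
      | top => simp at h2
      | coe n =>
        have : (n : ℕ∞) + 1 ≤ 1 := h2
        have h4 : n + 1 ≤ 1 := by exact_mod_cast this
        have : n = 0 := by omega
        simp [this]
    exact_mod_cast h3

theorem len_ne_top {R : Type u} [CommRing R] [IsNoetherianRing R] (hdim : ringKrullDim R = 1)
    (a : R) (ha : IsRegular a) : Module.length R (R ⧸ Ideal.span ({a} : Set R)) ≠ ⊤ := by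
  rw [Module.length_ne_top_iff]
  have h0 := dim_le_zero hdim a ha
  haveI : Ring.KrullDimLE 0 (R ⧸ Ideal.span ({a} : Set R)) := Ring.krullDimLE_iff.mpr h0
  haveI : IsArtinianRing (R ⧸ Ideal.span ({a} : Set R)) :=
    isArtinianRing_iff_isNoetherianRing_krullDimLE_zero.mpr ⟨inferInstance, inferInstance⟩
  have hart : IsArtinian R (R ⧸ Ideal.span ({a} : Set R)) :=
    isArtinian_of_surjective_algebraMap (R := R ⧸ Ideal.span ({a} : Set R)) (S := R)
      (M := R ⧸ Ideal.span ({a} : Set R)) Ideal.Quotient.mk_surjective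
  exact isFiniteLength_iff_isNoetherian_isArtinian.mpr ⟨inferInstance, hart⟩

/-- In a semi-local Noetherian ring of dimension one, for nonzerodivisors a and b the length of R/(ab)
is the sum of the lengths of R/(a) and R/(b), and these lengths are finite. -/
theorem result (R : Type u) [CommRing R] [IsNoetherianRing R]
    (hsemi : Finite (MaximalSpectrum R)) (hdim : ringKrullDim R = 1) (a b : R) (ha : IsRegular a)
    (hb : IsRegular b) :
    Module.length R (R ⧸ Ideal.span ({a * b} : Set R)) =
        Module.length R (R ⧸ Ideal.span ({a} : Set R)) + Module.length R (R ⧸ Ideal.span ({b} : Set R)) ∧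
      Module.length R (R ⧸ Ideal.span ({a} : Set R)) ≠ ⊤ ∧
      Module.length R (R ⧸ Ideal.span ({b} : Set R)) ≠ ⊤ := by
  refine ⟨?_, len_ne_top hdim a ha, len_ne_top hdim b hb⟩
  -- exact sequence R/(a) → R/(ab) → R/(b)
  let f : (R ⧸ Ideal.span ({a} : Set R)) →ₗ[R] (R ⧸ Ideal.span ({a * b} : Set R)) :=
    Submodule.mapQ _ _ (LinearMap.mulRight R b) (by
      intro x hx
      rw [Ideal.mem_span_singleton'] at hx
      obtain ⟨r, rfl⟩ := hx
      show (r * a) * b ∈ Ideal.span ({a * b} : Set R)
      rw [Ideal.mem_span_singleton']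
      exact ⟨r, by ring⟩)
  let g : (R ⧸ Ideal.span ({a * b} : Set R)) →ₗ[R] (R ⧸ Ideal.span ({b} : Set R)) :=
    Submodule.mapQ _ _ LinearMap.id (by
      intro x hx
      rw [Ideal.mem_span_singleton'] at hx
      obtain ⟨r, rfl⟩ := hx
      show r * (a * b) ∈ Ideal.span ({b} : Set R)
      rw [Ideal.mem_span_singleton']
      exact ⟨r * a, by ring⟩)
  have hf : Function.Injective f := by
    rw [← LinearMap.ker_eq_bot, LinearMap.ker_eq_bot']
    intro x hx
    obtain ⟨x, rfl⟩ := Submodule.Quotient.mk_surjective _ x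
    have h1 : x * b ∈ Ideal.span ({a * b} : Set R) := by
      have : f (Submodule.Quotient.mk x) = Submodule.Quotient.mk (x * b) := rfl
      rw [this, Submodule.Quotient.mk_eq_zero] at hx
      exact hx
    rw [Ideal.mem_span_singleton'] at h1
    obtain ⟨r, hr⟩ := h1
    have h2 : r * a = x := hb.right (by
      show r * a * b = x * b
      rw [← hr]; ring)
    rw [Submodule.Quotient.mk_eq_zero, Ideal.mem_span_singleton']
    exact ⟨r, h2⟩
  have hg : Function.Surjective g := by
    intro y
    obtain ⟨y, rfl⟩ := Submodule.Quotient.mk_surjective _ y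
    exact ⟨Submodule.Quotient.mk y, rfl⟩
  have hex : Function.Exact f g := by
    intro y
    obtain ⟨y, rfl⟩ := Submodule.Quotient.mk_surjective _ y
    constructor
    · intro hy
      have h1 : y ∈ Ideal.span ({b} : Set R) := by
        have : g (Submodule.Quotient.mk y) = Submodule.Quotient.mk y := rfl
        rw [this, Submodule.Quotient.mk_eq_zero] at hy
        exact hy
      rw [Ideal.mem_span_singleton'] at h1
      obtain ⟨r, rfl⟩ := h1
      exact ⟨Submodule.Quotient.mk r, rfl⟩
    · rintro ⟨x, hx⟩
      obtain ⟨x, rfl⟩ := Submodule.Quotient.mk_surjective _ x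
      rw [← hx]
      show Submodule.Quotient.mk (x * b) = 0
      rw [Submodule.Quotient.mk_eq_zero, Ideal.mem_span_singleton']
      exact ⟨x, rfl⟩
  exact Module.length_eq_add_of_exact f g hf hg hex

end Groth.Agent.S9160
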