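import Groth.Statements.S9161
import Mathlib

set_option autoImplicit false
universe u
open CAlg

namespace Groth.Agent.S9161

/-- If two two-term complexes of R-modules A₁ → A₀ and B₁ → B₀ are homotopy equivalent (maps of
complexes both ways whose composites are homotopic to the identity maps), then A₁ ⊕ B₀ and B₁ ⊕ A₀
are isomorphic R-modules. -/
theorem result (R : Type u) [CommRing R]
    (A₁ A₀ B₁ B₀ : Type u) [AddCommGroup A₁] [Module R A₁] [AddCommGroup A₀] [Module R A₀]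
    [AddCommGroup B₁] [Module R B₁] [AddCommGroup B₀] [Module R B₀]
    (dA : A₁ →ₗ[R] A₀) (dB : B₁ →ₗ[R] B₀) (φ₁ : A₁ →ₗ[R] B₁) (φ₀ : A₀ →ₗ[R] B₀)
    (ψ₁ : B₁ →ₗ[R] A₁) (ψ₀ : B₀ →ₗ[R] A₀) (hφ : dB ∘ₗ φ₁ = φ₀ ∘ₗ dA) (hψ : dA ∘ₗ ψ₁ = ψ₀ ∘ₗ dB)
    (h : A₀ →ₗ[R] A₁) (hh₁ : LinearMap.id - ψ₁ ∘ₗ φ₁ = h ∘ₗ dA) (hh₀ : LinearMap.id - ψ₀ ∘ₗ φ₀ = dA ∘ₗ h)
    (h' : B₀ →ₗ[R] B₁) (hh'₁ : LinearMap.id - φ₁ ∘ₗ ψ₁ = h' ∘ₗ dB)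
    (hh'₀ : LinearMap.id - φ₀ ∘ₗ ψ₀ = dB ∘ₗ h') :
    Nonempty ((A₁ × B₀) ≃ₗ[R] (B₁ × A₀)) := by
  have e1 : ∀ a, dB (φ₁ a) = φ₀ (dA a) := fun a => LinearMap.congr_fun hφ a
  have e2 : ∀ b, dA (ψ₁ b) = ψ₀ (dB b) := fun b => LinearMap.congr_fun hψ b
  have e3 : ∀ a, a - ψ₁ (φ₁ a) = h (dA a) := fun a => LinearMap.congr_fun hh₁ a
  have e4 : ∀ a, a - ψ₀ (φ₀ a) = dA (h a) := fun a => LinearMap.congr_fun hh₀ a
  have e5 : ∀ b, b - φ₁ (ψ₁ b) = h' (dB b) := fun b => LinearMap.congr_fun hh'₁ b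
  have e6 : ∀ b, b - φ₀ (ψ₀ b) = dB (h' b) := fun b => LinearMap.congr_fun hh'₀ b
  let Φ : (A₁ × B₀) →ₗ[R] (B₁ × A₀) :=
    LinearMap.prod (φ₁.coprod h') ((-dA).coprod ψ₀)
  let Ψ : (B₁ × A₀) →ₗ[R] (A₁ × B₀) :=
    LinearMap.prod (ψ₁.coprod (-h)) (dB.coprod φ₀)
  have hΨΦ : ∀ x : A₁ × B₀, Ψ (Φ x) = (x.1 + (ψ₁ (h' x.2) - h (ψ₀ x.2)), x.2) := by
    rintro ⟨a, b⟩
    change (ψ₁ (φ₁ a + h' b) + (-h) (-dA a + ψ₀ b), dB (φ₁ a + h' b) + φ₀ (-dA a + ψ₀ b)) = _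
    simp only [LinearMap.neg_apply, map_add, map_neg]
    ext
    · simp only
      rw [← e3 a]
      abel
    · simp only
      rw [e1 a, ← e6 b]
      abel
  have hΦΨ : ∀ y : B₁ × A₀, Φ (Ψ y) = (y.1 + (h' (φ₀ y.2) - φ₁ (h y.2)), y.2) := by
    rintro ⟨b, a⟩
    change (φ₁ (ψ₁ b + (-h) a) + h' (dB b + φ₀ a), (-dA) (ψ₁ b + (-h) a) + ψ₀ (dB b + φ₀ a)) = _
    simp only [LinearMap.neg_apply, map_add, map_neg]
    ext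
    · simp only
      rw [← e5 b]
      abel
    · simp only
      rw [e2 b, ← e4 a]
      abel
  have hinj : Function.Injective Φ := by
    rw [← LinearMap.ker_eq_bot, LinearMap.ker_eq_bot']
    intro x hx
    have := hΨΦ x
    rw [hx, map_zero] at this
    have h2 : x.2 = 0 := (congrArg Prod.snd this).symm
    have h1 : x.1 + (ψ₁ (h' x.2) - h (ψ₀ x.2)) = 0 := (congrArg Prod.fst this).symm
    rw [h2] at h1
    simp only [map_zero, sub_zero, add_zero] at h1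
    exact Prod.ext h1 h2
  have hsurj : Function.Surjective Φ := by
    intro y
    refine ⟨Ψ (y.1 - (h' (φ₀ y.2) - φ₁ (h y.2)), y.2), ?_⟩
    rw [hΦΨ]
    ext
    · simp
    · simp
  exact ⟨LinearEquiv.ofBijective Φ ⟨hinj, hsurj⟩⟩

end Groth.Agent.S9161
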