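import Groth.Statements.S9162
import Groth.Agent.S9161
import Mathlib

set_option autoImplicit false
universe u
open CAlg

namespace Groth.Agent.S9162

open Algebra Algebra.Extension

/-- Two extensions of `S` with maps both ways have stably isomorphic naive cotangent complexes. -/
theorem nonempty_prod_equiv {R S : Type u} [CommRing R] [CommRing S] [Algebra R S]
    (P P' : Extension.{u} R S) (f : P.Hom P') (g : P'.Hom P) :
    Nonempty ((P.Cotangent × P'.CotangentSpace) ≃ₗ[S] (P'.Cotangent × P.CotangentSpace)) := by
  refine Groth.Agent.S9161.result S P.Cotangent P.CotangentSpace P'.Cotangent P'.CotangentSpace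
    P.cotangentComplex P'.cotangentComplex (Cotangent.map f) (CotangentSpace.map f)
    (Cotangent.map g) (CotangentSpace.map g) ?_ ?_
    ((Hom.id P).sub (g.comp f)) ?_ ?_ ((Hom.id P').sub (f.comp g)) ?_ ?_
  · ext x
    exact (CotangentSpace.map_cotangentComplex f x).symm
  · ext x
    exact (CotangentSpace.map_cotangentComplex g x).symm
  · have := Cotangent.map_sub_map (Hom.id P) (g.comp f)
    rw [Cotangent.map_id, Cotangent.map_comp] at this
    exact this
  · have := CotangentSpace.map_sub_map (Hom.id P) (g.comp f)
    rw [CotangentSpace.map_id, CotangentSpace.map_comp] at this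
    exact this
  · have := Cotangent.map_sub_map (Hom.id P') (f.comp g)
    rw [Cotangent.map_id, Cotangent.map_comp] at this
    exact this
  · have := CotangentSpace.map_sub_map (Hom.id P') (f.comp g)
    rw [CotangentSpace.map_id, CotangentSpace.map_comp] at this
    exact this

/-- A hom between extensions given by surjections from polynomial rings. -/
theorem nonempty_hom {R S : Type u} [CommRing R] [CommRing S] [Algebra R S] {ι κ : Type*}
    (α : MvPolynomial ι R →ₐ[R] S) (hα : Function.Surjective α)
    (β : MvPolynomial κ R →ₐ[R] S) (hβ : Function.Surjective β) :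
    Nonempty ((Extension.ofSurjective α hα).Hom (Extension.ofSurjective β hβ)) := by
  choose y hy using fun i => hβ (α (MvPolynomial.X i))
  let φ : MvPolynomial ι R →ₐ[R] MvPolynomial κ R := MvPolynomial.aeval y
  refine ⟨Hom.ofAlgHom φ ?_⟩
  apply MvPolynomial.algHom_ext
  intro i
  change β (φ (MvPolynomial.X i)) = α (MvPolynomial.X i)
  simp [φ, hy]

/-- The cotangent space of a polynomial presentation is free on the variables. -/
noncomputable def cotangentSpaceEquiv {R S : Type u} [CommRing R] [CommRing S] [Algebra R S] (n : ℕ)
    (α : MvPolynomial (Fin n) R →ₐ[R] S) (hα : Function.Surjective α) :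
    (Extension.ofSurjective α hα).CotangentSpace ≃ₗ[S] (Fin n → S) :=
  letI : Algebra (MvPolynomial (Fin n) R) S := α.toAlgebra
  ((KaehlerDifferential.mvPolynomialBasis R (Fin n)).baseChange S).equivFun

/-- Let S be an R-algebra and α : R[x_1, …, x_n] → S, β : R[y_1, …, y_m] → S surjective R-algebra maps
(presentations by polynomial rings in finitely many variables; the kernels I and J need not be
finitely generated). Then I/I² ⊕ S^m and J/J² ⊕ S^n are isomorphic S-modules. -/
theorem result (R S : Type u) [CommRing R] [CommRing S]
    [Algebra R S] (n m : ℕ) (α : MvPolynomial (Fin n) R →ₐ[R] S) (hα : Function.Surjective α)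
    (β : MvPolynomial (Fin m) R →ₐ[R] S) (hβ : Function.Surjective β) :
    Nonempty (((Algebra.Extension.ofSurjective α hα).Cotangent × (Fin m → S)) ≃ₗ[S]
      ((Algebra.Extension.ofSurjective β hβ).Cotangent × (Fin n → S))) := by
  obtain ⟨f⟩ := nonempty_hom α hα β hβ
  obtain ⟨g⟩ := nonempty_hom β hβ α hα
  obtain ⟨e⟩ := nonempty_prod_equiv _ _ f g
  exact ⟨((LinearEquiv.refl S _).prodCongr (cotangentSpaceEquiv m β hβ).symm).trans
    (e.trans ((LinearEquiv.refl S _).prodCongr (cotangentSpaceEquiv n α hα)))⟩

end Groth.Agent.S9162
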