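import Groth.Statements.S9163
import Mathlib

set_option autoImplicit false
universe u
open CAlg

namespace Groth.Agent.S9163

open Polynomial

/-- If S is integral over R, then any finitely many elements of R and of S lie in a pair R₀ ⊆ R, S₀ ⊆ S
with R₀ a finite type ℤ-subalgebra, S₀ an R₀-subalgebra of S, and S₀ finite as an R₀-module; so R →
S is the directed colimit of finite maps between finite type ℤ-algebras. -/
theorem result (R S : Type u) [CommRing R] [CommRing S] [Algebra R S]
    [Algebra.IsIntegral R S] (E : Finset R) (F : Finset S) :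
    ∃ (R₀ : Subalgebra ℤ R) (S₀ : Subalgebra R₀ S), Algebra.FiniteType ℤ R₀ ∧ (E : Set R) ⊆ R₀ ∧
      (F : Set S) ⊆ S₀ ∧ Module.Finite R₀ S₀ := by
  classical
  have hint : ∀ y : S, ∃ p : R[X], p.Monic ∧ eval₂ (algebraMap R S) y p = 0 :=
    fun y => Algebra.IsIntegral.isIntegral y
  choose p hpm hp using hint
  let C : Finset R := E ∪ F.biUnion (fun y => (p y).coeffs)
  let R₀ : Subalgebra ℤ R := Algebra.adjoin ℤ (C : Set R)
  have hR₀ft : Algebra.FiniteType ℤ R₀ := by
    rw [← Subalgebra.fg_iff_finiteType]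
    exact ⟨C, rfl⟩
  have hE : (E : Set R) ⊆ R₀ := by
    intro x hx
    apply Algebra.subset_adjoin
    simp only [C, Finset.coe_union, Set.mem_union]
    exact Or.inl hx
  have hcoef : ∀ y ∈ F, ∀ n, (p y).coeff n ∈ R₀ := by
    intro y hy n
    by_cases h0 : (p y).coeff n = 0
    · rw [h0]; exact R₀.zero_mem
    · apply Algebra.subset_adjoin
      simp only [C, Finset.coe_union, Set.mem_union, Finset.coe_biUnion, Set.mem_iUnion]
      refine Or.inr ⟨y, hy, ?_⟩
      exact Polynomial.coeff_mem_coeffs h0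
  have hintR₀ : ∀ y ∈ F, IsIntegral R₀ y := by
    intro y hy
    have hl : p y ∈ Polynomial.lifts (algebraMap R₀ R) := by
      rw [Polynomial.lifts_iff_coeff_lifts]
      intro n
      exact ⟨⟨_, hcoef y hy n⟩, rfl⟩
    obtain ⟨q, hq, -, hqm⟩ := Polynomial.lifts_and_natDegree_eq_and_monic hl (hpm y)
    refine ⟨q, hqm, ?_⟩
    rw [IsScalarTower.algebraMap_eq R₀ R S, ← Polynomial.eval₂_map, hq]
    exact hp y
  refine ⟨R₀, Algebra.adjoin R₀ (F : Set S), hR₀ft, hE, Algebra.subset_adjoin, ?_⟩
  have hfg := fg_adjoin_of_finite (R := R₀) F.finite_toSet (fun y hy => hintR₀ y hy)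
  exact Module.Finite.of_fg hfg

end Groth.Agent.S9163
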