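import Groth.Statements.S9164
import Mathlib
import Groth.Agent.Lib.helper20.OneDim10

set_option autoImplicit false
universe u
open CAlg

namespace Groth.Agent.S9164

/-- Let R be a one-dimensional Noetherian local domain with fraction field K and V a finite-dimensional
K-vector space; a lattice is a finitely generated R-submodule of V spanning V over K. (1) For a
lattice M and an R-submodule M' ⊇ M: M' is a lattice iff M'/M has finite length over R iff M' is
finitely generated. (2) For a lattice M and M' ⊆ M: M' is a lattice iff M/M' has finite length. (3)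
The intersection of two lattices is a lattice. (The published statement also asserts that the sum M
+ M' of two lattices is a lattice and two identities between lengths of quotients of nested
lattices; this row states (1), (2) and the intersection half of (3).) -/
theorem result (R K V : Type u) [CommRing R] [IsDomain R]
    [IsNoetherianRing R] [IsLocalRing R] (hdim : ringKrullDim R = 1) [Field K] [Algebra R K]
    [IsFractionRing R K] [AddCommGroup V] [Module K V] [Module R V] [IsScalarTower R K V]
    [FiniteDimensional K V] (M : Submodule R V) [Submodule.IsLattice K M] :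
    (∀ M' : Submodule R V, M ≤ M' →
        (Submodule.IsLattice K M' ↔ Module.length R (M' ⧸ Submodule.comap M'.subtype M) ≠ ⊤) ∧
          (Submodule.IsLattice K M' ↔ M'.FG)) ∧
      (∀ M' : Submodule R V, M' ≤ M →
        (Submodule.IsLattice K M' ↔ Module.length R (M ⧸ Submodule.comap M.subtype M') ≠ ⊤)) ∧
      ∀ M' : Submodule R V, Submodule.IsLattice K M' → Submodule.IsLattice K (M ⊓ M') := by
  haveI : Ring.KrullDimLE 1 R := Ring.krullDimLE_iff.mpr hdim.le
  have hnA := Groth.Agent.Lib.helper20.OneDim.not_isArtinianRing_of_dim_one hdim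
  have fgM : M.FG := Submodule.IsLattice.fg
  have spM : Submodule.span K (M : Set V) = ⊤ := Submodule.IsLattice.span_eq_top
  refine ⟨fun M' hle => ?_, fun M' hle => ?_, fun M' hM' => ?_⟩
  · have hfg_lat : M'.FG → Submodule.IsLattice K M' := fun hfg =>
      Submodule.IsLattice.of_le_of_isLattice_of_fg K hle hfg
    have hlen_fg : Module.length R (M' ⧸ Submodule.comap M'.subtype M) ≠ ⊤ → M'.FG := by
      intro hl
      rw [Module.length_ne_top_iff, isFiniteLength_iff_isNoetherian_isArtinian] at hl
      haveI : IsNoetherian R (↥M' ⧸ Submodule.comap M'.subtype M) := hl.1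
      haveI : Module.Finite R (↥M' ⧸ Submodule.comap M'.subtype M) := inferInstance
      haveI : Module.Finite R ↥(Submodule.comap M'.subtype M) :=
        Module.Finite.equiv (Submodule.submoduleOfEquivOfLe hle).symm
      haveI : Module.Finite R ↥M' :=
        Module.Finite.of_submodule_quotient (Submodule.comap M'.subtype M)
      exact Module.Finite.iff_fg.mp inferInstance
    have hlat_len : Submodule.IsLattice K M' →
        Module.length R (M' ⧸ Submodule.comap M'.subtype M) ≠ ⊤ := by
      intro hl
      obtain ⟨a, ha, hmem⟩ :=
        Groth.Agent.Lib.helper20.OneDim.exists_smul_le (K := K) M' M hl.fg spM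
      exact Groth.Agent.Lib.helper20.OneDim.rl_ne_top hl.fg ha hmem
    exact ⟨⟨hlat_len, fun h => hfg_lat (hlen_fg h)⟩, ⟨fun h => h.fg, hfg_lat⟩⟩
  · constructor
    · intro hl
      obtain ⟨a, ha, hmem⟩ :=
        Groth.Agent.Lib.helper20.OneDim.exists_smul_le (K := K) M M' fgM hl.span_eq_top
      exact Groth.Agent.Lib.helper20.OneDim.rl_ne_top fgM ha hmem
    · intro hl
      exact ⟨Groth.Agent.Lib.helper20.OneDim.fg_of_le fgM hle,
        Groth.Agent.Lib.helper20.OneDim.span_eq_top_of_smul_mem M M' spM (fun m hm =>
          Groth.Agent.Lib.helper20.OneDim.exists_smul_mem_of_rl_ne_top hnA hl m hm)⟩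
  · obtain ⟨a, ha, hmem⟩ :=
      Groth.Agent.Lib.helper20.OneDim.exists_smul_le (K := K) M M' fgM hM'.span_eq_top
    exact ⟨Groth.Agent.Lib.helper20.OneDim.fg_of_le fgM inf_le_left,
      Groth.Agent.Lib.helper20.OneDim.span_eq_top_of_smul_mem M (M ⊓ M') spM (fun m hm =>
        ⟨a, ha, M.smul_mem a hm, hmem m hm⟩)⟩

end Groth.Agent.S9164
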