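import Groth.Statements.S9167
import Mathlib

set_option autoImplicit false
universe u
open CAlg

namespace Groth.Agent.S9167

section helpers



/-- Step 1: finitely presented modules over `R ⧸ I` given as `(R/I)^n / span T` lift to `R`. -/
theorem step1 (R : Type u) [CommRing R] (I : Ideal R) (n : ℕ) (T : Finset (Fin n → R ⧸ I)) :
    ∃ (M : Type u) (_ : AddCommGroup M) (_ : Module R M), Module.FinitePresentation R M ∧
      Nonempty ((M ⧸ (I • ⊤ : Submodule R M)) ≃ₗ[R ⧸ I]
        ((Fin n → R ⧸ I) ⧸ Submodule.span (R ⧸ I) (T : Set (Fin n → R ⧸ I)))) := by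
  classical
  -- lifts
  have hl : ∀ t : Fin n → R ⧸ I, ∃ W : Fin n → R, ∀ i, Ideal.Quotient.mk I (W i) = t i := by
    intro t
    choose W hW using fun i => Ideal.Quotient.mk_surjective (t i)
    exact ⟨W, hW⟩
  choose W hW using hl
  let T₀ : Finset (Fin n → R) := T.image W
  let N₀ : Submodule R (Fin n → R) := Submodule.span R (T₀ : Set (Fin n → R))
  let N : Submodule (R ⧸ I) (Fin n → R ⧸ I) := Submodule.span (R ⧸ I) (T : Set (Fin n → R ⧸ I))
  refine ⟨(Fin n → R) ⧸ N₀, inferInstance, inferInstance, ?_, ?_⟩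
  · refine Module.finitePresentation_of_surjective N₀.mkQ (Submodule.mkQ_surjective _) ?_
    rw [Submodule.ker_mkQ]
    exact ⟨T₀, rfl⟩
  · -- the reduction map
    let red : (Fin n → R) →ₗ[R] (Fin n → R ⧸ I) :=
      (Algebra.linearMap R (R ⧸ I)).compLeft (Fin n)
    have hred : ∀ (v : Fin n → R) (i : Fin n), red v i = Ideal.Quotient.mk I (v i) := fun v i => rfl
    have hredW : ∀ t, red (W t) = t := fun t => funext fun i => (hred _ i).trans (hW t i)
    let Φ : (Fin n → R) →ₗ[R] ((Fin n → R ⧸ I) ⧸ N) := (N.mkQ.restrictScalars R) ∘ₗ red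
    have hΦ : N₀ ≤ LinearMap.ker Φ := by
      rw [Submodule.span_le]
      intro v hv
      obtain ⟨t, ht, rfl⟩ := Finset.mem_image.1 (Finset.mem_coe.1 hv)
      show N.mkQ (red (W t)) = 0
      rw [hredW, Submodule.mkQ_apply, Submodule.Quotient.mk_eq_zero]
      exact Submodule.subset_span ht
    let Φ₁ : ((Fin n → R) ⧸ N₀) →ₗ[R] ((Fin n → R ⧸ I) ⧸ N) := N₀.liftQ Φ hΦ
    have hΦ₁ : (I • ⊤ : Submodule R ((Fin n → R) ⧸ N₀)) ≤ LinearMap.ker Φ₁ := by
      rw [Submodule.smul_le]
      intro a ha m _
      show Φ₁ (a • m) = 0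
      rw [map_smul]
      have : a • Φ₁ m = (Ideal.Quotient.mk I a) • Φ₁ m := by
        rw [← Ideal.Quotient.algebraMap_eq, algebraMap_smul]
      rw [this, Ideal.Quotient.eq_zero_iff_mem.2 ha, zero_smul]
    let Φ₂ : (((Fin n → R) ⧸ N₀) ⧸ (I • ⊤ : Submodule R ((Fin n → R) ⧸ N₀))) →ₗ[R]
        ((Fin n → R ⧸ I) ⧸ N) := Submodule.liftQ _ Φ₁ hΦ₁
    let Φ₃ : (((Fin n → R) ⧸ N₀) ⧸ (I • ⊤ : Submodule R ((Fin n → R) ⧸ N₀))) →ₗ[R ⧸ I]
        ((Fin n → R ⧸ I) ⧸ N) :=
      LinearMap.extendScalarsOfSurjective (Ideal.Quotient.mk_surjective (I := I)) Φ₂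
    have hΦ₃ : ∀ v : Fin n → R, Φ₃ (Submodule.Quotient.mk (Submodule.Quotient.mk v)) =
        Submodule.Quotient.mk (red v) := fun v => rfl
    refine ⟨LinearEquiv.ofBijective Φ₃ ⟨?_, ?_⟩⟩
    · rw [← LinearMap.ker_eq_bot, LinearMap.ker_eq_bot']
      intro x hx
      obtain ⟨y, rfl⟩ := Submodule.Quotient.mk_surjective _ x
      obtain ⟨v, rfl⟩ := Submodule.Quotient.mk_surjective _ y
      rw [hΦ₃, Submodule.Quotient.mk_eq_zero] at hx
      obtain ⟨c, hc⟩ := (Submodule.mem_span_finset).1 hx
      choose a ha using fun t => Ideal.Quotient.mk_surjective (c t)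
      let v' : Fin n → R := v - ∑ t ∈ T, a t • W t
      have hv' : ∀ i, v' i ∈ I := by
        intro i
        rw [← Ideal.Quotient.eq_zero_iff_mem, ← hred]
        have : red v' = red v - ∑ t ∈ T, c t • t := by
          simp only [v', map_sub, map_sum, map_smul, hredW]
          congr 1
          refine Finset.sum_congr rfl fun t _ => ?_
          rw [← ha t, ← Ideal.Quotient.algebraMap_eq, algebraMap_smul]
        rw [this, hc.2, sub_self]
        rfl
      have h1 : (Submodule.Quotient.mk v : (Fin n → R) ⧸ N₀) = Submodule.Quotient.mk v' := by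
        rw [Submodule.Quotient.eq]
        have : v - v' = ∑ t ∈ T, a t • W t := by simp [v']
        rw [this]
        refine Submodule.sum_mem _ fun t ht => Submodule.smul_mem _ _ ?_
        exact Submodule.subset_span (Finset.mem_coe.2 (Finset.mem_image_of_mem W ht))
      rw [h1, Submodule.Quotient.mk_eq_zero]
      have h2 : v' = ∑ i, v' i • (Pi.single i (1 : R) : Fin n → R) := by
        funext j
        simp [Finset.sum_apply, Pi.single_apply]
      rw [h2, ← Submodule.mkQ_apply, map_sum]
      refine Submodule.sum_mem _ fun i _ => ?_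
      rw [map_smul]
      exact Submodule.smul_mem_smul (hv' i) Submodule.mem_top
    · intro y
      obtain ⟨w, rfl⟩ := Submodule.Quotient.mk_surjective _ y
      refine ⟨Submodule.Quotient.mk (Submodule.Quotient.mk (W w)), ?_⟩
      rw [hΦ₃, hredW]

/-- Step 2: a finitely presented module over a localization `S'⁻¹A` is the localization of a
quotient `A^n / span T`. -/
theorem step2 (A : Type u) [CommRing A] (S' : Submonoid A) (M' : Type u) [AddCommGroup M']
    [Module (Localization S') M'] [Module.FinitePresentation (Localization S') M'] :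
    ∃ (n : ℕ) (T : Finset (Fin n → A)), ∀ (X : Type u) [AddCommGroup X] [Module A X],
      ((X ≃ₗ[A] ((Fin n → A) ⧸ Submodule.span A (T : Set (Fin n → A)))) →
      Nonempty (LocalizedModule S' X ≃ₗ[Localization S'] M')) := by
  classical
  obtain ⟨n, K, e, hK⟩ := Module.FinitePresentation.exists_fin (Localization S') M'
  obtain ⟨T', hT'⟩ := hK
  let f : (Fin n → A) →ₗ[A] (Fin n → Localization S') :=
    LinearMap.pi fun i => Algebra.linearMap A (Localization S') ∘ₗ LinearMap.proj i
  have hf : IsLocalizedModule S' f := IsLocalizedModule.pi S' _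
  choose ws hws using IsLocalizedModule.surj S' f
  let T : Finset (Fin n → A) := T'.image fun t => (ws t).1
  refine ⟨n, T, fun X _ _ e₁ => ?_⟩
  let N : Submodule A (Fin n → A) := Submodule.span A (T : Set (Fin n → A))
  have hN : N.localized' (Localization S') S' f = K := by
    rw [Submodule.localized'_span, ← hT']
    apply le_antisymm
    · rw [Submodule.span_le]
      rintro _ ⟨w, hw, rfl⟩
      obtain ⟨t, ht, rfl⟩ := Finset.mem_image.1 (Finset.mem_coe.1 hw)
      rw [← hws t, Submonoid.smul_def, ← algebraMap_smul (Localization S')]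
      exact Submodule.smul_mem _ _ (Submodule.subset_span ht)
    · rw [Submodule.span_le]
      intro t ht
      have hu : IsUnit (algebraMap A (Localization S') ((ws t).2 : A)) :=
        IsLocalization.map_units _ (ws t).2
      have h1 : f (ws t).1 = algebraMap A (Localization S') ((ws t).2 : A) • t := by
        rw [← hws t, Submonoid.smul_def, algebraMap_smul]
      have h2 : t = (hu.unit⁻¹ : (Localization S')ˣ) • f (ws t).1 := by
        rw [h1, Units.smul_def, ← mul_smul, IsUnit.val_inv_mul, one_smul]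
      rw [h2]
      refine Submodule.smul_mem _ _ (Submodule.subset_span ⟨(ws t).1, ?_, rfl⟩)
      exact Finset.mem_coe.2 (Finset.mem_image_of_mem _ ht)
  let g := N.toLocalizedQuotient' (Localization S') S' f
  have hg : IsLocalizedModule S' (g ∘ₗ e₁.toLinearMap) := IsLocalizedModule.of_linearEquiv_right S' g e₁
  let i1 : LocalizedModule S' X ≃ₗ[A] ((Fin n → Localization S') ⧸ N.localized' (Localization S') S' f) :=
    IsLocalizedModule.iso S' (g ∘ₗ e₁.toLinearMap)
  let i2 : LocalizedModule S' X ≃ₗ[Localization S'] ((Fin n → Localization S') ⧸ N.localized' (Localization S') S' f) :=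
    LinearEquiv.extendScalarsOfIsLocalization S' (Localization S') i1
  exact ⟨(i2.trans (Submodule.quotEquivOfEq _ _ hN)).trans e.symm⟩




end helpers

/-- With R' = S⁻¹(R/I), every finitely presented R'-module is of the form S⁻¹(M/IM) for some finitely
presented R-module M. -/
theorem result (R : Type u) [CommRing R] (I : Ideal R)
    (S : Submonoid R) (M' : Type u) [AddCommGroup M']
    [Module (Localization (S.map (Ideal.Quotient.mk I))) M']
    [Module.FinitePresentation (Localization (S.map (Ideal.Quotient.mk I))) M'] :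
    ∃ (M : Type u) (_ : AddCommGroup M) (_ : Module R M), Module.FinitePresentation R M ∧
      Nonempty (LocalizedModule (S.map (Ideal.Quotient.mk I)) (M ⧸ (I • ⊤ : Submodule R M))
        ≃ₗ[Localization (S.map (Ideal.Quotient.mk I))] M') := by
  obtain ⟨n, T, h2⟩ := step2 (R ⧸ I) (S.map (Ideal.Quotient.mk I)) M'
  obtain ⟨M, i1, i2, hfp, ⟨e⟩⟩ := step1 R I n T
  exact ⟨M, i1, i2, hfp, h2 _ e⟩

end Groth.Agent.S9167
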