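import Groth.Statements.S9168
import Mathlib

set_option autoImplicit false
universe u
open CAlg

namespace Groth.Agent.S9168

section helpers




section loc
variable {T : Type u} [CommRing T]

def Loc (Z : Subring T) : Subring T where
  carrier := {x | ∃ t ∈ Z, IsUnit t ∧ x * t ∈ Z}
  mul_mem' := by
    rintro x y ⟨t, ht, htu, hxt⟩ ⟨s, hs, hsu, hys⟩
    refine ⟨t * s, Z.mul_mem ht hs, htu.mul hsu, ?_⟩
    have : x * y * (t * s) = (x * t) * (y * s) := by ring
    rw [this]; exact Z.mul_mem hxt hys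
  one_mem' := ⟨1, Z.one_mem, isUnit_one, by simpa using Z.one_mem⟩
  add_mem' := by
    rintro x y ⟨t, ht, htu, hxt⟩ ⟨s, hs, hsu, hys⟩
    refine ⟨t * s, Z.mul_mem ht hs, htu.mul hsu, ?_⟩
    have : (x + y) * (t * s) = (x * t) * s + (y * s) * t := by ring
    rw [this]; exact Z.add_mem (Z.mul_mem hxt hs) (Z.mul_mem hys ht)
  zero_mem' := ⟨1, Z.one_mem, isUnit_one, by simpa using Z.zero_mem⟩
  neg_mem' := by
    rintro x ⟨t, ht, htu, hxt⟩
    refine ⟨t, ht, htu, ?_⟩
    rw [neg_mul]; exact Z.neg_mem hxt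

theorem le_Loc (Z : Subring T) : Z ≤ Loc Z := fun z hz =>
  ⟨1, Z.one_mem, isUnit_one, by simpa using hz⟩

theorem Loc_localHom (Z : Subring T) : IsLocalHom (Loc Z).subtype := by
  constructor
  intro x hx
  obtain ⟨t, ht, htu, hxt⟩ := x.2
  have hx' : IsUnit (x : T) := hx
  have hau : IsUnit ((x : T) * t) := hx'.mul htu
  have hy : (↑(hx'.unit⁻¹) : T) ∈ Loc Z := by
    refine ⟨(x : T) * t, hxt, hau, ?_⟩
    rw [← mul_assoc, IsUnit.val_inv_mul, one_mul]
    exact ht
  rw [isUnit_iff_exists_inv]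
  refine ⟨⟨_, hy⟩, Subtype.ext ?_⟩
  simp

theorem Loc_ess.{v} {P : Type v} [CommRing P] (Z : Subring T) (g : P →+* Loc Z) (σ : Finset (Loc Z))
    (h : ∀ z ∈ Z, ∃ y ∈ @Algebra.adjoin P (Loc Z) _ _ g.toAlgebra (σ : Set (Loc Z)), (y : T) = z) :
    g.EssFiniteType := by
  letI := g.toAlgebra
  show Algebra.EssFiniteType P (Loc Z)
  rw [Algebra.essFiniteType_iff]
  refine ⟨σ, fun s => ?_⟩
  obtain ⟨t, ht, htu, hst⟩ := s.2
  obtain ⟨y, hy, hyt⟩ := h t ht
  obtain ⟨w, hw, hwst⟩ := h _ hst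
  refine ⟨y, hy, ?_, ?_⟩
  · haveI := Loc_localHom Z
    apply isUnit_of_map_unit (Loc Z).subtype
    show IsUnit (y : T)
    rw [hyt]; exact htu
  · have : s * y = w := Subtype.ext (by simp [hyt, hwst])
    rw [this]; exact hw

end loc



end helpers

/-- For a local homomorphism of local rings R → S and finite subsets E ⊆ R, F ⊆ S there are local
subrings R₀ ⊆ R and S₀ ⊆ S containing E and F, with R → S mapping R₀ into S₀, such that the
inclusions and the induced map R₀ → S₀ are local homomorphisms, R₀ is essentially of finite type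
over ℤ and S₀ is essentially of finite type over R₀. (So R → S is the directed colimit of such R₀ →
S₀.) -/
theorem result (R S : Type u) [CommRing R] [CommRing S] [IsLocalRing R]
    [IsLocalRing S] [Algebra R S] [IsLocalHom (algebraMap R S)] (E : Finset R) (F : Finset S) :
    ∃ (R₀ : Subring R) (S₀ : Subring S) (h : ∀ x ∈ R₀, algebraMap R S x ∈ S₀),
      (E : Set R) ⊆ R₀ ∧ (F : Set S) ⊆ S₀ ∧ ∃ (_ : IsLocalRing R₀) (_ : IsLocalRing S₀),
        IsLocalHom R₀.subtype ∧ IsLocalHom S₀.subtype ∧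
          IsLocalHom ((algebraMap R S).restrict R₀ S₀ h) ∧
          (algebraMap ℤ R₀).EssFiniteType ∧ ((algebraMap R S).restrict R₀ S₀ h).EssFiniteType := by
  classical
  set ZR : Subring R := Subring.closure (E : Set R) with hZR
  set R₀ : Subring R := Loc ZR with hR₀
  set ZS : Subring S := Subring.closure ((algebraMap R S) '' (R₀ : Set R) ∪ (F : Set S)) with hZS
  set S₀ : Subring S := Loc ZS with hS₀
  have hER : (E : Set R) ⊆ R₀ := fun e he => le_Loc ZR (Subring.subset_closure he)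
  have hFS : (F : Set S) ⊆ S₀ := fun f hf => le_Loc ZS (Subring.subset_closure (Or.inr hf))
  have h : ∀ x ∈ R₀, algebraMap R S x ∈ S₀ := fun x hx =>
    le_Loc ZS (Subring.subset_closure (Or.inl ⟨x, hx, rfl⟩))
  have hlR : IsLocalHom R₀.subtype := Loc_localHom ZR
  have hlS : IsLocalHom S₀.subtype := Loc_localHom ZS
  have hRloc : IsLocalRing R₀ := RingHom.domain_isLocalRing R₀.subtype
  have hSloc : IsLocalRing S₀ := RingHom.domain_isLocalRing S₀.subtype
  refine ⟨R₀, S₀, h, hER, hFS, hRloc, hSloc, hlR, hlS, ?_, ?_, ?_⟩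
  · constructor
    intro x hx
    have h1 : IsUnit (algebraMap R S (x : R)) := by
      have := hx.map S₀.subtype
      exact this
    have h2 : IsUnit (x : R) := isUnit_of_map_unit (algebraMap R S) _ h1
    exact isUnit_of_map_unit R₀.subtype x h2
  · -- ℤ → R₀
    let σ : Finset R₀ := E.attach.image (fun e => ⟨e.1, hER e.2⟩)
    apply Loc_ess ZR (algebraMap ℤ R₀) σ
    letI := (algebraMap ℤ (Loc ZR)).toAlgebra
    have hle : ZR ≤ (Algebra.adjoin ℤ (σ : Set R₀)).toSubring.map R₀.subtype := by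
      rw [hZR, Subring.closure_le]
      intro e he
      refine ⟨⟨e, hER he⟩, ?_, rfl⟩
      apply Algebra.subset_adjoin
      simp only [σ, Finset.coe_image, Set.mem_image, Finset.mem_coe, Finset.mem_attach, true_and]
      exact ⟨⟨e, he⟩, rfl⟩
    intro z hz
    obtain ⟨y, hy, hyz⟩ := hle hz
    exact ⟨y, hy, hyz⟩
  · -- R₀ → S₀
    let σ : Finset S₀ := F.attach.image (fun f => ⟨f.1, hFS f.2⟩)
    apply Loc_ess ZS ((algebraMap R S).restrict R₀ S₀ h) σ
    letI := ((algebraMap R S).restrict R₀ (Loc ZS) h).toAlgebra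
    have hle : ZS ≤ (Algebra.adjoin R₀ (σ : Set S₀)).toSubring.map S₀.subtype := by
      rw [hZS, Subring.closure_le]
      rintro y (⟨x, hx, rfl⟩ | hy)
      · refine ⟨algebraMap R₀ S₀ ⟨x, hx⟩, ?_, rfl⟩
        exact Subalgebra.algebraMap_mem _ _
      · refine ⟨⟨y, hFS hy⟩, ?_, rfl⟩
        apply Algebra.subset_adjoin
        simp only [σ, Finset.coe_image, Set.mem_image, Finset.mem_coe, Finset.mem_attach, true_and]
        exact ⟨⟨y, hy⟩, rfl⟩
    intro z hz
    obtain ⟨y, hy, hyz⟩ := hle hz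
    exact ⟨y, hy, hyz⟩

end Groth.Agent.S9168
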