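import Groth.Statements.S9177
import Groth.Agent.Lib.helper14.WeakColimAlg


set_option autoImplicit false
universe u
open CAlg

namespace Groth.Agent.S9177

open TensorProduct in
/-- Let R = colim R_i be a directed colimit of A-algebras (compatible transition maps), B and C
A-algebras. (1) If B is of finite type over A, two A-algebra maps B → C whose base changes to R
coincide already have equal base changes to some R_i. (2) If C is of finite type over A and u : B →
C has surjective base change to R, then its base change to some R_i is surjective. (The A-algebra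
structure on R is through any stage R_l; it does not depend on l.) -/
theorem result {ι : Type u} [Preorder ι]
    [Nonempty ι] [IsDirectedOrder ι] (G : ι → Type u) [∀ i, CommRing (G i)]
    (f : ∀ i j, i ≤ j → G i →+* G j) [DirectedSystem G (fun i j h => f i j h)]
    (A : Type u) [CommRing A] [∀ i, Algebra A (G i)]
    (hf : ∀ i j (h : i ≤ j), (f i j h).comp (algebraMap A (G i)) = algebraMap A (G j)) (l : ι)
    (B C : Type u) [CommRing B] [CommRing C] [Algebra A B] [Algebra A C] :
    letI : Algebra A (Ring.DirectLimit G (fun i j h => f i j h)) :=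
      ((Ring.DirectLimit.of G (fun i j h => f i j h) l).comp (algebraMap A (G l))).toAlgebra
    (Algebra.FiniteType A B → ∀ u u' : B →ₐ[A] C,
        Algebra.TensorProduct.map (AlgHom.id A (Ring.DirectLimit G (fun i j h => f i j h))) u =
            Algebra.TensorProduct.map (AlgHom.id A (Ring.DirectLimit G (fun i j h => f i j h))) u' →
          ∃ i : ι, Algebra.TensorProduct.map (AlgHom.id A (G i)) u =
            Algebra.TensorProduct.map (AlgHom.id A (G i)) u') ∧
      (Algebra.FiniteType A C → ∀ u : B →ₐ[A] C,
        Function.Surjective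
            (Algebra.TensorProduct.map (AlgHom.id A (Ring.DirectLimit G (fun i j h => f i j h))) u) →
          ∃ i : ι, Function.Surjective (Algebra.TensorProduct.map (AlgHom.id A (G i)) u)) := by
  letI inst : Algebra A (Ring.DirectLimit G (fun i j h => f i j h)) :=
    ((Ring.DirectLimit.of G (fun i j h => f i j h) l).comp (algebraMap A (G l))).toAlgebra
  let f' : ∀ i j, i ≤ j → (G i →ₐ[A] G j) := fun i j h =>
    { f i j h with commutes' := fun a => congrArg (fun φ : A →+* G j => φ a) (hf i j h) }
  have hof : ∀ i a, Ring.DirectLimit.of G (fun i j h => f i j h) i (algebraMap A (G i) a) =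
      algebraMap A (Ring.DirectLimit G (fun i j h => f i j h)) a := by
    intro i a
    obtain ⟨k, hik, hlk⟩ := exists_ge_ge i l
    change _ = Ring.DirectLimit.of G (fun i j h => f i j h) l (algebraMap A (G l) a)
    rw [← Ring.DirectLimit.of_f hik, ← Ring.DirectLimit.of_f hlk]
    congr 1
    exact (congrArg (fun φ : A →+* G k => φ a) (hf i k hik)).trans
      (congrArg (fun φ : A →+* G k => φ a) (hf l k hlk)).symm
  let g' : ∀ i, G i →ₐ[A] Ring.DirectLimit G (fun i j h => f i j h) := fun i =>
    { Ring.DirectLimit.of G (fun i j h => f i j h) i with commutes' := hof i }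
  have hg : ∀ i j (h : i ≤ j), (g' j).comp (f' i j h) = g' i := fun i j h =>
    AlgHom.ext (fun x => Ring.DirectLimit.of_f h x)
  have hsurj : ∀ a : Ring.DirectLimit G (fun i j h => f i j h), ∃ i, ∃ x : G i, g' i x = a :=
    fun a => Ring.DirectLimit.exists_of a
  have hker : ∀ i (x : G i), g' i x = 0 → ∃ j, ∃ h : i ≤ j, f' i j h x = 0 :=
    fun i x hx => Ring.DirectLimit.of.zero_exact hx
  constructor
  · intro hft u u' heq
    obtain ⟨s, hs⟩ := hft.out
    classical
    obtain ⟨j, -, φ, -, hφ⟩ := H14.WC.exists_kill_finset_tensor f' g' hg hsurj hker C l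
      (s.image fun b => (u b - u' b) ⊗ₜ[A] (1 : G l)) (by
        intro z hz
        obtain ⟨b, -, rfl⟩ := Finset.mem_image.mp hz
        rw [LinearMap.lTensor_tmul, AlgHom.toLinearMap_apply, map_one, TensorProduct.sub_tmul,
          sub_eq_zero]
        rw [H14.WC.tmap_eq_iff] at heq
        have := congrArg (fun ψ => ψ (b ⊗ₜ[A] 1)) heq
        simpa using this)
    refine ⟨j, ?_⟩
    rw [H14.WC.tmap_eq_iff]
    apply Algebra.TensorProduct.ext
    · apply AlgHom.ext_of_adjoin_eq_top hs
      intro b hb
      have := hφ _ (Finset.mem_image_of_mem _ hb)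
      rw [LinearMap.lTensor_tmul, AlgHom.toLinearMap_apply, map_one, TensorProduct.sub_tmul,
        sub_eq_zero] at this
      simpa using this
    · ext t
      simp
  · intro hft u hsurjR
    obtain ⟨s, hs⟩ := hft.out
    have hs' : Algebra.adjoin A ((s : Set C) ∪ Set.range u) = ⊤ :=
      top_le_iff.mp (hs ▸ Algebra.adjoin_mono Set.subset_union_left)
    rw [H14.WC.tmap_surjective_iff] at hsurjR
    obtain ⟨i, -, hi⟩ := H14.WC.exists_rmap_surjective f' g' u hg hsurj hker s hs' hsurjR l
    exact ⟨i, (H14.WC.tmap_surjective_iff u (G i)).mpr hi⟩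

end Groth.Agent.S9177
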