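import Groth.Statements.S9179
import Mathlib

set_option autoImplicit false
universe u
open CategoryTheory CategoryTheory.Limits
open CAlg

namespace Groth.Agent.S9179
open CategoryTheory CategoryTheory.Limits

/-- An R-algebra of finite type is the colimit of a filtered system of finitely presented R-algebras
whose transition maps are all surjective. -/
theorem result (R A : Type u) [CommRing R] [CommRing A]
    [Algebra R A] [Algebra.FiniteType R A] :
    ∃ (I : Type u) (_ : SmallCategory I) (_ : IsFiltered I) (D : I ⥤ Under (CommRingCat.of R))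
      (c : Cocone D) (_ : IsColimit c),
      (∀ i, (D.obj i).hom.hom.FinitePresentation) ∧
      (∀ (i j : I) (φ : i ⟶ j), Function.Surjective (D.map φ).right.hom) ∧
      Nonempty (c.pt ≅ Under.mk (CommRingCat.ofHom (algebraMap R A))) := by
  classical
  obtain ⟨n, π, hπ⟩ := Algebra.FiniteType.iff_quotient_mvPolynomial''.1 ‹Algebra.FiniteType R A›
  let P := MvPolynomial (Fin n) R
  let K : Ideal P := RingHom.ker π.toRingHom
  let I := {J : Ideal P // J.FG ∧ J ≤ K}
  have : Nonempty I := ⟨⟨⊥, Submodule.fg_bot, bot_le⟩⟩
  have : IsDirected I (· ≤ ·) := ⟨fun J J' =>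
    ⟨⟨J.1 ⊔ J'.1, Submodule.FG.sup J.2.1 J'.2.1, sup_le J.2.2 J'.2.2⟩,
      (le_sup_left : J.1 ≤ J.1 ⊔ J'.1), (le_sup_right : J'.1 ≤ J.1 ⊔ J'.1)⟩⟩
  let obj : I → Under (CommRingCat.of R) := fun J =>
    Under.mk (CommRingCat.ofHom (algebraMap R (P ⧸ J.1)))
  let D : I ⥤ Under (CommRingCat.of R) :=
    { obj := obj
      map := fun {J J'} φ => Under.homMk (CommRingCat.ofHom (Ideal.Quotient.factor (leOfHom φ))) (by
        ext r
        rfl)
      map_id := fun J => by
        ext x
        obtain ⟨p, rfl⟩ := Ideal.Quotient.mk_surjective x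
        rfl
      map_comp := fun {J J' J''} φ ψ => by
        ext x
        obtain ⟨p, rfl⟩ := Ideal.Quotient.mk_surjective x
        rfl }
  have hD_map : ∀ {J J' : I} (φ : J ⟶ J') (p : P),
      (D.map φ).right.hom (Ideal.Quotient.mk J.1 p) = Ideal.Quotient.mk J'.1 p := fun φ p => rfl
  let c : Cocone D :=
    { pt := Under.mk (CommRingCat.ofHom (algebraMap R (P ⧸ K)))
      ι :=
        { app := fun J => Under.homMk (CommRingCat.ofHom (Ideal.Quotient.factor J.2.2)) (by
            ext r
            rfl)
          naturality := fun {J J'} φ => by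
            ext x
            obtain ⟨p, rfl⟩ := Ideal.Quotient.mk_surjective x
            rfl } }
  have hc_app : ∀ (J : I) (p : P),
      (c.ι.app J).right.hom (Ideal.Quotient.mk J.1 p) = Ideal.Quotient.mk K p := fun J p => rfl
  let bot : I := ⟨⊥, Submodule.fg_bot, bot_le⟩
  have key : ∀ (s : Cocone D) (J : I) (p : P),
      (s.ι.app bot).right.hom (Ideal.Quotient.mk bot.1 p) =
        (s.ι.app J).right.hom (Ideal.Quotient.mk J.1 p) := by
    intro s J p
    have hle : bot ≤ J := (bot_le : (⊥ : Ideal P) ≤ J.1)
    have h := s.w (homOfLE hle)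
    rw [← h]
    rfl
  let hc : IsColimit c :=
    { desc := fun s => Under.homMk (CommRingCat.ofHom (Ideal.Quotient.lift K
          ((s.ι.app bot).right.hom.comp (Ideal.Quotient.mk bot.1)) (by
            intro p hp
            let Jp : I := ⟨Ideal.span {p}, ⟨{p}, by simp⟩, (Ideal.span_singleton_le_iff_mem K).2 hp⟩
            show (s.ι.app bot).right.hom (Ideal.Quotient.mk bot.1 p) = 0
            rw [key s Jp p]
            have : Ideal.Quotient.mk Jp.1 p = 0 :=
              Ideal.Quotient.eq_zero_iff_mem.2 (Ideal.subset_span rfl)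
            rw [this, map_zero]))) (by
          ext r
          have h1 := congrArg (fun f => f.hom r) (Under.w (s.ι.app bot))
          exact h1)
      fac := fun s J => by
        ext x
        obtain ⟨p, rfl⟩ := Ideal.Quotient.mk_surjective x
        exact key s J p
      uniq := fun s m hm => by
        ext x
        obtain ⟨p, rfl⟩ := Ideal.Quotient.mk_surjective x
        have h1 := congrArg (fun f => f.right.hom (Ideal.Quotient.mk bot.1 p)) (hm bot)
        exact h1 }
  refine ⟨I, inferInstance, inferInstance, D, c, hc, ?_, ?_, ?_⟩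
  · intro J
    show (algebraMap R (P ⧸ J.1)).FinitePresentation
    rw [RingHom.finitePresentation_algebraMap]
    exact Algebra.FinitePresentation.quotient J.2.1
  · intro J J' φ
    exact Ideal.Quotient.factor_surjective (leOfHom φ)
  · let e : (P ⧸ K) ≃ₐ[R] A := Ideal.quotientKerAlgEquivOfSurjective hπ
    refine ⟨Under.isoMk (e.toRingEquiv.toCommRingCatIso) ?_⟩
    ext r
    show e (algebraMap R (P ⧸ K) r) = algebraMap R A r
    exact e.commutes r

end Groth.Agent.S9179
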