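import Groth.Statements.S9185
import Groth.Agent.Lib.helper5.DiffOp
open scoped TensorProduct

set_option autoImplicit false
universe u
open Diff16

namespace Groth.Agent.S9185

/-- For a ring map R → S, an S-module M and k ≥ 0 there is an S-module P together with a differential
operator D : M → P of order at most k (relative to R → S) such that every differential operator of
order at most k from M to an S-module N is α ∘ D for a unique S-linear map α : P → N; that is,
differential operators of order ≤ k out of M are represented by P. (Target modules N are taken in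
the same universe.) -/
theorem result (R S : Type u) [CommRing R] [CommRing S] [Algebra R S] (M : Type u)
    [AddCommGroup M] [Module S M] [Module R M] [IsScalarTower R S M] (k : ℕ) :
    ∃ (P : Type u) (_ : AddCommGroup P) (_ : Module S P) (_ : Module R P) (_ : IsScalarTower R S P)
      (D : M →ₗ[R] P), Diff16.IsDiffOpLE R S M P k D ∧
        ∀ (N : Type u) [AddCommGroup N] [Module S N] [Module R N] [IsScalarTower R S N] (D' : M →ₗ[R] N),
          Diff16.IsDiffOpLE R S M N k D' → ∃! α : P →ₗ[S] N, α.restrictScalars R ∘ₗ D = D' := by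
  classical
  -- generators of the relation submodule
  let gen : (Fin (k + 1) → S) → M → S ⊗[R] M := fun b t =>
    ∑ H : Finset (Fin (k + 1)),
      ((-1 : ℤ) ^ H.card) • ((∏ i ∈ H, b i) ⊗ₜ[R] ((∏ i ∈ Hᶜ, b i) • t))
  let W : Submodule S (S ⊗[R] M) := Submodule.span S {x | ∃ b t, x = gen b t}
  let Du : M →ₗ[R] (S ⊗[R] M) ⧸ W := (W.mkQ.restrictScalars R) ∘ₗ (TensorProduct.mk R S M 1)
  have hDu : ∀ (c : S) (m : M), c • Du m = W.mkQ (c ⊗ₜ[R] m) := by
    intro c m
    show c • W.mkQ ((1 : S) ⊗ₜ[R] m) = _
    rw [← map_smul, TensorProduct.smul_tmul', smul_eq_mul, mul_one]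
  refine ⟨(S ⊗[R] M) ⧸ W, inferInstance, inferInstance, inferInstance, inferInstance, Du, ?_, ?_⟩
  · rw [Groth.Agent.H5.DiffOp.isDiffOpLE_iff_altSum_fin]
    intro b t
    have : W.mkQ (gen b t) = 0 := by
      rw [Submodule.mkQ_apply, Submodule.Quotient.mk_eq_zero]
      exact Submodule.subset_span ⟨b, t, rfl⟩
    rw [← this]
    simp only [gen, map_sum, hDu]
    refine Finset.sum_congr rfl (fun H _ => ?_)
    rw [map_zsmul]
  · intro N _ _ _ _ D' hD'
    let lin : S ⊗[R] M →ₗ[S] N := LinearMap.liftBaseChange S D'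
    have hlin : ∀ (c : S) (m : M), lin (c ⊗ₜ[R] m) = c • D' m := fun c m => by
      simp [lin]
    have hW : W ≤ LinearMap.ker lin := by
      apply Submodule.span_le.2
      rintro x ⟨b, t, rfl⟩
      show lin (gen b t) = 0
      have := (Groth.Agent.H5.DiffOp.isDiffOpLE_iff_altSum_fin R S M N k D').1 hD' b t
      rw [← this]
      simp only [gen, map_sum, map_zsmul, hlin]
    refine ⟨W.liftQ lin hW, ?_, ?_⟩
    · apply LinearMap.ext
      intro m
      show (W.liftQ lin hW) (W.mkQ ((1 : S) ⊗ₜ[R] m)) = D' m
      rw [Submodule.mkQ_apply, Submodule.liftQ_apply, hlin, one_smul]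
    · intro α' hα'
      apply Submodule.linearMap_qext
      apply TensorProduct.AlgebraTensorModule.ext
      intro c m
      have h1 : α' (W.mkQ (c ⊗ₜ[R] m)) = c • D' m := by
        rw [← hDu, map_smul]
        congr 1
        exact congrArg (fun f => f m) hα'
      show α' (W.mkQ (c ⊗ₜ[R] m)) = (W.liftQ lin hW) (W.mkQ (c ⊗ₜ[R] m))
      rw [h1, Submodule.mkQ_apply, Submodule.liftQ_apply, hlin]

end Groth.Agent.S9185
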