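import Groth.Statements.S9201
import Groth.Agent.Lib.helper11.LimClosedImm2

set_option autoImplicit false
universe u
open CategoryTheory AlgebraicGeometry
open Lim

namespace Groth.Agent.S9201

open Groth.Agent.Lib.helper11


/-- Let S be a quasi-separated scheme and X = lim X_i a cofiltered limit of S-schemes X_i (a diagram
with a compatible family of structure maps to S) whose transition morphisms are closed immersions,
every X_i quasi-compact, quasi-separated and locally of finite type over S; the structure map X → S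
is the composite X → X_{i₀} → S for any index i₀. If X → S is an immersion, then X_i → S is an
immersion for all i beyond some index i₁. -/
theorem result {I : Type u} [SmallCategory I] [IsCofiltered I] (S : Scheme.{u}) [QuasiSeparatedSpace S]
    (D : I ⥤ Scheme.{u}) (t : D ⟶ (Functor.const I).obj S) (c : Limits.Cone D) (hc : Limits.IsLimit c)
    [∀ (i j : I) (a : i ⟶ j), IsClosedImmersion (D.map a)]
    [∀ i, CompactSpace (D.obj i)] [∀ i, QuasiSeparatedSpace (D.obj i)]
    [∀ i, LocallyOfFiniteType (t.app i)] (i₀ : I)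
    [IsImmersion (c.π.app i₀ ≫ t.app i₀)] :
    ∃ i₁ : I, ∀ (i : I) (_ : i ⟶ i₁), IsImmersion (t.app i) := by
  classical
  let τ : ∀ i, D.obj i ⟶ S := fun i => t.app i
  have hτ : ∀ {j k : I} (φ : j ⟶ k), D.map φ ≫ τ k = τ j := by
    intro j k φ
    have h1 := t.naturality φ
    simp only [Functor.const_obj_obj, Functor.const_obj_map] at h1
    exact h1.trans (Category.comp_id _)
  have hlft : ∀ i, LocallyOfFiniteType (τ i) := fun i => ‹∀ i, LocallyOfFiniteType (t.app i)› i
  suffices H : ∃ i₁ : I, ∀ (i : I) (_ : i ⟶ i₁), IsImmersion (τ i) from H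
  let f : c.pt ⟶ S := c.π.app i₀ ≫ τ i₀
  have hf : IsImmersion f := ‹IsImmersion (c.π.app i₀ ≫ t.app i₀)›
  have haff : ∀ {i j : I} (a : i ⟶ j), IsAffineHom (D.map a) := fun a => inferInstance
  have hXc : CompactSpace c.pt := Scheme.compactSpace_of_isLimit D c hc
  -- a quasi-compact open `U'` inside the coborder containing the image
  let U := f.coborderRange
  have hrU : Set.range f.base ⊆ (U : Set S) := by
    rintro _ ⟨x, rfl⟩
    have : f.base x = U.ι.base (f.liftCoborder.base x) := by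
      rw [← Scheme.Hom.comp_apply, f.liftCoborder_ι]
    rw [this]
    exact (f.liftCoborder.base x).2
  have hnh : ∀ y : S, y ∈ Set.range f.base → ∃ W : S.Opens, IsAffineOpen W ∧ y ∈ W ∧ W ≤ U := by
    intro y hy
    obtain ⟨_, ⟨W, hW : IsAffineOpen W, rfl⟩, hyW, hWU⟩ :=
      S.isBasis_affineOpens.exists_subset_of_mem_open (hrU hy) U.isOpen
    exact ⟨W, hW, hyW, hWU⟩
  let W : S → S.Opens := fun y => if hy : y ∈ Set.range f.base then (hnh y hy).choose else ⊥
  have hW1 : ∀ y (hy : y ∈ Set.range f.base), IsAffineOpen (W y) ∧ y ∈ W y ∧ W y ≤ U := by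
    intro y hy
    simp only [W, dif_pos hy]
    exact (hnh y hy).choose_spec
  have hcr : IsCompact (Set.range f.base) := isCompact_range f.continuous
  obtain ⟨T, hTcov⟩ := hcr.elim_nhds_subcover' (fun y _ => (W y : Set S))
    (fun y hy => (W y).isOpen.mem_nhds (hW1 y hy).2.1)
  let U' : S.Opens := ⨆ y : T, W y.1.1
  have hU'U : U' ≤ U := iSup_le fun y => (hW1 y.1.1 y.1.2).2.2
  have hrU' : Set.range f.base ⊆ (U' : Set S) := by
    intro y hy
    obtain ⟨z, hz, hyz⟩ := Set.mem_iUnion₂.mp (hTcov hy)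
    exact TopologicalSpace.Opens.mem_iSup.mpr ⟨⟨z, hz⟩, hyz⟩
  have hU'c : IsCompact (U' : Set S) := by
    have : (U' : Set S) = ⋃ y : T, (W y.1.1 : Set S) := by
      simp [U']
    rw [this]
    exact isCompact_iUnion fun y => (hW1 y.1.1 y.1.2).1.isCompact
  have hU'cs : CompactSpace ↥(U'.toScheme) := isCompact_iff_compactSpace.mp hU'c
  have hU'qs : QuasiSeparatedSpace ↥(U'.toScheme) := LimClosedImm2.qs_opens U'
  -- the image of some stage lands in `U'`
  have hpre : c.π.app i₀ ⁻¹ᵁ (τ i₀ ⁻¹ᵁ U') = ⊤ := by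
    rw [eq_top_iff]
    intro x _
    exact hrU' ⟨x, rfl⟩
  obtain ⟨j, φj, hj⟩ := exists_map_eq_top D c hc (τ i₀ ⁻¹ᵁ U') hpre
  have hjU' : ∀ x : D.obj j, (τ j).base x ∈ U' := by
    intro x
    have : x ∈ D.map φj ⁻¹ᵁ (τ i₀ ⁻¹ᵁ U') := by rw [hj]; trivial
    rw [← hτ φj]
    exact this
  -- the restricted system over `Over j`
  let Dj : Over j ⥤ Scheme.{u} := Over.forget j ⋙ D
  let cj : Limits.Cone Dj := c.whisker (Over.forget j)
  have hcj : Limits.IsLimit cj := (Functor.Initial.isLimitWhiskerEquiv (Over.forget j) c).symm hc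
  have hrange : ∀ k : Over j, Set.range (D.map k.hom ≫ τ j).base ⊆ Set.range U'.ι.base := by
    rintro k _ ⟨x, rfl⟩
    rw [Scheme.Opens.range_ι]
    exact hjU' _
  let τ' : ∀ k : Over j, Dj.obj k ⟶ U'.toScheme :=
    fun k => IsOpenImmersion.lift U'.ι (D.map k.hom ≫ τ j) (hrange k)
  have hτ'ι : ∀ k, τ' k ≫ U'.ι = τ k.left := fun k => by
    rw [IsOpenImmersion.lift_fac, hτ]
    rfl
  have hτ' : ∀ {k₁ k₂ : Over j} (g : k₁ ⟶ k₂), Dj.map g ≫ τ' k₂ = τ' k₁ := by
    intro k₁ k₂ g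
    rw [← cancel_mono U'.ι, Category.assoc, hτ'ι, hτ'ι]
    exact hτ g.left
  have h1 : ∀ (k₁ k₂ : Over j) (g : k₁ ⟶ k₂), IsClosedImmersion (Dj.map g) := fun k₁ k₂ g =>
    ‹∀ (i j : I) (a : i ⟶ j), IsClosedImmersion (D.map a)› _ _ g.left
  have h2 : ∀ k : Over j, CompactSpace (Dj.obj k) := fun k => ‹∀ i, CompactSpace (D.obj i)› k.left
  have h3 : ∀ k : Over j, QuasiSeparatedSpace (Dj.obj k) :=
    fun k => ‹∀ i, QuasiSeparatedSpace (D.obj i)› k.left
  have h4 : ∀ k : Over j, LocallyOfFiniteType (τ' k) := by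
    intro k
    have : LocallyOfFiniteType (τ' k ≫ U'.ι) := by rw [hτ'ι]; exact hlft k.left
    exact locallyOfFiniteType_of_comp _ U'.ι
  have h5 : IsClosedImmersion (cj.π.app (Over.mk (𝟙 j)) ≫ τ' (Over.mk (𝟙 j))) := by
    have e1 : (cj.π.app (Over.mk (𝟙 j)) ≫ τ' (Over.mk (𝟙 j))) ≫ S.homOfLE hU'U =
        f.liftCoborder := by
      rw [← cancel_mono U.ι, Category.assoc, Category.assoc, Scheme.homOfLE_ι, hτ'ι,
        f.liftCoborder_ι]
      show c.π.app j ≫ τ j = c.π.app i₀ ≫ τ i₀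
      rw [← hτ φj, ← Category.assoc, c.w]
    have : IsClosedImmersion ((cj.π.app (Over.mk (𝟙 j)) ≫ τ' (Over.mk (𝟙 j))) ≫
        S.homOfLE hU'U) := by rw [e1]; infer_instance
    exact IsClosedImmersion.of_comp _ (S.homOfLE hU'U)
  obtain ⟨k, hk⟩ := LimClosedImm2.exists_isClosedImmersion Dj τ' hτ' cj hcj (Over.mk (𝟙 j))
  refine ⟨k.left, fun i ψ => ?_⟩
  rw [← hτ ψ, ← hτ'ι k]
  have h6 : IsClosedImmersion (D.map ψ) := inferInstance
  have h7 : IsImmersion (τ' k ≫ U'.ι) := inferInstance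
  exact MorphismProperty.comp_mem _ _ _ (inferInstance : IsImmersion (D.map ψ)) h7

end Groth.Agent.S9201
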