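import Groth.Statements.S9206
import Groth.Agent.Lib.helper11.LimSections

set_option autoImplicit false
universe u
open CategoryTheory AlgebraicGeometry
open Lim

namespace Groth.Agent.S9206

open Groth.Agent.Lib.helper11


/-- Let S = lim S_i be a cofiltered limit of schemes with affine transition morphisms and let s be a
point of S with images s_i in S_i. Then the residue field κ(s) is the colimit of the residue fields
κ(s_i): every element of κ(s) is the image of an element of κ(s_i) for some i under the map of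
residue fields induced by S → S_i (the maps κ(s_i) → κ(s) being injective, this says that the
canonical map from the colimit is an isomorphism). -/
theorem result {I : Type u} [SmallCategory I] [IsCofiltered I]
    (D : I ⥤ Scheme.{u}) (c : Limits.Cone D) (hc : Limits.IsLimit c)
    [∀ (i j : I) (f : i ⟶ j), IsAffineHom (D.map f)] (s : c.pt) (a : c.pt.residueField s) :
    ∃ (i : I) (b : (D.obj i).residueField ((c.π.app i).base s)), ((c.π.app i).residueFieldMap s).hom b = a := by
  classical
  obtain ⟨i₀⟩ := IsCofiltered.nonempty (C := I)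
  have haffπ : IsAffineHom (c.π.app i₀) := isAffineHom_π_app D c hc i₀
  obtain ⟨_, ⟨U₀, hU₀ : IsAffineOpen U₀, rfl⟩, hsU₀, -⟩ :=
    (D.obj i₀).isBasis_affineOpens.exists_subset_of_mem_open
      (Set.mem_univ ((c.π.app i₀).base s)) isOpen_univ
  let V : c.pt.Opens := c.π.app i₀ ⁻¹ᵁ U₀
  have hV : IsAffineOpen V := hU₀.preimage (c.π.app i₀)
  have hsV : s ∈ V := hsU₀
  -- write `a` as a fraction of evaluations
  letI := c.pt.presheaf.algebra_section_stalk ⟨s, hsV⟩
  have hloc := hV.isLocalization_stalk ⟨s, hsV⟩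
  obtain ⟨z, rfl⟩ : ∃ z, (c.pt.residue s).hom z = a := IsLocalRing.residue_surjective a
  obtain ⟨⟨x, y⟩, hxy⟩ := IsLocalization.surj (hV.primeIdealOf ⟨s, hsV⟩).asIdeal.primeCompl z
  have hyunit : IsUnit ((c.pt.presheaf.germ V s hsV).hom y.1) :=
    IsLocalization.map_units (M := (hV.primeIdealOf ⟨s, hsV⟩).asIdeal.primeCompl) _ y
  have hxy' : (c.pt.residue s).hom z * (c.pt.evaluation V s hsV).hom y.1 =
      (c.pt.evaluation V s hsV).hom x := by
    have := congrArg (c.pt.residue s).hom hxy
    rw [map_mul] at this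
    exact this
  have hevy : (c.pt.evaluation V s hsV).hom y.1 ≠ 0 :=
    (hyunit.map (c.pt.residue s).hom).ne_zero
  -- descend x and y
  obtain ⟨j₁, x₁, hx₁⟩ := LimSections.exists_appLE_eq D c hc i₀ U₀ hU₀ x
  obtain ⟨j₂, y₂, hy₂⟩ := LimSections.exists_appLE_eq D c hc i₀ U₀ hU₀ y.1
  let j : Over i₀ := IsCofiltered.min j₁ j₂
  let g₁ : j ⟶ j₁ := IsCofiltered.minToLeft j₁ j₂
  let g₂ : j ⟶ j₂ := IsCofiltered.minToRight j₁ j₂
  let U : (D.obj j.left).Opens := D.map j.hom ⁻¹ᵁ U₀
  let x' : Γ(D.obj j.left, U) :=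
    (D.map g₁.left).appLE _ _ (LimSections.le_aux' D i₀ U₀ g₁) x₁
  let y' : Γ(D.obj j.left, U) :=
    (D.map g₂.left).appLE _ _ (LimSections.le_aux' D i₀ U₀ g₂) y₂
  have hx' : (c.π.app j.left).appLE U V (LimSections.le_aux D c i₀ U₀ j) x' = x :=
    (LimSections.appLE_appLE D c i₀ U₀ g₁ x₁).trans hx₁
  have hy' : (c.π.app j.left).appLE U V (LimSections.le_aux D c i₀ U₀ j) y' = y.1 :=
    (LimSections.appLE_appLE D c i₀ U₀ g₂ y₂).trans hy₂
  have hsU : (c.π.app j.left).base s ∈ U := LimSections.le_aux D c i₀ U₀ j hsV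
  have hev : ∀ r : Γ(D.obj j.left, U),
      ((c.π.app j.left).residueFieldMap s).hom
        (((D.obj j.left).evaluation U ((c.π.app j.left).base s) hsU).hom r) =
      (c.pt.evaluation V s hsV).hom
        ((c.π.app j.left).appLE U V (LimSections.le_aux D c i₀ U₀ j) r) := by
    intro r
    have h1 := Scheme.evaluation_naturality_apply (c.π.app j.left) s hsU r
    refine h1.trans ?_
    exact (LimSections.evaluation_map (LimSections.le_aux D c i₀ U₀ j) s hsV _).symm
  -- the element `b`
  have hy'ne : ((D.obj j.left).evaluation U ((c.π.app j.left).base s) hsU).hom y' ≠ 0 := by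
    intro h0
    have := hev y'
    rw [h0, map_zero, hy'] at this
    exact hevy this.symm
  refine ⟨j.left, ((D.obj j.left).evaluation U ((c.π.app j.left).base s) hsU).hom x' *
    (((D.obj j.left).evaluation U ((c.π.app j.left).base s) hsU).hom y')⁻¹, ?_⟩
  rw [map_mul, map_inv₀, hev, hev, hx', hy', ← hxy', mul_assoc, mul_inv_cancel₀ hevy, mul_one]

end Groth.Agent.S9206
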