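import Groth.Statements.S9208
import Groth.Agent.Lib.helper11.LfpConv

set_option autoImplicit false
universe u
open CategoryTheory AlgebraicGeometry
open Lim

namespace Groth.Agent.S9208

/-- Let f : X → S be a morphism of schemes. Suppose that for every inverse system (T_j) of affine
schemes over S indexed by a nonempty directed preordered set, with limit T, the canonical map
colim_j Mor_S(T_j, X) → Mor_S(T, X) is surjective: every S-morphism T → X is the composite of the
projection T → T_j with an S-morphism T_j → X for some j. Then f is locally of finite presentation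
(surjectivity alone suffices; bijectivity is not required). -/
theorem result {X S : Scheme.{u}} (f : X ⟶ S)
    (h : ∀ (J : Type u) [Preorder J] [IsDirected J (· ≤ ·)] [Nonempty J] (D : Jᵒᵖ ⥤ Scheme.{u})
      (t : D ⟶ (Functor.const Jᵒᵖ).obj S) (c : Limits.Cone D) (_ : Limits.IsLimit c),
      (∀ j, IsAffine (D.obj j)) → ∀ (j₀ : Jᵒᵖ) (g : c.pt ⟶ X), g ≫ f = c.π.app j₀ ≫ t.app j₀ →
        ∃ (j : Jᵒᵖ) (gj : D.obj j ⟶ X), gj ≫ f = t.app j ∧ c.π.app j ≫ gj = g) :
    LocallyOfFinitePresentation f := by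
  refine Groth.Agent.Lib.helper11.LfpConv.lfp_of_forall_factor f ?_
  intro U hU V hV e
  letI : Algebra Γ(S, U) Γ(X, V) := (f.appLE U V e).hom.toAlgebra
  have hsq : hV.fromSpec ≫ f =
      Spec.map (CommRingCat.ofHom (algebraMap Γ(S, U) Γ(X, V))) ≫ hU.fromSpec :=
    (IsAffineOpen.SpecMap_appLE_fromSpec f hU hV e).symm
  obtain ⟨j₀⟩ : Nonempty (Groth.Agent.Lib.helper28.FPColim.Idx Γ(S, U) Γ(X, V)) := inferInstance
  obtain ⟨j, gj, h1, h2⟩ := h (Groth.Agent.Lib.helper28.FPColim.Idx Γ(S, U) Γ(X, V))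
    (Groth.Agent.Lib.helper11.LfpConv.DS Γ(S, U) Γ(X, V))
    (Groth.Agent.Lib.helper11.LfpConv.tS Γ(S, U) Γ(X, V) hU.fromSpec)
    (Groth.Agent.Lib.helper11.LfpConv.cS Γ(S, U) Γ(X, V))
    (Groth.Agent.Lib.helper11.LfpConv.hcS Γ(S, U) Γ(X, V))
    (fun j => inferInstance) (Opposite.op j₀) hV.fromSpec
    (hsq.trans (Groth.Agent.Lib.helper11.LfpConv.cS_tS Γ(S, U) Γ(X, V) hU.fromSpec _).symm)
  exact ⟨j, gj, h1, h2⟩

end Groth.Agent.S9208
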