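import Groth.Statements.S9212
import Mathlib
import Groth.Agent.Lib.helper4.DvrProper6
import Groth.Agent.Lib.helper4.DvrSep2

set_option autoImplicit false
universe u
open CategoryTheory CategoryTheory.Limits AlgebraicGeometry
open Lim

namespace Groth.Agent.S9212

section Helpers
open CategoryTheory AlgebraicGeometry Groth.Agent.H4Dvr

theorem main {X S : Scheme.{u}} [IsLocallyNoetherian S] (f : X ⟶ S)
    [LocallyOfFiniteType f] [QuasiCompact f] :
    IsProper f ↔ ∀ (η : X), closure {η} ∈ irreducibleComponents (X : Type u) →
      ∀ (A : ValuationSubring (X.residueField η)), IsDiscreteValuationRing A →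
        ∀ y : Spec (CommRingCat.of A) ⟶ S,
          Spec.map (CommRingCat.ofHom A.subtype) ≫ y = X.fromSpecResidueField η ≫ f →
          ∃! l : Spec (CommRingCat.of A) ⟶ X,
            l ≫ f = y ∧ Spec.map (CommRingCat.ofHom A.subtype) ≫ l = X.fromSpecResidueField η := by
  constructor
  · intro hP η _ A _ y hy
    have hv : ValuativeCriterion f := by
      have h := IsProper.eq_valuativeCriterion
      have h2 : (ValuativeCriterion ⊓ @QuasiCompact ⊓ @QuasiSeparated ⊓ @LocallyOfFiniteType :
          MorphismProperty Scheme.{u}) f := by
        rw [← h]; exact hP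
      exact h2.1.1.1
    let Sq : ValuativeCommSq f :=
      { R := A
        K := X.residueField η
        i₁ := X.fromSpecResidueField η
        i₂ := y
        commSq := ⟨hy.symm⟩ }
    obtain ⟨u⟩ := hv Sq
    refine ⟨u.default.l, ⟨u.default.fac_right, u.default.fac_left⟩, ?_⟩
    rintro l' ⟨h1, h2⟩
    let l₂ : Sq.commSq.LiftStruct := ⟨l', h2, h1⟩
    exact congrArg CommSq.LiftStruct.l (u.uniq l₂)
  · intro H
    have hsep : IsSeparated f := by
      apply isSeparated_of_genericDvrUniqueness f
      intro η hη A hA l₁ l₂ h12 h1 h2
      obtain ⟨l, -, hl⟩ := H η hη A hA (l₁ ≫ f) (by rw [← Category.assoc, h1])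
      rw [hl l₁ ⟨rfl, h1⟩, hl l₂ ⟨h12.symm, h2⟩]
    have hE : ValuativeCriterion.Existence f := by
      apply existence_of_generizing f
      intro x
      obtain ⟨η, hη, hηx⟩ := exists_generic_specializes x
      refine ⟨η, hηx, ?_, vUniqueAt_of_isSeparated f η⟩
      apply vExistsAt_of_dvrExistsAt f η
      intro O hO y hy
      obtain ⟨l, hl, -⟩ := H η hη O hO y hy
      exact ⟨l, hl⟩
    have huc : UniversallyClosed f := UniversallyClosed.of_valuativeCriterion f hE
    exact { }

end Helpers


/-- Let S be a locally Noetherian scheme and f : X → S a morphism of finite type. Then f is proper if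
and only if: for every generic point η of an irreducible component of X, every discrete valuation
ring A contained in the residue field κ(η) with fraction field κ(η) (a valuation subring of κ(η)
which is a discrete valuation ring), and every morphism Spec A → S whose restriction to Spec κ(η) is
the canonical morphism Spec κ(η) → X followed by f, there is exactly one morphism Spec A → X over S
restricting to the canonical morphism on Spec κ(η). -/
theorem result {X S : Scheme.{u}} [IsLocallyNoetherian S] (f : X ⟶ S)
    [LocallyOfFiniteType f] [QuasiCompact f] :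
    IsProper f ↔ ∀ (η : X), closure {η} ∈ irreducibleComponents (X : Type u) →
      ∀ (A : ValuationSubring (X.residueField η)), IsDiscreteValuationRing A →
        ∀ y : Spec (CommRingCat.of A) ⟶ S,
          Spec.map (CommRingCat.ofHom A.subtype) ≫ y = X.fromSpecResidueField η ≫ f →
          ∃! l : Spec (CommRingCat.of A) ⟶ X,
            l ≫ f = y ∧ Spec.map (CommRingCat.ofHom A.subtype) ≫ l = X.fromSpecResidueField η := by
  exact main f

end Groth.Agent.S9212
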