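import Groth.Statements.S9218
import Mathlib

set_option autoImplicit false
universe u
open CategoryTheory CategoryTheory.Limits AlgebraicGeometry
open Lim

namespace Groth.Agent.S9218

attribute [local instance] IsCofiltered.isConnected

lemma compact_aux {A B C : Scheme.{u}} (g : A ⟶ B) (x : C ⟶ B) [IsAffineHom g] [CompactSpace C] :
    CompactSpace ↥(pullback g x) :=
  QuasiCompact.compactSpace_of_compactSpace (pullback.snd g x)

lemma qsep_aux {A B C : Scheme.{u}} (g : A ⟶ B) (x : C ⟶ B) [IsAffineHom g]
    [QuasiSeparatedSpace C] : QuasiSeparatedSpace ↥(pullback g x) :=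
  quasiSeparatedSpace_of_quasiSeparated (pullback.snd g x)

lemma affine_aux {A A' B C : Scheme.{u}} (g : A ⟶ B) (g' : A' ⟶ B) (h : A ⟶ A') (x : C ⟶ B)
    (hh : h ≫ g' = g) [IsAffineHom h] :
    IsAffineHom (pullback.lift (pullback.fst g x ≫ h) (pullback.snd g x)
      (by rw [Category.assoc, hh, pullback.condition]) : pullback g x ⟶ pullback g' x) := by
  have : IsPullback (pullback.lift (pullback.fst g x ≫ h) (pullback.snd g x)
      (by rw [Category.assoc, hh, pullback.condition]) : pullback g x ⟶ pullback g' x)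
      (pullback.fst g x) (pullback.fst g' x) h := by
    subst hh
    refine IsPullback.of_right (h₁₂ := pullback.snd g' x) (v₁₃ := x) (h₂₂ := g') ?_
      (pullback.lift_fst _ _ _) (IsPullback.of_hasPullback g' x).flip
    rw [pullback.lift_snd]
    exact (IsPullback.of_hasPullback (h ≫ g') x).flip
  exact MorphismProperty.of_isPullback this.flip inferInstance

/-- Let S = lim S_i be a cofiltered limit of schemes with affine transition morphisms (the S_i are not
assumed quasi-compact or quasi-separated), i an index, and X_i → S_i, Y_i → S_i morphisms locally of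
finite presentation with X_i, Y_i quasi-compact and quasi-separated; let X, Y be their base changes
to S (pullback squares). Then every S-morphism f : X → Y comes from some stage: for some index j
over i there is an S_j-morphism f_j : X_i ×_{S_i} S_j → Y_i ×_{S_i} S_j whose base change to S is f,
in the sense that the canonical morphisms X → X_i ×_{S_i} S_j and Y → Y_i ×_{S_i} S_j intertwine f
and f_j. This is the fullness part of the equivalence between the colimit of the categories of
quasi-compact quasi-separated schemes locally of finite presentation over the S_i and the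
corresponding category over S. -/
theorem result {I : Type u} [SmallCategory I] [IsCofiltered I]
    (D : I ⥤ Scheme.{u}) (c : Limits.Cone D) (hc : Limits.IsLimit c)
    [∀ (i j : I) (f : i ⟶ j), IsAffineHom (D.map f)] (i : I)
    {Xi Yi : Scheme.{u}} (xi : Xi ⟶ D.obj i) (yi : Yi ⟶ D.obj i)
    [CompactSpace Xi] [QuasiSeparatedSpace Xi] [LocallyOfFinitePresentation xi]
    [CompactSpace Yi] [QuasiSeparatedSpace Yi] [LocallyOfFinitePresentation yi]
    {X Y : Scheme.{u}} (qX : X ⟶ Xi) (pX : X ⟶ c.pt) (hX : IsPullback qX pX xi (c.π.app i))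
    (qY : Y ⟶ Yi) (pY : Y ⟶ c.pt) (hY : IsPullback qY pY yi (c.π.app i))
    (f : X ⟶ Y) (hf : f ≫ pY = pX) :
    ∃ (j : I) (φ : j ⟶ i) (fj : pullback xi (D.map φ) ⟶ pullback yi (D.map φ))
      (sX : X ⟶ pullback xi (D.map φ)) (sY : Y ⟶ pullback yi (D.map φ)),
      fj ≫ pullback.snd yi (D.map φ) = pullback.snd xi (D.map φ) ∧
      sX ≫ pullback.fst xi (D.map φ) = qX ∧ sX ≫ pullback.snd xi (D.map φ) = pX ≫ c.π.app j ∧
      sY ≫ pullback.fst yi (D.map φ) = qY ∧ sY ≫ pullback.snd yi (D.map φ) = pY ≫ c.π.app j ∧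
      sX ≫ fj = f ≫ sY := by
  classical
  let D' : Over i ⥤ Scheme.{u} := Over.post D ⋙ Over.pullback xi ⋙ Over.forget _
  let c' : Cone D' := (Over.pullback xi ⋙ Over.forget _).mapCone ((Over.conePost _ _).obj c)
  have hc' : IsLimit c' :=
    isLimitOfPreserves (Over.pullback xi ⋙ Over.forget _) (Over.isLimitConePost _ hc)
  -- objects of D'
  have hD'obj : ∀ j : Over i, D'.obj j = pullback (D.map j.hom) xi := fun j => rfl
  have hqc : ∀ j : Over i, CompactSpace (D'.obj j) := by
    intro j
    have h1 : IsAffineHom (D.map j.hom) := ‹∀ (i j : I) (f : i ⟶ j), IsAffineHom (D.map f)› _ _ _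
    exact compact_aux (D.map j.hom) xi
  have hqs : ∀ j : Over i, QuasiSeparatedSpace (D'.obj j) := by
    intro j
    have h1 : IsAffineHom (D.map j.hom) := ‹∀ (i j : I) (f : i ⟶ j), IsAffineHom (D.map f)› _ _ _
    exact qsep_aux (D.map j.hom) xi
  have haff : ∀ {j k : Over i} (g : j ⟶ k), IsAffineHom (D'.map g) := by
    intro j k g
    have h1 : IsAffineHom (D.map g.left) := ‹∀ (i j : I) (f : i ⟶ j), IsAffineHom (D.map f)› _ _ _
    have hw : D.map g.left ≫ D.map k.hom = D.map j.hom := by
      rw [← D.map_comp]; congr 1; simpa using Over.w g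
    exact affine_aux (D.map j.hom) (D.map k.hom) (D.map g.left) xi hw
  -- projection formulas for the cone `c'`
  have hπ1 : ∀ j : Over i, c'.π.app j ≫ pullback.fst (D.map j.hom) xi =
      pullback.fst (c.π.app i) xi ≫ c.π.app j.left := fun j => pullback.lift_fst _ _ _
  have hπ2 : ∀ j : Over i, c'.π.app j ≫ pullback.snd (D.map j.hom) xi =
      pullback.snd (c.π.app i) xi := fun j => pullback.lift_snd _ _ _
  have hmap2 : ∀ {j k : Over i} (g : j ⟶ k), D'.map g ≫ pullback.snd (D.map k.hom) xi =
      pullback.snd (D.map j.hom) xi := fun g => pullback.lift_snd _ _ _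
  -- the structure map to the base `D.obj i`
  let t : D' ⟶ (Functor.const (Over i)).obj (D.obj i) :=
    { app := fun j => pullback.snd (D.map j.hom) xi ≫ xi
      naturality := by
        intro j k g
        show D'.map g ≫ pullback.snd (D.map k.hom) xi ≫ xi =
          (pullback.snd (D.map j.hom) xi ≫ xi) ≫ 𝟙 _
        rw [reassoc_of% hmap2 g, Category.comp_id]
        rfl }
  -- the identification `X ≅ c'.pt`
  let e : X ≅ pullback (c.π.app i) xi := hX.flip.isoPullback
  have he1 : e.hom ≫ pullback.fst (c.π.app i) xi = pX := hX.flip.isoPullback_hom_fst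
  have he2 : e.hom ≫ pullback.snd (c.π.app i) xi = qX := hX.flip.isoPullback_hom_snd
  have he3 : e.inv ≫ qX = pullback.snd (c.π.app i) xi := hX.flip.isoPullback_inv_snd
  let a : c'.pt ⟶ Yi := e.inv ≫ f ≫ qY
  have ha : c'.π ≫ t = (Functor.const _).map (a ≫ yi) := by
    ext j : 2
    show c'.π.app j ≫ pullback.snd (D.map j.hom) xi ≫ xi = (e.inv ≫ f ≫ qY) ≫ yi
    rw [reassoc_of% hπ2 j, Category.assoc, Category.assoc, hY.w, reassoc_of% hf, ← hX.w,
      reassoc_of% he3]
    rfl
  obtain ⟨j, g₀, hg₀1, hg₀2⟩ :=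
    Scheme.exists_π_app_comp_eq_of_locallyOfFinitePresentation D' t yi c' hc' a ha
  let g : pullback (D.map j.hom) xi ⟶ Yi := g₀
  let πj : pullback (c.π.app i) xi ⟶ pullback (D.map j.hom) xi := c'.π.app j
  have hπj1 : πj ≫ pullback.fst (D.map j.hom) xi =
      pullback.fst (c.π.app i) xi ≫ c.π.app j.left := hπ1 j
  have hπj2 : πj ≫ pullback.snd (D.map j.hom) xi = pullback.snd (c.π.app i) xi := hπ2 j
  have hg1 : πj ≫ g = e.inv ≫ f ≫ qY := hg₀1
  have hg2' : g ≫ yi = pullback.snd (D.map j.hom) xi ≫ xi := hg₀2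
  have hsX : qX ≫ xi = (pX ≫ c.π.app j.left) ≫ D.map j.hom := by
    rw [Category.assoc, c.w, hX.w]
  have hsY : qY ≫ yi = (pY ≫ c.π.app j.left) ≫ D.map j.hom := by
    rw [Category.assoc, c.w, hY.w]
  have hfj : ((pullbackSymmetry xi (D.map j.hom)).hom ≫ g) ≫ yi =
      pullback.snd xi (D.map j.hom) ≫ D.map j.hom := by
    rw [Category.assoc, hg2', pullbackSymmetry_hom_comp_snd_assoc, pullback.condition]
  refine ⟨j.left, j.hom, pullback.lift ((pullbackSymmetry xi (D.map j.hom)).hom ≫ g)
    (pullback.snd xi (D.map j.hom)) hfj, pullback.lift qX (pX ≫ c.π.app j.left) hsX,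
    pullback.lift qY (pY ≫ c.π.app j.left) hsY, ?_, ?_, ?_, ?_, ?_, ?_⟩
  · exact pullback.lift_snd _ _ _
  · exact pullback.lift_fst _ _ _
  · exact pullback.lift_snd _ _ _
  · exact pullback.lift_fst _ _ _
  · exact pullback.lift_snd _ _ _
  · -- key identity
    have hkey : pullback.lift qX (pX ≫ c.π.app j.left) hsX ≫ (pullbackSymmetry xi (D.map j.hom)).hom
        = e.hom ≫ πj := by
      apply pullback.hom_ext
      · rw [Category.assoc, pullbackSymmetry_hom_comp_fst, pullback.lift_snd, Category.assoc, hπj1,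
          reassoc_of% he1]
      · rw [Category.assoc, pullbackSymmetry_hom_comp_snd, pullback.lift_fst, Category.assoc, hπj2,
          he2]
    apply pullback.hom_ext
    · rw [Category.assoc, pullback.lift_fst, reassoc_of% hkey, hg1, Category.assoc,
        pullback.lift_fst]
      rw [Iso.hom_inv_id_assoc]
    · rw [Category.assoc, pullback.lift_snd, pullback.lift_snd, Category.assoc, pullback.lift_snd,
        reassoc_of% hf]

end Groth.Agent.S9218
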