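import Groth.Statements.S9219
import Groth.Agent.Lib.helper11.LimPullback

set_option autoImplicit false
universe u
open CategoryTheory CategoryTheory.Limits AlgebraicGeometry
open Lim

namespace Groth.Agent.S9219

open Groth.Agent.Lib.helper11


/-- Let S = lim S_i be a cofiltered limit of schemes with affine transition morphisms (the S_i are not
assumed quasi-compact or quasi-separated), i an index, and X_i → S_i, Y_i → S_i morphisms locally of
finite presentation with X_i, Y_i quasi-compact and quasi-separated; let X be the base change of X_i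
to S (a pullback square). If two S_i-morphisms f_i, g_i : X_i → Y_i have the same base change to S
(equivalently, the same composite with X → X_i), then for some index j over i their base changes to
S_j agree, i.e. they have the same composite with X_i ×_{S_i} S_j → X_i. This is the faithfulness
part of the equivalence between the colimit of the categories of quasi-compact quasi-separated
schemes locally of finite presentation over the S_i and the corresponding category over S. -/
theorem result {I : Type u} [SmallCategory I] [IsCofiltered I]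
    (D : I ⥤ Scheme.{u}) (c : Limits.Cone D) (hc : Limits.IsLimit c)
    [∀ (i j : I) (f : i ⟶ j), IsAffineHom (D.map f)] (i : I)
    {Xi Yi : Scheme.{u}} (xi : Xi ⟶ D.obj i) (yi : Yi ⟶ D.obj i)
    [CompactSpace Xi] [QuasiSeparatedSpace Xi] [LocallyOfFinitePresentation xi]
    [CompactSpace Yi] [QuasiSeparatedSpace Yi] [LocallyOfFinitePresentation yi]
    {X : Scheme.{u}} (qX : X ⟶ Xi) (pX : X ⟶ c.pt) (hX : IsPullback qX pX xi (c.π.app i))
    (fi gi : Xi ⟶ Yi) (hfi : fi ≫ yi = xi) (hgi : gi ≫ yi = xi) (h : qX ≫ fi = qX ≫ gi) :
    ∃ (j : I) (φ : j ⟶ i), pullback.fst xi (D.map φ) ≫ fi = pullback.fst xi (D.map φ) ≫ gi := by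
  classical
  have hqc := LimPullback.compactSpace_obj D i xi
  have hqs := LimPullback.quasiSeparatedSpace_obj D i xi
  have haff : ∀ {j k : Over i} (g : j ⟶ k), IsAffineHom ((LimPullback.D' D i xi).map g) :=
    fun g => LimPullback.isAffineHom_map D i xi g
  let t : LimPullback.D' D i xi ⟶ (Functor.const (Over i)).obj (D.obj i) :=
    LimPullback.tX D i xi ≫ (Functor.const (Over i)).map xi
  have ht : ∀ j : Over i, t.app j = pullback.snd (D.map j.hom) xi ≫ xi := fun j => rfl
  let j₀ : Over i := Over.mk (𝟙 i)
  let e : X ≅ pullback (c.π.app i) xi := hX.flip.isoPullback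
  have he3 : e.inv ≫ qX = pullback.snd (c.π.app i) xi := hX.flip.isoPullback_inv_snd
  have hsnd : pullback.snd (c.π.app i) xi ≫ fi = pullback.snd (c.π.app i) xi ≫ gi := by
    rw [← he3, Category.assoc, Category.assoc, h]
  obtain ⟨k, hik, hk⟩ := Scheme.exists_hom_comp_eq_comp_of_locallyOfFiniteType
    (LimPullback.D' D i xi) t yi (LimPullback.c' D c i xi) (LimPullback.hc' D c hc i xi)
    (i := j₀) (pullback.snd (D.map j₀.hom) xi ≫ fi) (pullback.snd (D.map j₀.hom) xi ≫ gi)
    (by rw [ht, Category.assoc, hfi]; rfl) (by rw [ht, Category.assoc, hgi]; rfl)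
    (by
      have := LimPullback.π_snd D c i xi j₀
      rw [reassoc_of% this, reassoc_of% this]
      exact hsnd)
  have hm := LimPullback.map_snd D i xi hik
  rw [reassoc_of% hm, reassoc_of% hm] at hk
  refine ⟨k.left, k.hom, ?_⟩
  rw [← pullbackSymmetry_hom_comp_snd, Category.assoc, Category.assoc]
  exact congrArg ((pullbackSymmetry xi (D.map k.hom)).hom ≫ ·) hk

end Groth.Agent.S9219
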