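import Groth.Statements.S9227
import Mathlib
import Groth.Agent.Lib.helper20.RegQuot

set_option autoImplicit false
universe u
open CAlg

namespace Groth.Agent.S9227

/-- Let R be a regular ring, f an element of R and D a derivation of R with D(f) a unit of R. Then for
every polynomial p with integer coefficients the ring R[z]/(p(z) - f) is regular; in particular
R[z]/(z^n - f) is regular for every n ≥ 1. -/
theorem result (R : Type u) [CommRing R]
    [IsRegularRing R] (f : R) (D : Derivation ℤ R R) (hD : IsUnit (D f)) (p : Polynomial ℤ) :
    IsRegularRing (Polynomial R ⧸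
      Ideal.span ({Polynomial.map (Int.castRingHom R) p - Polynomial.C f} : Set (Polynomial R))) := by
  letI : Differential R := ⟨D⟩
  let D' : Derivation ℤ (Polynomial R) (Polynomial R) := Differential.mapCoeffs (A := R)
  have hD' : ∀ (q : Polynomial R) (i : ℕ), (D' q).coeff i = D (q.coeff i) := fun q i => rfl
  have key : D' (Polynomial.map (Int.castRingHom R) p - Polynomial.C f) = - Polynomial.C (D f) := by
    ext i
    rw [hD', Polynomial.coeff_neg, Polynomial.coeff_sub,
      Polynomial.coeff_map, Polynomial.coeff_C, Polynomial.coeff_C]
    rw [map_sub]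
    have h0 : D ((Int.castRingHom R) (p.coeff i)) = 0 := by
      rw [eq_intCast]; exact D.map_intCast _
    rw [h0]
    split_ifs <;> simp
  have h2 : IsUnit (Ideal.Quotient.mk (Ideal.span
      {Polynomial.map (Int.castRingHom R) p - Polynomial.C f})
      (D' (Polynomial.map (Int.castRingHom R) p - Polynomial.C f))) := by
    rw [key]
    exact ((hD.map Polynomial.C).neg).map _
  apply Groth.Agent.Lib.helper20.RegQuot.isRegularRing_quotient_of_derivation _ D'
  exact h2

end Groth.Agent.S9227
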