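import Groth.Statements.S9231
import Mathlib
import Groth.Agent.S0390
import Groth.Agent.S0543

set_option autoImplicit false
universe u
open CAlg

namespace Groth.Agent.S9231

open TensorProduct in
/-- If `C` is faithfully flat over `B` and flat over `A`, then `B` is flat over `A`. -/
theorem flat_of_faithfullyFlat_of_flat (A B C : Type*) [CommRing A] [CommRing B] [CommRing C]
    [Algebra A B] [Algebra B C] [Algebra A C] [IsScalarTower A B C] [Module.FaithfullyFlat B C]
    [Module.Flat A C] : Module.Flat A B := by
  rw [Module.Flat.iff_lTensor_preserves_injective_linearMap]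
  intro N' N _ _ _ _ f hf
  have h1 : Function.Injective (f.lTensor C) :=
    Module.Flat.lTensor_preserves_injective_linearMap f hf
  have h2 : Function.Injective ((f.baseChange B).lTensor C) := by
    let e₁ := AlgebraTensorModule.cancelBaseChange A B C C N'
    let e₂ := AlgebraTensorModule.cancelBaseChange A B C C N
    have nat : ∀ z, e₂ ((f.baseChange B).lTensor C z) = f.lTensor C (e₁ z) := by
      intro z
      induction z using TensorProduct.induction_on with
      | zero => simp
      | add x y hx hy => simp only [map_add, hx, hy]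
      | tmul c w =>
        induction w using TensorProduct.induction_on with
        | zero => simp
        | add x y hx hy => simp only [tmul_add, map_add, hx, hy]
        | tmul b n => simp [e₁, e₂]
    intro x y hxy
    apply e₁.injective
    apply h1
    rw [← nat, ← nat, hxy]
  have h3 := (Module.FaithfullyFlat.lTensor_injective_iff_injective B C (f.baseChange B)).mp h2
  intro x y hxy
  apply h3
  simpa [LinearMap.baseChange_eq_ltensor] using hxy

open TensorProduct in

/-- For a local ring map A → B between Noetherian local rings, let ψ be the induced map from the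
completion of A at its maximal ideal to that of B (here: a ring map of the completions whose
composite with A → A^ is the composite A → B → B^; since A is Noetherian such a map is unique, hence
is the canonical one). Then ψ is flat exactly when A → B is flat. -/
theorem result (A B : Type u) [CommRing A] [CommRing B] [IsLocalRing A]
    [IsLocalRing B] [IsNoetherianRing A] [IsNoetherianRing B] [Algebra A B]
    [IsLocalHom (algebraMap A B)]
    (ψ : AdicCompletion (IsLocalRing.maximalIdeal A) A →+* AdicCompletion (IsLocalRing.maximalIdeal B) B)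
    (hψ : ψ.comp (algebraMap A (AdicCompletion (IsLocalRing.maximalIdeal A) A)) =
      (algebraMap B (AdicCompletion (IsLocalRing.maximalIdeal B) B)).comp (algebraMap A B)) :
    ψ.Flat ↔ (algebraMap A B).Flat := by
  set Ah := AdicCompletion (IsLocalRing.maximalIdeal A) A with hAh
  set Bh := AdicCompletion (IsLocalRing.maximalIdeal B) B with hBh
  haveI ffB : Module.FaithfullyFlat B Bh := Module.FaithfullyFlat.of_flat_of_isLocalHom
  have hψa : ∀ a : A, ψ (algebraMap A Ah a) = algebraMap A Bh a := fun a => RingHom.congr_fun hψ a
  rw [RingHom.flat_algebraMap_iff]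
  letI algψ : Algebra Ah Bh := ψ.toAlgebra
  haveI tow : IsScalarTower A Ah Bh := IsScalarTower.of_algebraMap_eq (fun a => (hψa a).symm)
  show Module.Flat Ah Bh ↔ Module.Flat A B
  constructor
  · intro h
    haveI : Module.Flat A Bh := Module.Flat.trans A Ah Bh
    exact flat_of_faithfullyFlat_of_flat A B Bh
  · intro h
    haveI flA : Module.Flat A Bh := Module.Flat.trans A B Bh
    haveI : IsNoetherianRing Ah := Groth.Agent.S0543.result A _
    haveI : IsNoetherianRing Bh := Groth.Agent.S0543.result B _
    haveI hloc : IsLocalHom (algebraMap Ah Bh) := by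
      have : Ideal.map ψ (IsLocalRing.maximalIdeal Ah) ≤ IsLocalRing.maximalIdeal Bh := by
        rw [AdicCompletion.maximalIdeal_eq_map, AdicCompletion.maximalIdeal_eq_map, Ideal.map_map, hψ,
          ← Ideal.map_map]
        exact Ideal.map_mono (((IsLocalRing.local_hom_TFAE (algebraMap A B)).out 0 2).mp ‹_›)
      exact ((IsLocalRing.local_hom_TFAE ψ).out 0 2).mpr this
    refine Groth.Agent.S0390.result (R := Ah) (S := Bh) (M := Bh) ?_
    rw [injective_iff_map_eq_zero]
    intro z hz
    -- generators
    obtain ⟨s, hs⟩ := (isNoetherianRing_iff_ideal_fg A).mp inferInstance (IsLocalRing.maximalIdeal A)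
    let v : ↥s → Ah := fun x => algebraMap A Ah x.1
    have hspan : IsLocalRing.maximalIdeal Ah = Ideal.span (Set.range v) := by
      have h1 : Ideal.map (algebraMap A Ah) (IsLocalRing.maximalIdeal A) =
          Ideal.map (algebraMap A Ah) (Ideal.span ↑s) := by rw [hs]
      rw [AdicCompletion.maximalIdeal_eq_map, h1, Ideal.map_span]
      congr 1
      ext y
      simp [v]
    have hmem : ∀ x : ↥s, v x ∈ IsLocalRing.maximalIdeal Ah := by
      intro x
      rw [hspan]
      exact Ideal.subset_span ⟨x, rfl⟩
    -- every element is `∑ v x ⊗ b x`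
    have hrep : ∀ z : ↥(IsLocalRing.maximalIdeal Ah) ⊗[Ah] Bh, ∃ b : ↥s → Bh,
        z = ∑ x, (⟨v x, hmem x⟩ : ↥(IsLocalRing.maximalIdeal Ah)) ⊗ₜ[Ah] b x := by
      intro z
      induction z using TensorProduct.induction_on with
      | zero => exact ⟨0, by simp⟩
      | tmul a b =>
        obtain ⟨a, ha⟩ := a
        have ha' := ha
        rw [hspan, Ideal.span, Submodule.mem_span_range_iff_exists_fun] at ha'
        obtain ⟨c, hc⟩ := ha'
        refine ⟨fun x => c x • b, ?_⟩
        have : (⟨a, ha⟩ : ↥(IsLocalRing.maximalIdeal Ah)) =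
            ∑ x, c x • (⟨v x, hmem x⟩ : ↥(IsLocalRing.maximalIdeal Ah)) := by
          refine Subtype.ext ?_
          simp only [Submodule.coe_sum, Submodule.coe_smul]
          exact hc.symm
        rw [this, TensorProduct.sum_tmul]
        refine Finset.sum_congr rfl fun x _ => ?_
        rw [TensorProduct.smul_tmul]
      | add x y hx hy =>
        obtain ⟨b1, rfl⟩ := hx
        obtain ⟨b2, rfl⟩ := hy
        refine ⟨b1 + b2, ?_⟩
        rw [← Finset.sum_add_distrib]
        refine Finset.sum_congr rfl fun x _ => ?_
        rw [Pi.add_apply, TensorProduct.tmul_add]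
    obtain ⟨b, rfl⟩ := hrep z
    have hz' : ∑ x : ↥s, (x.1 : A) • b x = 0 := by
      have := congrArg (TensorProduct.lid Ah Bh) hz
      rw [map_sum, map_sum, map_zero] at this
      refine Eq.trans (Finset.sum_congr rfl fun x _ => ?_) this
      rw [LinearMap.rTensor_tmul, TensorProduct.lid_tmul]
      change _ = v x • b x
      rw [← algebraMap_smul Ah (x.1 : A) (b x)]
    obtain ⟨κ, c, y, h1, h2⟩ := Module.Flat.isTrivialRelation_of_sum_smul_eq_zero
      (R := A) (M := Bh) (f := fun x : ↥s => (x.1 : A)) (x := b) hz'
    have : ∀ x : ↥s, (⟨v x, hmem x⟩ : ↥(IsLocalRing.maximalIdeal Ah)) ⊗ₜ[Ah] b x =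
        ∑ j, (algebraMap A Ah (c x j) • (⟨v x, hmem x⟩ : ↥(IsLocalRing.maximalIdeal Ah))) ⊗ₜ[Ah] y j := by
      intro x
      rw [h1 x, TensorProduct.tmul_sum]
      refine Finset.sum_congr rfl fun j _ => ?_
      rw [← algebraMap_smul Ah (c x j) (y j), TensorProduct.smul_tmul]
    rw [Finset.sum_congr rfl fun x _ => this x, Finset.sum_comm]
    refine Finset.sum_eq_zero fun j _ => ?_
    rw [← TensorProduct.sum_tmul]
    have h0 : ∑ x : ↥s, (algebraMap A Ah (c x j) • (⟨v x, hmem x⟩ : ↥(IsLocalRing.maximalIdeal Ah))) = 0 := by
      refine Subtype.ext ?_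
      have := congrArg (algebraMap A Ah) (h2 j)
      simp only [map_sum, map_mul, map_zero] at this
      simp only [Submodule.coe_sum, Submodule.coe_smul, smul_eq_mul, ZeroMemClass.coe_zero]
      refine Eq.trans (Finset.sum_congr rfl fun x _ => ?_) this
      rw [mul_comm]
    rw [h0, TensorProduct.zero_tmul]

end Groth.Agent.S9231
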