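import Groth.Statements.S9232
import Mathlib
import Groth.Agent.S9231
import Groth.Agent.Lib.helper24.AdicApprox

set_option autoImplicit false
universe u
open CAlg

namespace Groth.Agent.S9232



/-- Suppose A → B is a flat local ring map between Noetherian local rings, the maximal ideal of A
generates that of B, and the residue field map is bijective. Then the induced map between the
completions of A and B (a ring map of the completions compatible with A → B; it is unique since A is
Noetherian) is an isomorphism. -/
theorem result (A B : Type u) [CommRing A]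
    [CommRing B] [IsLocalRing A] [IsLocalRing B] [IsNoetherianRing A] [IsNoetherianRing B]
    [Algebra A B] [IsLocalHom (algebraMap A B)] [Module.Flat A B]
    (hm : Ideal.map (algebraMap A B) (IsLocalRing.maximalIdeal A) = IsLocalRing.maximalIdeal B)
    (hk : Function.Bijective (IsLocalRing.ResidueField.map (algebraMap A B)))
    (ψ : AdicCompletion (IsLocalRing.maximalIdeal A) A →+* AdicCompletion (IsLocalRing.maximalIdeal B) B)
    (hψ : ψ.comp (algebraMap A (AdicCompletion (IsLocalRing.maximalIdeal A) A)) =
      (algebraMap B (AdicCompletion (IsLocalRing.maximalIdeal B) B)).comp (algebraMap A B)) :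
    Function.Bijective ψ := by
  set Ah := AdicCompletion (IsLocalRing.maximalIdeal A) A with hAh
  set Bh := AdicCompletion (IsLocalRing.maximalIdeal B) B with hBh
  have hψa : ∀ a : A, ψ (algebraMap A Ah a) = algebraMap B Bh (algebraMap A B a) :=
    fun a => RingHom.congr_fun hψ a
  have hflat : ψ.Flat := (Groth.Agent.S9231.result A B ψ hψ).mpr
    ((RingHom.flat_algebraMap_iff).mpr inferInstance)
  have hmap : Ideal.map ψ (IsLocalRing.maximalIdeal Ah) = IsLocalRing.maximalIdeal Bh := by
    rw [AdicCompletion.maximalIdeal_eq_map, AdicCompletion.maximalIdeal_eq_map, Ideal.map_map, hψ,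
      ← Ideal.map_map, hm]
  letI algψ : Algebra Ah Bh := ψ.toAlgebra
  haveI : Module.Flat Ah Bh := hflat
  haveI hloc : IsLocalHom (algebraMap Ah Bh) :=
    ((IsLocalRing.local_hom_TFAE ψ).out 0 2).mpr hmap.le
  haveI : Module.FaithfullyFlat Ah Bh := Module.FaithfullyFlat.of_flat_of_isLocalHom
  refine ⟨FaithfulSMul.algebraMap_injective Ah Bh, ?_⟩
  -- surjectivity by successive approximation
  set I := IsLocalRing.maximalIdeal Ah with hI
  have hIB : ∀ n, (I ^ n • (⊤ : Submodule Ah Bh)) =
      ((IsLocalRing.maximalIdeal Bh) ^ n).restrictScalars Ah := by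
    intro n
    rw [Ideal.smul_top_eq_map, Ideal.map_pow]
    congr 2
  -- decomposition of elements of `Bh`
  have hdec : ∀ β : Bh, ∃ α : Ah, β - ψ α ∈ IsLocalRing.maximalIdeal Bh := by
    intro β
    obtain ⟨r, hr⟩ := (AdicCompletion.residueField_map_bijective (R := B)).2 (IsLocalRing.residue Bh β)
    obtain ⟨b, rfl⟩ := IsLocalRing.residue_surjective r
    obtain ⟨r', hr'⟩ := hk.2 (IsLocalRing.residue B b)
    obtain ⟨a, rfl⟩ := IsLocalRing.residue_surjective r'
    refine ⟨algebraMap A Ah a, ?_⟩
    rw [hψa]
    rw [IsLocalRing.ResidueField.map_residue] at hr hr'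
    have h1 : β - algebraMap B Bh b ∈ IsLocalRing.maximalIdeal Bh := by
      rw [← Ideal.Quotient.eq]
      exact hr.symm
    have h2 : b - algebraMap A B a ∈ IsLocalRing.maximalIdeal B := by
      rw [← Ideal.Quotient.eq]
      exact hr'.symm
    have h3 : algebraMap B Bh (b - algebraMap A B a) ∈ IsLocalRing.maximalIdeal Bh := by
      rw [AdicCompletion.maximalIdeal_eq_map]
      exact Ideal.mem_map_of_mem _ h2
    have : β - algebraMap B Bh (algebraMap A B a) =
        (β - algebraMap B Bh b) + algebraMap B Bh (b - algebraMap A B a) := by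
      rw [map_sub]; ring
    rw [this]
    exact Ideal.add_mem _ h1 h3
  intro β
  have hsep : ⨅ n, (I.stableFiltration (⊤ : Submodule Ah Bh)).N n = ⊥ := by
    simp only [Ideal.stableFiltration_N]
    rw [eq_bot_iff]
    intro x hx
    rw [Submodule.mem_iInf] at hx
    have hxx : x ∈ (⨅ n, (IsLocalRing.maximalIdeal Bh) ^ n : Ideal Bh) := by
      rw [Submodule.mem_iInf]
      intro n
      have := hx n
      rw [hIB n] at this
      exact this
    haveI : IsNoetherianRing Bh := Groth.Agent.S0543.result B _
    rw [Ideal.iInf_pow_eq_bot_of_isLocalRing _ (IsLocalRing.maximalIdeal.isMaximal Bh).ne_top] at hxx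
    exact hxx
  obtain ⟨b, -, hb⟩ := Groth.Agent.Lib.helper24.AdicApprox.approx I
    (I.stableFiltration (⊤ : Submodule Ah Bh)) hsep ⊤ (ι := Unit) (fun _ => 0) (fun _ => (1 : Bh))
    (fun _ => trivial) (fun _ => by
      rw [Ideal.stableFiltration_N, pow_zero, Ideal.one_eq_top, Submodule.top_smul]; trivial) (by
      intro n z _ hz
      rw [Ideal.stableFiltration_N] at hz
      refine Submodule.smul_induction_on hz ?_ ?_
      · intro r hr x _
        obtain ⟨α, hα⟩ := hdec x
        refine ⟨fun _ => r * α, fun _ => by simpa using Ideal.mul_mem_right _ _ hr, ?_⟩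
        rw [Ideal.stableFiltration_N, hIB, pow_succ]
        simp only [Finset.univ_unique, Finset.sum_singleton]
        change r • x - (r * α) • (1 : Bh) ∈ _
        have : r • x - (r * α) • (1 : Bh) = ψ r * (x - ψ α) := by
          rw [Algebra.smul_def, Algebra.smul_def, mul_one]
          change ψ r * x - ψ (r * α) = _
          rw [map_mul]; ring
        rw [this]
        refine Ideal.mul_mem_mul ?_ hα
        have := Ideal.mem_map_of_mem ψ hr
        rwa [Ideal.map_pow, hmap] at this
      · rintro x y ⟨a1, ha1, h1⟩ ⟨a2, ha2, h2⟩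
        refine ⟨a1 + a2, fun i => Ideal.add_mem _ (ha1 i) (ha2 i), ?_⟩
        have : x + y - ∑ i, (a1 + a2) i • (fun _ : Unit => (1 : Bh)) i =
            (x - ∑ i, a1 i • (fun _ : Unit => (1 : Bh)) i) +
            (y - ∑ i, a2 i • (fun _ : Unit => (1 : Bh)) i) := by
          simp only [Finset.univ_unique, Finset.sum_singleton, Pi.add_apply, add_smul]
          abel
        rw [this]
        exact Submodule.add_mem _ h1 h2) 0 β trivial (by
      rw [Ideal.stableFiltration_N, pow_zero, Ideal.one_eq_top, Submodule.top_smul]; trivial)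
  refine ⟨b (), ?_⟩
  rw [hb]
  simp only [Finset.univ_unique, Finset.sum_singleton]
  rw [Algebra.smul_def, mul_one]
  rfl

end Groth.Agent.S9232
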