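import Groth.Statements.S9236
import Groth.Agent.Lib.helper26.BrnchLib5

set_option autoImplicit false
universe u
open Brnch

namespace Groth.Agent.S9236



/-- A local ring A has exactly one geometric branch if and only if it is geometrically unibranch
(unibranch with purely inseparable residue field extension of the integral closure). The number of
geometric branches counts the maximal ideals of the integral closure of A_red in its total ring of
fractions with multiplicity the separable degree of the residue field extension. -/
theorem result (A : Type u) [CommRing A] [IsLocalRing A] :
    Brnch.numGeomBranches A = 1 ↔ CAlg2.IsGeomUnibranch A := by
  exact Groth.Agent.Lib.helper26.BrnchLib.numGeomBranches_eq_one_iff A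

end Groth.Agent.S9236
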