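import Groth.Statements.S9249
import Groth.Agent.Lib.helper17.UnramDepth
import Groth.Agent.Lib.helper24.AdicLocal

set_option autoImplicit false
universe u
open CAlg

namespace Groth.Agent.S9249

/-- A Noetherian local ring is Cohen-Macaulay if and only if its completion is. -/
theorem result (A : Type u) [CommRing A] [IsLocalRing A]
    [IsNoetherianRing A] :
    LocCoh.IsCohenMacaulayLocalRing A ↔
      LocCoh.IsCohenMacaulayLocalRing (AdicCompletion (IsLocalRing.maximalIdeal A) A) := by
  have hI : IsLocalRing.maximalIdeal A ≠ ⊤ := Ideal.IsPrime.ne_top'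
  haveI hloc : IsLocalRing (AdicCompletion (IsLocalRing.maximalIdeal A) A) :=
    Groth.Agent.Lib.helper24.AdicLocal.isLocalRing A _ hI
  haveI hN : IsNoetherianRing (AdicCompletion (IsLocalRing.maximalIdeal A) A) :=
    Groth.Agent.S0543.result A _
  haveI : IsLocalHom (algebraMap A (AdicCompletion (IsLocalRing.maximalIdeal A) A)) :=
    Groth.Agent.Lib.helper24.AdicLocal.isLocalHom A _ hI
  have hm : (IsLocalRing.maximalIdeal A).map
      (algebraMap A (AdicCompletion (IsLocalRing.maximalIdeal A) A)) =
      IsLocalRing.maximalIdeal (AdicCompletion (IsLocalRing.maximalIdeal A) A) :=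
    (Groth.Agent.Lib.helper24.AdicLocal.maximalIdeal_eq_map A _ hI).symm
  have hd : LocCoh.depth (AdicCompletion (IsLocalRing.maximalIdeal A) A)
      (AdicCompletion (IsLocalRing.maximalIdeal A) A) = LocCoh.depth A A :=
    Groth.Agent.Lib.helper17.UnramDepth.depth_eq_of_map_maximalIdeal hm
  have hk : ringKrullDim (AdicCompletion (IsLocalRing.maximalIdeal A) A) = ringKrullDim A :=
    Groth.Agent.Lib.helper24.AdicLocal.ringKrullDim_eq A _ hI
  constructor
  · intro h
    refine ⟨?_⟩
    rw [Module.supportDim_self_eq_ringKrullDim, hk, hd,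
      ← Module.supportDim_self_eq_ringKrullDim]
    exact h.supportDim_eq_depth
  · intro h
    refine ⟨?_⟩
    rw [Module.supportDim_self_eq_ringKrullDim, ← hk, ← hd,
      ← Module.supportDim_self_eq_ringKrullDim]
    exact h.supportDim_eq_depth

end Groth.Agent.S9249
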