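import Groth.Statements.S9258
import Mathlib
import Groth.Agent.S4542
import Groth.Agent.Lib.helper14.FSAdic


set_option autoImplicit false
universe u
open CAlg

namespace H14S9258
open IsLocalRing

/-- dual numbers over `B`, as an opaque synonym -/
def DN (B : Type u) [CommRing B] : Type u := TrivSqZeroExt B B

section
variable {B : Type u} [CommRing B]

noncomputable instance : CommRing (DN B) := inferInstanceAs (CommRing (TrivSqZeroExt B B))

def toT (z : DN B) : TrivSqZeroExt B B := z
def ofT (z : TrivSqZeroExt B B) : DN B := z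

def fstH : DN B →+* B := (TrivSqZeroExt.fstHom B B B).toRingHom
def inlH : B →+* DN B := TrivSqZeroExt.inlHom B B
def sndF (z : DN B) : B := TrivSqZeroExt.snd (toT z)
def mkDN (x y : B) : DN B := ofT (TrivSqZeroExt.inl x + TrivSqZeroExt.inr y)

theorem fstH_apply (z : DN B) : fstH z = TrivSqZeroExt.fst (toT z) := rfl

theorem fst_mk (x y : B) : fstH (mkDN x y) = x := by
  rw [fstH_apply]
  change TrivSqZeroExt.fst (TrivSqZeroExt.inl x + TrivSqZeroExt.inr y : TrivSqZeroExt B B) = x
  simp
theorem snd_mk (x y : B) : sndF (mkDN x y) = y := by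
  change TrivSqZeroExt.snd (TrivSqZeroExt.inl x + TrivSqZeroExt.inr y : TrivSqZeroExt B B) = y
  simp
theorem ext' {z w : DN B} (h1 : fstH z = fstH w) (h2 : sndF z = sndF w) : z = w :=
  TrivSqZeroExt.ext (x := toT z) (y := toT w) h1 h2
theorem mk_eta (z : DN B) : mkDN (fstH z) (sndF z) = z := by
  apply ext'
  · rw [fst_mk]
  · rw [snd_mk]
theorem snd_add (z w : DN B) : sndF (z + w) = sndF z + sndF w :=
  TrivSqZeroExt.snd_add (toT z) (toT w)
theorem snd_zero : sndF (0 : DN B) = 0 := TrivSqZeroExt.snd_zero (R := B) (M := B)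
theorem snd_mul (z w : DN B) : sndF (z * w) = fstH z * sndF w + fstH w * sndF z := by
  change TrivSqZeroExt.snd (toT z * toT w) = _
  rw [TrivSqZeroExt.snd_mul]
  simp only [fstH_apply, sndF, smul_eq_mul, MulOpposite.smul_eq_mul_unop, MulOpposite.unop_op]
  ring
theorem fst_inl (x : B) : fstH (inlH x) = x := TrivSqZeroExt.fst_inl B x
theorem snd_inl (x : B) : sndF (inlH x) = 0 := TrivSqZeroExt.snd_inl B x
theorem inl_eq (x : B) : inlH x = mkDN x 0 := by
  apply ext'
  · rw [fst_inl, fst_mk]
  · rw [snd_inl, snd_mk]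
theorem mk_mul (x y x' y' : B) : mkDN x y * mkDN x' y' = mkDN (x * x') (x * y' + x' * y) := by
  apply ext'
  · rw [map_mul, fst_mk, fst_mk, fst_mk]
  · rw [snd_mul, fst_mk, fst_mk, snd_mk, snd_mk, snd_mk]
theorem mk_add (x y x' y' : B) : mkDN x y + mkDN x' y' = mkDN (x + x') (y + y') := by
  apply ext'
  · rw [map_add, fst_mk, fst_mk, fst_mk]
  · rw [snd_add, snd_mk, snd_mk, snd_mk]
theorem mk_one : mkDN (1 : B) 0 = 1 := by
  rw [← inl_eq, map_one]
theorem mk_zero : mkDN (0 : B) 0 = 0 := by
  rw [← inl_eq, map_zero]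

end
end H14S9258
namespace H14S9258
open IsLocalRing

section ideal
variable {B : Type u} [CommRing B]

/-- the ideal of pairs with both coordinates in `I` -/
def pairIdeal (I : Ideal B) : Ideal (DN B) where
  carrier := {z | fstH z ∈ I ∧ sndF z ∈ I}
  add_mem' := by
    rintro z w ⟨h1, h2⟩ ⟨h3, h4⟩
    exact ⟨by rw [map_add]; exact I.add_mem h1 h3, by rw [snd_add]; exact I.add_mem h2 h4⟩
  zero_mem' := ⟨by rw [map_zero]; exact I.zero_mem, by rw [snd_zero]; exact I.zero_mem⟩
  smul_mem' := by
    rintro c z ⟨h1, h2⟩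
    refine ⟨?_, ?_⟩
    · rw [smul_eq_mul, map_mul]; exact I.mul_mem_left _ h1
    · rw [smul_eq_mul, snd_mul]
      exact I.add_mem (I.mul_mem_left _ h2) (I.mul_mem_right _ h1)

theorem mem_pairIdeal {I : Ideal B} {z : DN B} : z ∈ pairIdeal I ↔ fstH z ∈ I ∧ sndF z ∈ I := Iff.rfl

theorem map_inlH (I : Ideal B) : I.map inlH = pairIdeal I := by
  apply le_antisymm
  · rw [Ideal.map_le_iff_le_comap]
    intro x hx
    exact ⟨by rw [fst_inl]; exact hx, by rw [snd_inl]; exact I.zero_mem⟩
  · rintro z ⟨h1, h2⟩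
    have : z = inlH (fstH z) + inlH (sndF z) * mkDN 0 1 := by
      rw [inl_eq, inl_eq, mk_mul, mk_add]
      conv_lhs => rw [← mk_eta z]
      congr 1 <;> ring
    rw [this]
    exact Ideal.add_mem _ (Ideal.mem_map_of_mem _ h1)
      (Ideal.mul_mem_right _ _ (Ideal.mem_map_of_mem _ h2))

theorem mem_pow_map {I : Ideal B} {n : ℕ} {z : DN B} :
    z ∈ (I.map inlH) ^ n ↔ fstH z ∈ I ^ n ∧ sndF z ∈ I ^ n := by
  rw [← Ideal.map_pow, map_inlH, mem_pairIdeal]

theorem snd_sub (z w : DN B) : sndF (z - w) = sndF z - sndF w :=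
  TrivSqZeroExt.snd_sub (toT z) (toT w)

instance isAdicComplete (I : Ideal B) [IsAdicComplete I B] : IsAdicComplete (I.map inlH) (DN B) := by
  have hH : IsHausdorff (I.map inlH) (DN B) := by
    refine ⟨fun z hz => ?_⟩
    have h : ∀ n, fstH z ∈ I ^ n ∧ sndF z ∈ I ^ n := by
      intro n
      have := hz n
      rw [SModEq.zero, smul_eq_mul, Ideal.mul_top] at this
      exact mem_pow_map.1 this
    apply ext'
    · rw [map_zero]
      refine IsHausdorff.haus (inferInstance : IsHausdorff I B) _ fun n => ?_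
      rw [SModEq.zero, smul_eq_mul, Ideal.mul_top]
      exact (h n).1
    · rw [snd_zero]
      refine IsHausdorff.haus (inferInstance : IsHausdorff I B) _ fun n => ?_
      rw [SModEq.zero, smul_eq_mul, Ideal.mul_top]
      exact (h n).2
  have hP : IsPrecomplete (I.map inlH) (DN B) := by
    refine ⟨fun f hf => ?_⟩
    have h : ∀ {m n}, m ≤ n → fstH (f m) - fstH (f n) ∈ I ^ m ∧ sndF (f m) - sndF (f n) ∈ I ^ m := by
      intro m n hmn
      have := hf hmn
      rw [SModEq.sub_mem, smul_eq_mul, Ideal.mul_top] at this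
      have := mem_pow_map.1 this
      rwa [map_sub, snd_sub] at this
    obtain ⟨x, hx⟩ := IsPrecomplete.prec (inferInstance : IsPrecomplete I B)
      (f := fun n => fstH (f n)) (fun {m n} hmn => by
        rw [SModEq.sub_mem, smul_eq_mul, Ideal.mul_top]; exact (h hmn).1)
    obtain ⟨y, hy⟩ := IsPrecomplete.prec (inferInstance : IsPrecomplete I B)
      (f := fun n => sndF (f n)) (fun {m n} hmn => by
        rw [SModEq.sub_mem, smul_eq_mul, Ideal.mul_top]; exact (h hmn).2)
    refine ⟨mkDN x y, fun n => ?_⟩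
    rw [SModEq.sub_mem, smul_eq_mul, Ideal.mul_top, mem_pow_map, map_sub, snd_sub, fst_mk, snd_mk]
    have hx' := hx n
    have hy' := hy n
    rw [SModEq.sub_mem, smul_eq_mul, Ideal.mul_top] at hx' hy'
    exact ⟨hx', hy'⟩
  exact { toIsHausdorff := hH, toIsPrecomplete := hP }

theorem isHausdorff_quot (I : Ideal B) [IsHausdorff I B] :
    IsHausdorff ((I.map inlH).map (Ideal.Quotient.mk (RingHom.ker (fstH (B := B)))))
      (DN B ⧸ RingHom.ker (fstH (B := B))) := by
  refine ⟨fun x hx => ?_⟩
  obtain ⟨z, rfl⟩ := Ideal.Quotient.mk_surjective x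
  rw [Ideal.Quotient.eq_zero_iff_mem, RingHom.mem_ker]
  refine IsHausdorff.haus (inferInstance : IsHausdorff I B) _ fun n => ?_
  rw [SModEq.zero, smul_eq_mul, Ideal.mul_top]
  have := hx n
  rw [SModEq.zero, smul_eq_mul, Ideal.mul_top, ← Ideal.map_pow,
    Ideal.mem_map_iff_of_surjective _ Ideal.Quotient.mk_surjective] at this
  obtain ⟨w, hw, hwz⟩ := this
  rw [Ideal.Quotient.eq, RingHom.mem_ker, map_sub, sub_eq_zero] at hwz
  rw [← hwz]
  exact (mem_pow_map.1 hw).1

end ideal
end H14S9258
namespace H14S9258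
open IsLocalRing

section main
variable {A B : Type u} [CommRing A] [CommRing B] [Algebra A B]

/-- the twisted structure map -/
def gHom (D : Derivation ℤ A A) : A →+* DN B where
  toFun a := mkDN (algebraMap A B a) (algebraMap A B (D a))
  map_one' := by rw [map_one, Derivation.map_one_eq_zero, map_zero, mk_one]
  map_mul' a b := by
    rw [mk_mul, map_mul, Derivation.leibniz, map_add, smul_eq_mul, smul_eq_mul, map_mul, map_mul]
  map_zero' := by rw [map_zero, map_zero, map_zero, mk_zero]
  map_add' a b := by rw [mk_add, map_add, map_add, map_add]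

theorem main (I : Ideal B) [IsAdicComplete I B]
    (hfs : CAlgX.IsAdicFormallySmooth A B I) (D : Derivation ℤ A A) :
    ∃ D' : Derivation ℤ B B, ∀ a : A, D' (algebraMap A B a) = algebraMap A B (D a) := by
  letI : Algebra A (DN B) := (gHom (B := B) D).toAlgebra
  have halg : ∀ a : A, algebraMap A (DN B) a = mkDN (algebraMap A B a) (algebraMap A B (D a)) :=
    fun _ => rfl
  set J : Ideal (DN B) := RingHom.ker (fstH (B := B)) with hJ
  haveI := isHausdorff_quot I
  -- the map u
  let u : B →ₐ[A] DN B ⧸ J :=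
    { toRingHom := (Ideal.Quotient.mk J).comp inlH
      commutes' := by
        intro a
        change Ideal.Quotient.mk J (inlH (algebraMap A B a)) = Ideal.Quotient.mk J (algebraMap A (DN B) a)
        rw [Ideal.Quotient.eq, hJ, RingHom.mem_ker, map_sub, fst_inl, halg, fst_mk, sub_self] }
  have hu : ∀ b : B, u b = Ideal.Quotient.mk J (inlH b) := fun _ => rfl
  have hFS := (H14.FSAdic.isAdicFormallySmooth_iff I).1 hfs
  obtain ⟨v, -, hv⟩ := Groth.Agent.S4542.result (A := A) (B := B) (C := DN B) ⊥ I (I.map inlH) hFS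
    ⟨1, by simp⟩ J ⟨2, by
      intro z hz
      have : z = 0 := by
        have h2 : J ^ 2 = ⊥ := by
          rw [pow_two, eq_bot_iff]
          refine Ideal.mul_le.2 fun x hx y hy => ?_
          rw [hJ, RingHom.mem_ker] at hx hy
          rw [Ideal.mem_bot]
          apply ext'
          · rw [map_mul, hx, zero_mul, map_zero]
          · rw [snd_mul, hx, hy, zero_mul, zero_mul, add_zero, snd_zero]
        rw [h2] at hz
        exact hz
      rw [this]; exact Ideal.zero_mem _⟩ u ⟨1, by
      rw [pow_one, Ideal.map_le_iff_le_comap]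
      intro b hb
      rw [Ideal.mem_comap]
      change u b ∈ _
      rw [hu]
      exact Ideal.mem_map_of_mem _ (Ideal.mem_map_of_mem _ hb)⟩
  have hfst : ∀ b : B, fstH (v b) = b := by
    intro b
    have := AlgHom.congr_fun hv b
    rw [AlgHom.comp_apply, hu, Ideal.Quotient.mkₐ_eq_mk, Ideal.Quotient.eq, hJ, RingHom.mem_ker,
      map_sub, fst_inl, sub_eq_zero] at this
    exact this
  refine ⟨Derivation.mk' (AddMonoidHom.toIntLinearMap
      { toFun := fun b => sndF (v b)
        map_zero' := by rw [map_zero, snd_zero]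
        map_add' := fun b c => by rw [map_add, snd_add] }) ?_, ?_⟩
  · intro b c
    change sndF (v (b * c)) = b • sndF (v c) + c • sndF (v b)
    rw [map_mul, snd_mul, hfst, hfst, smul_eq_mul, smul_eq_mul]
  · intro a
    change sndF (v (algebraMap A B a)) = _
    rw [v.commutes, halg, snd_mk]

end main
end H14S9258

namespace Groth.Agent.S9258

/-- Suppose A → B is a local map of Noetherian local rings, B is complete, and A → B is formally smooth
for the adic topology of the maximal ideal of B. Then each derivation D of A extends to a derivation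
D' of B, in the sense that D' restricted along A → B equals D followed by A → B. -/
theorem result (A B : Type u) [CommRing A]
    [CommRing B] [IsLocalRing A] [IsLocalRing B] [IsNoetherianRing A] [IsNoetherianRing B]
    [Algebra A B] [IsLocalHom (algebraMap A B)]
    [IsAdicComplete (IsLocalRing.maximalIdeal B) B]
    (hfs : CAlgX.IsAdicFormallySmooth A B (IsLocalRing.maximalIdeal B)) (D : Derivation ℤ A A) :
    ∃ D' : Derivation ℤ B B, ∀ a : A, D' (algebraMap A B a) = algebraMap A B (D a) := by
  exact H14S9258.main (IsLocalRing.maximalIdeal B) hfs D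

end Groth.Agent.S9258
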