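import Groth.Statements.S9260
import Mathlib

set_option autoImplicit false
universe u
open CAlg

namespace Groth.Agent.S9260

/-- Suppose a finite group G with n elements acts on a ring R by ring automorphisms, A → R is a ring map
compatible with the action whose image contains the invariants (so that A maps onto R^G), J is an
ideal of A, and x lies in JR. Then ∏_σ (T - σ(x)) is the image of a monic polynomial over A of
degree at most n whose coefficients below degree n all lie in J. (The published statement takes A =
R^G and a polynomial of degree n; this row allows any such A mapping onto R^G and asks degree at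
most n, which is the same when A is nonzero.) -/
theorem result (A R G : Type u) [CommRing A]
    [CommRing R] [Algebra A R] [Group G] [Fintype G] [MulSemiringAction G R] [SMulCommClass G A R]
    [Algebra.IsInvariant A R G] (J : Ideal A) (x : R) (hx : x ∈ Ideal.map (algebraMap A R) J) :
    ∃ P : Polynomial A, P.Monic ∧ P.natDegree ≤ Fintype.card G ∧
      (∀ i : ℕ, i < Fintype.card G → P.coeff i ∈ J) ∧
      Polynomial.map (algebraMap A R) P = ∏ σ : G, (Polynomial.X - Polynomial.C (σ • x)) := by
  classical
  rw [Ideal.map, Ideal.span, Submodule.mem_span_set'] at hx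
  obtain ⟨n, r, g, rfl⟩ := hx
  choose j hjJ hj using fun l => (g l).2
  set N := Fintype.card G with hN
  let φ : G → MvPolynomial (Fin n) R →+* MvPolynomial (Fin n) R := fun τ => MvPolynomial.map (MulSemiringAction.toRingHom G R τ)
  let ξ : MvPolynomial (Fin n) R := ∑ l, MvPolynomial.X l * MvPolynomial.C (r l)
  let F : Polynomial (MvPolynomial (Fin n) R) := ∏ σ : G, (Polynomial.X - Polynomial.C (φ σ ξ))
  have hφξ0 : ∀ σ, φ σ ξ = ∑ l, MvPolynomial.X l * MvPolynomial.C (σ • r l) := by
    intro σ
    simp only [φ, ξ, map_sum, map_mul, MvPolynomial.map_X, MvPolynomial.map_C,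
      MulSemiringAction.toRingHom_apply]
  have hφξ : ∀ τ σ, φ τ (φ σ ξ) = φ (τ * σ) ξ := by
    intro τ σ
    rw [hφξ0 σ, hφξ0 (τ * σ)]
    simp only [φ, map_sum, map_mul, MvPolynomial.map_X, MvPolynomial.map_C,
      MulSemiringAction.toRingHom_apply, mul_smul]
  have hFinv : ∀ τ, Polynomial.map (φ τ) F = F := by
    intro τ
    simp only [F, Polynomial.map_prod, Polynomial.map_sub, Polynomial.map_X, Polynomial.map_C, hφξ]
    exact Fintype.prod_equiv (Equiv.mulLeft τ) _ _ (fun σ => rfl)
  have hcoef : ∀ (i : ℕ) (μ : Fin n →₀ ℕ) (τ : G),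
      τ • (MvPolynomial.coeff μ (F.coeff i)) = MvPolynomial.coeff μ (F.coeff i) := by
    intro i μ τ
    have := congrArg (fun Q => MvPolynomial.coeff μ (Polynomial.coeff Q i)) (hFinv τ)
    simpa [Polynomial.coeff_map, MvPolynomial.coeff_map, φ] using this
  choose a ha using fun (i : ℕ) (μ : Fin n →₀ ℕ) =>
    Algebra.IsInvariant.isInvariant (A := A) (G := G) _ (hcoef i μ)
  have hconst : ∀ i < N, MvPolynomial.coeff 0 (F.coeff i) = 0 := by
    intro i hi
    have h0 : ∀ σ, MvPolynomial.constantCoeff (φ σ ξ) = 0 := by
      intro σ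
      rw [hφξ0]
      simp
    have h1 : Polynomial.map (MvPolynomial.constantCoeff : MvPolynomial (Fin n) R →+* R) F = Polynomial.X ^ N := by
      simp only [F, Polynomial.map_prod, Polynomial.map_sub, Polynomial.map_X, Polynomial.map_C, h0,
        map_zero, sub_zero, Finset.prod_const, Finset.card_univ, hN]
    have := congrArg (fun Q => Polynomial.coeff Q i) h1
    simp only [Polynomial.coeff_map, Polynomial.coeff_X_pow, if_neg hi.ne] at this
    exact this
  let ev : MvPolynomial (Fin n) R →+* R := MvPolynomial.eval (fun l => algebraMap A R (j l))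
  have hev : ∀ σ, ev (φ σ ξ) = σ • (∑ l, r l • (g l : R)) := by
    intro σ
    rw [hφξ0, Finset.smul_sum]
    simp only [ev, map_sum, map_mul, MvPolynomial.eval_X, MvPolynomial.eval_C]
    refine Finset.sum_congr rfl fun l _ => ?_
    rw [smul_eq_mul, smul_mul', ← hj l, smul_algebraMap, mul_comm]
  have hmapF : Polynomial.map ev F =
      ∏ σ : G, (Polynomial.X - Polynomial.C (σ • ∑ l, r l • (g l : R))) := by
    simp only [F, Polynomial.map_prod, Polynomial.map_sub, Polynomial.map_X, Polynomial.map_C, hev]
  rw [← hmapF]
  let b : ℕ → A := fun i => ∑ μ ∈ (F.coeff i).support, a i μ * ∏ l, j l ^ μ l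
  have hbJ : ∀ i < N, b i ∈ J := by
    intro i hi
    refine J.sum_mem fun μ hμ => ?_
    have hμ0 : μ ≠ 0 := by
      rintro rfl
      exact (MvPolynomial.mem_support_iff.mp hμ) (hconst i hi)
    obtain ⟨l, hl⟩ : ∃ l, μ l ≠ 0 := by
      by_contra h
      push_neg at h
      exact hμ0 (Finsupp.ext h)
    apply J.mul_mem_left
    exact Ideal.prod_mem J (Finset.mem_univ l) (J.pow_mem_of_mem (hjJ l) _ (Nat.pos_of_ne_zero hl))
  have hbmap : ∀ i, algebraMap A R (b i) = (Polynomial.map ev F).coeff i := by
    intro i
    rw [Polynomial.coeff_map]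
    simp only [b, map_sum, map_mul, map_prod, map_pow, ha, ev, MvPolynomial.eval_eq']
  have hdeg : (∑ i ∈ Finset.range N, Polynomial.C (b i) * Polynomial.X ^ i).degree < (N : WithBot ℕ) := by
    rw [Finset.sum_range]
    exact Polynomial.degree_sum_fin_lt (fun i : Fin N => b i)
  refine ⟨Polynomial.X ^ N + ∑ i ∈ Finset.range N, Polynomial.C (b i) * Polynomial.X ^ i,
    Polynomial.monic_X_pow_add hdeg, ?_, ?_, ?_⟩
  · refine Polynomial.natDegree_add_le_of_degree_le (Polynomial.natDegree_X_pow_le N) ?_
    exact Polynomial.natDegree_le_of_degree_le (le_of_lt hdeg)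
  · intro i hi
    rw [Polynomial.coeff_add, Polynomial.coeff_X_pow, if_neg hi.ne, zero_add,
      Polynomial.finsetSum_coeff]
    simp only [Polynomial.coeff_C_mul_X_pow]
    rw [Finset.sum_eq_single i]
    · simpa using hbJ i hi
    · intro k _ hk
      rw [if_neg (Ne.symm hk)]
    · intro h
      exact absurd (Finset.mem_range.mpr hi) h
  · rcases subsingleton_or_nontrivial R with hR | hR
    · exact Subsingleton.elim _ _
    · have hQm : (Polynomial.map ev F).Monic := by
        rw [hmapF]
        exact Polynomial.monic_prod_of_monic _ _ fun σ _ => Polynomial.monic_X_sub_C _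
      have hQd : (Polynomial.map ev F).natDegree = N := by
        rw [hmapF, Polynomial.natDegree_finsetProd_X_sub_C_eq_card, Finset.card_univ]
      conv_rhs => rw [hQm.as_sum, hQd]
      simp only [Polynomial.map_add, Polynomial.map_pow, Polynomial.map_X, Polynomial.map_sum,
        Polynomial.map_mul, Polynomial.map_C, hbmap]

end Groth.Agent.S9260
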