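import Groth.Statements.S9261
import Mathlib

set_option autoImplicit false
universe u
open CAlg

namespace Groth.Agent.S9261

open TensorProduct

/-- Let G be a finite group acting on a ring R, S = R^G its ring of invariants (here: S → R injective
with image the invariants) and A a flat S-algebra. Then the map A → A ⊗_S R is injective with image
the invariants of G acting on A ⊗_S R through the second factor; that is, A → (A ⊗_S R)^G is an
isomorphism. -/
theorem result (S R A G : Type u) [CommRing S] [CommRing R] [Algebra S R]
    [FaithfulSMul S R] [Group G] [Finite G] [MulSemiringAction G R] [SMulCommClass G S R]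
    [Algebra.IsInvariant S R G] [CommRing A] [Algebra S A] [Module.Flat S A] :
    Function.Injective (algebraMap A (TensorProduct S A R)) ∧
      ∀ x : TensorProduct S A R,
        (∀ σ : G, Algebra.TensorProduct.map (AlgHom.id S A) (MulSemiringAction.toAlgHom S R σ) x = x) →
          x ∈ Set.range (algebraMap A (TensorProduct S A R)) := by
  classical
  haveI : Fintype G := Fintype.ofFinite G
  have hinjS : Function.Injective (algebraMap S R) := FaithfulSMul.algebraMap_injective S R
  refine ⟨Algebra.TensorProduct.includeLeft_injective (S := A) hinjS, ?_⟩
  intro x hx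
  let f : S →ₗ[S] R := Algebra.linearMap S R
  let g : R →ₗ[S] (G → R) :=
    { toFun := fun r σ => σ • r - r
      map_add' := fun r r' => by ext σ; simp [smul_add]; ring
      map_smul' := fun s r => by ext σ; simp [smul_comm σ s r, smul_sub] }
  have hex : Function.Exact f g := by
    intro r
    constructor
    · intro hr
      have : ∀ σ : G, σ • r = r := fun σ => sub_eq_zero.mp (congrFun hr σ)
      obtain ⟨s, hs⟩ := Algebra.IsInvariant.isInvariant (A := S) (B := R) (G := G) r this
      exact ⟨s, hs⟩
    · rintro ⟨s, rfl⟩
      ext σ
      simp [f, g]
  have hex' := Module.Flat.lTensor_exact A hex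
  have hgx : g.lTensor A x = 0 := by
    apply (TensorProduct.piRight S S A (fun _ : G => R)).injective
    rw [map_zero]
    ext σ
    have h1 : ∀ y : A ⊗[S] R, (TensorProduct.piRight S S A (fun _ : G => R)) (g.lTensor A y) σ =
        Algebra.TensorProduct.map (AlgHom.id S A) (MulSemiringAction.toAlgHom S R σ) y - y := by
      intro y
      induction y using TensorProduct.induction_on with
      | zero => simp
      | tmul a r => simp [g, TensorProduct.tmul_sub]
      | add y z hy hz => simp only [map_add, Pi.add_apply, hy, hz]; abel
    rw [h1, hx σ, sub_self]
    rfl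
  obtain ⟨y, hy⟩ := (hex' x).mp hgx
  have key : ∀ y : A ⊗[S] S, algebraMap A (A ⊗[S] R) (TensorProduct.rid S A y) = f.lTensor A y := by
    intro y
    induction y using TensorProduct.induction_on with
    | zero => simp
    | tmul a s =>
      rw [TensorProduct.rid_tmul, LinearMap.lTensor_tmul, Algebra.TensorProduct.algebraMap_apply,
        Algebra.algebraMap_self, RingHom.id_apply]
      change (s • a) ⊗ₜ[S] (1 : R) = a ⊗ₜ[S] (algebraMap S R s)
      rw [Algebra.algebraMap_eq_smul_one, TensorProduct.smul_tmul]
    | add y z hy hz => simp only [map_add, hy, hz]
  exact ⟨TensorProduct.rid S A y, (key y).trans hy⟩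

end Groth.Agent.S9261
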