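import Groth.Statements.S9272
import Mathlib
import Groth.Agent.Lib.helper24.HilbSam
import Groth.Agent.Lib.helper24.HilbSam2
import Groth.Agent.Lib.helper21.FlatCrit

set_option autoImplicit false
universe u
open CAlgX

namespace Groth.Agent.S9272

section Aux
open TensorProduct Groth.Agent.Lib.helper24.HilbSam

/-- quasi-regular with flat quotient: all `B/J^i` are flat. -/
theorem flat_quot_pow {A B : Type u} [CommRing A] [CommRing B] [Algebra A B] {d : ℕ}
    (x : Fin d → B) (hq : CAlgX.IsQuasiRegular x)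
    (hflat : Module.Flat A (B ⧸ Ideal.span (Set.range x))) (i : ℕ) :
    Module.Flat A (B ⧸ Ideal.span (Set.range x) ^ i) := by
  induction i with
  | zero =>
    have : Subsingleton (B ⧸ Ideal.span (Set.range x) ^ 0) := by
      rw [pow_zero, Ideal.one_eq_top]; exact Ideal.Quotient.subsingleton_iff.mpr rfl
    infer_instance
  | succ i ih =>
    haveI : Module.Flat A (↥(S d i) →₀ B ⧸ Ideal.span (Set.range x)) := by
      classical
      exact Module.Flat.of_linearEquiv (finsuppLEquivDirectSum A _ _)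
    exact Groth.Agent.H21.flat_of_exact_mid
      ((φ x i).restrictScalars A) ((g x i).restrictScalars A)
      (φ_injective_of_qr x hq i) (g_surjective x i) (exact x i)

theorem mono_incl {A B A' : Type u} [CommRing A] [CommRing B] [CommRing A'] [Algebra A B]
    [Algebra A A'] {d : ℕ} (f : Fin d → B) (α : Fin d →₀ ℕ) :
    mono (fun i => ((1 : A') ⊗ₜ[A] f i : A' ⊗[A] B)) α = (1 : A') ⊗ₜ[A] mono f α := by
  have h : (fun i => ((1 : A') ⊗ₜ[A] f i : A' ⊗[A] B)) =
      fun i => (Algebra.TensorProduct.includeRight : B →ₐ[A] A' ⊗[A] B) (f i) := rfl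
  rw [h, mono, mono, MvPolynomial.eval_monomial, MvPolynomial.eval_monomial, one_mul, one_mul,
    ← Algebra.TensorProduct.includeRight_apply, map_finsuppProd]
  simp only [map_pow]

end Aux
open TensorProduct

/-- Let A → B and A → A' be ring maps and B' = A' ⊗_A B. If f_1, ..., f_r is a quasi-regular sequence in
B with B/(f_1, ..., f_r) flat over A, then the images of the f_i in B' form a quasi-regular
sequence. -/
theorem result (A B A' : Type u) [CommRing A] [CommRing B]
    [CommRing A'] [Algebra A B] [Algebra A A'] (r : ℕ) (f : Fin r → B)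
    (hflat : Module.Flat A (B ⧸ Ideal.span (Set.range f))) (hq : CAlgX.IsQuasiRegular f) :
    CAlgX.IsQuasiRegular (fun i => ((1 : A') ⊗ₜ[A] f i : TensorProduct A A' B)) := by
  classical
  set x' : Fin r → A' ⊗[A] B := fun i => (1 : A') ⊗ₜ[A] f i with hx'
  set J := Ideal.span (Set.range f) with hJdef
  have hJ' : Ideal.span (Set.range x') =
      J.map (Algebra.TensorProduct.includeRight : B →ₐ[A] A' ⊗[A] B) := by
    rw [hJdef, Ideal.map_span, ← Set.range_comp]; rfl
  have hk : ∀ I : Ideal B, RingHom.ker (Ideal.Quotient.mkₐ A I) = I := by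
    intro I
    ext y
    rw [RingHom.mem_ker, Ideal.Quotient.mkₐ_eq_mk, Ideal.Quotient.eq_zero_iff_mem]
  have hker : ∀ k : ℕ, RingHom.ker (Algebra.TensorProduct.map (AlgHom.id A A')
      (Ideal.Quotient.mkₐ A (J ^ k))) = Ideal.span (Set.range x') ^ k := by
    intro k
    rw [Algebra.TensorProduct.lTensor_ker _ (Ideal.Quotient.mkₐ_surjective A (J ^ k)),
      hk, hJ', Ideal.map_pow]
  have hker1 : RingHom.ker (Algebra.TensorProduct.map (AlgHom.id A A')
      (Ideal.Quotient.mkₐ A J)) = Ideal.span (Set.range x') := by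
    rw [Algebra.TensorProduct.lTensor_ker _ (Ideal.Quotient.mkₐ_surjective A J),
      hk, hJ']
  show ∀ (n : ℕ) (P : MvPolynomial (Fin r) (A' ⊗[A] B)), P.IsHomogeneous n →
    MvPolynomial.eval x' P ∈ Ideal.span (Set.range x') ^ (n + 1) →
      ∀ α, P.coeff α ∈ Ideal.span (Set.range x')
  apply Groth.Agent.Lib.helper24.HilbSam.qr_of_φ_injective x'
  intro n
  rw [injective_iff_map_eq_zero]
  intro c' hc'
  have hsurj : ∀ α : Groth.Agent.Lib.helper24.HilbSam.S r n, ∃ b : A' ⊗[A] B,
      Ideal.Quotient.mk (Ideal.span (Set.range x')) b = c' α :=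
    fun α => Ideal.Quotient.mk_surjective _
  choose b' hb' using hsurj
  have hcc : c' = Finsupp.equivFunOnFinite.symm fun α => Ideal.Quotient.mk _ (b' α) := by
    ext α; rw [Finsupp.equivFunOnFinite_symm_apply_apply, hb']
  rw [hcc, Groth.Agent.Lib.helper24.HilbSam.φ_mk, Ideal.Quotient.eq_zero_iff_mem] at hc'
  haveI : Module.Flat A (B ⧸ J ^ n) := flat_quot_pow f hq hflat n
  let ΦA : (Groth.Agent.Lib.helper24.HilbSam.S r n →₀ B ⧸ J) →ₗ[A] B ⧸ J ^ (n + 1) :=
    (Groth.Agent.Lib.helper24.HilbSam.φ f n).restrictScalars A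
  let gA : (B ⧸ J ^ (n + 1)) →ₗ[A] B ⧸ J ^ n :=
    (Groth.Agent.Lib.helper24.HilbSam.g f n).restrictScalars A
  have hL : Function.Injective (ΦA.lTensor A') :=
    LinearMap.lTensor_injective_of_exact_of_flat gA
      (Groth.Agent.Lib.helper24.HilbSam.g_surjective f n) ΦA
      (Groth.Agent.Lib.helper24.HilbSam.φ_injective_of_qr f hq n)
      (Groth.Agent.Lib.helper24.HilbSam.exact f n) A'
  let mkJ : B →ₗ[A] B ⧸ J := (Ideal.Quotient.mkₐ A J).toLinearMap
  let z : A' ⊗[A] (Groth.Agent.Lib.helper24.HilbSam.S r n →₀ B ⧸ J) :=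
    ∑ α : Groth.Agent.Lib.helper24.HilbSam.S r n,
      (((Finsupp.lsingle α : (B ⧸ J) →ₗ[A] _) ∘ₗ mkJ).lTensor A') (b' α)
  have hz : ΦA.lTensor A' z = (Algebra.TensorProduct.map (AlgHom.id A A')
      (Ideal.Quotient.mkₐ A (J ^ (n + 1))))
      (∑ α : Groth.Agent.Lib.helper24.HilbSam.S r n,
        b' α * Groth.Agent.Lib.helper24.HilbSam.mono x' α.1) := by
    rw [map_sum, map_sum]
    apply Finset.sum_congr rfl
    intro α _
    have key : (ΦA.lTensor A') ∘ₗ
        (((Finsupp.lsingle α : (B ⧸ J) →ₗ[A] _) ∘ₗ mkJ).lTensor A') =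
        ((Algebra.TensorProduct.map (AlgHom.id A A')
          (Ideal.Quotient.mkₐ A (J ^ (n + 1)))).toLinearMap) ∘ₗ
          (LinearMap.mulRight A (Groth.Agent.Lib.helper24.HilbSam.mono x' α.1)) := by
      apply TensorProduct.ext'
      intro a b
      simp only [LinearMap.comp_apply, LinearMap.lTensor_tmul, LinearMap.mulRight_apply,
        AlgHom.toLinearMap_apply]
      rw [mono_incl, Algebra.TensorProduct.tmul_mul_tmul, mul_one,
        Algebra.TensorProduct.map_tmul]
      congr 1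
      show Groth.Agent.Lib.helper24.HilbSam.φ f n
          (Finsupp.single α (Ideal.Quotient.mk J b)) =
        Ideal.Quotient.mk _ (b * Groth.Agent.Lib.helper24.HilbSam.mono f α.1)
      rw [Groth.Agent.Lib.helper24.HilbSam.φ, Finsupp.lsum_single,
        Groth.Agent.Lib.helper24.HilbSam.ψ_mk, mul_comm]
    exact LinearMap.congr_fun key (b' α)
  have hz0 : z = 0 := by
    apply hL
    rw [hz, map_zero]
    have : (∑ α : Groth.Agent.Lib.helper24.HilbSam.S r n,
        b' α * Groth.Agent.Lib.helper24.HilbSam.mono x' α.1) ∈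
        RingHom.ker (Algebra.TensorProduct.map (AlgHom.id A A')
          (Ideal.Quotient.mkₐ A (J ^ (n + 1)))) := by
      rw [hker]; exact hc'
    exact this
  ext α
  rw [Finsupp.zero_apply, ← hb' α, Ideal.Quotient.eq_zero_iff_mem, ← hker1]
  have h2 := congrArg ((Finsupp.lapply α : (Groth.Agent.Lib.helper24.HilbSam.S r n →₀ B ⧸ J)
    →ₗ[A] B ⧸ J).lTensor A') hz0
  rw [map_zero, map_sum, Finset.sum_eq_single α] at h2
  · rw [← LinearMap.comp_apply, ← LinearMap.lTensor_comp] at h2
    have h3 : (Finsupp.lapply α : (Groth.Agent.Lib.helper24.HilbSam.S r n →₀ B ⧸ J)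
        →ₗ[A] B ⧸ J) ∘ₗ ((Finsupp.lsingle α : (B ⧸ J) →ₗ[A] _) ∘ₗ mkJ) = mkJ := by
      ext y
      simp
    rw [h3] at h2
    exact h2
  · intro β _ hβ
    rw [← LinearMap.comp_apply, ← LinearMap.lTensor_comp]
    have h3 : (Finsupp.lapply α : (Groth.Agent.Lib.helper24.HilbSam.S r n →₀ B ⧸ J)
        →ₗ[A] B ⧸ J) ∘ₗ ((Finsupp.lsingle β : (B ⧸ J) →ₗ[A] _) ∘ₗ mkJ) = 0 := by
      ext y
      simp [Finsupp.single_apply, hβ]
    rw [h3, LinearMap.lTensor_zero, LinearMap.zero_apply]
  · intro h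
    exact absurd (Finset.mem_univ α) h

end Groth.Agent.S9272
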