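import Groth.Statements.S9273
import Mathlib

set_option autoImplicit false
set_option linter.style.haveILetI false
universe u
open CAlgX

namespace Groth.Agent.S9273

/-- Let A → B and A → A' be ring maps and (TensorProduct A A' B) = A' ⊗_A B. If f_1, ..., f_r is an H_1-regular sequence in
B with B/(f_1, ..., f_r) flat over A, then the images of the f_i in (TensorProduct A A' B) form an H_1-regular sequence. -/
theorem result (A B A' : Type u) [CommRing A] [CommRing B]
    [CommRing A'] [Algebra A B] [Algebra A A'] (r : ℕ) (f : Fin r → B)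
    (hflat : Module.Flat A (B ⧸ Ideal.span (Set.range f))) (hq : CAlgX.IsH1Regular f) :
    CAlgX.IsH1Regular (fun i => ((1 : A') ⊗ₜ[A] f i : TensorProduct A A' B)) := by
  classical
  intro a' ha'
  set J : Ideal B := Ideal.span (Set.range f) with hJ
  set f' : Fin r → (TensorProduct A A' B) := fun i => ((1 : A') ⊗ₜ[A] f i : TensorProduct A A' B) with hf'
  set triv' : Set (Fin r → (TensorProduct A A' B)) :=
    {v : Fin r → (TensorProduct A A' B) | ∃ i j : Fin r, v = Pi.single i (f' j) - Pi.single j (f' i)} with htriv'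
  -- the map `b ↦ Σ bᵢ fᵢ`
  let φ : (Fin r → B) →ₗ[B] B :=
    { toFun := fun b => ∑ i, b i * f i
      map_add' := fun x y => by simp [add_mul, Finset.sum_add_distrib]
      map_smul' := fun c x => by simp [Finset.mul_sum, mul_assoc] }
  have hφJ : ∀ b, φ b ∈ J := by
    intro b
    show ∑ i, b i * f i ∈ J
    exact Ideal.sum_mem _ fun i _ => Ideal.mul_mem_left _ _ (Ideal.subset_span ⟨i, rfl⟩)
  let φA : (Fin r → B) →ₗ[A] B := φ.restrictScalars A
  let φ' : (Fin r → B) →ₗ[A] (J.restrictScalars A) :=
    LinearMap.codRestrict (J.restrictScalars A) φA hφJ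
  have hφ'surj : Function.Surjective φ' := by
    rintro ⟨x, hx⟩
    have hx' : x ∈ Ideal.span (Set.range f) := hx
    rw [Ideal.mem_span_range_iff_exists_fun] at hx'
    obtain ⟨c, hc⟩ := hx'
    exact ⟨c, Subtype.ext hc⟩
  -- injectivity of `A' ⊗ J → A' ⊗ B`
  have hinj : Function.Injective (LinearMap.lTensor A' (J.restrictScalars A).subtype) := by
    have hex : Function.Exact (J.restrictScalars A).subtype ((Submodule.mkQ J).restrictScalars A) := by
      intro x
      constructor
      · intro hx
        have : Submodule.mkQ J x = 0 := hx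
        rw [Submodule.mkQ_apply, Submodule.Quotient.mk_eq_zero] at this
        exact ⟨⟨x, this⟩, rfl⟩
      · rintro ⟨y, rfl⟩
        show Submodule.mkQ J (y : B) = 0
        rw [Submodule.mkQ_apply, Submodule.Quotient.mk_eq_zero]
        exact y.2
    exact LinearMap.lTensor_injective_of_exact_of_flat ((Submodule.mkQ J).restrictScalars A)
      (Submodule.mkQ_surjective J) (J.restrictScalars A).subtype
      (Submodule.injective_subtype _) hex A'
  have hexact := lTensor_exact A' (LinearMap.exact_subtype_ker_map φ') hφ'surj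
  -- the identification
  let e := TensorProduct.piRight A A' A' (fun _ : Fin r => B)
  have he_tmul : ∀ (c : A') (w : Fin r → B), e (c ⊗ₜ[A] w) = fun i => c ⊗ₜ[A] w i := by
    intro c w
    simp [e]
  let ψ : (Fin r → (TensorProduct A A' B)) →ₗ[A] (TensorProduct A A' B) :=
    { toFun := fun v => ∑ i, v i * f' i
      map_add' := fun x y => by simp [add_mul, Finset.sum_add_distrib]
      map_smul' := fun c x => by simp [Finset.smul_sum] }
  have hψ : ψ ∘ₗ (e.toLinearMap.restrictScalars A) = LinearMap.lTensor A' φA := by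
    apply TensorProduct.ext'
    intro c w
    show ψ (e (c ⊗ₜ[A] w)) = c ⊗ₜ[A] φ w
    rw [he_tmul]
    show ∑ i, (c ⊗ₜ[A] w i : (TensorProduct A A' B)) * f' i = c ⊗ₜ[A] (∑ i, w i * f i)
    rw [TensorProduct.tmul_sum]
    refine Finset.sum_congr rfl fun i _ => ?_
    show (c ⊗ₜ[A] w i : TensorProduct A A' B) * ((1 : A') ⊗ₜ[A] f i) = _
    rw [Algebra.TensorProduct.tmul_mul_tmul, mul_one]
  set ã := e.symm a' with hã
  have h1 : LinearMap.lTensor A' φA ã = 0 := by
    rw [← hψ]
    show ψ (e (e.symm a')) = 0
    rw [LinearEquiv.apply_symm_apply]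
    exact ha'
  have hcomp : LinearMap.lTensor A' φA =
      LinearMap.lTensor A' (J.restrictScalars A).subtype ∘ₗ LinearMap.lTensor A' φ' := by
    rw [← LinearMap.lTensor_comp]
    rfl
  have h2 : LinearMap.lTensor A' φ' ã = 0 := by
    apply hinj
    rw [map_zero, ← LinearMap.comp_apply, ← hcomp, h1]
  obtain ⟨z, hz⟩ := (hexact ã).1 h2
  -- conclude
  have hsingle : ∀ (c : A') (m l : Fin r) (x : B),
      c ⊗ₜ[A] ((Pi.single m x : Fin r → B) l) =
        (c ⊗ₜ[A] (1 : B) : TensorProduct A A' B) *
          ((Pi.single m ((1 : A') ⊗ₜ[A] x) : Fin r → (TensorProduct A A' B)) l) := by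
    intro c m l x
    by_cases hlm : l = m
    · subst hlm
      rw [Pi.single_eq_same, Pi.single_eq_same, Algebra.TensorProduct.tmul_mul_tmul, mul_one,
        one_mul]
    · rw [Pi.single_eq_of_ne hlm, Pi.single_eq_of_ne hlm, TensorProduct.tmul_zero, mul_zero]
  have key : ∀ w ∈ Submodule.span B {v : Fin r → B | ∃ i j : Fin r,
      v = Pi.single i (f j) - Pi.single j (f i)}, ∀ c : A',
      e (c ⊗ₜ[A] w) ∈ Submodule.span (TensorProduct A A' B) triv' := by
    intro w hw'
    induction hw' using Submodule.span_induction with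
    | mem v hv =>
      intro c
      obtain ⟨i, j, rfl⟩ := hv
      rw [he_tmul]
      have : (fun l => c ⊗ₜ[A] (Pi.single i (f j) - Pi.single j (f i) : Fin r → B) l) =
          (c ⊗ₜ[A] (1 : B) : (TensorProduct A A' B)) •
            (Pi.single i (f' j) - Pi.single j (f' i) : Fin r → (TensorProduct A A' B)) := by
        funext l
        simp only [Pi.sub_apply, Pi.smul_apply, smul_eq_mul]
        rw [TensorProduct.tmul_sub, hsingle, hsingle, mul_sub]
      rw [this]
      exact Submodule.smul_mem _ _ (Submodule.subset_span ⟨i, j, rfl⟩)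
    | zero =>
      intro c
      rw [TensorProduct.tmul_zero, map_zero]
      exact Submodule.zero_mem _
    | add x y _ _ hx hy =>
      intro c
      rw [TensorProduct.tmul_add, map_add]
      exact Submodule.add_mem _ (hx c) (hy c)
    | smul b x _ hx =>
      intro c
      have : e (c ⊗ₜ[A] (b • x)) = ((1 : A') ⊗ₜ[A] b : (TensorProduct A A' B)) • e (c ⊗ₜ[A] x) := by
        rw [he_tmul, he_tmul]
        funext l
        simp only [Pi.smul_apply, smul_eq_mul]
        show c ⊗ₜ[A] (b * x l) = ((1 : A') ⊗ₜ[A] b : TensorProduct A A' B) * (c ⊗ₜ[A] x l)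
        rw [Algebra.TensorProduct.tmul_mul_tmul, one_mul]
      rw [this]
      exact Submodule.smul_mem _ _ (hx c)
  have hfin : ∀ z : TensorProduct A A' (LinearMap.ker φ'),
      e (LinearMap.lTensor A' (LinearMap.ker φ').subtype z) ∈ Submodule.span (TensorProduct A A' B) triv' := by
    intro z
    induction z using TensorProduct.induction_on with
    | zero =>
      rw [map_zero, map_zero]
      exact Submodule.zero_mem _
    | tmul c w =>
      rw [LinearMap.lTensor_tmul]
      apply key
      apply hq
      have := w.2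
      rw [LinearMap.mem_ker] at this
      exact congrArg Subtype.val this
    | add x y hx hy =>
      rw [map_add, map_add]
      exact Submodule.add_mem _ hx hy
  have := hfin z
  rw [hz, hã, LinearEquiv.apply_symm_apply] at this
  exact this

end Groth.Agent.S9273
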