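import Groth.Statements.S9275
import Mathlib

set_option autoImplicit false
universe u
open EtAlg

namespace H14E

theorem etale_away_away (A B : Type u) [CommRing A] [CommRing B] [Algebra A B] (g h : B)
    [Algebra.Etale A (Localization.Away h)] :
    Algebra.Etale A (Localization.Away (algebraMap B (Localization.Away g) h)) := by
  let e : Localization.Away (algebraMap B (Localization.Away h) g) ≃ₐ[B]
      Localization.Away (algebraMap B (Localization.Away g) h) :=
    IsLocalization.algEquiv (Submonoid.powers (h * g)) _ _
  exact Algebra.Etale.of_equiv (e.restrictScalars A)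


theorem exists_etale_away (A B : Type u) [CommRing A] [CommRing B]
    [Algebra A B] (J : Ideal B)
    (h : ∀ (q : Ideal B) [q.IsPrime], J ≤ q → ∃ h : B, h ∉ q ∧ Algebra.Etale A (Localization.Away h)) :
    ∃ g : B, IsUnit (Ideal.Quotient.mk J g) ∧ Algebra.Etale A (Localization.Away g) := by
  set T : Set B := {h : B | Algebra.Etale A (Localization.Away h)} with hT
  have htop : Ideal.span T ⊔ J = ⊤ := by
    by_contra hne
    obtain ⟨q, hq, hle⟩ := Ideal.exists_le_maximal _ hne
    haveI := hq.isPrime
    obtain ⟨x, hxq, hx⟩ := h q (le_sup_right.trans hle)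
    exact hxq (hle (Ideal.mem_sup_left (Ideal.subset_span hx)))
  obtain ⟨g, hg, j, hj, hgj⟩ := Submodule.mem_sup.mp ((Ideal.eq_top_iff_one _).mp htop)
  refine ⟨g, ?_, ?_⟩
  · have : Ideal.Quotient.mk J g = 1 := by
      rw [← map_one (Ideal.Quotient.mk J), ← hgj, map_add, Ideal.Quotient.eq_zero_iff_mem.mpr hj,
        add_zero]
    rw [this]
    exact isUnit_one
  · rw [← RingHom.etale_algebraMap]
    apply RingHom.Etale.ofLocalizationSpanTarget (algebraMap A (Localization.Away g))
      (algebraMap B (Localization.Away g) '' T)
    · rw [← Ideal.map_span]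
      exact Ideal.eq_top_of_isUnit_mem _ (Ideal.mem_map_of_mem _ hg)
        (IsLocalization.Away.algebraMap_isUnit g)
    · rintro ⟨_, x, hx, rfl⟩
      haveI : Algebra.Etale A (Localization.Away x) := hx
      have := etale_away_away A B g x
      rw [← RingHom.etale_algebraMap] at this
      rwa [IsScalarTower.algebraMap_eq A (Localization.Away g)] at this

end H14E


namespace Groth.Agent.S9275

/-- Let A → B be a ring map and J an ideal of B such that A → B is étale at every prime of V(J), in the
sense that every prime q ⊇ J has some h ∉ q with A → B_h étale. Then there is g ∈ B mapping to a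
unit of B/J such that A → B_g is étale. -/
theorem result (A B : Type u) [CommRing A] [CommRing B]
    [Algebra A B] (J : Ideal B)
    (h : ∀ (q : Ideal B) [q.IsPrime], J ≤ q → ∃ h : B, h ∉ q ∧ Algebra.Etale A (Localization.Away h)) :
    ∃ g : B, IsUnit (Ideal.Quotient.mk J g) ∧ Algebra.Etale A (Localization.Away g) := by
  exact H14E.exists_etale_away A B J h

end Groth.Agent.S9275
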