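import Groth.Statements.S9278
import Groth.Agent.Lib.helper14.McCoy

set_option autoImplicit false
universe u
open CAlgX

namespace Groth.Agent.S9278

theorem annihilator_eq_bot_iff {R : Type u} [CommRing R] [IsNoetherianRing R] (I : Ideal R) :
    I.annihilator = ⊥ ↔ (I = ⊤ ∨ ∃ a ∈ I, IsRegular a) := by
  constructor
  · intro h
    by_contra hcon
    push Not at hcon
    obtain ⟨_, hreg⟩ := hcon
    have hdisj : Disjoint (I : Set R) (nonZeroDivisors R) := by
      rw [Set.disjoint_left]
      intro a ha hnz
      exact hreg a ha (isRegular_iff_mem_nonZeroDivisors.mpr hnz)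
    have := Ideal.bot_lt_annihilator_of_disjoint_nonZeroDivisors hdisj
    change ⊥ < I.annihilator at this
    rw [h] at this
    exact lt_irrefl _ this
  · intro h
    have h' : ∃ a ∈ I, IsRegular a := by
      rcases h with h | h
      · exact ⟨1, h ▸ Submodule.mem_top, isRegular_one⟩
      · exact h
    obtain ⟨a, ha, hreg⟩ := h'
    rw [eq_bot_iff]
    intro x hx
    rw [Submodule.mem_annihilator] at hx
    have := hx a ha
    rw [smul_eq_mul] at this
    rw [Submodule.mem_bot]
    apply hreg.right
    simp only [zero_mul]
    exact this

/-- Let R be a Noetherian local ring and φ : R^m → R^n a map of finite free modules with matrix M. Then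
φ is injective if and only if the rank of M is m and the determinantal ideal I(M) is the unit ideal
or contains a nonzerodivisor. -/
theorem result (R : Type u) [CommRing R]
    [IsLocalRing R] [IsNoetherianRing R] (m n : ℕ) (M : Matrix (Fin n) (Fin m) R) :
    Function.Injective (Matrix.mulVecLin M) ↔
      CAlgX.matrixRank M = m ∧ (CAlgX.detIdeal M = ⊤ ∨ ∃ a ∈ CAlgX.detIdeal M, IsRegular a) := by
  rw [Groth.Agent.H14.mulVecLin_injective_iff_rank m n M, annihilator_eq_bot_iff]

end Groth.Agent.S9278
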