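import Groth.Statements.S9283
import Mathlib
-- import your own Groth.Agent.* helpers here

set_option autoImplicit false
universe u
open CAlg

namespace Groth.Agent.S9283

/-- Let R be an auto-associated ring, that is, a local ring whose maximal ideal is weakly associated to
R: some nonzero x ∈ R is killed by a power of every element of the maximal ideal. Then every proper
finitely generated ideal of R has a nonzero annihilator. -/
theorem result (R : Type u) [CommRing R] [IsLocalRing R]
    (h : ∃ x : R, x ≠ 0 ∧ ∀ f ∈ IsLocalRing.maximalIdeal R, ∃ n : ℕ, f ^ n * x = 0)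
    (I : Ideal R) (hI : I.FG) (hI' : I ≠ ⊤) : I.annihilator ≠ ⊥ := by
  classical
  obtain ⟨x, hx0, hx⟩ := h
  obtain ⟨s, hs⟩ := hI
  have hsm : ∀ f ∈ s, f ∈ IsLocalRing.maximalIdeal R := by
    intro f hf
    have hfI : f ∈ I := by rw [← hs]; exact Submodule.subset_span hf
    exact (IsLocalRing.le_maximalIdeal hI') hfI
  have key : ∀ t : Finset R, (∀ f ∈ t, f ∈ IsLocalRing.maximalIdeal R) →
      ∃ y : R, y ≠ 0 ∧ (∃ c, y = c * x) ∧ ∀ f ∈ t, f * y = 0 := by
    intro t
    induction t using Finset.induction_on with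
    | empty => intro _; exact ⟨x, hx0, ⟨1, (one_mul x).symm⟩, by simp⟩
    | insert a t _ ih =>
      intro ht
      obtain ⟨y, hy0, ⟨c, hc⟩, hy⟩ := ih (fun f hf => ht f (Finset.mem_insert_of_mem hf))
      have ham : a ∈ IsLocalRing.maximalIdeal R := ht a (Finset.mem_insert_self a t)
      have hex : ∃ n : ℕ, a ^ n * y = 0 := by
        obtain ⟨n, hn⟩ := hx a ham
        exact ⟨n, by rw [hc, ← mul_assoc, mul_comm (a ^ n) c, mul_assoc, hn, mul_zero]⟩
      classical
      let n := Nat.find hex
      have hn : a ^ n * y = 0 := Nat.find_spec hex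
      have hn0 : n ≠ 0 := by
        intro h0
        rw [h0, pow_zero, one_mul] at hn
        exact hy0 hn
      obtain ⟨k, hk⟩ := Nat.exists_eq_succ_of_ne_zero hn0
      have hmin : a ^ k * y ≠ 0 := by
        have : k < n := by omega
        exact Nat.find_min hex this
      refine ⟨a ^ k * y, hmin, ⟨a ^ k * c, by rw [hc]; ring⟩, ?_⟩
      intro f hf
      rcases Finset.mem_insert.mp hf with rfl | hft
      · rw [← mul_assoc, ← pow_succ', ← Nat.succ_eq_add_one, ← hk]; exact hn
      · rw [mul_left_comm, hy f hft, mul_zero]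
  obtain ⟨y, hy0, -, hy⟩ := key s hsm
  intro hbot
  apply hy0
  have : y ∈ I.annihilator := by
    rw [← hs, Submodule.mem_annihilator_span]
    rintro ⟨f, hf⟩
    simpa [mul_comm] using hy f hf
  rw [hbot] at this
  exact this

end Groth.Agent.S9283
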