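import Groth.Statements.S9284
import Groth.Agent.Lib.helper14.PropertyP

set_option autoImplicit false
universe u
open CAlgX

namespace Groth.Agent.S9284

open TensorProduct

/-- Let R be a ring such that every proper finitely generated ideal of R has a nonzero annihilator, and
let u : N → M be an R-linear map between projective R-modules. Then u stays injective after
tensoring with every R-module exactly when u is injective. -/
theorem result (R : Type u) [CommRing R]
    (hP : (∀ I : Ideal R, I.FG → I ≠ ⊤ → I.annihilator ≠ ⊥))
    (N M : Type u) [AddCommGroup N] [Module R N] [Module.Projective R N] [AddCommGroup M]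
    [Module R M] [Module.Projective R M] (u : N →ₗ[R] M) :
    CAlgX.UniversallyInjective R u ↔ Function.Injective u := by
  classical
  constructor
  · intro h x y hxy
    have hR := h R
    have h1 : u.rTensor R (x ⊗ₜ[R] (1 : R)) = u.rTensor R (y ⊗ₜ[R] (1 : R)) := by
      simp [hxy]
    have h2 := congrArg (TensorProduct.rid R N) (hR h1)
    simpa using h2
  · intro hu Q _ _
    obtain ⟨sN, hsN⟩ := Module.projective_def'.mp (inferInstance : Module.Projective R N)
    obtain ⟨sM, hsM⟩ := Module.projective_def'.mp (inferInstance : Module.Projective R M)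
    have hsN' : ∀ n, Finsupp.linearCombination R (id : N → N) (sN n) = n :=
      fun n => LinearMap.congr_fun hsN n
    have hsM' : ∀ m, Finsupp.linearCombination R (id : M → M) (sM m) = m :=
      fun m => LinearMap.congr_fun hsM m
    have hsMinj : Function.Injective sM := fun a b hab => by
      rw [← hsM' a, ← hsM' b, hab]
    let e : ((M →₀ R) × (N →₀ R)) ≃ₗ[R] ((M ⊕ N) →₀ R) :=
      (Finsupp.sumFinsuppLEquivProdFinsupp (M := R) R (α := M) (β := N)).symm
    let ũ : (N →₀ R) →ₗ[R] ((M ⊕ N) →₀ R) :=
      e.toLinearMap ∘ₗ LinearMap.prod (sM ∘ₗ u ∘ₗ Finsupp.linearCombination R (id : N → N))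
        (LinearMap.id - sN ∘ₗ Finsupp.linearCombination R (id : N → N))
    have hũ : Function.Injective ũ := by
      apply e.injective.comp
      rw [← LinearMap.ker_eq_bot, LinearMap.ker_eq_bot']
      intro v hv
      have h1 : sM (u (Finsupp.linearCombination R (id : N → N) v)) = 0 := congrArg Prod.fst hv
      have h2 : v - sN (Finsupp.linearCombination R (id : N → N) v) = 0 := congrArg Prod.snd hv
      have h3 : Finsupp.linearCombination R (id : N → N) v = 0 := by
        apply hu
        apply hsMinj
        rw [h1, map_zero, map_zero]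
      rw [h3, map_zero, sub_zero] at h2
      exact h2
    -- local retractions
    have key : ∀ T : Finset N, ∃ r : M →ₗ[R] N, ∀ n ∈ T, r (u n) = n := by
      intro T
      obtain ⟨rt, hrt⟩ := Groth.Agent.H14.exists_retraction_on_supported hP ũ hũ
        (T.biUnion (fun n => (sN n).support))
      refine ⟨Finsupp.linearCombination R (id : N → N) ∘ₗ rt ∘ₗ e.toLinearMap ∘ₗ
        LinearMap.inl R _ _ ∘ₗ sM, fun n hn => ?_⟩
      have h1 : ũ (sN n) = e (sM (u n), 0) := by
        show e (sM (u (Finsupp.linearCombination R (id : N → N) (sN n))),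
          sN n - sN (Finsupp.linearCombination R (id : N → N) (sN n))) = _
        rw [hsN', sub_self]
      show Finsupp.linearCombination R (id : N → N) (rt (e (sM (u n), 0))) = n
      rw [← h1, hrt (sN n) (Finset.subset_biUnion_of_mem (fun n => (sN n).support) hn), hsN']
    rw [injective_iff_map_eq_zero]
    intro x hx
    obtain ⟨S, rfl⟩ := TensorProduct.exists_finset x
    obtain ⟨r, hr⟩ := key (S.image Prod.fst)
    have h1 : (r.rTensor Q) ((u.rTensor Q) (S.sum fun i => i.1 ⊗ₜ[R] i.2)) =
        S.sum fun i => i.1 ⊗ₜ[R] i.2 := by
      rw [map_sum, map_sum]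
      apply Finset.sum_congr rfl
      intro i hi
      rw [LinearMap.rTensor_tmul, LinearMap.rTensor_tmul,
        hr i.1 (Finset.mem_image_of_mem Prod.fst hi)]
    rw [← h1, hx, map_zero]

end Groth.Agent.S9284
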