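import Groth.Statements.S9285
import Mathlib
-- import your own Groth.Agent.* helpers here

set_option autoImplicit false
universe u
open CAlg

namespace Groth.Agent.S9285

/-- A ring R has the property that every proper finitely generated ideal has a nonzero annihilator if
and only if every injective linear map R → R^n admits a retraction. -/
theorem result (R : Type u) [CommRing R] :
    (∀ I : Ideal R, I.FG → I ≠ ⊤ → I.annihilator ≠ ⊥) ↔
      ∀ (n : ℕ) (u : R →ₗ[R] (Fin n → R)), Function.Injective u →
        ∃ v : (Fin n → R) →ₗ[R] R, v.comp u = LinearMap.id := by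
  classical
  constructor
  · intro h n u hu
    let a : Fin n → R := u 1
    have hua : ∀ r : R, u r = r • a := by
      intro r
      have : u r = u (r • (1 : R)) := by simp
      rw [this, map_smul]
    have hann : (Ideal.span (Set.range a)).annihilator = ⊥ := by
      rw [eq_bot_iff]
      intro r hr
      rw [Submodule.mem_annihilator_span] at hr
      have : u r = 0 := by
        rw [hua r]
        funext i
        have := hr ⟨a i, Set.mem_range_self i⟩
        simpa using this
      have hr0 : r = 0 := hu (by rw [this, map_zero])
      simp [hr0]
    have hfg : (Ideal.span (Set.range a)).FG := ⟨(Finset.univ.image a), by simp⟩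
    have htop : Ideal.span (Set.range a) = ⊤ := by
      by_contra hne
      exact h _ hfg hne hann
    have h1 : (1 : R) ∈ Ideal.span (Set.range a) := by rw [htop]; trivial
    rw [Ideal.mem_span_range_iff_exists_fun] at h1
    obtain ⟨b, hb⟩ := h1
    refine ⟨∑ i, (b i) • (LinearMap.proj i : (Fin n → R) →ₗ[R] R), ?_⟩
    apply LinearMap.ext_ring
    simp only [LinearMap.comp_apply, LinearMap.id_apply, LinearMap.sum_apply, LinearMap.smul_apply,
      LinearMap.proj_apply, smul_eq_mul]
    exact hb
  · intro h I hI hItop hann
    obtain ⟨n, a, ha⟩ := Submodule.fg_iff_exists_fin_generating_family.mp hI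
    let u : R →ₗ[R] (Fin n → R) := LinearMap.toSpanSingleton R (Fin n → R) a
    have hu : Function.Injective u := by
      rw [injective_iff_map_eq_zero]
      intro r hr
      have hr' : r ∈ I.annihilator := by
        rw [← ha, Submodule.mem_annihilator_span]
        rintro ⟨_, i, rfl⟩
        have := congrFun hr i
        simpa [u] using this
      rw [hann] at hr'
      exact hr'
    obtain ⟨v, hv⟩ := h n u hu
    apply hItop
    rw [Ideal.eq_top_iff_one, ← ha]
    have h1 : v (u 1) = 1 := by
      have := congrArg (fun g => g 1) hv
      simpa using this
    have hu1 : u 1 = ∑ i, a i • (Pi.single i (1 : R) : Fin n → R) := by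
      funext k
      simp [u, Finset.sum_apply, Pi.single_apply]
    rw [hu1, map_sum] at h1
    rw [← h1]
    refine Ideal.sum_mem _ (fun i _ => ?_)
    rw [map_smul, smul_eq_mul]
    exact Ideal.mul_mem_right _ _ (Ideal.subset_span (Set.mem_range_self i))

end Groth.Agent.S9285
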