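import Groth.Statements.S9286
import Groth.Agent.Lib.helper14.McCoy

set_option autoImplicit false
universe u
open CAlg

namespace Groth.Agent.S9286

open Matrix in
/-- A matrix whose ideal of maximal minors is the unit ideal has a left inverse. -/
theorem exists_leftInverse_of_minorIdeal_eq_top {R : Type u} [CommRing R] (m n : ℕ)
    (A : Matrix (Fin n) (Fin m) R) (h : CAlgX.minorIdeal A m = ⊤) :
    ∃ L : Matrix (Fin m) (Fin n) R, L * A = 1 := by
  -- the ideal of all `d` with `d • 1` in the left ideal generated by `A`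
  let J : Ideal R :=
    { carrier := {d | ∃ L : Matrix (Fin m) (Fin n) R, L * A = d • (1 : Matrix (Fin m) (Fin m) R)}
      add_mem' := by
        rintro a b ⟨L₁, h₁⟩ ⟨L₂, h₂⟩
        exact ⟨L₁ + L₂, by rw [Matrix.add_mul, h₁, h₂, add_smul]⟩
      zero_mem' := ⟨0, by simp⟩
      smul_mem' := by
        rintro c d ⟨L, hL⟩
        exact ⟨c • L, by rw [Matrix.smul_mul, hL, smul_smul, smul_eq_mul]⟩ }
  have hJ : CAlgX.minorIdeal A m ≤ J := by
    unfold CAlgX.minorIdeal
    rw [Ideal.span_le]
    rintro _ ⟨⟨f, g⟩, rfl⟩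
    show ∃ L : Matrix (Fin m) (Fin n) R, L * A = (A.submatrix f g).det • (1 : Matrix (Fin m) (Fin m) R)
    by_cases hg : Function.Injective g
    · have hbij : Function.Bijective g := (Finite.injective_iff_bijective).mp hg
      let σ : Fin m ≃ Fin m := Equiv.ofBijective g hbij
      set N := A.submatrix f g with hN
      have hN' : A.submatrix f id = N.submatrix id σ.symm := by
        ext i j
        have : g (σ.symm j) = j := Equiv.ofBijective_apply_symm_apply g hbij j
        simp [hN, this]
      refine ⟨N.adjugate.submatrix σ.symm id * (1 : Matrix (Fin n) (Fin n) R).submatrix f id, ?_⟩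
      rw [Matrix.mul_assoc]
      have h1 : (1 : Matrix (Fin n) (Fin n) R).submatrix f id * A = A.submatrix f id := by
        have := Matrix.one_submatrix_mul (α := R) f (Equiv.refl (Fin n)) A
        simpa using this
      rw [h1, hN']
      have h2 := Matrix.submatrix_mul_equiv N.adjugate N σ.symm (Equiv.refl (Fin m)) σ.symm
      simp only [Equiv.coe_refl] at h2
      rw [h2, Matrix.adjugate_mul, Matrix.submatrix_smul]
      simp [hN]
    · rw [Function.Injective] at hg
      push Not at hg
      obtain ⟨i, j', hij, hne⟩ := hg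
      refine ⟨0, ?_⟩
      rw [Matrix.det_zero_of_column_eq hne, zero_smul, Matrix.zero_mul]
      intro k
      simp [hij]
  have h1 : (1 : R) ∈ J := hJ (h ▸ Submodule.mem_top)
  obtain ⟨L, hL⟩ := h1
  exact ⟨L, by rw [hL, one_smul]⟩

/-- Under property (P), an injective map of finite free modules has a left inverse. -/
theorem exists_leftInverse_of_injective {R : Type u} [CommRing R]
    (hP : (∀ I : Ideal R, I.FG → I ≠ ⊤ → I.annihilator ≠ ⊥)) (m n : ℕ)
    (φ : (Fin m → R) →ₗ[R] (Fin n → R)) (hφ : Function.Injective φ) :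
    ∃ ψ : (Fin n → R) →ₗ[R] (Fin m → R), ψ ∘ₗ φ = LinearMap.id := by
  set A : Matrix (Fin n) (Fin m) R := LinearMap.toMatrix' φ with hA
  have hAφ : A.mulVecLin = φ := by
    rw [← Matrix.toLin'_apply', hA, Matrix.toLin'_toMatrix']
  have hinj : Function.Injective A.mulVecLin := by rw [hAφ]; exact hφ
  have hann := (Groth.Agent.H14.mulVecLin_injective_iff_annihilator_minorIdeal m n A).mp hinj
  have hfg : (CAlgX.minorIdeal A m).FG := by
    unfold CAlgX.minorIdeal
    exact Submodule.fg_span (Set.finite_range _)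
  have htop : CAlgX.minorIdeal A m = ⊤ := by
    by_contra hne
    exact hP _ hfg hne hann
  obtain ⟨L, hL⟩ := exists_leftInverse_of_minorIdeal_eq_top m n A htop
  refine ⟨L.mulVecLin, ?_⟩
  rw [← hAφ, ← Matrix.mulVecLin_mul, hL, Matrix.mulVecLin_one]

/-- Let R be a ring in which every proper finitely generated ideal has a nonzero annihilator. Given an
injective R-linear map u : N → M, where both N and M are finite and projective over R, the quotient
Coker(u) = M/u(N) is again projective as an R-module. -/
theorem result (R : Type u) [CommRing R]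
    (hP : (∀ I : Ideal R, I.FG → I ≠ ⊤ → I.annihilator ≠ ⊥))
    (N M : Type u) [AddCommGroup N] [Module R N] [Module.Finite R N] [Module.Projective R N]
    [AddCommGroup M] [Module R M] [Module.Finite R M] [Module.Projective R M]
    (u : N →ₗ[R] M) (hu : Function.Injective u) :
    Module.Projective R (M ⧸ LinearMap.range u) := by
  obtain ⟨n, fN, gN, -, -, hN⟩ := Module.Finite.exists_comp_eq_id_of_projective R N
  obtain ⟨m, fM, gM, -, hgM, hM⟩ := Module.Finite.exists_comp_eq_id_of_projective R M
  have hN' : ∀ x, fN (gN x) = x := fun x => LinearMap.congr_fun hN x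
  -- the auxiliary injective map of free modules
  let e : ((Fin m → R) × (Fin n → R)) ≃ₗ[R] (Fin (m + n) → R) :=
    (LinearEquiv.sumArrowLequivProdArrow (Fin m) (Fin n) R R).symm ≪≫ₗ
      LinearEquiv.funCongrLeft R R finSumFinEquiv.symm
  let ũ : (Fin n → R) →ₗ[R] ((Fin m → R) × (Fin n → R)) :=
    LinearMap.prod (gM ∘ₗ u ∘ₗ fN) (LinearMap.id - gN ∘ₗ fN)
  have hũ : Function.Injective ũ := by
    rw [← LinearMap.ker_eq_bot, LinearMap.ker_eq_bot']
    intro v hv
    have h1 : gM (u (fN v)) = 0 := congrArg Prod.fst hv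
    have h2 : v - gN (fN v) = 0 := congrArg Prod.snd hv
    have h3 : fN v = 0 := by
      apply hu
      apply hgM
      rw [h1, map_zero, map_zero]
    rw [h3, map_zero, sub_zero] at h2
    exact h2
  obtain ⟨ψ, hψ⟩ := exists_leftInverse_of_injective hP n (m + n) (e.toLinearMap ∘ₗ ũ)
    (e.injective.comp hũ)
  have hψ' : ∀ v, ψ (e (ũ v)) = v := fun v => LinearMap.congr_fun hψ v
  -- the retraction of `u`
  let r : M →ₗ[R] N := fN ∘ₗ ψ ∘ₗ e.toLinearMap ∘ₗ LinearMap.inl R _ _ ∘ₗ gM
  have hr : ∀ x, r (u x) = x := by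
    intro x
    have h1 : ũ (gN x) = (gM (u x), 0) := by
      show (gM (u (fN (gN x))), gN x - gN (fN (gN x))) = _
      rw [hN', sub_self]
    show fN (ψ (e (gM (u x), 0))) = x
    rw [← h1, hψ', hN']
  -- the splitting of the quotient map
  let i : (M ⧸ LinearMap.range u) →ₗ[R] M :=
    (LinearMap.range u).liftQ (LinearMap.id - u ∘ₗ r) (by
      rintro _ ⟨x, rfl⟩
      simp [hr])
  refine Module.Projective.of_split i (LinearMap.range u).mkQ ?_
  ext y
  show Submodule.Quotient.mk (y - u (r y)) = Submodule.Quotient.mk y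
  rw [Submodule.Quotient.mk_sub, sub_eq_self, Submodule.Quotient.mk_eq_zero]
  exact ⟨r y, rfl⟩

end Groth.Agent.S9286
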