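import Groth.Statements.S9292
import Groth.Agent.Lib.helper3.EtaleLift

set_option autoImplicit false
universe u
open EtAlg

namespace Groth.Agent.S9292

open Groth.Agent.Lib.helper3.EtaleLift

/-- Let A be a ring, I an ideal, and e_1, ..., e_n a complete system of orthogonal idempotents of A/I
(equivalently a finite disjoint open covering of Spec(A/I)). Then one can find an A-algebra A' that
is étale over A, such that the induced map A/I → A'/IA' is bijective, together with a complete
system of orthogonal idempotents of A' lifting the e_j. -/
theorem result (A : Type u) [CommRing A] (I : Ideal A)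
    (n : ℕ) (e : Fin n → A ⧸ I) (he : CompleteOrthogonalIdempotents e) :
    ∃ (A' : Type u) (_ : CommRing A') (_ : Algebra A A'), Algebra.Etale A A' ∧
      Function.Bijective (Ideal.quotientMap (Ideal.map (algebraMap A A') I) (algebraMap A A')
        Ideal.le_comap_map) ∧
      ∃ e' : Fin n → A', CompleteOrthogonalIdempotents e' ∧
        ∀ j, Ideal.Quotient.mk (Ideal.map (algebraMap A A') I) (e' j) =
          Ideal.quotientMap (Ideal.map (algebraMap A A') I) (algebraMap A A') Ideal.le_comap_map
            (e j) := by
  classical
  let φ : (Fin n → A) →ₐ[A] A ⧸ I :=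
    { toFun := fun x => ∑ j, Ideal.Quotient.mk I (x j) * e j
      map_one' := by simp [he.complete]
      map_mul' := fun x y => by
        simp only [Pi.mul_apply, map_mul]
        rw [Finset.sum_mul_sum]
        apply Finset.sum_congr rfl
        intro i _
        have : ∀ j, Ideal.Quotient.mk I (x i) * e i * (Ideal.Quotient.mk I (y j) * e j) =
            if i = j then Ideal.Quotient.mk I (x i) * Ideal.Quotient.mk I (y j) * e i else 0 := by
          intro j
          have h := he.toOrthogonalIdempotents.mul_eq i j
          split_ifs with hij
          · rw [if_pos hij] at h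
            calc Ideal.Quotient.mk I (x i) * e i * (Ideal.Quotient.mk I (y j) * e j)
                = Ideal.Quotient.mk I (x i) * Ideal.Quotient.mk I (y j) * (e i * e j) := by ring
              _ = _ := by rw [h]
          · rw [if_neg hij] at h
            calc Ideal.Quotient.mk I (x i) * e i * (Ideal.Quotient.mk I (y j) * e j)
                = Ideal.Quotient.mk I (x i) * Ideal.Quotient.mk I (y j) * (e i * e j) := by ring
              _ = 0 := by rw [h, mul_zero]
        simp only [this, Finset.sum_ite_eq, Finset.mem_univ, if_true]
      map_zero' := by simp
      map_add' := fun x y => by simp [add_mul, Finset.sum_add_distrib]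
      commutes' := fun r => by
        simp only [Pi.algebraMap_apply, Algebra.algebraMap_self, RingHom.id_apply,
          ← Finset.mul_sum, he.complete, mul_one]
        rfl }
  have hφ : ∀ j, φ (Pi.single j 1) = e j := by
    intro j
    show ∑ k, Ideal.Quotient.mk I ((Pi.single j (1 : A) : Fin n → A) k) * e k = e j
    rw [Finset.sum_eq_single j]
    · simp
    · intro k _ hk
      rw [Pi.single_eq_of_ne hk, map_zero, zero_mul]
    · intro h; exact absurd (Finset.mem_univ j) h
  obtain ⟨A', _, _, hE, ψ, φ', hcomp, hker⟩ := exists_etale_section I (Fin n → A) φ
  obtain ⟨hbij, hcompat⟩ := bijective_of_ker_eq I A' φ' hker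
  refine ⟨A', inferInstance, inferInstance, hE, hbij,
    fun j => ψ (Pi.single j 1), ?_, ?_⟩
  · exact (CompleteOrthogonalIdempotents.single (fun _ : Fin n => A)).map ψ.toRingHom
  · intro j
    have h1 := hcompat (ψ (Pi.single j 1))
    have h2 : φ' (ψ (Pi.single j 1)) = e j := by
      rw [← AlgHom.comp_apply, hcomp, hφ]
    rw [h2] at h1
    exact h1.symm

end Groth.Agent.S9292
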