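import Groth.Statements.S9293
import Groth.Agent.Lib.helper25.GeomReg5

set_option autoImplicit false
universe u
open CAlg

namespace Groth.Agent.S9293

/-- If R → Λ is a regular ring map and R' is an R-algebra of finite type, then R' → R' ⊗_R Λ is again
regular. -/
theorem result (R Λ R' : Type u) [CommRing R] [CommRing Λ] [CommRing R']
    [Algebra R Λ] [Algebra R R'] [Algebra.FiniteType R R'] (h : CAlg.IsRegularHom R Λ) :
    CAlg.IsRegularHom R' (TensorProduct R R' Λ) := by
  open TensorProduct Groth.Agent.Lib.helper25.GeomReg in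
  obtain ⟨hflat, hfib⟩ := h
  haveI := hflat
  refine ⟨inferInstance, fun p' _ => ?_⟩
  letI := resAlg R R' p'
  haveI := resTower R R' p'
  obtain ⟨hN, hR⟩ := hfib (p'.comap (algebraMap R R'))
  have hft' : Algebra.FiniteType R Λ ∨
      Algebra.EssFiniteType (p'.comap (algebraMap R R')).ResidueField p'.ResidueField :=
    Or.inr (resEssFiniteType R R' p')
  obtain ⟨hN', hR'⟩ := fiber_baseChange R Λ _ p'.ResidueField hft' hN hR
  let e : p'.ResidueField ⊗[R'] (R' ⊗[R] Λ) ≃ₐ[p'.ResidueField] p'.ResidueField ⊗[R] Λ :=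
    Algebra.TensorProduct.cancelBaseChange R R' p'.ResidueField p'.ResidueField Λ
  exact ⟨isNoetherianRing_of_ringEquiv _ e.symm.toRingEquiv,
    geomReg_of_algEquiv _ _ _ e.symm hR'⟩

end Groth.Agent.S9293
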