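import Groth.Statements.S9297
import Groth.Agent.Lib.helper9.Equidim
import Groth.Agent.Lib.helper9.FlatDepth2
import Groth.Agent.Lib.helper9.Depth4

set_option autoImplicit false
universe u
open EGA4

namespace Groth.Agent.S9297


open Groth.Agent.Lib.helper9 Groth.Agent.Lib.helper9.Depth in
/-- if all quotients by minimal primes have dimension `≤ c`, so has the ring. -/
lemma ringKrullDim_le_of_minimal {R : Type u} [CommRing R] (c : WithBot ℕ∞)
    (h : ∀ P ∈ minimalPrimes R, ringKrullDim (R ⧸ P) ≤ c) : ringKrullDim R ≤ c := by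
  rw [ringKrullDim, Order.krullDim_eq_iSup_coheight]
  refine iSup_le fun x => ?_
  obtain ⟨P, hP, hPx⟩ := Ideal.exists_minimalPrimes_le (I := (⊥ : Ideal R)) (J := x.asIdeal) bot_le
  have : P.IsPrime := hP.1.1
  have h1 := h P hP
  rw [ringKrullDim_quotient_eq_coheight ⟨P, hP.1.1⟩] at h1
  refine le_trans ?_ h1
  have : Order.coheight x ≤ Order.coheight (⟨P, hP.1.1⟩ : PrimeSpectrum R) :=
    Order.coheight_anti (show (⟨P, hP.1.1⟩ : PrimeSpectrum R) ≤ x from hPx)
  exact_mod_cast this

/-- Let A → B be a flat local homomorphism of Noetherian local rings with B catenary and Spec(B)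
equidimensional. Then Spec(B/pB) is equidimensional for every prime p of A. -/
theorem result (A B : Type u) [CommRing A] [CommRing B]
    [IsNoetherianRing A] [IsNoetherianRing B] [IsLocalRing A] [IsLocalRing B] [Algebra A B]
    [IsLocalHom (algebraMap A B)] [Module.Flat A B] (hcat : CAlg.IsCatenary B) (heq : EGA4.IsEquidim B)
    (p : Ideal A) [p.IsPrime] : EGA4.IsEquidim (B ⧸ Ideal.map (algebraMap A B) p) := by
  classical
  set I : Ideal B := Ideal.map (algebraMap A B) p with hI
  have hsurj : Function.Surjective (Ideal.Quotient.mk I) := Ideal.Quotient.mk_surjective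
  -- key: for a minimal prime `Q'` of `B ⧸ I`, `dim (B ⧸ I) ⧸ Q' + ht p = dim B`
  have key : ∀ Q' ∈ minimalPrimes (B ⧸ I),
      ringKrullDim ((B ⧸ I) ⧸ Q') + ((p.height : ℕ∞) : WithBot ℕ∞) = ringKrullDim B := by
    intro Q' hQ'
    have hQ'p : Q'.IsPrime := hQ'.1.1
    set Q : Ideal B := Q'.comap (Ideal.Quotient.mk I) with hQ
    have hQp : Q.IsPrime := Ideal.comap_isPrime _ _
    have hIQ : I ≤ Q := by
      intro x hx
      rw [hQ, Ideal.mem_comap, Ideal.Quotient.eq_zero_iff_mem.mpr hx]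
      exact Q'.zero_mem
    have hQmin : Q ∈ I.minimalPrimes := by
      have h1 := Ideal.comap_minimalPrimes_eq_of_surjective hsurj (⊥ : Ideal (B ⧸ I))
      have h2 : (⊥ : Ideal (B ⧸ I)).comap (Ideal.Quotient.mk I) = I := by
        rw [← RingHom.ker_eq_comap_bot, Ideal.mk_ker]
      rw [h2] at h1
      rw [h1]
      exact ⟨Q', hQ', rfl⟩
    have hmap : Q.map (Ideal.Quotient.mk I) = Q' := Ideal.map_comap_of_surjective _ hsurj Q'
    -- the quotient
    have e : ((B ⧸ I) ⧸ Q') ≃+* (B ⧸ Q) := by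
      rw [← hmap]
      exact DoubleQuot.quotQuotEquivQuotOfLE hIQ
    rw [ringKrullDim_eq_of_ringEquiv e]
    -- contraction of Q is p
    have hunder : Q.under A = p := by
      have hle : p ≤ Q.under A := by
        intro a ha
        rw [Ideal.under_def, Ideal.mem_comap]
        exact hIQ (Ideal.mem_map_of_mem _ ha)
      have : Q.LiesOver (Q.under A) := ⟨rfl⟩
      obtain ⟨P, hPQ, hPp, hPover⟩ := Ideal.exists_ideal_le_liesOver_of_le (p := p)
        (q := Q.under A) Q hle
      have hIP : I ≤ P := by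
        rw [hI, Ideal.map_le_iff_le_comap]
        rw [hPover.over]
      have := hQmin.2 ⟨hPp, hIP⟩ hPQ
      have hPQ' : P = Q := le_antisymm hPQ this
      rw [← hPQ']
      exact hPover.over.symm
    have hQmin' : Q ∈ ((Q.under A).map (algebraMap A B)).minimalPrimes := by
      rw [hunder]; exact hQmin
    have hht : Q.height = p.height := by
      rw [Groth.Agent.Lib.helper9.FlatDepth.height_eq_of_flat_minimal Q hQmin', hunder]
    have h1 := Groth.Agent.Lib.helper9.Equidim.height_add_coheight_eq hcat heq ⟨Q, hQp⟩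
    rw [← PrimeSpectrum.height_eq_orderHeight] at h1
    change (((Q.height + Order.coheight (⟨Q, hQp⟩ : PrimeSpectrum B) : ℕ∞)) : WithBot ℕ∞) = _ at h1
    rw [hht] at h1
    rw [Groth.Agent.Lib.helper9.Depth.ringKrullDim_quotient_eq_coheight ⟨Q, hQp⟩, ← h1, add_comm]
    push_cast
    rfl
  have hpfin : p.height ≠ ⊤ := Ideal.height_ne_top (Ideal.IsPrime.ne_top inferInstance)
  intro Q' hQ'
  refine le_antisymm (ringKrullDim_quotient_le _) ?_
  refine ringKrullDim_le_of_minimal _ fun P hP => ?_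
  have h1 := key Q' hQ'
  have h2 := key P hP
  have h3 : ringKrullDim ((B ⧸ I) ⧸ P) + ((p.height : ℕ∞) : WithBot ℕ∞) =
      ringKrullDim ((B ⧸ I) ⧸ Q') + ((p.height : ℕ∞) : WithBot ℕ∞) := h2.trans h1.symm
  obtain ⟨n, hn⟩ : ∃ n : ℕ, p.height = n := ⟨_, (ENat.natCast_toNat hpfin).symm⟩
  rw [hn] at h3
  have h4 : ((n : ℕ∞) : WithBot ℕ∞) = ((n : ℕ) : WithBot ℕ∞) := rfl
  rw [h4] at h3
  exact le_of_eq (ENat.WithBot.add_natCast_cancel.mp h3)

end Groth.Agent.S9297
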