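import Groth.Statements.S9300
import Mathlib

set_option autoImplicit false
universe u
open CAlg

namespace Groth.Agent.S9300

/-- Let A and B be domains and A → B a ring map for which the generic point of Spec(A) has a unique
preimage in Spec(B). Then every nonzero ideal of B has nonzero preimage in A. -/
theorem result (A B : Type u) [CommRing A] [IsDomain A]
    [CommRing B] [IsDomain B] (φ : A →+* B)
    (h : ∃! q : PrimeSpectrum B, Ideal.comap φ q.asIdeal = ⊥) (J : Ideal B) (hJ : J ≠ ⊥) :
    Ideal.comap φ J ≠ ⊥ := by
  intro hcon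
  obtain ⟨q0, hq0, huniq⟩ := h
  -- `φ` is injective
  have hinj : Function.Injective φ := by
    rw [injective_iff_map_eq_zero]
    intro a ha
    have : a ∈ Ideal.comap φ J := by
      rw [Ideal.mem_comap, ha]; exact J.zero_mem
    rw [hcon] at this
    exact (Submodule.mem_bot A).mp this
  -- the zero ideal of `B` is a prime over zero
  have hbot : (⊥ : PrimeSpectrum B) = q0 := by
    apply huniq
    rw [eq_bot_iff]
    intro a ha
    rw [Ideal.mem_comap] at ha
    have : φ a = 0 := by simpa using ha
    rw [Submodule.mem_bot]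
    exact hinj (by rw [this, map_zero])
  -- multiplicative set
  let M : Submonoid B := (nonZeroDivisors A).map φ
  have hdisj : Disjoint (J : Set B) (M : Set B) := by
    rw [Set.disjoint_left]
    rintro _ hb ⟨a, ha, rfl⟩
    have : a ∈ Ideal.comap φ J := hb
    rw [hcon] at this
    have h0 : a = 0 := (Submodule.mem_bot A).mp this
    exact (nonZeroDivisors.ne_zero ha) h0
  obtain ⟨p, hp, hJp, hpM⟩ := Ideal.exists_le_prime_disjoint J M hdisj
  have hpq : (⟨p, hp⟩ : PrimeSpectrum B) = q0 := by
    apply huniq
    rw [eq_bot_iff]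
    intro a ha
    rw [Submodule.mem_bot]
    by_contra ha0
    rw [Set.disjoint_left] at hpM
    exact hpM ha ⟨a, mem_nonZeroDivisors_of_ne_zero ha0, rfl⟩
  have : p = ⊥ := by
    have := congrArg PrimeSpectrum.asIdeal (hpq.trans hbot.symm)
    simpa using this
  apply hJ
  rw [eq_bot_iff]
  exact this ▸ hJp

end Groth.Agent.S9300
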