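import Groth.Statements.S9301
import Mathlib

set_option autoImplicit false
universe u
open CAlg

namespace Groth.Agent.S9301

/-- Let A and B be domains and A → B a flat ring map which is the localization of a quasi-finite ring
map A → B₀ (of finite type with finite fibres). Then every nonzero ideal of B has nonzero preimage
in A. -/
theorem result (A B₀ B : Type u) [CommRing A] [IsDomain A]
    [CommRing B₀] [CommRing B] [IsDomain B] [Algebra A B₀] [Algebra.FiniteType A B₀]
    [Algebra.QuasiFinite A B₀] (S : Submonoid B₀) [Algebra B₀ B] [IsLocalization S B] [Algebra A B]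
    [IsScalarTower A B₀ B] [Module.Flat A B] (J : Ideal B) (hJ : J ≠ ⊥) :
    Ideal.comap (algebraMap A B) J ≠ ⊥ := by
  intro hcomap
  haveI : Algebra.QuasiFinite A B := Algebra.QuasiFinite.of_isLocalization (R := A) (S := B₀) S
  -- `A → B` is injective
  have hinj : Function.Injective (algebraMap A B) := by
    rw [injective_iff_map_eq_zero]
    intro a ha
    by_contra hne
    have hreg : IsSMulRegular B a :=
      Module.IsTorsionFree.isSMulRegular (isRegular_of_ne_zero hne)
    have : (1 : B) = 0 := by
      apply hreg
      show a • (1 : B) = a • (0 : B)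
      rw [smul_zero, Algebra.smul_def, mul_one, ha]
    exact one_ne_zero this
  -- a prime containing `J` and disjoint from the nonzero elements of `A`
  have hdisj : Disjoint (J : Set B) (Submonoid.map (algebraMap A B) (nonZeroDivisors A)) := by
    rw [Set.disjoint_left]
    rintro x hx ⟨a, ha, rfl⟩
    have h0 : a ∈ Ideal.comap (algebraMap A B) J := hx
    rw [hcomap] at h0
    exact nonZeroDivisors.ne_zero ha ((Submodule.mem_bot A).mp h0)
  obtain ⟨P, hP, hJP, hPdisj⟩ := Ideal.exists_le_prime_disjoint J _ hdisj
  have hPu : P.under A = ⊥ := by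
    rw [eq_bot_iff]
    intro a ha
    by_contra hne
    have hne' : a ≠ 0 := fun h => hne (by rw [h]; exact Submodule.zero_mem _)
    exact Set.disjoint_left.mp hPdisj ha ⟨a, mem_nonZeroDivisors_of_ne_zero hne', rfl⟩
  have hbu : (⊥ : Ideal B).under A = ⊥ := by
    rw [eq_bot_iff]
    intro a ha
    have : algebraMap A B a = 0 := ha
    exact (Submodule.mem_bot A).mpr (hinj (by rw [this, map_zero]))
  haveI : (⊥ : Ideal B).IsPrime := Ideal.isPrime_bot
  have := Algebra.QuasiFinite.eq_of_le_of_under_eq (R := A) (⊥ : Ideal B) P bot_le
    (by rw [hPu, hbu])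
  apply hJ
  rw [eq_bot_iff, this]
  exact hJP

end Groth.Agent.S9301
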