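import Groth.Statements.S9302
import Groth.Agent.Lib.lead.Hensel

set_option autoImplicit false
universe u
open CategoryTheory
open EtAlg

namespace Groth.Agent.S9302

open Polynomial Groth.Agent.Lib.lead.Hensel

section
variable {J : Type u} [Preorder J] (F : J ⥤ CommRingCat.{u})

theorem limit_ext' (x y : ((Limits.limit F : CommRingCat.{u}) : Type u))
    (h : ∀ j, (Limits.limit.π F j).hom x = (Limits.limit.π F j).hom y) : x = y :=
  Limits.Concrete.limit_ext F x y h

theorem exists_of_compatible (s : ∀ j, F.obj j)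
    (hs : ∀ (i j : J) (φ : i ⟶ j), (F.map φ).hom (s i) = s j) :
    ∃ x : ((Limits.limit F : CommRingCat.{u}) : Type u), ∀ j, (Limits.limit.π F j).hom x = s j := by
  let t := Limits.isLimitOfPreserves (forget CommRingCat) (Limits.limit.isLimit F)
  let sec : (F ⋙ forget CommRingCat).sections := ⟨fun j => s j, fun {i j} φ => hs i j φ⟩
  refine ⟨(Limits.Types.isLimitEquivSections t).symm sec, fun j => ?_⟩
  exact Limits.Types.isLimitEquivSections_symm_apply t sec j

theorem π_comp (i j : J) (φ : i ⟶ j) (x : ((Limits.limit F : CommRingCat.{u}) : Type u)) :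
    (F.map φ).hom ((Limits.limit.π F i).hom x) = (Limits.limit.π F j).hom x := by
  have := Limits.limit.w F φ
  rw [← this]
  rfl

theorem isUnit_of_forall (a : ((Limits.limit F : CommRingCat.{u}) : Type u))
    (h : ∀ j, IsUnit ((Limits.limit.π F j).hom a)) : IsUnit a := by
  obtain ⟨v, hv⟩ := exists_of_compatible F (fun j => ((h j).unit⁻¹ : (F.obj j)ˣ).val) (by
    intro i j φ
    have h1 : (Limits.limit.π F j).hom a * (F.map φ).hom ((h i).unit⁻¹ : (F.obj i)ˣ).val = 1 := by
      rw [← π_comp F i j φ, ← map_mul]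
      have : (Limits.limit.π F i).hom a * ((h i).unit⁻¹ : (F.obj i)ˣ).val = 1 :=
        (h i).mul_val_inv
      rw [this, map_one]
    have h2 : ((h j).unit⁻¹ : (F.obj j)ˣ).val * (Limits.limit.π F j).hom a = 1 :=
      (h j).val_inv_mul
    calc (F.map φ).hom ((h i).unit⁻¹ : (F.obj i)ˣ).val
        = (((h j).unit⁻¹ : (F.obj j)ˣ).val * (Limits.limit.π F j).hom a) *
            (F.map φ).hom ((h i).unit⁻¹ : (F.obj i)ˣ).val := by rw [h2, one_mul]
      _ = ((h j).unit⁻¹ : (F.obj j)ˣ).val := by rw [mul_assoc, h1, mul_one])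
  refine IsUnit.of_mul_eq_one v ?_
  apply limit_ext'
  intro j
  rw [map_mul, hv, map_one]
  exact (h j).mul_val_inv

end

/-- uniqueness of Hensel lifts -/
theorem root_unique {A : Type*} [CommRing A] (I : Ideal A) (hI : I ≤ Ideal.jacobson ⊥)
    (f : A[X]) (a₀ r r' : A) (hu : IsUnit (Ideal.Quotient.mk I (f.derivative.eval a₀)))
    (hr : f.eval r = 0) (hr' : f.eval r' = 0) (h : r - a₀ ∈ I) (h' : r' - a₀ ∈ I) : r = r' := by
  have h1 : Ideal.Quotient.mk I (f.derivative.eval r) = Ideal.Quotient.mk I (f.derivative.eval a₀) := by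
    rw [Ideal.Quotient.eq]
    obtain ⟨c, hc⟩ := sub_dvd_eval_sub r a₀ f.derivative
    rw [hc]
    exact I.mul_mem_right _ h
  have hu' : IsUnit (f.derivative.eval r) := by
    apply isUnit_of_isUnit_mk I hI
    rw [h1]; exact hu
  have h2 : r' - r ∈ Ideal.jacobson (⊥ : Ideal A) := by
    apply hI
    have : r' - r = (r' - a₀) - (r - a₀) := by ring
    rw [this]
    exact I.sub_mem h' h
  have := sub_mem_of_root (⊥ : Ideal A) f r r' hr hu' h2 (by rw [hr']; exact Submodule.zero_mem _)
  have h3 : r' - r = 0 := (Submodule.mem_bot A).mp this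
  exact (sub_eq_zero.mp h3).symm

/-- Henselian pairs are preserved under limits: for an inverse system (A_j, I_j) of henselian pairs over
a preordered set J, the limit A = lim A_j with the ideal I = lim I_j (elements all of whose
projections lie in the I_j) is a henselian pair. -/
theorem result (J : Type u) [Preorder J] (F : J ⥤ CommRingCat.{u})
    (I : ∀ j : J, Ideal (F.obj j))
    (hI : ∀ (i j : J) (φ : i ⟶ j), Ideal.map (F.map φ).hom (I i) ≤ I j)
    (h : ∀ j : J, HenselianRing (F.obj j) (I j)) :
    HenselianRing ((Limits.limit F : CommRingCat.{u}) : Type u)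
      (⨅ j : J, Ideal.comap (Limits.limit.π F j).hom (I j)) := by
  have hmem : ∀ x : ((Limits.limit F : CommRingCat.{u}) : Type u),
      x ∈ (⨅ j : J, Ideal.comap (Limits.limit.π F j).hom (I j)) ↔
        ∀ j, (Limits.limit.π F j).hom x ∈ I j := by
    intro x
    simp only [Ideal.mem_iInf, Ideal.mem_comap]
  refine ⟨?_, ?_⟩
  · intro x hx
    rw [Ideal.mem_jacobson_bot]
    intro y
    apply isUnit_of_forall
    intro j
    rw [map_add, map_mul, map_one]
    have hxj : (Limits.limit.π F j).hom x ∈ Ideal.jacobson (⊥ : Ideal (F.obj j)) :=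
      (h j).jac ((hmem x).mp hx j)
    exact Ideal.mem_jacobson_bot.mp hxj _
  · intro f hf a₀ hfa hu
    -- the data at each stage
    have hroot : ∀ j, ∃ a : F.obj j, (f.map (Limits.limit.π F j).hom).IsRoot a ∧
        a - (Limits.limit.π F j).hom a₀ ∈ I j := by
      intro j
      refine (h j).is_henselian (f.map (Limits.limit.π F j).hom) (hf.map _) _ ?_ ?_
      · rw [Polynomial.eval_map_apply]
        exact (hmem _).mp hfa j
      · rw [Polynomial.derivative_map, Polynomial.eval_map_apply]
        have hle : (⨅ j : J, Ideal.comap (Limits.limit.π F j).hom (I j)) ≤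
            Ideal.comap (Limits.limit.π F j).hom (I j) := iInf_le _ j
        have := hu.map (Ideal.quotientMap (I j) (Limits.limit.π F j).hom hle)
        rwa [Ideal.quotientMap_mk] at this
    choose a ha1 ha2 using hroot
    have huj : ∀ j, IsUnit (Ideal.Quotient.mk (I j)
        ((f.map (Limits.limit.π F j).hom).derivative.eval ((Limits.limit.π F j).hom a₀))) := by
      intro j
      rw [Polynomial.derivative_map, Polynomial.eval_map_apply]
      have hle : (⨅ j : J, Ideal.comap (Limits.limit.π F j).hom (I j)) ≤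
          Ideal.comap (Limits.limit.π F j).hom (I j) := iInf_le _ j
      have := hu.map (Ideal.quotientMap (I j) (Limits.limit.π F j).hom hle)
      rwa [Ideal.quotientMap_mk] at this
    have hmapf : ∀ (i j : J) (φ : i ⟶ j),
        (f.map (Limits.limit.π F i).hom).map (F.map φ).hom = f.map (Limits.limit.π F j).hom := by
      intro i j φ
      rw [Polynomial.map_map]
      congr 1
      ext x
      exact π_comp F i j φ x
    obtain ⟨b, hb⟩ := exists_of_compatible F a (by
      intro i j φ
      apply root_unique (I j) (h j).jac (f.map (Limits.limit.π F j).hom)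
        ((Limits.limit.π F j).hom a₀) _ _ (huj j) ?_ (ha1 j) ?_ (ha2 j)
      · rw [← hmapf i j φ, Polynomial.eval_map_apply]
        have : (f.map (Limits.limit.π F i).hom).eval (a i) = 0 := ha1 i
        rw [this, map_zero]
      · rw [← π_comp F i j φ, ← map_sub]
        exact hI i j φ (Ideal.mem_map_of_mem _ (ha2 i)))
    refine ⟨b, ?_, ?_⟩
    · show f.eval b = 0
      apply limit_ext'
      intro j
      rw [map_zero, ← Polynomial.eval_map_apply, hb]
      exact ha1 j
    · rw [hmem]
      intro j
      rw [map_sub, hb]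
      exact ha2 j

end Groth.Agent.S9302
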