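import Groth.Statements.S9310
import Mathlib
import Groth.Agent.Lib.helper20.FormalIFT2

set_option autoImplicit false
universe u
open CAlg

namespace Groth.Agent.S9310

/-- Let K be a field, A = K[[x_1, ..., x_n]], and y_1, ..., y_n ∈ A a regular system of parameters (n
elements generating the maximal ideal). Then the substitution map K[[y_1, ..., y_n]] → A is an
isomorphism: f ↦ f(y_1, ..., y_n) is a bijection of K[[x_1, ..., x_n]] onto itself. -/
theorem result (K : Type u) [Field K] (n : ℕ)
    (y : Fin n → MvPowerSeries (Fin n) K)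
    (hy : Ideal.span (Set.range y) = IsLocalRing.maximalIdeal (MvPowerSeries (Fin n) K)) :
    Function.Bijective (MvPowerSeries.subst y : MvPowerSeries (Fin n) K → MvPowerSeries (Fin n) K) := by
  classical
  have hmem : ∀ f : MvPowerSeries (Fin n) K,
      f ∈ IsLocalRing.maximalIdeal (MvPowerSeries (Fin n) K) ↔
        MvPowerSeries.constantCoeff f = 0 := by
    intro f
    rw [IsLocalRing.mem_maximalIdeal, mem_nonunits_iff, MvPowerSeries.isUnit_iff_constantCoeff,
      isUnit_iff_ne_zero, not_not]
  apply Groth.Agent.Lib.helper20.FormalIFT.bijective_subst_of_span (⊥ : Ideal K) bot_le y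
  · intro i
    rw [← hmem, ← hy]
    exact Ideal.subset_span (Set.mem_range_self i)
  · intro k
    have hk : (MvPowerSeries.X k : MvPowerSeries (Fin n) K) ∈ Ideal.span (Set.range y) := by
      rw [hy, hmem]; exact MvPowerSeries.constantCoeff_X k
    obtain ⟨c, hc⟩ := Ideal.mem_span_range_iff_exists_fun.mp hk
    refine ⟨c, 0, fun j => by rw [map_zero]; exact zero_mem _, ?_⟩
    rw [zero_add, ← hc]

end Groth.Agent.S9310
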