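import Groth.Statements.S9311
import Mathlib
import Groth.Agent.Lib.helper20.FormalIFT2

set_option autoImplicit false
universe u
open CAlg

namespace Groth.Agent.S9311

/-- Let Λ be a Cohen ring (a complete discrete valuation ring whose maximal ideal is generated by a
prime number p), B = Λ[[x_1, ..., x_n]], and y_1, ..., y_n ∈ B with zero constant terms such that p,
y_1, ..., y_n is a regular system of parameters of B (these n + 1 elements generate the maximal
ideal). Then the substitution map Λ[[y_1, ..., y_n]] → B is an isomorphism: f ↦ f(y_1, ..., y_n) is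
a bijection of Λ[[x_1, ..., x_n]] onto itself. (The published statement allows the y_i to have
constant terms in pΛ, the substitution being defined through the (p, x)-adic topology of B; this row
asks the constant terms to vanish, the case in which substitution is defined coefficientwise with no
topology on Λ.) -/
theorem result (Λ : Type u) [CommRing Λ] [IsDomain Λ]
    [IsDiscreteValuationRing Λ] [IsAdicComplete (IsLocalRing.maximalIdeal Λ) Λ] (p : ℕ) (hp : p.Prime)
    (hm : IsLocalRing.maximalIdeal Λ = Ideal.span {(p : Λ)}) (n : ℕ)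
    (y : Fin n → MvPowerSeries (Fin n) Λ) (hy0 : ∀ i, MvPowerSeries.constantCoeff (y i) = 0)
    (hy : Ideal.span (insert (p : MvPowerSeries (Fin n) Λ) (Set.range y)) =
      IsLocalRing.maximalIdeal (MvPowerSeries (Fin n) Λ)) :
    Function.Bijective (MvPowerSeries.subst y : MvPowerSeries (Fin n) Λ → MvPowerSeries (Fin n) Λ) := by
  classical
  have hmemX : ∀ k, (MvPowerSeries.X k : MvPowerSeries (Fin n) Λ) ∈
      IsLocalRing.maximalIdeal (MvPowerSeries (Fin n) Λ) := by
    intro k
    rw [IsLocalRing.mem_maximalIdeal, mem_nonunits_iff, MvPowerSeries.isUnit_iff_constantCoeff,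
      MvPowerSeries.constantCoeff_X]
    exact not_isUnit_zero
  apply Groth.Agent.Lib.helper20.FormalIFT.bijective_subst_of_span (IsLocalRing.maximalIdeal Λ)
    (le_of_eq (IsLocalRing.jacobson_eq_maximalIdeal ⊥ bot_ne_top).symm) y hy0
  intro k
  have hk := hmemX k
  rw [← hy, Ideal.mem_span_insert] at hk
  obtain ⟨a, z, hz, hkz⟩ := hk
  obtain ⟨c, hc⟩ := Ideal.mem_span_range_iff_exists_fun.mp hz
  refine ⟨c, a * (p : MvPowerSeries (Fin n) Λ), fun j => ?_, ?_⟩
  · rw [← map_natCast (MvPowerSeries.C (σ := Fin n) (R := Λ)) p, MvPowerSeries.coeff_mul_C, hm]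
    exact Ideal.mul_mem_left _ _ (Ideal.mem_span_singleton_self _)
  · rw [hkz, ← hc]

end Groth.Agent.S9311
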