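import Groth.Statements.S9315
import Mathlib
import Groth.Agent.Lib.helper14.FibProd


set_option autoImplicit false
universe u
open CAlg

namespace H14S9315
open IsLocalRing H14.FibProd

theorem forward {R S : Type u} [CommRing R] [CommRing S]
    [IsLocalRing R] [IsLocalRing S] [Algebra R S]
    (hS : CAlgX.IsAdicFormallySmooth R S (maximalIdeal S))
    (A : Type u) [CommRing A] [IsLocalRing A] [Algebra R A]
    (J : Ideal A) (hJ : J ^ 2 = ⊥) (hn : ∃ n : ℕ, maximalIdeal A ^ n = ⊥)
    [IsLocalRing (A ⧸ J)] (ψ : S →ₐ[R] A ⧸ J) [IsLocalHom ψ.toRingHom] :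
    ∃ χ : S →ₐ[R] A, (Ideal.Quotient.mkₐ R J).comp χ = ψ := by
  obtain ⟨n, hn⟩ := hn
  apply hS A J hJ ψ
  refine ⟨n, ?_⟩
  have h1 : maximalIdeal S ≤ ((maximalIdeal A).map (Ideal.Quotient.mk J)).comap ψ.toRingHom := by
    intro s hs
    rw [Ideal.mem_comap]
    obtain ⟨a, ha⟩ := Ideal.Quotient.mk_surjective (ψ.toRingHom s)
    rw [← ha]
    apply Ideal.mem_map_of_mem
    rw [mem_maximalIdeal]
    intro hu
    have h2 : IsUnit (ψ.toRingHom s) := by rw [← ha]; exact hu.map _
    exact (mem_maximalIdeal s).mp hs (isUnit_of_map_unit ψ.toRingHom s h2)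
  have h2 : maximalIdeal S ^ n ≤ (⊥ : Ideal (A ⧸ J)).comap ψ.toRingHom := by
    calc maximalIdeal S ^ n ≤ (((maximalIdeal A).map (Ideal.Quotient.mk J)).comap ψ.toRingHom) ^ n :=
          Ideal.pow_right_mono h1 n
      _ ≤ (((maximalIdeal A).map (Ideal.Quotient.mk J)) ^ n).comap ψ.toRingHom :=
          Ideal.le_comap_pow _ n
      _ = (⊥ : Ideal (A ⧸ J)).comap ψ.toRingHom := by
          rw [← Ideal.map_pow, hn, Ideal.map_bot]
  intro x hx
  have := h2 hx
  simpa using this

theorem backward {R S : Type u} [CommRing R] [CommRing S]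
    [IsLocalRing R] [IsLocalRing S] [Algebra R S] [IsLocalHom (algebraMap R S)]
    (H : ∀ (A : Type u) [CommRing A] [IsLocalRing A] [Algebra R A] [IsLocalHom (algebraMap R A)]
        (J : Ideal A), J ^ 2 = ⊥ → (∃ n : ℕ, maximalIdeal A ^ n = ⊥) →
        ∀ [IsLocalRing (A ⧸ J)] (ψ : S →ₐ[R] A ⧸ J) [IsLocalHom ψ.toRingHom],
          Function.Bijective (ResidueField.map ψ.toRingHom) →
          ∃ χ : S →ₐ[R] A, (Ideal.Quotient.mkₐ R J).comp χ = ψ) :
    CAlgX.IsAdicFormallySmooth R S (maximalIdeal S) := by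
  classical
  intro A _ _ J hJ ψ hψ
  obtain ⟨k0, hk0⟩ := hψ
  -- increase `k` so that it is positive
  let k := k0 + 1
  have hk : ∀ x ∈ maximalIdeal S ^ k, ψ x = 0 := fun x hx =>
    hk0 x (Ideal.pow_le_pow_right (Nat.le_succ k0) hx)
  have hne : maximalIdeal S ^ k ≠ ⊤ := by
    intro h
    have : maximalIdeal S ^ k ≤ maximalIdeal S := Ideal.pow_le_self (Nat.succ_ne_zero k0)
    rw [h, top_le_iff] at this
    exact (maximalIdeal.isMaximal S).ne_top this
  let B := S ⧸ maximalIdeal S ^ k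
  haveI : Nontrivial B := Ideal.Quotient.nontrivial_iff.mpr hne
  haveI : IsLocalRing B := IsLocalRing.of_surjective' (Ideal.Quotient.mk _) Ideal.Quotient.mk_surjective
  let f : A →ₐ[R] A ⧸ J := Ideal.Quotient.mkₐ R J
  let g : B →ₐ[R] A ⧸ J := Ideal.Quotient.liftₐ (maximalIdeal S ^ k) ψ hk
  have hg : ∀ s : S, g (Ideal.Quotient.mk _ s) = ψ s := fun s => rfl
  have hfsurj : Function.Surjective f := Ideal.Quotient.mk_surjective
  have hfker : RingHom.ker f ^ 2 = ⊥ := by
    have : RingHom.ker f = J := by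
      ext x
      rw [RingHom.mem_ker]
      exact Ideal.Quotient.eq_zero_iff_mem
    rw [this, hJ]
  let p2 : P f g →ₐ[R] B := pr2 f g
  have hp2 : Function.Surjective p2 := pr2_surjective f g hfsurj
  have hker2 : RingHom.ker p2.toRingHom ^ 2 = ⊥ := ker_pr2_sq f g hfker
  haveI hloc2 : IsLocalHom p2.toRingHom := isLocalHom_of_ker_sq p2.toRingHom hp2 hker2
  haveI hP : IsLocalRing (P f g) := RingHom.domain_isLocalRing p2.toRingHom
  haveI hmk : IsLocalHom (Ideal.Quotient.mk (maximalIdeal S ^ k)) := isLocalHom_mk _ hne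
  haveI hRP : IsLocalHom (algebraMap R (P f g)) := by
    refine ⟨fun r hr => ?_⟩
    have h1 : IsUnit (p2 (algebraMap R (P f g) r)) := hr.map p2
    rw [p2.commutes] at h1
    have h2 : IsUnit (Ideal.Quotient.mk (maximalIdeal S ^ k) (algebraMap R S r)) := h1
    have h3 := isUnit_of_map_unit (Ideal.Quotient.mk (maximalIdeal S ^ k)) _ h2
    exact isUnit_of_map_unit (algebraMap R S) r h3
  let J' : Ideal (P f g) := RingHom.ker p2
  have hJ' : J' ^ 2 = ⊥ := hker2
  -- nilpotency of the maximal ideal of `P`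
  have hmB : maximalIdeal B ^ k = ⊥ := by
    have h1 := maximalIdeal_le_map (Ideal.Quotient.mk (maximalIdeal S ^ k)) Ideal.Quotient.mk_surjective
    rw [eq_bot_iff]
    calc maximalIdeal B ^ k ≤ ((maximalIdeal S).map (Ideal.Quotient.mk (maximalIdeal S ^ k))) ^ k :=
          Ideal.pow_right_mono h1 k
      _ = ⊥ := by rw [← Ideal.map_pow, Ideal.map_quotient_self]
  have hmP : maximalIdeal (P f g) ^ (k + k) = ⊥ := by
    have h1 : maximalIdeal (P f g) ≤ (maximalIdeal B).comap p2.toRingHom := by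
      intro x hx
      rw [Ideal.mem_comap, mem_maximalIdeal]
      intro hu
      exact (mem_maximalIdeal x).mp hx (isUnit_of_map_unit p2.toRingHom x hu)
    have h2 : maximalIdeal (P f g) ^ k ≤ J' := by
      calc maximalIdeal (P f g) ^ k ≤ ((maximalIdeal B).comap p2.toRingHom) ^ k :=
            Ideal.pow_right_mono h1 k
        _ ≤ ((maximalIdeal B) ^ k).comap p2.toRingHom := Ideal.le_comap_pow _ k
        _ = J' := by rw [hmB]; rfl
    apply le_bot_iff.mp
    calc maximalIdeal (P f g) ^ (k + k) = maximalIdeal (P f g) ^ k * maximalIdeal (P f g) ^ k :=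
          pow_add _ k k
      _ ≤ J' * J' := Ideal.mul_mono h2 h2
      _ = J' ^ 2 := (pow_two J').symm
      _ = ⊥ := hJ'
  -- the quotient `P / J' ≅ B`
  let ε : (P f g ⧸ J') ≃ₐ[R] B := Ideal.quotientKerAlgEquivOfSurjective hp2
  haveI : Nontrivial (P f g ⧸ J') := ε.toEquiv.nontrivial
  haveI : IsLocalRing (P f g ⧸ J') :=
    IsLocalRing.of_surjective' (Ideal.Quotient.mk J') Ideal.Quotient.mk_surjective
  let ψP : S →ₐ[R] P f g ⧸ J' := (ε.symm : B →ₐ[R] P f g ⧸ J').comp (Ideal.Quotient.mkₐ R _)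
  have hψP : ∀ s, ε (ψP s) = Ideal.Quotient.mk _ s := by
    intro s
    change ε (ε.symm (Ideal.Quotient.mk _ s)) = _
    rw [AlgEquiv.apply_symm_apply]
  have hψPsurj : Function.Surjective ψP := by
    intro y
    obtain ⟨s, hs⟩ := Ideal.Quotient.mk_surjective (ε y)
    refine ⟨s, ?_⟩
    apply ε.injective
    rw [hψP, hs]
  haveI : IsLocalHom ψP.toRingHom := by
    refine ⟨fun s hs => ?_⟩
    have h1 : IsUnit (ε (ψP s)) := hs.map ε
    rw [hψP] at h1
    exact isUnit_of_map_unit (Ideal.Quotient.mk (maximalIdeal S ^ k)) _ h1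
  have hbij : Function.Bijective (ResidueField.map (R := S) (S := P f g ⧸ J') ψP.toRingHom) := by
    refine ⟨(ResidueField.map (R := S) (S := P f g ⧸ J') ψP.toRingHom).injective, ?_⟩
    intro x
    obtain ⟨y, rfl⟩ := IsLocalRing.residue_surjective x
    obtain ⟨s, rfl⟩ := hψPsurj y
    exact ⟨IsLocalRing.residue S s, ResidueField.map_residue _ _⟩
  obtain ⟨χP, hχP⟩ := H (P f g) J' hJ' ⟨k + k, hmP⟩ ψP hbij
  refine ⟨(pr1 f g).comp χP, ?_⟩
  ext s
  have h1 : p2 (χP s) = Ideal.Quotient.mk _ s := by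
    have := congrArg (fun φ => ε (φ s)) hχP
    simp only [AlgHom.comp_apply] at this
    rw [hψP] at this
    rw [← this]
    rfl
  have h2 := comm f g (χP s)
  change f (pr1 f g (χP s)) = ψ s
  rw [h2, ← hg s, ← h1]

end H14S9315

namespace Groth.Agent.S9315

open IsLocalRing in
/-- Let `R → S` be a local homomorphism of local rings (no Noetherian hypothesis). Then `R → S` is
formally smooth for the adic topology of the maximal ideal of `S` if and only if the following
lifting property holds: for every local ring `A` with a local structure map `R → A`, every ideal `J`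
of `A` of square zero such that some power of the maximal ideal of `A` is zero, and every local
`R`-algebra homomorphism `ψ : S → A/J` inducing a bijection on residue fields, there is an
`R`-algebra homomorphism `S → A` lifting `ψ`. -/
theorem result {R S : Type u} [CommRing R] [CommRing S]
    [IsLocalRing R] [IsLocalRing S] [Algebra R S] [IsLocalHom (algebraMap R S)] :
    CAlgX.IsAdicFormallySmooth R S (maximalIdeal S) ↔
      ∀ (A : Type u) [CommRing A] [IsLocalRing A] [Algebra R A] [IsLocalHom (algebraMap R A)]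
        (J : Ideal A), J ^ 2 = ⊥ → (∃ n : ℕ, maximalIdeal A ^ n = ⊥) →
        ∀ [IsLocalRing (A ⧸ J)] (ψ : S →ₐ[R] A ⧸ J) [IsLocalHom ψ.toRingHom],
          Function.Bijective (ResidueField.map ψ.toRingHom) →
          ∃ χ : S →ₐ[R] A, (Ideal.Quotient.mkₐ R J).comp χ = ψ := by
  constructor
  · intro hS A _ _ _ _ J hJ hn _ ψ _ _
    exact H14S9315.forward hS A J hJ hn ψ
  · intro H
    exact H14S9315.backward H

end Groth.Agent.S9315
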