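import Groth.Statements.S9317
import Mathlib
import Groth.Agent.Lib.helper14.FibProd
import Groth.Agent.S9318


set_option autoImplicit false
universe u
open CAlg

namespace H14S9317
open H14.FibProd

variable {R : Type u} [CommRing R] (𝔪 : Ideal R)

/-- every element of the completion is an element of `R` plus an element of a high power -/
lemma exists_sub_mem (h𝔪 : 𝔪.FG) (N : ℕ) (z : AdicCompletion 𝔪 R) :
    ∃ r : R, z - algebraMap R (AdicCompletion 𝔪 R) r ∈
      (𝔪.map (algebraMap R (AdicCompletion 𝔪 R))) ^ N := by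
  obtain ⟨r, hr⟩ := Ideal.Quotient.mk_surjective (AdicCompletion.evalₐ 𝔪 N z)
  refine ⟨r, ?_⟩
  apply H14S9318.mem_of_evalₐ_eq_zero 𝔪 h𝔪 N
  rw [map_sub, AlgHom.commutes, ← hr]
  simp

/-- two ring homs out of the completion agreeing on `R` and killing a power of `𝔪 R^` agree -/
lemma ringHom_ext_of_kill {B : Type*} [CommRing B] (h𝔪 : 𝔪.FG) (N : ℕ)
    (α β : AdicCompletion 𝔪 R →+* B)
    (hαβ : ∀ r : R, α (algebraMap R _ r) = β (algebraMap R _ r))
    (hα : ∀ z ∈ (𝔪.map (algebraMap R (AdicCompletion 𝔪 R))) ^ N, α z = 0)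
    (hβ : ∀ z ∈ (𝔪.map (algebraMap R (AdicCompletion 𝔪 R))) ^ N, β z = 0) : α = β := by
  ext z
  obtain ⟨r, hr⟩ := exists_sub_mem 𝔪 h𝔪 N z
  have h1 := hα _ hr
  have h2 := hβ _ hr
  rw [map_sub, sub_eq_zero] at h1 h2
  rw [h1, h2, hαβ]

section
variable {T : Type u} [CommRing T] [Algebra R T] [Algebra (AdicCompletion 𝔪 R) T]
  [IsScalarTower R (AdicCompletion 𝔪 R) T] (𝔮 : Ideal T)

include 𝔪 in
lemma map_pow_le (c k : ℕ) (hc : (𝔪 ^ c).map (algebraMap R T) ≤ 𝔮) :
    ((𝔪.map (algebraMap R (AdicCompletion 𝔪 R))) ^ (c * k)).map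
      (algebraMap (AdicCompletion 𝔪 R) T) ≤ 𝔮 ^ k := by
  rw [← Ideal.map_pow, Ideal.map_map, ← IsScalarTower.algebraMap_eq, pow_mul, Ideal.map_pow]
  exact Ideal.pow_right_mono hc k

/-- forward direction: `R → T` smooth implies `R^ → T` smooth -/
theorem forward (h𝔪 : 𝔪.FG) (hc : ∃ c : ℕ, (𝔪 ^ c).map (algebraMap R T) ≤ 𝔮)
    (hS : CAlgX.IsAdicFormallySmooth R T 𝔮) :
    CAlgX.IsAdicFormallySmooth (AdicCompletion 𝔪 R) T 𝔮 := by
  classical
  obtain ⟨c, hc⟩ := hc
  intro A _ _ J hJ ψ hψ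
  obtain ⟨k, hk⟩ := hψ
  letI : Algebra R A := Algebra.compHom A (algebraMap R (AdicCompletion 𝔪 R))
  haveI : IsScalarTower R (AdicCompletion 𝔪 R) A := IsScalarTower.of_algebraMap_eq (fun r => rfl)
  haveI : IsScalarTower R (AdicCompletion 𝔪 R) (A ⧸ J) :=
    IsScalarTower.of_algebraMap_eq (fun r => rfl)
  obtain ⟨χ, hχ⟩ := hS A J hJ (ψ.restrictScalars R) ⟨k, hk⟩
  have hχ' : ∀ t, Ideal.Quotient.mk J (χ t) = ψ t := by
    intro t
    have := congrArg (fun φ => φ t) hχ
    simpa using this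
  let ι : R →+* AdicCompletion 𝔪 R := algebraMap R (AdicCompletion 𝔪 R)
  let α : AdicCompletion 𝔪 R →+* A := χ.toRingHom.comp (algebraMap (AdicCompletion 𝔪 R) T)
  let β : AdicCompletion 𝔪 R →+* A := algebraMap (AdicCompletion 𝔪 R) A
  have hα : ∀ z, α z = χ (algebraMap (AdicCompletion 𝔪 R) T z) := fun z => rfl
  have hαβR : ∀ r : R, α (ι r) = β (ι r) := by
    intro r
    rw [hα]
    change χ (algebraMap (AdicCompletion 𝔪 R) T (algebraMap R _ r)) = algebraMap _ A (algebraMap R _ r)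
    rw [← IsScalarTower.algebraMap_apply R (AdicCompletion 𝔪 R) T,
      ← IsScalarTower.algebraMap_apply R (AdicCompletion 𝔪 R) A, χ.commutes]
  have hmk : ∀ z, Ideal.Quotient.mk J (α z) = Ideal.Quotient.mk J (β z) := by
    intro z
    rw [hα, hχ', ψ.commutes]
    rfl
  have hD : ∀ z, α z - β z ∈ J := by
    intro z
    rw [← Ideal.Quotient.eq]
    exact hmk z
  -- `β` sends a high power into `J`
  have hβJ : ∀ z ∈ (𝔪.map ι) ^ (c * k), β z ∈ J := by
    intro z hz
    rw [← Ideal.Quotient.eq_zero_iff_mem]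
    have h1 : Ideal.Quotient.mk J (β z) = ψ (algebraMap _ T z) := by
      rw [ψ.commutes]; rfl
    rw [h1]
    apply hk
    exact map_pow_le 𝔪 𝔮 c k hc (Ideal.mem_map_of_mem _ hz)
  have hJmul : ∀ x ∈ J, ∀ y ∈ J, x * y = 0 := by
    intro x hx y hy
    have : x * y ∈ J ^ 2 := by rw [pow_two]; exact Ideal.mul_mem_mul hx hy
    rw [hJ] at this
    simpa using this
  -- the difference vanishes on products of two elements of the high power
  have hDprod : ∀ w ∈ (𝔪.map ι) ^ (c * k) * (𝔪.map ι) ^ (c * k), α w = β w := by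
    intro w hw
    refine Submodule.mul_induction_on hw ?_ ?_
    · intro u hu v hv
      have hu' := hβJ u hu
      have hv' := hβJ v hv
      have e1 : α u = β u + (α u - β u) := by ring
      have e2 : α v = β v + (α v - β v) := by ring
      rw [map_mul, map_mul, e1, e2]
      have z1 := hJmul _ hu' _ (hD v)
      have z2 := hJmul _ (hD u) _ hv'
      have z3 := hJmul _ (hD u) _ (hD v)
      have z4 := hJmul _ hu' _ hv'
      calc (β u + (α u - β u)) * (β v + (α v - β v))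
          = β u * β v + β u * (α v - β v) + (α u - β u) * β v + (α u - β u) * (α v - β v) := by ring
        _ = β u * β v := by rw [z1, z2, z3]; ring
    · intro x y hx hy
      rw [map_add, map_add, hx, hy]
  have hαβ : ∀ z, α z = β z := by
    intro z
    obtain ⟨r, hr⟩ := exists_sub_mem 𝔪 h𝔪 (c * k + c * k) z
    rw [pow_add] at hr
    have h1 := hDprod _ hr
    rw [map_sub, map_sub] at h1
    have h2 := hαβR r
    have : α z = α z - α (ι r) + α (ι r) := by ring
    rw [this, h1, h2]; ring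
  refine ⟨{ χ.toRingHom with commutes' := fun z => hαβ z }, ?_⟩
  ext t
  exact hχ' t

/-- backward direction: `R^ → T` smooth implies `R → T` smooth -/
theorem backward (h𝔪 : 𝔪.FG) (hc : ∃ c : ℕ, (𝔪 ^ c).map (algebraMap R T) ≤ 𝔮)
    (hS : CAlgX.IsAdicFormallySmooth (AdicCompletion 𝔪 R) T 𝔮) :
    CAlgX.IsAdicFormallySmooth R T 𝔮 := by
  classical
  obtain ⟨c, hc⟩ := hc
  intro A _ _ J hJ ψ hψ
  obtain ⟨k, hk⟩ := hψ
  let ι : R →+* AdicCompletion 𝔪 R := algebraMap R (AdicCompletion 𝔪 R)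
  let B := T ⧸ 𝔮 ^ k
  let f : A →ₐ[R] A ⧸ J := Ideal.Quotient.mkₐ R J
  let g : B →ₐ[R] A ⧸ J := Ideal.Quotient.liftₐ (𝔮 ^ k) ψ hk
  have hg : ∀ t : T, g (Ideal.Quotient.mk _ t) = ψ t := fun t => rfl
  have hfsurj : Function.Surjective f := Ideal.Quotient.mk_surjective
  have hfkerJ : RingHom.ker f = J := by
    ext x
    rw [RingHom.mem_ker]
    exact Ideal.Quotient.eq_zero_iff_mem
  have hfker : RingHom.ker f ^ 2 = ⊥ := by rw [hfkerJ, hJ]
  let p2 : P f g →ₐ[R] B := pr2 f g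
  have hp2 : Function.Surjective p2 := pr2_surjective f g hfsurj
  have hker2 : RingHom.ker p2.toRingHom ^ 2 = ⊥ := ker_pr2_sq f g hfker
  let N := c * k
  -- `R → P` kills `𝔪 ^ (N + N)`
  have hRT : ∀ r ∈ 𝔪 ^ N, Ideal.Quotient.mk (𝔮 ^ k) (algebraMap R T r) = 0 := by
    intro r hr
    rw [Ideal.Quotient.eq_zero_iff_mem]
    have h1 : algebraMap R T r ∈ (𝔪 ^ N).map (algebraMap R T) := Ideal.mem_map_of_mem _ hr
    rw [pow_mul, Ideal.map_pow] at h1
    exact Ideal.pow_right_mono hc k h1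
  have hkill1 : ∀ r ∈ 𝔪 ^ N, algebraMap R (P f g) r ∈ RingHom.ker p2.toRingHom := by
    intro r hr
    rw [RingHom.mem_ker]
    change p2 (algebraMap R (P f g) r) = 0
    rw [p2.commutes]
    exact hRT r hr
  have hkill : ∀ r ∈ 𝔪 ^ (N + N), algebraMap R (P f g) r = 0 := by
    intro r hr
    rw [pow_add] at hr
    refine Submodule.mul_induction_on hr ?_ ?_
    · intro u hu v hv
      have : algebraMap R (P f g) u * algebraMap R (P f g) v ∈ RingHom.ker p2.toRingHom ^ 2 := by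
        rw [pow_two]; exact Ideal.mul_mem_mul (hkill1 u hu) (hkill1 v hv)
      rw [hker2] at this
      rw [map_mul]; simpa using this
    · intro x y hx hy
      rw [map_add, hx, hy, add_zero]
  let γ0 : R ⧸ 𝔪 ^ (N + N) →+* P f g := Ideal.Quotient.lift _ (algebraMap R (P f g)) hkill
  let γ : AdicCompletion 𝔪 R →+* P f g := γ0.comp (AdicCompletion.evalₐ 𝔪 (N + N)).toRingHom
  have hγι : ∀ r : R, γ (ι r) = algebraMap R (P f g) r := by
    intro r
    change γ0 (AdicCompletion.evalₐ 𝔪 (N + N) (algebraMap R _ r)) = _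
    rw [AlgHom.commutes]
    simp [γ0]
  have hγkill : ∀ z ∈ (𝔪.map ι) ^ (N + N), γ z = 0 := by
    intro z hz
    change γ0 (AdicCompletion.evalₐ 𝔪 (N + N) z) = 0
    rw [H14S9318.evalₐ_eq_zero_of_mem 𝔪 (N + N) z hz, map_zero]
  letI algP : Algebra (AdicCompletion 𝔪 R) (P f g) := γ.toAlgebra
  haveI : IsScalarTower R (AdicCompletion 𝔪 R) (P f g) :=
    IsScalarTower.of_algebraMap_eq (fun r => (hγι r).symm)
  let J' : Ideal (P f g) := RingHom.ker p2
  have hJ' : J' ^ 2 = ⊥ := hker2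
  let ε : (P f g ⧸ J') ≃ₐ[R] B := Ideal.quotientKerAlgEquivOfSurjective hp2
  have hεmk : ∀ x : P f g, ε (Ideal.Quotient.mk J' x) = p2 x := fun x => rfl
  -- the `R^`-algebra map `T → P/J'`
  let ψP0 : T →ₐ[R] P f g ⧸ J' := (ε.symm : B →ₐ[R] P f g ⧸ J').comp (Ideal.Quotient.mkₐ R _)
  have hψP0 : ∀ t, ε (ψP0 t) = Ideal.Quotient.mk _ t := by
    intro t
    change ε (ε.symm (Ideal.Quotient.mk _ t)) = _
    rw [AlgEquiv.apply_symm_apply]
  have hcomm : ∀ z : AdicCompletion 𝔪 R,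
      ψP0 (algebraMap _ T z) = algebraMap _ (P f g ⧸ J') z := by
    intro z
    apply ε.injective
    rw [hψP0]
    change _ = ε (Ideal.Quotient.mk J' (γ z))
    rw [hεmk]
    -- compare two ring homs `R^ → B`
    let a1 : AdicCompletion 𝔪 R →+* B :=
      (Ideal.Quotient.mk (𝔮 ^ k)).comp (algebraMap (AdicCompletion 𝔪 R) T)
    let a2 : AdicCompletion 𝔪 R →+* B := p2.toRingHom.comp γ
    have h12 : a1 = a2 := by
      apply ringHom_ext_of_kill 𝔪 h𝔪 (N + N)
      · intro r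
        change Ideal.Quotient.mk (𝔮 ^ k) (algebraMap _ T (algebraMap R _ r)) = p2 (γ (ι r))
        rw [hγι, p2.commutes, ← IsScalarTower.algebraMap_apply R (AdicCompletion 𝔪 R) T]
        rfl
      · intro w hw
        change Ideal.Quotient.mk (𝔮 ^ k) (algebraMap _ T w) = 0
        rw [Ideal.Quotient.eq_zero_iff_mem]
        have hw' : w ∈ (𝔪.map ι) ^ N := Ideal.pow_le_pow_right (Nat.le_add_right N N) hw
        exact map_pow_le 𝔪 𝔮 c k hc (Ideal.mem_map_of_mem _ hw')
      · intro w hw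
        change p2 (γ w) = 0
        rw [hγkill w hw, map_zero]
    exact congrArg (fun φ => φ z) h12
  let ψP : T →ₐ[AdicCompletion 𝔪 R] P f g ⧸ J' :=
    { ψP0.toRingHom with commutes' := hcomm }
  have hψPk : ∀ x ∈ 𝔮 ^ k, ψP x = 0 := by
    intro x hx
    apply ε.injective
    change ε (ψP0 x) = ε 0
    rw [hψP0, map_zero, Ideal.Quotient.eq_zero_iff_mem]
    exact hx
  obtain ⟨χP, hχP⟩ := hS (P f g) J' hJ' ψP ⟨k, hψPk⟩
  let χ : T →ₐ[R] A := (pr1 f g).comp (χP.restrictScalars R)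
  refine ⟨χ, ?_⟩
  ext t
  have h1 : p2 (χP t) = Ideal.Quotient.mk _ t := by
    have := congrArg (fun φ => ε (φ t)) hχP
    simp only [AlgHom.comp_apply] at this
    rw [← hεmk]
    refine this.trans ?_
    exact hψP0 t
  have h2 := comm f g (χP t)
  change f (pr1 f g (χP t)) = ψ t
  rw [h2, ← hg t, ← h1]

end

end H14S9317

namespace Groth.Agent.S9317

/-- Let `R → S` be a ring map, let `𝔪 ⊆ R` and `𝔫 ⊆ S` be finitely generated ideals such that some power
of `𝔪` maps into `𝔫`, and let `R^`, `S^` be the `𝔪`-adic and `𝔫`-adic completions. Let `ψ : R^ → S^`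
be a ring map whose composite with `R → R^` is the composite `R → S → S^` (there is exactly one such
map, the canonical one, since any such map is continuous for the adic topologies). Then `R → S` is
formally smooth for the `𝔫`-adic topology if and only if `R^ → S^`, i.e. `S^` viewed as an
`R^`-algebra through `ψ`, is formally smooth for the adic topology of the extension of `𝔫` to `S^`. -/
theorem result {R S : Type u} [CommRing R] [CommRing S]
    [Algebra R S] (𝔪 : Ideal R) (𝔫 : Ideal S) (h𝔪 : 𝔪.FG) (h𝔫 : 𝔫.FG)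
    (hc : ∃ c : ℕ, (𝔪 ^ c).map (algebraMap R S) ≤ 𝔫)
    (ψ : AdicCompletion 𝔪 R →+* AdicCompletion 𝔫 S)
    (hψ : ψ.comp (algebraMap R (AdicCompletion 𝔪 R)) =
      (algebraMap S (AdicCompletion 𝔫 S)).comp (algebraMap R S)) :
    CAlgX.IsAdicFormallySmooth R S 𝔫 ↔
      letI : Algebra (AdicCompletion 𝔪 R) (AdicCompletion 𝔫 S) := ψ.toAlgebra
      CAlgX.IsAdicFormallySmooth (AdicCompletion 𝔪 R) (AdicCompletion 𝔫 S)
        (𝔫.map (algebraMap S (AdicCompletion 𝔫 S))) := by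
  classical
  letI : Algebra (AdicCompletion 𝔪 R) (AdicCompletion 𝔫 S) := ψ.toAlgebra
  haveI : IsScalarTower R (AdicCompletion 𝔪 R) (AdicCompletion 𝔫 S) :=
    IsScalarTower.of_algebraMap_eq (fun r => by
      have := congrArg (fun φ => φ r) hψ
      simp only [RingHom.comp_apply] at this
      exact this.symm)
  have hc' : ∃ c : ℕ, (𝔪 ^ c).map (algebraMap R (AdicCompletion 𝔫 S)) ≤
      𝔫.map (algebraMap S (AdicCompletion 𝔫 S)) := by
    obtain ⟨c, hc⟩ := hc
    refine ⟨c, ?_⟩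
    rw [IsScalarTower.algebraMap_eq R S (AdicCompletion 𝔫 S), ← Ideal.map_map]
    exact Ideal.map_mono hc
  rw [Groth.Agent.S9318.result 𝔫 h𝔫]
  exact ⟨H14S9317.forward 𝔪 _ h𝔪 hc', H14S9317.backward 𝔪 _ h𝔪 hc'⟩

end Groth.Agent.S9317
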