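import Groth.Statements.S9322
import Mathlib
import Groth.Agent.Lib.helper14.AdicFSPowerSeries
import Groth.Agent.S4541
import Groth.Agent.S2467


set_option autoImplicit false
open CAlg

namespace H14S9322

/-- every field of characteristic `p` is formally smooth over `𝔽_p` (via `p`-bases) -/
theorem formallySmooth_zmod (p : ℕ) [Fact p.Prime] (L : Type) [Field L] [Algebra (ZMod p) L] :
    Algebra.FormallySmooth (ZMod p) L := by
  classical
  haveI : CharP L p := charP_of_injective_algebraMap (algebraMap (ZMod p) L).injective p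
  have hp2 : 1 < p := (Fact.out : p.Prime).one_lt
  -- all elements p-generate
  have hS : EGA41.IsPGenerating p (ZMod p) (Subtype.val : ↥(Set.univ : Set L) → L) := by
    unfold EGA41.IsPGenerating
    rw [eq_top_iff]
    intro y _
    apply Submodule.subset_span
    refine ⟨⟨Finsupp.single ⟨y, Set.mem_univ y⟩ 1, fun i => ?_⟩, ?_⟩
    · by_cases h : i = ⟨y, Set.mem_univ y⟩
      · subst h; simpa using hp2
      · rw [Finsupp.single_apply, if_neg (Ne.symm h)]; exact (Fact.out : p.Prime).pos
    · simp [EGA41.pMonomial]
  have hL : EGA41.IsPIndependent p (ZMod p) (Subtype.val : ↥(∅ : Set L) → L) := by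
    unfold EGA41.IsPIndependent
    haveI : IsEmpty (↥(∅ : Set L)) := Set.isEmpty_coe_sort.mpr rfl
    haveI : Unique {e : ↥(∅ : Set L) →₀ ℕ // ∀ i, e i < p} :=
      { default := ⟨0, fun i => isEmptyElim i⟩
        uniq := fun e => Subtype.ext (Subsingleton.elim _ _) }
    rw [linearIndependent_unique_iff]
    simp [EGA41.pMonomial]
  obtain ⟨B, -, -, hB⟩ := Groth.Agent.S2467.result p (k := ZMod p) (K := L) Set.univ ∅
    (Set.empty_subset _) hS hL
  exact (Groth.Agent.S4541.result p (A := ZMod p) (B := L) (Subtype.val : B → L) hB).1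

end H14S9322

namespace Groth.Agent.S9322

/-- Let `p` be a prime, `L` a field of characteristic `p` (given as an algebra over `ℤ/p`) and `n ≥ 0`.
Then `𝔽_p → L[[x_1, …, x_n]]` is formally smooth for the adic topology of the maximal ideal of the
power series ring. (`L` is taken in the lowest universe, where `ℤ/p` lives.) -/
theorem result (p : ℕ) [Fact p.Prime] (L : Type) [Field L]
    [Algebra (ZMod p) L] (n : ℕ) :
    CAlgX.IsAdicFormallySmooth (ZMod p) (MvPowerSeries (Fin n) L)
      (IsLocalRing.maximalIdeal (MvPowerSeries (Fin n) L)) := by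
  classical
  haveI : Algebra.FormallySmooth (ZMod p) L := H14S9322.formallySmooth_zmod p L
  exact H14.AFS.mvPowerSeries (R := ZMod p) (K := L) (Fin n) _
    (fun i => H14.AFS.X_mem_maximalIdeal i)

end Groth.Agent.S9322
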