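import Groth.Statements.S9323
import Mathlib
import Groth.Agent.Lib.helper14.CohenSmooth
import Groth.Agent.Lib.helper14.FSAdic
import Groth.Agent.Lib.helper14.AdicFSPowerSeries
import Groth.Agent.S4534


set_option autoImplicit false
open CAlg

namespace H14S9323

open H14.CohenSmooth

theorem cohen_int (Λ : Type) [CommRing Λ] [IsDomain Λ] [IsDiscreteValuationRing Λ] (p : ℕ)
    (hp : p.Prime) (hm : IsLocalRing.maximalIdeal Λ = Ideal.span {(p : Λ)}) :
    EGA41.IsFormallySmoothAdic ℤ ⊥ Λ (IsLocalRing.maximalIdeal Λ) := by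
  classical
  apply H14.FSAdic.of_sq
  intro C _ _ J hJ _ u hu
  obtain ⟨k, hk⟩ := hu
  -- `p` is nilpotent in `C`
  have hpk : ((p : C)) ^ k ∈ J := by
    have h1 : ((p : Λ)) ^ k ∈ IsLocalRing.maximalIdeal Λ ^ k := by
      apply Ideal.pow_mem_pow
      rw [hm]; exact Ideal.mem_span_singleton_self _
    have h2 := hk _ h1
    rw [map_pow, map_natCast] at h2
    have h3 : Ideal.Quotient.mk J ((p : C) ^ k) = 0 := by
      rw [map_pow, map_natCast]; exact h2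
    exact Ideal.Quotient.eq_zero_iff_mem.mp h3
  have hpN : ((p : C)) ^ (2 * k + 1) = 0 := by
    have h1 : ((p : C)) ^ k * ((p : C)) ^ k ∈ J ^ 2 := by
      rw [pow_two]; exact Ideal.mul_mem_mul hpk hpk
    rw [hJ, Ideal.mem_bot] at h1
    rw [pow_succ, two_mul, pow_add, h1, zero_mul]
  -- algebra structures over `ℤ/p^N`
  have hkillC : ∀ z ∈ Ideal.span {(p : ℤ) ^ (2 * k + 1)}, Int.castRingHom C z = 0 := by
    intro z hz
    obtain ⟨w, rfl⟩ := Ideal.mem_span_singleton'.mp hz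
    rw [map_mul, map_pow, map_natCast, hpN, mul_zero]
  letI algC : Algebra (ℤ ⧸ Ideal.span {(p : ℤ) ^ (2 * k + 1)}) C :=
    (Ideal.Quotient.lift _ (Int.castRingHom C) hkillC).toAlgebra
  letI algS : Algebra (ℤ ⧸ Ideal.span {(p : ℤ) ^ (2 * k + 1)}) (Λ ⧸ Ideal.span {(p : Λ) ^ (2 * k + 1)}) :=
    (g Λ p (2 * k + 1)).toAlgebra
  haveI : Algebra.FormallySmooth (ℤ ⧸ Ideal.span {(p : ℤ) ^ (2 * k + 1)})
      (Λ ⧸ Ideal.span {(p : Λ) ^ (2 * k + 1)}) := (g_formallySmooth hp hm (2 * k)).toAlgebra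
  have hkillu : ∀ x ∈ Ideal.span {(p : Λ) ^ (2 * k + 1)}, u.toRingHom x = 0 := by
    intro x hx
    obtain ⟨w, rfl⟩ := Ideal.mem_span_singleton'.mp hx
    change u (w * (p : Λ) ^ (2 * k + 1)) = 0
    rw [map_mul, map_pow, map_natCast]
    have : ((p : C ⧸ J)) ^ (2 * k + 1) = Ideal.Quotient.mk J ((p : C) ^ (2 * k + 1)) := by
      rw [map_pow, map_natCast]
    rw [this, hpN, map_zero, mul_zero]
  let u0 : (Λ ⧸ Ideal.span {(p : Λ) ^ (2 * k + 1)}) →+* C ⧸ J :=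
    Ideal.Quotient.lift _ u.toRingHom hkillu
  have hu0 : ∀ x : Λ, u0 (Ideal.Quotient.mk _ x) = u x := fun x => rfl
  have hcomm : u0.comp (algebraMap (ℤ ⧸ Ideal.span {(p : ℤ) ^ (2 * k + 1)})
      (Λ ⧸ Ideal.span {(p : Λ) ^ (2 * k + 1)})) =
      algebraMap (ℤ ⧸ Ideal.span {(p : ℤ) ^ (2 * k + 1)}) (C ⧸ J) :=
    Ideal.Quotient.ringHom_ext (Subsingleton.elim _ _)
  let ub : (Λ ⧸ Ideal.span {(p : Λ) ^ (2 * k + 1)}) →ₐ[ℤ ⧸ Ideal.span {(p : ℤ) ^ (2 * k + 1)}] C ⧸ J :=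
    { u0 with commutes' := fun r => RingHom.congr_fun hcomm r }
  obtain ⟨vb, hvb⟩ := Algebra.FormallySmooth.exists_lift J ⟨2, hJ⟩ ub
  have hvb' : ∀ y, Ideal.Quotient.mk J (vb y) = u0 y := fun y => congrArg (fun φ => φ y) hvb
  let v : Λ →ₐ[ℤ] C :=
    { vb.toRingHom.comp (Ideal.Quotient.mk (Ideal.span {(p : Λ) ^ (2 * k + 1)})) with
      commutes' := fun z => by
        rw [eq_intCast (algebraMap ℤ Λ) z, eq_intCast (algebraMap ℤ C) z]
        simp }
  refine ⟨v, ?_⟩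
  ext x
  change Ideal.Quotient.mk J (vb (Ideal.Quotient.mk _ x)) = u x
  rw [hvb', hu0]

theorem X_mem_maximalIdeal {K : Type*} [CommRing K] [IsLocalRing K] {σ : Type*} (i : σ) :
    (MvPowerSeries.X i : MvPowerSeries σ K) ∈ IsLocalRing.maximalIdeal (MvPowerSeries σ K) := by
  rw [IsLocalRing.mem_maximalIdeal, mem_nonunits_iff, MvPowerSeries.isUnit_iff_constantCoeff]
  simp

theorem main (Λ : Type) [CommRing Λ] [IsLocalRing Λ]
    (hΛ : CAlg.IsCohenRing Λ) (n : ℕ) :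
    CAlgX.IsAdicFormallySmooth ℤ (MvPowerSeries (Fin n) Λ)
      (IsLocalRing.maximalIdeal (MvPowerSeries (Fin n) Λ)) := by
  classical
  obtain ⟨hdom, hdvr, _, p, hp, hm⟩ := hΛ
  haveI := hdom
  haveI := hdvr
  rw [H14.FSAdic.isAdicFormallySmooth_iff]
  have hB := cohen_int Λ p hp hm
  have hC0 : CAlgX.IsAdicFormallySmooth Λ (MvPowerSeries (Fin n) Λ)
      (IsLocalRing.maximalIdeal (MvPowerSeries (Fin n) Λ)) :=
    H14.AFS.mvPowerSeries (R := Λ) (K := Λ) (Fin n) _ (fun i => X_mem_maximalIdeal i)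
  have hC : EGA41.IsFormallySmoothAdic Λ (IsLocalRing.maximalIdeal Λ) (MvPowerSeries (Fin n) Λ)
      (IsLocalRing.maximalIdeal (MvPowerSeries (Fin n) Λ)) :=
    H14.FSAdic.mono (fun x hx => by rw [Ideal.mem_bot] at hx; rw [hx]; exact zero_mem _) le_rfl
      ((H14.FSAdic.isAdicFormallySmooth_iff _).mp hC0)
  refine Groth.Agent.S4534.result ⊥ (IsLocalRing.maximalIdeal Λ) _ ⟨1, by
    intro x hx
    rw [pow_one, Ideal.map_bot, Ideal.mem_bot] at hx
    rw [hx]; exact zero_mem _⟩ ⟨1, ?_⟩ hB hC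
  rw [pow_one, Ideal.map_le_iff_le_comap]
  intro x hx
  rw [Ideal.mem_comap, IsLocalRing.mem_maximalIdeal, mem_nonunits_iff,
    MvPowerSeries.isUnit_iff_constantCoeff]
  rw [IsLocalRing.mem_maximalIdeal, mem_nonunits_iff] at hx
  rw [MvPowerSeries.algebraMap_apply]
  simpa using hx

end H14S9323

namespace Groth.Agent.S9323

/-- Let `Λ` be a Cohen ring (a complete discrete valuation ring whose maximal ideal is generated by a
prime number) and `n ≥ 0`. Then `ℤ → Λ[[x_1, …, x_n]]` is formally smooth for the adic topology of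
the maximal ideal of the power series ring. (`Λ` is taken in the lowest universe, where `ℤ` lives.) -/
theorem result (Λ : Type) [CommRing Λ] [IsLocalRing Λ]
    (hΛ : CAlg.IsCohenRing Λ) (n : ℕ) :
    CAlgX.IsAdicFormallySmooth ℤ (MvPowerSeries (Fin n) Λ)
      (IsLocalRing.maximalIdeal (MvPowerSeries (Fin n) Λ)) := by
  exact H14S9323.main Λ hΛ n

end Groth.Agent.S9323
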