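import Groth.Statements.S9324
import Mathlib
import Groth.Agent.S0526
import Groth.Agent.Lib.lead.PairHz
-- import your own Groth.Agent.* helpers here

set_option autoImplicit false
universe u
open Hensel

namespace Groth.Agent.S9324

open TensorProduct in
theorem tensor_isPairHenselization {A B Ah : Type u} [CommRing A] [CommRing B] [CommRing Ah]
    [Algebra A B] (I : Ideal A) [Algebra.IsIntegral A B] [Algebra A Ah]
    (hA : Hens2.IsPairHenselization A I Ah) :
    letI : Algebra B (Ah ⊗[A] B) := Algebra.TensorProduct.includeRight.toRingHom.toAlgebra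
    Hens2.IsPairHenselization B (I.map (algebraMap A B)) (Ah ⊗[A] B) := by
  letI : Algebra B (Ah ⊗[A] B) := Algebra.TensorProduct.includeRight.toRingHom.toAlgebra
  have hBT : algebraMap B (Ah ⊗[A] B) = Algebra.TensorProduct.includeRight.toRingHom := rfl
  have hcomp : (algebraMap B (Ah ⊗[A] B)).comp (algebraMap A B) =
      (algebraMap Ah (Ah ⊗[A] B)).comp (algebraMap A Ah) := by
    rw [hBT]
    ext a
    simp only [RingHom.comp_apply, AlgHom.toRingHom_eq_coe, RingHom.coe_coe,
      Algebra.TensorProduct.includeRight_apply, Algebra.TensorProduct.algebraMap_apply]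
    rw [Algebra.algebraMap_self, RingHom.id_apply, Algebra.algebraMap_eq_smul_one,
      Algebra.algebraMap_eq_smul_one a, TensorProduct.smul_tmul]
  refine ⟨?_, ?_⟩
  · haveI := hA.1
    have h := Groth.Agent.S0526.result Ah (I.map (algebraMap A Ah)) (Ah ⊗[A] B)
    rw [Ideal.map_map] at h ⊢
    rw [hcomp]
    exact h
  · intro C _ K f hK hfK
    have hfK' : I.map (f.comp (algebraMap A B)) ≤ K := by rwa [← Ideal.map_map]
    obtain ⟨g₀, hg₀, hg₀u⟩ := hA.2 C K (f.comp (algebraMap A B)) hK hfK'
    letI : Algebra A C := (f.comp (algebraMap A B)).toAlgebra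
    let g₀' : Ah →ₐ[A] C := { g₀ with commutes' := fun a => RingHom.congr_fun hg₀ a }
    let f' : B →ₐ[A] C := { f with commutes' := fun a => rfl }
    let G : Ah ⊗[A] B →ₐ[A] C := Algebra.TensorProduct.productMap g₀' f'
    refine ⟨G.toRingHom, ?_, ?_⟩
    · ext b
      simp only [RingHom.comp_apply, hBT, AlgHom.toRingHom_eq_coe, RingHom.coe_coe,
        Algebra.TensorProduct.includeRight_apply, G, Algebra.TensorProduct.productMap_apply_tmul,
        map_one, one_mul]
      rfl
    · intro g hg
      have h1 : g.comp (algebraMap Ah (Ah ⊗[A] B)) = g₀ := by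
        apply hg₀u
        rw [RingHom.comp_assoc, ← hcomp, ← RingHom.comp_assoc, hg]
      apply RingHom.ext
      intro t
      induction t using TensorProduct.induction_on with
      | zero => simp
      | add x y hx hy => rw [map_add, map_add, hx, hy]
      | tmul a b =>
        have e1 : a ⊗ₜ[A] b = algebraMap Ah (Ah ⊗[A] B) a * algebraMap B (Ah ⊗[A] B) b := by
          rw [hBT]
          simp [Algebra.TensorProduct.tmul_mul_tmul]
        rw [e1, map_mul, map_mul]
        have e2 : g (algebraMap Ah (Ah ⊗[A] B) a) = g₀ a := RingHom.congr_fun h1 a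
        have e3 : g (algebraMap B (Ah ⊗[A] B) b) = f b := RingHom.congr_fun hg b
        rw [e2, e3, hBT]
        simp only [AlgHom.toRingHom_eq_coe, RingHom.coe_coe, Algebra.TensorProduct.algebraMap_apply,
          Algebra.algebraMap_self, RingHom.id_apply, Algebra.TensorProduct.includeRight_apply, G,
          Algebra.TensorProduct.productMap_apply_tmul, map_one, mul_one, one_mul]
        rfl

open TensorProduct in
/-- Let `(A, I) → (B, J)` be a map of pairs, i.e. `I B ⊆ J`, such that `J` and `I B` have the same
radical, and suppose `A → B` is integral. Let `A^h` be a henselization of the pair `(A, I)`, `B^h` a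
henselization of the pair `(B, J)`, and `φ : A^h → B^h` an `A`-algebra homomorphism (there is
exactly one, by the universal property of `A^h`). Then the induced map `A^h ⊗_A B → B^h` is
bijective: henselization commutes with integral base change. -/
theorem result {A B Ah Bh : Type u} [CommRing A]
    [CommRing B] [CommRing Ah] [CommRing Bh] [Algebra A B] (I : Ideal A) (J : Ideal B)
    (hIJ : I.map (algebraMap A B) ≤ J) (hrad : J.radical = (I.map (algebraMap A B)).radical)
    [Algebra.IsIntegral A B] [Algebra A Ah] (hA : Hens2.IsPairHenselization A I Ah)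
    [Algebra B Bh] [Algebra A Bh] [IsScalarTower A B Bh] (hB : Hens2.IsPairHenselization B J Bh)
    (φ : Ah →ₐ[A] Bh) :
    Function.Bijective (Algebra.TensorProduct.productMap φ (IsScalarTower.toAlgHom A B Bh)) := by
  letI : Algebra B (Ah ⊗[A] B) := Algebra.TensorProduct.includeRight.toRingHom.toAlgebra
  have hBT : algebraMap B (Ah ⊗[A] B) = Algebra.TensorProduct.includeRight.toRingHom := rfl
  have hT := tensor_isPairHenselization I hA (B := B)
  have hT' : Hens2.IsPairHenselization B J (Ah ⊗[A] B) :=
    Groth.Agent.Lib.lead.PairHz.isPairHenselization_of_radical_eq hrad.symm hT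
  obtain ⟨e⟩ := Groth.Agent.Lib.lead.PairHz.algEquiv_of_isPairHenselization hT' hB
  obtain ⟨g, -, hgu⟩ := hT'.2 Bh (J.map (algebraMap B Bh)) (algebraMap B Bh) hB.1 le_rfl
  have h1 : (e : Ah ⊗[A] B →+* Bh) = g := by
    apply hgu
    ext b
    exact e.commutes b
  have h2 : (Algebra.TensorProduct.productMap φ (IsScalarTower.toAlgHom A B Bh)).toRingHom = g := by
    apply hgu
    ext b
    simp only [RingHom.comp_apply, hBT, AlgHom.toRingHom_eq_coe, RingHom.coe_coe,
      Algebra.TensorProduct.includeRight_apply, Algebra.TensorProduct.productMap_apply_tmul,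
      map_one, one_mul, IsScalarTower.coe_toAlgHom']
  have h3 : ⇑(Algebra.TensorProduct.productMap φ (IsScalarTower.toAlgHom A B Bh)) = ⇑e := by
    funext t
    have := RingHom.congr_fun (h2.trans h1.symm) t
    exact this
  rw [h3]
  exact e.bijective

end Groth.Agent.S9324
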