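import Groth.Statements.S9325
import Mathlib


set_option autoImplicit false
universe u
open CAlg

namespace H14S9325

section core
variable {A' R' : Type u} [CommRing A'] [CommRing R'] (π : A' →+* R') (hπ : Function.Surjective π)
include hπ

/-- every element of the span of trivial relations lifts to a vector killed by `Φ = Σ bᵢFᵢ` -/
theorem exists_lift_trivial {c : ℕ} (F : Fin c → A') (t : Fin c → R')
    (ht : t ∈ Submodule.span R' {v : Fin c → R' | ∃ i j : Fin c,
      v = Pi.single i (π (F j)) - Pi.single j (π (F i))}) :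
    ∃ B : Fin c → A', (∀ i, π (B i) = t i) ∧ ∑ i, B i * F i = 0 := by
  induction ht using Submodule.span_induction with
  | mem v hv =>
    obtain ⟨i, j, rfl⟩ := hv
    refine ⟨Pi.single i (F j) - Pi.single j (F i), fun l => ?_, ?_⟩
    · simp only [Pi.sub_apply, map_sub]
      simp only [Pi.single_apply]
      split_ifs <;> simp
    · simp only [Pi.sub_apply, sub_mul, Finset.sum_sub_distrib]
      simp only [Pi.single_apply, ite_mul, zero_mul, Finset.sum_ite_eq', Finset.mem_univ, if_true]
      ring
  | zero => exact ⟨0, fun _ => by simp, by simp⟩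
  | add v w _ _ hv hw =>
    obtain ⟨B₁, h1, h1'⟩ := hv
    obtain ⟨B₂, h2, h2'⟩ := hw
    refine ⟨B₁ + B₂, fun i => by simp [h1, h2], ?_⟩
    simp only [Pi.add_apply, add_mul, Finset.sum_add_distrib, h1', h2', add_zero]
  | smul r v _ hv =>
    obtain ⟨B₁, h1, h1'⟩ := hv
    obtain ⟨r', rfl⟩ := hπ r
    refine ⟨r' • B₁, fun i => by simp [h1], ?_⟩
    simp only [Pi.smul_apply, smul_eq_mul, mul_assoc, ← Finset.mul_sum, h1', mul_zero]

theorem core (J' : Ideal A') {c : ℕ} (f : Fin c → R')
    (hf : CAlgX.IsH1Regular f) (hspan : Ideal.span (Set.range f) = J'.map π) :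
    RingHom.ker π ⊓ J' ^ 2 ≤ RingHom.ker π * J' := by
  -- lifts of the f i
  have hF : ∀ i, ∃ F ∈ J', π F = f i := by
    intro i
    have : f i ∈ J'.map π := by rw [← hspan]; exact Ideal.subset_span ⟨i, rfl⟩
    exact (Ideal.mem_map_iff_of_surjective π hπ).1 this
  choose F hFJ hFf using hF
  -- Step A
  have hA : ∀ u ∈ J', ∃ r : Fin c → A', u - ∑ i, r i * F i ∈ RingHom.ker π := by
    intro u hu
    have : π u ∈ Ideal.span (Set.range f) := by rw [hspan]; exact Ideal.mem_map_of_mem π hu
    obtain ⟨r, hr⟩ := (Ideal.mem_span_range_iff_exists_fun).1 this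
    choose r' hr' using fun i => hπ (r i)
    refine ⟨r', ?_⟩
    rw [RingHom.mem_ker, map_sub, map_sum, ← hr, sub_eq_zero]
    exact Finset.sum_congr rfl fun i _ => by rw [map_mul, hr', hFf]
  -- Step B
  have hB : ∀ x ∈ J' ^ 2, ∃ y ∈ RingHom.ker π * J', ∃ b : Fin c → A', (∀ i, b i ∈ J') ∧
      x = y + ∑ i, b i * F i := by
    intro x hx
    rw [pow_two] at hx
    induction hx using Submodule.mul_induction_on' with
    | mem_mul_mem u hu v hv =>
      obtain ⟨r, hr⟩ := hA u hu
      refine ⟨(u - ∑ i, r i * F i) * v, Ideal.mul_mem_mul hr hv, fun i => r i * v,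
        fun i => J'.mul_mem_left _ hv, ?_⟩
      rw [sub_mul, Finset.sum_mul]
      have : ∀ i, r i * v * F i = r i * F i * v := fun i => by ring
      simp only [this]
      ring
    | add x₁ _ x₂ _ h1 h2 =>
      obtain ⟨y₁, hy₁, b₁, hb₁, e₁⟩ := h1
      obtain ⟨y₂, hy₂, b₂, hb₂, e₂⟩ := h2
      refine ⟨y₁ + y₂, Ideal.add_mem _ hy₁ hy₂, b₁ + b₂, fun i => J'.add_mem (hb₁ i) (hb₂ i), ?_⟩
      rw [e₁, e₂]
      simp only [Pi.add_apply, add_mul, Finset.sum_add_distrib]
      ring
  -- Step C
  rintro x ⟨hxI, hxJ⟩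
  obtain ⟨y, hy, b, hb, rfl⟩ := hB x hxJ
  refine Ideal.add_mem _ hy ?_
  have hyI : y ∈ RingHom.ker π := Ideal.mul_le_left hy
  have h0 : ∑ i, π (b i) * f i = 0 := by
    have : π (y + ∑ i, b i * F i) = 0 := (RingHom.mem_ker).1 hxI
    rw [map_add, (RingHom.mem_ker).1 hyI, zero_add, map_sum] at this
    rw [← this]
    exact Finset.sum_congr rfl fun i _ => by rw [map_mul, hFf]
  have hT := hf (fun i => π (b i)) h0
  have hT' : (fun i => π (b i)) ∈ Submodule.span R' {v : Fin c → R' | ∃ i j : Fin c,
      v = Pi.single i (π (F j)) - Pi.single j (π (F i))} := by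
    simpa only [hFf] using hT
  obtain ⟨B, hB1, hB2⟩ := exists_lift_trivial π hπ F _ hT'
  have : ∑ i, b i * F i = ∑ i, (b i - B i) * F i := by
    simp only [sub_mul, Finset.sum_sub_distrib, hB2, sub_zero]
  rw [this]
  refine Ideal.sum_mem _ fun i _ => Ideal.mul_mem_mul ?_ (hFJ i)
  rw [RingHom.mem_ker, map_sub, hB1, sub_self]

end core
end H14S9325
namespace H14S9325

theorem main {A : Type u} [CommRing A] (I J : Ideal A) (hIJ : I ≤ J)
    (h : ∀ (𝔮 : Ideal (A ⧸ I)) [𝔮.IsPrime], J.map (Ideal.Quotient.mk I) ≤ 𝔮 →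
      ∃ g : A ⧸ I, g ∉ 𝔮 ∧ ∃ (c : ℕ) (f : Fin c → Localization.Away g),
        CAlgX.IsH1Regular f ∧
          Ideal.span (Set.range f) =
            (J.map (Ideal.Quotient.mk I)).map (algebraMap (A ⧸ I) (Localization.Away g))) :
    I ⊓ J ^ 2 = I * J := by
  apply le_antisymm
  · rintro x ⟨hxI, hxJ2⟩
    have hxJ : x ∈ J := Ideal.pow_le_self two_ne_zero hxJ2
    by_contra hx
    set K : Ideal A := (I * J).colon (Ideal.span {x}) with hK
    have hKmem : ∀ a : A, a ∈ K ↔ a * x ∈ I * J := fun a => Ideal.mem_colon_span_singleton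
    have hKne : K ≠ ⊤ := by
      intro hK1
      have : (1 : A) ∈ K := hK1 ▸ Submodule.mem_top
      rw [hKmem, one_mul] at this
      exact hx this
    obtain ⟨𝔭, h𝔭max, hK𝔭⟩ := Ideal.exists_le_maximal K hKne
    haveI := h𝔭max.isPrime
    by_cases hI𝔭 : I ≤ 𝔭
    · by_cases hJ𝔭 : J ≤ 𝔭
      · -- the main case
        have h𝔮 : (𝔭.map (Ideal.Quotient.mk I)).IsPrime :=
          Ideal.map_isPrime_of_surjective Ideal.Quotient.mk_surjective (by rwa [Ideal.mk_ker])
        obtain ⟨g, hg, c, f, hf, hspan⟩ := h (𝔭.map (Ideal.Quotient.mk I)) (Ideal.map_mono hJ𝔭)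
        obtain ⟨g', rfl⟩ := Ideal.Quotient.mk_surjective g
        have hg' : g' ∉ 𝔭 := fun hg'' => hg (Ideal.mem_map_of_mem _ hg'')
        set π := Localization.awayMap (Ideal.Quotient.mk I) g' with hπdef
        have hπ : Function.Surjective π := by
          rw [Localization.awayMap_surjective_iff]
          intro a
          obtain ⟨b, rfl⟩ := Ideal.Quotient.mk_surjective a
          exact ⟨b, 0, by rw [pow_zero, one_mul]⟩
        have hker : RingHom.ker π = I.map (algebraMap A (Localization.Away g')) := by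
          have := IsLocalization.ker_map (S := Localization.Away g')
            (Localization.Away ((Ideal.Quotient.mk I) g')) (Ideal.Quotient.mk I)
            (Submonoid.map_powers (Ideal.Quotient.mk I) g')
          rw [Ideal.mk_ker] at this
          exact this
        have hcomp : π.comp (algebraMap A (Localization.Away g')) =
            (algebraMap (A ⧸ I) (Localization.Away ((Ideal.Quotient.mk I) g'))).comp
              (Ideal.Quotient.mk I) := IsLocalization.map_comp _
        have hspan' : Ideal.span (Set.range f) =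
            (J.map (algebraMap A (Localization.Away g'))).map π := by
          rw [hspan, Ideal.map_map, Ideal.map_map, hcomp]
        have hcore := core π hπ (J.map (algebraMap A (Localization.Away g'))) f hf hspan'
        have hx' : algebraMap A (Localization.Away g') x ∈
            (I * J).map (algebraMap A (Localization.Away g')) := by
          rw [Ideal.map_mul, ← hker]
          refine hcore ⟨?_, ?_⟩
          · rw [hker]; exact Ideal.mem_map_of_mem _ hxI
          · rw [← Ideal.map_pow]; exact Ideal.mem_map_of_mem _ hxJ2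
        rw [IsLocalization.mem_map_algebraMap_iff (Submonoid.powers g')] at hx'
        obtain ⟨⟨a, s⟩, has⟩ := hx'
        rw [← map_mul, IsLocalization.eq_iff_exists (Submonoid.powers g')] at has
        obtain ⟨t, ht⟩ := has
        simp only at ht
        have hmem : (t.1 * s.1) ∈ K := by
          rw [hKmem]
          have : t.1 * s.1 * x = t.1 * (x * s.1) := by ring
          rw [this, ht]
          exact Ideal.mul_mem_left _ _ a.2
        have hts : (t.1 * s.1) ∈ Submonoid.powers g' := Submonoid.mul_mem _ t.2 s.2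
        obtain ⟨N, hN⟩ := hts
        have := hK𝔭 hmem
        rw [← hN] at this
        exact hg' (Ideal.IsPrime.mem_of_pow_mem inferInstance N this)
      · obtain ⟨b, hbJ, hb𝔭⟩ := SetLike.not_le_iff_exists.1 hJ𝔭
        refine hb𝔭 (hK𝔭 ?_)
        rw [hKmem, mul_comm b x]
        exact Ideal.mul_mem_mul hxI hbJ
    · obtain ⟨a, haI, ha𝔭⟩ := SetLike.not_le_iff_exists.1 hI𝔭
      refine ha𝔭 (hK𝔭 ?_)
      rw [hKmem]
      exact Ideal.mul_mem_mul haI hxJ
  · refine le_inf Ideal.mul_le_left ?_
    rw [pow_two]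
    exact Ideal.mul_mono_left hIJ

end H14S9325

namespace Groth.Agent.S9325

/-- Let `A` be a ring and `I ⊆ J` ideals of `A` such that the ideal `J/I` of `A/I` is `H_1`-regular: for
every prime `𝔮` of `A/I` containing `J/I` there is `g ∉ 𝔮` such that the extension of `J/I` to
`(A/I)_g` is generated by an `H_1`-regular sequence (a finite sequence all of whose linear relations
are combinations of the trivial ones). Then `I ∩ J² = I J`. -/
theorem result {A : Type u} [CommRing A] (I J : Ideal A)
    (hIJ : I ≤ J)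
    (h : ∀ (𝔮 : Ideal (A ⧸ I)) [𝔮.IsPrime], J.map (Ideal.Quotient.mk I) ≤ 𝔮 →
      ∃ g : A ⧸ I, g ∉ 𝔮 ∧ ∃ (c : ℕ) (f : Fin c → Localization.Away g),
        CAlgX.IsH1Regular f ∧
          Ideal.span (Set.range f) =
            (J.map (Ideal.Quotient.mk I)).map (algebraMap (A ⧸ I) (Localization.Away g))) :
    I ⊓ J ^ 2 = I * J := by
  exact H14S9325.main I J hIJ h

end Groth.Agent.S9325
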