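import Groth.Statements.S9326
import Mathlib

set_option autoImplicit false
universe u
open CAlg

namespace Groth.Agent.S9326
open Filter Topology

section helpers



section
variable {N M : Type u} [AddCommGroup N]
    [AddCommGroup M] [UniformSpace N] [IsUniformAddGroup N] [TopologicalSpace M]
    [IsTopologicalAddGroup M] [T2Space M] [T2Space N] [CompleteSpace N] [NonarchimedeanAddGroup N]
    [FirstCountableTopology N]

/-- a decreasing countable basis of open subgroups inside a given one -/
theorem exists_basis (V₀ : OpenAddSubgroup N) :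
    ∃ V : ℕ → OpenAddSubgroup N, V 0 = V₀ ∧ (∀ n, V (n + 1) ≤ V n) ∧
      ∀ U ∈ 𝓝 (0 : N), ∃ n, (V n : Set N) ⊆ U := by
  obtain ⟨s, hs⟩ := (𝓝 (0 : N)).exists_antitone_basis
  have hT : ∀ n, ∃ T : OpenAddSubgroup N, (T : Set N) ⊆ s n := fun n =>
    NonarchimedeanAddGroup.is_nonarchimedean (s n) (hs.mem n)
  choose T hT using hT
  let V : ℕ → OpenAddSubgroup N := fun n => Nat.rec V₀ (fun n Vn => Vn ⊓ T n) n
  refine ⟨V, rfl, fun n => inf_le_left, fun U hU => ?_⟩
  obtain ⟨n, hn⟩ := hs.mem_iff.1 hU
  refine ⟨n + 1, ?_⟩
  intro x hx
  have hx' : x ∈ V n ⊓ T n := hx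
  exact hn (hT n hx'.2)

end



end helpers

/-- Let `u : N → M` be a continuous homomorphism of topological abelian groups. Assume `M` is Hausdorff
and `N` is Hausdorff and complete, linearly topologized (every neighbourhood of zero contains an
open subgroup) and first countable (zero has a countable basis of neighbourhoods). Then exactly one
of two things holds: `u` is an open map; or there is an open subgroup of `N` whose image is nowhere
dense in `M`. -/
theorem result {N M : Type u} [AddCommGroup N]
    [AddCommGroup M] [UniformSpace N] [IsUniformAddGroup N] [TopologicalSpace M]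
    [IsTopologicalAddGroup M] [T2Space M] [T2Space N] [CompleteSpace N] [NonarchimedeanAddGroup N]
    [FirstCountableTopology N] (u : N →+ M) (hu : Continuous u) :
    Xor (IsOpenMap u) (∃ V : OpenAddSubgroup N, IsNowhereDense (u '' (V : Set N))) := by
  classical
  by_cases hopen : IsOpenMap u
  · left
    refine ⟨hopen, ?_⟩
    rintro ⟨V, hV⟩
    have h1 : IsOpen (u '' (V : Set N)) := hopen _ V.isOpen
    have h0 : (0 : M) ∈ u '' (V : Set N) := ⟨0, V.zero_mem, map_zero u⟩
    have h2 : (0 : M) ∈ interior (closure (u '' (V : Set N))) :=
      interior_mono subset_closure (by rw [h1.interior_eq]; exact h0)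
    rw [IsNowhereDense] at hV
    rw [hV] at h2
    exact h2
  · right
    refine ⟨?_, hopen⟩
    by_contra hno
    push Not at hno
    apply hopen
    -- closures of images of open subgroups are open subgroups
    have hWopen : ∀ V : OpenAddSubgroup N, IsOpen (closure (u '' (V : Set N))) := by
      intro V
      have hne : (interior (closure (u '' (V : Set N)))).Nonempty := by
        rw [Set.nonempty_iff_ne_empty]
        exact hno V
      obtain ⟨g, hg⟩ := hne
      have := AddSubgroup.isOpen_of_mem_nhds
        ((AddSubgroup.map u V.toAddSubgroup).topologicalClosure) (g := g)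
        (by
          rw [AddSubgroup.topologicalClosure_coe, AddSubgroup.coe_map]
          exact mem_interior_iff_mem_nhds.1 hg)
      rwa [AddSubgroup.topologicalClosure_coe, AddSubgroup.coe_map] at this
    -- key: closure (u '' V) ⊆ u '' V
    have key : ∀ V₀ : OpenAddSubgroup N, closure (u '' (V₀ : Set N)) ⊆ u '' (V₀ : Set N) := by
      intro V₀ y hy
      obtain ⟨V, hV0, hVsucc, hVbasis⟩ := exists_basis V₀
      have hVanti : Antitone V := antitone_nat_of_succ_le hVsucc
      -- approximation step
      have hstep : ∀ n (z : M), z ∈ closure (u '' (V n : Set N)) →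
          ∃ x ∈ V n, ∃ z' ∈ closure (u '' (V (n + 1) : Set N)), z = u x + z' := by
        intro n z hz
        -- z - W_{n+1} is a nhd of z
        have hW : closure (u '' (V (n + 1) : Set N)) ∈ 𝓝 (0 : M) :=
          (hWopen (V (n + 1))).mem_nhds (subset_closure ⟨0, (V (n + 1)).zero_mem, map_zero u⟩)
        have hnhd : {t : M | z - t ∈ closure (u '' (V (n + 1) : Set N))} ∈ 𝓝 z := by
          have hc : Continuous fun t : M => z - t := continuous_const.sub continuous_id
          have := hc.continuousAt (x := z)
          rw [ContinuousAt, sub_self] at this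
          exact this hW
        obtain ⟨t, ht1, ⟨x, hx, rfl⟩⟩ := mem_closure_iff_nhds.1 hz _ hnhd
        exact ⟨x, hx, z - u x, ht1, by abel⟩
      choose! g hg h hh heq using hstep
      let ys : ℕ → M := fun n => Nat.rec y (fun n yn => h n yn) n
      have ys_succ : ∀ n, ys (n + 1) = h n (ys n) := fun n => rfl
      have ys_mem : ∀ n, ys n ∈ closure (u '' (V n : Set N)) := by
        intro n
        induction n with
        | zero => rw [hV0]; exact hy
        | succ n ih => rw [ys_succ]; exact hh n _ ih
      let xs : ℕ → N := fun n => g n (ys n)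
      have xs_mem : ∀ n, xs n ∈ V n := fun n => hg n _ (ys_mem n)
      have ys_eq : ∀ n, ys n = u (xs n) + ys (n + 1) := fun n => heq n _ (ys_mem n)
      have hsum : ∀ n, u (∑ i ∈ Finset.range n, xs i) = y - ys n := by
        intro n
        induction n with
        | zero => simp [ys]
        | succ n ih =>
          rw [Finset.sum_range_succ, map_add, ih]
          have := ys_eq n
          rw [this]
          abel
      -- xs → 0
      have xs_tend : Tendsto xs atTop (𝓝 0) := by
        rw [tendsto_def]
        intro U hU
        obtain ⟨m, hm⟩ := hVbasis U hU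
        rw [mem_atTop_sets]
        exact ⟨m, fun n hn => hm (hVanti hn (xs_mem n))⟩
      have hsummable : Summable xs :=
        NonarchimedeanAddGroup.summable_of_tendsto_cofinite_zero
          (by rw [Nat.cofinite_eq_atTop]; exact xs_tend)
      obtain ⟨S, hS⟩ := hsummable
      have hpart := hS.tendsto_sum_nat
      -- S ∈ V₀
      have hSV : S ∈ (V₀ : Set N) := by
        have hcl : IsClosed (V₀ : Set N) := V₀.isClosed
        refine hcl.mem_of_tendsto hpart (Filter.Eventually.of_forall fun n => ?_)
        refine V₀.toAddSubgroup.sum_mem fun i _ => ?_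
        have := hVanti (Nat.zero_le i) (xs_mem i)
        rwa [hV0] at this
      -- ys → 0
      have ys_tend : Tendsto ys atTop (𝓝 0) := by
        rw [tendsto_def]
        intro U hU
        obtain ⟨U', hU'mem, hU'cl, hU'sub⟩ := exists_mem_nhds_isClosed_subset hU
        have hpre : u ⁻¹' U' ∈ 𝓝 (0 : N) := by
          have := hu.continuousAt (x := (0 : N))
          rw [ContinuousAt, map_zero] at this
          exact this hU'mem
        obtain ⟨m, hm⟩ := hVbasis _ hpre
        rw [mem_atTop_sets]
        refine ⟨m, fun n hn => hU'sub ?_⟩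
        have h1 : u '' (V n : Set N) ⊆ U' := by
          rintro _ ⟨x, hx, rfl⟩
          exact hm (hVanti hn hx)
        exact (closure_minimal h1 hU'cl) (ys_mem n)
      -- u S = y
      have h1 : Tendsto (fun n => u (∑ i ∈ Finset.range n, xs i)) atTop (𝓝 (u S)) :=
        (hu.tendsto S).comp hpart
      have h2 : Tendsto (fun n => u (∑ i ∈ Finset.range n, xs i)) atTop (𝓝 (y - 0)) := by
        simp_rw [hsum]
        exact tendsto_const_nhds.sub ys_tend
      have := tendsto_nhds_unique h1 h2
      rw [sub_zero] at this
      exact ⟨S, hSV, this⟩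
    rw [IsTopologicalAddGroup.isOpenMap_iff_nhds_zero]
    intro S hS
    rw [Filter.mem_map] at hS
    obtain ⟨V, hV⟩ := NonarchimedeanAddGroup.is_nonarchimedean _ hS
    have himg : u '' (V : Set N) = closure (u '' (V : Set N)) :=
      Set.Subset.antisymm subset_closure (key V)
    have hopenV : IsOpen (u '' (V : Set N)) := by
      rw [himg]; exact hWopen V
    refine Filter.mem_of_superset (hopenV.mem_nhds ⟨0, V.zero_mem, map_zero u⟩) ?_
    rintro _ ⟨x, hx, rfl⟩
    exact hV hx

end Groth.Agent.S9326
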