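import Groth.Statements.S9331
import Mathlib
import Groth.Agent.Lib.helper4.QFPoints

set_option autoImplicit false
universe u
open QFin

namespace Groth.Agent.S9331

open AlgebraicGeometry CategoryTheory in
/-- Let f : X → S be a morphism of schemes, x ∈ X, s = f x. If κ(x) is algebraic over κ(s) (through the
residue field map of f at x), then x is a closed point of the fibre X_s, and if in addition s is
closed in S then x is closed in X. -/
theorem result {X S : Scheme.{u}} (f : X ⟶ S) (x : X)
    (halg : @Algebra.IsAlgebraic (S.residueField (f.base x)) (X.residueField x) _ _ (f.residueFieldMap x).hom.toAlgebra) :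
    IsClosed ({f.asFiber x} : Set ↑(f.fiber (f.base x))) ∧
      (IsClosed ({f.base x} : Set ↑S) → IsClosed ({x} : Set ↑X)) := by
  have key := Groth.Agent.H4QFP.isClosed_singleton_asFiber_of_isIntegral f x (by
    letI := (f.residueFieldMap x).hom.toAlgebra
    have : Algebra.IsIntegral (S.residueField (f.base x)) (X.residueField x) :=
      Algebra.IsAlgebraic.isIntegral
    intro y
    exact Algebra.IsIntegral.isIntegral (R := S.residueField (f.base x)) y)
  refine ⟨key, fun hs => ?_⟩
  exact Groth.Agent.H4QFP.isClosed_singleton_of_isClosed_asFiber f x key hs

end Groth.Agent.S9331
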