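import Groth.Statements.S9332
import Mathlib

set_option autoImplicit false
universe u
open QFin

namespace Groth.Agent.S9332

open AlgebraicGeometry CategoryTheory in
/-- Let f : X → S be locally of finite type and x ∈ X. Then x is closed in its fibre X_{f x} if and only
if κ(x) is a finite extension of κ(f x) (via the residue field map of f at x). -/
theorem result {X S : Scheme.{u}} (f : X ⟶ S) [LocallyOfFiniteType f] (x : X) :
    IsClosed ({f.asFiber x} : Set ↑(f.fiber (f.base x))) ↔ (f.residueFieldMap x).hom.Finite := by
  have hlft : LocallyOfFiniteType (f.fiberToSpecResidueField (f.base x)) :=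
    MorphismProperty.pullback_snd _ _ inferInstance
  have hJ : JacobsonSpace (f.fiber (f.base x)) :=
    LocallyOfFiniteType.jacobsonSpace (f.fiberToSpecResidueField (f.base x))
  rw [← f.range_asFiberHom x]
  constructor
  · intro hcl
    have : IsClosedImmersion (f.asFiberHom x) := .of_isPreimmersion _ hcl
    have h1 : LocallyOfFiniteType (f.asFiberHom x ≫ f.fiberToSpecResidueField (f.base x)) :=
      inferInstance
    rw [f.asFiberHom_fiberToSpecResidueField] at h1
    have h2 : IsFinite (Spec.map (f.residueFieldMap x)) :=
      isFinite_iff_locallyOfFiniteType_of_jacobsonSpace.2 h1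
    exact (IsFinite.SpecMap_iff _).1 h2
  · intro hfin
    have h2 : IsFinite (Spec.map (f.residueFieldMap x)) := (IsFinite.SpecMap_iff _).2 hfin
    have h1 : LocallyOfFiniteType (f.asFiberHom x ≫ f.fiberToSpecResidueField (f.base x)) := by
      rw [f.asFiberHom_fiberToSpecResidueField]
      infer_instance
    have h3 : LocallyOfFiniteType (f.asFiberHom x) :=
      locallyOfFiniteType_of_comp _ (f.fiberToSpecResidueField _)
    have := (f.asFiberHom x).closePoints_subset_preimage_closedPoints
      (IsLocalRing.isClosed_singleton_closedPoint _)
    rw [f.range_asFiberHom]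
    rw [Set.mem_preimage, f.asFiberHom_apply] at this
    exact this

end Groth.Agent.S9332
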