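import Groth.Statements.S9333
import Mathlib

set_option autoImplicit false
universe u
open QFin

namespace Groth.Agent.S9333

section Aux
open AlgebraicGeometry CategoryTheory Limits

theorem closed_iff {X S : Scheme.{u}} (f : X ⟶ S) (s : S) (t : f.fiber s) :
    IsClosed ({t} : Set (f.fiber s)) ↔
      ∀ z : X, f.fiberι s t ⤳ z → f z = s → z = f.fiberι s t := by
  constructor
  · intro h z hz hfz
    have : z ∈ Set.range (f.fiberι s) := by rw [f.range_fiberι]; exact hfz
    obtain ⟨w, rfl⟩ := this
    have hw : t ⤳ w := (f.fiberι s).isEmbedding.isInducing.specializes_iff.mp hz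
    have : w ∈ closure {t} := specializes_iff_mem_closure.mp hw
    rw [h.closure_eq] at this
    rw [this]
  · intro h
    rw [← closure_subset_iff_isClosed]
    intro w hw
    have hw' : t ⤳ w := specializes_iff_mem_closure.mpr hw
    have h1 : f.fiberι s t ⤳ f.fiberι s w := hw'.map (f.fiberι s).continuous
    have h2 : f (f.fiberι s w) = s := by
      have : f.fiberι s w ∈ Set.range (f.fiberι s) := ⟨w, rfl⟩
      rwa [f.range_fiberι] at this
    exact (f.fiberι s).isEmbedding.injective (h _ h1 h2)

theorem discrete_of_finite {W : Scheme.{u}} {K : Type u} [Field K] (h : W ⟶ Spec (CommRingCat.of K))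
    [IsFinite h] (w : W) : IsClosed ({w} : Set W) := by
  have h1 := h.isDiscrete_preimage_singleton (h w)
  have h2 : h ⁻¹' {h w} = Set.univ := by
    ext z
    simp only [Set.mem_preimage, Set.mem_singleton_iff, Set.mem_univ, iff_true]
    exact Subsingleton.elim (α := PrimeSpectrum K) _ _
  rw [h2] at h1
  haveI : DiscreteTopology W := isDiscrete_univ_iff.mp h1
  exact isClosed_discrete _

theorem core {T' T : Scheme.{u}} (π : T' ⟶ T) (K K' : Type u) [Field K] [Field K']
    (p' : T' ⟶ Spec (CommRingCat.of K')) (p : T ⟶ Spec (CommRingCat.of K))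
    (q : Spec (CommRingCat.of K') ⟶ Spec (CommRingCat.of K)) (hP : IsPullback π p' p q)
    [LocallyOfFiniteType p] (t' : T') (htc : IsClosed ({π t'} : Set T)) :
    IsClosed ({t'} : Set T') := by
  haveI : IsClosedImmersion (T.fromSpecResidueField (π t')) :=
    isClosed_singleton_iff_isClosedImmersion.mp htc
  have hfin : IsFinite (T.fromSpecResidueField (π t') ≫ p) :=
    isFinite_iff_locallyOfFiniteType_of_jacobsonSpace.mpr inferInstance
  have hpb : IsPullback (π.fiberToSpecResidueField (π t'))
      (π.fiberι (π t') ≫ p') (T.fromSpecResidueField (π t') ≫ p) q :=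
    (IsPullback.of_hasPullback π (T.fromSpecResidueField (π t'))).flip.paste_vert hP
  haveI hfin' : IsFinite (π.fiberι (π t') ≫ p') :=
    MorphismProperty.of_isPullback hpb hfin
  have hcl := discrete_of_finite (π.fiberι (π t') ≫ p') (π.asFiber t')
  have hemb : Topology.IsClosedEmbedding (π.fiberι (π t')) := by
    refine ⟨(π.fiberι (π t')).isEmbedding, ?_⟩
    rw [π.range_fiberι]
    exact htc.preimage π.continuous
  have := hemb.isClosedMap _ hcl
  rwa [Set.image_singleton, Scheme.Hom.fiberι_asFiber] at this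

theorem main {X S X' S' : Scheme.{u}} (f : X ⟶ S) [LocallyOfFiniteType f] (g : S' ⟶ S)
    (g' : X' ⟶ X) (f' : X' ⟶ S') (hsq : IsPullback g' f' f g) (x' : X')
    (hx : IsClosed ({f.asFiber (g'.base x')} : Set ↑(f.fiber (f.base (g'.base x'))))) :
    IsClosed ({f'.asFiber x'} : Set ↑(f'.fiber (f'.base x'))) := by
  have hP := isPullback_fiberToSpecResidueField_of_isPullback hsq (f' x')
  obtain ⟨π, hπ⟩ : ∃ π : f'.fiber (f' x') ⟶ f.fiber (g (f' x')),
      π = pullback.map f' (S'.fromSpecResidueField (f' x')) f (S.fromSpecResidueField (g (f' x')))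
    g' (Spec.map (g.residueFieldMap (f' x'))) g hsq.w.symm (by simp) := ⟨_, rfl⟩
  rw [← hπ] at hP
  have hπι : π ≫ f.fiberι (g (f' x')) = f'.fiberι (f' x') ≫ g' := by
    rw [hπ]; exact pullback.lift_fst _ _ _
  have hι : f.fiberι (g (f' x')) (π (f'.asFiber x')) = g' x' := by
    rw [← Scheme.Hom.comp_apply, hπι, Scheme.Hom.comp_apply, Scheme.Hom.fiberι_asFiber]
  haveI : LocallyOfFiniteType (f.fiberToSpecResidueField (g (f' x'))) :=
    MorphismProperty.pullback_snd _ _ inferInstance
  refine core π (S.residueField (g (f' x'))) (S'.residueField (f' x')) _ _ _ hP _ ?_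
  rw [closed_iff, hι]
  have := (closed_iff f _ _).mp hx
  rw [Scheme.Hom.fiberι_asFiber] at this
  intro z hz hfz
  refine this z hz ?_
  rw [hfz, ← Scheme.Hom.comp_apply, ← Scheme.Hom.comp_apply, hsq.w]

end Aux

open AlgebraicGeometry CategoryTheory in
/-- Let f : X → S be locally of finite type, g : S' → S any morphism and X' = X ×_S S' with projections
g' : X' → X and f' : X' → S'. If x' ∈ X' maps to x ∈ X and x is closed in the fibre X_{f x}, then x'
is closed in the fibre X'_{f' x'}. -/
theorem result {X S X' S' : Scheme.{u}} (f : X ⟶ S) [LocallyOfFiniteType f] (g : S' ⟶ S)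
    (g' : X' ⟶ X) (f' : X' ⟶ S') (hsq : IsPullback g' f' f g) (x' : X')
    (hx : IsClosed ({f.asFiber (g'.base x')} : Set ↑(f.fiber (f.base (g'.base x'))))) :
    IsClosed ({f'.asFiber x'} : Set ↑(f'.fiber (f'.base x'))) := by
  exact main f g g' f' hsq x' hx

end Groth.Agent.S9333
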