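import Groth.Statements.S9335
import Mathlib

set_option autoImplicit false
universe u
open QFin

namespace Groth.Agent.S9335

open AlgebraicGeometry CategoryTheory in
/-- If f : X → S is of finite type and s ∈ S, then f is quasi-finite at only finitely many points of the
fibre over s. -/
theorem result {X S : Scheme.{u}} (f : X ⟶ S) [LocallyOfFiniteType f] [QuasiCompact f] (s : S) :
    {x : ↑X | f.base x = s ∧ f.QuasiFiniteAt x}.Finite := by
  have hlft : LocallyOfFiniteType (f.fiberToSpecResidueField s) :=
    MorphismProperty.pullback_snd _ _ inferInstance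
  have hLN : IsLocallyNoetherian (f.fiber s) :=
    LocallyOfFiniteType.isLocallyNoetherian (f.fiberToSpecResidueField s)
  have hN : IsNoetherian (f.fiber s) := { }
  have hNS : TopologicalSpace.NoetherianSpace (f.fiber s) := inferInstance
  let D : Set (f.fiber s) := {z | IsOpen ({z} : Set (f.fiber s))}
  have hDdisc : _root_.IsDiscrete D := by
    rw [isDiscrete_iff_forall_mem_exists_isOpen]
    intro z hz
    refine ⟨{z}, hz, ?_⟩
    ext w
    simp only [Set.mem_inter_iff, Set.mem_singleton_iff]
    constructor
    · exact fun h => h.1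
    · rintro rfl
      exact ⟨rfl, hz⟩
  have hDfin : D.Finite := (TopologicalSpace.NoetherianSpace.isCompact D).finite hDdisc
  refine (hDfin.image (f.fiberι s)).subset ?_
  rintro x ⟨hx, hqf⟩
  subst hx
  refine ⟨f.asFiber x, ?_, f.fiberι_asFiber x⟩
  exact Scheme.Hom.quasiFiniteAt_iff_isOpen_singleton_asFiber.1 hqf

end Groth.Agent.S9335
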