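import Groth.Statements.S9336
import Mathlib
import Groth.Agent.Lib.helper4.QFPoints

set_option autoImplicit false
universe u
open QFin

namespace Groth.Agent.S9336

open AlgebraicGeometry CategoryTheory in
/-- Let f : X → Y be surjective and g : Y → S locally of finite type. If g ∘ f is locally quasi-finite
(and locally of finite type), then g is locally quasi-finite. -/
theorem result {X Y S : Scheme.{u}} (f : X ⟶ Y) (g : Y ⟶ S) [Surjective f]
    [LocallyQuasiFinite (f ≫ g)] [LocallyOfFiniteType (f ≫ g)] [LocallyOfFiniteType g] :
    LocallyQuasiFinite g := by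
  apply Groth.Agent.H4QFP.locallyQuasiFinite_of_isIntegral_residueFieldMap g
  intro y
  obtain ⟨x, rfl⟩ := f.surjective y
  have hfin := Groth.Agent.H4QFP.finite_residueFieldMap_of_locallyQuasiFinite (f ≫ g) x
  have hcomp : (f ≫ g).residueFieldMap x = g.residueFieldMap (f x) ≫ f.residueFieldMap x :=
    Scheme.residueFieldMap_comp f g x
  have hint : ((f.residueFieldMap x).hom.comp (g.residueFieldMap (f x)).hom).IsIntegral := by
    rw [← CommRingCat.hom_comp, ← hcomp]
    exact hfin.to_isIntegral
  exact RingHom.IsIntegral.tower_bot _ _ (f.residueFieldMap x).hom.injective hint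

end Groth.Agent.S9336
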