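import Groth.Statements.S9339
import Mathlib

set_option autoImplicit false
universe u
open FtPts

namespace Groth.Agent.S9339aux

open CategoryTheory AlgebraicGeometry

/-- Artin–Tate style: if `A ⊆ K = Frac A ⊆ L` are fields over a domain `A` with `L` of finite type over `A`,
then `K` is of finite type over `A`. -/
theorem finiteType_fractionField_of_finiteType {A K L : Type*} [CommRing A] [IsDomain A] [Field K] [Algebra A K]
    [IsFractionRing A K] [Field L] [Algebra K L] [Algebra A L] [IsScalarTower A K L]
    (h : Algebra.FiniteType A L) : Algebra.FiniteType A K := by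
  classical
  have hKL : Algebra.FiniteType K L := Algebra.FiniteType.of_restrictScalars_finiteType A K L
  have hfin : Module.Finite K L := finite_of_finite_type_of_isJacobsonRing K L
  have hint : Algebra.IsIntegral K L := inferInstance
  obtain ⟨s, hs⟩ := h.out
  choose m hm using fun x : L =>
    IsIntegral.exists_multiple_integral_of_isLocalization (nonZeroDivisors A) x (Algebra.IsIntegral.isIntegral (R := K) x)
  set d : A := ∏ x ∈ s, (m x : A) with hd
  have hd0 : algebraMap A K d ≠ 0 := by
    rw [hd, map_prod]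
    refine Finset.prod_ne_zero_iff.mpr fun x _ => ?_
    exact IsFractionRing.to_map_ne_zero_of_mem_nonZeroDivisors (m x).2
  set K₀ : Subalgebra A K := Algebra.adjoin A {(algebraMap A K d)⁻¹} with hK₀
  have hdinv : (algebraMap A K d)⁻¹ ∈ K₀ := Algebra.subset_adjoin (Set.mem_singleton _)
  have hminv : ∀ x ∈ s, (algebraMap A K (m x : A))⁻¹ ∈ K₀ := by
    intro x hx
    have h1 : (algebraMap A K (m x : A))⁻¹ =
        algebraMap A K (∏ y ∈ s.erase x, (m y : A)) * (algebraMap A K d)⁻¹ := by
      have hmx : algebraMap A K (m x : A) ≠ 0 := IsFractionRing.to_map_ne_zero_of_mem_nonZeroDivisors (m x).2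
      have hprod : (m x : A) * ∏ y ∈ s.erase x, (m y : A) = d := Finset.mul_prod_erase s (fun y => (m y : A)) hx
      rw [← hprod, map_mul]
      have h2 : algebraMap A K (∏ y ∈ s.erase x, (m y : A)) ≠ 0 := by
        intro h0
        apply hd0
        rw [← hprod, map_mul, h0, mul_zero]
      field_simp
    rw [h1]
    exact K₀.mul_mem (K₀.algebraMap_mem _) hdinv
  -- L is integral over K₀
  have : IsScalarTower K₀ K L := inferInstance
  have hAKL : ∀ a : A, algebraMap A L a = algebraMap K₀ L (algebraMap A K₀ a) := fun a => by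
    change algebraMap A L a = algebraMap K L (algebraMap A K a)
    exact IsScalarTower.algebraMap_apply A K L a
  have hK₀L : ∀ c : K₀, algebraMap K₀ L c = algebraMap K L (c : K) := fun c => rfl
  have hintL : ∀ y : L, IsIntegral K₀ y := by
    intro y
    have hy : y ∈ Algebra.adjoin A (s : Set L) := by rw [hs]; trivial
    induction hy using Algebra.adjoin_induction with
    | mem x hx =>
      have hx' : x ∈ s := hx
      have e : x = algebraMap K₀ L ⟨(algebraMap A K (m x : A))⁻¹, hminv x hx'⟩ * ((m x) • x) := by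
        change x = algebraMap K L ((algebraMap A K (m x : A))⁻¹) * ((m x) • x)
        have hmx : algebraMap A K (m x : A) ≠ 0 := IsFractionRing.to_map_ne_zero_of_mem_nonZeroDivisors (m x).2
        rw [Submonoid.smul_def, Algebra.smul_def, IsScalarTower.algebraMap_apply A K L, ← mul_assoc, ← map_mul,
          inv_mul_cancel₀ hmx, map_one, one_mul]
      rw [e]
      exact (isIntegral_algebraMap).mul ((hm x).tower_top)
    | algebraMap a =>
      rw [hAKL]
      exact isIntegral_algebraMap
    | add x y _ _ hx hy => exact hx.add hy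
    | mul x y _ _ hx hy => exact hx.mul hy
  have hintKL : Algebra.IsIntegral K₀ L := ⟨hintL⟩
  have hinj : Function.Injective (algebraMap K₀ L) := by
    intro c c' hcc
    rw [hK₀L, hK₀L] at hcc
    exact Subtype.ext ((algebraMap K L).injective hcc)
  have hfield : IsField K₀ := isField_of_isIntegral_of_isField hinj (Field.toIsField L)
  have htop : K₀ = ⊤ := by
    rw [eq_top_iff]
    intro z _
    obtain ⟨a, b, rfl⟩ := IsLocalization.exists_mk'_eq (nonZeroDivisors A) z
    have hb : algebraMap A K (b : A) ≠ 0 := IsFractionRing.to_map_ne_zero_of_mem_nonZeroDivisors b.2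
    have hb' : (⟨algebraMap A K (b : A), K₀.algebraMap_mem _⟩ : K₀) ≠ 0 := by
      intro h0; exact hb (congrArg Subtype.val h0)
    obtain ⟨c, hc⟩ := hfield.mul_inv_cancel hb'
    have hc' : algebraMap A K (b : A) * (c : K) = 1 := congrArg Subtype.val hc
    have : IsLocalization.mk' K a b = algebraMap A K a * (c : K) := by
      rw [IsLocalization.mk'_eq_iff_eq_mul, mul_assoc, mul_comm (c : K), hc', mul_one]
    rw [this]
    exact K₀.mul_mem (K₀.algebraMap_mem _) c.2
  exact ⟨⟨{(algebraMap A K d)⁻¹}, by rw [Finset.coe_singleton, ← hK₀, htop]⟩⟩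

theorem finiteType_of_comp_field {A K L : Type u} [CommRing A] [Field K] [Field L] (φ : A →+* K) (ψ : K →+* L)
    (hfrac : ∀ z : K, ∃ a b : A, φ b ≠ 0 ∧ z * φ b = φ a) (h : (ψ.comp φ).FiniteType) : φ.FiniteType := by
  set A' : Subring K := φ.range with hA'
  have hcomp : ψ.comp φ = (ψ.comp A'.subtype).comp φ.rangeRestrict := by
    ext a; rfl
  rw [hcomp] at h
  have h1 : (ψ.comp A'.subtype).FiniteType := RingHom.FiniteType.of_comp_finiteType h
  have hfr : IsFractionRing A' K := by
    refine IsFractionRing.of_field (R := A') K fun z => ?_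
    obtain ⟨a, b, hb, hab⟩ := hfrac z
    refine ⟨⟨φ a, a, rfl⟩, ⟨φ b, b, rfl⟩, ?_⟩
    change z = φ a / φ b
    rw [eq_div_iff hb, hab]
  letI : Algebra A' L := (ψ.comp A'.subtype).toAlgebra
  letI : Algebra K L := ψ.toAlgebra
  haveI : IsScalarTower A' K L := IsScalarTower.of_algebraMap_eq fun _ => rfl
  have h2 : Algebra.FiniteType A' L := h1
  have h3 : Algebra.FiniteType A' K := finiteType_fractionField_of_finiteType (A := A') (K := K) (L := L) h2
  have h4 : (A'.subtype).FiniteType := h3
  have h5 : φ = A'.subtype.comp φ.rangeRestrict := by ext a; rfl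
  rw [h5]
  exact h4.comp (RingHom.FiniteType.of_surjective _ φ.rangeRestrict_surjective)

theorem frac_evaluation {S : Scheme.{u}} (U : S.Opens) (hU : IsAffineOpen U) (s : S) (hsU : s ∈ U)
    (z : S.residueField s) :
    ∃ a b : Γ(S, U), (S.evaluation U s hsU).hom b ≠ 0 ∧ z * (S.evaluation U s hsU).hom b = (S.evaluation U s hsU).hom a := by
  obtain ⟨g, rfl⟩ := S.residue_surjective s z
  letI := S.presheaf.algebra_section_stalk ⟨s, hsU⟩
  have hloc := hU.isLocalization_stalk ⟨s, hsU⟩
  obtain ⟨⟨a, b⟩, hab⟩ := IsLocalization.surj (hU.primeIdealOf ⟨s, hsU⟩).asIdeal.primeCompl g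
  have hunit : IsUnit (algebraMap Γ(S, U) (S.presheaf.stalk s) b) := IsLocalization.map_units _ b
  have halg : ∀ c : Γ(S, U), algebraMap Γ(S, U) (S.presheaf.stalk s) c = (S.presheaf.germ U s hsU).hom c := fun _ => rfl
  have hev : ∀ c : Γ(S, U), (S.evaluation U s hsU).hom c = (S.residue s).hom ((S.presheaf.germ U s hsU).hom c) := fun _ => rfl
  refine ⟨a, b, ?_, ?_⟩
  · rw [hev, ← halg]
    exact (hunit.map (S.residue s).hom).ne_zero
  · rw [hev, hev, ← halg, ← halg, ← hab, map_mul]

theorem main {T S : Scheme.{u}} (f : T ⟶ S) [LocallyOfFiniteType f] (t : T)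
    (ht : LocallyOfFiniteType (T.fromSpecResidueField t)) : LocallyOfFiniteType (S.fromSpecResidueField (f t)) := by
  obtain ⟨_, ⟨U, hU, rfl⟩, hsU, -⟩ := S.isBasis_affineOpens.exists_subset_of_mem_open (Set.mem_univ (f t)) isOpen_univ
  have hj : S.fromSpecResidueField (f t) = Spec.map (S.evaluation U (f t) hsU) ≫ hU.fromSpec := by
    rw [Scheme.fromSpecResidueField, Scheme.evaluation, Spec.map_comp, Category.assoc,
      ← hU.fromSpecStalk_eq_fromSpecStalk hsU]
    rfl
  have hcomp : LocallyOfFiniteType (T.fromSpecResidueField t ≫ f) := inferInstance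
  rw [← Scheme.Hom.SpecMap_residueFieldMap_fromSpecResidueField, hj, ← Category.assoc, ← Spec.map_comp] at hcomp
  have h1 : LocallyOfFiniteType (Spec.map (S.evaluation U (f t) hsU ≫ f.residueFieldMap t)) :=
    locallyOfFiniteType_of_comp _ hU.fromSpec
  rw [HasRingHomProperty.Spec_iff (P := @LocallyOfFiniteType)] at h1
  have h2 : (S.evaluation U (f t) hsU).hom.FiniteType :=
    finiteType_of_comp_field _ (f.residueFieldMap t).hom (frac_evaluation U hU (f t) hsU) (by simpa using h1)
  rw [hj]
  have : LocallyOfFiniteType (Spec.map (S.evaluation U (f t) hsU)) :=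
    (HasRingHomProperty.Spec_iff (P := @LocallyOfFiniteType)).mpr h2
  infer_instance

end Groth.Agent.S9339aux

namespace Groth.Agent.S9339

open AlgebraicGeometry CategoryTheory in
/-- A morphism locally of finite type maps finite type points (points s whose canonical morphism Spec
κ(s) → S is locally of finite type) to finite type points. -/
theorem result {T S : Scheme.{u}} (f : T ⟶ S) [LocallyOfFiniteType f] :
    f.base '' {t : ↑T | LocallyOfFiniteType (T.fromSpecResidueField t)} ⊆
      {s : ↑S | LocallyOfFiniteType (S.fromSpecResidueField s)} := by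
  rintro _ ⟨t, ht, rfl⟩
  exact Groth.Agent.S9339aux.main f t ht

end Groth.Agent.S9339
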