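import Groth.Statements.S9337
import Mathlib
import Groth.Agent.S9342
import Groth.Agent.S9339

set_option autoImplicit false
universe u
open FtPts

namespace Groth.Agent.S9337aux

open CategoryTheory CategoryTheory.Limits AlgebraicGeometry

theorem isIso_fromSpecResidueField_field (k : Type u) [Field k] (x : Spec (CommRingCat.of k)) :
    IsIso ((Spec (CommRingCat.of k)).fromSpecResidueField x) := by
  rw [← Scheme.Spec.map_residueFieldIso_inv_eq_fromSpecResidueField]
  have hmax : x.asIdeal.IsMaximal := by
    have : x.asIdeal = ⊥ := Ideal.eq_bot_of_prime x.asIdeal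
    rw [this]; exact Ideal.bot_isMaximal
  have hbij : Function.Bijective (algebraMap k x.asIdeal.ResidueField) :=
    ⟨(algebraMap k x.asIdeal.ResidueField).injective, Ideal.algebraMap_residueField_surjective _⟩
  have : IsIso (CommRingCat.ofHom (algebraMap (CommRingCat.of k) x.asIdeal.ResidueField)) :=
    (ConcreteCategory.isIso_iff_bijective _).mpr hbij
  infer_instance

theorem main (S : Scheme.{u}) (k : Type u) [Field k] (f : Spec (CommRingCat.of k) ⟶ S) :
    LocallyOfFiniteType f ↔
      ∃ U : S.Opens, IsAffineOpen U ∧ ∃ hu : f.base (IsLocalRing.closedPoint k) ∈ U,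
        IsClosed ({⟨f.base (IsLocalRing.closedPoint k), hu⟩} : Set ↥U) ∧
          (f.residueFieldMap (IsLocalRing.closedPoint k)).hom.Finite := by
  set x : Spec (CommRingCat.of k) := IsLocalRing.closedPoint k with hx
  have hiso := isIso_fromSpecResidueField_field k x
  have hfac := Scheme.Hom.SpecMap_residueFieldMap_fromSpecResidueField f x
  have key : LocallyOfFiniteType f ↔
      LocallyOfFiniteType (Spec.map (f.residueFieldMap x) ≫ S.fromSpecResidueField (f x)) := by
    rw [hfac]
    exact (MorphismProperty.cancel_left_of_respectsIso @LocallyOfFiniteType _ _).symm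
  constructor
  · intro hf
    have h := key.mp hf
    have h1 : LocallyOfFiniteType ((Spec (CommRingCat.of k)).fromSpecResidueField x) := inferInstance
    have h2 : LocallyOfFiniteType (S.fromSpecResidueField (f x)) := Groth.Agent.S9339aux.main f x h1
    obtain ⟨U, hU, hs, hcl⟩ := (Groth.Agent.S9342.result S (f x)).mp h2
    refine ⟨U, hU, hs, hcl, ?_⟩
    have h3 : LocallyOfFiniteType (Spec.map (f.residueFieldMap x)) :=
      locallyOfFiniteType_of_comp _ (S.fromSpecResidueField (f x))
    rw [HasRingHomProperty.Spec_iff (P := @LocallyOfFiniteType)] at h3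
    algebraize [(f.residueFieldMap x).hom]
    have h4 : Algebra.FiniteType (S.residueField (f x)) ((Spec (CommRingCat.of k)).residueField x) := h3
    exact RingHom.finite_algebraMap.mpr (finite_of_finite_type_of_isJacobsonRing _ _)
  · rintro ⟨U, hU, hs, hcl, hfin⟩
    rw [key]
    have h2 : LocallyOfFiniteType (S.fromSpecResidueField (f x)) :=
      (Groth.Agent.S9342.result S (f x)).mpr ⟨U, hU, hs, hcl⟩
    have h3 : LocallyOfFiniteType (Spec.map (f.residueFieldMap x)) :=
      (HasRingHomProperty.Spec_iff (P := @LocallyOfFiniteType)).mpr hfin.to_finiteType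
    infer_instance

end Groth.Agent.S9337aux

namespace Groth.Agent.S9337

open AlgebraicGeometry CategoryTheory in
/-- Let k be a field and f : Spec k → S a morphism of schemes with image point u. Then f is locally of
finite type if and only if some affine open U ∋ u of S has u as a closed point and the residue field
of Spec k (that is, k) is finite over κ(u). -/
theorem result (S : Scheme.{u}) (k : Type u) [Field k] (f : Spec (CommRingCat.of k) ⟶ S) :
    LocallyOfFiniteType f ↔
      ∃ U : S.Opens, IsAffineOpen U ∧ ∃ hu : f.base (IsLocalRing.closedPoint k) ∈ U,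
        IsClosed ({⟨f.base (IsLocalRing.closedPoint k), hu⟩} : Set ↥U) ∧
          (f.residueFieldMap (IsLocalRing.closedPoint k)).hom.Finite := by
  exact Groth.Agent.S9337aux.main S k f

end Groth.Agent.S9337
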