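import Groth.Statements.S9338
import Mathlib

set_option autoImplicit false
universe u
open FtPts

namespace Groth.Agent.S9338

section Helpers
open AlgebraicGeometry CategoryTheory Limits

/-- nilpotent Nakayama -/
theorem eq_top_of_sup_smul_eq_top {B M : Type*} [CommRing B] [AddCommGroup M] [Module B M]
    (J : Ideal B) (N : ℕ) (hJ : J ^ N = ⊥) (N' : Submodule B M)
    (h : N' ⊔ J • (⊤ : Submodule B M) = ⊤) : N' = ⊤ := by
  have key : ∀ n : ℕ, N' ⊔ (J ^ n) • (⊤ : Submodule B M) = ⊤ := by
    intro n
    induction n with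
    | zero => simp
    | succ n ih =>
      rw [eq_top_iff]
      calc (⊤ : Submodule B M) = N' ⊔ (J ^ n) • (⊤ : Submodule B M) := ih.symm
        _ = N' ⊔ (J ^ n) • (N' ⊔ J • (⊤ : Submodule B M)) := by rw [h]
        _ = N' ⊔ ((J ^ n) • N' ⊔ (J ^ n) • (J • (⊤ : Submodule B M))) := by
            rw [Submodule.smul_sup]
        _ ≤ N' ⊔ (J ^ (n + 1)) • (⊤ : Submodule B M) := by
            refine sup_le le_sup_left (sup_le ?_ ?_)
            · exact (Submodule.smul_le_right).trans le_sup_left
            · rw [← Submodule.mul_smul, ← pow_succ]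
              exact le_sup_right
  have := key N
  rw [hJ, Submodule.bot_smul, sup_bot_eq] at this
  exact this

theorem finiteType_of_residue {R A : Type u} [CommRing R] [CommRing A] [IsLocalRing A]
    [IsArtinianRing A] (ψ : R →+* A)
    (h : ((IsLocalRing.residue A).comp ψ).FiniteType) : ψ.FiniteType := by
  letI : Algebra R A := ψ.toAlgebra
  letI : Algebra R (IsLocalRing.ResidueField A) := ((IsLocalRing.residue A).comp ψ).toAlgebra
  haveI : IsScalarTower R A (IsLocalRing.ResidueField A) :=
    IsScalarTower.of_algebraMap_eq (fun _ => rfl)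
  let res : A →ₐ[R] IsLocalRing.ResidueField A := IsScalarTower.toAlgHom R A _
  have hres : ∀ a, res a = IsLocalRing.residue A a := fun _ => rfl
  have hft : Algebra.FiniteType R (IsLocalRing.ResidueField A) := h
  obtain ⟨s, hs⟩ := hft.out
  -- lift s
  have hsurj : Function.Surjective res := Ideal.Quotient.mk_surjective
  choose lift hlift using hsurj
  classical
  let s' : Finset A := s.image lift
  -- generators of the maximal ideal
  obtain ⟨T, hT⟩ := (inferInstance : IsNoetherianRing A).noetherian (IsLocalRing.maximalIdeal A)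
  let G : Finset A := s' ∪ T
  let B : Subalgebra R A := Algebra.adjoin R (G : Set A)
  suffices hB : B = ⊤ by
    show Algebra.FiniteType R A
    exact ⟨⟨G, hB⟩⟩
  -- B → κ surjective
  have hBres : ∀ a : A, ∃ b ∈ B, a - b ∈ IsLocalRing.maximalIdeal A := by
    intro a
    have h1 : res a ∈ (Algebra.adjoin R (s : Set (IsLocalRing.ResidueField A))) := by
      rw [hs]; trivial
    have h2 : Algebra.adjoin R (s : Set (IsLocalRing.ResidueField A)) ≤ B.map res := by
      rw [Algebra.adjoin_le_iff]
      intro x hx
      refine ⟨lift x, Algebra.subset_adjoin ?_, hlift x⟩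
      simp only [G, s', Finset.coe_union, Finset.coe_image]
      exact Or.inl ⟨x, hx, rfl⟩
    obtain ⟨b, hb, hba⟩ := h2 h1
    refine ⟨b, hb, ?_⟩
    rw [← Ideal.Quotient.eq_zero_iff_mem] 
    show IsLocalRing.residue A (a - b) = 0
    rw [map_sub, ← hres, ← hres, ← hba]
    simp
  -- apply nilpotent Nakayama to the B-module A
  obtain ⟨N, hN⟩ : ∃ N : ℕ, (IsLocalRing.maximalIdeal A) ^ N = ⊥ := by
    have := IsArtinianRing.isNilpotent_jacobson_bot (R := A)
    rw [IsLocalRing.jacobson_eq_maximalIdeal ⊥ bot_ne_top] at this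
    exact this
  have hTB : ∀ x ∈ T, x ∈ B := fun x hx => Algebra.subset_adjoin (by
    simp only [G, Finset.coe_union]; exact Or.inr hx)
  let J : Ideal B := Ideal.span {x : B | (x : A) ∈ T}
  have hJmap : J.map (algebraMap B A) ≤ IsLocalRing.maximalIdeal A := by
    rw [Ideal.map_span, Ideal.span_le]
    rintro _ ⟨x, hx, rfl⟩
    rw [← hT]
    exact Ideal.subset_span hx
  have hJN : J ^ N = ⊥ := by
    rw [eq_bot_iff]
    intro x hx
    have h1 : algebraMap B A x ∈ (J ^ N).map (algebraMap B A) := Ideal.mem_map_of_mem _ hx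
    rw [Ideal.map_pow] at h1
    have h2 := Ideal.pow_right_mono hJmap N h1
    rw [hN] at h2
    have h3 : (x : A) = 0 := h2
    exact Subtype.ext h3
  let N' : Submodule B A := LinearMap.range (Algebra.linearMap B A)
  have hN' : N' = ⊤ := by
    apply eq_top_of_sup_smul_eq_top J N hJN
    rw [eq_top_iff]
    intro a _
    obtain ⟨b, hb, hab⟩ := hBres a
    have h1 : a - b ∈ J • (⊤ : Submodule B A) := by
      rw [← hT] at hab
      refine Submodule.span_induction (p := fun x _ => x ∈ J • (⊤ : Submodule B A)) ?_ ?_ ?_ ?_ hab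
      · intro x hx
        have : x = (⟨x, hTB x hx⟩ : B) • (1 : A) := by
          rw [Algebra.smul_def, mul_one]; rfl
        rw [this]
        exact Submodule.smul_mem_smul (Ideal.subset_span hx) trivial
      · exact Submodule.zero_mem _
      · intro x y _ _ hx hy
        exact Submodule.add_mem _ hx hy
      · intro c x _ hx
        -- c • x with c : A
        refine Submodule.smul_induction_on hx ?_ ?_
        · intro j hj n _
          have : c • (j • n) = j • (c * n) := by
            simp only [Algebra.smul_def, smul_eq_mul, Algebra.algebraMap_self, RingHom.id_apply]; ring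
          rw [this]
          exact Submodule.smul_mem_smul hj trivial
        · intro x y hx hy
          rw [smul_add]
          exact Submodule.add_mem _ hx hy
    have h2 : b ∈ N' := ⟨⟨b, hb⟩, rfl⟩
    have : a = b + (a - b) := by ring
    rw [this]
    exact Submodule.add_mem _ (Submodule.mem_sup_left h2) (Submodule.mem_sup_right h1)
  rw [eq_top_iff]
  intro a _
  have : a ∈ N' := hN' ▸ trivial
  obtain ⟨b, rfl⟩ := this
  exact b.2


theorem main (S : Scheme.{u}) (A : Type u) [CommRing A] [IsArtinianRing A] [IsLocalRing A]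
    (f : Spec (CommRingCat.of A) ⟶ S) :
    LocallyOfFiniteType f ↔
      LocallyOfFiniteType (Spec.map (CommRingCat.ofHom (IsLocalRing.residue A)) ≫ f) := by
  constructor
  · intro hf
    have : IsClosedImmersion (Spec.map (CommRingCat.ofHom (IsLocalRing.residue A))) :=
      IsClosedImmersion.spec_of_surjective _ Ideal.Quotient.mk_surjective
    infer_instance
  · intro hg
    have hQ := (RingHom.finiteType_stableUnderComposition.stableUnderCompositionWithLocalizationAway
      RingHom.finiteType_holdsForLocalizationAway).1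
    rw [HasRingHomProperty.iff_exists_appLE (P := @LocallyOfFiniteType) hQ]
    intro x
    obtain ⟨U, hU, hfx, -⟩ := exists_isAffineOpen_mem_and_subset (x := f x) (U := ⊤) trivial
    have hsub : ∀ y : Spec (CommRingCat.of A), y = x := by
      intro y
      apply PrimeSpectrum.ext
      have := y.isPrime
      have := x.isPrime
      have h1 := IsLocalRing.eq_maximalIdeal (IsArtinianRing.isMaximal_of_isPrime y.asIdeal)
      have h2 := IsLocalRing.eq_maximalIdeal (IsArtinianRing.isMaximal_of_isPrime x.asIdeal)
      rw [h1, h2]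
    have htop : (⊤ : (Spec (CommRingCat.of A)).Opens) ≤ f ⁻¹ᵁ U := by
      intro y _
      rw [hsub y]
      exact hfx
    refine ⟨⟨U, hU⟩, ⟨⊤, isAffineOpen_top _⟩, trivial, htop, ?_⟩
    let r := Spec.map (CommRingCat.ofHom (IsLocalRing.residue A))
    have htop' : (⊤ : (Spec (CommRingCat.of (IsLocalRing.ResidueField A))).Opens) ≤
        (r ≫ f) ⁻¹ᵁ U := by
      intro y _
      show f (r y) ∈ U
      rw [hsub (r y)]
      exact hfx
    have h1 := HasRingHomProperty.appLE (P := @LocallyOfFiniteType) _ hg ⟨U, hU⟩
      ⟨⊤, isAffineOpen_top _⟩ htop'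
    have htt : (⊤ : (Spec (CommRingCat.of (IsLocalRing.ResidueField A))).Opens) ≤ r ⁻¹ᵁ ⊤ :=
      fun _ _ => trivial
    have h2 : (r ≫ f).appLE U ⊤ htop' = f.appLE U ⊤ htop ≫ r.appLE ⊤ ⊤ htt :=
      (Scheme.Hom.appLE_comp_appLE r f U ⊤ ⊤ htop htt).symm
    have h3 : r.appLE ⊤ ⊤ htt = r.appTop := by
      show r.appLE ⊤ (r ⁻¹ᵁ ⊤) le_rfl = r.app ⊤
      exact (r.app_eq_appLE).symm
    let ψ : Γ(S, U) →+* A := (f.appLE U ⊤ htop ≫ (Scheme.ΓSpecIso (CommRingCat.of A)).hom).hom
    have hψ : ((IsLocalRing.residue A).comp ψ).FiniteType := by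
      have e : CommRingCat.ofHom ((IsLocalRing.residue A).comp ψ) =
          (r ≫ f).appLE U ⊤ htop' ≫
            (Scheme.ΓSpecIso (CommRingCat.of (IsLocalRing.ResidueField A))).hom := by
        rw [h2, h3, Category.assoc, Scheme.ΓSpecIso_naturality]
        rfl
      have : (CommRingCat.ofHom ((IsLocalRing.residue A).comp ψ)).hom.FiniteType := by
        rw [e]
        exact (RingHom.finiteType_respectsIso.cancel_right_isIso _ _).mpr h1
      exact this
    have hψ' := finiteType_of_residue ψ hψ
    have e2 : f.appLE U ⊤ htop = CommRingCat.ofHom ψ ≫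
        (Scheme.ΓSpecIso (CommRingCat.of A)).inv := by
      simp [ψ]
    rw [e2]
    exact (RingHom.finiteType_respectsIso.cancel_right_isIso _ _).mpr hψ'

end Helpers


open AlgebraicGeometry CategoryTheory in
/-- For an Artinian local ring A with residue field κ, a morphism f : Spec A → S is (locally) of finite
type exactly when the composite Spec κ → Spec A → S is. -/
theorem result (S : Scheme.{u}) (A : Type u) [CommRing A] [IsArtinianRing A] [IsLocalRing A]
    (f : Spec (CommRingCat.of A) ⟶ S) :
    LocallyOfFiniteType f ↔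
      LocallyOfFiniteType (Spec.map (CommRingCat.ofHom (IsLocalRing.residue A)) ≫ f) := by
  exact main S A f

end Groth.Agent.S9338
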