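import Groth.Statements.S9340
import Mathlib
import Groth.Agent.S9339

set_option autoImplicit false
universe u
open FtPts

namespace Groth.Agent.S9340aux

open CategoryTheory CategoryTheory.Limits AlgebraicGeometry

/-- Every nonempty scheme has a finite type point. -/
theorem exists_ftPoint (Z : Scheme.{u}) [Nonempty Z] : ∃ z : Z, LocallyOfFiniteType (Z.fromSpecResidueField z) := by
  obtain ⟨z₀⟩ := ‹Nonempty Z›
  obtain ⟨_, ⟨V, hV, rfl⟩, hzV, -⟩ := Z.isBasis_affineOpens.exists_subset_of_mem_open (Set.mem_univ z₀) isOpen_univ
  have : IsAffine (V : Scheme.{u}) := hV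
  have hne : (Set.univ : Set (V : Scheme.{u})).Nonempty := ⟨⟨z₀, hzV⟩, trivial⟩
  obtain ⟨y, -, hy⟩ := IsClosed.exists_closed_singleton isClosed_univ hne
  have hci : IsClosedImmersion ((V : Scheme.{u}).fromSpecResidueField y) := isClosed_singleton_iff_isClosedImmersion.mp hy
  have hft : LocallyOfFiniteType ((V : Scheme.{u}).fromSpecResidueField y) := inferInstance
  exact ⟨Scheme.Opens.ι V y, Groth.Agent.S9339aux.main (Scheme.Opens.ι V) y hft⟩

theorem main {T S : Scheme.{u}} (f : T ⟶ S) [LocallyOfFiniteType f] [Surjective f] :
    f.base '' {t : ↑T | LocallyOfFiniteType (T.fromSpecResidueField t)} =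
      {s : ↑S | LocallyOfFiniteType (S.fromSpecResidueField s)} := by
  apply Set.Subset.antisymm
  · rintro _ ⟨t, ht, rfl⟩
    exact Groth.Agent.S9339aux.main f t ht
  · intro s hs
    have hs' : LocallyOfFiniteType (S.fromSpecResidueField s) := hs
    obtain ⟨t₀, ht₀⟩ := f.surjective s
    set j := S.fromSpecResidueField s with hj
    have y₀ : Spec (S.residueField s) := Classical.arbitrary _
    have hjy : j y₀ = s := Scheme.fromSpecResidueField_apply _ _
    obtain ⟨z₀, -, -⟩ := Scheme.Pullback.exists_preimage_pullback (f := f) (g := j) t₀ y₀ (by rw [ht₀, hjy])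
    have : Nonempty ↑(pullback f j) := ⟨z₀⟩
    obtain ⟨z, hz⟩ := exists_ftPoint (pullback f j)
    have hfst : LocallyOfFiniteType (pullback.fst f j) := inferInstance
    refine ⟨pullback.fst f j z, Groth.Agent.S9339aux.main (pullback.fst f j) z hz, ?_⟩
    have h1 : f (pullback.fst f j z) = j (pullback.snd f j z) := by
      rw [← Scheme.Hom.comp_apply, ← Scheme.Hom.comp_apply, pullback.condition]
    change f (pullback.fst f j z) = s
    rw [h1]
    exact Scheme.fromSpecResidueField_apply _ _

end Groth.Agent.S9340aux

namespace Groth.Agent.S9340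

open AlgebraicGeometry CategoryTheory in
/-- A surjective morphism locally of finite type maps the set of finite type points of the source onto
the set of finite type points of the target. -/
theorem result {T S : Scheme.{u}} (f : T ⟶ S) [LocallyOfFiniteType f] [Surjective f] :
    f.base '' {t : ↑T | LocallyOfFiniteType (T.fromSpecResidueField t)} =
      {s : ↑S | LocallyOfFiniteType (S.fromSpecResidueField s)} := by
  exact Groth.Agent.S9340aux.main f

end Groth.Agent.S9340
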