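import Groth.Statements.S9347
import Mathlib

set_option autoImplicit false
universe u
open Dom

namespace Groth.Agent.S9347

/-- ring level: points in the closure of the image are specializations of points in the image -/
theorem exists_specializes_of_mem_closure_range_comap {A R : Type u} [CommRing A] [CommRing R]
    (φ : A →+* R) (p : PrimeSpectrum A)
    (hp : p ∈ closure (Set.range (PrimeSpectrum.comap φ))) :
    ∃ q : PrimeSpectrum R, PrimeSpectrum.comap φ q ⤳ p := by
  rw [PrimeSpectrum.closure_range_comap] at hp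
  have hle : (⊥ : Ideal R).comap φ ≤ p.asIdeal := by
    rw [← RingHom.ker_eq_comap_bot]
    exact hp
  obtain ⟨q, -, hq, hqle⟩ := Ideal.exists_ideal_comap_le_prime p.asIdeal (⊥ : Ideal R) hle
  refine ⟨⟨q, hq⟩, ?_⟩
  rw [← PrimeSpectrum.le_iff_specializes]
  exact hqle

open AlgebraicGeometry CategoryTheory CategoryTheory.Limits in
/-- affine target case -/
theorem exists_specializes_of_affine_target {X : Scheme.{u}} {A : CommRingCat.{u}}
    (f : X ⟶ Spec A) [QuasiCompact f] (s : Spec A) (hs : s ∈ closure (Set.range f)) :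
    ∃ x : X, f x ⤳ s := by
  have : CompactSpace X := QuasiCompact.compactSpace_of_compactSpace f
  obtain ⟨R', g, hg⟩ := compactSpace_iff_exists.mp this
  have hrange : Set.range (g ≫ f) = Set.range f := by
    simp only [Scheme.Hom.comp_base, TopCat.hom_comp, ContinuousMap.coe_comp]
    exact hg.range_comp _
  obtain ⟨φ, hφ⟩ := Spec.map_surjective (g ≫ f)
  rw [← hrange, ← hφ] at hs
  obtain ⟨q, hq⟩ := exists_specializes_of_mem_closure_range_comap φ.hom s hs
  refine ⟨g q, ?_⟩
  have : f (g q) = (Spec.map φ) q := by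
    rw [hφ]; rfl
  rw [this]
  exact hq

open AlgebraicGeometry CategoryTheory CategoryTheory.Limits in
/-- general case -/
theorem exists_specializes_of_mem_closure_range {X S : Scheme.{u}}
    (f : X ⟶ S) [QuasiCompact f] (s : S) (hs : s ∈ closure (Set.range f)) :
    ∃ x : X, f x ⤳ s := by
  let 𝒰 := S.affineCover
  obtain ⟨i, y, rfl⟩ := 𝒰.exists_eq s
  have hr : Set.range (pullback.snd f (𝒰.f i)) = (𝒰.f i) ⁻¹' Set.range f :=
    Scheme.Pullback.range_snd f (𝒰.f i)
  have hy : y ∈ closure (Set.range (pullback.snd f (𝒰.f i))) := by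
    rw [hr, ← (𝒰.f i).isOpenEmbedding.isOpenMap.preimage_closure_eq_closure_preimage
      (𝒰.f i).continuous]
    exact hs
  obtain ⟨z, hz⟩ := exists_specializes_of_affine_target (pullback.snd f (𝒰.f i)) y hy
  refine ⟨pullback.fst f (𝒰.f i) z, ?_⟩
  have h1 := hz.map (𝒰.f i).continuous
  have h2 : (𝒰.f i) (pullback.snd f (𝒰.f i) z) = f (pullback.fst f (𝒰.f i) z) := by
    rw [← Scheme.Hom.comp_apply, ← Scheme.Hom.comp_apply, pullback.condition]
  exact h2 ▸ h1

open AlgebraicGeometry CategoryTheory in
/-- Let f : X → S be quasi-compact and let η ∈ S be a point whose closure is an irreducible component of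
S (a maximal point of S). If η is not in the image of f, then η has an open neighbourhood V with
f⁻¹(V) empty. -/
theorem result {X S : Scheme.{u}} (f : X ⟶ S) [QuasiCompact f]
    (η : ↑S) (hη : closure {η} ∈ irreducibleComponents (↑S : Type u)) (hnot : η ∉ Set.range f.base) :
    ∃ V : S.Opens, η ∈ V ∧ f ⁻¹ᵁ V = ⊥ := by
  have hηcl : η ∉ closure (Set.range f) := by
    intro hcl
    obtain ⟨x, hx⟩ := exists_specializes_of_mem_closure_range f η hcl
    apply hnot
    refine ⟨x, ?_⟩
    have h1 : closure {η} ⊆ closure {f x} := specializes_iff_closure_subset.mp hx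
    have h2 : IsIrreducible (closure {f x}) := isIrreducible_singleton.closure
    have h3 : closure {f x} ⊆ closure {η} := hη.2 h2 h1
    have h4 : closure {f x} = closure {η} := subset_antisymm h3 h1
    have h5 : Inseparable (f x) η := inseparable_iff_closure_eq.mpr h4
    exact h5.eq
  refine ⟨⟨(closure (Set.range f))ᶜ, isClosed_closure.isOpen_compl⟩, hηcl, ?_⟩
  rw [eq_bot_iff]
  intro x hx
  exact (hx (subset_closure ⟨x, rfl⟩)).elim

end Groth.Agent.S9347
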