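import Groth.Statements.S9345
import Mathlib

set_option autoImplicit false
universe u
open Dom

namespace Groth.Agent.S9345

/-- topological core: for a continuous dense-range map from a space with finitely many irreducible
components, every irreducible component of the target is the closure of the image of one of the
source. -/
theorem exists_component_eq_closure_image {α β : Type*} [TopologicalSpace α] [TopologicalSpace β]
    [QuasiSober β] (f : α → β) (hf : Continuous f) (hd : DenseRange f)
    (hα : (irreducibleComponents α).Finite) (W : Set β) (hW : W ∈ irreducibleComponents β) :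
    ∃ Z ∈ irreducibleComponents α, W = closure (f '' Z) := by
  obtain ⟨η, hη⟩ := QuasiSober.sober hW.1 (isClosed_of_mem_irreducibleComponents W hW)
  have h1 : Set.range f = ⋃ Z ∈ irreducibleComponents α, f '' Z := by
    rw [← Set.image_univ, ← sUnion_irreducibleComponents, Set.sUnion_eq_biUnion, Set.image_iUnion₂]
  have h2 : η ∈ closure (Set.range f) := hd η
  rw [h1, hα.closure_biUnion] at h2
  simp only [Set.mem_iUnion] at h2
  obtain ⟨Z, hZ, hηZ⟩ := h2
  refine ⟨Z, hZ, ?_⟩
  have hirr : IsIrreducible (closure (f '' Z)) := (hZ.1.image f hf.continuousOn).closure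
  have hsub : W ⊆ closure (f '' Z) := by
    rw [← hη.def]
    exact closure_minimal (Set.singleton_subset_iff.mpr hηZ) isClosed_closure
  exact subset_antisymm hsub (hW.2 hirr hsub)

open AlgebraicGeometry CategoryTheory in
/-- For a morphism f : X → S whose source has only finitely many irreducible components, the image of f
is dense exactly when it contains the generic point of each irreducible component of S, and then S
too has finitely many. -/
theorem result {X S : Scheme.{u}} (f : X ⟶ S)
    (hX : (irreducibleComponents (↑X : Type u)).Finite) :
    (IsDominant f ↔ ∀ s : ↑S, closure {s} ∈ irreducibleComponents (↑S : Type u) → s ∈ Set.range f.base) ∧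
      (IsDominant f → (irreducibleComponents (↑S : Type u)).Finite) := by
  refine ⟨⟨fun hdom s hs => ?_, fun H => ?_⟩, fun hdom => ?_⟩
  · obtain ⟨Z, hZ, hWZ⟩ := exists_component_eq_closure_image f.base f.continuous f.denseRange hX _ hs
    obtain ⟨ξ, hξ⟩ := QuasiSober.sober hZ.1 (isClosed_of_mem_irreducibleComponents Z hZ)
    have h1 : IsGenericPoint (f.base ξ) (closure (f.base '' Z)) := hξ.image f.continuous
    rw [← hWZ] at h1
    have h2 : IsGenericPoint s (closure {s}) := isGenericPoint_closure
    exact ⟨ξ, h1.eq h2⟩
  · constructor
    intro s
    have hW := irreducibleComponent_mem_irreducibleComponents s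
    obtain ⟨η, hη⟩ := QuasiSober.sober hW.1 (isClosed_of_mem_irreducibleComponents _ hW)
    have h1 : η ∈ Set.range f.base := H η (by rw [hη.def]; exact hW)
    have h2 : s ∈ closure {η} := by rw [hη.def]; exact mem_irreducibleComponent
    exact closure_mono (Set.singleton_subset_iff.mpr h1) h2
  · apply (hX.image (fun Z => closure (f.base '' Z))).subset
    intro W hW
    obtain ⟨Z, hZ, hWZ⟩ := exists_component_eq_closure_image f.base f.continuous f.denseRange hX W hW
    exact ⟨Z, hZ, hWZ.symm⟩

end Groth.Agent.S9345
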