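import Groth.Statements.S9346
import Mathlib
import Groth.Agent.Lib.helper4.GenFin6

set_option autoImplicit false
universe u
open Dom

namespace Groth.Agent.S9346

section Helpers
open AlgebraicGeometry CategoryTheory TopologicalSpace

variable {X Y : Scheme.{u}} [IsIntegral X] [IsIntegral Y] (f : X ⟶ Y)

theorem gen_mem {Z : Scheme.{u}} [IsIntegral Z] (O : Z.Opens) (h : (O : Set Z).Nonempty) :
    genericPoint Z ∈ O :=
  ((genericPoint_spec Z).mem_open_set_iff O.isOpen).2 (by
    obtain ⟨z, hz⟩ := h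
    exact ⟨z, trivial, hz⟩)

theorem inj_of_gen (h2 : f (genericPoint X) = genericPoint Y) (U : X.Opens) (V : Y.Opens)
    (hUV : U ≤ f ⁻¹ᵁ V) (hne : (U : Set X).Nonempty) :
    Function.Injective (f.appLE V U hUV) := by
  rw [injective_iff_map_eq_zero]
  intro a ha
  by_contra hane
  have h1 : Y.basicOpen a ≠ ⊥ := fun h => hane ((AlgebraicGeometry.basicOpen_eq_bot_iff a).mp h)
  have h1' : ((Y.basicOpen a : Y.Opens) : Set Y).Nonempty := by
    rw [Set.nonempty_iff_ne_empty]
    intro h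
    exact h1 (Opens.ext h)
  have h3 : genericPoint Y ∈ Y.basicOpen a := gen_mem _ h1'
  have h4 : genericPoint X ∈ U ⊓ f ⁻¹ᵁ (Y.basicOpen a) :=
    ⟨gen_mem U hne, by show f (genericPoint X) ∈ Y.basicOpen a; rw [h2]; exact h3⟩
  rw [← Scheme.basicOpen_appLE f U V hUV a, ha] at h4
  simp at h4

theorem gen_of_inj (U : X.Opens) (V : Y.Opens) (hUV : U ≤ f ⁻¹ᵁ V) (hV : IsAffineOpen V)
    (hne : (U : Set X).Nonempty) (hinj : Function.Injective (f.appLE V U hUV)) :
    f (genericPoint X) = genericPoint Y := by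
  have hξU : genericPoint X ∈ U := gen_mem U hne
  have hfV : f (genericPoint X) ∈ V := hUV hξU
  have hgen : IsGenericPoint (f (genericPoint X)) (⊤ : Set Y) := by
    rw [isGenericPoint_def, Set.top_eq_univ, ← dense_iff_closure_eq, dense_iff_inter_open]
    intro O hO hOne
    -- O ∩ V is a nonempty open of V
    have hOV : ((⟨O, hO⟩ : Y.Opens) ⊓ V : Y.Opens) ≠ ⊥ := by
      intro h
      have h1 : genericPoint Y ∈ (⟨O, hO⟩ : Y.Opens) := gen_mem _ hOne
      have h2 : genericPoint Y ∈ V := gen_mem _ ⟨_, hfV⟩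
      have : genericPoint Y ∈ ((⟨O, hO⟩ : Y.Opens) ⊓ V : Y.Opens) := ⟨h1, h2⟩
      rw [h] at this
      exact this
    obtain ⟨y, hyO, hyV⟩ : ∃ y, y ∈ O ∧ y ∈ V := by
      by_contra hcon
      push Not at hcon
      apply hOV
      ext y
      simp only [Opens.coe_inf, Opens.coe_mk, Set.mem_inter_iff, SetLike.mem_coe, Opens.coe_bot,
        Set.mem_empty_iff_false, iff_false, not_and]
      exact hcon y
    obtain ⟨a, haO, hya⟩ := IsAffineOpen.exists_basicOpen_le hV (V := ⟨O, hO⟩) ⟨y, hyO⟩ hyV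
    have hane : a ≠ 0 := by
      rintro rfl
      simp at hya
    have h3 : f.appLE V U hUV a ≠ 0 := fun h => hane (hinj (h.trans (map_zero _).symm))
    have h4 : X.basicOpen (f.appLE V U hUV a) ≠ ⊥ :=
      fun h => h3 ((AlgebraicGeometry.basicOpen_eq_bot_iff _).mp h)
    have h5 : genericPoint X ∈ X.basicOpen (f.appLE V U hUV a) := by
      apply gen_mem
      rw [Set.nonempty_iff_ne_empty]
      intro h
      exact h4 (Opens.ext h)
    rw [Scheme.basicOpen_appLE] at h5
    exact ⟨f (genericPoint X), haO h5.2, Set.mem_singleton _⟩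
  exact hgen.eq (genericPoint_spec Y)

theorem dominant_of_gen (h2 : f (genericPoint X) = genericPoint Y) : IsDominant f := by
  constructor
  have h1 : Dense ({genericPoint Y} : Set Y) := by
    rw [dense_iff_closure_eq]
    exact (genericPoint_spec Y).def
  refine h1.mono ?_
  rintro _ rfl
  exact ⟨genericPoint X, h2⟩

theorem germ_appLE (U : X.Opens) (V : Y.Opens) (hUV : U ≤ f ⁻¹ᵁ V) (x : X) (hx : x ∈ U)
    (a : Γ(Y, V)) :
    X.presheaf.germ U x hx (f.appLE V U hUV a) =
      f.stalkMap x (Y.presheaf.germ V (f x) (hUV hx) a) := by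
  have h := Scheme.Hom.germ_stalkMap_apply f V x (hUV hx) a
  rw [h, Scheme.Hom.appLE, CommRingCat.comp_apply, TopCat.Presheaf.germ_res_apply]

theorem stalk_inj_of_gen (h2 : f (genericPoint X) = genericPoint Y) (x : X) :
    Function.Injective (f.stalkMap x) := by
  rw [injective_iff_map_eq_zero]
  intro a' ha'
  obtain ⟨W, hxW, b, rfl⟩ := Y.presheaf.exists_germ_eq a'
  have hb := ha'
  rw [Scheme.Hom.germ_stalkMap_apply] at hb
  have h0 : f.app W b = 0 := by
    apply germ_injective_of_isIntegral X x hxW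
    rw [hb, map_zero]
  have h1 : b = 0 := by
    have := inj_of_gen f h2 (f ⁻¹ᵁ W) W le_rfl ⟨x, hxW⟩
    apply this
    rw [Scheme.Hom.appLE_eq_app, h0, map_zero]
  rw [h1, map_zero]

theorem inj_of_stalk_inj (x : X) (hx : Function.Injective (f.stalkMap x)) (U : X.Opens)
    (V : Y.Opens) (hUV : U ≤ f ⁻¹ᵁ V) (hxU : x ∈ U) : Function.Injective (f.appLE V U hUV) := by
  rw [injective_iff_map_eq_zero]
  intro a ha
  have h1 := germ_appLE f U V hUV x hxU a
  rw [ha, map_zero] at h1
  have h2 : Y.presheaf.germ V (f x) (hUV hxU) a = 0 := hx (h1.symm.trans (map_zero _).symm)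
  exact germ_injective_of_isIntegral Y (f x) (hUV hxU) (h2.trans (map_zero _).symm)

theorem exists_affine_pair (x : X) : ∃ (U : X.Opens) (V : Y.Opens) (hUV : U ≤ f ⁻¹ᵁ V),
    IsAffineOpen U ∧ IsAffineOpen V ∧ x ∈ U := by
  obtain ⟨_, ⟨V, hV, rfl⟩, hxV, -⟩ := (Y.isBasis_affineOpens).exists_subset_of_mem_open
    (Set.mem_univ (f x)) isOpen_univ
  obtain ⟨_, ⟨U, hU, rfl⟩, hxU, hUV⟩ := (X.isBasis_affineOpens).exists_subset_of_mem_open
    (show x ∈ ((f ⁻¹ᵁ V : X.Opens) : Set X) from hxV) (f ⁻¹ᵁ V).2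
  exact ⟨U, V, hUV, hU, hV, hxU⟩

theorem main :
    [IsDominant f,
      f.base (genericPoint ↑X) = genericPoint ↑Y,
      ∃ (U : X.Opens) (V : Y.Opens) (hUV : U ≤ f ⁻¹ᵁ V), IsAffineOpen U ∧ IsAffineOpen V ∧
        (U : Set ↑X).Nonempty ∧ Function.Injective (f.appLE V U hUV),
      ∀ (U : X.Opens) (V : Y.Opens) (hUV : U ≤ f ⁻¹ᵁ V), IsAffineOpen U → IsAffineOpen V →
        (U : Set ↑X).Nonempty → Function.Injective (f.appLE V U hUV),
      ∃ x : ↑X, Function.Injective (f.stalkMap x),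
      ∀ x : ↑X, Function.Injective (f.stalkMap x)].TFAE := by
  tfae_have 1 → 2 := fun h => Groth.Agent.H4GF.map_genericPoint_of_isDominant f
  tfae_have 2 → 1 := fun h => dominant_of_gen f h
  tfae_have 2 → 4 := fun h U V hUV _ _ hne => inj_of_gen f h U V hUV hne
  tfae_have 4 → 3 := by
    intro h
    obtain ⟨U, V, hUV, hU, hV, hx⟩ := exists_affine_pair f (genericPoint X)
    exact ⟨U, V, hUV, hU, hV, ⟨_, hx⟩, h U V hUV hU hV ⟨_, hx⟩⟩
  tfae_have 3 → 2 := by
    rintro ⟨U, V, hUV, hU, hV, hne, hinj⟩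
    exact gen_of_inj f U V hUV hV hne hinj
  tfae_have 2 → 6 := fun h x => stalk_inj_of_gen f h x
  tfae_have 6 → 5 := fun h => ⟨genericPoint X, h _⟩
  tfae_have 5 → 3 := by
    rintro ⟨x, hx⟩
    obtain ⟨U, V, hUV, hU, hV, hxU⟩ := exists_affine_pair f x
    exact ⟨U, V, hUV, hU, hV, ⟨x, hxU⟩, inj_of_stalk_inj f x hx U V hUV hxU⟩
  tfae_finish

end Helpers


open AlgebraicGeometry CategoryTheory in
/-- For a morphism f : X → Y between integral schemes, these six conditions coincide: (1) f is dominant;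
(2) f sends the generic point of X to that of Y; (3) there exist affine opens U ⊆ X, V ⊆ Y with U
nonempty and U ⊆ f⁻¹V such that the induced ring map on sections is injective; (4) the same for all
such pairs; (5) for some x ∈ X the map of local rings O_{Y,f x} → O_{X,x} is injective; (6) the same
for all x. -/
theorem result {X Y : Scheme.{u}} [AlgebraicGeometry.IsIntegral X] [AlgebraicGeometry.IsIntegral Y] (f : X ⟶ Y) :
    [IsDominant f,
      f.base (genericPoint ↑X) = genericPoint ↑Y,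
      ∃ (U : X.Opens) (V : Y.Opens) (hUV : U ≤ f ⁻¹ᵁ V), IsAffineOpen U ∧ IsAffineOpen V ∧ (U : Set ↑X).Nonempty ∧
        Function.Injective (f.appLE V U hUV),
      ∀ (U : X.Opens) (V : Y.Opens) (hUV : U ≤ f ⁻¹ᵁ V), IsAffineOpen U → IsAffineOpen V → (U : Set ↑X).Nonempty →
        Function.Injective (f.appLE V U hUV),
      ∃ x : ↑X, Function.Injective (f.stalkMap x),
      ∀ x : ↑X, Function.Injective (f.stalkMap x)].TFAE := by
  exact main f

end Groth.Agent.S9346
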