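import Groth.Statements.S9348
import Mathlib

set_option autoImplicit false
universe u
open Dom

namespace Groth.Agent.S9348

open AlgebraicGeometry CategoryTheory in
/-- Let f : X → Y be a morphism and g : Y' → Y open and surjective. If the base change f' : X ×_Y Y' →
Y' of f is quasi-compact, then so is f. -/
theorem result {X Y X' Y' : Scheme.{u}} (f : X ⟶ Y) (g : Y' ⟶ Y) [Surjective g]
    (hg : IsOpenMap g.base) (g' : X' ⟶ X) (f' : X' ⟶ Y') (hsq : IsPullback g' f' f g) [QuasiCompact f'] :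
    QuasiCompact f := by
  constructor
  intro U hUo hUc
  -- cover `g⁻¹ U` by affine opens
  have hcov : ∀ y' : ↥(g.base ⁻¹' U), ∃ W : Y'.Opens, IsAffineOpen W ∧ y'.1 ∈ W ∧
      W.1 ⊆ g.base ⁻¹' U := by
    intro y'
    exact exists_isAffineOpen_mem_and_subset
      (U := ⟨g.base ⁻¹' U, hUo.preimage g.base.hom.continuous⟩) y'.2
  choose W hWaff hWmem hWsub using hcov
  have hUcov : U ⊆ ⋃ y', g.base '' (W y').1 := by
    intro y hy
    obtain ⟨y', rfl⟩ := g.surjective y
    exact Set.mem_iUnion.mpr ⟨⟨y', hy⟩, y', hWmem ⟨y', hy⟩, rfl⟩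
  obtain ⟨t, ht⟩ := hUc.elim_finite_subcover (fun y' => g.base '' (W y').1)
    (fun y' => hg _ (W y').2) hUcov
  let K : Set Y' := ⋃ y' ∈ t, (W y').1
  have hKc : IsCompact K := t.isCompact_biUnion (fun y' _ => (hWaff y').isCompact)
  have hKo : IsOpen K := isOpen_biUnion (fun y' _ => (W y').2)
  have hgK : g.base '' K = U := by
    apply subset_antisymm
    · rintro _ ⟨k, hk, rfl⟩
      simp only [K, Set.mem_iUnion] at hk
      obtain ⟨y', _, hk⟩ := hk
      exact hWsub y' hk
    · intro y hy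
      have := ht hy
      simp only [Set.mem_iUnion] at this
      obtain ⟨y', hy't, k, hk, rfl⟩ := this
      exact ⟨k, Set.mem_iUnion₂.mpr ⟨y', hy't, hk⟩, rfl⟩
  have h1 : IsCompact (f'.base ⁻¹' K) := QuasiCompact.isCompact_preimage K hKo hKc
  have h2 := Scheme.image_preimage_eq_of_isPullback hsq.flip K
  rw [hgK] at h2
  rw [← h2]
  exact h1.image g'.base.hom.continuous

end Groth.Agent.S9348
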