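import Groth.Statements.S9358
import Groth.Agent.Lib.helper26.FibBC

set_option autoImplicit false
universe u
open FibDim

namespace Groth.Agent.S9358



open AlgebraicGeometry CategoryTheory in
/-- In a cartesian square with f : X → S locally of finite type and base change f' : X' → S', g' : X' →
X, one has dim_{x'}(X'_{f' x'}) = dim_{g' x'}(X_{f (g' x')}) for all x' ∈ X'; hence relative
dimension ≤ d and relative dimension d are preserved by base change. -/
theorem result {X S X' S' : Scheme.{u}} (f : X ⟶ S) [LocallyOfFiniteType f] (g : S' ⟶ S)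
    (g' : X' ⟶ X) (f' : X' ⟶ S') (hsq : IsPullback g' f' f g) (d : ℕ) :
    (∀ x' : ↑X', FlatMor.fibreDimAt f' x' = FlatMor.fibreDimAt f (g'.base x')) ∧
      ((∀ x : ↑X, FlatMor.fibreDimAt f x ≤ d) → ∀ x' : ↑X', FlatMor.fibreDimAt f' x' ≤ d) ∧
        (Cyc.HasRelDim f d → Cyc.HasRelDim f' d) := by
  have key := Groth.Agent.Lib.helper26.FibBC.fibreDimAt_of_isPullback f g g' f' hsq
  refine ⟨key, ?_, ?_⟩
  · intro h x'
    rw [key x']
    exact h _
  · intro h y' T hT
    exact Groth.Agent.Lib.helper26.FibBC.fiber_components_dim_of_isPullback f g g' f' hsq y' d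
      (h (g y')) T hT

end Groth.Agent.S9358
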