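import Groth.Statements.S9360
import Mathlib
-- import your own Groth.Agent.* helpers here

set_option autoImplicit false
universe u
open SchDense

namespace Groth.Agent.S9360

namespace H5S9360
open AlgebraicGeometry CategoryTheory TopologicalSpace

/-- (L1) target of an STD morphism from a reduced scheme is reduced -/
lemma isReduced_of_std {V W : Scheme.{u}} (j : V ⟶ W) [IsReduced V]
    [IsSchemeTheoreticallyDominant j] : IsReduced W := by
  have h1 : W.nilradical ≤ j.ker := by
    unfold Scheme.Hom.ker
    rw [Scheme.IdealSheafData.le_ofIdeals_iff]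
    intro U s hs
    rw [RingHom.mem_ker]
    have hs' : IsNilpotent s := by
      simp only [Scheme.nilradical, Scheme.IdealSheafData.radical_ideal,
        Scheme.IdealSheafData.ideal_bot, Pi.bot_apply] at hs
      exact hs
    exact (hs'.map (j.app U.1).hom).eq_zero
  rw [j.ker_eq_bot, le_bot_iff] at h1
  refine ⟨fun U => ⟨fun s hs => ?_⟩⟩
  refine W.IsSheaf.section_ext fun x hx => ?_
  obtain ⟨_, ⟨O, hO, rfl⟩, hxO, hOU : O ≤ U⟩ :=
    W.isBasis_affineOpens.exists_subset_of_mem_open hx U.isOpen
  refine ⟨O, hOU, hxO, ?_⟩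
  rw [map_zero]
  have h2 : (W.presheaf.map (homOfLE hOU).op s) ∈ W.nilradical.ideal ⟨O, hO⟩ := by
    have : IsNilpotent (W.presheaf.map (homOfLE hOU).op s) := hs.map (W.presheaf.map (homOfLE hOU).op).hom
    simp only [Scheme.nilradical, Scheme.IdealSheafData.radical_ideal,
      Scheme.IdealSheafData.ideal_bot, Pi.bot_apply]
    exact this
  rw [h1] at h2
  simpa using h2

/-- (L2) an STD morphism from a reduced scheme has dense range -/
lemma denseRange_of_std {V W : Scheme.{u}} (j : V ⟶ W) [IsReduced V]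
    [IsSchemeTheoreticallyDominant j] : DenseRange j.base := by
  let Z : Closeds W := ⟨closure (Set.range j.base), isClosed_closure⟩
  have h1 : Scheme.IdealSheafData.vanishingIdeal Z ≤ j.ker := by
    unfold Scheme.Hom.ker
    rw [Scheme.IdealSheafData.le_ofIdeals_iff]
    intro U s hs
    rw [RingHom.mem_ker]
    rw [Scheme.IdealSheafData.vanishingIdeal_ideal, PrimeSpectrum.mem_vanishingIdeal] at hs
    apply AlgebraicGeometry.eq_zero_of_basicOpen_eq_bot
    rw [← Scheme.preimage_basicOpen, eq_bot_iff]
    intro v hv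
    have hvU : j.base v ∈ U.1 := W.basicOpen_le s hv
    have h3 := hs (U.2.primeIdealOf ⟨j.base v, hvU⟩) (by
      rw [Set.mem_preimage, U.2.fromSpec_primeIdealOf]
      exact subset_closure ⟨v, rfl⟩)
    have h4 : U.2.primeIdealOf ⟨j.base v, hvU⟩ ∈ U.2.fromSpec ⁻¹ᵁ (W.basicOpen s) := by
      change U.2.fromSpec (U.2.primeIdealOf ⟨j.base v, hvU⟩) ∈ W.basicOpen s
      rw [U.2.fromSpec_primeIdealOf]
      exact hv
    rw [U.2.fromSpec_preimage_basicOpen] at h4
    exact (h4 h3).elim
  rw [j.ker_eq_bot, le_bot_iff] at h1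
  have h2 : ((Scheme.IdealSheafData.vanishingIdeal Z).support : Set W) = Z :=
    Scheme.IdealSheafData.coe_support_vanishingIdeal Z
  rw [h1, Scheme.IdealSheafData.support_bot] at h2
  rw [DenseRange, dense_iff_closure_eq]
  exact h2.symm


theorem main (X : Scheme.{u}) (U : X.Opens) [IsReduced (↑U : Scheme.{u})] :
    (IsSchemeTheoreticallyDominant U.ι ↔
        ∀ W : X.Opens, IsSchemeTheoreticallyDominant (X.homOfLE (inf_le_right : U ⊓ W ≤ W))) ∧
      (IsSchemeTheoreticallyDominant U.ι → IsReduced X) := by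
  refine ⟨⟨fun h W => ?_, fun h => ?_⟩, fun h => isReduced_of_std U.ι⟩
  · haveI : IsReduced X := isReduced_of_std U.ι
    have hd := denseRange_of_std U.ι
    haveI : IsDominant (X.homOfLE (inf_le_right : U ⊓ W ≤ W)) := by
      rw [isDominant_iff, DenseRange, dense_iff_inter_open]
      intro O hO hne
      have hO' : IsOpen (W.ι.base '' O) := W.ι.isOpenEmbedding.isOpenMap _ hO
      obtain ⟨x, ⟨w', hw'O, hw'x⟩, ⟨u, hu⟩⟩ :=
        hd.inter_open_nonempty _ hO' (hne.image _)
      have hxU : x ∈ U := by
        rw [← hu]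
        exact u.2
      have hxW : x ∈ W := by
        rw [← hw'x]
        exact w'.2
      refine ⟨w', hw'O, ⟨x, hxU, hxW⟩, ?_⟩
      rw [Scheme.homOfLE_apply']
      apply Subtype.ext
      exact hw'x.symm
    exact IsSchemeTheoreticallyDominant.of_isDominant _
  · have := h ⊤
    have e : U.ι = (X.isoOfEq (show U = U ⊓ ⊤ by simp)).hom ≫
        X.homOfLE (inf_le_right : U ⊓ ⊤ ≤ ⊤) ≫ (⊤ : X.Opens).ι := by
      simp
    rw [e]
    haveI : IsIso (⊤ : X.Opens).ι := by
      have : (⊤ : X.Opens).ι = X.topIso.hom := by simp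
      rw [this]
      infer_instance
    haveI : IsSchemeTheoreticallyDominant (X.homOfLE (inf_le_right : U ⊓ ⊤ ≤ ⊤) ≫ (⊤ : X.Opens).ι) :=
      inferInstance
    infer_instance

end H5S9360

open AlgebraicGeometry CategoryTheory in
/-- Let U ⊆ X be a reduced open subscheme. Then the scheme-theoretic closure of U in X is X if and only
if U is scheme-theoretically dense in X (for every open W the scheme-theoretic closure of U ∩ W in W
is W); and in that case X is reduced. -/
theorem result (X : Scheme.{u}) (U : X.Opens) [IsReduced (↑U : Scheme.{u})] :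
    (IsSchemeTheoreticallyDominant U.ι ↔
        ∀ W : X.Opens, IsSchemeTheoreticallyDominant (X.homOfLE (inf_le_right : U ⊓ W ≤ W))) ∧
      (IsSchemeTheoreticallyDominant U.ι → IsReduced X) := by
  exact H5S9360.main X U

end Groth.Agent.S9360
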