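import Groth.Statements.S9361
import Mathlib

set_option autoImplicit false
universe u
open SchImage

namespace Groth.Agent.S9361

section Helpers
open AlgebraicGeometry CategoryTheory Opposite TopologicalSpace Limits

set_option backward.isDefEq.respectTransparency false in
theorem lift_app {X Y : Scheme.{u}} (s : X ⟶ Y) (W : Y.Opens) (s' : X ⟶ W)
    (h : s' ≫ W.ι = s) (U : W.toScheme.Opens) (e : s' ⁻¹ᵁ U = s ⁻¹ᵁ W.ι ''ᵁ U) :
    s'.app U = s.app (W.ι ''ᵁ U) ≫ X.presheaf.map (eqToHom e).op := by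
  subst h
  simp [Scheme.Hom.app_eq s' (W.ι.preimage_image_eq U),
    ← Functor.map_comp_assoc, -Functor.map_comp, Subsingleton.elim _ (𝟙 _)]

set_option backward.isDefEq.respectTransparency false in
open Scheme in
theorem isPullback_toImage_lift {X Y : Scheme.{u}} (s : X ⟶ Y) [QuasiCompact s] (W : Y.Opens)
    (s' : X ⟶ W) [IsClosedImmersion s'] (h : s' ≫ W.ι = s) :
    IsPullback s' s.toImage W.ι s.imageι := by
  refine isPullback_of_isClosedImmersion _ _ _ _ (by simp [h]) ?_
  rw [Hom.imageι, IdealSheafData.ker_subschemeι]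
  ext U : 2
  have e : s' ⁻¹ᵁ U.1 = s ⁻¹ᵁ W.ι ''ᵁ U.1 := by
    rw [← h, Scheme.Hom.comp_preimage, W.ι.preimage_image_eq]
  simp only [IdealSheafData.ideal_comap_of_isOpenImmersion, Opens.ι_appIso, Iso.refl_inv,
    Hom.ker_apply, RingHom.comap_ker, ← CommRingCat.hom_comp]
  dsimp [Opens.toScheme_presheaf_obj]
  rw [RingHomCompTriple.comp_eq, lift_app s W s' h U.1 e,
    CommRingCat.hom_comp, RingHom.ker_comp_of_injective]
  rw [← ConcreteCategory.mono_iff_injective_of_preservesPullback]
  infer_instance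

theorem main {X Y : Scheme.{u}} (f : X ⟶ Y) [IsSeparated f] (V : Y.Opens) [QuasiCompact V.ι]
    (s : (↑V : Scheme.{u}) ⟶ X) (hs : s ≫ f = V.ι) :
    IsIso ((s.imageι ≫ f) ∣_ V) := by
  let W : X.Opens := f ⁻¹ᵁ V
  have hrange : Set.range s ⊆ W := by
    rintro _ ⟨v, rfl⟩
    change f (s v) ∈ V
    rw [← Scheme.Hom.comp_apply, hs]; exact v.2
  let s' : V.toScheme ⟶ W := IsOpenImmersion.lift W.ι s (by simpa using hrange)
  have hs' : s' ≫ W.ι = s := IsOpenImmersion.lift_fac _ _ _
  have hsec : s' ≫ (f ∣_ V) = 𝟙 _ := by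
    rw [← cancel_mono V.ι, Category.assoc, morphismRestrict_ι, reassoc_of% hs', hs,
      Category.id_comp]
  have : IsClosedImmersion s' := by
    have : IsClosedImmersion (s' ≫ (f ∣_ V)) := by rw [hsec]; infer_instance
    exact IsClosedImmersion.of_comp s' (f ∣_ V)
  have : QuasiCompact W.ι :=
    MorphismProperty.of_isPullback (P := @QuasiCompact) (isPullback_morphismRestrict f V)
      inferInstance
  have : QuasiCompact s := by rw [← hs']; infer_instance
  have P := isPullback_toImage_lift s W s' hs'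
  have : IsOpenImmersion s.toImage :=
    MorphismProperty.of_isPullback (P := @IsOpenImmersion) P inferInstance
  let g := s.imageι ≫ f
  have hr : Set.range s.toImage = s.imageι ⁻¹' W := by
    have h1 : s.toImage = P.isoPullback.hom ≫ pullback.snd _ _ := by simp
    rw [h1, Scheme.Hom.comp_base, TopCat.coe_comp, Set.range_comp,
      Set.range_eq_univ.2 P.isoPullback.hom.surjective, Set.image_univ, Scheme.Pullback.range_snd]
    simp
  let e : V.toScheme ⟶ (g ⁻¹ᵁ V).toScheme :=
    IsOpenImmersion.lift (g ⁻¹ᵁ V).ι s.toImage (by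
      rw [hr, Scheme.Opens.range_ι]; rfl)
  have he : e ≫ (g ⁻¹ᵁ V).ι = s.toImage := IsOpenImmersion.lift_fac _ _ _
  have : IsOpenImmersion e := by
    have : IsOpenImmersion (e ≫ (g ⁻¹ᵁ V).ι) := by rw [he]; infer_instance
    exact IsOpenImmersion.of_comp e (g ⁻¹ᵁ V).ι
  have hsurj : Function.Surjective e := by
    intro z
    have hz : (g ⁻¹ᵁ V).ι z ∈ Set.range s.toImage := by
      rw [hr]
      exact z.2
    obtain ⟨v, hv⟩ := hz
    refine ⟨v, ?_⟩
    apply (g ⁻¹ᵁ V).ι.isOpenEmbedding.injective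
    rw [← Scheme.Hom.comp_apply, he, hv]
  have : IsIso e := by
    apply isIso_of_isOpenImmersion_of_opensRange_eq_top
    ext y
    simpa using hsurj y
  have hcomp : e ≫ (g ∣_ V) = 𝟙 _ := by
    rw [← cancel_mono V.ι, Category.assoc, morphismRestrict_ι, reassoc_of% he,
      Category.id_comp]
    simp [g, hs]
  have : g ∣_ V = inv e := by
    rw [← cancel_epi e, hcomp, IsIso.hom_inv_id]
  change IsIso (g ∣_ V)
  rw [this]
  infer_instance

end Helpers


open AlgebraicGeometry CategoryTheory in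
/-- Let f : X → Y be separated, V ⊆ Y a retrocompact open and s : V → X a section of f over V. If Y' ⊆ X
is the scheme-theoretic image of s, then Y' → Y is an isomorphism over V. -/
theorem result {X Y : Scheme.{u}} (f : X ⟶ Y) [IsSeparated f] (V : Y.Opens) [QuasiCompact V.ι]
    (s : (↑V : Scheme.{u}) ⟶ X) (hs : s ≫ f = V.ι) :
    IsIso ((s.imageι ≫ f) ∣_ V) := by
  exact main f V s hs

end Groth.Agent.S9361
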