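import Groth.Statements.S9380
import Mathlib
import Groth.Prelude.Def_AffAlg
import Groth.Prelude.Def_RelSpec
import Groth.Prelude.Def_MoreMor
import Groth.Agent.S3571
import Groth.Agent.S3569

set_option autoImplicit false
universe u
open QAff

namespace Groth.Agent.S9380aux
open CategoryTheory CategoryTheory.Limits AlgebraicGeometry Opposite TopologicalSpace

variable {X S : Scheme.{u}} (f : X ⟶ S) [QuasiCompact f] [QuasiSeparated f]

theorem oi_comp4 {A B C D E : Scheme.{u}} (a : A ⟶ B) (b : B ⟶ C) (c : C ⟶ D) (d : D ⟶ E)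
    [IsIso a] [IsOpenImmersion b] [IsIso c] [IsOpenImmersion d] :
    IsOpenImmersion (a ≫ b ≫ c ≫ d) := inferInstance

theorem forward (hf : MoreMor.IsQuasiAffineHom f) :
    ∃ (c : X ⟶ (RelSpec.QCAlg.directImage f).spec) (e : c ≫ (RelSpec.QCAlg.directImage f).π = f),
        (RelSpec.QCAlg.directImage f).gammaMap = AffAlg.algHom (RelSpec.QCAlg.directImage f).π f c e ∧
          QuasiCompact c ∧ IsOpenImmersion c := by
  obtain ⟨h, hh⟩ := S3569aux.surj_aux (RelSpec.QCAlg.directImage f).π f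
    (RelSpec.QCAlg.directImage f).gammaMap (RelSpec.QCAlg.directImage f).π_c_gammaMap
  have hc : AffAlg.algHom (RelSpec.QCAlg.directImage f).π f h.1 h.2 =
      (RelSpec.QCAlg.directImage f).gammaMap := congrArg Subtype.val hh
  refine ⟨h.1, h.2, hc.symm, ?_, ?_⟩
  · have : QuasiCompact (h.1 ≫ (RelSpec.QCAlg.directImage f).π) := by rw [h.2]; infer_instance
    exact QuasiCompact.of_comp h.1 (RelSpec.QCAlg.directImage f).π
  · refine IsZariskiLocalAtTarget.of_forall_source_exists_preimage (P := @IsOpenImmersion) _ fun x => ?_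
    obtain ⟨V, hxV⟩ := Opens.mem_iSup.mp
      ((iSup_affineOpens_eq_top S).symm ▸ (Opens.mem_top (f.base x)) :
        f.base x ∈ ⨆ i : S.affineOpens, (i : S.Opens))
    have hcx : (RelSpec.QCAlg.directImage f).π.base (h.1.base x) = f.base x := by
      have := congrArg (fun k => k.base x) h.2
      simpa only [Scheme.Hom.comp_base, TopCat.hom_comp, ContinuousMap.comp_apply] using this
    refine ⟨(RelSpec.QCAlg.directImage f).π ⁻¹ᵁ V.1, ?_, ?_⟩
    · change (RelSpec.QCAlg.directImage f).π.base (h.1.base x) ∈ V.1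
      rw [hcx]; exact hxV
    · have heq : h.1 ⁻¹ᵁ ((RelSpec.QCAlg.directImage f).π ⁻¹ᵁ V.1) = f ⁻¹ᵁ V.1 := by
        rw [← Scheme.Hom.comp_preimage, h.2]
      have hπV : IsAffineOpen ((RelSpec.QCAlg.directImage f).π ⁻¹ᵁ V.1) :=
        V.2.preimage (RelSpec.QCAlg.directImage f).π
      have h1 := S3569aux.ι_comp (RelSpec.QCAlg.directImage f).π f h.1 h.2 V.1 hπV
      rw [hc] at h1
      have h2 : (h.1 ⁻¹ᵁ ((RelSpec.QCAlg.directImage f).π ⁻¹ᵁ V.1)).ι ≫ h.1 =
          (X.isoOfEq heq).hom ≫ (f ⁻¹ᵁ V.1).ι ≫ h.1 := by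
        rw [Scheme.isoOfEq_hom_ι_assoc]
      rw [h2, h1]
      have hqa : Scheme.IsQuasiAffine ((f ⁻¹ᵁ V.1 : X.Opens) : Scheme.{u}) := hf.2 V.1 V.2
      have i1 : IsOpenImmersion (f ⁻¹ᵁ V.1).toSpecΓ := by
        unfold Scheme.Opens.toSpecΓ
        infer_instance
      have i2 : IsIso ((RelSpec.QCAlg.directImage f).gammaMap.app (op V.1)) := by
        rw [(RelSpec.QCAlg.directImage f).gammaMap_app V.1 V.2]
        exact S3571aux.isIso_gammaAff _ V.1 V.2
      have i3 : IsIso (Spec.map ((RelSpec.QCAlg.directImage f).gammaMap.app (op V.1))) := inferInstance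
      exact @oi_comp4 _ _ _ _ _ _ _ _ _ inferInstance i1 i3 inferInstance

theorem backward (c : X ⟶ (RelSpec.QCAlg.directImage f).spec)
    (e : c ≫ (RelSpec.QCAlg.directImage f).π = f) (_hqc : QuasiCompact c) (ho : IsOpenImmersion c) :
    MoreMor.IsQuasiAffineHom f := by
  refine ⟨inferInstance, fun V hV => ?_⟩
  have hπV : IsAffineOpen ((RelSpec.QCAlg.directImage f).π ⁻¹ᵁ V) :=
    hV.preimage (RelSpec.QCAlg.directImage f).π
  have hle : f ⁻¹ᵁ V ≤ c ⁻¹ᵁ ((RelSpec.QCAlg.directImage f).π ⁻¹ᵁ V) := by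
    rw [← Scheme.Hom.comp_preimage, e]
  have : IsAffine (((RelSpec.QCAlg.directImage f).π ⁻¹ᵁ V : (RelSpec.QCAlg.directImage f).spec.Opens) : Scheme.{u}) := hπV
  have : CompactSpace ((f ⁻¹ᵁ V : X.Opens) : Scheme.{u}) :=
    isCompact_iff_compactSpace.mp (f.isCompact_preimage hV.isCompact)
  exact Scheme.IsQuasiAffine.of_isImmersion
    (c.resLE ((RelSpec.QCAlg.directImage f).π ⁻¹ᵁ V) (f ⁻¹ᵁ V) hle)

end Groth.Agent.S9380aux

namespace Groth.Agent.S9380

open AlgebraicGeometry CategoryTheory in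
/-- A quasi-compact quasi-separated morphism f : X → S is quasi-affine if and only if the canonical
S-morphism X → Spec_S(f_*O_X) (the one inducing the comparison map on direct-image algebras) exists
as a quasi-compact open immersion. -/
theorem result {X S : Scheme.{u}} (f : X ⟶ S) [QuasiCompact f] [QuasiSeparated f] :
    MoreMor.IsQuasiAffineHom f ↔
      ∃ (c : X ⟶ (RelSpec.QCAlg.directImage f).spec) (e : c ≫ (RelSpec.QCAlg.directImage f).π = f),
        (RelSpec.QCAlg.directImage f).gammaMap = AffAlg.algHom (RelSpec.QCAlg.directImage f).π f c e ∧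
          QuasiCompact c ∧ IsOpenImmersion c := by
  constructor
  · intro hf
    exact S9380aux.forward f hf
  · rintro ⟨c, e, -, hqc, ho⟩
    exact S9380aux.backward f c e hqc ho

end Groth.Agent.S9380
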