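import Groth.Statements.S9381
import Mathlib
import Groth.Agent.Lib.helper7.DimSch13

set_option autoImplicit false
universe u
open FibDim

namespace Groth.Agent.S9381

open AlgebraicGeometry CategoryTheory in
/-- Let f : X → S be locally of finite type and x ⤳ x' a nontrivial specialization of points of X in the
same fibre (f x = f x'). Then trdeg_{κ(f x)} κ(x) > trdeg_{κ(f x')} κ(x'). -/
theorem result {X S : Scheme.{u}} (f : X ⟶ S) [LocallyOfFiniteType f] (x x' : X)
    (hsp : x ⤳ x') (hne : x ≠ x') (hfx : f.base x = f.base x') :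
    @Algebra.trdeg (S.residueField (f.base x')) (X.residueField x') _ _ (f.residueFieldMap x').hom.toAlgebra <
      @Algebra.trdeg (S.residueField (f.base x)) (X.residueField x) _ _ (f.residueFieldMap x).hom.toAlgebra := by
  let T : X → Cardinal.{u} := fun w =>
    @Algebra.trdeg (S.residueField (f.base w)) (X.residueField w) _ _
      (f.residueFieldMap w).hom.toAlgebra
  show T x' < T x
  have hz' : f.fiberι (f.base x') (f.asFiber x') = x' := f.fiberι_asFiber x'
  have hmem : x ∈ Set.range (f.fiberι (f.base x')) := by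
    rw [f.range_fiberι]
    exact hfx
  obtain ⟨z, hz⟩ := hmem
  have hsp' : z ⤳ f.asFiber x' := by
    apply (f.fiberι (f.base x')).isEmbedding.isInducing.specializes_iff.mp
    rw [hz, hz']
    exact hsp
  have hne' : z ≠ f.asFiber x' := by
    intro h
    apply hne
    rw [← hz, h, hz']
  have hlt := Groth.Agent.Lib.helper7.DimSch.fiberTrdegNat_lt_of_specializes f (f.base x') z
    (f.asFiber x') hsp' hne'
  have h1 : T (f.fiberι (f.base x') z) =
      (Groth.Agent.Lib.helper7.DimSch.fiberTrdegNat f (f.base x') z : Cardinal) :=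
    Groth.Agent.Lib.helper7.DimSch.trdeg_residueFieldMap_eq_fiberTrdegNat f (f.base x') z
  have h2 : T (f.fiberι (f.base x') (f.asFiber x')) =
      (Groth.Agent.Lib.helper7.DimSch.fiberTrdegNat f (f.base x') (f.asFiber x') : Cardinal) :=
    Groth.Agent.Lib.helper7.DimSch.trdeg_residueFieldMap_eq_fiberTrdegNat f (f.base x')
      (f.asFiber x')
  rw [hz] at h1
  rw [hz'] at h2
  rw [h1, h2]
  exact_mod_cast hlt

end Groth.Agent.S9381
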