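import Groth.Statements.S9385
import Mathlib

set_option autoImplicit false
universe u
open SchDense

namespace Groth.Agent.S9385

section Helpers
open CategoryTheory CategoryTheory.Limits AlgebraicGeometry

/-- schematic density on every open, qc case -/
lemma sd_of_qc {Z Y : Scheme.{u}} (g : Z ⟶ Y) [IsOpenImmersion g] [QuasiCompact g]
    [IsSchemeTheoreticallyDominant g] (W : Y.Opens) :
    IsSchemeTheoreticallyDominant (Y.homOfLE (inf_le_right : g.opensRange ⊓ W ≤ W)) := by
  have e : g.opensRange.ι = g.isoOpensRange.inv ≫ g := (g.isoOpensRange_inv_comp).symm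
  haveI : IsSchemeTheoreticallyDominant g.opensRange.ι := by rw [e]; infer_instance
  haveI : QuasiCompact g.opensRange.ι := by rw [e]; infer_instance
  exact IsSchemeTheoreticallyDominant.of_isPullback (isPullback_opens_inf g.opensRange W)

/-- schematic density on every open, reduced case -/
lemma sd_of_reduced {Z Y : Scheme.{u}} (g : Z ⟶ Y) [IsOpenImmersion g] [IsReduced Y]
    (hd : DenseRange g.base) (W : Y.Opens) :
    IsSchemeTheoreticallyDominant (Y.homOfLE (inf_le_right : g.opensRange ⊓ W ≤ W)) := by
  haveI : IsDominant (Y.homOfLE (inf_le_right : g.opensRange ⊓ W ≤ W)) := by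
    constructor
    have h1 : Set.range (Y.homOfLE (inf_le_right : g.opensRange ⊓ W ≤ W)).base =
        (W.ι ⁻¹ᵁ (g.opensRange ⊓ W) : Set W) := by
      have := Scheme.opensRange_homOfLE (inf_le_right : g.opensRange ⊓ W ≤ W)
      exact congrArg (fun O : W.toScheme.Opens => (O : Set W)) this
    show Dense (Set.range (Y.homOfLE (inf_le_right : g.opensRange ⊓ W ≤ W)).base)
    rw [h1]
    have h2 : Dense (W.ι.base ⁻¹' (Set.range g.base)) :=
      hd.preimage W.ι.isOpenEmbedding.isOpenMap
    refine h2.mono ?_
    intro w hw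
    exact ⟨hw, w.2⟩
  exact IsSchemeTheoreticallyDominant.of_isDominant _

set_option backward.isDefEq.respectTransparency.types false in
lemma ker_toImage {X Y : Scheme.{u}} (f : X ⟶ Y) [QuasiCompact f] : f.toImage.ker = ⊥ := by
  refine Scheme.IdealSheafData.ext_of_iSup_eq_top
    (fun V : Y.affineOpens => ⟨f.imageι ⁻¹ᵁ V.1, V.2.preimage f.imageι⟩) ?_ ?_
  · show ⨆ V : Y.affineOpens, f.imageι ⁻¹ᵁ V.1 = ⊤
    rw [← Scheme.Hom.preimage_iSup, iSup_affineOpens_eq_top]
    rfl
  · intro V
    rw [Scheme.Hom.ker_apply, Scheme.IdealSheafData.ideal_bot]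
    exact (RingHom.injective_iff_ker_eq_bot _).mp (f.toImage_app_injective V)

theorem main_qc {Z X : Scheme.{u}} (h : Z ⟶ X) [IsImmersion h] [QuasiCompact h] :
    ∃ hI : IsOpenImmersion h.toImage,
      (∀ W : h.image.Opens, IsSchemeTheoreticallyDominant
          (h.image.homOfLE (inf_le_right : @Scheme.Hom.opensRange _ _ h.toImage hI ⊓ W ≤ W))) ∧
        DenseRange h.toImage.base := by
  haveI : IsSchemeTheoreticallyDominant h.toImage := ⟨ker_toImage h⟩
  exact ⟨inferInstance, fun W => sd_of_qc h.toImage W, h.toImage.denseRange⟩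

section Reduced
variable {Z X : Scheme.{u}} (h : Z ⟶ X)

lemma ker_eq [IsReduced Z] : h.ker = Scheme.IdealSheafData.vanishingIdeal
    (.closure (h '' (⊤ : TopologicalSpace.Closeds Z))) := by
  rw [← Scheme.IdealSheafData.map_vanishingIdeal, Scheme.IdealSheafData.vanishingIdeal_top,
    Scheme.nilradical_eq_bot, Scheme.IdealSheafData.map_bot]

lemma isReduced_image [IsReduced Z] : IsReduced h.image := by
  haveI : ∀ U, IsReduced (h.ker.subschemeCover.openCover.X U) := by
    intro (U : X.affineOpens)
    show IsReduced (Spec (.of (Γ(X, U.1) ⧸ h.ker.ideal U)))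
    have hrad : (h.ker.ideal U).IsRadical := by
      rw [ker_eq h, Scheme.IdealSheafData.vanishingIdeal_ideal]
      exact PrimeSpectrum.isRadical_vanishingIdeal _
    haveI : _root_.IsReduced (Γ(X, U.1) ⧸ h.ker.ideal U) :=
      (Ideal.isRadical_iff_quotient_reduced _).mp hrad
    infer_instance
  exact IsReduced.of_openCover _ h.ker.subschemeCover.openCover

lemma range_imageι_eq [IsReduced Z] : Set.range h.imageι = closure (Set.range h) := by
  rw [Scheme.IdealSheafData.range_subschemeι, ker_eq h,
    Scheme.IdealSheafData.coe_support_vanishingIdeal]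
  simp

lemma denseRange_toImage [IsReduced Z] : DenseRange h.toImage.base := by
  rw [DenseRange, dense_iff_closure_eq]
  have hce : Topology.IsClosedEmbedding h.imageι := h.imageι.isClosedEmbedding
  apply Set.image_injective.mpr hce.injective
  rw [← hce.closure_image_eq, Set.image_univ, range_imageι_eq h, ← Set.range_comp]
  congr 2

set_option backward.isDefEq.respectTransparency.types false in
lemma isOpenImmersion_toImage [IsImmersion h] [IsReduced Z] : IsOpenImmersion h.toImage := by
  haveI := isReduced_image h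
  obtain ⟨V', hV'⟩ : ∃ V' : h.image.Opens, V' = h.imageι ⁻¹ᵁ h.coborderRange := ⟨_, rfl⟩
  have hrange : Set.range h.toImage ⊆ Set.range V'.ι := by
    rw [Scheme.Opens.range_ι, hV']
    rintro _ ⟨z, rfl⟩
    show h.imageι (h.toImage z) ∈ coborder (Set.range h)
    rw [← Scheme.Hom.comp_apply, h.toImage_imageι]
    exact subset_coborder ⟨z, rfl⟩
  obtain ⟨t, ht⟩ : ∃ t : Z ⟶ V', t ≫ V'.ι = h.toImage :=
    ⟨IsOpenImmersion.lift V'.ι h.toImage hrange, IsOpenImmersion.lift_fac _ _ _⟩
  subst hV'
  have ht2 : t ≫ (h.imageι ∣_ h.coborderRange) = h.liftCoborder := by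
    rw [← cancel_mono h.coborderRange.ι, Category.assoc, morphismRestrict_ι, ← Category.assoc, ht,
      h.toImage_imageι, h.liftCoborder_ι]
  haveI : IsClosedImmersion (t ≫ (h.imageι ∣_ h.coborderRange)) := by rw [ht2]; infer_instance
  haveI : IsClosedImmersion t :=
    IsClosedImmersion.of_comp_isClosedImmersion t (h.imageι ∣_ h.coborderRange)
  haveI : Surjective t := by
    constructor
    rintro ⟨z', hz'⟩
    have h1 : h.imageι z' ∈ closure (Set.range h) := by
      rw [← range_imageι_eq]; exact ⟨z', rfl⟩
    have h2 : h.imageι z' ∈ Set.range h := by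
      rw [← closure_inter_coborder (s := Set.range h)]; exact ⟨h1, hz'⟩
    obtain ⟨z, hz⟩ := h2
    refine ⟨z, ?_⟩
    apply (h.imageι ⁻¹ᵁ h.coborderRange).ι.isEmbedding.injective
    show (h.imageι ⁻¹ᵁ h.coborderRange).ι (t z) = z'
    rw [← Scheme.Hom.comp_apply, ht]
    apply h.imageι.isEmbedding.injective
    rw [← Scheme.Hom.comp_apply, h.toImage_imageι]; exact hz
  haveI : IsIso t := isIso_of_isClosedImmersion_of_surjective t
  rw [← ht]; infer_instance

end Reduced

theorem main {Z X : Scheme.{u}} (h : Z ⟶ X) [IsImmersion h]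
    (hyp : QuasiCompact h ∨ IsReduced Z) :
    ∃ hI : IsOpenImmersion h.toImage,
      (∀ W : h.image.Opens, IsSchemeTheoreticallyDominant
          (h.image.homOfLE (inf_le_right : @Scheme.Hom.opensRange _ _ h.toImage hI ⊓ W ≤ W))) ∧
        DenseRange h.toImage.base := by
  rcases hyp with hq | hr
  · exact main_qc h
  · haveI := isReduced_image h
    haveI := isOpenImmersion_toImage h
    exact ⟨inferInstance, fun W => sd_of_reduced h.toImage (denseRange_toImage h) W,
      denseRange_toImage h⟩

end Helpers


open AlgebraicGeometry CategoryTheory in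
/-- Let h : Z → X be an immersion, and suppose that either Z is reduced or h is quasi-compact. Write Z̄
⊆ X for the scheme-theoretic image of h. Then Z → Z̄ is an open immersion identifying Z with a
scheme-theoretically dense (in the for-every-open sense) and topologically dense open subscheme of
Z̄. -/
theorem result {Z X : Scheme.{u}} (h : Z ⟶ X) [IsImmersion h]
    (hyp : QuasiCompact h ∨ IsReduced Z) :
    ∃ hI : IsOpenImmersion h.toImage,
      (∀ W : h.image.Opens, IsSchemeTheoreticallyDominant
          (h.image.homOfLE (inf_le_right : @Scheme.Hom.opensRange _ _ h.toImage hI ⊓ W ≤ W))) ∧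
        DenseRange h.toImage.base := by
  exact main h hyp

end Groth.Agent.S9385
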