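import Groth.Statements.S9389
import Mathlib
import Groth.Agent.Lib.helper15.FibreDimZero

set_option autoImplicit false
universe u
open QFin

namespace Groth.Agent.S9389

open AlgebraicGeometry CategoryTheory in
/-- For f : X → S locally of finite type and a cartesian square with base change f' : X' → S', g' : X' →
X, the quasi-finite locus of f' is the inverse image under g' of the quasi-finite locus of f. -/
theorem result {X S X' S' : Scheme.{u}} (f : X ⟶ S) [LocallyOfFiniteType f] (g : S' ⟶ S)
    (g' : X' ⟶ X) (f' : X' ⟶ S') (hsq : IsPullback g' f' f g) :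
    {x' : ↑X' | f'.QuasiFiniteAt x'} = g'.base ⁻¹' {x : ↑X | f.QuasiFiniteAt x} := by
  ext x'
  simp only [Set.mem_ofPred_eq, Set.mem_preimage]
  constructor
  · intro h
    exact Groth.Agent.Lib.H15.quasiFiniteAt_of_isPullback hsq x' h
  · intro h
    haveI : LocallyOfFiniteType f' := MorphismProperty.of_isPullback hsq inferInstance
    let U := f.quasiFiniteLocus
    have hx'U : x' ∈ g' ⁻¹ᵁ U := h
    have sq2 : IsPullback (g' ∣_ U) ((g' ⁻¹ᵁ U).ι ≫ f') (U.ι ≫ f) g :=
      (isPullback_morphismRestrict g' U).paste_vert hsq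
    haveI : LocallyQuasiFinite ((g' ⁻¹ᵁ U).ι ≫ f') :=
      MorphismProperty.of_isPullback (P := @LocallyQuasiFinite) sq2 inferInstance
    have h1 := ((g' ⁻¹ᵁ U).ι ≫ f').quasiFiniteAt ⟨x', hx'U⟩
    rwa [Scheme.Hom.quasiFiniteAt_comp_iff_of_isOpenImmersion] at h1

end Groth.Agent.S9389
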