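import Groth.Statements.S9395
import Mathlib


set_option autoImplicit false
universe u
open CAlg

namespace H14S9395
open Polynomial

theorem main (R : Type u) [CommRing R] [IsDomain R] [IsNoetherianRing R]
    (S : Type u) [CommRing S] [IsDomain S] [Algebra (Polynomial R) S]
    [IsLocalization.Away (Polynomial.X : Polynomial R) S] (h : CAlg.IsN1 S) : CAlg.IsN1 R := by
  classical
  let K := FractionRing R
  let L := FractionRing S
  have hX0 : (X : R[X]) ≠ 0 := X_ne_zero
  have hinjS : Function.Injective (algebraMap R[X] S) :=
    IsLocalization.injective S (powers_le_nonZeroDivisors_of_noZeroDivisors hX0)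
  let j : R[X] →+* L := (algebraMap S L).comp (algebraMap R[X] S)
  have hj : Function.Injective j := (IsFractionRing.injective S L).comp hinjS
  let ι : R →+* L := j.comp C
  have hι : Function.Injective ι := hj.comp C_injective
  let κ : K →+* L := IsFractionRing.lift hι
  have hκ : ∀ r, κ (algebraMap R K r) = ι r := IsFractionRing.lift_algebraMap hι
  -- S is Noetherian
  haveI : IsNoetherianRing S :=
    IsLocalization.isNoetherianRing (Submonoid.powers (X : R[X])) S inferInstance
  have hfin : Module.Finite S (integralClosure S L) := h
  let S' : Submodule S L := (integralClosure S L).toSubmodule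
  haveI hS'noeth : IsNoetherian S S' := isNoetherian_of_isNoetherianRing_of_finite S _
  let R' : Subalgebra R K := integralClosure R K
  let E : Set L := κ '' (R' : Set K)
  have hE : E ⊆ S' := by
    rintro _ ⟨x, hx, rfl⟩
    have hx' : IsIntegral R x := hx
    exact IsIntegral.map_of_comp_eq ((algebraMap R[X] S).comp C) κ (by
      ext r
      simp only [RingHom.comp_apply]
      rw [hκ]
      rfl) hx'
  have hMfg : (Submodule.span S E).FG :=
    (isNoetherian_submodule.mp hS'noeth) _ (Submodule.span_le.mpr hE)
  obtain ⟨F, hFE, hF⟩ := (Submodule.fg_span_iff_fg_span_finset_subset E).mp hMfg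
  -- pull back `F` to `R'`
  have hFpre : ∀ y ∈ F, ∃ x : K, x ∈ R' ∧ κ x = y := fun y hy => hFE hy
  choose! pre hpre1 hpre2 using hFpre
  let G : Finset K := F.image pre
  have hGR' : (G : Set K) ⊆ R' := by
    intro x hx
    obtain ⟨y, hy, rfl⟩ := Finset.mem_image.mp hx
    exact hpre1 y hy
  have key : ∀ x ∈ R', x ∈ Submodule.span R (G : Set K) := by
    intro x hx
    have h1 : κ x ∈ Submodule.span S (F : Set L) := by
      rw [← hF]
      exact Submodule.subset_span ⟨x, hx, rfl⟩
    -- write `κ x` as a combination
    rw [Submodule.mem_span_finset'] at h1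
    obtain ⟨c, hc⟩ := h1
    -- clear powers of X
    have hsurj : ∀ s : S, ∃ (n : ℕ) (p : R[X]), s * algebraMap R[X] S X ^ n = algebraMap R[X] S p :=
      fun s => by
        obtain ⟨n, p, hp⟩ := IsLocalization.Away.surj (X : R[X]) s
        exact ⟨n, p, hp⟩
    choose n p hnp using hsurj
    let N : ℕ := ∑ y : F, n (c y)
    have hq : ∀ y : F, ∃ q : R[X], c y * algebraMap R[X] S X ^ N = algebraMap R[X] S q := by
      intro y
      have hle : n (c y) ≤ N := Finset.single_le_sum (f := fun y : F => n (c y))
        (fun _ _ => Nat.zero_le _) (Finset.mem_univ y)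
      refine ⟨p (c y) * X ^ (N - n (c y)), ?_⟩
      rw [map_mul, ← hnp, map_pow, mul_assoc, ← pow_add, Nat.add_sub_cancel' hle]
    choose q hq using hq
    -- common denominators
    obtain ⟨d, hd⟩ := IsLocalization.exist_integer_multiples_of_finset (nonZeroDivisors R)
      (insert x G)
    have hdx := hd x (Finset.mem_insert_self x G)
    obtain ⟨a, ha⟩ := hdx
    have hdG : ∀ y : F, ∃ b : R, algebraMap R K b = (d : R) • pre y := by
      intro y
      exact hd (pre y) (Finset.mem_insert_of_mem (Finset.mem_image_of_mem pre y.2))
    choose b hb using hdG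
    -- the identity in `L`
    have hz : j X ≠ 0 := by
      intro h0
      exact hX0 (hj (by rw [h0, map_zero]))
    have hjC : ∀ r : R, j (C r) = κ (algebraMap R K r) := fun r => (hκ r).symm
    have hid : j (X ^ N * C a) = j (∑ y : F, q y * C (b y)) := by
      rw [map_mul, map_pow, hjC, ha, map_sum]
      have h2 : κ ((d : R) • x) = ∑ y : F, c y • κ ((d : R) • pre y) := by
        rw [Algebra.smul_def, map_mul, ← hc, Finset.mul_sum]
        refine Finset.sum_congr rfl (fun y _ => ?_)
        rw [Algebra.smul_def ((d : R)) (pre y), map_mul, hpre2 y y.2, mul_smul_comm]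
      rw [h2, Finset.mul_sum]
      refine Finset.sum_congr rfl (fun y _ => ?_)
      rw [map_mul, hjC, hb]
      change _ = (algebraMap S L) (algebraMap R[X] S (q y)) * _
      rw [← hq y, map_mul, map_pow, Algebra.smul_def]
      change j X ^ N * (algebraMap S L (c y) * _) = algebraMap S L (c y) * j X ^ N * _
      ring
    have hid' := hj hid
    have hcoef := congrArg (fun f => f.coeff N) hid'
    simp only [finsetSum_coeff, coeff_mul_C] at hcoef
    rw [coeff_X_pow_self, one_mul] at hcoef
    -- conclude
    have hd0 : algebraMap R K (d : R) ≠ 0 := by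
      intro h0
      have := (IsFractionRing.injective R K) (by rw [h0, map_zero] : algebraMap R K (d : R) = algebraMap R K 0)
      exact nonZeroDivisors.coe_ne_zero d this
    have hfinal : x = ∑ y : F, (q y).coeff N • pre y := by
      apply mul_left_cancel₀ hd0
      rw [← Algebra.smul_def, ← ha, hcoef, map_sum, Finset.mul_sum]
      refine Finset.sum_congr rfl (fun y _ => ?_)
      rw [map_mul, hb, Algebra.smul_def, Algebra.smul_def]
      ring
    rw [hfinal]
    refine Submodule.sum_mem _ (fun y _ => Submodule.smul_mem _ _ (Submodule.subset_span ?_))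
    exact Finset.mem_image_of_mem pre y.2
  have hR'eq : R'.toSubmodule = Submodule.span R (G : Set K) := by
    apply le_antisymm
    · intro x hx; exact key x hx
    · exact Submodule.span_le.mpr hGR'
  change Module.Finite R (Subalgebra.toSubmodule R')
  rw [Module.Finite.iff_fg, hR'eq]
  exact Submodule.fg_span (Finset.finite_toSet G)

end H14S9395

namespace Groth.Agent.S9395

/-- For a Noetherian domain R, if the Laurent polynomial ring R[X, 1/X] (the localization of R[X] away
from X) is N-1, then R is N-1. -/
theorem result (R : Type u) [CommRing R] [IsDomain R] [IsNoetherianRing R]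
    (S : Type u) [CommRing S] [IsDomain S] [Algebra (Polynomial R) S]
    [IsLocalization.Away (Polynomial.X : Polynomial R) S] (h : CAlg.IsN1 S) : CAlg.IsN1 R := by
  exact H14S9395.main R S h

end Groth.Agent.S9395
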