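import Groth.Statements.S9397
import Groth.Agent.Lib.helper14.N1N2

set_option autoImplicit false
universe u
open CAlg

namespace H14J

open CAlg

/-- a finite `S`-subalgebra `T ⊆ L` containing a `K`-basis of `L` has fraction field `L`. -/
theorem isFractionRing_adjoin_basis {S K L : Type u} [CommRing S] [IsDomain S] [Field K] [Field L]
    [Algebra S K] [IsFractionRing S K] [Algebra S L] [Algebra K L] [IsScalarTower S K L]
    {ι : Type*} [Fintype ι] (b : Module.Basis ι K L) (T : Subalgebra S L)
    (hT : ∀ i, b i ∈ T) : IsFractionRing T L := by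
  haveI : FaithfulSMul T L :=
    (faithfulSMul_iff_algebraMap_injective T L).mpr Subtype.val_injective
  apply IsFractionRing.of_field
  intro z
  obtain ⟨d, hd⟩ := IsLocalization.exist_integer_multiples_of_finite (nonZeroDivisors S)
    (fun i => b.repr z i)
  choose a ha using hd
  have hd0 : algebraMap S L (d : S) ≠ 0 := by
    rw [IsScalarTower.algebraMap_apply S K L]
    exact (map_ne_zero_iff _ (algebraMap K L).injective).mpr
      (IsFractionRing.to_map_ne_zero_of_mem_nonZeroDivisors d.2)
  have hmem : (d : S) • z ∈ T := by
    rw [← b.sum_repr z, Finset.smul_sum]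
    refine Subalgebra.sum_mem _ fun i _ => ?_
    rw [← smul_assoc, ← ha i, algebraMap_smul]
    exact Subalgebra.smul_mem _ (hT i) _
  refine ⟨⟨(d : S) • z, hmem⟩, algebraMap S T d, ?_⟩
  change z = ((d : S) • z) / (algebraMap S L d)
  rw [Algebra.smul_def, mul_div_cancel_left₀ _ hd0]

theorem isN2_of_forall_isN1 (R : Type u) [CommRing R]
    (h : ∀ (S : Type u) [CommRing S] [IsDomain S] [Algebra R S], Algebra.FiniteType R S → CAlg.IsN1 S)
    (S : Type u) [CommRing S] [IsDomain S] [Algebra R S] (hft : Algebra.FiniteType R S) :
    CAlg.IsN2 S := by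
  intro L _ _ _ _ hfin
  classical
  obtain ⟨s, b, hb⟩ := FiniteDimensional.exists_is_basis_integral S (FractionRing S) L
  letI : Algebra R L := ((algebraMap S L).comp (algebraMap R S)).toAlgebra
  haveI : IsScalarTower R S L := IsScalarTower.of_algebraMap_eq (fun _ => rfl)
  let T : Subalgebra S L := Algebra.adjoin S (Set.range b)
  have hTb : ∀ i, b i ∈ T := fun i => Algebra.subset_adjoin ⟨i, rfl⟩
  haveI hfinT : Module.Finite S T := by
    exact (Module.Finite.iff_fg (N := Subalgebra.toSubmodule T)).mpr
      (fg_adjoin_of_finite (Set.finite_range _) (by rintro _ ⟨i, rfl⟩; exact hb i))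
  haveI : Algebra.FiniteType R T := Algebra.FiniteType.trans hft inferInstance
  have hN1 : CAlg.IsN1 T := h T inferInstance
  haveI : IsFractionRing T L := isFractionRing_adjoin_basis b T hTb
  unfold CAlg.IsN1 at hN1
  let e : FractionRing T ≃ₐ[T] L := FractionRing.algEquiv T L
  haveI h1 : Module.Finite T (integralClosure T L) :=
    Module.Finite.equiv e.mapIntegralClosure.toLinearEquiv
  haveI h2 : Module.Finite S (integralClosure T L) := Module.Finite.trans T _
  have hbij : Function.Bijective (H14.integralClosureIncl S T L) := by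
    constructor
    · intro x y hxy
      exact Subtype.ext (congrArg (fun z : integralClosure T L => (z : L)) hxy)
    · intro y
      exact ⟨⟨y.1, isIntegral_trans (R := S) (A := T) y.1 y.2⟩, Subtype.ext rfl⟩
  exact Module.Finite.equiv (LinearEquiv.ofBijective _ hbij).symm

end H14J


namespace Groth.Agent.S9397

/-- A ring R is universally Japanese provided that each R-algebra of finite type which is a domain is
N-1. -/
theorem result (R : Type u) [CommRing R]
    (h : ∀ (S : Type u) [CommRing S] [IsDomain S] [Algebra R S], Algebra.FiniteType R S → CAlg.IsN1 S) :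
    CAlg.IsUniversallyJapanese R := by
  intro S _ _ _ hft
  exact H14J.isN2_of_forall_isN1 R h S hft

end Groth.Agent.S9397
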