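import Groth.Statements.S9399
import Groth.Agent.Lib.helper14.N1N2

set_option autoImplicit false
universe u
open CAlg

namespace Groth.Agent.S9399

/-- Being universally Japanese can be checked on a finite cover of Spec R by principal opens. -/
theorem result (R : Type u) [CommRing R]
    {ι : Type u} [Finite ι] (f : ι → R) (hf : Ideal.span (Set.range f) = ⊤)
    (h : ∀ i, CAlg.IsUniversallyJapanese (Localization.Away (f i))) :
    CAlg.IsUniversallyJapanese R := by
  intro D _ _ _ hD
  haveI : Algebra.FiniteType R D := hD
  let ι' := {i : ι // algebraMap R D (f i) ≠ 0}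
  let g : ι' → D := fun i => algebraMap R D (f i.1)
  have hg : Ideal.span (Set.range g) = ⊤ := by
    rw [eq_top_iff, ← Ideal.map_top (algebraMap R D), ← hf, Ideal.map_span, Ideal.span_le]
    rintro _ ⟨_, ⟨i, rfl⟩, rfl⟩
    by_cases hi : algebraMap R D (f i) = 0
    · rw [hi]; exact zero_mem _
    · exact Ideal.subset_span ⟨⟨i, hi⟩, rfl⟩
  let Di : ι' → Type u := fun i =>
    Localization (Algebra.algebraMapSubmonoid D (Submonoid.powers (f i.1)))
  have hpow : ∀ i : ι', Algebra.algebraMapSubmonoid D (Submonoid.powers (f i.1)) =
      Submonoid.powers (g i) := fun i => Submonoid.map_powers _ _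
  haveI : ∀ i : ι', IsLocalization.Away (g i) (Di i) := fun i => by
    change IsLocalization (Submonoid.powers (g i)) (Di i)
    rw [← hpow i]
    infer_instance
  haveI : ∀ i : ι', IsDomain (Di i) := fun i =>
    IsLocalization.isDomain_localization
      (M := Algebra.algebraMapSubmonoid D (Submonoid.powers (f i.1))) (by
        rw [hpow i]
        exact powers_le_nonZeroDivisors_of_noZeroDivisors i.2)
  refine H14.isN2_of_cover D g hg Di fun i => ?_
  refine h i.1 (Di i) ?_
  haveI : Algebra.FiniteType D (Di i) :=
    IsLocalization.finiteType_of_monoid_fg (Submonoid.powers (g i)) (Di i)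
  haveI : Algebra.FiniteType R (Di i) := Algebra.FiniteType.trans ‹Algebra.FiniteType R D› this
  exact Algebra.FiniteType.of_restrictScalars_finiteType R (Localization.Away (f i.1)) (Di i)

end Groth.Agent.S9399
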