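import Groth.Statements.S9400
import Groth.Agent.Lib.helper14.N1N2

set_option autoImplicit false
universe u
open CAlg

namespace Groth.Agent.S9400

/-- Being a Nagata ring can be checked on a finite cover of Spec R by principal opens. -/
theorem result (R : Type u) [CommRing R]
    {ι : Type u} [Finite ι] (f : ι → R) (hf : Ideal.span (Set.range f) = ⊤)
    (h : ∀ i, CAlg.IsNagata (Localization.Away (f i))) : CAlg.IsNagata R := by
  classical
  refine ⟨?_, ?_⟩
  · haveI := Fintype.ofFinite ι
    let S : Finset R := Finset.univ.image f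
    have hS : Ideal.span (S : Set R) = ⊤ := by
      rw [← hf]
      congr 1
      ext x
      simp [S]
    apply AlgebraicGeometry.isNoetherianRing_of_away S hS
    rintro ⟨s, hs⟩
    obtain ⟨i, -, rfl⟩ := Finset.mem_image.mp hs
    exact (h i).1
  · intro p hp
    let ι' := {i : ι // f i ∉ p}
    let g : ι' → R ⧸ p := fun i => Ideal.Quotient.mk p (f i.1)
    have hg : Ideal.span (Set.range g) = ⊤ := by
      rw [eq_top_iff, ← Ideal.map_top (Ideal.Quotient.mk p), ← hf, Ideal.map_span, Ideal.span_le]
      rintro _ ⟨_, ⟨i, rfl⟩, rfl⟩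
      by_cases hi : f i ∈ p
      · rw [Ideal.Quotient.eq_zero_iff_mem.mpr hi]; exact zero_mem _
      · exact Ideal.subset_span ⟨⟨i, hi⟩, rfl⟩
    haveI hprime : ∀ i : ι', (p.map (algebraMap R (Localization.Away (f i.1)))).IsPrime := fun i =>
      IsLocalization.isPrime_of_isPrime_disjoint (Submonoid.powers (f i.1)) _ p hp
        (Set.disjoint_left.mpr (by
          rintro _ ⟨n, rfl⟩ hx
          exact i.2 (hp.mem_of_pow_mem n hx)))
    let Di : ι' → Type u := fun i =>
      Localization.Away (f i.1) ⧸ p.map (algebraMap R (Localization.Away (f i.1)))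
    haveI : ∀ i : ι', IsLocalization.Away (g i) (Di i) := fun i => by
      change IsLocalization (Submonoid.powers (g i)) (Di i)
      have : Algebra.algebraMapSubmonoid (R ⧸ p) (Submonoid.powers (f i.1)) =
          Submonoid.powers (g i) := Submonoid.map_powers _ _
      rw [← this]
      infer_instance
    exact H14.isN2_of_cover (R ⧸ p) g hg Di fun i =>
      (h i.1).2 (p.map (algebraMap R (Localization.Away (f i.1))))

end Groth.Agent.S9400
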