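import Groth.Statements.S9403
import Mathlib

set_option autoImplicit false
universe u
open CAlg

namespace Groth.Agent.S9403

/-- Let R → S be a ring map with S a Noetherian local ring which is an algebra over the rationals, and f
∈ S such that some S-linear form on the module of differentials of S over R sends df to 1 (df spans
a free direct summand of rank one). Then f is a nonzerodivisor of S. (The published statement asks
only that S·df be a direct summand of the module of differentials, which also holds for the
rationals with a square-zero element adjoined, where f is a zero divisor; this row asks for an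
S-linear form on the differentials sending df to 1, as the published proof uses.) -/
theorem result (R : Type u) [CommRing R]
    (S : Type u) [CommRing S] [IsLocalRing S] [IsNoetherianRing S] [Algebra R S] [Algebra ℚ S]
    (f : S) (θ : Ω[S⁄R] →ₗ[S] S) (hθ : θ (KaehlerDifferential.D R S f) = 1) : f ∈ nonZeroDivisors S := by
  let δ : Derivation R S S := θ.compDer (KaehlerDifferential.D R S)
  have hδ : δ f = 1 := hθ
  by_cases hfu : IsUnit f
  · exact hfu.mem_nonZeroDivisors
  have key : ∀ n : ℕ, ∀ g : S, f * g = 0 → g ∈ Ideal.span {f} ^ n := by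
    intro n
    induction n with
    | zero => intro g _; simp
    | succ n ih =>
      intro g hg
      have hgn := ih g hg
      rw [Ideal.span_singleton_pow, Ideal.mem_span_singleton'] at hgn
      obtain ⟨h, rfl⟩ := hgn
      have h0 : f ^ (n + 1) * h = 0 := by rw [pow_succ']; rw [← hg]; ring
      have h1 : δ (f ^ (n + 1) * h) = 0 := by rw [h0, map_zero]
      rw [Derivation.leibniz, Derivation.leibniz_pow, hδ, Nat.add_sub_cancel, smul_eq_mul,
        smul_eq_mul, smul_eq_mul, mul_one, nsmul_eq_mul] at h1
      have hunit : IsUnit ((n + 1 : ℕ) : S) := by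
        have : ((n + 1 : ℕ) : S) = algebraMap ℚ S ((n + 1 : ℕ) : ℚ) := by simp
        rw [this]
        exact (IsUnit.mk0 _ (by positivity)).map _
      obtain ⟨u, hu⟩ := hunit
      rw [Ideal.span_singleton_pow, Ideal.mem_span_singleton']
      refine ⟨-(↑u⁻¹ * δ h), ?_⟩
      have h2 : (↑u : S) * (h * f ^ n) = -(f ^ (n + 1) * δ h) := by
        rw [hu]
        linear_combination h1
      calc -(↑u⁻¹ * δ h) * f ^ (n + 1) = ↑u⁻¹ * (-(f ^ (n + 1) * δ h)) := by ring
        _ = ↑u⁻¹ * (↑u * (h * f ^ n)) := by rw [h2]
        _ = h * f ^ n := by rw [← mul_assoc, Units.inv_mul, one_mul]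
  rw [mem_nonZeroDivisors_iff_right]
  intro g hg
  have hne : Ideal.span {f} ≠ ⊤ := by
    rwa [Ne, Ideal.span_singleton_eq_top]
  have hbot := Ideal.iInf_pow_eq_bot_of_isLocalRing (Ideal.span {f}) hne
  have : g ∈ (⨅ i, Ideal.span {f} ^ i : Ideal S) := by
    rw [Ideal.mem_iInf]
    intro n
    exact key n g (by rw [mul_comm]; exact hg)
  rw [hbot] at this
  exact this

end Groth.Agent.S9403
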