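import Groth.Statements.S9412
import Mathlib

set_option autoImplicit false
universe u
open EGA4

namespace Groth.Agent.S9412

open TensorProduct

/-- a localization of a normal ring is normal -/
theorem isNormalRing_of_isLocalization {T T' : Type u} [CommRing T] [CommRing T'] [Algebra T T']
    (N : Submonoid T) [IsLocalization N T'] (hT : EGA4.IsNormalRing T) : EGA4.IsNormalRing T' := by
  intro q hq
  haveI : (q.comap (algebraMap T T')).IsPrime := Ideal.comap_isPrime _ _
  haveI : IsLocalization.AtPrime (Localization.AtPrime q) (q.comap (algebraMap T T')) :=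
    IsLocalization.isLocalization_isLocalization_atPrime_isLocalization N _ q
  let e : Localization.AtPrime (q.comap (algebraMap T T')) ≃ₐ[T] Localization.AtPrime q :=
    IsLocalization.algEquiv (q.comap (algebraMap T T')).primeCompl _ _
  obtain ⟨h1, h2⟩ := hT (q.comap (algebraMap T T'))
  haveI := h1
  haveI := h2
  exact ⟨e.toRingEquiv.toMulEquiv.isDomain_iff.mp h1, IsIntegrallyClosed.of_equiv e.toRingEquiv⟩

/-- A localization of a geometrically normal algebra over a field k is geometrically normal over k. -/
theorem result (k : Type u) [Field k] (A : Type u) [CommRing A]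
    [Algebra k A] (M : Submonoid A) (B : Type u) [CommRing B] [Algebra A B] [IsLocalization M B]
    [Algebra k B] [IsScalarTower k A B] (h : EGA4.IsGeomNormal k A) :
    EGA4.IsGeomNormal k B := by
  intro k' _ _ hfin
  have hT := h k' hfin
  letI : Algebra (k' ⊗[k] A) (k' ⊗[k] B) :=
    (Algebra.TensorProduct.map (AlgHom.id k' k') (IsScalarTower.toAlgHom k A B)).toRingHom.toAlgebra
  haveI : IsScalarTower k' (k' ⊗[k] A) (k' ⊗[k] B) := IsScalarTower.of_algebraMap_eq (fun x => by
    change _ = (Algebra.TensorProduct.map (AlgHom.id k' k') (IsScalarTower.toAlgHom k A B))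
      (algebraMap k' (k' ⊗[k] A) x)
    simp [Algebra.TensorProduct.algebraMap_apply])
  haveI := IsLocalization.tensorProduct_tensorProduct_right k k' M B (by
    apply RingHom.ext
    intro x
    change (Algebra.TensorProduct.map (AlgHom.id k' k') (IsScalarTower.toAlgHom k A B))
      (1 ⊗ₜ x) = 1 ⊗ₜ (algebraMap A B x)
    simp)
  exact isNormalRing_of_isLocalization
    (M.map (Algebra.TensorProduct.includeRight (R := k) (A := k') (B := A))) hT

end Groth.Agent.S9412
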