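import Groth.Statements.S9414
import Mathlib

set_option autoImplicit false
universe u
open CAlg

namespace Groth.Agent.S9414

open TensorProduct KaehlerDifferential

/-- if `k → κ` is bijective, dimensions over `κ` and over `k` agree -/
theorem finrank_eq_of_bijective {k κ M : Type*} [Field k] [Field κ] [Algebra k κ]
    [AddCommGroup M] [Module k M] [Module κ M] [IsScalarTower k κ M]
    (h : Function.Bijective (algebraMap k κ)) : Module.finrank κ M = Module.finrank k M := by
  have h1 : Module.finrank k κ = 1 := by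
    have e : k ≃ₗ[k] κ := LinearEquiv.ofBijective (Algebra.linearMap k κ) h
    rw [← e.finrank_eq, Module.finrank_self]
  rw [← Module.finrank_mul_finrank k κ M, h1, one_mul]

open TensorProduct in
/-- For an algebraically closed field k, a finite type k-algebra S and a maximal ideal m of S with
residue field κ = S/m, the κ-vector spaces κ ⊗_S Ω_{S/k} and m/m² have the same dimension. -/
theorem result (k : Type u) [Field k]
    [IsAlgClosed k] (S : Type u) [CommRing S] [Algebra k S] [Algebra.FiniteType k S]
    (m : Ideal S) [m.IsMaximal] :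
    Module.finrank (S ⧸ m) ((S ⧸ m) ⊗[S] Ω[S⁄k]) = Module.finrank (S ⧸ m) m.Cotangent := by
  letI : Field (S ⧸ m) := Ideal.Quotient.field m
  haveI : Module.Finite k (S ⧸ m) := finite_of_finite_type_of_isJacobsonRing k (S ⧸ m)
  have hbij : Function.Bijective (algebraMap k (S ⧸ m)) :=
    IsAlgClosed.algebraMap_bijective_of_isIntegral
  have hsurjS : Function.Surjective (algebraMap S (S ⧸ m)) := Ideal.Quotient.mk_surjective
  haveI : Subsingleton Ω[(S ⧸ m)⁄k] := KaehlerDifferential.subsingleton_of_surjective k _ hbij.2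
  let φ := KaehlerDifferential.kerCotangentToTensor k S (S ⧸ m)
  have hφsurj : Function.Surjective φ := by
    rw [← LinearMap.range_eq_top, KaehlerDifferential.range_kerCotangentToTensor k S _ hsurjS]
    ext x
    simp [Subsingleton.elim (KaehlerDifferential.mapBaseChange k S (S ⧸ m) x) 0]
  have hφinj : Function.Injective φ := by
    let e : k ≃ₐ[k] (S ⧸ m) := AlgEquiv.ofBijective (Algebra.ofId k _) hbij
    let g : (S ⧸ m) →ₐ[k] S ⧸ (RingHom.ker (algebraMap S (S ⧸ m)) ^ 2) :=
      (Algebra.ofId k _).comp (e.symm : (S ⧸ m) →ₐ[k] k)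
    have hg : (IsScalarTower.toAlgHom k S (S ⧸ m)).kerSquareLift.comp g = AlgHom.id k _ := by
      apply AlgHom.ext
      intro x
      obtain ⟨c, rfl⟩ := hbij.2 x
      simp
    obtain ⟨l, hl⟩ := (retractionKerCotangentToTensorEquivSection (R := k) hsurjS).symm ⟨g, hg⟩
    exact Function.LeftInverse.injective (fun x => LinearMap.congr_fun hl x)
  have hker : RingHom.ker (algebraMap S (S ⧸ m)) = m := Ideal.mk_ker
  haveI : IsScalarTower k (S ⧸ m) m.Cotangent := IsScalarTower.of_algebraMap_smul fun r x => by
    rw [IsScalarTower.algebraMap_apply k S (S ⧸ m), algebraMap_smul, algebraMap_smul]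
  rw [finrank_eq_of_bijective hbij, finrank_eq_of_bijective hbij]
  let ψ : (RingHom.ker (algebraMap S (S ⧸ m))).Cotangent ≃ₗ[k] (S ⧸ m) ⊗[S] Ω[S⁄k] :=
    LinearEquiv.ofBijective (φ.restrictScalars k) ⟨hφinj, hφsurj⟩
  rw [← ψ.finrank_eq]
  rw [hker]

end Groth.Agent.S9414
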