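import Groth.Statements.S9425
import Mathlib

set_option autoImplicit false
universe u
open CAlg

namespace Groth.Agent.S9425

/-- The universal property of a directed colimit presented by jointly surjective maps whose kernels
die in the system. -/
theorem exists_algHom_of_compatible {ι : Type u} [Preorder ι] [IsDirected ι (· ≤ ·)] [Nonempty ι]
    (R : Type u) [CommRing R] (G : ι → Type u) [∀ i, CommRing (G i)] [∀ i, Algebra R (G i)]
    (f : ∀ i j, i ≤ j → (G i →ₐ[R] G j)) (S : Type u) [CommRing S] [Algebra R S]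
    (g : ∀ i, G i →ₐ[R] S) (hg : ∀ i j (h : i ≤ j), (g j).comp (f i j h) = g i)
    (hsurj : ∀ s : S, ∃ i, ∃ x : G i, g i x = s)
    (hker : ∀ i (x : G i), g i x = 0 → ∃ j, ∃ h : i ≤ j, f i j h x = 0)
    (B : Type u) [CommRing B] [Algebra R B] (ψ : ∀ i, G i →ₐ[R] B)
    (hψ : ∀ i j (h : i ≤ j), (ψ j).comp (f i j h) = ψ i) :
    ∃ Ψ : S →ₐ[R] B, ∀ i, Ψ.comp (g i) = ψ i := by
  classical
  choose idx rep hrep using hsurj
  have hg' : ∀ i j (h : i ≤ j) (x : G i), g j (f i j h x) = g i x := fun i j h x =>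
    AlgHom.congr_fun (hg i j h) x
  have hψ' : ∀ i j (h : i ≤ j) (x : G i), ψ j (f i j h x) = ψ i x := fun i j h x =>
    AlgHom.congr_fun (hψ i j h) x
  -- well-definedness
  have key : ∀ i j (x : G i) (y : G j), g i x = g j y → ψ i x = ψ j y := by
    intro i j x y hxy
    obtain ⟨k, hik, hjk⟩ := exists_ge_ge i j
    have h0 : g k (f i k hik x - f j k hjk y) = 0 := by
      rw [map_sub, hg', hg', hxy, sub_self]
    obtain ⟨l, hkl, hl⟩ := hker k _ h0
    rw [map_sub, sub_eq_zero] at hl
    have := congrArg (ψ l) hl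
    rw [hψ', hψ', hψ', hψ'] at this
    exact this
  let Ψf : S → B := fun s => ψ (idx s) (rep s)
  have hΨ : ∀ i (x : G i), Ψf (g i x) = ψ i x := by
    intro i x
    exact key _ _ _ _ (hrep (g i x))
  -- representatives at a common index
  have hcommon : ∀ s t : S, ∃ k, ∃ x y : G k, g k x = s ∧ g k y = t := by
    intro s t
    obtain ⟨k, hik, hjk⟩ := exists_ge_ge (idx s) (idx t)
    exact ⟨k, f _ k hik (rep s), f _ k hjk (rep t), by rw [hg', hrep], by rw [hg', hrep]⟩
  have hone : Ψf 1 = 1 := by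
    obtain ⟨i⟩ := ‹Nonempty ι›
    have := hΨ i 1
    rwa [map_one, map_one] at this
  have hmul : ∀ s t, Ψf (s * t) = Ψf s * Ψf t := by
    intro s t
    obtain ⟨k, x, y, rfl, rfl⟩ := hcommon s t
    rw [← map_mul, hΨ, hΨ, hΨ, map_mul]
  have hzero : Ψf 0 = 0 := by
    obtain ⟨i⟩ := ‹Nonempty ι›
    have := hΨ i 0
    rwa [map_zero, map_zero] at this
  have hadd : ∀ s t, Ψf (s + t) = Ψf s + Ψf t := by
    intro s t
    obtain ⟨k, x, y, rfl, rfl⟩ := hcommon s t
    rw [← map_add, hΨ, hΨ, hΨ, map_add]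
  have hcomm : ∀ r : R, Ψf (algebraMap R S r) = algebraMap R B r := by
    intro r
    obtain ⟨i⟩ := ‹Nonempty ι›
    have := hΨ i (algebraMap R (G i) r)
    rwa [AlgHom.commutes, AlgHom.commutes] at this
  refine ⟨{ toFun := Ψf, map_one' := hone, map_mul' := hmul, map_zero' := hzero,
            map_add' := hadd, commutes' := hcomm }, ?_⟩
  intro i
  ext x
  exact hΨ i x

/-- A directed colimit of formally étale R-algebras is formally étale over R. The colimit is encoded by
compatible R-algebra maps S_i → S which are jointly surjective and whose kernels die further along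
the system. -/
theorem result {ι : Type u} [Preorder ι] [IsDirected ι (· ≤ ·)] [Nonempty ι]
    (R : Type u) [CommRing R] (G : ι → Type u) [∀ i, CommRing (G i)] [∀ i, Algebra R (G i)]
    (f : ∀ i j, i ≤ j → (G i →ₐ[R] G j)) (S : Type u) [CommRing S] [Algebra R S]
    (g : ∀ i, G i →ₐ[R] S) (hg : ∀ i j (h : i ≤ j), (g j).comp (f i j h) = g i)
    (hsurj : ∀ s : S, ∃ i, ∃ x : G i, g i x = s)
    (hker : ∀ i (x : G i), g i x = 0 → ∃ j, ∃ h : i ≤ j, f i j h x = 0)
    (h : ∀ i, Algebra.FormallyEtale R (G i)) : Algebra.FormallyEtale R S := by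
  rw [Algebra.FormallyEtale.iff_comp_bijective]
  intro B _ _ I hI
  constructor
  · intro φ₁ φ₂ hφ
    ext s
    obtain ⟨i, x, rfl⟩ := hsurj s
    have := h i
    have h1 : φ₁.comp (g i) = φ₂.comp (g i) := by
      apply Algebra.FormallyUnramified.comp_injective I hI
      rw [← AlgHom.comp_assoc, ← AlgHom.comp_assoc]
      exact congrArg (fun t => AlgHom.comp t (g i)) hφ
    exact AlgHom.congr_fun h1 x
  · intro φ
    have hbij : ∀ i, Function.Bijective ((Ideal.Quotient.mkₐ R I).comp :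
        (G i →ₐ[R] B) → G i →ₐ[R] B ⧸ I) := fun i =>
      have := h i
      Algebra.FormallyEtale.comp_bijective R (G i) I hI
    choose ψ hψ using fun i => (hbij i).2 (φ.comp (g i))
    have hcompat : ∀ i j (hij : i ≤ j), (ψ j).comp (f i j hij) = ψ i := by
      intro i j hij
      apply (hbij i).1
      change (Ideal.Quotient.mkₐ R I).comp ((ψ j).comp (f i j hij)) =
        (Ideal.Quotient.mkₐ R I).comp (ψ i)
      rw [hψ i, ← AlgHom.comp_assoc, hψ j, AlgHom.comp_assoc, hg]
    obtain ⟨Ψ, hΨ⟩ := exists_algHom_of_compatible R G f S g hg hsurj hker B ψ hcompat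
    refine ⟨Ψ, ?_⟩
    ext s
    obtain ⟨i, x, rfl⟩ := hsurj s
    have h1 := AlgHom.congr_fun (hψ i) x
    have h2 := AlgHom.congr_fun (hΨ i) x
    simp only [AlgHom.comp_apply] at h1 h2 ⊢
    rw [h2, h1]

end Groth.Agent.S9425
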