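import Groth.Statements.S9427
import Mathlib
import Groth.Agent.Lib.helper14.UnivThick


set_option autoImplicit false
universe u
open OmegaSh

namespace H14S9427
open TensorProduct KaehlerDifferential

/-- Part 1: `Ω_{B'/A} = 0`. -/
theorem subsingleton_kaehler (A : Type u) [CommRing A] (B : Type u) [CommRing B]
    [Algebra A B] (B' : Type u) [CommRing B'] [Algebra A B']
    [Algebra B' B] [IsScalarTower A B' B]
    (h : OmegaSh.IsUnivThickeningRing A B B' (IsScalarTower.toAlgHom A B' B)) :
    Subsingleton Ω[B'⁄A] := by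
  classical
  let π : B' →ₐ[A] B := IsScalarTower.toAlgHom A B' B
  have hπ : ∀ x, π x = algebraMap B' B x := fun x => rfl
  let P := B ⊗[B'] Ω[B'⁄A]
  let δ₂ : B' →+ P :=
    { toFun := fun x => (1 : B) ⊗ₜ[B'] D A B' x
      map_zero' := by simp
      map_add' := fun x y => by simp [tmul_add] }
  have hsm : ∀ (x : B') (ω : Ω[B'⁄A]), algebraMap B' B x • ((1 : B) ⊗ₜ[B'] ω) = (1 : B) ⊗ₜ[B'] (x • ω) := by
    intro x ω
    rw [TensorProduct.smul_tmul', smul_eq_mul, mul_one, ← TensorProduct.smul_tmul,
      Algebra.smul_def, mul_one]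
  obtain ⟨δ, -, huniq⟩ := H14.UT.existsUnique_der π h P (0 : A →+ P) (by intro a b; simp)
  have h1 : (0 : B' →+ P) = δ := huniq 0 ⟨by intro x y; simp, by intro a; simp⟩
  have h2 : δ₂ = δ := by
    apply huniq
    refine ⟨?_, ?_⟩
    · intro x y
      change (1 : B) ⊗ₜ[B'] D A B' (x * y) = π x • ((1 : B) ⊗ₜ[B'] D A B' y) + π y • ((1 : B) ⊗ₜ[B'] D A B' x)
      rw [hπ, hπ, hsm, hsm, Derivation.leibniz, tmul_add]
    · intro a
      change (1 : B) ⊗ₜ[B'] D A B' (algebraMap A B' a) = 0
      simp
  have h3 : ∀ x : B', (1 : B) ⊗ₜ[B'] D A B' x = 0 := by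
    intro x
    have : δ₂ x = (0 : B' →+ P) x := by rw [h2, h1]
    exact this
  -- P is trivial
  have hP : ∀ (ω : Ω[B'⁄A]) (b : B), b ⊗ₜ[B'] ω = 0 := by
    intro ω
    have hω : ω ∈ Submodule.span B' (Set.range (D A B')) := by
      rw [KaehlerDifferential.span_range_derivation]; trivial
    refine Submodule.span_induction ?_ ?_ ?_ ?_ hω
    · rintro _ ⟨x, rfl⟩ b
      have : b ⊗ₜ[B'] D A B' x = b • ((1 : B) ⊗ₜ[B'] D A B' x) := by
        rw [TensorProduct.smul_tmul', smul_eq_mul, mul_one]
      rw [this, h3, smul_zero]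
    · intro b; simp
    · intro x y _ _ hx hy b
      rw [tmul_add, hx, hy, add_zero]
    · intro c x _ hx b
      rw [← TensorProduct.smul_tmul, hx]
  have hPsub : Subsingleton P := by
    refine ⟨fun x y => ?_⟩
    have hz : ∀ z : P, z = 0 := by
      intro z
      induction z using TensorProduct.induction_on with
      | zero => rfl
      | tmul b ω => exact hP ω b
      | add x y hx hy => rw [hx, hy, add_zero]
    rw [hz x, hz y]
  -- transfer to the quotient
  let N : Ideal B' := RingHom.ker (algebraMap B' B)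
  have hsurj : Function.Surjective (algebraMap B' B) := h.1
  have hN2 : N ^ 2 = ⊥ := h.2.1
  let e1 : (B' ⧸ N) ≃ₗ[B'] B :=
    (Ideal.quotientKerAlgEquivOfSurjective (f := Algebra.ofId B' B) hsurj).toLinearEquiv
  let e2 : (B' ⧸ N) ⊗[B'] Ω[B'⁄A] ≃ₗ[B'] P := TensorProduct.congr e1 (LinearEquiv.refl _ _)
  let e3 := TensorProduct.quotTensorEquivQuotSMul Ω[B'⁄A] N
  have hQ : Subsingleton (Ω[B'⁄A] ⧸ (N • ⊤ : Submodule B' Ω[B'⁄A])) :=
    (e3.symm.trans e2).toEquiv.subsingleton
  have htop : (N • ⊤ : Submodule B' Ω[B'⁄A]) = ⊤ := Submodule.Quotient.subsingleton_iff.mp hQ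
  have hbot : (⊤ : Submodule B' Ω[B'⁄A]) = ⊥ := by
    calc (⊤ : Submodule B' Ω[B'⁄A]) = N • (N • ⊤ : Submodule B' Ω[B'⁄A]) := by rw [htop, htop]
      _ = (N * N) • (⊤ : Submodule B' Ω[B'⁄A]) := by rw [Submodule.mul_smul]
      _ = ⊥ := by rw [← pow_two, hN2, Submodule.bot_smul]
  exact (Submodule.subsingleton_iff B').mp (subsingleton_of_bot_eq_top hbot.symm)



/-- A retraction out of `B ⊗_{B'} Ω_{B'/R}` from a derivation-like map `δ : B' → P`. -/
theorem exists_retraction (R : Type u) [CommRing R] (B : Type u) [CommRing B]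
    (B' : Type u) [CommRing B'] [Algebra R B'] [Algebra B' B]
    (P : Type u) [AddCommGroup P] [Module B P] [Module B' P] [IsScalarTower B' B P]
    (δ : B' →+ P) (hδ : ∀ x y, δ (x * y) = algebraMap B' B x • δ y + algebraMap B' B y • δ x)
    (hδR : ∀ r : R, δ (algebraMap R B' r) = 0) :
    ∃ ρ : B ⊗[B'] Ω[B'⁄R] →ₗ[B] P, ∀ (b : B) (x : B'), ρ (b ⊗ₜ D R B' x) = b • δ x := by
  classical
  letI : Module R P := Module.compHom P (algebraMap R B')
  haveI : IsScalarTower R B' P := ⟨fun r x p => by
    change (r • x) • p = algebraMap R B' r • (x • p)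
    rw [Algebra.smul_def, mul_smul]⟩
  have hsm : ∀ (x : B') (p : P), algebraMap B' B x • p = x • p := fun x p => algebraMap_smul B x p
  let d : Derivation R B' P :=
    { toFun := δ
      map_add' := fun x y => map_add δ x y
      map_smul' := fun r x => by
        change δ (r • x) = algebraMap R B' r • δ x
        rw [Algebra.smul_def, hδ, hδR, smul_zero, add_zero, hsm]
      map_one_eq_zero' := by
        have := hδR 1
        simpa using this
      leibniz' := fun x y => by
        change δ (x * y) = x • δ y + y • δ x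
        rw [hδ, hsm, hsm] }
  have hd : ∀ x, d x = δ x := fun x => rfl
  refine ⟨d.liftKaehlerDifferential.liftBaseChange B, ?_⟩
  intro b x
  rw [LinearMap.liftBaseChange_tmul, Derivation.liftKaehlerDifferential_comp_D, hd]


theorem main
    (R : Type u) [CommRing R] (A : Type u) [CommRing A] [Algebra R A] (B : Type u) [CommRing B]
    [Algebra A B] (B' : Type u) [CommRing B'] [Algebra A B']
    [Algebra R B'] [IsScalarTower R A B'] [Algebra B' B] [IsScalarTower A B' B]
    (h : OmegaSh.IsUnivThickeningRing A B B' (IsScalarTower.toAlgHom A B' B)) :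
    Algebra.FormallyUnramified A B' ∧
      Function.Bijective ((KaehlerDifferential.mapBaseChange R A B').baseChange B) := by
  classical
  have hsub := H14S9427.subsingleton_kaehler A B B' h
  refine ⟨⟨hsub⟩, ?_, ?_⟩
  · -- injectivity through a retraction
    let π : B' →ₐ[A] B := IsScalarTower.toAlgHom A B' B
    have hπ : ∀ x, π x = algebraMap B' B x := fun x => rfl
    let P := B ⊗[A] Ω[A⁄R]
    let θ : A →+ P :=
      { toFun := fun a => (1 : B) ⊗ₜ[A] KaehlerDifferential.D R A a
        map_zero' := by simp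
        map_add' := fun x y => by simp [TensorProduct.tmul_add] }
    have hθdef : ∀ a, θ a = (1 : B) ⊗ₜ[A] KaehlerDifferential.D R A a := fun a => rfl
    have hsmA : ∀ (a : A) (ω : Ω[A⁄R]),
        algebraMap A B a • ((1 : B) ⊗ₜ[A] ω) = (1 : B) ⊗ₜ[A] (a • ω) := by
      intro a ω
      rw [TensorProduct.smul_tmul', smul_eq_mul, mul_one, ← TensorProduct.smul_tmul,
        Algebra.smul_def, mul_one]
    have hθ : ∀ a₁ a₂, θ (a₁ * a₂) = algebraMap A B a₁ • θ a₂ + algebraMap A B a₂ • θ a₁ := by
      intro a₁ a₂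
      rw [hθdef, hθdef, hθdef, hsmA, hsmA, Derivation.leibniz, TensorProduct.tmul_add]
    obtain ⟨δ, ⟨hδ1, hδ2⟩, -⟩ := H14.UT.existsUnique_der π h P θ hθ
    have hδR : ∀ r : R, δ (algebraMap R B' r) = 0 := by
      intro r
      rw [IsScalarTower.algebraMap_apply R A B', hδ2, hθdef]
      simp
    obtain ⟨ρ, hρ⟩ := H14S9427.exists_retraction R B B' P δ (fun x y => by rw [hδ1, hπ, hπ]) hδR
    let φ := (KaehlerDifferential.mapBaseChange R A B').baseChange B
    let e := TensorProduct.AlgebraTensorModule.cancelBaseChange A B' B B Ω[A⁄R]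
    -- `ρ ∘ map = 1 ⊗ -`
    have hmap : ∀ (b : B) (ω : Ω[A⁄R]),
        ρ (b ⊗ₜ[B'] KaehlerDifferential.map R R A B' ω) = b ⊗ₜ[A] ω := by
      intro b ω
      have hω : ω ∈ Submodule.span A (Set.range (KaehlerDifferential.D R A)) := by
        rw [KaehlerDifferential.span_range_derivation]; trivial
      revert b
      refine Submodule.span_induction ?_ ?_ ?_ ?_ hω
      · rintro _ ⟨a, rfl⟩ b
        rw [KaehlerDifferential.map_D, hρ, hδ2, hθdef, TensorProduct.smul_tmul', smul_eq_mul,
          mul_one]
      · intro b; simp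
      · intro x y _ _ hx hy b
        rw [map_add, TensorProduct.tmul_add, map_add, hx, hy, TensorProduct.tmul_add]
      · intro c x _ hx b
        rw [map_smul, ← algebraMap_smul B' c (KaehlerDifferential.map R R A B' x),
          ← TensorProduct.smul_tmul, hx, algebraMap_smul, TensorProduct.smul_tmul]
    have key : ∀ z, ρ (φ z) = e z := by
      intro z
      induction z using TensorProduct.induction_on with
      | zero => simp
      | add x y hx hy => rw [map_add, map_add, map_add, hx, hy]
      | tmul b y =>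
        induction y using TensorProduct.induction_on with
        | zero => simp
        | add x y hx hy =>
          rw [TensorProduct.tmul_add, map_add, map_add, map_add, hx, hy]
        | tmul b' ω =>
          change ρ (b ⊗ₜ[B'] (KaehlerDifferential.mapBaseChange R A B' (b' ⊗ₜ ω))) = _
          rw [KaehlerDifferential.mapBaseChange_tmul, ← TensorProduct.smul_tmul, hmap,
            TensorProduct.AlgebraTensorModule.cancelBaseChange_tmul]
    intro x y hxy
    apply e.injective
    rw [← key, ← key, hxy]
  · -- surjectivity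
    apply LinearMap.baseChange_surjective
    rw [← LinearMap.range_eq_top, KaehlerDifferential.range_mapBaseChange, ← top_le_iff]
    exact fun x _ ↦ Subsingleton.elim _ _

end H14S9427

namespace Groth.Agent.S9427

/-- Let R → A → B be ring maps with A → B formally unramified, and let B' → B be a universal first order
thickening of B relative to A (B a B'-algebra through it). Then A → B' is formally unramified, and
base changing to B the natural B'-linear map B' ⊗_A Ω_{A/R} → Ω_{B'/R} gives a bijection B ⊗_{B'}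
(B' ⊗_A Ω_{A/R}) → B ⊗_{B'} Ω_{B'/R}. -/
theorem result
    (R : Type u) [CommRing R] (A : Type u) [CommRing A] [Algebra R A] (B : Type u) [CommRing B]
    [Algebra A B] [Algebra.FormallyUnramified A B] (B' : Type u) [CommRing B'] [Algebra A B']
    [Algebra R B'] [IsScalarTower R A B'] [Algebra B' B] [IsScalarTower A B' B]
    (h : OmegaSh.IsUnivThickeningRing A B B' (IsScalarTower.toAlgHom A B' B)) :
    Algebra.FormallyUnramified A B' ∧
      Function.Bijective ((KaehlerDifferential.mapBaseChange R A B').baseChange B) := by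
  exact H14S9427.main R A B B' h

end Groth.Agent.S9427
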