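import Groth.Statements.S9431
import Groth.Agent.Lib.helper14.SepGen

set_option autoImplicit false
universe u
open CAlg

namespace Groth.Agent.S9431

/-- For a separable (geometrically reduced) field extension K/k, every finite subset of K lies in a
k-subalgebra of K which is smooth over k; in particular K is a filtered colimit of smooth
k-algebras. -/
theorem result (k : Type u) [Field k]
    (K : Type u) [Field K] [Algebra k K] [Algebra.IsGeometricallyReduced k K] (E : Finset K) :
    ∃ A : Subalgebra k K, (↑E : Set K) ⊆ (A : Set K) ∧ Algebra.Smooth k A := by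
  classical
  let B : Subalgebra k K := Algebra.adjoin k (E : Set K)
  haveI hBft : Algebra.FiniteType k B :=
    (Subalgebra.fg_iff_finiteType B).mp (Subalgebra.fg_adjoin_finset E)
  haveI : Algebra.FinitePresentation k B := Algebra.FinitePresentation.of_finiteType.mp hBft
  -- the fraction field of `B`
  let L := FractionRing B
  let ψ : L →ₐ[k] K := IsLocalization.liftAlgHom (M := nonZeroDivisors B) (f := B.val) (by
    rintro ⟨y, hy⟩
    have : (y : K) ≠ 0 := fun h => nonZeroDivisors.ne_zero hy (Subtype.ext h)
    exact this.isUnit)
  haveI : Algebra.IsGeometricallyReduced k L :=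
    Algebra.IsGeometricallyReduced.of_injective ψ (RingHom.injective ψ.toRingHom)
  haveI : Algebra.FormallySmooth k L :=
    Groth.Agent.H14.formallySmooth_of_isGeometricallyReduced k L
  -- smoothness at the generic point
  haveI : (⊥ : Ideal B).IsPrime := Ideal.isPrime_bot
  have hcompl : (⊥ : Ideal B).primeCompl = nonZeroDivisors B := by
    ext x
    rw [Ideal.primeCompl, mem_nonZeroDivisors_iff_ne_zero]
    show x ∉ (⊥ : Ideal B) ↔ _
    rw [Ideal.mem_bot]
  haveI : IsLocalization (nonZeroDivisors B) (Localization.AtPrime (⊥ : Ideal B)) := by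
    rw [← hcompl]; infer_instance
  let e : Localization.AtPrime (⊥ : Ideal B) ≃ₐ[B] L :=
    IsLocalization.algEquiv (nonZeroDivisors B) _ _
  haveI : Algebra.IsSmoothAt k (⊥ : Ideal B) :=
    Algebra.FormallySmooth.of_equiv (e.symm.restrictScalars k)
  obtain ⟨g, hg, hsm⟩ := Algebra.IsSmoothAt.exists_notMem_smooth (R := k) (⊥ : Ideal B)
  have hg0 : g ≠ 0 := fun h => hg (by rw [h]; exact Submodule.zero_mem _)
  -- embed `B[1/g]` into `K`
  let φ : Localization.Away g →ₐ[k] K :=
    IsLocalization.liftAlgHom (M := Submonoid.powers g) (f := B.val) (by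
      rintro ⟨_, n, rfl⟩
      have : (g : K) ≠ 0 := fun h => hg0 (Subtype.ext h)
      simpa using (pow_ne_zero n this).isUnit)
  have hφ : Function.Injective φ := by
    have : Function.Injective (IsLocalization.lift (M := Submonoid.powers g)
        (S := Localization.Away g) (g := (B.val : B →+* K)) (by
          rintro ⟨_, n, rfl⟩
          have : (g : K) ≠ 0 := fun h => hg0 (Subtype.ext h)
          simpa using (pow_ne_zero n this).isUnit)) := by
      rw [IsLocalization.lift_injective_iff]
      intro x y
      constructor
      · intro h
        have := (IsLocalization.injective (Localization.Away g)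
          (powers_le_nonZeroDivisors_of_noZeroDivisors hg0)) h
        rw [this]
      · intro h
        have : x = y := Subtype.ext h
        rw [this]
    exact this
  refine ⟨φ.range, ?_, ?_⟩
  · intro x hx
    exact ⟨algebraMap B (Localization.Away g) ⟨x, Algebra.subset_adjoin hx⟩, by
      show φ (algebraMap B (Localization.Away g) ⟨x, _⟩) = x
      exact IsLocalization.lift_eq _ _⟩
  · exact Algebra.Smooth.of_equiv (AlgEquiv.ofInjective φ hφ)

end Groth.Agent.S9431
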