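import Groth.Statements.S9433
import Mathlib

set_option autoImplicit false
universe u
open CAlg

namespace Groth.Agent.S9433

open Polynomial IsLocalRing

section helpers



theorem cong_eval {R E S : Type u} [CommRing R] [CommRing E] [Algebra R E]
    [CommRing S] [IsLocalRing S] [Algebra R S] (c : E →ₐ[R] S) (x : E) (a : R)
    (ha : algebraMap R S a - c x ∈ maximalIdeal S) (G : R[X]) :
    algebraMap R S (G.eval a) - c (aeval x G) ∈ maximalIdeal S := by
  rw [← Polynomial.aeval_algHom_apply, ← Polynomial.eval₂_at_apply,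
    Polynomial.aeval_def, ← Polynomial.eval_map, ← Polynomial.eval_map]
  obtain ⟨w, hw⟩ := Polynomial.sub_dvd_eval_sub (algebraMap R S a) (c x) (G.map (algebraMap R S))
  rw [hw]
  exact Ideal.mul_mem_right _ _ ha

theorem unit_of_cong {R S : Type u} [CommRing R] [CommRing S] [IsLocalRing S] [Algebra R S]
    [IsLocalHom (algebraMap R S)] (r : R) (u : S) (hu : IsUnit u)
    (h : algebraMap R S r - u ∈ maximalIdeal S) : IsUnit r := by
  apply isUnit_of_map_unit (algebraMap R S)
  by_contra hn
  have h1 : algebraMap R S r ∈ maximalIdeal S := (mem_maximalIdeal _).mpr hn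
  have h2 : u ∈ maximalIdeal S := by
    have : u = algebraMap R S r - (algebraMap R S r - u) := by ring
    rw [this]; exact Ideal.sub_mem _ h1 h
  exact (mem_maximalIdeal _).mp h2 hu

theorem mem_of_map_mem {R S : Type u} [CommRing R] [IsLocalRing R] [CommRing S] [IsLocalRing S]
    [Algebra R S] (r : R) (h : algebraMap R S r ∈ maximalIdeal S) : r ∈ maximalIdeal R := by
  rw [mem_maximalIdeal, mem_nonunits_iff] at h ⊢
  exact fun hr => h (hr.map _)

theorem unit_add_mem {S : Type u} [CommRing S] [IsLocalRing S]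
    (u v : S) (hu : IsUnit u) (hv : v ∈ maximalIdeal S) : IsUnit (u + v) := by
  by_contra hn
  have h1 : u + v ∈ maximalIdeal S := (mem_maximalIdeal _).mpr hn
  have h2 : u ∈ maximalIdeal S := by
    have : u = (u + v) - v := by ring
    rw [this]; exact Ideal.sub_mem _ h1 hv
  exact (mem_maximalIdeal _).mp h2 hu




/-- root approximations via formal smoothness -/
theorem approx {R E : Type u} [CommRing R] [CommRing E] [Algebra R E]
    (P : StandardEtalePresentation R E) (a : R) (hg : IsUnit (P.g.eval a))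
    (n : ℕ) (hn : 1 ≤ n) (t : R) (ht : t = P.f.eval a) :
    ∃ (r : R) (φ : E →ₐ[R] R ⧸ Ideal.span {t ^ n}),
      r - a ∈ Ideal.span {t} ∧ φ P.x = Ideal.Quotient.mk _ r := by
  have : Algebra.IsStandardEtale R E := ⟨⟨P⟩⟩
  have hfs : Algebra.FormallySmooth R E := inferInstance
  -- map to R/t
  have hmap : P.HasMap (Ideal.Quotient.mk (Ideal.span {t}) a) := by
    constructor
    · have : aeval (Ideal.Quotient.mk (Ideal.span {t}) a) P.f =
          Ideal.Quotient.mk (Ideal.span {t}) (P.f.eval a) := by
        rw [← Ideal.Quotient.algebraMap_eq, Polynomial.aeval_algebraMap_apply]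
        rfl
      rw [this, Ideal.Quotient.eq_zero_iff_mem, ← ht]
      exact Ideal.mem_span_singleton_self _
    · have : aeval (Ideal.Quotient.mk (Ideal.span {t}) a) P.g =
          Ideal.Quotient.mk (Ideal.span {t}) (P.g.eval a) := by
        rw [← Ideal.Quotient.algebraMap_eq, Polynomial.aeval_algebraMap_apply]
        rfl
      rw [this]
      exact hg.map _
  obtain ⟨φ₁, hφ₁⟩ : ∃ φ₁ : E →ₐ[R] R ⧸ Ideal.span {t}, φ₁ P.x = Ideal.Quotient.mk _ a :=
    ⟨(P.lift _ hmap).comp (P.equivRing : E →ₐ[R] P.Ring), by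
      rw [AlgHom.comp_apply, AlgEquiv.coe_toAlgHom, P.equivRing_x, StandardEtalePair.lift_X]⟩
  have hle : Ideal.span {t ^ n} ≤ Ideal.span {t} := by
    rw [Ideal.span_singleton_le_iff_mem]
    exact Ideal.pow_mem_of_mem _ (Ideal.mem_span_singleton_self t) n (by omega)
  let π : (R ⧸ Ideal.span {t ^ n}) →ₐ[R] R ⧸ Ideal.span {t} := Ideal.Quotient.factorₐ R hle
  have hπs : Function.Surjective π := Ideal.Quotient.factor_surjective hle
  have hker : IsNilpotent (RingHom.ker (π : (R ⧸ Ideal.span {t ^ n}) →+* R ⧸ Ideal.span {t})) := by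
    refine ⟨n, ?_⟩
    rw [Ideal.zero_eq_bot, eq_bot_iff]
    have h1 : RingHom.ker (π : (R ⧸ Ideal.span {t ^ n}) →+* R ⧸ Ideal.span {t}) ≤
        (Ideal.span {t}).map (Ideal.Quotient.mk (Ideal.span {t ^ n})) := by
      intro y hy
      obtain ⟨r, rfl⟩ := Ideal.Quotient.mk_surjective y
      rw [RingHom.mem_ker] at hy
      have : Ideal.Quotient.mk (Ideal.span {t}) r = 0 := hy
      rw [Ideal.Quotient.eq_zero_iff_mem] at this
      exact Ideal.mem_map_of_mem _ this
    refine (Ideal.pow_right_mono h1 n).trans ?_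
    rw [← Ideal.map_pow, Ideal.span_singleton_pow, Ideal.map_span, Set.image_singleton,
      Ideal.span_singleton_le_iff_mem]
    rw [Ideal.Quotient.eq_zero_iff_mem.mpr (Ideal.mem_span_singleton_self _)]
    exact Ideal.zero_mem _
  let φ := Algebra.FormallySmooth.liftOfSurjective φ₁ π hπs hker
  have hφ : ∀ y, π (φ y) = φ₁ y := Algebra.FormallySmooth.liftOfSurjective_apply φ₁ π hπs hker
  obtain ⟨r, hr⟩ := Ideal.Quotient.mk_surjective (φ P.x)
  refine ⟨r, φ, ?_, hr.symm⟩
  have h1 := hφ P.x
  rw [← hr, hφ₁] at h1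
  have h2 : Ideal.Quotient.mk (Ideal.span {t}) r = Ideal.Quotient.mk _ a := h1
  rwa [Ideal.Quotient.eq] at h2


theorem core {R E S : Type u} [CommRing R] [IsLocalRing R] [CommRing E] [Algebra R E]
    [CommRing S] [IsLocalRing S] [Algebra R S] [IsLocalHom (algebraMap R S)] [Module.Flat R S]
    (P : StandardEtalePresentation R E) (c : E →ₐ[R] S)
    (hgen : ∀ s : S, ∃ y z : E, IsUnit (c z) ∧ s * c z = c y)
    (a : R) (ha : algebraMap R S a - c P.x ∈ maximalIdeal S) :
    P.f.eval a ∈ maximalIdeal R ∧ ∀ n, 1 ≤ n →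
      Function.Bijective (Ideal.quotientMap ((Ideal.span {(P.f.eval a) ^ n}).map (algebraMap R S))
        (algebraMap R S) Ideal.le_comap_map) := by
  have hff : Module.FaithfullyFlat R S := Module.FaithfullyFlat.of_flat_of_isLocalHom
  obtain ⟨t, ht⟩ : ∃ t, t = P.f.eval a := ⟨_, rfl⟩
  rw [← ht]
  have htS : algebraMap R S t ∈ maximalIdeal S := by
    have := cong_eval c P.x a ha P.f
    rwa [P.hasMap.1, map_zero, sub_zero, ← ht] at this
  have htm : t ∈ maximalIdeal R := mem_of_map_mem _ htS
  have hga : IsUnit (P.g.eval a) :=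
    unit_of_cong _ _ (P.hasMap.2.map c) (cong_eval c P.x a ha P.g)
  refine ⟨htm, fun n hn => ?_⟩
  obtain ⟨r, φ, hra, hφ⟩ := approx P a hga n hn t ht
  set I : Ideal S := (Ideal.span {t ^ n}).map (algebraMap R S) with hI
  have hIm : I ≤ maximalIdeal S := by
    rw [hI, Ideal.map_span, Set.image_singleton, Ideal.span_singleton_le_iff_mem, map_pow]
    exact Ideal.pow_mem_of_mem _ htS n (by omega)
  -- r is close to c P.x
  have hr : algebraMap R S r - c P.x ∈ maximalIdeal S := by
    have h1 : algebraMap R S (r - a) ∈ maximalIdeal S := by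
      rw [Ideal.mem_span_singleton'] at hra
      obtain ⟨w, hw⟩ := hra
      rw [← hw, map_mul]
      exact Ideal.mul_mem_left _ _ htS
    have : algebraMap R S r - c P.x = algebraMap R S (r - a) + (algebraMap R S a - c P.x) := by
      rw [map_sub]; ring
    rw [this]
    exact Ideal.add_mem _ h1 ha
  -- f(r) ∈ (t^n)
  have hfr : P.f.eval r ∈ Ideal.span {t ^ n} := by
    rw [← Ideal.Quotient.eq_zero_iff_mem]
    have h1 : aeval (φ P.x) P.f = 0 := by
      rw [Polynomial.aeval_algHom_apply, P.hasMap.1, map_zero]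
    rw [hφ, ← Ideal.Quotient.algebraMap_eq, Polynomial.aeval_algebraMap_apply] at h1
    exact h1
  -- Newton step in S
  have hclose : c P.x - algebraMap R S r ∈ I := by
    obtain ⟨k, hk⟩ := (P.f.map (algebraMap R S)).binomExpansion (algebraMap R S r)
      (c P.x - algebraMap R S r)
    have e1 : algebraMap R S r + (c P.x - algebraMap R S r) = c P.x := by ring
    have e2 : (P.f.map (algebraMap R S)).eval (c P.x) = 0 := by
      rw [Polynomial.eval_map, ← Polynomial.aeval_def, Polynomial.aeval_algHom_apply,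
        P.hasMap.1, map_zero]
    have e3 : (P.f.map (algebraMap R S)).eval (algebraMap R S r) = algebraMap R S (P.f.eval r) := by
      rw [Polynomial.eval_map, Polynomial.eval₂_at_apply]
    have e4 : (P.f.map (algebraMap R S)).derivative.eval (algebraMap R S r) =
        algebraMap R S (P.f.derivative.eval r) := by
      rw [Polynomial.derivative_map, Polynomial.eval_map, Polynomial.eval₂_at_apply]
    rw [e1, e2, e3, e4] at hk
    have hu1 : IsUnit (P.f.derivative.eval r) :=
      unit_of_cong _ _ (P.hasMap.isUnit_derivative_f.map c) (cong_eval c P.x r hr P.f.derivative)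
    have hu2 : IsUnit (algebraMap R S (P.f.derivative.eval r) + k * (c P.x - algebraMap R S r)) := by
      refine unit_add_mem _ _ (hu1.map _) (Ideal.mul_mem_left _ _ ?_)
      have : c P.x - algebraMap R S r = -(algebraMap R S r - c P.x) := by ring
      rw [this]; exact neg_mem hr
    obtain ⟨v, hv⟩ := hu2
    have e5 : (c P.x - algebraMap R S r) * v = -algebraMap R S (P.f.eval r) := by
      rw [hv]; linear_combination -hk
    have e6 : c P.x - algebraMap R S r = -algebraMap R S (P.f.eval r) * ↑(v⁻¹) := by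
      rw [← e5, mul_assoc, Units.mul_inv, mul_one]
    rw [e6]
    refine Ideal.mul_mem_right _ _ (neg_mem ?_)
    rw [hI]
    exact Ideal.mem_map_of_mem _ hfr
  -- the two algebra maps
  obtain ⟨ι, hι⟩ : ∃ ι : (R ⧸ Ideal.span {t ^ n}) →ₐ[R] S ⧸ I,
      ∀ x, ι (Ideal.Quotient.mk _ x) = Ideal.Quotient.mk I (algebraMap R S x) := by
    refine ⟨Ideal.Quotient.liftₐ _ ((Ideal.Quotient.mkₐ R I).comp (Algebra.ofId R S)) ?_, ?_⟩
    · intro x hx
      rw [AlgHom.comp_apply, Ideal.Quotient.mkₐ_eq_mk, Ideal.Quotient.eq_zero_iff_mem, hI]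
      exact Ideal.mem_map_of_mem _ hx
    · intro x
      rfl
  have hcomp : (Ideal.Quotient.mkₐ R I).comp c = ι.comp φ := by
    apply P.hom_ext
    rw [AlgHom.comp_apply, AlgHom.comp_apply, hφ, hι, Ideal.Quotient.mkₐ_eq_mk, Ideal.Quotient.eq]
    exact hclose
  have hcy : ∀ y : E, ∃ ry : R, Ideal.Quotient.mk I (c y) = Ideal.Quotient.mk I (algebraMap R S ry) := by
    intro y
    obtain ⟨ry, hry⟩ := Ideal.Quotient.mk_surjective (φ y)
    refine ⟨ry, ?_⟩
    have := AlgHom.congr_fun hcomp y
    rw [AlgHom.comp_apply, AlgHom.comp_apply, ← hry, hι, Ideal.Quotient.mkₐ_eq_mk] at this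
    exact this
  constructor
  · apply Ideal.quotientMap_injective'
    rw [Ideal.comap_map_eq_self_of_faithfullyFlat]
  · intro sbar
    obtain ⟨s, rfl⟩ := Ideal.Quotient.mk_surjective sbar
    obtain ⟨y, z, hz, hyz⟩ := hgen s
    obtain ⟨ry, hry⟩ := hcy y
    obtain ⟨rz, hrz⟩ := hcy z
    have hrzu : IsUnit rz := by
      refine unit_of_cong rz (c z) hz ?_
      rw [Ideal.Quotient.eq] at hrz
      have : algebraMap R S rz - c z = -(c z - algebraMap R S rz) := by ring
      rw [this]
      exact neg_mem (hIm hrz)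
    obtain ⟨w, hw⟩ := hrzu.exists_right_inv
    refine ⟨Ideal.Quotient.mk _ (ry * w), ?_⟩
    rw [Ideal.quotientMap_mk]
    have h1 : Ideal.Quotient.mk I s * Ideal.Quotient.mk I (algebraMap R S rz) =
        Ideal.Quotient.mk I (algebraMap R S ry) := by
      rw [← hrz, ← hry, ← map_mul, hyz]
    have h2 : Ideal.Quotient.mk I (algebraMap R S rz) * Ideal.Quotient.mk I (algebraMap R S w) = 1 := by
      rw [← map_mul, ← map_mul, hw, map_one, map_one]
    rw [map_mul, map_mul, ← h1, mul_assoc, h2, mul_one]


end helpers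

/-- Let R → S be a local homomorphism of local rings with S the localization of an étale R-algebra at a
prime, inducing an isomorphism of residue fields. Then for some t in the maximal ideal of R the maps
R/t^nR → S/t^nS are bijective for all n ≥ 1. -/
theorem result (R : Type u) [CommRing R] [IsLocalRing R] (T : Type u) [CommRing T] [Algebra R T]
    [Algebra.Etale R T] (q : Ideal T) [q.IsPrime] (S : Type u) [CommRing S] [IsLocalRing S]
    [Algebra T S] [IsLocalization.AtPrime S q] [Algebra R S] [IsScalarTower R T S]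
    [IsLocalHom (algebraMap R S)]
    (hres : Function.Bijective (IsLocalRing.ResidueField.map (algebraMap R S))) :
    ∃ t ∈ IsLocalRing.maximalIdeal R, ∀ n : ℕ, 1 ≤ n →
      Function.Bijective (Ideal.quotientMap ((Ideal.span {t ^ n}).map (algebraMap R S))
        (algebraMap R S) Ideal.le_comap_map) := by
  have hfp : Algebra.FinitePresentation R T := inferInstance
  have hEt : Algebra.IsEtaleAt R q := by
    have h1 : Algebra.FormallyEtale T (Localization.AtPrime q) :=
      Algebra.FormallyEtale.of_isLocalization q.primeCompl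
    exact Algebra.FormallyEtale.comp R T _
  obtain ⟨f, hfq, hE⟩ := Algebra.IsEtaleAt.exists_isStandardEtale (R := R) q
  obtain ⟨P⟩ := hE.nonempty_standardEtalePresentation
  have hfS : ∀ y : Submonoid.powers f, IsUnit ((IsScalarTower.toAlgHom R T S) y) := by
    rintro ⟨y, k, rfl⟩
    have : IsUnit (algebraMap T S f) :=
      IsLocalization.map_units (M := q.primeCompl) S ⟨f, hfq⟩
    simpa using this.pow k
  let c : Localization.Away f →ₐ[R] S := IsLocalization.liftAlgHom hfS
  have hc : ∀ y : T, c (algebraMap T _ y) = algebraMap T S y := by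
    intro y
    simp [c]
  have hflat : Module.Flat R S := by
    have : Module.Flat T S := IsLocalization.flat S q.primeCompl
    exact Module.Flat.trans R T S
  have hgen : ∀ s : S, ∃ y z : Localization.Away f, IsUnit (c z) ∧ s * c z = c y := by
    intro s
    obtain ⟨⟨y, z⟩, hyz⟩ := IsLocalization.surj q.primeCompl s
    refine ⟨algebraMap T _ y, algebraMap T _ z, ?_, ?_⟩
    · rw [hc]; exact IsLocalization.map_units S z
    · rw [hc, hc]; exact hyz
  obtain ⟨abar, habar⟩ := hres.2 (residue S (c P.x))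
  obtain ⟨a, rfl⟩ := IsLocalRing.residue_surjective abar
  have ha : algebraMap R S a - c P.x ∈ maximalIdeal S := by
    rw [IsLocalRing.ResidueField.map_residue] at habar
    rw [← IsLocalRing.residue_eq_zero_iff, map_sub, habar, sub_self]
  obtain ⟨h1, h2⟩ := core P c hgen a ha
  exact ⟨_, h1, h2⟩

end Groth.Agent.S9433
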