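import Groth.Statements.S9434
import Groth.Agent.Lib.helper3.SplitCover

set_option autoImplicit false
universe u
open CAlg

namespace Groth.Agent.S9434

/-- Let R → S be a local homomorphism of local rings with S the localization of an étale R-algebra at a
prime. Then there is a finite, finitely presented, faithfully flat R-algebra S' such that for every
maximal ideal m' of S' the structure map R → S'_{m'} factors through some R-algebra map S → S'_{m'}. -/
theorem result (R : Type u) [CommRing R] [IsLocalRing R] (T : Type u) [CommRing T] [Algebra R T]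
    [Algebra.Etale R T] (q : Ideal T) [q.IsPrime] (S : Type u) [CommRing S] [IsLocalRing S]
    [Algebra T S] [IsLocalization.AtPrime S q] [Algebra R S] [IsScalarTower R T S]
    [IsLocalHom (algebraMap R S)] :
    ∃ (S' : Type u) (_ : CommRing S') (_ : Algebra R S'),
      Module.Finite R S' ∧ Algebra.FinitePresentation R S' ∧ Module.FaithfullyFlat R S' ∧
        ∀ (m' : Ideal S') [m'.IsMaximal], Nonempty (S →ₐ[R] Localization.AtPrime m') := by
  classical
  obtain ⟨f, hfq, hstd⟩ := Algebra.IsEtaleAt.exists_isStandardEtale (R := R) q
  obtain ⟨S', i1, i2, hfin, hfp, hff, H⟩ :=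
    Groth.Agent.Lib.helper3.SplitCover.main R (Localization.Away f)
  refine ⟨S', i1, i2, hfin, hfp, hff, ?_⟩
  intro m' hm'
  -- `q` lies over the maximal ideal of `R`
  have hq : q.under R = IsLocalRing.maximalIdeal R := by
    have h1 : (IsLocalRing.maximalIdeal S).comap (algebraMap T S) = q :=
      IsLocalization.AtPrime.comap_maximalIdeal S q
    have h2 : (IsLocalRing.maximalIdeal S).comap (algebraMap R S) = IsLocalRing.maximalIdeal R :=
      ((IsLocalRing.local_hom_TFAE (algebraMap R S)).out 0 4).mp ‹_›
    rw [Ideal.under_def, ← h1, Ideal.comap_comap, ← IsScalarTower.algebraMap_eq, h2]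
  -- `m'` lies over the maximal ideal of `R`
  have hm : m'.under R = IsLocalRing.maximalIdeal R := by
    haveI : Algebra.IsIntegral R S' := Algebra.IsIntegral.of_finite R S'
    have : (m'.under R).IsMaximal := Ideal.isMaximal_comap_of_isIntegral_of_isMaximal m'
    exact IsLocalRing.eq_maximalIdeal this
  have hdisj : Disjoint (Submonoid.powers f : Set T) (q : Set T) :=
    (Ideal.disjoint_powers_iff_notMem_of_isPrime _).mpr hfq
  haveI : (q.map (algebraMap T (Localization.Away f))).IsPrime :=
    IsLocalization.isPrime_of_isPrime_disjoint (Submonoid.powers f) _ _ ‹_› hdisj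
  have hcm : (q.map (algebraMap T (Localization.Away f))).comap
      (algebraMap T (Localization.Away f)) = q :=
    IsLocalization.comap_map_of_isPrime_disjoint (Submonoid.powers f) _ ‹_› hdisj
  have h' : m'.under R = (q.map (algebraMap T (Localization.Away f))).under R := by
    rw [hm, ← hq]
    conv_lhs => rw [← hcm]
    rw [Ideal.under_def, Ideal.under_def, Ideal.comap_comap, ← IsScalarTower.algebraMap_eq]
  obtain ⟨g', hg', φ, hφ⟩ := H (q.map (algebraMap T (Localization.Away f))) m' h'
  -- from `S'_{g'}` to `S'_{m'}`
  let γ : Localization.Away g' →ₐ[R] Localization.AtPrime m' :=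
    IsLocalization.liftAlgHom (M := Submonoid.powers g')
      (f := IsScalarTower.toAlgHom R S' (Localization.AtPrime m')) (by
      rintro ⟨_, n, rfl⟩
      have : IsUnit (algebraMap S' (Localization.AtPrime m') g') :=
        IsLocalization.map_units (M := m'.primeCompl) (Localization.AtPrime m') ⟨g', hg'⟩
      simpa using this.pow n)
  have hγ : ∀ s : S', γ (algebraMap S' (Localization.Away g') s) =
      algebraMap S' (Localization.AtPrime m') s := fun s => IsLocalization.lift_eq _ s
  let θ : T →ₐ[R] Localization.AtPrime m' :=
    (γ.comp φ).comp (IsScalarTower.toAlgHom R T (Localization.Away f))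
  -- the pullback of the maximal ideal along `γ` is `m' S'_{g'}`
  have hJ : (IsLocalRing.maximalIdeal (Localization.AtPrime m')).comap γ.toRingHom =
      m'.map (algebraMap S' (Localization.Away g')) := by
    rw [← IsLocalization.map_comap (Submonoid.powers g') (Localization.Away g')
      ((IsLocalRing.maximalIdeal (Localization.AtPrime m')).comap γ.toRingHom)]
    congr 1
    have hcmm := IsLocalization.AtPrime.comap_maximalIdeal (Localization.AtPrime m') m'
    ext s
    rw [Ideal.mem_comap, Ideal.mem_comap]
    change γ (algebraMap S' (Localization.Away g') s) ∈ _ ↔ _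
    rw [hγ]
    conv_rhs => rw [← hcmm]
    rfl
  have hunits : ∀ y : q.primeCompl, IsUnit (θ y) := by
    rintro ⟨t, ht⟩
    by_contra hnu
    have hmem : θ t ∈ IsLocalRing.maximalIdeal (Localization.AtPrime m') :=
      (IsLocalRing.mem_maximalIdeal _).mpr hnu
    have h2 : φ (algebraMap T (Localization.Away f) t) ∈
        m'.map (algebraMap S' (Localization.Away g')) := by
      rw [← hJ]
      exact hmem
    have h3 : algebraMap T (Localization.Away f) t ∈
        q.map (algebraMap T (Localization.Away f)) := by
      rw [← hφ]
      exact h2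
    have h4 : t ∈ q := by
      rw [← hcm]
      exact h3
    exact ht h4
  exact ⟨IsLocalization.liftAlgHom (M := q.primeCompl) (f := θ) hunits⟩

end Groth.Agent.S9434
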