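import Groth.Statements.S9436
import Mathlib
-- import your own Groth.Agent.* helpers here

set_option autoImplicit false
universe u
open CAlg

namespace Groth.Agent.S9436

open TensorProduct in
/-- Étale algebras lift along surjections: for an ideal I of R and an étale (R/I)-algebra S̄ there is an
étale R-algebra S with (R/I) ⊗_R S ≅ S̄ over R/I. -/
theorem result (R : Type u) [CommRing R] (I : Ideal R) (Sb : Type u)
    [CommRing Sb] [Algebra (R ⧸ I) Sb] [Algebra.Etale (R ⧸ I) Sb] :
    ∃ (S : Type u) (_ : CommRing S) (_ : Algebra R S), Algebra.Etale R S ∧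
      Nonempty (((R ⧸ I) ⊗[R] S) ≃ₐ[R ⧸ I] Sb) := by
  classical
  obtain ⟨ι, σ, hσ, hι, P, hP⟩ :=
    (Algebra.Etale.iff_isStandardSmoothOfRelativeDimension_zero.mp
      (inferInstance : Algebra.Etale (R ⧸ I) Sb)).out
  letI : Algebra R Sb := Algebra.compHom Sb (algebraMap R (R ⧸ I))
  haveI : IsScalarTower R (R ⧸ I) Sb := IsScalarTower.of_algebraMap_eq (fun _ => rfl)
  haveI hc : P.HasCoeffs R := ⟨fun x _ => Ideal.Quotient.mk_surjective x⟩
  let M := P.toPresentation.ModelOfHasCoeffs R
  let P₀ : Algebra.PreSubmersivePresentation R M ι σ := P.toPreSubmersivePresentation.ofHasCoeffs R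
  let e : (R ⧸ I) ⊗[R] M ≃ₐ[R ⧸ I] Sb := P.toPresentation.tensorModelOfHasCoeffsEquiv R
  let Δ : M := P₀.jacobian
  have hΔ : e (1 ⊗ₜ Δ) = P.jacobian := by
    have h1 : Δ = Ideal.Quotient.mk _ (P.jacobianOfHasCoeffs R) := by
      change P₀.jacobian = _
      letI := Fintype.ofFinite σ
      rw [Algebra.PreSubmersivePresentation.jacobian_eq_jacobiMatrix_det]
      unfold Algebra.SubmersivePresentation.jacobianOfHasCoeffs
      rfl
    rw [h1]
    have h2 := Algebra.Presentation.tensorModelOfHasCoeffsEquiv_tmul (P := P.toPresentation) R (1 : R ⧸ I)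
      (P.jacobianOfHasCoeffs R)
    exact h2.trans (by rw [map_one, one_mul, Algebra.SubmersivePresentation.aeval_jacobianOfHasCoeffs])
  obtain ⟨M', _, _, P₀', e', hΔ'⟩ : ∃ (M' : Type u) (_ : CommRing M') (_ : Algebra R M')
      (P₀' : Algebra.PreSubmersivePresentation R M' ι σ) (e' : (R ⧸ I) ⊗[R] M' ≃ₐ[R ⧸ I] Sb),
      e' (1 ⊗ₜ P₀'.jacobian) = P.jacobian := ⟨M, inferInstance, inferInstance, P₀, e, hΔ⟩

  clear hΔ
  let Δ' : M' := P₀'.jacobian
  let T := Localization.Away Δ'
  let Q : Algebra.PreSubmersivePresentation M' T Unit Unit :=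
    Algebra.PreSubmersivePresentation.localizationAway T Δ'
  let QP : Algebra.PreSubmersivePresentation R T (Unit ⊕ ι) (Unit ⊕ σ) := Q.comp P₀'
  have hjac : IsUnit QP.jacobian := by
    rw [Algebra.PreSubmersivePresentation.comp_jacobian_eq_jacobian_smul_jacobian,
      Algebra.PreSubmersivePresentation.localizationAway_jacobian, Algebra.smul_def]
    exact (IsLocalization.Away.algebraMap_isUnit Δ').mul (IsLocalization.Away.algebraMap_isUnit Δ')
  let SP : Algebra.SubmersivePresentation R T (Unit ⊕ ι) (Unit ⊕ σ) :=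
    { QP with jacobian_isUnit := hjac }
  have hdim : SP.dimension = 0 := by
    change (Q.comp P₀').dimension = 0
    rw [Algebra.PreSubmersivePresentation.dimension_comp_eq_dimension_add_dimension]
    have h1 : P₀'.dimension = 0 := hP
    have h2 : Q.dimension = 0 := by simp [Algebra.Presentation.dimension]
    rw [h1, h2]
  have hst : Algebra.IsStandardSmoothOfRelativeDimension 0 R T :=
    SP.isStandardSmoothOfRelativeDimension hdim
  have hEt : Algebra.Etale R T := inferInstance
  refine ⟨T, inferInstance, inferInstance, hEt, ?_⟩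
  letI alg : Algebra ((R ⧸ I) ⊗[R] M') Sb := e'.toAlgHom.toRingHom.toAlgebra
  haveI : IsScalarTower (R ⧸ I) ((R ⧸ I) ⊗[R] M') Sb := by
    refine ⟨fun x y z => ?_⟩
    change e' (x • y) * z = x • (e' y * z)
    rw [map_smul, smul_mul_assoc]
  have hbij : Function.Bijective (@algebraMap ((R ⧸ I) ⊗[R] M') Sb _ _ alg) := e'.bijective
  have hunit : IsUnit ((1 : R ⧸ I) ⊗ₜ[R] Δ') := by
    have h1 : IsUnit (e' (1 ⊗ₜ Δ')) := by rw [hΔ']; exact P.jacobian_isUnit
    have := h1.map e'.symm
    rwa [AlgEquiv.symm_apply_apply] at this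
  haveI : IsLocalization ((Submonoid.powers Δ').map
      (Algebra.TensorProduct.includeRight (R := R) (A := R ⧸ I))) Sb := by
    rw [Submonoid.map_powers]
    exact IsLocalization.away_of_isUnit_of_bijective Sb hunit hbij
  exact ⟨IsLocalization.tensorProductEquivOfMapIncludeRight R (R ⧸ I) (Submonoid.powers Δ') T Sb⟩

end Groth.Agent.S9436
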