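import Groth.Statements.S9437
import Groth.Agent.Lib.helper9.FlatDepth2

set_option autoImplicit false
universe u
open CAlg

namespace Groth.Agent.S9437

/-- Serre's condition (S_k) descends along faithfully flat ring maps: if S is faithfully flat over R,
Noetherian and (S_k), then R is Noetherian and (S_k). -/
theorem result (k : ℕ) (R : Type u) [CommRing R] (S : Type u) [CommRing S]
    [Algebra R S] [Module.FaithfullyFlat R S] [IsNoetherianRing S] (hS : LocCoh.HasSk k S S) :
    IsNoetherianRing R ∧ LocCoh.HasSk k R R := by
  have hN : IsNoetherianRing R := by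
    apply Submodule.IsNoetherian.of_isNoetherian_tensorProduct_of_faithfullyFlat (A := S)
    exact isNoetherian_of_linearEquiv
      (TensorProduct.AlgebraTensorModule.rid R S S).symm
  refine ⟨hN, ?_⟩
  intro p hp
  -- choose a prime of `S` over `p`, then a minimal prime over `pS` below it
  obtain ⟨q', hq', hq'p⟩ := Ideal.exists_isPrime_liesOver_of_faithfullyFlat (B := S) p
  have hle : p.map (algebraMap R S) ≤ q' := by
    rw [Ideal.map_le_iff_le_comap, ← Ideal.under_def, ← hq'p.over]
  obtain ⟨q, hq, hqq'⟩ := Ideal.exists_minimalPrimes_le hle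
  haveI hqprime : q.IsPrime := hq.1.1
  have hunder : q.under R = p := by
    apply le_antisymm
    · have := Ideal.comap_mono (f := algebraMap R S) hqq'
      rw [← Ideal.under_def, ← Ideal.under_def, ← hq'p.over] at this
      exact this
    · rw [Ideal.under_def, ← Ideal.map_le_iff_le_comap]
      exact hq.1.2
  subst hunder
  have hS := hS q
  rw [Groth.Agent.Lib.helper9.Depth.depth_localizedModule_self,
    Module.supportDim_eq_of_equiv (Groth.Agent.Lib.helper9.Depth.localizedModuleSelfEquiv q),
    Groth.Agent.Lib.helper9.Depth.supportDim_self_localization] at hS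
  rw [Groth.Agent.Lib.helper9.Depth.depth_localizedModule_self,
    Module.supportDim_eq_of_equiv
      (Groth.Agent.Lib.helper9.Depth.localizedModuleSelfEquiv (q.under R)),
    Groth.Agent.Lib.helper9.Depth.supportDim_self_localization]
  rw [← Groth.Agent.Lib.helper9.FlatDepth.height_eq_of_flat_minimal q hq,
    ← Groth.Agent.Lib.helper9.FlatDepth.depth_eq_of_flat_minimal q hq]
  exact hS

end Groth.Agent.S9437
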