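import Groth.Statements.S9444
import Mathlib
import Groth.Agent.Lib.helper14.CohenSmooth
import Groth.Agent.S9443


set_option autoImplicit false
universe u
open CAlg

namespace H14S9444

open IsLocalRing

/-- a copy of the residue field -/
def KF (R : Type u) [CommRing R] [IsLocalRing R] : Type u := ResidueField R

noncomputable instance (R : Type u) [CommRing R] [IsLocalRing R] : Field (KF R) :=
  inferInstanceAs (Field (ResidueField R))

/-- existence of a coefficient field in a complete local ring containing a field -/
theorem exists_section (R : Type u) [CommRing R] [IsLocalRing R]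
    [IsAdicComplete (maximalIdeal R) R] (k₀ : Type u) [Field k₀] [Algebra k₀ R] :
    ∃ σ : ResidueField R →+* R, ∀ x, residue R (σ x) = x := by
  classical
  obtain ⟨p, hp⟩ := CharP.exists k₀
  rcases CharP.char_is_prime_or_zero k₀ p with hprime | h0
  · -- characteristic `p`
    haveI : Fact p.Prime := ⟨hprime⟩
    let φ : ULift.{u} (ZMod p) →+* k₀ :=
      (ZMod.castHom (dvd_refl p) k₀).comp (ULift.ringEquiv : ULift.{u} (ZMod p) ≃+* ZMod p).toRingHom
    letI : Algebra (ULift.{u} (ZMod p)) R := ((algebraMap k₀ R).comp φ).toAlgebra
    haveI : Algebra.FormallySmooth (ULift.{u} (ZMod p)) (ResidueField R) :=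
      H14.CohenSmooth.formallySmooth_of_perfectField p
    let f : ResidueField R →ₐ[ULift.{u} (ZMod p)] R ⧸ maximalIdeal R := AlgHom.id _ _
    obtain ⟨g, hg⟩ := Algebra.FormallySmooth.exists_mkₐ_comp_eq_of_isAdicComplete f
    refine ⟨g.toRingHom, fun x => ?_⟩
    exact congrArg (fun ψ => ψ x) hg
  · -- characteristic zero
    subst h0
    haveI : CharZero k₀ := CharP.charP_to_charZero k₀
    letI : Algebra ℚ R := ((algebraMap k₀ R).comp (algebraMap ℚ k₀)).toAlgebra
    haveI : CharZero (ResidueField R) :=
      charZero_of_injective_ringHom (f := algebraMap ℚ (ResidueField R)) (RingHom.injective _)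
    haveI : Algebra.FormallySmooth ℚ (ResidueField R) := by
      obtain ⟨s, hs⟩ := exists_isTranscendenceBasis ℚ (ResidueField R)
      haveI : Algebra.IsAlgebraic
          (IntermediateField.adjoin ℚ (Set.range ((↑) : s → ResidueField R))) (ResidueField R) := by
        have := hs.isAlgebraic_field
        convert this using 2
      exact Algebra.FormallySmooth.of_algebraicIndependent_of_isSeparable hs.1
    let f : ResidueField R →ₐ[ℚ] R ⧸ maximalIdeal R :=
      { RingHom.id (ResidueField R) with
        commutes' := fun r => RingHom.congr_fun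
          (Subsingleton.elim ((RingHom.id (ResidueField R)).comp (algebraMap ℚ (ResidueField R)))
            (algebraMap ℚ (R ⧸ maximalIdeal R))) r }
    obtain ⟨g, hg⟩ := Algebra.FormallySmooth.exists_mkₐ_comp_eq_of_isAdicComplete f
    refine ⟨g.toRingHom, fun x => ?_⟩
    exact congrArg (fun ψ => ψ x) hg

theorem main (R : Type u)
    [CommRing R] [IsRegularLocalRing R] [IsAdicComplete (IsLocalRing.maximalIdeal R) R]
    (k₀ : Type u) [Field k₀] [Algebra k₀ R] :
    ∃ d : ℕ, Nonempty (R ≃+* MvPowerSeries (Fin d) (IsLocalRing.ResidueField R)) := by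
  classical
  obtain ⟨σ, hσ⟩ := exists_section R k₀
  let σ' : KF R →+* R := σ
  letI : Algebra (KF R) R := σ'.toAlgebra
  have hk : Function.Bijective (algebraMap (KF R) (IsLocalRing.ResidueField R)) := by
    have h1 : ∀ x : KF R, algebraMap (KF R) (IsLocalRing.ResidueField R) x = x := fun x => hσ x
    constructor
    · intro x y hxy
      rw [h1, h1] at hxy
      exact hxy
    · intro y
      exact ⟨y, h1 y⟩
  obtain ⟨d, ⟨e⟩⟩ := Groth.Agent.S9443.result R (KF R) hk
  exact ⟨d, ⟨e.toRingEquiv⟩⟩

end H14S9444

namespace Groth.Agent.S9444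

/-- A complete regular local ring containing a field (that is, containing the prime field F_p or ℚ) is
isomorphic to a power series ring in finitely many variables over its residue field (existence of an
isomorphism only). -/
theorem result (R : Type u)
    [CommRing R] [IsRegularLocalRing R] [IsAdicComplete (IsLocalRing.maximalIdeal R) R]
    (k₀ : Type u) [Field k₀] [Algebra k₀ R] :
    ∃ d : ℕ, Nonempty (R ≃+* MvPowerSeries (Fin d) (IsLocalRing.ResidueField R)) := by
  exact H14S9444.main R k₀

end Groth.Agent.S9444
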