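import Groth.Statements.S9446
import Mathlib

set_option autoImplicit false
universe u
open CAlg

namespace Groth.Agent.S9446

open TensorProduct

section

variable {R : Type u} [CommRing R] {S : Type u} [CommRing S] [Algebra R S]

/-- ind-smooth algebras are flat (equational criterion) -/
theorem flat_of_indSmooth (hS : Smoothing.IndSmooth R S) : Module.Flat R S := by
  apply Module.Flat.of_forall_isTrivialRelation
  intro l f x hfx
  let rel : MvPolynomial (Fin l) R := ∑ i, MvPolynomial.C (f i) * MvPolynomial.X i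
  let J : Ideal (MvPolynomial (Fin l) R) := Ideal.span {rel}
  have hfp : Algebra.FinitePresentation R (MvPolynomial (Fin l) R ⧸ J) :=
    Algebra.FinitePresentation.quotient (Submodule.fg_span_singleton _)
  let ψ : MvPolynomial (Fin l) R →ₐ[R] S := MvPolynomial.aeval x
  have hrel : ψ rel = 0 := by
    simp only [ψ, rel, map_sum, map_mul, MvPolynomial.aeval_C, MvPolynomial.aeval_X]
    rw [← hfx]
    exact Finset.sum_congr rfl fun i _ => (Algebra.smul_def _ _).symm
  have hψ : ∀ a ∈ J, ψ a = 0 := by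
    intro a ha
    have : J ≤ RingHom.ker ψ.toRingHom := by
      rw [Ideal.span_le]
      rintro _ rfl
      exact hrel
    exact this ha
  let φ : (MvPolynomial (Fin l) R ⧸ J) →ₐ[R] S := Ideal.Quotient.liftₐ J ψ hψ
  obtain ⟨C, instC, instAlg, hsm, g, h, hgh⟩ := hS _ hfp φ
  haveI : Algebra.Smooth R C := hsm
  haveI : Module.Flat R C := inferInstance
  let c : Fin l → C := fun i => g (Ideal.Quotient.mk J (MvPolynomial.X i))
  have hc : ∑ i, f i • c i = 0 := by
    have h0 : g (Ideal.Quotient.mk J rel) = 0 := by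
      have hmem : rel ∈ J := Ideal.subset_span rfl
      rw [(Ideal.Quotient.eq_zero_iff_mem).mpr hmem, map_zero]
    rw [← h0]
    simp only [rel, map_sum, map_mul, c]
    refine Finset.sum_congr rfl fun i _ => ?_
    rw [Algebra.smul_def]
    congr 1
    have : Ideal.Quotient.mk J (MvPolynomial.C (f i)) =
        algebraMap R (MvPolynomial (Fin l) R ⧸ J) (f i) := rfl
    rw [this, AlgHom.commutes]
  obtain ⟨k, a, y, hy1, hy2⟩ :=
    Module.Flat.isTrivialRelation_of_sum_smul_eq_zero (R := R) (M := C) (f := f) (x := c) hc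
  refine ⟨k, a, fun j => h (y j), ?_, hy2⟩
  intro i
  have e1 : x i = φ (Ideal.Quotient.mk J (MvPolynomial.X i)) := by
    simp [φ, ψ]
  rw [e1, ← hgh]
  change h (c i) = _
  rw [hy1 i, map_sum]
  exact Finset.sum_congr rfl fun j _ => by rw [map_smul]


variable {B : Type u} [CommRing B] [Algebra R B]

/-- descending the vanishing of an element of `P ⊗ B` in `S ⊗ B` to a finitely presented algebra -/
theorem exists_fp_factor {σ : Type} [Finite σ] (hflat : Module.Flat R S)
    (φ₀ : MvPolynomial σ R →ₐ[R] S) (e : MvPolynomial σ R ⊗[R] B)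
    (he : Algebra.TensorProduct.map φ₀ (AlgHom.id R B) e = 0) :
    ∃ (A : Type u) (_ : CommRing A) (_ : Algebra R A), Algebra.FinitePresentation R A ∧
      ∃ (ρ : MvPolynomial σ R →ₐ[R] A) (φ : A →ₐ[R] S), φ.comp ρ = φ₀ ∧
        Algebra.TensorProduct.map ρ (AlgHom.id R B) e = 0 := by
  classical
  obtain ⟨K, c, β, rfl⟩ := TensorProduct.exists_sum_tmul_eq e
  simp only [map_sum, Algebra.TensorProduct.map_tmul, AlgHom.id_apply] at he
  have he' : ∑ k, β k ⊗ₜ[R] φ₀ (c k) = 0 := by
    have := congrArg (TensorProduct.comm R S B) he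
    simpa using this
  have hinj : Function.Injective
      (LinearMap.rTensor S (Submodule.span R (Set.range β)).subtype) :=
    Module.Flat.rTensor_preserves_injective_linearMap _ (Submodule.injective_subtype _)
  obtain ⟨L, a, y, hy1, hy2⟩ :=
    TensorProduct.vanishesTrivially_of_sum_tmul_eq_zero_of_rTensor_injective R hinj he'
  let ι : MvPolynomial σ R →ₐ[R] MvPolynomial (σ ⊕ Fin L) R := MvPolynomial.rename Sum.inl
  let r : Fin K → MvPolynomial (σ ⊕ Fin L) R := fun k =>
    ι (c k) - ∑ l, MvPolynomial.C (a k l) * MvPolynomial.X (Sum.inr l)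
  let J : Ideal (MvPolynomial (σ ⊕ Fin L) R) := Ideal.span (Set.range r)
  have hfp : Algebra.FinitePresentation R (MvPolynomial (σ ⊕ Fin L) R ⧸ J) :=
    Algebra.FinitePresentation.quotient (Submodule.fg_span (Set.finite_range r))
  let φ₁ : MvPolynomial (σ ⊕ Fin L) R →ₐ[R] S :=
    MvPolynomial.aeval (Sum.elim (fun i => φ₀ (MvPolynomial.X i)) y)
  have hφ₁ι : φ₁.comp ι = φ₀ := by
    apply MvPolynomial.algHom_ext
    intro i
    simp [φ₁, ι]
  have hφ₁r : ∀ k, φ₁ (r k) = 0 := by
    intro k
    have h1 : φ₁ (ι (c k)) = φ₀ (c k) := by rw [← hφ₁ι]; rfl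
    simp only [r, map_sub, map_sum, map_mul, h1, hy1 k]
    rw [sub_eq_zero]
    refine Finset.sum_congr rfl fun l _ => ?_
    simp [φ₁, Algebra.smul_def]
  have hφ₁J : ∀ x ∈ J, φ₁ x = 0 := by
    intro x hx
    have : J ≤ RingHom.ker φ₁.toRingHom := by
      rw [Ideal.span_le]
      rintro _ ⟨k, rfl⟩
      exact hφ₁r k
    exact this hx
  let φ : (MvPolynomial (σ ⊕ Fin L) R ⧸ J) →ₐ[R] S := Ideal.Quotient.liftₐ J φ₁ hφ₁J
  let ρ : MvPolynomial σ R →ₐ[R] (MvPolynomial (σ ⊕ Fin L) R ⧸ J) :=
    (Ideal.Quotient.mkₐ R J).comp ι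
  refine ⟨_, inferInstance, inferInstance, hfp, ρ, φ, ?_, ?_⟩
  · apply MvPolynomial.algHom_ext
    intro i
    simp [φ, ρ, φ₁, ι]
  · simp only [map_sum, Algebra.TensorProduct.map_tmul, AlgHom.id_apply]
    have hρ : ∀ k, ρ (c k) = ∑ l, a k l • Ideal.Quotient.mk J (MvPolynomial.X (Sum.inr l)) := by
      intro k
      have hmem : r k ∈ J := Ideal.subset_span ⟨k, rfl⟩
      have h0 := (Ideal.Quotient.eq_zero_iff_mem).mpr hmem
      simp only [r, map_sub, sub_eq_zero] at h0
      change Ideal.Quotient.mk J (ι (c k)) = _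
      rw [h0, map_sum]
      refine Finset.sum_congr rfl fun l _ => ?_
      rw [map_mul]
      exact (Algebra.smul_def (a k l) (Ideal.Quotient.mk J (MvPolynomial.X (Sum.inr l)))).symm
    have hvt : TensorProduct.VanishesTrivially R β (fun k => ρ (c k)) :=
      ⟨L, a, fun l => Ideal.Quotient.mk J (MvPolynomial.X (Sum.inr l)), hρ, hy2⟩
    have h0 := TensorProduct.sum_tmul_eq_zero_of_vanishesTrivially R hvt
    have := congrArg (TensorProduct.comm R B _) h0
    simpa using this

/-- integral elements over finitely presented algebras mapping to `S` descend. -/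
theorem mem_range_of_fp (hS : Smoothing.IndSmooth R S) (A : Type u) [CommRing A] [Algebra R A]
    (hfp : Algebra.FinitePresentation R A) (φ : A →ₐ[R] S) (zA : A ⊗[R] B)
    (hzA : IsIntegral A zA) :
    ∃ w : S ⊗[R] integralClosure R B,
      Algebra.TensorProduct.map (AlgHom.id S S) (integralClosure R B).val w =
        Algebra.TensorProduct.map φ (AlgHom.id R B) zA := by
  obtain ⟨C, instC, instAlg, hsm, g, h, hgh⟩ := hS A hfp φ
  haveI : Algebra.Smooth R C := hsm
  have hzC : IsIntegral C (Algebra.TensorProduct.map g (AlgHom.id R B) zA) := by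
    refine IsIntegral.map_of_comp_eq g.toRingHom
      (Algebra.TensorProduct.map g (AlgHom.id R B)).toRingHom ?_ hzA
    apply RingHom.ext
    intro x
    simp [Algebra.TensorProduct.algebraMap_apply]
  obtain ⟨w', hw'⟩ := (TensorProduct.toIntegralClosure_bijective_of_smooth (R := R) (S := C)
    (B := B)).2 ⟨_, hzC⟩
  have hw'' : Algebra.TensorProduct.map (AlgHom.id C C) (integralClosure R B).val w' =
      Algebra.TensorProduct.map g (AlgHom.id R B) zA := congrArg Subtype.val hw'
  have key : ∀ w' : C ⊗[R] integralClosure R B,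
      Algebra.TensorProduct.map (AlgHom.id S S) (integralClosure R B).val
        (Algebra.TensorProduct.map h (AlgHom.id R _) w') =
      Algebra.TensorProduct.map h (AlgHom.id R B)
        (Algebra.TensorProduct.map (AlgHom.id C C) (integralClosure R B).val w') := by
    intro w'
    induction w' using TensorProduct.induction_on with
    | zero => simp
    | tmul c x => simp
    | add x y hx hy => simp only [map_add, hx, hy]
  refine ⟨Algebra.TensorProduct.map h (AlgHom.id R _) w', ?_⟩
  rw [key, hw'', ← hgh]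
  have : ∀ t : A ⊗[R] B, Algebra.TensorProduct.map h (AlgHom.id R B)
      (Algebra.TensorProduct.map g (AlgHom.id R B) t) =
      Algebra.TensorProduct.map (h.comp g) (AlgHom.id R B) t := by
    intro t
    induction t using TensorProduct.induction_on with
    | zero => simp
    | tmul c x => simp
    | add x y hx hy => simp only [map_add, hx, hy]
  exact this zA

end

/-- If S is ind-smooth over R (every R-algebra map into S from a finitely presented R-algebra factors
through a smooth R-algebra) then for every R-algebra B the canonical map S ⊗_R A → A', from the base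
change of the integral closure A of R in B to the integral closure A' of S in S ⊗_R B, is bijective. -/
theorem result (R : Type u) [CommRing R] (S : Type u)
    [CommRing S] [Algebra R S] (hS : Smoothing.IndSmooth R S) (B : Type u) [CommRing B]
    [Algebra R B] : Function.Bijective (TensorProduct.toIntegralClosure R S B) := by
  classical
  haveI hflat : Module.Flat R S := flat_of_indSmooth hS
  refine ⟨TensorProduct.toIntegralClosure_injective_of_flat, ?_⟩
  rintro ⟨z, hz⟩
  obtain ⟨p, hpm, hp⟩ := hz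
  obtain ⟨m, s, b, rfl⟩ := TensorProduct.exists_sum_tmul_eq z
  let v : (Fin m ⊕ Fin p.natDegree) → S := Sum.elim s (fun i => p.coeff i)
  let φ₀ : MvPolynomial (Fin m ⊕ Fin p.natDegree) R →ₐ[R] S := MvPolynomial.aeval v
  let z₀ : MvPolynomial (Fin m ⊕ Fin p.natDegree) R ⊗[R] B :=
    ∑ j, MvPolynomial.X (Sum.inl j) ⊗ₜ b j
  let q₀ : Polynomial (MvPolynomial (Fin m ⊕ Fin p.natDegree) R) :=
    ∑ i : Fin p.natDegree, Polynomial.C (MvPolynomial.X (Sum.inr i)) * Polynomial.X ^ (i : ℕ)
  let p₀ : Polynomial (MvPolynomial (Fin m ⊕ Fin p.natDegree) R) :=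
    Polynomial.X ^ p.natDegree + q₀
  have hq₀ : q₀.degree < p.natDegree := by
    refine (Polynomial.degree_sum_le _ _).trans_lt ?_
    rw [Finset.sup_lt_iff (by exact WithBot.bot_lt_coe _)]
    intro i _
    refine (Polynomial.degree_C_mul_X_pow_le _ _).trans_lt ?_
    exact_mod_cast i.2
  have hp₀m : p₀.Monic := Polynomial.monic_X_pow_add hq₀
  have hp₀ : p₀.map φ₀.toRingHom = p := by
    conv_rhs => rw [hpm.as_sum]
    simp only [p₀, q₀, Polynomial.map_add, Polynomial.map_pow, Polynomial.map_X,
      Polynomial.map_sum, Polynomial.map_mul, Polynomial.map_C]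
    congr 1
    rw [Finset.sum_range]
    refine Finset.sum_congr rfl fun i _ => ?_
    simp [φ₀, v]
  let e₀ := Polynomial.eval₂ (algebraMap _ (MvPolynomial (Fin m ⊕ Fin p.natDegree) R ⊗[R] B)) z₀ p₀
  have hcomp : ∀ {A₁ A₂ : Type u} [CommRing A₁] [CommRing A₂] [Algebra R A₁] [Algebra R A₂]
      (f : A₁ →ₐ[R] A₂),
      (Algebra.TensorProduct.map f (AlgHom.id R B)).toRingHom.comp (algebraMap A₁ (A₁ ⊗[R] B)) =
        (algebraMap A₂ (A₂ ⊗[R] B)).comp f.toRingHom := by
    intro A₁ A₂ _ _ _ _ f
    apply RingHom.ext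
    intro x
    simp [Algebra.TensorProduct.algebraMap_apply]
  have hz₀ : Algebra.TensorProduct.map φ₀ (AlgHom.id R B) z₀ = ∑ j, s j ⊗ₜ[R] b j := by
    simp [z₀, φ₀, v]
  have he₀ : Algebra.TensorProduct.map φ₀ (AlgHom.id R B) e₀ = 0 := by
    change (Algebra.TensorProduct.map φ₀ (AlgHom.id R B)).toRingHom e₀ = 0
    rw [Polynomial.hom_eval₂, hcomp, ← Polynomial.eval₂_map, hp₀]
    change Polynomial.eval₂ _ (Algebra.TensorProduct.map φ₀ (AlgHom.id R B) z₀) p = 0
    rw [hz₀]
    exact hp
  obtain ⟨A, instA, instAlgA, hfp, ρ, φ, hφρ, hvan⟩ := exists_fp_factor hflat φ₀ e₀ he₀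
  have hzA : IsIntegral A (Algebra.TensorProduct.map ρ (AlgHom.id R B) z₀) := by
    refine ⟨p₀.map ρ.toRingHom, hp₀m.map _, ?_⟩
    have h1 := hvan
    change (Algebra.TensorProduct.map ρ (AlgHom.id R B)).toRingHom e₀ = 0 at h1
    rw [Polynomial.hom_eval₂, hcomp, ← Polynomial.eval₂_map] at h1
    exact h1
  obtain ⟨w, hw⟩ := mem_range_of_fp hS A hfp φ _ hzA
  refine ⟨w, Subtype.ext ?_⟩
  change Algebra.TensorProduct.map (AlgHom.id S S) (integralClosure R B).val w =
    ∑ j, s j ⊗ₜ[R] b j
  rw [hw, ← hz₀, ← hφρ]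
  have : ∀ t : MvPolynomial (Fin m ⊕ Fin p.natDegree) R ⊗[R] B,
      Algebra.TensorProduct.map φ (AlgHom.id R B)
      (Algebra.TensorProduct.map ρ (AlgHom.id R B) t) =
      Algebra.TensorProduct.map (φ.comp ρ) (AlgHom.id R B) t := by
    intro t
    induction t using TensorProduct.induction_on with
    | zero => simp
    | tmul c x => simp
    | add x y hx hy => simp only [map_add, hx, hy]
  exact this z₀

end Groth.Agent.S9446
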