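import Groth.Statements.S9449
import Mathlib
import Groth.Agent.Lib.helper3.UnramSplit2
-- import your own Groth.Agent.* helpers here

set_option autoImplicit false
universe u
open Unram

namespace Groth.Agent.S9449

open TensorProduct in
/-- For an unramified ring map R → S and a prime p of R there exist an étale R-algebra R', a prime p' of
R' lying over p and a decomposition R' ⊗_R S ≅ A_1 × ⋯ × A_n × B of R'-algebras with every R' → A_i
surjective, p'A_i a prime ideal of A_i whose preimage in R' is p', and no prime of B lying over p'. -/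
theorem result (R : Type u) [CommRing R]
    (S : Type u) [CommRing S] [Algebra R S] [Algebra.Unramified R S] (p : Ideal R) [p.IsPrime] :
    ∃ (R' : Type u) (_ : CommRing R') (_ : Algebra R R') (_ : Algebra.Etale R R') (p' : Ideal R')
      (_ : p'.IsPrime) (_ : p'.LiesOver p) (n : ℕ) (A : Fin n → Type u) (_ : ∀ i, CommRing (A i))
      (_ : ∀ i, Algebra R' (A i)) (B : Type u) (_ : CommRing B) (_ : Algebra R' B),
      Nonempty ((R' ⊗[R] S) ≃ₐ[R'] ((∀ i, A i) × B)) ∧
        (∀ i, Function.Surjective (algebraMap R' (A i)) ∧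
          (p'.map (algebraMap R' (A i))).IsPrime ∧
          (p'.map (algebraMap R' (A i))).comap (algebraMap R' (A i)) = p') ∧
        ∀ (q : Ideal B) [q.IsPrime], q.comap (algebraMap R' B) ≠ p' := by
  classical
  obtain ⟨R', i1, i2, i3, p', i4, i5, ι, i6, K, B, i7, i8, ⟨e⟩, hK, hB⟩ :=
    Groth.Agent.Lib.helper3.UnramSplit2.conc_main _ R S p rfl
  let eqv := Fintype.equivFin ι
  let c : (∀ i, R' ⧸ K i) ≃ₐ[R'] (∀ j : Fin (Fintype.card ι), R' ⧸ K (eqv.symm j)) :=
    AlgEquiv.piCongrLeft' R' (fun i => R' ⧸ K i) eqv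
  refine ⟨R', i1, i2, i3, p', i4, i5, Fintype.card ι, fun j => R' ⧸ K (eqv.symm j),
    fun j => inferInstance, fun j => inferInstance, B, i7, i8,
    ⟨e.trans (AlgEquiv.prodCongr c AlgEquiv.refl)⟩, ?_, fun q hq => hB q⟩
  intro j
  have hker : RingHom.ker (algebraMap R' (R' ⧸ K (eqv.symm j))) ≤ p' := by
    rw [Ideal.Quotient.algebraMap_eq, Ideal.mk_ker]
    exact hK _
  have hsurj : Function.Surjective (algebraMap R' (R' ⧸ K (eqv.symm j))) :=
    Ideal.Quotient.mk_surjective
  refine ⟨hsurj, ?_, ?_⟩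
  · exact Ideal.map_isPrime_of_surjective hsurj hker
  · show Ideal.comap (algebraMap R' (R' ⧸ K (eqv.symm j)))
      (Ideal.map (algebraMap R' (R' ⧸ K (eqv.symm j))) p') = p'
    rw [Ideal.comap_map_of_surjective _ hsurj, ← RingHom.ker_eq_comap_bot]
    exact sup_eq_left.mpr hker

end Groth.Agent.S9449
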