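import Groth.Statements.S9450
import Groth.Agent.Lib.helper14.Conormal

set_option autoImplicit false
universe u
open CAlg

namespace H14

open Algebra in
theorem exists_retraction_mapCotangent (A : Type u) [CommRing A]
    (B : Type u) [CommRing B] [Algebra A B] [Algebra.FormallySmooth A B] (C : Type u) [CommRing C]
    [Algebra B C] [Algebra A C] [IsScalarTower A B C] (hC : Function.Surjective (algebraMap A C))
    (h : RingHom.ker (algebraMap A C) ≤ (RingHom.ker (algebraMap B C)).comap (Algebra.ofId A B)) :
    ∃ r : (RingHom.ker (algebraMap B C)).Cotangent →ₗ[A] (RingHom.ker (algebraMap A C)).Cotangent,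
        r ∘ₗ (Ideal.mapCotangent (RingHom.ker (algebraMap A C)) (RingHom.ker (algebraMap B C))
          (Algebra.ofId A B) h) = LinearMap.id := by
  set I := RingHom.ker (algebraMap A C) with hI
  set J := RingHom.ker (algebraMap B C) with hJ
  let g : (A ⧸ I ^ 2) →ₐ[A] C := (Algebra.ofId A C).kerSquareLift
  have hg : Function.Surjective g := by
    intro c
    obtain ⟨a, rfl⟩ := hC c
    exact ⟨Ideal.Quotient.mk _ a, rfl⟩
  have hker : RingHom.ker (g : (A ⧸ I ^ 2) →+* C) = I.cotangentIdeal :=
    AlgHom.ker_kerSquareLift (Algebra.ofId A C)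
  have hg' : IsNilpotent (RingHom.ker (g : (A ⧸ I ^ 2) →+* C)) := by
    rw [hker]
    exact ⟨2, by rw [Ideal.cotangentIdeal_square, Ideal.zero_eq_bot]⟩
  let σ : B →ₐ[A] (A ⧸ I ^ 2) :=
    FormallySmooth.liftOfSurjective (IsScalarTower.toAlgHom A B C) g hg hg'
  have hσ : ∀ b, g (σ b) = algebraMap B C b := fun b =>
    FormallySmooth.liftOfSurjective_apply (IsScalarTower.toAlgHom A B C) g hg hg' b
  have hσJ : ∀ b ∈ J, σ b ∈ I.cotangentIdeal := by
    intro b hb
    rw [← hker, RingHom.mem_ker]
    change g (σ b) = 0
    rw [hσ]
    exact hb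
  let φ : J →ₗ[A] I.cotangentIdeal :=
    { toFun := fun x => ⟨σ x.1, hσJ x.1 x.2⟩
      map_add' := fun x y => Subtype.ext (by simp)
      map_smul' := fun a x => Subtype.ext (by simp) }
  have hφ : ∀ x y : J, φ (x * y) = 0 := by
    intro x y
    apply Subtype.ext
    change σ (x.1 * y.1) = 0
    rw [map_mul]
    have : σ x.1 * σ y.1 ∈ I.cotangentIdeal ^ 2 := by
      rw [pow_two I.cotangentIdeal]
      exact Ideal.mul_mem_mul (hσJ _ x.2) (hσJ _ y.2)
    exact Ideal.mem_bot.mp ((Ideal.cotangentIdeal_square I).le this)
  refine ⟨I.cotangentEquivIdeal.symm.toLinearMap ∘ₗ Ideal.Cotangent.lift φ hφ, ?_⟩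
  apply LinearMap.ext
  intro x
  obtain ⟨x, rfl⟩ := I.toCotangent_surjective x
  simp only [LinearMap.comp_apply,
    LinearMap.id_apply, LinearEquiv.coe_coe]
  rw [LinearEquiv.symm_apply_eq]
  apply Subtype.ext
  rw [Ideal.cotangentEquivIdeal_apply, Ideal.toCotangent_to_quotient_square]
  change σ (Algebra.ofId A B x.1) = _
  rw [Algebra.ofId_apply, AlgHom.commutes]
  rfl

end H14

namespace H14

theorem splitExact_conormal (A : Type u) [CommRing A]
    (B : Type u) [CommRing B] [Algebra A B] [Algebra.FormallySmooth A B] (C : Type u) [CommRing C]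
    [Algebra B C] [Algebra A C] [IsScalarTower A B C] (hC : Function.Surjective (algebraMap A C)) :
    Function.Injective (Ideal.mapCotangent (RingHom.ker (algebraMap A C))
        (RingHom.ker (algebraMap B C)) (Algebra.ofId A B)
        (le_of_eq (congrArg RingHom.ker (IsScalarTower.algebraMap_eq A B C)))) ∧
      (∃ r : (RingHom.ker (algebraMap B C)).Cotangent →ₗ[A] (RingHom.ker (algebraMap A C)).Cotangent,
        r ∘ₗ (Ideal.mapCotangent (RingHom.ker (algebraMap A C)) (RingHom.ker (algebraMap B C))
          (Algebra.ofId A B)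
          (le_of_eq (congrArg RingHom.ker (IsScalarTower.algebraMap_eq A B C)))) = LinearMap.id) ∧
      LinearMap.range (Ideal.mapCotangent (RingHom.ker (algebraMap A C))
          (RingHom.ker (algebraMap B C)) (Algebra.ofId A B)
          (le_of_eq (congrArg RingHom.ker (IsScalarTower.algebraMap_eq A B C)))) =
        LinearMap.ker ((KaehlerDifferential.kerCotangentToTensor A B C).restrictScalars A) ∧
      Function.Surjective (KaehlerDifferential.kerCotangentToTensor A B C) := by
  obtain ⟨r, hr⟩ := exists_retraction_mapCotangent A B C hC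
    (le_of_eq (congrArg RingHom.ker (IsScalarTower.algebraMap_eq A B C)))
  refine ⟨?_, ⟨r, hr⟩, ?_, ?_⟩
  · exact Function.LeftInverse.injective (g := r) (fun x => LinearMap.congr_fun hr x)
  · have hex := exact_mapCotangent_kerCotangentToTensor A B C hC
      (le_of_eq (congrArg RingHom.ker (IsScalarTower.algebraMap_eq A B C)))
    ext x
    rw [LinearMap.mem_ker, LinearMap.restrictScalars_apply, hex x]
    rfl
  · have hBC : Function.Surjective (algebraMap B C) := by
      intro c
      obtain ⟨a, rfl⟩ := hC c
      exact ⟨algebraMap A B a, (IsScalarTower.algebraMap_apply A B C a).symm⟩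
    have hex := KaehlerDifferential.exact_kerCotangentToTensor_mapBaseChange A B C hBC
    have := KaehlerDifferential.subsingleton_of_surjective A C hC
    intro y
    exact (hex y).mp (Subsingleton.elim _ _)

end H14


namespace Groth.Agent.S9450

/-- For ring maps A → B → C with A → C surjective and A → B formally smooth, writing I = ker(A → C) and
J = ker(B → C), the sequence 0 → I/I² → J/J² → C ⊗_B Ω_{B/A} → 0 is split exact: the first map is
injective and admits an A-linear retraction, its range is the kernel of the second map (class of x ↦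
1 ⊗ dx), and the second map is surjective. -/
theorem result (A : Type u) [CommRing A]
    (B : Type u) [CommRing B] [Algebra A B] [Algebra.FormallySmooth A B] (C : Type u) [CommRing C]
    [Algebra B C] [Algebra A C] [IsScalarTower A B C] (hC : Function.Surjective (algebraMap A C)) :
    Function.Injective (Ideal.mapCotangent (RingHom.ker (algebraMap A C))
        (RingHom.ker (algebraMap B C)) (Algebra.ofId A B)
        (le_of_eq (congrArg RingHom.ker (IsScalarTower.algebraMap_eq A B C)))) ∧
      (∃ r : (RingHom.ker (algebraMap B C)).Cotangent →ₗ[A] (RingHom.ker (algebraMap A C)).Cotangent,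
        r ∘ₗ (Ideal.mapCotangent (RingHom.ker (algebraMap A C)) (RingHom.ker (algebraMap B C))
          (Algebra.ofId A B)
          (le_of_eq (congrArg RingHom.ker (IsScalarTower.algebraMap_eq A B C)))) = LinearMap.id) ∧
      LinearMap.range (Ideal.mapCotangent (RingHom.ker (algebraMap A C))
          (RingHom.ker (algebraMap B C)) (Algebra.ofId A B)
          (le_of_eq (congrArg RingHom.ker (IsScalarTower.algebraMap_eq A B C)))) =
        LinearMap.ker ((KaehlerDifferential.kerCotangentToTensor A B C).restrictScalars A) ∧
      Function.Surjective (KaehlerDifferential.kerCotangentToTensor A B C) := by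
  exact H14.splitExact_conormal A B C hC

end Groth.Agent.S9450
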