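import Groth.Statements.S9451
import Mathlib

set_option autoImplicit false
universe u
open CategoryTheory CategoryTheory.Limits TensorProduct
open CAlg

namespace Groth.Agent.S9451

/-- Let (A_i) be a filtered system of rings with colimit A and B a smooth A-algebra. Then some stage A_i
carries a smooth A_i-algebra B_i with B isomorphic to A ⊗_{A_i} B_i as A-algebras (the base change
along the colimit map A_i → A; existence of an isomorphism). -/
theorem result {I : Type u} [SmallCategory I] [IsFiltered I]
    (D : I ⥤ CommRingCat.{u}) (c : Cocone D) (hc : IsColimit c) (B : Type u) [CommRing B]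
    [Algebra c.pt B] [Algebra.Smooth c.pt B] :
    ∃ (i : I) (Bi : Type u) (_ : CommRing Bi) (_ : Algebra (D.obj i) Bi),
      Algebra.Smooth (D.obj i) Bi ∧
      (letI : Algebra (D.obj i) c.pt := (c.ι.app i).hom.toAlgebra
       Nonempty (B ≃ₐ[c.pt] (c.pt ⊗[D.obj i] Bi))) := by
  obtain ⟨A₀, B₀, _, _, hfg, hsm, ⟨e⟩⟩ := Algebra.Smooth.exists_subalgebra_fg ℤ c.pt B
  -- the initial ring in universe `u`
  let R : CommRingCat.{u} := CommRingCat.of (ULift.{u} ℤ)
  have hinit : IsInitial R := CommRingCat.isInitial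
  let α : (Functor.const I).obj R ⟶ D :=
    { app := fun i => hinit.to (D.obj i)
      naturality := fun _ _ _ => hinit.hom_ext _ _ }
  let S : CommRingCat.{u} := CommRingCat.of A₀
  let f : R ⟶ S := hinit.to S
  let g : S ⟶ c.pt := CommRingCat.ofHom A₀.val.toRingHom
  have hf : f.hom.FinitePresentation := by
    haveI : IsNoetherianRing (ULift.{u} ℤ) :=
      isNoetherianRing_of_ringEquiv ℤ ULift.ringEquiv.symm
    rw [← RingHom.FinitePresentation.of_finiteType]
    haveI : Algebra.FiniteType ℤ A₀ := (Subalgebra.fg_iff_finiteType A₀).mp hfg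
    have h1 : (algebraMap ℤ A₀).FiniteType := RingHom.finiteType_algebraMap.mpr inferInstance
    have h2 : algebraMap ℤ A₀ = f.hom.comp (ULift.ringEquiv.{0, u} (R := ℤ)).symm.toRingHom :=
      RingHom.ext_int _ _
    rw [h2] at h1
    exact RingHom.FiniteType.of_comp_finiteType h1
  obtain ⟨i, g', -, hg'⟩ := RingHom.EssFiniteType.exists_eq_comp_ι_app_of_isColimit R D α f c hc hf g
    (fun i => hinit.hom_ext _ _)
  letI : Algebra A₀ (D.obj i) := g'.hom.toAlgebra
  letI : Algebra (D.obj i) c.pt := (c.ι.app i).hom.toAlgebra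
  haveI : IsScalarTower A₀ (D.obj i) c.pt := IsScalarTower.of_algebraMap_eq (fun x => by
    have := congrArg (fun φ => φ.hom x) hg'
    exact this)
  refine ⟨i, D.obj i ⊗[A₀] B₀, inferInstance, inferInstance, inferInstance, ?_⟩
  exact ⟨e.trans (Algebra.TensorProduct.cancelBaseChange A₀ (D.obj i) c.pt c.pt B₀).symm⟩

end Groth.Agent.S9451
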