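import Groth.Statements.S9455
import Mathlib
import Groth.Agent.Lib.helper14.CohenSmooth


set_option autoImplicit false
universe u
open CAlg

namespace H14S9455

theorem main (Λ : Type u) [CommRing Λ] [IsDomain Λ]
    [IsDiscreteValuationRing Λ] (p : ℕ)
    (hp : p.Prime) (hm : IsLocalRing.maximalIdeal Λ = Ideal.span {(p : Λ)}) (n : ℕ) (hn : 1 ≤ n)
    [Algebra (ZMod (p ^ n)) (Λ ⧸ Ideal.span {((p : Λ) ^ n)})] :
    Algebra.FormallySmooth (ZMod (p ^ n)) (Λ ⧸ Ideal.span {((p : Λ) ^ n)}) := by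
  obtain ⟨m, rfl⟩ : ∃ m, n = m + 1 := ⟨n - 1, by omega⟩
  have h := H14.CohenSmooth.g_formallySmooth hp hm m
  let e : ZMod (p ^ (m + 1)) ≃+* (ℤ ⧸ Ideal.span {(p : ℤ) ^ (m + 1)}) :=
    (Int.quotientSpanNatEquivZMod (p ^ (m + 1))).symm.trans
      (Ideal.quotEquivOfEq (by rw [Nat.cast_pow]))
  have hcomp : algebraMap (ZMod (p ^ (m + 1))) (Λ ⧸ Ideal.span {((p : Λ) ^ (m + 1))}) =
      (H14.CohenSmooth.g Λ p (m + 1)).comp e.toRingHom := Subsingleton.elim _ _
  rw [← RingHom.formallySmooth_algebraMap, hcomp]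
  exact (RingHom.FormallySmooth.of_bijective e.bijective).comp h

end H14S9455

namespace Groth.Agent.S9455

/-- If Λ is a Cohen ring (a complete discrete valuation ring with maximal ideal generated by a prime
number p) then Λ/p^nΛ is formally smooth over ℤ/p^nℤ for every n ≥ 1; the ℤ/p^nℤ-algebra structure
on Λ/p^nΛ is the unique one and is taken as a hypothesis. -/
theorem result (Λ : Type u) [CommRing Λ] [IsDomain Λ]
    [IsDiscreteValuationRing Λ] [IsAdicComplete (IsLocalRing.maximalIdeal Λ) Λ] (p : ℕ)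
    (hp : p.Prime) (hm : IsLocalRing.maximalIdeal Λ = Ideal.span {(p : Λ)}) (n : ℕ) (hn : 1 ≤ n)
    [Algebra (ZMod (p ^ n)) (Λ ⧸ Ideal.span {((p : Λ) ^ n)})] :
    Algebra.FormallySmooth (ZMod (p ^ n)) (Λ ⧸ Ideal.span {((p : Λ) ^ n)}) := by
  exact H14S9455.main Λ p hp hm n hn

end Groth.Agent.S9455
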