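import Groth.Statements.S9459



set_option autoImplicit false
universe u
open Hensel

namespace H14S9459

open TensorProduct IsLocalRing

theorem hens_unique {L E F : Type u} [CommRing L] [IsLocalRing L] [CommRing E] [IsLocalRing E]
    [Algebra L E] [IsLocalHom (algebraMap L E)] [hE : Hensel.IsHenselization L E]
    [CommRing F] [IsLocalRing F] (hF : HenselianLocalRing F) (ψ : L →+* F) (hψ : IsLocalHom ψ)
    (huniv : ∀ (T : Type u) [CommRing T] [HenselianLocalRing T] (f : L →+* T), IsLocalHom f →
      ∃! g : F →+* T, g.comp ψ = f) :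
    ∃ e : E ≃+* F, ∀ x : L, e (algebraMap L E x) = ψ x := by
  haveI hEh : HenselianLocalRing E := hE.henselian
  obtain ⟨a, ha, -⟩ := hE.universal F ψ hψ
  obtain ⟨b, hb, -⟩ := huniv E (algebraMap L E) inferInstance
  have hab : a.comp b = RingHom.id F := by
    obtain ⟨c, -, hc⟩ := huniv F ψ hψ
    have h1 : a.comp b = c := hc _ (by change (a.comp b).comp ψ = ψ; rw [RingHom.comp_assoc, hb, ha])
    have h2 : RingHom.id F = c := hc _ (by change (RingHom.id F).comp ψ = ψ; rw [RingHom.id_comp])
    rw [h1, h2]
  have hba : b.comp a = RingHom.id E := by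
    obtain ⟨c, -, hc⟩ := hE.universal E (algebraMap L E) inferInstance
    have h1 : b.comp a = c := hc _ (by change (b.comp a).comp (algebraMap L E) = algebraMap L E; rw [RingHom.comp_assoc, ha, hb])
    have h2 : RingHom.id E = c := hc _ (by change (RingHom.id E).comp (algebraMap L E) = algebraMap L E; rw [RingHom.id_comp])
    rw [h1, h2]
  refine ⟨RingEquiv.ofRingHom a b hab hba, fun x => ?_⟩
  change a (algebraMap L E x) = ψ x
  exact RingHom.congr_fun ha x

theorem main (R : Type u) [CommRing R] (S : Type u)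
    [CommRing S] [Algebra R S] (p : Ideal R) [p.IsPrime] (q : Ideal S) [q.IsPrime] [q.LiesOver p]
    (Rh : Type u) [CommRing Rh] [IsLocalRing Rh] [Algebra (Localization.AtPrime p) Rh]
    [IsLocalHom (algebraMap (Localization.AtPrime p) Rh)]
    [hRh : Hensel.IsHenselization (Localization.AtPrime p) Rh] [Algebra R Rh]
    [IsScalarTower R (Localization.AtPrime p) Rh]
    (Sh : Type u) [CommRing Sh] [IsLocalRing Sh] [Algebra (Localization.AtPrime q) Sh]
    [IsLocalHom (algebraMap (Localization.AtPrime q) Sh)]
    [hSh : Hensel.IsHenselization (Localization.AtPrime q) Sh] [Algebra S Sh]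
    [IsScalarTower S (Localization.AtPrime q) Sh] [Algebra R Sh] [IsScalarTower R S Sh]
    [Algebra Rh Sh] [IsScalarTower R Rh Sh]
    (φ : Rh ⊗[R] S →ₐ[R] Sh) (hφl : ∀ r : Rh, φ (r ⊗ₜ 1) = algebraMap Rh Sh r)
    (hφr : ∀ s : S, φ (1 ⊗ₜ s) = algebraMap S Sh s)
    (E : Type u) [CommRing E] [IsLocalRing E]
    [Algebra (Localization.AtPrime (Ideal.comap φ (IsLocalRing.maximalIdeal Sh))) E]
    [IsLocalHom (algebraMap (Localization.AtPrime
      (Ideal.comap φ (IsLocalRing.maximalIdeal Sh))) E)]
    [Hensel.IsHenselization (Localization.AtPrime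
      (Ideal.comap φ (IsLocalRing.maximalIdeal Sh))) E] :
    ∃ e : E ≃+* Sh, ∀ d : Rh ⊗[R] S,
      e (algebraMap (Localization.AtPrime
        (Ideal.comap φ (IsLocalRing.maximalIdeal Sh))) E
        (algebraMap (Rh ⊗[R] S) _ d)) = φ d := by
  set Q := Ideal.comap φ (IsLocalRing.maximalIdeal Sh) with hQ
  set L := Localization.AtPrime Q with hL
  haveI hShh : HenselianLocalRing Sh := hSh.henselian
  -- ψ
  have hQmem : ∀ a : Rh ⊗[R] S, a ∉ Q ↔ IsUnit (φ a) := fun a => by
    change ¬ (φ a ∈ maximalIdeal Sh) ↔ _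
    rw [IsLocalRing.mem_maximalIdeal, mem_nonunits_iff, not_not]
  have hunit : ∀ y : Q.primeCompl, IsUnit (φ.toRingHom y) := fun y => (hQmem _).1 y.2
  let ψ : L →+* Sh := IsLocalization.lift (M := Q.primeCompl) (g := φ.toRingHom) hunit
  have hψ_alg : ∀ d, ψ (algebraMap (Rh ⊗[R] S) L d) = φ d := fun d =>
    IsLocalization.lift_eq (M := Q.primeCompl) hunit d
  have hψ : IsLocalHom ψ := by
    constructor
    intro x hx
    obtain ⟨a, s, rfl⟩ := IsLocalization.exists_mk'_eq Q.primeCompl x
    rw [IsLocalization.AtPrime.isUnit_mk'_iff L Q]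
    have h1 : ψ (IsLocalization.mk' L a s) * φ s = φ a := by
      rw [← hψ_alg, ← hψ_alg, ← map_mul, IsLocalization.mk'_spec]
    have h2 : IsUnit (φ a) := by
      rw [← h1]; exact hx.mul (hunit s)
    exact (hQmem a).2 h2
  have key := hens_unique (L := L) (E := E) (F := Sh) hShh ψ hψ ?_
  · obtain ⟨e, he⟩ := key
    exact ⟨e, fun d => by rw [he, hψ_alg]⟩
  -- the universal property
  intro T _ _ f hf
  let jS : S →+* L := (algebraMap (Rh ⊗[R] S) L).comp
    (Algebra.TensorProduct.includeRight (R := R) (A := Rh) (B := S)).toRingHom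
  let jR : Rh →+* L := (algebraMap (Rh ⊗[R] S) L).comp
    (Algebra.TensorProduct.includeLeft (R := R) (S := R) (A := Rh) (B := S)).toRingHom
  have hjS : ∀ s, ψ (jS s) = algebraMap S Sh s := fun s => by
    change ψ (algebraMap _ L ((1 : Rh) ⊗ₜ[R] s)) = _
    rw [hψ_alg, hφr]
  have hjR : ∀ r, ψ (jR r) = algebraMap Rh Sh r := fun r => by
    change ψ (algebraMap _ L (r ⊗ₜ[R] (1 : S))) = _
    rw [hψ_alg, hφl]
  have hjRS : ∀ r : R, jR (algebraMap R Rh r) = jS (algebraMap R S r) := fun r => by
    change algebraMap _ L ((algebraMap R Rh r) ⊗ₜ[R] (1 : S)) = algebraMap _ L ((1 : Rh) ⊗ₜ[R] (algebraMap R S r))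
    congr 1
    rw [Algebra.algebraMap_eq_smul_one, Algebra.algebraMap_eq_smul_one, TensorProduct.smul_tmul]
  have hmul : ∀ (r : Rh) (s : S), algebraMap (Rh ⊗[R] S) L (r ⊗ₜ s) = jR r * jS s := fun r s => by
    change _ = algebraMap _ L (r ⊗ₜ[R] (1 : S)) * algebraMap _ L ((1 : Rh) ⊗ₜ[R] s)
    rw [← map_mul, Algebra.TensorProduct.tmul_mul_tmul, mul_one, one_mul]
  have hSunit : ∀ s : q.primeCompl, IsUnit ((f.comp jS) s) := by
    intro s
    have h1 : IsUnit (algebraMap S Sh s) := by
      rw [IsScalarTower.algebraMap_apply S (Localization.AtPrime q) Sh]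
      exact (IsLocalization.map_units (Localization.AtPrime q) s).map _
    have h2 : IsUnit (jS s) := hψ.map_nonunit (jS s) (by rw [hjS]; exact h1)
    exact h2.map f
  let fS : Localization.AtPrime q →+* T := IsLocalization.lift (M := q.primeCompl) hSunit
  have hfS : ∀ s, fS (algebraMap S _ s) = f (jS s) := fun s =>
    IsLocalization.lift_eq (M := q.primeCompl) hSunit s
  have hfS_loc : IsLocalHom fS := by
    constructor
    intro x hx
    obtain ⟨a, s, rfl⟩ := IsLocalization.exists_mk'_eq q.primeCompl x
    rw [IsLocalization.AtPrime.isUnit_mk'_iff (Localization.AtPrime q) q]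
    have h1 : fS (IsLocalization.mk' _ a s) * f (jS s) = f (jS a) := by
      rw [← hfS, ← hfS, ← map_mul, IsLocalization.mk'_spec]
    have h2 : IsUnit (f (jS a)) := by rw [← h1]; exact hx.mul (hSunit s)
    have h3 : IsUnit (jS a) := hf.map_nonunit _ h2
    have h4 : IsUnit (algebraMap S Sh a) := by rw [← hjS]; exact h3.map ψ
    rw [IsScalarTower.algebraMap_apply S (Localization.AtPrime q) Sh] at h4
    have h5 : IsUnit (algebraMap S (Localization.AtPrime q) a) :=
      IsLocalHom.map_nonunit (f := algebraMap (Localization.AtPrime q) Sh) _ h4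
    exact (IsLocalization.AtPrime.isUnit_to_map_iff (Localization.AtPrime q) q a).1 h5
  obtain ⟨g, hg, hguniq⟩ := hSh.universal T fS hfS_loc
  have hgS : ∀ s : S, g (algebraMap S Sh s) = f (jS s) := fun s => by
    rw [IsScalarTower.algebraMap_apply S (Localization.AtPrime q) Sh, ← hfS, ← hg]; rfl
  -- the two maps Rh → T
  let g1 : Rh →+* T := g.comp (algebraMap Rh Sh)
  let g2 : Rh →+* T := f.comp jR
  have h12R : ∀ r : R, g1 (algebraMap R Rh r) = g2 (algebraMap R Rh r) := fun r => by
    change g (algebraMap Rh Sh (algebraMap R Rh r)) = f (jR (algebraMap R Rh r))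
    rw [← IsScalarTower.algebraMap_apply R Rh Sh, IsScalarTower.algebraMap_apply R S Sh, hgS, hjRS]
  have h12 : g1.comp (algebraMap (Localization.AtPrime p) Rh) =
      g2.comp (algebraMap (Localization.AtPrime p) Rh) := by
    apply IsLocalization.ringHom_ext p.primeCompl
    ext r
    change g1 (algebraMap _ Rh (algebraMap R _ r)) = g2 (algebraMap _ Rh (algebraMap R _ r))
    rw [← IsScalarTower.algebraMap_apply R (Localization.AtPrime p) Rh]
    exact h12R r
  have h2loc : IsLocalHom (g2.comp (algebraMap (Localization.AtPrime p) Rh)) := by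
    constructor
    intro x hx
    obtain ⟨a, s, rfl⟩ := IsLocalization.exists_mk'_eq p.primeCompl x
    rw [IsLocalization.AtPrime.isUnit_mk'_iff (Localization.AtPrime p) p]
    set h := g2.comp (algebraMap (Localization.AtPrime p) Rh) with hh
    have h1 : h (IsLocalization.mk' _ a s) * h (algebraMap R _ s) = h (algebraMap R _ a) := by
      rw [← map_mul, IsLocalization.mk'_spec]
    have h2 : IsUnit (h (algebraMap R _ a)) := by
      rw [← h1]
      exact hx.mul ((IsLocalization.map_units (Localization.AtPrime p) s).map h)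
    have h3 : h (algebraMap R _ a) = fS (algebraMap S _ (algebraMap R S a)) := by
      rw [hfS, ← hjRS]
      change f (jR (algebraMap _ Rh (algebraMap R _ a))) = _
      rw [← IsScalarTower.algebraMap_apply R (Localization.AtPrime p) Rh]
    rw [h3] at h2
    have h4 : IsUnit (algebraMap S (Localization.AtPrime q) (algebraMap R S a)) :=
      hfS_loc.map_nonunit _ h2
    have h5 := (IsLocalization.AtPrime.isUnit_to_map_iff (Localization.AtPrime q) q _).1 h4
    intro ha
    apply h5
    have : p = q.under R := Ideal.LiesOver.over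
    rw [this] at ha
    exact ha
  have h12' : g1 = g2 := by
    obtain ⟨c, -, hc⟩ := hRh.universal T _ h2loc
    have e1 : g1 = c := hc g1 h12
    have e2 : g2 = c := hc g2 rfl
    rw [e1, e2]
  refine ⟨g, ?_, ?_⟩
  · change g.comp ψ = f
    apply IsLocalization.ringHom_ext Q.primeCompl
    refine RingHom.ext fun d => ?_
    change g (ψ (algebraMap _ L d)) = f (algebraMap _ L d)
    induction d using TensorProduct.induction_on with
    | zero => simp
    | tmul r s =>
      rw [hmul, map_mul, map_mul, map_mul, hjR, hjS, hgS]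
      congr 1
      exact RingHom.congr_fun h12' r
    | add x y hx hy => rw [map_add, map_add, map_add, map_add, hx, hy]
  · intro g' hg'
    change g'.comp ψ = f at hg'
    apply hguniq
    change g'.comp (algebraMap (Localization.AtPrime q) Sh) = fS
    apply IsLocalization.ringHom_ext q.primeCompl
    ext s
    change g' (algebraMap _ Sh (algebraMap S _ s)) = fS (algebraMap S _ s)
    rw [hfS, ← IsScalarTower.algebraMap_apply S (Localization.AtPrime q) Sh, ← hjS, ← hg']
    rfl

end H14S9459

namespace Groth.Agent.S9459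

open TensorProduct in
/-- Let R → S be a ring map, q a prime of S over p, and R^h, S^h henselizations of R_p and S_q, S^h
carrying the compatible R^h-algebra structure (the canonical map R^h → S^h). Let φ : R^h ⊗_R S → S^h
be the induced map and Q the preimage under φ of the maximal ideal (a prime lying over the maximal
ideal of R^h and over q). Then S^h is a henselization of the local ring (R^h ⊗_R S)_Q: for every
henselization E of (R^h ⊗_R S)_Q there is a ring isomorphism E ≅ S^h compatible with the two maps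
from R^h ⊗_R S. -/
theorem result (R : Type u) [CommRing R] (S : Type u)
    [CommRing S] [Algebra R S] (p : Ideal R) [p.IsPrime] (q : Ideal S) [q.IsPrime] [q.LiesOver p]
    (Rh : Type u) [CommRing Rh] [IsLocalRing Rh] [Algebra (Localization.AtPrime p) Rh]
    [IsLocalHom (algebraMap (Localization.AtPrime p) Rh)]
    [Hensel.IsHenselization (Localization.AtPrime p) Rh] [Algebra R Rh]
    [IsScalarTower R (Localization.AtPrime p) Rh]
    (Sh : Type u) [CommRing Sh] [IsLocalRing Sh] [Algebra (Localization.AtPrime q) Sh]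
    [IsLocalHom (algebraMap (Localization.AtPrime q) Sh)]
    [Hensel.IsHenselization (Localization.AtPrime q) Sh] [Algebra S Sh]
    [IsScalarTower S (Localization.AtPrime q) Sh] [Algebra R Sh] [IsScalarTower R S Sh]
    [Algebra Rh Sh] [IsScalarTower R Rh Sh]
    (E : Type u) [CommRing E] [IsLocalRing E]
    [Algebra (Localization.AtPrime (Ideal.comap (Algebra.TensorProduct.lift (IsScalarTower.toAlgHom R Rh Sh) (IsScalarTower.toAlgHom R S Sh)
          (fun _ _ => Commute.all _ _)) (IsLocalRing.maximalIdeal Sh))) E]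
    [IsLocalHom (algebraMap (Localization.AtPrime
      (Ideal.comap (Algebra.TensorProduct.lift (IsScalarTower.toAlgHom R Rh Sh) (IsScalarTower.toAlgHom R S Sh)
          (fun _ _ => Commute.all _ _)) (IsLocalRing.maximalIdeal Sh))) E)]
    [Hensel.IsHenselization (Localization.AtPrime
      (Ideal.comap (Algebra.TensorProduct.lift (IsScalarTower.toAlgHom R Rh Sh) (IsScalarTower.toAlgHom R S Sh)
          (fun _ _ => Commute.all _ _)) (IsLocalRing.maximalIdeal Sh))) E] :
    ∃ e : E ≃+* Sh, ∀ d : Rh ⊗[R] S,
      e (algebraMap (Localization.AtPrime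
        (Ideal.comap (Algebra.TensorProduct.lift (IsScalarTower.toAlgHom R Rh Sh) (IsScalarTower.toAlgHom R S Sh)
          (fun _ _ => Commute.all _ _)) (IsLocalRing.maximalIdeal Sh))) E
        (algebraMap (Rh ⊗[R] S) _ d)) = (Algebra.TensorProduct.lift (IsScalarTower.toAlgHom R Rh Sh) (IsScalarTower.toAlgHom R S Sh)
          (fun _ _ => Commute.all _ _)) d := by
  exact H14S9459.main R S p q Rh Sh _ (fun r => by
    rw [Algebra.TensorProduct.lift_tmul, map_one, mul_one]; rfl) (fun s => by
    rw [Algebra.TensorProduct.lift_tmul, map_one, one_mul]; rfl) E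

end Groth.Agent.S9459
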