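import Groth.Statements.S9458
import Groth.Agent.S9459
import Groth.Agent.Lib.lead.Hzn7
import Groth.Agent.Lib.lead.HenselQFConverse
import Groth.Agent.Lib.lead.HenselIntegral2


set_option autoImplicit false
universe u
open Hensel

namespace H14S9458

open TensorProduct IsLocalRing

theorem isHenselization_self (L : Type u) [CommRing L] [HenselianLocalRing L] :
    @Hensel.IsHenselization L L _ _ _ _ (Algebra.id L) (by
      change IsLocalHom (RingHom.id L); infer_instance) := by
  letI : IsLocalHom (algebraMap L L) := by
    change IsLocalHom (RingHom.id L); infer_instance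
  refine ⟨inferInstance, ?_⟩
  intro T _ _ f hf
  refine ⟨f, ?_, ?_⟩
  · change f.comp (RingHom.id L) = f
    rw [RingHom.comp_id]
  · intro g hg
    change g.comp (RingHom.id L) = f at hg
    rwa [RingHom.comp_id] at hg

theorem main2 (R : Type u) [CommRing R] (S : Type u)
    [CommRing S] [Algebra R S] [Algebra.FiniteType R S] (p : Ideal R) [p.IsPrime] (q : Ideal S)
    [q.IsPrime] [hqp : q.LiesOver p] [Algebra.QuasiFiniteAt R q]
    (Rh : Type u) [CommRing Rh] [IsLocalRing Rh] [Algebra (Localization.AtPrime p) Rh]
    [IsLocalHom (algebraMap (Localization.AtPrime p) Rh)]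
    [hRh : Hensel.IsHenselization (Localization.AtPrime p) Rh] [Algebra R Rh]
    [IsScalarTower R (Localization.AtPrime p) Rh]
    (Sh : Type u) [CommRing Sh] [IsLocalRing Sh] [Algebra (Localization.AtPrime q) Sh]
    [IsLocalHom (algebraMap (Localization.AtPrime q) Sh)]
    [hSh : Hensel.IsHenselization (Localization.AtPrime q) Sh] [Algebra S Sh]
    [IsScalarTower S (Localization.AtPrime q) Sh] [Algebra R Sh] [IsScalarTower R S Sh]
    [Algebra Rh Sh] [IsScalarTower R Rh Sh]
    (φ : Rh ⊗[R] S →ₐ[R] Sh) (hφl : ∀ r : Rh, φ (r ⊗ₜ 1) = algebraMap Rh Sh r)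
    (hφr : ∀ s : S, φ (1 ⊗ₜ s) = algebraMap S Sh s) :
    Module.Finite Rh Sh := by
  classical
  letI : HenselianLocalRing Rh := hRh.henselian
  -- membership of images of S in the maximal ideal of Sh
  have hS_mem : ∀ x : S, algebraMap S Sh x ∈ maximalIdeal Sh ↔ x ∈ q := by
    intro x
    rw [IsScalarTower.algebraMap_apply S (Localization.AtPrime q) Sh,
      ← IsLocalization.AtPrime.to_map_mem_maximal_iff (Localization.AtPrime q) q x]
    constructor
    · intro h
      by_contra hx
      rw [mem_maximalIdeal, mem_nonunits_iff, not_not] at hx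
      exact h (hx.map _)
    · intro h
      exact map_nonunit (algebraMap (Localization.AtPrime q) Sh) _ h
  have hqQ : q = (Ideal.comap φ (maximalIdeal Sh)).comap
      Algebra.TensorProduct.includeRight.toRingHom := by
    ext x
    change x ∈ q ↔ φ ((1 : Rh) ⊗ₜ[R] x) ∈ maximalIdeal Sh
    rw [hφr, hS_mem]
  haveI : Algebra.QuasiFiniteAt Rh (Ideal.comap φ (maximalIdeal Sh)) :=
    Algebra.QuasiFiniteAt.baseChange q _ hqQ
  obtain ⟨M⟩ := Groth.Agent.Lib.lead.Hzn.exists_model (R := Localization.AtPrime p) Rh
  have hmax := M.map_maximalIdeal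
  have hQm : (Ideal.comap φ (maximalIdeal Sh)).LiesOver (maximalIdeal Rh) := by
    refine ⟨?_⟩
    apply le_antisymm
    · rw [← hmax, Ideal.map_le_iff_le_comap]
      intro x hx
      change φ (algebraMap Rh (Rh ⊗[R] S) (algebraMap _ Rh x)) ∈ maximalIdeal Sh
      rw [Algebra.TensorProduct.algebraMap_apply, Algebra.algebraMap_self_apply, hφl]
      obtain ⟨a, s, rfl⟩ := IsLocalization.exists_mk'_eq p.primeCompl x
      rw [IsLocalization.AtPrime.mk'_mem_maximal_iff (Localization.AtPrime p) p] at hx
      have h1 : algebraMap Rh Sh (algebraMap _ Rh (IsLocalization.mk' (Localization.AtPrime p) a s)) *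
          algebraMap R Sh (s : R) = algebraMap R Sh a := by
        rw [IsScalarTower.algebraMap_apply R Rh Sh, IsScalarTower.algebraMap_apply R Rh Sh,
          IsScalarTower.algebraMap_apply R (Localization.AtPrime p) Rh,
          IsScalarTower.algebraMap_apply R (Localization.AtPrime p) Rh, ← map_mul, ← map_mul,
          IsLocalization.mk'_spec]
      have h2 : algebraMap R Sh a ∈ maximalIdeal Sh := by
        rw [IsScalarTower.algebraMap_apply R S Sh, hS_mem]
        have : a ∈ q.under R := by rw [← hqp.over]; exact hx
        exact this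
      have h3 : algebraMap R Sh (s : R) ∉ maximalIdeal Sh := by
        rw [IsScalarTower.algebraMap_apply R S Sh, hS_mem]
        intro h
        have : (s : R) ∈ q.under R := h
        rw [← hqp.over] at this
        exact s.2 this
      rw [← h1] at h2
      exact ((maximalIdeal.isMaximal Sh).isPrime.mem_or_mem h2).resolve_right h3
    · exact IsLocalRing.le_maximalIdeal (Ideal.IsPrime.ne_top (Ideal.comap_isPrime _ _))
  haveI hfin : Module.Finite Rh (Localization.AtPrime (Ideal.comap φ (maximalIdeal Sh))) :=
    Groth.Agent.Lib.lead.HenselLocal.finite_localization_of_quasiFiniteAt (R := Rh)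
      (Rh ⊗[R] S) _ hQm inferInstance
  haveI : Algebra.IsIntegral Rh (Localization.AtPrime (Ideal.comap φ (maximalIdeal Sh))) :=
    Algebra.IsIntegral.of_finite Rh _
  letI hL : HenselianLocalRing (Localization.AtPrime (Ideal.comap φ (maximalIdeal Sh))) :=
    Groth.Agent.Lib.lead.HenselLocal.henselian_of_integral_local Rh _
  haveI : IsLocalHom (algebraMap (Localization.AtPrime (Ideal.comap φ (maximalIdeal Sh)))
      (Localization.AtPrime (Ideal.comap φ (maximalIdeal Sh)))) := by
    change IsLocalHom (RingHom.id _); infer_instance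
  haveI : Hensel.IsHenselization (Localization.AtPrime (Ideal.comap φ (maximalIdeal Sh)))
      (Localization.AtPrime (Ideal.comap φ (maximalIdeal Sh))) := isHenselization_self _
  obtain ⟨e, he⟩ := H14S9459.main R S p q Rh Sh φ hφl hφr
    (Localization.AtPrime (Ideal.comap φ (maximalIdeal Sh)))
  let f : Localization.AtPrime (Ideal.comap φ (maximalIdeal Sh)) →ₗ[Rh] Sh :=
    { toFun := e
      map_add' := map_add e
      map_smul' := by
        intro r x
        rw [Algebra.smul_def, map_mul, RingHom.id_apply, Algebra.smul_def]
        congr 1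
        rw [IsScalarTower.algebraMap_apply Rh (Rh ⊗[R] S) (Localization.AtPrime _)]
        have := he (algebraMap Rh (Rh ⊗[R] S) r)
        rw [Algebra.algebraMap_self_apply] at this
        rw [this, Algebra.TensorProduct.algebraMap_apply, Algebra.algebraMap_self_apply, hφl] }
  exact Module.Finite.of_surjective f e.surjective

theorem main (R : Type u) [CommRing R] (S : Type u)
    [CommRing S] [Algebra R S] [Algebra.FiniteType R S] (p : Ideal R) [p.IsPrime] (q : Ideal S)
    [q.IsPrime] [q.LiesOver p] [Algebra.QuasiFiniteAt R q]
    (Rh : Type u) [CommRing Rh] [IsLocalRing Rh] [Algebra (Localization.AtPrime p) Rh]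
    [IsLocalHom (algebraMap (Localization.AtPrime p) Rh)]
    [hRh : Hensel.IsHenselization (Localization.AtPrime p) Rh]
    (Sh : Type u) [CommRing Sh] [IsLocalRing Sh] [Algebra (Localization.AtPrime q) Sh]
    [IsLocalHom (algebraMap (Localization.AtPrime q) Sh)]
    [hSh : Hensel.IsHenselization (Localization.AtPrime q) Sh]
    [Algebra (Localization.AtPrime p) (Localization.AtPrime q)]
    [IsScalarTower R (Localization.AtPrime p) (Localization.AtPrime q)]
    [Algebra Rh Sh] [Algebra (Localization.AtPrime p) Sh]
    [IsScalarTower (Localization.AtPrime p) Rh Sh]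
    [IsScalarTower (Localization.AtPrime p) (Localization.AtPrime q) Sh] :
    Module.Finite Rh Sh := by
  classical
  letI : HenselianLocalRing Rh := hRh.henselian
  -- algebra structures
  letI aRRh : Algebra R Rh :=
    ((algebraMap (Localization.AtPrime p) Rh).comp (algebraMap R (Localization.AtPrime p))).toAlgebra
  haveI tRPRh : IsScalarTower R (Localization.AtPrime p) Rh := IsScalarTower.of_algebraMap_eq' rfl
  letI aSSh : Algebra S Sh :=
    ((algebraMap (Localization.AtPrime q) Sh).comp (algebraMap S (Localization.AtPrime q))).toAlgebra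
  haveI tSQSh : IsScalarTower S (Localization.AtPrime q) Sh := IsScalarTower.of_algebraMap_eq' rfl
  letI aRSh : Algebra R Sh :=
    ((algebraMap (Localization.AtPrime p) Sh).comp (algebraMap R (Localization.AtPrime p))).toAlgebra
  haveI tRPSh : IsScalarTower R (Localization.AtPrime p) Sh := IsScalarTower.of_algebraMap_eq' rfl
  haveI tRRhSh : IsScalarTower R Rh Sh := by
    refine IsScalarTower.of_algebraMap_eq' ?_
    change (algebraMap (Localization.AtPrime p) Sh).comp (algebraMap R (Localization.AtPrime p)) =
      (algebraMap Rh Sh).comp ((algebraMap (Localization.AtPrime p) Rh).comp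
        (algebraMap R (Localization.AtPrime p)))
    rw [← RingHom.comp_assoc, ← IsScalarTower.algebraMap_eq (Localization.AtPrime p) Rh Sh]
  haveI tRSSh : IsScalarTower R S Sh := by
    refine IsScalarTower.of_algebraMap_eq' ?_
    change (algebraMap (Localization.AtPrime p) Sh).comp (algebraMap R (Localization.AtPrime p)) =
      ((algebraMap (Localization.AtPrime q) Sh).comp (algebraMap S (Localization.AtPrime q))).comp
        (algebraMap R S)
    rw [IsScalarTower.algebraMap_eq (Localization.AtPrime p) (Localization.AtPrime q) Sh,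
      RingHom.comp_assoc, RingHom.comp_assoc,
      ← IsScalarTower.algebraMap_eq R (Localization.AtPrime p) (Localization.AtPrime q),
      ← IsScalarTower.algebraMap_eq R S (Localization.AtPrime q)]
  exact main2 R S p q Rh Sh (Algebra.TensorProduct.lift (IsScalarTower.toAlgHom R Rh Sh)
    (IsScalarTower.toAlgHom R S Sh) (fun _ _ => Commute.all _ _)) (fun r => by
    rw [Algebra.TensorProduct.lift_tmul, map_one, mul_one]; rfl) (fun s => by
    rw [Algebra.TensorProduct.lift_tmul, map_one, one_mul]; rfl)

end H14S9458

namespace Groth.Agent.S9458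

/-- Let R → S be of finite type and quasi-finite at a prime q lying over p, and let R_p^h, S_q^h be
henselizations of the local rings, S_q^h carrying the compatible R_p^h-algebra structure (the
canonical local map R_p^h → S_q^h). Then S_q^h is finite over R_p^h. (The published statement also
identifies S_q^h with a localization of R_p^h ⊗_{R_p} S_q; this row states only that S_q^h is finite
over R_p^h.) -/
theorem result (R : Type u) [CommRing R] (S : Type u)
    [CommRing S] [Algebra R S] [Algebra.FiniteType R S] (p : Ideal R) [p.IsPrime] (q : Ideal S)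
    [q.IsPrime] [q.LiesOver p] [Algebra.QuasiFiniteAt R q]
    (Rh : Type u) [CommRing Rh] [IsLocalRing Rh] [Algebra (Localization.AtPrime p) Rh]
    [IsLocalHom (algebraMap (Localization.AtPrime p) Rh)]
    [Hensel.IsHenselization (Localization.AtPrime p) Rh]
    (Sh : Type u) [CommRing Sh] [IsLocalRing Sh] [Algebra (Localization.AtPrime q) Sh]
    [IsLocalHom (algebraMap (Localization.AtPrime q) Sh)]
    [Hensel.IsHenselization (Localization.AtPrime q) Sh]
    [Algebra (Localization.AtPrime p) (Localization.AtPrime q)]
    [IsScalarTower R (Localization.AtPrime p) (Localization.AtPrime q)]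
    [Algebra Rh Sh] [Algebra (Localization.AtPrime p) Sh]
    [IsScalarTower (Localization.AtPrime p) Rh Sh]
    [IsScalarTower (Localization.AtPrime p) (Localization.AtPrime q) Sh] :
    Module.Finite Rh Sh := by
  exact H14S9458.main R S p q Rh Sh

end Groth.Agent.S9458
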