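import Groth.Statements.S9462
import Mathlib
import Groth.Agent.Lib.helper24.NilFlat
import Groth.Agent.Lib.helper3.AdicIso
-- import your own Groth.Agent.* helpers here

set_option autoImplicit false
universe u
open CAlg

namespace Groth.Agent.S9462

open TensorProduct

/-- base change along a surjection with kernel `I` of an algebra whose quotient by `I B'` is `B`. -/
theorem bij_lift {A' T B' B : Type u} [CommRing A'] [CommRing T] [CommRing B'] [CommRing B]
    [Algebra A' T] [Algebra A' B'] [Algebra B' B] [Algebra T B] [Algebra A' B]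
    [IsScalarTower A' T B] [IsScalarTower A' B' B]
    (hT : Function.Surjective (algebraMap A' T)) (hB : Function.Surjective (algebraMap B' B))
    (hJ : RingHom.ker (algebraMap B' B) =
      (RingHom.ker (algebraMap A' T)).map (algebraMap A' B')) :
    Function.Bijective ((IsScalarTower.toAlgHom A' B' B).toLinearMap.liftBaseChange T) := by
  have h1 : ∀ t : T ⊗[A'] B', ∃ b' : B', t = (1 : T) ⊗ₜ[A'] b' := by
    intro t
    induction t using TensorProduct.induction_on with
    | zero => exact ⟨0, by simp⟩
    | tmul a b' =>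
      obtain ⟨a', rfl⟩ := hT a
      exact ⟨a' • b', by rw [Algebra.algebraMap_eq_smul_one, TensorProduct.smul_tmul]⟩
    | add x y hx hy =>
      obtain ⟨a, rfl⟩ := hx
      obtain ⟨b, rfl⟩ := hy
      exact ⟨a + b, by rw [TensorProduct.tmul_add]⟩
  constructor
  · rw [injective_iff_map_eq_zero]
    intro t ht
    obtain ⟨b', rfl⟩ := h1 t
    rw [LinearMap.liftBaseChange_tmul, one_smul] at ht
    have hb' : b' ∈ (RingHom.ker (algebraMap A' T)).map (algebraMap A' B') := by
      rw [← hJ]; exact ht
    have key : ∀ c : B', (1 : T) ⊗ₜ[A'] (c * b') = 0 := by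
      refine Submodule.span_induction (p := fun x _ => ∀ c : B', (1 : T) ⊗ₜ[A'] (c * x) = 0)
        ?_ ?_ ?_ ?_ hb'
      · rintro x ⟨i, hi, rfl⟩ c
        have : c * algebraMap A' B' i = i • c := by rw [Algebra.smul_def, mul_comm]
        rw [this, ← TensorProduct.smul_tmul, ← Algebra.algebraMap_eq_smul_one]
        have hi' : algebraMap A' T i = 0 := hi
        rw [hi', TensorProduct.zero_tmul]
      · intro c; rw [mul_zero, TensorProduct.tmul_zero]
      · intro x y _ _ hx hy c
        rw [mul_add, TensorProduct.tmul_add, hx, hy, add_zero]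
      · intro a x _ hx c
        rw [smul_eq_mul, ← mul_assoc]
        exact hx (c * a)
    have := key 1
    rwa [one_mul] at this
  · intro b
    obtain ⟨b', rfl⟩ := hB b
    exact ⟨(1 : T) ⊗ₜ[A'] b', by rw [LinearMap.liftBaseChange_tmul, one_smul]; rfl⟩

/-- Nakayama for a square-zero ideal. -/
theorem eq_top_of_sup_smul {R M : Type u} [CommRing R] [AddCommGroup M] [Module R M]
    (I : Ideal R) (hI : I ^ 2 = ⊥) (N : Submodule R M) (h : N ⊔ I • ⊤ = ⊤) : N = ⊤ := by
  have h2 : (I • ⊤ : Submodule R M) ≤ N := by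
    calc (I • ⊤ : Submodule R M) = I • (N ⊔ I • ⊤) := by rw [h]
      _ = I • N ⊔ I • (I • ⊤ : Submodule R M) := Submodule.smul_sup _ _ _
      _ = I • N ⊔ (I * I) • (⊤ : Submodule R M) := by rw [Submodule.mul_smul]
      _ = I • N := by rw [← pow_two, hI, Submodule.bot_smul, sup_bot_eq]
      _ ≤ N := Submodule.smul_le_right
  rw [← h]
  exact (sup_eq_left.mpr h2).symm


/-- Step 1: flatness. -/
theorem flat_of (A' : Type u) [CommRing A'] (A : Type u) [CommRing A]
    [Algebra A' A] (hA : Function.Surjective (algebraMap A' A))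
    (hI : RingHom.ker (algebraMap A' A) ^ 2 = ⊥)
    (B' : Type u) [CommRing B'] [Algebra A' B'] (B : Type u) [CommRing B] [Algebra B' B]
    [Algebra A B] [Algebra A' B] [IsScalarTower A' A B] [IsScalarTower A' B' B]
    (hB : Function.Surjective (algebraMap B' B))
    [Module.Flat A B]
    (hJI : RingHom.ker (algebraMap B' B) = (RingHom.ker (algebraMap A' A)).map (algebraMap A' B'))
    (hinj : Function.Injective ((RingHom.ker (algebraMap A' A)).subtype.baseChange B')) :
    Module.Flat A' B' := by
  set I : Ideal A' := RingHom.ker (algebraMap A' A) with hIdef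
  letI a1 : Algebra (A' ⧸ I) A := (Ideal.Quotient.lift I (algebraMap A' A) (fun a ha => ha)).toAlgebra
  haveI t1 : IsScalarTower A' (A' ⧸ I) A := IsScalarTower.of_algebraMap_eq (fun x => rfl)
  have hbij : Function.Bijective (algebraMap (A' ⧸ I) A) := by
    constructor
    · rw [injective_iff_map_eq_zero]
      intro x hx
      obtain ⟨x, rfl⟩ := Ideal.Quotient.mk_surjective x
      exact Ideal.Quotient.eq_zero_iff_mem.mpr hx
    · intro a
      obtain ⟨a', rfl⟩ := hA a
      exact ⟨Ideal.Quotient.mk I a', rfl⟩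
  haveI f1 : Module.Flat (A' ⧸ I) A :=
    Module.Flat.of_linearEquiv (LinearEquiv.ofBijective (Algebra.linearMap (A' ⧸ I) A) hbij).symm
  letI a2 : Algebra (A' ⧸ I) B := ((algebraMap A B).comp (algebraMap (A' ⧸ I) A)).toAlgebra
  haveI t2 : IsScalarTower (A' ⧸ I) A B := IsScalarTower.of_algebraMap_eq (fun x => rfl)
  haveI t3 : IsScalarTower A' (A' ⧸ I) B := IsScalarTower.of_algebraMap_eq (fun x => by
    show algebraMap A' B x = algebraMap A B (algebraMap A' A x)
    rw [← IsScalarTower.algebraMap_apply])
  haveI f2 : Module.Flat (A' ⧸ I) B := Module.Flat.trans (A' ⧸ I) A B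
  have hb := bij_lift (A' := A') (T := A' ⧸ I) (B' := B') (B := B) Ideal.Quotient.mk_surjective hB
    (by rw [hJI]; congr 1; exact (Ideal.mk_ker).symm)
  haveI f3 : Module.Flat (A' ⧸ I) ((A' ⧸ I) ⊗[A'] B') :=
    Module.Flat.of_linearEquiv (LinearEquiv.ofBijective _ hb)
  have hnil : IsNilpotent I := ⟨2, by rw [hI]; rfl⟩
  refine Groth.Agent.Lib.helper24.NilFlat.flat_of_isNilpotent I B' hnil ?_
  -- translate injectivity
  have hcomm : (I.subtype.rTensor B') =
      (TensorProduct.comm A' B' A').toLinearMap ∘ₗ ((I.subtype.lTensor B') ∘ₗ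
        (TensorProduct.comm A' I B').toLinearMap) := by
    ext i b
    simp
  rw [hcomm]
  have hinj' : Function.Injective (I.subtype.lTensor B') := hinj
  exact (TensorProduct.comm A' B' A').injective.comp (hinj'.comp (TensorProduct.comm A' I B').injective)


/-- Nakayama for a square-zero ideal, relative form. -/
theorem le_of_le_sup_smul {R M : Type u} [CommRing R] [AddCommGroup M] [Module R M]
    (I : Ideal R) (hI : I ^ 2 = ⊥) (N L : Submodule R M) (h : N ≤ L ⊔ I • N) : N ≤ L := by
  have h2 : I • N ≤ L := by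
    calc I • N ≤ I • (L ⊔ I • N) := Submodule.smul_mono le_rfl h
      _ = I • L ⊔ I • (I • N) := Submodule.smul_sup _ _ _
      _ = I • L ⊔ (I * I) • N := by rw [Submodule.mul_smul]
      _ = I • L := by rw [← pow_two, hI, Submodule.bot_smul, sup_bot_eq]
      _ ≤ L := Submodule.smul_le_right
  exact h.trans (sup_le le_rfl h2)

/-- Step 2: finite presentation. -/
theorem fp_of (A' : Type u) [CommRing A'] (A : Type u) [CommRing A]
    [Algebra A' A] (hA : Function.Surjective (algebraMap A' A))
    (hI : RingHom.ker (algebraMap A' A) ^ 2 = ⊥)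
    (B' : Type u) [CommRing B'] [Algebra A' B'] (B : Type u) [CommRing B] [Algebra B' B]
    [Algebra A B] [Algebra A' B] [IsScalarTower A' A B] [IsScalarTower A' B' B]
    (hB : Function.Surjective (algebraMap B' B))
    [hfp : Algebra.FinitePresentation A B] [Module.Flat A' B']
    (hJI : RingHom.ker (algebraMap B' B) = (RingHom.ker (algebraMap A' A)).map (algebraMap A' B')) :
    Algebra.FinitePresentation A' B' := by
  classical
  set I : Ideal A' := RingHom.ker (algebraMap A' A) with hIdef
  obtain ⟨n, φ, hφ, hK⟩ := hfp.out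
  choose b' hb' using fun i : Fin n => hB (φ (MvPolynomial.X i))
  let φ' : MvPolynomial (Fin n) A' →ₐ[A'] B' := MvPolynomial.aeval b'
  let μ : MvPolynomial (Fin n) A' →+* MvPolynomial (Fin n) A := MvPolynomial.map (algebraMap A' A)
  have hμ : Function.Surjective μ := MvPolynomial.map_surjective _ hA
  have hcompat : ∀ p, algebraMap B' B (φ' p) = φ (μ p) := by
    intro p
    induction p using MvPolynomial.induction_on with
    | C a =>
      simp only [φ', μ, MvPolynomial.aeval_C, MvPolynomial.map_C]
      rw [← MvPolynomial.algebraMap_eq, φ.commutes, ← IsScalarTower.algebraMap_apply,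
        ← IsScalarTower.algebraMap_apply]
    | add p q hp hq => simp only [map_add, hp, hq]
    | mul_X p i hp =>
      simp only [map_mul, hp]
      congr 1
      simp [φ', μ, hb']
  have hJsm : ∀ x : B', algebraMap B' B x = 0 → x ∈ (I • ⊤ : Submodule A' B') := by
    intro x hx
    rw [Ideal.smul_top_eq_map, Submodule.restrictScalars_mem, ← hJI]
    exact hx
  have hμI : ∀ x ∈ (I • ⊤ : Submodule A' (MvPolynomial (Fin n) A')), μ x = 0 := by
    intro x hx
    refine Submodule.smul_induction_on hx ?_ ?_
    · intro i hi p _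
      have hi' : algebraMap A' A i = 0 := hi
      rw [Algebra.smul_def, map_mul, MvPolynomial.algebraMap_eq]
      simp only [μ, MvPolynomial.map_C, hi', map_zero, zero_mul]
    · intro x y hx hy
      rw [map_add, hx, hy, add_zero]
  -- surjectivity
  have hsurj : Function.Surjective φ' := by
    have h1 : LinearMap.range φ'.toLinearMap = ⊤ := by
      apply eq_top_of_sup_smul I hI
      rw [eq_top_iff]
      intro x _
      obtain ⟨p, hp⟩ := hφ (algebraMap B' B x)
      obtain ⟨p', rfl⟩ := hμ p
      have h2 : algebraMap B' B (x - φ' p') = 0 := by rw [map_sub, hcompat, hp, sub_self]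
      have h3 : x = φ' p' + (x - φ' p') := by ring
      rw [h3]
      exact Submodule.add_mem_sup ⟨p', rfl⟩ (hJsm _ h2)
    exact LinearMap.range_eq_top.mp h1
  -- kernel
  set K' : Ideal (MvPolynomial (Fin n) A') := RingHom.ker φ'.toRingHom with hK'def
  set K : Ideal (MvPolynomial (Fin n) A) := RingHom.ker φ.toRingHom with hKdef
  have hlift : ∀ k : MvPolynomial (Fin n) A, k ∈ K → ∃ k' : MvPolynomial (Fin n) A', k' ∈ K' ∧ μ k' = k := by
    intro k hk
    obtain ⟨p', rfl⟩ := hμ k
    have h1 : algebraMap B' B (φ' p') = 0 := by rw [hcompat]; exact hk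
    have h2 : φ' p' ∈ (I • ⊤ : Submodule A' B') := hJsm _ h1
    have h3 : (I • ⊤ : Submodule A' B') =
        Submodule.map φ'.toLinearMap (I • ⊤ : Submodule A' (MvPolynomial (Fin n) A')) := by
      rw [Submodule.map_smul'', Submodule.map_top, LinearMap.range_eq_top.mpr hsurj]
    rw [h3] at h2
    obtain ⟨q, hq, hq'⟩ := h2
    refine ⟨p' - q, ?_, ?_⟩
    · show φ' (p' - q) = 0
      rw [map_sub]
      exact sub_eq_zero.mpr hq'.symm
    · rw [map_sub, hμI q hq, sub_zero]
  choose! g hg using hlift
  obtain ⟨s, hs⟩ := hK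
  let L : Ideal (MvPolynomial (Fin n) A') := Ideal.span ((s.image g : Finset _) : Set _)
  have hLK' : L ≤ K' := by
    rw [Ideal.span_le]
    intro x hx
    rw [Finset.coe_image] at hx
    obtain ⟨k, hk, rfl⟩ := hx
    exact (hg k (hs ▸ Ideal.subset_span hk)).1
  have hmapL : Ideal.map μ L = K := by
    rw [Ideal.map_span, ← hs, Finset.coe_image, Set.image_image]
    congr 1
    ext x
    constructor
    · rintro ⟨k, hk, rfl⟩
      show μ (g k) ∈ (s : Set _)
      rw [(hg k (hs ▸ Ideal.subset_span hk)).2]
      exact hk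
    · intro hx
      exact ⟨x, hx, (hg x (hs ▸ Ideal.subset_span hx)).2⟩
  have hK'L : K' ≤ L := by
    have : K'.restrictScalars A' ≤ L.restrictScalars A' := by
      apply le_of_le_sup_smul I hI
      intro x hx
      have hx' : x ∈ K' := hx
      have h1 : μ x ∈ K := by
        show φ (μ x) = 0
        rw [← hcompat]
        have : φ' x = 0 := hx'
        rw [this, map_zero]
      rw [← hmapL] at h1
      obtain ⟨y, hy, hyx⟩ := (Ideal.mem_map_iff_of_surjective μ hμ).mp h1
      have h2 : x - y ∈ K' := K'.sub_mem hx' (hLK' hy)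
      have h3 : μ (x - y) = 0 := by rw [map_sub, hyx, sub_self]
      have h4 : x - y ∈ (I • ⊤ : Submodule A' (MvPolynomial (Fin n) A')) := by
        have : x - y ∈ RingHom.ker μ := h3
        rw [MvPolynomial.ker_map] at this
        rw [Ideal.smul_top_eq_map, Submodule.restrictScalars_mem]
        exact this
      have h5 := Groth.Agent.Lib.helper3.AdicIso.mem_smul_top_ker_of_flat φ'.toLinearMap hsurj I
        ⟨x - y, h2⟩ h4
      have h6 : x - y ∈ I • K'.restrictScalars A' := by
        have h7 : (I • ⊤ : Submodule A' (LinearMap.ker φ'.toLinearMap)).map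
            (LinearMap.ker φ'.toLinearMap).subtype = I • LinearMap.ker φ'.toLinearMap := by
          rw [Submodule.map_smul'', Submodule.map_subtype_top]
        have h8 : x - y ∈ (I • ⊤ : Submodule A' (LinearMap.ker φ'.toLinearMap)).map
            (LinearMap.ker φ'.toLinearMap).subtype := ⟨⟨x - y, h2⟩, h5, rfl⟩
        rw [h7] at h8
        exact h8
      have h9 : x = y + (x - y) := by ring
      rw [h9]
      exact Submodule.add_mem_sup hy h6
    exact this
  have hfg : K'.FG := by
    rw [le_antisymm hK'L hLK']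
    exact ⟨s.image g, rfl⟩
  exact ⟨⟨n, φ', hsurj, hfg⟩⟩


/-- Step 3: formally unramified. -/
theorem unram_of (A' : Type u) [CommRing A'] (A : Type u) [CommRing A]
    [Algebra A' A] (hA : Function.Surjective (algebraMap A' A))
    (hI : RingHom.ker (algebraMap A' A) ^ 2 = ⊥)
    (B' : Type u) [CommRing B'] [Algebra A' B'] (B : Type u) [CommRing B] [Algebra B' B]
    [Algebra A B] [Algebra A' B] [IsScalarTower A' A B] [IsScalarTower A' B' B]
    (hB : Function.Surjective (algebraMap B' B))
    [Algebra.FormallyUnramified A B]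
    (hJI : RingHom.ker (algebraMap B' B) = (RingHom.ker (algebraMap A' A)).map (algebraMap A' B')) :
    Algebra.FormallyUnramified A' B' := by
  set I : Ideal A' := RingHom.ker (algebraMap A' A) with hIdef
  letI a1 : Algebra (A' ⧸ I) A := (Ideal.Quotient.lift I (algebraMap A' A) (fun a ha => ha)).toAlgebra
  haveI t1 : IsScalarTower A' (A' ⧸ I) A := IsScalarTower.of_algebraMap_eq (fun x => rfl)
  have hsurj : Function.Surjective (algebraMap (A' ⧸ I) A) := by
    intro a
    obtain ⟨a', rfl⟩ := hA a
    exact ⟨Ideal.Quotient.mk I a', rfl⟩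
  haveI f1 : Algebra.FormallyUnramified (A' ⧸ I) A :=
    Algebra.FormallyUnramified.of_surjective (Algebra.ofId (A' ⧸ I) A) hsurj
  letI a2 : Algebra (A' ⧸ I) B := ((algebraMap A B).comp (algebraMap (A' ⧸ I) A)).toAlgebra
  haveI t2 : IsScalarTower (A' ⧸ I) A B := IsScalarTower.of_algebraMap_eq (fun x => rfl)
  haveI t3 : IsScalarTower A' (A' ⧸ I) B := IsScalarTower.of_algebraMap_eq (fun x => by
    show algebraMap A' B x = algebraMap A B (algebraMap A' A x)
    rw [← IsScalarTower.algebraMap_apply])
  haveI f2 : Algebra.FormallyUnramified (A' ⧸ I) B := Algebra.FormallyUnramified.comp (A' ⧸ I) A B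
  have hb := bij_lift (A' := A') (T := A' ⧸ I) (B' := B') (B := B) Ideal.Quotient.mk_surjective hB
    (by rw [hJI]; congr 1; exact (Ideal.mk_ker).symm)
  haveI hp : Algebra.IsPushout A' (A' ⧸ I) B' B := by
    constructor
    exact IsBaseChange.of_equiv (LinearEquiv.ofBijective _ hb) (fun x => by
      rw [LinearEquiv.ofBijective_apply, LinearMap.liftBaseChange_tmul, one_smul])
  constructor
  haveI u1 : Subsingleton ((A' ⧸ I) ⊗[A'] Ω[B'⁄A']) :=
    (KaehlerDifferential.tensorKaehlerEquivBase A' (A' ⧸ I) B' B).subsingleton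
  haveI u2 : Subsingleton (Ω[B'⁄A'] ⧸ (I • ⊤ : Submodule A' Ω[B'⁄A'])) :=
    (TensorProduct.quotTensorEquivQuotSMul Ω[B'⁄A'] I).symm.subsingleton
  have h1 : (I • ⊤ : Submodule A' Ω[B'⁄A']) = ⊤ := Submodule.Quotient.subsingleton_iff.mp u2
  have h2 : (⊥ : Submodule A' Ω[B'⁄A']) = ⊤ := by
    apply eq_top_of_sup_smul I hI
    rw [bot_sup_eq, h1]
  exact (Submodule.subsingleton_iff A').mp (subsingleton_of_bot_eq_top h2)

open TensorProduct in
/-- Consider surjections A' → A and B' → B with square-zero kernels I and J and a commutative square A'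
→ B', A → B. If A → B is étale and J = I ⊗_A B — that is, J = IB' and the multiplication map B'
⊗_{A'} I → B' is injective — then A' → B' is étale. -/
theorem result (A' : Type u) [CommRing A'] (A : Type u) [CommRing A]
    [Algebra A' A] (hA : Function.Surjective (algebraMap A' A))
    (hI : RingHom.ker (algebraMap A' A) ^ 2 = ⊥)
    (B' : Type u) [CommRing B'] [Algebra A' B'] (B : Type u) [CommRing B] [Algebra B' B]
    [Algebra A B] [Algebra A' B] [IsScalarTower A' A B] [IsScalarTower A' B' B]
    (hB : Function.Surjective (algebraMap B' B)) (hJ : RingHom.ker (algebraMap B' B) ^ 2 = ⊥)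
    [Algebra.Etale A B]
    (hJI : RingHom.ker (algebraMap B' B) = (RingHom.ker (algebraMap A' A)).map (algebraMap A' B'))
    (hinj : Function.Injective ((RingHom.ker (algebraMap A' A)).subtype.baseChange B')) :
    Algebra.Etale A' B' := by
  haveI hfl : Module.Flat A' B' := flat_of A' A hA hI B' B hB hJI hinj
  haveI hfp : Algebra.FinitePresentation A' B' := fp_of A' A hA hI B' B hB hJI
  haveI hun : Algebra.FormallyUnramified A' B' := unram_of A' A hA hI B' B hB hJI
  exact Algebra.Etale.of_formallyUnramified_of_flat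
  

end Groth.Agent.S9462
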