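import Groth.Statements.S9466
import Groth.Agent.Lib.helper14.StrictTensor


set_option autoImplicit false
universe u
open Hensel


namespace H14S9466

open TensorProduct IsLocalRing Groth.Agent.Lib.helper14.StrictTensor

set_option maxHeartbeats 800000 in
theorem main (A B C : Type u) [CommRing A] [CommRing B]
    [CommRing C] [Algebra A B] [Algebra A C]
    (pA : Ideal A) [pA.IsPrime] (pB : Ideal B) [pB.IsPrime] [pB.LiesOver pA]
    (pC : Ideal C) [pC.IsPrime]
    (pD : Ideal (B ⊗[A] C)) [pD.IsPrime]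
    [rA : Algebra C (B ⊗[A] C)] (hrA : ∀ c : C, algebraMap C (B ⊗[A] C) c = (1 : B) ⊗ₜ[A] c)
    [pD.LiesOver pC]
    (Ash : Type u) [CommRing Ash] [IsLocalRing Ash] [Algebra (Localization.AtPrime pA) Ash]
    [IsLocalHom (algebraMap (Localization.AtPrime pA) Ash)]
    [Hensel.IsStrictHenselization (Localization.AtPrime pA) Ash] [Algebra A Ash]
    [IsScalarTower A (Localization.AtPrime pA) Ash]
    (Bsh : Type u) [CommRing Bsh] [IsLocalRing Bsh] [Algebra (Localization.AtPrime pB) Bsh]
    [IsLocalHom (algebraMap (Localization.AtPrime pB) Bsh)]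
    [Hensel.IsStrictHenselization (Localization.AtPrime pB) Bsh] [Algebra B Bsh]
    [IsScalarTower B (Localization.AtPrime pB) Bsh] [Algebra A Bsh] [IsScalarTower A B Bsh]
    [Algebra Ash Bsh] [IsScalarTower A Ash Bsh] [IsLocalHom (algebraMap Ash Bsh)]
    (Csh : Type u) [CommRing Csh] [IsLocalRing Csh] [Algebra (Localization.AtPrime pC) Csh]
    [IsLocalHom (algebraMap (Localization.AtPrime pC) Csh)]
    [Hensel.IsStrictHenselization (Localization.AtPrime pC) Csh] [Algebra C Csh]
    [IsScalarTower C (Localization.AtPrime pC) Csh] [Algebra A Csh] [IsScalarTower A C Csh]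
    [Algebra Ash Csh] [IsScalarTower A Ash Csh] [IsLocalHom (algebraMap Ash Csh)]
    (Dsh : Type u) [CommRing Dsh] [IsLocalRing Dsh] [Algebra (Localization.AtPrime pD) Dsh]
    [IsLocalHom (algebraMap (Localization.AtPrime pD) Dsh)]
    [Hensel.IsStrictHenselization (Localization.AtPrime pD) Dsh] [Algebra (B ⊗[A] C) Dsh]
    [IsScalarTower (B ⊗[A] C) (Localization.AtPrime pD) Dsh]
    [Algebra Bsh Dsh] [Algebra B Dsh] [IsScalarTower B Bsh Dsh]
    [IsScalarTower B (B ⊗[A] C) Dsh]
    [Algebra Csh Dsh] [IsLocalHom (algebraMap Csh Dsh)]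
    [Algebra C Dsh] [IsScalarTower C (B ⊗[A] C) Dsh] [IsScalarTower C Csh Dsh]
    [Algebra Ash Dsh] [IsScalarTower Ash Bsh Dsh] [IsScalarTower Ash Csh Dsh]
    (HB : Algebra.IsIntegral Ash (Localization.AtPrime (QQ A B Ash Bsh)))
    (HD : Algebra.IsIntegral Csh (Localization.AtPrime (QQ C (B ⊗[A] C) Csh Dsh))) :
    Function.Bijective (Algebra.TensorProduct.lift (IsScalarTower.toAlgHom Ash Bsh Dsh)
      (IsScalarTower.toAlgHom Ash Csh Dsh) (fun _ _ => Commute.all _ _)) := by
  classical
  have hC : ∀ c : C, algebraMap Csh Dsh (algebraMap C Csh c) =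
      algebraMap (B ⊗[A] C) Dsh ((1 : B) ⊗ₜ[A] c) := by
    intro c
    rw [← IsScalarTower.algebraMap_apply C Csh Dsh, IsScalarTower.algebraMap_apply C (B ⊗[A] C) Dsh,
      hrA]
  -- the map g
  let gB : B →ₐ[A] Csh ⊗[Ash] Bsh :=
    { ((Algebra.TensorProduct.includeRight : Bsh →ₐ[Ash] Csh ⊗[Ash] Bsh).toRingHom.comp
        (algebraMap B Bsh)) with
      commutes' := by
        intro a
        change (1 : Csh) ⊗ₜ[Ash] algebraMap B Bsh (algebraMap A B a) =
          algebraMap A (Csh ⊗[Ash] Bsh) a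
        rw [Algebra.TensorProduct.algebraMap_apply, ← IsScalarTower.algebraMap_apply A B Bsh,
          IsScalarTower.algebraMap_apply A Ash Bsh, IsScalarTower.algebraMap_apply A Ash Csh,
          Algebra.algebraMap_eq_smul_one (algebraMap A Ash a),
          Algebra.algebraMap_eq_smul_one (algebraMap A Ash a), TensorProduct.smul_tmul] }
  let gC : C →ₐ[A] Csh ⊗[Ash] Bsh :=
    { ((Algebra.TensorProduct.includeLeft : Csh →ₐ[Ash] Csh ⊗[Ash] Bsh).toRingHom.comp
        (algebraMap C Csh)) with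
      commutes' := by
        intro a
        change algebraMap C Csh (algebraMap A C a) ⊗ₜ[Ash] (1 : Bsh) =
          algebraMap A (Csh ⊗[Ash] Bsh) a
        rw [Algebra.TensorProduct.algebraMap_apply, ← IsScalarTower.algebraMap_apply A C Csh] }
  let g : B ⊗[A] C →+* Csh ⊗[Ash] Bsh :=
    (Algebra.TensorProduct.lift gB gC (fun _ _ => Commute.all _ _)).toRingHom
  have hg : ∀ (b : B) (c : C), g (b ⊗ₜ[A] c) =
      ((1 : Csh) ⊗ₜ[Ash] algebraMap B Bsh b) * (algebraMap C Csh c ⊗ₜ[Ash] (1 : Bsh)) := by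
    intro b c
    change (Algebra.TensorProduct.lift gB gC (fun _ _ => Commute.all _ _)) (b ⊗ₜ[A] c) = _
    rw [Algebra.TensorProduct.lift_tmul]
    rfl
  have hgB : ∀ b : B, g (algebraMap B (B ⊗[A] C) b) = (1 : Csh) ⊗ₜ[Ash] algebraMap B Bsh b := by
    intro b
    rw [Algebra.TensorProduct.algebraMap_apply, Algebra.algebraMap_self_apply, hg, map_one,
      Algebra.TensorProduct.tmul_mul_tmul, one_mul, mul_one]
  have hgC : ∀ c : C, g (algebraMap C (B ⊗[A] C) c) = algebraMap C Csh c ⊗ₜ[Ash] (1 : Bsh) := by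
    intro c
    rw [hrA, hg, map_one, Algebra.TensorProduct.tmul_mul_tmul, one_mul, mul_one]
  have hgD : ∀ d : B ⊗[A] C, Lam2 Ash Bsh Csh Dsh (g d) = algebraMap (B ⊗[A] C) Dsh d := by
    intro d
    induction d using TensorProduct.induction_on with
    | zero => simp
    | tmul b c =>
      rw [hg, map_mul, Lam2_tmul, Lam2_tmul, map_one, map_one, one_mul, mul_one, hC,
        ← IsScalarTower.algebraMap_apply B Bsh Dsh,
        IsScalarTower.algebraMap_apply B (B ⊗[A] C) Dsh, ← map_mul,
        Algebra.TensorProduct.algebraMap_apply, Algebra.algebraMap_self_apply,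
        Algebra.TensorProduct.tmul_mul_tmul, one_mul, mul_one]
    | add x y hx hy => rw [map_add, map_add, hx, hy, map_add]
  exact master A B C (B ⊗[A] C) pA pB pC pD Ash Bsh Csh Dsh g hgB hgC hgD HB HD

end H14S9466


namespace Groth.Agent.S9466

open TensorProduct in
/-- Let A → B and A → C be ring maps, D = B ⊗_A C, and p_D a prime of D with images p_B, p_C, p_A in B,
C, A. Let A^{sh}, B^{sh}, C^{sh}, D^{sh} be strict henselizations of the local rings A_{p_A},
B_{p_B}, C_{p_C}, D_{p_D}, equipped with local homomorphisms A^{sh} → B^{sh} → D^{sh} and A^{sh} →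
C^{sh} → D^{sh} forming a commutative square compatible with A → B → D and A → C → D (such maps are
the ones attached to a compatible choice of residue-field embeddings into one separably closed
field, and are unique given that choice). If A → B is of finite type and quasi-finite at p_B, then
the induced A^{sh}-algebra map B^{sh} ⊗_{A^{sh}} C^{sh} → D^{sh} is bijective. -/
theorem result (A B C : Type u) [CommRing A] [CommRing B]
    [CommRing C] [Algebra A B] [Algebra A C] [Algebra.FiniteType A B]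
    (pA : Ideal A) [pA.IsPrime] (pB : Ideal B) [pB.IsPrime] [pB.LiesOver pA]
    (pC : Ideal C) [pC.IsPrime] [pC.LiesOver pA]
    (pD : Ideal (B ⊗[A] C)) [pD.IsPrime] [pD.LiesOver pB]
    (hDC : pD.comap (Algebra.TensorProduct.includeRight : C →ₐ[A] B ⊗[A] C).toRingHom = pC)
    (Ash : Type u) [CommRing Ash] [IsLocalRing Ash] [Algebra (Localization.AtPrime pA) Ash]
    [IsLocalHom (algebraMap (Localization.AtPrime pA) Ash)]
    [Hensel.IsStrictHenselization (Localization.AtPrime pA) Ash] [Algebra A Ash]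
    [IsScalarTower A (Localization.AtPrime pA) Ash]
    (Bsh : Type u) [CommRing Bsh] [IsLocalRing Bsh] [Algebra (Localization.AtPrime pB) Bsh]
    [IsLocalHom (algebraMap (Localization.AtPrime pB) Bsh)]
    [Hensel.IsStrictHenselization (Localization.AtPrime pB) Bsh] [Algebra B Bsh]
    [IsScalarTower B (Localization.AtPrime pB) Bsh] [Algebra A Bsh] [IsScalarTower A B Bsh]
    [Algebra Ash Bsh] [IsScalarTower A Ash Bsh] [IsLocalHom (algebraMap Ash Bsh)]
    (Csh : Type u) [CommRing Csh] [IsLocalRing Csh] [Algebra (Localization.AtPrime pC) Csh]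
    [IsLocalHom (algebraMap (Localization.AtPrime pC) Csh)]
    [Hensel.IsStrictHenselization (Localization.AtPrime pC) Csh] [Algebra C Csh]
    [IsScalarTower C (Localization.AtPrime pC) Csh] [Algebra A Csh] [IsScalarTower A C Csh]
    [Algebra Ash Csh] [IsScalarTower A Ash Csh] [IsLocalHom (algebraMap Ash Csh)]
    (Dsh : Type u) [CommRing Dsh] [IsLocalRing Dsh] [Algebra (Localization.AtPrime pD) Dsh]
    [IsLocalHom (algebraMap (Localization.AtPrime pD) Dsh)]
    [Hensel.IsStrictHenselization (Localization.AtPrime pD) Dsh] [Algebra (B ⊗[A] C) Dsh]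
    [IsScalarTower (B ⊗[A] C) (Localization.AtPrime pD) Dsh]
    [Algebra Bsh Dsh] [IsLocalHom (algebraMap Bsh Dsh)] [Algebra B Dsh] [IsScalarTower B Bsh Dsh]
    [IsScalarTower B (B ⊗[A] C) Dsh]
    [Algebra Csh Dsh] [IsLocalHom (algebraMap Csh Dsh)]
    (hC : ∀ c : C, algebraMap Csh Dsh (algebraMap C Csh c) = algebraMap (B ⊗[A] C) Dsh (1 ⊗ₜ[A] c))
    [Algebra Ash Dsh] [IsScalarTower Ash Bsh Dsh] [IsScalarTower Ash Csh Dsh]
    [Algebra.QuasiFiniteAt A pB] :
    Function.Bijective (Algebra.TensorProduct.lift (IsScalarTower.toAlgHom Ash Bsh Dsh)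
      (IsScalarTower.toAlgHom Ash Csh Dsh) (fun _ _ => Commute.all _ _)) := by
  classical
  letI rA := Algebra.TensorProduct.rightAlgebra (R := A) (A := B) (B := C)
  letI algCD : Algebra C Dsh := ((algebraMap (B ⊗[A] C) Dsh).comp
    (algebraMap C (B ⊗[A] C))).toAlgebra
  haveI : IsScalarTower C (B ⊗[A] C) Dsh := IsScalarTower.of_algebraMap_eq' rfl
  haveI : IsScalarTower C Csh Dsh := IsScalarTower.of_algebraMap_eq (fun c => (hC c).symm)
  haveI : pD.LiesOver pC := ⟨hDC.symm⟩
  have HB := Groth.Agent.Lib.helper14.StrictTensor.integral_of_quasiFiniteAt A B pA pB Ash Bsh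
  let e : (C ⊗[A] B) ≃ₐ[C] (B ⊗[A] C) :=
    AlgEquiv.ofRingEquiv (f := (Algebra.TensorProduct.comm A C B).toRingEquiv) (fun c => rfl)
  haveI : Algebra.FiniteType C (B ⊗[A] C) := Algebra.FiniteType.equiv inferInstance e
  haveI : (pD.comap e.toAlgHom.toRingHom).IsPrime := Ideal.comap_isPrime _ _
  have hq : pB = (pD.comap e.toAlgHom.toRingHom).comap
      Algebra.TensorProduct.includeRight.toRingHom := by
    ext x
    change x ∈ pB ↔ e ((1 : C) ⊗ₜ[A] x) ∈ pD
    have h1 : e ((1 : C) ⊗ₜ[A] x) = algebraMap B (B ⊗[A] C) x := by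
      change (Algebra.TensorProduct.comm A C B) ((1 : C) ⊗ₜ[A] x) = _
      rw [Algebra.TensorProduct.comm_tmul, Algebra.TensorProduct.algebraMap_apply,
        Algebra.algebraMap_self_apply]
    rw [h1, (inferInstance : pD.LiesOver pB).over]
    rfl
  haveI : Algebra.QuasiFiniteAt C (pD.comap e.toAlgHom.toRingHom) :=
    Algebra.QuasiFiniteAt.baseChange pB _ hq
  haveI : Algebra.QuasiFiniteAt C pD :=
    Algebra.QuasiFiniteAt.of_surjectiveOnStalks (pD.comap e.toAlgHom.toRingHom) e.toAlgHom
      (RingHom.surjectiveOnStalks_of_surjective e.surjective) pD rfl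
  have HD := Groth.Agent.Lib.helper14.StrictTensor.integral_of_quasiFiniteAt C (B ⊗[A] C) pC pD
    Csh Dsh
  exact H14S9466.main A B C pA pB pC pD (fun c => rfl) Ash Bsh Csh Dsh HB HD

end Groth.Agent.S9466
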