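import Groth.Statements.S9472
import Mathlib
import Groth.Agent.Lib.helper5.DiffEt

set_option autoImplicit false
universe u
open Diff16

namespace Groth.Agent.S9472

open TensorProduct in
/-- Let R → S → S' be ring maps with S → S' formally étale, M an S-module and (P, D_u) a module of
principal parts of order k of M relative to R → S, i.e. D_u : M → P is a differential operator of
order at most k through which every differential operator of order at most k from M to an S-module
factors by a unique S-linear map. If D_u' : S' ⊗_S M → S' ⊗_S P is a differential operator of order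
at most k relative to R → S' with D_u'(1 ⊗ m) = 1 ⊗ D_u(m), then (S' ⊗_S P, D_u') is a module of
principal parts of order k of S' ⊗_S M relative to R → S'. (The published statement writes this as
an identification of S' ⊗_S P^k_{S/R}(M) with P^k_{S'/R}(M') and forms M' by base change over R
rather than over S; with base change over R the identification fails already for k = 0, R the
rationals, S = S' a polynomial ring in one variable and M = S, and the published proof computes with
the base change over S, used here. Target modules are taken in one universe.) -/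
theorem result (R S S' : Type u) [CommRing R]
    [CommRing S] [CommRing S'] [Algebra R S] [Algebra R S'] [Algebra S S'] [IsScalarTower R S S']
    [Algebra.FormallyEtale S S'] (M : Type u) [AddCommGroup M] [Module S M] [Module R M]
    [IsScalarTower R S M] (k : ℕ) (P : Type u) [AddCommGroup P] [Module S P] [Module R P]
    [IsScalarTower R S P] (Du : M →ₗ[R] P) (hDu : Diff16.IsDiffOpLE R S M P k Du)
    (huniv : ∀ (N : Type u) [AddCommGroup N] [Module S N] [Module R N] [IsScalarTower R S N]
      (D : M →ₗ[R] N), Diff16.IsDiffOpLE R S M N k D → ∃! α : P →ₗ[S] N, α.restrictScalars R ∘ₗ Du = D)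
    (Du' : S' ⊗[S] M →ₗ[R] S' ⊗[S] P) (hDu' : Diff16.IsDiffOpLE R S' (S' ⊗[S] M) (S' ⊗[S] P) k Du')
    (hext : Du' ∘ₗ (TensorProduct.mk S S' M 1).restrictScalars R =
      (TensorProduct.mk S S' P 1).restrictScalars R ∘ₗ Du) :
    ∀ (N' : Type u) [AddCommGroup N'] [Module S' N'] [Module R N'] [IsScalarTower R S' N']
      (D' : S' ⊗[S] M →ₗ[R] N'), Diff16.IsDiffOpLE R S' (S' ⊗[S] M) N' k D' →
        ∃! α : S' ⊗[S] P →ₗ[S'] N', α.restrictScalars R ∘ₗ Du' = D' := by
  intro N' _ _ _ _ D' hD'
  letI : Module S N' := Module.compHom N' (algebraMap S S')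
  haveI : IsScalarTower S S' N' := IsScalarTower.of_algebraMap_smul fun _ _ => rfl
  haveI : IsScalarTower R S N' := by
    refine ⟨fun r s n => ?_⟩
    change algebraMap S S' (r • s) • n = r • (algebraMap S S' s • n)
    rw [Algebra.smul_def, map_mul, ← IsScalarTower.algebraMap_apply, mul_smul, algebraMap_smul]
  -- generating set
  have hG : ∀ (s : S), ∀ g ∈ Set.range (TensorProduct.mk S S' M 1), s • g ∈
      Set.range (TensorProduct.mk S S' M 1) := by
    rintro s _ ⟨m, rfl⟩
    exact ⟨s • m, by simp⟩
  have hspan : Submodule.span S' (Set.range (TensorProduct.mk S S' M 1)) = ⊤ := by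
    rw [eq_top_iff]
    rintro x -
    induction x using TensorProduct.induction_on with
    | zero => simp
    | tmul a m =>
      have : a ⊗ₜ[S] m = a • ((1 : S') ⊗ₜ[S] m) := by simp [TensorProduct.smul_tmul']
      rw [this]
      exact Submodule.smul_mem _ _ (Submodule.subset_span ⟨m, rfl⟩)
    | add x y hx hy => exact Submodule.add_mem _ hx hy
  -- the restricted operator
  have hD : Diff16.IsDiffOpLE R S M N' k (D' ∘ₗ (TensorProduct.mk S S' M 1).restrictScalars R) :=
    Groth.Agent.H5.DiffOp.isDiffOpLE_restrict R S S' M (S' ⊗[S] M) N' _ k D' hD'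
  obtain ⟨β, hβ, hβu⟩ := huniv N' _ hD
  have key : ∀ α : S' ⊗[S] P →ₗ[S'] N',
      (∀ m, α ((1 : S') ⊗ₜ[S] Du m) = D' ((1 : S') ⊗ₜ[S] m)) → α.restrictScalars R ∘ₗ Du' = D' := by
    intro α hα
    have h1 : Diff16.IsDiffOpLE R S' (S' ⊗[S] M) N' k (α.restrictScalars R ∘ₗ Du') :=
      Groth.Agent.H5.DiffOp.isDiffOpLE_comp R S' _ _ _ k k 0 (by simp) _ _ hDu'
        (fun b m => by simp)
    have h2 := Groth.Agent.H5.DiffOp.isDiffOpLE_sub R S' _ _ k _ _ h1 hD'
    have h3 := Groth.Agent.H5.DiffOp.eq_zero_of_vanish_on_generators R S S' (S' ⊗[S] M) N' _ hG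
      hspan k _ h2 ?_
    · exact sub_eq_zero.mp h3
    · rintro _ ⟨m, rfl⟩
      have h4 := LinearMap.congr_fun hext m
      simp only [LinearMap.coe_comp, Function.comp_apply, LinearMap.coe_restrictScalars,
        TensorProduct.mk_apply] at h4
      simp only [LinearMap.sub_apply, LinearMap.coe_comp, Function.comp_apply,
        LinearMap.coe_restrictScalars, TensorProduct.mk_apply]
      rw [h4, hα m, sub_self]
  refine ⟨LinearMap.liftBaseChange S' β, ?_, ?_⟩
  · apply key
    intro m
    have := LinearMap.congr_fun hβ m
    simp only [LinearMap.coe_comp, Function.comp_apply, LinearMap.coe_restrictScalars,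
      TensorProduct.mk_apply] at this
    simp [this]
  · intro α hα
    have hα' : ∀ m, α ((1 : S') ⊗ₜ[S] Du m) = D' ((1 : S') ⊗ₜ[S] m) := by
      intro m
      have h4 := LinearMap.congr_fun hext m
      simp only [LinearMap.coe_comp, Function.comp_apply, LinearMap.coe_restrictScalars,
        TensorProduct.mk_apply] at h4
      rw [← h4]
      exact LinearMap.congr_fun hα _
    have hβα : (α.restrictScalars S) ∘ₗ (TensorProduct.mk S S' P 1) = β := by
      apply hβu
      ext m
      simp [hα' m]
    apply TensorProduct.AlgebraTensorModule.ext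
    intro a p
    have h5 : a ⊗ₜ[S] p = a • ((1 : S') ⊗ₜ[S] p) := by simp [TensorProduct.smul_tmul']
    rw [h5, map_smul, map_smul]
    congr 1
    have := LinearMap.congr_fun hβα p
    simp only [LinearMap.coe_comp, Function.comp_apply, LinearMap.coe_restrictScalars,
      TensorProduct.mk_apply] at this
    simp [this]

end Groth.Agent.S9472
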