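import Groth.Statements.S9473
import Groth.Agent.S9466
import Groth.Agent.Lib.helper14.StrictTensor2


set_option autoImplicit false
universe u
open Hensel

namespace Groth.Agent.S9473

open TensorProduct in
/-- Let A → B and A → C be ring maps, D = B ⊗_A C, and p_D a prime of D with images p_B, p_C, p_A in B,
C, A. Let A^{sh}, B^{sh}, C^{sh}, D^{sh} be strict henselizations of the local rings A_{p_A},
B_{p_B}, C_{p_C}, D_{p_D}, equipped with local homomorphisms A^{sh} → B^{sh} → D^{sh} and A^{sh} →
C^{sh} → D^{sh} forming a commutative square compatible with A → B → D and A → C → D (such maps are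
the ones attached to a compatible choice of residue-field embeddings into one separably closed
field, and are unique given that choice). If B_{p_B}, an A_{p_A}-algebra through the induced map, is
a filtered colimit of quasi-finite A_{p_A}-algebras — every finite subset of B_{p_B} lies in an
A_{p_A}-subalgebra of finite type which is quasi-finite — then the induced A^{sh}-algebra map B^{sh}
⊗_{A^{sh}} C^{sh} → D^{sh} is bijective. -/
theorem result (A B C : Type u) [CommRing A] [CommRing B]
    [CommRing C] [Algebra A B] [Algebra A C]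
    (pA : Ideal A) [pA.IsPrime] (pB : Ideal B) [pB.IsPrime] [pB.LiesOver pA]
    (pC : Ideal C) [pC.IsPrime] [pC.LiesOver pA]
    (pD : Ideal (B ⊗[A] C)) [pD.IsPrime] [pD.LiesOver pB]
    (hDC : pD.comap (Algebra.TensorProduct.includeRight : C →ₐ[A] B ⊗[A] C).toRingHom = pC)
    (Ash : Type u) [CommRing Ash] [IsLocalRing Ash] [Algebra (Localization.AtPrime pA) Ash]
    [IsLocalHom (algebraMap (Localization.AtPrime pA) Ash)]
    [Hensel.IsStrictHenselization (Localization.AtPrime pA) Ash] [Algebra A Ash]
    [IsScalarTower A (Localization.AtPrime pA) Ash]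
    (Bsh : Type u) [CommRing Bsh] [IsLocalRing Bsh] [Algebra (Localization.AtPrime pB) Bsh]
    [IsLocalHom (algebraMap (Localization.AtPrime pB) Bsh)]
    [Hensel.IsStrictHenselization (Localization.AtPrime pB) Bsh] [Algebra B Bsh]
    [IsScalarTower B (Localization.AtPrime pB) Bsh] [Algebra A Bsh] [IsScalarTower A B Bsh]
    [Algebra Ash Bsh] [IsScalarTower A Ash Bsh] [IsLocalHom (algebraMap Ash Bsh)]
    (Csh : Type u) [CommRing Csh] [IsLocalRing Csh] [Algebra (Localization.AtPrime pC) Csh]
    [IsLocalHom (algebraMap (Localization.AtPrime pC) Csh)]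
    [Hensel.IsStrictHenselization (Localization.AtPrime pC) Csh] [Algebra C Csh]
    [IsScalarTower C (Localization.AtPrime pC) Csh] [Algebra A Csh] [IsScalarTower A C Csh]
    [Algebra Ash Csh] [IsScalarTower A Ash Csh] [IsLocalHom (algebraMap Ash Csh)]
    (Dsh : Type u) [CommRing Dsh] [IsLocalRing Dsh] [Algebra (Localization.AtPrime pD) Dsh]
    [IsLocalHom (algebraMap (Localization.AtPrime pD) Dsh)]
    [Hensel.IsStrictHenselization (Localization.AtPrime pD) Dsh] [Algebra (B ⊗[A] C) Dsh]
    [IsScalarTower (B ⊗[A] C) (Localization.AtPrime pD) Dsh]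
    [Algebra Bsh Dsh] [IsLocalHom (algebraMap Bsh Dsh)] [Algebra B Dsh] [IsScalarTower B Bsh Dsh]
    [IsScalarTower B (B ⊗[A] C) Dsh]
    [Algebra Csh Dsh] [IsLocalHom (algebraMap Csh Dsh)]
    (hC : ∀ c : C, algebraMap Csh Dsh (algebraMap C Csh c) = algebraMap (B ⊗[A] C) Dsh (1 ⊗ₜ[A] c))
    [Algebra Ash Dsh] [IsScalarTower Ash Bsh Dsh] [IsScalarTower Ash Csh Dsh]
    [Algebra (Localization.AtPrime pA) (Localization.AtPrime pB)]
    [IsScalarTower A (Localization.AtPrime pA) (Localization.AtPrime pB)]
    (hB : ∀ s : Finset (Localization.AtPrime pB),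
      ∃ B₀ : Subalgebra (Localization.AtPrime pA) (Localization.AtPrime pB),
        (↑s : Set (Localization.AtPrime pB)) ⊆ ↑B₀ ∧
          Algebra.FiniteType (Localization.AtPrime pA) ↥B₀ ∧
            Algebra.QuasiFinite (Localization.AtPrime pA) ↥B₀) :
    Function.Bijective (Algebra.TensorProduct.lift (IsScalarTower.toAlgHom Ash Bsh Dsh)
      (IsScalarTower.toAlgHom Ash Csh Dsh) (fun _ _ => Commute.all _ _)) := by
  classical
  letI rA := Algebra.TensorProduct.rightAlgebra (R := A) (A := B) (B := C)
  letI algCD : Algebra C Dsh := ((algebraMap (B ⊗[A] C) Dsh).comp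
    (algebraMap C (B ⊗[A] C))).toAlgebra
  haveI : IsScalarTower C (B ⊗[A] C) Dsh := IsScalarTower.of_algebraMap_eq' rfl
  haveI : IsScalarTower C Csh Dsh := IsScalarTower.of_algebraMap_eq (fun c => (hC c).symm)
  haveI : pD.LiesOver pC := ⟨hDC.symm⟩
  letI hAh : HenselianLocalRing Ash :=
    (inferInstance : Hensel.IsStrictHenselization (Localization.AtPrime pA) Ash).henselian
  letI hCh : HenselianLocalRing Csh :=
    (inferInstance : Hensel.IsStrictHenselization (Localization.AtPrime pC) Csh).henselian
  -- HB
  have HB : Algebra.IsIntegral Ash (Localization.AtPrime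
      (Groth.Agent.Lib.helper14.StrictTensor.QQ A B Ash Bsh)) := by
    refine Groth.Agent.Lib.helper14.StrictTensor.integral_of_loc_indQF A pA B pB hB Ash
      (Ash ⊗[A] B) (Algebra.TensorProduct.includeRight : B →ₐ[A] Ash ⊗[A] B).toRingHom ?_ ?_
      (Groth.Agent.Lib.helper14.StrictTensor.QQ A B Ash Bsh)
      (Groth.Agent.Lib.helper14.StrictTensor.QQ_liesOver A B Ash Bsh) ?_
    · intro r
      change (1 : Ash) ⊗ₜ[A] algebraMap A B r = _
      rw [Algebra.TensorProduct.algebraMap_apply, Algebra.algebraMap_self_apply,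
        Algebra.algebraMap_eq_smul_one r, Algebra.algebraMap_eq_smul_one r,
        TensorProduct.smul_tmul]
    · rw [eq_top_iff]
      intro x hx0
      clear hx0
      induction x using TensorProduct.induction_on with
      | zero => exact Submodule.zero_mem _
      | tmul r s =>
        have : r ⊗ₜ[A] s = r • ((1 : Ash) ⊗ₜ[A] s) := by
          rw [TensorProduct.smul_tmul', smul_eq_mul, mul_one]
        rw [this]
        exact Submodule.smul_mem _ _ (Submodule.subset_span ⟨s, rfl⟩)
      | add x y hx hy => exact Submodule.add_mem _ hx hy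
    · intro t ht h
      apply ht
      rw [Groth.Agent.Lib.helper14.StrictTensor.QQ_comap A B pB Ash Bsh]
      exact h
  -- HD
  letI algApCsh : Algebra (Localization.AtPrime pA) Csh :=
    ((algebraMap Ash Csh).comp (algebraMap (Localization.AtPrime pA) Ash)).toAlgebra
  haveI : IsScalarTower A (Localization.AtPrime pA) Csh := by
    refine IsScalarTower.of_algebraMap_eq (fun a => ?_)
    change algebraMap A Csh a = algebraMap Ash Csh (algebraMap (Localization.AtPrime pA) Ash
      (algebraMap A (Localization.AtPrime pA) a))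
    rw [← IsScalarTower.algebraMap_apply A (Localization.AtPrime pA) Ash,
      ← IsScalarTower.algebraMap_apply A Ash Csh]
  have HD : Algebra.IsIntegral Csh (Localization.AtPrime
      (Groth.Agent.Lib.helper14.StrictTensor.QQ C (B ⊗[A] C) Csh Dsh)) := by
    refine Groth.Agent.Lib.helper14.StrictTensor.integral_of_loc_indQF A pA B pB hB Csh
      (Csh ⊗[C] (B ⊗[A] C))
      ((Algebra.TensorProduct.includeRight : (B ⊗[A] C) →ₐ[C] Csh ⊗[C] (B ⊗[A] C)).toRingHom.comp
        (algebraMap B (B ⊗[A] C))) ?_ ?_
      (Groth.Agent.Lib.helper14.StrictTensor.QQ C (B ⊗[A] C) Csh Dsh)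
      (Groth.Agent.Lib.helper14.StrictTensor.QQ_liesOver C (B ⊗[A] C) Csh Dsh) ?_
    · intro a
      change (1 : Csh) ⊗ₜ[C] (algebraMap B (B ⊗[A] C) (algebraMap A B a)) = _
      have h1 : algebraMap B (B ⊗[A] C) (algebraMap A B a) =
          algebraMap C (B ⊗[A] C) (algebraMap A C a) := by
        rw [Algebra.TensorProduct.algebraMap_apply, Algebra.algebraMap_self_apply]
        change _ = (1 : B) ⊗ₜ[A] algebraMap A C a
        rw [Algebra.algebraMap_eq_smul_one a, Algebra.algebraMap_eq_smul_one a,
          TensorProduct.smul_tmul]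
      rw [h1, Algebra.TensorProduct.algebraMap_apply, Algebra.algebraMap_self_apply,
        IsScalarTower.algebraMap_apply A C Csh,
        Algebra.algebraMap_eq_smul_one (algebraMap A C a),
        Algebra.algebraMap_eq_smul_one (algebraMap A C a), TensorProduct.smul_tmul]
    · rw [eq_top_iff]
      intro x hx0
      clear hx0
      have key : ∀ (d : B ⊗[A] C) (c' : Csh), c' ⊗ₜ[C] d ∈ Submodule.span Csh
          (Set.range ((Algebra.TensorProduct.includeRight :
            (B ⊗[A] C) →ₐ[C] Csh ⊗[C] (B ⊗[A] C)).toRingHom.comp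
              (algebraMap B (B ⊗[A] C)))) := by
        intro d
        induction d using TensorProduct.induction_on with
        | zero => intro c'; rw [TensorProduct.tmul_zero]; exact Submodule.zero_mem _
        | tmul b c =>
          intro c'
          have h1 : b ⊗ₜ[A] c = c • (algebraMap B (B ⊗[A] C) b) := by
            rw [Algebra.smul_def, Algebra.TensorProduct.algebraMap_apply,
              Algebra.algebraMap_self_apply]
            change _ = ((1 : B) ⊗ₜ[A] c) * (b ⊗ₜ[A] (1 : C))
            rw [Algebra.TensorProduct.tmul_mul_tmul, one_mul, mul_one]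
          have h2 : c' ⊗ₜ[C] (b ⊗ₜ[A] c) = (c • c') • ((1 : Csh) ⊗ₜ[C]
              (algebraMap B (B ⊗[A] C) b)) := by
            rw [h1, ← TensorProduct.smul_tmul, TensorProduct.smul_tmul', smul_eq_mul, mul_one]
          rw [h2]
          exact Submodule.smul_mem _ _ (Submodule.subset_span ⟨b, rfl⟩)
        | add x y hx hy =>
          intro c'
          rw [TensorProduct.tmul_add]
          exact Submodule.add_mem _ (hx c') (hy c')
      induction x using TensorProduct.induction_on with
      | zero => exact Submodule.zero_mem _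
      | tmul c' d => exact key d c'
      | add x y hx hy => exact Submodule.add_mem _ hx hy
    · intro t ht h
      have h1 : Groth.Agent.Lib.helper14.StrictTensor.lam C (B ⊗[A] C) Csh Dsh
          ((1 : Csh) ⊗ₜ[C] (algebraMap B (B ⊗[A] C) t)) ∈ IsLocalRing.maximalIdeal Dsh := h
      rw [Groth.Agent.Lib.helper14.StrictTensor.lam_right,
        ← IsScalarTower.algebraMap_apply B (B ⊗[A] C) Dsh,
        IsScalarTower.algebraMap_apply B Bsh Dsh] at h1
      have hu : IsUnit (algebraMap B Bsh t) := by
        rw [IsScalarTower.algebraMap_apply B (Localization.AtPrime pB) Bsh]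
        exact (IsLocalization.map_units (Localization.AtPrime pB)
          (⟨t, ht⟩ : pB.primeCompl)).map _
      exact h1 (hu.map _)
  exact H14S9466.main A B C pA pB pC pD (fun c => rfl) Ash Bsh Csh Dsh HB HD

end Groth.Agent.S9473
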