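import Groth.Statements.S9474
import Mathlib
import Groth.Agent.S12085
-- import your own Groth.Agent.* helpers here

set_option autoImplicit false
universe u
open CAlg

namespace Groth.Agent.S9474

open TensorProduct in
/-- If R → S is unramified (of finite type with vanishing module of differentials), then there are a
finite type ℤ-algebra R₀, an unramified R₀-algebra S₀, a ring map R₀ → R, and a surjective R-algebra
map from R ⊗_{R₀} S₀ onto S. -/
theorem result (R : Type u) [CommRing R] (S : Type u)
    [CommRing S] [Algebra R S] [Algebra.Unramified R S] :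
    ∃ (R₀ : Type u) (_ : CommRing R₀) (_ : Algebra.FiniteType ℤ R₀) (S₀ : Type u) (_ : CommRing S₀)
      (_ : Algebra R₀ S₀) (_ : Algebra.Unramified R₀ S₀) (_ : Algebra R₀ R)
      (ψ : R ⊗[R₀] S₀ →ₐ[R] S), Function.Surjective ψ := by
  classical
  have hU : Algebra.FormallyUnramified R S := inferInstance
  have hFT : Algebra.FiniteType R S := Algebra.Unramified.finiteType
  obtain ⟨n, f, hf⟩ := Algebra.FiniteType.iff_quotient_mvPolynomial''.mp hFT
  letI : Algebra (MvPolynomial (Fin n) R) S := f.toRingHom.toAlgebra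
  haveI : IsScalarTower R (MvPolynomial (Fin n) R) S := .of_algebraMap_eq' f.comp_algebraMap.symm
  have hsurj : Function.Surjective (algebraMap (MvPolynomial (Fin n) R) S) := hf
  choose x hxI hx using fun i =>
    Groth.Agent.S12085.exists_of_subsingleton (R := R) (ι := Fin n) (S := S) hsurj i
  let J : Ideal (MvPolynomial (Fin n) R) := Ideal.span (Set.range x ∪
    Set.range (fun ij : Fin n × Fin n => MvPolynomial.pderiv ij.2 (x ij.1) - (if ij.2 = ij.1 then 1 else 0)))
  have hJ : J ≤ RingHom.ker f.toRingHom := by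
    rw [Ideal.span_le]
    rintro _ (⟨i, rfl⟩ | ⟨⟨i, j⟩, rfl⟩)
    · exact hxI i
    · show algebraMap (MvPolynomial (Fin n) R) S _ = 0
      rw [map_sub, hx i j]
      split_ifs <;> simp
  have hJfg : J.FG := by
    have hfin : (Set.range x ∪ Set.range (fun ij : Fin n × Fin n =>
        MvPolynomial.pderiv ij.2 (x ij.1) - (if ij.2 = ij.1 then 1 else 0))).Finite :=
      (Set.finite_range x).union (Set.finite_range _)
    exact ⟨hfin.toFinset, by simp [J]⟩
  haveI : Algebra.FinitePresentation R (MvPolynomial (Fin n) R ⧸ J) :=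
    Algebra.FinitePresentation.quotient hJfg
  haveI : Algebra.FormallyUnramified R (MvPolynomial (Fin n) R ⧸ J) := by
    apply Groth.Agent.S12085.formallyUnramified_of_exists
    intro i
    refine ⟨x i, Ideal.subset_span (Or.inl ⟨i, rfl⟩), fun j => ?_⟩
    exact Ideal.subset_span (Or.inr ⟨(i, j), rfl⟩)
  let g : (MvPolynomial (Fin n) R ⧸ J) →ₐ[R] S := Ideal.Quotient.liftₐ J f (fun a ha => hJ ha)
  have hg : Function.Surjective g := by
    intro s
    obtain ⟨p, rfl⟩ := hf s
    exact ⟨Ideal.Quotient.mk J p, by simp [g]⟩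
  obtain ⟨R₀, i1, i2, S₀, i3, i4, i5, i6, i7, ⟨e⟩⟩ :=
    Groth.Agent.S12085.result R (MvPolynomial (Fin n) R ⧸ J)
  refine ⟨R₀, i1, i2, S₀, i3, i4, ⟨i6, inferInstance⟩, i7, g.comp e.toAlgHom, ?_⟩
  exact hg.comp e.surjective

end Groth.Agent.S9474
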