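import Groth.Statements.S9495
import Mathlib

set_option autoImplicit false
universe u
open SchMor

namespace Groth.Agent.S9495

open AlgebraicGeometry CategoryTheory CategoryTheory.Limits in
/-- affine target case -/
theorem isClosed_range_of_affine_target {X : Scheme.{u}} {R : CommRingCat.{u}} (f : X ⟶ Spec R)
    [QuasiCompact f] (H : StableUnderSpecialization (Set.range f)) : IsClosed (Set.range f) := by
  have : CompactSpace X := QuasiCompact.compactSpace_of_compactSpace f
  obtain ⟨R', g, hg⟩ := compactSpace_iff_exists.mp this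
  have hrange : Set.range (g ≫ f) = Set.range f := by
    simp only [Scheme.Hom.comp_base, TopCat.hom_comp, ContinuousMap.coe_comp]
    exact hg.range_comp _
  obtain ⟨φ, hφ⟩ := Spec.map_surjective (g ≫ f)
  rw [← hrange, ← hφ] at H ⊢
  exact PrimeSpectrum.isClosed_range_of_stableUnderSpecialization φ.hom H

open AlgebraicGeometry in
open CategoryTheory CategoryTheory.Limits in
/-- For a quasi-compact morphism of schemes f : X → S, the image f(X) is closed in S if and only if it
is stable under specialization. -/
theorem result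
    {X S : Scheme.{u}} (f : X ⟶ S) [QuasiCompact f] :
    IsClosed (Set.range f) ↔ StableUnderSpecialization (Set.range f) := by
  refine ⟨fun h => h.stableUnderSpecialization, fun H => ?_⟩
  let 𝒰 := S.affineCover
  have hi : ∀ i, IsClosed ((𝒰.f i) ⁻¹' Set.range f) := by
    intro i
    have hr : Set.range (pullback.snd f (𝒰.f i)) = (𝒰.f i) ⁻¹' Set.range f :=
      Scheme.Pullback.range_snd f (𝒰.f i)
    rw [← hr]
    apply isClosed_range_of_affine_target
    have h2 := H.preimage (𝒰.f i).continuous
    rw [← hr] at h2
    exact h2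
  rw [← isOpen_compl_iff]
  have : (Set.range f)ᶜ = ⋃ i, (𝒰.f i) '' ((𝒰.f i) ⁻¹' (Set.range f)ᶜ) := by
    ext s
    simp only [Set.mem_iUnion, Set.mem_image, Set.mem_preimage]
    constructor
    · intro hs
      obtain ⟨i, y, rfl⟩ := 𝒰.exists_eq s
      exact ⟨i, y, hs, rfl⟩
    · rintro ⟨i, y, hy, rfl⟩
      exact hy
  rw [this]
  apply isOpen_iUnion
  intro i
  apply (𝒰.f i).isOpenEmbedding.isOpenMap
  rw [Set.preimage_compl, isOpen_compl_iff]
  exact hi i

end Groth.Agent.S9495
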