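import Groth.Statements.S9497
import Groth.Agent.Lib.helper9.CohB1

set_option autoImplicit false
universe u
open AffSch

namespace Groth.Agent.S9497

open AlgebraicGeometry in
open CategoryTheory Limits in
set_option backward.isDefEq.respectTransparency false in
lemma main (R : CommRingCat.{u}) {J : Type u} [SmallCategory J] (F : J ⥤ (Spec R).Modules)
    (hF : ∀ j, (F.obj j).IsQuasicoherent) : (colimit F).IsQuasicoherent := by
  haveI : ∀ j, IsIso ((Functor.whiskerLeft F (Scheme.Modules.fromTildeΓNatTrans (R := R))).app j) :=
    fun j => by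
      haveI := hF j
      exact inferInstanceAs (IsIso (F.obj j).fromTildeΓ)
  haveI : IsIso (Functor.whiskerLeft F (Scheme.Modules.fromTildeΓNatTrans (R := R))) :=
    NatIso.isIso_of_isIso_app _
  let e : (F ⋙ moduleSpecΓFunctor) ⋙ tilde.functor R ≅ F :=
    Functor.associator _ _ _ ≪≫
      asIso (Functor.whiskerLeft F (Scheme.Modules.fromTildeΓNatTrans (R := R))) ≪≫ F.rightUnitor
  haveI : PreservesColimitsOfSize.{u, u} (tilde.functor R) := inferInstance
  let i1 : colimit ((F ⋙ moduleSpecΓFunctor) ⋙ tilde.functor R) ≅ colimit F :=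
    HasColimit.isoOfNatIso e
  let i2 : (tilde.functor R).obj (colimit (F ⋙ moduleSpecΓFunctor)) ≅
      colimit ((F ⋙ moduleSpecΓFunctor) ⋙ tilde.functor R) :=
    preservesColimitIso (tilde.functor R) (F ⋙ moduleSpecΓFunctor)
  exact (SheafOfModules.isQuasicoherent (Spec R).ringCatSheaf).prop_of_iso (i2 ≪≫ i1)
    (inferInstanceAs ((tilde.functor R).obj (colimit (F ⋙ moduleSpecΓFunctor))).IsQuasicoherent)


open AlgebraicGeometry in
open CategoryTheory Limits in
/-- Let X = Spec A be an affine scheme and F : J → Mod(O_X) a small diagram of quasi-coherent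
O_X-modules. Then the colimit of F, computed in the category of all O_X-modules, is quasi-coherent
(this contains the case of arbitrary direct sums). -/
theorem result
    (A : Type u) [CommRing A] {J : Type u} [SmallCategory J]
    (F : J ⥤ (Spec (CommRingCat.of A)).Modules) (hF : ∀ j, Coh.IsQCoh (F.obj j)) :
    Coh.IsQCoh (colimit F) := by
  exact main (CommRingCat.of A) F hF

end Groth.Agent.S9497
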