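import Groth.Statements.S9500
import Mathlib

set_option autoImplicit false
universe u
open SchMor

namespace Groth.Agent.S9500

section Helpers


open AlgebraicGeometry CategoryTheory Limits TopologicalSpace

variable {ι : Type u} (k : ι → Type u) [∀ i, Field (k i)]

set_option backward.isDefEq.respectTransparency.types false in
/-- any morphism to a disjoint union of field spectra is flat -/
lemma flat_of_sigma {Y : Scheme.{u}} (f : Y ⟶ ∐ fun i => Spec (CommRingCat.of (k i))) : Flat f := by
  rw [IsZariskiLocalAtTarget.iff_of_openCover (P := @Flat)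
    (sigmaOpenCover (fun i => Spec (CommRingCat.of (k i))))]
  intro i
  show Flat ((sigmaOpenCover (fun i => Spec (CommRingCat.of (k i)))).pullbackHom f i)
  haveI : Subsingleton ((sigmaOpenCover (fun i => Spec (CommRingCat.of (k i)))).X i) := by
    show Subsingleton (Spec (CommRingCat.of (k i)))
    infer_instance
  haveI : IsIntegral ((sigmaOpenCover (fun i => Spec (CommRingCat.of (k i)))).X i) := by
    show IsIntegral (Spec (CommRingCat.of (k i)))
    infer_instance
  infer_instance

lemma discrete_sigma : DiscreteTopology ↥(∐ fun i => Spec (CommRingCat.of (k i))) := by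
  haveI : ∀ i, DiscreteTopology (Spec (CommRingCat.of (k i))) := fun i => inferInstance
  exact (sigmaMk (fun i => Spec (CommRingCat.of (k i)))).symm.isEmbedding.discreteTopology


lemma exists_sigmaι_eq {σ : Type u} (g : σ → Scheme.{u}) (x : ↥(∐ g)) :
    ∃ (i : σ) (q : g i), Sigma.ι g i q = x := by
  obtain ⟨q, hq⟩ := (sigmaOpenCover g).covers x
  exact ⟨_, q, hq⟩

set_option backward.isDefEq.respectTransparency.types false in
theorem main {Y : Scheme.{u}} (f : Y ⟶ ∐ fun i => Spec (CommRingCat.of (k i))) [Mono f] :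
    ∃ (J : Set ι) (e : Y ≅ ∐ fun j : J => Spec (CommRingCat.of (k j.1))),
      e.hom ≫ Sigma.desc (fun j : J => Sigma.ι (fun i => Spec (CommRingCat.of (k i))) j.1) = f := by
  let J : Set ι :=
    {i | ∃ y : Y, f y ∈ Set.range (Sigma.ι (fun i => Spec (CommRingCat.of (k i))) i)}
  have hdisj : Pairwise (Function.onFun Disjoint
      (fun j : J => Set.range (Sigma.ι (fun i => Spec (CommRingCat.of (k i))) j.1))) := by
    intro a b hab
    have := disjoint_opensRange_sigmaι (fun i => Spec (CommRingCat.of (k i))) a.1 b.1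
      (fun h => hab (Subtype.ext h))
    rw [Function.onFun]
    rw [Set.disjoint_iff]
    rintro x ⟨hx1, hx2⟩
    exact (disjoint_iff.mp this).le ⟨hx1, hx2⟩
  haveI : IsOpenImmersion (Sigma.desc
      (fun j : J => Sigma.ι (fun i => Spec (CommRingCat.of (k i))) j.1)) :=
    isOpenImmersion_sigmaDesc _ _ hdisj
  haveI := discrete_sigma k
  haveI : Flat f := flat_of_sigma k f
  haveI : QuasiCompact f := by
    refine ⟨fun U _ hc => ?_⟩
    have hfin : (U : Set _).Finite := hc.finite_of_discrete
    exact (hfin.preimage (f.injective.injOn)).isCompact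
  have hg : ∀ (j : J) (q : Spec (CommRingCat.of (k j.1))),
      (Sigma.desc (fun j : J => Sigma.ι (fun i => Spec (CommRingCat.of (k i))) j.1))
        (Sigma.ι (fun j : J => Spec (CommRingCat.of (k j.1))) j q) =
      Sigma.ι (fun i => Spec (CommRingCat.of (k i))) j.1 q := by
    intro j q
    rw [← Scheme.Hom.comp_apply, Sigma.ι_desc]
  haveI : Surjective (pullback.snd f (Sigma.desc
      (fun j : J => Sigma.ι (fun i => Spec (CommRingCat.of (k i))) j.1))) := by
    refine ⟨fun p => ?_⟩
    have : p ∈ Set.range (pullback.snd f (Sigma.desc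
        (fun j : J => Sigma.ι (fun i => Spec (CommRingCat.of (k i))) j.1))) := by
      rw [Scheme.Pullback.range_snd]
      obtain ⟨j, q, rfl⟩ := exists_sigmaι_eq (fun j : J => Spec (CommRingCat.of (k j.1))) p
      obtain ⟨y, q', hq'⟩ := j.2
      refine ⟨y, ?_⟩
      rw [hg, ← hq', Subsingleton.elim q q']
    exact this
  haveI : IsIso (pullback.snd f (Sigma.desc
      (fun j : J => Sigma.ι (fun i => Spec (CommRingCat.of (k i))) j.1))) :=
    Flat.isIso_of_surjective_of_mono _
  haveI : IsIso (pullback.fst f (Sigma.desc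
      (fun j : J => Sigma.ι (fun i => Spec (CommRingCat.of (k i))) j.1))) := by
    apply isIso_of_isOpenImmersion_of_opensRange_eq_top
    rw [eq_top_iff]
    rintro y -
    show y ∈ Set.range (pullback.fst f (Sigma.desc
      (fun j : J => Sigma.ι (fun i => Spec (CommRingCat.of (k i))) j.1)))
    rw [Scheme.Pullback.range_fst]
    obtain ⟨i, q, hq⟩ := exists_sigmaι_eq (fun i => Spec (CommRingCat.of (k i))) (f y)
    have hi : i ∈ J := ⟨y, q, hq⟩
    exact ⟨Sigma.ι (fun j : J => Spec (CommRingCat.of (k j.1))) ⟨i, hi⟩ q, (hg ⟨i, hi⟩ q).trans hq⟩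
  refine ⟨J, (asIso (pullback.fst f (Sigma.desc
      (fun j : J => Sigma.ι (fun i => Spec (CommRingCat.of (k i))) j.1)))).symm ≪≫
      asIso (pullback.snd f (Sigma.desc
      (fun j : J => Sigma.ι (fun i => Spec (CommRingCat.of (k i))) j.1))), ?_⟩
  simp [← pullback.condition]

end Helpers


open AlgebraicGeometry in
open CategoryTheory Limits in
/-- Let (k_i)_{i ∈ ι} be a family of fields, X = ∐_i Spec(k_i) the disjoint union, and f : Y → X a
monomorphism of schemes. Then there are a subset J of ι and an isomorphism Y ≅ ∐_{j ∈ J} Spec(k_j)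
over X, where ∐_{j ∈ J} Spec(k_j) maps to X by the coproduct inclusions. -/
theorem result
    {ι : Type u} (k : ι → Type u) [∀ i, Field (k i)]
    {Y : Scheme.{u}} (f : Y ⟶ ∐ fun i => Spec (CommRingCat.of (k i))) [Mono f] :
    ∃ (J : Set ι) (e : Y ≅ ∐ fun j : J => Spec (CommRingCat.of (k j.1))),
      e.hom ≫ Sigma.desc (fun j : J => Sigma.ι (fun i => Spec (CommRingCat.of (k i))) j.1) = f := by
  exact main k f

end Groth.Agent.S9500
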