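import Groth.Statements.S9499
import Mathlib
import Groth.Agent.S9500

set_option autoImplicit false
universe u
open SchMor

namespace Groth.Agent.S9499

section Helpers


open AlgebraicGeometry CategoryTheory Limits TopologicalSpace

theorem main {ι : Type u} [Finite ι] (k : ι → Type u) [∀ i, Field (k i)]
    {X : Scheme.{u}} (f : X ⟶ Spec (CommRingCat.of (Π i, k i))) [Mono f] :
    ∃ (I : Set ι) (e : X ≅ Spec (CommRingCat.of (Π i : I, k i))),
      e.hom ≫ Spec.map (CommRingCat.ofHom (Pi.ringHom fun i : I => Pi.evalRingHom k i.1)) = f := by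
  let s : (∐ fun i => Spec (CommRingCat.of (k i))) ⟶ Spec (CommRingCat.of (Π i, k i)) :=
    sigmaSpec (fun i => CommRingCat.of (k i))
  haveI : IsIso s := inferInstanceAs (IsIso (sigmaSpec (fun i => CommRingCat.of (k i))))
  haveI : Mono (f ≫ inv s) := mono_comp _ _
  obtain ⟨J, e, he⟩ := Groth.Agent.S9500.main k (f ≫ inv s)
  let sJ : (∐ fun j : J => Spec (CommRingCat.of (k j.1))) ⟶
      Spec (CommRingCat.of (Π j : J, k j.1)) :=
    sigmaSpec (fun j : J => CommRingCat.of (k j.1))
  haveI : IsIso sJ := inferInstanceAs (IsIso (sigmaSpec (fun j : J => CommRingCat.of (k j.1))))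
  refine ⟨J, e ≪≫ asIso sJ, ?_⟩
  have key : sJ ≫ Spec.map (CommRingCat.ofHom (Pi.ringHom fun i : J => Pi.evalRingHom k i.1)) =
      Sigma.desc (fun j : J => Sigma.ι (fun i => Spec (CommRingCat.of (k i))) j.1) ≫ s := by
    refine Sigma.hom_ext _ _ (fun j => ?_)
    rw [Sigma.ι_desc_assoc]
    show Sigma.ι _ j ≫ sigmaSpec (fun j : J => CommRingCat.of (k j.1)) ≫ _ =
      Sigma.ι _ j.1 ≫ sigmaSpec (fun i => CommRingCat.of (k i))
    rw [ι_sigmaSpec_assoc, ι_sigmaSpec, ← Spec.map_comp]
    rfl
  rw [Iso.trans_hom, asIso_hom, Category.assoc, key, reassoc_of% he,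
    IsIso.inv_hom_id, Category.comp_id]

end Helpers


open AlgebraicGeometry in
open CategoryTheory in
/-- Let (k_i) be a finite family of fields and f : X → Spec(∏_i k_i) a monomorphism of schemes. Then
there are a subset I of the index set and an isomorphism X ≅ Spec(∏_{i∈I} k_i) over Spec(∏_i k_i),
where Spec(∏_{i∈I} k_i) maps to Spec(∏_i k_i) through the projection ring homomorphism ∏_i k_i →
∏_{i∈I} k_i. -/
theorem result
    {ι : Type u} [Finite ι] (k : ι → Type u) [∀ i, Field (k i)]
    {X : Scheme.{u}} (f : X ⟶ Spec (CommRingCat.of (Π i, k i))) [Mono f] :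
    ∃ (I : Set ι) (e : X ≅ Spec (CommRingCat.of (Π i : I, k i))),
      e.hom ≫ Spec.map (CommRingCat.ofHom (Pi.ringHom fun i : I => Pi.evalRingHom k i.1)) = f := by
  exact main k f

end Groth.Agent.S9499
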