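import Groth.Statements.S9509
import Mathlib
import Groth.Agent.Lib.helper7.QSep

set_option autoImplicit false
universe u
open SchMor

namespace Groth.Agent.S9509

open AlgebraicGeometry in
open CategoryTheory in
/-- (3) ⇒ (1): Let f : X → S be a morphism of schemes. Suppose S is covered by affine opens W_i, each
preimage f⁻¹(W_i) is covered by affine opens V_{i,j}, and any two V_{i,j}, V_{i,j'} with the same
index i meet in a quasi-compact open (one covered by finitely many affine opens). Then f is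
quasi-separated. -/
theorem result
    {X S : Scheme.{u}} (f : X ⟶ S) {ι : Type u} (W : ι → S.affineOpens)
    (hW : ⨆ i, (W i : S.Opens) = ⊤) {κ : ι → Type u} (V : ∀ i, κ i → X.affineOpens)
    (hV : ∀ i, ⨆ j, (V i j : X.Opens) = f ⁻¹ᵁ (W i : S.Opens))
    (hVV : ∀ i (j j' : κ i), IsCompact ((V i j : Set X) ∩ (V i j' : Set X))) :
    QuasiSeparated f := by
  rw [IsZariskiLocalAtTarget.iff_of_iSup_eq_top (P := @QuasiSeparated) (fun i => (W i : S.Opens)) hW]
  intro i
  have : IsAffine ((W i : S.Opens) : Scheme.{u}) := (W i).2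
  rw [HasAffineProperty.iff_of_isAffine (P := @QuasiSeparated)]
  have hle : ∀ j, (V i j : X.Opens) ≤ f ⁻¹ᵁ (W i : S.Opens) := fun j => by
    rw [← hV i]; exact le_iSup (fun j => (V i j : X.Opens)) j
  refine Scheme.quasiSeparatedSpace_of_isOpenCover
    (fun j => (f ⁻¹ᵁ (W i : S.Opens)).ι ⁻¹ᵁ (V i j : X.Opens)) ?_ ?_ ?_
  · show ⨆ j, (f ⁻¹ᵁ (W i : S.Opens)).ι ⁻¹ᵁ (V i j : X.Opens) = ⊤
    ext x
    simp only [TopologicalSpace.Opens.coe_iSup, Set.mem_iUnion, SetLike.mem_coe,
      TopologicalSpace.Opens.coe_top, Set.mem_univ, iff_true]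
    have hx : (x.1 : X) ∈ ⨆ j, (V i j : X.Opens) := by rw [hV i]; exact x.2
    obtain ⟨j, hj⟩ := TopologicalSpace.Opens.mem_iSup.mp hx
    exact ⟨j, hj⟩
  · intro j
    apply (V i j).2.preimage_of_isOpenImmersion
    rw [Scheme.Opens.opensRange_ι]
    exact hle j
  · intro j j'
    have hsub : ((V i j : Set X) ∩ (V i j' : Set X)) ⊆ Set.range (f ⁻¹ᵁ (W i : S.Opens)).ι := by
      rw [Scheme.Opens.range_ι]
      exact Set.inter_subset_left.trans (hle j)
    exact ((f ⁻¹ᵁ (W i : S.Opens)).ι.isOpenEmbedding.isInducing.isCompact_preimage_iff hsub).mpr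
      (hVV i j j')

end Groth.Agent.S9509
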