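import Groth.Statements.S9511
import Mathlib

set_option autoImplicit false
universe u
open LRSImm

namespace Groth.Agent.S9511

section Helpers
open AlgebraicGeometry CategoryTheory Opposite TopologicalSpace

theorem main (X : LocallyRingedSpace.{u}) (U V : Opens X.toTopCat) (hUV : IsCompl U V)
    (A B : CommRingCat.{u})
    (eU : X.restrict U.isOpenEmbedding ≅ (Spec A).toLocallyRingedSpace)
    (eV : X.restrict V.isOpenEmbedding ≅ (Spec B).toLocallyRingedSpace) :
    IsIso X.toΓSpec := by
  let Y : Scheme.{u} :=
    { toLocallyRingedSpace := X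
      local_affine := fun x => by
        have hx : x ∈ U ⊔ V := by rw [hUV.sup_eq_top]; trivial
        rcases hx with hx | hx
        · exact ⟨⟨U, hx⟩, A, ⟨eU⟩⟩
        · exact ⟨⟨V, hx⟩, B, ⟨eV⟩⟩ }
  have hU : IsAffineOpen (X := Y) U := by
    let e : Scheme.Opens.toScheme (X := Y) U ≅ Spec A :=
      Scheme.forgetToLocallyRingedSpace.preimageIso eU
    exact IsAffine.of_isIso e.hom
  have hV : IsAffineOpen (X := Y) V := by
    let e : Scheme.Opens.toScheme (X := Y) V ≅ Spec B :=
      Scheme.forgetToLocallyRingedSpace.preimageIso eV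
    exact IsAffine.of_isIso e.hom
  have hY : IsAffine Y := by
    have := hU.sup_of_disjoint hV hUV.disjoint
    rw [hUV.sup_eq_top] at this
    have : IsAffine (⊤ : Y.Opens).toScheme := this
    exact IsAffine.of_isIso Y.topIso.inv
  have h1 : IsIso Y.toSpecΓ := inferInstance
  exact (inferInstance : IsIso Y.toSpecΓ.toLRSHom)

end Helpers


open AlgebraicGeometry in
open CategoryTheory TopologicalSpace in
/-- Let X be a locally ringed space and U, V ⊆ X open with X = U ⊔ V (they cover X and are disjoint),
such that the open subspaces X|_U and X|_V are affine schemes. Then X is an affine scheme: the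
canonical morphism X → Spec Γ(X, O_X) is an isomorphism of locally ringed spaces. -/
theorem result
    (X : LocallyRingedSpace.{u}) (U V : Opens X.toTopCat) (hUV : IsCompl U V)
    (A B : CommRingCat.{u})
    (eU : X.restrict U.isOpenEmbedding ≅ (Spec A).toLocallyRingedSpace)
    (eV : X.restrict V.isOpenEmbedding ≅ (Spec B).toLocallyRingedSpace) :
    IsIso X.toΓSpec := by
  exact main X U V hUV A B eU eV

end Groth.Agent.S9511
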