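import Groth.Statements.S9512
import Mathlib

set_option autoImplicit false
universe u
open LRSImm

namespace Groth.Agent.S9512

section Helpers
open AlgebraicGeometry CategoryTheory Opposite TopologicalSpace

theorem main
    (X : LocallyRingedSpace.{u}) (R : CommRingCat.{u})
    (f : X ⟶ (Spec R).toLocallyRingedSpace) (x : X.toTopCat) :
    f.base x = PrimeSpectrum.comap
      ((Scheme.ΓSpecIso R).inv ≫ f.c.app (op ⊤) ≫ X.presheaf.germ ⊤ x trivial).hom
      (IsLocalRing.closedPoint (X.presheaf.stalk x)) := by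
  have h1 : f.c.app (op ⊤) ≫ X.presheaf.germ ⊤ x trivial =
      (Spec R).presheaf.germ ⊤ (f.base x) trivial ≫ f.stalkMap x :=
    (LocallyRingedSpace.stalkMap_germ f ⊤ x trivial).symm
  have h2 : (Scheme.ΓSpecIso R).inv ≫ (Spec R).presheaf.germ ⊤ (f.base x) trivial =
      StructureSheaf.toStalk R (f.base x) := by
    rw [Scheme.ΓSpecIso_inv]
    exact StructureSheaf.algebraMap_germ ⊤ (f.base x) trivial
  have h3 : (Scheme.ΓSpecIso R).inv ≫ f.c.app (op ⊤) ≫ X.presheaf.germ ⊤ x trivial =
      StructureSheaf.toStalk R (f.base x) ≫ f.stalkMap x := by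
    rw [h1, ← Category.assoc, h2]
    rfl
  apply PrimeSpectrum.ext
  ext r
  rw [PrimeSpectrum.comap_asIdeal, Ideal.mem_comap]
  have h4 : ((Scheme.ΓSpecIso R).inv ≫ f.c.app (op ⊤) ≫ X.presheaf.germ ⊤ x trivial).hom r =
      (f.stalkMap x).hom ((StructureSheaf.toStalk R (f.base x)).hom r) := by
    rw [h3]; rfl
  rw [h4]
  show r ∈ (f.base x).asIdeal ↔ _ ∈ IsLocalRing.maximalIdeal _
  rw [IsLocalRing.mem_maximalIdeal, mem_nonunits_iff]
  have h5 : IsUnit ((f.stalkMap x).hom ((StructureSheaf.toStalk R (f.base x)).hom r)) ↔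
      IsUnit ((StructureSheaf.toStalk R (f.base x)).hom r) :=
    isUnit_map_iff (f.stalkMap x).hom _
  rw [h5]
  let y : PrimeSpectrum R := f.base x
  have inst : IsLocalRing ((Spec.structureSheaf R).presheaf.stalk y) :=
    inferInstanceAs (IsLocalRing ((Spec R).presheaf.stalk (f.base x)))
  have h6 := IsLocalization.AtPrime.to_map_mem_maximal_iff
    ((Spec.structureSheaf R).presheaf.stalk y) y.asIdeal r inst
  rw [IsLocalRing.mem_maximalIdeal, mem_nonunits_iff] at h6
  exact h6.symm

end Helpers


open AlgebraicGeometry in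
open CategoryTheory Opposite in
/-- Let X be a locally ringed space, Y = Spec R an affine scheme and f : X → Y a morphism of locally
ringed spaces. Given a point x of X, the image f(x) is the prime of R obtained as the inverse image
of the maximal ideal of O_{X,x} under the composite R = Γ(Y, O_Y) → Γ(X, O_X) → O_{X,x}. -/
theorem result
    (X : LocallyRingedSpace.{u}) (R : CommRingCat.{u})
    (f : X ⟶ (Spec R).toLocallyRingedSpace) (x : X.toTopCat) :
    f.base x = PrimeSpectrum.comap
      ((Scheme.ΓSpecIso R).inv ≫ f.c.app (op ⊤) ≫ X.presheaf.germ ⊤ x trivial).hom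
      (IsLocalRing.closedPoint (X.presheaf.stalk x)) := by
  exact main X R f x

end Groth.Agent.S9512
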