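import Groth.Statements.S9514
import Groth.Agent.Lib.helper9.QcohLocal

set_option autoImplicit false
universe u
open Coherent

namespace Groth.Agent.S9514

open CategoryTheory CategoryTheory.Limits AlgebraicGeometry in
set_option backward.isDefEq.respectTransparency false in
lemma main (X : Scheme.{u}) [IsLocallyNoetherian X] {F G : X.Modules}
    (hF : Coh.IsCoh F) (hG : Coh.IsCoh G) (φ : F ⟶ G) :
    Coh.IsCoh (kernel φ) ∧ Coh.IsCoh (cokernel φ) := by
  obtain ⟨hqF, hfF⟩ := hF
  obtain ⟨hqG, hfG⟩ := hG
  haveI : F.IsQuasicoherent := hqF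
  haveI : SheafOfModules.IsFiniteType.{u} F := hfF
  haveI : G.IsQuasicoherent := hqG
  haveI : SheafOfModules.IsFiniteType.{u} G := hfG
  haveI hK : (kernel φ).IsQuasicoherent :=
    Groth.Agent.Lib.helper9.QcohLocal.isQuasicoherent_kernel φ
  haveI hC : (cokernel φ).IsQuasicoherent :=
    Groth.Agent.Lib.helper9.QcohLocal.isQuasicoherent_cokernel φ
  haveI h1 : SheafOfModules.IsFinitePresentation.{u} (kernel φ) :=
    Groth.Agent.Lib.helper9.FPLocal.isFinitePresentation_of_mono (kernel.ι φ)
  haveI h2 : SheafOfModules.IsFinitePresentation.{u} (cokernel φ) :=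
    Groth.Agent.Lib.helper9.QcohLocal.isFinitePresentation_of_epi (cokernel.π φ)
  have h3 : SheafOfModules.IsFiniteType.{u} (kernel φ) := inferInstance
  have h4 : SheafOfModules.IsFiniteType.{u} (cokernel φ) := inferInstance
  exact ⟨⟨hK, h3⟩, ⟨hC, h4⟩⟩


open CategoryTheory CategoryTheory.Limits AlgebraicGeometry in
/-- Let X be a locally Noetherian scheme and φ : F → G a morphism of O_X-modules with F and G coherent.
Then the kernel and the cokernel of φ, taken in the category of O_X-modules, are coherent. -/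
theorem result (X : Scheme.{u}) [IsLocallyNoetherian X] {F G : X.Modules}
    (hF : Coh.IsCoh F) (hG : Coh.IsCoh G) (φ : F ⟶ G) :
    Coh.IsCoh (kernel φ) ∧ Coh.IsCoh (cokernel φ) := by
  exact main X hF hG φ

end Groth.Agent.S9514
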