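import Groth.Statements.S9525
import Groth.Agent.Lib.helper9.QcohLocal
import Groth.Agent.Lib.helper9.ZeroRestr
import Groth.Agent.Lib.helper9.StalkExact
import Groth.Agent.S0020
import Groth.Agent.S9514

set_option autoImplicit false
universe u
open Coherent

namespace Groth.Agent.S9525

open CategoryTheory CategoryTheory.Limits AlgebraicGeometry Opposite Scheme.Modules
  Groth.Agent.Lib.helper9.ZC Groth.Agent.Lib.helper9.ZeroRestr
  Groth.Agent.Lib.helper9.StalkExact in
set_option backward.isDefEq.respectTransparency false in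
lemma main (X : Scheme.{u}) [IsLocallyNoetherian X]
    (F G : X.Modules) (hF : Coh.IsCoh F) (hG : Coh.IsCoh G) (φ : G ⟶ F) (x : X) :
    (Subsingleton ↑(F.presheaf.stalk x) →
      ∃ U : X.Opens, x ∈ U ∧ IsZero ((Scheme.Modules.restrictFunctor U.ι).obj F)) ∧
    (Function.Injective ((TopCat.Presheaf.stalkFunctor _ x).map φ.mapPresheaf).hom →
      ∃ U : X.Opens, x ∈ U ∧ Mono ((Scheme.Modules.restrictFunctor U.ι).map φ)) ∧
    (Function.Bijective ((TopCat.Presheaf.stalkFunctor _ x).map φ.mapPresheaf).hom →
      ∃ U : X.Opens, x ∈ U ∧ IsIso ((Scheme.Modules.restrictFunctor U.ι).map φ)) := by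
  have key : ∀ M : X.Modules, Coh.IsCoh M → ∃ U : X.Opens,
      ∀ y, y ∈ U ↔ Subsingleton (M.presheaf.stalk y) := by
    intro M hM
    have hcl : IsClosed (CohB1.support M) := Groth.Agent.S0020.result X M hM.2
    exact ⟨⟨(CohB1.support M)ᶜ, hcl.isOpen_compl⟩, fun y => not_not⟩
  obtain ⟨hK, hC⟩ := Groth.Agent.S9514.result X hG hF φ
  obtain ⟨UK, hUK⟩ := key (kernel φ) hK
  obtain ⟨UC, hUC⟩ := key (cokernel φ) hC
  have kerZero : Function.Injective (stalkLin φ x) →
      Subsingleton ((kernel φ).presheaf.stalk x) := by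
    intro hinj
    have hex := stalkLin_exact (ShortComplex.mk (kernel.ι φ) φ (kernel.condition φ))
      (ShortComplex.exact_kernel φ) x
    have hz : ∀ k : (kernel φ).presheaf.stalk x, k = 0 := by
      intro k
      apply stalkLin_injective_of_mono (kernel.ι φ) x
      rw [map_zero]
      apply hinj
      rw [map_zero]
      exact hex.apply_apply_eq_zero k
    exact ⟨fun a b => (hz a).trans (hz b).symm⟩
  have cokerZero : Function.Surjective (stalkLin φ x) →
      Subsingleton ((cokernel φ).presheaf.stalk x) := by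
    intro hsurj
    have hex := stalkLin_exact (ShortComplex.mk φ (cokernel.π φ) (cokernel.condition φ))
      (ShortComplex.exact_cokernel φ) x
    have hz : ∀ c : (cokernel φ).presheaf.stalk x, c = 0 := by
      intro c
      obtain ⟨f, rfl⟩ := stalkLin_surjective_of_epi (cokernel.π φ) x c
      obtain ⟨g, rfl⟩ := hsurj f
      exact hex.apply_apply_eq_zero g
    exact ⟨fun a b => (hz a).trans (hz b).symm⟩
  have monoOn : ∀ U : X.Opens, U ≤ UK → Mono ((restrictFunctor U.ι).map φ) := by
    intro U hU
    have z : IsZero ((restrictFunctor U.ι).obj (kernel φ)) :=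
      isZero_restrict_of_stalks (kernel φ) U (fun y hy => (hUK y).mp (hU hy))
    exact Preadditive.mono_of_isZero_kernel _
      (z.of_iso (PreservesKernel.iso (restrictFunctor U.ι) φ).symm)
  have epiOn : ∀ U : X.Opens, U ≤ UC → Epi ((restrictFunctor U.ι).map φ) := by
    intro U hU
    have z : IsZero ((restrictFunctor U.ι).obj (cokernel φ)) :=
      isZero_restrict_of_stalks (cokernel φ) U (fun y hy => (hUC y).mp (hU hy))
    exact Preadditive.epi_of_isZero_cokernel _
      (z.of_iso (PreservesCokernel.iso (restrictFunctor U.ι) φ).symm)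
  refine ⟨?_, ?_, ?_⟩
  · intro hsub
    obtain ⟨U, hU⟩ := key F hF
    exact ⟨U, (hU x).mpr hsub,
      isZero_restrict_of_stalks F U (fun y hy => (hU y).mp hy)⟩
  · intro hinj
    have hinj' : Function.Injective (stalkLin φ x) := hinj
    exact ⟨UK, (hUK x).mpr (kerZero hinj'), monoOn UK le_rfl⟩
  · intro hbij
    have hinj' : Function.Injective (stalkLin φ x) := hbij.1
    have hsurj' : Function.Surjective (stalkLin φ x) := hbij.2
    refine ⟨UK ⊓ UC, ⟨(hUK x).mpr (kerZero hinj'), (hUC x).mpr (cokerZero hsurj')⟩, ?_⟩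
    haveI := monoOn (UK ⊓ UC) inf_le_left
    haveI := epiOn (UK ⊓ UC) inf_le_right
    exact isIso_of_mono_of_epi _


open CategoryTheory CategoryTheory.Limits AlgebraicGeometry in
/-- Let X be a locally Noetherian scheme, F and G coherent O_X-modules, φ : G → F a morphism and x ∈ X.
(1) If F_x = 0 there is an open neighbourhood U of x with F|_U = 0. (2) If the stalk map φ_x : G_x →
F_x is injective there is an open neighbourhood U of x with φ|_U injective. (4) If φ_x is bijective
there is an open neighbourhood U of x with φ|_U an isomorphism. (Part (3), surjectivity, is the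
finite-type statement valid on any ringed space and is not restated.) -/
theorem result (X : Scheme.{u}) [IsLocallyNoetherian X]
    (F G : X.Modules) (hF : Coh.IsCoh F) (hG : Coh.IsCoh G) (φ : G ⟶ F) (x : X) :
    (Subsingleton ↑(F.presheaf.stalk x) →
      ∃ U : X.Opens, x ∈ U ∧ IsZero ((Scheme.Modules.restrictFunctor U.ι).obj F)) ∧
    (Function.Injective ((TopCat.Presheaf.stalkFunctor _ x).map φ.mapPresheaf).hom →
      ∃ U : X.Opens, x ∈ U ∧ Mono ((Scheme.Modules.restrictFunctor U.ι).map φ)) ∧
    (Function.Bijective ((TopCat.Presheaf.stalkFunctor _ x).map φ.mapPresheaf).hom →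
      ∃ U : X.Opens, x ∈ U ∧ IsIso ((Scheme.Modules.restrictFunctor U.ι).map φ)) := by
  exact main X F G hF hG φ x

end Groth.Agent.S9525
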