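import Groth.Statements.S9557
import Mathlib
import Groth.Agent.Lib.helper3.EtNbhd2
import Groth.Agent.Lib.helper3.EtNbhd3
-- import your own Groth.Agent.* helpers here

set_option autoImplicit false
universe u
open EtLocal

namespace Groth.Agent.S9557

open AlgebraicGeometry CategoryTheory Limits in
/-- Let f : X ⟶ S be any morphism of schemes, s a point of S and x_1, …, x_n pairwise distinct points of
X over s such that f is étale at each x_i (the restriction of f to some open neighbourhood of x_i is
étale). Then there are an étale morphism g : U ⟶ S, a point u of U over s and finitely many opens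
V_k of X_U = X ×_S U, each labelled by one of the x_i, such that (1) each V_k ⟶ U is an isomorphism,
(2) no point of X_U over u lies in two different V_k, and (3) every point of X_U over u mapping to
x_i lies in some V_k labelled by x_i. -/
theorem result {X S : Scheme.{u}} (f : X ⟶ S) (s : S)
    {ι : Type} [Finite ι] (x : ι → ↑X) (hinj : Function.Injective x) (hs : ∀ i, f (x i) = s)
    (hx : ∀ i, ∃ W : X.Opens, x i ∈ W ∧ Etale (W.ι ≫ f)) :
    ∃ (U : Scheme.{u}) (g : U ⟶ S) (u : U), Etale g ∧ g u = s ∧
      ∃ (K : Type) (_ : Finite K) (lab : K → ι) (V : K → (pullback f g).Opens),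
        (∀ k, IsIso ((V k).ι ≫ pullback.snd f g)) ∧
        (∀ (k k' : K) (w : ↑(pullback f g)), w ∈ V k → w ∈ V k' → pullback.snd f g w = u → k = k') ∧
        (∀ (w : ↑(pullback f g)) (i : ι), pullback.snd f g w = u → pullback.fst f g w = x i →
          ∃ k, lab k = i ∧ w ∈ V k) := by
  obtain ⟨U, g, u, hg, hgu, K, hK, lab, V, h1, h2, h3, h4⟩ :=
    Groth.Agent.Lib.helper3.EtNbhd.main (P := MorphismProperty.isomorphisms Scheme.{u}) (f := f) s
      (fun x₀ => ∃ W : X.Opens, x₀ ∈ W ∧ Etale (W.ι ≫ f))
      (by
        rintro x₀ hx₀ ⟨W, hW, het⟩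
        obtain ⟨U, g, u, hg, hgu, K, hK, V, c1, c2, c3, c4⟩ :=
          Groth.Agent.Lib.helper3.EtNbhd.onePoint_gen (MorphismProperty.isomorphisms Scheme.{u})
            (Ps := @Etale)
            (fun R A _ _ _ _ hRA p _ => by
              haveI : Algebra.Etale R A := RingHom.etale_algebraMap.mp hRA
              exact Groth.Agent.Lib.helper3.EtNbhd.concP_iso R A p)
            f x₀ W hW inferInstance inferInstance het
        exact ⟨U, g, u, hg, hgu.trans hx₀, K, hK, fun _ => (), V, c1, c2,
          fun k k' w a b _ => c3 k k' w a b, fun w i hw hwi => by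
            obtain ⟨k, hk⟩ := c4 w hw hwi
            exact ⟨k, rfl, hk⟩⟩)
      ι x hinj hs hx
  exact ⟨U, g, u, hg, hgu, K, hK, lab, V,
    fun k => (MorphismProperty.isomorphisms.iff _).mp (h1 k).1, h3, h4⟩

end Groth.Agent.S9557
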