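import Groth.Statements.S9572
import Mathlib
import Groth.Agent.Lib.helper27.ProjQMap
import Groth.Agent.S3596

set_option autoImplicit false
universe u
open CategoryTheory CategoryTheory.Limits AlgebraicGeometry TopologicalSpace Opposite
open Constr

namespace Groth.Agent.S9572aux
open CategoryTheory CategoryTheory.Limits AlgebraicGeometry Opposite TopologicalSpace
open scoped HomogeneousIdeal
open HomogeneousLocalization
open Groth.Agent.S3596aux
open Groth.Agent.Lib.helper27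

section algGen
variable {A B σ τ : Type u} [CommRing A] [CommRing B] [SetLike σ A] [AddSubgroupClass σ A]
  [SetLike τ B] [AddSubgroupClass τ B] {𝒜 : ℕ → σ} {ℬ : ℕ → τ}
  [GradedRing 𝒜] [GradedRing ℬ] (ψ : 𝒜 →+*ᵍ ℬ)

theorem awayMap_surjective_of_TN (n : ℕ) (hTN : ∀ k, n ≤ k → ∀ y ∈ ℬ k, ∃ x ∈ 𝒜 k, ψ x = y)
    {d : ℕ} (hd : 0 < d) (f : A) (hf : f ∈ 𝒜 d) :
    Function.Surjective (HomogeneousLocalization.Away.map ψ f) := by
  intro z
  obtain ⟨m, b, hb, rfl⟩ := z.mk_surjective _ (GradedFunLike.map_mem ψ hf)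
  have hmem : b * ψ f ^ n ∈ ℬ ((m + n) • d) := by
    have := SetLike.mul_mem_graded hb (SetLike.pow_mem_graded n (GradedFunLike.map_mem ψ hf))
    rwa [← add_smul] at this
  have hle : n ≤ (m + n) • d := by
    rw [smul_eq_mul]; nlinarith
  obtain ⟨a, ha, hab⟩ := hTN _ hle _ hmem
  refine ⟨HomogeneousLocalization.Away.mk 𝒜 hf (m + n) a ha, ?_⟩
  rw [HomogeneousLocalization.Away.map_mk]
  apply HomogeneousLocalization.val_injective
  rw [HomogeneousLocalization.Away.val_mk, HomogeneousLocalization.Away.val_mk,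
    Localization.mk_eq_mk_iff, Localization.r_iff_exists]
  refine ⟨1, ?_⟩
  simp only [hab, OneMemClass.coe_one, one_mul]
  ring

theorem awayMap_injective_of_TN (n : ℕ) (hTN : ∀ k, n ≤ k → ∀ x ∈ 𝒜 k, ψ x = 0 → x = 0)
    {d : ℕ} (hd : 0 < d) (f : A) (hf : f ∈ 𝒜 d) :
    Function.Injective (HomogeneousLocalization.Away.map ψ f) := by
  rw [injective_iff_map_eq_zero]
  intro z hz
  obtain ⟨m, a, ha, rfl⟩ := z.mk_surjective _ hf
  rw [HomogeneousLocalization.Away.map_mk] at hz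
  have hz' := congrArg HomogeneousLocalization.val hz
  rw [HomogeneousLocalization.Away.val_mk, HomogeneousLocalization.val_zero,
    Localization.mk_eq_mk', IsLocalization.mk'_eq_zero_iff] at hz'
  obtain ⟨⟨_, k, rfl⟩, hk⟩ := hz'
  simp only at hk
  have hmem : f ^ (k + n) * a ∈ 𝒜 ((k + n) • d + m • d) :=
    SetLike.mul_mem_graded (SetLike.pow_mem_graded _ hf) ha
  have hle : n ≤ (k + n) • d + m • d := by
    simp only [smul_eq_mul]; nlinarith
  have h0 : f ^ (k + n) * a = 0 := by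
    apply hTN _ hle _ hmem
    rw [map_mul, map_pow, pow_add, mul_comm (ψ f ^ k), mul_assoc, hk, mul_zero]
  apply HomogeneousLocalization.val_injective
  rw [HomogeneousLocalization.Away.val_mk, HomogeneousLocalization.val_zero,
    Localization.mk_eq_mk', IsLocalization.mk'_eq_zero_iff]
  exact ⟨⟨f ^ (k + n), k + n, rfl⟩, h0⟩

end algGen

section geom
variable {R A : Type u} [CommRing R] [CommRing A] [Algebra R A] {𝒜 : ℕ → Submodule R A} [GradedAlgebra 𝒜]
    {B : Type u} [CommRing B] [Algebra R B] {ℬ : ℕ → Submodule R B} [GradedAlgebra ℬ] (ψ : 𝒜 →+*ᵍ ℬ)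

/-- index type of charts -/
structure J (𝒜 : ℕ → Submodule R A) where
  d : ℕ
  f : A
  hd : 0 < d
  hf : f ∈ 𝒜 d

theorem main (d₀ : ℕ) (hbij : ∀ d : ℕ, d₀ ≤ d → Set.BijOn ψ (𝒜 d) (ℬ d))
    (r : (PCone.dom ψ : Scheme.{u}) ⟶ Proj 𝒜)
    (hr : ∀ (d : ℕ) (f : A) (hd : 0 < d) (hf : f ∈ 𝒜 d),
      PCone.chart ψ hf hd ≫ r =
        Spec.map (CommRingCat.ofHom (HomogeneousLocalization.Away.map ψ f)) ≫ Proj.awayι 𝒜 f hf hd) :
    PCone.dom ψ = ⊤ ∧ IsIso r := by
  have hsurj : ∀ k, d₀ ≤ k → ∀ y ∈ ℬ k, ∃ x ∈ 𝒜 k, ψ x = y := fun k hk y hy => by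
    obtain ⟨x, hx, hxy⟩ := (hbij k hk).surjOn hy
    exact ⟨x, hx, hxy⟩
  have hinj : ∀ k, d₀ ≤ k → ∀ x ∈ 𝒜 k, ψ x = 0 → x = 0 := fun k hk x hx h0 =>
    (hbij k hk).injOn hx (zero_mem _) (h0.trans (map_zero ψ).symm)
  have hdom : ∀ x' : Proj ℬ, x' ∈ PCone.dom ψ := fun x' => by
    obtain ⟨d, f, hd, hf, hx⟩ := ProjQMap.exists_basicOpen' ψ d₀ hsurj x'
    exact Opens.mem_iSup.mpr ⟨⟨f, d, hd, hf⟩, hx⟩
  refine ⟨eq_top_iff.mpr fun x _ => hdom x, ?_⟩
  change MorphismProperty.isomorphisms Scheme.{u} r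
  refine ProjQMap.of_charts (MorphismProperty.isomorphisms Scheme.{u}) r (ι := J 𝒜)
    (fun j => Spec (CommRingCat.of (Away 𝒜 j.f)))
    (fun j => Spec (CommRingCat.of (Away ℬ (ψ j.f))))
    (fun j => Proj.awayι 𝒜 j.f j.hf j.hd) (fun j => inferInstance)
    (fun j => PCone.chart ψ j.hf j.hd) (fun j => inferInstance)
    (fun j => Spec.map (CommRingCat.ofHom (Away.map ψ j.f))) ?_ (fun j => hr j.d j.f j.hd j.hf) ?_ ?_
  · -- cover
    intro x
    have h1 := x.not_irrelevant_le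
    rw [HomogeneousIdeal.irrelevant_le] at h1
    push Not at h1
    obtain ⟨e, he, hnle⟩ := h1
    obtain ⟨f, hf, hfx⟩ := SetLike.not_le_iff_exists.mp hnle
    refine ⟨⟨e, f, he, hf⟩, ?_⟩
    have : x ∈ (Proj.awayι 𝒜 f hf he).opensRange := by
      rw [Proj.opensRange_awayι, Proj.mem_basicOpen]; exact hfx
    exact this
  · -- preimage
    intro j
    ext y
    obtain ⟨d₂, f₂, hd₂, hf₂, hy₂⟩ := ProjQMap.exists_basicOpen' ψ d₀ hsurj ((PCone.dom ψ).ι.base y)
    obtain ⟨w, hw⟩ := mem_range_chart 𝒜 ℬ ψ hf₂ hd₂ y hy₂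
    have hry : r.base y = (Proj.awayι 𝒜 f₂ hf₂ hd₂).base
        ((Spec.map (CommRingCat.ofHom (Away.map ψ f₂))).base w) := by
      rw [← hw]
      have := congrArg (fun g => g.base w) (hr d₂ f₂ hd₂ hf₂)
      simpa using this
    have hιy : (PCone.dom ψ).ι.base y =
        (Proj.awayι ℬ (ψ f₂) (GradedFunLike.map_mem ψ hf₂) hd₂).base w := by
      rw [← hw]
      have := congrArg (fun g => g.base w) (chart_ι 𝒜 ℬ ψ hf₂ hd₂)
      simpa using this
    have key := ProjQMap.mem_basicOpen_iff' ψ j.hd hd₂ j.f f₂ j.hf hf₂ w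
    rw [← hry, ← hιy] at key
    have h1 : y ∈ (r ⁻¹ᵁ (Proj.awayι 𝒜 j.f j.hf j.hd).opensRange : (PCone.dom ψ : Scheme.{u}).Opens) ↔
        r.base y ∈ Proj.basicOpen 𝒜 j.f := by
      rw [Proj.opensRange_awayι]; rfl
    have h2 : y ∈ (PCone.chart ψ j.hf j.hd).opensRange ↔
        (PCone.dom ψ).ι.base y ∈ Proj.basicOpen ℬ (ψ j.f) := by
      constructor
      · rintro ⟨w', rfl⟩
        have := congrArg (fun g => g.base w') (chart_ι 𝒜 ℬ ψ j.hf j.hd)
        have h3 : (PCone.dom ψ).ι.base ((PCone.chart ψ j.hf j.hd).base w') =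
            (Proj.awayι ℬ (ψ j.f) (GradedFunLike.map_mem ψ j.hf) j.hd).base w' := by
          simpa using this
        rw [h3, ← Proj.opensRange_awayι ℬ (ψ j.f) (GradedFunLike.map_mem ψ j.hf) j.hd]
        exact ⟨w', rfl⟩
      · intro h
        exact mem_range_chart 𝒜 ℬ ψ j.hf j.hd y h
    exact (h1.trans key).trans h2.symm
  · intro j
    change IsIso (Spec.map (CommRingCat.ofHom (Away.map ψ j.f)))
    have hb : Function.Bijective (Away.map ψ j.f) :=
      ⟨awayMap_injective_of_TN ψ d₀ hinj j.hd j.f j.hf, awayMap_surjective_of_TN ψ d₀ hsurj j.hd j.f j.hf⟩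
    have : IsIso (CommRingCat.ofHom (Away.map ψ j.f)) :=
      (ConcreteCategory.isIso_iff_bijective _).mpr hb
    infer_instance

end geom

end Groth.Agent.S9572aux

namespace Groth.Agent.S9572

/-- Let ψ : A → B be a homomorphism of graded rings such that A_d → B_d is bijective for all d ≥ d₀. Let
U(ψ) ⊆ Proj B be the union of the opens D_+(ψ f) over homogeneous f of positive degree, and r_ψ :
U(ψ) → Proj A the morphism whose restriction to each chart Spec B_(ψ f) is Spec of the induced map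
A_(f) → B_(ψ f) followed by the chart of Proj A. Then U(ψ) = Proj B and r_ψ is an isomorphism. (Here
r_ψ is any morphism with that chart description; it is unique.) -/
theorem result {R A : Type u} [CommRing R] [CommRing A] [Algebra R A] (𝒜 : ℕ → Submodule R A) [GradedAlgebra 𝒜]
    {B : Type u} [CommRing B] [Algebra R B] (ℬ : ℕ → Submodule R B) [GradedAlgebra ℬ] (ψ : 𝒜 →+*ᵍ ℬ)
    (d₀ : ℕ) (hbij : ∀ d : ℕ, d₀ ≤ d → Set.BijOn ψ (𝒜 d) (ℬ d))
    (r : (PCone.dom ψ : Scheme.{u}) ⟶ Proj 𝒜)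
    (hr : ∀ (d : ℕ) (f : A) (hd : 0 < d) (hf : f ∈ 𝒜 d),
      PCone.chart ψ hf hd ≫ r =
        Spec.map (CommRingCat.ofHom (HomogeneousLocalization.Away.map ψ f)) ≫ Proj.awayι 𝒜 f hf hd) :
    PCone.dom ψ = ⊤ ∧ IsIso r := by
  exact Groth.Agent.S9572aux.main ψ d₀ hbij r hr

end Groth.Agent.S9572
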