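import Groth.Statements.S9575
import Mathlib
import Groth.Agent.Lib.helper24.TwistTriv

set_option autoImplicit false
universe u
open CategoryTheory CategoryTheory.Limits AlgebraicGeometry TopologicalSpace Opposite
open Constr

namespace Groth.Agent.S9575



/-- Let S be a graded ring, X = Proj S, d ≥ 1, and a, b homogeneous elements with deg a = deg b + d.
Then for every integer n the restriction of the twisting sheaf O_X(nd) to the standard open D_+(ab)
is isomorphic to the structure sheaf of D_+(ab): it is free of rank one, generated by the section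
(a/b)^n. (This is the invertibility half of the fact that D_+(ab) lies in the open W_d where the
O_X(nd) are invertible with compatible multiplications; existence of an isomorphism only. The
compatibility of the multiplication maps O_X(nd) ⊗ O_X(md) → O_X(nd+md) on this open, and the
converse statement that the largest such open is the union of the D_+(ab), are not stated here.) -/
theorem result {R A : Type u} [CommRing R] [CommRing A] [Algebra R A] (𝒜 : ℕ → Submodule R A) [GradedAlgebra 𝒜]
    {d : ℕ} (hd : 0 < d) {i j : ℕ} {a b : A} (ha : a ∈ 𝒜 i) (hb : b ∈ 𝒜 j) (hij : i = j + d) (n : ℤ) :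
    Nonempty ((Twist.twist 𝒜 (n * d)).restrict (Proj.basicOpen 𝒜 (a * b)).ι ≅
      Coh.structureModule ↑(Proj.basicOpen 𝒜 (a * b))) := by
  have hpw : ∀ {c : A} {e : ℕ} (hc : c ∈ 𝒜 e) (k : ℕ), c ^ k ∈ 𝒜 (k * e) := fun hc k => by
    have := SetLike.pow_mem_graded k hc
    rw [smul_eq_mul] at this
    exact this
  have hax : ∀ x : ProjectiveSpectrum 𝒜, x ∈ Proj.basicOpen 𝒜 (a * b) →
      a ∉ x.asHomogeneousIdeal := fun x hx hmem =>
    (ProjectiveSpectrum.mem_basicOpen 𝒜 (a * b) x).mp hx (Ideal.mul_mem_right _ _ hmem)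
  have hbx : ∀ x : ProjectiveSpectrum 𝒜, x ∈ Proj.basicOpen 𝒜 (a * b) →
      b ∉ x.asHomogeneousIdeal := fun x hx hmem =>
    (ProjectiveSpectrum.mem_basicOpen 𝒜 (a * b) x).mp hx (Ideal.mul_mem_left _ _ hmem)
  have hprod : ∀ (k l : ℕ) (c e : A), (∀ x : ProjectiveSpectrum 𝒜,
      x ∈ Proj.basicOpen 𝒜 (a * b) → c ∉ x.asHomogeneousIdeal) →
      (∀ x : ProjectiveSpectrum 𝒜, x ∈ Proj.basicOpen 𝒜 (a * b) → e ∉ x.asHomogeneousIdeal) →
      ∀ x : ProjectiveSpectrum 𝒜, x ∈ Proj.basicOpen 𝒜 (a * b) →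
        c ^ k * e ^ l ∉ x.asHomogeneousIdeal := by
    intro k l c e hc he x hx hmem
    rcases x.isPrime.mem_or_mem hmem with h | h
    · exact hc x hx (x.isPrime.mem_of_pow_mem k h)
    · exact he x hx (x.isPrime.mem_of_pow_mem l h)
  refine Groth.Agent.Lib.helper24.TwistTriv.twist_restrict_iso 𝒜 (Proj.basicOpen 𝒜 (a * b)) (n * d)
    (p := a ^ n.toNat * b ^ (-n).toNat) (q := b ^ n.toNat * a ^ (-n).toNat)
    (SetLike.mul_mem_graded (hpw ha n.toNat) (hpw hb (-n).toNat))
    (SetLike.mul_mem_graded (hpw hb n.toNat) (hpw ha (-n).toNat)) ?_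
    (hprod _ _ a b hax hbx) (hprod _ _ b a hbx hax)
  have h1 : ((n.toNat : ℤ)) - ((-n).toNat : ℤ) = n := Int.toNat_sub_toNat_neg n
  have h2 : (n.toNat : ℤ) = (-n).toNat + n := by omega
  subst hij
  push_cast
  rw [h2]
  ring

end Groth.Agent.S9575
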