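import Groth.Statements.S9576
import Mathlib

set_option autoImplicit false
universe u
open CategoryTheory CategoryTheory.Limits AlgebraicGeometry TopologicalSpace Opposite
open Constr

namespace Groth.Agent.S9576

section Aux
open MvPolynomial

theorem hom_scale {R B σ : Type*} [CommRing R] [CommRing B]
    (Θ Λ : MvPolynomial σ R →+* B) (x : B) (hC : ∀ r, Θ (C r) = Λ (C r))
    (hX : ∀ j, Θ (X j) * x = Λ (X j)) {a : MvPolynomial σ R} {m : ℕ} (ha : a.IsHomogeneous m) :
    Θ a * x ^ m = Λ a := by
  classical
  conv_lhs => rw [a.as_sum]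
  conv_rhs => rw [a.as_sum]
  rw [map_sum, map_sum, Finset.sum_mul]
  refine Finset.sum_congr rfl fun e he => ?_
  have hdeg : ∑ j ∈ e.support, e j = m := by
    have := ha (mem_support_iff.mp he)
    rw [Finsupp.weight_apply] at this
    simpa [Finsupp.sum] using this
  rw [monomial_eq, map_mul, map_mul, hC, Finsupp.prod, map_prod, map_prod, ← hdeg,
    ← Finset.prod_pow_eq_pow_sum, mul_assoc, ← Finset.prod_mul_distrib]
  congr 1
  refine Finset.prod_congr rfl fun j _ => ?_
  rw [map_pow, map_pow, ← mul_pow, hX]

end Aux

open MvPolynomial in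

/-- For a ring R and n ≥ 0, projective n-space Proj R[T_0, …, T_n] is covered by the n + 1 standard
opens D_+(T_i), and each D_+(T_i) = Spec R[T_0, …, T_n]_(T_i) is an affine n-space: the ring
homomorphism from the polynomial ring over R in the variables T_j, j ≠ i, to the degree-zero
localization R[T_0, …, T_n]_(T_i), sending T_j to T_j/T_i and a constant r to r/1, is bijective.
(The published statement is over ℤ; this row is over any ring R.) -/
theorem result (n : ℕ) (R : Type u) [CommRing R] :
    (⨆ i : Fin (n + 1), Proj.basicOpen (CohB1.polyGrading n R) (MvPolynomial.X i)) = ⊤ ∧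
      ∀ i : Fin (n + 1), Function.Bijective
        (MvPolynomial.eval₂Hom
          ((HomogeneousLocalization.fromZeroRingHom (CohB1.polyGrading n R) (Submonoid.powers (MvPolynomial.X i))).comp
            (algebraMap R (CohB1.polyGrading n R 0)))
          (fun j : {j : Fin (n + 1) // j ≠ i} =>
            (HomogeneousLocalization.mk ⟨1, ⟨MvPolynomial.X j.1, MvPolynomial.isHomogeneous_X R j.1⟩,
              ⟨MvPolynomial.X i, MvPolynomial.isHomogeneous_X R i⟩, ⟨1, pow_one _⟩⟩ :
              HomogeneousLocalization.Away (CohB1.polyGrading n R) (MvPolynomial.X i)))) := by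
  classical
  refine ⟨?_, ?_⟩
  · apply Proj.iSup_basicOpen_eq_top
    intro p hp
    have hp' : p ∈ HomogeneousIdeal.irrelevant (CohB1.polyGrading n R) := hp
    rw [HomogeneousIdeal.mem_irrelevant_iff] at hp'
    have h1 : p ∈ idealOfVars (Fin (n + 1)) R ^ 1 := by
      rw [mem_pow_idealOfVars_iff']
      intro e he
      have he0 : e = 0 := by
        have : e.degree = 0 := by omega
        exact (Finsupp.degree_eq_zero_iff e).mp this
      subst he0
      have h2 := congrArg (coeff 0) hp'
      rw [GradedRing.proj_apply] at h2
      have h3 : (DirectSum.decompose (CohB1.polyGrading n R) p 0 : MvPolynomial (Fin (n + 1)) R) =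
          homogeneousComponent 0 p := decomposition.decompose'_apply p 0
      rw [h3, coeff_homogeneousComponent, if_pos (by simp), coeff_zero] at h2
      exact h2
    rw [pow_one] at h1
    exact h1
  · intro i
    set 𝒜 := CohB1.polyGrading n R with h𝒜
    set Φ := (MvPolynomial.eval₂Hom
          ((HomogeneousLocalization.fromZeroRingHom 𝒜 (Submonoid.powers (MvPolynomial.X i))).comp
            (algebraMap R (𝒜 0)))
          (fun j : {j : Fin (n + 1) // j ≠ i} =>
            (HomogeneousLocalization.mk ⟨1, ⟨MvPolynomial.X j.1, MvPolynomial.isHomogeneous_X R j.1⟩,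
              ⟨MvPolynomial.X i, MvPolynomial.isHomogeneous_X R i⟩, ⟨1, pow_one _⟩⟩ :
              HomogeneousLocalization.Away 𝒜 (MvPolynomial.X i)))) with hΦ
    -- dehomogenisation
    let dehom : MvPolynomial (Fin (n + 1)) R →+* MvPolynomial {j : Fin (n + 1) // j ≠ i} R :=
      eval₂Hom C (fun j => if h : j = i then 1 else X ⟨j, h⟩)
    let valHom : HomogeneousLocalization.Away 𝒜 (X i : MvPolynomial (Fin (n + 1)) R) →+*
        Localization.Away (X i : MvPolynomial (Fin (n + 1)) R) :=
      algebraMap _ _
    have hval : ∀ y, valHom y = y.val := fun y => HomogeneousLocalization.algebraMap_apply y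
    have hΦC : ∀ r, valHom (Φ (C r)) = algebraMap _ _ (C r : MvPolynomial (Fin (n + 1)) R) := by
      intro r
      rw [hΦ, coe_eval₂Hom, eval₂_C, hval]
      change Localization.mk (C r) 1 = _
      rw [Localization.mk_one_eq_algebraMap]
    have hΦX : ∀ j : {j : Fin (n + 1) // j ≠ i}, valHom (Φ (X j)) =
        Localization.mk (X j.1 : MvPolynomial (Fin (n + 1)) R)
          (⟨X i, ⟨1, pow_one _⟩⟩ : Submonoid.powers (X i : MvPolynomial (Fin (n + 1)) R)) := by
      intro j
      rw [hΦ, coe_eval₂Hom, eval₂_X, hval, HomogeneousLocalization.val_mk]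
    have hdX : dehom (X i) = 1 := by
      simp [dehom]
    have hdXj : ∀ j : {j : Fin (n + 1) // j ≠ i}, dehom (X j.1) = X j := by
      intro j
      simp [dehom, j.2]
    have hdC : ∀ r, dehom (C r) = C r := by
      intro r
      simp [dehom]
    have hunit : IsUnit (dehom (X i)) := by
      rw [hdX]; exact isUnit_one
    let lft : Localization.Away (X i : MvPolynomial (Fin (n + 1)) R) →+*
        MvPolynomial {j : Fin (n + 1) // j ≠ i} R :=
      IsLocalization.Away.lift (X i) hunit
    have hlft : ∀ a, lft (algebraMap _ _ a) = dehom a := fun a =>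
      IsLocalization.Away.lift_eq _ hunit a
    have hmkX : ∀ j : Fin (n + 1), Localization.mk (X j : MvPolynomial (Fin (n + 1)) R)
        (⟨X i, ⟨1, pow_one _⟩⟩ : Submonoid.powers (X i : MvPolynomial (Fin (n + 1)) R)) *
          algebraMap (MvPolynomial (Fin (n + 1)) R)
            (Localization.Away (X i : MvPolynomial (Fin (n + 1)) R)) (X i) =
          algebraMap (MvPolynomial (Fin (n + 1)) R)
            (Localization.Away (X i : MvPolynomial (Fin (n + 1)) R)) (X j) := by
      intro j
      rw [Localization.mk_eq_mk']
      exact IsLocalization.mk'_spec _ _ _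
    constructor
    · have hΨΦ : ∀ a, lft (valHom (Φ a)) = a := by
        intro a
        have : (lft.comp valHom).comp Φ = RingHom.id _ := by
          apply MvPolynomial.ringHom_ext
          · intro r
            simp only [RingHom.comp_apply, RingHom.id_apply]
            rw [hΦC, hlft, hdC]
          · intro j
            simp only [RingHom.comp_apply, RingHom.id_apply]
            rw [hΦX]
            have h2 := congrArg lft (hmkX j.1)
            rw [map_mul, hlft, hlft, hdX, mul_one, hdXj] at h2
            exact h2
        exact RingHom.congr_fun this a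
      exact Function.LeftInverse.injective (g := fun z => lft (valHom z)) hΨΦ
    · intro y
      obtain ⟨⟨d, a, b, hb⟩, rfl⟩ := HomogeneousLocalization.mk_surjective y
      obtain ⟨m, hm⟩ := hb
      refine ⟨dehom a, ?_⟩
      apply HomogeneousLocalization.val_injective
      rw [← hval, HomogeneousLocalization.val_mk]
      set Θ := valHom.comp (Φ.comp dehom) with hΘ
      have hΘC : ∀ r, Θ (C r) = algebraMap _ _ (C r : MvPolynomial (Fin (n + 1)) R) := by
        intro r
        simp only [hΘ, RingHom.comp_apply]
        rw [hdC, hΦC]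
      have hΘXi : Θ (X i) = 1 := by
        simp only [hΘ, RingHom.comp_apply]
        rw [hdX, map_one, map_one]
      have hΘX : ∀ j, Θ (X j) * algebraMap _ _ (X i : MvPolynomial (Fin (n + 1)) R) =
          algebraMap _ _ (X j : MvPolynomial (Fin (n + 1)) R) := by
        intro j
        by_cases h : j = i
        · subst h
          rw [hΘXi, one_mul]
        · have : Θ (X j) = Localization.mk (X j : MvPolynomial (Fin (n + 1)) R)
              (⟨X i, ⟨1, pow_one _⟩⟩ : Submonoid.powers (X i : MvPolynomial (Fin (n + 1)) R)) := by
            simp only [hΘ, RingHom.comp_apply]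
            rw [hdXj ⟨j, h⟩, hΦX]
          rw [this]
          exact hmkX j
      have ha := hom_scale Θ (algebraMap _ _) (algebraMap _ _ (X i)) hΘC hΘX a.2
      have hb' := hom_scale Θ (algebraMap _ _) (algebraMap _ _ (X i)) hΘC hΘX b.2
      have hΘb : Θ (b : MvPolynomial (Fin (n + 1)) R) = 1 := by
        have : (b : MvPolynomial (Fin (n + 1)) R) = X i ^ m := hm.symm
        rw [this, map_pow, hΘXi, one_pow]
      rw [hΘb, one_mul] at hb'
      change Θ (a : MvPolynomial (Fin (n + 1)) R) = _
      rw [Localization.mk_eq_mk', IsLocalization.eq_mk'_iff_mul_eq]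
      change Θ (a : MvPolynomial (Fin (n + 1)) R) * algebraMap _ _ (b : MvPolynomial (Fin (n + 1)) R) = _
      rw [← hb']
      exact ha

end Groth.Agent.S9576
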