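import Groth.Statements.S9580
import Mathlib
import Groth.Agent.Lib.helper24.TwistTriv2
import Groth.Agent.Lib.helper24.GrAnn

set_option autoImplicit false
universe u
open CategoryTheory CategoryTheory.Limits AlgebraicGeometry TopologicalSpace Opposite
open Constr

namespace Groth.Agent.S9580



/-- Let S be a graded ring, X = Proj S and Y ⊆ X a quasi-compact open subscheme. Then there is an
integer d ≥ 1 such that Y is contained in the open W_d, the union of the standard opens D_+(ab) over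
homogeneous a, b with deg a = deg b + d, and such that the restriction O_Y(nd) of O_X(nd) to Y is
invertible for every integer n. (The remaining assertions — the multiplication maps among the
O_Y(nd) and M~(nd) are isomorphisms, D_+(f) ∩ Y = Y_s, and the loci Y_s form a basis — are not
stated here.) -/
theorem result {R A : Type u} [CommRing R] [CommRing A] [Algebra R A] (𝒜 : ℕ → Submodule R A) [GradedAlgebra 𝒜]
    (Y : (Proj 𝒜).Opens) (hY : IsCompact (Y : Set (Proj 𝒜))) :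
    ∃ d : ℕ, 0 < d ∧
      (∀ y : Proj 𝒜, y ∈ Y → ∃ (i j : ℕ) (a b : A), a ∈ 𝒜 i ∧ b ∈ 𝒜 j ∧ i = j + d ∧ y ∈ Proj.basicOpen 𝒜 (a * b)) ∧
      ∀ n : ℤ, PicF.IsInvertible ((Twist.twist 𝒜 (n * d)).restrict Y.ι) := by
  classical
  -- index type: homogeneous elements of positive degree
  let ι : Type u := {p : ℕ × A // 0 < p.1 ∧ p.2 ∈ 𝒜 p.1}
  let Uf : ι → Set (Proj 𝒜) := fun p => (Proj.basicOpen 𝒜 p.1.2 : Set (Proj 𝒜))
  have hcov : (Y : Set (Proj 𝒜)) ⊆ ⋃ p, Uf p := by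
    intro y _
    obtain ⟨e, f, he, hf, hfy⟩ := Groth.Agent.Lib.helper24.GrAnn.exists_homog_notMem 𝒜
      (y : ProjectiveSpectrum 𝒜)
    exact Set.mem_iUnion.mpr ⟨⟨(e, f), he, hf⟩, (ProjectiveSpectrum.mem_basicOpen 𝒜 f y).mpr hfy⟩
  obtain ⟨t, ht⟩ := hY.elim_finite_subcover Uf (fun p => (Proj.basicOpen 𝒜 p.1.2).2) hcov
  obtain ⟨d, hd⟩ : ∃ d : ℕ, d = ∏ p ∈ t, p.1.1 := ⟨_, rfl⟩
  have hdpos : 0 < d := by
    rw [hd]
    exact Finset.prod_pos fun p _ => p.2.1
  -- for every point of `Y`, a degree-`d` element not vanishing there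
  have hpt : ∀ y : Proj 𝒜, y ∈ Y → ∃ a : A, a ∈ 𝒜 d ∧ y ∈ Proj.basicOpen 𝒜 a := by
    intro y hy
    obtain ⟨p, hp⟩ := Set.mem_iUnion.mp (ht hy)
    obtain ⟨hpt, hyp⟩ := Set.mem_iUnion.mp hp
    have hdvd : p.1.1 ∣ d := by
      rw [hd]
      exact Finset.dvd_prod_of_mem (fun p : ι => p.1.1) hpt
    obtain ⟨k, hk⟩ := hdvd
    refine ⟨p.1.2 ^ k, ?_, ?_⟩
    · have := SetLike.pow_mem_graded k p.2.2
      rw [smul_eq_mul, mul_comm, ← hk] at this
      exact this
    · have hk0 : 0 < k := by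
        rcases Nat.eq_zero_or_pos k with h | h
        · rw [h, mul_zero] at hk
          omega
        · exact h
      have hyp' : p.1.2 ∉ (y : ProjectiveSpectrum 𝒜).asHomogeneousIdeal :=
        (ProjectiveSpectrum.mem_basicOpen 𝒜 p.1.2 y).mp hyp
      exact (ProjectiveSpectrum.mem_basicOpen 𝒜 _ y).mpr fun hmem =>
        hyp' ((y : ProjectiveSpectrum 𝒜).isPrime.mem_of_pow_mem k hmem)
  refine ⟨d, hdpos, ?_, ?_⟩
  · intro y hy
    obtain ⟨a, ha, hya⟩ := hpt y hy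
    refine ⟨d, 0, a, 1, ha, SetLike.GradedOne.one_mem, by omega, ?_⟩
    rw [mul_one]
    exact hya
  · intro n y
    obtain ⟨a, ha, hya⟩ := hpt y.1 y.2
    let U : (Y : Scheme).Opens := Y.ι ⁻¹ᵁ (Proj.basicOpen 𝒜 a)
    refine ⟨U, hya, ?_⟩
    have hfa : ∀ k : ℕ, a ^ k ∈ 𝒜 (k * d) := fun k => by
      have := SetLike.pow_mem_graded k ha
      rw [smul_eq_mul] at this
      exact this
    have hnot : ∀ (k : ℕ) (z : (U : Scheme)),
        a ^ k ∉ ((U.ι ≫ Y.ι) z : ProjectiveSpectrum 𝒜).asHomogeneousIdeal := by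
      intro k z hmem
      have hz : (Y.ι (U.ι z) : Proj 𝒜) ∈ Proj.basicOpen 𝒜 a := z.2
      refine (ProjectiveSpectrum.mem_basicOpen 𝒜 a _).mp hz ?_
      exact (Y.ι (U.ι z) : ProjectiveSpectrum 𝒜).isPrime.mem_of_pow_mem k hmem
    have hdeg : (((n.toNat * d : ℕ) : ℤ)) = (((-n).toNat * d : ℕ) : ℤ) + n * d := by
      have h1 : ((n.toNat : ℤ)) - ((-n).toNat : ℤ) = n := Int.toNat_sub_toNat_neg n
      have h2 : (n.toNat : ℤ) = (-n).toNat + n := by omega
      push_cast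
      rw [h2]
      ring
    obtain ⟨e⟩ := Groth.Agent.Lib.helper24.TwistTriv.twist_restrict_iso_of_isOpenImmersion 𝒜
      (U.ι ≫ Y.ι) (n * d) (hfa n.toNat) (hfa (-n).toNat) hdeg (hnot _) (hnot _)
    exact ⟨((Scheme.Modules.restrictFunctorComp U.ι Y.ι).app (Twist.twist 𝒜 (n * d))).symm ≪≫ e⟩

end Groth.Agent.S9580
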