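import Groth.Statements.S9581
import Groth.Agent.Lib.helper14.WeakAss

set_option autoImplicit false
universe u
open CAlg

namespace Groth.Agent.S9581

open Groth.Agent.H14

/-- (1) ⇔ (3): for a ring R, an R-module M and a prime p of R, the prime p is weakly associated to M
(minimal among the primes containing the annihilator of some element of M) if and only if the
localization M_p contains an element whose annihilator in R_p has radical equal to the maximal ideal
p R_p. -/
theorem result {R : Type u} [CommRing R] (M : Type u) [AddCommGroup M] [Module R M] (p : Ideal R) [p.IsPrime] :
    p ∈ FlatCA.weakAss R M ↔ IsAssociatedPrime (IsLocalRing.maximalIdeal (Localization.AtPrime p)) (LocalizedModule p.primeCompl M) := by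
  have hmax : p.map (algebraMap R (Localization.AtPrime p)) =
      IsLocalRing.maximalIdeal (Localization.AtPrime p) :=
    IsLocalization.AtPrime.map_eq_maximalIdeal p (Localization.AtPrime p)
  have hunder : (IsLocalRing.maximalIdeal (Localization.AtPrime p)).under R = p :=
    Localization.AtPrime.under_maximalIdeal
  constructor
  · rintro ⟨m, hm⟩
    refine ⟨inferInstance, LocalizedModule.mk m 1, ?_⟩
    rw [Submodule.bot_colon']
    have := ann_localizedModule_mk p.primeCompl m 1
    change (Submodule.span (Localization.AtPrime p) {LocalizedModule.mk m 1}).annihilator = _ at this
    rw [this, IsLocalization.AtPrime.radical_map_of_mem_minimalPrimes (Localization.AtPrime p) p _ hm,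
      hmax]
  · rintro ⟨-, y, hy⟩
    rw [Submodule.bot_colon'] at hy
    induction y using LocalizedModule.induction_on with
    | h m s =>
      have := ann_localizedModule_mk p.primeCompl m s
      change (Submodule.span (Localization.AtPrime p) {LocalizedModule.mk m s}).annihilator = _ at this
      rw [this] at hy
      refine ⟨m, ?_⟩
      have hmin : IsLocalRing.maximalIdeal (Localization.AtPrime p) ∈
          (Ideal.map (algebraMap R (Localization.AtPrime p))
            (Submodule.span R {m}).annihilator).minimalPrimes := by
        refine ⟨⟨inferInstance, ?_⟩, ?_⟩
        · rw [hy]; exact Ideal.le_radical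
        · rintro q ⟨hq, hle⟩ -
          rw [hy]
          exact hq.radical_le_iff.mpr hle
      rw [IsLocalization.minimalPrimes_map p.primeCompl, Set.mem_preimage, hunder] at hmin
      exact hmin

end Groth.Agent.S9581
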