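import Groth.Statements.S9582
import Groth.Agent.Lib.helper14.WeakAss

set_option autoImplicit false
universe u
open CAlg

namespace Groth.Agent.S9582

open Groth.Agent.H14

/-- For a reduced ring R, the primes weakly associated to the R-module R (primes minimal over the
annihilator of some element) are exactly the minimal primes of R. -/
theorem result {R : Type u} [CommRing R] [IsReduced R] :
    FlatCA.weakAss R R = minimalPrimes R := by
  ext p
  constructor
  · rintro ⟨m, hp⟩
    have hpp := hp.isPrime
    have hle : (Submodule.span R {m}).annihilator ≤ p := hp.le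
    -- key (*) : for x ∈ p there is s ∉ p with s * x * m = 0
    have key : ∀ x ∈ p, ∃ s ∉ p, s * x * m = 0 := by
      intro x hx
      obtain ⟨s, hs, n, hn⟩ := exists_mul_pow_mem_of_mem_minimalPrimes hp hx
      rw [mem_ann_span_singleton, smul_eq_mul] at hn
      refine ⟨s, hs, ?_⟩
      apply IsReduced.eq_zero
      refine ⟨n + 1, ?_⟩
      have : (s * x * m) ^ (n + 1) = (s ^ n * x * m ^ n) * (s * x ^ n * m) := by ring
      rw [this, hn, mul_zero]
    -- the submonoid generated by the complement of p and m does not contain 0
    let S : Submonoid R := p.primeCompl ⊔ Submonoid.powers m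
    have hS : Disjoint ((⊥ : Ideal R) : Set R) (S : Set R) := by
      rw [Set.disjoint_left]
      intro z hz hzS
      have hz0 : z = 0 := by simpa using hz
      subst hz0
      obtain ⟨t, ht, y, hy, hty⟩ := Submonoid.mem_sup.mp hzS
      obtain ⟨n, rfl⟩ := hy
      have h1 : t * m = 0 := by
        apply IsReduced.eq_zero
        refine ⟨n + 1, ?_⟩
        have : (t * m) ^ (n + 1) = (t ^ n * m) * (t * m ^ n) := by ring
        rw [this, hty, mul_zero]
      have : t ∈ (Submodule.span R {m}).annihilator := by
        rw [mem_ann_span_singleton, smul_eq_mul, h1]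
      exact ht (hle this)
    obtain ⟨q', hq'prime, -, hq'S⟩ := Ideal.exists_le_prime_disjoint ⊥ S hS
    have hq'p : q' ≤ p := by
      intro z hz
      by_contra hzp
      exact Set.disjoint_left.mp hq'S hz (Submonoid.mem_sup_left (S := p.primeCompl) hzp)
    have hmq' : m ∉ q' := fun hm =>
      Set.disjoint_left.mp hq'S hm (Submonoid.mem_sup_right (Submonoid.mem_powers m))
    obtain ⟨q'', hq''min, hq''le⟩ := Ideal.exists_minimalPrimes_le (I := ⊥) (J := q') bot_le
    have hq''prime := hq''min.isPrime
    have hpq'' : p ≤ q'' := by
      intro x hx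
      obtain ⟨s, hs, hsx⟩ := key x hx
      have h0 : s * x * m ∈ q'' := by rw [hsx]; exact q''.zero_mem
      rcases hq''prime.mem_or_mem h0 with h | h
      · rcases hq''prime.mem_or_mem h with h | h
        · exact absurd (hq'p (hq''le h)) hs
        · exact h
      · exact absurd (hq''le h) hmq'
    have : p = q'' := le_antisymm hpq'' (hq''le.trans hq'p)
    rw [this]; exact hq''min
  · intro hp
    refine ⟨1, ?_⟩
    have : (Submodule.span R {(1 : R)}).annihilator = ⊥ := by
      ext r
      rw [mem_ann_span_singleton]; simp
    rw [this]; exact hp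

end Groth.Agent.S9582
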