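import Groth.Statements.S9583
import Groth.Agent.Lib.helper14.WeakAss

set_option autoImplicit false
universe u
open CAlg

namespace Groth.Agent.S9583

open Groth.Agent.H14

theorem mem_minimalPrimes_of_le_of_le {R : Type u} [CommRing R] {I J p : Ideal R}
    (hp : p ∈ I.minimalPrimes) (hIJ : I ≤ J) (hJp : J ≤ p) : p ∈ J.minimalPrimes :=
  ⟨⟨hp.1.1, hJp⟩, fun _ hq hqp => hp.2 ⟨hq.1, hIJ.trans hq.2⟩ hqp⟩

/-- For a ring R and a short exact sequence 0 → M' → M → M'' → 0 of R-modules, every prime weakly
associated to M' is weakly associated to M, and every prime weakly associated to M is weakly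
associated to M' or to M''. -/
theorem result {R : Type u} [CommRing R] {M' M M'' : Type u} [AddCommGroup M'] [Module R M'] [AddCommGroup M] [Module R M] [AddCommGroup M''] [Module R M''] (f : M' →ₗ[R] M) (g : M →ₗ[R] M'') (hf : Function.Injective f) (hg : Function.Surjective g) (hfg : Function.Exact f g) :
    FlatCA.weakAss R M' ⊆ FlatCA.weakAss R M ∧ FlatCA.weakAss R M ⊆ FlatCA.weakAss R M' ∪ FlatCA.weakAss R M'' := by
  have hann : ∀ m' : M', (Submodule.span R {f m'}).annihilator = (Submodule.span R {m'}).annihilator := by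
    intro m'
    ext r
    rw [mem_ann_span_singleton, mem_ann_span_singleton, ← map_smul]
    exact ⟨fun h => hf (by rw [h, map_zero]), fun h => by rw [h, map_zero]⟩
  constructor
  · rintro p ⟨m', hp⟩
    exact ⟨f m', by rw [hann]; exact hp⟩
  · rintro p ⟨m, hp⟩
    have hpp := hp.isPrime
    by_cases h : (Submodule.span R {g m}).annihilator ≤ p
    · right
      refine ⟨g m, mem_minimalPrimes_of_le_of_le hp ?_ h⟩
      intro r hr
      rw [mem_ann_span_singleton] at hr ⊢
      rw [← map_smul, hr, map_zero]
    · left
      obtain ⟨x, hx, hxp⟩ := SetLike.not_le_iff_exists.mp h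
      rw [mem_ann_span_singleton, ← map_smul] at hx
      obtain ⟨m', hm'⟩ := (hfg (x • m)).mp hx
      refine ⟨m', ?_⟩
      rw [← hann, hm']
      refine mem_minimalPrimes_of_le_of_le hp ?_ ?_
      · intro r hr
        rw [mem_ann_span_singleton] at hr ⊢
        rw [smul_comm, hr, smul_zero]
      · intro y hy
        rw [mem_ann_span_singleton, smul_smul] at hy
        have : y * x ∈ p := hp.le (by rw [mem_ann_span_singleton]; exact hy)
        exact (hpp.mem_or_mem this).resolve_right hxp

end Groth.Agent.S9583
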