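import Groth.Statements.S9585
import Groth.Agent.Lib.helper14.WeakAss

set_option autoImplicit false
universe u
open CAlg

namespace Groth.Agent.S9585

open Groth.Agent.H14

/-- For a ring R and an R-module M, an element of R lies in some weakly associated prime of M exactly
when multiplication by it on M is not injective; in other words the union of the weakly associated
primes of M equals the set of zerodivisors on M. -/
theorem result {R : Type u} [CommRing R] (M : Type u) [AddCommGroup M] [Module R M] :
    ⋃ q ∈ FlatCA.weakAss R M, (q : Set R) = {f : R | ¬ IsSMulRegular M f} := by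
  ext f
  simp only [Set.mem_iUnion, SetLike.mem_coe, exists_prop, Set.mem_setOf_eq]
  constructor
  · rintro ⟨q, ⟨m, hq⟩, hfq⟩
    obtain ⟨y, hy, hxy⟩ := Ideal.exists_mul_mem_of_mem_minimalPrimes hq hfq
    rw [mem_ann_span_singleton] at hy hxy
    intro hreg
    apply hy
    apply hreg
    simp only [smul_zero]
    rw [smul_smul]; exact hxy
  · intro hf
    rw [IsSMulRegular, Function.Injective] at hf
    push_neg at hf
    obtain ⟨a, b, hab, hne⟩ := hf
    have hm : a - b ≠ 0 := sub_ne_zero.mpr hne
    have hfm : f • (a - b) = 0 := by
      rw [smul_sub]; exact sub_eq_zero.mpr hab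
    have hne : (Submodule.span R {a - b}).annihilator ≠ ⊤ := by
      intro htop
      apply hm
      have h1 : (1 : R) ∈ (Submodule.span R {a - b}).annihilator := htop ▸ Submodule.mem_top
      rw [mem_ann_span_singleton] at h1
      simpa using h1
    obtain ⟨q, hq⟩ := Ideal.nonempty_minimalPrimes hne
    exact ⟨q, ⟨a - b, hq⟩, hq.le (by rw [mem_ann_span_singleton]; exact hfm)⟩

end Groth.Agent.S9585
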