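import Groth.Statements.S9586
import Groth.Agent.Lib.helper14.WeakAss

set_option autoImplicit false
universe u
open CAlg

namespace Groth.Agent.S9586

open Groth.Agent.H14

/-- For a ring R, an R-module M and a finitely generated prime ideal p of R, p is associated to M (equal
to the annihilator of an element) if and only if p is weakly associated to M (minimal over the
annihilator of an element). -/
theorem result {R : Type u} [CommRing R] (M : Type u) [AddCommGroup M] [Module R M] (p : Ideal R) [p.IsPrime] (hp : p.FG) :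
    p ∈ FlatCA.ass R M ↔ p ∈ FlatCA.weakAss R M := by
  have hpp : p.IsPrime := inferInstance
  constructor
  · rintro ⟨-, m, hm⟩
    refine ⟨m, ?_⟩
    rw [← hm, Ideal.minimalPrimes_eq_subsingleton_self]
    rfl
  · rintro ⟨m, hmin⟩
    -- the contraction of the annihilator of `m/1` in the localization at `p`
    let J : Ideal R :=
      { carrier := {y | ∃ t ∉ p, (t * y) • m = 0}
        add_mem' := by
          rintro a b ⟨t₁, ht₁, h₁⟩ ⟨t₂, ht₂, h₂⟩
          refine ⟨t₁ * t₂, fun h => (hpp.mem_or_mem h).elim ht₁ ht₂, ?_⟩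
          have : (t₁ * t₂ * (a + b)) • m = t₂ • ((t₁ * a) • m) + t₁ • ((t₂ * b) • m) := by
            simp only [smul_smul, ← add_smul]; congr 1; ring
          rw [this, h₁, h₂, smul_zero, smul_zero, add_zero]
        zero_mem' := ⟨1, fun h => hpp.ne_top ((Ideal.eq_top_iff_one p).mpr h), by simp⟩
        smul_mem' := by
          rintro c y ⟨t, ht, h⟩
          refine ⟨t, ht, ?_⟩
          have : (t * c • y) • m = c • ((t * y) • m) := by
            simp only [smul_eq_mul, smul_smul]; congr 1; ring
          rw [this, h, smul_zero] }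
    have hJmem : ∀ y, y ∈ J ↔ ∃ t ∉ p, (t * y) • m = 0 := fun y => Iff.rfl
    have hJp : J ≤ p := by
      intro y hy
      obtain ⟨t, ht, h⟩ := (hJmem y).mp hy
      have : t * y ∈ p := hmin.le (by rw [mem_ann_span_singleton]; exact h)
      exact (hpp.mem_or_mem this).resolve_left ht
    have hpJ : p ≤ J.radical := by
      intro x hx
      obtain ⟨s, hs, n, hn⟩ := exists_mul_pow_mem_of_mem_minimalPrimes hmin hx
      rw [mem_ann_span_singleton] at hn
      exact ⟨n, (hJmem _).mpr ⟨s, hs, hn⟩⟩
    have hex : ∃ N : ℕ, p ^ N ≤ J := Ideal.exists_pow_le_of_le_radical_of_fg hpJ hp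
    classical
    have hN := Nat.find_spec hex
    set N := Nat.find hex with hNdef
    have hN0 : N ≠ 0 := by
      intro h0
      rw [h0, pow_zero, Ideal.one_eq_top] at hN
      exact hpp.ne_top (top_le_iff.mp (hN.trans hJp))
    have hN1 : ¬ p ^ (N - 1) ≤ J := Nat.find_min hex (Nat.sub_one_lt hN0)
    obtain ⟨z, hz, hzJ⟩ := SetLike.not_le_iff_exists.mp hN1
    have hpz : ∀ x ∈ p, ∃ t ∉ p, (t * (x * z)) • m = 0 := by
      intro x hx
      have : x * z ∈ p ^ N := by
        have h1 : x * z ∈ p * p ^ (N - 1) := Ideal.mul_mem_mul hx hz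
        rwa [← pow_succ', Nat.sub_add_cancel (Nat.one_le_iff_ne_zero.mpr hN0)] at h1
      exact (hJmem _).mp (hN this)
    obtain ⟨S, hS⟩ := hp
    choose! tf htf htf' using hpz
    let t : R := ∏ x ∈ S, tf x
    have htp : t ∉ p := by
      intro h
      rw [Ideal.IsPrime.prod_mem_iff] at h
      obtain ⟨x, hxS, hx⟩ := h
      exact htf x (hS ▸ Ideal.subset_span hxS) hx
    refine ⟨hpp, (t * z) • m, ?_⟩
    apply le_antisymm
    · rw [← hS, Ideal.span_le]
      intro x hxS
      have hxp : x ∈ p := hS ▸ Ideal.subset_span hxS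
      rw [SetLike.mem_coe, mem_ann_span_singleton]
      obtain ⟨c, hc⟩ := Finset.dvd_prod_of_mem tf hxS
      have : x • (t * z) • m = c • ((tf x * (x * z)) • m) := by
        simp only [smul_smul]; congr 1
        change x * ((∏ x ∈ S, tf x) * z) = _
        rw [hc]; ring
      rw [this, htf' x hxp, smul_zero]
    · intro y hy
      rw [mem_ann_span_singleton, smul_smul] at hy
      by_contra hyp
      apply hzJ
      refine (hJmem z).mpr ⟨y * t, fun h => (hpp.mem_or_mem h).elim hyp htp, ?_⟩
      rw [← hy]; congr 1; ring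

end Groth.Agent.S9586
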