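import Groth.Statements.S9590
import Groth.Agent.Lib.helper14.WeakAss

set_option autoImplicit false
universe u
open CAlg

namespace Groth.Agent.S9590

open Groth.Agent.H14

theorem ann_mk_eq {R : Type u} [CommRing R] (S : Submonoid R) (M : Type u) [AddCommGroup M] [Module R M]
    (hS : ∀ s ∈ S, IsSMulRegular M s) (m : M) (s : S) :
    (Submodule.span R {LocalizedModule.mk m s}).annihilator = (Submodule.span R {m}).annihilator := by
  ext r
  rw [mem_ann_span_singleton, mem_ann_span_singleton, LocalizedModule.smul'_mk,
    ← LocalizedModule.zero_mk s, LocalizedModule.mk_eq]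
  constructor
  · rintro ⟨u, hu⟩
    rw [smul_zero, smul_zero] at hu
    have h1 : (u : R) • ((s : R) • (r • m)) = 0 := hu
    have h2 := (hS u u.2) (by simpa using h1 : (u : R) • ((s : R) • (r • m)) = (u : R) • 0)
    exact (hS s s.2) (by simpa using h2)
  · intro h
    exact ⟨1, by rw [h]⟩

/-- For a ring R, an R-module M and a multiplicative subset S of R such that every element of S is a
nonzerodivisor on M, the primes of R weakly associated to M are the same as those weakly associated
to the R-module S⁻¹M. -/
theorem result {R : Type u} [CommRing R] (S : Submonoid R) (M : Type u) [AddCommGroup M] [Module R M] (hS : ∀ s ∈ S, IsSMulRegular M s) :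
    FlatCA.weakAss R M = FlatCA.weakAss R (LocalizedModule S M) := by
  ext p
  constructor
  · rintro ⟨m, hm⟩
    exact ⟨LocalizedModule.mk m 1, by rw [ann_mk_eq S M hS]; exact hm⟩
  · rintro ⟨y, hy⟩
    induction y using LocalizedModule.induction_on with
    | h m s => exact ⟨m, by rw [ann_mk_eq S M hS] at hy; exact hy⟩

end Groth.Agent.S9590
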