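import Groth.Statements.S9594
import Groth.Agent.Lib.helper14.WeakAss

set_option autoImplicit false
universe u
open CAlg

namespace Groth.Agent.S9594

open Groth.Agent.H14

/-- For a ring R, an R-module M and a multiplicative subset S of R, (1) the primes of R associated to
the R-module S⁻¹M are the inverse images of the primes of S⁻¹R associated to S⁻¹M, and (2) a prime
of R associated to M which does not meet S is associated to the R-module S⁻¹M. Here a prime is
associated to a module when it equals the annihilator of some element. -/
theorem result {R : Type u} [CommRing R] (S : Submonoid R) (M : Type u) [AddCommGroup M] [Module R M] :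
    FlatCA.ass R (LocalizedModule S M) = Ideal.comap (algebraMap R (Localization S)) '' FlatCA.ass (Localization S) (LocalizedModule S M) ∧
      ∀ p ∈ FlatCA.ass R M, Disjoint (S : Set R) (p : Set R) → p ∈ FlatCA.ass R (LocalizedModule S M) := by
  have hann : ∀ m : LocalizedModule S M, (Submodule.span R {m}).annihilator =
      Ideal.comap (algebraMap R (Localization S)) (Submodule.span (Localization S) {m}).annihilator := by
    intro m
    ext r
    rw [Ideal.mem_comap, mem_ann_span_singleton, mem_ann_span_singleton, algebraMap_smul]
  constructor
  · ext p
    constructor
    · rintro ⟨hp, y, hy⟩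
      have hdisj : Disjoint (S : Set R) (p : Set R) := by
        rw [Set.disjoint_left]
        intro t htS htp
        rw [hy, SetLike.mem_coe, mem_ann_span_singleton] at htp
        have hy0 : y = 0 := by
          have hu : IsUnit (algebraMap R (Module.End R (LocalizedModule S M)) t) :=
            IsLocalizedModule.map_units (LocalizedModule.mkLinearMap S M) ⟨t, htS⟩
          have hinj := ((Module.End.isUnit_iff _).mp hu).injective
          apply hinj
          simpa using htp
        apply hp.ne_top
        rw [hy, hy0]
        ext r; simp [Submodule.annihilator_bot]
      refine ⟨(Submodule.span (Localization S) {y}).annihilator, ⟨?_, y, rfl⟩, ?_⟩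
      · have h1 : (Submodule.span (Localization S) {y}).annihilator =
            Ideal.map (algebraMap R (Localization S)) p := by
          rw [hy, hann, IsLocalization.map_under S]
        rw [h1]
        exact IsLocalization.isPrime_of_isPrime_disjoint S (Localization S) p hp hdisj
      · rw [hy, hann]
    · rintro ⟨q, ⟨hq, y, rfl⟩, rfl⟩
      exact ⟨Ideal.comap_isPrime _ _, y, (hann y).symm⟩
  · rintro p ⟨hp, m, hm⟩ hdisj
    refine ⟨hp, LocalizedModule.mk m 1, ?_⟩
    ext r
    rw [mem_ann_span_singleton, LocalizedModule.smul'_mk, ← LocalizedModule.zero_mk 1,
      LocalizedModule.mk_eq]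
    constructor
    · intro hr
      refine ⟨1, ?_⟩
      rw [hm, mem_ann_span_singleton] at hr
      rw [hr]
    · rintro ⟨u, hu⟩
      rw [smul_zero, smul_zero, one_smul] at hu
      have h1 : ((u : R) * r) • m = 0 := by rw [mul_smul]; exact hu
      have h2 : (u : R) * r ∈ p := by rw [hm, mem_ann_span_singleton]; exact h1
      rcases hp.mem_or_mem h2 with h | h
      · exact absurd h (Set.disjoint_left.mp hdisj u.2)
      · exact h

end Groth.Agent.S9594
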