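import Groth.Statements.S9598
import Mathlib

set_option autoImplicit false
universe u
open CAlg

namespace Groth.Agent.S9598

/-- In a Jacobson ring, a non-maximal prime is contained in infinitely many maximal ideals. -/
theorem infinite_maximal {R : Type u} [CommRing R] [IsJacobsonRing R] (p : Ideal R) [p.IsPrime]
    (hp : ¬ p.IsMaximal) : {m : Ideal R | m.IsMaximal ∧ p ≤ m}.Infinite := by
  have hpp : p.IsPrime := inferInstance
  intro hTfin
  classical
  let t := hTfin.toFinset
  have hle : t.inf id ≤ p := by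
    intro x hx
    have hxq : ∀ q, q.IsMaximal → p ≤ q → x ∈ q := by
      intro q hq hpq
      have : t.inf id ≤ q :=
        Finset.inf_le (f := (id : Ideal R → Ideal R)) (hTfin.mem_toFinset.mpr ⟨hq, hpq⟩)
      exact this hx
    have hxf : x ∈ p.jacobson := by
      rw [Ideal.jacobson, Ideal.mem_sInf]
      rintro J ⟨hpJ, hJ⟩
      exact hxq J hJ hpJ
    rwa [← Ideal.radical_eq_jacobson, hpp.radical] at hxf
  rw [Ideal.IsPrime.inf_le' hpp] at hle
  obtain ⟨q, hqt, hqp⟩ := hle
  have hqT := hTfin.mem_toFinset.mp hqt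
  have : q = p := hqT.1.eq_of_le hpp.ne_top hqp
  exact hp (this ▸ hqT.1)

/-- For a field k and a finite type k-algebra S with dim S > 0, some element of S is a nonzerodivisor
and a nonunit. -/
theorem result {k S : Type u} [Field k] [CommRing S] [Algebra k S] [Algebra.FiniteType k S] (hdim : 0 < ringKrullDim S) :
    ∃ f : S, f ∈ nonZeroDivisors S ∧ ¬ IsUnit f := by
  have hJ : IsJacobsonRing S := isJacobsonRing_of_finiteType (A := k)
  have hN : IsNoetherianRing S := Algebra.FiniteType.isNoetherianRing k S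
  -- there is a non-maximal prime
  have hex : ∃ p : Ideal S, p.IsPrime ∧ ¬ p.IsMaximal := by
    by_contra h
    push Not at h
    have : Ring.KrullDimLE 0 S := Ring.KrullDimLE.mk₀ h
    have := Ring.krullDimLE_iff.mp this
    exact absurd hdim (not_lt.mpr (by simpa using this))
  obtain ⟨p, hp, hpmax⟩ := hex
  have hinf := infinite_maximal p hpmax
  have hassfin : (associatedPrimes S S).Finite := associatedPrimes.finite S S
  obtain ⟨m, hm, hmass⟩ := (hinf.sdiff hassfin).nonempty
  have hmmax : m.IsMaximal := hm.1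
  have hnot : ¬ ((m : Set S) ⊆ ⋃ q ∈ associatedPrimes S S, (q : Set S)) := by
    intro hsub
    obtain ⟨q, hq, hmq⟩ := (m.subset_union_prime_finite hassfin (f := id) 0 0
      fun _ h _ _ ↦ h.isPrime).1 hsub
    have : m = q := hmmax.eq_of_le hq.isPrime.ne_top hmq
    exact hmass (this ▸ hq)
  rw [Set.not_subset] at hnot
  obtain ⟨f, hfm, hf⟩ := hnot
  refine ⟨f, ?_, ?_⟩
  · rw [biUnion_associatedPrimes_eq_compl_nonZeroDivisors] at hf
    simpa using hf
  · intro hu
    exact hmmax.ne_top (Ideal.eq_top_of_isUnit_mem _ hfm hu)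

end Groth.Agent.S9598
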