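import Groth.Statements.S9600
import Groth.Agent.Lib.helper14.AdicExact

set_option autoImplicit false
universe u
open CAlg

namespace Groth.Agent.S9600

/-- Let R be a ring, I an ideal of R and 0 → M → N → Q → 0 a short exact sequence of R-modules in which
Q is killed by some power I^c of I. Then on I-adic completions the map M^ → N^ is injective, N^ → Q^
is surjective with kernel equal to the image of M^, and the canonical map Q → Q^ is bijective; so 0
→ M^ → N^ → Q → 0 is again short exact. -/
theorem result {R : Type u} [CommRing R] (I : Ideal R) {M N Q : Type u} [AddCommGroup M] [Module R M] [AddCommGroup N] [Module R N] [AddCommGroup Q] [Module R Q] (i : M →ₗ[R] N) (g : N →ₗ[R] Q) (hi : Function.Injective i) (hg : Function.Surjective g) (hig : Function.Exact i g) (c : ℕ) (hc : ∀ x ∈ I ^ c, ∀ q : Q, x • q = 0) :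
    Function.Injective (AdicCompletion.map I i) ∧ Function.Exact (AdicCompletion.map I i) (AdicCompletion.map I g) ∧ Function.Surjective (AdicCompletion.map I g) ∧ Function.Bijective (AdicCompletion.of I Q) := by
  have hle : (I ^ c • ⊤ : Submodule R N) ≤ LinearMap.range i := by
    rw [Submodule.smul_le]
    intro r hr n _
    rw [← (LinearMap.exact_iff.mp hig), LinearMap.mem_ker, map_smul]
    exact hc r hr _
  have hAR : ∀ n, (I ^ (n + c) • ⊤ : Submodule R N) ⊓ LinearMap.range i ≤
      Submodule.map i (I ^ n • ⊤ : Submodule R M) := by
    intro n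
    refine inf_le_left.trans ?_
    rw [pow_add, Submodule.mul_smul, Submodule.map_smul'', Submodule.map_top]
    exact smul_mono_right _ hle
  have hbot : ∀ n, c ≤ n → (I ^ n • ⊤ : Submodule R Q) = ⊥ := by
    intro n hn
    rw [eq_bot_iff, Submodule.smul_le]
    intro r hr q _
    rw [hc r (Ideal.pow_le_pow_right hn hr) q]
    exact zero_mem _
  refine ⟨H14.adicMap_injective_of_AR I hi c hAR, H14.adicMap_exact_of_AR I hi hig hg c hAR,
    AdicCompletion.map_surjective I hg, ?_⟩
  rw [AdicCompletion.of_bijective_iff]
  haveI : IsHausdorff I Q := ⟨fun x hx => by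
    have := hx c
    rw [hbot c le_rfl, SModEq.bot] at this
    exact this⟩
  haveI : IsPrecomplete I Q := ⟨fun f hf => by
    refine ⟨f c, fun n => ?_⟩
    rcases le_total n c with h | h
    · exact hf h
    · have := hf h
      rw [hbot c le_rfl, SModEq.bot] at this
      rw [this]⟩
  exact ⟨⟩

end Groth.Agent.S9600
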