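import Groth.Statements.S9601
import Mathlib

set_option autoImplicit false
universe u
open CAlg

namespace Groth.Agent.S9601

/-- For a ring R, an ideal I of R and an R-module M, let M^ be the I-adic completion and K_n the kernel
of the projection M^ → M/IⁿM. The completion M^ is I-adically complete exactly when K_n = Iⁿ M^
holds for every n ≥ 1. -/
theorem result {R : Type u} [CommRing R] (I : Ideal R) (M : Type u) [AddCommGroup M] [Module R M] :
    IsAdicComplete I (AdicCompletion I M) ↔ ∀ n : ℕ, 1 ≤ n → LinearMap.ker (AdicCompletion.eval I M n) = I ^ n • (⊤ : Submodule R (AdicCompletion I M)) := by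
  have hofle : ∀ n (y : M), y ∈ (I ^ n • ⊤ : Submodule R M) →
      AdicCompletion.of I M y ∈ (I ^ n • ⊤ : Submodule R (AdicCompletion I M)) := by
    intro n y hy
    have h1 : Submodule.map (AdicCompletion.of I M) (I ^ n • ⊤ : Submodule R M) ≤
        (I ^ n • ⊤ : Submodule R (AdicCompletion I M)) := by
      rw [Submodule.map_smul'']
      exact smul_mono_right _ le_top
    exact h1 ⟨y, hy, rfl⟩
  constructor
  · intro hcomp n _
    refine le_antisymm ?_ (AdicCompletion.pow_smul_top_le_ker_eval I n)
    intro x hx
    obtain ⟨a, rfl⟩ := AdicCompletion.mk_surjective I M x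
    have hprec : IsPrecomplete I (AdicCompletion I M) := hcomp.toIsPrecomplete
    have hF : ∀ {m m' : ℕ}, m ≤ m' → AdicCompletion.of I M (a m) ≡ AdicCompletion.of I M (a m')
        [SMOD (I ^ m • ⊤ : Submodule R (AdicCompletion I M))] := by
      intro m m' hmm'
      rw [SModEq.sub_mem, ← map_sub]
      apply hofle
      rw [← SModEq.sub_mem]
      exact a.property hmm'
    obtain ⟨L, hL⟩ := hprec.prec hF
    have hLx : L = AdicCompletion.mk I M a := by
      apply AdicCompletion.ext
      intro m
      have h1 := hL m
      rw [SModEq.sub_mem] at h1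
      have h2 := AdicCompletion.pow_smul_top_le_ker_eval I m h1
      rw [LinearMap.mem_ker, map_sub, sub_eq_zero] at h2
      change AdicCompletion.eval I M m L = _
      rw [← h2]
      rfl
    have han : a n ∈ (I ^ n • ⊤ : Submodule R M) := by
      rw [LinearMap.mem_ker] at hx
      have : Submodule.Quotient.mk (p := (I ^ n • ⊤ : Submodule R M)) (a n) = 0 := hx
      rwa [Submodule.Quotient.mk_eq_zero] at this
    have h3 := hL n
    rw [SModEq.sub_mem] at h3
    rw [← hLx]
    have : L = AdicCompletion.of I M (a n) - (AdicCompletion.of I M (a n) - L) := by abel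
    rw [this]
    exact Submodule.sub_mem _ (hofle n _ han) h3
  · intro hK
    haveI : IsPrecomplete I (AdicCompletion I M) := by
      refine ⟨fun F hF => ?_⟩
      have hcompat : ∀ {m n : ℕ} (hmn : m ≤ n),
          AdicCompletion.eval I M m (F n) = AdicCompletion.eval I M m (F m) := by
        intro m n hmn
        have h1 := hF hmn
        rw [SModEq.sub_mem] at h1
        have h2 := AdicCompletion.pow_smul_top_le_ker_eval I m h1
        rw [LinearMap.mem_ker, map_sub, sub_eq_zero] at h2
        exact h2.symm
      let L : AdicCompletion I M := ⟨fun n => AdicCompletion.eval I M n (F n), by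
        intro m n hmn
        change AdicCompletion.transitionMap I M hmn ((F n).val n) = _
        rw [AdicCompletion.transitionMap_comp_eval_apply]
        exact hcompat hmn⟩
      refine ⟨L, fun n => ?_⟩
      rcases Nat.eq_zero_or_pos n with rfl | hn
      · rw [SModEq.sub_mem]
        simp
      · rw [SModEq.sub_mem, ← hK n hn, LinearMap.mem_ker, map_sub, sub_eq_zero]
        rfl
    exact ⟨⟩

end Groth.Agent.S9601
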