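import Groth.Statements.S9602
import Mathlib

set_option autoImplicit false
universe u
open CAlg

namespace Groth.Agent.S9602

theorem isUnit_of_isUnit_evalOne {R : Type u} [CommRing R] (I : Ideal R) (x : AdicCompletion I R)
    (hx : IsUnit (AdicCompletion.evalOneₐ I x)) : IsUnit x := by
  obtain ⟨a, rfl⟩ := AdicCompletion.mk_surjective I R x
  have hone : AdicCompletion.evalOneₐ I (AdicCompletion.mk I R a) = Ideal.Quotient.mk I (a.val 1) := by
    rw [← AdicCompletion.factorₐ_evalₐ_one, AdicCompletion.evalₐ_mk, Ideal.Quotient.factor_mk]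
  rw [hone] at hx
  have hcauchy : ∀ {m n : ℕ}, m ≤ n → a.val m - a.val n ∈ I ^ m := by
    intro m n hmn
    have := a.property hmn
    rw [SModEq.sub_mem] at this
    simpa using this
  have hunit : ∀ n, IsUnit (Ideal.Quotient.mk (I ^ n) (a.val n)) := by
    intro n
    by_cases hn : n = 0
    · subst hn
      have : Subsingleton (R ⧸ I ^ 0) := by
        rw [pow_zero, Ideal.one_eq_top]
        exact Ideal.Quotient.subsingleton_iff.mpr rfl
      exact isUnit_of_subsingleton _
    · rw [Ideal.Quotient.isUnit_mk_pow_iff_isUnit_mk I hn]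
      have h1 : Ideal.Quotient.mk I (a.val n) = Ideal.Quotient.mk I (a.val 1) := by
        rw [eq_comm, Ideal.Quotient.eq]
        have := hcauchy (m := 1) (n := n) (Nat.one_le_iff_ne_zero.mpr hn)
        simpa using this
      rw [h1]; exact hx
  have hex : ∀ n, ∃ b : R, Ideal.Quotient.mk (I ^ n) (a.val n * b) = 1 := by
    intro n
    obtain ⟨u, hu⟩ := hunit n
    obtain ⟨b, hb⟩ := Ideal.Quotient.mk_surjective (↑u⁻¹ : R ⧸ I ^ n)
    exact ⟨b, by rw [map_mul, hb, ← hu, Units.mul_inv]⟩
  choose b hb using hex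
  have hbc : ∀ n, b n ≡ b (n + 1) [SMOD (I ^ n • ⊤ : Submodule R R)] := by
    intro n
    rw [SModEq.sub_mem]
    have htop : (I ^ n • ⊤ : Submodule R R) = I ^ n := by simp
    rw [htop, ← Ideal.Quotient.eq]
    have h1 : Ideal.Quotient.mk (I ^ n) (a.val (n + 1) * b (n + 1)) = 1 := by
      have := hb (n + 1)
      rw [← map_one (Ideal.Quotient.mk (I ^ (n + 1))), Ideal.Quotient.eq] at this
      rw [← map_one (Ideal.Quotient.mk (I ^ n)), Ideal.Quotient.eq]
      exact Ideal.pow_le_pow_right (Nat.le_succ n) this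
    have h2 : Ideal.Quotient.mk (I ^ n) (a.val n) = Ideal.Quotient.mk (I ^ n) (a.val (n + 1)) := by
      rw [Ideal.Quotient.eq]; exact hcauchy (Nat.le_succ n)
    have h3 := hb n
    rw [map_mul] at h1 h3
    rw [← h2] at h1
    calc Ideal.Quotient.mk (I ^ n) (b n)
        = Ideal.Quotient.mk (I ^ n) (b n) *
            (Ideal.Quotient.mk (I ^ n) (a.val n) * Ideal.Quotient.mk (I ^ n) (b (n + 1))) := by
          rw [h1, mul_one]
      _ = (Ideal.Quotient.mk (I ^ n) (a.val n) * Ideal.Quotient.mk (I ^ n) (b n)) *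
            Ideal.Quotient.mk (I ^ n) (b (n + 1)) := by ring
      _ = Ideal.Quotient.mk (I ^ n) (b (n + 1)) := by rw [h3, one_mul]
  let bs : AdicCompletion.AdicCauchySequence I R := AdicCompletion.AdicCauchySequence.mk I R b hbc
  refine IsUnit.of_mul_eq_one (AdicCompletion.mk I R bs) ?_
  apply AdicCompletion.ext_evalₐ
  intro n
  rw [map_mul, AdicCompletion.evalₐ_mk, AdicCompletion.evalₐ_mk, map_one, ← map_mul]
  exact hb n

/-- Let R be a ring, I an ideal of R and R^ = lim R/Iⁿ the I-adic completion. An element of R^ whose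
image in R/I is invertible is itself invertible in R^; and the kernel of R^ → R/I as well as the
extended ideal I R^ both lie inside the Jacobson radical of R^. -/
theorem result {R : Type u} [CommRing R] (I : Ideal R) :
    (∀ x : AdicCompletion I R, IsUnit (AdicCompletion.evalOneₐ I x) → IsUnit x) ∧
      RingHom.ker (AdicCompletion.evalOneₐ I).toRingHom ≤ (⊥ : Ideal (AdicCompletion I R)).jacobson ∧
      I.map (algebraMap R (AdicCompletion I R)) ≤ (⊥ : Ideal (AdicCompletion I R)).jacobson := by
  have h2 : RingHom.ker (AdicCompletion.evalOneₐ I).toRingHom ≤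
      (⊥ : Ideal (AdicCompletion I R)).jacobson := by
    intro x hx
    rw [RingHom.mem_ker] at hx
    rw [Ideal.mem_jacobson_bot]
    intro y
    apply isUnit_of_isUnit_evalOne
    have : AdicCompletion.evalOneₐ I x = 0 := hx
    rw [map_add, map_mul, this, zero_mul, zero_add, map_one]
    exact isUnit_one
  refine ⟨isUnit_of_isUnit_evalOne I, h2, ?_⟩
  rw [Ideal.map_le_iff_le_comap]
  intro r hr
  rw [Ideal.mem_comap]
  apply h2
  rw [RingHom.mem_ker]
  change AdicCompletion.evalOneₐ I (algebraMap R (AdicCompletion I R) r) = 0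
  rw [AdicCompletion.algebraMap_apply, Algebra.algebraMap_self_apply, AdicCompletion.evalOneₐ_of]
  exact Ideal.Quotient.eq_zero_iff_mem.mpr hr

end Groth.Agent.S9602
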