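import Groth.Statements.S9603
import Mathlib

set_option autoImplicit false
universe u
open CAlg

namespace H14P

theorem isPrecomplete_bot {A M : Type*} [CommRing A] [AddCommGroup M] [Module A M] :
    IsPrecomplete (⊥ : Ideal A) M := by
  rw [isPrecomplete_iff]
  intro f hf
  refine ⟨f 1, fun n => ?_⟩
  rcases Nat.eq_zero_or_pos n with rfl | hn
  · rw [pow_zero, Ideal.one_eq_top, SModEq.sub_mem, Submodule.top_smul]; trivial
  · exact (hf (m := 1) (n := n) hn).symm.mono (Submodule.smul_mono_left
      (by rw [pow_one]; exact bot_le))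

theorem isPrecomplete_sup {A M : Type*} [CommRing A] [AddCommGroup M] [Module A M] (I J : Ideal A)
    (hI : IsPrecomplete I M) (hJ : IsPrecomplete J M) : IsPrecomplete (I ⊔ J) M := by
  rw [isPrecomplete_iff]
  intro f hf
  have hstep : ∀ n, ∃ a ∈ (I ^ n • ⊤ : Submodule A M), ∃ b ∈ (J ^ n • ⊤ : Submodule A M),
      a + b = f (2 * (n + 1)) - f (2 * n) := by
    intro n
    have h1 : f (2 * (n + 1)) - f (2 * n) ∈ ((I ⊔ J) ^ (2 * n) • ⊤ : Submodule A M) :=
      SModEq.sub_mem.mp (hf (m := 2 * n) (n := 2 * (n + 1)) (by omega)).symm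
    have h2 : ((I ⊔ J) ^ (2 * n) • ⊤ : Submodule A M) ≤ I ^ n • ⊤ ⊔ J ^ n • ⊤ := by
      rw [← Submodule.sup_smul, two_mul]
      exact Submodule.smul_mono_left Ideal.sup_pow_add_le_pow_sup_pow
    obtain ⟨a, ha, b, hb, hab⟩ := Submodule.mem_sup.mp (h2 h1)
    exact ⟨a, ha, b, hb, hab⟩
  choose a ha b hb hab using hstep
  have hcauchy : ∀ (K : Ideal A) (c : ℕ → M), (∀ n, c n ∈ (K ^ n • ⊤ : Submodule A M)) →
      ∀ {m n}, m ≤ n → (∑ k ∈ Finset.range m, c k) ≡ (∑ k ∈ Finset.range n, c k)
        [SMOD (K ^ m • ⊤ : Submodule A M)] := by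
    intro K c hc m n hmn
    apply SModEq.symm
    rw [SModEq.sub_mem, ← Finset.sum_Ico_eq_sub _ hmn]
    refine Submodule.sum_mem _ fun k hk => ?_
    exact Submodule.smul_mono_left (Ideal.pow_le_pow_right (Finset.mem_Ico.mp hk).1) (hc k)
  obtain ⟨La, hLa⟩ := hI.prec (hcauchy I a ha)
  obtain ⟨Lb, hLb⟩ := hJ.prec (hcauchy J b hb)
  have htel : ∀ n, f (2 * n) = f 0 + (∑ k ∈ Finset.range n, a k) + (∑ k ∈ Finset.range n, b k) := by
    intro n
    induction n with
    | zero => simp
    | succ n ih =>
      rw [Finset.sum_range_succ, Finset.sum_range_succ]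
      have := hab n
      rw [eq_sub_iff_add_eq] at this
      rw [← this, ih]
      abel
  refine ⟨f 0 + La + Lb, fun n => ?_⟩
  have h1 : f n ≡ f (2 * n) [SMOD ((I ⊔ J) ^ n • ⊤ : Submodule A M)] := hf (by omega)
  refine h1.trans ?_
  rw [htel n]
  refine SModEq.add (SModEq.add (SModEq.refl _) ?_) ?_
  · exact (hLa n).mono (Submodule.smul_mono_left (Ideal.pow_right_mono le_sup_left n))
  · exact (hLb n).mono (Submodule.smul_mono_left (Ideal.pow_right_mono le_sup_right n))

theorem isPrecomplete_span_image {A M : Type*} [CommRing A] [AddCommGroup M] [Module A M]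
    {ι : Type*} (f : ι → A) (s : Finset ι) (h : ∀ i ∈ s, IsPrecomplete (Ideal.span {f i}) M) :
    IsPrecomplete (Ideal.span (f '' (s : Set ι))) M := by
  classical
  induction s using Finset.induction_on with
  | empty =>
    rw [Finset.coe_empty, Set.image_empty, Ideal.span_empty]
    exact isPrecomplete_bot
  | insert i s _ ih =>
    rw [Finset.coe_insert, Set.image_insert_eq, Ideal.span_insert]
    exact isPrecomplete_sup _ _ (h i (Finset.mem_insert_self i s))
      (ih fun j hj => h j (Finset.mem_insert_of_mem hj))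

end H14P


namespace Groth.Agent.S9603

/-- For a ring A, elements f_1, …, f_r generating an ideal I and an A-module M, if the canonical map
from M to its (f_i)-adic completion is surjective for every i, then the canonical map from M to its
I-adic completion is surjective. -/
theorem result {A : Type u} [CommRing A] {r : ℕ} (f : Fin r → A) (M : Type u) [AddCommGroup M] [Module A M] (h : ∀ i, Function.Surjective (AdicCompletion.of (Ideal.span {f i}) M)) :
    Function.Surjective (AdicCompletion.of (Ideal.span (Set.range f)) M) := by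
  rw [AdicCompletion.of_surjective_iff]
  have := H14P.isPrecomplete_span_image (M := M) f Finset.univ
    (fun i _ => AdicCompletion.of_surjective_iff.mp (h i))
  rwa [Finset.coe_univ, Set.image_univ] at this

end Groth.Agent.S9603
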