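import Groth.Statements.S9605
import Mathlib

set_option autoImplicit false
universe u
open CAlg

namespace Groth.Agent.S9605

theorem mem_pow_smul_quot_iff {R : Type u} [CommRing R] (I : Ideal R) (M : Type u) [AddCommGroup M]
    [Module R M] (K : Submodule R M) (n : ℕ) (x : M) :
    K.mkQ x ∈ (I ^ n • ⊤ : Submodule R (M ⧸ K)) ↔ x ∈ K ⊔ I ^ n • (⊤ : Submodule R M) := by
  have h1 : (I ^ n • ⊤ : Submodule R (M ⧸ K)) = Submodule.map K.mkQ (I ^ n • ⊤ : Submodule R M) := by
    rw [Submodule.map_smul'', Submodule.map_top, Submodule.range_mkQ]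
  rw [h1, ← Submodule.mem_comap, Submodule.comap_map_eq, Submodule.ker_mkQ, sup_comm]

/-- For a ring R, an ideal I of R, an I-adically complete R-module M and a submodule K of M, the
quotient M/K is I-adically complete if and only if K = ⋂ₙ (K + IⁿM). -/
theorem result {R : Type u} [CommRing R] (I : Ideal R) (M : Type u) [AddCommGroup M] [Module R M] [IsAdicComplete I M] (K : Submodule R M) :
    IsAdicComplete I (M ⧸ K) ↔ K = ⨅ n : ℕ, K ⊔ I ^ n • (⊤ : Submodule R M) := by
  have hprec : IsPrecomplete I (M ⧸ K) := by
    rw [← AdicCompletion.of_surjective_iff]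
    have h1 : Function.Surjective (AdicCompletion.map I K.mkQ) :=
      AdicCompletion.map_surjective I (Submodule.mkQ_surjective K)
    have h2 : Function.Surjective (AdicCompletion.of I M) := AdicCompletion.of_surjective I M
    intro y
    obtain ⟨z, hz⟩ := h1 y
    obtain ⟨w, hw⟩ := h2 z
    refine ⟨K.mkQ w, ?_⟩
    rw [← hz, ← hw, AdicCompletion.map_of]
  have hhaus : IsHausdorff I (M ⧸ K) ↔ K = ⨅ n : ℕ, K ⊔ I ^ n • (⊤ : Submodule R M) := by
    rw [isHausdorff_iff]
    constructor
    · intro h
      apply le_antisymm
      · exact le_iInf fun n => le_sup_left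
      · intro x hx
        rw [Submodule.mem_iInf] at hx
        have : K.mkQ x = 0 := by
          apply h
          intro n
          rw [SModEq.zero]
          exact (mem_pow_smul_quot_iff I M K n x).mpr (hx n)
        simpa using this
    · intro h y hy
      obtain ⟨x, rfl⟩ := Submodule.mkQ_surjective K y
      have : x ∈ ⨅ n : ℕ, K ⊔ I ^ n • (⊤ : Submodule R M) := by
        rw [Submodule.mem_iInf]
        intro n
        have := hy n
        rw [SModEq.zero] at this
        exact (mem_pow_smul_quot_iff I M K n x).mp this
      rw [← h] at this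
      simpa using this
  constructor
  · intro h
    exact hhaus.mp h.toIsHausdorff
  · intro h
    have := hhaus.mpr h
    exact { toIsHausdorff := this, toIsPrecomplete := hprec }

end Groth.Agent.S9605
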