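import Groth.Statements.S9606
import Mathlib

set_option autoImplicit false
universe u
open CAlg

namespace Groth.Agent.S9606

/-- Key lemma: for two primes `q`, `q'` of `S` over the same prime `p` of `R`, the images of any
`s : S` in the two residue fields come from one and the same element of `κ(p)`. -/
theorem key {R S : Type u} [CommRing R] [CommRing S] [Algebra R S]
    (hgen : Algebra.adjoin R {x : S | x ^ 2 ∈ Set.range (algebraMap R S) ∧
      x ^ 3 ∈ Set.range (algebraMap R S)} = ⊤)
    (p : Ideal R) [p.IsPrime] (q q' : Ideal S) [q.IsPrime] [q'.IsPrime]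
    (hq : p = q.comap (algebraMap R S)) (hq' : p = q'.comap (algebraMap R S)) (s : S) :
    ∃ c : p.ResidueField,
      algebraMap S q.ResidueField s = Ideal.ResidueField.map p q (algebraMap R S) hq c ∧
      algebraMap S q'.ResidueField s = Ideal.ResidueField.map p q' (algebraMap R S) hq' c := by
  let T : Subalgebra R S :=
    { carrier := {s | ∃ c : p.ResidueField,
        algebraMap S q.ResidueField s = Ideal.ResidueField.map p q (algebraMap R S) hq c ∧
        algebraMap S q'.ResidueField s = Ideal.ResidueField.map p q' (algebraMap R S) hq' c}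
      mul_mem' := by
        rintro a b ⟨c₁, h1, h1'⟩ ⟨c₂, h2, h2'⟩
        exact ⟨c₁ * c₂, by rw [map_mul, map_mul, h1, h2], by rw [map_mul, map_mul, h1', h2']⟩
      one_mem' := ⟨1, by rw [map_one, map_one], by rw [map_one, map_one]⟩
      add_mem' := by
        rintro a b ⟨c₁, h1, h1'⟩ ⟨c₂, h2, h2'⟩
        exact ⟨c₁ + c₂, by rw [map_add, map_add, h1, h2], by rw [map_add, map_add, h1', h2']⟩
      zero_mem' := ⟨0, by rw [map_zero, map_zero], by rw [map_zero, map_zero]⟩
      algebraMap_mem' := by
        intro r
        exact ⟨algebraMap R p.ResidueField r, by rw [Ideal.ResidueField.map_algebraMap],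
          by rw [Ideal.ResidueField.map_algebraMap]⟩ }
  have hG : {x : S | x ^ 2 ∈ Set.range (algebraMap R S) ∧ x ^ 3 ∈ Set.range (algebraMap R S)} ⊆
      (T : Set S) := by
    rintro x ⟨⟨a, ha⟩, ⟨b, hb⟩⟩
    set ι := Ideal.ResidueField.map p q (algebraMap R S) hq with hι
    set ι' := Ideal.ResidueField.map p q' (algebraMap R S) hq' with hι'
    set abar := algebraMap R p.ResidueField a with habar
    set bbar := algebraMap R p.ResidueField b with hbbar
    have e2 : (algebraMap S q.ResidueField x) ^ 2 = ι abar := by
      rw [← map_pow, ← ha, hι, habar, Ideal.ResidueField.map_algebraMap]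
    have e3 : (algebraMap S q.ResidueField x) ^ 3 = ι bbar := by
      rw [← map_pow, ← hb, hι, hbbar, Ideal.ResidueField.map_algebraMap]
    have e2' : (algebraMap S q'.ResidueField x) ^ 2 = ι' abar := by
      rw [← map_pow, ← ha, hι', habar, Ideal.ResidueField.map_algebraMap]
    have e3' : (algebraMap S q'.ResidueField x) ^ 3 = ι' bbar := by
      rw [← map_pow, ← hb, hι', hbbar, Ideal.ResidueField.map_algebraMap]
    by_cases h0 : abar = 0
    · refine ⟨0, ?_, ?_⟩
      · rw [h0, map_zero] at e2
        rw [map_zero]
        exact pow_eq_zero_iff (two_ne_zero) |>.mp e2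
      · rw [h0, map_zero] at e2'
        rw [map_zero]
        exact pow_eq_zero_iff (two_ne_zero) |>.mp e2'
    · refine ⟨bbar / abar, ?_, ?_⟩
      · have hne : ι abar ≠ 0 := (map_ne_zero ι).mpr h0
        rw [map_div₀, ← e2, ← e3]
        have hx : algebraMap S q.ResidueField x ≠ 0 := by
          intro hx
          apply hne
          rw [← e2, hx]
          ring
        field_simp
      · have hne : ι' abar ≠ 0 := (map_ne_zero ι').mpr h0
        rw [map_div₀, ← e2', ← e3']
        have hx : algebraMap S q'.ResidueField x ≠ 0 := by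
          intro hx
          apply hne
          rw [← e2', hx]
          ring
        field_simp
  have hT : T = ⊤ := by
    apply top_le_iff.mp
    rw [← hgen]
    exact Algebra.adjoin_le hG
  have : s ∈ T := hT ▸ Algebra.mem_top
  exact this

/-- Let R → S be a ring map with locally nilpotent kernel such that S is generated over R by elements x
with x² and x³ in the image of R. Then the induced map on spectra is a homeomorphism and every
residue field map κ(p) → κ(q), for q a prime of S with inverse image p, is bijective. -/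
theorem result {R S : Type u} [CommRing R] [CommRing S] [Algebra R S]
    (hgen : Algebra.adjoin R {x : S | x ^ 2 ∈ Set.range (algebraMap R S) ∧ x ^ 3 ∈ Set.range (algebraMap R S)} = ⊤)
    (hker : ∀ r : R, algebraMap R S r = 0 → IsNilpotent r) :
    IsHomeomorph (PrimeSpectrum.comap (algebraMap R S)) ∧
      ∀ (q : Ideal S) [q.IsPrime], Function.Bijective (Ideal.ResidueField.map (q.comap (algebraMap R S)) q (algebraMap R S) rfl) := by
  have hint : Algebra.IsIntegral R S := by
    have h1 : ∀ x ∈ {x : S | x ^ 2 ∈ Set.range (algebraMap R S) ∧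
        x ^ 3 ∈ Set.range (algebraMap R S)}, IsIntegral R x := by
      rintro x ⟨⟨a, ha⟩, _⟩
      refine IsIntegral.of_pow (n := 2) (by norm_num) ?_
      rw [← ha]
      exact isIntegral_algebraMap
    have h2 := Algebra.IsIntegral.adjoin h1
    rw [hgen] at h2
    constructor
    intro x
    have := h2.isIntegral ⟨x, Algebra.mem_top⟩
    exact this.map (Subalgebra.val (⊤ : Subalgebra R S))
  refine ⟨?_, ?_⟩
  · rw [isHomeomorph_iff_continuous_isClosedMap_bijective]
    refine ⟨PrimeSpectrum.continuous_comap (algebraMap R S), ?_, ?_, ?_⟩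
    · exact PrimeSpectrum.isClosedMap_comap_of_isIntegral _ (algebraMap_isIntegral_iff.mpr hint)
    · -- injective
      intro q q' hqq'
      have hq' : q.asIdeal.comap (algebraMap R S) = q'.asIdeal.comap (algebraMap R S) :=
        congrArg PrimeSpectrum.asIdeal hqq'
      apply PrimeSpectrum.ext
      ext s
      obtain ⟨c, h1, h2⟩ := key hgen (q.asIdeal.comap (algebraMap R S)) q.asIdeal q'.asIdeal rfl hq' s
      rw [← Ideal.algebraMap_residueField_eq_zero (I := q.asIdeal),
        ← Ideal.algebraMap_residueField_eq_zero (I := q'.asIdeal), h1, h2, map_eq_zero, map_eq_zero]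
    · -- surjective
      intro p
      obtain ⟨Q, _, hQ, hQp⟩ := Ideal.exists_ideal_over_prime_of_isIntegral p.asIdeal
        (⊥ : Ideal S) (by
          intro r hr
          have hr0 : algebraMap R S r = 0 := by simpa using hr
          obtain ⟨N, hN⟩ := hker r hr0
          exact p.isPrime.mem_of_pow_mem N (by rw [hN]; exact Ideal.zero_mem _))
      exact ⟨⟨Q, hQ⟩, PrimeSpectrum.ext hQp⟩
  · intro q hq
    refine ⟨RingHom.injective _, ?_⟩
    intro l
    obtain ⟨a, b, hb, rfl⟩ := IsFractionRing.div_surjective (A := S ⧸ q) l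
    obtain ⟨sa, rfl⟩ := Ideal.Quotient.mk_surjective a
    obtain ⟨sb, rfl⟩ := Ideal.Quotient.mk_surjective b
    obtain ⟨ca, h1, _⟩ := key hgen (q.comap (algebraMap R S)) q q rfl rfl sa
    obtain ⟨cb, h2, _⟩ := key hgen (q.comap (algebraMap R S)) q q rfl rfl sb
    refine ⟨ca / cb, ?_⟩
    rw [map_div₀, ← h1, ← h2]
    rfl

end Groth.Agent.S9606
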