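import Groth.Statements.S9607
import Mathlib

set_option autoImplicit false
universe u
open CAlg

namespace Groth.Agent.S9607

section helpers


lemma dvd_choose (p : ℕ) (hp : p.Prime) (a M k : ℕ) (hMa : M ≤ a) (hk : k ≤ p ^ a)
    (hndvd : ¬ p ^ M ∣ k) : p ^ (a - M) ∣ Nat.choose (p ^ a) k := by
  have hk0 : k ≠ 0 := by
    rintro rfl
    exact hndvd (dvd_zero _)
  have hfin : FiniteMultiplicity p k :=
    Nat.finiteMultiplicity_iff.2 ⟨hp.ne_one, Nat.pos_of_ne_zero hk0⟩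
  have hlt : multiplicity p k < M := hfin.multiplicity_lt_iff_not_dvd.mpr hndvd
  apply pow_dvd_of_le_emultiplicity
  rw [hp.emultiplicity_choose_prime_pow hk hk0]
  exact_mod_cast (by omega : a - M ≤ a - multiplicity p k)

open MvPolynomial

noncomputable abbrev B (p n m : ℕ) : Subalgebra ℤ (MvPolynomial (Fin 2) ℤ) :=
  Algebra.adjoin ℤ ({MvPolynomial.X 0 ^ (p ^ n), (p : MvPolynomial (Fin 2) ℤ) ^ n * MvPolynomial.X 0, MvPolynomial.X 1 ^ (p ^ m), (p : MvPolynomial (Fin 2) ℤ) ^ m * MvPolynomial.X 1} : Set (MvPolynomial (Fin 2) ℤ))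

lemma term_mem (p n m k l c : ℕ) (hc : p ^ (n * (k % p ^ n) + m * (l % p ^ m)) ∣ c) :
    (X 0 : MvPolynomial (Fin 2) ℤ) ^ k * X 1 ^ l * (c : MvPolynomial (Fin 2) ℤ) ∈ B p n m := by
  obtain ⟨c', rfl⟩ := hc
  have h1 : (X 0 : MvPolynomial (Fin 2) ℤ) ^ (p ^ n) ∈ B p n m :=
    Algebra.subset_adjoin (by simp)
  have h2 : (p : MvPolynomial (Fin 2) ℤ) ^ n * X 0 ∈ B p n m :=
    Algebra.subset_adjoin (by simp)
  have h3 : (X 1 : MvPolynomial (Fin 2) ℤ) ^ (p ^ m) ∈ B p n m :=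
    Algebra.subset_adjoin (by simp)
  have h4 : (p : MvPolynomial (Fin 2) ℤ) ^ m * X 1 ∈ B p n m :=
    Algebra.subset_adjoin (by simp)
  have hx : (X 0 : MvPolynomial (Fin 2) ℤ) ^ k =
      (X 0 ^ (p ^ n)) ^ (k / p ^ n) * X 0 ^ (k % p ^ n) := by
    rw [← pow_mul, ← pow_add, Nat.div_add_mod]
  have hy : (X 1 : MvPolynomial (Fin 2) ℤ) ^ l =
      (X 1 ^ (p ^ m)) ^ (l / p ^ m) * X 1 ^ (l % p ^ m) := by
    rw [← pow_mul, ← pow_add, Nat.div_add_mod]
  have key : (X 0 : MvPolynomial (Fin 2) ℤ) ^ k * X 1 ^ l *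
      ((p ^ (n * (k % p ^ n) + m * (l % p ^ m)) * c' : ℕ) : MvPolynomial (Fin 2) ℤ) =
      (X 0 ^ (p ^ n)) ^ (k / p ^ n) * (X 1 ^ (p ^ m)) ^ (l / p ^ m) *
        ((p : MvPolynomial (Fin 2) ℤ) ^ n * X 0) ^ (k % p ^ n) *
        ((p : MvPolynomial (Fin 2) ℤ) ^ m * X 1) ^ (l % p ^ m) * (c' : MvPolynomial (Fin 2) ℤ) := by
    rw [hx, hy]
    push_cast
    rw [mul_pow, mul_pow, ← pow_mul, ← pow_mul, pow_add]
    ring
  rw [key]
  refine Subalgebra.mul_mem _ (Subalgebra.mul_mem _ (Subalgebra.mul_mem _ (Subalgebra.mul_mem _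
    (Subalgebra.pow_mem _ h1 _) (Subalgebra.pow_mem _ h3 _)) (Subalgebra.pow_mem _ h2 _))
    (Subalgebra.pow_mem _ h4 _)) ?_
  exact natCast_mem _ c'


theorem main (p : ℕ) (hp : p.Prime) (n m : ℕ) :
    ∃ a : ℕ, ((X 0 + X 1 : MvPolynomial (Fin 2) ℤ) ^ (p ^ a) ∈ B p n m ∧
      (p : MvPolynomial (Fin 2) ℤ) ^ a * (X 0 + X 1) ∈ B p n m) := by
  set M := max n m with hM
  refine ⟨M + (n * p ^ n + m * p ^ m), ?_, ?_⟩
  · set a := M + (n * p ^ n + m * p ^ m) with ha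
    rw [add_pow]
    refine Subalgebra.sum_mem _ fun k hk => ?_
    have hk' : k ≤ p ^ a := Nat.lt_succ_iff.mp (Finset.mem_range.mp hk)
    apply term_mem
    by_cases hdvd : p ^ M ∣ k
    · have h1 : k % p ^ n = 0 :=
        Nat.mod_eq_zero_of_dvd ((pow_dvd_pow p (le_max_left n m)).trans hdvd)
      have h2 : (p ^ a - k) % p ^ m = 0 := by
        apply Nat.mod_eq_zero_of_dvd
        have h3 : p ^ m ∣ k := (pow_dvd_pow p (le_max_right n m)).trans hdvd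
        have h4 : p ^ m ∣ p ^ a := pow_dvd_pow p (by rw [ha]; have := le_max_right n m; omega)
        exact (Nat.dvd_sub h4 h3)
      rw [h1, h2, mul_zero, mul_zero, add_zero, pow_zero]
      exact one_dvd _
    · have h5 := dvd_choose p hp a M k (by omega) hk' hdvd
      refine (pow_dvd_pow p ?_).trans h5
      have h6 : k % p ^ n ≤ p ^ n := (Nat.mod_lt _ (pow_pos hp.pos _)).le
      have h7 : (p ^ a - k) % p ^ m ≤ p ^ m := (Nat.mod_lt _ (pow_pos hp.pos _)).le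
      have h8 : n * (k % p ^ n) ≤ n * p ^ n := Nat.mul_le_mul_left _ h6
      have h9 : m * ((p ^ a - k) % p ^ m) ≤ m * p ^ m := Nat.mul_le_mul_left _ h7
      omega
  · have h2 : (p : MvPolynomial (Fin 2) ℤ) ^ n * X 0 ∈ B p n m :=
      Algebra.subset_adjoin (by simp)
    have h4 : (p : MvPolynomial (Fin 2) ℤ) ^ m * X 1 ∈ B p n m :=
      Algebra.subset_adjoin (by simp)
    have hn : n ≤ M + (n * p ^ n + m * p ^ m) := by have := le_max_left n m; omega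
    have hm : m ≤ M + (n * p ^ n + m * p ^ m) := by have := le_max_right n m; omega
    obtain ⟨u, hu⟩ := Nat.exists_eq_add_of_le hn
    obtain ⟨w, hw⟩ := Nat.exists_eq_add_of_le hm
    have key : (p : MvPolynomial (Fin 2) ℤ) ^ (M + (n * p ^ n + m * p ^ m)) * (X 0 + X 1) =
        ((p ^ u : ℕ) : MvPolynomial (Fin 2) ℤ) * ((p : MvPolynomial (Fin 2) ℤ) ^ n * X 0) +
        ((p ^ w : ℕ) : MvPolynomial (Fin 2) ℤ) * ((p : MvPolynomial (Fin 2) ℤ) ^ m * X 1) := by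
      push_cast
      rw [mul_add]
      congr 1
      · rw [← mul_assoc, ← pow_add, add_comm u n, ← hu]
      · rw [← mul_assoc, ← pow_add, add_comm w m, ← hw]
    rw [key]
    exact Subalgebra.add_mem _ (Subalgebra.mul_mem _ (natCast_mem _ _) h2)
      (Subalgebra.mul_mem _ (natCast_mem _ _) h4)


end helpers

/-- For a prime number p and integers n, m > 0 there exists an integer a such that (x + y)^(p^a) and p^a
(x + y) both belong to the subring ℤ[x^(p^n), p^n x, y^(p^m), p^m y] of the polynomial ring ℤ[x, y]. -/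
theorem result (p : ℕ) (hp : p.Prime) (n m : ℕ) (hn : 0 < n) (hm : 0 < m) :
    ∃ a : ℕ, ((MvPolynomial.X 0 + MvPolynomial.X 1 : MvPolynomial (Fin 2) ℤ) ^ (p ^ a) ∈ Algebra.adjoin ℤ ({MvPolynomial.X 0 ^ (p ^ n), (p : MvPolynomial (Fin 2) ℤ) ^ n * MvPolynomial.X 0, MvPolynomial.X 1 ^ (p ^ m), (p : MvPolynomial (Fin 2) ℤ) ^ m * MvPolynomial.X 1} : Set (MvPolynomial (Fin 2) ℤ)) ∧
      (p : MvPolynomial (Fin 2) ℤ) ^ a * (MvPolynomial.X 0 + MvPolynomial.X 1) ∈ Algebra.adjoin ℤ ({MvPolynomial.X 0 ^ (p ^ n), (p : MvPolynomial (Fin 2) ℤ) ^ n * MvPolynomial.X 0, MvPolynomial.X 1 ^ (p ^ m), (p : MvPolynomial (Fin 2) ℤ) ^ m * MvPolynomial.X 1} : Set (MvPolynomial (Fin 2) ℤ))) := by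
  exact main p hp n m

end Groth.Agent.S9607
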