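import Groth.Statements.S9609
import Mathlib

set_option autoImplicit false
universe u
open CAlg

namespace Groth.Agent.S9609

open TensorProduct

section

variable {R S : Type u} [CommRing R] [CommRing S] [Algebra R S]

/-- Step 1: radicial maps are "monomorphisms on field-valued points". -/
theorem eq_of_comp_eq
    (hinj : Function.Injective (PrimeSpectrum.comap (algebraMap R S)))
    (hpi : ∀ (q : Ideal S) [q.IsPrime] (x : q.ResidueField), ∃ n : ℕ,
      x ^ (ringExpChar (q.comap (algebraMap R S)).ResidueField) ^ n ∈
        Set.range (Ideal.ResidueField.map (q.comap (algebraMap R S)) q (algebraMap R S) rfl))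
    {Ω : Type u} [Field Ω] (f g : S →+* Ω)
    (hfg : f.comp (algebraMap R S) = g.comp (algebraMap R S)) : f = g := by
  haveI hqf : (RingHom.ker f).IsPrime := RingHom.ker_isPrime f
  haveI hqg : (RingHom.ker g).IsPrime := RingHom.ker_isPrime g
  have hker : RingHom.ker f = RingHom.ker g := by
    have h1 : (⟨RingHom.ker f, hqf⟩ : PrimeSpectrum S) = ⟨RingHom.ker g, hqg⟩ := by
      apply hinj
      apply PrimeSpectrum.ext
      change (RingHom.ker f).comap (algebraMap R S) = (RingHom.ker g).comap (algebraMap R S)
      rw [RingHom.comap_ker, RingHom.comap_ker, hfg]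
    exact congrArg PrimeSpectrum.asIdeal h1
  set q := RingHom.ker f with hq
  let p := q.comap (algebraMap R S)
  have hunit : ∀ h : S →+* Ω, RingHom.ker h = q →
      q.primeCompl ≤ (IsUnit.submonoid Ω).comap h := by
    intro h hh s hs
    change IsUnit (h s)
    rw [isUnit_iff_ne_zero]
    intro h0
    exact hs (hh ▸ (RingHom.mem_ker.mpr h0))
  let fbar : q.ResidueField →+* Ω := Ideal.ResidueField.lift q f le_rfl (hunit f rfl)
  let gbar : q.ResidueField →+* Ω := Ideal.ResidueField.lift q g hker.le (hunit g hker.symm)
  letI : Algebra p.ResidueField q.ResidueField :=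
    (Ideal.ResidueField.map p q (algebraMap R S) rfl).toAlgebra
  haveI : IsPurelyInseparable p.ResidueField q.ResidueField := by
    rw [isPurelyInseparable_iff_pow_mem p.ResidueField (ringExpChar p.ResidueField)]
    intro x
    obtain ⟨n, hn⟩ := hpi q x
    exact ⟨n, hn⟩
  have hbar : fbar = gbar := by
    apply IsPurelyInseparable.injective_comp_algebraMap p.ResidueField q.ResidueField Ω
    apply Ideal.ResidueField.ringHom_ext
    ext r
    change fbar (Ideal.ResidueField.map p q (algebraMap R S) rfl (algebraMap R _ r)) =
      gbar (Ideal.ResidueField.map p q (algebraMap R S) rfl (algebraMap R _ r))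
    rw [Ideal.ResidueField.map_algebraMap]
    simp only [fbar, gbar, Ideal.ResidueField.lift_algebraMap]
    exact congrFun (congrArg DFunLike.coe hfg) r
  ext s
  have h1 : fbar (algebraMap S _ s) = f s := Ideal.ResidueField.lift_algebraMap _ _ _ _ _
  have h2 : gbar (algebraMap S _ s) = g s := Ideal.ResidueField.lift_algebraMap _ _ _ _ _
  rw [← h1, ← h2, hbar]

/-- Step 2: the field-valued-points property is stable under base change. -/
theorem eq_of_comp_eq_baseChange {R' : Type u} [CommRing R'] [Algebra R R']
    (H : ∀ {Ω : Type u} [Field Ω] (f g : S →+* Ω),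
      f.comp (algebraMap R S) = g.comp (algebraMap R S) → f = g)
    {Ω : Type u} [Field Ω] (f g : R' ⊗[R] S →+* Ω)
    (hfg : f.comp (algebraMap R' (R' ⊗[R] S)) = g.comp (algebraMap R' (R' ⊗[R] S))) : f = g := by
  let ι : S →+* R' ⊗[R] S := (Algebra.TensorProduct.includeRight : S →ₐ[R] R' ⊗[R] S).toRingHom
  have hS : f.comp ι = g.comp ι := by
    apply H
    ext r
    have e : ι (algebraMap R S r) = algebraMap R' (R' ⊗[R] S) (algebraMap R R' r) := by
      rw [← IsScalarTower.algebraMap_apply R R' (R' ⊗[R] S)]
      exact (Algebra.TensorProduct.includeRight : S →ₐ[R] R' ⊗[R] S).commutes r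
    simp only [RingHom.comp_apply]
    rw [e]
    exact congrFun (congrArg DFunLike.coe hfg) _
  apply RingHom.ext
  intro x
  induction x using TensorProduct.induction_on with
  | zero => simp
  | tmul a s =>
    have e : a ⊗ₜ[R] s = algebraMap R' (R' ⊗[R] S) a * ι s := by
      simp [ι, Algebra.TensorProduct.algebraMap_apply]
    rw [e, map_mul, map_mul]
    congr 1
    · exact congrFun (congrArg DFunLike.coe hfg) a
    · exact congrFun (congrArg DFunLike.coe hS) s
  | add x y hx hy => rw [map_add, map_add, hx, hy]

end

section converse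

variable {A T : Type u} [CommRing A] [CommRing T] [Algebra A T]

/-- Step 3a: the field-valued-points property implies injectivity on spectra. -/
theorem injective_comap_of_eq_of_comp_eq
    (H : ∀ {Ω : Type u} [Field Ω] (f g : T →+* Ω),
      f.comp (algebraMap A T) = g.comp (algebraMap A T) → f = g) :
    Function.Injective (PrimeSpectrum.comap (algebraMap A T)) := by
  intro q₁ q₂ h
  let p := q₁.asIdeal.comap (algebraMap A T)
  have hp2 : p = q₂.asIdeal.comap (algebraMap A T) := congrArg PrimeSpectrum.asIdeal h
  let m₁ := Ideal.ResidueField.map p q₁.asIdeal (algebraMap A T) rfl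
  let m₂ := Ideal.ResidueField.map p q₂.asIdeal (algebraMap A T) hp2
  letI : Algebra p.ResidueField q₁.asIdeal.ResidueField := m₁.toAlgebra
  letI : Algebra p.ResidueField q₂.asIdeal.ResidueField := m₂.toAlgebra
  let C := q₁.asIdeal.ResidueField ⊗[p.ResidueField] q₂.asIdeal.ResidueField
  haveI : Nontrivial C :=
    (Algebra.TensorProduct.includeLeft_injective (R := p.ResidueField)
      (S := p.ResidueField) (A := q₁.asIdeal.ResidueField) (B := q₂.asIdeal.ResidueField)
      (algebraMap p.ResidueField q₂.asIdeal.ResidueField).injective).nontrivial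
  obtain ⟨M, hM⟩ := Ideal.exists_maximal C
  letI : Field (C ⧸ M) := Ideal.Quotient.field M
  let j₁ : q₁.asIdeal.ResidueField →+* C ⧸ M := (Ideal.Quotient.mk M).comp
    (Algebra.TensorProduct.includeLeft : q₁.asIdeal.ResidueField →ₐ[p.ResidueField] C).toRingHom
  let j₂ : q₂.asIdeal.ResidueField →+* C ⧸ M := (Ideal.Quotient.mk M).comp
    (Algebra.TensorProduct.includeRight : q₂.asIdeal.ResidueField →ₐ[p.ResidueField] C).toRingHom
  let f₁ : T →+* C ⧸ M := j₁.comp (algebraMap T q₁.asIdeal.ResidueField)
  let f₂ : T →+* C ⧸ M := j₂.comp (algebraMap T q₂.asIdeal.ResidueField)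
  have h12 : f₁ = f₂ := by
    apply H
    ext a
    have e1 : algebraMap T q₁.asIdeal.ResidueField (algebraMap A T a) =
        algebraMap p.ResidueField q₁.asIdeal.ResidueField (algebraMap A p.ResidueField a) :=
      (Ideal.ResidueField.map_algebraMap p q₁.asIdeal (algebraMap A T) rfl a).symm
    have e2 : algebraMap T q₂.asIdeal.ResidueField (algebraMap A T a) =
        algebraMap p.ResidueField q₂.asIdeal.ResidueField (algebraMap A p.ResidueField a) :=
      (Ideal.ResidueField.map_algebraMap p q₂.asIdeal (algebraMap A T) hp2 a).symm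
    simp only [RingHom.comp_apply, f₁, f₂, j₁, j₂, e1, e2, AlgHom.toRingHom_eq_coe, RingHom.coe_coe,
      AlgHom.commutes]
  have hker : ∀ (q : PrimeSpectrum T) (j : q.asIdeal.ResidueField →+* C ⧸ M),
      RingHom.ker (j.comp (algebraMap T q.asIdeal.ResidueField)) = q.asIdeal := by
    intro q j
    ext t
    rw [RingHom.mem_ker, RingHom.comp_apply, map_eq_zero_iff j j.injective,
      Ideal.algebraMap_residueField_eq_zero]
  apply PrimeSpectrum.ext
  exact (hker q₁ j₁).symm.trans ((congrArg RingHom.ker h12).trans (hker q₂ j₂))

/-- Step 3b: the field-valued-points property implies purely inseparable residue fields. -/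
theorem pow_mem_of_eq_of_comp_eq
    (H : ∀ {Ω : Type u} [Field Ω] (f g : T →+* Ω),
      f.comp (algebraMap A T) = g.comp (algebraMap A T) → f = g)
    (q : Ideal T) [q.IsPrime] (x : q.ResidueField) :
    ∃ n : ℕ, x ^ (ringExpChar (q.comap (algebraMap A T)).ResidueField) ^ n ∈
      Set.range (Ideal.ResidueField.map (q.comap (algebraMap A T)) q (algebraMap A T) rfl) := by
  let p := q.comap (algebraMap A T)
  let m := Ideal.ResidueField.map p q (algebraMap A T) rfl
  letI : Algebra p.ResidueField q.ResidueField := m.toAlgebra
  haveI : Nonempty (q.ResidueField →+* AlgebraicClosure q.ResidueField) := ⟨algebraMap _ _⟩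
  haveI : IsPurelyInseparable p.ResidueField q.ResidueField := by
    refine IsPurelyInseparable.of_injective_comp_algebraMap p.ResidueField q.ResidueField
      (AlgebraicClosure q.ResidueField) ?_
    intro σ₁ σ₂ h
    apply Ideal.ResidueField.ringHom_ext
    apply H
    ext a
    have h' := congrFun (congrArg DFunLike.coe h) (algebraMap A p.ResidueField a)
    have e1 : algebraMap T q.ResidueField (algebraMap A T a) =
        algebraMap p.ResidueField q.ResidueField (algebraMap A p.ResidueField a) :=
      (Ideal.ResidueField.map_algebraMap p q (algebraMap A T) rfl a).symm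
    simp only [RingHom.comp_apply] at h' ⊢
    rw [e1]
    exact h'
  obtain ⟨n, hn⟩ := (isPurelyInseparable_iff_pow_mem p.ResidueField
    (ringExpChar p.ResidueField)).mp inferInstance x
  exact ⟨n, hn⟩

end converse

open TensorProduct in
/-- Let R → S be a ring map which is injective on spectra and whose residue field extensions κ(p) → κ(q)
(q a prime of S with inverse image p) are purely inseparable: every element of κ(q) has a power with
exponent a power of the characteristic exponent lying in the image of κ(p). Then, given an arbitrary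
R-algebra R', the induced map R' → R' ⊗_R S is likewise injective on spectra and has purely
inseparable residue field extensions. -/
theorem result {R S R' : Type u} [CommRing R] [CommRing S] [CommRing R'] [Algebra R S] [Algebra R R']
    (hinj : Function.Injective (PrimeSpectrum.comap (algebraMap R S)))
    (hpi : ∀ (q : Ideal S) [q.IsPrime] (x : q.ResidueField), ∃ n : ℕ, x ^ (ringExpChar (q.comap (algebraMap R S)).ResidueField) ^ n ∈ Set.range (Ideal.ResidueField.map (q.comap (algebraMap R S)) q (algebraMap R S) rfl)) :
    Function.Injective (PrimeSpectrum.comap (algebraMap R' (R' ⊗[R] S))) ∧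
      ∀ (q' : Ideal (R' ⊗[R] S)) [q'.IsPrime] (x : q'.ResidueField), ∃ n : ℕ, x ^ (ringExpChar (q'.comap (algebraMap R' (R' ⊗[R] S))).ResidueField) ^ n ∈ Set.range (Ideal.ResidueField.map (q'.comap (algebraMap R' (R' ⊗[R] S))) q' (algebraMap R' (R' ⊗[R] S)) rfl) := by
  have H : ∀ {Ω : Type u} [Field Ω] (f g : R' ⊗[R] S →+* Ω),
      f.comp (algebraMap R' (R' ⊗[R] S)) = g.comp (algebraMap R' (R' ⊗[R] S)) → f = g :=
    fun f g hfg => eq_of_comp_eq_baseChange (fun f g h => eq_of_comp_eq hinj hpi f g h) f g hfg
  exact ⟨injective_comap_of_eq_of_comp_eq H, fun q' _ x => pow_mem_of_eq_of_comp_eq H q' x⟩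

end Groth.Agent.S9609
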