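import Groth.Statements.S9610
import Mathlib

set_option autoImplicit false
universe u
open CAlg

namespace Groth.Agent.S9610

open Polynomial in
theorem aux {k V : Type u} [Field k] [AddCommGroup V] [Module k V] [Nontrivial V] (hV : Module.rank k V < Cardinal.mk k) (T : Module.End k V) :
    ∃ P : Polynomial k, P.Monic ∧ ¬ IsUnit (Polynomial.aeval T P) := by
  classical
  by_contra hcon
  push Not at hcon
  obtain ⟨v, hv⟩ := exists_ne (0 : V)
  have hu : ∀ a : k, IsUnit (aeval T (X - C a)) := fun a => hcon _ (monic_X_sub_C a)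
  have hunit : ∀ Q : Polynomial k, Q ≠ 0 → IsUnit (aeval T Q) := by
    intro Q hQ
    have hlc : Q.leadingCoeff ≠ 0 := leadingCoeff_ne_zero.mpr hQ
    have : Q = C Q.leadingCoeff * (Q * C Q.leadingCoeff⁻¹) := by
      rw [mul_comm Q, ← mul_assoc, ← C_mul, mul_inv_cancel₀ hlc, C_1, one_mul]
    rw [this, map_mul]
    refine IsUnit.mul ?_ (hcon _ (monic_mul_leadingCoeff_inv hQ))
    rw [aeval_C]
    exact (isUnit_iff_ne_zero.mpr hlc).map (algebraMap k (Module.End k V))
  let w : k → V := fun a => ((hu a).unit⁻¹ : (Module.End k V)ˣ).1 v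
  have hw : ∀ a, aeval T (X - C a) (w a) = v := by
    intro a
    have h1 : aeval T (X - C a) = ((hu a).unit : (Module.End k V)ˣ).1 := (hu a).unit_spec.symm
    rw [h1]
    change (((hu a).unit : (Module.End k V)ˣ).1 * ((hu a).unit⁻¹ : (Module.End k V)ˣ).1) v = v
    rw [Units.mul_inv]
    rfl
  have hli : LinearIndependent k w := by
    rw [linearIndependent_iff']
    intro s g hsum a ha
    let Q : Polynomial k := ∑ a ∈ s, C (g a) * ∏ b ∈ s.erase a, (X - C b)
    have hQv : aeval T Q v = 0 := by
      have h1 : aeval T (∏ b ∈ s, (X - C b)) (∑ a ∈ s, g a • w a) = 0 := by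
        rw [hsum, map_zero]
      rw [map_sum] at h1
      rw [← h1]
      simp only [Q, map_sum, LinearMap.sum_apply]
      refine Finset.sum_congr rfl fun a ha => ?_
      rw [map_smul, ← Finset.mul_prod_erase s _ ha, mul_comm (X - C a), map_mul, map_mul,
        Module.End.mul_apply, Module.End.mul_apply, hw a, aeval_C]
      simp
    have hQ0 : Q = 0 := by
      by_contra hQ
      obtain ⟨u, hu'⟩ := hunit Q hQ
      apply hv
      have : (u⁻¹.1 * u.1) v = v := by rw [Units.inv_mul]; rfl
      rw [← this, Module.End.mul_apply, hu', hQv, map_zero]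
    have heval : eval a Q = g a * ∏ b ∈ s.erase a, (a - b) := by
      simp only [Q, eval_finsetSum, eval_mul, eval_C, eval_prod, eval_sub, eval_X]
      rw [Finset.sum_eq_single a]
      · intro c hc hca
        rw [Finset.prod_eq_zero (Finset.mem_erase.mpr ⟨hca.symm, ha⟩) (sub_self a), mul_zero]
      · intro h; exact absurd ha h
    rw [hQ0, eval_zero] at heval
    have hprod : ∏ b ∈ s.erase a, (a - b) ≠ 0 :=
      Finset.prod_ne_zero_iff.mpr fun b hb => sub_ne_zero.mpr (Finset.ne_of_mem_erase hb).symm
    exact (mul_eq_zero.mp heval.symm).resolve_right hprod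
  have := hli.cardinal_le_rank
  exact absurd hV (not_lt.mpr this)

/-- Let k be a field and V a nonzero k-vector space with dim_k V < #k as cardinals. Then every k-linear
endomorphism T of V admits a monic polynomial P over k for which P(T) is not invertible. -/
theorem result {k V : Type u} [Field k] [AddCommGroup V] [Module k V] [Nontrivial V] (hV : Module.rank k V < Cardinal.mk k) (T : Module.End k V) :
    ∃ P : Polynomial k, P.Monic ∧ ¬ IsUnit (Polynomial.aeval T P) := by
  exact aux hV T

end Groth.Agent.S9610
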