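import Groth.Statements.S9611
import Mathlib

set_option autoImplicit false
universe u
open CAlg

namespace Groth.Agent.S9611

/-- Let R be a Jacobson ring, p a prime ideal of R which is not maximal, and f an element of R not in p.
Then the set of primes of R containing p and not containing f is infinite. -/
theorem result {R : Type u} [CommRing R] [IsJacobsonRing R] (p : Ideal R) [p.IsPrime] (hp : ¬ p.IsMaximal) (f : R) (hf : f ∉ p) :
    {q : PrimeSpectrum R | p ≤ q.asIdeal ∧ f ∉ q.asIdeal}.Infinite := by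
  have hpp : p.IsPrime := inferInstance
  intro hfin
  classical
  let T : Set (PrimeSpectrum R) := {q | q.asIdeal.IsMaximal ∧ p ≤ q.asIdeal ∧ f ∉ q.asIdeal}
  have hTfin : T.Finite := hfin.subset (fun q hq => ⟨hq.2.1, hq.2.2⟩)
  let t := hTfin.toFinset
  have hle : t.inf (fun q => q.asIdeal) ≤ p := by
    intro x hx
    have hxq : ∀ q ∈ T, x ∈ q.asIdeal := by
      intro q hq
      have : t.inf (fun q => q.asIdeal) ≤ q.asIdeal :=
        Finset.inf_le (f := fun q : PrimeSpectrum R => q.asIdeal) (hTfin.mem_toFinset.mpr hq)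
      exact this hx
    have hxf : x * f ∈ p.jacobson := by
      rw [Ideal.jacobson, Ideal.mem_sInf]
      rintro J ⟨hpJ, hJ⟩
      by_cases hfJ : f ∈ J
      · exact J.mul_mem_left _ hfJ
      · exact J.mul_mem_right _ (hxq ⟨J, hJ.isPrime⟩ ⟨hJ, hpJ, hfJ⟩)
    rw [← Ideal.radical_eq_jacobson, hpp.radical] at hxf
    exact (hpp.mem_or_mem hxf).resolve_right hf
  rw [Ideal.IsPrime.inf_le' hpp] at hle
  obtain ⟨q, hqt, hqp⟩ := hle
  have hqT : q ∈ T := hTfin.mem_toFinset.mp hqt
  have : q.asIdeal = p := hqT.1.eq_of_le hpp.ne_top hqp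
  exact hp (this ▸ hqT.1)

end Groth.Agent.S9611
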