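import Groth.Statements.S9613
import Mathlib

set_option autoImplicit false
universe u
open CAlg

namespace Groth.Agent.S9613

open Polynomial in
theorem aux {R K : Type u} [CommRing R] [Field K] [Algebra R K]
    (hinj : Function.Injective (algebraMap R K)) [Algebra.FiniteType R K] :
    ∃ f : R, f ≠ 0 ∧ ∃ Rf : Subalgebra R K, IsLocalization.Away f Rf ∧ IsField Rf ∧
      Module.Finite Rf K := by
  classical
  haveI : IsDomain R := hinj.isDomain _
  haveI : FaithfulSMul R K := (faithfulSMul_iff_algebraMap_injective R K).mpr hinj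
  -- K is algebraic over R
  have halg : Algebra.IsAlgebraic R K := by
    letI : Algebra (FractionRing R) K := (IsFractionRing.lift hinj).toAlgebra
    haveI : IsScalarTower R (FractionRing R) K :=
      IsScalarTower.of_algebraMap_eq (fun x => (IsFractionRing.lift_algebraMap hinj x).symm)
    haveI : Algebra.FiniteType (FractionRing R) K :=
      Algebra.FiniteType.of_restrictScalars_finiteType R (FractionRing R) K
    haveI : Module.Finite (FractionRing R) K := finite_of_finite_type_of_isJacobsonRing _ _
    haveI : Algebra.IsAlgebraic (FractionRing R) K := Algebra.IsAlgebraic.of_finite _ _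
    exact (IsFractionRing.comap_isAlgebraic_iff (A := R) (K := FractionRing R) (C := K)).mpr
      inferInstance
  obtain ⟨s, hs⟩ := (Algebra.FiniteType.out : (⊤ : Subalgebra R K).FG)
  have hp : ∀ x : K, ∃ p : R[X], p ≠ 0 ∧ aeval x p = 0 := fun x => halg.isAlgebraic x
  choose p hp0 hpx using hp
  let f : R := ∏ x ∈ s, (p x).leadingCoeff
  have hf0 : f ≠ 0 := Finset.prod_ne_zero_iff.mpr fun x _ => leadingCoeff_ne_zero.mpr (hp0 x)
  have hfK : algebraMap R K f ≠ 0 := (map_ne_zero_iff _ hinj).mpr hf0
  let Rf : Subalgebra R K := Algebra.adjoin R {(algebraMap R K f)⁻¹}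
  have hinv : (algebraMap R K f)⁻¹ ∈ Rf := Algebra.subset_adjoin rfl
  -- integrality of generators
  have hint : ∀ x ∈ s, IsIntegral Rf x := by
    intro x hx
    have hlc : (p x).leadingCoeff ≠ 0 := leadingCoeff_ne_zero.mpr (hp0 x)
    have hlcK : algebraMap R K (p x).leadingCoeff ≠ 0 := (map_ne_zero_iff _ hinj).mpr hlc
    -- inverse of leading coeff lies in Rf
    have hmem : (algebraMap R K (p x).leadingCoeff)⁻¹ ∈ Rf := by
      have : (algebraMap R K (p x).leadingCoeff)⁻¹ =
          algebraMap R K (∏ y ∈ s.erase x, (p y).leadingCoeff) * (algebraMap R K f)⁻¹ := by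
        rw [eq_mul_inv_iff_mul_eq₀ hfK, inv_mul_eq_iff_eq_mul₀ hlcK, ← map_mul,
          Finset.mul_prod_erase s (fun y => (p y).leadingCoeff) hx]
      rw [this]
      exact Rf.mul_mem (Rf.algebraMap_mem _) hinv
    let c : Rf := ⟨_, hmem⟩
    refine ⟨C c * (p x).map (algebraMap R Rf), ?_, ?_⟩
    · apply monic_C_mul_of_mul_leadingCoeff_eq_one
      rw [leadingCoeff_map_of_injective
        (FaithfulSMul.algebraMap_injective R Rf)]
      apply Subtype.ext
      change (algebraMap R K (p x).leadingCoeff)⁻¹ * algebraMap R K (p x).leadingCoeff = 1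
      exact inv_mul_cancel₀ hlcK
    · rw [eval₂_mul, eval₂_map, ← IsScalarTower.algebraMap_eq R Rf K]
      have : eval₂ (algebraMap R K) x (p x) = 0 := by
        rw [← aeval_def]; exact hpx x
      rw [this, mul_zero]
  have hKint : Algebra.IsIntegral Rf K := by
    refine ⟨fun z => ?_⟩
    have hz : z ∈ Algebra.adjoin R (s : Set K) := by rw [hs]; trivial
    have hle : Algebra.adjoin R (s : Set K) ≤ (integralClosure Rf K).restrictScalars R := by
      apply Algebra.adjoin_le
      intro x hx
      exact hint x hx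
    exact hle hz
  have hRfinj : Function.Injective (algebraMap Rf K) := Subtype.val_injective
  have hfield : IsField Rf := isField_of_isIntegral_of_isField hRfinj (Field.toIsField K)
  haveI : Algebra.FiniteType Rf K := Algebra.FiniteType.of_restrictScalars_finiteType R Rf K
  have hfin : Module.Finite Rf K := Algebra.IsIntegral.finite
  refine ⟨f, hf0, Rf, ?_, hfield, hfin⟩
  -- localization
  rw [IsLocalization.Away, isLocalization_iff]
  refine ⟨?_, ?_, ?_⟩
  · rintro ⟨_, n, rfl⟩
    rw [map_pow]
    refine IsUnit.pow n ?_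
    refine IsUnit.of_mul_eq_one (⟨_, hinv⟩ : Rf) ?_
    apply Subtype.ext
    change algebraMap R K f * (algebraMap R K f)⁻¹ = 1
    exact mul_inv_cancel₀ hfK
  · rintro ⟨z, hz⟩
    have key : ∃ (n : ℕ) (r : R), z * algebraMap R K f ^ n = algebraMap R K r := by
      induction hz using Algebra.adjoin_induction with
      | mem x hx =>
        rw [Set.mem_singleton_iff] at hx
        exact ⟨1, 1, by rw [hx, pow_one, inv_mul_cancel₀ hfK, map_one]⟩
      | algebraMap r => exact ⟨0, r, by simp⟩
      | add x y _ _ hx hy =>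
        obtain ⟨n₁, r₁, h₁⟩ := hx
        obtain ⟨n₂, r₂, h₂⟩ := hy
        refine ⟨n₁ + n₂, r₁ * f ^ n₂ + r₂ * f ^ n₁, ?_⟩
        rw [map_add, map_mul, map_mul, map_pow, map_pow, ← h₁, ← h₂]
        ring
      | mul x y _ _ hx hy =>
        obtain ⟨n₁, r₁, h₁⟩ := hx
        obtain ⟨n₂, r₂, h₂⟩ := hy
        refine ⟨n₁ + n₂, r₁ * r₂, ?_⟩
        rw [map_mul, ← h₁, ← h₂]
        ring
    obtain ⟨n, r, hnr⟩ := key
    refine ⟨(r, ⟨f ^ n, n, rfl⟩), ?_⟩
    apply Subtype.ext
    change z * algebraMap R K (f ^ n) = algebraMap R K r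
    rw [map_pow, hnr]
  · intro x y hxy
    refine ⟨1, ?_⟩
    have : algebraMap R K x = algebraMap R K y := congrArg Subtype.val hxy
    rw [hinj this]

/-- Let R → K be an injective ring map into a field K which makes K an R-algebra of finite type. Then
for some nonzero f ∈ R the localization R_f is a field over which K is finite; here R_f is realised
as the R-subalgebra of K that is a localization of R away from f. -/
theorem result {R K : Type u} [CommRing R] [Field K] [Algebra R K] (hinj : Function.Injective (algebraMap R K)) [Algebra.FiniteType R K] :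
    ∃ f : R, f ≠ 0 ∧ ∃ Rf : Subalgebra R K, IsLocalization.Away f Rf ∧ IsField Rf ∧ Module.Finite Rf K := by
  exact aux hinj

end Groth.Agent.S9613
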