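import Groth.Statements.S9614
import Mathlib

set_option autoImplicit false
universe u
open CAlg

namespace H14G

open DirectSum

variable {R S : Type u} [CommRing R] [CommRing S] [Algebra R S] (𝒜 : ℕ → Submodule R S) [GradedAlgebra 𝒜]
    {M : Type u} [AddCommGroup M] [Module R M] [Module S M]
    (ℳ : ℕ → Submodule R M) [DirectSum.Decomposition ℳ] [SetLike.GradedSMul 𝒜 ℳ]

omit [GradedAlgebra 𝒜] in
/-- degree-`d` component of `s • y` for `s` homogeneous of degree `i`. -/
theorem decompose_homogeneous_smul {i : ℕ} {s : S} (hs : s ∈ 𝒜 i) (y : M) (d : ℕ) :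
    (decompose ℳ (s • y) d : M) = if i ≤ d then s • (decompose ℳ y (d - i) : M) else 0 := by
  induction y using DirectSum.Decomposition.inductionOn ℳ with
  | zero => simp
  | @homogeneous j y =>
    have hmem : s • (y : M) ∈ ℳ (i + j) := SetLike.GradedSMul.smul_mem hs y.2
    by_cases hd : i + j = d
    · subst hd
      rw [decompose_of_mem_same ℳ hmem, if_pos (Nat.le_add_right i j), Nat.add_sub_cancel_left,
        decompose_of_mem_same ℳ y.2]
    · rw [decompose_of_mem_ne ℳ hmem hd]
      split_ifs with hid
      · have : j ≠ d - i := by omega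
        rw [decompose_of_mem_ne ℳ y.2 this, smul_zero]
      · rfl
  | add y y' hy hy' =>
    rw [smul_add, decompose_add, DirectSum.add_apply, Submodule.coe_add, hy, hy']
    split_ifs
    · rw [decompose_add, DirectSum.add_apply, Submodule.coe_add, smul_add]
    · rw [add_zero]


/-- component of `s • y` lies in a submodule `N` if all shifts `s_i • y_{d-i}` do. -/
theorem decompose_smul_mem (N : Submodule S M) (s : S) (y : M) (d : ℕ)
    (h : ∀ i, i ≤ d → (decompose 𝒜 s i : S) • (decompose ℳ y (d - i) : M) ∈ N) :
    (decompose ℳ (s • y) d : M) ∈ N := by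
  classical
  rw [← DirectSum.sum_support_decompose 𝒜 s, Finset.sum_smul, DirectSum.decompose_sum,
    DFinsupp.finsetSum_apply, AddSubmonoidClass.coe_finsetSum]
  refine Submodule.sum_mem _ fun i _ => ?_
  rw [decompose_homogeneous_smul 𝒜 ℳ (decompose 𝒜 s i).2 y d]
  split_ifs with hid
  · exact h i hid
  · exact N.zero_mem

include 𝒜 in
theorem span_homogeneous {n : ℕ} (x : Fin n → M) (hx : ∀ i, SetLike.IsHomogeneousElem ℳ (x i))
    (y : M) (hy : y ∈ Submodule.span S (Set.range x)) (d : ℕ) :
    (decompose ℳ y d : M) ∈ Submodule.span S (Set.range x) := by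
  induction hy using Submodule.span_induction generalizing d with
  | mem y hy =>
    obtain ⟨i, rfl⟩ := hy
    obtain ⟨j, hj⟩ := hx i
    by_cases hjd : j = d
    · subst hjd
      rw [decompose_of_mem_same ℳ hj]
      exact Submodule.subset_span ⟨i, rfl⟩
    · rw [decompose_of_mem_ne ℳ hj hjd]
      exact Submodule.zero_mem _
  | zero => simp
  | add y y' _ _ hy hy' =>
    rw [decompose_add, DirectSum.add_apply, Submodule.coe_add]
    exact Submodule.add_mem _ (hy d) (hy' d)
  | smul s y _ hy =>
    exact decompose_smul_mem 𝒜 ℳ _ s y d fun i _ => Submodule.smul_mem _ _ (hy (d - i))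

theorem graded_nakayama {n : ℕ} (x : Fin n → M)
    (hx : ∀ i, SetLike.IsHomogeneousElem ℳ (x i))
    (h : Submodule.span S (Set.range x) ⊔
      (HomogeneousIdeal.irrelevant 𝒜).toIdeal • (⊤ : Submodule S M) = ⊤) :
    Submodule.span S (Set.range x) = ⊤ := by
  classical
  set N := Submodule.span S (Set.range x) with hN
  have key : ∀ d : ℕ, ∀ m ∈ ℳ d, m ∈ N := by
    intro d
    induction d using Nat.strong_induction_on with
    | _ d ih =>
      intro m hm
      have hC : ∀ z ∈ (HomogeneousIdeal.irrelevant 𝒜).toIdeal • (⊤ : Submodule S M),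
          (decompose ℳ z d : M) ∈ N := by
        intro z hz
        induction hz using Submodule.smul_induction_on' with
        | smul s hs y _ =>
          apply decompose_smul_mem 𝒜 ℳ N s y d
          intro i hid
          by_cases hi0 : i = 0
          · subst hi0
            have : (decompose 𝒜 s 0 : S) = 0 := hs
            rw [this, zero_smul]
            exact N.zero_mem
          · exact N.smul_mem _ (ih (d - i) (by omega) _ (decompose ℳ y (d - i)).2)
        | add z z' _ _ hz hz' =>
          rw [decompose_add, DirectSum.add_apply, Submodule.coe_add]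
          exact N.add_mem hz hz'
      have hm' : m ∈ N ⊔ (HomogeneousIdeal.irrelevant 𝒜).toIdeal • (⊤ : Submodule S M) := by
        rw [h]; trivial
      obtain ⟨a, ha, z, hz, rfl⟩ := Submodule.mem_sup.mp hm'
      rw [← decompose_of_mem_same ℳ hm, decompose_add, DirectSum.add_apply, Submodule.coe_add]
      exact N.add_mem (span_homogeneous 𝒜 ℳ x hx a ha d) (hC z hz)
  rw [eq_top_iff]
  intro m _
  rw [← DirectSum.sum_support_decompose ℳ m]
  exact Submodule.sum_mem _ fun d _ => key d _ (decompose ℳ m d).2

end H14G


namespace Groth.Agent.S9614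

/-- Let S be an ℕ-graded ring and M a finitely generated graded S-module, graded in nonnegative degrees
(the source allows all integer degrees). If x_1, …, x_n are homogeneous elements of M which generate
M modulo S₊ M (S₊ the irrelevant ideal), then x_1, …, x_n generate M. -/
theorem result {R S : Type u} [CommRing R] [CommRing S] [Algebra R S] (𝒜 : ℕ → Submodule R S) [GradedAlgebra 𝒜]
    (M : Type u) [AddCommGroup M] [Module R M] [Module S M] [IsScalarTower R S M] [Module.Finite S M] (ℳ : ℕ → Submodule R M) [DirectSum.Decomposition ℳ] [SetLike.GradedSMul 𝒜 ℳ]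
    {n : ℕ} (x : Fin n → M) (hx : ∀ i, SetLike.IsHomogeneousElem ℳ (x i))
    (h : Submodule.span S (Set.range x) ⊔ (HomogeneousIdeal.irrelevant 𝒜).toIdeal • (⊤ : Submodule S M) = ⊤) :
    Submodule.span S (Set.range x) = ⊤ := by
  exact H14G.graded_nakayama 𝒜 ℳ x hx h

end Groth.Agent.S9614
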