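import Groth.Statements.S9615
import Mathlib

set_option autoImplicit false
universe u
open CAlg

namespace Groth.Agent.S9615

open DirectSum

section gradedPoly

variable {A : Type*} [CommRing A] (𝒜 : ℕ → AddSubgroup A) [GradedRing 𝒜]

/-- The ring homomorphism `⨁ 𝒜 i → A[X]` sending a homogeneous element `a` of degree `i` to `a X^i`. -/
noncomputable def toPolyDS : (⨁ i, 𝒜 i) →+* Polynomial A :=
  DirectSum.toSemiring (A := fun i => 𝒜 i)
    (fun i => (Polynomial.monomial i : A →ₗ[A] Polynomial A).toAddMonoidHom.comp (𝒜 i).subtype)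
    (by
      change Polynomial.monomial 0 (1 : A) = 1
      exact Polynomial.monomial_zero_one)
    (by
      intro i j ai aj
      change Polynomial.monomial (i + j) ((ai : A) * (aj : A)) =
        Polynomial.monomial i (ai : A) * Polynomial.monomial j (aj : A)
      exact (Polynomial.monomial_mul_monomial i j _ _).symm)

theorem coeff_toPolyDS (x : ⨁ i, 𝒜 i) (i : ℕ) : ((toPolyDS 𝒜) x).coeff i = (x i : A) := by
  classical
  induction x using DirectSum.induction_on with
  | zero => simp
  | of j a =>
    rw [toPolyDS, DirectSum.toSemiring_of]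
    change (Polynomial.monomial j (a : A)).coeff i = _
    rw [Polynomial.coeff_monomial]
    by_cases h : j = i
    · subst h
      rw [if_pos rfl, DirectSum.of_eq_same]
    · rw [if_neg h, DirectSum.of_eq_of_ne _ _ _ (Ne.symm h)]
      rfl
  | add x y hx hy =>
    rw [map_add, Polynomial.coeff_add, hx, hy, DirectSum.add_apply]
    rfl

noncomputable def toPoly : A →+* Polynomial A :=
  (toPolyDS 𝒜).comp (DirectSum.decomposeRingEquiv 𝒜).toRingHom

theorem coeff_toPoly (a : A) (i : ℕ) :
    (toPoly 𝒜 a).coeff i = (DirectSum.decompose 𝒜 a i : A) := by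
  rw [toPoly, RingHom.comp_apply, coeff_toPolyDS]
  rfl

end gradedPoly

theorem decompose_algebraMap {R S : Type*} [CommRing R] [CommRing S] [Algebra R S]
    (ℛ : ℕ → AddSubgroup R) [GradedRing ℛ] (𝒮 : ℕ → AddSubgroup S) [GradedRing 𝒮]
    (hmap : ∀ i : ℕ, ∀ r ∈ ℛ i, algebraMap R S r ∈ 𝒮 i) (r : R) :
    ∀ i : ℕ, (DirectSum.decompose 𝒮 (algebraMap R S r) i : S) =
      algebraMap R S (DirectSum.decompose ℛ r i : R) := by
  refine DirectSum.Decomposition.inductionOn ℛ
    (motive := fun r => ∀ i : ℕ, (DirectSum.decompose 𝒮 (algebraMap R S r) i : S) =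
      algebraMap R S (DirectSum.decompose ℛ r i : R)) ?_ ?_ ?_ r
  · intro i
    simp
  · intro j m i
    by_cases h : j = i
    · subst h
      rw [DirectSum.decompose_of_mem_same 𝒮 (hmap j m m.2),
        DirectSum.decompose_of_mem_same ℛ m.2]
    · rw [DirectSum.decompose_of_mem_ne 𝒮 (hmap j m m.2) h,
        DirectSum.decompose_of_mem_ne ℛ m.2 h, map_zero]
  · intro a b ha hb i
    simp only [map_add, DirectSum.decompose_add, DirectSum.add_apply, AddSubgroup.coe_add, ha, hb]

attribute [local instance] Polynomial.algebra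

/-- Let R → S be a homomorphism of ℕ-graded rings, i.e. the structure map carries each graded piece R_i
into S_i. If an element s of S is integral over R, then each homogeneous component of s is integral
over R; so the integral closure of R in S is a graded subring of S. -/
theorem result {R S : Type u} [CommRing R] [CommRing S] [Algebra R S] (ℛ : ℕ → AddSubgroup R) [GradedRing ℛ] (𝒮 : ℕ → AddSubgroup S) [GradedRing 𝒮]
    (hmap : ∀ i : ℕ, ∀ r ∈ ℛ i, algebraMap R S r ∈ 𝒮 i) (s : S) (hs : IsIntegral R s) (i : ℕ) :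
    IsIntegral R ((DirectSum.decompose 𝒮 s i : 𝒮 i) : S) := by
  have hcomp : (algebraMap (Polynomial R) (Polynomial S)).comp (toPoly ℛ) =
      (toPoly 𝒮).comp (algebraMap R S) := by
    refine RingHom.ext fun r => Polynomial.ext fun n => ?_
    rw [RingHom.comp_apply, RingHom.comp_apply, Polynomial.algebraMap_def,
      Polynomial.coe_mapRingHom, Polynomial.coeff_map, coeff_toPoly, coeff_toPoly,
      decompose_algebraMap ℛ 𝒮 hmap]
  have h1 : IsIntegral (Polynomial R) (toPoly 𝒮 s) :=
    IsIntegral.map_of_comp_eq (toPoly ℛ) (toPoly 𝒮) hcomp hs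
  have h2 := h1.coeff i
  rwa [coeff_toPoly] at h2

end Groth.Agent.S9615
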