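import Groth.Statements.S9616
import Mathlib

set_option autoImplicit false
universe u
open CAlg

namespace Groth.Agent.S9616

/-- Let S be an ℕ-graded ring, p_1, …, p_r homogeneous prime ideals of S and I ⊆ S₊ a homogeneous ideal
not contained in any p_i. Then there is a homogeneous element x ∈ I of positive degree with x ∉ p_i
for all i. -/
theorem result {R S : Type u} [CommRing R] [CommRing S] [Algebra R S] (𝒜 : ℕ → Submodule R S) [GradedAlgebra 𝒜]
    {r : ℕ} (p : Fin r → HomogeneousIdeal 𝒜) (hp : ∀ i, (p i).toIdeal.IsPrime) (I : HomogeneousIdeal 𝒜) (hI : I ≤ HomogeneousIdeal.irrelevant 𝒜) (h : ∀ i, ¬ I ≤ p i) :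
    ∃ x : S, ∃ d : ℕ, 0 < d ∧ x ∈ 𝒜 d ∧ x ∈ I ∧ ∀ i, x ∉ p i := by
  classical
  have hA : ∀ (J : HomogeneousIdeal 𝒜) (P : Ideal S), ¬ (J.toIdeal ≤ P) →
      ∃ a : S, (∃ k, a ∈ 𝒜 k) ∧ a ∈ J.toIdeal ∧ a ∉ P := by
    intro J P hJP
    obtain ⟨a, haJ, haP⟩ := SetLike.not_le_iff_exists.mp hJP
    by_contra hcon
    push Not at hcon
    apply haP
    rw [← DirectSum.sum_support_decompose 𝒜 a]
    refine Ideal.sum_mem _ (fun k _ => ?_)
    exact hcon _ ⟨k, (DirectSum.decompose 𝒜 a k).2⟩ (J.isHomogeneous k haJ)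
  have hB : ∀ (P : Ideal S), P.IsPrime → ¬ (I.toIdeal ≤ P) → ∀ t : Finset (Fin r),
      (∀ j ∈ t, ¬ ((p j).toIdeal ≤ P)) →
      ∃ y : S, (∃ k, y ∈ 𝒜 k) ∧ y ∈ I.toIdeal ∧ (∀ j ∈ t, y ∈ (p j).toIdeal) ∧ y ∉ P := by
    intro P hP hIP t
    induction t using Finset.induction_on with
    | empty =>
      intro _
      obtain ⟨a, ha, haI, haP⟩ := hA I P hIP
      exact ⟨a, ha, haI, by simp, haP⟩
    | insert j t hj ih =>
      intro ht
      obtain ⟨y, ⟨k, hk⟩, hyI, hyt, hyP⟩ :=
        ih (fun j' hj' => ht j' (Finset.mem_insert_of_mem hj'))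
      obtain ⟨b, ⟨l, hl⟩, hbj, hbP⟩ := hA (p j) P (ht j (Finset.mem_insert_self _ _))
      refine ⟨y * b, ⟨k + l, SetLike.mul_mem_graded hk hl⟩, Ideal.mul_mem_right _ _ hyI, ?_, ?_⟩
      · intro j' hj'
        rcases Finset.mem_insert.mp hj' with rfl | h'
        · exact Ideal.mul_mem_left _ _ hbj
        · exact Ideal.mul_mem_right _ _ (hyt j' h')
      · intro h
        rcases hP.mem_or_mem h with h | h
        exacts [hyP h, hbP h]
  have hpos : ∀ (y : S) (k : ℕ), y ∈ 𝒜 k → y ∈ I.toIdeal → y ≠ 0 → 0 < k := by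
    intro y k hk hyI hy0
    by_contra hk0
    have hk0 : k = 0 := by omega
    subst hk0
    have h1 : y ∈ HomogeneousIdeal.irrelevant 𝒜 := hI hyI
    rw [HomogeneousIdeal.mem_irrelevant_iff, GradedRing.proj_apply,
      DirectSum.decompose_of_mem_same _ hk] at h1
    exact hy0 h1
  have main : ∀ (m : ℕ) (s : Finset (Fin r)), s.card = m →
      ∃ x : S, ∃ d : ℕ, 0 < d ∧ x ∈ 𝒜 d ∧ x ∈ I.toIdeal ∧ ∀ i ∈ s, x ∉ (p i).toIdeal := by
    intro m
    induction m with
    | zero =>
      intro s hs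
      rw [Finset.card_eq_zero] at hs
      subst hs
      exact ⟨0, 1, one_pos, zero_mem _, zero_mem _, by simp⟩
    | succ m ih =>
      intro s hs
      by_cases hcont : ∃ i ∈ s, ∃ j ∈ s, i ≠ j ∧ (p i).toIdeal ≤ (p j).toIdeal
      · obtain ⟨i, hi, j, hj, hij, hle⟩ := hcont
        obtain ⟨x, d, hd, hxd, hxI, hx⟩ :=
          ih (s.erase i) (by rw [Finset.card_erase_of_mem hi, hs]; rfl)
        refine ⟨x, d, hd, hxd, hxI, ?_⟩
        intro i' hi'
        by_cases h : i' = i
        · subst h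
          intro hmem
          exact hx j (Finset.mem_erase.mpr ⟨hij.symm, hj⟩) (hle hmem)
        · exact hx i' (Finset.mem_erase.mpr ⟨h, hi'⟩)
      · push Not at hcont
        obtain ⟨i₀, hi₀⟩ : s.Nonempty := Finset.card_pos.mp (by omega)
        obtain ⟨x, d, hd, hxd, hxI, hx⟩ :=
          ih (s.erase i₀) (by rw [Finset.card_erase_of_mem hi₀, hs]; rfl)
        by_cases hx0 : x ∈ (p i₀).toIdeal
        · obtain ⟨y, ⟨e, hye⟩, hyI, hyt, hyP⟩ := hB (p i₀).toIdeal (hp i₀) (h i₀) (s.erase i₀)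
            (fun j hj => hcont j (Finset.mem_of_mem_erase hj) i₀ hi₀ (Finset.ne_of_mem_erase hj))
          have he : 0 < e := hpos y e hye hyI (fun h0 => hyP (h0 ▸ zero_mem _))
          refine ⟨x ^ e + y ^ d, d * e, Nat.mul_pos hd he, ?_, ?_, ?_⟩
          · refine Submodule.add_mem _ ?_ ?_
            · have := SetLike.pow_mem_graded e hxd
              rwa [smul_eq_mul, mul_comm] at this
            · have := SetLike.pow_mem_graded d hye
              rwa [smul_eq_mul] at this
          · exact Ideal.add_mem _ (Ideal.pow_mem_of_mem _ hxI e he)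
              (Ideal.pow_mem_of_mem _ hyI d hd)
          · intro i hi hmem
            by_cases h' : i = i₀
            · subst h'
              have h1 : x ^ e ∈ (p i).toIdeal := Ideal.pow_mem_of_mem _ hx0 e he
              have h2 : y ^ d ∈ (p i).toIdeal := by
                have := Ideal.sub_mem _ hmem h1
                simpa using this
              exact hyP ((hp i).mem_of_pow_mem d h2)
            · have hi' : i ∈ s.erase i₀ := Finset.mem_erase.mpr ⟨h', hi⟩
              have h1 : y ^ d ∈ (p i).toIdeal := Ideal.pow_mem_of_mem _ (hyt i hi') d hd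
              have h2 : x ^ e ∈ (p i).toIdeal := by
                have := Ideal.sub_mem _ hmem h1
                simpa using this
              exact hx i hi' ((hp i).mem_of_pow_mem e h2)
        · refine ⟨x, d, hd, hxd, hxI, ?_⟩
          intro i hi
          by_cases h' : i = i₀
          · subst h'; exact hx0
          · exact hx i (Finset.mem_erase.mpr ⟨h', hi⟩)
  obtain ⟨x, d, hd, hxd, hxI, hx⟩ := main _ Finset.univ rfl
  exact ⟨x, d, hd, hxd, hxI, fun i => hx i (Finset.mem_univ i)⟩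

end Groth.Agent.S9616
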