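import Groth.Statements.S9617
import Mathlib

set_option autoImplicit false
universe u
open CAlg

namespace Groth.Agent.S9617

namespace S9617aux
open DirectSum

variable {A S : Type u} [CommRing A] [CommRing S] [Algebra A S] (𝒜 : ℕ → Submodule A S)
  [GradedAlgebra 𝒜]
variable {M : Type u} [AddCommGroup M] [Module A M] [Module S M] [IsScalarTower A S M]
  (ℳ : ℕ → Submodule A M) [DirectSum.Decomposition ℳ] [SetLike.GradedSMul 𝒜 ℳ]

/-- homogeneous positive-degree algebra generators -/
theorem exists_gens (h0 : ∀ s ∈ 𝒜 0, s ∈ Set.range (algebraMap A S)) [Algebra.FiniteType A S] :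
    ∃ G : Finset S, Algebra.adjoin A (G : Set S) = ⊤ ∧ ∀ g ∈ G, ∃ d : ℕ, d ≠ 0 ∧ g ∈ 𝒜 d := by
  classical
  obtain ⟨F, hF⟩ := Algebra.FiniteType.out (R := A) (A := S)
  refine ⟨F.biUnion (fun f => ((decompose 𝒜 f).support.filter (· ≠ 0)).image
    (fun i => (decompose 𝒜 f i : S))), ?_, ?_⟩
  · rw [← top_le_iff, ← hF, Algebra.adjoin_le_iff]
    intro f hf
    rw [SetLike.mem_coe, ← DirectSum.sum_support_decompose 𝒜 f]
    refine sum_mem fun i hi => ?_
    by_cases hi0 : i = 0
    · subst hi0
      obtain ⟨a, ha⟩ := h0 _ (decompose 𝒜 f 0).2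
      rw [← ha]
      exact Subalgebra.algebraMap_mem _ a
    · apply Algebra.subset_adjoin
      rw [Finset.mem_coe, Finset.mem_biUnion]
      exact ⟨f, hf, Finset.mem_image.mpr ⟨i, Finset.mem_filter.mpr ⟨hi, hi0⟩, rfl⟩⟩
  · intro g hg
    rw [Finset.mem_biUnion] at hg
    obtain ⟨f, _, hg⟩ := hg
    obtain ⟨i, hi, rfl⟩ := Finset.mem_image.mp hg
    exact ⟨i, (Finset.mem_filter.mp hi).2, (decompose 𝒜 f i).2⟩

/-- homogeneous module generators -/
theorem exists_mod_gens [Module.Finite S M] :
    ∃ H : Finset M, Submodule.span S (H : Set M) = ⊤ ∧ ∀ h ∈ H, ∃ e : ℕ, h ∈ ℳ e := by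
  classical
  obtain ⟨Y, hY⟩ := (Module.finite_def.mp ‹Module.Finite S M›)
  refine ⟨Y.biUnion (fun y => ((decompose ℳ y).support).image
    (fun i => (decompose ℳ y i : M))), ?_, ?_⟩
  · rw [← top_le_iff, ← hY, Submodule.span_le]
    intro y hy
    rw [SetLike.mem_coe, ← DirectSum.sum_support_decompose ℳ y]
    refine sum_mem fun i hi => ?_
    apply Submodule.subset_span
    rw [Finset.mem_coe, Finset.mem_biUnion]
    exact ⟨y, hy, Finset.mem_image.mpr ⟨i, hi, rfl⟩⟩
  · intro h hh
    rw [Finset.mem_biUnion] at hh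
    obtain ⟨y, _, hh⟩ := hh
    obtain ⟨i, _, rfl⟩ := Finset.mem_image.mp hh
    exact ⟨i, (decompose ℳ y i).2⟩

end S9617aux

/-- Let S be an ℕ-graded ring, presented as a graded algebra over a ring A mapping onto S₀, such that S
is of finite type over A, i.e. over S₀. If M is a finitely generated graded S-module, graded in
nonnegative degrees (the source allows all integer degrees), then each graded piece M_n is a finite
module over A, i.e. over S₀. -/
theorem result {A S : Type u} [CommRing A] [CommRing S] [Algebra A S] (𝒜 : ℕ → Submodule A S) [GradedAlgebra 𝒜]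
    (h0 : ∀ s ∈ 𝒜 0, s ∈ Set.range (algebraMap A S)) [Algebra.FiniteType A S]
    (M : Type u) [AddCommGroup M] [Module A M] [Module S M] [IsScalarTower A S M] [Module.Finite S M] (ℳ : ℕ → Submodule A M) [DirectSum.Decomposition ℳ] [SetLike.GradedSMul 𝒜 ℳ] (n : ℕ) :
    Module.Finite A (ℳ n) := by
  classical
  obtain ⟨G, hG, hGd⟩ := S9617aux.exists_gens 𝒜 h0
  obtain ⟨H, hH, hHe⟩ := S9617aux.exists_mod_gens (S := S) ℳ
  choose! dG hdG using hGd
  choose! eH heH using hHe
  -- monomials
  let u : (G → ℕ) → S := fun α => ∏ i : G, (i : S) ^ α i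
  let deg : (G → ℕ) → ℕ := fun α => ∑ i : G, α i * dG i
  have hu : ∀ α, u α ∈ 𝒜 (deg α) := by
    intro α
    have := SetLike.prod_pow_mem_graded 𝒜 (fun i : G => dG i)
      (fun i : G => (i : S)) α (F := Finset.univ) (fun i _ => (hdG i i.2).2)
    simpa [u, deg, smul_eq_mul] using this
  have huh : ∀ α, ∀ h ∈ H, u α • h ∈ ℳ (deg α + eH h) := fun α h hh =>
    SetLike.GradedSMul.smul_mem (hu α) (heH h hh)
  -- all monomial multiples span M over A
  let V : Set M := {v | ∃ α : G → ℕ, ∃ h ∈ H, v = u α • h}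
  have hmul : ∀ s : S, ∀ y ∈ Submodule.span A V, s • y ∈ Submodule.span A V := by
    intro s
    have hs : s ∈ Algebra.adjoin A (G : Set S) := by rw [hG]; trivial
    induction hs using Algebra.adjoin_induction with
    | mem g hg =>
      intro y hy
      induction hy using Submodule.span_induction with
      | mem v hv =>
        obtain ⟨α, h, hh, rfl⟩ := hv
        apply Submodule.subset_span
        let g' : G := ⟨g, hg⟩
        refine ⟨α + Pi.single g' 1, h, hh, ?_⟩
        rw [smul_smul]
        congr 1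
        change g * ∏ i : G, (i : S) ^ α i = ∏ i : G, (i : S) ^ ((α + Pi.single g' 1 : G → ℕ) i)
        simp only [Pi.add_apply, pow_add, Finset.prod_mul_distrib]
        rw [mul_comm]
        congr 1
        rw [Finset.prod_eq_single g']
        · simp [g']
        · intro b _ hb
          rw [Pi.single_eq_of_ne hb, pow_zero]
        · intro hb
          exact absurd (Finset.mem_univ _) hb
      | zero => rw [smul_zero]; exact zero_mem _
      | add x y _ _ hx hy => rw [smul_add]; exact add_mem hx hy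
      | smul a x _ hx => rw [smul_comm]; exact Submodule.smul_mem _ a hx
    | algebraMap a =>
      intro y hy
      rw [algebraMap_smul]
      exact Submodule.smul_mem _ a hy
    | add s t _ _ hs ht =>
      intro y hy
      rw [add_smul]
      exact add_mem (hs y hy) (ht y hy)
    | mul s t _ _ hs ht =>
      intro y hy
      rw [mul_smul]
      exact hs _ (ht y hy)
  have htop : ∀ x : M, x ∈ Submodule.span A V := by
    intro x
    have hx : x ∈ Submodule.span S (H : Set M) := by rw [hH]; trivial
    induction hx using Submodule.span_induction with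
    | mem h hh =>
      apply Submodule.subset_span
      refine ⟨0, h, hh, ?_⟩
      simp [u]
    | zero => exact zero_mem _
    | add x y _ _ hx hy => exact add_mem hx hy
    | smul s x _ hx => exact hmul s x hx
  -- projection to degree n
  let π : M →ₗ[A] M := (ℳ n).subtype ∘ₗ (DirectSum.component A ℕ (fun i => ℳ i) n) ∘ₗ
    (DirectSum.decomposeLinearEquiv ℳ).toLinearMap
  have hπ_same : ∀ {x : M} {k : ℕ}, x ∈ ℳ k → k = n → π x = x := by
    intro x k hx hk
    subst hk
    exact DirectSum.decompose_of_mem_same ℳ hx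
  have hπ_ne : ∀ {x : M} {k : ℕ}, x ∈ ℳ k → k ≠ n → π x = 0 := by
    intro x k hx hk
    exact DirectSum.decompose_of_mem_ne ℳ hx hk
  let Λ : Set ((G → ℕ) × M) := {p | p.2 ∈ H ∧ deg p.1 + eH p.2 = n}
  have hΛfin : Λ.Finite := by
    have h1 : (Set.pi Set.univ (fun _ : G => ((Finset.range (n + 1) : Finset ℕ) : Set ℕ))).Finite :=
      Set.Finite.pi (fun _ => Finset.finite_toSet _)
    refine (h1.prod H.finite_toSet).subset ?_
    rintro ⟨α, h⟩ ⟨hh, hd⟩
    refine ⟨?_, hh⟩
    intro i _
    rw [Finset.mem_coe, Finset.mem_range, Nat.lt_succ_iff]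
    have hpos : 0 < dG i := Nat.pos_of_ne_zero (hdG i i.2).1
    calc α i ≤ α i * dG i := Nat.le_mul_of_pos_right _ hpos
      _ ≤ deg α := Finset.single_le_sum (f := fun i : G => α i * dG i)
          (fun _ _ => Nat.zero_le _) (Finset.mem_univ i)
      _ ≤ n := by change deg α + eH h = n at hd; omega
  let Vn : Set M := (fun p : (G → ℕ) × M => u p.1 • p.2) '' Λ
  have hVn : Vn.Finite := hΛfin.image _
  have hle : ℳ n ≤ Submodule.span A Vn := by
    intro x hx
    have h1 : π x ∈ Submodule.map π (Submodule.span A V) := Submodule.mem_map_of_mem (htop x)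
    rw [hπ_same hx rfl, Submodule.map_span] at h1
    refine Submodule.span_le.mpr ?_ h1
    rintro _ ⟨v, ⟨α, h, hh, rfl⟩, rfl⟩
    by_cases hd : deg α + eH h = n
    · rw [hπ_same (huh α h hh) hd]
      exact Submodule.subset_span ⟨(α, h), ⟨hh, hd⟩, rfl⟩
    · rw [hπ_ne (huh α h hh) hd]
      exact zero_mem _
  have hge : Submodule.span A Vn ≤ ℳ n := by
    rw [Submodule.span_le]
    rintro _ ⟨p, ⟨hh, hd⟩, rfl⟩
    exact hd ▸ huh p.1 p.2 hh
  have heq : ℳ n = Submodule.span A Vn := le_antisymm hle hge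
  rw [Module.Finite.iff_fg, heq]
  exact Submodule.fg_span hVn

end Groth.Agent.S9617
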