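import Groth.Statements.S9620
import Mathlib

set_option autoImplicit false
universe u
open CAlg

namespace Groth.Agent.S9620

open PrimeSpectrum

/-- the set of idempotents contained in a prime -/
def idem {R : Type u} [CommRing R] (p : PrimeSpectrum R) : Set R :=
  {e : R | IsIdempotentElem e ∧ e ∈ p.asIdeal}

theorem exists_idem_mul_eq {R : Type u} [CommRing R] (p : PrimeSpectrum R) (x : R)
    (hx : x ∈ Ideal.span (idem p)) : ∃ e ∈ idem p, x * e = x := by
  refine Submodule.span_induction ?_ ?_ ?_ ?_ hx
  · intro e he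
    exact ⟨e, he, he.1.eq⟩
  · exact ⟨0, ⟨IsIdempotentElem.zero, p.asIdeal.zero_mem⟩, by simp⟩
  · rintro x y _ _ ⟨e, he, hxe⟩ ⟨e', he', hye'⟩
    refine ⟨e + e' - e * e', ⟨?_, ?_⟩, ?_⟩
    · have h1 := he.1.eq
      have h2 := he'.1.eq
      change (e + e' - e * e') * (e + e' - e * e') = e + e' - e * e'
      have : (e + e' - e * e') * (e + e' - e * e') =
        e * e + e' * e' + 2 * (e * e') - 2 * ((e * e) * e') - 2 * (e * (e' * e')) +
          (e * e) * (e' * e') := by ring
      rw [this, h1, h2]
      ring
    · exact p.asIdeal.sub_mem (p.asIdeal.add_mem he.2 he'.2) (p.asIdeal.mul_mem_right _ he.2)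
    · have h1 : x * (e + e' - e * e') = x * e + (x - x * e) * e' := by ring
      have h2 : y * (e + e' - e * e') = y * e' + (y - y * e') * e := by ring
      rw [add_mul, h1, h2, hxe, hye']
      ring
  · rintro r x _ ⟨e, he, hxe⟩
    refine ⟨e, he, ?_⟩
    rw [smul_eq_mul, mul_assoc, hxe]

theorem idem_quotient_trivial {R : Type u} [CommRing R] (p : PrimeSpectrum R)
    (a : R ⧸ Ideal.span (idem p)) (ha : IsIdempotentElem a) : a = 0 ∨ a = 1 := by
  obtain ⟨x, rfl⟩ := Ideal.Quotient.mk_surjective a
  have hx : x * x - x ∈ Ideal.span (idem p) := by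
    rw [← Ideal.Quotient.eq_zero_iff_mem, map_sub, map_mul, ha.eq, sub_self]
  obtain ⟨e, he, hxe⟩ := exists_idem_mul_eq p _ hx
  have he2 := he.1.eq
  let f := x * (1 - e)
  have hf : IsIdempotentElem f := by
    change x * (1 - e) * (x * (1 - e)) = x * (1 - e)
    have h1 : x * (1 - e) * (x * (1 - e)) - x * (1 - e) =
        (x * x - x) - (x * x - x) * e + x * x * (e * e - e) := by ring
    have h2 : x * (1 - e) * (x * (1 - e)) - x * (1 - e) = 0 := by
      rw [h1, hxe, he2]; ring
    exact sub_eq_zero.mp h2
  have hmk_e : Ideal.Quotient.mk (Ideal.span (idem p)) e = 0 :=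
    Ideal.Quotient.eq_zero_iff_mem.mpr (Ideal.subset_span he)
  have hmk_f : Ideal.Quotient.mk (Ideal.span (idem p)) f = Ideal.Quotient.mk _ x := by
    simp only [f, map_mul, map_sub, map_one, hmk_e, sub_zero, mul_one]
  have hprod : f * (1 - f) ∈ p.asIdeal := by
    have : f * (1 - f) = 0 := by
      rw [mul_sub, mul_one, hf.eq, sub_self]
    rw [this]; exact p.asIdeal.zero_mem
  rcases p.2.mem_or_mem hprod with h | h
  · left
    rw [← hmk_f]
    exact Ideal.Quotient.eq_zero_iff_mem.mpr (Ideal.subset_span ⟨hf, h⟩)
  · right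
    have : Ideal.Quotient.mk (Ideal.span (idem p)) (1 - f) = 0 :=
      Ideal.Quotient.eq_zero_iff_mem.mpr (Ideal.subset_span ⟨hf.one_sub, h⟩)
    rw [map_sub, map_one, sub_eq_zero] at this
    rw [← hmk_f, ← this]

theorem preconnected_quotient {R : Type u} [CommRing R] (p : PrimeSpectrum R) :
    PreconnectedSpace (PrimeSpectrum (R ⧸ Ideal.span (idem p))) := by
  rw [preconnectedSpace_iff_clopen]
  intro s hs
  obtain ⟨a, ha, rfl⟩ := PrimeSpectrum.isClopen_iff.mp hs
  rcases idem_quotient_trivial p a ha with rfl | rfl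
  · left; simp
  · right; simp

/-- For a ring R and a point p of Spec R, the connected component of p is the zero locus of the ideal I
generated by the idempotents of R contained in p, and every idempotent e of R satisfies e ∈ I or 1 -
e ∈ I (e maps to 0 or 1 in R/I). -/
theorem result {R : Type u} [CommRing R] (p : PrimeSpectrum R) :
    connectedComponent p = PrimeSpectrum.zeroLocus {e : R | IsIdempotentElem e ∧ e ∈ p.asIdeal} ∧
      ∀ e : R, IsIdempotentElem e → (e ∈ Ideal.span {e : R | IsIdempotentElem e ∧ e ∈ p.asIdeal} ∨ 1 - e ∈ Ideal.span {e : R | IsIdempotentElem e ∧ e ∈ p.asIdeal}) := by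
  constructor
  · apply subset_antisymm
    · intro q hq e he
      have hclopen : IsClopen (zeroLocus ({e} : Set R)) :=
        PrimeSpectrum.isClopen_iff_zeroLocus.mpr ⟨e, he.1, rfl⟩
      have hp : p ∈ zeroLocus ({e} : Set R) := by
        simp only [mem_zeroLocus, Set.singleton_subset_iff]
        exact he.2
      have := hclopen.connectedComponent_subset hp hq
      simpa [mem_zeroLocus] using this
    · have := preconnected_quotient p
      have hrange : Set.range (comap (Ideal.Quotient.mk (Ideal.span (idem p)))) =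
          zeroLocus (idem p) := by
        rw [range_comap_of_surjective _ _ Ideal.Quotient.mk_surjective, Ideal.mk_ker,
          zeroLocus_span]
      have hpre : IsPreconnected (zeroLocus (idem p)) := by
        rw [← hrange]
        exact isPreconnected_range (continuous_comap _)
      apply hpre.subset_connectedComponent
      intro e he
      exact he.2
  · intro e he
    have hprod : e * (1 - e) ∈ p.asIdeal := by
      have : e * (1 - e) = 0 := by rw [mul_sub, mul_one, he.eq, sub_self]
      rw [this]; exact p.asIdeal.zero_mem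
    rcases p.2.mem_or_mem hprod with h | h
    · exact Or.inl (Ideal.subset_span ⟨he, h⟩)
    · exact Or.inr (Ideal.subset_span ⟨he.one_sub, h⟩)

end Groth.Agent.S9620
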