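import Groth.Statements.S9618
import Groth.Agent.S9620
import Mathlib

set_option autoImplicit false
universe u
open CAlg

namespace Groth.Agent.S9618

open PrimeSpectrum

/-- For a ring R and a subset T of Spec R the following are equivalent: (1) T is closed and contains the
connected component of each of its points; (2) T can be written as an intersection of subsets of
Spec R that are both open and closed; (3) T is the common zero locus of some set of idempotent
elements of R (equivalently, of the ideal they generate). -/
theorem result {R : Type u} [CommRing R] (T : Set (PrimeSpectrum R)) :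
    [IsClosed T ∧ ∀ x ∈ T, connectedComponent x ⊆ T,
      ∃ U : Set (Set (PrimeSpectrum R)), (∀ u ∈ U, IsClopen u) ∧ T = ⋂₀ U,
      ∃ E : Set R, (∀ e ∈ E, IsIdempotentElem e) ∧ T = PrimeSpectrum.zeroLocus E].TFAE := by
  classical
  tfae_have 3 → 2 := by
    rintro ⟨E, hE, rfl⟩
    refine ⟨(fun e : R => zeroLocus ({e} : Set R)) '' E, ?_, ?_⟩
    · rintro _ ⟨e, he, rfl⟩
      exact PrimeSpectrum.isClopen_iff_zeroLocus.mpr ⟨e, hE e he, rfl⟩
    · ext x
      simp only [mem_zeroLocus, Set.sInter_image, Set.mem_iInter, Set.singleton_subset_iff]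
      rfl
  tfae_have 2 → 1 := by
    rintro ⟨U, hU, rfl⟩
    refine ⟨isClosed_sInter fun u hu => (hU u hu).1, ?_⟩
    intro x hx y hy u hu
    exact (hU u hu).connectedComponent_subset (hx u hu) hy
  tfae_have 1 → 3 := by
    rintro ⟨hT, hcc⟩
    refine ⟨{e | IsIdempotentElem e ∧ T ⊆ zeroLocus ({e} : Set R)}, fun e he => he.1, ?_⟩
    apply subset_antisymm
    · intro x hx e he
      have := he.2 hx
      simpa [mem_zeroLocus] using this
    · intro x hx
      by_contra hxT
      have hy : ∀ y : T, ∃ e : R, IsIdempotentElem e ∧ e ∈ y.1.asIdeal ∧ e ∉ x.asIdeal := by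
        intro y
        have hxy : x ∉ connectedComponent y.1 := fun h => hxT (hcc y.1 y.2 h)
        rw [(Groth.Agent.S9620.result y.1).1] at hxy
        simp only [mem_zeroLocus, Set.subset_def, not_forall] at hxy
        obtain ⟨e, he, hex⟩ := hxy
        exact ⟨e, he.1, he.2, hex⟩
      choose e he1 he2 he3 using hy
      have hTc : IsCompact T := hT.isCompact
      obtain ⟨t, ht⟩ := hTc.elim_finite_subcover (fun y : T => zeroLocus ({e y} : Set R))
        (fun y => (PrimeSpectrum.isClopen_iff_zeroLocus.mpr ⟨e y, he1 y, rfl⟩).2)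
        (fun y hy => Set.mem_iUnion.mpr ⟨⟨y, hy⟩, by
          simp only [mem_zeroLocus, Set.singleton_subset_iff]
          exact he2 ⟨y, hy⟩⟩)
      let f : R := ∏ y ∈ t, e y
      have hf : IsIdempotentElem f := by
        change (∏ y ∈ t, e y) * (∏ y ∈ t, e y) = ∏ y ∈ t, e y
        rw [← Finset.prod_mul_distrib]
        exact Finset.prod_congr rfl fun y _ => (he1 y).eq
      have hTf : T ⊆ zeroLocus ({f} : Set R) := by
        intro z hz
        have := ht hz
        simp only [Set.mem_iUnion, mem_zeroLocus, Set.singleton_subset_iff] at this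
        obtain ⟨y, hyt, hyz⟩ := this
        simp only [mem_zeroLocus, Set.singleton_subset_iff]
        exact Ideal.prod_mem _ hyt hyz
      have hfx : f ∈ x.asIdeal := hx ⟨hf, hTf⟩
      have := (Ideal.IsPrime.prod_mem_iff (hp := x.2)).mp hfx
      obtain ⟨y, _, hy⟩ := this
      exact he3 y hy
  tfae_finish

end Groth.Agent.S9618
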