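import Groth.Statements.S9619
import Mathlib

set_option autoImplicit false
universe u
open CAlg

namespace Groth.Agent.S9619

theorem span_le_of {R : Type u} [CommRing R] (E E' : Set R) (hE : ∀ e ∈ E, IsIdempotentElem e)
    (h : PrimeSpectrum.zeroLocus E = PrimeSpectrum.zeroLocus E') : Ideal.span E ≤ Ideal.span E' := by
  have hrad : (Ideal.span E).radical = (Ideal.span E').radical := by
    rw [← PrimeSpectrum.zeroLocus_eq_iff, PrimeSpectrum.zeroLocus_span, PrimeSpectrum.zeroLocus_span, h]
  rw [Ideal.span_le]
  intro e he
  have h1 : e ∈ (Ideal.span E').radical := by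
    rw [← hrad]; exact Ideal.le_radical (Ideal.subset_span he)
  obtain ⟨n, hn⟩ := h1
  rcases Nat.eq_zero_or_pos n with h0 | hpos
  · subst h0
    rw [pow_zero] at hn
    rw [SetLike.mem_coe, (Ideal.eq_top_iff_one _).mpr hn]
    exact Submodule.mem_top
  · have := (hE e he).pow_succ_eq (n - 1)
    rw [Nat.sub_add_cancel hpos] at this
    rw [SetLike.mem_coe, ← this]; exact hn

/-- For a ring R and two sets E, E' of idempotent elements of R with the same zero locus in Spec R, the
ideals generated by E and by E' are equal. -/
theorem result {R : Type u} [CommRing R] (E E' : Set R) (hE : ∀ e ∈ E, IsIdempotentElem e) (hE' : ∀ e ∈ E', IsIdempotentElem e) (h : PrimeSpectrum.zeroLocus E = PrimeSpectrum.zeroLocus E') :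
    Ideal.span E = Ideal.span E' :=
  le_antisymm (span_le_of E E' hE h) (span_le_of E' E hE' h.symm)

end Groth.Agent.S9619
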