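import Groth.Statements.S9621
import Groth.Agent.Lib.helper14.WeakAss

set_option autoImplicit false
universe u
open CAlg

namespace Groth.Agent.S9621

open Groth.Agent.H14

/-- Let R be a ring, p a minimal prime of R and W a quasi-compact open subset of Spec R not containing
p. Then there is an f ∈ R, f ∉ p, whose basic open D(f) is disjoint from W. -/
theorem result {R : Type u} [CommRing R] (p : PrimeSpectrum R) (hp : p.asIdeal ∈ minimalPrimes R) (W : Set (PrimeSpectrum R)) (hWo : IsOpen W) (hWc : IsCompact W) (hpW : p ∉ W) :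
    ∃ f : R, f ∉ p.asIdeal ∧ Disjoint (PrimeSpectrum.basicOpen f : Set (PrimeSpectrum R)) W := by
  classical
  have hpp : p.asIdeal.IsPrime := p.2
  let ι := {r : R // (PrimeSpectrum.basicOpen r : Set (PrimeSpectrum R)) ⊆ W}
  have hcover : W ⊆ ⋃ i : ι, (PrimeSpectrum.basicOpen i.1 : Set (PrimeSpectrum R)) := by
    intro x hx
    rw [PrimeSpectrum.eq_biUnion_of_isOpen hWo] at hx
    simp only [Set.mem_iUnion] at hx ⊢
    obtain ⟨r, hr, hxr⟩ := hx
    exact ⟨⟨r, hr⟩, hxr⟩
  obtain ⟨t, ht⟩ := hWc.elim_finite_subcover (fun i : ι => (PrimeSpectrum.basicOpen i.1 : Set _))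
    (fun i => (PrimeSpectrum.basicOpen i.1).2) hcover
  have hmem : ∀ i : ι, i.1 ∈ p.asIdeal := by
    intro i
    by_contra h
    exact hpW (i.2 h)
  have hex : ∀ i : ι, ∃ s ∉ p.asIdeal, ∃ n : ℕ, s * i.1 ^ n = 0 := by
    intro i
    obtain ⟨s, hs, n, hn⟩ := exists_mul_pow_mem_of_mem_minimalPrimes hp (hmem i)
    exact ⟨s, hs, n, by simpa using hn⟩
  choose s hs n hn using hex
  refine ⟨∏ i ∈ t, s i, ?_, ?_⟩
  · intro h
    rw [Ideal.IsPrime.prod_mem_iff] at h
    obtain ⟨i, -, hi⟩ := h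
    exact hs i hi
  · rw [Set.disjoint_left]
    intro q hqf hqW
    have := ht hqW
    simp only [Set.mem_iUnion] at this
    obtain ⟨i, hit, hqi⟩ := this
    have hqf' : (∏ i ∈ t, s i) ∉ q.asIdeal := hqf
    have hqi' : i.1 ∉ q.asIdeal := hqi
    have hsi : s i ∉ q.asIdeal := by
      intro h
      apply hqf'
      obtain ⟨c, hc⟩ := Finset.dvd_prod_of_mem s hit
      rw [hc]; exact q.asIdeal.mul_mem_right _ h
    have h0 : s i * i.1 ^ n i ∈ q.asIdeal := by rw [hn i]; exact q.asIdeal.zero_mem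
    rcases q.2.mem_or_mem h0 with h | h
    · exact hsi h
    · exact hqi' (q.2.mem_of_pow_mem _ h)

end Groth.Agent.S9621
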