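import Groth.Statements.S9623
import Groth.Agent.Lib.helper14.ConnectedTensor

set_option autoImplicit false
universe u
open CAlg

namespace Groth.Agent.S9623

open TensorProduct in
/-- Let k be a separably closed field and R, S two k-algebras with connected (nonempty) spectra. Then
Spec(R ⊗_k S) is connected. -/
theorem result {k R S : Type u} [Field k] [IsSepClosed k] [CommRing R] [CommRing S] [Algebra k R] [Algebra k S]
    [ConnectedSpace (PrimeSpectrum R)] [ConnectedSpace (PrimeSpectrum S)] :
    ConnectedSpace (PrimeSpectrum (R ⊗[k] S)) := by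
  let K := AlgebraicClosure k
  haveI : IsPurelyInseparable k K := inferInstance
  have key : ∀ (X : Type u) [CommRing X] [Algebra k X],
      ConnectedSpace (PrimeSpectrum X) ↔ ConnectedSpace (PrimeSpectrum (K ⊗[k] X)) := by
    intro X _ _
    have h1 := (PrimeSpectrum.isHomeomorph_comap_of_isPurelyInseparable k K X).homeomorph.connectedSpace_iff
    have h2 := (PrimeSpectrum.homeomorphOfRingEquiv
      (Algebra.TensorProduct.comm k X K).toRingEquiv).connectedSpace_iff
    exact h1.symm.trans h2
  haveI := (key R).mp inferInstance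
  haveI := (key S).mp inferInstance
  haveI : ConnectedSpace (PrimeSpectrum ((K ⊗[k] R) ⊗[K] (K ⊗[k] S))) :=
    Groth.Agent.H14.connectedSpace_tensor_of_isAlgClosed (k := K)
  rw [key (R ⊗[k] S)]
  let e1 : (K ⊗[k] R) ⊗[K] (K ⊗[k] S) ≃ₐ[K] (K ⊗[k] R) ⊗[k] S :=
    Algebra.TensorProduct.cancelBaseChange k K K (K ⊗[k] R) S
  let e2 : (K ⊗[k] R) ⊗[k] S ≃ₐ[K] K ⊗[k] (R ⊗[k] S) :=
    Algebra.TensorProduct.assoc k k K K R S
  exact (PrimeSpectrum.homeomorphOfRingEquiv
    (e1.toRingEquiv.trans e2.toRingEquiv)).connectedSpace_iff.mp inferInstance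

end Groth.Agent.S9623
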