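import Groth.Statements.S9624
import Mathlib

set_option autoImplicit false
universe u
open CAlg

namespace Groth.Agent.S9624

open TensorProduct in
/-- Let k be a field, S a geometrically connected k-algebra (the spectrum of k' ⊗_k S is connected for
every field extension k'/k) and R any k-algebra. Then the map R → R ⊗_k S induces a bijection on
idempotents: each idempotent of R ⊗_k S comes from exactly one idempotent of R. Here the test fields
range over field extensions in the universe of k; this is equivalent to the unrestricted notion,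
since an algebraic closure of k suffices as a test. -/
theorem result {k R S : Type u} [Field k] [CommRing R] [CommRing S] [Algebra k R] [Algebra k S]
    (hS : ∀ (k' : Type u) [Field k'] [Algebra k k'], ConnectedSpace (PrimeSpectrum (k' ⊗[k] S)))
    (x : R ⊗[k] S) (hx : IsIdempotentElem x) :
    ∃! e : R, IsIdempotentElem e ∧ algebraMap R (R ⊗[k] S) e = x := by
  haveI : Nontrivial S := by
    haveI := hS k
    obtain ⟨p⟩ := (inferInstance : Nonempty (PrimeSpectrum (k ⊗[k] S)))
    by_contra h
    rw [not_nontrivial_iff_subsingleton] at h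
    haveI : Subsingleton (k ⊗[k] S) := (Algebra.TensorProduct.lid k S).toEquiv.subsingleton
    exact p.2.ne_top (Subsingleton.elim _ _)
  haveI : Module.FaithfullyFlat k S := inferInstance
  haveI : Module.FaithfullyFlat R (R ⊗[k] S) := inferInstance
  have hinj : Function.Injective (algebraMap R (R ⊗[k] S)) :=
    FaithfulSMul.algebraMap_injective _ _
  let f := PrimeSpectrum.comap (algebraMap R (R ⊗[k] S))
  have hfopen : IsOpenMap f := PrimeSpectrum.isOpenMap_comap_algebraMap_tensorProduct_of_field
  have hfsurj : Function.Surjective f := PrimeSpectrum.comap_surjective_of_faithfullyFlat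
  have hfib : ∀ p, IsPreconnected (f ⁻¹' {p}) := by
    intro p
    haveI := hS p.asIdeal.ResidueField
    haveI : ConnectedSpace (PrimeSpectrum (p.asIdeal.Fiber (R ⊗[k] S))) :=
      (PrimeSpectrum.homeomorphOfRingEquiv
        (Algebra.TensorProduct.cancelBaseChange k R p.asIdeal.ResidueField
          p.asIdeal.ResidueField S).toRingEquiv).connectedSpace_iff.mpr inferInstance
    rw [isPreconnected_iff_preconnectedSpace]
    haveI : ConnectedSpace (f ⁻¹' {p}) :=
      (PrimeSpectrum.preimageHomeomorphFiber R (R ⊗[k] S) p).connectedSpace_iff.mpr inferInstance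
    infer_instance
  let U : Set (PrimeSpectrum (R ⊗[k] S)) := PrimeSpectrum.basicOpen x
  have hU : IsClopen U := PrimeSpectrum.isClopen_iff.mpr ⟨x, hx, rfl⟩
  have hsat : f ⁻¹' (f '' U) = U := by
    apply subset_antisymm
    · rintro Q' ⟨Q, hQ, hQQ'⟩
      exact (hfib (f Q')).subset_isClopen hU ⟨Q, hQQ', hQ⟩ rfl
    · exact Set.subset_preimage_image f U
  have hV : IsClopen (f '' U) := by
    refine ⟨?_, hfopen U hU.2⟩
    have hc : (f '' U)ᶜ = f '' Uᶜ := by
      ext p
      constructor
      · intro hp
        obtain ⟨Q, rfl⟩ := hfsurj p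
        exact ⟨Q, fun hQ => hp ⟨Q, hQ, rfl⟩, rfl⟩
      · rintro ⟨Q, hQ, rfl⟩ hmem
        have : Q ∈ f ⁻¹' (f '' U) := hmem
        rw [hsat] at this
        exact hQ this
    rw [← isOpen_compl_iff, hc]
    exact hfopen _ hU.1.isOpen_compl
  obtain ⟨e, he, hVe⟩ := PrimeSpectrum.isClopen_iff.mp hV
  have hex : algebraMap R (R ⊗[k] S) e = x := by
    apply PrimeSpectrum.basicOpen_injOn_isIdempotentElem (he.map _) hx
    apply SetLike.ext'
    change _ = U
    rw [← hsat, hVe]
    ext Q
    simp [f]
  refine ⟨e, ⟨he, hex⟩, ?_⟩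
  rintro e' ⟨-, h'⟩
  apply hinj
  rw [h', hex]

end Groth.Agent.S9624
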