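import Groth.Statements.S9625
import Mathlib

set_option autoImplicit false
universe u
open CAlg
open TensorProduct

namespace Groth.Agent.S9625

/-- primality of the nilradical descends along injective ring maps -/
theorem isPrime_nilradical_of_injective {A B : Type*} [CommRing A] [CommRing B] (f : A →+* B)
    (hf : Function.Injective f) (hB : (nilradical B).IsPrime) : (nilradical A).IsPrime := by
  have : nilradical A = (nilradical B).comap f := by
    ext x
    simp only [mem_nilradical, Ideal.mem_comap]
    constructor
    · intro h; exact h.map f
    · rintro ⟨n, hn⟩
      refine ⟨n, hf ?_⟩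
      rw [map_pow, hn, map_zero]
  rw [this]
  exact Ideal.comap_isPrime f _

/-- Let k be a field and S a k-algebra such that Spec(k' ⊗_k S) is irreducible for every field extension
k'/k. Then every k-subalgebra of S has the same property. Here the test fields range over field
extensions in the universe of k; this is equivalent to the unrestricted notion, since an algebraic
closure of k suffices as a test. -/
theorem result {k S : Type u} [Field k] [CommRing S] [Algebra k S]
    (hS : ∀ (k' : Type u) [Field k'] [Algebra k k'], IrreducibleSpace (PrimeSpectrum (k' ⊗[k] S))) (S' : Subalgebra k S) :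
    ∀ (k' : Type u) [Field k'] [Algebra k k'], IrreducibleSpace (PrimeSpectrum (k' ⊗[k] S')) := by
  intro k' _ _
  have h1 := hS k'
  rw [PrimeSpectrum.irreducibleSpace_iff_isPrime_nilradical] at h1 ⊢
  let ψ : k' ⊗[k] S' →ₐ[k'] k' ⊗[k] S := Algebra.TensorProduct.map (AlgHom.id k' k') S'.val
  have hψ : Function.Injective ψ := by
    have h2 : Function.Injective (LinearMap.lTensor k' S'.val.toLinearMap) :=
      Module.Flat.lTensor_preserves_injective_linearMap _ Subtype.val_injective
    intro x y hxy
    apply h2
    have h3 : ∀ z, ψ z = LinearMap.lTensor k' S'.val.toLinearMap z := by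
      intro z
      induction z using TensorProduct.induction_on with
      | zero => simp
      | tmul a b => simp [ψ]
      | add a b ha hb => rw [map_add, map_add, ha, hb]
    rw [← h3, ← h3, hxy]
  exact isPrime_nilradical_of_injective ψ.toRingHom hψ h1

end Groth.Agent.S9625
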