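import Groth.Statements.S9626
import Groth.Agent.Lib.helper14.GeomIrred

set_option autoImplicit false
universe u
open CAlg

namespace Groth.Agent.S9626

open TensorProduct in
/-- Let k be a field, S a k-algebra with Spec(k' ⊗_k S) irreducible for every field extension k'/k, and
R any k-algebra. Then Spec(R ⊗_k S) → Spec(R) induces a bijection on irreducible components: taking
inverse images along R → R ⊗_k S maps the set of minimal primes of R ⊗_k S bijectively onto the set
of minimal primes of R. Here the test fields range over field extensions in the universe of k; this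
is equivalent to the unrestricted notion, since an algebraic closure of k suffices as a test. -/
theorem result {k R S : Type u} [Field k] [CommRing R] [CommRing S] [Algebra k R] [Algebra k S]
    (hS : ∀ (k' : Type u) [Field k'] [Algebra k k'], IrreducibleSpace (PrimeSpectrum (k' ⊗[k] S))) :
    Set.BijOn (Ideal.comap (algebraMap R (R ⊗[k] S))) (minimalPrimes (R ⊗[k] S)) (minimalPrimes R) := by
  haveI : Nontrivial S := by
    haveI := hS k
    obtain ⟨p⟩ := (inferInstance : Nonempty (PrimeSpectrum (k ⊗[k] S)))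
    by_contra h
    rw [not_nontrivial_iff_subsingleton] at h
    haveI : Subsingleton (k ⊗[k] S) := (Algebra.TensorProduct.lid k S).toEquiv.subsingleton
    exact p.2.ne_top (Subsingleton.elim _ _)
  haveI : Module.FaithfullyFlat k S := inferInstance
  haveI : Module.FaithfullyFlat R (R ⊗[k] S) := inferInstance
  refine ⟨?_, ?_, ?_⟩
  · -- MapsTo
    intro Q hQ
    haveI := hQ.1.1
    refine ⟨⟨Ideal.comap_isPrime _ _, bot_le⟩, ?_⟩
    rintro p ⟨hp, _⟩ hpQ
    haveI : Q.LiesOver (Q.comap (algebraMap R (R ⊗[k] S))) := ⟨rfl⟩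
    obtain ⟨P, hPQ, hPprime, hPlies⟩ :=
      Ideal.exists_ideal_le_liesOver_of_le (p := p) (q := Q.comap (algebraMap R (R ⊗[k] S))) Q hpQ
    have hQP : Q ≤ P := hQ.2 ⟨hPprime, bot_le⟩ hPQ
    have : P = Q := le_antisymm hPQ hQP
    subst this
    rw [hPlies.over]
  · -- InjOn
    intro Q1 hQ1 Q2 hQ2 h
    haveI := hQ1.1.1
    haveI := hQ2.1.1
    let f := PrimeSpectrum.comap (algebraMap R (R ⊗[k] S))
    let p : PrimeSpectrum R := f ⟨Q1, inferInstance⟩
    have hF : IsIrreducible (f ⁻¹' {p}) := by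
      haveI := hS p.asIdeal.ResidueField
      haveI : IrreducibleSpace (PrimeSpectrum (p.asIdeal.Fiber (R ⊗[k] S))) :=
        Groth.Agent.H14.irreducibleSpace_of_ringEquiv
          (Algebra.TensorProduct.cancelBaseChange k R p.asIdeal.ResidueField
            p.asIdeal.ResidueField S).symm.toRingEquiv
      rw [isIrreducible_iff_irreducibleSpace]
      exact ((PrimeSpectrum.preimageHomeomorphFiber R (R ⊗[k] S) p).irreducibleSpace_iff).mpr
        inferInstance
    obtain ⟨Z, hZ, hFZ⟩ := exists_mem_irreducibleComponents_subset_of_isIrreducible _ hF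
    rw [← PrimeSpectrum.zeroLocus_minimalPrimes] at hZ
    obtain ⟨Q, hQ, rfl⟩ := hZ
    have h1 : (⟨Q1, inferInstance⟩ : PrimeSpectrum (R ⊗[k] S)) ∈ f ⁻¹' {p} := rfl
    have h2 : (⟨Q2, inferInstance⟩ : PrimeSpectrum (R ⊗[k] S)) ∈ f ⁻¹' {p} := by
      simp only [Set.mem_preimage, Set.mem_singleton_iff]
      exact PrimeSpectrum.ext h.symm
    have h1' : Q ≤ Q1 := hFZ h1
    have h2' : Q ≤ Q2 := hFZ h2
    have e1 : Q1 = Q := le_antisymm (hQ1.2 hQ.1 h1') h1'
    have e2 : Q2 = Q := le_antisymm (hQ2.2 hQ.1 h2') h2'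
    rw [e1, e2]
  · -- SurjOn
    intro p hp
    haveI := hp.1.1
    obtain ⟨Q', hQ'prime, hQ'lies⟩ :=
      Ideal.exists_isPrime_liesOver_of_faithfullyFlat (B := R ⊗[k] S) p
    obtain ⟨Q, hQ, hQQ'⟩ := Ideal.exists_minimalPrimes_le (J := Q') bot_le
    refine ⟨Q, hQ, ?_⟩
    haveI := hQ.1.1
    have hle : Q.comap (algebraMap R (R ⊗[k] S)) ≤ p := by
      rw [hQ'lies.over]
      exact Ideal.comap_mono hQQ'
    exact le_antisymm hle (hp.2 ⟨Ideal.comap_isPrime _ _, bot_le⟩ hle)

end Groth.Agent.S9626
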