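import Groth.Statements.S9633
import Groth.Agent.Lib.helper14.WeakAss

set_option autoImplicit false
universe u
open CAlg

namespace Groth.Agent.S9633

open Groth.Agent.H14

/-- For a ring R with spectrum X the following are equivalent: (1) X is profinite, i.e. compact,
Hausdorff and totally disconnected; (2) X is Hausdorff; (3) X is totally disconnected; (4) every
quasi-compact open subset of X is closed; (5) there are no nontrivial inclusions among prime ideals
of R; (6) every prime ideal of R is maximal; (7) every prime ideal of R is a minimal prime; (8)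
every standard open D(f) is closed. -/
theorem result {R : Type u} [CommRing R] :
    [CompactSpace (PrimeSpectrum R) ∧ T2Space (PrimeSpectrum R) ∧ TotallyDisconnectedSpace (PrimeSpectrum R),
      T2Space (PrimeSpectrum R),
      TotallyDisconnectedSpace (PrimeSpectrum R),
      ∀ W : Set (PrimeSpectrum R), IsOpen W → IsCompact W → IsClosed W,
      ∀ p q : PrimeSpectrum R, p ≤ q → p = q,
      ∀ p : Ideal R, p.IsPrime → p.IsMaximal,
      ∀ p : Ideal R, p.IsPrime → p ∈ minimalPrimes R,
      ∀ f : R, IsClosed (PrimeSpectrum.basicOpen f : Set (PrimeSpectrum R))].TFAE := by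
  tfae_have 1 → 2 := fun h => h.2.1
  tfae_have 1 → 3 := fun h => h.2.2
  tfae_have 2 → 6 := by
    intro h p hp
    exact (PrimeSpectrum.isClosed_singleton_iff_isMaximal ⟨p, hp⟩).mp isClosed_singleton
  tfae_have 3 → 5 := by
    intro h p q hpq
    rw [PrimeSpectrum.le_iff_specializes, specializes_iff_mem_closure] at hpq
    have hpre : IsPreconnected ({p, q} : Set (PrimeSpectrum R)) := by
      apply IsPreconnected.subset_closure (s := {p}) isPreconnected_singleton
      · intro x hx; rw [Set.mem_singleton_iff] at hx; subst hx; exact Set.mem_insert _ _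
      · intro x hx
        rcases hx with rfl | hx
        · exact subset_closure rfl
        · rw [Set.mem_singleton_iff] at hx; subst hx; exact hpq
    have := hpre.subsingleton
    exact this (Set.mem_insert _ _) (Set.mem_insert_of_mem _ rfl)
  tfae_have 5 → 6 := by
    intro h p hp
    obtain ⟨m, hm, hpm⟩ := Ideal.exists_le_maximal p hp.ne_top
    have := h ⟨p, hp⟩ ⟨m, hm.isPrime⟩ hpm
    have : p = m := congrArg PrimeSpectrum.asIdeal this
    rw [this]; exact hm
  tfae_have 6 → 7 := by
    intro h p hp
    obtain ⟨q, hq, hqp⟩ := Ideal.exists_minimalPrimes_le (I := ⊥) (J := p) bot_le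
    have hqmax : q.IsMaximal := h q hq.isPrime
    have : q = p := hqmax.eq_of_le hp.ne_top hqp
    exact this ▸ hq
  tfae_have 7 → 5 := by
    intro h p q hpq
    have hq := h q.asIdeal q.2
    exact le_antisymm hpq (hq.2 ⟨p.2, bot_le⟩ hpq)
  tfae_have 7 → 8 := by
    intro h f
    rw [← isOpen_compl_iff, isOpen_iff_forall_mem_open]
    intro p hp
    have hfp : f ∈ p.asIdeal := by
      by_contra hf; exact hp hf
    obtain ⟨s, hs, n, hn⟩ := exists_mul_pow_mem_of_mem_minimalPrimes (h p.asIdeal p.2) hfp
    refine ⟨(PrimeSpectrum.basicOpen s : Set (PrimeSpectrum R)), ?_, (PrimeSpectrum.basicOpen s).2, hs⟩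
    intro q hq hqf
    have hq' : s ∉ q.asIdeal := hq
    have hqf' : f ∉ q.asIdeal := hqf
    have h0 : s * f ^ n ∈ q.asIdeal := by
      have : s * f ^ n = 0 := by simpa using hn
      rw [this]; exact q.asIdeal.zero_mem
    rcases q.2.mem_or_mem h0 with h | h
    · exact hq' h
    · exact hqf' (q.2.mem_of_pow_mem _ h)
  tfae_have 8 → 4 := by
    intro h W hWo hWc
    classical
    let ι := {r : R // (PrimeSpectrum.basicOpen r : Set (PrimeSpectrum R)) ⊆ W}
    have hcover : W ⊆ ⋃ i : ι, (PrimeSpectrum.basicOpen i.1 : Set (PrimeSpectrum R)) := by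
      intro x hx
      rw [PrimeSpectrum.eq_biUnion_of_isOpen hWo] at hx
      simp only [Set.mem_iUnion] at hx ⊢
      obtain ⟨r, hr, hxr⟩ := hx
      exact ⟨⟨r, hr⟩, hxr⟩
    obtain ⟨t, ht⟩ := hWc.elim_finite_subcover (fun i : ι => (PrimeSpectrum.basicOpen i.1 : Set _))
      (fun i => (PrimeSpectrum.basicOpen i.1).2) hcover
    have hW : W = ⋃ i ∈ t, (PrimeSpectrum.basicOpen i.1 : Set (PrimeSpectrum R)) := by
      apply Set.Subset.antisymm ht
      intro x hx
      simp only [Set.mem_iUnion] at hx
      obtain ⟨i, -, hxi⟩ := hx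
      exact i.2 hxi
    rw [hW]
    exact t.finite_toSet.isClosed_biUnion (fun i _ => h i.1)
  tfae_have 4 → 8 := by
    intro h f
    exact h _ (PrimeSpectrum.basicOpen f).2 (PrimeSpectrum.isCompact_basicOpen f)
  tfae_have 8 → 1 := by
    intro h
    have hTS : TotallySeparatedSpace (PrimeSpectrum R) := by
      rw [totallySeparatedSpace_iff_exists_isClopen]
      intro x y hxy
      have hne : x.asIdeal ≠ y.asIdeal := fun h => hxy (PrimeSpectrum.ext h)
      have : ¬ (x.asIdeal ≤ y.asIdeal ∧ y.asIdeal ≤ x.asIdeal) := fun h => hne (le_antisymm h.1 h.2)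
      rw [not_and_or] at this
      rcases this with h1 | h1
      · obtain ⟨f, hfx, hfy⟩ := SetLike.not_le_iff_exists.mp h1
        refine ⟨(PrimeSpectrum.basicOpen f : Set (PrimeSpectrum R))ᶜ,
          ⟨(PrimeSpectrum.basicOpen f).2.isClosed_compl, (h f).isOpen_compl⟩, ?_, ?_⟩
        · exact fun hx => hx hfx
        · rw [compl_compl]; exact hfy
      · obtain ⟨f, hfy, hfx⟩ := SetLike.not_le_iff_exists.mp h1
        refine ⟨(PrimeSpectrum.basicOpen f : Set (PrimeSpectrum R)),
          ⟨h f, (PrimeSpectrum.basicOpen f).2⟩, hfx, ?_⟩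
        exact fun hy => hy hfy
    exact ⟨inferInstance, inferInstance, inferInstance⟩
  tfae_finish

end Groth.Agent.S9633
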