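import Groth.Statements.S9635
-- import your own Groth.Agent.* helpers here
import Mathlib
import Groth.Agent.Lib.helper6.GeomRedPI

set_option autoImplicit false
universe u
open CAlg

namespace Groth.Agent.S9635

open TensorProduct in
/-- Let k ⊆ k' be fields with k' separable algebraic over k, and A a k'-algebra. Then A is geometrically
reduced over k (K ⊗_k A reduced for all field extensions K/k) if and only if A is geometrically
reduced over k' (K ⊗_{k'} A reduced for all field extensions K/k'). Here the test fields K range
over field extensions (of k, respectively of k') in the common universe of k and k'; this is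
equivalent to the unrestricted notions, since an algebraic closure of the base field suffices as a
test. -/
theorem result {k k' A : Type u} [Field k] [Field k'] [Algebra k k'] [Algebra.IsSeparable k k'] [CommRing A] [Algebra k' A] [Algebra k A] [IsScalarTower k k' A] :
    (∀ (K : Type u) [Field K] [Algebra k K], IsReduced (K ⊗[k] A)) ↔
      ∀ (K : Type u) [Field K] [Algebra k' K], IsReduced (K ⊗[k'] A) := by
  constructor
  · intro h K _ _
    letI : Algebra k K := ((algebraMap k' K).comp (algebraMap k k')).toAlgebra
    have : IsScalarTower k k' K := IsScalarTower.of_algebraMap_eq (fun _ => rfl)
    have := h K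
    exact Groth.Agent.Lib.helper6.GeomRedPI.isReduced_of_tower (k := k) (k' := k') (K := K) (B := A)
  · intro h K _ _
    have : Algebra.IsGeometricallyReduced k' A :=
      (Algebra.isGeometricallyReduced_field_iff _ _).2 (h (AlgebraicClosure k'))
    exact Groth.Agent.Lib.helper6.GeomRedPI.isReduced_of_isSeparable (k := k) (k' := k') (K := K) (B := A)

end Groth.Agent.S9635
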