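import Groth.Statements.S9636
import Mathlib

set_option autoImplicit false
universe u
open CAlg

namespace Groth.Agent.S9636

open TensorProduct

section

variable {k k' : Type u} [Field k] [Field k'] [Algebra k k'] [Algebra.IsSeparable k k']

/-- every element of the kernel of the multiplication map is killed by an element outside it -/
theorem exists_mul_eq_zero (x : k' ⊗[k] k')
    (hx : Algebra.TensorProduct.lmul' (S := k') k x = 0) :
    ∃ t : k' ⊗[k] k', Algebra.TensorProduct.lmul' (S := k') k t ≠ 0 ∧ t * x = 0 := by
  obtain ⟨Sx, hSx⟩ := TensorProduct.exists_finset x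
  classical
  let T : Finset k' := Sx.image (fun j => j.1) ∪ Sx.image (fun j => j.2)
  let E := IntermediateField.adjoin k (T : Set k')
  haveI : FiniteDimensional k E :=
    IntermediateField.finiteDimensional_adjoin (fun z _ => Algebra.IsIntegral.isIntegral z)
  haveI : Algebra.IsSeparable k E := Algebra.isSeparable_tower_bot_of_isSeparable k E k'
  haveI : Algebra.FormallyUnramified k E := Algebra.FormallyUnramified.of_isSeparable k E
  let ι : E ⊗[k] E →ₐ[k] k' ⊗[k] k' := Algebra.TensorProduct.map E.val E.val
  have hι : Function.Injective ι := by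
    have h1 : Function.Injective (Algebra.TensorProduct.map E.val (AlgHom.id k E)) :=
      Module.Flat.rTensor_preserves_injective_linearMap (M := E) E.val.toLinearMap
        Subtype.val_injective
    have h2 : Function.Injective (Algebra.TensorProduct.map (AlgHom.id k k') E.val) :=
      Module.Flat.lTensor_preserves_injective_linearMap (M := k') E.val.toLinearMap
        Subtype.val_injective
    have : ι = (Algebra.TensorProduct.map (AlgHom.id k k') E.val).comp
        (Algebra.TensorProduct.map E.val (AlgHom.id k E)) := by
      ext <;> simp [ι]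
    rw [this]
    exact h2.comp h1
  have hμ : ∀ y : E ⊗[k] E, Algebra.TensorProduct.lmul' (S := k') k (ι y) =
      E.val (Algebra.TensorProduct.lmul' (S := E) k y) := by
    intro y
    induction y using TensorProduct.induction_on with
    | zero => simp
    | tmul a b => simp [ι]
    | add y z hy hz => rw [map_add, map_add, hy, hz, map_add, map_add]
  have hxmem : x ∈ ι.range := by
    rw [hSx]
    refine Subalgebra.sum_mem _ fun s hs =>
      ⟨⟨s.1, IntermediateField.subset_adjoin _ _ ?_⟩ ⊗ₜ ⟨s.2, IntermediateField.subset_adjoin _ _ ?_⟩, ?_⟩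
    · simp only [T, Finset.coe_union, Finset.coe_image, Set.mem_union, Set.mem_image, Finset.mem_coe]
      exact Or.inl ⟨s, hs, rfl⟩
    · simp only [T, Finset.coe_union, Finset.coe_image, Set.mem_union, Set.mem_image, Finset.mem_coe]
      exact Or.inr ⟨s, hs, rfl⟩
    · simp [ι]
  obtain ⟨x', (rfl : ι x' = x)⟩ := hxmem
  have hx' : Algebra.TensorProduct.lmul' (S := E) k x' = 0 := by
    have := hμ x'
    rw [hx] at this
    exact (map_eq_zero_iff _ Subtype.val_injective).mp this.symm
  obtain ⟨t, ht1, ht2⟩ := (Algebra.FormallyUnramified.iff_exists_tensorProduct (R := k) (S := E)).mp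
    inferInstance
  have hkill : ∀ y ∈ KaehlerDifferential.ideal k E, y * t = 0 := by
    intro y hy
    rw [← KaehlerDifferential.span_range_eq_ideal] at hy
    induction hy using Submodule.span_induction with
    | mem z hz => obtain ⟨s, rfl⟩ := hz; exact ht1 s
    | zero => simp
    | add y z _ _ hy hz => rw [add_mul, hy, hz, add_zero]
    | smul a y _ hy => rw [smul_eq_mul, mul_assoc, hy, mul_zero]
  refine ⟨ι t, ?_, ?_⟩
  · rw [hμ, ht2]
    simp
  · rw [← map_mul, mul_comm t x', hkill x' (RingHom.mem_ker.mpr hx'), map_zero]

end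

open TensorProduct in
/-- Let k'/k be a separable algebraic field extension. Then for some multiplicative subset S of k' ⊗_k
k' the multiplication map k' ⊗_k k' → k' is a localization at S: there is a ring isomorphism S⁻¹(k'
⊗_k k') ≅ k' carrying the localization map to the multiplication map. -/
theorem result {k k' : Type u} [Field k] [Field k'] [Algebra k k'] [Algebra.IsSeparable k k'] :
    ∃ (S : Submonoid (k' ⊗[k] k')) (e : Localization S ≃+* k'), ∀ x : k' ⊗[k] k', e (algebraMap (k' ⊗[k] k') (Localization S) x) = Algebra.TensorProduct.lmul' (S := k') k x := by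
  let μ : k' ⊗[k] k' →+* k' := (Algebra.TensorProduct.lmul' (S := k') k).toRingHom
  haveI hP : (RingHom.ker μ).IsPrime := RingHom.ker_isPrime μ
  let S := (RingHom.ker μ).primeCompl
  have hunit : ∀ s : S, IsUnit (μ s) := by
    intro s
    rw [isUnit_iff_ne_zero]
    exact fun h => s.2 (RingHom.mem_ker.mpr h)
  let l : Localization S →+* k' := IsLocalization.lift (M := S) hunit
  have hl : ∀ x, l (algebraMap _ _ x) = μ x := fun x => IsLocalization.lift_eq hunit x
  have hsurj : Function.Surjective l := by
    intro a
    refine ⟨algebraMap _ _ (a ⊗ₜ[k] (1 : k')), ?_⟩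
    rw [hl]
    simp [μ]
  have hinj : Function.Injective l := by
    rw [injective_iff_map_eq_zero]
    intro z hz
    obtain ⟨x, s, rfl⟩ := IsLocalization.exists_mk'_eq S z
    rw [IsLocalization.lift_mk'_spec] at hz
    rw [mul_zero] at hz
    obtain ⟨t, ht, htx⟩ := exists_mul_eq_zero x hz
    rw [IsLocalization.mk'_eq_zero_iff]
    exact ⟨⟨t, fun h => ht (RingHom.mem_ker.mp h)⟩, htx⟩
  exact ⟨S, RingEquiv.ofBijective l ⟨hinj, hsurj⟩, fun x => hl x⟩

end Groth.Agent.S9636
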