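import Groth.Statements.S9637
import Mathlib

set_option autoImplicit false
universe u
open CAlg

namespace Groth.Agent.S9637

/-- Let R be a local Noetherian ring, I an ideal contained in its maximal ideal, and M a finite
R-module. Then I contains an M-regular element (one acting injectively on M) if and only if no
associated prime of M contains I. -/
theorem result {R : Type u} [CommRing R] [IsNoetherianRing R] [IsLocalRing R] (I : Ideal R) (hI : I ≤ IsLocalRing.maximalIdeal R) (M : Type u) [AddCommGroup M] [Module R M] [Module.Finite R M] :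
    (∃ x ∈ I, IsSMulRegular M x) ↔ ∀ q ∈ associatedPrimes R M, ¬ I ≤ q := by
  have hzd : ∀ r : R, r ∈ (⋃ p ∈ associatedPrimes R M, (p : Set R)) ↔ ¬ IsSMulRegular M r := by
    intro r
    rw [biUnion_associatedPrimes_eq_zero_divisors R M]
    simp only [Set.mem_setOf_eq]
    constructor
    · rintro ⟨x, hx, hrx⟩ hreg
      exact hx (hreg (by simpa using hrx))
    · intro h
      rw [IsSMulRegular, Function.Injective] at h
      push_neg at h
      obtain ⟨a, b, hab, hne⟩ := h
      exact ⟨a - b, sub_ne_zero.mpr hne, by rw [smul_sub]; exact sub_eq_zero.mpr hab⟩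
  constructor
  · rintro ⟨x, hxI, hreg⟩ q hq hIq
    exact (hzd x).mp (Set.mem_iUnion₂_of_mem hq (hIq hxI)) hreg
  · intro h
    by_contra hcon
    push_neg at hcon
    have hsub : (I : Set R) ⊆ ⋃ p ∈ associatedPrimes R M, (p : Set R) := by
      intro x hx
      exact (hzd x).mpr (hcon x hx)
    obtain ⟨q, hq, hIq⟩ := (I.subset_union_prime_finite (associatedPrimes.finite R M) (f := id) 0 0
      fun _ h _ _ ↦ h.isPrime).1 hsub
    exact h q hq hIq

end Groth.Agent.S9637
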