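import Groth.Statements.S9641
import Mathlib

set_option autoImplicit false
universe u
open CAlg

namespace Groth.Agent.S9641

open TensorProduct in
/-- a nonzero nilpotent of `A ⊗ B` descends to `A ⊗ B'` for a finitely generated `B' ⊆ B`. -/
theorem step {k A B : Type*} [Field k] [CommRing A] [CommRing B] [Algebra k A] [Algebra k B]
    (h : ¬ IsReduced (A ⊗[k] B)) : ∃ B' : Subalgebra k B, B'.FG ∧ ¬ IsReduced (A ⊗[k] B') := by
  obtain ⟨x, hx⟩ := exists_isNilpotent_of_not_isReduced h
  obtain ⟨D, hD⟩ := exists_fg_and_mem_baseChange x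
  have h_inj : Function.Injective (Algebra.TensorProduct.map (AlgHom.id A A) D.val) :=
    Module.Flat.lTensor_preserves_injective_linearMap _ Subtype.val_injective
  obtain ⟨z, rfl⟩ := hD.2
  refine ⟨D, hD.1, ?_⟩
  simp_rw [isReduced_iff, not_forall]
  exact ⟨z, (IsNilpotent.map_iff h_inj).mp hx.right, (by simpa [·] using hx.1)⟩

open TensorProduct in
/-- Let k be a field and R, S two k-algebras. If R ⊗_k S is not reduced then there are finitely
generated k-subalgebras R' ⊆ R and S' ⊆ S such that R' ⊗_k S' is not reduced. -/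
theorem result {k R S : Type u} [Field k] [CommRing R] [CommRing S] [Algebra k R] [Algebra k S] (h : ¬ IsReduced (R ⊗[k] S)) :
    ∃ (R' : Subalgebra k R) (S' : Subalgebra k S), R'.FG ∧ S'.FG ∧ ¬ IsReduced (R' ⊗[k] S') := by
  obtain ⟨S', hS', h1⟩ := step h
  have h2 : ¬ IsReduced (S' ⊗[k] R) := fun hred =>
    h1 (isReduced_of_injective (Algebra.TensorProduct.comm k R S').toRingHom
      (Algebra.TensorProduct.comm k R S').injective)
  obtain ⟨R', hR', h3⟩ := step h2
  refine ⟨R', S', hR', hS', fun hred => h3 ?_⟩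
  exact isReduced_of_injective (Algebra.TensorProduct.comm k S' R').toRingHom
      (Algebra.TensorProduct.comm k S' R').injective

end Groth.Agent.S9641
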