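import Groth.Statements.S9643
import Mathlib


set_option autoImplicit false
universe u
open CAlg

namespace H14S9643

open PrimeSpectrum

theorem support_quot_prime {R : Type*} [CommRing R] (I : Ideal R) :
    Module.support R (R ⧸ I) = zeroLocus (I : Set R) := by
  rw [Module.support_eq_zeroLocus, Ideal.annihilator_quotient]

theorem support_step {R : Type*} [CommRing R] {M : Type*} [AddCommGroup M] [Module R M]
    (A B : Submodule R M) (h : A ≤ B) (I : Ideal R)
    (e : (↥B ⧸ Submodule.comap B.subtype A) ≃ₗ[R] (R ⧸ I)) :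
    Module.support R ↥B = Module.support R ↥A ∪ zeroLocus (I : Set R) := by
  have hex : Function.Exact (Submodule.inclusion h) (Submodule.comap B.subtype A).mkQ := by
    rw [LinearMap.exact_iff, Submodule.ker_mkQ, Submodule.range_inclusion]
  rw [Module.support_of_exact hex (Submodule.inclusion_injective h) (Submodule.mkQ_surjective _),
    e.support_eq, support_quot_prime]

end H14S9643

namespace Groth.Agent.S9643

/-- Let R be a Noetherian ring, M a finite R-module and 0 = M_0 ⊆ M_1 ⊆ ⋯ ⊆ M_n = M a chain of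
submodules whose successive quotients M_i/M_{i-1} are isomorphic to R/p_i for prime ideals p_i. Then
the primes minimal among p_1, …, p_n are exactly the primes minimal in the support of M. -/
theorem result {R : Type u} [CommRing R] [IsNoetherianRing R] (M : Type u) [AddCommGroup M] [Module R M] [Module.Finite R M]
    {n : ℕ} (N : Fin (n + 1) → Submodule R M) (hN : Monotone N) (h0 : N 0 = ⊥) (hlast : N (Fin.last n) = ⊤)
    (p : Fin n → PrimeSpectrum R)
    (hquot : ∀ i : Fin n, Nonempty ((↥(N i.succ) ⧸ Submodule.comap (N i.succ).subtype (N i.castSucc)) ≃ₗ[R] (R ⧸ (p i).asIdeal))) :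
    {q : PrimeSpectrum R | Minimal (fun x => x ∈ Set.range p) q} = {q : PrimeSpectrum R | Minimal (fun x => x ∈ Module.support R M) q} := by
  have hsupp : ∀ k : ℕ, ∀ hk : k < n + 1,
      Module.support R ↥(N ⟨k, hk⟩) =
        ⋃ i : Fin n, ⋃ _ : i.val < k, PrimeSpectrum.zeroLocus ((p i).asIdeal : Set R) := by
    intro k
    induction k with
    | zero =>
      intro hk
      have : N ⟨0, hk⟩ = ⊥ := h0
      rw [this]
      have : Subsingleton ↥(⊥ : Submodule R M) := inferInstance
      rw [Module.support_eq_empty]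
      simp
    | succ k ih =>
      intro hk
      have hk' : k < n := Nat.lt_of_succ_lt_succ hk
      obtain ⟨e⟩ := hquot ⟨k, hk'⟩
      have hle : N (Fin.castSucc ⟨k, hk'⟩) ≤ N (Fin.succ ⟨k, hk'⟩) :=
        hN (Fin.castSucc_lt_succ).le
      have h1 := H14S9643.support_step _ _ hle _ e
      have h2 : (Fin.succ ⟨k, hk'⟩ : Fin (n + 1)) = ⟨k + 1, hk⟩ := rfl
      have h3 : (Fin.castSucc ⟨k, hk'⟩ : Fin (n + 1)) = ⟨k, Nat.lt_of_succ_lt hk⟩ := rfl
      rw [h2, h3, ih] at h1
      rw [h1]
      ext x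
      simp only [Set.mem_union, Set.mem_iUnion, exists_prop]
      constructor
      · rintro (⟨i, hi, hx⟩ | hx)
        · exact ⟨i, Nat.lt_succ_of_lt hi, hx⟩
        · exact ⟨⟨k, hk'⟩, Nat.lt_succ_self k, hx⟩
      · rintro ⟨i, hi, hx⟩
        rcases Nat.lt_succ_iff_lt_or_eq.mp hi with hi | hi
        · exact Or.inl ⟨i, hi, hx⟩
        · right
          have : i = ⟨k, hk'⟩ := Fin.ext hi
          rw [← this]
          exact hx
  have hS : Module.support R M =
      ⋃ i : Fin n, PrimeSpectrum.zeroLocus ((p i).asIdeal : Set R) := by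
    have h1 := hsupp n (Nat.lt_succ_self n)
    have h2 : (⟨n, Nat.lt_succ_self n⟩ : Fin (n + 1)) = Fin.last n := rfl
    rw [h2, hlast] at h1
    rw [← (Submodule.topEquiv (R := R) (M := M)).support_eq, h1]
    ext x
    simp only [Set.mem_iUnion, exists_prop]
    constructor
    · rintro ⟨i, -, hx⟩; exact ⟨i, hx⟩
    · rintro ⟨i, hx⟩; exact ⟨i, i.isLt, hx⟩
  have hmem : ∀ q : PrimeSpectrum R, q ∈ Module.support R M ↔ ∃ i, p i ≤ q := by
    intro q
    rw [hS, Set.mem_iUnion]
    simp only [PrimeSpectrum.mem_zeroLocus, SetLike.coe_subset_coe]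
    rfl
  ext q
  simp only [Set.mem_ofPred_eq]
  constructor
  · rintro ⟨⟨i, rfl⟩, hmin⟩
    refine ⟨(hmem _).mpr ⟨i, le_rfl⟩, ?_⟩
    intro q' hq' hle
    obtain ⟨j, hj⟩ := (hmem q').mp hq'
    exact (hmin ⟨j, rfl⟩ (hj.trans hle)).trans hj
  · rintro ⟨hq, hmin⟩
    obtain ⟨j, hj⟩ := (hmem q).mp hq
    have hqj : q = p j := le_antisymm (hmin ((hmem _).mpr ⟨j, le_rfl⟩) hj) hj
    refine ⟨⟨j, hqj.symm⟩, ?_⟩
    rintro _ ⟨i, rfl⟩ hle
    exact hmin ((hmem _).mpr ⟨i, le_rfl⟩) hle

end Groth.Agent.S9643
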