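import Groth.Statements.S9646
import Mathlib

set_option autoImplicit false
universe u
open CAlg

namespace Groth.Agent.S9646

/-- (2) ⇒ (1): let R → S be a ring map and x ∈ S. If for every prime ideal p of R the image of x in S_p
(the localization of S at the image of R ∖ p) is integral over R_p, then x is integral over R. Here
R_p and S_p are any rings satisfying the localization universal properties. -/
theorem result {R S : Type u} [CommRing R] [CommRing S] [Algebra R S] (x : S)
    (h : ∀ (p : Ideal R) [p.IsPrime] (Rp Sp : Type u) [CommRing Rp] [CommRing Sp] [Algebra R Rp] [Algebra S Sp] [Algebra Rp Sp] [Algebra R Sp] [IsScalarTower R S Sp] [IsScalarTower R Rp Sp] [IsLocalization.AtPrime Rp p] [IsLocalization (Algebra.algebraMapSubmonoid S p.primeCompl) Sp], IsIntegral Rp (algebraMap S Sp x)) :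
    IsIntegral R x := by
  -- the ideal of `f` with `f • x` integral
  let I : Ideal R :=
    { carrier := {f | IsIntegral R (f • x)}
      add_mem' := by
        intro a b ha hb
        simp only [Set.mem_setOf_eq] at ha hb ⊢
        rw [add_smul]; exact ha.add hb
      zero_mem' := by
        simp only [Set.mem_setOf_eq, zero_smul]; exact isIntegral_zero
      smul_mem' := by
        intro c f hf
        simp only [Set.mem_setOf_eq] at hf ⊢
        rw [smul_eq_mul, mul_smul]
        exact hf.smul c }
  have hI : I = ⊤ := by
    by_contra hne
    obtain ⟨m, hm, hIm⟩ := Ideal.exists_le_maximal I hne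
    have hmp : m.IsPrime := hm.isPrime
    have hsc : IsScalarTower R (Localization.AtPrime m)
        (Localization (Algebra.algebraMapSubmonoid S m.primeCompl)) :=
      inferInstance
    have h1 := h m (Localization.AtPrime m)
      (Localization (Algebra.algebraMapSubmonoid S m.primeCompl))
    obtain ⟨⟨a, ha⟩, h2⟩ := IsIntegral.exists_multiple_integral_of_isLocalization m.primeCompl _ h1
    rw [Submonoid.smul_def] at h2
    have h3 : IsIntegral R (algebraMap S
        (Localization (Algebra.algebraMapSubmonoid S m.primeCompl)) (a • x)) := by
      rw [Algebra.smul_def, map_mul, ← IsScalarTower.algebraMap_apply, ← Algebra.smul_def]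
      exact h2
    obtain ⟨b, hb, h4⟩ := IsLocalization.exists_isIntegral_smul_of_isIntegral_map
      (Sₘ := Localization (Algebra.algebraMapSubmonoid S m.primeCompl)) m.primeCompl h3
    have h5 : b * a ∈ I := by
      change IsIntegral R ((b * a) • x)
      rw [mul_smul]; exact h4
    have h6 : b * a ∈ m := hIm h5
    rcases hmp.mem_or_mem h6 with h | h
    · exact hb h
    · exact ha h
  have h1 : (1 : R) ∈ I := hI ▸ Submodule.mem_top
  have : IsIntegral R ((1 : R) • x) := h1
  simpa using this

end Groth.Agent.S9646
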