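import Groth.Statements.S9651
import Mathlib
import Groth.Agent.S0389

set_option autoImplicit false
universe u
open CAlg

namespace Groth.Agent.S9651

section Aux
open TensorProduct PrimeSpectrum

/-- abstract core: the topological argument -/
theorem core {R S R₁ S₁ : Type u} [CommRing R] [CommRing S] [CommRing R₁] [CommRing S₁]
    [Algebra R S] [Algebra R R₁] [Algebra R₁ S₁] [Algebra S S₁] [Algebra R S₁]
    [IsScalarTower R S S₁] [IsScalarTower R R₁ S₁] [IsDomain R₁]
    [Algebra.FinitePresentation R₁ S₁] (ξ : PrimeSpectrum R) (g' : R) (hg' : g' ∉ ξ.asIdeal)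
    (H1 : ∀ r, algebraMap R R₁ r = 0 ↔ r ∈ ξ.asIdeal)
    (H2 : ∀ x : PrimeSpectrum R, ξ.asIdeal ≤ x.asIdeal → g' ∉ x.asIdeal →
      ∃ x₁ : PrimeSpectrum R₁, comap (algebraMap R R₁) x₁ = x)
    (H3 : ∀ y : PrimeSpectrum S, comap (algebraMap R S) y = ξ →
      ∃ y₁ : PrimeSpectrum S₁, comap (algebraMap S S₁) y₁ = y)
    (H4 : ∀ a : R₁, ∃ (h' : R) (b : R₁), IsUnit b ∧ algebraMap R R₁ h' = a * b)
    (E : Set (PrimeSpectrum S)) (hE : Topology.IsConstructible E)
    (hξ : ξ ∈ comap (algebraMap R S) '' E) :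
    ∃ U : Set (PrimeSpectrum R), IsOpen U ∧
      closure ({ξ} : Set (PrimeSpectrum R)) ⊆ closure (U ∩ closure {ξ}) ∧
      U ∩ closure {ξ} ⊆ comap (algebraMap R S) '' E := by
  obtain ⟨y, hyE, hyξ⟩ := hξ
  -- the constructible set upstairs
  have hE₁ : Topology.IsConstructible (comap (algebraMap S S₁) ⁻¹' E) := by
    obtain ⟨C, rfl⟩ := exists_constructibleSetData_iff.2 hE
    rw [← ConstructibleSetData.toSet_map]
    exact (C.map _).isConstructible_toSet
  have hT : Topology.IsConstructible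
      (comap (algebraMap R₁ S₁) '' (comap (algebraMap S S₁) ⁻¹' E)) :=
    isConstructible_comap_image (RingHom.finitePresentation_algebraMap.mpr inferInstance) hE₁
  obtain ⟨D, hD⟩ := exists_constructibleSetData_iff.2 hT
  -- compatibility of the two composites
  have hcomm : ∀ z : PrimeSpectrum S₁, comap (algebraMap R S) (comap (algebraMap S S₁) z) =
      comap (algebraMap R R₁) (comap (algebraMap R₁ S₁) z) := by
    intro z
    rw [← comap_comp_apply, ← comap_comp_apply, ← IsScalarTower.algebraMap_eq,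
      ← IsScalarTower.algebraMap_eq]
  -- the lifted point and the generic point
  obtain ⟨y₁, hy₁⟩ := H3 y hyξ
  set x₀ : PrimeSpectrum R₁ := comap (algebraMap R₁ S₁) y₁ with hx₀
  have hx₀ξ : comap (algebraMap R R₁) x₀ = ξ := by
    rw [hx₀, ← hcomm, hy₁, hyξ]
  have hx₀bot : ∀ a ∈ x₀.asIdeal, a = 0 := by
    intro a ha
    obtain ⟨h', b, hb, hab⟩ := H4 a
    have h1 : algebraMap R R₁ h' ∈ x₀.asIdeal := by
      rw [hab]; exact Ideal.mul_mem_right _ _ ha
    have h2 : h' ∈ ξ.asIdeal := by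
      rw [← hx₀ξ]; exact h1
    have h3 : a * b = 0 := by rw [← hab]; exact (H1 h').2 h2
    exact (hb.mul_left_eq_zero).1 h3
  have hx₀T : x₀ ∈ D.toSet := by
    rw [hD]
    exact ⟨y₁, by simpa [hy₁] using hyE, rfl⟩
  simp only [ConstructibleSetData.toSet, Set.mem_iUnion] at hx₀T
  obtain ⟨C, hCD, hx₀C⟩ := hx₀T
  rw [BasicConstructibleSetData.toSet] at hx₀C
  obtain ⟨hx₀g, hx₀f⟩ := hx₀C
  have hgzero : ∀ i, C.g i = 0 := by
    intro i
    apply hx₀bot
    exact hx₀g (Set.mem_range_self i)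
  have hfne : C.f ∉ x₀.asIdeal := by
    intro h
    apply hx₀f
    rw [mem_zeroLocus]
    intro a ha
    rw [Set.mem_singleton_iff] at ha
    rw [ha]; exact h
  obtain ⟨h', b, hb, hab⟩ := H4 C.f
  have hh' : h' ∉ ξ.asIdeal := by
    intro h
    have h1 : algebraMap R R₁ h' = 0 := (H1 h').2 h
    rw [hab] at h1
    have h2 : C.f = 0 := (hb.mul_left_eq_zero).1 h1
    exact hfne (h2 ▸ x₀.asIdeal.zero_mem)
  refine ⟨basicOpen (g' * h'), (basicOpen (g' * h')).isOpen, ?_, ?_⟩
  · apply closure_mono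
    rw [Set.singleton_subset_iff]
    refine ⟨?_, subset_closure rfl⟩
    rw [SetLike.mem_coe, mem_basicOpen]
    intro h
    rcases ξ.isPrime.mem_or_mem h with h | h
    · exact hg' h
    · exact hh' h
  · rintro x ⟨hxU, hxcl⟩
    rw [PrimeSpectrum.closure_singleton, mem_zeroLocus] at hxcl
    rw [SetLike.mem_coe, mem_basicOpen] at hxU
    have hg'x : g' ∉ x.asIdeal := fun h => hxU (Ideal.mul_mem_right _ _ h)
    have hh'x : h' ∉ x.asIdeal := fun h => hxU (Ideal.mul_mem_left _ _ h)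
    obtain ⟨x₁, hx₁⟩ := H2 x hxcl hg'x
    have hx₁T : x₁ ∈ D.toSet := by
      simp only [ConstructibleSetData.toSet, Set.mem_iUnion]
      refine ⟨C, hCD, ?_⟩
      rw [BasicConstructibleSetData.toSet]
      refine ⟨?_, ?_⟩
      · rw [mem_zeroLocus]
        rintro _ ⟨i, rfl⟩
        rw [hgzero i]; exact x₁.asIdeal.zero_mem
      · intro hmem
        rw [mem_zeroLocus, Set.singleton_subset_iff] at hmem
        apply hh'x
        rw [← hx₁]
        show algebraMap R R₁ h' ∈ x₁.asIdeal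
        rw [hab]
        exact Ideal.mul_mem_right _ _ hmem
    rw [hD] at hx₁T
    obtain ⟨z₁, hz₁E, hz₁⟩ := hx₁T
    refine ⟨comap (algebraMap S S₁) z₁, hz₁E, ?_⟩
    rw [hcomm, hz₁, hx₁]

variable {R S : Type u} [CommRing R] [CommRing S] [Algebra R S]

/-- lifting a point of the fibre over `p` to `(R/p)_g ⊗ (R/p ⊗ S)` -/
theorem exists_lift (p : Ideal R) [p.IsPrime] (g' : R) (hg' : g' ∉ p) (y : PrimeSpectrum S)
    (hy : y.asIdeal.comap (algebraMap R S) = p) :
    ∃ y₁ : PrimeSpectrum (Localization.Away (Ideal.Quotient.mk p g') ⊗[R ⧸ p] ((R ⧸ p) ⊗[R] S)),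
      ∀ s : S, (1 : Localization.Away (Ideal.Quotient.mk p g')) ⊗ₜ[R ⧸ p]
        ((1 : R ⧸ p) ⊗ₜ[R] s) ∈ y₁.asIdeal ↔ s ∈ y.asIdeal := by
  set κ := y.asIdeal.ResidueField with hκ
  have hker : ∀ a : R, algebraMap R κ a = 0 ↔ a ∈ p := by
    intro a
    rw [IsScalarTower.algebraMap_apply R S κ, Ideal.algebraMap_residueField_eq_zero, ← hy,
      Ideal.mem_comap]
  let θ₀ : R ⧸ p →+* κ := Ideal.Quotient.lift p (algebraMap R κ) (fun a ha => (hker a).2 ha)
  letI : Algebra (R ⧸ p) κ := θ₀.toAlgebra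
  haveI : IsScalarTower R (R ⧸ p) κ := IsScalarTower.of_algebraMap_eq (fun r => by
    show algebraMap R κ r = θ₀ (Ideal.Quotient.mk p r)
    rw [Ideal.Quotient.lift_mk])
  have hunit : IsUnit (algebraMap (R ⧸ p) κ (Ideal.Quotient.mk p g')) := by
    rw [isUnit_iff_ne_zero]
    show θ₀ (Ideal.Quotient.mk p g') ≠ 0
    rw [Ideal.Quotient.lift_mk]
    exact fun h => hg' ((hker g').1 h)
  let θ₁ : Localization.Away (Ideal.Quotient.mk p g') →+* κ :=
    IsLocalization.Away.lift (Ideal.Quotient.mk p g') hunit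
  letI : Algebra (Localization.Away (Ideal.Quotient.mk p g')) κ := θ₁.toAlgebra
  haveI : IsScalarTower (R ⧸ p) (Localization.Away (Ideal.Quotient.mk p g')) κ :=
    IsScalarTower.of_algebraMap_eq (fun r => by
      show algebraMap (R ⧸ p) κ r = θ₁ (algebraMap _ _ r)
      rw [IsLocalization.Away.lift_eq])
  let ι : (R ⧸ p) ⊗[R] S →ₐ[R ⧸ p] κ :=
    Algebra.TensorProduct.lift (Algebra.ofId (R ⧸ p) κ) (IsScalarTower.toAlgHom R S κ)
      (fun _ _ => Commute.all _ _)
  let Θ : Localization.Away (Ideal.Quotient.mk p g') ⊗[R ⧸ p] ((R ⧸ p) ⊗[R] S)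
      →ₐ[Localization.Away (Ideal.Quotient.mk p g')] κ :=
    Algebra.TensorProduct.lift (Algebra.ofId _ κ) ι (fun _ _ => Commute.all _ _)
  refine ⟨⟨RingHom.ker Θ.toRingHom, RingHom.ker_isPrime _⟩, fun s => ?_⟩
  show Θ _ = 0 ↔ _
  rw [Algebra.TensorProduct.lift_tmul, Algebra.TensorProduct.lift_tmul, map_one, map_one, one_mul,
    one_mul, IsScalarTower.coe_toAlgHom', Ideal.algebraMap_residueField_eq_zero]

variable (S) in
/-- `(R/p)_g ⊗ (R/p ⊗ S)`, as an opaque type with fixed instances -/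
def S1 (p : Ideal R) (g : R ⧸ p) : Type u := Localization.Away g ⊗[R ⧸ p] ((R ⧸ p) ⊗[R] S)

noncomputable instance (p : Ideal R) (g : R ⧸ p) : CommRing (S1 S p g) :=
  inferInstanceAs (CommRing (Localization.Away g ⊗[R ⧸ p] ((R ⧸ p) ⊗[R] S)))

noncomputable instance (p : Ideal R) (g : R ⧸ p) : Algebra (Localization.Away g) (S1 S p g) :=
  inferInstanceAs (Algebra (Localization.Away g) (Localization.Away g ⊗[R ⧸ p] ((R ⧸ p) ⊗[R] S)))

noncomputable instance (p : Ideal R) (g : R ⧸ p) : Algebra R (S1 S p g) :=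
  inferInstanceAs (Algebra R (Localization.Away g ⊗[R ⧸ p] ((R ⧸ p) ⊗[R] S)))

instance (p : Ideal R) (g : R ⧸ p) : IsScalarTower R (Localization.Away g) (S1 S p g) :=
  inferInstanceAs (IsScalarTower R (Localization.Away g)
    (Localization.Away g ⊗[R ⧸ p] ((R ⧸ p) ⊗[R] S)))

/-- the canonical element `1 ⊗ (1 ⊗ s)` -/
noncomputable def phi (p : Ideal R) (g : R ⧸ p) : S →+* S1 S p g :=
  ((Algebra.TensorProduct.includeRight (R := R ⧸ p) (A := Localization.Away g)
      (B := (R ⧸ p) ⊗[R] S)).toRingHom.comp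
    (Algebra.TensorProduct.includeRight (R := R) (A := R ⧸ p) (B := S)).toRingHom :
    S →+* Localization.Away g ⊗[R ⧸ p] ((R ⧸ p) ⊗[R] S))

noncomputable instance (p : Ideal R) (g : R ⧸ p) : Algebra S (S1 S p g) := (phi p g).toAlgebra

theorem algebraMap_S1 (p : Ideal R) (g : R ⧸ p) (s : S) :
    algebraMap S (S1 S p g) s =
      ((1 : Localization.Away g) ⊗ₜ[R ⧸ p] ((1 : R ⧸ p) ⊗ₜ[R] s) :
        Localization.Away g ⊗[R ⧸ p] ((R ⧸ p) ⊗[R] S)) := rfl

instance (p : Ideal R) (g : R ⧸ p) : IsScalarTower R S (S1 S p g) :=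
  IsScalarTower.of_algebraMap_eq (fun r => by
    rw [algebraMap_S1, Algebra.algebraMap_eq_smul_one (A := S) r, TensorProduct.tmul_smul,
      TensorProduct.tmul_smul, Algebra.algebraMap_eq_smul_one]
    rfl)

theorem main [Algebra.FiniteType R S] (E : Set (PrimeSpectrum S))
    (hE : Topology.IsConstructible E) (ξ : PrimeSpectrum R)
    (hξ : ξ ∈ comap (algebraMap R S) '' E) :
    ∃ U : Set (PrimeSpectrum R), IsOpen U ∧
      closure ({ξ} : Set (PrimeSpectrum R)) ⊆ closure (U ∩ closure {ξ}) ∧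
      U ∩ closure {ξ} ⊆ comap (algebraMap R S) '' E := by
  set p : Ideal R := ξ.asIdeal with hp
  obtain ⟨g, hg0, -, -, hfp, -⟩ := Groth.Agent.S0389.result (R := R ⧸ p)
    (S := (R ⧸ p) ⊗[R] S) (M := (R ⧸ p) ⊗[R] S)
  obtain ⟨g', rfl⟩ := Ideal.Quotient.mk_surjective g
  have hg' : g' ∉ p := fun h => hg0 (Ideal.Quotient.eq_zero_iff_mem.2 h)
  have hle : Submonoid.powers (Ideal.Quotient.mk p g') ≤ nonZeroDivisors (R ⧸ p) :=
    Submonoid.powers_le.2 (mem_nonZeroDivisors_of_ne_zero hg0)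
  haveI : IsDomain (Localization.Away (Ideal.Quotient.mk p g')) :=
    IsLocalization.isDomain_localization hle
  have hinj : Function.Injective
      (algebraMap (R ⧸ p) (Localization.Away (Ideal.Quotient.mk p g'))) :=
    IsLocalization.injective _ hle
  haveI : Algebra.FinitePresentation (Localization.Away (Ideal.Quotient.mk p g'))
      (S1 S p (Ideal.Quotient.mk p g')) := hfp
  have hR1 : ∀ r : R, algebraMap R (Localization.Away (Ideal.Quotient.mk p g')) r =
      algebraMap (R ⧸ p) (Localization.Away (Ideal.Quotient.mk p g')) (Ideal.Quotient.mk p r) :=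
    fun r => IsScalarTower.algebraMap_apply R (R ⧸ p) _ r
  refine core (R₁ := Localization.Away (Ideal.Quotient.mk p g'))
    (S₁ := S1 S p (Ideal.Quotient.mk p g')) ξ g' hg' ?_ ?_ ?_ ?_ E hE hξ
  · -- H1
    intro r
    rw [hR1, ← map_zero (algebraMap (R ⧸ p) (Localization.Away (Ideal.Quotient.mk p g'))),
      hinj.eq_iff, Ideal.Quotient.eq_zero_iff_mem]
  · -- H2
    intro x hpx hgx
    have h1 : x ∈ Set.range (comap (Ideal.Quotient.mk p)) := by
      rw [range_comap_of_surjective _ _ Ideal.Quotient.mk_surjective, Ideal.mk_ker, mem_zeroLocus]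
      exact hpx
    obtain ⟨xbar, hxbar⟩ := h1
    have h2 : xbar ∈ Set.range (comap (algebraMap (R ⧸ p)
        (Localization.Away (Ideal.Quotient.mk p g')))) := by
      rw [localization_away_comap_range _ (Ideal.Quotient.mk p g'), SetLike.mem_coe, mem_basicOpen]
      intro h
      apply hgx
      rw [← hxbar]
      exact h
    obtain ⟨x₁, hx₁⟩ := h2
    refine ⟨x₁, ?_⟩
    rw [← hxbar, ← hx₁, ← comap_comp_apply]
    congr 1
  · -- H3
    intro y hy
    have hy' : y.asIdeal.comap (algebraMap R S) = p := by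
      rw [hp, ← hy]; rfl
    obtain ⟨y₁, hy₁⟩ := exists_lift p g' hg' y hy'
    refine ⟨y₁, ?_⟩
    ext s
    exact hy₁ s
  · -- H4
    intro a
    obtain ⟨⟨hbar, t⟩, ht⟩ := IsLocalization.surj (Submonoid.powers (Ideal.Quotient.mk p g')) a
    obtain ⟨h', rfl⟩ := Ideal.Quotient.mk_surjective hbar
    exact ⟨h', algebraMap _ _ (t : R ⧸ p), IsLocalization.map_units _ t, by rw [hR1]; exact ht.symm⟩
end Aux

/-- Let R → S be a ring map of finite type, f : Spec(S) → Spec(R) the induced map and E ⊆ Spec(S) a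
constructible subset. If ξ ∈ f(E) then f(E) ∩ cl{ξ} contains an open dense subset of the closure
cl{ξ}: some open U of Spec(R) has U ∩ cl{ξ} dense in cl{ξ} and contained in f(E). -/
theorem result {R S : Type u} [CommRing R] [CommRing S] [Algebra R S] [Algebra.FiniteType R S]
    (E : Set (PrimeSpectrum S)) (hE : Topology.IsConstructible E) (ξ : PrimeSpectrum R) (hξ : ξ ∈ PrimeSpectrum.comap (algebraMap R S) '' E) :
    ∃ U : Set (PrimeSpectrum R), IsOpen U ∧ closure ({ξ} : Set (PrimeSpectrum R)) ⊆ closure (U ∩ closure {ξ}) ∧ U ∩ closure {ξ} ⊆ PrimeSpectrum.comap (algebraMap R S) '' E := by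
  exact main E hE ξ hξ

end Groth.Agent.S9651
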