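import Groth.Statements.S9652
import Mathlib

set_option autoImplicit false
universe u
open CAlg

namespace Groth.Agent.S9652aux
set_option linter.style.haveILetI false
open PrimeSpectrum

/-- Closed points map to closed points for finite type maps out of a Jacobson ring. -/
lemma isClosed_singleton_comap {R S : Type u} [CommRing R] [CommRing S] [Algebra R S]
    [IsJacobsonRing R] [Algebra.FiniteType R S] (y : PrimeSpectrum S) (hy : IsClosed ({y} : Set _)) :
    IsClosed ({comap (algebraMap R S) y} : Set (PrimeSpectrum R)) := by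
  rw [isClosed_singleton_iff_isMaximal] at hy ⊢
  let m := y.asIdeal
  have hm : m.IsMaximal := hy
  letI : Field (S ⧸ m) := Ideal.Quotient.field m
  have : Algebra.FiniteType R (S ⧸ m) :=
    Algebra.FiniteType.trans (S := S) inferInstance
      (Algebra.FiniteType.of_surjective (Algebra.ofId S (S ⧸ m)) Ideal.Quotient.mk_surjective)
  have hfin : Module.Finite R (S ⧸ m) := finite_of_finite_type_of_isJacobsonRing R (S ⧸ m)
  have hint : (algebraMap R (S ⧸ m)).IsIntegral := algebraMap_isIntegral_iff.mpr inferInstance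
  have hbot : (⊥ : Ideal (S ⧸ m)).IsMaximal := Ideal.bot_isMaximal
  have := Ideal.isMaximal_comap_of_isIntegral_of_isMaximal' (algebraMap R (S ⧸ m)) hint ⊥
  convert this using 1
  ext r
  simp only [comap_asIdeal, Ideal.mem_comap, Ideal.mem_bot]
  rw [IsScalarTower.algebraMap_apply R S (S ⧸ m), Ideal.Quotient.algebraMap_eq,
    Ideal.Quotient.eq_zero_iff_mem]

/-- In the spectrum of a Jacobson ring, a constructible set meets the closure of each of its
points in a closed point. -/
lemma exists_closedPoint {S : Type u} [CommRing S] [IsJacobsonRing S]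
    (E : Set (PrimeSpectrum S)) (hE : Topology.IsConstructible E) (y : PrimeSpectrum S)
    (hy : y ∈ E) : ∃ y' ∈ closure ({y} : Set (PrimeSpectrum S)) ∩ E, IsClosed ({y'} : Set _) := by
  obtain ⟨D, rfl⟩ := exists_constructibleSetData_iff.mpr hE
  simp only [ConstructibleSetData.toSet, Set.mem_iUnion, exists_prop] at hy
  obtain ⟨C, hC, hyC⟩ := hy
  have hL : IsLocallyClosed (closure ({y} : Set (PrimeSpectrum S)) ∩ (zeroLocus {C.f})ᶜ) :=
    isClosed_closure.isLocallyClosed.inter (isClosed_zeroLocus _).isOpen_compl.isLocallyClosed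
  have hne : (closure ({y} : Set (PrimeSpectrum S)) ∩ (zeroLocus {C.f})ᶜ).Nonempty :=
    ⟨y, subset_closure rfl, hyC.2⟩
  obtain ⟨y', ⟨hy'1, hy'2⟩, hy'3⟩ := nonempty_inter_closedPoints hne hL
  refine ⟨y', ⟨hy'1, ?_⟩, hy'3⟩
  simp only [ConstructibleSetData.toSet, Set.mem_iUnion, exists_prop]
  refine ⟨C, hC, ?_, hy'2⟩
  have : closure ({y} : Set (PrimeSpectrum S)) ⊆ zeroLocus (Set.range C.g) :=
    (isClosed_zeroLocus _).closure_subset_iff.mpr (Set.singleton_subset_iff.mpr hyC.1)
  exact this hy'1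


section main
variable {R S : Type u} [CommRing R] [CommRing S] [Algebra R S] [IsJacobsonRing R]
  [IsJacobsonRing S] [Algebra.FiniteType R S]
  (E : Set (PrimeSpectrum S)) (hE : Topology.IsConstructible E)

include hE

lemma F1 (y : PrimeSpectrum S) (hy : y ∈ E) :
    closure {y} ∩ E = {y} ↔ IsClosed ({y} : Set (PrimeSpectrum S)) := by
  constructor
  · intro h
    obtain ⟨y', hy', hcl⟩ := exists_closedPoint E hE y hy
    rw [h] at hy'
    rwa [Set.mem_singleton_iff.mp hy'] at hcl
  · intro h
    rw [h.closure_eq]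
    exact Set.inter_eq_left.mpr (Set.singleton_subset_iff.mpr hy)

lemma mem_closure_comap (y y' : PrimeSpectrum S) (h : y' ∈ closure ({y} : Set (PrimeSpectrum S))) :
    comap (algebraMap R S) y' ∈ closure ({comap (algebraMap R S) y} : Set (PrimeSpectrum R)) := by
  have hc : Continuous (comap (algebraMap R S)) := continuous_comap _
  have := image_closure_subset_closure_image hc (s := {y}) ⟨y', h, rfl⟩
  simpa using this

lemma F2 (x : PrimeSpectrum R) (hx : x ∈ comap (algebraMap R S) '' E) :
    closure {x} ∩ comap (algebraMap R S) '' E = {x} ↔ IsClosed ({x} : Set (PrimeSpectrum R)) := by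
  constructor
  · intro h
    obtain ⟨y, hy, rfl⟩ := hx
    obtain ⟨y', hy', hcl⟩ := exists_closedPoint E hE y hy
    have h1 : comap (algebraMap R S) y' ∈
        closure {comap (algebraMap R S) y} ∩ comap (algebraMap R S) '' E :=
      ⟨mem_closure_comap E hE y y' hy'.1, ⟨y', hy'.2, rfl⟩⟩
    rw [h] at h1
    rw [← Set.mem_singleton_iff.mp h1]
    exact isClosed_singleton_comap y' hcl
  · intro h
    rw [h.closure_eq]
    exact Set.inter_eq_left.mpr (Set.singleton_subset_iff.mpr hx)

lemma F3 : comap (algebraMap R S) '' {y | y ∈ E ∧ closure {y} ∩ E = {y}} =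
    {x | IsClosed ({x} : Set (PrimeSpectrum R))} ∩ comap (algebraMap R S) '' E := by
  ext x
  constructor
  · rintro ⟨y, ⟨hy, hy'⟩, rfl⟩
    exact ⟨isClosed_singleton_comap y ((F1 E hE y hy).mp hy'), ⟨y, hy, rfl⟩⟩
  · rintro ⟨hx, ⟨y, hy, rfl⟩⟩
    obtain ⟨y', hy', hcl⟩ := exists_closedPoint E hE y hy
    have h1 := mem_closure_comap (R := R) E hE y y' hy'.1
    have hx' : IsClosed ({comap (algebraMap R S) y} : Set (PrimeSpectrum R)) := hx
    rw [hx'.closure_eq] at h1
    exact ⟨y', ⟨hy'.2, (F1 E hE y' hy'.2).mpr hcl⟩, Set.mem_singleton_iff.mp h1⟩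

lemma main :
    {x | x ∈ PrimeSpectrum.comap (algebraMap R S) '' E ∧ closure {x} ∩ PrimeSpectrum.comap (algebraMap R S) '' E = {x}} =
        PrimeSpectrum.comap (algebraMap R S) '' {y | y ∈ E ∧ closure {y} ∩ E = {y}} ∧
      PrimeSpectrum.comap (algebraMap R S) '' {y | y ∈ E ∧ closure {y} ∩ E = {y}} =
        {x | IsClosed ({x} : Set (PrimeSpectrum R))} ∩ PrimeSpectrum.comap (algebraMap R S) '' E := by
  refine ⟨?_, F3 E hE⟩
  rw [F3 E hE]
  ext x
  constructor
  · rintro ⟨hx, hx'⟩
    exact ⟨(F2 E hE x hx).mp hx', hx⟩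
  · rintro ⟨hx, hx'⟩
    exact ⟨hx', (F2 E hE x hx').mpr hx⟩

end main

end Groth.Agent.S9652aux

namespace Groth.Agent.S9652

/-- Let R and S be Jacobson rings, R → S a ring map of finite type with induced map f : Spec(S) →
Spec(R), and E ⊆ Spec(S) a constructible subset. Writing T₀ for the set of points of a subspace T
which are closed in T, one has f(E)₀ = f(E₀) = (Spec R)₀ ∩ f(E). -/
theorem result {R S : Type u} [CommRing R] [CommRing S] [Algebra R S] [IsJacobsonRing R] [IsJacobsonRing S] [Algebra.FiniteType R S]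
    (E : Set (PrimeSpectrum S)) (hE : Topology.IsConstructible E) :
    {x | x ∈ PrimeSpectrum.comap (algebraMap R S) '' E ∧ closure {x} ∩ PrimeSpectrum.comap (algebraMap R S) '' E = {x}} =
        PrimeSpectrum.comap (algebraMap R S) '' {y | y ∈ E ∧ closure {y} ∩ E = {y}} ∧
      PrimeSpectrum.comap (algebraMap R S) '' {y | y ∈ E ∧ closure {y} ∩ E = {y}} =
        {x | IsClosed ({x} : Set (PrimeSpectrum R))} ∩ PrimeSpectrum.comap (algebraMap R S) '' E := by
  exact S9652aux.main E hE

end Groth.Agent.S9652
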