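import Groth.Statements.S9653
import Mathlib
import Groth.Agent.S9651
import Groth.Agent.S9652

set_option autoImplicit false
universe u
open CAlg

namespace Groth.Agent.S9653

section Aux
open TensorProduct PrimeSpectrum Groth.Agent.S9651

/-- abstract core for the converse: density of the image forces the generic point into it -/
theorem core2 {R S R₁ S₁ : Type u} [CommRing R] [CommRing S] [CommRing R₁] [CommRing S₁]
    [Algebra R S] [Algebra R R₁] [Algebra R₁ S₁] [Algebra S S₁] [Algebra R S₁]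
    [IsScalarTower R S S₁] [IsScalarTower R R₁ S₁] [IsDomain R₁]
    [Algebra.FinitePresentation R₁ S₁] (ξ : PrimeSpectrum R) (g' : R) (hg' : g' ∉ ξ.asIdeal)
    (H1 : ∀ r, algebraMap R R₁ r = 0 ↔ r ∈ ξ.asIdeal)
    (H2 : ∀ x : PrimeSpectrum R, ξ.asIdeal ≤ x.asIdeal → g' ∉ x.asIdeal →
      ∃ x₁ : PrimeSpectrum R₁, comap (algebraMap R R₁) x₁ = x)
    (H3 : ∀ y : PrimeSpectrum S, ξ.asIdeal ≤ (comap (algebraMap R S) y).asIdeal →
      g' ∉ (comap (algebraMap R S) y).asIdeal →
      ∃ y₁ : PrimeSpectrum S₁, comap (algebraMap S S₁) y₁ = y)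
    (H4 : ∀ a : R₁, ∃ (h' : R) (b : R₁), IsUnit b ∧ algebraMap R R₁ h' = a * b)
    (E : Set (PrimeSpectrum S)) (hE : Topology.IsConstructible E)
    (hdense : closure ({ξ} : Set (PrimeSpectrum R)) ⊆
      closure (closure {ξ} ∩ comap (algebraMap R S) '' E)) :
    ξ ∈ comap (algebraMap R S) '' E := by
  classical
  have hE₁ : Topology.IsConstructible (comap (algebraMap S S₁) ⁻¹' E) := by
    obtain ⟨C, rfl⟩ := exists_constructibleSetData_iff.2 hE
    rw [← ConstructibleSetData.toSet_map]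
    exact (C.map _).isConstructible_toSet
  have hT : Topology.IsConstructible
      (comap (algebraMap R₁ S₁) '' (comap (algebraMap S S₁) ⁻¹' E)) :=
    isConstructible_comap_image (RingHom.finitePresentation_algebraMap.mpr inferInstance) hE₁
  obtain ⟨D, hD⟩ := exists_constructibleSetData_iff.2 hT
  have hcomm : ∀ z : PrimeSpectrum S₁, comap (algebraMap R S) (comap (algebraMap S S₁) z) =
      comap (algebraMap R R₁) (comap (algebraMap R₁ S₁) z) := by
    intro z
    rw [← comap_comp_apply, ← comap_comp_apply, ← IsScalarTower.algebraMap_eq,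
      ← IsScalarTower.algebraMap_eq]
  obtain ⟨x₀, hx₀ξ⟩ := H2 ξ le_rfl hg'
  have hx₀bot : ∀ a ∈ x₀.asIdeal, a = 0 := by
    intro a ha
    obtain ⟨h', b, hb, hab⟩ := H4 a
    have h1 : algebraMap R R₁ h' ∈ x₀.asIdeal := by
      rw [hab]; exact Ideal.mul_mem_right _ _ ha
    have h2 : h' ∈ ξ.asIdeal := by
      rw [← hx₀ξ]; exact h1
    have h3 : a * b = 0 := by rw [← hab]; exact (H1 h').2 h2
    exact (hb.mul_left_eq_zero).1 h3
  by_cases hx₀T : x₀ ∈ D.toSet
  · rw [hD] at hx₀T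
    obtain ⟨z₁, hz₁E, hz₁⟩ := hx₀T
    exact ⟨comap (algebraMap S S₁) z₁, hz₁E, by rw [hcomm, hz₁, hx₀ξ]⟩
  exfalso
  -- an element vanishing on the image
  let fac : BasicConstructibleSetData R₁ → R₁ := fun C =>
    if h : ∃ i, C.g i ≠ 0 then C.g h.choose else 1
  have hfac : ∀ C, fac C ≠ 0 := by
    intro C
    simp only [fac]
    split_ifs with h
    · exact h.choose_spec
    · exact one_ne_zero
  set a : R₁ := ∏ C ∈ D, fac C with ha
  have ha0 : a ≠ 0 := Finset.prod_ne_zero_iff.2 (fun C _ => hfac C)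
  have hamem : ∀ x₁ ∈ D.toSet, a ∈ x₁.asIdeal := by
    intro x₁ hx₁
    simp only [ConstructibleSetData.toSet, Set.mem_iUnion] at hx₁
    obtain ⟨C, hCD, hx₁C⟩ := hx₁
    rw [BasicConstructibleSetData.toSet] at hx₁C
    obtain ⟨hx₁g, hx₁f⟩ := hx₁C
    have hx₀C : x₀ ∉ C.toSet := by
      intro h
      apply hx₀T
      simp only [ConstructibleSetData.toSet, Set.mem_iUnion]
      exact ⟨C, hCD, h⟩
    have hex : ∃ i, C.g i ≠ 0 := by
      by_contra hne
      push_neg at hne
      apply hx₀C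
      rw [BasicConstructibleSetData.toSet]
      refine ⟨?_, ?_⟩
      · rw [mem_zeroLocus]
        rintro _ ⟨i, rfl⟩
        rw [hne i]; exact x₀.asIdeal.zero_mem
      · intro hmem
        rw [mem_zeroLocus, Set.singleton_subset_iff] at hmem
        have hf0 : C.f = 0 := hx₀bot _ hmem
        apply hx₁f
        rw [mem_zeroLocus, Set.singleton_subset_iff, hf0]
        exact x₁.asIdeal.zero_mem
    have h1 : fac C ∈ x₁.asIdeal := by
      simp only [fac]
      rw [dif_pos hex]
      exact hx₁g (Set.mem_range_self _)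
    exact Ideal.mem_of_dvd _ (Finset.dvd_prod_of_mem fac hCD) h1
  obtain ⟨h', b, hb, hab⟩ := H4 a
  have hh' : h' ∉ ξ.asIdeal := by
    intro h
    have h1 : algebraMap R R₁ h' = 0 := (H1 h').2 h
    rw [hab] at h1
    exact ha0 ((hb.mul_left_eq_zero).1 h1)
  have hξW : ξ ∈ (basicOpen (g' * h') : Set (PrimeSpectrum R)) := by
    rw [SetLike.mem_coe, mem_basicOpen]
    intro h
    rcases ξ.isPrime.mem_or_mem h with h | h
    · exact hg' h
    · exact hh' h
  have hξcl : ξ ∈ closure (closure {ξ} ∩ comap (algebraMap R S) '' E) :=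
    hdense (subset_closure rfl)
  obtain ⟨x, hxW, hxcl, z, hzE, hzx⟩ :=
    mem_closure_iff.1 hξcl _ (basicOpen (g' * h')).isOpen hξW
  rw [PrimeSpectrum.closure_singleton, mem_zeroLocus] at hxcl
  rw [SetLike.mem_coe, mem_basicOpen] at hxW
  have hg'x : g' ∉ x.asIdeal := fun h => hxW (Ideal.mul_mem_right _ _ h)
  have hh'x : h' ∉ x.asIdeal := fun h => hxW (Ideal.mul_mem_left _ _ h)
  obtain ⟨z₁, hz₁⟩ := H3 z (by rw [hzx]; exact hxcl) (by rw [hzx]; exact hg'x)
  have hx₁T : comap (algebraMap R₁ S₁) z₁ ∈ D.toSet := by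
    rw [hD]
    exact ⟨z₁, by simpa [hz₁] using hzE, rfl⟩
  have h1 := hamem _ hx₁T
  apply hh'x
  rw [← hzx, ← hz₁, hcomm]
  show algebraMap R R₁ h' ∈ (comap (algebraMap R₁ S₁) z₁).asIdeal
  rw [hab]
  exact Ideal.mul_mem_right _ _ h1

variable {R S : Type u} [CommRing R] [CommRing S] [Algebra R S]

theorem exists_lift' (p : Ideal R) [p.IsPrime] (g' : R) (y : PrimeSpectrum S)
    (hpy : p ≤ y.asIdeal.comap (algebraMap R S)) (hg' : g' ∉ y.asIdeal.comap (algebraMap R S)) :
    ∃ y₁ : PrimeSpectrum (Localization.Away (Ideal.Quotient.mk p g') ⊗[R ⧸ p] ((R ⧸ p) ⊗[R] S)),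
      ∀ s : S, (1 : Localization.Away (Ideal.Quotient.mk p g')) ⊗ₜ[R ⧸ p]
        ((1 : R ⧸ p) ⊗ₜ[R] s) ∈ y₁.asIdeal ↔ s ∈ y.asIdeal := by
  set κ := y.asIdeal.ResidueField with hκ
  have hker : ∀ a : R, algebraMap R κ a = 0 ↔ a ∈ y.asIdeal.comap (algebraMap R S) := by
    intro a
    rw [IsScalarTower.algebraMap_apply R S κ, Ideal.algebraMap_residueField_eq_zero,
      Ideal.mem_comap]
  let θ₀ : R ⧸ p →+* κ := Ideal.Quotient.lift p (algebraMap R κ)
    (fun a ha => (hker a).2 (hpy ha))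
  letI : Algebra (R ⧸ p) κ := θ₀.toAlgebra
  haveI : IsScalarTower R (R ⧸ p) κ := IsScalarTower.of_algebraMap_eq (fun r => by
    show algebraMap R κ r = θ₀ (Ideal.Quotient.mk p r)
    rw [Ideal.Quotient.lift_mk])
  have hunit : IsUnit (algebraMap (R ⧸ p) κ (Ideal.Quotient.mk p g')) := by
    rw [isUnit_iff_ne_zero]
    show θ₀ (Ideal.Quotient.mk p g') ≠ 0
    rw [Ideal.Quotient.lift_mk]
    exact fun h => hg' ((hker g').1 h)
  let θ₁ : Localization.Away (Ideal.Quotient.mk p g') →+* κ :=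
    IsLocalization.Away.lift (Ideal.Quotient.mk p g') hunit
  letI : Algebra (Localization.Away (Ideal.Quotient.mk p g')) κ := θ₁.toAlgebra
  haveI : IsScalarTower (R ⧸ p) (Localization.Away (Ideal.Quotient.mk p g')) κ :=
    IsScalarTower.of_algebraMap_eq (fun r => by
      show algebraMap (R ⧸ p) κ r = θ₁ (algebraMap _ _ r)
      rw [IsLocalization.Away.lift_eq])
  let ι : (R ⧸ p) ⊗[R] S →ₐ[R ⧸ p] κ :=
    Algebra.TensorProduct.lift (Algebra.ofId (R ⧸ p) κ) (IsScalarTower.toAlgHom R S κ)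
      (fun _ _ => Commute.all _ _)
  let Θ : Localization.Away (Ideal.Quotient.mk p g') ⊗[R ⧸ p] ((R ⧸ p) ⊗[R] S)
      →ₐ[Localization.Away (Ideal.Quotient.mk p g')] κ :=
    Algebra.TensorProduct.lift (Algebra.ofId _ κ) ι (fun _ _ => Commute.all _ _)
  refine ⟨⟨RingHom.ker Θ.toRingHom, RingHom.ker_isPrime _⟩, fun s => ?_⟩
  show Θ _ = 0 ↔ _
  rw [Algebra.TensorProduct.lift_tmul, Algebra.TensorProduct.lift_tmul, map_one, map_one, one_mul,
    one_mul, IsScalarTower.coe_toAlgHom', Ideal.algebraMap_residueField_eq_zero]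

/-- the converse direction, with `f(E)` in place of `f(E₀)` -/
theorem converse [Algebra.FiniteType R S] (E : Set (PrimeSpectrum S))
    (hE : Topology.IsConstructible E) (ξ : PrimeSpectrum R)
    (hdense : closure ({ξ} : Set (PrimeSpectrum R)) ⊆
      closure (closure {ξ} ∩ comap (algebraMap R S) '' E)) :
    ξ ∈ comap (algebraMap R S) '' E := by
  set p : Ideal R := ξ.asIdeal with hp
  obtain ⟨g, hg0, -, -, hfp, -⟩ := Groth.Agent.S0389.result (R := R ⧸ p)
    (S := (R ⧸ p) ⊗[R] S) (M := (R ⧸ p) ⊗[R] S)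
  obtain ⟨g', rfl⟩ := Ideal.Quotient.mk_surjective g
  have hg' : g' ∉ p := fun h => hg0 (Ideal.Quotient.eq_zero_iff_mem.2 h)
  have hle : Submonoid.powers (Ideal.Quotient.mk p g') ≤ nonZeroDivisors (R ⧸ p) :=
    Submonoid.powers_le.2 (mem_nonZeroDivisors_of_ne_zero hg0)
  haveI : IsDomain (Localization.Away (Ideal.Quotient.mk p g')) :=
    IsLocalization.isDomain_localization hle
  have hinj : Function.Injective
      (algebraMap (R ⧸ p) (Localization.Away (Ideal.Quotient.mk p g'))) :=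
    IsLocalization.injective _ hle
  haveI : Algebra.FinitePresentation (Localization.Away (Ideal.Quotient.mk p g'))
      (S1 S p (Ideal.Quotient.mk p g')) := hfp
  have hR1 : ∀ r : R, algebraMap R (Localization.Away (Ideal.Quotient.mk p g')) r =
      algebraMap (R ⧸ p) (Localization.Away (Ideal.Quotient.mk p g')) (Ideal.Quotient.mk p r) :=
    fun r => IsScalarTower.algebraMap_apply R (R ⧸ p) _ r
  refine core2 (R₁ := Localization.Away (Ideal.Quotient.mk p g'))
    (S₁ := S1 S p (Ideal.Quotient.mk p g')) ξ g' hg' ?_ ?_ ?_ ?_ E hE hdense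
  · intro r
    rw [hR1, ← map_zero (algebraMap (R ⧸ p) (Localization.Away (Ideal.Quotient.mk p g'))),
      hinj.eq_iff, Ideal.Quotient.eq_zero_iff_mem]
  · intro x hpx hgx
    have h1 : x ∈ Set.range (comap (Ideal.Quotient.mk p)) := by
      rw [range_comap_of_surjective _ _ Ideal.Quotient.mk_surjective, Ideal.mk_ker, mem_zeroLocus]
      exact hpx
    obtain ⟨xbar, hxbar⟩ := h1
    have h2 : xbar ∈ Set.range (comap (algebraMap (R ⧸ p)
        (Localization.Away (Ideal.Quotient.mk p g')))) := by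
      rw [localization_away_comap_range _ (Ideal.Quotient.mk p g'), SetLike.mem_coe, mem_basicOpen]
      intro h
      apply hgx
      rw [← hxbar]
      exact h
    obtain ⟨x₁, hx₁⟩ := h2
    refine ⟨x₁, ?_⟩
    rw [← hxbar, ← hx₁, ← comap_comp_apply]
    congr 1
  · intro y hy hgy
    obtain ⟨y₁, hy₁⟩ := exists_lift' p g' y hy hgy
    refine ⟨y₁, ?_⟩
    ext s
    exact hy₁ s
  · intro a
    obtain ⟨⟨hbar, t⟩, ht⟩ := IsLocalization.surj (Submonoid.powers (Ideal.Quotient.mk p g')) a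
    obtain ⟨h', rfl⟩ := Ideal.Quotient.mk_surjective hbar
    exact ⟨h', algebraMap _ _ (t : R ⧸ p), IsLocalization.map_units _ t, by rw [hR1]; exact ht.symm⟩

theorem main [IsJacobsonRing R] [IsJacobsonRing S] [Algebra.FiniteType R S]
    (E : Set (PrimeSpectrum S)) (hE : Topology.IsConstructible E) (ξ : PrimeSpectrum R) :
    ξ ∈ comap (algebraMap R S) '' E ↔
      closure ({ξ} : Set (PrimeSpectrum R)) ⊆ closure (closure {ξ} ∩
        comap (algebraMap R S) '' {y | y ∈ E ∧ closure {y} ∩ E = {y}}) := by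
  have h52 := (Groth.Agent.S9652.result (R := R) (S := S) E hE).2
  constructor
  · intro hξ
    obtain ⟨U, hUo, hUd, hUE⟩ := Groth.Agent.S9651.main E hE ξ hξ
    have hlc : IsLocallyClosed (U ∩ closure ({ξ} : Set (PrimeSpectrum R))) :=
      ⟨U, closure {ξ}, hUo, isClosed_closure, rfl⟩
    have h1 := JacobsonSpace.closure_inter_closedPoints_eq_closure hlc
    refine hUd.trans ?_
    rw [← h1]
    apply closure_mono
    rintro x ⟨⟨hxU, hxcl⟩, hxc⟩
    refine ⟨hxcl, ?_⟩
    rw [h52]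
    exact ⟨hxc, hUE ⟨hxU, hxcl⟩⟩
  · intro h
    apply converse E hE ξ
    refine h.trans (closure_mono ?_)
    rintro x ⟨hxcl, y, ⟨hyE, -⟩, hyx⟩
    exact ⟨hxcl, y, hyE, hyx⟩
end Aux

/-- Let R and S be Jacobson rings, R → S a ring map of finite type with induced map f : Spec(S) →
Spec(R), E ⊆ Spec(S) constructible and E₀ the set of points of E closed in E. Then a point ξ of
Spec(R) lies in f(E) if and only if cl{ξ} ∩ f(E₀) is dense in the closure cl{ξ}. -/
theorem result {R S : Type u} [CommRing R] [CommRing S] [Algebra R S] [IsJacobsonRing R] [IsJacobsonRing S] [Algebra.FiniteType R S]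
    (E : Set (PrimeSpectrum S)) (hE : Topology.IsConstructible E) (ξ : PrimeSpectrum R) :
    ξ ∈ PrimeSpectrum.comap (algebraMap R S) '' E ↔
      closure ({ξ} : Set (PrimeSpectrum R)) ⊆ closure (closure {ξ} ∩ PrimeSpectrum.comap (algebraMap R S) '' {y | y ∈ E ∧ closure {y} ∩ E = {y}}) := by
  exact main E hE ξ

end Groth.Agent.S9653
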