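import Groth.Statements.S9654
import Mathlib

set_option autoImplicit false
universe u
open CAlg

namespace Groth.Agent.S9654

section gen
universe v
variable {R : Type u} [CommRing R] {L : Type v} [CommRing L] [Algebra R L]

theorem exists_pow_mul_eq (s t : R) (c : L) (h : algebraMap R L s * c = algebraMap R L t)
    (z : L) (hz : z ∈ Algebra.adjoin R {c}) :
    ∃ (m : ℕ) (d : R), algebraMap R L s ^ m * z = algebraMap R L d := by
  induction hz using Algebra.adjoin_induction with
  | mem u hu =>
    obtain rfl : u = c := hu
    exact ⟨1, t, by simpa using h⟩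
  | algebraMap r => exact ⟨0, r, by simp⟩
  | add u v _ _ hu hv =>
    obtain ⟨m1, d1, h1⟩ := hu
    obtain ⟨m2, d2, h2⟩ := hv
    refine ⟨m1 + m2, s ^ m2 * d1 + s ^ m1 * d2, ?_⟩
    rw [mul_add, map_add, map_mul, map_mul, ← h1, ← h2, map_pow, map_pow, pow_add]
    ring
  | mul u v _ _ hu hv =>
    obtain ⟨m1, d1, h1⟩ := hu
    obtain ⟨m2, d2, h2⟩ := hv
    exact ⟨m1 + m2, d1 * d2, by rw [pow_add, mul_mul_mul_comm, h1, h2, map_mul]⟩

/-- Key lemma: descent of integral elements to `Away w`. -/
theorem mem_range_of_integral (w : R) (hw : w ∈ nonZeroDivisors R)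
    (hinj : Function.Injective (algebraMap R L)) (hu : IsUnit (algebraMap R L w))
    (hic : IsIntegrallyClosedIn R (Localization.Away w))
    (z : L) (hz : IsIntegral R z) (m : ℕ) (d : R)
    (hd : algebraMap R L w ^ m * z = algebraMap R L d) :
    z ∈ Set.range (algebraMap R L) := by
  have hunit : ∀ y : Submonoid.powers w, IsUnit ((algebraMap R L) y) := by
    rintro ⟨_, k, rfl⟩
    show IsUnit (algebraMap R L (w ^ k))
    rw [map_pow]
    exact hu.pow k
  let jr : Localization.Away w →+* L :=
    IsLocalization.lift (M := Submonoid.powers w) (g := algebraMap R L) hunit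
  let j : Localization.Away w →ₐ[R] L :=
    { jr with commutes' := fun r => IsLocalization.lift_eq hunit r }
  have hjinj : Function.Injective j := by
    have hRw : Function.Injective (algebraMap R (Localization.Away w)) :=
      IsLocalization.injective (Localization.Away w) (M := Submonoid.powers w)
        (Submonoid.powers_le.2 hw)
    show Function.Injective jr
    rw [IsLocalization.lift_injective_iff]
    intro p q
    constructor
    · intro h; rw [hRw h]
    · intro h
      have : p = q := hinj h
      rw [this]
  let z' : Localization.Away w := IsLocalization.mk' (Localization.Away w) d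
    (⟨w ^ m, m, rfl⟩ : Submonoid.powers w)
  have hjz : j z' = z := by
    have h1 : j z' * algebraMap R L (w ^ m) = algebraMap R L d := by
      have := IsLocalization.mk'_spec (Localization.Away w) d (⟨w ^ m, m, rfl⟩ : Submonoid.powers w)
      have h2 := congrArg j this
      rw [map_mul] at h2
      simpa using h2
    have hum : IsUnit (algebraMap R L (w ^ m)) := by rw [map_pow]; exact hu.pow m
    apply hum.mul_left_injective
    show j z' * _ = z * _
    rw [h1, ← hd, map_pow, mul_comm]
  have hz' : IsIntegral R z' := by
    rw [← isIntegral_algHom_iff j hjinj, hjz]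
    exact hz
  obtain ⟨r, hr⟩ := (IsIntegrallyClosedIn.isIntegral_iff (R := R) (A := Localization.Away w)).1 hz'
  refine ⟨r, ?_⟩
  rw [← hjz, ← hr]
  simp

theorem aeval_restrict_apply (z : L) (N : Submodule R L)
    (hN : ∀ v ∈ N, LinearMap.mulLeft R z v ∈ N)
    (p : Polynomial R) (v : N) :
    ((Polynomial.aeval ((LinearMap.mulLeft R z).restrict hN) p) v : L) =
      Polynomial.aeval z p * v := by
  induction p using Polynomial.induction_on generalizing v with
  | C r =>
    simp [Algebra.smul_def]
  | add p q hp hq =>
    simp [hp, hq, add_mul]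
  | monomial n r h =>
    have e1 : Polynomial.aeval ((LinearMap.mulLeft R z).restrict hN)
        (Polynomial.C r * Polynomial.X ^ (n + 1)) =
        Polynomial.aeval ((LinearMap.mulLeft R z).restrict hN) (Polynomial.C r * Polynomial.X ^ n) *
          (LinearMap.mulLeft R z).restrict hN := by
      rw [pow_succ, ← mul_assoc, map_mul, Polynomial.aeval_X]
    have e2 : Polynomial.aeval z (Polynomial.C r * Polynomial.X ^ (n + 1)) =
        Polynomial.aeval z (Polynomial.C r * Polynomial.X ^ n) * z := by
      rw [pow_succ, ← mul_assoc, map_mul, Polynomial.aeval_X]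
    rw [e1, e2, Module.End.mul_apply, h]
    simp [mul_assoc]

theorem integral_of_stable (z : L) (N : Submodule R L) (hfg : N.FG) (h1 : (1 : L) ∈ N)
    (hN : ∀ v ∈ N, LinearMap.mulLeft R z v ∈ N) : IsIntegral R z := by
  haveI : Module.Finite R N := Module.Finite.iff_fg.2 hfg
  obtain ⟨p, hmonic, hp⟩ :=
    LinearMap.exists_monic_and_aeval_eq_zero R ((LinearMap.mulLeft R z).restrict hN)
  refine ⟨p, hmonic, ?_⟩
  have := aeval_restrict_apply z N hN p ⟨1, h1⟩
  rw [hp] at this
  simpa [Polynomial.aeval_def] using this.symm

theorem integral_of_mem_both (a b : L) (hab : a * b = 1) (z : L)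
    (hza : z ∈ Algebra.adjoin R {a}) (hzb : z ∈ Algebra.adjoin R {b}) : IsIntegral R z := by
  rw [Algebra.adjoin_singleton_eq_range_aeval] at hza hzb
  obtain ⟨P, hP⟩ := hza
  obtain ⟨Q, hQ⟩ := hzb
  have hP' : z = Polynomial.aeval a P := hP.symm
  have hQ' : z = Polynomial.aeval b Q := hQ.symm
  set n := P.natDegree
  set m := Q.natDegree
  let N : Submodule R L := Submodule.span R (Set.range fun i : Fin (n + 1) => a ^ (i : ℕ)) ⊔
    Submodule.span R (Set.range fun j : Fin (m + 1) => b ^ (j : ℕ))
  have hNa : ∀ i, i ≤ n → a ^ i ∈ N := fun i hi =>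
    Submodule.mem_sup_left (Submodule.subset_span ⟨⟨i, by omega⟩, rfl⟩)
  have hNb : ∀ j, j ≤ m → b ^ j ∈ N := fun j hj =>
    Submodule.mem_sup_right (Submodule.subset_span ⟨⟨j, by omega⟩, rfl⟩)
  have H : ∀ i j, i ≤ n → j ≤ m → a ^ i * b ^ j ∈ N := by
    intro i j hi hj
    by_cases hij : j ≤ i
    · have : a ^ i * b ^ j = a ^ (i - j) := by
        obtain ⟨k, rfl⟩ := Nat.exists_eq_add_of_le hij
        rw [Nat.add_sub_cancel_left, pow_add, mul_comm (a ^ j), mul_assoc, ← mul_pow, hab, one_pow,
          mul_one]
      rw [this]
      exact hNa _ (by omega)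
    · have : a ^ i * b ^ j = b ^ (j - i) := by
        obtain ⟨k, rfl⟩ := Nat.exists_eq_add_of_le (not_le.1 hij).le
        rw [Nat.add_sub_cancel_left, pow_add, ← mul_assoc, ← mul_pow, hab, one_pow, one_mul]
      rw [this]
      exact hNb _ (by omega)
  have hzN : ∀ v ∈ N, z * v ∈ N := by
    intro v hv
    obtain ⟨v1, hv1, v2, hv2, rfl⟩ := Submodule.mem_sup.1 hv
    rw [mul_add]
    refine Submodule.add_mem _ ?_ ?_
    · refine Submodule.span_induction ?_ ?_ ?_ ?_ hv1
      · rintro _ ⟨i, rfl⟩
        rw [hQ', Polynomial.aeval_eq_sum_range, Finset.sum_mul]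
        refine Submodule.sum_mem _ fun j hj => ?_
        rw [smul_mul_assoc, mul_comm]
        exact Submodule.smul_mem _ _ (H _ _ (by omega) (by have := Finset.mem_range.1 hj; omega))
      · simp
      · intro x y _ _ hx hy
        rw [mul_add]; exact Submodule.add_mem _ hx hy
      · intro r x _ hx
        rw [mul_smul_comm]; exact Submodule.smul_mem _ _ hx
    · refine Submodule.span_induction ?_ ?_ ?_ ?_ hv2
      · rintro _ ⟨j, rfl⟩
        rw [hP', Polynomial.aeval_eq_sum_range, Finset.sum_mul]
        refine Submodule.sum_mem _ fun i hi => ?_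
        rw [smul_mul_assoc]
        exact Submodule.smul_mem _ _ (H _ _ (by have := Finset.mem_range.1 hi; omega) (by omega))
      · simp
      · intro x y _ _ hx hy
        rw [mul_add]; exact Submodule.add_mem _ hx hy
      · intro r x _ hx
        rw [mul_smul_comm]; exact Submodule.smul_mem _ _ hx
  have hfg : N.FG := Submodule.FG.sup (Submodule.fg_span (Set.finite_range _))
    (Submodule.fg_span (Set.finite_range _))
  have h1 : (1 : L) ∈ N := by
    have := hNa 0 (Nat.zero_le _)
    simpa using this
  exact integral_of_stable z N hfg h1 hzN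

theorem sup_eq_adjoin_pair (a b : L) (hab : a * b = 1) :
    (Algebra.adjoin R {a}).toSubmodule ⊔ (Algebra.adjoin R {b}).toSubmodule =
      (Algebra.adjoin R {a, b}).toSubmodule := by
  apply le_antisymm
  · refine sup_le ?_ ?_
    · exact Subalgebra.toSubmodule.monotone (Algebra.adjoin_mono (by simp))
    · exact Subalgebra.toSubmodule.monotone (Algebra.adjoin_mono (by simp))
  · have : ({a, b} : Set L) = {a} ∪ {b} := Set.insert_eq a {b}
    rw [this, Algebra.adjoin_union_coe_submodule, Algebra.adjoin_eq_span, Algebra.adjoin_eq_span,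
      Submodule.span_mul_span, Submodule.span_le]
    rintro _ ⟨u, hu, v, hv, rfl⟩
    rw [SetLike.mem_coe, Submonoid.mem_closure_singleton] at hu hv
    obtain ⟨i, rfl⟩ := hu
    obtain ⟨j, rfl⟩ := hv
    show a ^ i * b ^ j ∈ _
    by_cases hij : j ≤ i
    · have : a ^ i * b ^ j = a ^ (i - j) := by
        obtain ⟨k, rfl⟩ := Nat.exists_eq_add_of_le hij
        rw [Nat.add_sub_cancel_left, pow_add, mul_comm (a ^ j), mul_assoc, ← mul_pow, hab, one_pow,
          mul_one]
      rw [this]
      exact Submodule.mem_sup_left (Submodule.subset_span (pow_mem (Submonoid.subset_closure (Set.mem_singleton a)) _))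
    · have : a ^ i * b ^ j = b ^ (j - i) := by
        obtain ⟨k, rfl⟩ := Nat.exists_eq_add_of_le (not_le.1 hij).le
        rw [Nat.add_sub_cancel_left, pow_add, ← mul_assoc, ← mul_pow, hab, one_pow, one_mul]
      rw [this]
      exact Submodule.mem_sup_right (Submodule.subset_span (pow_mem (Submonoid.subset_closure (Set.mem_singleton b)) _))

end gen

/-- Let R be a ring and x, y ∈ R nonzerodivisors. In the localization R_{xy} let a = x/y and b = y/x,
and let R[a], R[b], R[a, b] be the R-subalgebras they generate. If R is integrally closed in R_x or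
in R_y, then the sequence 0 → R → R[a] ⊕ R[b] → R[a, b] → 0 (difference map, then sum map) is short
exact; equivalently R[a] ∩ R[b] is the image of R and R[a] + R[b] = R[a, b] inside R_{xy}. -/
theorem result {R : Type u} [CommRing R] (x y : R) (hx : x ∈ nonZeroDivisors R) (hy : y ∈ nonZeroDivisors R)
    (hint : IsIntegrallyClosedIn R (Localization.Away x) ∨ IsIntegrallyClosedIn R (Localization.Away y)) :
    (Algebra.adjoin R {algebraMap R (Localization.Away (x * y)) (x * x) * IsLocalization.Away.invSelf (x * y)}).toSubmodule ⊓
        (Algebra.adjoin R {algebraMap R (Localization.Away (x * y)) (y * y) * IsLocalization.Away.invSelf (x * y)}).toSubmodule =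
        (⊥ : Subalgebra R (Localization.Away (x * y))).toSubmodule ∧
      (Algebra.adjoin R {algebraMap R (Localization.Away (x * y)) (x * x) * IsLocalization.Away.invSelf (x * y)}).toSubmodule ⊔
        (Algebra.adjoin R {algebraMap R (Localization.Away (x * y)) (y * y) * IsLocalization.Away.invSelf (x * y)}).toSubmodule =
        (Algebra.adjoin R {algebraMap R (Localization.Away (x * y)) (x * x) * IsLocalization.Away.invSelf (x * y), algebraMap R (Localization.Away (x * y)) (y * y) * IsLocalization.Away.invSelf (x * y)}).toSubmodule := by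
  have hinv : algebraMap R (Localization.Away (x * y)) (x * y) * IsLocalization.Away.invSelf (x * y) = 1 :=
    IsLocalization.Away.mul_invSelf (x * y)
  set L := Localization.Away (x * y)
  set inv : L := IsLocalization.Away.invSelf (x * y)
  set a : L := algebraMap R L (x * x) * inv with ha
  set b : L := algebraMap R L (y * y) * inv with hb
  have hab : a * b = 1 := by
    rw [ha, hb]
    calc algebraMap R L (x * x) * inv * (algebraMap R L (y * y) * inv)
        = (algebraMap R L (x * y) * inv) * (algebraMap R L (x * y) * inv) := by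
          simp only [map_mul]; ring
      _ = 1 := by rw [hinv, one_mul]
  have hya : algebraMap R L y * a = algebraMap R L x := by
    rw [ha]
    calc algebraMap R L y * (algebraMap R L (x * x) * inv)
        = algebraMap R L x * (algebraMap R L (x * y) * inv) := by simp only [map_mul]; ring
      _ = algebraMap R L x := by rw [hinv, mul_one]
  have hxb : algebraMap R L x * b = algebraMap R L y := by
    rw [hb]
    calc algebraMap R L x * (algebraMap R L (y * y) * inv)
        = algebraMap R L y * (algebraMap R L (x * y) * inv) := by simp only [map_mul]; ring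
      _ = algebraMap R L y := by rw [hinv, mul_one]
  have hxy : x * y ∈ nonZeroDivisors R := mul_mem hx hy
  have hinj : Function.Injective (algebraMap R L) :=
    IsLocalization.injective L (M := Submonoid.powers (x * y)) (Submonoid.powers_le.2 hxy)
  have hux : IsUnit (algebraMap R L x) := by
    refine IsUnit.of_mul_eq_one (algebraMap R L y * inv) ?_
    rw [← hinv, map_mul]; ring
  have huy : IsUnit (algebraMap R L y) := by
    refine IsUnit.of_mul_eq_one (algebraMap R L x * inv) ?_
    rw [← hinv, map_mul]; ring
  refine ⟨?_, sup_eq_adjoin_pair a b hab⟩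
  apply le_antisymm
  · intro z hz
    rw [Submodule.mem_inf, Subalgebra.mem_toSubmodule, Subalgebra.mem_toSubmodule] at hz
    rw [Subalgebra.mem_toSubmodule, Algebra.mem_bot]
    have hzint : IsIntegral R z := integral_of_mem_both a b hab z hz.1 hz.2
    rcases hint with h | h
    · obtain ⟨m, d, hd⟩ := exists_pow_mul_eq x y b hxb z hz.2
      exact mem_range_of_integral x hx hinj hux h z hzint m d hd
    · obtain ⟨m, d, hd⟩ := exists_pow_mul_eq y x a hya z hz.1
      exact mem_range_of_integral y hy hinj huy h z hzint m d hd
  · refine le_inf ?_ ?_ <;> exact Subalgebra.toSubmodule.monotone bot_le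

end Groth.Agent.S9654
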