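import Groth.Statements.S9655
import Mathlib

set_option autoImplicit false
universe u
open CAlg

namespace Groth.Agent.S9655

section Aux

/-- a subalgebra `D` of `S` such that every element of `S` is a fraction of elements of `D` with unit
denominator: `S` is a localization of `D`. -/
theorem isLocalization_of_fractions {R S : Type u} [CommRing R] [CommRing S] [Algebra R S]
    (D : Subalgebra R S) (h : ∀ s : S, ∃ t ∈ D, IsUnit t ∧ s * t ∈ D) :
    IsLocalization ((IsUnit.submonoid S).comap (algebraMap D S)) S := by
  constructor; constructor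
  · exact fun y ↦ y.prop
  · intro s
    obtain ⟨t, ht, ht', h⟩ := h s
    exact ⟨⟨⟨_, h⟩, ⟨t, ht⟩, ht'⟩, rfl⟩
  · intro x y e
    exact ⟨1, by simpa using Subtype.ext e⟩

end Aux

/-- Let R and S be local rings and R → S a ring map, not necessarily local, that is essentially of
finite type. Then for some n there is a maximal ideal m of the polynomial ring R[x_1, …, x_n] lying
over the maximal ideal of R, together with an R-algebra map φ : R[x_1, …, x_n]_m → S making S a
localization of the image of φ; thus S arises from R[x_1, …, x_n]_m by passing to a quotient and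
then localizing. -/
theorem result {R S : Type u} [CommRing R] [CommRing S] [Algebra R S] [IsLocalRing R] [IsLocalRing S] [Algebra.EssFiniteType R S] :
    ∃ (n : ℕ) (m : Ideal (MvPolynomial (Fin n) R)) (_ : m.IsMaximal), m.under R = IsLocalRing.maximalIdeal R ∧
      ∃ (φ : Localization.AtPrime m →ₐ[R] S) (T : Submonoid φ.range), IsLocalization T S := by
  classical
  let K := IsLocalRing.ResidueField S
  let res : S →+* K := IsLocalRing.residue S
  let ψ : R →+* K := res.comp (algebraMap R S)
  obtain ⟨V, hV, hloc⟩ := IsLocalRing.exists_factor_valuationRing ψ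
  let σ := Algebra.EssFiniteType.finset R S
  let e : Fin σ.card ≃ σ := σ.equivFin.symm
  let t : Fin σ.card → S := fun i => if res (e i) ∈ V then (e i : S) else Ring.inverse (e i : S)
  have hunit : ∀ i, res (e i) ∉ V → IsUnit ((e i : σ) : S) := by
    intro i hi
    by_contra hu
    apply hi
    have : res (e i) = 0 := (IsLocalRing.residue_eq_zero_iff _).mpr hu
    rw [this]; exact V.zero_mem
  have ht : ∀ i, res (t i) ∈ V := by
    intro i
    by_cases hi : res (e i) ∈ V
    · simp only [t, if_pos hi]; exact hi
    · simp only [t, if_neg hi]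
      obtain ⟨u, hu⟩ := hunit i hi
      rw [← hu, Ring.inverse_unit]
      have h1 : res (↑u⁻¹ : S) = (res (e i))⁻¹ := by
        rw [← hu]
        exact (map_units_inv res u)
      rw [h1]
      exact (V.mem_or_inv_mem (res (e i))).resolve_left hi
  let φ₀ : MvPolynomial (Fin σ.card) R →ₐ[R] S := MvPolynomial.aeval t
  have hχ : ∀ p, res (φ₀ p) ∈ V := by
    intro p
    induction p using MvPolynomial.induction_on with
    | C a =>
      have : res (φ₀ (MvPolynomial.C a)) = ψ a := by simp [φ₀, ψ]
      rw [this]; exact hV a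
    | add p q hp hq => rw [map_add, map_add]; exact V.add_mem _ _ hp hq
    | mul_X p i hp =>
      rw [map_mul, map_mul]
      exact V.mul_mem _ _ hp (by simpa [φ₀] using ht i)
  let χ : MvPolynomial (Fin σ.card) R →+* V :=
    (res.comp φ₀.toRingHom).codRestrict V.toSubring hχ
  let 𝔭 : Ideal (MvPolynomial (Fin σ.card) R) := Ideal.comap χ (IsLocalRing.maximalIdeal V)
  have h𝔭 : 𝔭 ≠ ⊤ := Ideal.comap_ne_top _ (IsLocalRing.maximalIdeal.isMaximal V).ne_top
  obtain ⟨m, hm, h𝔭m⟩ := Ideal.exists_le_maximal 𝔭 h𝔭
  have hq' : Ideal.comap φ₀.toRingHom (IsLocalRing.maximalIdeal S) ≤ m := by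
    intro p hp
    apply h𝔭m
    show χ p ∈ IsLocalRing.maximalIdeal V
    have : χ p = 0 := by
      apply Subtype.ext
      show res (φ₀ p) = 0
      exact (IsLocalRing.residue_eq_zero_iff _).mpr hp
    rw [this]; exact zero_mem _
  haveI := hm.isPrime
  refine ⟨σ.card, m, hm, ?_, ?_⟩
  · have h1 : IsLocalRing.maximalIdeal R ≤ m.under R := by
      intro a ha
      apply h𝔭m
      show χ (algebraMap R _ a) ∈ IsLocalRing.maximalIdeal V
      rw [IsLocalRing.mem_maximalIdeal, mem_nonunits_iff]
      intro hu
      have hχa : χ (algebraMap R _ a) = ψ.codRestrict V.toSubring hV a := by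
        apply Subtype.ext
        show res (φ₀ (algebraMap R _ a)) = ψ a
        simp [φ₀, ψ]
      rw [hχa] at hu
      exact ha (hloc.map_nonunit a hu)
    have h2 : m.under R ≠ ⊤ := (Ideal.IsPrime.under R m).ne_top
    exact ((IsLocalRing.maximalIdeal.isMaximal R).eq_of_le h2 h1).symm
  · have hf : ∀ y : m.primeCompl, IsUnit (φ₀ y) := by
      intro y
      by_contra hu
      exact y.2 (hq' (show φ₀ y ∈ IsLocalRing.maximalIdeal S from hu))
    let φ : Localization.AtPrime m →ₐ[R] S :=
      IsLocalization.liftAlgHom (M := m.primeCompl) (f := φ₀) hf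
    have hφ₀ : ∀ p, φ₀ p ∈ φ.range := fun p => ⟨algebraMap _ _ p, IsLocalization.lift_eq _ p⟩
    have hX : ∀ i, t i ∈ φ.range := by
      intro i
      have := hφ₀ (MvPolynomial.X i)
      simpa [φ₀] using this
    refine ⟨φ, (IsUnit.submonoid S).comap (algebraMap φ.range S),
      isLocalization_of_fractions φ.range ?_⟩
    have hC : ∀ s ∈ Algebra.adjoin R (σ : Set S),
        ∃ t ∈ φ.range, IsUnit t ∧ s * t ∈ φ.range := by
      intro s hs
      induction hs using Algebra.adjoin_induction with
      | mem s hs =>
        set i := e.symm ⟨s, hs⟩ with hi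
        have hei : (e i : S) = s := by rw [hi, Equiv.apply_symm_apply]
        by_cases hV' : res (e i) ∈ V
        · refine ⟨1, one_mem _, isUnit_one, ?_⟩
          rw [mul_one, ← hei]
          have : t i = (e i : S) := by simp only [t, if_pos hV']
          rw [← this]
          exact hX i
        · have hti : t i = Ring.inverse (e i : S) := by simp only [t, if_neg hV']
          have hu := hunit i hV'
          refine ⟨t i, hX i, ?_, ?_⟩
          · rw [hti]; exact hu.ringInverse
          · rw [← hei, hti, Ring.mul_inverse_cancel _ hu]; exact one_mem _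
      | algebraMap r =>
        exact ⟨1, one_mem _, isUnit_one, by rw [mul_one]; exact φ.range.algebraMap_mem r⟩
      | add x y _ _ hx hy =>
        obtain ⟨tx, htx, hux, hx⟩ := hx
        obtain ⟨ty, hty, huy, hy⟩ := hy
        refine ⟨tx * ty, mul_mem htx hty, hux.mul huy, ?_⟩
        have : (x + y) * (tx * ty) = (x * tx) * ty + (y * ty) * tx := by ring
        rw [this]; exact add_mem (mul_mem hx hty) (mul_mem hy htx)
      | mul x y _ _ hx hy =>
        obtain ⟨tx, htx, hux, hx⟩ := hx
        obtain ⟨ty, hty, huy, hy⟩ := hy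
        refine ⟨tx * ty, mul_mem htx hty, hux.mul huy, ?_⟩
        have : (x * y) * (tx * ty) = (x * tx) * (y * ty) := by ring
        rw [this]; exact mul_mem hx hy
    intro s
    obtain ⟨⟨c, u⟩, hcu⟩ := IsLocalization.surj (Algebra.EssFiniteType.submonoid R S) s
    obtain ⟨tc, htc, huc, hc⟩ := hC c.1 c.2
    obtain ⟨tu, htu, huu, hu⟩ := hC u.1.1 u.1.2
    have hunitu : IsUnit (u.1.1 : S) := u.2
    refine ⟨(u.1.1 * tu) * tc, mul_mem hu htc, (hunitu.mul huu).mul huc, ?_⟩
    have h1 : s * ((u.1.1 * tu) * tc) = (s * u.1.1) * tu * tc := by ring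
    rw [h1]
    have hcu' : s * (u.1.1 : S) = c.1 := hcu
    rw [hcu']
    have h2 : (c.1 : S) * tu * tc = (c.1 * tc) * tu := by ring
    rw [h2]; exact mul_mem hc htu

end Groth.Agent.S9655
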