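import Groth.Statements.S9656
import Mathlib

set_option autoImplicit false
universe u
open CAlg

namespace Groth.Agent.S9656

open Polynomial

/-- Let R_i → S_i be ring maps indexed by a finite type ι, with product map R = Π R_i → S = Π S_i. Then
an element (s_i) of S is integral over R exactly when s_i is integral over R_i for every i; so
integral closure in a finite product is computed factor by factor. -/
theorem result {ι : Type u} [Fintype ι] {R S : ι → Type u} [∀ i, CommRing (R i)] [∀ i, CommRing (S i)] (f : ∀ i, R i →+* S i) (s : ∀ i, S i) :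
    (RingHom.pi fun i => (f i).comp (Pi.evalRingHom R i)).IsIntegralElem s ↔ ∀ i, (f i).IsIntegralElem (s i) := by
  classical
  set F : (∀ i, R i) →+* (∀ i, S i) := RingHom.pi fun i => (f i).comp (Pi.evalRingHom R i) with hF
  have hcomp : ∀ i, (Pi.evalRingHom S i).comp F = (f i).comp (Pi.evalRingHom R i) := by
    intro i
    ext x
    simp [hF]
  constructor
  · rintro ⟨P, hP, hPs⟩ i
    refine ⟨P.map (Pi.evalRingHom R i), hP.map _, ?_⟩
    rw [Polynomial.eval₂_map, ← hcomp i]
    have := congrArg (Pi.evalRingHom S i) hPs
    rw [Polynomial.hom_eval₂, map_zero] at this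
    exact this
  · intro h
    choose p hp hps using h
    have hlift : ∀ i, ∃ q : (∀ i, R i)[X], q.map (Pi.evalRingHom R i) = p i ∧
        q.natDegree = (p i).natDegree ∧ q.Monic := by
      intro i
      apply Polynomial.lifts_and_natDegree_eq_and_monic _ (hp i)
      rw [Polynomial.mem_lifts]
      exact Polynomial.map_surjective _ (fun x => ⟨Pi.single i x, by simp⟩) (p i)
    choose q hq _ hqm using hlift
    refine ⟨∏ i, q i, Polynomial.monic_prod_of_monic _ _ (fun i _ => hqm i), ?_⟩
    ext i
    have h1 : (Polynomial.eval₂ F s (∏ j, q j)) i =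
        Polynomial.eval₂ ((f i).comp (Pi.evalRingHom R i)) (s i) (∏ j, q j) := by
      have := Polynomial.hom_eval₂ (∏ j, q j) F (Pi.evalRingHom S i) s
      rw [hcomp i] at this
      exact this
    rw [h1, Polynomial.eval₂_finsetProd]
    simp only [Pi.zero_apply]
    apply Finset.prod_eq_zero (Finset.mem_univ i)
    rw [← Polynomial.eval₂_map, hq i, hps i]

end Groth.Agent.S9656
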