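import Groth.Statements.S9658
import Mathlib

set_option autoImplicit false
universe u
open CAlg

namespace Groth.Agent.S9658

/-- Let R be a ring, f_1, …, f_n ∈ R generating the unit ideal and M an R-module. With M_i = M_{f_i},
M_ij = M_{f_i f_j} (any localizations, with the canonical compatible maps M → M_i → M_ij), the
sequence 0 → M → ⊕ M_i → ⊕ M_ij is exact: an element of M whose image vanishes in every M_i is zero,
and every family (m_i ∈ M_i) such that m_i and m_j have the same image in M_ij for all i, j is the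
image of an element of M. -/
theorem result {R : Type u} [CommRing R] {ι : Type u} [Fintype ι] (f : ι → R) (hf : Ideal.span (Set.range f) = ⊤)
    (M : Type u) [AddCommGroup M] [Module R M]
    (Mi : ι → Type u) [∀ i, AddCommGroup (Mi i)] [∀ i, Module R (Mi i)] (g : ∀ i, M →ₗ[R] Mi i) [∀ i, IsLocalizedModule (Submonoid.powers (f i)) (g i)]
    (Mij : ι → ι → Type u) [∀ i j, AddCommGroup (Mij i j)] [∀ i j, Module R (Mij i j)] (gij : ∀ i j, M →ₗ[R] Mij i j) [∀ i j, IsLocalizedModule (Submonoid.powers (f i * f j)) (gij i j)]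
    (ρ₁ : ∀ i j, Mi i →ₗ[R] Mij i j) (hρ₁ : ∀ i j, ρ₁ i j ∘ₗ g i = gij i j) (ρ₂ : ∀ i j, Mi j →ₗ[R] Mij i j) (hρ₂ : ∀ i j, ρ₂ i j ∘ₗ g j = gij i j) :
    (∀ m : M, (∀ i, g i m = 0) → m = 0) ∧
      ∀ s : ∀ i, Mi i, (∀ i j, ρ₁ i j (s i) = ρ₂ i j (s j)) → ∃ m : M, ∀ i, g i m = s i := by
  classical
  have hρ₁' : ∀ i j m, ρ₁ i j (g i m) = gij i j m := fun i j m => by rw [← hρ₁ i j]; rfl
  have hρ₂' : ∀ i j m, ρ₂ i j (g j m) = gij i j m := fun i j m => by rw [← hρ₂ i j]; rfl
  constructor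
  · intro m hm
    have : m ∈ (⊥ : Submodule R M) := by
      apply Submodule.mem_of_span_eq_top_of_smul_pow_mem ⊥ (Set.range f) hf m
      rintro ⟨_, i, rfl⟩
      obtain ⟨⟨_, n, rfl⟩, hn⟩ := (IsLocalizedModule.eq_zero_iff (Submonoid.powers (f i)) (g i)).mp (hm i)
      exact ⟨n, hn⟩
    simpa using this
  · intro s hs
    -- step 1: common denominators
    have h1 : ∀ i, ∃ (n : ℕ) (m : M), f i ^ n • s i = g i m := by
      intro i
      obtain ⟨⟨m, ⟨_, n, rfl⟩⟩, hmn⟩ := IsLocalizedModule.surj (Submonoid.powers (f i)) (g i) (s i)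
      exact ⟨n, m, hmn⟩
    choose n₀ m₀ hm₀ using h1
    let N := Finset.univ.sup n₀
    obtain ⟨m₁, hm₁⟩ : ∃ m₁ : ι → M, ∀ i, f i ^ N • s i = g i (m₁ i) := by
      refine ⟨fun i => f i ^ (N - n₀ i) • m₀ i, fun i => ?_⟩
      have hle : n₀ i ≤ N := Finset.le_sup (Finset.mem_univ i)
      rw [map_smul, ← hm₀ i, smul_smul, ← pow_add, Nat.sub_add_cancel hle]
    -- step 2: compatibility in M after multiplying
    have h2 : ∀ i j, ∃ K : ℕ, (f i * f j) ^ K • (f j ^ N • m₁ i - f i ^ N • m₁ j) = 0 := by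
      intro i j
      have : gij i j (f j ^ N • m₁ i - f i ^ N • m₁ j) = 0 := by
        rw [map_sub, map_smul, map_smul, ← hρ₁' i j, ← hρ₂' i j, ← hm₁ i, ← hm₁ j, map_smul,
          map_smul, hs i j, smul_smul, smul_smul, mul_comm, sub_self]
      obtain ⟨⟨_, K, rfl⟩, hK⟩ :=
        (IsLocalizedModule.eq_zero_iff (Submonoid.powers (f i * f j)) (gij i j)).mp this
      exact ⟨K, hK⟩
    choose K₀ hK₀ using h2
    let K := Finset.univ.sup fun i => Finset.univ.sup fun j => K₀ i j
    have hKle : ∀ i j, K₀ i j ≤ K := fun i j =>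
      (Finset.le_sup (f := fun j => K₀ i j) (Finset.mem_univ j)).trans
        (Finset.le_sup (f := fun i => Finset.univ.sup fun j => K₀ i j) (Finset.mem_univ i))
    have hK : ∀ i j, (f i * f j) ^ K • (f j ^ N • m₁ i - f i ^ N • m₁ j) = 0 := by
      intro i j
      rw [← Nat.sub_add_cancel (hKle i j), pow_add, mul_smul, hK₀ i j, smul_zero]
    obtain ⟨m₂, hm₂, hcomp⟩ : ∃ m₂ : ι → M, (∀ i, f i ^ (N + K) • s i = g i (m₂ i)) ∧
        ∀ i j, f j ^ (N + K) • m₂ i = f i ^ (N + K) • m₂ j := by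
      refine ⟨fun i => f i ^ K • m₁ i, fun i => ?_, fun i j => ?_⟩
      · rw [map_smul, ← hm₁ i, smul_smul, ← pow_add, add_comm]
      · have := hK i j
        rw [smul_sub, sub_eq_zero] at this
        calc f j ^ (N + K) • f i ^ K • m₁ i = (f i * f j) ^ K • f j ^ N • m₁ i := by
              rw [smul_smul, smul_smul]; congr 1; ring
          _ = (f i * f j) ^ K • f i ^ N • m₁ j := this
          _ = f i ^ (N + K) • f j ^ K • m₁ j := by
              rw [smul_smul, smul_smul]; congr 1; ring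
    -- partition of unity
    have hspan : Ideal.span (Set.range fun i => f i ^ (N + K)) = ⊤ := by
      have := Ideal.span_pow_eq_top (Set.range f) hf (N + K)
      rwa [← Set.range_comp] at this
    have h1mem : (1 : R) ∈ Ideal.span (Set.range fun i => f i ^ (N + K)) := by
      rw [hspan]; trivial
    obtain ⟨a, ha⟩ := Ideal.mem_span_range_iff_exists_fun.mp h1mem
    refine ⟨∑ i, a i • m₂ i, fun j => ?_⟩
    apply IsLocalizedModule.smul_injective (g j) (⟨f j ^ (N + K), N + K, rfl⟩ : Submonoid.powers (f j))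
    change f j ^ (N + K) • g j (∑ i, a i • m₂ i) = f j ^ (N + K) • s j
    rw [hm₂ j, ← map_smul, Finset.smul_sum]
    congr 1
    calc ∑ i, f j ^ (N + K) • a i • m₂ i = ∑ i, (a i * f i ^ (N + K)) • m₂ j := by
          refine Finset.sum_congr rfl fun i _ => ?_
          rw [smul_comm, hcomp i j, smul_smul]
      _ = m₂ j := by rw [← Finset.sum_smul, ha, one_smul]

end Groth.Agent.S9658
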