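import Groth.Statements.S9659
import Mathlib

set_option autoImplicit false
universe u
open CAlg

namespace Groth.Agent.S9659
open DirectSum

section helpers



section
variable {R S : Type u} [CommRing R] [CommRing S] [Algebra R S] (𝒜 : ℤ → Submodule R S)
  [GradedAlgebra 𝒜]

lemma inv_mem (f g : S) (d : ℤ) (hf : f ∈ 𝒜 d) (hfg : f * g = 1) : g ∈ 𝒜 (-d) := by
  have h1 : (decompose 𝒜 (f * g) (d + -d) : S) = f * decompose 𝒜 g (-d) :=
    coe_decompose_mul_add_of_left_mem 𝒜 hf
  rw [hfg, add_neg_cancel, decompose_of_mem_same 𝒜 (SetLike.GradedOne.one_mem)] at h1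
  -- g = g * (f * g') = g'
  have h2 : g = decompose 𝒜 g (-d) := by
    calc g = g * 1 := (mul_one g).symm
      _ = g * (f * decompose 𝒜 g (-d)) := by rw [← h1]
      _ = (f * g) * decompose 𝒜 g (-d) := by ring
      _ = decompose 𝒜 g (-d) := by rw [hfg, one_mul]
  rw [h2]
  exact (decompose 𝒜 g (-d)).2

lemma exists_unit_deg (f : S) (d : ℤ) (hf : f ∈ 𝒜 d) (hu : IsUnit f) (n : ℤ) :
    ∃ c : S, IsUnit c ∧ c ∈ 𝒜 (-(d * n)) := by
  obtain ⟨g, hfg⟩ := hu.exists_right_inv
  have hg : g ∈ 𝒜 (-d) := inv_mem 𝒜 f g d hf hfg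
  have hgu : IsUnit g := IsUnit.of_mul_eq_one f (by rw [mul_comm]; exact hfg)
  rcases le_or_gt 0 n with hn | hn
  · refine ⟨g ^ n.toNat, hgu.pow _, ?_⟩
    have := SetLike.pow_mem_graded n.toNat hg
    convert this using 2
    rw [nsmul_eq_mul, Int.toNat_of_nonneg hn]
    ring
  · refine ⟨f ^ (-n).toNat, hu.pow _, ?_⟩
    have := SetLike.pow_mem_graded (-n).toNat hf
    convert this using 2
    rw [nsmul_eq_mul, Int.toNat_of_nonneg (by omega)]
    ring

lemma key (f : S) (d : ℤ) (hd : 0 < d) (hf : f ∈ 𝒜 d) (hu : IsUnit f) (n : ℤ) (x : S)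
    (hx : x ∈ 𝒜 n) : ∃ h : S, h ∈ 𝒜 0 ∧ ∀ P : Ideal S, P.IsPrime → (x ∈ P ↔ h ∈ P) := by
  obtain ⟨c, hcu, hc⟩ := exists_unit_deg 𝒜 f d hf hu n
  refine ⟨x ^ d.toNat * c, ?_, ?_⟩
  · have h1 := SetLike.pow_mem_graded d.toNat hx
    have h2 := SetLike.mul_mem_graded h1 hc
    convert h2 using 2
    rw [nsmul_eq_mul, Int.toNat_of_nonneg hd.le]
    ring
  · intro P hP
    have hD : d.toNat ≠ 0 := by
      intro h0
      have := Int.toNat_of_nonneg hd.le
      omega
    constructor
    · intro hxP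
      exact P.mul_mem_right _ (P.pow_mem_of_mem hxP _ (Nat.pos_of_ne_zero hD))
    · intro hP'
      rcases hP.mem_or_mem hP' with h | h
      · exact hP.mem_of_pow_mem _ h
      · exact absurd (P.eq_top_of_isUnit_mem h hcu) hP.ne_top

end



end helpers

/-- Let S be a ℤ-graded ring which contains an invertible homogeneous element of positive degree. Then
the set of homogeneous prime ideals of S, with the topology induced from Spec(S), maps
homeomorphically onto Spec(S₀) by p ↦ p ∩ S₀. -/
theorem result {R S : Type u} [CommRing R] [CommRing S] [Algebra R S] (𝒜 : ℤ → Submodule R S) [GradedAlgebra 𝒜]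
    (f : S) (d : ℤ) (hd : 0 < d) (hf : f ∈ 𝒜 d) (hu : IsUnit f) :
    IsHomeomorph (fun p : {p : PrimeSpectrum S // p.asIdeal.IsHomogeneous 𝒜} => PrimeSpectrum.comap (SetLike.GradeZero.subring 𝒜).subtype p.1) := by
  classical
  have hmem : ∀ (P : PrimeSpectrum S) (h : S) (hh : h ∈ 𝒜 0),
      (⟨h, hh⟩ : SetLike.GradeZero.subring 𝒜) ∈
        (PrimeSpectrum.comap (SetLike.GradeZero.subring 𝒜).subtype P).asIdeal ↔ h ∈ P.asIdeal :=
    fun P h hh => Iff.rfl
  have hle : ∀ (p q : {p : PrimeSpectrum S // p.asIdeal.IsHomogeneous 𝒜}),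
      (PrimeSpectrum.comap (SetLike.GradeZero.subring 𝒜).subtype p.1).asIdeal ≤
        (PrimeSpectrum.comap (SetLike.GradeZero.subring 𝒜).subtype q.1).asIdeal →
      p.1.asIdeal ≤ q.1.asIdeal := by
    intro p q hpq x hx
    rw [← DirectSum.sum_support_decompose 𝒜 x]
    refine Ideal.sum_mem _ fun n _ => ?_
    have hxn : (decompose 𝒜 x n : S) ∈ p.1.asIdeal := p.2 n hx
    obtain ⟨h, hh0, hh⟩ := key 𝒜 f d hd hf hu n _ (decompose 𝒜 x n).2
    have h1 : h ∈ p.1.asIdeal := (hh _ p.1.2).1 hxn
    have h2 : h ∈ q.1.asIdeal := (hmem q.1 h hh0).1 (hpq ((hmem p.1 h hh0).2 h1))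
    exact (hh _ q.1.2).2 h2
  have hinj : Function.Injective (fun p : {p : PrimeSpectrum S // p.asIdeal.IsHomogeneous 𝒜} =>
      PrimeSpectrum.comap (SetLike.GradeZero.subring 𝒜).subtype p.1) := by
    intro p q hpq
    have hpq' : (PrimeSpectrum.comap (SetLike.GradeZero.subring 𝒜).subtype p.1).asIdeal =
        (PrimeSpectrum.comap (SetLike.GradeZero.subring 𝒜).subtype q.1).asIdeal :=
      congrArg PrimeSpectrum.asIdeal hpq
    apply Subtype.ext
    apply PrimeSpectrum.ext
    exact le_antisymm (hle p q hpq'.le) (hle q p hpq'.ge)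
  have hsurj : Function.Surjective (fun p : {p : PrimeSpectrum S // p.asIdeal.IsHomogeneous 𝒜} =>
      PrimeSpectrum.comap (SetLike.GradeZero.subring 𝒜).subtype p.1) := by
    intro p₀
    have := p₀.2
    -- extension-contraction
    have hec : (p₀.asIdeal.map (SetLike.GradeZero.subring 𝒜).subtype).comap
        (SetLike.GradeZero.subring 𝒜).subtype = p₀.asIdeal := by
      apply le_antisymm _ Ideal.le_comap_map
      intro x hx
      have hx' : (x : S) ∈ p₀.asIdeal.map (SetLike.GradeZero.subring 𝒜).subtype := hx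
      -- every element y of the extended ideal has all `(s * y)_0` in p₀
      have claim : ∀ y ∈ p₀.asIdeal.map (SetLike.GradeZero.subring 𝒜).subtype, ∀ s : S,
          (⟨(decompose 𝒜 (s * y) 0 : S), (decompose 𝒜 (s * y) 0).2⟩ :
            SetLike.GradeZero.subring 𝒜) ∈ p₀.asIdeal := by
        intro y hy
        rw [Ideal.map] at hy
        induction hy using Submodule.span_induction with
        | mem y hy =>
          obtain ⟨a, ha, rfl⟩ := hy
          intro s
          have h1 : (decompose 𝒜 (s * (a : S)) (0 + 0) : S) = decompose 𝒜 s 0 * (a : S) :=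
            coe_decompose_mul_add_of_right_mem 𝒜 a.2
          rw [add_zero] at h1
          have h2 : (⟨(decompose 𝒜 (s * (a : S)) 0 : S), (decompose 𝒜 (s * (a : S)) 0).2⟩ :
              SetLike.GradeZero.subring 𝒜) =
              (⟨(decompose 𝒜 s 0 : S), (decompose 𝒜 s 0).2⟩ : SetLike.GradeZero.subring 𝒜) * a :=
            Subtype.ext h1
          show (⟨(decompose 𝒜 (s * (a : S)) 0 : S), _⟩ : SetLike.GradeZero.subring 𝒜) ∈ p₀.asIdeal
          rw [h2]
          exact p₀.asIdeal.mul_mem_left _ ha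
        | zero =>
          intro s
          convert p₀.asIdeal.zero_mem using 1
          apply Subtype.ext
          show (decompose 𝒜 (s * 0) 0 : S) = 0
          rw [mul_zero, decompose_zero, DirectSum.zero_apply, ZeroMemClass.coe_zero]
        | add y z _ _ hy hz =>
          intro s
          convert p₀.asIdeal.add_mem (hy s) (hz s) using 1
          apply Subtype.ext
          show (decompose 𝒜 (s * (y + z)) 0 : S) =
            (decompose 𝒜 (s * y) 0 : S) + (decompose 𝒜 (s * z) 0 : S)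
          rw [mul_add, decompose_add, DirectSum.add_apply, Submodule.coe_add]
        | smul t y _ hy =>
          intro s
          have := hy (s * t)
          rw [smul_eq_mul, ← mul_assoc]
          exact this
      have h0 := claim x hx' 1
      convert h0 using 1
      apply Subtype.ext
      rw [one_mul]
      exact (decompose_of_mem_same 𝒜 x.2).symm
    obtain ⟨P, hP, hPc⟩ := (Ideal.comap_map_eq_self_iff_of_isPrime p₀.asIdeal).1 hec
    refine ⟨⟨⟨(P.homogeneousCore 𝒜).toIdeal, hP.homogeneousCore⟩,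
      (P.homogeneousCore 𝒜).isHomogeneous⟩, ?_⟩
    apply PrimeSpectrum.ext
    rw [← hPc]
    ext x
    show (x : S) ∈ (P.homogeneousCore 𝒜).toIdeal ↔ (x : S) ∈ P
    constructor
    · intro hx
      exact Ideal.toIdeal_homogeneousCore_le 𝒜 P hx
    · intro hx
      exact Ideal.mem_homogeneousCore_of_homogeneous_of_mem ⟨0, x.2⟩ hx
  have hopen : IsOpenMap (fun p : {p : PrimeSpectrum S // p.asIdeal.IsHomogeneous 𝒜} =>
      PrimeSpectrum.comap (SetLike.GradeZero.subring 𝒜).subtype p.1) := by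
    rw [(isTopologicalBasis_subtype
      PrimeSpectrum.isTopologicalBasis_basic_opens _).isOpenMap_iff]
    rintro _ ⟨_, ⟨g, rfl⟩, rfl⟩
    choose h hh0 hh using fun n : ℤ => key 𝒜 f d hd hf hu n _ (decompose 𝒜 g n).2
    have himg : (fun p : {p : PrimeSpectrum S // p.asIdeal.IsHomogeneous 𝒜} =>
        PrimeSpectrum.comap (SetLike.GradeZero.subring 𝒜).subtype p.1) ''
          (Subtype.val ⁻¹' (PrimeSpectrum.basicOpen g : Set (PrimeSpectrum S))) =
        ⋃ n, (PrimeSpectrum.basicOpen (⟨h n, hh0 n⟩ : SetLike.GradeZero.subring 𝒜) :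
          Set (PrimeSpectrum (SetLike.GradeZero.subring 𝒜))) := by
      ext q
      constructor
      · rintro ⟨p, hp, rfl⟩
        have hg : g ∉ p.1.asIdeal := hp
        have hex : ∃ n, (decompose 𝒜 g n : S) ∉ p.1.asIdeal := by
          by_contra hcon
          push Not at hcon
          apply hg
          rw [← DirectSum.sum_support_decompose 𝒜 g]
          exact Ideal.sum_mem _ fun n _ => hcon n
        obtain ⟨n, hn⟩ := hex
        refine Set.mem_iUnion.2 ⟨n, ?_⟩
        show (⟨h n, hh0 n⟩ : SetLike.GradeZero.subring 𝒜) ∉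
          (PrimeSpectrum.comap (SetLike.GradeZero.subring 𝒜).subtype p.1).asIdeal
        rw [hmem]
        exact fun hc => hn ((hh n _ p.1.2).2 hc)
      · intro hq
        obtain ⟨n, hn⟩ := Set.mem_iUnion.1 hq
        obtain ⟨p, rfl⟩ := hsurj q
        refine ⟨p, ?_, rfl⟩
        show g ∉ p.1.asIdeal
        intro hg
        have hgn : (decompose 𝒜 g n : S) ∈ p.1.asIdeal := p.2 n hg
        exact hn ((hmem p.1 _ (hh0 n)).2 ((hh n _ p.1.2).1 hgn))
    rw [himg]
    exact isOpen_iUnion fun n => (PrimeSpectrum.basicOpen _).2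
  exact ⟨(PrimeSpectrum.continuous_comap _).comp continuous_subtype_val, hopen, hinj, hsurj⟩

end Groth.Agent.S9659
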