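import Groth.Statements.S9671
import Mathlib

set_option autoImplicit false
universe u
open CAlg

namespace Groth.Agent.S9671
open MvPolynomial

section helpers




section quot
variable {R P : Type*} [CommRing R] [CommRing P] [Algebra R P] (Pg : ℕ → Submodule R P)
  [GradedAlgebra Pg] (I : Ideal P)

def qA (d : ℕ) : Submodule R (P ⧸ I) := (Pg d).map (Ideal.Quotient.mkₐ R I).toLinearMap

theorem mem_qA {d : ℕ} {x : P ⧸ I} : x ∈ qA Pg I d ↔ ∃ a ∈ Pg d, Ideal.Quotient.mk I a = x := by
  simp only [qA, Submodule.mem_map]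
  rfl

theorem quot_internal (hI : I.IsHomogeneous Pg) : DirectSum.IsInternal (qA Pg I) := by
  rw [DirectSum.isInternal_submodule_iff_iSupIndep_and_iSup_eq_top]
  constructor
  · intro i
    rw [Submodule.disjoint_def]
    intro x hx1 hx2
    obtain ⟨a, ha, rfl⟩ := (mem_qA Pg I).1 hx1
    have hmap : (⨆ j, ⨆ (_ : j ≠ i), qA Pg I j) =
        (⨆ j, ⨆ (_ : j ≠ i), Pg j).map (Ideal.Quotient.mkₐ R I).toLinearMap := by
      simp only [Submodule.map_iSup]; rfl
    rw [hmap] at hx2
    obtain ⟨b, hb, hbe⟩ := hx2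
    have hb0 : (DirectSum.decompose Pg b i : P) = 0 := by
      have hle : (⨆ j, ⨆ (_ : j ≠ i), Pg j) ≤ LinearMap.ker (GradedAlgebra.proj Pg i) := by
        refine iSup_le fun j => iSup_le fun hj => ?_
        intro y hy
        rw [LinearMap.mem_ker, GradedAlgebra.proj_apply, DirectSum.decompose_of_mem_ne Pg hy hj]
      have := hle hb
      rwa [LinearMap.mem_ker, GradedAlgebra.proj_apply] at this
    have hab : a - b ∈ I := by
      rw [← Ideal.Quotient.eq]
      exact hbe.symm
    have h1 := hI i hab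
    rw [DirectSum.decompose_sub, DirectSum.sub_apply, AddSubgroupClass.coe_sub, hb0, sub_zero,
      DirectSum.decompose_of_mem_same Pg ha] at h1
    exact Ideal.Quotient.eq_zero_iff_mem.2 h1
  · have h1 : (⨆ d, qA Pg I d) = (⨆ d, Pg d).map (Ideal.Quotient.mkₐ R I).toLinearMap := by
      simp only [Submodule.map_iSup]; rfl
    rw [h1, (DirectSum.Decomposition.isInternal Pg).submodule_iSup_eq_top, Submodule.map_top,
      LinearMap.range_eq_top]
    exact Ideal.Quotient.mk_surjective

noncomputable def quotGraded (hI : I.IsHomogeneous Pg) : GradedAlgebra (qA Pg I) :=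
  letI := (quot_internal Pg I hI).chooseDecomposition
  { one_mem := (mem_qA Pg I).2 ⟨1, SetLike.GradedOne.one_mem, rfl⟩
    mul_mem := by
      intro i j x y hx hy
      obtain ⟨a, ha, rfl⟩ := (mem_qA Pg I).1 hx
      obtain ⟨b, hb, rfl⟩ := (mem_qA Pg I).1 hy
      exact (mem_qA Pg I).2 ⟨a * b, SetLike.GradedMul.mul_mem ha hb, map_mul _ _ _⟩
    toDecomposition := inferInstance }

end quot

section main
attribute [local instance] MvPolynomial.gradedAlgebra
variable {R R' : Type u} [CommRing R] [CommRing R'] [Algebra R R'] {n : ℕ}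
  (φ : MvPolynomial (Fin (n+1)) R →ₐ[R] R')

abbrev Pg (R : Type u) [CommRing R] (n : ℕ) : ℕ → Submodule R (MvPolynomial (Fin (n+1)) R) :=
  homogeneousSubmodule (Fin (n+1)) R

noncomputable def II : Ideal (MvPolynomial (Fin (n+1)) R) :=
  Ideal.span {F | ∃ d, 1 ≤ d ∧ F ∈ Pg R n d ∧ φ F = 0}

theorem II_hom : (II φ).IsHomogeneous (Pg R n) :=
  Ideal.homogeneous_span _ _ (by rintro x ⟨d, _, hx, _⟩; exact ⟨d, hx⟩)

theorem II_le_ker : II φ ≤ RingHom.ker (φ : MvPolynomial (Fin (n+1)) R →+* R') :=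
  Ideal.span_le.2 (by rintro x ⟨d, _, _, hx⟩; exact hx)

theorem II_le_cc : II φ ≤ RingHom.ker (constantCoeff : MvPolynomial (Fin (n+1)) R →+* R) := by
  refine Ideal.span_le.2 ?_
  rintro x ⟨d, hd, hx, _⟩
  rw [SetLike.mem_coe, RingHom.mem_ker, constantCoeff_eq]
  rw [mem_homogeneousSubmodule] at hx
  apply hx.coeff_eq_zero
  simp
  omega

theorem mem_II_of_hom {d : ℕ} (hd : 1 ≤ d) {F : MvPolynomial (Fin (n+1)) R}
    (hF : F ∈ Pg R n d) (h : φ F = 0) : F ∈ II φ :=
  Ideal.subset_span ⟨d, hd, hF, h⟩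

abbrev SS := MvPolynomial (Fin (n+1)) R ⧸ II φ

noncomputable instance instGr : GradedAlgebra (qA (Pg R n) (II φ)) := quotGraded _ _ (II_hom φ)

noncomputable def φbar : SS φ →ₐ[R] R' := Ideal.Quotient.liftₐ (II φ) φ (fun a ha => II_le_ker φ ha)

theorem φbar_mk (G : MvPolynomial (Fin (n+1)) R) : φbar φ (Ideal.Quotient.mk _ G) = φ G := by
  rfl

noncomputable def fS : SS φ := Ideal.Quotient.mk _ (X 0)

theorem fS_mem : fS φ ∈ qA (Pg R n) (II φ) 1 :=
  (mem_qA _ _).2 ⟨X 0, isHomogeneous_X _ _, rfl⟩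

variable (h0 : φ (X 0) = 1)
include h0

theorem φbar_fS : φbar φ (fS φ) = 1 := by rw [fS, φbar_mk, h0]

noncomputable def ψ : Localization.Away (fS φ) →+* R' :=
  IsLocalization.Away.lift (fS φ) (g := (φbar φ : SS φ →+* R'))
    (by rw [RingHom.coe_coe, φbar_fS φ h0]; exact isUnit_one)

theorem ψ_alg (x : SS φ) : ψ φ h0 (algebraMap _ _ x) = φbar φ x := by
  rw [ψ, IsLocalization.Away.lift_eq]; rfl

theorem ψ_mk (x : SS φ) (m : ℕ) :
    ψ φ h0 (Localization.mk x (⟨fS φ ^ m, ⟨m, rfl⟩⟩ : Submonoid.powers (fS φ))) = φbar φ x := by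
  have h1 : Localization.mk x (⟨fS φ ^ m, ⟨m, rfl⟩⟩ : Submonoid.powers (fS φ)) * algebraMap (SS φ) (Localization.Away (fS φ)) (fS φ ^ m)
      = algebraMap _ _ x := by
    rw [Localization.mk_eq_mk']
    exact IsLocalization.mk'_spec _ x (⟨fS φ ^ m, ⟨m, rfl⟩⟩ : Submonoid.powers (fS φ))
  have h2 := congrArg (ψ φ h0) h1
  rw [map_mul, ψ_alg, ψ_alg, map_pow, φbar_fS φ h0, one_pow, mul_one] at h2
  exact h2

noncomputable def e0 : HomogeneousLocalization.Away (qA (Pg R n) (II φ)) (fS φ) →+* R' :=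
  (ψ φ h0).comp (algebraMap _ _)

theorem e0_mk (m : ℕ) (x : SS φ) (hx : x ∈ qA (Pg R n) (II φ) (m • 1)) :
    e0 φ h0 (HomogeneousLocalization.Away.mk _ (fS_mem φ) m x hx) = φbar φ x := by
  rw [e0, RingHom.comp_apply, HomogeneousLocalization.algebraMap_apply,
    HomogeneousLocalization.Away.val_mk]
  exact ψ_mk φ h0 x m

theorem e0_inj : Function.Injective (e0 φ h0) := by
  rw [injective_iff_map_eq_zero]
  intro z hz
  obtain ⟨m, x, hx, rfl⟩ := HomogeneousLocalization.Away.mk_surjective _ (fS_mem φ) z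
  rw [e0_mk] at hz
  obtain ⟨G, hG, rfl⟩ := (mem_qA _ _).1 hx
  rw [φbar_mk] at hz
  have hXG : X 0 * G ∈ II φ := by
    apply mem_II_of_hom φ (d := 1 + m • 1) (by omega)
    · exact SetLike.GradedMul.mul_mem (isHomogeneous_X _ _) hG
    · rw [map_mul, hz, mul_zero]
  apply HomogeneousLocalization.val_injective
  rw [HomogeneousLocalization.Away.val_mk, HomogeneousLocalization.val_zero,
    Localization.mk_eq_mk', IsLocalization.mk'_eq_zero_iff]
  refine ⟨⟨fS φ, ⟨1, pow_one _⟩⟩, ?_⟩
  show fS φ * Ideal.Quotient.mk _ G = 0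
  rw [fS, ← map_mul]
  exact Ideal.Quotient.eq_zero_iff_mem.2 hXG

theorem e0_surj (hφ : Function.Surjective φ) : Function.Surjective (e0 φ h0) := by
  intro a
  obtain ⟨F, rfl⟩ := hφ a
  set N := F.totalDegree with hN
  set G : MvPolynomial (Fin (n+1)) R :=
    ∑ d ∈ Finset.range (N + 1), X 0 ^ (N - d) * homogeneousComponent d F with hG
  have hGmem : G ∈ Pg R n (N • 1) := by
    apply Submodule.sum_mem
    intro d hd
    rw [Finset.mem_range] at hd
    have : N • 1 = (N - d) + d := by simp; omega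
    rw [this]
    exact SetLike.GradedMul.mul_mem ((isHomogeneous_X _ _).pow _ |> fun h => by simpa using h)
      (homogeneousComponent_isHomogeneous d F)
  have hφG : φ G = φ F := by
    conv_rhs => rw [← sum_homogeneousComponent F]
    rw [hG, map_sum, map_sum]
    apply Finset.sum_congr rfl
    intro d _
    rw [map_mul, map_pow, h0, one_pow, one_mul]
  refine ⟨HomogeneousLocalization.Away.mk _ (fS_mem φ) N (Ideal.Quotient.mk _ G)
    ((mem_qA _ _).2 ⟨G, hGmem, rfl⟩), ?_⟩
  rw [e0_mk, φbar_mk, hφG]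


theorem main (hφ : Function.Surjective φ) :
    ∃ (S : Type u) (_ : CommRing S) (_ : Algebra R S) (𝒜 : ℕ → Submodule R S) (_ : GradedAlgebra 𝒜) (f : S) (_ : f ∈ 𝒜 1) (s : Finset S)
      (e : HomogeneousLocalization.Away 𝒜 f ≃+* R'),
      Function.Injective (algebraMap R S) ∧ (∀ x ∈ 𝒜 0, x ∈ Set.range (algebraMap R S)) ∧
      (↑s ⊆ (𝒜 1 : Set S)) ∧ Algebra.adjoin R (s : Set S) = ⊤ ∧
      ∀ r : R, (e.symm (algebraMap R R' r)).val = algebraMap S (Localization.Away f) (algebraMap R S r) := by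
  classical
  refine ⟨SS φ, inferInstance, inferInstance, qA (Pg R n) (II φ), instGr φ, fS φ, fS_mem φ,
    Finset.univ.image (fun i => Ideal.Quotient.mk (II φ) (X i)),
    RingEquiv.ofBijective (e0 φ h0) ⟨e0_inj φ h0, e0_surj φ h0 hφ⟩, ?_, ?_, ?_, ?_, ?_⟩
  · rw [injective_iff_map_eq_zero]
    intro r hr
    have h1 : (C r : MvPolynomial (Fin (n+1)) R) ∈ II φ := Ideal.Quotient.eq_zero_iff_mem.1 hr
    have h2 := II_le_cc φ h1
    rwa [RingHom.mem_ker, constantCoeff_C] at h2
  · intro x hx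
    obtain ⟨G, hG, rfl⟩ := (mem_qA _ _).1 hx
    have hG' : G ∈ (1 : Submodule R (MvPolynomial (Fin (n+1)) R)) := by
      rw [← homogeneousSubmodule_zero]; exact hG
    rw [Submodule.mem_one] at hG'
    obtain ⟨r, rfl⟩ := hG'
    exact ⟨r, rfl⟩
  · intro x hx
    rw [Finset.coe_image, Finset.coe_univ, Set.image_univ] at hx
    obtain ⟨i, rfl⟩ := hx
    exact (mem_qA _ _).2 ⟨X i, isHomogeneous_X _ _, rfl⟩
  · rw [Finset.coe_image, Finset.coe_univ, Set.image_univ]
    have h1 : Set.range (fun i => Ideal.Quotient.mk (II φ) (X i)) =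
        (Ideal.Quotient.mkₐ R (II φ)) '' (Set.range (X : Fin (n+1) → MvPolynomial (Fin (n+1)) R)) := by
      rw [← Set.range_comp]; rfl
    rw [h1, Algebra.adjoin_image, MvPolynomial.adjoin_range_X, Algebra.map_top, AlgHom.range_eq_top]
    exact Ideal.Quotient.mk_surjective
  · intro r
    have hmem : algebraMap R (SS φ) r ∈ qA (Pg R n) (II φ) (0 • 1) :=
      (mem_qA _ _).2 ⟨C r, by simpa using isHomogeneous_C _ r, rfl⟩
    have hz : (RingEquiv.ofBijective (e0 φ h0) ⟨e0_inj φ h0, e0_surj φ h0 hφ⟩).symm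
        (algebraMap R R' r) =
        HomogeneousLocalization.Away.mk _ (fS_mem φ) 0 (algebraMap R (SS φ) r) hmem := by
      rw [RingEquiv.symm_apply_eq]
      show _ = e0 φ h0 _
      rw [e0_mk, AlgHom.commutes]
    rw [hz, HomogeneousLocalization.Away.val_mk]
    have : (⟨fS φ ^ 0, ⟨0, rfl⟩⟩ : Submonoid.powers (fS φ)) = 1 := Subtype.ext (pow_zero _)
    rw [this, Localization.mk_one_eq_algebraMap]

end main



end helpers

/-- Let R be a ring and R' an R-algebra of finite type. Then there are an ℕ-graded R-algebra S such that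
R → S₀ is bijective and S is generated as an R-algebra by a finite set of degree-1 elements, an
element f ∈ S₁, and a ring isomorphism e between the degree-zero part S_(f) of the localization S_f
and R' which matches r/1 with the image of r in R' for every r ∈ R (so R' is identified with S_(f)
as an R-algebra). The published statement also produces, from a finite R'-module, a finite graded
S-module whose degree-zero localization at f recovers it; that half is not part of this row. -/
theorem result (R R' : Type u) [CommRing R] [CommRing R'] [Algebra R R'] [Algebra.FiniteType R R'] :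
    ∃ (S : Type u) (_ : CommRing S) (_ : Algebra R S) (𝒜 : ℕ → Submodule R S) (_ : GradedAlgebra 𝒜) (f : S) (_ : f ∈ 𝒜 1) (s : Finset S)
      (e : HomogeneousLocalization.Away 𝒜 f ≃+* R'),
      Function.Injective (algebraMap R S) ∧ (∀ x ∈ 𝒜 0, x ∈ Set.range (algebraMap R S)) ∧
      (↑s ⊆ (𝒜 1 : Set S)) ∧ Algebra.adjoin R (s : Set S) = ⊤ ∧
      ∀ r : R, (e.symm (algebraMap R R' r)).val = algebraMap S (Localization.Away f) (algebraMap R S r) := by
  obtain ⟨n, g, hg⟩ := (Algebra.FiniteType.iff_quotient_mvPolynomial'' (R := R) (S := R')).1 inferInstance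
  let φ : MvPolynomial (Fin (n+1)) R →ₐ[R] R' := aeval (Fin.cases 1 (fun i => g (X i)))
  have h0 : φ (X 0) = 1 := by simp [φ]
  have hφ : Function.Surjective φ := by
    intro a
    obtain ⟨F, rfl⟩ := hg a
    refine ⟨rename Fin.succ F, ?_⟩
    have : (φ.comp (rename Fin.succ)) = g := by
      apply MvPolynomial.algHom_ext
      intro i
      simp [φ]
    rw [← this]; rfl
  exact main φ h0 hφ

end Groth.Agent.S9671
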