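import Groth.Statements.S9672
import Groth.Agent.Lib.helper26.BiratQc

set_option autoImplicit false
universe u
open CategoryTheory CategoryTheory.Limits AlgebraicGeometry
open Mor

namespace Groth.Agent.S9672



/-- Let f : Y ⟶ X be quasi-compact and quasi-separated, and write X' for the normalization of X relative
to Y. If x' ∈ X' is the generic point of some irreducible component of X', then there is a point y ∈
Y that is generic in an irreducible component of Y and is sent to x' by the canonical morphism Y ⟶
X'. -/
theorem result {X Y : Scheme.{u}} (f : Y ⟶ X)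
    [QuasiCompact f] [QuasiSeparated f] (x' : ↥f.normalization)
    (hx' : closure {x'} ∈ irreducibleComponents ↥f.normalization) :
    ∃ y : Y, closure {y} ∈ irreducibleComponents ↥Y ∧ f.toNormalization.base y = x' := by
  have hgen : ∀ z : ↥f.normalization, z ⤳ x' → z = x' := fun z hz =>
    (Groth.Agent.Lib.helper26.LocImm.generic_eq_of_mem_closure hx'
      (specializes_iff_mem_closure.1 hz)).symm
  have hdense : DenseRange f.toNormalization := f.toNormalization.denseRange
  have h1 : x' ∈ closure (f.toNormalization '' Set.univ) := by
    rw [Set.image_univ]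
    exact hdense x'
  obtain ⟨y₀, -, hy₀⟩ := Groth.Agent.Lib.helper26.LocImm.mem_image_of_mem_closure
    f.toNormalization Set.univ isClosed_univ x' hgen h1
  obtain ⟨y, hy, hy₀y⟩ := Groth.Agent.Lib.helper26.LocImm.exists_generic y₀
  refine ⟨y, hy, ?_⟩
  have h2 : y ⤳ y₀ := specializes_iff_mem_closure.2 hy₀y
  have h3 : f.toNormalization y ⤳ f.toNormalization y₀ := h2.map f.toNormalization.continuous
  rw [hy₀] at h3
  exact hgen _ h3

end Groth.Agent.S9672
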