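import Groth.Statements.S9682
import Mathlib
import Groth.Agent.Lib.helper4.QFGeneric

set_option autoImplicit false
universe u
open CategoryTheory CategoryTheory.Limits AlgebraicGeometry
open Mor

namespace Groth.Agent.S9682

/-- Take f : X ⟶ Y locally of finite type and η the generic point of some irreducible component of Y.
Three conditions turn out to coincide: (1) each point of X mapping to η is the generic point of some
irreducible component of X; (2) f is quasi-finite at every point over η; (3) f is quasi-finite at
each point over η that is generic in some irreducible component of X. Stated as (1) iff (2) together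
with (1) iff (3). -/
theorem result {X Y : Scheme.{u}} (f : X ⟶ Y)
    [LocallyOfFiniteType f] (η : Y) (hη : closure {η} ∈ irreducibleComponents ↥Y) :
    ((∀ x : X, f.base x = η → closure {x} ∈ irreducibleComponents ↥X) ↔
      (∀ x : X, f.base x = η → f.QuasiFiniteAt x)) ∧
    ((∀ x : X, f.base x = η → closure {x} ∈ irreducibleComponents ↥X) ↔
      (∀ x : X, f.base x = η → closure {x} ∈ irreducibleComponents ↥X → f.QuasiFiniteAt x)) := by
  have hηmax : ∀ y : Y, y ⤳ η → y = η := fun y hy =>
    Groth.Agent.H4FU.eq_of_specializes_of_closure_mem_irreducibleComponents hη hy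
  have h12 : (∀ x : X, f.base x = η → closure {x} ∈ irreducibleComponents ↥X) →
      (∀ x : X, f.base x = η → f.QuasiFiniteAt x) := by
    intro H1 x hx
    apply Groth.Agent.H4QFG.quasiFiniteAt_of_forall_specializes
    · intro x' _ hs
      exact Groth.Agent.H4FU.eq_of_specializes_of_closure_mem_irreducibleComponents (H1 x hx) hs
    · intro x' hx' hs
      exact (Groth.Agent.H4FU.eq_of_specializes_of_closure_mem_irreducibleComponents
        (H1 x' (hx'.trans hx)) hs).symm
  have h31 : (∀ x : X, f.base x = η → closure {x} ∈ irreducibleComponents ↥X → f.QuasiFiniteAt x) →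
      (∀ x : X, f.base x = η → closure {x} ∈ irreducibleComponents ↥X) := by
    intro H3 x hx
    have hZ : irreducibleComponent x ∈ irreducibleComponents ↥X := irreducibleComponent_mem_irreducibleComponents x
    obtain ⟨ξ, hξ⟩ := QuasiSober.sober hZ.1 (isClosed_of_mem_irreducibleComponents _ hZ)
    have hξx : ξ ⤳ x := by
      rw [specializes_iff_mem_closure, hξ.def]
      exact mem_irreducibleComponent
    have hcl : closure {ξ} ∈ irreducibleComponents ↥X := by
      rw [hξ.def]
      exact hZ
    have hfξ : f.base ξ = η := by
      apply hηmax
      rw [← hx]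
      exact hξx.map f.continuous
    have hqf := H3 ξ hfξ hcl
    have := Groth.Agent.H4QFG.eq_of_specializes_of_quasiFiniteAt f (hfξ.trans hx.symm) hξx (Or.inr hqf)
    rw [← this]
    exact hcl
  refine ⟨⟨h12, ?_⟩, ⟨fun H1 x hx _ => h12 H1 x hx, h31⟩⟩
  intro H2
  exact h31 fun x hx _ => H2 x hx

end Groth.Agent.S9682
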