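import Groth.Statements.S9709
import Mathlib
-- import your own Groth.Agent.* helpers here

set_option autoImplicit false
universe u
open CategoryTheory CategoryTheory.Limits AlgebraicGeometry
open Mor

namespace Groth.Agent.S9709


theorem t1Space_of_integral_over_field {Y : Scheme.{u}} {K : Type u} [Field K]
    (g : Y ⟶ Spec (CommRingCat.of K)) [IsIntegralHom g] : T1Space Y := by
  have hY : IsAffine Y := isAffine_of_isAffineHom g
  have hint : RingHom.IsIntegral (g.appTop).hom :=
    ((HasAffineProperty.iff_of_isAffine (P := @IsIntegralHom)).1 ‹IsIntegralHom g›).2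
  -- the ring of global sections of Spec K is a field
  have hfield : IsField Γ(Spec (CommRingCat.of K), ⊤) :=
    MulEquiv.isField (Field.toIsField K)
      (Scheme.ΓSpecIso (CommRingCat.of K)).commRingCatIsoToRingEquiv.toMulEquiv
  have hT1 : T1Space (PrimeSpectrum Γ(Y, ⊤)) := by
    refine ⟨fun p => ?_⟩
    rw [PrimeSpectrum.isClosed_singleton_iff_isMaximal]
    let _ := hfield.toField
    have hmax : (p.asIdeal.comap (g.appTop).hom).IsMaximal := by
      have hp : (p.asIdeal.comap (g.appTop).hom).IsPrime := Ideal.comap_isPrime _ _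
      rw [Ideal.eq_bot_of_prime (p.asIdeal.comap (g.appTop).hom)]
      exact Ideal.bot_isMaximal
    exact Ideal.isMaximal_of_isIntegral_of_isMaximal_comap' _ hint _ hmax
  have hT1'' : T1Space ↥(Spec Γ(Y, ⊤)) := hT1
  exact (Scheme.homeoOfIso Y.isoSpec).symm.t1Space

/-- Let f : X ⟶ S be an integral morphism. Then every point x of X is closed in its fibre: a point of
f⁻¹(f x) specialising from x equals x. -/
theorem result {X S : Scheme.{u}} (f : X ⟶ S) [IsIntegralHom f] (x : X) :
    closure {x} ∩ f.base ⁻¹' {f.base x} = {x} := by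
  have hint : IsIntegralHom (f.fiberToSpecResidueField (f.base x)) := by
    unfold Scheme.Hom.fiberToSpecResidueField
    exact MorphismProperty.pullback_snd (P := @IsIntegralHom) f _ ‹IsIntegralHom f›
  have hT1 : T1Space (f.fiber (f.base x)) :=
    @t1Space_of_integral_over_field _ _ _ (f.fiberToSpecResidueField (f.base x)) hint
  have hT1' : T1Space (f ⁻¹' {f.base x}) := (f.fiberHomeo (f.base x)).t1Space
  ext x'
  constructor
  · rintro ⟨h1, h2⟩
    have hx : x ∈ f ⁻¹' {f.base x} := rfl
    have : (⟨x', h2⟩ : f ⁻¹' {f.base x}) ∈ closure {(⟨x, hx⟩ : f ⁻¹' {f.base x})} := by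
      rw [closure_subtype]
      simpa using h1
    rw [closure_singleton] at this
    exact congrArg Subtype.val this
  · rintro rfl
    exact ⟨subset_closure rfl, rfl⟩

end Groth.Agent.S9709
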