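import Groth.Statements.S9683
import Mathlib
import Groth.Agent.S9709
-- import your own Groth.Agent.* helpers here

set_option autoImplicit false
universe u
open CategoryTheory CategoryTheory.Limits AlgebraicGeometry
open Mor

namespace Groth.Agent.S9683


theorem exists_ltSeries_lift {α β : Type*} [PartialOrder α] [PartialOrder β] (f : α → β)
    (hsurj : Function.Surjective f)
    (hlift : ∀ (a : α) (b : β), b ≤ f a → ∃ a' ≤ a, f a' = b) (p : LTSeries β) :
    ∃ q : LTSeries α, q.length = p.length ∧ f q.head = p.head := by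
  induction p using RelSeries.inductionOn with
  | singleton b =>
    obtain ⟨a, rfl⟩ := hsurj b
    exact ⟨RelSeries.singleton _ a, rfl, rfl⟩
  | cons p b hb ih =>
    obtain ⟨q, hq, hqh⟩ := ih
    have hb' : b < p.head := hb
    obtain ⟨a', ha', hfa'⟩ := hlift q.head b (hqh ▸ hb'.le)
    have hne : a' ≠ q.head := by
      rintro rfl
      rw [hqh] at hfa'
      exact hb'.ne hfa'.symm
    refine ⟨q.cons a' (lt_of_le_of_ne ha' hne), ?_, ?_⟩
    · simp [hq]
    · simpa using hfa'

theorem krullDim_le_of_lift {α β : Type*} [PartialOrder α] [PartialOrder β] (f : α → β)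
    (hsurj : Function.Surjective f)
    (hlift : ∀ (a : α) (b : β), b ≤ f a → ∃ a' ≤ a, f a' = b) :
    Order.krullDim β ≤ Order.krullDim α := by
  refine iSup_le fun p => ?_
  obtain ⟨q, hq, -⟩ := exists_ltSeries_lift f hsurj hlift p
  rw [← hq]
  exact le_sSup ⟨q, rfl⟩

section
attribute [local instance] specializationOrder

theorem topologicalKrullDim_eq_krullDim (X : Type*) [TopologicalSpace X] [QuasiSober X] [T0Space X] :
    topologicalKrullDim X = Order.krullDim X :=
  Order.krullDim_eq_of_orderIso irreducibleSetEquivPoints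

theorem dim_le {X Y : Scheme.{u}} (f : X ⟶ Y) [IsIntegralHom f] :
    topologicalKrullDim ↥X ≤ topologicalKrullDim ↥Y := by
  rw [topologicalKrullDim_eq_krullDim, topologicalKrullDim_eq_krullDim]
  refine Order.krullDim_le_of_strictMono (fun x => f x) ?_
  intro a b hab
  have h1 : f a ≤ f b := f.continuous.specialization_monotone hab.le
  refine lt_of_le_of_ne h1 ?_
  intro heq
  have hmem : a ∈ closure {b} ∩ f.base ⁻¹' {f.base b} :=
    ⟨specializes_iff_mem_closure.1 hab.le, heq⟩
  rw [Groth.Agent.S9709.result f b] at hmem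
  exact hab.ne hmem

theorem dim_ge {X Y : Scheme.{u}} (f : X ⟶ Y) [IsIntegralHom f] (hs : Surjective f) :
    topologicalKrullDim ↥Y ≤ topologicalKrullDim ↥X := by
  rw [topologicalKrullDim_eq_krullDim, topologicalKrullDim_eq_krullDim]
  have hcl : IsClosedMap f := f.isClosedMap
  refine krullDim_le_of_lift (fun x => f x) hs.surj ?_
  intro a b hb
  have hsub : closure {f a} ⊆ f '' closure {a} := by
    refine (hcl _ isClosed_closure).closure_subset_iff.2 ?_
    rintro _ rfl
    exact ⟨a, subset_closure rfl, rfl⟩
  obtain ⟨a', ha', rfl⟩ := hsub (specializes_iff_mem_closure.1 hb)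
  exact ⟨a', specializes_iff_mem_closure.2 ha', rfl⟩

end

/-- For any integral morphism of schemes f : X ⟶ Y, the dimension of X is at most that of Y, and if f is
surjective then dim X = dim Y (dimensions of the underlying topological spaces). -/
theorem result {X Y : Scheme.{u}} (f : X ⟶ Y) [IsIntegralHom f] :
    topologicalKrullDim ↥X ≤ topologicalKrullDim ↥Y ∧
      (Surjective f → topologicalKrullDim ↥X = topologicalKrullDim ↥Y) := by
  exact ⟨dim_le f, fun hs => le_antisymm (dim_le f) (dim_ge f hs)⟩

end Groth.Agent.S9683
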