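import Groth.Statements.S9685
import Groth.Agent.Lib.helper26.DimEq
import Groth.Agent.S9686

set_option autoImplicit false
universe u
open CategoryTheory CategoryTheory.Limits AlgebraicGeometry
open Mor

namespace Groth.Agent.S9685



/-- Let X and Y be integral schemes with Y locally Noetherian and f : X ⟶ Y dominant and locally of
finite type. If n is the transcendence degree of the function field of X over the function field of
Y (computed on residue fields at the generic points), then dim X ≤ dim Y + n, and equality holds
when the underlying map of f is closed. -/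
theorem result {X Y : Scheme.{u}} [IsIntegral X] [IsIntegral Y]
    [IsLocallyNoetherian Y] (f : X ⟶ Y) [IsDominant f] [LocallyOfFiniteType f] (n : ℕ)
    (hn : letI := (f.residueFieldMap (genericPoint ↥X)).hom.toAlgebra
      Algebra.trdeg (Y.residueField (f.base (genericPoint ↥X))) (X.residueField (genericPoint ↥X)) = n) :
    topologicalKrullDim ↥X ≤ topologicalKrullDim ↥Y + n ∧
      (IsClosedMap f.base → topologicalKrullDim ↥X = topologicalKrullDim ↥Y + n) := by
  have hn' : @Algebra.trdeg (Y.residueField (f (genericPoint X)))
      (X.residueField (genericPoint X)) _ _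
      (f.residueFieldMap (genericPoint X)).hom.toAlgebra = (n : Cardinal.{u}) := hn
  have hle : topologicalKrullDim ↥X ≤ topologicalKrullDim ↥Y + n := by
    refine Groth.Agent.S9686.result f n ?_
    intro ξ hξ
    have : ξ = genericPoint X := by
      rw [irreducibleComponents_eq_singleton] at hξ
      exact (show IsGenericPoint ξ Set.univ from hξ).eq (genericPoint_spec X)
    subst this
    exact hn'.le
  refine ⟨hle, fun hcl => le_antisymm hle ?_⟩
  obtain ⟨x, hx1, hx2⟩ := Groth.Agent.Lib.helper26.DimIneq.exists_point_over_generic f n hn'
  have h1 := Groth.Agent.Lib.helper26.DimIneq.height_le_of_isClosedMap f hcl x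
  rw [hx1] at h1
  have h2 : topologicalKrullDim ↥Y = ((Order.height (genericPoint Y) : ℕ∞) : WithBot ℕ∞) := by
    rw [Groth.Agent.Lib.helper7.DimBC.topologicalKrullDim_eq_krullDim,
      Order.krullDim_eq_iSup_height]
    apply le_antisymm
    · exact iSup_le fun y => by
        have hy : y ≤ genericPoint Y := Scheme.le_iff_specializes.mpr (genericPoint_specializes y)
        exact_mod_cast Order.height_mono hy
    · exact le_iSup (fun y => ((Order.height y : ℕ∞) : WithBot ℕ∞)) (genericPoint Y)
  have h3 : ((Order.height x + Order.coheight x : ℕ∞) : WithBot ℕ∞) ≤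
      topologicalKrullDim ↥X := by
    rw [Groth.Agent.Lib.helper7.DimBC.topologicalKrullDim_eq_krullDim]
    haveI : Nonempty X := ⟨x⟩
    rw [Order.krullDim_eq_iSup_height_add_coheight_of_nonempty]
    exact_mod_cast le_iSup (fun a : X => Order.height a + Order.coheight a) x
  rw [h2]
  calc ((Order.height (genericPoint Y) : ℕ∞) : WithBot ℕ∞) + n
      ≤ ((Order.height x + Order.coheight x : ℕ∞) : WithBot ℕ∞) := by
        rw [hx2]; exact_mod_cast (add_le_add h1 le_rfl)
    _ ≤ _ := h3

end Groth.Agent.S9685
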