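import Groth.Statements.S9688
import Groth.Agent.Lib.helper26.NormAff3

set_option autoImplicit false
universe u
open CategoryTheory CategoryTheory.Limits AlgebraicGeometry
open Mor

namespace Groth.Agent.S9688



/-- Let X be an integral Japanese scheme (every nonempty affine open has Japanese, i.e. N-2, coordinate
ring). Then the normalization morphism X^ν ⟶ X is finite. (The quasi-compactness and
quasi-separatedness binders on Spec K(X) ⟶ X always hold; they are only needed to form the
normalization.) -/
theorem result (X : Scheme.{u}) [IsIntegral X] [QuasiCompact (X.fromSpecStalk (genericPoint ↥X))] [QuasiSeparated (X.fromSpecStalk (genericPoint ↥X))]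
    (hJ : ∀ (U : X.Opens), IsAffineOpen U → ∀ (hne : Nonempty ↥U),
      @CAlg.IsN2 ↑Γ(X, U) _ (@IsIntegral.component_integral X _ U hne)) :
    IsFinite (Curv2.normalizationι X) := by
  open Groth.Agent.Lib.helper26.NormAff in
  refine isFinite_of_chart X (fun U hne => ?_)
  have hgen : genericPoint X ∈ U.1 := genericPoint_mem X U.1 hne
  letI := ((gen X).app U.1).hom.toAlgebra
  letI := (isField_sec X U.1 hgen).toField
  haveI := isFractionRing_sec X U.1 U.2 hgen
  have hneU : Nonempty U.1 := ⟨⟨_, hgen⟩⟩
  letI : IsDomain Γ(X, U.1) := @IsIntegral.component_integral X _ U.1 hneU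
  exact finite_integralClosure_of_isN2 Γ(X, U.1) _ (hJ U.1 U.2 hneU)

end Groth.Agent.S9688
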