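import Groth.Statements.S9693
import Mathlib

set_option autoImplicit false
universe u
open CategoryTheory CategoryTheory.Limits AlgebraicGeometry
open Mor

namespace Groth.Agent.S9693aux
open CategoryTheory CategoryTheory.Limits AlgebraicGeometry Opposite TopologicalSpace

/-- the canonical map `P^n_{S'} ⟶ P^n_S` over `g`. -/
noncomputable def β (n : ℕ) {S S' : Scheme.{u}} (g : S' ⟶ S) :
    CohB1.ProjSpaceOver n S' ⟶ CohB1.ProjSpaceOver n S :=
  pullback.map _ _ _ _ (𝟙 _) g (𝟙 _) (by simp) (specULiftZIsTerminal.hom_ext _ _)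

theorem isPullback_β (n : ℕ) {S S' : Scheme.{u}} (g : S' ⟶ S) :
    IsPullback (β n g) (CohB1.ProjSpaceOver.toBase n S') (CohB1.ProjSpaceOver.toBase n S) g := by
  have hbig : IsPullback (β n g ≫ pullback.fst _ _) (CohB1.ProjSpaceOver.toBase n S')
      (CohB1.ProjSpace.toSpec n (ULift.{u} ℤ)) (g ≫ specULiftZIsTerminal.from S) := by
    have h1 : β n g ≫ pullback.fst _ _ = pullback.fst (CohB1.ProjSpace.toSpec n (ULift.{u} ℤ))
        (specULiftZIsTerminal.from S') :=
      (pullback.lift_fst _ _ _).trans (Category.comp_id _)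
    have h2 : g ≫ specULiftZIsTerminal.from S = specULiftZIsTerminal.from S' :=
      specULiftZIsTerminal.hom_ext _ _
    rw [h1, h2]
    exact IsPullback.of_hasPullback _ _
  refine IsPullback.of_right hbig ?_ (IsPullback.of_hasPullback _ _)
  exact pullback.lift_snd _ _ _

theorem hproj_baseChange {X S S' : Scheme.{u}} (f : X ⟶ S) (hf : RelProj.IsHProjective f)
    (g : S' ⟶ S) : RelProj.IsHProjective (pullback.snd f g) := by
  obtain ⟨n, i, hi, rfl⟩ := hf
  have hβ := isPullback_β n g
  let i' : pullback (i ≫ CohB1.ProjSpaceOver.toBase n S) g ⟶ CohB1.ProjSpaceOver n S' :=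
    hβ.lift (pullback.fst _ _ ≫ i) (pullback.snd _ _) (by rw [Category.assoc, pullback.condition])
  have hi'1 : i' ≫ β n g = pullback.fst _ _ ≫ i := hβ.lift_fst _ _ _
  have hi'2 : i' ≫ CohB1.ProjSpaceOver.toBase n S' = pullback.snd _ _ := hβ.lift_snd _ _ _
  refine ⟨n, i', ?_, hi'2⟩
  have houter : IsPullback (i' ≫ CohB1.ProjSpaceOver.toBase n S') (pullback.fst _ _) g
      (i ≫ CohB1.ProjSpaceOver.toBase n S) := by
    rw [hi'2]
    exact (IsPullback.of_hasPullback (i ≫ CohB1.ProjSpaceOver.toBase n S) g).flip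
  have hleft : IsPullback i' (pullback.fst _ _) (β n g) i :=
    IsPullback.of_right houter hi'1 hβ.flip
  exact MorphismProperty.of_isPullback (P := @IsClosedImmersion) hleft.flip hi

end Groth.Agent.S9693aux

namespace Groth.Agent.S9693

/-- A base change of an H-projective morphism (a closed immersion into some P^n over the base followed
by the projection) is H-projective. -/
theorem result {X S S' : Scheme.{u}} (f : X ⟶ S) (hf : RelProj.IsHProjective f)
    (g : S' ⟶ S) : RelProj.IsHProjective (pullback.snd f g) := by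
  exact Groth.Agent.S9693aux.hproj_baseChange f hf g

end Groth.Agent.S9693
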