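import Groth.Statements.S9696
import Groth.Agent.Lib.helper15.UnramLocus

set_option autoImplicit false
universe u
open CategoryTheory CategoryTheory.Limits AlgebraicGeometry
open Mor

namespace Groth.Agent.S9696

/-- Let f : X ⟶ S be flat and locally of finite presentation and g : S' ⟶ S any morphism, with base
change f' : X ×_S S' ⟶ S' and projection g' : X ×_S S' ⟶ X. Then the open set of points where f' is
etale is the inverse image under g' of the open set of points where f is etale. -/
theorem result {X S S' : Scheme.{u}} (f : X ⟶ S) [Flat f]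
    [LocallyOfFinitePresentation f] (g : S' ⟶ S) (x' : ↑(pullback f g)) :
    (∃ U' : (pullback f g).Opens, x' ∈ U' ∧ Etale (U'.ι ≫ pullback.snd f g)) ↔
      (∃ U : X.Opens, (pullback.fst f g).base x' ∈ U ∧ Etale (U.ι ≫ f)) := by
  have key : ∀ {A B : Scheme.{u}} (h : A ⟶ B) [Flat h] [LocallyOfFinitePresentation h] (a : A),
      (∃ U : A.Opens, a ∈ U ∧ Etale (U.ι ≫ h)) ↔ Groth.Agent.Lib.H15.UL.UnramAt h a := by
    intro A B h _ _ a
    constructor
    · rintro ⟨U, haU, hU⟩
      exact ⟨U, haU, inferInstance⟩
    · rintro ⟨U, haU, hU⟩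
      refine ⟨U, haU, ?_⟩
      rw [Etale.iff_flat_and_formallyUnramified]
      exact ⟨inferInstance, hU, inferInstance⟩
  rw [key, key]
  exact Groth.Agent.Lib.H15.UL.unramAt_iff_of_isPullback (IsPullback.of_hasPullback f g) x'

end Groth.Agent.S9696
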