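import Groth.Statements.S9701
import Mathlib
import Groth.Agent.Lib.helper4.Rat16

set_option autoImplicit false
universe u
open CategoryTheory CategoryTheory.Limits AlgebraicGeometry
open Mor

namespace Groth.Agent.S9701

/-- Let p : X ⟶ S and q : Y ⟶ S with q proper, let x be a point of X whose local ring is a valuation
ring, U ⊆ X an open with x in the closure of U, and f : U ⟶ Y a morphism over S. Assume that X is
Noetherian, or else that X is reduced and has only finitely many irreducible components. Then there
are an open U' of X containing U and x and a morphism f' : U' ⟶ Y over S extending f. -/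
theorem result {X Y S : Scheme.{u}} (p : X ⟶ S) (q : Y ⟶ S)
    [IsProper q] (x : X) (U : X.Opens) (f : (U : Scheme.{u}) ⟶ Y) (hf : f ≫ q = U.ι ≫ p)
    (hx : x ∈ closure (U : Set ↥X))
    (hX : (IsReduced X ∧ (irreducibleComponents ↥X).Finite) ∨ IsNoetherian X)
    (hdom : IsDomain (X.presheaf.stalk x)) (hval : @ValuationRing (X.presheaf.stalk x) _ hdom) :
    ∃ (U' : X.Opens) (hUU' : U ≤ U'), x ∈ U' ∧
      ∃ f' : (U' : Scheme.{u}) ⟶ Y, f' ≫ q = U'.ι ≫ p ∧ X.homOfLE hUU' ≫ f' = f := by
  rcases hX with ⟨hred, hfin⟩ | hN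
  · have := hred
    have := hdom
    obtain ⟨U₀, hxU₀, hint⟩ := Groth.Agent.H4Rat.exists_isIntegral_nhd_of_finite hfin x
    exact Groth.Agent.H4Rat.exists_extension_of_valuationRing_of_nhd p q x U f hf hx U₀ hxU₀
      hdom hval
  · have := hN
    have := hdom
    obtain ⟨U₀, -, hxU₀, hint⟩ := Groth.Agent.H4Rat.exists_integral_affine_nhd x
    exact Groth.Agent.H4Rat.exists_extension_of_valuationRing_of_nhd p q x U f hf hx U₀ hxU₀
      hdom hval

end Groth.Agent.S9701
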