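import Groth.Statements.S9702
import Groth.Agent.Lib.helper4.GenFin6

set_option autoImplicit false
universe u
open CategoryTheory CategoryTheory.Limits AlgebraicGeometry
open Mor

namespace Groth.Agent.S9702

/-- Let X, Y be integral and f : X ⟶ Y dominant and locally of finite type, with ξ the generic point of
X (so f ξ is the generic point of Y). Then the following are equivalent: the residue field of ξ is
finite over that of f ξ; some nonempty affine opens U ⊆ X and V ⊆ Y with f(U) ⊆ V have U ⟶ V finite;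
every point of X that f sends to the generic point of Y equals ξ. Under the extra assumption that f
is quasi-compact or separated, these are also equivalent to: f⁻¹(V) ⟶ V is finite for some nonempty
affine open V ⊆ Y. (The published statement also lists transcendence degree 0 of the function field
extension, which for this finitely generated extension is equivalent to finiteness; this row omits
it.) -/
theorem result {X Y : Scheme.{u}} [IsIntegral X] [IsIntegral Y] (f : X ⟶ Y)
    [IsDominant f] [LocallyOfFiniteType f] :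
    let ξ := genericPoint ↥X
    let A := letI := (f.residueFieldMap ξ).hom.toAlgebra
      Module.Finite (Y.residueField (f.base ξ)) (X.residueField ξ)
    let B := ∃ (U : X.Opens) (V : Y.Opens) (hUV : U ≤ f ⁻¹ᵁ V), IsAffineOpen U ∧ IsAffineOpen V ∧
      Nonempty ↥U ∧ IsFinite (f.resLE V U hUV)
    let C := ∀ x : X, f.base x = genericPoint ↥Y → x = ξ
    let D := ∃ V : Y.Opens, IsAffineOpen V ∧ Nonempty ↥V ∧ IsFinite (f ∣_ V)
    (A ↔ B) ∧ (A ↔ C) ∧ (IsSeparated f ∨ QuasiCompact f → (A ↔ D)) := by
  intro ξ A B C D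
  have hfξ : f ξ = genericPoint Y := Groth.Agent.H4GF.map_genericPoint_of_isDominant f
  have hX : IsField (X.presheaf.stalk ξ) := Field.toIsField X.functionField
  have hY : IsField (Y.presheaf.stalk (f ξ)) := by
    rw [hfξ]
    exact Field.toIsField Y.functionField
  have hAA' : A ↔ f.QuasiFiniteAt ξ :=
    (Groth.Agent.H4GF.quasiFiniteAt_iff_finite_residueFieldMap f ξ hX hY).symm
  have hA'C : f.QuasiFiniteAt ξ → C := fun h x hx =>
    Groth.Agent.H4GF.eq_genericPoint_of_quasiFiniteAt f h x (hx.trans hfξ.symm)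
  have hCB : C → B := fun hC => by
    obtain ⟨U, V, hUV, hU, hV, hξU, -, hfin⟩ :=
      Groth.Agent.H4GF.exists_isFinite_resLE_of_fiber_eq f hC ⊤ trivial
    exact ⟨U, V, hUV, hU, hV, ⟨⟨ξ, hξU⟩⟩, hfin⟩
  have hBA' : B → f.QuasiFiniteAt ξ := by
    rintro ⟨U, V, hUV, hU, hV, ⟨u⟩, hfin⟩
    have hξU : ξ ∈ U :=
      ((genericPoint_spec X).mem_open_set_iff U.isOpen).2 ⟨u.1, trivial, u.2⟩
    exact Groth.Agent.H4GF.quasiFiniteAt_of_isFinite_resLE f U V hUV ξ hξU
  refine ⟨⟨fun hA => hCB (hA'C (hAA'.1 hA)), fun hB => hAA'.2 (hBA' hB)⟩,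
    ⟨fun hA => hA'C (hAA'.1 hA), fun hC => hAA'.2 (hBA' (hCB hC))⟩, ?_⟩
  intro hsq
  constructor
  · intro hA
    have hC := hA'C (hAA'.1 hA)
    rcases hsq with hs | hq
    · obtain ⟨U, V, hUV, hU, hV, hne, hfin⟩ := hCB hC
      have hneV : Nonempty ↥V := by
        obtain ⟨u⟩ := hne
        exact ⟨⟨f u.1, hUV u.2⟩⟩
      exact ⟨V, hV, hneV,
        Groth.Agent.H4GF.isFinite_morphismRestrict_of_isFinite_resLE f U V hUV hne⟩
    · exact Groth.Agent.H4GF.exists_isFinite_morphismRestrict_of_quasiCompact f hC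
  · rintro ⟨V, hV, hne, hfin⟩
    exact hAA'.2 (hBA'
      (Groth.Agent.H4GF.exists_isFinite_resLE_of_isFinite_morphismRestrict f V hV hne))

end Groth.Agent.S9702
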