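import Groth.Statements.S9714
import Mathlib
import Groth.Agent.S0658

set_option autoImplicit false
universe u
open CategoryTheory CategoryTheory.Limits AlgebraicGeometry
open Mor

namespace Groth.Agent.S9714

section Helpers

theorem ring_etale {R B : Type u} [CommRing R] [CommRing B] (hR : IsField R) (φ : R →+* B)
    (h1 : φ.FormallyUnramified) (h2 : φ.FiniteType) : φ.Etale := by
  letI := hR.toField
  letI := φ.toAlgebra
  have h1' : Algebra.FormallyUnramified R B := h1
  have h2' : Algebra.FiniteType R B := h2
  have h3 : Algebra.FormallyEtale R B := Algebra.FormallyEtale.of_formallyUnramified_of_field R B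
  have h4 : Algebra.FinitePresentation R B := Algebra.FinitePresentation.of_finiteType.mp h2'
  show Algebra.Etale R B
  exact ⟨h3, h4⟩

theorem etale_of {k : Type u} [Field k] {X : Scheme.{u}} (f : X ⟶ Spec (CommRingCat.of k))
    [FormallyUnramified f] [LocallyOfFiniteType f] : Etale f := by
  have hfield : IsField Γ(Spec (CommRingCat.of k), ⊤) :=
    (Scheme.ΓSpecIso (CommRingCat.of k)).commRingCatIsoToRingEquiv.toMulEquiv.isField
      (Field.toIsField k)
  rw [HasRingHomProperty.iff_of_source_openCover (P := @Etale) X.affineCover]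
  intro i
  have h1 := (HasRingHomProperty.iff_of_source_openCover (P := @FormallyUnramified)
    X.affineCover).mp (inferInstance : FormallyUnramified f) i
  have h2 := (HasRingHomProperty.iff_of_source_openCover (P := @LocallyOfFiniteType)
    X.affineCover).mp (inferInstance : LocallyOfFiniteType f) i
  exact ring_etale hfield _ h1 h2


theorem main (k : Type u) [Field k] {X : Scheme.{u}}
    (f : X ⟶ Spec (CommRingCat.of k)) :
    (FormallyUnramified f ∧ LocallyOfFiniteType f) ↔
      ∃ (ι : Type u) (K : ι → Type u) (_ : ∀ i, Field (K i)) (_ : ∀ i, Algebra k (K i)),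
        (∀ i, FiniteDimensional k (K i) ∧ Algebra.IsSeparable k (K i)) ∧
        ∃ e : X ≅ ∐ (fun i => Spec (CommRingCat.of (K i))),
          e.hom ≫ Sigma.desc (fun i => Spec.map (CommRingCat.ofHom (algebraMap k (K i)))) = f := by
  constructor
  · rintro ⟨h1, h2⟩
    have het : Etale f := etale_of f
    obtain ⟨ι, K, i1, i2, i3, i4, e, he⟩ := (Groth.Agent.S0658.result k X f).mp het
    refine ⟨ι, K, i1, i2, fun i => ⟨i3 i, i4 i⟩, e.symm, ?_⟩
    rw [Iso.symm_hom, Iso.inv_comp_eq]
    apply Sigma.hom_ext
    intro i
    rw [Sigma.ι_desc, he i]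
  · rintro ⟨ι, K, i1, i2, hK, e, he⟩
    have het : Etale f := (Groth.Agent.S0658.result k X f).mpr
      ⟨ι, K, i1, i2, fun i => (hK i).1, fun i => (hK i).2, e.symm, fun i => by
        rw [Iso.symm_hom, ← he, Iso.inv_hom_id_assoc, Sigma.ι_desc]⟩
    exact ⟨inferInstance, inferInstance⟩

end Helpers

/-- Let k be a field and X a scheme over k. The structure morphism X ⟶ Spec k is unramified (formally
unramified and locally of finite type) if and only if X is isomorphic over k to a disjoint union of
spectra of finite separable field extensions of k. -/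
theorem result (k : Type u) [Field k] {X : Scheme.{u}}
    (f : X ⟶ Spec (CommRingCat.of k)) :
    (FormallyUnramified f ∧ LocallyOfFiniteType f) ↔
      ∃ (ι : Type u) (K : ι → Type u) (_ : ∀ i, Field (K i)) (_ : ∀ i, Algebra k (K i)),
        (∀ i, FiniteDimensional k (K i) ∧ Algebra.IsSeparable k (K i)) ∧
        ∃ e : X ≅ ∐ (fun i => Spec (CommRingCat.of (K i))),
          e.hom ≫ Sigma.desc (fun i => Spec.map (CommRingCat.ofHom (algebraMap k (K i)))) = f := by
  exact main k f

end Groth.Agent.S9714
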