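import Groth.Statements.S9720
import Mathlib
import Groth.Agent.Lib.helper22.UnramFibre
import Groth.Agent.S9714

set_option autoImplicit false
universe u
open CategoryTheory CategoryTheory.Limits AlgebraicGeometry
open Mor

namespace Groth.Agent.S9720

section Helpers

theorem main {X S : Scheme.{u}} (f : X ⟶ S) [LocallyOfFiniteType f]
    (H : ∀ s : S, ∃ (ι : Type u) (K : ι → Type u) (_ : ∀ i, Field (K i))
      (_ : ∀ i, Algebra (S.residueField s) (K i)),
      (∀ i, FiniteDimensional (S.residueField s) (K i) ∧
        Algebra.IsSeparable (S.residueField s) (K i)) ∧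
      ∃ e : f.fiber s ≅ ∐ (fun i => Spec (CommRingCat.of (K i))),
        e.hom ≫ Sigma.desc (fun i => Spec.map (CommRingCat.ofHom
          (algebraMap (S.residueField s) (K i)))) = f.fiberToSpecResidueField s) :
    FormallyUnramified f := by
  apply Groth.Agent.H22.UnramFibre.formallyUnramified_of_jointly_surjective
  intro x
  refine ⟨Spec (S.residueField (f x)), S.fromSpecResidueField (f x), ?_, ?_⟩
  · have : f x ∈ Set.range (S.fromSpecResidueField (f x)) := by
      rw [Scheme.range_fromSpecResidueField]
      rfl
    obtain ⟨y, hy⟩ := this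
    obtain ⟨z, hz1, hz2⟩ := Scheme.Pullback.exists_preimage_pullback x y hy.symm
    exact ⟨z, hz1⟩
  · obtain ⟨ι, K, hK, hA, hfs, e, he⟩ := H (f x)
    exact ((Groth.Agent.S9714.result (S.residueField (f x))
      (f.fiberToSpecResidueField (f x))).mpr ⟨ι, K, hK, hA, hfs, e, he⟩).1

end Helpers

/-- Let f : X ⟶ S be locally of finite type such that for every point s of S the fibre X_s is isomorphic
over κ(s) to a coproduct of schemes Spec K_i, each K_i a finite separable extension field of κ(s).
In that case f is formally unramified (so unramified, being locally of finite type). -/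
theorem result {X S : Scheme.{u}} (f : X ⟶ S) [LocallyOfFiniteType f]
    (H : ∀ s : S, ∃ (ι : Type u) (K : ι → Type u) (_ : ∀ i, Field (K i))
      (_ : ∀ i, Algebra (S.residueField s) (K i)),
      (∀ i, FiniteDimensional (S.residueField s) (K i) ∧ Algebra.IsSeparable (S.residueField s) (K i)) ∧
        ∃ e : f.fiber s ≅ ∐ (fun i => Spec (CommRingCat.of (K i))),
          e.hom ≫ Sigma.desc (fun i => Spec.map (CommRingCat.ofHom (algebraMap (S.residueField s) (K i)))) =
            f.fiberToSpecResidueField s) :
    FormallyUnramified f := by
  exact main f H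

end Groth.Agent.S9720
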