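import Groth.Statements.S9721
import Mathlib

set_option autoImplicit false
universe u
open CategoryTheory AlgebraicGeometry
open Mor

namespace Groth.Agent.S9721aux
open CategoryTheory AlgebraicGeometry

/-- `P (f.resLE U V e)` is `Q (f.appLE U V e)` for affine opens. -/
lemma resLE_iff_appLE {P : MorphismProperty Scheme.{u}}
    {Q : ∀ {R S : Type u} [CommRing R] [CommRing S], (R →+* S) → Prop}
    [HasRingHomProperty P Q] {X Y : Scheme.{u}} (f : X ⟶ Y)
    {U : Y.Opens} (hU : IsAffineOpen U) {V : X.Opens} (hV : IsAffineOpen V) (e : V ≤ f ⁻¹ᵁ U) :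
    P (f.resLE U V e) ↔ Q (f.appLE U V e).hom := by
  have : IsAffine _ := hU
  have : IsAffine _ := hV
  rw [HasRingHomProperty.iff_of_isAffine (P := P)]
  exact ((HasRingHomProperty.isLocal_ringHomProperty P).respectsIso.arrow_mk_iso_iff
    (arrowResLEAppIso f U V e))

/-- If `P` holds on an open `W`, then `Q` holds for `appLE` on affine opens inside `W`. -/
lemma appLE_of_ι_comp {P : MorphismProperty Scheme.{u}}
    {Q : ∀ {R S : Type u} [CommRing R] [CommRing S], (R →+* S) → Prop}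
    [HasRingHomProperty P Q] [P.HasOfPostcompProperty @IsOpenImmersion]
    {X Y : Scheme.{u}} (f : X ⟶ Y) (W : X.Opens) (hW : P (W.ι ≫ f))
    {U : Y.Opens} (hU : IsAffineOpen U) {V : X.Opens} (hV : IsAffineOpen V) (e : V ≤ f ⁻¹ᵁ U)
    (hVW : V ≤ W) :
    Q (f.appLE U V e).hom := by
  rw [← resLE_iff_appLE (P := P) f hU hV e]
  have h1 : P (V.ι ≫ f) := by
    have : V.ι ≫ f = X.homOfLE hVW ≫ W.ι ≫ f := by simp
    rw [this]
    exact IsZariskiLocalAtSource.comp hW _
  rw [← Scheme.Hom.resLE_comp_ι f e] at h1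
  exact MorphismProperty.of_postcomp (W := P) (W' := @IsOpenImmersion) _ U.ι inferInstance h1

/-- Converse: `Q (appLE)` on affine opens gives `P (V.ι ≫ f)`. -/
lemma ι_comp_of_appLE {P : MorphismProperty Scheme.{u}}
    {Q : ∀ {R S : Type u} [CommRing R] [CommRing S], (R →+* S) → Prop}
    [HasRingHomProperty P Q] [P.RespectsRight @IsOpenImmersion]
    {X Y : Scheme.{u}} (f : X ⟶ Y)
    {U : Y.Opens} (hU : IsAffineOpen U) {V : X.Opens} (hV : IsAffineOpen V) (e : V ≤ f ⁻¹ᵁ U)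
    (h : Q (f.appLE U V e).hom) : P (V.ι ≫ f) := by
  rw [← resLE_iff_appLE (P := P) f hU hV e] at h
  rw [← Scheme.Hom.resLE_comp_ι f e]
  exact MorphismProperty.RespectsRight.postcomp (Q := @IsOpenImmersion) _ inferInstance _ h


open RingHom in
/-- Key step: if `Locally Q (appLE V U₁)`, there is a basic open around `x` with `Q`. -/
lemma exists_basicOpen_of_locally
    {Q : ∀ {R S : Type u} [CommRing R] [CommRing S], (R →+* S) → Prop}
    (hQi : RingHom.RespectsIso Q)
    {X Y : Scheme.{u}} (f : X ⟶ Y) {U : Y.Opens} {V : X.Opens} (hV : IsAffineOpen V)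
    (e : V ≤ f ⁻¹ᵁ U) (x : X) (hx : x ∈ V)
    (h : RingHom.Locally Q (f.appLE U V e).hom) :
    ∃ (V' : X.Opens) (_ : IsAffineOpen V') (_ : x ∈ V') (e' : V' ≤ f ⁻¹ᵁ U),
      Q (f.appLE U V' e').hom := by
  rw [locally_iff_isLocalization hQi] at h
  obtain ⟨s, hs, hfs⟩ := h
  apply iSup_basicOpen_of_span_eq_top at hs
  have : x ∈ (⨆ i ∈ s, X.basicOpen i) := hs.symm ▸ hx
  have : ∃ r ∈ s, x ∈ X.basicOpen r := by simpa using this
  obtain ⟨r, hr, hrs⟩ := this
  refine ⟨X.basicOpen r, hV.basicOpen r, hrs, (X.basicOpen_le r).trans e, ?_⟩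
  rw [← f.appLE_map e (homOfLE (X.basicOpen_le r)).op]
  have : IsLocalization.Away r Γ(X, X.basicOpen r) := hV.isLocalization_basicOpen r
  exact hfs r hr _

lemma main {X S : Scheme.{u}} (f : X ⟶ S) (x : X)
    (V : S.Opens) (hV : IsAffineOpen V) (hxV : f x ∈ V) :
    (∃ W : X.Opens, x ∈ W ∧ Smooth (W.ι ≫ f)) ↔
      ∃ (U : X.Opens) (_ : IsAffineOpen U) (_ : x ∈ U) (e : U ≤ f ⁻¹ᵁ V),
        (f.appLE V U e).hom.IsStandardSmooth := by
  constructor
  · rintro ⟨W, hxW, hW⟩
    obtain ⟨U₁, hU₁, hxU₁, hle⟩ := TopologicalSpace.Opens.isBasis_iff_nbhd.mp X.isBasis_affineOpens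
      (show x ∈ W ⊓ f ⁻¹ᵁ V from ⟨hxW, hxV⟩)
    have e : U₁ ≤ f ⁻¹ᵁ V := hle.trans inf_le_right
    have h1 : (f.appLE V U₁ e).hom.Smooth :=
      appLE_of_ι_comp (P := @Smooth) f W hW hV hU₁ e (hle.trans inf_le_left)
    rw [RingHom.smooth_iff_locally_isStandardSmooth] at h1
    exact exists_basicOpen_of_locally RingHom.isStandardSmooth_respectsIso f hU₁ e x hxU₁ h1
  · rintro ⟨U, hU, hxU, e, h⟩
    refine ⟨U, hxU, ?_⟩
    have : MorphismProperty.RespectsRight @Smooth @IsOpenImmersion := inferInstance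
    exact ι_comp_of_appLE (P := @Smooth) f hV hU e h.smooth

end Groth.Agent.S9721aux

namespace Groth.Agent.S9721

/-- Let f : X ⟶ S be a morphism, x a point of X and V an affine open neighbourhood of f(x) in S. Then f
is smooth on some open neighbourhood of x if and only if there is an affine open neighbourhood U of
x with f(U) ⊆ V such that the induced ring map Γ(S, V) ⟶ Γ(X, U) is standard smooth. -/
theorem result {X S : Scheme.{u}} (f : X ⟶ S) (x : X)
    (V : S.Opens) (hV : IsAffineOpen V) (hxV : f x ∈ V) :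
    (∃ W : X.Opens, x ∈ W ∧ Smooth (W.ι ≫ f)) ↔
      ∃ (U : X.Opens) (_ : IsAffineOpen U) (_ : x ∈ U) (e : U ≤ f ⁻¹ᵁ V),
        (f.appLE V U e).hom.IsStandardSmooth := by
  exact S9721aux.main f x V hV hxV

end Groth.Agent.S9721
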