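import Groth.Statements.S9722
import Mathlib
import Groth.Agent.S9721

set_option autoImplicit false
universe u
open CategoryTheory AlgebraicGeometry
open Mor

namespace Groth.Agent.S9722aux
set_option linter.style.haveILetI false
open CategoryTheory AlgebraicGeometry

lemma exists_isStandardEtale_of_etale {R A : Type u} [CommRing R] [CommRing A] [Algebra R A]
    [Algebra.Etale R A] (Q : Ideal A) [hQ : Q.IsPrime] :
    ∃ g ∉ Q, Algebra.IsStandardEtale R (Localization.Away g) := by
  have h : (⟨Q, hQ⟩ : PrimeSpectrum A) ∈ Algebra.etaleLocus R A := by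
    rw [Algebra.etaleLocus_eq_univ_iff_etale.mpr inferInstance]; trivial
  have : Algebra.IsEtaleAt R Q := h
  exact Algebra.IsEtaleAt.exists_isStandardEtale (R := R) Q

lemma mem_basicOpen_iff_notMem_primeIdealOf {X : Scheme.{u}} {U : X.Opens} (hU : IsAffineOpen U)
    (x : X) (hx : x ∈ U) (g : Γ(X, U)) :
    x ∈ X.basicOpen g ↔ g ∉ (hU.primeIdealOf ⟨x, hx⟩).asIdeal := by
  have h1 : hU.fromSpec (hU.primeIdealOf ⟨x, hx⟩) = x := hU.fromSpec_primeIdealOf ⟨x, hx⟩
  have h2 := hU.fromSpec_preimage_basicOpen g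
  have : hU.primeIdealOf ⟨x, hx⟩ ∈ hU.fromSpec ⁻¹ᵁ X.basicOpen g ↔ x ∈ X.basicOpen g := by
    change hU.fromSpec (hU.primeIdealOf ⟨x, hx⟩) ∈ X.basicOpen g ↔ _
    rw [h1]
  rw [← this, h2]
  rfl


lemma isStandardEtale_of_isLocalization {R A B : Type u} [CommRing R] [CommRing A] [CommRing B]
    [Algebra R A] [Algebra A B] (g : A) [IsLocalization.Away g B]
    [Algebra.IsStandardEtale R (Localization.Away g)] (ψ : R →+* B)
    (hψ : ψ = (algebraMap A B).comp (algebraMap R A)) :
    letI := ψ.toAlgebra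
    Algebra.IsStandardEtale R B := by
  subst hψ
  letI := ((algebraMap A B).comp (algebraMap R A)).toAlgebra
  haveI : IsScalarTower R A B := .of_algebraMap_eq' rfl
  let e : Localization.Away g ≃ₐ[A] B := IsLocalization.algEquiv (.powers g) _ _
  exact Algebra.IsStandardEtale.of_equiv (e.restrictScalars R)

lemma main {X S : Scheme.{u}} (f : X ⟶ S) (x : X)
    (V : S.Opens) (hV : IsAffineOpen V) (hxV : f x ∈ V) :
    (∃ W : X.Opens, x ∈ W ∧ Etale (W.ι ≫ f)) ↔
      ∃ (U : X.Opens) (_ : IsAffineOpen U) (_ : x ∈ U) (e : U ≤ f ⁻¹ᵁ V),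
        letI := (f.appLE V U e).hom.toAlgebra
        Algebra.IsStandardEtale Γ(S, V) Γ(X, U) := by
  constructor
  · rintro ⟨W, hxW, hW⟩
    obtain ⟨U₁, hU₁, hxU₁, hle⟩ := TopologicalSpace.Opens.isBasis_iff_nbhd.mp X.isBasis_affineOpens
      (show x ∈ W ⊓ f ⁻¹ᵁ V from ⟨hxW, hxV⟩)
    have e : U₁ ≤ f ⁻¹ᵁ V := hle.trans inf_le_right
    have h1 : (f.appLE V U₁ e).hom.Etale :=
      S9721aux.appLE_of_ι_comp (P := @Etale) f W hW hV hU₁ e (hle.trans inf_le_left)
    letI := (f.appLE V U₁ e).hom.toAlgebra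
    haveI : Algebra.Etale Γ(S, V) Γ(X, U₁) := h1
    obtain ⟨g, hg, hstd⟩ := exists_isStandardEtale_of_etale (R := Γ(S, V))
      (hU₁.primeIdealOf ⟨x, hxU₁⟩).asIdeal
    rw [← mem_basicOpen_iff_notMem_primeIdealOf hU₁ x hxU₁ g] at hg
    refine ⟨X.basicOpen g, hU₁.basicOpen g, hg, (X.basicOpen_le g).trans e, ?_⟩
    haveI : IsLocalization.Away g Γ(X, X.basicOpen g) := hU₁.isLocalization_basicOpen g
    refine isStandardEtale_of_isLocalization (A := Γ(X, U₁)) g _ ?_
    rw [← f.appLE_map e (homOfLE (X.basicOpen_le g)).op]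
    rfl
  · rintro ⟨U, hU, hxU, e, h⟩
    refine ⟨U, hxU, ?_⟩
    have : MorphismProperty.RespectsRight @Etale @IsOpenImmersion := ⟨fun i hi f hf => by
      have : IsOpenImmersion i := hi
      have : Etale f := hf
      exact (inferInstance : Etale (f ≫ i))⟩
    refine S9721aux.ι_comp_of_appLE (P := @Etale) f hV hU e ?_
    letI := (f.appLE V U e).hom.toAlgebra
    haveI := h
    exact (inferInstance : Algebra.Etale Γ(S, V) Γ(X, U))

end Groth.Agent.S9722aux

namespace Groth.Agent.S9722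

/-- Let f : X ⟶ S be a morphism, x a point of X and V an affine open neighbourhood of f(x) in S. Then f
is étale on some open neighbourhood of x if and only if there is an affine open neighbourhood U of x
with f(U) ⊆ V such that Γ(X, U) is a standard étale algebra over Γ(S, V) through the induced ring
map. -/
theorem result {X S : Scheme.{u}} (f : X ⟶ S) (x : X)
    (V : S.Opens) (hV : IsAffineOpen V) (hxV : f x ∈ V) :
    (∃ W : X.Opens, x ∈ W ∧ Etale (W.ι ≫ f)) ↔
      ∃ (U : X.Opens) (_ : IsAffineOpen U) (_ : x ∈ U) (e : U ≤ f ⁻¹ᵁ V),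
        letI := (f.appLE V U e).hom.toAlgebra
        Algebra.IsStandardEtale Γ(S, V) Γ(X, U) := by
  exact S9722aux.main f x V hV hxV

end Groth.Agent.S9722
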