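import Groth.Statements.S9732
import Mathlib

set_option autoImplicit false
universe u
open OmegaSh

namespace Groth.Agent.S9732

section Helpers

open CategoryTheory CategoryTheory.Limits AlgebraicGeometry TensorProduct

section RingLevel

variable (R S' : Type u) [CommRing R] [CommRing S'] [Algebra R S'] (J : Ideal S')

/-- the ideal `J ⊗ 1` of `S' ⊗ S'` -/
noncomputable def J₁ : Ideal (S' ⊗[R] S') :=
  J.map (Algebra.TensorProduct.includeLeft : S' →ₐ[R] S' ⊗[R] S').toRingHom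

/-- the ideal `K² + (J ⊗ 1) K` -/
noncomputable def L : Ideal (S' ⊗[R] S') :=
  KaehlerDifferential.ideal R S' * KaehlerDifferential.ideal R S' ⊔
    J₁ R S' J * KaehlerDifferential.ideal R S'

theorem L_le : L R S' J ≤ KaehlerDifferential.ideal R S' :=
  sup_le Ideal.mul_le_left Ideal.mul_le_right

/-- the multiplication map `(S' ⊗ S')/L → S'` -/
noncomputable def q : (S' ⊗[R] S') ⧸ L R S' J →+* S' :=
  Ideal.Quotient.lift (L R S' J) (Algebra.TensorProduct.lmul' R : S' ⊗[R] S' →ₐ[R] S').toRingHom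
    (fun x hx => L_le R S' J hx)

@[simp] theorem q_mk (x : S' ⊗[R] S') :
    q R S' J (Ideal.Quotient.mk _ x) = Algebra.TensorProduct.lmul' R x := rfl

theorem q_algebraMap (r : R) :
    q R S' J (algebraMap R ((S' ⊗[R] S') ⧸ L R S' J) r) = algebraMap R S' r := by
  change q R S' J (Ideal.Quotient.mk _ (algebraMap R (S' ⊗[R] S') r)) = _
  rw [q_mk, Algebra.TensorProduct.algebraMap_apply]
  simp

theorem J₁_mul_J₁ (hJ : J * J = ⊥) : J₁ R S' J * J₁ R S' J = ⊥ := by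
  unfold J₁
  rw [← Ideal.map_mul, hJ, Ideal.map_bot]

theorem mem_sup_of_lmul_mem (x : S' ⊗[R] S') (hx : Algebra.TensorProduct.lmul' R x ∈ J) :
    x ∈ KaehlerDifferential.ideal R S' ⊔ J₁ R S' J := by
  have h1 : x - (Algebra.TensorProduct.lmul' R x) ⊗ₜ[R] (1 : S') ∈ KaehlerDifferential.ideal R S' := by
    rw [RingHom.mem_ker, map_sub]
    simp
  have h2 : (Algebra.TensorProduct.lmul' R x) ⊗ₜ[R] (1 : S') ∈ J₁ R S' J :=
    Ideal.mem_map_of_mem _ hx
  have : x = (x - (Algebra.TensorProduct.lmul' R x) ⊗ₜ[R] (1 : S')) +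
      (Algebra.TensorProduct.lmul' R x) ⊗ₜ[R] (1 : S') := by ring
  rw [this]
  exact Ideal.add_mem _ (Ideal.mem_sup_left h1) (Ideal.mem_sup_right h2)

theorem sq_le_L (hJ : J * J = ⊥) :
    (KaehlerDifferential.ideal R S' ⊔ J₁ R S' J) * (KaehlerDifferential.ideal R S' ⊔ J₁ R S' J) ≤
      L R S' J := by
  rw [Ideal.sup_mul, Ideal.mul_sup, Ideal.mul_sup, J₁_mul_J₁ R S' J hJ]
  unfold L
  refine sup_le (sup_le le_sup_left ?_) (sup_le le_sup_right bot_le)
  rw [mul_comm]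
  exact le_sup_right

theorem mul_eq_zero_of_q_mem (hJ : J * J = ⊥) (x y : (S' ⊗[R] S') ⧸ L R S' J)
    (hx : q R S' J x ∈ J) (hy : q R S' J y ∈ J) : x * y = 0 := by
  obtain ⟨x, rfl⟩ := Ideal.Quotient.mk_surjective x
  obtain ⟨y, rfl⟩ := Ideal.Quotient.mk_surjective y
  rw [← map_mul, Ideal.Quotient.eq_zero_iff_mem]
  exact sq_le_L R S' J hJ (Ideal.mul_mem_mul (mem_sup_of_lmul_mem R S' J x hx)
    (mem_sup_of_lmul_mem R S' J y hy))

theorem formallyUnramified_of_mem_L (hJ : J * J = ⊥)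
    (H : ∀ x : S', (1 : S') ⊗ₜ[R] x - x ⊗ₜ[R] (1 : S') ∈ L R S' J) :
    Algebra.FormallyUnramified R S' := by
  have hKL : KaehlerDifferential.ideal R S' ≤ L R S' J := by
    rw [← KaehlerDifferential.span_range_eq_ideal, Ideal.span_le]
    rintro _ ⟨x, rfl⟩
    exact H x
  have hJK : J₁ R S' J * KaehlerDifferential.ideal R S' ≤
      KaehlerDifferential.ideal R S' * KaehlerDifferential.ideal R S' := by
    calc J₁ R S' J * KaehlerDifferential.ideal R S'
        ≤ J₁ R S' J * L R S' J := Ideal.mul_mono_right hKL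
      _ = J₁ R S' J * (KaehlerDifferential.ideal R S' * KaehlerDifferential.ideal R S') := by
          unfold L
          rw [Ideal.mul_sup, ← mul_assoc (J₁ R S' J) (J₁ R S' J), J₁_mul_J₁ R S' J hJ,
            Ideal.bot_mul, sup_bot_eq]
      _ ≤ KaehlerDifferential.ideal R S' * KaehlerDifferential.ideal R S' := Ideal.mul_le_right
  have hKK : KaehlerDifferential.ideal R S' ≤
      KaehlerDifferential.ideal R S' * KaehlerDifferential.ideal R S' :=
    hKL.trans (sup_le le_rfl hJK)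
  have hidem : IsIdempotentElem (KaehlerDifferential.ideal R S') :=
    le_antisymm Ideal.mul_le_left hKK
  exact ⟨(Ideal.cotangent_subsingleton_iff _).mpr hidem⟩

end RingLevel

theorem firstOrder_SpecMap {A B : Type u} [CommRing A] [CommRing B] (ρ : A →+* B)
    (hρ : Function.Surjective ρ) (hker : ∀ x y, ρ x = 0 → ρ y = 0 → x * y = 0) :
    MoreMor.IsFirstOrderThickening (Spec.map (CommRingCat.ofHom ρ)) := by
  haveI : IsClosedImmersion (Spec.map (CommRingCat.ofHom ρ)) :=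
    IsClosedImmersion.spec_of_surjective _ hρ
  refine ⟨⟨inferInstance, ⟨?_⟩⟩, ?_⟩
  · intro p
    have hr := range_comap_of_surjective _ ρ hρ
    have hp : p ∈ PrimeSpectrum.zeroLocus (RingHom.ker ρ : Set A) := by
      intro x hx
      have : x * x = 0 := hker x x hx hx
      have h0 : x * x ∈ p.asIdeal := this ▸ p.asIdeal.zero_mem
      exact (p.isPrime.mem_or_mem h0).elim id id
    rw [← hr] at hp
    obtain ⟨q, hq⟩ := hp
    exact ⟨q, hq⟩
  · apply Scheme.IdealSheafData.ext_of_isAffine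
    rw [Scheme.IdealSheafData.ideal_mul, Pi.mul_apply, Scheme.Hom.ker_apply,
      Scheme.IdealSheafData.ideal_bot, Pi.bot_apply]
    refine le_bot_iff.mp (Ideal.mul_le.mpr fun x hx y hy => ?_)
    rw [RingHom.mem_ker] at hx hy
    have hnat := Scheme.ΓSpecIso_naturality (CommRingCat.ofHom ρ)
    have hx' : ρ ((Scheme.ΓSpecIso (.of A)).hom x) = 0 := by
      refine (congr($hnat x)).symm.trans ?_
      change (Scheme.ΓSpecIso (.of B)).hom ((Spec.map (CommRingCat.ofHom ρ)).appTop x) = 0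
      rw [show (Spec.map (CommRingCat.ofHom ρ)).appTop x = 0 from hx, map_zero]
    have hy' : ρ ((Scheme.ΓSpecIso (.of A)).hom y) = 0 := by
      refine (congr($hnat y)).symm.trans ?_
      change (Scheme.ΓSpecIso (.of B)).hom ((Spec.map (CommRingCat.ofHom ρ)).appTop y) = 0
      rw [show (Spec.map (CommRingCat.ofHom ρ)).appTop y = 0 from hy, map_zero]
    have hxy := hker _ _ hx' hy'
    rw [← map_mul] at hxy
    have hinj : Function.Injective (Scheme.ΓSpecIso (.of A)).hom :=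
      (ConcreteCategory.bijective_of_isIso (Scheme.ΓSpecIso (.of A)).hom).1
    rw [Submodule.mem_bot]
    exact hinj (hxy.trans (map_zero _).symm)

theorem firstOrder_iso_comp {T₀ T T' : Scheme.{u}} (e : T₀ ⟶ T) [IsIso e] (j : T ⟶ T')
    (hj : MoreMor.IsFirstOrderThickening j) : MoreMor.IsFirstOrderThickening (e ≫ j) := by
  obtain ⟨⟨hci, hs⟩, hk⟩ := hj
  haveI := hci
  haveI := hs
  refine ⟨⟨inferInstance, inferInstance⟩, ?_⟩
  rw [Scheme.Hom.ker_comp_of_isIso]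
  exact hk

theorem main {Z Z' X : Scheme.{u}} (h : Z ⟶ X) [FormallyUnramified h]
    (i : Z ⟶ Z') (h' : Z' ⟶ X) (hu : OmegaSh.IsUnivThickening h i h') : FormallyUnramified h' := by
  obtain ⟨⟨⟨hci, hsurj⟩, hsq⟩, hih, huniv⟩ := hu
  haveI := hci
  subst hih
  refine ⟨fun {U} hU {V} hV e => ?_⟩
  algebraize [(h'.appLE U V e).hom]
  let J : Ideal Γ(Z', V) := RingHom.ker (i.app V).hom
  have hJ : J * J = ⊥ := by
    have := congr(($hsq).ideal ⟨V, hV⟩)
    simpa [J] using this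
  have hW : IsAffineOpen (i ⁻¹ᵁ V) := hV.preimage i
  let ρ : (Γ(Z', V) ⊗[Γ(X, U)] Γ(Z', V)) ⧸ L Γ(X, U) Γ(Z', V) J →+* Γ(Z, i ⁻¹ᵁ V) :=
    (i.app V).hom.comp (q Γ(X, U) Γ(Z', V) J)
  have hq_surj : Function.Surjective (q Γ(X, U) Γ(Z', V) J) := by
    intro x
    exact ⟨Ideal.Quotient.mk _ (x ⊗ₜ 1), by simp⟩
  have hρ_surj : Function.Surjective ρ := (i.app_surjective V hV).comp hq_surj
  have hρ_ker : ∀ x y, ρ x = 0 → ρ y = 0 → x * y = 0 := fun x y hx hy =>
    mul_eq_zero_of_q_mem _ _ J hJ x y hx hy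
  let j : (i ⁻¹ᵁ V).toScheme ⟶ Spec (.of ((Γ(Z', V) ⊗[Γ(X, U)] Γ(Z', V)) ⧸ L Γ(X, U) Γ(Z', V) J)) :=
    hW.isoSpec.hom ≫ Spec.map (CommRingCat.ofHom ρ)
  have hj : MoreMor.IsFirstOrderThickening j :=
    firstOrder_iso_comp _ _ (firstOrder_SpecMap ρ hρ_surj hρ_ker)
  let b : Spec (.of ((Γ(Z', V) ⊗[Γ(X, U)] Γ(Z', V)) ⧸ L Γ(X, U) Γ(Z', V) J)) ⟶ X :=
    Spec.map (CommRingCat.ofHom (algebraMap Γ(X, U)
      ((Γ(Z', V) ⊗[Γ(X, U)] Γ(Z', V)) ⧸ L Γ(X, U) Γ(Z', V) J))) ≫ hU.fromSpec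
  have e' : i ⁻¹ᵁ V ≤ (i ≫ h') ⁻¹ᵁ U := by
    intro z hz
    exact e hz
  have happ : i.app V = i.appLE V (i ⁻¹ᵁ V) le_rfl := Scheme.Hom.app_eq_appLE _
  have hcomp : CommRingCat.ofHom (algebraMap Γ(X, U)
      ((Γ(Z', V) ⊗[Γ(X, U)] Γ(Z', V)) ⧸ L Γ(X, U) Γ(Z', V) J)) ≫ CommRingCat.ofHom ρ =
      (i ≫ h').appLE U (i ⁻¹ᵁ V) e' := by
    rw [← Scheme.Hom.appLE_comp_appLE i h' U V (i ⁻¹ᵁ V) e le_rfl, ← happ]
    ext r
    change (i.app V).hom (q Γ(X, U) Γ(Z', V) J (algebraMap Γ(X, U) _ r)) = _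
    rw [q_algebraMap]
    rfl
  have hab : j ≫ b = (i ⁻¹ᵁ V).ι ≫ i ≫ h' := by
    simp only [j, b, Category.assoc]
    rw [← Spec.map_comp_assoc, hcomp, hU.SpecMap_appLE_fromSpec (i ≫ h') hW e',
      hW.isoSpec_hom_fromSpec_assoc]
  obtain ⟨a', -, huniq⟩ := huniv _ _ j b (i ⁻¹ᵁ V).ι hj hab
  let f₁ : Γ(Z', V) →+* (Γ(Z', V) ⊗[Γ(X, U)] Γ(Z', V)) ⧸ L Γ(X, U) Γ(Z', V) J :=
    (Ideal.Quotient.mk _).comp
      (Algebra.TensorProduct.includeLeft : Γ(Z', V) →ₐ[Γ(X, U)] _).toRingHom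
  let f₂ : Γ(Z', V) →+* (Γ(Z', V) ⊗[Γ(X, U)] Γ(Z', V)) ⧸ L Γ(X, U) Γ(Z', V) J :=
    (Ideal.Quotient.mk _).comp
      (Algebra.TensorProduct.includeRight : Γ(Z', V) →ₐ[Γ(X, U)] _).toRingHom
  have key : ∀ f : Γ(Z', V) →+* (Γ(Z', V) ⊗[Γ(X, U)] Γ(Z', V)) ⧸ L Γ(X, U) Γ(Z', V) J,
      ρ.comp f = (i.app V).hom →
      f.comp (h'.appLE U V e).hom = algebraMap Γ(X, U) _ →
      Spec.map (CommRingCat.ofHom f) ≫ hV.fromSpec = a' := by
    intro f hf1 hf2
    apply huniq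
    constructor
    · simp only [j, Category.assoc]
      rw [← Spec.map_comp_assoc, ← CommRingCat.ofHom_comp, hf1, CommRingCat.ofHom_hom, happ,
        hV.SpecMap_appLE_fromSpec i hW le_rfl, hW.isoSpec_hom_fromSpec_assoc]
    · simp only [b, Category.assoc]
      rw [← hU.SpecMap_appLE_fromSpec h' hV e, ← Spec.map_comp_assoc]
      congr 2
      ext r
      exact congr($hf2 r)
  have h1 := key f₁ (by ext x; simp [ρ, f₁]) (by
    ext r
    simp only [f₁, RingHom.comp_apply, AlgHom.toRingHom_eq_coe, RingHom.coe_coe]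
    rw [show (h'.appLE U V e).hom r = algebraMap Γ(X, U) Γ(Z', V) r from rfl, AlgHom.commutes]
    rfl)
  have h2 := key f₂ (by ext x; simp [ρ, f₂]) (by
    ext r
    simp only [f₂, RingHom.comp_apply, AlgHom.toRingHom_eq_coe, RingHom.coe_coe]
    rw [show (h'.appLE U V e).hom r = algebraMap Γ(X, U) Γ(Z', V) r from rfl, AlgHom.commutes]
    rfl)
  have h12 : f₁ = f₂ := by
    have := h1.trans h2.symm
    rw [cancel_mono, Spec.map_inj] at this
    exact congrArg CommRingCat.Hom.hom this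
  refine formallyUnramified_of_mem_L _ _ J hJ (fun x => ?_)
  have hx := congr($h12 x)
  simp only [f₁, f₂, RingHom.comp_apply, AlgHom.toRingHom_eq_coe, RingHom.coe_coe,
    Algebra.TensorProduct.includeLeft_apply, Algebra.TensorProduct.includeRight_apply] at hx
  exact Ideal.Quotient.eq.mp hx.symm

end Helpers

open AlgebraicGeometry CategoryTheory Limits in
/-- Let h : Z ⟶ X be formally unramified and let (i : Z ⟶ Z', h' : Z' ⟶ X) be a universal first order
thickening of Z over X. Then h' is formally unramified. -/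
theorem result {Z Z' X : Scheme.{u}} (h : Z ⟶ X) [FormallyUnramified h]
    (i : Z ⟶ Z') (h' : Z' ⟶ X) (hu : OmegaSh.IsUnivThickening h i h') : FormallyUnramified h' := by
  exact main h i h' hu

end Groth.Agent.S9732
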