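import Groth.Statements.S9734
import Mathlib
import Groth.Agent.Lib.helper3.EtNbhdRes
-- import your own Groth.Agent.* helpers here

set_option autoImplicit false
universe u
open FlatMor

namespace Groth.Agent.S9734

open AlgebraicGeometry CategoryTheory Limits in
/-- Let S be a scheme, s a point of S and k a finite separable field extension of the residue field
κ(s). Then there is an étale neighbourhood (U, u) ⟶ (S, s) whose residue field extension κ(u)/κ(s)
is isomorphic to k/κ(s). -/
theorem result (S : Scheme.{u}) (s : S) (k : Type u) [Field k]
    [Algebra (S.residueField s) k] [FiniteDimensional (S.residueField s) k] [Algebra.IsSeparable (S.residueField s) k] :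
    ∃ (U : Scheme.{u}) (g : U ⟶ S) (u : U) (hu : g u = s), Etale g ∧
      letI := ((S.residueFieldCongr hu).inv ≫ g.residueFieldMap u).hom.toAlgebra
      Nonempty (k ≃ₐ[S.residueField s] U.residueField u) := by
  obtain ⟨x₀, hx₀⟩ := S.affineCover.covers s
  have hx : (((S.affineCover.X (S.affineCover.idx s)).isoSpec.inv ≫
      S.affineCover.f (S.affineCover.idx s) :
        Spec Γ(S.affineCover.X (S.affineCover.idx s), ⊤) ⟶ S))
      ((S.affineCover.X (S.affineCover.idx s)).isoSpec.hom x₀) = s := by
    rw [← Scheme.Hom.comp_apply, ← Category.assoc, Iso.hom_inv_id, Category.id_comp]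
    exact hx₀
  exact Groth.Agent.Lib.helper3.EtNbhdRes.main_of_chart S s _ _ _ hx k

end Groth.Agent.S9734
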