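import Groth.Statements.S9740
import Mathlib

set_option autoImplicit false
universe u
open OmegaSh

namespace Groth.Agent.S9740

section Helpers

open CategoryTheory CategoryTheory.Limits AlgebraicGeometry

theorem firstOrder_restrict {Z Z' : Scheme.{u}} (i : Z ⟶ Z')
    (hi : MoreMor.IsFirstOrderThickening i) (V' : Z'.Opens) :
    MoreMor.IsFirstOrderThickening (i ∣_ V') := by
  obtain ⟨⟨hci, hs⟩, hk⟩ := hi
  haveI := hci
  refine ⟨⟨IsZariskiLocalAtTarget.restrict (P := @IsClosedImmersion) hci V',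
    IsZariskiLocalAtTarget.restrict (P := @Surjective) hs V'⟩, ?_⟩
  apply Scheme.IdealSheafData.ext
  funext W
  rw [Scheme.IdealSheafData.ideal_mul, Pi.mul_apply, Scheme.ker_morphismRestrict_ideal]
  have := congr(($hk).ideal ⟨V'.ι ''ᵁ W, W.2.image_of_isOpenImmersion _⟩)
  rw [Scheme.IdealSheafData.ideal_mul, Pi.mul_apply] at this
  exact this

theorem main {Z Z' X : Scheme.{u}} (h : Z ⟶ X) (i : Z ⟶ Z') (h' : Z' ⟶ X)
    (hu : OmegaSh.IsUnivThickening h i h') (V : Z.Opens) (U : X.Opens) (hVU : V ≤ h ⁻¹ᵁ U)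
    (V' : Z'.Opens) (hV' : i ⁻¹ᵁ V' = V) (hV'U : V' ≤ h' ⁻¹ᵁ U) :
    OmegaSh.IsUnivThickening (h.resLE U V hVU) (i.resLE V' V hV'.ge) (h'.resLE U V' hV'U) := by
  obtain ⟨hfo, hih, huniv⟩ := hu
  subst hV'
  refine ⟨?_, ?_, ?_⟩
  · rw [Scheme.Hom.resLE_eq_morphismRestrict]
    exact firstOrder_restrict i hfo V'
  · rw [← cancel_mono U.ι, Category.assoc, Scheme.Hom.resLE_comp_ι,
      Scheme.Hom.resLE_comp_ι_assoc, Scheme.Hom.resLE_comp_ι, hih]
  · intro T T' j b a hj hjb
    have hjs : Surjective j := hj.1.2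
    have hcond : j ≫ (b ≫ U.ι) = (a ≫ (i ⁻¹ᵁ V').ι) ≫ h := by
      rw [← Category.assoc, hjb, Category.assoc, Category.assoc, Scheme.Hom.resLE_comp_ι]
    obtain ⟨a'', ⟨ha1, ha2⟩, huniq⟩ := huniv T T' j (b ≫ U.ι) (a ≫ (i ⁻¹ᵁ V').ι) hj hcond
    have hrange : Set.range a'' ⊆ Set.range V'.ι := by
      rintro _ ⟨t', rfl⟩
      obtain ⟨t, rfl⟩ := hjs.surj t'
      rw [← Scheme.Hom.comp_apply, ha1, Scheme.Opens.range_ι]
      simp only [Scheme.Hom.comp_apply]
      exact (a t).2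
    refine ⟨IsOpenImmersion.lift V'.ι a'' hrange, ⟨?_, ?_⟩, ?_⟩
    · rw [← cancel_mono V'.ι, Category.assoc, IsOpenImmersion.lift_fac, ha1, Category.assoc,
        Category.assoc, Scheme.Hom.resLE_comp_ι]
    · rw [← cancel_mono U.ι, Category.assoc, Scheme.Hom.resLE_comp_ι,
        IsOpenImmersion.lift_fac_assoc, ha2]
    · rintro ā ⟨hā1, hā2⟩
      rw [← cancel_mono V'.ι, IsOpenImmersion.lift_fac]
      apply huniq
      constructor
      · rw [← Category.assoc, hā1, Category.assoc, Category.assoc, Scheme.Hom.resLE_comp_ι]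
      · rw [Category.assoc, ← Scheme.Hom.resLE_comp_ι h' hV'U, ← Category.assoc, hā2]

end Helpers

open AlgebraicGeometry CategoryTheory Limits in
/-- Let h : Z ⟶ X be formally unramified with universal first order thickening (i : Z ⟶ Z', h' : Z' ⟶
X), let V ⊆ Z and U ⊆ X be opens with h(V) ⊆ U, and let V' ⊆ Z' be the open with i⁻¹(V') = V (so
h'(V') ⊆ U). Then the restricted pair (V ⟶ V', V' ⟶ U) is a universal first-order thickening for the
restriction V ⟶ U of h. The published statement also asserts that this restriction is formally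
unramified and that the conormal sheaf of Z over X restricts on V to that of V over U; this row
states only the thickening part. -/
theorem result {Z Z' X : Scheme.{u}} (h : Z ⟶ X) [FormallyUnramified h] (i : Z ⟶ Z') (h' : Z' ⟶ X)
    (hu : OmegaSh.IsUnivThickening h i h') (V : Z.Opens) (U : X.Opens) (hVU : V ≤ h ⁻¹ᵁ U)
    (V' : Z'.Opens) (hV' : i ⁻¹ᵁ V' = V) (hV'U : V' ≤ h' ⁻¹ᵁ U) :
    OmegaSh.IsUnivThickening (h.resLE U V hVU) (i.resLE V' V hV'.ge) (h'.resLE U V' hV'U) := by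
  exact main h i h' hu V U hVU V' hV' hV'U

end Groth.Agent.S9740
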