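import Groth.Statements.S9741
import Mathlib

set_option autoImplicit false
universe u
open OmegaSh

namespace Groth.Agent.S9741

section Helpers

open CategoryTheory CategoryTheory.Limits AlgebraicGeometry

theorem firstOrder_of_comp {A B C : Scheme.{u}} (k : A ⟶ B) (p : B ⟶ C) [IsClosedImmersion p]
    (hi : MoreMor.IsFirstOrderThickening (k ≫ p)) : MoreMor.IsFirstOrderThickening k := by
  obtain ⟨⟨hci, hs⟩, hk⟩ := hi
  haveI := hci
  haveI : IsClosedImmersion k := IsClosedImmersion.of_comp_isClosedImmersion k p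
  refine ⟨⟨inferInstance, ⟨?_⟩⟩, ?_⟩
  · intro y
    obtain ⟨x, hx⟩ := hs.surj (p y)
    refine ⟨x, ?_⟩
    apply p.isClosedEmbedding.injective
    rw [← Scheme.Hom.comp_apply]
    exact hx
  · refine le_bot_iff.mp (Scheme.IdealSheafData.le_of_iSup_eq_top
      (fun W' : C.affineOpens => (⟨p ⁻¹ᵁ W'.1, W'.2.preimage p⟩ : B.affineOpens)) ?_ ?_)
    · change ⨆ W' : C.affineOpens, p ⁻¹ᵁ W'.1 = ⊤
      rw [← Scheme.Hom.preimage_iSup, iSup_affineOpens_eq_top]
      rfl
    · intro W'
      rw [Scheme.IdealSheafData.ideal_mul, Pi.mul_apply, Scheme.Hom.ker_apply]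
      refine Ideal.mul_le.mpr fun x hx y hy => ?_
      rw [RingHom.mem_ker] at hx hy
      obtain ⟨x', rfl⟩ := p.app_surjective W'.1 W'.2 x
      obtain ⟨y', rfl⟩ := p.app_surjective W'.1 W'.2 y
      have hx' : x' ∈ (k ≫ p).ker.ideal W' := by
        rw [Scheme.Hom.ker_apply, RingHom.mem_ker, Scheme.Hom.comp_app]
        exact hx
      have hy' : y' ∈ (k ≫ p).ker.ideal W' := by
        rw [Scheme.Hom.ker_apply, RingHom.mem_ker, Scheme.Hom.comp_app]
        exact hy
      have hxy : x' * y' ∈ ((k ≫ p).ker * (k ≫ p).ker).ideal W' := by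
        rw [Scheme.IdealSheafData.ideal_mul, Pi.mul_apply]
        exact Ideal.mul_mem_mul hx' hy'
      rw [hk] at hxy
      have h0 : x' * y' = 0 := hxy
      rw [← map_mul, h0, map_zero]
      exact Submodule.zero_mem _

theorem main {Z Y X Z' Y' : Scheme.{u}} (a : Z ⟶ Y) (b : Y ⟶ X)
    (i : Z ⟶ Z') (c : Z' ⟶ X) (hZ : OmegaSh.IsUnivThickening (a ≫ b) i c)
    (j : Y ⟶ Y') (d : Y' ⟶ X) (hY : OmegaSh.IsUnivThickening b j d) :
    ∃ (m : Z' ⟶ Y') (hm : i ≫ m = a ≫ j), m ≫ d = c ∧
      OmegaSh.IsUnivThickening a (pullback.lift a i hm.symm) (pullback.fst j m) := by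
  obtain ⟨hi, hic, hZu⟩ := hZ
  obtain ⟨hj, hjd, hYu⟩ := hY
  obtain ⟨m, ⟨hm, hmd⟩, -⟩ := hYu Z Z' i c a hi (by rw [hic])
  refine ⟨m, hm, hmd, ?_, pullback.lift_fst _ _ _, ?_⟩
  · haveI : IsClosedImmersion j := hj.1.1
    apply firstOrder_of_comp _ (pullback.snd j m)
    rw [pullback.lift_snd]
    exact hi
  · intro T T' jT β α hjT hcond
    -- the lift to Z'
    obtain ⟨α', ⟨hα'1, hα'2⟩, hα'u⟩ := hZu T T' jT (β ≫ b) α hjT
      (by rw [← Category.assoc, hcond, Category.assoc])
    -- compatibility in Y'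
    have hcompat : β ≫ j = α' ≫ m := by
      obtain ⟨μ, -, hμu⟩ := hYu T T' jT (β ≫ b) (α ≫ a) hjT
        (by rw [← Category.assoc, hcond, Category.assoc])
      have h1 : β ≫ j = μ := hμu _ ⟨by rw [← Category.assoc, hcond, Category.assoc],
        by rw [Category.assoc, hjd]⟩
      have h2 : α' ≫ m = μ := hμu _ ⟨by rw [← Category.assoc, hα'1, Category.assoc, hm,
        Category.assoc], by rw [Category.assoc, hmd, hα'2]⟩
      rw [h1, h2]
    refine ⟨pullback.lift β α' hcompat, ⟨?_, pullback.lift_fst _ _ _⟩, ?_⟩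
    · apply pullback.hom_ext
      · rw [Category.assoc, pullback.lift_fst, Category.assoc, pullback.lift_fst, hcond]
      · rw [Category.assoc, pullback.lift_snd, Category.assoc, pullback.lift_snd, hα'1]
    · rintro α₂ ⟨hα₂1, hα₂2⟩
      have h3 : α₂ ≫ pullback.snd j m = α' := by
        apply hα'u
        constructor
        · rw [← Category.assoc, hα₂1, Category.assoc, pullback.lift_snd]
        · rw [← hmd, Category.assoc, ← pullback.condition_assoc, hjd, ← Category.assoc, hα₂2]
      apply pullback.hom_ext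
      · rw [hα₂2, pullback.lift_fst]
      · rw [h3, pullback.lift_snd]

end Helpers

open AlgebraicGeometry CategoryTheory Limits in
/-- Let a : Z ⟶ Y and b : Y ⟶ X be formally unramified, let (i : Z ⟶ Z', c : Z' ⟶ X) be universal among
first order thickenings of Z relative to X (for a ≫ b), and (j : Y ⟶ Y', d : Y' ⟶ X) likewise for Y
relative to X (for b). Then there is a morphism of thickenings m : Z' ⟶ Y' over X (i ≫ m = a ≫ j and
m ≫ d = c) such that Z ⟶ Y ×_{Y'} Z' (components a and i), together with the projection to Y, is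
universal among first order thickenings of Z relative to Y (for a). The published statement also
asserts an exact sequence of conormal sheaves; this row states only the thickening assertion. -/
theorem result {Z Y X Z' Y' : Scheme.{u}} (a : Z ⟶ Y) (b : Y ⟶ X)
    [FormallyUnramified a] [FormallyUnramified b] (i : Z ⟶ Z') (c : Z' ⟶ X) (hZ : OmegaSh.IsUnivThickening (a ≫ b) i c)
    (j : Y ⟶ Y') (d : Y' ⟶ X) (hY : OmegaSh.IsUnivThickening b j d) :
    ∃ (m : Z' ⟶ Y') (hm : i ≫ m = a ≫ j), m ≫ d = c ∧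
      OmegaSh.IsUnivThickening a (pullback.lift a i hm.symm) (pullback.fst j m) := by
  exact main a b i c hZ j d hY

end Groth.Agent.S9741
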