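import Groth.Statements.S9748
import Mathlib
import Groth.Agent.Lib.helper9.QcohLocal
import Groth.Agent.Lib.helper9.FinAff

set_option autoImplicit false
universe u
open Flatn

namespace Groth.Agent.S9748

section Helpers

open AlgebraicGeometry CategoryTheory Limits Opposite

theorem fp_of_quot {P A : Type u} [CommRing P] [CommRing A] (φ : P →+* A)
    (hφ : Function.Surjective φ) {N₁ N₂ N₃ : Type u}
    [AddCommGroup N₁] [Module A N₁] [AddCommGroup N₂] [Module A N₂] [AddCommGroup N₃] [Module A N₃]
    (i : N₁ →ₗ[A] N₂) (p : N₂ →ₗ[A] N₃) (hex : Function.Exact i p) (hp : Function.Surjective p)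
    (hfin : Module.Finite A N₁)
    (h : letI := Module.compHom N₂ φ; Module.FinitePresentation P N₂) :
    letI := Module.compHom N₃ φ; Module.FinitePresentation P N₃ := by
  letI : Algebra P A := φ.toAlgebra
  letI := Module.compHom N₁ φ
  letI := Module.compHom N₂ φ
  letI := Module.compHom N₃ φ
  haveI : IsScalarTower P A N₁ := IsScalarTower.of_algebraMap_smul (fun c x => rfl)
  have hs1 : ∀ (r : P) (x : N₁), r • x = φ r • x := fun _ _ => rfl
  have hs2 : ∀ (r : P) (x : N₂), r • x = φ r • x := fun _ _ => rfl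
  have hs3 : ∀ (r : P) (x : N₃), r • x = φ r • x := fun _ _ => rfl
  let p' : N₂ →ₗ[P] N₃ :=
    { toFun := p
      map_add' := p.map_add
      map_smul' := fun r x => by
        simp only [RingHom.id_apply]
        rw [hs2, hs3, p.map_smul] }
  let i' : N₁ →ₗ[P] N₂ :=
    { toFun := i
      map_add' := i.map_add
      map_smul' := fun r x => by
        simp only [RingHom.id_apply]
        rw [hs1, hs2, i.map_smul] }
  haveI : Module.Finite P A := Module.Finite.of_surjective (Algebra.linearMap P A) hφ
  haveI : Module.Finite P N₁ := Module.Finite.trans A N₁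
  haveI : Module.FinitePresentation P N₂ := h
  have hker : (LinearMap.ker p').FG := by
    have h1 : LinearMap.ker p' = LinearMap.range i' := by
      ext x
      rw [LinearMap.mem_ker, LinearMap.mem_range]
      exact hex x
    rw [h1, LinearMap.range_eq_map]
    exact (Module.Finite.fg_top).map _
  exact Module.finitePresentation_of_surjective p' hp hker

theorem sections_exact {X : Scheme.{u}} (E : ShortComplex X.Modules) (hE : E.ShortExact)
    (U : X.Opens) :
    Function.Exact (E.f.val.app (op U)).hom (E.g.val.app (op U)).hom := by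
  haveI : (SheafOfModules.evaluation X.ringCatSheaf (op U)).Additive := ⟨fun {_ _ f g} => rfl⟩
  have h := (Functor.preservesFiniteLimits_iff_forall_exact_map_and_mono
    (SheafOfModules.evaluation X.ringCatSheaf (op U))).mp inferInstance E hE
  exact (ShortComplex.ShortExact.moduleCat_exact_iff_function_exact _).mp h.1

open Scheme.Modules Groth.Agent.Lib.helper9.CohB Groth.Agent.Lib.helper9.AffSect
  Groth.Agent.Lib.helper9.FPLocal Groth.Agent.Lib.helper9.QcohLocal in
set_option backward.isDefEq.respectTransparency false in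
theorem sections_surjective {X : Scheme.{u}} {G C : X.Modules} (π : G ⟶ C) [Epi π]
    [G.IsQuasicoherent] [C.IsQuasicoherent] {W : X.Opens} (hW : IsAffineOpen W) :
    Function.Surjective (π.val.app (op W)).hom := by
  haveI : (G.restrict hW.fromSpec).IsQuasicoherent := inferInstance
  haveI : (C.restrict hW.fromSpec).IsQuasicoherent := inferInstance
  haveI : Epi ((restrictFunctor hW.fromSpec).map π) := inferInstance
  haveI hepi := epi_Γ_of_epi ((restrictFunctor hW.fromSpec).map π)
  have hsurj : Function.Surjective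
      (moduleSpecΓFunctor.map ((restrictFunctor hW.fromSpec).map π)).hom :=
    (ModuleCat.epi_iff_surjective _).mp hepi
  intro c
  obtain ⟨c', hc'⟩ := (toSect_bijective C hW).2 c
  obtain ⟨g', hg'⟩ := hsurj c'
  refine ⟨toSect G hW g', ?_⟩
  rw [← hc', ← hg']
  have hnat := PresheafOfModules.naturality_apply π.val (homOfLE (le_of_eq (image_top hW).symm)).op
    (show Γ(G, hW.fromSpec ''ᵁ ⊤) from g')
  exact hnat


open Groth.Agent.Lib.helper9.AffSect Groth.Agent.Lib.helper9.FinAff in
set_option backward.isDefEq.respectTransparency false in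
theorem main {X S : Scheme.{u}} (f : X ⟶ S) (E : ShortComplex X.Modules) (hE : E.ShortExact)
    [E.X₁.IsQuasicoherent] [E.X₂.IsQuasicoherent] [E.X₃.IsQuasicoherent]
    (h₁ : SheafOfModules.IsFiniteType.{u} E.X₁) (h₂ : Flatn.IsRelFP f E.X₂) :
    Flatn.IsRelFP f E.X₃ := by
  obtain ⟨𝒱, h𝒱, H⟩ := h₂
  refine ⟨𝒱, h𝒱, fun V hV => ?_⟩
  obtain ⟨𝒰, h𝒰, HU⟩ := H V hV
  refine ⟨𝒰, h𝒰, fun U hU hle => ?_⟩
  have h1 := HU U hU hle
  unfold RelFPOn at h1 ⊢
  letI := (f.appLE (V : S.Opens) (U : X.Opens) hle).hom.toAlgebra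
  obtain ⟨n, φ, hφ, hfp⟩ := h1
  refine ⟨n, φ, hφ, ?_⟩
  haveI := h₁
  haveI : Module.Finite Γ(X, (U : X.Opens)) (Groth.Agent.Lib.helper9.CohB.Γmod (E.X₁.restrict U.2.fromSpec)) :=
    finite_Γmod E.X₁ U.2
  haveI hfin : Module.Finite Γ(X, (U : X.Opens)) Γ(E.X₁, (U : X.Opens)) := finite_sections E.X₁ U.2
  haveI := hE.epi_g
  exact fp_of_quot φ.toRingHom hφ (E.f.val.app (op (U : X.Opens))).hom (E.g.val.app (op (U : X.Opens))).hom
    (sections_exact E hE U) (sections_surjective E.g U.2) hfin hfp

end Helpers


open AlgebraicGeometry CategoryTheory Limits in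
/-- Let f : X ⟶ S be locally of finite type and let 0 → F' → F → F'' → 0 be exact in quasi-coherent
O_X-modules. Suppose the submodule F' is of finite type and F has finite presentation relative to
the base S. Then the quotient F'' also has finite presentation relative to S. -/
theorem result {X S : Scheme.{u}} (f : X ⟶ S) [LocallyOfFiniteType f] (E : ShortComplex X.Modules) (hE : E.ShortExact)
    [Coh.IsQCoh E.X₁] [Coh.IsQCoh E.X₂] [Coh.IsQCoh E.X₃] (h₁ : CohB1.IsFT E.X₁) (h₂ : Flatn.IsRelFP f E.X₂) :
    Flatn.IsRelFP f E.X₃ := by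
  exact main f E hE h₁ h₂

end Groth.Agent.S9748
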