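import Groth.Statements.S9749
import Mathlib

set_option autoImplicit false
universe u
open Flatn

namespace Groth.Agent.S9749

open AlgebraicGeometry CategoryTheory Limits Opposite in
theorem fp_of_retract {P A : Type u} [CommRing P] [CommRing A] (φ : P →+* A) {M N : Type u}
    [AddCommGroup M] [Module A M] [AddCommGroup N] [Module A N]
    (i : N →ₗ[A] M) (p : M →ₗ[A] N) (hpi : ∀ x, p (i x) = x)
    (h : letI := Module.compHom M φ; Module.FinitePresentation P M) :
    letI := Module.compHom N φ; Module.FinitePresentation P N := by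
  letI := Module.compHom M φ
  letI := Module.compHom N φ
  have hsM : ∀ (r : P) (x : M), r • x = φ r • x := fun _ _ => rfl
  have hsN : ∀ (r : P) (x : N), r • x = φ r • x := fun _ _ => rfl
  let p' : M →ₗ[P] N :=
    { toFun := p
      map_add' := p.map_add
      map_smul' := fun r x => by
        simp only [RingHom.id_apply]
        rw [hsM, hsN, p.map_smul] }
  let i' : N →ₗ[P] M :=
    { toFun := i
      map_add' := i.map_add
      map_smul' := fun r x => by
        simp only [RingHom.id_apply]
        rw [hsM, hsN, i.map_smul] }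
  have hsurj : Function.Surjective p' := fun x => ⟨i x, hpi x⟩
  haveI : Module.FinitePresentation P M := h
  haveI : Module.Finite P M := inferInstance
  have hker : (LinearMap.ker p').FG := by
    have h1 : LinearMap.ker p' = LinearMap.range ((LinearMap.id : M →ₗ[P] M) - i'.comp p') := by
      ext x
      constructor
      · intro hx
        refine ⟨x, ?_⟩
        have hx' : p' x = 0 := hx
        simp [hx']
      · rintro ⟨y, rfl⟩
        have : p' (i' (p' y)) = p' y := hpi (p y)
        rw [LinearMap.mem_ker, LinearMap.sub_apply, LinearMap.id_apply, LinearMap.comp_apply, map_sub,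
          this, sub_self]
    rw [h1, LinearMap.range_eq_map]
    exact (Module.Finite.fg_top).map _
  exact Module.finitePresentation_of_surjective p' hsurj hker

open AlgebraicGeometry CategoryTheory Limits Opposite in
theorem relFP_of_retract {X S : Scheme.{u}} (f : X ⟶ S) (F G : X.Modules) (i : F ⟶ G) (p : G ⟶ F)
    (hip : i ≫ p = 𝟙 F) (h : Flatn.IsRelFP f G) : Flatn.IsRelFP f F := by
  obtain ⟨𝒱, h𝒱, H⟩ := h
  refine ⟨𝒱, h𝒱, fun V hV => ?_⟩
  obtain ⟨𝒰, h𝒰, HU⟩ := H V hV
  refine ⟨𝒰, h𝒰, fun U hU hle => ?_⟩
  have h1 := HU U hU hle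
  unfold RelFPOn at h1 ⊢
  letI := (f.appLE (V : S.Opens) (U : X.Opens) hle).hom.toAlgebra
  obtain ⟨n, φ, hφ, hfp⟩ := h1
  refine ⟨n, φ, hφ, ?_⟩
  have hpi : ∀ x, (p.val.app (op (U : X.Opens))).hom ((i.val.app (op (U : X.Opens))).hom x) = x := by
    intro x
    have h2 : (i ≫ p).val.app (op (U : X.Opens)) = 𝟙 _ := by rw [hip]; rfl
    have h3 := congrArg (fun g => g.hom x) h2
    exact h3
  exact fp_of_retract φ.toRingHom (i.val.app (op (U : X.Opens))).hom (p.val.app (op (U : X.Opens))).hom hpi hfp


open AlgebraicGeometry CategoryTheory Limits in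
/-- For f : X ⟶ S locally of finite type and quasi-coherent O_X-modules F, F', relative finite
presentation over S of the biproduct F ⊞ F' implies the same property for each summand. -/
theorem result {X S : Scheme.{u}} (f : X ⟶ S) [LocallyOfFiniteType f] (F F' : X.Modules) [Coh.IsQCoh F] [Coh.IsQCoh F']
    (h : Flatn.IsRelFP f (F ⊞ F')) : Flatn.IsRelFP f F ∧ Flatn.IsRelFP f F' := by
  exact ⟨relFP_of_retract f F (F ⊞ F') biprod.inl biprod.fst biprod.inl_fst h,
    relFP_of_retract f F' (F ⊞ F') biprod.inr biprod.snd biprod.inr_snd h⟩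

end Groth.Agent.S9749
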