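import Groth.Statements.S9762
import Mathlib
import Groth.Agent.Lib.helper3.EtNbhd9
-- import your own Groth.Agent.* helpers here

set_option autoImplicit false
universe u
open FlatMor

namespace Groth.Agent.S9762

open AlgebraicGeometry CategoryTheory Limits in
/-- For f : X ⟶ S separated and locally of finite type, and a point s of S such that only finitely many
points of the fibre over s are isolated, some elementary étale neighbourhood (U, u) of (S, s) admits
an open and closed V ⊆ U ×_S X, finite over U, such that no point of the fibre over u lying outside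
V is isolated in that fibre. The published statement also asserts that the complement of V has empty
fibre over u when the fibre over s is finite; this row omits that clause. -/
theorem result {X S : Scheme.{u}} (f : X ⟶ S) [LocallyOfFiniteType f] [IsSeparated f] (s : S)
    (hfin : {x : ↑(f.fiber s) | IsOpen ({x} : Set ↑(f.fiber s))}.Finite) :
    ∃ (U : Scheme.{u}) (g : U ⟶ S) (u : U), Hens2.IsEtaleNbhd g u s ∧
      ∃ V : (pullback f g).Opens, IsClopen (V : Set ↑(pullback f g)) ∧ IsFinite (V.ι ≫ pullback.snd f g) ∧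
        ∀ w : ↑((pullback.snd f g).fiber u), (pullback.snd f g).fiberι u w ∉ V →
          ¬ IsOpen ({w} : Set ↑((pullback.snd f g).fiber u)) := by
  classical
  haveI : Finite ↥{x : ↑(f.fiber s) | IsOpen ({x} : Set ↑(f.fiber s))} := hfin.to_subtype
  obtain ⟨n, ⟨e⟩⟩ : ∃ n, Nonempty (↥{x : ↑(f.fiber s) | IsOpen ({x} : Set ↑(f.fiber s))} ≃ Fin n) :=
    ⟨_, ⟨Finite.equivFin _⟩⟩
  obtain ⟨x, hxdef⟩ : ∃ x : Fin n → X, ∀ k, x k = f.fiberι s (e.symm k).1 := ⟨_, fun _ => rfl⟩
  have hfib : ∀ p : ↑(f.fiber s), f (f.fiberι s p) = s := fun p => (f.fiberHomeo s p).2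
  have hinj : Function.Injective x := by
    intro k k' h
    rw [hxdef, hxdef] at h
    have h1 : (e.symm k).1 = (e.symm k').1 := (f.fiberι s).isEmbedding.injective h
    exact e.symm.injective (Subtype.ext h1)
  have hs : ∀ k, f (x k) = s := fun k => by rw [hxdef]; exact hfib _
  have hq : ∀ k, f.QuasiFiniteAt (x k) := fun k => by
    rw [hxdef]
    exact Groth.Agent.Lib.helper3.EtNbhd.qf_of_isOpen f s _ (e.symm k).2
  have hcov : ∀ p : ↑(f.fiber s), IsOpen ({p} : Set ↑(f.fiber s)) → ∃ k, f.fiberι s p = x k := by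
    intro p hp
    refine ⟨e ⟨p, hp⟩, ?_⟩
    rw [hxdef, Equiv.symm_apply_apply]
  obtain ⟨U, g, u, hg, hgu, hres, H⟩ :=
    Groth.Agent.Lib.helper3.EtNbhd.mainR (f := f) s (fun x₀ => f.QuasiFiniteAt x₀)
      (by
        intro x₀ hx₀ hq₀
        obtain ⟨U, g, u, hg, hgu, hres, V, v, hvV, hfinV, hsnd, hfst, hresv, huniq, huniq2, -⟩ :=
          Groth.Agent.Lib.helper3.QFLoc.chart f x₀ hq₀
        exact ⟨U, g, u, hg, hgu.trans hx₀, hres, fun _ => V, fun _ => v,
          fun _ => ⟨hvV, hfinV, hsnd, huniq, hfst, hresv, huniq2⟩⟩)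
      _ x hs hq
  haveI := hg
  obtain ⟨U', g', u', hg', hgu', hres', V, W, hVW, hVfin, hpts⟩ :=
    Groth.Agent.Lib.helper3.EtNbhd.finitePart' f s x hinj g u hgu hres H
  refine ⟨U', g', u', ⟨hg', hgu', ⟨(g'.residueFieldMap u').hom.injective, hres'⟩⟩, V, ?_, hVfin, ?_⟩
  · refine ⟨?_, V.2⟩
    have hc : (V : Set ↑(pullback f g')) = (W : Set ↑(pullback f g'))ᶜ := by
      ext w
      constructor
      · intro hw hw'
        exact (disjoint_iff_inf_le.mp hVW.disjoint) ⟨hw, hw'⟩
      · intro hw
        have : w ∈ V ⊔ W := (codisjoint_iff_le_sup.mp hVW.codisjoint) (by trivial)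
        rcases this with h | h
        · exact h
        · exact (hw h).elim
    rw [hc]
    exact W.2.isClosed_compl
  · intro w hw hopen
    apply hw
    subst hgu'
    obtain ⟨Ψ, hΨ, hΨι⟩ := Groth.Agent.Lib.helper3.EtNbhd.exists_fiber_iso f g' u' hres'
    have hopen' : IsOpen ({Ψ w} : Set ↑(f.fiber (g' u'))) := by
      have := (Ψ.homeomorph).isOpen_image.mpr hopen
      simpa using this
    obtain ⟨k, hk⟩ := hcov (Ψ w) hopen'
    refine hpts _ ?_ ⟨k, ?_⟩
    · exact ((pullback.snd f g').fiberHomeo u' w).2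
    · rw [← hk, ← Scheme.Hom.comp_apply, ← hΨι, Scheme.Hom.comp_apply]

end Groth.Agent.S9762
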