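import Groth.Statements.S9771
import Mathlib
import Groth.Agent.S1487
import Groth.Agent.Lib.helper22.FlatUnram

set_option autoImplicit false
universe u
open FlatMor

namespace Groth.Agent.S9771

section Helpers

open CategoryTheory CategoryTheory.Limits AlgebraicGeometry

theorem main {X S : Scheme.{u}} (f : X ⟶ S) [Flat f] [FormallyUnramified f]
    [LocallyOfFiniteType f] : MoreMor.IsFormallyEtaleHom f := by
  rw [Groth.Agent.S1487.result f]
  intro U V hU hV hUV
  have h1 := f.flat_appLE hV hU hUV
  have h2 := f.formallyUnramified_appLE hV hU hUV
  have h3 := f.finiteType_appLE hV hU hUV
  letI := (f.appLE V U hUV).hom.toAlgebra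
  rw [RingHom.Flat] at h1
  rw [RingHom.FormallyUnramified] at h2
  rw [RingHom.FiniteType] at h3
  exact Groth.Agent.H22.FlatUnram.formallyEtale _ _

end Helpers

open AlgebraicGeometry CategoryTheory Limits in
/-- An unramified (formally unramified and locally of finite type) flat morphism of schemes is formally
étale. (When the morphism is moreover locally of finite presentation this is the statement that flat
unramified morphisms are étale; the content here is the case without finite presentation.) -/
theorem result {X S : Scheme.{u}} (f : X ⟶ S)
    [Flat f] [FormallyUnramified f] [LocallyOfFiniteType f] : MoreMor.IsFormallyEtaleHom f := by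
  exact main f

end Groth.Agent.S9771
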