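import Groth.Statements.S9773
import Groth.Agent.Lib.helper1.RI1

set_option autoImplicit false
universe u
open FlatMor

namespace Groth.Agent.S9773

open AlgebraicGeometry CategoryTheory Limits in
/-- A regular immersion of schemes, and likewise a Koszul-regular immersion, is a local complete
intersection morphism (Koszul at every point). -/
theorem result {Z X : Scheme.{u}} (i : Z ⟶ X) (k : RegImm.Kind)
    (hk : k = RegImm.Kind.regular ∨ k = RegImm.Kind.koszul) (hi : RegImm.IsRegularImmersion k i) (z : Z) :
    Synt.IsKoszulAt i z := by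
  have himm := hi.1
  haveI : IsIso (⊤ : Z.Opens).ι := (inferInstance : IsIso Z.topIso.hom)
  have h1 := Groth.Agent.Lib.helper1.RI.isRegularImmersion_comp_iso k hk (⊤ : Z.Opens).ι i hi
  haveI : IsImmersion ((⊤ : Z.Opens).ι ≫ i) := h1.1
  exact ⟨⊤, X, (⊤ : Z.Opens).ι ≫ i, 𝟙 X, trivial, inferInstance, h1, inferInstance,
    Category.comp_id _⟩

end Groth.Agent.S9773
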