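import Groth.Statements.S9793
import Mathlib.RingTheory.Ideal.KrullsHeightTheorem

set_option autoImplicit false
universe u
open CategoryTheory AlgebraicGeometry TopologicalSpace
open Props

namespace Groth.Agent.S9793

/-- Let S be a Noetherian scheme and T a set of points of S. Every point of T is a specialization of
some point of T which admits no non-trivial generization lying in T. -/
theorem result (S : Scheme.{u}) [IsNoetherian S]
    (T : Set S) (t : S) (ht : t ∈ T) :
    ∃ t₀ ∈ T, (∀ t' ∈ T, t' ⤳ t₀ → t' = t₀) ∧ t₀ ⤳ t := by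
  classical
  -- choose an affine open neighbourhood of `t`
  obtain ⟨_, ⟨U, hU : IsAffineOpen U, rfl⟩, htU, -⟩ :=
    S.isBasis_affineOpens.exists_subset_of_mem_open (Set.mem_univ t) isOpen_univ
  have : IsNoetherianRing Γ(S, U) := IsLocallyNoetherian.component_noetherian ⟨U, hU⟩
  let f := hU.fromSpec
  have hf : Topology.IsOpenEmbedding f := f.isOpenEmbedding
  have hrange : Set.range f = (U : Set S) := hU.range_fromSpec
  have hspec : ∀ p q : PrimeSpectrum Γ(S, U), f p ⤳ f q ↔ p ⤳ q :=
    fun p q => hf.isInducing.specializes_iff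
  -- the set of primes of interest
  let P : Set (PrimeSpectrum Γ(S, U)) := {p | f p ∈ T ∧ f p ⤳ t}
  have hP : P.Nonempty := by
    obtain ⟨p, hp⟩ : t ∈ Set.range f := hrange ▸ htU
    exact ⟨p, by simpa [P, hp] using ht, by simp [hp, specializes_rfl]⟩
  -- pick one of minimal height
  let h : PrimeSpectrum Γ(S, U) → ℕ∞ := fun p => p.asIdeal.height
  obtain ⟨p₀, hp₀, hmin⟩ := WellFounded.has_min (InvImage.wf h wellFounded_lt) P hP
  refine ⟨f p₀, hp₀.1, ?_, hp₀.2⟩
  intro t' ht' hs
  have ht'U : t' ∈ (U : Set S) := by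
    have : f p₀ ∈ (U : Set S) := hrange ▸ Set.mem_range_self p₀
    exact hs.mem_open U.isOpen this
  obtain ⟨p'', rfl⟩ : t' ∈ Set.range f := hrange ▸ ht'U
  let p' : PrimeSpectrum Γ(S, U) := p''
  change f p' ∈ T at ht'
  change f p' ⤳ f p₀ at hs
  change f p' = f p₀
  have hle : p' ≤ p₀ := (PrimeSpectrum.le_iff_specializes _ _).mpr ((hspec _ _).mp hs)
  have hp' : p' ∈ P := ⟨ht', hs.trans hp₀.2⟩
  have hnot := hmin p' hp'
  rcases hle.lt_or_eq with hlt | heq
  · exfalso
    apply hnot
    change p'.asIdeal.height < p₀.asIdeal.height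
    exact Ideal.height_strict_mono_of_isPrime hlt
  · rw [heq]

end Groth.Agent.S9793
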