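import Groth.Statements.S9792
import Groth.Agent.S9793

set_option autoImplicit false
universe u
open CategoryTheory AlgebraicGeometry TopologicalSpace
open Props

namespace Groth.Agent.S9792

/-- In a Noetherian scheme, every infinite set of points contains an infinite subset no two distinct
members of which are related by specialization. -/
theorem result (S : Scheme.{u}) [IsNoetherian S]
    (T : Set S) (hT : T.Infinite) :
    ∃ T' : Set S, T' ⊆ T ∧ T'.Infinite ∧ ∀ a ∈ T', ∀ b ∈ T', a ⤳ b → a = b := by
  classical
  -- a minimal closed subset meeting `T` in an infinite set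
  let C : Set (Closeds S) := {Z | ((Z : Set S) ∩ T).Infinite}
  have hC : C.Nonempty := ⟨⊤, by simpa [C] using hT⟩
  obtain ⟨Z, hZ, hmin⟩ := WellFounded.has_min (wellFounded_lt (α := Closeds S)) C hC
  -- remove the generic points of `Z`
  let G : Set S := {t | closure {t} = (Z : Set S)}
  have hG : G.Subsingleton := by
    intro a ha b hb
    have hab : closure ({a} : Set S) = closure {b} := ha.trans hb.symm
    exact ((specializes_iff_closure_subset.mpr hab.ge).antisymm
      (specializes_iff_closure_subset.mpr hab.le)).eq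
  let T₁ : Set S := ((Z : Set S) ∩ T) \ G
  have hT₁ : T₁.Infinite := Set.Infinite.sdiff hZ hG.finite
  -- closures of points of `T₁` meet `T` in finite sets
  have hfin : ∀ t ∈ T₁, (closure {t} ∩ T).Finite := by
    intro t ht
    by_contra hinf
    have htZ : closure {t} ⊆ (Z : Set S) :=
      closure_minimal (Set.singleton_subset_iff.mpr ht.1.1) Z.isClosed
    have hmem : (⟨closure {t}, isClosed_closure⟩ : Closeds S) ∈ C := hinf
    have hnlt := hmin _ hmem
    apply ht.2
    change closure {t} = (Z : Set S)
    by_contra hne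
    apply hnlt
    refine lt_of_le_of_ne ?_ ?_
    · exact htZ
    · intro h
      apply hne
      exact congrArg (fun W : Closeds S => (W : Set S)) h
  -- the maximal points of `T₁`
  let T₂ : Set S := {t | t ∈ T₁ ∧ ∀ t' ∈ T₁, t' ⤳ t → t' = t}
  refine ⟨T₂, fun t ht => ht.1.1.2, ?_, ?_⟩
  · intro hfin₂
    apply hT₁
    have hsub : T₁ ⊆ ⋃ t ∈ T₂, (closure {t} ∩ T) := by
      intro t ht
      obtain ⟨t₀, ht₀, hmax, hspec⟩ := Groth.Agent.S9793.result S T₁ t ht
      simp only [Set.mem_iUnion, Set.mem_inter_iff, exists_prop]
      exact ⟨t₀, ⟨ht₀, hmax⟩, specializes_iff_mem_closure.mp hspec, ht.1.2⟩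
    refine Set.Finite.subset ?_ hsub
    exact hfin₂.biUnion fun t ht => hfin t ht.1
  · intro a ha b hb hab
    exact hb.2 a ha.1 hab

end Groth.Agent.S9792
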