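import Groth.Statements.S9794
import Groth.Agent.S9793

set_option autoImplicit false
universe u
open CategoryTheory AlgebraicGeometry TopologicalSpace
open Props

namespace Groth.Agent.S9794

/-- The set of points whose closure is the closure of a countable subset of `T`. -/
def cl {X : Type*} [TopologicalSpace X] (T : Set X) : Set X :=
  {s | ∃ E ⊆ T, E.Countable ∧ closure E = closure {s}}

theorem aux {X : Type*} [TopologicalSpace X] [NoetherianSpace X] [QuasiSober X] (T : Set X)
    (Z : Closeds X) : ∀ E ⊆ T, E.Countable → closure E = (Z : Set X) →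
      ∃ F : Set X, F.Finite ∧ F ⊆ cl T ∧ (Z : Set X) = ⋃ ξ ∈ F, closure {ξ} := by
  induction Z using WellFounded.induction (wellFounded_lt (α := Closeds X)) with
  | _ Z IH =>
  intro E hET hEc hEZ
  by_cases hirr : IsPreirreducible (Z : Set X)
  · by_cases hne : (Z : Set X).Nonempty
    · obtain ⟨ξ, hξ⟩ := QuasiSober.sober (S := (Z : Set X)) ⟨hne, hirr⟩ Z.isClosed
      refine ⟨{ξ}, Set.finite_singleton ξ, ?_, ?_⟩
      · rintro _ rfl
        exact ⟨E, hET, hEc, hEZ.trans hξ.def.symm⟩
      · simpa using hξ.def.symm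
    · refine ⟨∅, Set.finite_empty, Set.empty_subset _, ?_⟩
      simpa using Set.not_nonempty_iff_eq_empty.mp hne
  · rw [isPreirreducible_iff_isClosed_union_isClosed] at hirr
    push Not at hirr
    obtain ⟨z₁, z₂, hz₁, hz₂, hsub, hn₁, hn₂⟩ := hirr
    have key : ∀ z : Set X, IsClosed z → ¬ (Z : Set X) ⊆ z →
        ∃ F : Set X, F.Finite ∧ F ⊆ cl T ∧ closure (E ∩ z) = ⋃ ξ ∈ F, closure {ξ} := by
      intro z hz hnz
      have hle : closure (E ∩ z) ⊆ (Z : Set X) := by
        rw [← hEZ]; exact closure_mono Set.inter_subset_left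
      have hlt : (⟨closure (E ∩ z), isClosed_closure⟩ : Closeds X) < Z := by
        refine lt_of_le_of_ne hle ?_
        intro h
        apply hnz
        have h' : closure (E ∩ z) = (Z : Set X) := congrArg (fun W : Closeds X => (W : Set X)) h
        rw [← h']
        exact closure_minimal Set.inter_subset_right hz
      exact IH _ hlt (E ∩ z) (Set.inter_subset_left.trans hET) (hEc.mono Set.inter_subset_left) rfl
    obtain ⟨F₁, hF₁, hF₁T, h₁⟩ := key z₁ hz₁ hn₁
    obtain ⟨F₂, hF₂, hF₂T, h₂⟩ := key z₂ hz₂ hn₂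
    refine ⟨F₁ ∪ F₂, hF₁.union hF₂, Set.union_subset hF₁T hF₂T, ?_⟩
    rw [Set.biUnion_union, ← h₁, ← h₂, ← closure_union, ← Set.inter_union_distrib_left, ← hEZ]
    congr 1
    refine (Set.inter_eq_left.mpr ?_).symm
    exact (subset_closure.trans hEZ.le).trans hsub

theorem aux2 {X : Type*} [TopologicalSpace X] [NoetherianSpace X] [QuasiSober X] (T : Set X)
    (E' : Set X) (hE' : E' ⊆ cl T) (hc : E'.Countable) :
    ∃ F : Set X, F.Finite ∧ F ⊆ cl T ∧ E' ⊆ ⋃ ξ ∈ F, closure {ξ} := by
  classical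
  have hE'2 : ∀ s ∈ E', ∃ E ⊆ T, E.Countable ∧ closure E = closure {s} := hE'
  choose! Es hEs using hE'2
  let E'' : Set X := ⋃ s ∈ E', Es s
  have hE''T : E'' ⊆ T := Set.iUnion₂_subset fun s hs => (hEs s hs).1
  have hE''c : E''.Countable := hc.biUnion fun s hs => (hEs s hs).2.1
  obtain ⟨F, hF, hFT, hFE⟩ := aux T ⟨closure E'', isClosed_closure⟩ E'' hE''T hE''c rfl
  refine ⟨F, hF, hFT, ?_⟩
  intro s hs
  have h1 : s ∈ closure (Es s) := by
    rw [(hEs s hs).2.2]; exact subset_closure rfl
  have h2 : closure (Es s) ⊆ closure E'' := closure_mono (Set.subset_biUnion_of_mem hs)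
  exact hFE ▸ h2 h1

/-- In a Noetherian scheme, an infinite dense set of points contains a countable subset which is dense. -/
theorem result (S : Scheme.{u}) [IsNoetherian S]
    (T : Set S) (hT : T.Infinite) (hd : Dense T) :
    ∃ E : Set S, E ⊆ T ∧ E.Countable ∧ Dense E := by
  classical
  have _ := hT
  -- maximal points of `cl T`
  let M : Set S := {t | t ∈ cl T ∧ ∀ t' ∈ cl T, t' ⤳ t → t' = t}
  have hTcl : T ⊆ cl T := fun t ht =>
    ⟨{t}, Set.singleton_subset_iff.mpr ht, Set.countable_singleton t, rfl⟩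
  have hM : M.Finite := by
    by_contra hinf
    let e := Set.Infinite.natEmbedding M hinf
    let E' : Set S := Set.range fun n => (e n : S)
    have hE'M : E' ⊆ M := by rintro _ ⟨n, rfl⟩; exact (e n).2
    have hE'c : E'.Countable := Set.countable_range _
    have hE'inf : E'.Infinite :=
      Set.infinite_range_of_injective (Subtype.val_injective.comp e.injective)
    obtain ⟨F, hF, hFT, hFE⟩ := aux2 T E' (fun s hs => (hE'M hs).1) hE'c
    apply hE'inf
    refine hF.subset ?_
    intro s hs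
    have := hFE hs
    simp only [Set.mem_iUnion, exists_prop] at this
    obtain ⟨ξ, hξF, hξ⟩ := this
    have : ξ = s := (hE'M hs).2 ξ (hFT hξF) (specializes_iff_mem_closure.mpr hξ)
    exact this ▸ hξF
  have hcover : cl T ⊆ ⋃ m ∈ M, closure {m} := by
    intro t ht
    obtain ⟨t₀, ht₀, hmax, hspec⟩ := Groth.Agent.S9793.result S (cl T) t ht
    simp only [Set.mem_iUnion, exists_prop]
    exact ⟨t₀, ⟨ht₀, hmax⟩, specializes_iff_mem_closure.mp hspec⟩
  have hMcl : ∀ m ∈ M, ∃ E ⊆ T, E.Countable ∧ closure E = closure {m} := fun m hm => hm.1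
  choose! Es hEs using hMcl
  refine ⟨⋃ m ∈ M, Es m, Set.iUnion₂_subset fun m hm => (hEs m hm).1,
    hM.countable.biUnion fun m hm => (hEs m hm).2.1, ?_⟩
  have hclosed : IsClosed (⋃ m ∈ M, closure ({m} : Set S)) :=
    hM.isClosed_biUnion fun m _ => isClosed_closure
  have h1 : (Set.univ : Set S) ⊆ ⋃ m ∈ M, closure ({m} : Set S) := by
    rw [← hd.closure_eq]
    exact closure_minimal (hTcl.trans hcover) hclosed
  rw [dense_iff_closure_eq, Set.eq_univ_iff_forall]
  intro x
  have := h1 (Set.mem_univ x)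
  simp only [Set.mem_iUnion, exists_prop] at this
  obtain ⟨m, hm, hx⟩ := this
  rw [← (hEs m hm).2.2] at hx
  exact closure_mono (Set.subset_biUnion_of_mem hm) hx

end Groth.Agent.S9794
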