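import Groth.Statements.S9796
import Groth.Agent.Lib.helper15.DimZero
import Mathlib.Topology.Separation.Profinite

set_option autoImplicit false
universe u
open CategoryTheory AlgebraicGeometry TopologicalSpace
open Props

namespace Groth.Agent.S9796

/-- (2) implies (3) with the complement on connected components: a separated scheme of dimension at most
zero is Hausdorff and totally disconnected. -/
theorem result (X : Scheme.{u}) [X.IsSeparated]
    (h : topologicalKrullDim X ≤ 0) : T2Space X ∧ TotallyDisconnectedSpace X := by
  have hT2 : T2Space X := Groth.Agent.Lib.H15.t2Space_of_topologicalKrullDim_le_zero h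
  refine ⟨hT2, ?_⟩
  have : TotallySeparatedSpace X := by
    apply totallySeparatedSpace_of_t0_of_basis_clopen
    apply isTopologicalBasis_of_isOpen_of_nhds
    · intro u hu; exact hu.isOpen
    · intro a u hau hu
      obtain ⟨_, ⟨U, hU : IsAffineOpen U, rfl⟩, haU, hUu⟩ :=
        X.isBasis_affineOpens.exists_subset_of_mem_open hau hu
      exact ⟨U, ⟨hU.isCompact.isClosed, U.isOpen⟩, haU, hUu⟩
  infer_instance

end Groth.Agent.S9796
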