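import Groth.Statements.S9797
import Groth.Agent.Lib.helper15.DimZero
import Groth.Agent.Lib.helper15.AffineClopen

set_option autoImplicit false
universe u
open CategoryTheory AlgebraicGeometry TopologicalSpace
open Props

namespace Groth.Agent.S9797

/-- In a separated scheme of dimension at most zero, every quasi-compact open is affine. -/
theorem result (X : Scheme.{u}) [X.IsSeparated]
    (h : topologicalKrullDim X ≤ 0) (U : X.Opens) (hU : IsCompact (U : Set X)) :
    IsAffineOpen U := by
  have hT2 : T2Space X := Groth.Agent.Lib.H15.t2Space_of_topologicalKrullDim_le_zero h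
  refine compact_open_induction_on (P := fun U => IsAffineOpen U) U hU (isAffineOpen_bot X) ?_
  intro S hS V hSaff
  -- `S` is compact in a Hausdorff space, hence closed
  have hScl : IsClosed (S : Set X) := hS.isClosed
  let W : X.Opens := ⟨(V : Set X) ∩ (S : Set X)ᶜ, V.1.isOpen.inter hScl.isOpen_compl⟩
  have hW : IsAffineOpen W :=
    Groth.Agent.Lib.H15.isAffineOpen_of_le_of_isClosed V.2 (fun x hx => hx.1)
      ⟨(S : Set X)ᶜ, S.isOpen.isClosed_compl, rfl⟩
  have hdisj : Disjoint S W := by
    rw [← TopologicalSpace.Opens.coe_disjoint, Set.disjoint_left]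
    intro x hxS hxW
    exact hxW.2 hxS
  have heq : S ⊔ V.1 = S ⊔ W := by
    ext x
    simp only [Opens.coe_sup, Set.mem_union, SetLike.mem_coe, W]
    constructor
    · rintro (hx | hx)
      · exact Or.inl hx
      · by_cases hxS : x ∈ S
        · exact Or.inl hxS
        · exact Or.inr ⟨hx, hxS⟩
    · rintro (hx | hx)
      · exact Or.inl hx
      · exact Or.inr hx.1
  change IsAffineOpen (S ⊔ V.1)
  rw [heq]
  exact hSaff.sup_of_disjoint hW hdisj

end Groth.Agent.S9797
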