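import Groth.Statements.S9798
import Mathlib.AlgebraicGeometry.Artinian

set_option autoImplicit false
universe u
open CategoryTheory AlgebraicGeometry TopologicalSpace
open Props

namespace Groth.Agent.S9798

/-- A point of a locally Noetherian scheme has local dimension zero exactly when it is isolated. -/
theorem result (X : Scheme.{u}) [IsLocallyNoetherian X] (x : X) :
    FlatMor.localDim X x = 0 ↔ IsOpen ({x} : Set X) := by
  have hnonneg : ∀ U : {U : TopologicalSpace.Opens X // x ∈ U},
      0 ≤ topologicalKrullDim (U.1 : Set X) := by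
    intro U
    have : Nonempty (IrreducibleCloseds (U.1 : Set X)) :=
      ⟨⟨closure {⟨x, U.2⟩}, isIrreducible_singleton.closure, isClosed_closure⟩⟩
    exact Order.krullDim_nonneg
  have : Nonempty {U : TopologicalSpace.Opens X // x ∈ U} := ⟨⟨⊤, trivial⟩⟩
  constructor
  · intro h
    obtain ⟨U, hU⟩ : (⨅ U : {U : TopologicalSpace.Opens X // x ∈ U},
        topologicalKrullDim (U.1 : Set X)) ∈ Set.range _ := ciInf_mem _
    have hU0 : topologicalKrullDim (U.1 : Set X) = 0 := hU.trans h
    have : IsLocallyArtinian (U.1 : Scheme.{u}) :=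
      IsLocallyArtinian.of_topologicalKrullDim_le_zero hU0.le
    have : DiscreteTopology (U.1 : Scheme.{u}) := inferInstance
    have hop : IsOpen ({⟨x, U.2⟩} : Set (U.1 : Scheme.{u})) := isOpen_discrete _
    have := U.1.isOpen.isOpenMap_subtype_val _ hop
    convert this using 1
    ext y
    constructor
    · rintro rfl
      exact ⟨⟨y, U.2⟩, rfl, rfl⟩
    · rintro ⟨z, hz, rfl⟩
      have hz' : z = ⟨x, U.2⟩ := hz
      rw [hz']; rfl
  · intro h
    apply le_antisymm
    · refine (iInf_le _ (⟨⟨{x}, h⟩, rfl⟩ : {U : TopologicalSpace.Opens X // x ∈ U})).trans ?_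
      have : Subsingleton (({x} : Set X) : Type _) := by infer_instance
      exact topologicalKrullDim_zero_of_discreteTopology _
    · exact le_iInf hnonneg

end Groth.Agent.S9798
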