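import Groth.Statements.S9800
import Mathlib
-- import your own Groth.Agent.* helpers here

set_option autoImplicit false
universe u
open CategoryTheory AlgebraicGeometry TopologicalSpace
open Props

namespace Groth.Agent.S9800

/-- A locally Noetherian normal scheme of dimension at most one is regular, that is, all of its local
rings are regular local rings. -/
theorem result (X : Scheme.{u})
    [IsLocallyNoetherian X] (hN : Pi1.IsNormalScheme X) (hd : topologicalKrullDim X ≤ 1) (x : X) :
    IsRegularLocalRing (X.presheaf.stalk x) := by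
  obtain ⟨hdom, hic⟩ := hN x
  have hdim : ringKrullDim (X.presheaf.stalk x) ≤ 1 := by
    rw [← PrimeSpectrum.topologicalKrullDim_eq_ringKrullDim]
    refine le_trans ?_ hd
    exact (X.fromSpecStalk x).isEmbedding.isInducing.topologicalKrullDim_le
  have hK : Ring.KrullDimLE 1 (X.presheaf.stalk x) := Ring.krullDimLE_iff.2 hdim
  have hP : ∀ P : Ideal (X.presheaf.stalk x), P ≠ ⊥ → P.IsPrime →
      P = IsLocalRing.maximalIdeal (X.presheaf.stalk x) := by
    intro P hP0 hPp
    have hbot : (⊥ : Ideal (X.presheaf.stalk x)).IsPrime := Ideal.isPrime_bot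
    exact IsLocalRing.eq_maximalIdeal (Ring.krullDimLE_one_iff_of_isPrime_bot.1 hK P hP0 hPp)
  have htfae := tfae_of_isNoetherianRing_of_isLocalRing_of_isDomain (X.presheaf.stalk x)
  have h30 : (IsIntegrallyClosed (X.presheaf.stalk x) ∧ ∀ P : Ideal (X.presheaf.stalk x), P ≠ ⊥ →
      P.IsPrime → P = IsLocalRing.maximalIdeal (X.presheaf.stalk x)) →
      IsPrincipalIdealRing (X.presheaf.stalk x) := (htfae.out 3 0).1
  have hpid : IsPrincipalIdealRing (X.presheaf.stalk x) := h30 ⟨hic, hP⟩
  infer_instance

end Groth.Agent.S9800
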