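import Groth.Statements.S9801
-- import your own Groth.Agent.* helpers here
import Mathlib
import Groth.Agent.Lib.helper9.Serre1

set_option autoImplicit false
universe u
open CategoryTheory AlgebraicGeometry TopologicalSpace
open Props

namespace Groth.Agent.S9801

/-- A locally Noetherian normal scheme of dimension at most two is Cohen-Macaulay, that is, all of its
local rings are Cohen-Macaulay local rings. -/
theorem result (X : Scheme.{u})
    [IsLocallyNoetherian X] (hN : Pi1.IsNormalScheme X) (hd : topologicalKrullDim X ≤ 2) (x : X) :
    LocCoh.IsCohenMacaulayLocalRing (X.presheaf.stalk x) := by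
  obtain ⟨hdom, hic⟩ := hN x
  have hdim : ringKrullDim (X.presheaf.stalk x) ≤ 2 := by
    rw [← PrimeSpectrum.topologicalKrullDim_eq_ringKrullDim]
    refine le_trans ?_ hd
    exact (X.fromSpecStalk x).isEmbedding.isInducing.topologicalKrullDim_le
  have h1 := Groth.Agent.Lib.helper9.Serre.min_two_dim_le_depth_of_normal (X.presheaf.stalk x)
  rw [min_eq_right hdim] at h1
  have h2 := Groth.Agent.Lib.helper9.Depth.depth_le_supportDim (R := X.presheaf.stalk x)
    (X.presheaf.stalk x)
  rw [Module.supportDim_self_eq_ringKrullDim] at h2
  exact { supportDim_eq_depth := by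
            rw [Module.supportDim_self_eq_ringKrullDim]; exact le_antisymm h1 h2 }

end Groth.Agent.S9801
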