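import Groth.Statements.S9804
import Mathlib

set_option autoImplicit false
universe u
open CategoryTheory AlgebraicGeometry TopologicalSpace
open Props

namespace Groth.Agent.S9804

section Helpers

lemma basicOpen_subset_range (X : Scheme.{u}) [CompactSpace X] [QuasiSeparatedSpace X]
    (r : Γ(X, ⊤)) (hr : IsAffineOpen (X.basicOpen r)) :
    (PrimeSpectrum.basicOpen r : Set (PrimeSpectrum Γ(X, ⊤))) ⊆ Set.range X.toSpecΓ := by
  have := isLocalization_basicOpen_of_qcqs (X := X) isCompact_univ isQuasiSeparated_univ r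
  intro q hq
  have hq' : q ∈ Set.range (Spec.map (X.presheaf.map (homOfLE le_top).op) :
      Spec Γ(X, X.basicOpen r) ⟶ Spec Γ(X, ⊤)) := by
    rw [← PrimeSpectrum.localization_away_comap_range Γ(X, X.basicOpen r) r] at hq
    exact hq
  obtain ⟨q₁, rfl⟩ := hq'
  have : IsIso (X.basicOpen r).toSpecΓ := by
    rw [← hr.isoSpec_hom]; infer_instance
  obtain ⟨y, rfl⟩ := ((X.basicOpen r).toSpecΓ).surjective q₁
  refine ⟨(X.basicOpen r).ι y, ?_⟩
  rw [← Scheme.Hom.comp_apply, ← Scheme.Opens.toSpecΓ_SpecMap_presheaf_map_top,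
    Scheme.Hom.comp_apply]

set_option backward.isDefEq.respectTransparency.types false in
theorem main {U V : Scheme.{u}} (j : U ⟶ V)
    [IsOpenImmersion j] [U.IsQuasiAffine] [V.IsQuasiAffine] :
    IsPullback (𝟙 U) U.toSpecΓ (j ≫ V.toSpecΓ) (Spec.map j.appTop) := by
  refine IsOpenImmersion.isPullback _ _ _ _ ?_ ?_
  · rw [Category.id_comp, Scheme.toSpecΓ_naturality]
  · apply le_antisymm
    · intro q hq
      -- hq : Spec.map j.appTop q ∈ range (j ≫ V.toSpecΓ)
      have hq1 : (Spec.map j.appTop) q ∈ (j ≫ V.toSpecΓ).opensRange := hq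
      obtain ⟨_, ⟨_, ⟨a, rfl⟩, rfl⟩, hqa, haW⟩ := (PrimeSpectrum.isBasis_basic_opens
        (R := Γ(V, ⊤))).exists_subset_of_mem_open hq1 (j ≫ V.toSpecΓ).opensRange.2
      -- V_a ⊆ j(U)
      have hVa : V.basicOpen a ≤ j.opensRange := by
        intro v hv
        have hv' : V.toSpecΓ v ∈ PrimeSpectrum.basicOpen a := by
          rw [← V.toSpecΓ_preimage_basicOpen] at hv
          exact hv
        obtain ⟨u, hu⟩ := haW hv'
        rw [Scheme.Hom.comp_apply] at hu
        exact ⟨u, V.toSpecΓ.isOpenEmbedding.injective hu⟩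
      have hVaff : IsAffineOpen (V.basicOpen a) := by
        rw [← V.toSpecΓ_preimage_basicOpen, ← Scheme.Hom.isAffineOpen_iff_of_isOpenImmersion V.toSpecΓ]
        convert! IsAffineOpen.Spec_basicOpen a
        have hsub : (PrimeSpectrum.basicOpen a : Set (PrimeSpectrum Γ(V, ⊤))) ⊆
            Set.range V.toSpecΓ := by
          intro z hz
          obtain ⟨u, hu⟩ := haW hz
          rw [Scheme.Hom.comp_apply] at hu
          exact ⟨_, hu⟩
        exact SetLike.coe_injective (Set.image_preimage_eq_of_subset hsub)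
      have hUaff : IsAffineOpen (U.basicOpen (j.appTop a)) := by
        rw [← Scheme.preimage_basicOpen_top, ← Scheme.Hom.isAffineOpen_iff_of_isOpenImmersion j]
        convert hVaff using 1
        have hsub : (V.basicOpen a : Set V) ⊆ Set.range j := hVa
        exact SetLike.coe_injective (Set.image_preimage_eq_of_subset hsub)
      have hqa' : q ∈ PrimeSpectrum.basicOpen (j.appTop a) := by
        have : (Spec.map j.appTop) ⁻¹ᵁ (PrimeSpectrum.basicOpen a) =
            PrimeSpectrum.basicOpen (j.appTop a) := by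
          ext z; rfl
        rw [← this]
        exact hqa
      exact basicOpen_subset_range U _ hUaff hqa'
    · rintro _ ⟨u, rfl⟩
      show (Spec.map j.appTop) (U.toSpecΓ u) ∈ Set.range (j ≫ V.toSpecΓ)
      rw [← Scheme.Hom.comp_apply, ← Scheme.toSpecΓ_naturality]
      exact Set.mem_range_self u

end Helpers


/-- For quasi-affine schemes U and V and an open immersion j : U → V, the scheme U is the fibre product
of the composite U → V → Spec Γ(V, O_V) and the morphism Spec Γ(U, O_U) → Spec Γ(V, O_V) induced by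
restriction of sections along j: the square whose sides are the identity of U, the canonical
morphism U → Spec Γ(U, O_U), that composite and that induced morphism is cartesian. -/
theorem result {U V : Scheme.{u}} (j : U ⟶ V)
    [IsOpenImmersion j] [U.IsQuasiAffine] [V.IsQuasiAffine] :
    IsPullback (𝟙 U) U.toSpecΓ (j ≫ V.toSpecΓ) (Spec.map j.appTop) := by
  exact main j

end Groth.Agent.S9804
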