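import Groth.Statements.S9805
import Groth.Agent.Lib.helper9.LocFree

set_option autoImplicit false
universe u
open CategoryTheory AlgebraicGeometry TopologicalSpace
open Props

namespace Groth.Agent.S9805

open CategoryTheory CategoryTheory.Limits AlgebraicGeometry in
set_option backward.isDefEq.respectTransparency false in
lemma main (X : Scheme.{u}) (M : X.Modules) (hM : Coh.IsQCoh M) :
    (FlatMod.IsFlat M ∧ CohB1.IsFP M) ↔ FlatMod.IsFinLocFree M := by
  haveI : M.IsQuasicoherent := hM
  constructor
  · rintro ⟨hflat, hfp⟩ x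
    haveI : SheafOfModules.IsFinitePresentation.{u} M := hfp
    have hfree := Groth.Agent.Lib.helper9.LocFree.free_stalk_of_flat M x (hflat x)
    obtain ⟨V, n, hxV, hi⟩ :=
      Groth.Agent.Lib.helper9.LocFree.exists_nhd_restrict_iso_freeMod_of_fp M x hfree
    exact ⟨V, n, hxV, hi⟩
  · intro h
    refine ⟨?_, Groth.Agent.Lib.helper9.LocFree.isFinitePresentation_of_isFinLocFree M h⟩
    intro x
    obtain ⟨V, n, hxV, ⟨i⟩⟩ := h x
    haveI := Groth.Agent.Lib.helper9.LocFree.free_stalk_of_restrict_iso M n i x hxV
    show Module.Flat (X.presheaf.stalk x) (M.presheaf.stalk x)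
    infer_instance


/-- A quasi-coherent module on a scheme is flat and of finite presentation if and only if it is finite
locally free. -/
theorem result (X : Scheme.{u}) (M : X.Modules) (hM : Coh.IsQCoh M) :
    (FlatMod.IsFlat M ∧ CohB1.IsFP M) ↔ FlatMod.IsFinLocFree M := by
  exact main X M hM

end Groth.Agent.S9805
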