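import Groth.Statements.S9806
import Groth.Agent.Lib.helper9.LocFree

set_option autoImplicit false
universe u
open CategoryTheory AlgebraicGeometry TopologicalSpace
open Props

namespace Groth.Agent.S9806

open CategoryTheory CategoryTheory.Limits AlgebraicGeometry in
set_option backward.isDefEq.respectTransparency false in
lemma main (X : Scheme.{u}) (M : X.Modules) (hM : Coh.IsQCoh M) :
    (CohB1.IsFP M ∧ ∀ x : X, Module.Free (X.presheaf.stalk x) (M.presheaf.stalk x)) ↔
      FlatMod.IsFinLocFree M := by
  haveI : M.IsQuasicoherent := hM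
  constructor
  · rintro ⟨hfp, hfree⟩ x
    haveI : SheafOfModules.IsFinitePresentation.{u} M := hfp
    obtain ⟨V, n, hxV, hi⟩ :=
      Groth.Agent.Lib.helper9.LocFree.exists_nhd_restrict_iso_freeMod_of_fp M x (hfree x)
    exact ⟨V, n, hxV, hi⟩
  · intro h
    refine ⟨Groth.Agent.Lib.helper9.LocFree.isFinitePresentation_of_isFinLocFree M h, ?_⟩
    intro x
    obtain ⟨V, n, hxV, ⟨i⟩⟩ := h x
    exact Groth.Agent.Lib.helper9.LocFree.free_stalk_of_restrict_iso M n i x hxV


/-- A quasi-coherent module on a scheme is of finite presentation with all stalks free over the local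
rings if and only if it is finite locally free. -/
theorem result (X : Scheme.{u}) (M : X.Modules) (hM : Coh.IsQCoh M) :
    (CohB1.IsFP M ∧ ∀ x : X, Module.Free (X.presheaf.stalk x) (M.presheaf.stalk x)) ↔
      FlatMod.IsFinLocFree M := by
  exact main X M hM

end Groth.Agent.S9806
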