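import Groth.Statements.S9810
import Groth.Agent.Lib.helper26.BrSum4

set_option autoImplicit false
universe u
open Brnch

namespace Groth.Agent.S9810



/-- Branches, in terms of the local ring: for a local ring A with finitely many minimal prime ideals,
the number of branches of A is the sum over the minimal primes p of the numbers of branches of the
local domains A/p. Geometrically: the number of branches of a scheme at a point is the sum of the
numbers of branches at that point of the irreducible components passing through it. -/
theorem result (A : Type u) [CommRing A] [IsLocalRing A]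
    (h : (minimalPrimes A).Finite) :
    Brnch.numBranches A =
      ∑ᶠ p : minimalPrimes A,
        haveI : p.1.IsPrime := p.2.1.1
        Brnch.numBranches (A ⧸ p.1) := by
  classical
  haveI := h.fintype
  rw [finsum_eq_sum_of_fintype]
  have hdom : ∀ p : minimalPrimes A,
      (haveI : p.1.IsPrime := p.2.1.1
       Brnch.numBranches (A ⧸ p.1)) = ENat.card (MaximalSpectrum (CAlg2.normRed (A ⧸ p.1))) := by
    intro p
    haveI : p.1.IsPrime := p.2.1.1
    unfold Brnch.numBranches
    rw [if_pos]
    rw [IsDomain.minimalPrimes_eq_singleton_bot (A ⧸ p.1)]
    exact Set.finite_singleton _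
  simp_rw [hdom]
  unfold Brnch.numBranches
  rw [if_pos h,
    ← ENat.card_congr (Equiv.ofBijective _ (Groth.Agent.Lib.helper26.BrSum.Ψ_bijective A)),
    Groth.Agent.Lib.helper26.BrnchLib.enat_card_sigma_fintype]

end Groth.Agent.S9810
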