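import Groth.Statements.S9811
import Groth.Agent.Lib.helper26.BrSum5

set_option autoImplicit false
universe u
open Brnch

namespace Groth.Agent.S9811



/-- Geometric branches, in terms of the local ring: for a local ring A with finitely many minimal prime
ideals, the number of geometric branches of A is the sum over the minimal primes p of the numbers of
geometric branches of the local domains A/p. -/
theorem result (A : Type u) [CommRing A] [IsLocalRing A]
    (h : (minimalPrimes A).Finite) :
    Brnch.numGeomBranches A =
      ∑ᶠ p : minimalPrimes A,
        haveI : p.1.IsPrime := p.2.1.1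
        Brnch.numGeomBranches (A ⧸ p.1) := by
  classical
  haveI := h.fintype
  rw [finsum_eq_sum_of_fintype]
  have hdom : ∀ p : minimalPrimes A,
      (haveI : p.1.IsPrime := p.2.1.1
       Brnch.numGeomBranches (A ⧸ p.1)) =
        ENat.card (Σ m : MaximalSpectrum (CAlg2.normRed (A ⧸ p.1)), Brnch.Emb (A ⧸ p.1) m) := by
    intro p
    haveI : p.1.IsPrime := p.2.1.1
    unfold Brnch.numGeomBranches
    rw [if_pos]
    rw [IsDomain.minimalPrimes_eq_singleton_bot (A ⧸ p.1)]
    exact Set.finite_singleton _
  simp_rw [hdom]
  unfold Brnch.numGeomBranches
  rw [if_pos h]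
  exact Groth.Agent.Lib.helper26.BrSum.card_sigma_emb A

end Groth.Agent.S9811
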