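import Groth.Statements.S9818
import Groth.Agent.Lib.helper9.PushQCQS
import Groth.Agent.Lib.helper9.QcohLim

set_option autoImplicit false
universe u
open CategoryTheory CategoryTheory.Limits AlgebraicGeometry TopologicalSpace Opposite
open Props

namespace Groth.Agent.S9818

open CategoryTheory CategoryTheory.Limits AlgebraicGeometry Scheme.Modules in
set_option backward.isDefEq.respectTransparency false in
lemma main {X : Scheme.{u}} (U : X.Opens) [QuasiCompact U.ι]
    (F : X.Modules) [F.IsQuasicoherent] (G : (U : Scheme.{u}).Modules) [G.IsQuasicoherent]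
    (φ : G ⟶ F.restrict U.ι) :
    ∃ (H : X.Modules) (ψ : H ⟶ F) (e : H.restrict U.ι ≅ G), H.IsQuasicoherent ∧
      e.hom ≫ φ = (restrictFunctor U.ι).map ψ := by
  haveI h1 : (F.restrict U.ι).IsQuasicoherent := inferInstance
  haveI h3 : ((pushforward U.ι).obj G).IsQuasicoherent :=
    Groth.Agent.Lib.helper9.PushQCQS.isQuasicoherent_pushforward_qcqs U.ι G
  haveI h4 : ((pushforward U.ι).obj (F.restrict U.ι)).IsQuasicoherent :=
    Groth.Agent.Lib.helper9.PushQCQS.isQuasicoherent_pushforward_qcqs U.ι _
  let a : (pushforward U.ι).obj G ⟶ (pushforward U.ι).obj (F.restrict U.ι) :=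
    (pushforward U.ι).map φ
  let η : F ⟶ (pushforward U.ι).obj (F.restrict U.ι) := (restrictAdjunction U.ι).unit.app F
  haveI hH : (pullback a η).IsQuasicoherent :=
    Groth.Agent.Lib.helper9.QcohLim.isQuasicoherent_pullback a η
  have tri : (restrictFunctor U.ι).map η ≫
      (restrictAdjunction U.ι).counit.app ((restrictFunctor U.ι).obj F) = 𝟙 _ :=
    (restrictAdjunction U.ι).left_triangle_components F
  haveI i1 : IsIso ((restrictAdjunction U.ι).counit.app ((restrictFunctor U.ι).obj F)) :=
    inferInstance
  haveI i2 : IsIso ((restrictFunctor U.ι).map η) := by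
    have : (restrictFunctor U.ι).map η =
        inv ((restrictAdjunction U.ι).counit.app ((restrictFunctor U.ι).obj F)) := by
      rw [← cancel_mono ((restrictAdjunction U.ι).counit.app ((restrictFunctor U.ι).obj F)), tri,
        IsIso.inv_hom_id]
    rw [this]; infer_instance
  have sq : IsPullback ((restrictFunctor U.ι).map (pullback.fst a η))
      ((restrictFunctor U.ι).map (pullback.snd a η)) ((restrictFunctor U.ι).map a)
      ((restrictFunctor U.ι).map η) :=
    (IsPullback.of_hasPullback a η).map (restrictFunctor U.ι)
  haveI i3 : IsIso ((restrictFunctor U.ι).map (pullback.fst a η)) := sq.isIso_fst_of_isIso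
  haveI i4 : IsIso ((restrictAdjunction U.ι).counit.app G) := inferInstance
  refine ⟨pullback a η, pullback.snd a η,
    asIso ((restrictFunctor U.ι).map (pullback.fst a η) ≫ (restrictAdjunction U.ι).counit.app G),
    hH, ?_⟩
  have nat : (restrictFunctor U.ι).map a ≫
      (restrictAdjunction U.ι).counit.app ((restrictFunctor U.ι).obj F) =
      (restrictAdjunction U.ι).counit.app G ≫ φ := (restrictAdjunction U.ι).counit.naturality φ
  show ((restrictFunctor U.ι).map (pullback.fst a η) ≫ (restrictAdjunction U.ι).counit.app G) ≫ φ =
    (restrictFunctor U.ι).map (pullback.snd a η)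
  rw [Category.assoc, ← nat, ← Category.assoc, ← Functor.map_comp, pullback.condition,
    Functor.map_comp, Category.assoc, tri, Category.comp_id]


/-- For an open subscheme U of a scheme X with quasi-compact inclusion, a quasi-coherent module G on U
with a map to the restriction of a quasi-coherent module F on X extends to a quasi-coherent module H
on X with a map to F restricting to the given one. Taking F = 0, every quasi-coherent module on U
extends to a quasi-coherent module on X. -/
theorem result {X : Scheme.{u}} (U : X.Opens) [QuasiCompact U.ι]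
    (F : X.Modules) [Coh.IsQCoh F] (G : (U : Scheme.{u}).Modules) [Coh.IsQCoh G] (φ : G ⟶ F.restrict U.ι) :
    ∃ (H : X.Modules) (ψ : H ⟶ F) (e : H.restrict U.ι ≅ G), Coh.IsQCoh H ∧
      e.hom ≫ φ = (Scheme.Modules.restrictFunctor U.ι).map ψ := by
  haveI : F.IsQuasicoherent := ‹Coh.IsQCoh F›
  haveI : G.IsQuasicoherent := ‹Coh.IsQCoh G›
  exact main U F G φ

end Groth.Agent.S9818
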