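import Groth.Statements.S9822
import Mathlib.AlgebraicGeometry.Limits

set_option autoImplicit false
universe u
open CategoryTheory CategoryTheory.Limits AlgebraicGeometry TopologicalSpace Opposite
open Props

namespace Groth.Agent.S9822

/-- A scheme is irreducible if and only if it is nonempty and every nonempty affine open subset is
irreducible. -/
theorem result (X : Scheme.{u}) :
    IrreducibleSpace X ↔ Nonempty X ∧ ∀ U : X.Opens, IsAffineOpen U → (U : Set X).Nonempty → IsIrreducible (U : Set X) := by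
  constructor
  · intro h
    refine ⟨h.toNonempty, fun U _ hne => ⟨hne, ?_⟩⟩
    exact (PreirreducibleSpace.isPreirreducible_univ (X := X)).open_subset U.isOpen (Set.subset_univ _)
  · rintro ⟨hne, h⟩
    have : PreirreducibleSpace X := by
      refine ⟨?_⟩
      rintro A B hA hB ⟨a, -, haA⟩ ⟨b, -, hbB⟩
      obtain ⟨_, ⟨U, hU : IsAffineOpen U, rfl⟩, haU, hUA⟩ :=
        X.isBasis_affineOpens.exists_subset_of_mem_open haA hA
      obtain ⟨_, ⟨V, hV : IsAffineOpen V, rfl⟩, hbV, hVB⟩ :=
        X.isBasis_affineOpens.exists_subset_of_mem_open hbB hB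
      by_cases hUV : Disjoint U V
      · have hW : IsAffineOpen (U ⊔ V) := hU.sup_of_disjoint hV hUV
        have hirr := h (U ⊔ V) hW ⟨a, Or.inl haU⟩
        obtain ⟨z, -, hzU, hzV⟩ := hirr.2 U V U.isOpen V.isOpen
          ⟨a, Or.inl haU, haU⟩ ⟨b, Or.inr hbV, hbV⟩
        exact ⟨z, trivial, hUA hzU, hVB hzV⟩
      · rw [← TopologicalSpace.Opens.coe_disjoint, Set.not_disjoint_iff] at hUV
        obtain ⟨z, hzU, hzV⟩ := hUV
        exact ⟨z, trivial, hUA hzU, hVB hzV⟩
    exact { toNonempty := hne }

end Groth.Agent.S9822
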