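import Groth.Statements.S9825
import Groth.Agent.Lib.helper9.LocFree6
import Mathlib.RingTheory.Flat.LocallyFree

set_option autoImplicit false
universe u
open CategoryTheory CategoryTheory.Limits AlgebraicGeometry TopologicalSpace Opposite
open Props

namespace Groth.Agent.S9825

open CategoryTheory CategoryTheory.Limits AlgebraicGeometry TopologicalSpace Opposite
  Groth.Agent.Lib.helper9.LocFree Groth.Agent.Lib.helper9.CohB in
set_option backward.isDefEq.respectTransparency false in
/-- the fibre rank of a module that is free of rank `n` near `y`. -/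
lemma fibreRank_of_restrict_iso (X : Scheme.{u}) (M : X.Modules) [M.IsQuasicoherent]
    {V : X.Opens} (n : ℕ) (i : M.restrict V.ι ≅ FlatMod.freeMod V n) (y : X) (hy : y ∈ V) :
    Module.finrank (IsLocalRing.ResidueField (X.presheaf.stalk y))
      (TensorProduct (X.presheaf.stalk y) (IsLocalRing.ResidueField (X.presheaf.stalk y))
        (M.presheaf.stalk y)) = n := by
  haveI := free_stalk_of_restrict_iso M n i y hy
  rw [Module.finrank_baseChange]
  exact finrank_stalk_of_restrict_iso M n i y hy

open CategoryTheory CategoryTheory.Limits AlgebraicGeometry TopologicalSpace Opposite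
  Groth.Agent.Lib.helper9.LocFree Groth.Agent.Lib.helper9.CohB in
set_option backward.isDefEq.respectTransparency false in
lemma main_mp (X : Scheme.{u}) (M : X.Modules) [M.IsQuasicoherent]
    (h : FlatMod.IsFinLocFree M) :
    CohB1.IsFT M ∧ (∀ x : X, Module.Free (X.presheaf.stalk x) (M.presheaf.stalk x)) ∧
      IsLocallyConstant (fun x : X =>
        Module.finrank (IsLocalRing.ResidueField (X.presheaf.stalk x))
          (TensorProduct (X.presheaf.stalk x) (IsLocalRing.ResidueField (X.presheaf.stalk x))
            (M.presheaf.stalk x))) := by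
  haveI hfp : SheafOfModules.IsFinitePresentation.{u} M :=
    isFinitePresentation_of_isFinLocFree M h
  refine ⟨?_, ?_, ?_⟩
  · show SheafOfModules.IsFiniteType.{u} M
    infer_instance
  · intro x
    obtain ⟨V, n, hxV, ⟨i⟩⟩ := h x
    exact free_stalk_of_restrict_iso M n i x hxV
  · rw [IsLocallyConstant.iff_exists_open]
    intro x
    obtain ⟨V, n, hxV, ⟨i⟩⟩ := h x
    refine ⟨V, V.isOpen, hxV, ?_⟩
    intro y hy
    exact (fibreRank_of_restrict_iso X M n i y hy).trans
      (fibreRank_of_restrict_iso X M n i x hxV).symm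

open CategoryTheory CategoryTheory.Limits AlgebraicGeometry TopologicalSpace Opposite
  Groth.Agent.Lib.helper9.LocFree Groth.Agent.Lib.helper9.CohB in
set_option backward.isDefEq.respectTransparency false in
lemma main_mpr (X : Scheme.{u}) (M : X.Modules) [M.IsQuasicoherent]
    (hft : SheafOfModules.IsFiniteType.{u} M)
    (hfree : ∀ x : X, Module.Free (X.presheaf.stalk x) (M.presheaf.stalk x))
    (hlc : IsLocallyConstant (fun x : X =>
        Module.finrank (IsLocalRing.ResidueField (X.presheaf.stalk x))
          (TensorProduct (X.presheaf.stalk x) (IsLocalRing.ResidueField (X.presheaf.stalk x))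
            (M.presheaf.stalk x)))) :
    FlatMod.IsFinLocFree M := by
  haveI := hft
  intro x
  obtain ⟨V₀, hV₀, hxV₀, hconst⟩ := (IsLocallyConstant.iff_exists_open _).mp hlc x
  obtain ⟨W, ⟨hW, hfin⟩, hxW, hWV⟩ := (Opens.isBasis_iff_nbhd.mp (isBasis_goodAffine M))
    (show x ∈ (⟨V₀, hV₀⟩ : X.Opens) from hxV₀)
  haveI := hfin
  obtain ⟨qx, hqx⟩ := exists_fromSpec_eq hW hxW
  have hrk : ∀ q : PrimeSpectrum Γ(X, W),
      Module.rankAtStalk (Γmod (M.restrict hW.fromSpec)) q =
        Module.finrank (X.presheaf.stalk (hW.fromSpec q))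
          (M.presheaf.stalk (hW.fromSpec q)) := by
    intro q
    haveI : q.asIdeal.IsPrime := q.2
    exact (stalkSemiEquiv M hW q).finrank_eq
  have hrk2 : ∀ y : X, Module.finrank (X.presheaf.stalk y) (M.presheaf.stalk y) =
      Module.finrank (IsLocalRing.ResidueField (X.presheaf.stalk y))
        (TensorProduct (X.presheaf.stalk y) (IsLocalRing.ResidueField (X.presheaf.stalk y))
          (M.presheaf.stalk y)) := by
    intro y
    haveI := hfree y
    exact Module.finrank_baseChange.symm
  have hconst' : ∀ q : PrimeSpectrum Γ(X, W),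
      Module.rankAtStalk (Γmod (M.restrict hW.fromSpec)) q =
        Module.rankAtStalk (Γmod (M.restrict hW.fromSpec)) qx := by
    intro q
    have hqW : hW.fromSpec q ∈ W := by
      have h : hW.fromSpec q ∈ Set.range hW.fromSpec := ⟨q, rfl⟩
      rw [hW.range_fromSpec] at h
      exact h
    rw [hrk q, hrk qx, hrk2, hrk2, hqx]
    exact hconst _ (hWV hqW)
  haveI hflat : Module.Flat Γ(X, W) (Γmod (M.restrict hW.fromSpec)) := by
    apply Module.flat_of_localized_maximal
    intro P hP
    haveI : P.IsPrime := hP.isPrime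
    haveI := hfree (hW.fromSpec (⟨P, hP.isPrime⟩ : PrimeSpectrum Γ(X, W)))
    haveI hfr : Module.Free (Localization.AtPrime P)
        (LocalizedModule P.primeCompl (Γmod (M.restrict hW.fromSpec))) :=
      (stalkSemiEquiv M hW (⟨P, hP.isPrime⟩ : PrimeSpectrum Γ(X, W))).symm.free
    haveI hfl : Module.Flat (Localization.AtPrime P)
        (LocalizedModule P.primeCompl (Γmod (M.restrict hW.fromSpec))) :=
      Module.Flat.of_free
    exact Module.Flat.trans Γ(X, W) (Localization.AtPrime P) _
  haveI : qx.asIdeal.IsPrime := qx.2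
  obtain ⟨a, haq, hafree⟩ := Module.Free.away_of_finite_of_flat_of_rankAtStalk_constant
    (Γmod (M.restrict hW.fromSpec)) qx.asIdeal (fun m hm => hconst' ⟨m, hm.isPrime⟩)
  haveI := hafree
  obtain ⟨n, hn⟩ := exists_restrict_iso_freeMod_of_away_free M hW a
  refine ⟨hW.fromSpec ''ᵁ (basicOpenS a), n, ?_, hn⟩
  rw [← hqx]
  exact ⟨qx, haq, rfl⟩


/-- A quasi-coherent module on a scheme is finite locally free if and only if it is of finite type with
free stalks and locally constant fibre rank. -/
theorem result (X : Scheme.{u}) (M : X.Modules) [Coh.IsQCoh M] :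
    FlatMod.IsFinLocFree M ↔ CohB1.IsFT M ∧ (∀ x : X, Module.Free (X.presheaf.stalk x) (M.presheaf.stalk x)) ∧
      IsLocallyConstant (fun x : X => Module.finrank (IsLocalRing.ResidueField (X.presheaf.stalk x))
          (TensorProduct (X.presheaf.stalk x) (IsLocalRing.ResidueField (X.presheaf.stalk x)) (M.presheaf.stalk x))) := by
  haveI : M.IsQuasicoherent := ‹Coh.IsQCoh M›
  constructor
  · intro h
    exact main_mp X M h
  · rintro ⟨h1, h2, h3⟩
    exact main_mpr X M h1 h2 h3

end Groth.Agent.S9825
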