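import Groth.Statements.S9824
import Groth.Agent.Lib.helper9.LocFree6
import Groth.Agent.Lib.helper9.RedFree
import Groth.Agent.S9825

set_option autoImplicit false
universe u
open CategoryTheory CategoryTheory.Limits AlgebraicGeometry TopologicalSpace Opposite
open Props

namespace Groth.Agent.S9824

open CategoryTheory CategoryTheory.Limits AlgebraicGeometry TopologicalSpace Opposite
  Groth.Agent.Lib.helper9.LocFree Groth.Agent.Lib.helper9.CohB in
set_option backward.isDefEq.respectTransparency false in
lemma main_mpr (X : Scheme.{u}) [IsReduced X] (M : X.Modules) [M.IsQuasicoherent]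
    (hft : SheafOfModules.IsFiniteType.{u} M)
    (hlc : IsLocallyConstant (fun x : X =>
        Module.finrank (IsLocalRing.ResidueField (X.presheaf.stalk x))
          (TensorProduct (X.presheaf.stalk x) (IsLocalRing.ResidueField (X.presheaf.stalk x))
            (M.presheaf.stalk x)))) :
    FlatMod.IsFinLocFree M := by
  haveI := hft
  intro x
  obtain ⟨V₀, hV₀, hxV₀, hconst⟩ := (IsLocallyConstant.iff_exists_open _).mp hlc x
  obtain ⟨W, ⟨hW, hfin⟩, hxW, hWV⟩ := (Opens.isBasis_iff_nbhd.mp (isBasis_goodAffine M))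
    (show x ∈ (⟨V₀, hV₀⟩ : X.Opens) from hxV₀)
  haveI := hfin
  obtain ⟨qx, hqx⟩ := exists_fromSpec_eq hW hxW
  haveI : qx.asIdeal.IsPrime := qx.2
  have hrank : ∀ (q : Ideal Γ(X, W)) [q.IsPrime],
      Module.finrank (IsLocalRing.ResidueField (Localization.AtPrime q))
        (TensorProduct (Localization.AtPrime q)
          (IsLocalRing.ResidueField (Localization.AtPrime q))
          (LocalizedModule q.primeCompl (Γmod (M.restrict hW.fromSpec)))) =
      Module.finrank (IsLocalRing.ResidueField (X.presheaf.stalk x))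
          (TensorProduct (X.presheaf.stalk x) (IsLocalRing.ResidueField (X.presheaf.stalk x))
            (M.presheaf.stalk x)) := by
    intro q hq
    have hqW : hW.fromSpec (⟨q, hq⟩ : PrimeSpectrum Γ(X, W)) ∈ W := by
      have h : hW.fromSpec (⟨q, hq⟩ : PrimeSpectrum Γ(X, W)) ∈ Set.range hW.fromSpec :=
        ⟨_, rfl⟩
      rw [hW.range_fromSpec] at h
      exact h
    haveI : Module.Finite (X.presheaf.stalk (hW.fromSpec (⟨q, hq⟩ : PrimeSpectrum Γ(X, W))))
        (M.presheaf.stalk (hW.fromSpec (⟨q, hq⟩ : PrimeSpectrum Γ(X, W)))) :=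
      (stalkSemiEquiv M hW (⟨q, hq⟩ : PrimeSpectrum Γ(X, W))).finite
    have h1 := (stalkSemiEquiv M hW (⟨q, hq⟩ : PrimeSpectrum Γ(X, W))).fibreRank_eq
    exact h1.trans (hconst _ (hWV hqW))
  obtain ⟨t, htq, hfree⟩ := Groth.Agent.Lib.helper9.RedFree.exists_away_free_of_reduced
    Γ(X, W) (Γmod (M.restrict hW.fromSpec)) _ hrank qx.asIdeal
  haveI := hfree
  obtain ⟨n, hn⟩ := exists_restrict_iso_freeMod_of_away_free M hW t
  refine ⟨hW.fromSpec ''ᵁ (basicOpenS t), n, ?_, hn⟩
  rw [← hqx]
  exact ⟨qx, htq, rfl⟩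


/-- Over a reduced scheme, a quasi-coherent module is finite locally free if and only if it is of finite
type and its fibre rank (the dimension of the stalk tensored with the residue field) is a locally
constant function. -/
theorem result (X : Scheme.{u}) [IsReduced X]
    (M : X.Modules) [Coh.IsQCoh M] :
    FlatMod.IsFinLocFree M ↔ CohB1.IsFT M ∧
      IsLocallyConstant (fun x : X => Module.finrank (IsLocalRing.ResidueField (X.presheaf.stalk x))
          (TensorProduct (X.presheaf.stalk x) (IsLocalRing.ResidueField (X.presheaf.stalk x)) (M.presheaf.stalk x))) := by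
  haveI : M.IsQuasicoherent := ‹Coh.IsQCoh M›
  constructor
  · intro h
    obtain ⟨h1, -, h3⟩ := Groth.Agent.S9825.main_mp X M h
    exact ⟨h1, h3⟩
  · rintro ⟨h1, h3⟩
    exact main_mpr X M h1 h3

end Groth.Agent.S9824
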