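import Groth.Statements.S9827
import Groth.Agent.Lib.helper9.TildeFin

set_option autoImplicit false
universe u
open CategoryTheory CategoryTheory.Limits AlgebraicGeometry TopologicalSpace Opposite
open Props

namespace Groth.Agent.S9827

/-- The sheaf associated to a module over a ring is of finite presentation on the spectrum if and only
if the module is finitely presented. -/
theorem result (R : CommRingCat.{u}) (M : ModuleCat.{u} R) :
    CohB1.IsFP (tilde M) ↔ Module.FinitePresentation R M := by
  constructor
  · intro h
    haveI : SheafOfModules.IsFinitePresentation.{u} (tilde M) := h
    exact Groth.Agent.Lib.helper9.TildeFin.finitePresentation_of_isFinitePresentation_tilde M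
  · intro h
    exact Groth.Agent.Lib.helper9.TildeFin.isFinitePresentation_tilde_of_finitePresentation M

end Groth.Agent.S9827
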