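import Groth.Statements.S9833
import Groth.Agent.Lib.helper26.NagLoc
import Groth.Agent.S9400

set_option autoImplicit false
universe u
open CategoryTheory AlgebraicGeometry TopologicalSpace
open Props

namespace Groth.Agent.S9833



/-- If a scheme has an affine open covering by spectra of Nagata rings, then the coordinate ring of
every affine open is Nagata. -/
theorem result (X : Scheme.{u}) {ι : Type u} (U : ι → X.Opens)
    (hU : iSup U = ⊤) (haff : ∀ i, IsAffineOpen (U i)) (hN : ∀ i, CAlg.IsNagata Γ(X, U i))
    (V : X.Opens) (hV : IsAffineOpen V) : CAlg.IsNagata Γ(X, V) := by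
  refine of_affine_open_cover (P := fun W : X.affineOpens => CAlg.IsNagata Γ(X, W.1))
    (fun i => ⟨U i, haff i⟩) (by simpa using hU) ⟨V, hV⟩ ?_ ?_ hN
  · intro W f hW
    haveI : IsLocalization.Away f Γ(X, X.basicOpen f) := W.2.isLocalization_basicOpen f
    exact Groth.Agent.Lib.helper26.NagLoc.isNagata_of_isLocalization Γ(X, W.1) hW
      (Submonoid.powers f) Γ(X, X.basicOpen f)
  · intro W s hs hP
    refine Groth.Agent.S9400.result Γ(X, W.1) (ι := s) (fun f => f.1) ?_ (fun f => ?_)
    · have : (Set.range fun f : s => (f.1 : Γ(X, W.1))) = (s : Set Γ(X, W.1)) :=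
        Subtype.range_coe
      rw [this]; exact hs
    · haveI : IsLocalization.Away f.1 Γ(X, X.basicOpen f.1) := W.2.isLocalization_basicOpen f.1
      exact Groth.Agent.Lib.helper26.NagLoc.isNagata_of_ringEquiv
        (IsLocalization.algEquiv (Submonoid.powers f.1) Γ(X, X.basicOpen f.1)
          (Localization.Away f.1)).toRingEquiv (hP f)

end Groth.Agent.S9833
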