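import Groth.Statements.S9834
import Groth.Agent.Lib.helper26.NagLoc
import Groth.Agent.S9399
import Groth.Agent.S9398

set_option autoImplicit false
universe u
open CategoryTheory AlgebraicGeometry TopologicalSpace
open Props

namespace Groth.Agent.S9834



/-- If a scheme has an affine open covering by spectra of universally Japanese rings, then the
coordinate ring of every affine open is universally Japanese. -/
theorem result (X : Scheme.{u}) {ι : Type u} (U : ι → X.Opens)
    (hU : iSup U = ⊤) (haff : ∀ i, IsAffineOpen (U i)) (hJ : ∀ i, CAlg.IsUniversallyJapanese Γ(X, U i))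
    (V : X.Opens) (hV : IsAffineOpen V) : CAlg.IsUniversallyJapanese Γ(X, V) := by
  have htrans : ∀ {A B : Type u} [CommRing A] [CommRing B] (e : A ≃+* B),
      CAlg.IsUniversallyJapanese A → CAlg.IsUniversallyJapanese B := by
    intro A B _ _ e hA
    letI := e.toRingHom.toAlgebra
    haveI : Algebra.FiniteType A B :=
      Algebra.FiniteType.of_surjective (Algebra.ofId A B) e.surjective
    exact Groth.Agent.S9398.result A hA B
  refine of_affine_open_cover (P := fun W : X.affineOpens => CAlg.IsUniversallyJapanese Γ(X, W.1))
    (fun i => ⟨U i, haff i⟩) (by simpa using hU) ⟨V, hV⟩ ?_ ?_ hJ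
  · intro W f hW
    haveI : IsLocalization.Away f Γ(X, X.basicOpen f) := W.2.isLocalization_basicOpen f
    haveI : Algebra.EssFiniteType Γ(X, W.1) Γ(X, X.basicOpen f) :=
      Algebra.EssFiniteType.of_isLocalization _ (Submonoid.powers f)
    exact Groth.Agent.S9398.result Γ(X, W.1) hW Γ(X, X.basicOpen f)
  · intro W s hs hP
    refine Groth.Agent.S9399.result Γ(X, W.1) (ι := s) (fun f => f.1) ?_ (fun f => ?_)
    · have : (Set.range fun f : s => (f.1 : Γ(X, W.1))) = (s : Set Γ(X, W.1)) :=
        Subtype.range_coe
      rw [this]; exact hs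
    · haveI : IsLocalization.Away f.1 Γ(X, X.basicOpen f.1) := W.2.isLocalization_basicOpen f.1
      exact htrans
        (IsLocalization.algEquiv (Submonoid.powers f.1) Γ(X, X.basicOpen f.1)
          (Localization.Away f.1)).toRingEquiv (hP f)

end Groth.Agent.S9834
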