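import Groth.Statements.S9835
import Groth.Agent.Lib.helper26.NagLoc

set_option autoImplicit false
universe u
open CategoryTheory AlgebraicGeometry TopologicalSpace
open Props

namespace Groth.Agent.S9835



/-- If an integral scheme has an affine open covering by spectra of Japanese (N-2) domains, then the
coordinate ring of every nonempty affine open is a Japanese domain. -/
theorem result (X : Scheme.{u}) [IsIntegral X] {ι : Type u}
    (U : ι → X.Opens) [∀ i, Nonempty (U i)] (hU : iSup U = ⊤) (haff : ∀ i, IsAffineOpen (U i))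
    (hJ : ∀ i, CAlg.IsN2 Γ(X, U i)) (V : X.Opens) [Nonempty V] (hV : IsAffineOpen V) :
    CAlg.IsN2 Γ(X, V) := by
  have key : (fun W : X.affineOpens => ∀ h : IsDomain Γ(X, W.1), @CAlg.IsN2 Γ(X, W.1) _ h)
      ⟨V, hV⟩ := by
    refine of_affine_open_cover
      (P := fun W : X.affineOpens => ∀ h : IsDomain Γ(X, W.1), @CAlg.IsN2 Γ(X, W.1) _ h)
      (fun i => ⟨U i, haff i⟩) (by simpa using hU) ⟨V, hV⟩ ?_ ?_ (fun i _ => hJ i)
    · intro W f hW hdom
      haveI : IsLocalization.Away f Γ(X, X.basicOpen f) := W.2.isLocalization_basicOpen f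
      have hne : Nonempty (X.basicOpen f) := by
        by_contra hcon
        rw [not_nonempty_iff] at hcon
        have hbot : X.basicOpen f = ⊥ := by
          ext x
          simp only [TopologicalSpace.Opens.coe_bot, Set.mem_empty_iff_false, iff_false]
          exact fun hx => hcon.false ⟨x, hx⟩
        have hsub : Subsingleton Γ(X, X.basicOpen f) := by rw [hbot]; infer_instance
        exact (not_subsingleton_iff_nontrivial.2 hdom.toNontrivial) hsub
      haveI : Nonempty W.1 := by
        obtain ⟨x, hx⟩ := hne
        exact ⟨⟨x, X.basicOpen_le f hx⟩⟩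
      haveI : IsDomain Γ(X, W.1) := IsIntegral.component_integral W.1
      exact H14.isN2_of_isLocalization Γ(X, W.1) (Submonoid.powers f) Γ(X, X.basicOpen f)
        (hW inferInstance)
    · intro W s hs hP hdom
      let g : {f : s // f.1 ≠ 0} → Γ(X, W.1) := fun f => f.1.1
      have hg : Ideal.span (Set.range g) = ⊤ := by
        rw [eq_top_iff, ← hs, Ideal.span_le]
        intro x hx
        by_cases hx0 : x = 0
        · rw [hx0]; exact zero_mem _
        · exact Ideal.subset_span ⟨⟨⟨x, hx⟩, hx0⟩, rfl⟩
      haveI : ∀ i : {f : s // f.1 ≠ 0}, IsLocalization.Away (g i) Γ(X, X.basicOpen (g i)) :=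
        fun i => W.2.isLocalization_basicOpen (g i)
      haveI hdomi : ∀ i : {f : s // f.1 ≠ 0}, IsDomain Γ(X, X.basicOpen (g i)) := fun i =>
        IsLocalization.isDomain_of_le_nonZeroDivisors (R := Γ(X, W.1))
          (M := Submonoid.powers (g i)) (S := Γ(X, X.basicOpen (g i)))
          (powers_le_nonZeroDivisors_of_noZeroDivisors i.2)
      exact H14.isN2_of_cover Γ(X, W.1) g hg (fun i => Γ(X, X.basicOpen (g i)))
        (fun i => hP i.1 (hdomi i))
  exact key inferInstance

end Groth.Agent.S9835
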