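import Groth.Statements.S9838
import Groth.Agent.Lib.helper9.FTLocal
import Groth.Agent.S0019

set_option autoImplicit false
open CategoryTheory CategoryTheory.Limits AlgebraicGeometry Opposite
universe u
open Desc

namespace Groth.Agent.S9838

lemma finite_of_smul_eq' {B A' : Type*} [CommRing B] [CommRing A'] (φ : B →+* A')
    {N N' : Type*} [AddCommGroup N] [Module A' N] [AddCommGroup N'] [Module B N']
    [Module.Finite B N'] (e : N' ≃+ N)
    (he : ∀ (c : B) (x : N'), e (c • x) = φ c • e x) : Module.Finite A' N := by
  letI : Algebra B A' := φ.toAlgebra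
  letI : Module B N := Module.compHom N φ
  haveI : IsScalarTower B A' N := IsScalarTower.of_algebraMap_smul (fun c x => rfl)
  let e' : N' ≃ₗ[B] N := { e with map_smul' := fun c x => he c x }
  haveI : Module.Finite B N := Module.Finite.equiv e'
  exact Module.Finite.of_restrictScalars_finite B A' N

open AlgebraicGeometry CategoryTheory Opposite TopologicalSpace Scheme.Modules
  Groth.Agent.Lib.helper9.CohB Groth.Agent.Lib.helper9.AffSect
  Groth.Agent.Lib.helper9.QcohLoc Groth.Agent.Lib.helper9.PushAff
  Groth.Agent.Lib.helper9.FinAff Groth.Agent.Lib.helper9.FTLocal in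
set_option backward.isDefEq.respectTransparency false in
lemma main {X Y : Scheme.{u}} (f : X ⟶ Y) [IsFinite f] (F : X.Modules) [F.IsQuasicoherent] :
    SheafOfModules.IsFiniteType (R := X.ringCatSheaf) F ↔
      SheafOfModules.IsFiniteType (R := Y.ringCatSheaf) ((pushforward f).obj F) := by
  haveI hPqc : ((pushforward f).obj F).IsQuasicoherent := isQuasicoherent_pushforward f F
  constructor
  · intro hF
    haveI := hF
    apply isFiniteType_of_forall_exists
    intro y
    obtain ⟨W, hW, hyW, -⟩ := exists_isAffineOpen_mem_and_subset (x := y) (U := ⊤) trivial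
    exact ⟨W, hW, hyW, Groth.Agent.S0019.finite_Γmod_pushforward f F hW⟩
  · intro hP
    haveI := hP
    apply isFiniteType_of_forall_exists
    intro x
    obtain ⟨W, hW, hyW, -⟩ := exists_isAffineOpen_mem_and_subset (x := f x) (U := ⊤) trivial
    have hU' : IsAffineOpen (f ⁻¹ᵁ (hW.fromSpec ''ᵁ ⊤)) := by
      rw [image_top hW]
      exact hW.preimage f
    have hxU' : x ∈ f ⁻¹ᵁ (hW.fromSpec ''ᵁ ⊤) := by
      rw [image_top hW]
      exact hyW
    refine ⟨_, hU', hxU', ?_⟩
    haveI := finite_Γmod ((pushforward f).obj F) hW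
    haveI hfin : Module.Finite Γ(X, f ⁻¹ᵁ (hW.fromSpec ''ᵁ ⊤))
        Γ(F, f ⁻¹ᵁ (hW.fromSpec ''ᵁ ⊤)) :=
      finite_of_smul_eq'
        ((f.app (hW.fromSpec ''ᵁ ⊤)).hom.comp
          (Y.presheaf.map (homOfLE (image_le hW ⊤)).op).hom)
        (N' := Γmod (((pushforward f).obj F).restrict hW.fromSpec))
        { toFun := fun x => x
          invFun := fun x => x
          left_inv := fun _ => rfl
          right_inv := fun _ => rfl
          map_add' := fun _ _ => rfl }
        (fun c x => smul_H f F hW ⊤ c x)
    exact Module.Finite.equiv (sectEquiv F hU').symm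


/-- Let f : X ⟶ Y be a finite morphism of schemes and F a quasi-coherent O_X-module. The pushforward
f_*F is of finite type as an O_Y-module exactly when F itself is of finite type as an O_X-module. -/
theorem result {X Y : Scheme.{u}} (f : X ⟶ Y) [IsFinite f]
    (F : X.Modules) [F.IsQuasicoherent] :
    SheafOfModules.IsFiniteType (R := X.ringCatSheaf) F ↔
      SheafOfModules.IsFiniteType (R := Y.ringCatSheaf) ((Scheme.Modules.pushforward f).obj F) := by
  exact main f F

end Groth.Agent.S9838
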