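import Groth.Statements.S9842
import Mathlib

set_option autoImplicit false
open CategoryTheory CategoryTheory.Limits AlgebraicGeometry Opposite
universe u
open Desc

namespace Groth.Agent.S9842

/-- Let E/k be a field extension, Y a scheme over k and f : X ⟶ Y a morphism. Writing Y_E = Y ×_k Spec
E, the morphism f is dominant if and only if its base change X ×_Y Y_E ⟶ Y_E is dominant. -/
theorem result {k E : Type u} [Field k] [Field E] [Algebra k E]
    {X Y : Scheme.{u}} (f : X ⟶ Y) (q : Y ⟶ Spec (.of k)) :
    IsDominant f ↔
      IsDominant (pullback.snd f (pullback.fst q (Spec.map (CommRingCat.ofHom (algebraMap k E))))) := by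
  let j := Spec.map (CommRingCat.ofHom (algebraMap k E))
  let p := pullback.fst q j
  haveI : Surjective j := by
    refine ⟨fun x => ⟨default, Subsingleton.elim _ _⟩⟩
  haveI : UniversallyOpen j := inferInstance
  haveI : Surjective p := inferInstance
  haveI : UniversallyOpen p := inferInstance
  have hopen : IsOpenMap p.base := p.isOpenMap
  have hrange : Set.range (pullback.snd f p).base = p.base ⁻¹' Set.range f.base :=
    Scheme.Pullback.range_snd f p
  rw [isDominant_iff, isDominant_iff, denseRange_iff_closure_range, denseRange_iff_closure_range,
    hrange, ← hopen.preimage_closure_eq_closure_preimage p.continuous, Set.preimage_eq_univ_iff,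
    p.surjective.range_eq, Set.univ_subset_iff]

end Groth.Agent.S9842
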