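import Groth.Statements.S9843
import Mathlib

set_option autoImplicit false
open CategoryTheory CategoryTheory.Limits AlgebraicGeometry Opposite
universe u
open Desc

namespace Groth.Agent.S9843

/-- Being dominant is fppf local on the base: for every fppf covering family Y i ⟶ Y (flat, locally of
finite presentation, jointly surjective), a morphism X ⟶ Y is dominant if and only if all its base
changes X ×_Y Y i ⟶ Y i are. -/
theorem result :
    MorphismProperty.IsLocalAtTarget (@IsDominant : MorphismProperty Scheme.{u}) Scheme.fppfPrecoverage := by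
  haveI := IsDominant.respectsIso.{u}
  refine { pullbackSnd := ?_, of_forall_pullbackSnd := ?_ }
  · intro X Y f R U g hR hg hf _
    have hg' : (@Flat ⊓ @LocallyOfFinitePresentation : MorphismProperty Scheme.{u}) g := hR.2 hg
    haveI : Flat g := hg'.1
    haveI : LocallyOfFinitePresentation g := hg'.2
    refine ⟨?_⟩
    rw [DenseRange, dense_iff_inter_open]
    intro V hV hne
    have hgV : IsOpen (g '' V) := g.isOpenMap _ hV
    obtain ⟨v, hv⟩ := hne
    obtain ⟨_, ⟨v', hv', rfl⟩, ⟨y, hy⟩⟩ :=
      (dense_iff_inter_open.1 hf.denseRange) _ hgV ⟨g v, v, hv, rfl⟩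
    obtain ⟨z, hz1, hz2⟩ := Scheme.Pullback.exists_preimage_pullback y v' hy
    exact ⟨v', hv', z, hz2⟩
  · intro X Y f R hR h
    refine ⟨?_⟩
    rw [DenseRange, dense_iff_inter_open]
    intro V hV hne
    obtain ⟨x, hx⟩ := hne
    have hR1 := hR.1
    rw [Scheme.jointlySurjectivePrecoverage, Presieve.mem_comap_jointlySurjectivePrecoverage_iff] at hR1
    obtain ⟨U, g, hg, u, hu⟩ := hR1 x
    have hu' : g u = x := hu
    have hd : IsDominant (pullback.snd f g) := h hg
    have hgV : IsOpen (g ⁻¹' V) := hV.preimage g.continuous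
    obtain ⟨_, hw, ⟨z, rfl⟩⟩ :=
      (dense_iff_inter_open.1 hd.denseRange) _ hgV ⟨u, by show g u ∈ V; rw [hu']; exact hx⟩
    refine ⟨g (pullback.snd f g z), hw, pullback.fst f g z, ?_⟩
    rw [← Scheme.Hom.comp_apply, ← Scheme.Hom.comp_apply, pullback.condition]

end Groth.Agent.S9843
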