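import Groth.Statements.S9845
import Mathlib

set_option autoImplicit false
open CategoryTheory CategoryTheory.Limits AlgebraicGeometry Opposite
universe u
open Desc

namespace Groth.Agent.S9845

/-- Being an open morphism (open underlying map) is fppf local on the source: for every fppf covering
family g i : X i ⟶ X, a morphism f : X ⟶ Y has open underlying map if and only if every composite g
i ≫ f does. -/
theorem result :
    MorphismProperty.IsLocalAtSource (topologically (fun f => IsOpenMap f) : MorphismProperty Scheme.{u})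
      Scheme.fppfPrecoverage := by
  refine MorphismProperty.IsLocalAtSource.mk_of_iff_of_zeroHypercover fun {X Y} f 𝒰 =>
    ⟨fun hf i => ?_, fun h => ?_⟩
  · obtain ⟨h1, h2⟩ := Scheme.Cover.map_prop (P := @Flat ⊓ @LocallyOfFinitePresentation) 𝒰 i
    have h3 : Flat (𝒰.f i) := h1
    have h4 : LocallyOfFinitePresentation (𝒰.f i) := h2
    change IsOpenMap (𝒰.f i ≫ f)
    rw [Scheme.Hom.comp_base]
    exact (show IsOpenMap f from hf).comp (𝒰.f i).isOpenMap
  · change IsOpenMap f
    intro U hU
    have hcov : f '' U = ⋃ i, (𝒰.f i ≫ f) '' ((𝒰.f i) ⁻¹' U) := by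
      ext y
      simp only [Set.mem_image, Set.mem_iUnion, Set.mem_preimage]
      constructor
      · rintro ⟨x, hx, rfl⟩
        obtain ⟨i, z, rfl⟩ := Scheme.Cover.exists_eq
          (K := Scheme.precoverage (@Flat ⊓ @LocallyOfFinitePresentation)) 𝒰 x
        exact ⟨i, z, hx, by rw [Scheme.Hom.comp_apply]⟩
      · rintro ⟨i, z, hz, rfl⟩
        exact ⟨𝒰.f i z, hz, by rw [Scheme.Hom.comp_apply]⟩
    rw [hcov]
    exact isOpen_iUnion fun i => (show IsOpenMap (𝒰.f i ≫ f) from h i) _
      (hU.preimage (𝒰.f i).continuous)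

end Groth.Agent.S9845
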