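import Groth.Statements.S9846
import Mathlib
import Groth.Agent.S9845

set_option autoImplicit false
open CategoryTheory CategoryTheory.Limits AlgebraicGeometry Opposite
universe u
open Desc

namespace Groth.Agent.S9846

/-- Being universally open is fppf local on the source: for every fppf covering family g i : X i ⟶ X, a
morphism f : X ⟶ Y is universally open if and only if every composite g i ≫ f is. -/
theorem result :
    MorphismProperty.IsLocalAtSource (@UniversallyOpen : MorphismProperty Scheme.{u}) Scheme.fppfPrecoverage := by
  have hloc := Groth.Agent.S9845.result.{u}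
  refine MorphismProperty.IsLocalAtSource.mk_of_iff_of_zeroHypercover fun {X Y} f 𝒰 =>
    ⟨fun hf i => ?_, fun h => ?_⟩
  · obtain ⟨h1, h2⟩ := Scheme.Cover.map_prop (P := @Flat ⊓ @LocallyOfFinitePresentation) 𝒰 i
    have h3 : Flat (𝒰.f i) := h1
    have h4 : LocallyOfFinitePresentation (𝒰.f i) := h2
    have h5 : UniversallyOpen f := hf
    exact (inferInstance : UniversallyOpen (𝒰.f i ≫ f))
  · refine ⟨fun X' Y' i₁ i₂ f' sq => ?_⟩
    rw [MorphismProperty.IsLocalAtSource.iff_of_zeroHypercover
      (P := topologically (fun f => IsOpenMap f)) (𝒰.pullback₁ i₁)]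
    intro j
    have hj : UniversallyOpen (𝒰.f j ≫ f) := h j
    have big := ((IsPullback.of_hasPullback i₁ (𝒰.f j)).flip.paste_vert sq.flip).flip
    exact hj.universally_isOpenMap _ _ _ big

end Groth.Agent.S9846
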