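import Groth.Statements.S9847
import Groth.Agent.Lib.helper15.FPSrc

set_option autoImplicit false
open CategoryTheory CategoryTheory.Limits AlgebraicGeometry Opposite
universe u
open Desc

namespace Groth.Agent.S9847

/-- Being etale is etale local on the source: for every etale covering family g i : X i ⟶ X (etale,
jointly surjective), a morphism f : X ⟶ Y is etale if and only if every composite g i ≫ f is. -/
theorem result :
    MorphismProperty.IsLocalAtSource (@Etale : MorphismProperty Scheme.{u}) Scheme.etalePrecoverage := by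
  haveI : Precoverage.Small.{u} (Scheme.etalePrecoverage.{u}) :=
    inferInstanceAs (Precoverage.Small.{u} (Scheme.precoverage @Etale))
  apply MorphismProperty.IsLocalAtSource.mk_of_small.{u}
  · intro X Y f 𝒰 hf i
    have h1 : Etale (𝒰.f i) := ((Scheme.presieve₀_mem_precoverage_iff _).1 𝒰.mem₀).2 i
    exact MorphismProperty.comp_mem @Etale _ _ h1 hf
  · intro X Y f 𝒰 h
    have hmem := (Scheme.presieve₀_mem_precoverage_iff _).1 𝒰.mem₀
    haveI : Etale (Sigma.desc 𝒰.f) := IsZariskiLocalAtSource.sigmaDesc (P := @Etale) hmem.2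
    haveI : Surjective (Sigma.desc 𝒰.f) := by
      apply Surjective.sigmaDesc_of_union_range_eq_univ
      rw [Set.eq_univ_iff_forall]
      intro x
      obtain ⟨i, hi⟩ := hmem.1 x
      exact Set.mem_iUnion.2 ⟨i, hi⟩
    haveI : Etale (Sigma.desc 𝒰.f ≫ f) := by
      have h2 : Sigma.desc 𝒰.f ≫ f = Sigma.desc (fun i => 𝒰.f i ≫ f) := by
        apply Sigma.hom_ext
        intro i
        simp
      rw [h2]
      exact IsZariskiLocalAtSource.sigmaDesc (P := @Etale) h
    exact Groth.Agent.Lib.H15.etale_of_etale_cover (Sigma.desc 𝒰.f) f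

end Groth.Agent.S9847
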