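import Groth.Statements.S9852
import Mathlib
-- import your own Groth.Agent.* helpers here

set_option autoImplicit false
open CategoryTheory CategoryTheory.Limits AlgebraicGeometry Opposite
universe u
open Desc

namespace Groth.Agent.S9852


section H5opts
set_option backward.isDefEq.respectTransparency false
set_option backward.isDefEq.respectTransparency.types false
open CategoryTheory CategoryTheory.Limits AlgebraicGeometry Opposite

namespace H5S9852
open Desc

variable {X X' S : Scheme.{u}} (a : X ⟶ S) (a' : X' ⟶ S) (g : X ⟶ X') (h : g ≫ a' = a)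

/-- the pullback functor in question -/
noncomputable abbrev F : SchDDFam (fun _ : PUnit.{u + 1} => a') ⥤ SchDDFam (fun _ : PUnit.{u + 1} => a) :=
  Desc.pullDDFam (f := fun _ : PUnit.{u + 1} => a') (f' := fun _ : PUnit.{u + 1} => a) (α := fun j => j)
        (p := 𝟙 S) (p' := fun _ => g) (fun _ => (h).trans (Category.comp_id a).symm)

lemma map_left_fst {D D' : SchDDFam (fun _ : PUnit.{u + 1} => a')} (α : D ⟶ D') :
    (((F a a' g h).map α).hom ⟨⟩).left ≫ pullback.fst (D'.obj ⟨⟩).hom g =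
      pullback.fst (D.obj ⟨⟩).hom g ≫ (α.hom ⟨⟩).left :=
  pullback.lift_fst _ _ _

include h in
/-- key: a morphism of descent data is determined by its pullback, when `a` is flat surjective -/
lemma key [Surjective a] [Flat a] {D D' : SchDDFam (fun _ : PUnit.{u + 1} => a')} (α β : D ⟶ D')
    (hαβ : pullback.fst (D.obj ⟨⟩).hom g ≫ (α.hom ⟨⟩).left =
      pullback.fst (D.obj ⟨⟩).hom g ≫ (β.hom ⟨⟩).left) : α = β := by
  apply SchDDFam.hom_ext
  funext j
  cases j
  ext
  set πV := (D.obj ⟨⟩).hom with hπV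
  let prV := pullback.fst (πV ≫ a') a
  let prX := pullback.snd (πV ≫ a') a
  haveI : Epi prV := Flat.epi_of_flat_of_surjective _
  have hc : (prV ≫ πV) ≫ a' = (prX ≫ g) ≫ a' := by
    rw [Category.assoc, Category.assoc, h]
    exact pullback.condition
  let v : Lifts (D.obj ⟨⟩) (prV ≫ πV) := ⟨prV, rfl⟩
  let w := D.φ (i := ⟨⟩) (j := ⟨⟩) (prV ≫ πV) (prX ≫ g) hc v
  have hw : w.1 ≫ πV = prX ≫ g := w.2
  let vα : Lifts (D'.obj ⟨⟩) (prV ≫ πV) := ⟨prV ≫ (α.hom ⟨⟩).left, by
    rw [Category.assoc, Over.w (α.hom ⟨⟩)]⟩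
  let vβ : Lifts (D'.obj ⟨⟩) (prV ≫ πV) := ⟨prV ≫ (β.hom ⟨⟩).left, by
    rw [Category.assoc, Over.w (β.hom ⟨⟩)]⟩
  have cα := α.comm (i := ⟨⟩) (j := ⟨⟩) (prV ≫ πV) (prX ≫ g) hc v vα rfl
  have cβ := β.comm (i := ⟨⟩) (j := ⟨⟩) (prV ≫ πV) (prX ≫ g) hc v vβ rfl
  have hfac : w.1 = pullback.lift w.1 prX hw ≫ pullback.fst πV g := (pullback.lift_fst _ _ _).symm
  have e : w.1 ≫ (α.hom ⟨⟩).left = w.1 ≫ (β.hom ⟨⟩).left := by
    rw [hfac, Category.assoc, Category.assoc, hαβ]
  have e2 : (D'.φ (i := ⟨⟩) (j := ⟨⟩) (prV ≫ πV) (prX ≫ g) hc vα).1 =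
      (D'.φ (i := ⟨⟩) (j := ⟨⟩) (prV ≫ πV) (prX ≫ g) hc vβ).1 := by
    rw [cα, cβ]
    exact e
  have e3 : vα = vβ := (D'.φ (i := ⟨⟩) (j := ⟨⟩) (prV ≫ πV) (prX ≫ g) hc).injective (Subtype.ext e2)
  have e4 : prV ≫ (α.hom ⟨⟩).left = prV ≫ (β.hom ⟨⟩).left := congrArg Subtype.val e3
  exact (cancel_epi prV).1 e4

theorem main [Surjective a] [Flat a] : (F a a' g h).Faithful := by
  refine ⟨?_⟩
  intro D D' α β hαβ
  apply key a a' g h α β
  rw [← map_left_fst a a' g h α, ← map_left_fst a a' g h β, hαβ]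

end H5S9852
end H5opts

/-- Let g : X ⟶ X' be a morphism of schemes over S, with structure morphisms a : X ⟶ S and a' : X' ⟶ S,
and assume a is surjective and flat. Then the pullback functor along g, from descent data for
schemes relative to X' ⟶ S to descent data relative to X ⟶ S, is faithful. (Descent data relative to
a single morphism are written as descent data relative to the corresponding one-member family.) -/
theorem result {X X' S : Scheme.{u}} (a : X ⟶ S) (a' : X' ⟶ S) (g : X ⟶ X')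
    (h : g ≫ a' = a) [Surjective a] [Flat a] :
    (Desc.pullDDFam (f := fun _ : PUnit.{u + 1} => a') (f' := fun _ : PUnit.{u + 1} => a) (α := fun j => j)
        (p := 𝟙 S) (p' := fun _ => g) (fun _ => (h).trans (Category.comp_id a).symm)).Faithful := by
  exact H5S9852.main a a' g h

end Groth.Agent.S9852
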