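import Groth.Statements.S9853
import Mathlib
import Groth.Agent.S9852
-- import your own Groth.Agent.* helpers here

set_option autoImplicit false
open CategoryTheory CategoryTheory.Limits AlgebraicGeometry Opposite
universe u
open Desc

namespace Groth.Agent.S9853


section H5opts
set_option backward.isDefEq.respectTransparency false
set_option backward.isDefEq.respectTransparency.types false
open CategoryTheory CategoryTheory.Limits AlgebraicGeometry Opposite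

namespace H5S9853
open Desc

variable {X X' S : Scheme.{u}} (a : X ⟶ S) (a' : X' ⟶ S) (g : X ⟶ X') (h : g ≫ a' = a)

/-- the pullback functor in question -/
noncomputable abbrev F : SchDDFam (fun _ : PUnit.{u + 1} => a') ⥤ SchDDFam (fun _ : PUnit.{u + 1} => a) :=
  Desc.pullDDFam (f := fun _ : PUnit.{u + 1} => a') (f' := fun _ : PUnit.{u + 1} => a) (α := fun j => j)
        (p := 𝟙 S) (p' := fun _ => g) (fun _ => (h).trans (Category.comp_id a).symm)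

variable {a a' g h}
variable {D D' : SchDDFam (fun _ : PUnit.{u + 1} => a')} (γ : (F a a' g h).obj D ⟶ (F a a' g h).obj D')

/-- the map on points induced by `γ` -/
noncomputable def Γ {Z : Scheme.{u}} (y : Z ⟶ X) (v : Lifts (D.obj ⟨⟩) (y ≫ g)) :
    Lifts (D'.obj ⟨⟩) (y ≫ g) :=
  liftsPullbackEquiv (D'.obj ⟨⟩) g y (γ.push ((liftsPullbackEquiv (D.obj ⟨⟩) g y).symm v))

lemma Γ_val {Z : Scheme.{u}} (y : Z ⟶ X) (v : Lifts (D.obj ⟨⟩) (y ≫ g)) :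
    (Γ γ y v).1 = pullback.lift v.1 y v.2 ≫ (γ.hom ⟨⟩).left ≫ pullback.fst (D'.obj ⟨⟩).hom g := by
  simp [Γ, liftsPullbackEquiv, SchDDFam.Hom.push]

lemma Γ_natural {Z Z' : Scheme.{u}} (k : Z' ⟶ Z) (y : Z ⟶ X) (y' : Z' ⟶ X) (hy : k ≫ y = y')
    (v : Lifts (D.obj ⟨⟩) (y ≫ g)) (v' : Lifts (D.obj ⟨⟩) (y' ≫ g)) (hv : v'.1 = k ≫ v.1) :
    (Γ γ y' v').1 = k ≫ (Γ γ y v).1 := by
  subst hy
  rw [Γ_val, Γ_val, ← Category.assoc k]
  congr 1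
  apply pullback.hom_ext
  · simp [hv]
  · simp

include h in
lemma compat_aux {Z : Scheme.{u}} (y₁ y₂ : Z ⟶ X) (h' : y₁ ≫ a = y₂ ≫ a) :
    (y₁ ≫ g) ≫ a' = (y₂ ≫ g) ≫ a' := by
  rw [Category.assoc, Category.assoc, h, h']

lemma Γ_compat {Z : Scheme.{u}} (y₁ y₂ : Z ⟶ X) (h' : y₁ ≫ a = y₂ ≫ a)
    (v : Lifts (D.obj ⟨⟩) (y₁ ≫ g)) :
    Γ γ y₂ (D.φ (i := ⟨⟩) (j := ⟨⟩) (y₁ ≫ g) (y₂ ≫ g) (compat_aux (h := h) y₁ y₂ h') v) =
      D'.φ (i := ⟨⟩) (j := ⟨⟩) (y₁ ≫ g) (y₂ ≫ g) (compat_aux (h := h) y₁ y₂ h') (Γ γ y₁ v) := by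
  have hc := γ.comm (i := ⟨⟩) (j := ⟨⟩) y₁ y₂ h' ((liftsPullbackEquiv (D.obj ⟨⟩) g y₁).symm v)
    (γ.push ((liftsPullbackEquiv (D.obj ⟨⟩) g y₁).symm v)) rfl
  have e1 : γ.push (((F a a' g h).obj D).φ (i := ⟨⟩) (j := ⟨⟩) y₁ y₂ h'
      ((liftsPullbackEquiv (D.obj ⟨⟩) g y₁).symm v)) =
      ((F a a' g h).obj D').φ (i := ⟨⟩) (j := ⟨⟩) y₁ y₂ h'
        (γ.push ((liftsPullbackEquiv (D.obj ⟨⟩) g y₁).symm v)) :=
    Subtype.ext hc.symm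
  have e2 : ((F a a' g h).obj D).φ (i := ⟨⟩) (j := ⟨⟩) y₁ y₂ h'
      ((liftsPullbackEquiv (D.obj ⟨⟩) g y₁).symm v) =
      (liftsPullbackEquiv (D.obj ⟨⟩) g y₂).symm
        (D.φ (i := ⟨⟩) (j := ⟨⟩) (y₁ ≫ g) (y₂ ≫ g) (compat_aux (h := h) y₁ y₂ h') v) := by
    change (liftsPullbackEquiv (D.obj ⟨⟩) g y₂).symm (D.φ (i := ⟨⟩) (j := ⟨⟩) (y₁ ≫ g) (y₂ ≫ g) _
      (liftsPullbackEquiv (D.obj ⟨⟩) g y₁ ((liftsPullbackEquiv (D.obj ⟨⟩) g y₁).symm v))) = _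
    rw [Equiv.apply_symm_apply]
  have e3 : ((F a a' g h).obj D').φ (i := ⟨⟩) (j := ⟨⟩) y₁ y₂ h'
      (γ.push ((liftsPullbackEquiv (D.obj ⟨⟩) g y₁).symm v)) =
      (liftsPullbackEquiv (D'.obj ⟨⟩) g y₂).symm
        (D'.φ (i := ⟨⟩) (j := ⟨⟩) (y₁ ≫ g) (y₂ ≫ g) (compat_aux (h := h) y₁ y₂ h') (Γ γ y₁ v)) := rfl
  unfold Γ
  rw [← e2, e1, e3, Equiv.apply_symm_apply]
  rfl

/-- the candidate map on points -/
noncomputable def E {Z : Scheme.{u}} (x : Z ⟶ X') (y : Z ⟶ X) (hxy : x ≫ a' = (y ≫ g) ≫ a')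
    (v : Lifts (D.obj ⟨⟩) x) : Lifts (D'.obj ⟨⟩) x :=
  D'.φ (i := ⟨⟩) (j := ⟨⟩) (y ≫ g) x hxy.symm
    (Γ γ y (D.φ (i := ⟨⟩) (j := ⟨⟩) x (y ≫ g) hxy v))

include h in
lemma E_indep {Z : Scheme.{u}} (x : Z ⟶ X') (y₁ y₂ : Z ⟶ X) (h₁ : x ≫ a' = (y₁ ≫ g) ≫ a')
    (h₂ : x ≫ a' = (y₂ ≫ g) ≫ a') (v : Lifts (D.obj ⟨⟩) x) :
    E γ x y₁ h₁ v = E γ x y₂ h₂ v := by
  have h' : y₁ ≫ a = y₂ ≫ a := by
    rw [← h, ← Category.assoc, ← Category.assoc, ← h₁, ← h₂]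
  unfold E
  have e1 : D.φ (i := ⟨⟩) (j := ⟨⟩) x (y₂ ≫ g) h₂ v =
      D.φ (i := ⟨⟩) (j := ⟨⟩) (y₁ ≫ g) (y₂ ≫ g) (compat_aux (h := h) y₁ y₂ h')
        (D.φ (i := ⟨⟩) (j := ⟨⟩) x (y₁ ≫ g) h₁ v) := by
    rw [D.φ_comp]
  rw [e1, Γ_compat (h := h) γ y₁ y₂ h', D'.φ_comp]

lemma E_phi {Z : Scheme.{u}} (x x' : Z ⟶ X') (y : Z ⟶ X) (hxy : x ≫ a' = (y ≫ g) ≫ a')
    (hxx' : x ≫ a' = x' ≫ a') (hx'y : x' ≫ a' = (y ≫ g) ≫ a') (v : Lifts (D.obj ⟨⟩) x) :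
    E γ x' y hx'y (D.φ (i := ⟨⟩) (j := ⟨⟩) x x' hxx' v) =
      D'.φ (i := ⟨⟩) (j := ⟨⟩) x x' hxx' (E γ x y hxy v) := by
  unfold E
  rw [D.φ_comp, D'.φ_comp]

lemma E_self {Z : Scheme.{u}} (y : Z ⟶ X) (v : Lifts (D.obj ⟨⟩) (y ≫ g)) :
    E γ (y ≫ g) y rfl v = Γ γ y v := by
  unfold E
  rw [D.φ_self, D'.φ_self]

lemma E_natural {Z Z' : Scheme.{u}} (k : Z' ⟶ Z) (x : Z ⟶ X') (y : Z ⟶ X)
    (hxy : x ≫ a' = (y ≫ g) ≫ a') (v : Lifts (D.obj ⟨⟩) x)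
    (x' : Z' ⟶ X') (y' : Z' ⟶ X) (hxy' : x' ≫ a' = (y' ≫ g) ≫ a') (v' : Lifts (D.obj ⟨⟩) x')
    (hx : k ≫ x = x') (hy : k ≫ y = y') (hv : v'.1 = k ≫ v.1) :
    (E γ x' y' hxy' v').1 = k ≫ (E γ x y hxy v).1 := by
  unfold E
  have hyg : k ≫ (y ≫ g) = y' ≫ g := by rw [← hy, Category.assoc]
  apply D'.φ_natural k (y ≫ g) x hxy.symm (y' ≫ g) x' hyg hx hxy'.symm
  apply Γ_natural γ k y y' hy
  exact D.φ_natural k x (y ≫ g) hxy x' (y' ≫ g) hx hyg hxy' v v' hv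

lemma desc_singleton (ha : Presieve.singleton a ∈ Scheme.fpqcPrecoverage S) {V : Scheme.{u}} (c : V ⟶ S)
    (Zt : Scheme.{u}) (e : pullback c a ⟶ Zt)
    (he : ∀ {Z : Scheme.{u}} (p₁ p₂ : Z ⟶ pullback c a),
      p₁ ≫ pullback.fst c a = p₂ ≫ pullback.fst c a → p₁ ≫ e = p₂ ≫ e) :
    ∃ t : V ⟶ Zt, pullback.fst c a ≫ t = e := by
  have hmem : Presieve.singleton (pullback.fst c a) ∈ Scheme.fpqcPrecoverage V := by
    have := Precoverage.mem_coverings_of_isPullback (J := Scheme.fpqcPrecoverage)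
      (fun _ : PUnit.{u + 1} => a) (by rw [Presieve.ofArrows_pUnit]; exact ha) c
      (fun _ => pullback.fst c a) (fun _ => pullback.snd c a)
      (fun _ => IsPullback.of_hasPullback c a)
    rwa [Presieve.ofArrows_pUnit] at this
  have hsh := (GrothendieckTopology.Subcanonical.isSheaf_of_isRepresentable
    (J := Scheme.fpqcTopology) (yoneda.obj Zt)).isSheafFor _
    (Precoverage.generate_mem_toGrothendieck hmem)
  rw [Presieve.isSheafFor_singleton] at hsh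
  obtain ⟨t, ht, -⟩ := hsh e (fun p₁ p₂ hp => he p₁ p₂ hp)
  exact ⟨t, ht⟩

lemma flat_surj (ha : Presieve.singleton a ∈ Scheme.fpqcPrecoverage S) : Flat a ∧ Surjective a := by
  have := (Scheme.singleton_mem_precoverage_iff (P := @Flat) a).1 ha.2
  exact ⟨this.2, ⟨this.1⟩⟩

lemma map_left_fst {D D' : SchDDFam (fun _ : PUnit.{u + 1} => a')} (α : D ⟶ D') :
    (((F a a' g h).map α).hom ⟨⟩).left ≫ pullback.fst (D'.obj ⟨⟩).hom g =
      pullback.fst (D.obj ⟨⟩).hom g ≫ (α.hom ⟨⟩).left :=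
  pullback.lift_fst _ _ _

lemma map_left_snd {D D' : SchDDFam (fun _ : PUnit.{u + 1} => a')} (α : D ⟶ D') :
    (((F a a' g h).map α).hom ⟨⟩).left ≫ pullback.snd (D'.obj ⟨⟩).hom g =
      pullback.snd (D.obj ⟨⟩).hom g :=
  (pullback.lift_snd _ _ _).trans (Category.comp_id _)

include h in
theorem full (ha : Presieve.singleton a ∈ Scheme.fpqcPrecoverage S) : (F a a' g h).Full := by
  obtain ⟨hfl, hsu⟩ := flat_surj ha
  refine ⟨?_⟩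
  intro D D' γ
  let c := (D.obj ⟨⟩).hom ≫ a'
  let prV := pullback.fst c a
  let prX := pullback.snd c a
  have hc0 : (prV ≫ (D.obj ⟨⟩).hom) ≫ a' = (prX ≫ g) ≫ a' := by
    rw [Category.assoc, Category.assoc, h]
    exact pullback.condition
  let v0 : Lifts (D.obj ⟨⟩) (prV ≫ (D.obj ⟨⟩).hom) := ⟨prV, rfl⟩
  let e := (E γ (prV ≫ (D.obj ⟨⟩).hom) prX hc0 v0).1
  have he : ∀ {Z : Scheme.{u}} (p₁ p₂ : Z ⟶ pullback c a),
      p₁ ≫ pullback.fst c a = p₂ ≫ pullback.fst c a → p₁ ≫ e = p₂ ≫ e := by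
    intro Z p₁ p₂ hp
    have hx1 : ((p₁ ≫ prV) ≫ (D.obj ⟨⟩).hom) ≫ a' = ((p₁ ≫ prX) ≫ g) ≫ a' := by
      have := congrArg (p₁ ≫ ·) hc0
      simpa only [Category.assoc] using this
    have hx2 : ((p₁ ≫ prV) ≫ (D.obj ⟨⟩).hom) ≫ a' = ((p₂ ≫ prX) ≫ g) ≫ a' := by
      have := congrArg (p₂ ≫ ·) hc0
      rw [show p₁ ≫ prV = p₂ ≫ prV from hp]
      simpa only [Category.assoc] using this
    let vz : Lifts (D.obj ⟨⟩) ((p₁ ≫ prV) ≫ (D.obj ⟨⟩).hom) := ⟨p₁ ≫ prV, rfl⟩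
    have n1 := E_natural γ p₁ (prV ≫ (D.obj ⟨⟩).hom) prX hc0 v0 ((p₁ ≫ prV) ≫ (D.obj ⟨⟩).hom)
      (p₁ ≫ prX) hx1 vz (by rw [Category.assoc]) rfl rfl
    have n2 := E_natural γ p₂ (prV ≫ (D.obj ⟨⟩).hom) prX hc0 v0 ((p₁ ≫ prV) ≫ (D.obj ⟨⟩).hom)
      (p₂ ≫ prX) hx2 vz (by rw [show p₁ ≫ prV = p₂ ≫ prV from hp, Category.assoc]) rfl hp
    rw [← n1, ← n2, E_indep (h := h) γ _ _ _ hx1 hx2 vz]
  obtain ⟨t, ht⟩ := desc_singleton ha c (D'.obj ⟨⟩).left e he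
  -- points formula
  have hP : ∀ {Z : Scheme.{u}} (x : Z ⟶ X') (y : Z ⟶ X) (hxy : x ≫ a' = (y ≫ g) ≫ a')
      (v : Lifts (D.obj ⟨⟩) x), v.1 ≫ t = (E γ x y hxy v).1 := by
    intro Z x y hxy v
    obtain ⟨v₀, hv⟩ := v
    subst hv
    have hk : v₀ ≫ c = y ≫ a := by
      rw [← h, ← Category.assoc y]
      simpa only [Category.assoc] using hxy
    let k := pullback.lift v₀ y hk
    have hk1 : k ≫ prV = v₀ := pullback.lift_fst _ _ _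
    have hk2 : k ≫ prX = y := pullback.lift_snd _ _ _
    have n := E_natural γ k (prV ≫ (D.obj ⟨⟩).hom) prX hc0 v0 (v₀ ≫ (D.obj ⟨⟩).hom) y hxy
      ⟨v₀, rfl⟩ (by rw [← Category.assoc, hk1]) hk2 hk1.symm
    rw [n]
    change v₀ ≫ t = k ≫ e
    rw [← ht, ← Category.assoc, hk1]
  haveI : Epi prV := Flat.epi_of_flat_of_surjective _
  have hπ : t ≫ (D'.obj ⟨⟩).hom = (D.obj ⟨⟩).hom := by
    rw [← cancel_epi prV, ← Category.assoc, ht]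
    exact (E γ (prV ≫ (D.obj ⟨⟩).hom) prX hc0 v0).2
  let α : D ⟶ D' := ⟨fun _ => Over.homMk t hπ, by
    intro T i j x₀ x₁ hx v w hw
    cases i
    cases j
    change w.1 = v.1 ≫ t at hw
    change _ = _ ≫ t
    let k := pullback.fst (x₀ ≫ a') a
    let y := pullback.snd (x₀ ≫ a') a
    haveI : Epi k := Flat.epi_of_flat_of_surjective _
    rw [← cancel_epi k]
    have hk : (k ≫ x₀) ≫ a' = (k ≫ x₁) ≫ a' := by
      rw [Category.assoc, Category.assoc]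
      exact congrArg (k ≫ ·) hx
    have hy0 : (k ≫ x₀) ≫ a' = (y ≫ g) ≫ a' := by
      rw [Category.assoc, Category.assoc, h]
      exact pullback.condition
    have hy1 : (k ≫ x₁) ≫ a' = (y ≫ g) ≫ a' := hk.symm.trans hy0
    let vk : Lifts (D.obj ⟨⟩) (k ≫ x₀) := ⟨k ≫ v.1, by rw [Category.assoc, v.2]⟩
    let wk : Lifts (D'.obj ⟨⟩) (k ≫ x₀) := ⟨k ≫ w.1, by rw [Category.assoc, w.2]⟩
    have e1 : (D'.φ (i := ⟨⟩) (j := ⟨⟩) (k ≫ x₀) (k ≫ x₁) hk wk).1 =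
        k ≫ (D'.φ (i := ⟨⟩) (j := ⟨⟩) x₀ x₁ hx w).1 :=
      D'.φ_natural k x₀ x₁ hx (k ≫ x₀) (k ≫ x₁) rfl rfl hk w wk rfl
    have e2 : (D.φ (i := ⟨⟩) (j := ⟨⟩) (k ≫ x₀) (k ≫ x₁) hk vk).1 =
        k ≫ (D.φ (i := ⟨⟩) (j := ⟨⟩) x₀ x₁ hx v).1 :=
      D.φ_natural k x₀ x₁ hx (k ≫ x₀) (k ≫ x₁) rfl rfl hk v vk rfl
    have e3 : E γ (k ≫ x₀) y hy0 vk = wk := by
      apply Subtype.ext
      rw [← hP (k ≫ x₀) y hy0 vk]
      change (k ≫ v.1) ≫ t = k ≫ w.1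
      rw [hw, Category.assoc]
    rw [← e1, ← Category.assoc, ← e2, hP (k ≫ x₁) y hy1, E_phi γ (k ≫ x₀) (k ≫ x₁) y hy0 hk hy1, e3]⟩
  refine ⟨α, ?_⟩
  apply SchDDFam.hom_ext
  funext j
  cases j
  ext
  apply pullback.hom_ext
  · rw [map_left_fst]
    change pullback.fst (D.obj ⟨⟩).hom g ≫ t = _
    let vv : Lifts (D.obj ⟨⟩) (pullback.snd (D.obj ⟨⟩).hom g ≫ g) :=
      ⟨pullback.fst (D.obj ⟨⟩).hom g, pullback.condition⟩
    have := hP (pullback.snd (D.obj ⟨⟩).hom g ≫ g) (pullback.snd (D.obj ⟨⟩).hom g) rfl vv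
    rw [E_self, Γ_val] at this
    change pullback.fst (D.obj ⟨⟩).hom g ≫ t = _ at this
    rw [this]
    have hid : pullback.lift vv.1 (pullback.snd (D.obj ⟨⟩).hom g) vv.2 = 𝟙 _ := by
      apply pullback.hom_ext
      · rw [pullback.lift_fst, Category.id_comp]
      · rw [pullback.lift_snd, Category.id_comp]
    rw [hid, Category.id_comp]
  · rw [map_left_snd]
    exact (Over.w (γ.hom ⟨⟩)).symm

include h in
theorem main (ha : Presieve.singleton a ∈ Scheme.fpqcPrecoverage S) :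
    (F a a' g h).Full ∧ (F a a' g h).Faithful := by
  obtain ⟨hfl, hsu⟩ := flat_surj ha
  exact ⟨full ha, Groth.Agent.S9852.H5S9852.main a a' g h⟩

end H5S9853
end H5opts

/-- Let g : X ⟶ X' be a morphism of schemes over S, with structure morphisms a : X ⟶ S and a' : X' ⟶ S,
and assume that the single morphism a is an fpqc covering of S (for instance surjective, flat and
quasi-compact). Then the pullback functor along g, from descent data for schemes relative to X' ⟶ S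
to descent data relative to X ⟶ S, is full and faithful. (Descent data relative to a single morphism
are written as descent data relative to the corresponding one-member family.) -/
theorem result {X X' S : Scheme.{u}} (a : X ⟶ S) (a' : X' ⟶ S) (g : X ⟶ X')
    (h : g ≫ a' = a) (ha : Presieve.singleton a ∈ Scheme.fpqcPrecoverage S) :
    (Desc.pullDDFam (f := fun _ : PUnit.{u + 1} => a') (f' := fun _ : PUnit.{u + 1} => a) (α := fun j => j)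
        (p := 𝟙 S) (p' := fun _ => g) (fun _ => (h).trans (Category.comp_id a).symm)).Full ∧
    (Desc.pullDDFam (f := fun _ : PUnit.{u + 1} => a') (f' := fun _ : PUnit.{u + 1} => a) (α := fun j => j)
        (p := 𝟙 S) (p' := fun _ => g) (fun _ => (h).trans (Category.comp_id a).symm)).Faithful := by
  exact H5S9853.main (h := h) ha

end Groth.Agent.S9853
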