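import Groth.Statements.S9856
import Mathlib
import Groth.Agent.S11719
-- import your own Groth.Agent.* helpers here

set_option autoImplicit false
open CategoryTheory CategoryTheory.Limits AlgebraicGeometry Opposite
universe u
open Desc

namespace Groth.Agent.S9856


section H5opts
set_option backward.isDefEq.respectTransparency false
set_option backward.isDefEq.respectTransparency.types false
open CategoryTheory CategoryTheory.Limits AlgebraicGeometry Opposite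

namespace H5S9856
open Desc

variable {ι κ : Type u} {S : Scheme.{u}} {U : ι → Scheme.{u}} {V : κ → Scheme.{u}}
    (u : ∀ i, U i ⟶ S) (v : ∀ j, V j ⟶ S) (α : ι → κ) (g : ∀ i, U i ⟶ V (α i))
    (w : ∀ i, g i ≫ v (α i) = u i)

/-- the pullback functor in question -/
noncomputable abbrev F : SchDDFam v ⥤ SchDDFam u :=
  Desc.pullDDFam (f := v) (f' := u) (α := α) (p := 𝟙 S) (p' := g)
    (fun i => (w i).trans (Category.comp_id (u i)).symm)

lemma glue (hu : Presieve.ofArrows U u ∈ Scheme.fpqcPrecoverage S) {W : Scheme.{u}} (c : W ⟶ S)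
    (Z : Scheme.{u}) (x : ∀ i, pullback (u i) c ⟶ Z)
    (hx : ∀ i j (T : Scheme.{u}) (gi : T ⟶ pullback (u i) c) (gj : T ⟶ pullback (u j) c),
      gi ≫ pullback.snd (u i) c = gj ≫ pullback.snd (u j) c → gi ≫ x i = gj ≫ x j) :
    ∃ t : W ⟶ Z, ∀ i, pullback.snd (u i) c ≫ t = x i := by
  obtain ⟨t, ht, -⟩ := Groth.Agent.S11719.H5S11719.glue u hu (Over.mk c) Z x hx
  exact ⟨t, ht⟩

lemma jointly_epi (hu : Presieve.ofArrows U u ∈ Scheme.fpqcPrecoverage S) {W : Scheme.{u}} (c : W ⟶ S)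
    (Z : Scheme.{u}) (s s' : W ⟶ Z)
    (h : ∀ i, pullback.snd (u i) c ≫ s = pullback.snd (u i) c ≫ s') : s = s' :=
  Groth.Agent.S11719.H5S11719.jointly_epi u hu (Over.mk c) Z s s' h

variable {u v α g w}
variable {D D' : SchDDFam v} (γ : (F u v α g w).obj D ⟶ (F u v α g w).obj D')

/-- the map on points induced by `γ` -/
noncomputable def Γ {Z : Scheme.{u}} {i : ι} (y : Z ⟶ U i) (vv : Lifts (D.obj (α i)) (y ≫ g i)) :
    Lifts (D'.obj (α i)) (y ≫ g i) :=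
  liftsPullbackEquiv (D'.obj (α i)) (g i) y (γ.push ((liftsPullbackEquiv (D.obj (α i)) (g i) y).symm vv))

lemma Γ_val {Z : Scheme.{u}} {i : ι} (y : Z ⟶ U i) (vv : Lifts (D.obj (α i)) (y ≫ g i)) :
    (Γ γ y vv).1 = pullback.lift vv.1 y vv.2 ≫ (γ.hom i).left ≫ pullback.fst (D'.obj (α i)).hom (g i) := by
  simp [Γ, liftsPullbackEquiv, SchDDFam.Hom.push]

lemma Γ_natural {Z Z' : Scheme.{u}} (k : Z' ⟶ Z) {i : ι} (y : Z ⟶ U i) (y' : Z' ⟶ U i) (hy : k ≫ y = y')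
    (vv : Lifts (D.obj (α i)) (y ≫ g i)) (vv' : Lifts (D.obj (α i)) (y' ≫ g i)) (hv : vv'.1 = k ≫ vv.1) :
    (Γ γ y' vv').1 = k ≫ (Γ γ y vv).1 := by
  subst hy
  rw [Γ_val, Γ_val, ← Category.assoc k]
  congr 1
  apply pullback.hom_ext
  · simp [hv]
  · simp

include w in
lemma compat_aux {Z : Scheme.{u}} {i₁ i₂ : ι} (y₁ : Z ⟶ U i₁) (y₂ : Z ⟶ U i₂) (h' : y₁ ≫ u i₁ = y₂ ≫ u i₂) :
    (y₁ ≫ g i₁) ≫ v (α i₁) = (y₂ ≫ g i₂) ≫ v (α i₂) := by
  rw [Category.assoc, Category.assoc, w, w, h']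

lemma Γ_compat {Z : Scheme.{u}} {i₁ i₂ : ι} (y₁ : Z ⟶ U i₁) (y₂ : Z ⟶ U i₂) (h' : y₁ ≫ u i₁ = y₂ ≫ u i₂)
    (vv : Lifts (D.obj (α i₁)) (y₁ ≫ g i₁)) :
    Γ γ y₂ (D.φ (y₁ ≫ g i₁) (y₂ ≫ g i₂) (compat_aux (w := w) y₁ y₂ h') vv) =
      D'.φ (y₁ ≫ g i₁) (y₂ ≫ g i₂) (compat_aux (w := w) y₁ y₂ h') (Γ γ y₁ vv) := by
  have hc := γ.comm y₁ y₂ h' ((liftsPullbackEquiv (D.obj (α i₁)) (g i₁) y₁).symm vv)
    (γ.push ((liftsPullbackEquiv (D.obj (α i₁)) (g i₁) y₁).symm vv)) rfl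
  have e1 : γ.push (((F u v α g w).obj D).φ y₁ y₂ h'
      ((liftsPullbackEquiv (D.obj (α i₁)) (g i₁) y₁).symm vv)) =
      ((F u v α g w).obj D').φ y₁ y₂ h'
        (γ.push ((liftsPullbackEquiv (D.obj (α i₁)) (g i₁) y₁).symm vv)) :=
    Subtype.ext hc.symm
  have e2 : ((F u v α g w).obj D).φ y₁ y₂ h'
      ((liftsPullbackEquiv (D.obj (α i₁)) (g i₁) y₁).symm vv) =
      (liftsPullbackEquiv (D.obj (α i₂)) (g i₂) y₂).symm
        (D.φ (y₁ ≫ g i₁) (y₂ ≫ g i₂) (compat_aux (w := w) y₁ y₂ h') vv) := by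
    change (liftsPullbackEquiv (D.obj (α i₂)) (g i₂) y₂).symm (D.φ (y₁ ≫ g i₁) (y₂ ≫ g i₂) _
      (liftsPullbackEquiv (D.obj (α i₁)) (g i₁) y₁ ((liftsPullbackEquiv (D.obj (α i₁)) (g i₁) y₁).symm vv))) = _
    rw [Equiv.apply_symm_apply]
  have e3 : ((F u v α g w).obj D').φ y₁ y₂ h'
      (γ.push ((liftsPullbackEquiv (D.obj (α i₁)) (g i₁) y₁).symm vv)) =
      (liftsPullbackEquiv (D'.obj (α i₂)) (g i₂) y₂).symm
        (D'.φ (y₁ ≫ g i₁) (y₂ ≫ g i₂) (compat_aux (w := w) y₁ y₂ h') (Γ γ y₁ vv)) := rfl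
  unfold Γ
  rw [← e2, e1, e3, Equiv.apply_symm_apply]
  rfl

/-- the candidate map on points -/
noncomputable def E {Z : Scheme.{u}} {j : κ} (x : Z ⟶ V j) {i : ι} (y : Z ⟶ U i)
    (hxy : x ≫ v j = (y ≫ g i) ≫ v (α i)) (vv : Lifts (D.obj j) x) : Lifts (D'.obj j) x :=
  D'.φ (y ≫ g i) x hxy.symm (Γ γ y (D.φ x (y ≫ g i) hxy vv))

include w in
lemma E_indep {Z : Scheme.{u}} {j : κ} (x : Z ⟶ V j) {i₁ i₂ : ι} (y₁ : Z ⟶ U i₁) (y₂ : Z ⟶ U i₂)
    (h₁ : x ≫ v j = (y₁ ≫ g i₁) ≫ v (α i₁)) (h₂ : x ≫ v j = (y₂ ≫ g i₂) ≫ v (α i₂))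
    (vv : Lifts (D.obj j) x) : E γ x y₁ h₁ vv = E γ x y₂ h₂ vv := by
  have h' : y₁ ≫ u i₁ = y₂ ≫ u i₂ := by
    rw [← w, ← w, ← Category.assoc, ← Category.assoc, ← h₁, ← h₂]
  unfold E
  have e1 : D.φ x (y₂ ≫ g i₂) h₂ vv =
      D.φ (y₁ ≫ g i₁) (y₂ ≫ g i₂) (compat_aux (w := w) y₁ y₂ h') (D.φ x (y₁ ≫ g i₁) h₁ vv) := by
    rw [D.φ_comp]
  rw [e1, Γ_compat (w := w) γ y₁ y₂ h', D'.φ_comp]

lemma E_phi {Z : Scheme.{u}} {j j' : κ} (x : Z ⟶ V j) (x' : Z ⟶ V j') {i : ι} (y : Z ⟶ U i)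
    (hxy : x ≫ v j = (y ≫ g i) ≫ v (α i)) (hxx' : x ≫ v j = x' ≫ v j')
    (hx'y : x' ≫ v j' = (y ≫ g i) ≫ v (α i)) (vv : Lifts (D.obj j) x) :
    E γ x' y hx'y (D.φ x x' hxx' vv) = D'.φ x x' hxx' (E γ x y hxy vv) := by
  unfold E
  rw [D.φ_comp, D'.φ_comp]

lemma E_self {Z : Scheme.{u}} {i : ι} (y : Z ⟶ U i) (vv : Lifts (D.obj (α i)) (y ≫ g i)) :
    E γ (y ≫ g i) y rfl vv = Γ γ y vv := by
  unfold E
  rw [D.φ_self, D'.φ_self]

lemma E_natural {Z Z' : Scheme.{u}} (k : Z' ⟶ Z) {j : κ} (x : Z ⟶ V j) {i : ι} (y : Z ⟶ U i)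
    (hxy : x ≫ v j = (y ≫ g i) ≫ v (α i)) (vv : Lifts (D.obj j) x)
    (x' : Z' ⟶ V j) (y' : Z' ⟶ U i) (hxy' : x' ≫ v j = (y' ≫ g i) ≫ v (α i)) (vv' : Lifts (D.obj j) x')
    (hx : k ≫ x = x') (hy : k ≫ y = y') (hv : vv'.1 = k ≫ vv.1) :
    (E γ x' y' hxy' vv').1 = k ≫ (E γ x y hxy vv).1 := by
  unfold E
  have hyg : k ≫ (y ≫ g i) = y' ≫ g i := by rw [← hy, Category.assoc]
  apply D'.φ_natural k (y ≫ g i) x hxy.symm (y' ≫ g i) x' hyg hx hxy'.symm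
  apply Γ_natural γ k y y' hy
  exact D.φ_natural k x (y ≫ g i) hxy x' (y' ≫ g i) hx hyg hxy' vv vv' hv

lemma map_left_fst {D D' : SchDDFam v} (β : D ⟶ D') (i : ι) :
    (((F u v α g w).map β).hom i).left ≫ pullback.fst (D'.obj (α i)).hom (g i) =
      pullback.fst (D.obj (α i)).hom (g i) ≫ (β.hom (α i)).left :=
  pullback.lift_fst _ _ _

lemma map_left_snd {D D' : SchDDFam v} (β : D ⟶ D') (i : ι) :
    (((F u v α g w).map β).hom i).left ≫ pullback.snd (D'.obj (α i)).hom (g i) =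
      pullback.snd (D.obj (α i)).hom (g i) :=
  (pullback.lift_snd _ _ _).trans (Category.comp_id _)

include w in
theorem full (hu : Presieve.ofArrows U u ∈ Scheme.fpqcPrecoverage S) : (F u v α g w).Full := by
  refine ⟨?_⟩
  intro D D' γ
  -- construction of the components
  have hex : ∀ j : κ, ∃ t : (D.obj j).left ⟶ (D'.obj j).left,
      ∀ {Z : Scheme.{u}} (x : Z ⟶ V j) {i : ι} (y : Z ⟶ U i) (hxy : x ≫ v j = (y ≫ g i) ≫ v (α i))
        (vv : Lifts (D.obj j) x), vv.1 ≫ t = (E γ x y hxy vv).1 := by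
    intro j
    let c := (D.obj j).hom ≫ v j
    have hc0 : ∀ i, (pullback.snd (u i) c ≫ (D.obj j).hom) ≫ v j =
        (pullback.fst (u i) c ≫ g i) ≫ v (α i) := by
      intro i
      rw [Category.assoc, Category.assoc, w]
      exact pullback.condition.symm
    let v0 : ∀ i, Lifts (D.obj j) (pullback.snd (u i) c ≫ (D.obj j).hom) := fun i =>
      ⟨pullback.snd (u i) c, rfl⟩
    let e : ∀ i, pullback (u i) c ⟶ (D'.obj j).left := fun i =>
      (E γ (pullback.snd (u i) c ≫ (D.obj j).hom) (pullback.fst (u i) c) (hc0 i) (v0 i)).1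
    have he : ∀ i₁ i₂ (Z : Scheme.{u}) (p₁ : Z ⟶ pullback (u i₁) c) (p₂ : Z ⟶ pullback (u i₂) c),
        p₁ ≫ pullback.snd (u i₁) c = p₂ ≫ pullback.snd (u i₂) c → p₁ ≫ e i₁ = p₂ ≫ e i₂ := by
      intro i₁ i₂ Z p₁ p₂ hp
      have hx1 : ((p₁ ≫ pullback.snd (u i₁) c) ≫ (D.obj j).hom) ≫ v j =
          ((p₁ ≫ pullback.fst (u i₁) c) ≫ g i₁) ≫ v (α i₁) := by
        have := congrArg (p₁ ≫ ·) (hc0 i₁)
        simpa only [Category.assoc] using this
      have hx2 : ((p₁ ≫ pullback.snd (u i₁) c) ≫ (D.obj j).hom) ≫ v j =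
          ((p₂ ≫ pullback.fst (u i₂) c) ≫ g i₂) ≫ v (α i₂) := by
        have := congrArg (p₂ ≫ ·) (hc0 i₂)
        rw [hp]
        simpa only [Category.assoc] using this
      let vz : Lifts (D.obj j) ((p₁ ≫ pullback.snd (u i₁) c) ≫ (D.obj j).hom) :=
        ⟨p₁ ≫ pullback.snd (u i₁) c, rfl⟩
      have n1 := E_natural γ p₁ (pullback.snd (u i₁) c ≫ (D.obj j).hom) (pullback.fst (u i₁) c)
        (hc0 i₁) (v0 i₁) ((p₁ ≫ pullback.snd (u i₁) c) ≫ (D.obj j).hom)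
        (p₁ ≫ pullback.fst (u i₁) c) hx1 vz (by rw [Category.assoc]) rfl rfl
      have n2 := E_natural γ p₂ (pullback.snd (u i₂) c ≫ (D.obj j).hom) (pullback.fst (u i₂) c)
        (hc0 i₂) (v0 i₂) ((p₁ ≫ pullback.snd (u i₁) c) ≫ (D.obj j).hom)
        (p₂ ≫ pullback.fst (u i₂) c) hx2 vz (by rw [hp, Category.assoc]) rfl hp
      change p₁ ≫ (E γ _ _ (hc0 i₁) (v0 i₁)).1 = p₂ ≫ (E γ _ _ (hc0 i₂) (v0 i₂)).1
      rw [← n1, ← n2, E_indep (w := w) γ _ _ _ hx1 hx2 vz]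
    obtain ⟨t, ht⟩ := glue u hu c (D'.obj j).left e he
    refine ⟨t, ?_⟩
    intro Z x i y hxy vv
    obtain ⟨v₀, hv⟩ := vv
    subst hv
    have hk : y ≫ u i = v₀ ≫ c := by
      rw [← w, ← Category.assoc y]
      simpa only [Category.assoc] using hxy.symm
    let k := pullback.lift y v₀ hk
    have hk1 : k ≫ pullback.snd (u i) c = v₀ := pullback.lift_snd _ _ _
    have hk2 : k ≫ pullback.fst (u i) c = y := pullback.lift_fst _ _ _
    have n := E_natural γ k (pullback.snd (u i) c ≫ (D.obj j).hom) (pullback.fst (u i) c) (hc0 i) (v0 i)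
      (v₀ ≫ (D.obj j).hom) y hxy ⟨v₀, rfl⟩ (by rw [← Category.assoc, hk1]) hk2 hk1.symm
    rw [n]
    change v₀ ≫ t = k ≫ e i
    rw [← ht, ← Category.assoc, hk1]
  choose t hP using hex
  have hπ : ∀ j, t j ≫ (D'.obj j).hom = (D.obj j).hom := by
    intro j
    apply jointly_epi u hu ((D.obj j).hom ≫ v j)
    intro i
    have hc0 : (pullback.snd (u i) ((D.obj j).hom ≫ v j) ≫ (D.obj j).hom) ≫ v j =
        (pullback.fst (u i) ((D.obj j).hom ≫ v j) ≫ g i) ≫ v (α i) := by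
      rw [Category.assoc, Category.assoc, w]
      exact pullback.condition.symm
    have := hP j (pullback.snd (u i) ((D.obj j).hom ≫ v j) ≫ (D.obj j).hom)
      (pullback.fst (u i) ((D.obj j).hom ≫ v j)) hc0 ⟨pullback.snd (u i) ((D.obj j).hom ≫ v j), rfl⟩
    change pullback.snd (u i) ((D.obj j).hom ≫ v j) ≫ t j = _ at this
    rw [← Category.assoc, this]
    exact (E γ _ _ hc0 _).2
  let β : D ⟶ D' := ⟨fun j => Over.homMk (t j) (hπ j), by
    intro T j j' x₀ x₁ hx vv ww hw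
    change ww.1 = vv.1 ≫ t j at hw
    change _ = _ ≫ t j'
    apply jointly_epi u hu (x₀ ≫ v j)
    intro i
    let k := pullback.snd (u i) (x₀ ≫ v j)
    let y := pullback.fst (u i) (x₀ ≫ v j)
    have hk : (k ≫ x₀) ≫ v j = (k ≫ x₁) ≫ v j' := by
      rw [Category.assoc, Category.assoc]
      exact congrArg (k ≫ ·) hx
    have hy0 : (k ≫ x₀) ≫ v j = (y ≫ g i) ≫ v (α i) := by
      rw [Category.assoc, Category.assoc, w]
      exact pullback.condition.symm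
    have hy1 : (k ≫ x₁) ≫ v j' = (y ≫ g i) ≫ v (α i) := hk.symm.trans hy0
    let vk : Lifts (D.obj j) (k ≫ x₀) := ⟨k ≫ vv.1, by rw [Category.assoc, vv.2]⟩
    let wk : Lifts (D'.obj j) (k ≫ x₀) := ⟨k ≫ ww.1, by rw [Category.assoc, ww.2]⟩
    have e1 : (D'.φ (k ≫ x₀) (k ≫ x₁) hk wk).1 = k ≫ (D'.φ x₀ x₁ hx ww).1 :=
      D'.φ_natural k x₀ x₁ hx (k ≫ x₀) (k ≫ x₁) rfl rfl hk ww wk rfl
    have e2 : (D.φ (k ≫ x₀) (k ≫ x₁) hk vk).1 = k ≫ (D.φ x₀ x₁ hx vv).1 :=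
      D.φ_natural k x₀ x₁ hx (k ≫ x₀) (k ≫ x₁) rfl rfl hk vv vk rfl
    have e3 : E γ (k ≫ x₀) y hy0 vk = wk := by
      apply Subtype.ext
      rw [← hP j (k ≫ x₀) y hy0 vk]
      change (k ≫ vv.1) ≫ t j = k ≫ ww.1
      rw [hw, Category.assoc]
    change k ≫ _ = k ≫ _
    rw [← e1, ← Category.assoc, ← e2, hP j' (k ≫ x₁) y hy1, E_phi γ (k ≫ x₀) (k ≫ x₁) y hy0 hk hy1, e3]⟩
  refine ⟨β, ?_⟩
  apply SchDDFam.hom_ext
  funext i
  ext
  apply pullback.hom_ext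
  · rw [map_left_fst]
    change pullback.fst (D.obj (α i)).hom (g i) ≫ t (α i) = _
    let vv : Lifts (D.obj (α i)) (pullback.snd (D.obj (α i)).hom (g i) ≫ g i) :=
      ⟨pullback.fst (D.obj (α i)).hom (g i), pullback.condition⟩
    have := hP (α i) (pullback.snd (D.obj (α i)).hom (g i) ≫ g i) (pullback.snd (D.obj (α i)).hom (g i)) rfl vv
    rw [E_self, Γ_val] at this
    change pullback.fst (D.obj (α i)).hom (g i) ≫ t (α i) = _ at this
    rw [this]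
    have hid : pullback.lift vv.1 (pullback.snd (D.obj (α i)).hom (g i)) vv.2 = 𝟙 _ := by
      apply pullback.hom_ext
      · rw [pullback.lift_fst, Category.id_comp]
      · rw [pullback.lift_snd, Category.id_comp]
    rw [hid, Category.id_comp]
  · rw [map_left_snd]
    exact (Over.w (γ.hom i)).symm

include w in
theorem faithful (hu : Presieve.ofArrows U u ∈ Scheme.fpqcPrecoverage S) : (F u v α g w).Faithful := by
  refine ⟨?_⟩
  intro D D' β β' hββ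
  apply SchDDFam.hom_ext
  funext j
  ext
  apply jointly_epi u hu ((D.obj j).hom ≫ v j)
  intro i
  set πV := (D.obj j).hom with hπV
  let prV := pullback.snd (u i) (πV ≫ v j)
  let prX := pullback.fst (u i) (πV ≫ v j)
  have hc : (prV ≫ πV) ≫ v j = (prX ≫ g i) ≫ v (α i) := by
    rw [Category.assoc, Category.assoc, w]
    exact pullback.condition.symm
  let vv : Lifts (D.obj j) (prV ≫ πV) := ⟨prV, rfl⟩
  let ww := D.φ (prV ≫ πV) (prX ≫ g i) hc vv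
  have hw : ww.1 ≫ (D.obj (α i)).hom = prX ≫ g i := ww.2
  let vβ : Lifts (D'.obj j) (prV ≫ πV) := ⟨prV ≫ (β.hom j).left, by
    rw [Category.assoc, Over.w (β.hom j)]⟩
  let vβ' : Lifts (D'.obj j) (prV ≫ πV) := ⟨prV ≫ (β'.hom j).left, by
    rw [Category.assoc, Over.w (β'.hom j)]⟩
  have cβ := β.comm (prV ≫ πV) (prX ≫ g i) hc vv vβ rfl
  have cβ' := β'.comm (prV ≫ πV) (prX ≫ g i) hc vv vβ' rfl
  have hfac : ww.1 = pullback.lift ww.1 prX hw ≫ pullback.fst (D.obj (α i)).hom (g i) :=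
    (pullback.lift_fst _ _ _).symm
  have hαβ : pullback.fst (D.obj (α i)).hom (g i) ≫ (β.hom (α i)).left =
      pullback.fst (D.obj (α i)).hom (g i) ≫ (β'.hom (α i)).left := by
    rw [← map_left_fst (w := w) β i, ← map_left_fst (w := w) β' i, hββ]
  have e : ww.1 ≫ (β.hom (α i)).left = ww.1 ≫ (β'.hom (α i)).left := by
    rw [hfac, Category.assoc, Category.assoc, hαβ]
  have e2 : (D'.φ (prV ≫ πV) (prX ≫ g i) hc vβ).1 = (D'.φ (prV ≫ πV) (prX ≫ g i) hc vβ').1 := by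
    rw [cβ, cβ']
    exact e
  have e3 : vβ = vβ' := (D'.φ (prV ≫ πV) (prX ≫ g i) hc).injective (Subtype.ext e2)
  exact congrArg Subtype.val e3

include w in
theorem main (hu : Presieve.ofArrows U u ∈ Scheme.fpqcPrecoverage S) :
    (F u v α g w).Full ∧ (F u v α g w).Faithful :=
  ⟨full (w := w) hu, faithful (w := w) hu⟩

end H5S9856
end H5opts

/-- Let u i : U i ⟶ S and v j : V j ⟶ S be fpqc coverings of S such that (u i) refines (v j) through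
maps g i : U i ⟶ V (α i) with g i ≫ v (α i) = u i. Then the pullback functor from descent data for
schemes relative to (v j) to descent data relative to (u i) is full and faithful. In particular
schemes over S form a full subcategory of descent data relative to any fpqc covering. -/
theorem result {ι κ : Type u} {S : Scheme.{u}} {U : ι → Scheme.{u}} {V : κ → Scheme.{u}}
    (u : ∀ i, U i ⟶ S) (v : ∀ j, V j ⟶ S) (hu : Presieve.ofArrows U u ∈ Scheme.fpqcPrecoverage S)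
    (hv : Presieve.ofArrows V v ∈ Scheme.fpqcPrecoverage S)
    (α : ι → κ) (g : ∀ i, U i ⟶ V (α i)) (w : ∀ i, g i ≫ v (α i) = u i) :
    (Desc.pullDDFam (f := v) (f' := u) (α := α) (p := 𝟙 S) (p' := g) (fun i => (w i).trans (Category.comp_id (u i)).symm)).Full ∧ (Desc.pullDDFam (f := v) (f' := u) (α := α) (p := 𝟙 S) (p' := g) (fun i => (w i).trans (Category.comp_id (u i)).symm)).Faithful := by
  exact H5S9856.main (w := w) hu

end Groth.Agent.S9856
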