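import Groth.Statements.S9854
import Mathlib
import Groth.Agent.S9856
-- import your own Groth.Agent.* helpers here

set_option autoImplicit false
open CategoryTheory CategoryTheory.Limits AlgebraicGeometry Opposite
universe u
open Desc

namespace Groth.Agent.S9854


section H5opts
set_option backward.isDefEq.respectTransparency false
set_option backward.isDefEq.respectTransparency.types false
open CategoryTheory CategoryTheory.Limits AlgebraicGeometry Opposite

namespace H5S9854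
open Desc
open Groth.Agent.S9856.H5S9856

variable {ι κ : Type u} {S : Scheme.{u}} {U : ι → Scheme.{u}} {V : κ → Scheme.{u}}
    {u : ∀ i, U i ⟶ S} {v : ∀ j, V j ⟶ S} {α : ι → κ} {g : ∀ i, U i ⟶ V (α i)}
    {w : ∀ i, g i ≫ v (α i) = u i}

/-- the covering maps of `V j` -/
noncomputable abbrev gj (g : ∀ i, U i ⟶ V (α i)) (j : κ) (i : {i // α i = j}) : U i.1 ⟶ V j :=
  g i.1 ≫ eqToHom (congrArg V i.2)

lemma gj_v (v : ∀ j, V j ⟶ S) (j : κ) (i : {i // α i = j}) :
    gj g j i ≫ v j = g i.1 ≫ v (α i.1) := by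
  obtain ⟨i, rfl⟩ := i
  simp [gj]

lemma glue' (hcov : ∀ j, Presieve.ofArrows (fun i : {i // α i = j} => U i.1) (gj g j) ∈
      Scheme.fpqcPrecoverage (V j)) (j : κ) {W : Scheme.{u}} (c : W ⟶ V j)
    (Z : Scheme.{u}) (x : ∀ i, pullback (gj g j i) c ⟶ Z)
    (hx : ∀ i i' (T : Scheme.{u}) (gi : T ⟶ pullback (gj g j i) c) (gi' : T ⟶ pullback (gj g j i') c),
      gi ≫ pullback.snd (gj g j i) c = gi' ≫ pullback.snd (gj g j i') c → gi ≫ x i = gi' ≫ x i') :
    ∃ t : W ⟶ Z, ∀ i, pullback.snd (gj g j i) c ≫ t = x i := by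
  obtain ⟨t, ht, -⟩ := Groth.Agent.S11719.H5S11719.glue (gj g j) (hcov j) (Over.mk c) Z x hx
  exact ⟨t, ht⟩

lemma jointly_epi' (hcov : ∀ j, Presieve.ofArrows (fun i : {i // α i = j} => U i.1) (gj g j) ∈
      Scheme.fpqcPrecoverage (V j)) (j : κ) {W : Scheme.{u}} (c : W ⟶ V j)
    (Z : Scheme.{u}) (s s' : W ⟶ Z)
    (h : ∀ i, pullback.snd (gj g j i) c ≫ s = pullback.snd (gj g j i) c ≫ s') : s = s' :=
  Groth.Agent.S11719.H5S11719.jointly_epi (gj g j) (hcov j) (Over.mk c) Z s s' h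

lemma cond_v (v : ∀ j, V j ⟶ S) (j : κ) (i : {i // α i = j}) {W : Scheme.{u}} (c : W ⟶ V j) :
    (pullback.snd (gj g j i) c ≫ c) ≫ v j = (pullback.fst (gj g j i) c ≫ g i.1) ≫ v (α i.1) := by
  have h := pullback.condition (f := gj g j i) (g := c)
  rw [← h, Category.assoc, gj_v, Category.assoc]

include w in
theorem full (hcov : ∀ j, Presieve.ofArrows (fun i : {i // α i = j} => U i.1) (gj g j) ∈
      Scheme.fpqcPrecoverage (V j)) : (F u v α g w).Full := by
  refine ⟨?_⟩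
  intro D D' γ
  -- construction of the components
  have hex : ∀ j : κ, ∃ t : (D.obj j).left ⟶ (D'.obj j).left,
      ∀ {Z : Scheme.{u}} (x : Z ⟶ V j) {i : ι} (y : Z ⟶ U i) (hxy : x ≫ v j = (y ≫ g i) ≫ v (α i))
        (vv : Lifts (D.obj j) x), vv.1 ≫ t = (E γ x y hxy vv).1 := by
    intro j
    have hc0 : ∀ i : {i // α i = j}, (pullback.snd (gj g j i) (D.obj j).hom ≫ (D.obj j).hom) ≫ v j =
        (pullback.fst (gj g j i) (D.obj j).hom ≫ g i.1) ≫ v (α i.1) := fun i => cond_v v j i _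
    let v0 : ∀ i : {i // α i = j},
        Lifts (D.obj j) (pullback.snd (gj g j i) (D.obj j).hom ≫ (D.obj j).hom) := fun i =>
      ⟨pullback.snd (gj g j i) (D.obj j).hom, rfl⟩
    let e : ∀ i : {i // α i = j}, pullback (gj g j i) (D.obj j).hom ⟶ (D'.obj j).left := fun i =>
      (E γ (pullback.snd (gj g j i) (D.obj j).hom ≫ (D.obj j).hom)
        (pullback.fst (gj g j i) (D.obj j).hom) (hc0 i) (v0 i)).1
    have he : ∀ (i₁ i₂ : {i // α i = j}) (Z : Scheme.{u})
        (p₁ : Z ⟶ pullback (gj g j i₁) (D.obj j).hom) (p₂ : Z ⟶ pullback (gj g j i₂) (D.obj j).hom),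
        p₁ ≫ pullback.snd (gj g j i₁) (D.obj j).hom = p₂ ≫ pullback.snd (gj g j i₂) (D.obj j).hom →
          p₁ ≫ e i₁ = p₂ ≫ e i₂ := by
      intro i₁ i₂ Z p₁ p₂ hp
      have hx1 : ((p₁ ≫ pullback.snd (gj g j i₁) (D.obj j).hom) ≫ (D.obj j).hom) ≫ v j =
          ((p₁ ≫ pullback.fst (gj g j i₁) (D.obj j).hom) ≫ g i₁.1) ≫ v (α i₁.1) := by
        have := congrArg (p₁ ≫ ·) (hc0 i₁)
        simpa only [Category.assoc] using this
      have hx2 : ((p₁ ≫ pullback.snd (gj g j i₁) (D.obj j).hom) ≫ (D.obj j).hom) ≫ v j =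
          ((p₂ ≫ pullback.fst (gj g j i₂) (D.obj j).hom) ≫ g i₂.1) ≫ v (α i₂.1) := by
        have := congrArg (p₂ ≫ ·) (hc0 i₂)
        rw [hp]
        simpa only [Category.assoc] using this
      let vz : Lifts (D.obj j) ((p₁ ≫ pullback.snd (gj g j i₁) (D.obj j).hom) ≫ (D.obj j).hom) :=
        ⟨p₁ ≫ pullback.snd (gj g j i₁) (D.obj j).hom, rfl⟩
      have n1 := E_natural γ p₁ (pullback.snd (gj g j i₁) (D.obj j).hom ≫ (D.obj j).hom)
        (pullback.fst (gj g j i₁) (D.obj j).hom)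
        (hc0 i₁) (v0 i₁) ((p₁ ≫ pullback.snd (gj g j i₁) (D.obj j).hom) ≫ (D.obj j).hom)
        (p₁ ≫ pullback.fst (gj g j i₁) (D.obj j).hom) hx1 vz (by rw [Category.assoc]) rfl rfl
      have n2 := E_natural γ p₂ (pullback.snd (gj g j i₂) (D.obj j).hom ≫ (D.obj j).hom)
        (pullback.fst (gj g j i₂) (D.obj j).hom)
        (hc0 i₂) (v0 i₂) ((p₁ ≫ pullback.snd (gj g j i₁) (D.obj j).hom) ≫ (D.obj j).hom)
        (p₂ ≫ pullback.fst (gj g j i₂) (D.obj j).hom) hx2 vz (by rw [hp, Category.assoc]) rfl hp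
      change p₁ ≫ (E γ _ _ (hc0 i₁) (v0 i₁)).1 = p₂ ≫ (E γ _ _ (hc0 i₂) (v0 i₂)).1
      rw [← n1, ← n2, E_indep (w := w) γ _ _ _ hx1 hx2 vz]
    obtain ⟨t, ht⟩ := glue' hcov j (D.obj j).hom (D'.obj j).left e he
    refine ⟨t, ?_⟩
    intro Z x i y hxy vv
    obtain ⟨v₀, hv⟩ := vv
    subst hv
    apply jointly_epi' hcov j (v₀ ≫ (D.obj j).hom)
    intro i'
    -- the piece of the cover of `Z`
    let k := pullback.snd (gj g j i') (v₀ ≫ (D.obj j).hom)
    let y' := pullback.fst (gj g j i') (v₀ ≫ (D.obj j).hom)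
    have hm : y' ≫ gj g j i' = (k ≫ v₀) ≫ (D.obj j).hom := by
      rw [Category.assoc]
      exact pullback.condition
    let m := pullback.lift y' (k ≫ v₀) hm
    have hm1 : m ≫ pullback.snd (gj g j i') (D.obj j).hom = k ≫ v₀ := pullback.lift_snd _ _ _
    have hm2 : m ≫ pullback.fst (gj g j i') (D.obj j).hom = y' := pullback.lift_fst _ _ _
    have hky : ((k ≫ v₀) ≫ (D.obj j).hom) ≫ v j = ((k ≫ y) ≫ g i) ≫ v (α i) := by
      have := congrArg (k ≫ ·) hxy
      simpa only [Category.assoc] using this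
    have hky' : ((k ≫ v₀) ≫ (D.obj j).hom) ≫ v j = (y' ≫ g i'.1) ≫ v (α i'.1) := by
      have := cond_v (g := g) v j i' (v₀ ≫ (D.obj j).hom)
      simpa only [Category.assoc] using this
    let vk : Lifts (D.obj j) ((k ≫ v₀) ≫ (D.obj j).hom) := ⟨k ≫ v₀, rfl⟩
    have n1 := E_natural γ k (v₀ ≫ (D.obj j).hom) y hxy ⟨v₀, rfl⟩
      ((k ≫ v₀) ≫ (D.obj j).hom) (k ≫ y) hky vk (by rw [Category.assoc]) rfl rfl
    have n2 := E_natural γ m (pullback.snd (gj g j i') (D.obj j).hom ≫ (D.obj j).hom)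
      (pullback.fst (gj g j i') (D.obj j).hom) (hc0 i') (v0 i')
      ((k ≫ v₀) ≫ (D.obj j).hom) y' hky' vk (by rw [← Category.assoc, hm1]) hm2 hm1.symm
    change k ≫ v₀ ≫ t = k ≫ _
    rw [← n1, E_indep (w := w) γ _ _ _ hky hky' vk, n2]
    change _ = m ≫ e i'
    rw [← ht, ← Category.assoc m, hm1, Category.assoc]
  choose t hP using hex
  have hπ : ∀ j, t j ≫ (D'.obj j).hom = (D.obj j).hom := by
    intro j
    apply jointly_epi' hcov j (D.obj j).hom
    intro i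
    have hc0 := cond_v (g := g) v j i (D.obj j).hom
    have := hP j (pullback.snd (gj g j i) (D.obj j).hom ≫ (D.obj j).hom)
      (pullback.fst (gj g j i) (D.obj j).hom) hc0 ⟨pullback.snd (gj g j i) (D.obj j).hom, rfl⟩
    change pullback.snd (gj g j i) (D.obj j).hom ≫ t j = _ at this
    rw [← Category.assoc, this]
    exact (E γ _ _ hc0 _).2
  let β : D ⟶ D' := ⟨fun j => Over.homMk (t j) (hπ j), by
    intro T j j' x₀ x₁ hx vv ww hw
    change ww.1 = vv.1 ≫ t j at hw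
    change _ = _ ≫ t j'
    apply jointly_epi' hcov j x₀
    intro i
    let k := pullback.snd (gj g j i) x₀
    let y := pullback.fst (gj g j i) x₀
    have hk : (k ≫ x₀) ≫ v j = (k ≫ x₁) ≫ v j' := by
      rw [Category.assoc, Category.assoc]
      exact congrArg (k ≫ ·) hx
    have hy0 : (k ≫ x₀) ≫ v j = (y ≫ g i.1) ≫ v (α i.1) := cond_v v j i x₀
    have hy1 : (k ≫ x₁) ≫ v j' = (y ≫ g i.1) ≫ v (α i.1) := hk.symm.trans hy0
    let vk : Lifts (D.obj j) (k ≫ x₀) := ⟨k ≫ vv.1, by rw [Category.assoc, vv.2]⟩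
    let wk : Lifts (D'.obj j) (k ≫ x₀) := ⟨k ≫ ww.1, by rw [Category.assoc, ww.2]⟩
    have e1 : (D'.φ (k ≫ x₀) (k ≫ x₁) hk wk).1 = k ≫ (D'.φ x₀ x₁ hx ww).1 :=
      D'.φ_natural k x₀ x₁ hx (k ≫ x₀) (k ≫ x₁) rfl rfl hk ww wk rfl
    have e2 : (D.φ (k ≫ x₀) (k ≫ x₁) hk vk).1 = k ≫ (D.φ x₀ x₁ hx vv).1 :=
      D.φ_natural k x₀ x₁ hx (k ≫ x₀) (k ≫ x₁) rfl rfl hk vv vk rfl
    have e3 : E γ (k ≫ x₀) y hy0 vk = wk := by
      apply Subtype.ext
      rw [← hP j (k ≫ x₀) y hy0 vk]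
      change (k ≫ vv.1) ≫ t j = k ≫ ww.1
      rw [hw, Category.assoc]
    change k ≫ _ = k ≫ _
    rw [← e1, ← Category.assoc, ← e2, hP j' (k ≫ x₁) y hy1, E_phi γ (k ≫ x₀) (k ≫ x₁) y hy0 hk hy1, e3]⟩
  refine ⟨β, ?_⟩
  apply SchDDFam.hom_ext
  funext i
  ext
  apply pullback.hom_ext
  · rw [map_left_fst]
    change pullback.fst (D.obj (α i)).hom (g i) ≫ t (α i) = _
    let vv : Lifts (D.obj (α i)) (pullback.snd (D.obj (α i)).hom (g i) ≫ g i) :=
      ⟨pullback.fst (D.obj (α i)).hom (g i), pullback.condition⟩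
    have := hP (α i) (pullback.snd (D.obj (α i)).hom (g i) ≫ g i) (pullback.snd (D.obj (α i)).hom (g i)) rfl vv
    rw [E_self, Γ_val] at this
    change pullback.fst (D.obj (α i)).hom (g i) ≫ t (α i) = _ at this
    rw [this]
    have hid : pullback.lift vv.1 (pullback.snd (D.obj (α i)).hom (g i)) vv.2 = 𝟙 _ := by
      apply pullback.hom_ext
      · rw [pullback.lift_fst, Category.id_comp]
      · rw [pullback.lift_snd, Category.id_comp]
    rw [hid, Category.id_comp]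
  · rw [map_left_snd]
    exact (Over.w (γ.hom i)).symm

include w in
theorem faithful (hcov : ∀ j, Presieve.ofArrows (fun i : {i // α i = j} => U i.1) (gj g j) ∈
      Scheme.fpqcPrecoverage (V j)) : (F u v α g w).Faithful := by
  refine ⟨?_⟩
  intro D D' β β' hββ
  apply SchDDFam.hom_ext
  funext j
  ext
  apply jointly_epi' hcov j (D.obj j).hom
  intro i'
  set πV := (D.obj j).hom with hπV
  let i := i'.1
  let prV := pullback.snd (gj g j i') πV
  let prX := pullback.fst (gj g j i') πV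
  have hc : (prV ≫ πV) ≫ v j = (prX ≫ g i) ≫ v (α i) := cond_v v j i' πV
  let vv : Lifts (D.obj j) (prV ≫ πV) := ⟨prV, rfl⟩
  let ww := D.φ (prV ≫ πV) (prX ≫ g i) hc vv
  have hw : ww.1 ≫ (D.obj (α i)).hom = prX ≫ g i := ww.2
  let vβ : Lifts (D'.obj j) (prV ≫ πV) := ⟨prV ≫ (β.hom j).left, by
    rw [Category.assoc, Over.w (β.hom j)]⟩
  let vβ' : Lifts (D'.obj j) (prV ≫ πV) := ⟨prV ≫ (β'.hom j).left, by
    rw [Category.assoc, Over.w (β'.hom j)]⟩
  have cβ := β.comm (prV ≫ πV) (prX ≫ g i) hc vv vβ rfl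
  have cβ' := β'.comm (prV ≫ πV) (prX ≫ g i) hc vv vβ' rfl
  have hfac : ww.1 = pullback.lift ww.1 prX hw ≫ pullback.fst (D.obj (α i)).hom (g i) :=
    (pullback.lift_fst _ _ _).symm
  have hαβ : pullback.fst (D.obj (α i)).hom (g i) ≫ (β.hom (α i)).left =
      pullback.fst (D.obj (α i)).hom (g i) ≫ (β'.hom (α i)).left := by
    rw [← map_left_fst (w := w) β i, ← map_left_fst (w := w) β' i, hββ]
  have e : ww.1 ≫ (β.hom (α i)).left = ww.1 ≫ (β'.hom (α i)).left := by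
    rw [hfac, Category.assoc, Category.assoc, hαβ]
  have e2 : (D'.φ (prV ≫ πV) (prX ≫ g i) hc vβ).1 = (D'.φ (prV ≫ πV) (prX ≫ g i) hc vβ').1 := by
    rw [cβ, cβ']
    exact e
  have e3 : vβ = vβ' := (D'.φ (prV ≫ πV) (prX ≫ g i) hc).injective (Subtype.ext e2)
  exact congrArg Subtype.val e3

include w in
theorem main (hcov : ∀ j, Presieve.ofArrows (fun i : {i // α i = j} => U i.1) (gj g j) ∈
      Scheme.fpqcPrecoverage (V j)) :
    (F u v α g w).Full ∧ (F u v α g w).Faithful :=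
  ⟨full (w := w) hcov, faithful (w := w) hcov⟩

end H5S9854
end H5opts

/-- Let u i : U i ⟶ S and v j : V j ⟶ S be two families of morphisms with target S and (α, g) a morphism
of families over the identity of S, i.e. g i : U i ⟶ V (α i) with g i ≫ v (α i) = u i. Suppose that,
for each index j, the morphisms g i indexed by those i with α i = j together form an fpqc covering
of V j. Under this hypothesis, pulling back descent data for schemes relative to (v j) to descent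
data relative to (u i) gives a functor that is full and faithful. -/
theorem result {ι κ : Type u} {S : Scheme.{u}} {U : ι → Scheme.{u}} {V : κ → Scheme.{u}}
    (u : ∀ i, U i ⟶ S) (v : ∀ j, V j ⟶ S) (α : ι → κ) (g : ∀ i, U i ⟶ V (α i)) (w : ∀ i, g i ≫ v (α i) = u i)
    (hcov : ∀ j, Presieve.ofArrows (fun i : {i // α i = j} => U i.1)
      (fun i => g i.1 ≫ eqToHom (congrArg V i.2)) ∈ Scheme.fpqcPrecoverage (V j)) :
    (Desc.pullDDFam (f := v) (f' := u) (α := α) (p := 𝟙 S) (p' := g) (fun i => (w i).trans (Category.comp_id (u i)).symm)).Full ∧ (Desc.pullDDFam (f := v) (f' := u) (α := α) (p := 𝟙 S) (p' := g) (fun i => (w i).trans (Category.comp_id (u i)).symm)).Faithful := by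
  exact H5S9854.main (w := w) hcov

end Groth.Agent.S9854
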