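import Groth.Statements.S9859
import Mathlib
-- import your own Groth.Agent.* helpers here

set_option autoImplicit false
open CategoryTheory CategoryTheory.Limits AlgebraicGeometry Opposite
universe u
open Desc

namespace Groth.Agent.S9859

namespace H5S9859
open AlgebraicGeometry CategoryTheory Limits MorphismProperty

variable (P : MorphismProperty Scheme.{u}) [MorphismProperty.IsLocalAtTarget P Scheme.fppfPrecoverage]

include P in
lemma zar : IsZariskiLocalAtTarget P :=
  MorphismProperty.IsLocalAtTarget.of_le Scheme.zariskiPrecoverage_le_fppfPrecoverage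

def fam (Y' Y : Scheme.{u}) : Bool → Scheme.{u} := fun b => cond b Y' Y

def famHom {Y' Y : Scheme.{u}} (g : Y' ⟶ Y) : ∀ b, fam Y' Y b ⟶ Y
  | true => g
  | false => 𝟙 Y

lemma fam_mem {Y' Y : Scheme.{u}} (g : Y' ⟶ Y) [Flat g] [LocallyOfFinitePresentation g] :
    Presieve.ofArrows (fam Y' Y) (famHom g) ∈ Scheme.fppfPrecoverage Y := by
  rw [Scheme.fppfPrecoverage, Scheme.ofArrows_mem_precoverage_iff]
  refine ⟨fun x => ⟨false, x, rfl⟩, ?_⟩
  rintro (_ | _)
  · exact ⟨inferInstanceAs (Flat (𝟙 Y)), inferInstanceAs (LocallyOfFinitePresentation (𝟙 Y))⟩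
  · exact ⟨inferInstanceAs (Flat g), inferInstanceAs (LocallyOfFinitePresentation g)⟩

/-- (B1) base change along a flat lfp morphism -/
lemma bc {X Y Y' : Scheme.{u}} (f : X ⟶ Y) (g : Y' ⟶ Y) [Flat g] [LocallyOfFinitePresentation g]
    (hf : P f) : P (pullback.snd f g) :=
  MorphismProperty.IsLocalAtTarget.pullbackSnd (K := Scheme.fppfPrecoverage) (fam_mem g)
    (Presieve.ofArrows.mk true) hf

/-- (B2) descent along a surjective flat lfp morphism -/
lemma desc {X Y Y' : Scheme.{u}} (f : X ⟶ Y) (g : Y' ⟶ Y) [Flat g] [LocallyOfFinitePresentation g]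
    [Surjective g] (h : P (pullback.snd f g)) : P f := by
  have hR : Presieve.singleton g ∈ Scheme.fppfPrecoverage Y := by
    rw [Scheme.fppfPrecoverage, Scheme.singleton_mem_precoverage_iff]
    exact ⟨g.surjective, inferInstance, inferInstance⟩
  refine MorphismProperty.IsLocalAtTarget.of_forall_pullbackSnd (K := Scheme.fppfPrecoverage) hR ?_
  rintro _ _ _ ⟨⟩
  exact h

include P in
lemma restrict_iff {X Y : Scheme.{u}} (f : X ⟶ Y) (U : Y.Opens) :
    P (f ∣_ U) ↔ P (pullback.snd f U.ι) := by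
  haveI : P.RespectsIso := inferInstance
  rw [← pullbackRestrictIsoRestrict_hom_morphismRestrict, P.cancel_left_of_respectsIso]

include P in
lemma trans_iff {X Y Y' Y'' : Scheme.{u}} (f : X ⟶ Y) (g : Y' ⟶ Y) (g' : Y'' ⟶ Y') :
    P (pullback.snd (pullback.snd f g) g') ↔ P (pullback.snd f (g' ≫ g)) := by
  haveI : P.RespectsIso := inferInstance
  rw [← pullbackLeftPullbackSndIso_hom_snd f g g', P.cancel_left_of_respectsIso]

omit [MorphismProperty.IsLocalAtTarget P Scheme.fppfPrecoverage] in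
lemma congr_snd {X Y Z : Scheme.{u}} (f : X ⟶ Y) (h₁ h₂ : Z ⟶ Y) (e : h₁ = h₂) :
    P (pullback.snd f h₁) ↔ P (pullback.snd f h₂) := by
  subst e
  rfl


theorem main {X Y : Scheme.{u}} (f : X ⟶ Y) :
    ∃ W : Y.Opens, P (f ∣_ W) ∧ (∀ W₀ : Y.Opens, P (f ∣_ W₀) → W₀ ≤ W) ∧
      (∀ (Y' : Scheme.{u}) (g : Y' ⟶ Y), Flat g → LocallyOfFinitePresentation g →
        P (pullback.snd f g) → Set.range g.base ⊆ (W : Set Y)) ∧
      (∀ (Y' : Scheme.{u}) (g : Y' ⟶ Y), Flat g → LocallyOfFinitePresentation g →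
        ∀ W' : Y'.Opens, P (pullback.snd f g ∣_ W') →
          (∀ W₀ : Y'.Opens, P (pullback.snd f g ∣_ W₀) → W₀ ≤ W') →
          W' = g ⁻¹ᵁ W) := by
  haveI := zar P
  haveI : P.RespectsIso := inferInstance
  let W : Y.Opens := ⨆ i : {W₀ : Y.Opens // P (f ∣_ W₀)}, i.1
  have h2 : ∀ W₀ : Y.Opens, P (f ∣_ W₀) → W₀ ≤ W := fun W₀ h =>
    le_iSup (fun i : {W₀ : Y.Opens // P (f ∣_ W₀)} => i.1) ⟨W₀, h⟩
  have h1 : P (f ∣_ W) := by
    refine IsZariskiLocalAtTarget.of_iSup_eq_top
      (fun i : {W₀ : Y.Opens // P (f ∣_ W₀)} => W.ι ⁻¹ᵁ i.1) ?_ ?_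
    · rw [← Scheme.Hom.preimage_iSup]
      exact Scheme.Opens.ι_preimage_self W
    · intro i
      rw [P.arrow_mk_iso_iff (morphismRestrictRestrict f W (W.ι ⁻¹ᵁ i.1))]
      have : W.ι ''ᵁ (W.ι ⁻¹ᵁ i.1) = i.1 := by
        rw [Scheme.Hom.image_preimage_eq_opensRange_inf, Scheme.Opens.opensRange_ι]
        exact inf_eq_right.2 (h2 i.1 i.2)
      rw [this]
      exact i.2
  have h3 : ∀ (Y' : Scheme.{u}) (g : Y' ⟶ Y), Flat g → LocallyOfFinitePresentation g →
        P (pullback.snd f g) → Set.range g.base ⊆ (W : Set Y) := by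
    intro Y' g _ _ hg
    let W₀ : Y.Opens := ⟨Set.range g.base, g.isOpenMap.isOpen_range⟩
    have hr : Set.range g.base ⊆ Set.range W₀.ι.base := by
      rw [Scheme.Opens.range_ι]
      exact subset_rfl
    let g' : Y' ⟶ W₀ := IsOpenImmersion.lift W₀.ι g hr
    have hg' : g' ≫ W₀.ι = g := IsOpenImmersion.lift_fac _ _ _
    haveI : Flat g' := MorphismProperty.of_postcomp (W := @Flat) (W' := @IsOpenImmersion) g' W₀.ι
      inferInstance (by rw [hg']; infer_instance)
    haveI : LocallyOfFinitePresentation g' := MorphismProperty.of_postcomp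
      (W := @LocallyOfFinitePresentation) (W' := @IsOpenImmersion) g' W₀.ι
      inferInstance (by rw [hg']; infer_instance)
    haveI : Surjective g' := ⟨by
      rintro ⟨w, y, rfl⟩
      refine ⟨y, ?_⟩
      apply W₀.ι.isOpenEmbedding.injective
      rw [← Scheme.Hom.comp_apply, hg']
      rfl⟩
    have : P (f ∣_ W₀) := by
      rw [restrict_iff P]
      apply desc P _ g'
      rw [trans_iff P, congr_snd P f _ _ hg']
      exact hg
    exact fun y hy => h2 W₀ this hy
  refine ⟨W, h1, h2, h3, ?_⟩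
  intro Y' g _ _ W' hW' hmax
  apply le_antisymm
  · intro y hy
    have : P (pullback.snd f (W'.ι ≫ g)) := by
      rw [← trans_iff P, ← restrict_iff P]
      exact hW'
    exact h3 _ (W'.ι ≫ g) inferInstance inferInstance this ⟨⟨y, hy⟩, rfl⟩
  · apply hmax
    rw [restrict_iff P, trans_iff P, congr_snd P f _ _ (morphismRestrict_ι g W).symm, ← trans_iff P]
    haveI : Flat (g ∣_ W) := IsZariskiLocalAtTarget.restrict (P := @Flat) ‹Flat g› W
    haveI : LocallyOfFinitePresentation (g ∣_ W) :=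
      IsZariskiLocalAtTarget.restrict (P := @LocallyOfFinitePresentation)
        ‹LocallyOfFinitePresentation g› W
    apply bc P
    rw [← restrict_iff P]
    exact h1

end H5S9859

/-- Case τ = fppf: let P be a property of morphisms of schemes which is fppf local on the base and f : X
⟶ Y a morphism. There is a largest open W of Y such that the restriction of f over W has P;
moreover, first, if g : Y' ⟶ Y is flat and locally of finite presentation and the base change of f
to Y' has P, then the image of g lies in W; and second, for such g the largest open of Y' over which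
the base change of f has P is exactly g⁻¹(W). -/
theorem result (P : MorphismProperty Scheme.{u})
    [MorphismProperty.IsLocalAtTarget P Scheme.fppfPrecoverage] {X Y : Scheme.{u}} (f : X ⟶ Y) :
    ∃ W : Y.Opens, P (f ∣_ W) ∧ (∀ W₀ : Y.Opens, P (f ∣_ W₀) → W₀ ≤ W) ∧
      (∀ (Y' : Scheme.{u}) (g : Y' ⟶ Y), Flat g → LocallyOfFinitePresentation g →
        P (pullback.snd f g) → Set.range g.base ⊆ (W : Set Y)) ∧
      (∀ (Y' : Scheme.{u}) (g : Y' ⟶ Y), Flat g → LocallyOfFinitePresentation g →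
        ∀ W' : Y'.Opens, P (pullback.snd f g ∣_ W') → (∀ W₀ : Y'.Opens, P (pullback.snd f g ∣_ W₀) → W₀ ≤ W') →
          W' = g ⁻¹ᵁ W) := by
  exact H5S9859.main P f

end Groth.Agent.S9859
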