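import Groth.Statements.S9860
import Mathlib
-- import your own Groth.Agent.* helpers here

set_option autoImplicit false
open CategoryTheory CategoryTheory.Limits AlgebraicGeometry Opposite
universe u
open Desc

namespace Groth.Agent.S9860


open CategoryTheory CategoryTheory.Limits AlgebraicGeometry Opposite

namespace H5S9860

lemma fam_congr {Y W : Scheme.{u}} {S : Sieve Y} (x : Presieve.FamilyOfElements (yoneda.obj W) S.arrows)
    {Z : Scheme.{u}} {f f' : Z ⟶ Y} (e : f = f') (hf : S f) (hf' : S f') : x f hf = x f' hf' := by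
  subst e
  rfl

theorem main {X : Scheme.{u}} (R : Sieve X)
    (h : ∀ (Y : Scheme.{u}) (g : Y ⟶ X), IsAffine Y → (R.pullback g).EffectiveEpimorphic)
    {Y : Scheme.{u}} (g : Y ⟶ X) : (R.pullback g).EffectiveEpimorphic := by
  rw [Sieve.EffectiveEpimorphic.iff_forall_isSheafFor_yoneda]
  intro W
  set S : Sieve Y := R.pullback g with hS
  have hA : ∀ (A : Scheme.{u}) (m : A ⟶ Y), IsAffine A →
      Presieve.IsSheafFor (yoneda.obj W) (S.pullback m).arrows := by
    intro A m hAff
    have h1 := h A (m ≫ g) hAff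
    rw [Sieve.pullback_comp] at h1
    exact (Sieve.EffectiveEpimorphic.iff_forall_isSheafFor_yoneda _).1 h1 W
  intro x hx
  have hsx := (Presieve.compatible_iff_sieveCompatible x).1 hx
  -- the local amalgamations
  let T : ∀ (A : Scheme.{u}) (m : A ⟶ Y), IsAffine A → (A ⟶ W) := fun A m hAff =>
    (hA A m hAff).amalgamate (x.pullback m) (hx.pullback m)
  have P1 : ∀ (A : Scheme.{u}) (m : A ⟶ Y) (hAff : IsAffine A) {Z : Scheme.{u}} (k : Z ⟶ A)
      (hk : S (k ≫ m)), k ≫ T A m hAff = x (k ≫ m) hk := by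
    intro A m hAff Z k hk
    exact (hA A m hAff).valid_glue (hx.pullback m) k hk
  have Tuniq : ∀ (A : Scheme.{u}) (m : A ⟶ Y) (hAff : IsAffine A) (t : A ⟶ W),
      (∀ {Z : Scheme.{u}} (k : Z ⟶ A) (hk : S (k ≫ m)), k ≫ t = x (k ≫ m) hk) → t = T A m hAff := by
    intro A m hAff t ht
    apply (hA A m hAff).isSeparatedFor.ext
    intro Z k hk
    change k ≫ t = k ≫ T A m hAff
    rw [ht k hk, P1 A m hAff k hk]
  have Tcongr : ∀ (A : Scheme.{u}) (m m' : A ⟶ Y) (hAff : IsAffine A), m = m' →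
      T A m hAff = T A m' hAff := by
    intro A m m' hAff e
    subst e
    rfl
  have P2 : ∀ (A A' : Scheme.{u}) (m : A ⟶ Y) (hAff : IsAffine A) (hAff' : IsAffine A') (n : A' ⟶ A),
      n ≫ T A m hAff = T A' (n ≫ m) hAff' := by
    intro A A' m hAff hAff' n
    refine Tuniq A' (n ≫ m) hAff' _ ?_
    intro Z k hk
    have hk' : S ((k ≫ n) ≫ m) := by rw [Category.assoc]; exact hk
    rw [← Category.assoc, P1 A m hAff (k ≫ n) hk']
    exact fam_congr x (Category.assoc _ _ _) _ _
  -- glue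
  let 𝒰 := Y.affineCover
  have hcompat : ∀ a b, pullback.fst (𝒰.f a) (𝒰.f b) ≫ T (𝒰.X a) (𝒰.f a) inferInstance =
      pullback.snd (𝒰.f a) (𝒰.f b) ≫ T (𝒰.X b) (𝒰.f b) inferInstance := by
    intro a b
    apply Scheme.Cover.hom_ext (pullback (𝒰.f a) (𝒰.f b)).affineCover
    intro c
    have ha : IsAffine ((pullback (𝒰.f a) (𝒰.f b)).affineCover.X c) := inferInstance
    have e1 := P2 (𝒰.X a) _ (𝒰.f a) inferInstance ha
      ((pullback (𝒰.f a) (𝒰.f b)).affineCover.f c ≫ pullback.fst _ _)
    have e2 := P2 (𝒰.X b) _ (𝒰.f b) inferInstance ha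
      ((pullback (𝒰.f a) (𝒰.f b)).affineCover.f c ≫ pullback.snd _ _)
    rw [← Category.assoc, ← Category.assoc, e1, e2]
    refine Tcongr _ _ _ ha ?_
    rw [Category.assoc, Category.assoc, pullback.condition]
  let t : Y ⟶ W := 𝒰.glueMorphisms (fun a => T (𝒰.X a) (𝒰.f a) inferInstance) hcompat
  have ht : ∀ a, 𝒰.f a ≫ t = T (𝒰.X a) (𝒰.f a) inferInstance :=
    fun a => 𝒰.ι_glueMorphisms _ hcompat a
  refine ⟨t, ?_, ?_⟩
  · intro Z k hk
    change k ≫ t = x k hk
    apply Scheme.Cover.hom_ext (𝒰.pullback₁ k)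
    intro a
    change pullback.fst k (𝒰.f a) ≫ k ≫ t = pullback.fst k (𝒰.f a) ≫ x k hk
    have hk2 : S (pullback.snd k (𝒰.f a) ≫ 𝒰.f a) := by
      rw [← pullback.condition]
      exact S.downward_closed hk _
    rw [pullback.condition_assoc, ht a, P1 (𝒰.X a) (𝒰.f a) inferInstance _ hk2]
    have := hsx k (pullback.fst k (𝒰.f a)) hk
    change _ = pullback.fst k (𝒰.f a) ≫ x k hk at this
    rw [← this]
    exact fam_congr x pullback.condition.symm _ _
  · intro t' ht'
    apply Scheme.Cover.hom_ext 𝒰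
    intro a
    rw [ht a]
    refine Tuniq (𝒰.X a) (𝒰.f a) inferInstance _ ?_
    intro Z k hk
    rw [← Category.assoc]
    exact ht' (k ≫ 𝒰.f a) hk

end H5S9860

/-- Consider morphisms of schemes f i : X i ⟶ X indexed by i. Suppose that, whenever Y is an affine
scheme and g : Y ⟶ X is a morphism, the sieve on Y obtained by pulling back along g (generated by
the base changes X i ×_X Y ⟶ Y) is effective epimorphic. Then the pulled-back sieve along every
morphism Y ⟶ X of schemes is effective epimorphic; in other words, within schemes the family forms a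
universal effective epimorphism. -/
theorem result {ι : Type u} {X : Scheme.{u}} {Xi : ι → Scheme.{u}} (f : ∀ i, Xi i ⟶ X)
    (h : ∀ (Y : Scheme.{u}) (g : Y ⟶ X), IsAffine Y → ((Sieve.ofArrows Xi f).pullback g).EffectiveEpimorphic)
    {Y : Scheme.{u}} (g : Y ⟶ X) : ((Sieve.ofArrows Xi f).pullback g).EffectiveEpimorphic := by
  exact H5S9860.main _ h g

end Groth.Agent.S9860
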