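import Groth.Statements.S9864
import Mathlib
-- import your own Groth.Agent.* helpers here

set_option autoImplicit false
open CategoryTheory CategoryTheory.Limits AlgebraicGeometry Opposite
universe u
open Desc

namespace Groth.Agent.S9864


section H5opts
set_option backward.isDefEq.respectTransparency false
set_option backward.isDefEq.respectTransparency.types false
open CategoryTheory CategoryTheory.Limits AlgebraicGeometry Opposite

namespace H5S9864
open Desc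

/-- iso from componentwise iso -/
lemma isIso_of_components {S : Scheme.{u}} {ι : Type*} {X : ι → Scheme.{u}} {f : ∀ i, X i ⟶ S}
    {D D' : SchDDFam f} (c : D ⟶ D') (hc : ∀ i, IsIso (c.hom i)) : IsIso c := by
  refine ⟨⟨⟨fun i => inv (c.hom i), ?_⟩, ?_, ?_⟩⟩
  · intro T i j x₀ x₁ h v w hw
    have key := c.comm x₀ x₁ h w v (by
      rw [hw, Category.assoc, ← Over.comp_left, IsIso.inv_hom_id, Over.id_left, Category.comp_id])
    rw [key, Category.assoc, ← Over.comp_left, IsIso.hom_inv_id, Over.id_left, Category.comp_id]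
  · ext i : 2
    simp
  · ext i : 2
    simp

variable {X S : Scheme.{u}} (a : X ⟶ S) (f : X ⟶ X) (h : f ≫ a = a)

/-- the pullback functor in question -/
noncomputable abbrev F : SchDDFam (fun _ : PUnit.{u + 1} => a) ⥤ SchDDFam (fun _ : PUnit.{u + 1} => a) :=
  Desc.pullDDFam (f := fun _ : PUnit.{u + 1} => a) (f' := fun _ : PUnit.{u + 1} => a) (α := fun j => j)
        (p := 𝟙 S) (p' := fun _ => f) (fun _ => (h).trans (Category.comp_id a).symm)

variable {a f h} (D : SchDDFam (fun _ : PUnit.{u + 1} => a))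

include h in
lemma hh {T : Scheme.{u}} (x : T ⟶ X) : (x ≫ f) ≫ a = x ≫ a := by rw [Category.assoc, h]

/-- the point map: Lifts (F D).obj x → Lifts D.obj x -/
noncomputable def M {T : Scheme.{u}} (x : T ⟶ X)
    (v : Lifts (Over.mk (pullback.snd (D.obj ⟨⟩).hom f)) x) : Lifts (D.obj ⟨⟩) x :=
  D.φ (i := ⟨⟩) (j := ⟨⟩) (x ≫ f) x (hh (h := h) x) (liftsPullbackEquiv (D.obj ⟨⟩) f x v)

/-- the underlying morphism -/
noncomputable def m : pullback (D.obj ⟨⟩).hom f ⟶ (D.obj ⟨⟩).left :=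
  (M (h := h) D (pullback.snd (D.obj ⟨⟩).hom f) ⟨𝟙 _, Category.id_comp _⟩).1

lemma m_hom : m (h := h) D ≫ (D.obj ⟨⟩).hom = pullback.snd (D.obj ⟨⟩).hom f :=
  (M (h := h) D (pullback.snd (D.obj ⟨⟩).hom f) ⟨𝟙 _, Category.id_comp _⟩).2

lemma M_eq {T : Scheme.{u}} (x : T ⟶ X)
    (v : Lifts (Over.mk (pullback.snd (D.obj ⟨⟩).hom f)) x) :
    (M (h := h) D x v).1 = v.1 ≫ m (h := h) D := by
  have hv : v.1 ≫ pullback.snd (D.obj ⟨⟩).hom f = x := v.2
  exact D.φ_natural (i := ⟨⟩) (j := ⟨⟩) v.1 (pullback.snd (D.obj ⟨⟩).hom f ≫ f)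
    (pullback.snd (D.obj ⟨⟩).hom f) (hh (h := h) _) (x ≫ f) x
    (by rw [← Category.assoc, hv]) hv (hh (h := h) x) _ _ (by simp [liftsPullbackEquiv])


/-- inverse point map -/
noncomputable def M' {T : Scheme.{u}} (x : T ⟶ X) (v : Lifts (D.obj ⟨⟩) x) :
    Lifts (Over.mk (pullback.snd (D.obj ⟨⟩).hom f)) x :=
  (liftsPullbackEquiv (D.obj ⟨⟩) f x).symm
    (D.φ (i := ⟨⟩) (j := ⟨⟩) x (x ≫ f) (hh (h := h) x).symm v)

lemma M_M' {T : Scheme.{u}} (x : T ⟶ X) (v : Lifts (D.obj ⟨⟩) x) :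
    M (h := h) D x (M' (h := h) D x v) = v := by
  simp only [M, M', Equiv.apply_symm_apply, D.φ_comp]
  exact D.φ_self x v

lemma M'_M {T : Scheme.{u}} (x : T ⟶ X) (v : Lifts (Over.mk (pullback.snd (D.obj ⟨⟩).hom f)) x) :
    M' (h := h) D x (M (h := h) D x v) = v := by
  simp only [M, M', D.φ_comp]
  rw [D.φ_self, Equiv.symm_apply_apply]

noncomputable def m' : (D.obj ⟨⟩).left ⟶ pullback (D.obj ⟨⟩).hom f :=
  (M' (h := h) D (D.obj ⟨⟩).hom ⟨𝟙 _, Category.id_comp _⟩).1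

lemma m'_snd : m' (h := h) D ≫ pullback.snd (D.obj ⟨⟩).hom f = (D.obj ⟨⟩).hom :=
  (M' (h := h) D (D.obj ⟨⟩).hom ⟨𝟙 _, Category.id_comp _⟩).2

lemma M'_eq {T : Scheme.{u}} (x : T ⟶ X) (v : Lifts (D.obj ⟨⟩) x) :
    (M' (h := h) D x v).1 = v.1 ≫ m' (h := h) D := by
  have hv : v.1 ≫ (D.obj ⟨⟩).hom = x := v.2
  apply pullback.hom_ext
  · rw [Category.assoc]
    have := D.φ_natural (i := ⟨⟩) (j := ⟨⟩) v.1 (D.obj ⟨⟩).hom ((D.obj ⟨⟩).hom ≫ f)
      (hh (h := h) _).symm x (x ≫ f) hv (by rw [← Category.assoc, hv]) (hh (h := h) x).symm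
      ⟨𝟙 _, Category.id_comp _⟩ v (by simp)
    simpa [M', m', liftsPullbackEquiv] using this
  · rw [Category.assoc, m'_snd, hv]
    simp [M', liftsPullbackEquiv]

lemma m_m' : m (h := h) D ≫ m' (h := h) D = 𝟙 _ := by
  have h1 := M'_eq (h := h) D _
    (M (h := h) D (pullback.snd (D.obj ⟨⟩).hom f) ⟨𝟙 _, Category.id_comp _⟩)
  rw [M'_M] at h1
  exact h1.symm

lemma m'_m : m' (h := h) D ≫ m (h := h) D = 𝟙 _ := by
  have h1 := M_eq (h := h) D _
    (M' (h := h) D (D.obj ⟨⟩).hom ⟨𝟙 _, Category.id_comp _⟩)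
  rw [M_M'] at h1
  exact h1.symm

/-- the comparison morphism -/
noncomputable def θ : (F a f h).obj D ⟶ D :=
  ⟨fun _ => Over.homMk (m (h := h) D) (m_hom (h := h) D), by
    intro T i j x₀ x₁ hx v w hw
    have hw' : w = M (h := h) D x₀ v := Subtype.ext (hw.trans (M_eq (h := h) D x₀ v).symm)
    have e2 : ((((F a f h).obj D).φ x₀ x₁ hx v).1 ≫ m (h := h) D) =
        (M (h := h) D x₁ (((F a f h).obj D).φ x₀ x₁ hx v)).1 := (M_eq (h := h) D x₁ _).symm
    change (D.φ x₀ x₁ hx w).1 = (((F a f h).obj D).φ x₀ x₁ hx v).1 ≫ m (h := h) D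
    rw [e2, hw']
    congr 1
    simp only [M, D.φ_comp]
    change _ = D.φ (x₁ ≫ f) x₁ _ (liftsPullbackEquiv (D.obj ⟨⟩) f x₁
      ((liftsPullbackEquiv (D.obj ⟨⟩) f x₁).symm
        (D.φ (x₀ ≫ f) (x₁ ≫ f) _ (liftsPullbackEquiv (D.obj ⟨⟩) f x₀ v))))
    rw [Equiv.apply_symm_apply, D.φ_comp]⟩

lemma θ_iso : IsIso (θ (h := h) D) := by
  apply isIso_of_components
  intro i
  refine ⟨Over.homMk (m' (h := h) D) (m'_snd (h := h) D), ?_, ?_⟩
  · ext
    exact m_m' (h := h) D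
  · ext
    exact m'_m (h := h) D

lemma θ_natural {D D' : SchDDFam (fun _ : PUnit.{u + 1} => a)} (c : D ⟶ D') :
    (F a f h).map c ≫ θ (h := h) D' = θ (h := h) D ≫ c := by
  ext i : 3
  change (((F a f h).map c).hom ⟨⟩).left ≫ m (h := h) D' = m (h := h) D ≫ (c.hom ⟨⟩).left
  have hsnd : (((F a f h).map c).hom ⟨⟩).left ≫ pullback.snd (D'.obj ⟨⟩).hom f =
      pullback.snd (D.obj ⟨⟩).hom f := by
    exact (pullback.lift_snd _ _ _).trans (Category.comp_id _)
  have hfst : (((F a f h).map c).hom ⟨⟩).left ≫ pullback.fst (D'.obj ⟨⟩).hom f =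
      pullback.fst (D.obj ⟨⟩).hom f ≫ (c.hom ⟨⟩).left :=
    pullback.lift_fst _ _ _
  have h1 := M_eq (h := h) D' _ ⟨(((F a f h).map c).hom ⟨⟩).left, hsnd⟩
  rw [← h1]
  have key := c.comm (i := ⟨⟩) (j := ⟨⟩) (pullback.snd (D.obj ⟨⟩).hom f ≫ f)
    (pullback.snd (D.obj ⟨⟩).hom f) (hh (h := h) _)
    (liftsPullbackEquiv (D.obj ⟨⟩) f _ ⟨𝟙 _, Category.id_comp _⟩)
    (liftsPullbackEquiv (D'.obj ⟨⟩) f _ ⟨(((F a f h).map c).hom ⟨⟩).left, hsnd⟩)
    (by simp [liftsPullbackEquiv, hfst])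
  exact key

theorem main : Nonempty (F a f h ≅ 𝟭 _) :=
  ⟨NatIso.ofComponents (fun D => haveI := θ_iso (h := h) D; asIso (θ (h := h) D))
    (fun c => θ_natural (h := h) c)⟩

end H5S9864
end H5opts

/-- Let a : X ⟶ S be a morphism of schemes and f : X ⟶ X a morphism over S (f ≫ a = a). Then the
pullback functor along f on the category of descent data for schemes relative to X ⟶ S is isomorphic
to the identity functor. (Existence of an isomorphism of functors only; descent data relative to a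
single morphism are written as descent data relative to the corresponding one-member family.) -/
theorem result {X S : Scheme.{u}} (a : X ⟶ S) (f : X ⟶ X) (h : f ≫ a = a) :
    Nonempty (Desc.pullDDFam (f := fun _ : PUnit.{u + 1} => a) (f' := fun _ : PUnit.{u + 1} => a) (α := fun j => j)
        (p := 𝟙 S) (p' := fun _ => f) (fun _ => (h).trans (Category.comp_id a).symm) ≅
      𝟭 (Desc.SchDDFam (fun _ : PUnit.{u + 1} => a))) := by
  exact H5S9864.main (h := h)

end Groth.Agent.S9864
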