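import Groth.Statements.S9865
import Mathlib
import Groth.Agent.S9864
-- import your own Groth.Agent.* helpers here

set_option autoImplicit false
open CategoryTheory CategoryTheory.Limits AlgebraicGeometry Opposite
universe u
open Desc

namespace Groth.Agent.S9865


section H5opts
set_option backward.isDefEq.respectTransparency false
set_option backward.isDefEq.respectTransparency.types false
open CategoryTheory CategoryTheory.Limits AlgebraicGeometry Opposite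

namespace H5S9865
open Desc
open Groth.Agent.S9864.H5S9864 (isIso_of_components)

section general

variable {X S : Scheme.{u}} {a : X ⟶ S} (e : X ⟶ X) (he : e ≫ a = a)
  (Φ : SchDDFam (fun _ : PUnit.{u + 1} => a) ⥤ SchDDFam (fun _ : PUnit.{u + 1} => a))
  (LE : ∀ (D : SchDDFam (fun _ : PUnit.{u + 1} => a)) {T : Scheme.{u}} (x : T ⟶ X),
    Lifts ((Φ.obj D).obj ⟨⟩) x ≃ Lifts (D.obj ⟨⟩) (x ≫ e))
  (LE_nat : ∀ (D : SchDDFam (fun _ : PUnit.{u + 1} => a)) {T T' : Scheme.{u}} (k : T' ⟶ T)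
    (x : T ⟶ X) (v : Lifts ((Φ.obj D).obj ⟨⟩) x) (v' : Lifts ((Φ.obj D).obj ⟨⟩) (k ≫ x)),
    v'.1 = k ≫ v.1 → (LE D (k ≫ x) v').1 = k ≫ (LE D x v).1)
  (LE_φ : ∀ (D : SchDDFam (fun _ : PUnit.{u + 1} => a)) {T : Scheme.{u}} (x₀ x₁ : T ⟶ X)
    (hx : x₀ ≫ a = x₁ ≫ a) (hx' : (x₀ ≫ e) ≫ a = (x₁ ≫ e) ≫ a) (v : Lifts ((Φ.obj D).obj ⟨⟩) x₀),
    LE D x₁ ((Φ.obj D).φ (i := ⟨⟩) (j := ⟨⟩) x₀ x₁ hx v) =
      D.φ (i := ⟨⟩) (j := ⟨⟩) (x₀ ≫ e) (x₁ ≫ e) hx' (LE D x₀ v))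
  (LE_map : ∀ {D D' : SchDDFam (fun _ : PUnit.{u + 1} => a)} (c : D ⟶ D') {T : Scheme.{u}}
    (x : T ⟶ X) (v : Lifts ((Φ.obj D).obj ⟨⟩) x) (v' : Lifts ((Φ.obj D').obj ⟨⟩) x),
    v'.1 = v.1 ≫ ((Φ.map c).hom ⟨⟩).left → (LE D' x v').1 = (LE D x v).1 ≫ (c.hom ⟨⟩).left)

include he in
lemma hh {T : Scheme.{u}} (x : T ⟶ X) : (x ≫ e) ≫ a = x ≫ a := by rw [Category.assoc, he]

variable (D : SchDDFam (fun _ : PUnit.{u + 1} => a))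

/-- the point map -/
noncomputable def M {T : Scheme.{u}} (x : T ⟶ X) (v : Lifts ((Φ.obj D).obj ⟨⟩) x) :
    Lifts (D.obj ⟨⟩) x :=
  D.φ (i := ⟨⟩) (j := ⟨⟩) (x ≫ e) x (hh e he x) (LE D x v)

noncomputable def M' {T : Scheme.{u}} (x : T ⟶ X) (v : Lifts (D.obj ⟨⟩) x) :
    Lifts ((Φ.obj D).obj ⟨⟩) x :=
  (LE D x).symm (D.φ (i := ⟨⟩) (j := ⟨⟩) x (x ≫ e) (hh e he x).symm v)

lemma M_M' {T : Scheme.{u}} (x : T ⟶ X) (v : Lifts (D.obj ⟨⟩) x) :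
    M e he Φ LE D x (M' e he Φ LE D x v) = v := by
  simp only [M, M', Equiv.apply_symm_apply, D.φ_comp]
  exact D.φ_self x v

lemma M'_M {T : Scheme.{u}} (x : T ⟶ X) (v : Lifts ((Φ.obj D).obj ⟨⟩) x) :
    M' e he Φ LE D x (M e he Φ LE D x v) = v := by
  simp only [M, M', D.φ_comp]
  rw [D.φ_self, Equiv.symm_apply_apply]

include LE_nat in
lemma M_nat {T T' : Scheme.{u}} (k : T' ⟶ T) (x : T ⟶ X) (v : Lifts ((Φ.obj D).obj ⟨⟩) x)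
    (v' : Lifts ((Φ.obj D).obj ⟨⟩) (k ≫ x)) (hv : v'.1 = k ≫ v.1) :
    (M e he Φ LE D (k ≫ x) v').1 = k ≫ (M e he Φ LE D x v).1 :=
  D.φ_natural (i := ⟨⟩) (j := ⟨⟩) k (x ≫ e) x (hh e he x) ((k ≫ x) ≫ e) (k ≫ x)
    (by rw [Category.assoc]) rfl (hh e he _) _ _ (LE_nat D k x v v' hv)

include LE_nat in
lemma M'_nat {T T' : Scheme.{u}} (k : T' ⟶ T) (x : T ⟶ X) (v : Lifts (D.obj ⟨⟩) x)
    (v' : Lifts (D.obj ⟨⟩) (k ≫ x)) (hv : v'.1 = k ≫ v.1) :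
    (M' e he Φ LE D (k ≫ x) v').1 = k ≫ (M' e he Φ LE D x v).1 := by
  let w : Lifts ((Φ.obj D).obj ⟨⟩) (k ≫ x) :=
    ⟨k ≫ (M' e he Φ LE D x v).1, by rw [Category.assoc, (M' e he Φ LE D x v).2]⟩
  have h1 := M_nat e he Φ LE LE_nat D k x (M' e he Φ LE D x v) w rfl
  rw [M_M'] at h1
  have h2 : M e he Φ LE D (k ≫ x) w = v' := Subtype.ext (h1.trans hv.symm)
  rw [← h2, M'_M]


noncomputable def m : ((Φ.obj D).obj ⟨⟩).left ⟶ (D.obj ⟨⟩).left :=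
  (M e he Φ LE D ((Φ.obj D).obj ⟨⟩).hom ⟨𝟙 _, Category.id_comp _⟩).1

lemma m_hom : m e he Φ LE D ≫ (D.obj ⟨⟩).hom = ((Φ.obj D).obj ⟨⟩).hom :=
  (M e he Φ LE D ((Φ.obj D).obj ⟨⟩).hom ⟨𝟙 _, Category.id_comp _⟩).2

include LE_nat in
lemma M_eq {T : Scheme.{u}} (x : T ⟶ X) (v : Lifts ((Φ.obj D).obj ⟨⟩) x) :
    (M e he Φ LE D x v).1 = v.1 ≫ m e he Φ LE D := by
  rcases v with ⟨v1, rfl⟩
  exact M_nat e he Φ LE LE_nat D v1 ((Φ.obj D).obj ⟨⟩).hom ⟨𝟙 _, Category.id_comp _⟩ ⟨v1, rfl⟩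
    (by simp)

noncomputable def m' : (D.obj ⟨⟩).left ⟶ ((Φ.obj D).obj ⟨⟩).left :=
  (M' e he Φ LE D (D.obj ⟨⟩).hom ⟨𝟙 _, Category.id_comp _⟩).1

lemma m'_hom : m' e he Φ LE D ≫ ((Φ.obj D).obj ⟨⟩).hom = (D.obj ⟨⟩).hom :=
  (M' e he Φ LE D (D.obj ⟨⟩).hom ⟨𝟙 _, Category.id_comp _⟩).2

include LE_nat in
lemma M'_eq {T : Scheme.{u}} (x : T ⟶ X) (v : Lifts (D.obj ⟨⟩) x) :
    (M' e he Φ LE D x v).1 = v.1 ≫ m' e he Φ LE D := by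
  rcases v with ⟨v1, rfl⟩
  exact M'_nat e he Φ LE LE_nat D v1 (D.obj ⟨⟩).hom ⟨𝟙 _, Category.id_comp _⟩ ⟨v1, rfl⟩
    (by simp)

include LE_nat in
lemma m_m' : m e he Φ LE D ≫ m' e he Φ LE D = 𝟙 _ := by
  have h1 := M'_eq e he Φ LE LE_nat D _
    (M e he Φ LE D ((Φ.obj D).obj ⟨⟩).hom ⟨𝟙 _, Category.id_comp _⟩)
  rw [M'_M] at h1
  exact h1.symm

include LE_nat in
lemma m'_m : m' e he Φ LE D ≫ m e he Φ LE D = 𝟙 _ := by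
  have h1 := M_eq e he Φ LE LE_nat D _
    (M' e he Φ LE D (D.obj ⟨⟩).hom ⟨𝟙 _, Category.id_comp _⟩)
  rw [M_M'] at h1
  exact h1.symm

include LE_nat LE_φ in
/-- the comparison morphism -/
noncomputable def θ : Φ.obj D ⟶ D :=
  ⟨fun _ => Over.homMk (m e he Φ LE D) (m_hom e he Φ LE D), by
    intro T i j x₀ x₁ hx v w hw
    have hw' : w = M e he Φ LE D x₀ v :=
      Subtype.ext (hw.trans (M_eq e he Φ LE LE_nat D x₀ v).symm)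
    have e2 : (((Φ.obj D).φ x₀ x₁ hx v).1 ≫ m e he Φ LE D) =
        (M e he Φ LE D x₁ ((Φ.obj D).φ x₀ x₁ hx v)).1 := (M_eq e he Φ LE LE_nat D x₁ _).symm
    change (D.φ x₀ x₁ hx w).1 = ((Φ.obj D).φ x₀ x₁ hx v).1 ≫ m e he Φ LE D
    rw [e2, hw']
    congr 1
    simp only [M, D.φ_comp]
    rw [LE_φ D x₀ x₁ hx (by rw [hh e he, hh e he, hx]) v, D.φ_comp]⟩

include LE_nat LE_φ in
lemma θ_iso : IsIso (θ e he Φ LE LE_nat LE_φ D) := by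
  apply isIso_of_components
  intro i
  refine ⟨Over.homMk (m' e he Φ LE D) (m'_hom e he Φ LE D), ?_, ?_⟩
  · ext
    exact m_m' e he Φ LE LE_nat D
  · ext
    exact m'_m e he Φ LE LE_nat D

include he LE_nat LE_φ LE_map in
lemma θ_natural {D D' : SchDDFam (fun _ : PUnit.{u + 1} => a)} (c : D ⟶ D') :
    Φ.map c ≫ θ e he Φ LE LE_nat LE_φ D' = θ e he Φ LE LE_nat LE_φ D ≫ c := by
  ext i : 3
  change ((Φ.map c).hom ⟨⟩).left ≫ m e he Φ LE D' = m e he Φ LE D ≫ (c.hom ⟨⟩).left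
  have hpc : ((Φ.map c).hom ⟨⟩).left ≫ ((Φ.obj D').obj ⟨⟩).hom = ((Φ.obj D).obj ⟨⟩).hom :=
    Over.w ((Φ.map c).hom ⟨⟩)
  have h1 := M_eq e he Φ LE LE_nat D' _ ⟨((Φ.map c).hom ⟨⟩).left, hpc⟩
  rw [← h1]
  exact c.comm (i := ⟨⟩) (j := ⟨⟩) (((Φ.obj D).obj ⟨⟩).hom ≫ e)
    ((Φ.obj D).obj ⟨⟩).hom (hh e he _)
    (LE D _ ⟨𝟙 _, Category.id_comp _⟩)
    (LE D' _ ⟨((Φ.map c).hom ⟨⟩).left, hpc⟩)
    (LE_map c _ _ _ (by simp))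

include he LE_nat LE_φ LE_map in
theorem general_main : Nonempty (Φ ≅ 𝟭 _) :=
  ⟨NatIso.ofComponents (fun D => haveI := θ_iso e he Φ LE LE_nat LE_φ D;
      asIso (θ e he Φ LE LE_nat LE_φ D))
    (fun c => θ_natural e he Φ LE LE_nat LE_φ LE_map c)⟩

end general


section specific

variable {X X' S : Scheme.{u}} (a : X ⟶ S) (a' : X' ⟶ S) (f : X' ⟶ X) (g : X ⟶ X')
  (h : f ≫ a = a') (hg : g ≫ a' = a)

/-- pullback along `f` -/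
noncomputable abbrev Ff : SchDDFam (fun _ : PUnit.{u + 1} => a) ⥤ SchDDFam (fun _ : PUnit.{u + 1} => a') :=
  Desc.pullDDFam (f := fun _ : PUnit.{u + 1} => a) (f' := fun _ : PUnit.{u + 1} => a') (α := fun j => j)
        (p := 𝟙 S) (p' := fun _ => f) (fun _ => (h).trans (Category.comp_id a').symm)

lemma φ_congr {a : X ⟶ S} (D : SchDDFam (fun _ : PUnit.{u + 1} => a)) {T : Scheme.{u}}
    (y₀ y₀' : T ⟶ X) (e₀ : y₀ = y₀') (y₁ y₁' : T ⟶ X) (e₁ : y₁ = y₁')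
    (h : y₀ ≫ a = y₁ ≫ a) (h' : y₀' ≫ a = y₁' ≫ a)
    (v : Lifts (D.obj ⟨⟩) y₀) (v' : Lifts (D.obj ⟨⟩) y₀') (hv : v'.1 = v.1) :
    (D.φ (i := ⟨⟩) (j := ⟨⟩) y₀' y₁' h' v').1 = (D.φ (i := ⟨⟩) (j := ⟨⟩) y₀ y₁ h v).1 := by
  subst e₀ e₁
  have : v' = v := Subtype.ext hv
  rw [this]

/-- reassociation of the index -/
def reassoc (V : Over X) {T : Scheme.{u}} (x : T ⟶ X) :
    Lifts V ((x ≫ g) ≫ f) ≃ Lifts V (x ≫ g ≫ f) :=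
  ⟨fun v => ⟨v.1, by rw [← Category.assoc]; exact v.2⟩,
   fun v => ⟨v.1, by rw [Category.assoc]; exact v.2⟩, fun _ => rfl, fun _ => rfl⟩

lemma Ff_φ (D : SchDDFam (fun _ : PUnit.{u + 1} => a)) {T : Scheme.{u}} (y₀ y₁ : T ⟶ X')
    (hy : y₀ ≫ a' = y₁ ≫ a') (hy' : (y₀ ≫ f) ≫ a = (y₁ ≫ f) ≫ a)
    (v : Lifts (((Ff a a' f h).obj D).obj ⟨⟩) y₀) :
    liftsPullbackEquiv (D.obj ⟨⟩) f y₁ (((Ff a a' f h).obj D).φ (i := ⟨⟩) (j := ⟨⟩) y₀ y₁ hy v) =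
      D.φ (i := ⟨⟩) (j := ⟨⟩) (y₀ ≫ f) (y₁ ≫ f) hy' (liftsPullbackEquiv (D.obj ⟨⟩) f y₀ v) := by
  change liftsPullbackEquiv (D.obj ⟨⟩) f y₁ ((liftsPullbackEquiv (D.obj ⟨⟩) f y₁).symm _) = _
  rw [Equiv.apply_symm_apply]

lemma Ff_map_fst {D D' : SchDDFam (fun _ : PUnit.{u + 1} => a)} (c : D ⟶ D') :
    (((Ff a a' f h).map c).hom ⟨⟩).left ≫ pullback.fst (D'.obj ⟨⟩).hom f =
      pullback.fst (D.obj ⟨⟩).hom f ≫ (c.hom ⟨⟩).left :=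
  pullback.lift_fst _ _ _

noncomputable def LE (D : SchDDFam (fun _ : PUnit.{u + 1} => a)) {T : Scheme.{u}} (x : T ⟶ X) :
    Lifts (((Ff a' a g hg).obj ((Ff a a' f h).obj D)).obj ⟨⟩) x ≃ Lifts (D.obj ⟨⟩) (x ≫ g ≫ f) :=
  (liftsPullbackEquiv (((Ff a a' f h).obj D).obj ⟨⟩) g x).trans
    ((liftsPullbackEquiv (D.obj ⟨⟩) f (x ≫ g)).trans (reassoc f g (D.obj ⟨⟩) x))

lemma LE_val (D : SchDDFam (fun _ : PUnit.{u + 1} => a)) {T : Scheme.{u}} (x : T ⟶ X)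
    (v : Lifts (((Ff a' a g hg).obj ((Ff a a' f h).obj D)).obj ⟨⟩) x) :
    (LE a a' f g h hg D x v).1 =
      (v.1 ≫ pullback.fst (((Ff a a' f h).obj D).obj ⟨⟩).hom g) ≫ pullback.fst (D.obj ⟨⟩).hom f :=
  rfl

lemma LE_apply (D : SchDDFam (fun _ : PUnit.{u + 1} => a)) {T : Scheme.{u}} (x : T ⟶ X)
    (v : Lifts (((Ff a' a g hg).obj ((Ff a a' f h).obj D)).obj ⟨⟩) x) :
    LE a a' f g h hg D x v = reassoc f g (D.obj ⟨⟩) x (liftsPullbackEquiv (D.obj ⟨⟩) f (x ≫ g)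
      (liftsPullbackEquiv (((Ff a a' f h).obj D).obj ⟨⟩) g x v)) :=
  rfl

include h hg in
lemma he : (g ≫ f) ≫ a = a := by rw [Category.assoc, h, hg]

lemma LE_nat' (D : SchDDFam (fun _ : PUnit.{u + 1} => a)) {T T' : Scheme.{u}} (k : T' ⟶ T)
    (x : T ⟶ X) (v : Lifts (((Ff a' a g hg).obj ((Ff a a' f h).obj D)).obj ⟨⟩) x)
    (v' : Lifts (((Ff a' a g hg).obj ((Ff a a' f h).obj D)).obj ⟨⟩) (k ≫ x)) (hv : v'.1 = k ≫ v.1) :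
    (LE a a' f g h hg D (k ≫ x) v').1 = k ≫ (LE a a' f g h hg D x v).1 := by
  rw [LE_val, LE_val, hv]
  simp only [Category.assoc]

lemma LE_φ' (D : SchDDFam (fun _ : PUnit.{u + 1} => a)) {T : Scheme.{u}} (x₀ x₁ : T ⟶ X)
    (hx : x₀ ≫ a = x₁ ≫ a) (hx' : (x₀ ≫ g ≫ f) ≫ a = (x₁ ≫ g ≫ f) ≫ a)
    (v : Lifts (((Ff a' a g hg).obj ((Ff a a' f h).obj D)).obj ⟨⟩) x₀) :
    LE a a' f g h hg D x₁
      (((Ff a' a g hg).obj ((Ff a a' f h).obj D)).φ (i := ⟨⟩) (j := ⟨⟩) x₀ x₁ hx v) =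
      D.φ (i := ⟨⟩) (j := ⟨⟩) (x₀ ≫ g ≫ f) (x₁ ≫ g ≫ f) hx' (LE a a' f g h hg D x₀ v) := by
  have hy : (x₀ ≫ g) ≫ a' = (x₁ ≫ g) ≫ a' := by
    rw [Category.assoc, Category.assoc, hg, hx]
  have hy' : ((x₀ ≫ g) ≫ f) ≫ a = ((x₁ ≫ g) ≫ f) ≫ a := by
    simp only [Category.assoc, h, hg, hx]
  rw [LE_apply, LE_apply, Ff_φ a' a g hg ((Ff a a' f h).obj D) x₀ x₁ hx hy v,
    Ff_φ a a' f h D (x₀ ≫ g) (x₁ ≫ g) hy hy']
  apply Subtype.ext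
  exact (φ_congr D ((x₀ ≫ g) ≫ f) (x₀ ≫ g ≫ f) (Category.assoc _ _ _) ((x₁ ≫ g) ≫ f)
    (x₁ ≫ g ≫ f) (Category.assoc _ _ _) hy' hx'
    (liftsPullbackEquiv (D.obj ⟨⟩) f (x₀ ≫ g)
      (liftsPullbackEquiv (((Ff a a' f h).obj D).obj ⟨⟩) g x₀ v))
    (reassoc f g (D.obj ⟨⟩) x₀ (liftsPullbackEquiv (D.obj ⟨⟩) f (x₀ ≫ g)
      (liftsPullbackEquiv (((Ff a a' f h).obj D).obj ⟨⟩) g x₀ v))) rfl).symm

lemma LE_map' {D D' : SchDDFam (fun _ : PUnit.{u + 1} => a)} (c : D ⟶ D') {T : Scheme.{u}}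
    (x : T ⟶ X) (v : Lifts (((Ff a' a g hg).obj ((Ff a a' f h).obj D)).obj ⟨⟩) x)
    (v' : Lifts (((Ff a' a g hg).obj ((Ff a a' f h).obj D')).obj ⟨⟩) x)
    (hv : v'.1 = v.1 ≫ (((Ff a' a g hg).map ((Ff a a' f h).map c)).hom ⟨⟩).left) :
    (LE a a' f g h hg D' x v').1 = (LE a a' f g h hg D x v).1 ≫ (c.hom ⟨⟩).left := by
  rw [LE_val, LE_val, hv]
  simp only [Category.assoc]
  rw [reassoc_of% (Ff_map_fst a' a g hg ((Ff a a' f h).map c)), Ff_map_fst a a' f h c]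

theorem compIso : Nonempty (Ff a a' f h ⋙ Ff a' a g hg ≅ 𝟭 _) :=
  general_main (g ≫ f) (he a a' f g h hg) (Ff a a' f h ⋙ Ff a' a g hg)
    (fun D T x => LE a a' f g h hg D x)
    (fun D T T' k x v v' hv => LE_nat' a a' f g h hg D k x v v' hv)
    (fun D T x₀ x₁ hx hx' v => LE_φ' a a' f g h hg D x₀ x₁ hx hx' v)
    (fun {D D'} c T x v v' hv => LE_map' a a' f g h hg c x v v' hv)

theorem main (hg' : ∃ g : X ⟶ X', g ≫ a' = a) : (Ff a a' f h).IsEquivalence := by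
  obtain ⟨g, hg⟩ := hg'
  obtain ⟨η⟩ := compIso a a' f g h hg
  obtain ⟨ε⟩ := compIso a' a g f hg h
  exact (CategoryTheory.Equivalence.mk (Ff a a' f h) (Ff a' a g hg) η.symm ε).isEquivalence_functor

end specific

end H5S9865
end H5opts

/-- Let f : X' ⟶ X be a morphism of schemes over S, with structure morphisms a' : X' ⟶ S and a : X ⟶ S,
and assume there exists a morphism g : X ⟶ X' over S (for instance a section of f). Then the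
pullback functor along f, from descent data for schemes relative to X ⟶ S to descent data relative
to X' ⟶ S, is an equivalence of categories. (Descent data relative to a single morphism are written
as descent data relative to the corresponding one-member family.) -/
theorem result {X X' S : Scheme.{u}} (a : X ⟶ S) (a' : X' ⟶ S) (f : X' ⟶ X)
    (h : f ≫ a = a') (hg : ∃ g : X ⟶ X', g ≫ a' = a) :
    (Desc.pullDDFam (f := fun _ : PUnit.{u + 1} => a) (f' := fun _ : PUnit.{u + 1} => a') (α := fun j => j)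
        (p := 𝟙 S) (p' := fun _ => f) (fun _ => (h).trans (Category.comp_id a').symm)).IsEquivalence := by
  exact H5S9865.main a a' f h hg

end Groth.Agent.S9865
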