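import Groth.Statements.S9867
import Mathlib
import Groth.Agent.Lib.helper4.FinLocFreeDescent

set_option autoImplicit false
open CategoryTheory CategoryTheory.Limits AlgebraicGeometry Opposite
universe u
open Desc

namespace Groth.Agent.S9867

/-- Being finite locally free (finite, flat and locally of finite presentation), and being finite
locally free of a given degree d, are fpqc local on the base; the descent directions, stated as
descent along surjective flat quasi-compact morphisms: if the base change of f along such a morphism
is finite locally free then so is f, and if moreover that base change has constant rank d (Mathlib's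
rank function of a finite flat morphism) then f has constant rank d. (With Zariski-locality on the
target these give the statements for arbitrary fpqc coverings; stability under base change is the
other direction.) -/
theorem result :
    MorphismProperty.DescendsAlong (fun _ _ f => Mor2.IsFinLocFree f : MorphismProperty Scheme.{u})
      (@Surjective ⊓ @Flat ⊓ @QuasiCompact : MorphismProperty Scheme.{u}) ∧
    ∀ d : ℕ, MorphismProperty.DescendsAlong (fun _ _ f => Mor2.IsFinLocFreeOfDeg d f : MorphismProperty Scheme.{u})
      (@Surjective ⊓ @Flat ⊓ @QuasiCompact : MorphismProperty Scheme.{u}) := by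
  refine ⟨⟨fun {A X Y Z fst snd f g} H hf hfst => ?_⟩, fun d => ⟨fun {A X Y Z fst snd f g} H hf hfst => ?_⟩⟩
  · obtain ⟨h1, h2, h3⟩ := hfst
    exact H4FLF.descends H hf h1 h2 h3
  · obtain ⟨⟨h1, h2, h3⟩, hd⟩ := hfst
    have hg := H4FLF.descends H hf h1 h2 h3
    refine ⟨hg, ?_⟩
    have : Surjective f := hf.1.1
    have : IsFinite g := hg.1
    have : Flat g := hg.2.1
    exact H4FLF.finrank_descends H d hd

end Groth.Agent.S9867
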