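import Groth.Statements.S9869
import Groth.Agent.Lib.helper15.AlgSpQuotSh
import Groth.Agent.Lib.helper15.AlgSpQuot2
import Groth.Agent.S10107
import Groth.Agent.Lib.helper15.AlgSpThick

set_option autoImplicit false
universe u
open CategoryTheory CategoryTheory.Limits AlgebraicGeometry
open AlgSp
open Groth.Agent.Lib.H15.Quot Groth.Agent.Lib.H15.AS

namespace Groth.Agent.S9869

/-- Let `s, t : R ⟶ U` be an etale equivalence relation on a scheme `U` over `S` and suppose that the
fppf quotient sheaf `U/R` is an algebraic space over `S`. Then the quotient map `h_U ⟶ U/R` is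
representable etale and representable surjective, and `(U, R, h_U ⟶ U/R)` is a presentation of `U/R`
(in particular `h_R`, with `h_t` and `h_s`, is the fibre product `h_U ×_{U/R} h_U`). The quotient
map is written on `h_U` through the canonical identification of `h_U` with the sheafified
representable presheaf. -/
theorem result (S : Scheme.{u}) {R U : Over S} (s t : R ⟶ U)
    (h : AlgSp.IsEtaleEqvRel s t) (hq : AlgSp.IsAlgSpace (QuotSh.quot Scheme.fppfPrecoverage s t)) :
    AlgSp.IsPresentation s t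
      ((QuotSh.repIsoUliftYoneda Scheme.fppfPrecoverage U).inv ≫ QuotSh.quotπ Scheme.fppfPrecoverage s t) := by
  have hj := isEqvRelSp_of_isEqvRel s t h.toIsEqvRel
  have hUy : AlgSp.IsAlgSpace ((AlgSp.yon S).obj U) := AlgSp.IsAlgSpace.yon_obj U
  have hRy : AlgSp.IsAlgSpace ((AlgSp.yon S).obj R) := AlgSp.IsAlgSpace.yon_obj R
  have hF' : AlgSp.IsAlgSpace (AlgSp.quotSp ((AlgSp.yon S).map s) ((AlgSp.yon S).map t)) :=
    hq.of_iso (quotIso s t).symm
  have hEt : Etale s.left := h.etale_left
  have hs : AlgSp.LocP @Etale ((AlgSp.yon S).map s) :=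
    locP_of_repWith @Etale (fun A B C e p he hp => by
      have : Etale e := he
      have : Etale p := hp
      exact (inferInstance : Etale (e ≫ p))) ((AlgSp.repWith_yon_map_iff _ _).2 hEt)
  have hπ : AlgSp.LocP @Etale (AlgSp.quotSpπ ((AlgSp.yon S).map s) ((AlgSp.yon S).map t)) :=
    Groth.Agent.S10107.main S _ _ hRy hUy _ _ hj hF' goodP_etale hs
  have hrep : AlgSp.Representable (AlgSp.quotSpπ ((AlgSp.yon S).map s) ((AlgSp.yon S).map t)) :=
    hF'.representable_from_yon _
  have hπe := (locP_iff_repWith_of_representable goodP_etale hUy hF' hrep).1 hπ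
  haveI : Epi (AlgSp.quotSpπ ((AlgSp.yon S).map s) ((AlgSp.yon S).map t)) := epi_quotSpπ _ _
  have hπs : AlgSp.RepWith @Surjective (AlgSp.quotSpπ ((AlgSp.yon S).map s) ((AlgSp.yon S).map t)) :=
    repWith_surjective_of_isSurjectiveMor hrep (isSurjectiveMor_of_epi _)
  have e : (QuotSh.repIsoUliftYoneda Scheme.fppfPrecoverage U).inv ≫
      QuotSh.quotπ Scheme.fppfPrecoverage s t =
      AlgSp.quotSpπ ((AlgSp.yon S).map s) ((AlgSp.yon S).map t) ≫ (quotIso s t).hom :=
    (π_quotIso_hom s t).symm
  haveI := isIso_lift_kernelPair _ _ hj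
  have sq0 : IsPullback ((AlgSp.yon S).map t) ((AlgSp.yon S).map s)
      (AlgSp.quotSpπ ((AlgSp.yon S).map s) ((AlgSp.yon S).map t))
      (AlgSp.quotSpπ ((AlgSp.yon S).map s) ((AlgSp.yon S).map t)) :=
    IsPullback.of_iso_pullback ⟨(AlgSp.quotSp_condition _ _).symm⟩
      (asIso (pullback.lift ((AlgSp.yon S).map t) ((AlgSp.yon S).map s)
        (AlgSp.quotSp_condition ((AlgSp.yon S).map s) ((AlgSp.yon S).map t)).symm))
      (pullback.lift_fst _ _ _) (pullback.lift_snd _ _ _)
  refine ⟨h, ?_, ?_, ?_⟩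
  · rw [e]; exact MorphismProperty.RespectsIso.postcomp _ _ _ hπe
  · rw [e]; exact MorphismProperty.RespectsIso.postcomp _ _ _ hπs
  · rw [e]; exact isPullback_comp_mono sq0 (quotIso s t).hom

end Groth.Agent.S9869
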