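import Groth.Statements.S9870
import Mathlib
import Groth.Agent.S9871
import Groth.Agent.Lib.helper15.AlgSpQuot2
import Groth.Agent.Lib.helper15.AlgSpQuotSh
import Groth.Agent.Lib.helper15.AlgSpOpenSub3

set_option autoImplicit false
universe u
open CategoryTheory CategoryTheory.Limits AlgebraicGeometry
open AlgSp
open Groth.Agent.Lib.H15.Quot Groth.Agent.Lib.H15.AS

namespace Groth.Agent.S9870

variable {S : Scheme.{u}} {R U : Over S} (s t : R ⟶ U)

set_option quotPrecheck false in
local notation "πq" => AlgSp.quotSpπ ((AlgSp.yon S).map s) ((AlgSp.yon S).map t)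

/-- Two points of `U` with the same image in `U/R` are related by a point of `R`. -/
theorem ofPt_π_eq (hj : AlgSp.IsEqvRelSp ((AlgSp.yon S).map s) ((AlgSp.yon S).map t)) (u₁ u₂ : ↥U.left)
    (e : AlgSp.Points.ofPt πq u₁ = AlgSp.Points.ofPt πq u₂) :
    ∃ ρ : ↥R.left, t.left ρ = u₁ ∧ s.left ρ = u₂ := by
  haveI := isIso_lift_kernelPair _ _ hj
  have sq : IsPullback ((AlgSp.yon S).map t) ((AlgSp.yon S).map s) πq πq :=
    IsPullback.of_iso_pullback ⟨(AlgSp.quotSp_condition _ _).symm⟩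
      (asIso (pullback.lift _ _ (AlgSp.quotSp_condition _ _).symm)) (pullback.lift_fst _ _ _)
      (pullback.lift_snd _ _ _)
  rw [AlgSp.Points.ofPt_eq_map_ofScheme, AlgSp.Points.ofPt_eq_map_ofScheme _ u₂] at e
  obtain ⟨p, hp1, hp2⟩ := points_exists_of_isPullback sq _ _ e
  obtain ⟨ρ, rfl⟩ : ∃ ρ, p = AlgSp.Points.ofScheme R ρ :=
    ⟨AlgSp.Points.toScheme R p, (AlgSp.Points.ofScheme_toScheme R p).symm⟩
  refine ⟨ρ, ?_, ?_⟩
  · have := congrArg (AlgSp.Points.toScheme U) hp1
    rw [AlgSp.Points.map_ofPt, Category.id_comp, AlgSp.Points.toScheme_ofPt,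
      AlgSp.Points.toScheme_ofScheme] at this
    exact this
  · have := congrArg (AlgSp.Points.toScheme U) hp2
    rw [AlgSp.Points.map_ofPt, Category.id_comp, AlgSp.Points.toScheme_ofPt,
      AlgSp.Points.toScheme_ofScheme] at this
    exact this

variable {U' : Over S} (g : U' ⟶ U)

theorem preimage_eq (hj : AlgSp.IsEqvRelSp ((AlgSp.yon S).map s) ((AlgSp.yon S).map t)) :
    AlgSp.Points.ofPt πq ⁻¹' Set.range (AlgSp.Points.ofPt ((AlgSp.yon S).map g ≫ πq)) =
      s.left '' (t.left ⁻¹' Set.range g.left) := by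
  ext u
  constructor
  · rintro ⟨u', hu'⟩
    rw [ofPt_yon_map_comp] at hu'
    obtain ⟨ρ, h1, h2⟩ := ofPt_π_eq s t hj _ _ hu'
    exact ⟨ρ, ⟨u', h1.symm⟩, h2⟩
  · rintro ⟨ρ, ⟨u', hu'⟩, rfl⟩
    refine ⟨u', ?_⟩
    rw [ofPt_yon_map_comp, hu', ← ofPt_yon_map_comp, ← ofPt_yon_map_comp, AlgSp.quotSp_condition]

theorem isOpen_preimage (hj : AlgSp.IsEqvRelSp ((AlgSp.yon S).map s) ((AlgSp.yon S).map t))
    [Flat s.left] [LocallyOfFinitePresentation s.left] [Flat g.left]
    [LocallyOfFinitePresentation g.left] :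
    IsOpen (AlgSp.Points.ofPt πq ⁻¹' Set.range (AlgSp.Points.ofPt ((AlgSp.yon S).map g ≫ πq))) := by
  rw [preimage_eq s t g hj]
  exact s.left.isOpenMap _ (g.left.isOpenMap.isOpen_range.preimage t.left.continuous)

theorem isOpen_Ω (hj : AlgSp.IsEqvRelSp ((AlgSp.yon S).map s) ((AlgSp.yon S).map t))
    [Flat s.left] [LocallyOfFinitePresentation s.left] [Flat g.left]
    [LocallyOfFinitePresentation g.left] :
    IsOpen (Set.range (AlgSp.Points.ofPt ((AlgSp.yon S).map g ≫ πq))) := by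
  have hW := isOpen_preimage s t g hj
  rw [AlgSp.Points.isOpen_iff]
  intro T x
  rw [isOpen_iff_forall_mem_open]
  intro τ hτ
  obtain ⟨Sv, hSv, hl⟩ := exists_cover_lift πq x
  obtain ⟨T', f, hf, hf1, hf2, ⟨τ', rfl⟩⟩ := exists_mem_of_mem_J Sv hSv τ
  obtain ⟨a, ha⟩ := hl f hf
  obtain ⟨a₀, rfl⟩ := (AlgSp.yon S).map_surjective a
  refine ⟨f.left '' (a₀.left ⁻¹' (AlgSp.Points.ofPt πq ⁻¹'
    Set.range (AlgSp.Points.ofPt ((AlgSp.yon S).map g ≫ πq)))), ?_, ?_, ?_⟩
  · rintro _ ⟨z, hz, rfl⟩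
    rw [Set.mem_preimage, ← ofPt_yon_map_comp, ← ha, ofPt_yon_map_comp]; exact hz
  · exact f.left.isOpenMap _ (hW.preimage a₀.left.continuous)
  · refine ⟨τ', ?_, rfl⟩
    rw [Set.mem_preimage, Set.mem_preimage, ← ofPt_yon_map_comp, ha, ofPt_yon_map_comp]; exact hτ

/-- Local lifting to `U'` of sections of `U/R` all of whose points lie in the image of `U'`. -/
theorem local_lift (hj : AlgSp.IsEqvRelSp ((AlgSp.yon S).map s) ((AlgSp.yon S).map t))
    [Flat s.left] [LocallyOfFinitePresentation s.left] [Flat g.left]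
    [LocallyOfFinitePresentation g.left] {T : Over S}
    (x : (AlgSp.yon S).obj T ⟶ AlgSp.quotSp ((AlgSp.yon S).map s) ((AlgSp.yon S).map t))
    (hx : ∀ τ : ↥T.left, AlgSp.Points.ofPt x τ ∈
      Set.range (AlgSp.Points.ofPt ((AlgSp.yon S).map g ≫ πq))) :
    ∃ Sv : Sieve T, Sv ∈ AlgSp.J S T ∧ ∀ ⦃T' : Over S⦄ (f : T' ⟶ T), Sv f →
      ∃ b : T' ⟶ U', (AlgSp.yon S).map b ≫ (AlgSp.yon S).map g ≫ πq = (AlgSp.yon S).map f ≫ x := by
  obtain ⟨Sv, hSv, hl⟩ := exists_cover_lift πq x
  let Sv' : Sieve T :=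
    { arrows := fun T' f => ∃ b : T' ⟶ U',
        (AlgSp.yon S).map b ≫ (AlgSp.yon S).map g ≫ πq = (AlgSp.yon S).map f ≫ x
      downward_closed := by
        rintro Y Z f ⟨b, hb⟩ h
        exact ⟨h ≫ b, by rw [Functor.map_comp, Category.assoc, hb, Functor.map_comp, Category.assoc]⟩ }
  refine ⟨Sv', ?_, fun T' f hf => hf⟩
  refine (AlgSp.J S).transitive hSv Sv' fun T' f hf => ?_
  obtain ⟨a, ha⟩ := hl f hf
  obtain ⟨a₀, rfl⟩ := (AlgSp.yon S).map_surjective a
  -- the scheme `P = (T' ×_U R) ×_U U'`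
  let p : pullback (pullback.snd a₀ s ≫ t) g ⟶ T' := pullback.fst (pullback.snd a₀ s ≫ t) g ≫ pullback.fst a₀ s
  have sq1 := (IsPullback.of_hasPullback a₀ s).map (Over.forget S)
  have sq2 := (IsPullback.of_hasPullback (pullback.snd a₀ s ≫ t) g).map (Over.forget S)
  have h1 : Flat (pullback.fst a₀ s).left :=
    MorphismProperty.of_isPullback (P := @Flat) sq1.flip (inferInstance : Flat s.left)
  have h1' : LocallyOfFinitePresentation (pullback.fst a₀ s).left :=
    MorphismProperty.of_isPullback (P := @LocallyOfFinitePresentation) sq1.flip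
      (inferInstance : LocallyOfFinitePresentation s.left)
  have h2 : Flat (pullback.fst (pullback.snd a₀ s ≫ t) g).left :=
    MorphismProperty.of_isPullback (P := @Flat) sq2.flip (inferInstance : Flat g.left)
  have h2' : LocallyOfFinitePresentation (pullback.fst (pullback.snd a₀ s ≫ t) g).left :=
    MorphismProperty.of_isPullback (P := @LocallyOfFinitePresentation) sq2.flip
      (inferInstance : LocallyOfFinitePresentation g.left)
  haveI : Flat p.left := by
    change Flat ((pullback.fst (pullback.snd a₀ s ≫ t) g).left ≫ (pullback.fst a₀ s).left)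
    infer_instance
  haveI : LocallyOfFinitePresentation p.left := by
    change LocallyOfFinitePresentation
      ((pullback.fst (pullback.snd a₀ s ≫ t) g).left ≫ (pullback.fst a₀ s).left)
    infer_instance
  haveI : Surjective p.left := by
    refine ⟨fun τ' => ?_⟩
    have h3 : AlgSp.Points.ofPt πq (a₀.left τ') ∈
        Set.range (AlgSp.Points.ofPt ((AlgSp.yon S).map g ≫ πq)) := by
      rw [← ofPt_yon_map_comp, ha, ofPt_yon_map_comp]; exact hx _
    have h4 : a₀.left τ' ∈ s.left '' (t.left ⁻¹' Set.range g.left) := by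
      rw [← preimage_eq s t g hj]; exact h3
    obtain ⟨ρ, ⟨u', hu'⟩, hρ⟩ := h4
    obtain ⟨z1, hz1, hz2⟩ := Scheme.exists_preimage_of_isPullback sq1 τ' ρ hρ.symm
    obtain ⟨z2, hz3, hz4⟩ := Scheme.exists_preimage_of_isPullback sq2 z1 u' (by
      change t.left ((pullback.snd a₀ s).left z1) = g.left u'
      rw [hu', ← hz2]; rfl)
    refine ⟨z2, ?_⟩
    change (pullback.fst a₀ s).left ((pullback.fst (pullback.snd a₀ s ≫ t) g).left z2) = τ'
    rw [← hz1]; congr 1
  refine mem_J_of_mem p _ ⟨pullback.snd (pullback.snd a₀ s ≫ t) g, ?_⟩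
  have e1 : pullback.snd (pullback.snd a₀ s ≫ t) g ≫ g =
      (pullback.fst (pullback.snd a₀ s ≫ t) g ≫ pullback.snd a₀ s) ≫ t := by
    rw [← pullback.condition, Category.assoc]
  have e2 : p ≫ a₀ = (pullback.fst (pullback.snd a₀ s ≫ t) g ≫ pullback.snd a₀ s) ≫ s := by
    change (_ ≫ _) ≫ a₀ = _
    rw [Category.assoc, pullback.condition, Category.assoc]
  rw [← Category.assoc, ← Functor.map_comp, e1, Functor.map_comp, Category.assoc,
    ← AlgSp.quotSp_condition, ← Category.assoc, ← Functor.map_comp, ← e2, Functor.map_comp,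
    Category.assoc, ha]
  simp only [p, Functor.map_comp, Category.assoc]

variable {R' : Over S} (s' t' : R' ⟶ U') (r : R' ⟶ R)

theorem main (hsq : IsPullback (prod.lift t' s') r (prod.map g g) (prod.lift t s))
    (hR : AlgSp.IsEqvRel s t)
    [Flat s.left] [LocallyOfFinitePresentation s.left] [Flat g.left]
    [LocallyOfFinitePresentation g.left]
    (ψ : AlgSp.quotSp ((AlgSp.yon S).map s') ((AlgSp.yon S).map t') ⟶
      AlgSp.quotSp ((AlgSp.yon S).map s) ((AlgSp.yon S).map t))
    (hψ : AlgSp.quotSpπ ((AlgSp.yon S).map s') ((AlgSp.yon S).map t') ≫ ψ =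
      (AlgSp.yon S).map g ≫ πq) :
    AlgSp.RepWith @IsOpenImmersion ψ := by
  have hj := isEqvRelSp_of_isEqvRel s t hR
  have hΩ := isOpen_Ω s t g hj
  have hmono : Mono ψ := by
    refine mono_of_epi_of_forall (AlgSp.quotSpπ ((AlgSp.yon S).map s') ((AlgSp.yon S).map t')) ψ
      fun T a b hab => ?_
    have h1 : (a ≫ (AlgSp.yon S).map g) ≫ πq = (b ≫ (AlgSp.yon S).map g) ≫ πq := by
      rw [Category.assoc, Category.assoc, ← hψ]; exact hab
    obtain ⟨Sv, hSv, hrel⟩ := exists_cover_rel _ _ hj.equivalence (a ≫ (AlgSp.yon S).map g)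
      (b ≫ (AlgSp.yon S).map g) h1
    refine eq_of_locally_eq _ _ Sv hSv fun T' f hf => ?_
    obtain ⟨r₀, hr1, hr2⟩ := hrel f hf
    obtain ⟨r₁, rfl⟩ := (AlgSp.yon S).map_surjective r₀
    obtain ⟨a₁, rfl⟩ := (AlgSp.yon S).map_surjective a
    obtain ⟨b₁, rfl⟩ := (AlgSp.yon S).map_surjective b
    obtain ⟨r', -, e1, e2⟩ := Groth.Agent.S9871.huniv hsq r₁ (f ≫ a₁) (f ≫ b₁)
      ((AlgSp.yon S).map_injective (by simpa only [Functor.map_comp, Category.assoc] using hr1))
      ((AlgSp.yon S).map_injective (by simpa only [Functor.map_comp, Category.assoc] using hr2))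
    rw [← Category.assoc, ← Category.assoc, ← Functor.map_comp, ← Functor.map_comp, ← e1, ← e2,
      Functor.map_comp, Functor.map_comp, Category.assoc, Category.assoc, AlgSp.quotSp_condition]
  have hι := repWith_isOpenImmersion_openSubι
    (AlgSp.quotSp ((AlgSp.yon S).map s) ((AlgSp.yon S).map t)) hΩ
  have hrange : Set.range (AlgSp.Points.map ψ) ⊆ Set.range (AlgSp.Points.map (openSubι
      (AlgSp.quotSp ((AlgSp.yon S).map s) ((AlgSp.yon S).map t))
      (Set.range (AlgSp.Points.ofPt ((AlgSp.yon S).map g ≫ πq))))) := by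
    rw [range_map_openSubι]
    rintro _ ⟨y, rfl⟩
    obtain ⟨z, rfl⟩ := isSurjectiveMor_of_epi
      (AlgSp.quotSpπ ((AlgSp.yon S).map s') ((AlgSp.yon S).map t')) y
    rw [← AlgSp.Points.map_comp, hψ]
    obtain ⟨u', rfl⟩ := (AlgSp.Points.schemeHomeo U').surjective z
    exact ⟨u', AlgSp.Points.ofPt_eq_map_ofScheme _ _⟩
  obtain ⟨k, hk⟩ := exists_factor_of_range_subset _ hι ψ hrange
  haveI : Mono (k ≫ openSubι (AlgSp.quotSp ((AlgSp.yon S).map s) ((AlgSp.yon S).map t))
      (Set.range (AlgSp.Points.ofPt ((AlgSp.yon S).map g ≫ πq)))) := by rw [hk]; exact hmono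
  haveI : Mono k := mono_of_mono k (openSubι (AlgSp.quotSp ((AlgSp.yon S).map s) ((AlgSp.yon S).map t))
      (Set.range (AlgSp.Points.ofPt ((AlgSp.yon S).map g ≫ πq))))
  haveI : Epi k := by
    refine epi_of_local_lift k fun T y => ?_
    obtain ⟨Sv, hSv, hl⟩ := local_lift s t g hj (y ≫ openSubι _ _) (fun τ => by
      have h1 : AlgSp.Points.map (openSubι _ _) (AlgSp.Points.ofPt y τ) ∈
        Set.range (AlgSp.Points.map (openSubι
          (AlgSp.quotSp ((AlgSp.yon S).map s) ((AlgSp.yon S).map t))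
          (Set.range (AlgSp.Points.ofPt ((AlgSp.yon S).map g ≫ πq))))) := ⟨_, rfl⟩
      rw [range_map_openSubι] at h1
      exact h1)
    refine ⟨Sv, hSv, fun T' f hf => ?_⟩
    obtain ⟨b, hb⟩ := hl f hf
    refine ⟨(AlgSp.yon S).map b ≫ AlgSp.quotSpπ ((AlgSp.yon S).map s') ((AlgSp.yon S).map t'), ?_⟩
    rw [← cancel_mono (openSubι _ _), Category.assoc, Category.assoc, hk, hψ, Category.assoc]
    exact hb
  haveI : IsIso k := isIso_of_mono_of_epi k
  rw [← hk]
  exact (MorphismProperty.cancel_left_of_respectsIso (AlgSp.RepWith @IsOpenImmersion) k _).2 hι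

/-- Let `s, t : R ⟶ U` be a pre-relation on a scheme `U` over `S` which is an equivalence relation (on
`T`-points, for every scheme `T` over `S`), with `s` and `t` surjective, flat and locally of finite
presentation, and let `g : U' ⟶ U` be flat and locally of finite presentation. Let `s', t' : R' ⟶
U'` be the restriction of the pre-relation to `U'`, i.e. `R'` with `(t', s')` and `R' ⟶ R` is the
fibre product of `U' ×_S U'` and `R` over `U ×_S U`. Then the map of fppf quotient sheaves `U'/R' ⟶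
U/R` induced by `g` (the unique map under the quotient maps compatible with `h_g`) is representable
and an open immersion. -/
theorem result (S : Scheme.{u}) {R U R' U' : Over S} (s t : R ⟶ U)
    (g : U' ⟶ U) (s' t' : R' ⟶ U') (r : R' ⟶ R)
    (hsq : IsPullback (prod.lift t' s') r (prod.map g g) (prod.lift t s))
    (hR : AlgSp.IsEqvRel s t)
    [Surjective s.left] [Flat s.left] [LocallyOfFinitePresentation s.left]
    [Surjective t.left] [Flat t.left] [LocallyOfFinitePresentation t.left]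
    [Flat g.left] [LocallyOfFinitePresentation g.left]
    (φ : QuotSh.quot Scheme.fppfPrecoverage s' t' ⟶ QuotSh.quot Scheme.fppfPrecoverage s t)
    (hφ : QuotSh.quotπ Scheme.fppfPrecoverage s' t' ≫ φ = QuotSh.repMap Scheme.fppfPrecoverage g ≫ QuotSh.quotπ Scheme.fppfPrecoverage s t) :
    AlgSp.RepWith @IsOpenImmersion φ := by
  have hψ : AlgSp.quotSpπ ((AlgSp.yon S).map s') ((AlgSp.yon S).map t') ≫
      ((quotIso s' t').hom ≫ φ ≫ (quotIso s t).inv) = (AlgSp.yon S).map g ≫
        AlgSp.quotSpπ ((AlgSp.yon S).map s) ((AlgSp.yon S).map t) := by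
    rw [← Category.assoc, π_quotIso_hom, ← cancel_mono (quotIso s t).hom, Category.assoc,
      Category.assoc, Category.assoc, Iso.inv_hom_id, Category.comp_id, π_quotIso_hom]
    unfold qp
    rw [Category.assoc, hφ, ← Category.assoc, ← yon_map_repIso_inv, Category.assoc]
  have h := main s t g s' t' r hsq hR _ hψ
  have h2 := (MorphismProperty.cancel_left_of_respectsIso (AlgSp.RepWith @IsOpenImmersion)
    (quotIso s' t').hom _).1 h
  exact (MorphismProperty.cancel_right_of_respectsIso (AlgSp.RepWith @IsOpenImmersion)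
    _ (quotIso s t).inv).1 h2

end Groth.Agent.S9870
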