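import Groth.Statements.S9879
import Mathlib
import Groth.Agent.Lib.helper15.AlgSpCofan

set_option autoImplicit false
universe u
open CategoryTheory CategoryTheory.Limits AlgebraicGeometry
open AlgSp
open Groth.Agent.Lib.H15.AS

namespace Groth.Agent.S9879

/-- Let `U` be a scheme over `S` and `F_i` a family of fppf sheaves of sets over `S` whose coproduct in
sheaves is isomorphic to `h_U`. Then each `F_i` is representable by a scheme `V_i` over `S` such
that `V_i ⟶ U` (the morphism inducing `h_{V_i} ≅ F_i ⟶ ∐ F_i ≅ h_U`) is an open and closed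
immersion, and `U` is the coproduct of the `V_i` in schemes. -/
theorem result (S : Scheme.{u}) (U : Over S) {ι : Type u}
    (F : ι → AlgSp.Sp S) (c : Cofan F) (hc : IsColimit c) (e : c.pt ≅ (AlgSp.yon S).obj U) :
    ∃ (V : ι → Over S) (g : ∀ i, V i ⟶ U) (ei : ∀ i, (AlgSp.yon S).obj (V i) ≅ F i),
      (∀ i, IsOpenImmersion (g i).left ∧ IsClosedImmersion (g i).left) ∧
      (∀ i, (ei i).hom ≫ c.inj i ≫ e.hom = (AlgSp.yon S).map (g i)) ∧
      Nonempty (IsColimit (Cofan.mk U.left (fun i => (g i).left))) := by
  have hrw := fun i => Groth.Agent.Lib.H15.Cofan.repWith_openClosed_inj c hc i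
  have hrep : ∀ i, AlgSp.Representable (c.inj i) := fun i => (hrw i).rep
  have sq := fun i => (hrep i).isPullback e.inv
  have hiso : ∀ i, IsIso ((hrep i).fst e.inv) := fun i =>
    MorphismProperty.of_isPullback (P := MorphismProperty.isomorphisms _) (sq i).flip
      (inferInstance : IsIso e.inv)
  have hP : ∀ i, IsOpenImmersion ((hrep i).snd e.inv).left ∧ IsClosedImmersion ((hrep i).snd e.inv).left :=
    fun i => (hrw i).property_snd e.inv
  have hr : ∀ i, Set.range ((hrep i).snd e.inv).left =
      AlgSp.Points.ofPt e.inv ⁻¹' Set.range (AlgSp.Points.map (c.inj i)) := by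
    intro i
    have := preimage_ofPt_image_map (sq i) Set.univ
    rw [Set.image_univ, Set.preimage_univ, Set.image_univ] at this
    exact this.symm
  refine ⟨fun i => (hrep i).pullback e.inv, fun i => (hrep i).snd e.inv,
    fun i => @asIso _ _ _ _ ((hrep i).fst e.inv) (hiso i), hP, fun i => ?_, ?_⟩
  · change (hrep i).fst e.inv ≫ c.inj i ≫ e.hom = _
    rw [← Category.assoc, (sq i).w, Category.assoc, Iso.inv_hom_id, Category.comp_id]
  · haveI : ∀ i, IsOpenImmersion ((hrep i).snd e.inv).left := fun i => (hP i).1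
    refine AlgebraicGeometry.nonempty_isColimit_cofanMk_of (fun i => ((hrep i).snd e.inv).left) ?_ ?_
    · rw [eq_top_iff]
      intro x _
      obtain ⟨i, p, hp⟩ := Groth.Agent.Lib.H15.Cofan.exists_point c hc (AlgSp.Points.ofPt e.inv x)
      have hx : x ∈ Set.range ((hrep i).snd e.inv).left := by
        rw [hr i]; exact ⟨p, hp⟩
      simp only [TopologicalSpace.Opens.iSup_mk, TopologicalSpace.Opens.mem_mk, Set.mem_iUnion]
      exact ⟨i, hx⟩
    · intro i j hij
      change Disjoint ((hrep i).snd e.inv).left.opensRange ((hrep j).snd e.inv).left.opensRange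
      rw [disjoint_iff, TopologicalSpace.Opens.ext_iff]
      ext x
      simp only [TopologicalSpace.Opens.coe_inf, Scheme.Hom.coe_opensRange, Set.mem_inter_iff,
        TopologicalSpace.Opens.coe_bot, Set.mem_empty_iff_false, iff_false, not_and]
      intro hxi hxj
      rw [hr i] at hxi
      rw [hr j] at hxj
      obtain ⟨p, hp⟩ := hxi
      obtain ⟨q, hq⟩ := hxj
      exact hij (Groth.Agent.Lib.H15.Cofan.range_disjoint c hc p q (hp.trans hq.symm))

end Groth.Agent.S9879
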