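import Groth.Statements.S9881
import Mathlib
import Groth.Agent.Lib.helper15.AlgSpCofan2

set_option autoImplicit false
universe u
open CategoryTheory CategoryTheory.Limits AlgebraicGeometry
open AlgSp
open Groth.Agent.Lib.H15.Cofan Groth.Agent.Lib.H15.Quot Groth.Agent.Lib.H15.AS

namespace Groth.Agent.S9881

/-- Let `F_i` be a family of algebraic spaces over `S` indexed by a type in the universe of `S`, so that
the coproduct of any chosen atlases exists as a scheme (this realizes the size condition of the
published statement). Then the coproduct `∐ F_i` in fppf sheaves of sets over `S` (any colimit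
cofan) is an algebraic space over `S`. -/
theorem result (S : Scheme.{u}) {ι : Type u} (F : ι → AlgSp.Sp S)
    (h : ∀ i, AlgSp.IsAlgSpace (F i)) (c : Cofan F) (hc : IsColimit c) : AlgSp.IsAlgSpace c.pt := by
  refine ⟨?_, ?_⟩
  · refine Functor.relativelyRepresentable.diag_of_map_from_obj fun T' y T x => ?_
    obtain ⟨T'i, j', yi, ⟨hT'⟩, -, hy⟩ := exists_decomp c hc y
    obtain ⟨Ti, j, xi, Pi, e, he, fi, si, fst, -, -, -, key⟩ :=
      exists_isPullback_of_cofan c hc x (Cofan.mk T' j') hT' y yi hy
        (fun i => (h i).representable_from_yon _)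
    exact ⟨e.pt, _, fst, key⟩
  · choose U p hpe hps using fun i => (h i).atlas
    let dU : Cofan U := Cofan.mk (∐ U) (Sigma.ι U)
    have hdU : IsColimit dU := coproductIsCoproduct U
    obtain ⟨P, hP⟩ := yon_cofan_exists_desc dU hdU (fun i => p i ≫ c.inj i)
    refine ⟨dU.pt, P, ?_, ?_⟩
    · refine MorphismProperty.relative.of_exists fun T x => ?_
      obtain ⟨Ti, j, xi, Pi, e, he, fi, si, fst, ⟨hT⟩, hopen, sq, key⟩ :=
        exists_isPullback_of_cofan c hc x dU hdU P p hP (fun i => (hpe i).rep)
      refine ⟨e.pt, fst, _, key, ?_⟩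
      change Etale (Cofan.IsColimit.desc he (fun i => si i ≫ j i)).left
      rw [← MorphismProperty.cancel_left_of_respectsIso @Etale (eIso e he).hom,
        IsZariskiLocalAtSource.iff_of_openCover (P := @Etale)
          (sigmaOpenCover (fun i => (Pi i).left))]
      intro i
      rw [sigmaOpenCover_f]
      erw [reassoc_of% ι_eIso e he i]
      rw [← Over.comp_left, Cofan.IsColimit.fac he, Over.comp_left]
      have h1 : Etale (si i).left := ((AlgSp.repWith_iff _ _).1 (hpe i)).2 (xi i) (fi i) (si i) (sq i)
      haveI := hopen i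
      exact (inferInstance : Etale ((si i).left ≫ (j i).left))
    · refine MorphismProperty.relative.of_exists fun T x => ?_
      obtain ⟨Ti, j, xi, Pi, e, he, fi, si, fst, ⟨hT⟩, hopen, sq, key⟩ :=
        exists_isPullback_of_cofan c hc x dU hdU P p hP (fun i => (hpe i).rep)
      refine ⟨e.pt, fst, _, key, ?_⟩
      change Surjective (Cofan.IsColimit.desc he (fun i => si i ≫ j i)).left
      refine ⟨fun t => ?_⟩
      obtain ⟨i, t', ht'⟩ := exists_inj_left (Cofan.mk T j) hT t
      have h1 : Surjective (si i).left :=
        ((AlgSp.repWith_iff _ _).1 (hps i)).2 (xi i) (fi i) (si i) (sq i)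
      obtain ⟨q, hq⟩ := h1.surj t'
      refine ⟨(e.inj i).left q, ?_⟩
      rw [← Scheme.Hom.comp_apply, ← Over.comp_left, Cofan.IsColimit.fac he, Over.comp_left,
        Scheme.Hom.comp_apply, hq]
      exact ht'

end Groth.Agent.S9881
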