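import Groth.Statements.S9882
import Mathlib
import Groth.Agent.Lib.helper15.AlgSpDiag2

set_option autoImplicit false
universe u
open CategoryTheory CategoryTheory.Limits AlgebraicGeometry
open AlgSp

namespace Groth.Agent.S9882

/-- Let `X` be an algebraic space over `S` with diagonal `Δ : X ⟶ X × X` (representable by schemes).
Then, in the representable sense, `Δ` is locally of finite type, a monomorphism, separated, and
locally quasi-finite. (Mathlib's locally quasi-finite class has no finite-type clause; together with
the first conjunct this is the usual notion.) -/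
theorem result (S : Scheme.{u}) (X : AlgSp.Space S) :
    AlgSp.RepWith @LocallyOfFiniteType (Limits.diag X.obj) ∧
      AlgSp.RepWith (MorphismProperty.monomorphisms Scheme.{u}) (Limits.diag X.obj) ∧
      AlgSp.RepWith @IsSeparated (Limits.diag X.obj) ∧
      AlgSp.RepWith @LocallyQuasiFinite (Limits.diag X.obj) := by
  have hrep : AlgSp.Representable (Limits.diag X.obj) := X.property.diag
  have hlft := Groth.Agent.Lib.H15.AS.repWith_lft_diag X.property
  have : Mono (Limits.diag X.obj) := by
    dsimp only [Limits.diag]
    exact mono_of_mono_fac (prod.lift_fst (𝟙 X.obj) (𝟙 X.obj))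
  have hmono : AlgSp.RepWith (MorphismProperty.monomorphisms Scheme.{u}) (Limits.diag X.obj) :=
    Groth.Agent.Lib.H15.AS.repWith_mono_of_mono _ hrep
  refine ⟨hlft, hmono, ?_, ?_⟩
  · exact Groth.Agent.Lib.H15.AS.repWith_mono
      (fun _ _ g (hg : Mono g) => (inferInstance : IsSeparated g)) hmono
  · rw [AlgSp.repWith_iff] at hlft hmono ⊢
    refine ⟨hrep, fun U V g fst snd sq => ?_⟩
    have h1 : LocallyOfFiniteType snd.left := hlft.2 g fst snd sq
    have h2 : Mono snd.left := hmono.2 g fst snd sq
    exact (inferInstance : LocallyQuasiFinite snd.left)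

end Groth.Agent.S9882
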