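import Groth.Statements.S9883
import Mathlib
import Groth.Agent.Lib.helper15.AlgSpChart
-- import your own Groth.Agent.* helpers here

set_option autoImplicit false
universe u
open CategoryTheory CategoryTheory.Limits AlgebraicGeometry
open AlgSp

namespace Groth.Agent.S9883

/-- Let `f : Y ⟶ X` be a morphism of algebraic spaces over `S` which is representable by schemes, let `q
: h_U ⟶ X` be representable etale and surjective with `U` a scheme over `S`, and let `h_V ⟶ Y`, `g :
V ⟶ U` be a base change of `f` along `q`. Let `P` be a property of morphisms of schemes which is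
stable under base change and fppf local on the base. Then `f` has `P` (in the representable sense)
if and only if `g` has `P`. -/
theorem result (S : Scheme.{u}) (X Y : AlgSp.Space S) (f : Y.obj ⟶ X.obj)
    (hf : AlgSp.Representable f) {U V : Over S} (q : (AlgSp.yon S).obj U ⟶ X.obj)
    (hqe : AlgSp.RepWith @Etale q) (hqs : AlgSp.RepWith @Surjective q)
    (fst : (AlgSp.yon S).obj V ⟶ Y.obj) (g : V ⟶ U) (sq : IsPullback fst ((AlgSp.yon S).map g) f q)
    (P : MorphismProperty Scheme.{u}) [P.IsStableUnderBaseChange] [P.IsLocalAtTarget Scheme.fppfPrecoverage] :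
    AlgSp.RepWith P f ↔ P g.left := by
  constructor
  · intro h
    exact h.property q fst g sq
  · intro hg
    have : P.RespectsIso := MorphismProperty.IsStableUnderBaseChange.respectsIso
    refine MorphismProperty.relative.of_exists fun T a => ?_
    refine ⟨hf.pullback a, hf.fst a, hf.snd a, hf.isPullback a, ?_⟩
    have hq : AlgSp.Representable q := hqe.rep
    have he : Etale (hq.snd a).left := hqe.property_snd a
    have hs : Surjective (hq.snd a).left := hqs.property_snd a
    change P (hf.snd a).left
    refine MorphismProperty.IsLocalAtTarget.of_forall_pullbackSnd (K := Scheme.fppfPrecoverage)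
      (hq.snd a).left.singleton_mem_fppfPrecoverage ?_
    rintro _ _ _ ⟨⟩
    refine Groth.Agent.Lib.H15.AS.prop_pullback_snd_of_charts P f sq (hf.isPullback a)
      (hq.snd a) (hq.fst' a) ?_ hg
    rw [hq.map_fst' a]
    exact (hq.w a).symm

end Groth.Agent.S9883
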