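import Groth.Statements.S9884
import Mathlib
import Groth.Agent.Lib.helper15.AlgSpChart
import Groth.Agent.Lib.helper15.AlgSpCover
-- import your own Groth.Agent.* helpers here

set_option autoImplicit false
universe u
open CategoryTheory CategoryTheory.Limits AlgebraicGeometry
open AlgSp

namespace Groth.Agent.S9884

/-- Let `a : F ⟶ G` be a map of fppf sheaves of sets over `S` which is representable by schemes, `b : H
⟶ G` a surjective map of sheaves, and `a' : H ×_G F ⟶ H` the base change of `a` along `b` (a
pullback square in sheaves). Let `P` be a property of morphisms of schemes stable under base change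
and fppf local on the base. If `a'` has `P` in the representable sense, then so does `a`. (The
published statement is for presheaves, with `b` inducing a surjection of fppf sheafifications; this
row is the case of sheaves.) -/
theorem result (S : Scheme.{u}) (F G H : AlgSp.Sp S) (a : F ⟶ G)
    (ha : AlgSp.Representable a) (b : H ⟶ G) [Sheaf.IsLocallySurjective b] (Q : AlgSp.Sp S) (b' : Q ⟶ F)
    (a' : Q ⟶ H) (sq : IsPullback b' a' a b) (P : MorphismProperty Scheme.{u}) [P.IsStableUnderBaseChange]
    [P.IsLocalAtTarget Scheme.fppfPrecoverage] (h : AlgSp.RepWith P a') : AlgSp.RepWith P a := by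
  have : P.RespectsIso := MorphismProperty.IsStableUnderBaseChange.respectsIso
  refine MorphismProperty.relative.of_exists fun T z => ?_
  refine ⟨ha.pullback z, ha.fst z, ha.snd z, ha.isPullback z, ?_⟩
  change P (ha.snd z).left
  -- the covering sieve on which the section lifts to `H`
  have hcov := Presheaf.imageSieve_mem (AlgSp.J S) b.hom ((AlgSp.J S).uliftYonedaEquiv z)
  obtain ⟨R', hR', hle⟩ := Groth.Agent.Lib.H15.AS.exists_precoverage_le_of_mem_J _ hcov
  refine MorphismProperty.IsLocalAtTarget.of_forall_pullbackSnd (K := Scheme.fppfPrecoverage) hR' ?_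
  intro Z c _ hc
  obtain ⟨t, ht⟩ := hle c hc
  -- the lift `d : h_{T'} ⟶ H`
  let c' : Over.mk (c ≫ T.hom) ⟶ T := Over.homMk c
  let d : (AlgSp.yon S).obj (Over.mk (c ≫ T.hom)) ⟶ H := (AlgSp.J S).uliftYonedaEquiv.symm t
  have hd : d ≫ b = (AlgSp.yon S).map c' ≫ z := by
    apply (AlgSp.J S).uliftYonedaEquiv.injective
    rw [GrothendieckTopology.uliftYonedaEquiv_comp, Equiv.apply_symm_apply,
      ← GrothendieckTopology.uliftYonedaEquiv_naturality]
    exact ht
  have hrep : AlgSp.Representable a' := h.rep
  have hP : P (hrep.snd d).left := h.property_snd d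
  have big := (hrep.isPullback d).paste_horiz sq
  rw [hd] at big
  have := Groth.Agent.Lib.H15.AS.prop_pullback_snd_of_charts P a big (ha.isPullback z) c' (𝟙 _)
    (by rw [CategoryTheory.Functor.map_id, Category.id_comp]) hP
  exact this

end Groth.Agent.S9884
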