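import Groth.Statements.S9885
import Mathlib
import Groth.Agent.Lib.helper15.AlgSpCover
-- import your own Groth.Agent.* helpers here

set_option autoImplicit false
universe u
open CategoryTheory CategoryTheory.Limits AlgebraicGeometry
open AlgSp

namespace Groth.Agent.S9885

/-- Let `a : F ⟶ G` be a map of fppf sheaves of sets over `S` which is representable by schemes, flat,
locally of finite presentation and surjective (in the representable sense). Then `a` is surjective
as a map of sheaves (locally surjective). -/
theorem result (S : Scheme.{u}) (F G : AlgSp.Sp S) (a : F ⟶ G)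
    (h₁ : AlgSp.RepWith @Flat a) (h₂ : AlgSp.RepWith @LocallyOfFinitePresentation a)
    (h₃ : AlgSp.RepWith @Surjective a) : Sheaf.IsLocallySurjective a := by
  refine ⟨fun {T} s => ?_⟩
  have hrep : AlgSp.Representable a := h₁.rep
  let z : (AlgSp.yon S).obj T ⟶ G := (AlgSp.J S).uliftYonedaEquiv.symm s
  have hfl : Flat (hrep.snd z).left := h₁.property_snd z
  have hfp : LocallyOfFinitePresentation (hrep.snd z).left := h₂.property_snd z
  have hsu : Surjective (hrep.snd z).left := h₃.property_snd z
  refine Groth.Agent.Lib.H15.AS.mem_J_of_mem (hrep.snd z) _ ?_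
  refine ⟨(AlgSp.J S).uliftYonedaEquiv (hrep.fst z), ?_⟩
  rw [← GrothendieckTopology.uliftYonedaEquiv_comp, hrep.w z,
    ← GrothendieckTopology.uliftYonedaEquiv_naturality, Equiv.apply_symm_apply]

end Groth.Agent.S9885
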