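import Groth.Statements.S9886
import Mathlib
-- import your own Groth.Agent.* helpers here

set_option autoImplicit false
universe u
open CategoryTheory CategoryTheory.Limits AlgebraicGeometry
open AlgSp

namespace Groth.Agent.S9886

/-- Let `F` be an fppf sheaf of sets over `S` and `P` a property of morphisms of schemes stable under
base change. Assume that for all schemes `U`, `V` over `S` and all `a : h_U ⟶ F`, `b : h_V ⟶ F` the
fibre product `h_U ×_F h_V` is represented by some scheme `W` over `S` with its projections induced
by morphisms `W ⟶ U`, `W ⟶ V`, and that for every such represented fibre product the morphism `W ⟶ U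
×_S V` has `P`. Then the diagonal `F ⟶ F × F` is representable by schemes and has `P`. (The
published statement is for a presheaf of sets `F` and a property `P` that is also fppf local on the
base; this row takes `F` an fppf sheaf and `P` only stable under base change.) -/
theorem result (S : Scheme.{u}) (F : AlgSp.Sp S) (P : MorphismProperty Scheme.{u})
    [P.IsStableUnderBaseChange]
    (h₁ : ∀ ⦃U V : Over S⦄ (a : (AlgSp.yon S).obj U ⟶ F) (b : (AlgSp.yon S).obj V ⟶ F),
      ∃ (W : Over S) (fst : W ⟶ U) (snd : W ⟶ V), IsPullback ((AlgSp.yon S).map fst) ((AlgSp.yon S).map snd) a b)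
    (h₂ : ∀ ⦃U V W : Over S⦄ (a : (AlgSp.yon S).obj U ⟶ F) (b : (AlgSp.yon S).obj V ⟶ F) (fst : W ⟶ U)
      (snd : W ⟶ V), IsPullback ((AlgSp.yon S).map fst) ((AlgSp.yon S).map snd) a b → P (prod.lift fst snd).left) :
    AlgSp.RepWith P (Limits.diag F) := by
  rw [AlgSp.repWith_iff]
  refine ⟨?_, ?_⟩
  · refine Functor.relativelyRepresentable.diag_of_map_from_obj (fun U a V b => ?_)
    obtain ⟨W, fst, snd, h⟩ := h₁ a b
    exact ⟨W, snd, (AlgSp.yon S).map fst, h⟩
  · intro U V g fst snd sq
    obtain ⟨W, p1, p2, sqB⟩ := h₁ (g ≫ prod.fst) (g ≫ prod.snd)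
    have hP := h₂ (g ≫ prod.fst) (g ≫ prod.snd) p1 p2 sqB
    have e1 : fst = (AlgSp.yon S).map snd ≫ g ≫ prod.fst := by
      have := congrArg (· ≫ prod.fst) sq.w
      simp only [Category.assoc] at this
      rw [Limits.diag, prod.lift_fst, Category.comp_id] at this
      exact this
    have e2 : fst = (AlgSp.yon S).map snd ≫ g ≫ prod.snd := by
      have := congrArg (· ≫ prod.snd) sq.w
      simp only [Category.assoc] at this
      rw [Limits.diag, prod.lift_snd, Category.comp_id] at this
      exact this
    let l' := sqB.lift ((AlgSp.yon S).map snd) ((AlgSp.yon S).map snd) (by rw [← e1, ← e2])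
    have hl'1 : l' ≫ (AlgSp.yon S).map p1 = (AlgSp.yon S).map snd := sqB.lift_fst _ _ _
    have hl'2 : l' ≫ (AlgSp.yon S).map p2 = (AlgSp.yon S).map snd := sqB.lift_snd _ _ _
    let l : V ⟶ W := (AlgSp.yon S).preimage l'
    have hl : (AlgSp.yon S).map l = l' := (AlgSp.yon S).map_preimage l'
    have hl1 : l ≫ p1 = snd := (AlgSp.yon S).map_injective (by rw [Functor.map_comp, hl, hl'1])
    have hl2 : l ≫ p2 = snd := (AlgSp.yon S).map_injective (by rw [Functor.map_comp, hl, hl'2])
    have key : IsPullback l snd (prod.lift p1 p2) (Limits.diag U) := by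
      have hcone : ∀ s : PullbackCone (prod.lift p1 p2) (Limits.diag U),
          s.fst ≫ p1 = s.snd ∧ s.fst ≫ p2 = s.snd := by
        intro s
        have h1 := congrArg (· ≫ prod.fst) s.condition
        have h2 := congrArg (· ≫ prod.snd) s.condition
        simp only [Category.assoc] at h1 h2
        dsimp only [Limits.diag] at h1 h2
        rw [prod.lift_fst, prod.lift_fst, Category.comp_id] at h1
        rw [prod.lift_snd, prod.lift_snd, Category.comp_id] at h2
        exact ⟨h1, h2⟩
      have hlift : ∀ s : PullbackCone (prod.lift p1 p2) (Limits.diag U),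
          ((AlgSp.yon S).map s.snd ≫ g ≫ prod.fst) ≫ Limits.diag F = (AlgSp.yon S).map s.snd ≫ g := by
        intro s
        obtain ⟨h1, h2⟩ := hcone s
        apply Limits.prod.hom_ext
        · simp only [Category.assoc]
          dsimp only [Limits.diag]
          rw [prod.lift_fst, Category.comp_id]
        · simp only [Category.assoc]
          dsimp only [Limits.diag]
          rw [prod.lift_snd, Category.comp_id]
          calc (AlgSp.yon S).map s.snd ≫ g ≫ prod.fst
              = (AlgSp.yon S).map s.fst ≫ (AlgSp.yon S).map p1 ≫ g ≫ prod.fst := by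
                rw [← h1, Functor.map_comp, Category.assoc]
            _ = (AlgSp.yon S).map s.fst ≫ (AlgSp.yon S).map p2 ≫ g ≫ prod.snd := by rw [sqB.w]
            _ = (AlgSp.yon S).map s.snd ≫ g ≫ prod.snd := by
                rw [← h2, Functor.map_comp, Category.assoc]
      let m' : ∀ s : PullbackCone (prod.lift p1 p2) (Limits.diag U),
          (AlgSp.yon S).obj s.pt ⟶ (AlgSp.yon S).obj V := fun s =>
        sq.lift ((AlgSp.yon S).map s.snd ≫ g ≫ prod.fst) ((AlgSp.yon S).map s.snd) (hlift s)
      have hm'1 : ∀ s, m' s ≫ fst = (AlgSp.yon S).map s.snd ≫ g ≫ prod.fst := fun s => sq.lift_fst _ _ _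
      have hm'2 : ∀ s, m' s ≫ (AlgSp.yon S).map snd = (AlgSp.yon S).map s.snd := fun s => sq.lift_snd _ _ _
      refine ⟨⟨?_⟩, ⟨PullbackCone.IsLimit.mk _ (fun s => (AlgSp.yon S).preimage (m' s)) ?_ ?_ ?_⟩⟩
      · apply Limits.prod.hom_ext
        · simp only [Category.assoc]
          dsimp only [Limits.diag]
          rw [prod.lift_fst, prod.lift_fst, Category.comp_id, hl1]
        · simp only [Category.assoc]
          dsimp only [Limits.diag]
          rw [prod.lift_snd, prod.lift_snd, Category.comp_id, hl2]
      · intro s
        obtain ⟨h1, h2⟩ := hcone s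
        apply (AlgSp.yon S).map_injective
        rw [Functor.map_comp, Functor.map_preimage, hl]
        apply sqB.hom_ext
        · rw [Category.assoc, hl'1, hm'2, ← h1, Functor.map_comp]
        · rw [Category.assoc, hl'2, hm'2, ← h2, Functor.map_comp]
      · intro s
        apply (AlgSp.yon S).map_injective
        rw [Functor.map_comp, Functor.map_preimage, hm'2]
      · intro s m hm1 hm2
        apply (AlgSp.yon S).map_injective
        rw [Functor.map_preimage]
        apply sq.hom_ext
        · rw [hm'1, e1, ← Category.assoc, ← Functor.map_comp, hm2]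
        · rw [hm'2, ← Functor.map_comp, hm2]
    exact MorphismProperty.of_isPullback (P := P) (key.map (Over.forget S)) hP

end Groth.Agent.S9886
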