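import Groth.Statements.S9889
import Mathlib

set_option autoImplicit false
universe u
open CategoryTheory CategoryTheory.Limits AlgebraicGeometry
open AlgSp

namespace Groth.Agent.S9889

section Decomp

variable {S : Scheme.{u}} {U : Over S} {G : Type u} (c : Cofan (fun _ : G => U)) (hc : IsColimit c)

/-- The scheme-level cofan is a colimit. -/
noncomputable def hcL : IsColimit (Cofan.mk c.pt.left (fun g => (c.inj g).left) :
    Cofan (fun _ : G => U.left)) :=
  isColimitCofanMkObjOfIsColimit (Over.forget S) (fun _ : G => U) c.inj hc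

noncomputable def eIso : (∐ fun _ : G => U.left) ≅ c.pt.left :=
  IsColimit.coconePointUniqueUpToIso (coproductIsCoproduct _) (hcL c hc)

lemma ι_eIso (g : G) : Sigma.ι (fun _ : G => U.left) g ≫ (eIso c hc).hom = (c.inj g).left :=
  IsColimit.comp_coconePointUniqueUpToIso_hom (coproductIsCoproduct _) (hcL c hc) ⟨g⟩

include hc in
lemma isOpenImmersion_inj (g : G) : IsOpenImmersion (c.inj g).left := by
  rw [← ι_eIso c hc g]; infer_instance

include hc in
lemma exists_inj (x : c.pt.left) : ∃ (g : G) (y : U.left), (c.inj g).left y = x := by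
  obtain ⟨g, y, hy⟩ := (sigmaOpenCover (fun _ : G => U.left)).exists_eq ((eIso c hc).inv x)
  refine ⟨g, y, ?_⟩
  rw [← ι_eIso c hc g, Scheme.Hom.comp_apply]
  rw [sigmaOpenCover_f] at hy
  erw [hy]
  rw [← Scheme.Hom.comp_apply, Iso.inv_hom_id]
  rfl

include hc in
lemma inj_ne (g h : G) (hgh : g ≠ h) (y y' : U.left) :
    (c.inj g).left y ≠ (c.inj h).left y' := by
  intro e
  rw [← ι_eIso c hc g, ← ι_eIso c hc h, Scheme.Hom.comp_apply, Scheme.Hom.comp_apply] at e
  have e' := (eIso c hc).hom.homeomorph.injective e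
  exact hgh (congrArg Sigma.fst ((sigmaι_eq_iff _ _ _ _ _).mp e'))

include hc in
lemma isOpen_range_inj (g : G) : IsOpen (Set.range (c.inj g).left) :=
  haveI := isOpenImmersion_inj c hc g
  (c.inj g).left.isOpenEmbedding.isOpen_range

variable {T₀ : Scheme.{u}} (r : T₀ ⟶ c.pt.left)

/-- The open of `T₀` mapping into the `g`-th summand. -/
def W (g : G) : T₀.Opens :=
  ⟨r ⁻¹' Set.range (c.inj g).left, (isOpen_range_inj c hc g).preimage r.continuous⟩

/-- The lift of `r` on `W g` to the `g`-th summand. -/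
noncomputable def k (g : G) : (W c hc r g : Scheme) ⟶ U.left :=
  haveI := isOpenImmersion_inj c hc g
  IsOpenImmersion.lift (c.inj g).left ((W c hc r g).ι ≫ r) (by
    rintro _ ⟨x, rfl⟩
    exact x.2)

lemma k_fac (g : G) : k c hc r g ≫ (c.inj g).left = (W c hc r g).ι ≫ r :=
  haveI := isOpenImmersion_inj c hc g
  IsOpenImmersion.lift_fac _ _ _

lemma nonempty_isColimit_W :
    Nonempty (IsColimit (Cofan.mk T₀ (fun g => (W c hc r g).ι))) := by
  apply nonempty_isColimit_cofanMk_of
  · rw [eq_top_iff]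
    intro x _
    obtain ⟨g, y, hy⟩ := exists_inj c hc (r x)
    simp only [Scheme.Opens.opensRange_ι]
    rw [TopologicalSpace.Opens.mem_iSup]
    exact ⟨g, y, hy⟩
  · intro g h hgh
    simp only [Function.onFun, Scheme.Opens.opensRange_ι]
    rw [disjoint_iff, eq_bot_iff]
    rintro x ⟨⟨y, hy⟩, ⟨y', hy'⟩⟩
    exact (inj_ne c hc g h hgh y y' (hy.trans hy'.symm)).elim

variable {T : Over S} (r : T ⟶ c.pt)

lemma exists_glue {Y : Over S} (φ : ∀ g, (W c hc r.left g : Scheme) ⟶ Y.left)
    (hφ : ∀ g, φ g ≫ Y.hom = (W c hc r.left g).ι ≫ T.hom) :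
    ∃ f : T ⟶ Y, ∀ g, (W c hc r.left g).ι ≫ f.left = φ g := by
  obtain ⟨hW⟩ := nonempty_isColimit_W c hc r.left
  refine ⟨Over.homMk (Cofan.IsColimit.desc hW φ) ?_, fun g => ?_⟩
  · apply Cofan.IsColimit.hom_ext hW
    intro g
    have := Cofan.IsColimit.fac hW φ g
    simp only [cofan_mk_inj] at this ⊢
    rw [reassoc_of% this]
    exact hφ g
  · exact Cofan.IsColimit.fac hW φ g

lemma hom_ext_W {Y : Over S} (f f' : T ⟶ Y)
    (h : ∀ g, (W c hc r.left g).ι ≫ f.left = (W c hc r.left g).ι ≫ f'.left) : f = f' := by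
  obtain ⟨hW⟩ := nonempty_isColimit_W c hc r.left
  apply Over.OverMorphism.ext
  exact Cofan.IsColimit.hom_ext hW _ _ h

end Decomp


/-- Let `U` be a scheme over `S` and `G` a group acting on `U` by automorphisms over `S`, freely: no
non-identity element of `G` fixes a point `x` of `U` while inducing the identity on its residue
field (equivalently, composing `Spec κ(x) ⟶ U` with the automorphism changes it). Let `R = ∐_{g ∈ G}
U` (coproduct in schemes over `S`) with `s` the identity and `t` the action of `g` on the `g`-th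
copy. Then `s, t : R ⟶ U` is an etale equivalence relation on `U` over `S` (so that `U/R` is an
algebraic space). -/
theorem result (S : Scheme.{u}) (U : Over S) (G : Type u) [Group G] (ρ : G →* Aut U)
    (hfree : ∀ (g : G) (x : U.left), g ≠ 1 →
      U.left.fromSpecResidueField x ≫ (ρ g).hom.left ≠ U.left.fromSpecResidueField x)
    (c : Cofan (fun _ : G => U)) (hc : IsColimit c) (s t : c.pt ⟶ U)
    (hs : ∀ g, c.inj g ≫ s = 𝟙 U) (ht : ∀ g, c.inj g ≫ t = (ρ g).hom) :
    AlgSp.IsEtaleEqvRel s t := by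
  have hρ : ∀ g h : G, (ρ g).hom ≫ (ρ h).hom = (ρ (h * g)).hom := fun g h => by
    rw [map_mul]; rfl
  have hρ1 : (ρ 1).hom = 𝟙 U := by rw [map_one]; rfl
  have hs_left : ∀ g, (c.inj g).left ≫ s.left = 𝟙 _ := fun g => by
    rw [← Over.comp_left, hs]; rfl
  have ht_left : ∀ g, (c.inj g).left ≫ t.left = (ρ g).hom.left := fun g => by
    rw [← Over.comp_left, ht]
  have hopen := fun g => isOpenImmersion_inj c hc g
  -- translations
  let τ : G → (c.pt ⟶ c.pt) := fun g => Cofan.IsColimit.desc hc (fun h => c.inj (g * h))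
  have hτ : ∀ g h, c.inj h ≫ τ g = c.inj (g * h) := fun g h =>
    Cofan.IsColimit.fac hc _ h
  have hτs : ∀ g, τ g ≫ s = s := fun g => by
    apply Cofan.IsColimit.hom_ext hc
    intro h
    rw [reassoc_of% hτ g h, hs, hs]
  have hτt : ∀ g, τ g ≫ t = t ≫ (ρ g).hom := fun g => by
    apply Cofan.IsColimit.hom_ext hc
    intro h
    rw [reassoc_of% hτ g h, ht, reassoc_of% ht h, hρ]
  -- inversion
  let ιv : c.pt ⟶ c.pt := Cofan.IsColimit.desc hc (fun g => (ρ g).hom ≫ c.inj g⁻¹)
  have hιv : ∀ g, c.inj g ≫ ιv = (ρ g).hom ≫ c.inj g⁻¹ := fun g =>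
    Cofan.IsColimit.fac hc _ g
  have hιvt : ιv ≫ t = s := by
    apply Cofan.IsColimit.hom_ext hc
    intro g
    rw [reassoc_of% hιv g, ht, hs, hρ, inv_mul_cancel, hρ1]
  have hιvs : ιv ≫ s = t := by
    apply Cofan.IsColimit.hom_ext hc
    intro g
    rw [reassoc_of% hιv g, hs, ht, Category.comp_id]
  refine ⟨⟨?inj, fun T => ⟨?refl, ?symm, ?trans⟩⟩, ?etl, ?etr⟩
  case refl =>
    intro a
    refine ⟨a ≫ c.inj 1, ?_, ?_⟩
    · rw [Category.assoc, ht, hρ1, Category.comp_id]
    · rw [Category.assoc, hs, Category.comp_id]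
  case symm =>
    rintro a b ⟨r, rfl, rfl⟩
    refine ⟨r ≫ ιv, ?_, ?_⟩
    · rw [Category.assoc, hιvt]
    · rw [Category.assoc, hιvs]
  case trans =>
    rintro a b d ⟨r₁, rfl, rfl⟩ ⟨r₂, h₂, rfl⟩
    obtain ⟨r₃, hr₃⟩ := exists_glue c hc r₁ (Y := c.pt)
      (fun g => (W c hc r₁.left g).ι ≫ r₂.left ≫ (τ g).left) (fun g => by
        rw [Category.assoc, Category.assoc, Over.w, Over.w])
    refine ⟨r₃, ?_, ?_⟩
    · apply hom_ext_W c hc r₁
      intro g
      rw [Over.comp_left, Over.comp_left, reassoc_of% hr₃ g, ← Over.comp_left, hτt,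
        Over.comp_left, ← Over.comp_left_assoc, h₂, Over.comp_left, Category.assoc,
        ← reassoc_of% k_fac c hc r₁.left g, ← reassoc_of% k_fac c hc r₁.left g,
        reassoc_of% hs_left g, ht_left]
    · apply hom_ext_W c hc r₁
      intro g
      rw [Over.comp_left, Over.comp_left, reassoc_of% hr₃ g, ← Over.comp_left, hτs]
  case etl =>
    rw [← MorphismProperty.cancel_left_of_respectsIso @Etale (eIso c hc).hom,
      IsZariskiLocalAtSource.iff_of_openCover (P := @Etale)
        (sigmaOpenCover (fun _ : G => U.left))]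
    intro g
    rw [sigmaOpenCover_f]
    erw [reassoc_of% ι_eIso c hc g, hs_left]
    exact (inferInstance : Etale (𝟙 U.left))
  case etr =>
    rw [← MorphismProperty.cancel_left_of_respectsIso @Etale (eIso c hc).hom,
      IsZariskiLocalAtSource.iff_of_openCover (P := @Etale)
        (sigmaOpenCover (fun _ : G => U.left))]
    intro g
    rw [sigmaOpenCover_f]
    erw [reassoc_of% ι_eIso c hc g, ht_left]
    haveI : IsIso (ρ g).hom.left := (Over.forget S).map_isIso (ρ g).hom
    exact (inferInstance : Etale (ρ g).hom.left)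
  case inj =>
    intro T r r' h1 h2
    have h1l : r.left ≫ t.left = r'.left ≫ t.left := by
      rw [← Over.comp_left, h1, Over.comp_left]
    have h2l : r.left ≫ s.left = r'.left ≫ s.left := by
      rw [← Over.comp_left, h2, Over.comp_left]
    apply hom_ext_W c hc r
    intro g
    have hk := k_fac c hc r.left g
    obtain ⟨hW''⟩ := nonempty_isColimit_W c hc ((W c hc r.left g).ι ≫ r'.left)
    apply Cofan.IsColimit.hom_ext hW''
    intro h
    have hk'' := k_fac c hc ((W c hc r.left g).ι ≫ r'.left) h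
    simp only [cofan_mk_inj]
    have e1 : k c hc ((W c hc r.left g).ι ≫ r'.left) h =
        (W c hc ((W c hc r.left g).ι ≫ r'.left) h).ι ≫ k c hc r.left g := by
      have a1 := congrArg (· ≫ s.left) hk''
      have a2 := congrArg (· ≫ s.left) hk
      simp only [Category.assoc, hs_left, Category.comp_id] at a1 a2
      rw [a1, a2, h2l]
    by_cases hgh : h = g
    · subst hgh
      rw [← hk, ← Category.assoc, ← e1, hk'']
    · have e2 : k c hc ((W c hc r.left g).ι ≫ r'.left) h ≫ (ρ h).hom.left =
          k c hc ((W c hc r.left g).ι ≫ r'.left) h ≫ (ρ g).hom.left := by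
        have a1 := congrArg (· ≫ t.left) hk''
        have a2 := congrArg (· ≫ t.left) hk
        simp only [Category.assoc, ht_left] at a1 a2
        rw [a1, e1, Category.assoc, a2, h1l]
      have e3 : k c hc ((W c hc r.left g).ι ≫ r'.left) h ≫ (ρ (h⁻¹ * g)).hom.left =
          k c hc ((W c hc r.left g).ι ≫ r'.left) h := by
        rw [← hρ g h⁻¹, Over.comp_left, ← Category.assoc, ← e2, Category.assoc,
          ← Over.comp_left, hρ, inv_mul_cancel, hρ1]
        exact Category.comp_id _
      have hemp : IsEmpty ((W c hc ((W c hc r.left g).ι ≫ r'.left) h : Scheme.{u})) := by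
        refine ⟨fun x => ?_⟩
        set kk := k c hc ((W c hc r.left g).ι ≫ r'.left) h with hkk
        have hne : h⁻¹ * g ≠ 1 := fun e => hgh (inv_mul_eq_one.mp e)
        apply hfree (h⁻¹ * g) (kk x) hne
        have h3 : Flat (Spec.map (kk.residueFieldMap x)) := by
          rw [HasRingHomProperty.Spec_iff (P := @Flat)]
          algebraize [(kk.residueFieldMap x).hom]
          show Module.Flat _ _
          infer_instance
        have h4 : Surjective (Spec.map (kk.residueFieldMap x)) := by
          refine ⟨fun y => ⟨IsLocalRing.closedPoint _, Subsingleton.elim _ _⟩⟩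
        have h5 : Epi (Spec.map (kk.residueFieldMap x)) := Flat.epi_of_flat_of_surjective _
        rw [← cancel_epi (Spec.map (kk.residueFieldMap x)),
          Scheme.Hom.SpecMap_residueFieldMap_fromSpecResidueField_assoc,
          Scheme.Hom.SpecMap_residueFieldMap_fromSpecResidueField, e3]
      exact (isInitialOfIsEmpty).hom_ext _ _

end Groth.Agent.S9889
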