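import Groth.Statements.S9891
import Mathlib
-- import your own Groth.Agent.* helpers here

set_option autoImplicit false
universe u
open CategoryTheory CategoryTheory.Limits AlgebraicGeometry
open AlgSp

namespace Groth.Agent.S9891

/-- Let `a : F ⟶ G` be a map of presheaves of sets on schemes over `S` which is representable by
schemes. Then the relative diagonal `F ⟶ F ×_G F` is representable by schemes. -/
theorem result (S : Scheme.{u}) (F G : AlgSp.PSp S) (a : F ⟶ G)
    (ha : (AlgSp.pyon S).relativelyRepresentable a) :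
    (AlgSp.pyon S).relativelyRepresentable (pullback.diagonal a) := by
  intro T g
  obtain ⟨x, hx⟩ : ∃ x, x = g ≫ pullback.fst a a := ⟨_, rfl⟩
  obtain ⟨y, hy⟩ : ∃ y, y = g ≫ pullback.snd a a := ⟨_, rfl⟩
  obtain ⟨z, hz⟩ : ∃ z, z = x ≫ a := ⟨_, rfl⟩
  have hzy : z = y ≫ a := by
    rw [hz, hx, hy]
    simp only [Category.assoc, pullback.condition]
  let sx : T ⟶ ha.pullback z := ha.lift x (𝟙 T) (by simp [hz])
  let sy : T ⟶ ha.pullback z := ha.lift y (𝟙 T) (by simp [hzy])
  have hsx : (AlgSp.pyon S).map sx ≫ ha.fst z = x := ha.lift_fst _ _ _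
  have hsy : (AlgSp.pyon S).map sy ≫ ha.fst z = y := ha.lift_fst _ _ _
  have hsxq : sx ≫ ha.snd z = 𝟙 T := ha.lift_snd _ _ _
  have hsyq : sy ≫ ha.snd z = 𝟙 T := ha.lift_snd _ _ _
  have hex : (AlgSp.pyon S).map (equalizer.ι sx sy) ≫ x =
      (AlgSp.pyon S).map (equalizer.ι sx sy) ≫ y := by
    rw [← hsx, ← hsy, ← Category.assoc, ← Category.assoc, ← Functor.map_comp, ← Functor.map_comp,
      equalizer.condition]
  have hlim := isLimitForkMapOfIsLimit (AlgSp.pyon S) (equalizer.condition sx sy)
    (equalizerIsEqualizer sx sy)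
  refine ⟨equalizer sx sy, equalizer.ι sx sy,
    (AlgSp.pyon S).map (equalizer.ι sx sy) ≫ x, ?_⟩
  have hcone : ∀ s : PullbackCone (pullback.diagonal a) g,
      s.fst = s.snd ≫ x ∧ s.fst = s.snd ≫ y := by
    intro s
    have h1 := congrArg (· ≫ pullback.fst a a) s.condition
    have h2 := congrArg (· ≫ pullback.snd a a) s.condition
    simp only [Category.assoc, pullback.diagonal_fst, pullback.diagonal_snd, Category.comp_id] at h1 h2
    rw [hx, hy]
    exact ⟨h1, h2⟩
  have hfork : ∀ s : PullbackCone (pullback.diagonal a) g,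
      s.snd ≫ (AlgSp.pyon S).map sx = s.snd ≫ (AlgSp.pyon S).map sy := by
    intro s
    obtain ⟨h1, h2⟩ := hcone s
    apply (ha.isPullback z).hom_ext
    · rw [Category.assoc, Category.assoc, hsx, hsy, ← h1, ← h2]
    · rw [Category.assoc, Category.assoc, ← Functor.map_comp, ← Functor.map_comp, hsxq, hsyq]
  refine ⟨⟨?_⟩, ⟨PullbackCone.IsLimit.mk _
    (fun s => (Fork.IsLimit.lift' hlim s.snd (hfork s)).1) ?_ ?_ ?_⟩⟩
  · apply pullback.hom_ext
    · simp only [Category.assoc, pullback.diagonal_fst, Category.comp_id]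
      rw [hx]
    · simp only [Category.assoc, pullback.diagonal_snd, Category.comp_id]
      rw [hex, hy]
  · intro s
    have h := (Fork.IsLimit.lift' hlim s.snd (hfork s)).2
    obtain ⟨h1, h2⟩ := hcone s
    rw [h1, ← Category.assoc]
    congr 1
  · intro s
    exact (Fork.IsLimit.lift' hlim s.snd (hfork s)).2
  · intro s m hm1 hm2
    apply Fork.IsLimit.hom_ext hlim
    rw [(Fork.IsLimit.lift' hlim s.snd (hfork s)).2]
    exact hm2

end Groth.Agent.S9891
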