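import Groth.Statements.S9892
import Mathlib
import Groth.Agent.Lib.helper15.AlgSpSheaf
-- import your own Groth.Agent.* helpers here

set_option autoImplicit false
universe u
open CategoryTheory CategoryTheory.Limits AlgebraicGeometry
open AlgSp

namespace Groth.Agent.S9892

/-- Let `a : F ⟶ G` be a map of presheaves of sets on schemes over `S` which is representable by
schemes. If `G` is a sheaf for the fppf topology, then so is `F`. -/
theorem result (S : Scheme.{u}) (F G : AlgSp.PSp S) (a : F ⟶ G)
    (ha : (AlgSp.pyon S).relativelyRepresentable a) (hG : Presheaf.IsSheaf (AlgSp.J S) G) :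
    Presheaf.IsSheaf (AlgSp.J S) F := by
  refine Groth.Agent.Lib.H15.AS.isSheaf_of_pullbacks a hG fun T z => ?_
  obtain ⟨V, snd, fst, sq⟩ := ha z
  exact ⟨(AlgSp.pyon S).obj V, fst, (AlgSp.pyon S).map snd, sq, ((AlgSp.yon S).obj V).property⟩

end Groth.Agent.S9892
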