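import Groth.Statements.S9900
import Mathlib
import Groth.Agent.Lib.helper15.AlgSpDiag

set_option autoImplicit false
universe u
open CategoryTheory CategoryTheory.Limits AlgebraicGeometry
open AlgSp

namespace Groth.Agent.S9900

/-- For a morphism of algebraic spaces the relative diagonal is representable by schemes, locally of
finite type, a monomorphism, separated and locally quasi-finite (each in the representable sense). -/
theorem result {S : Scheme.{u}} {X Y : AlgSp.Space S} (f : X ⟶ Y) :
    AlgSp.Representable (pullback.diagonal f.hom) ∧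
    AlgSp.RepWith @LocallyOfFiniteType (pullback.diagonal f.hom) ∧
    AlgSp.RepWith (MorphismProperty.monomorphisms Scheme.{u}) (pullback.diagonal f.hom) ∧
    AlgSp.RepWith @IsSeparated (pullback.diagonal f.hom) ∧
    AlgSp.RepWith (@LocallyQuasiFinite ⊓ @LocallyOfFiniteType) (pullback.diagonal f.hom) := by
  have hrep := Groth.Agent.Lib.H15.AS.representable_diagonal X.property f.hom
  have hlft := Groth.Agent.Lib.H15.AS.repWith_lft_diagonal X.property f.hom
  have hmono : AlgSp.RepWith (MorphismProperty.monomorphisms Scheme.{u}) (pullback.diagonal f.hom) :=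
    Groth.Agent.Lib.H15.AS.repWith_mono_of_mono _ hrep
  refine ⟨hrep, hlft, hmono, ?_, ?_⟩
  · exact Groth.Agent.Lib.H15.AS.repWith_mono
      (fun _ _ g (hg : Mono g) => (inferInstance : IsSeparated g)) hmono
  · rw [AlgSp.repWith_iff] at hlft hmono ⊢
    refine ⟨hrep, fun U V g fst snd sq => ?_⟩
    have h1 : LocallyOfFiniteType snd.left := hlft.2 g fst snd sq
    have h2 : Mono snd.left := hmono.2 g fst snd sq
    exact ⟨inferInstance, h1⟩

end Groth.Agent.S9900
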