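import Groth.Statements.S9902
import Mathlib
import Groth.Agent.Lib.helper15.AlgSpDiag2

set_option autoImplicit false
universe u
open CategoryTheory CategoryTheory.Limits AlgebraicGeometry
open AlgSp

namespace Groth.Agent.S9902

/-- Let s be a section of a morphism f : X -> T of algebraic spaces. Then s is representable by schemes
and, in the representable sense, a separated monomorphism that is locally of finite type and locally
quasi-finite; when f is separated s is a closed immersion, and when f is quasi-separated s is
quasi-compact. (The published lemma also shows that s is an immersion when f is locally separated;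
this row omits that clause.) -/
theorem result {S : Scheme.{u}} {X T : AlgSp.Space S} (f : X ⟶ T) (s : T ⟶ X)
    (hs : s ≫ f = 𝟙 T) :
    AlgSp.Representable s.hom ∧
    AlgSp.RepWith @LocallyOfFiniteType s.hom ∧
    AlgSp.RepWith (@LocallyQuasiFinite ⊓ @LocallyOfFiniteType) s.hom ∧
    AlgSp.RepWith @IsSeparated s.hom ∧
    AlgSp.RepWith (MorphismProperty.monomorphisms Scheme.{u}) s.hom ∧
    (AlgSp.IsSeparatedMor f.hom → AlgSp.RepWith @IsClosedImmersion s.hom) ∧
    (AlgSp.IsQuasiSeparatedMor f.hom → AlgSp.RepWith @QuasiCompact s.hom) := by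
  have hsf : s.hom ≫ f.hom = 𝟙 T.obj := congrArg (fun k => k.hom) hs
  have sq0 := pullback_lift_diagonal_isPullback s.hom f.hom
  obtain ⟨h1, h2, h3, h4, h5, h6, h7⟩ :=
    Groth.Agent.Lib.H15.AS.diagonal_base_change_props X.property f.hom sq0
  have hiso : IsIso (s.hom ≫ f.hom) := by rw [hsf]; infer_instance
  have hiso2 : IsIso (pullback.snd (s.hom ≫ f.hom) f.hom) := inferInstance
  have e : s.hom = pullback.lift (𝟙 T.obj) s.hom (by simp) ≫ pullback.snd (s.hom ≫ f.hom) f.hom := by
    rw [pullback.lift_snd]
  rw [e]
  refine ⟨?_, ?_, ?_, ?_, ?_, fun hs => ?_, fun hs => ?_⟩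
  · exact (MorphismProperty.cancel_right_of_respectsIso AlgSp.Representable _ _).2 h1
  · exact (MorphismProperty.cancel_right_of_respectsIso (AlgSp.RepWith _) _ _).2 h2
  · exact (MorphismProperty.cancel_right_of_respectsIso (AlgSp.RepWith _) _ _).2 h3
  · exact (MorphismProperty.cancel_right_of_respectsIso (AlgSp.RepWith _) _ _).2 h4
  · exact (MorphismProperty.cancel_right_of_respectsIso (AlgSp.RepWith _) _ _).2 h5
  · exact (MorphismProperty.cancel_right_of_respectsIso (AlgSp.RepWith _) _ _).2 (h6 hs)
  · exact (MorphismProperty.cancel_right_of_respectsIso (AlgSp.RepWith _) _ _).2 (h7 hs)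

end Groth.Agent.S9902
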