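import Groth.Statements.S9933
import Mathlib
import Groth.Agent.Lib.helper15.AlgSpDiag2

set_option autoImplicit false
universe u
open CategoryTheory CategoryTheory.Limits AlgebraicGeometry
open AlgSp

namespace Groth.Agent.S9933

/-- Permanence for Z -> Y -> X: the five representable finiteness/separation properties of Z -> X pass
to Z -> Y, and a closed immersion Z -> X with Y -> X separated gives a closed immersion Z -> Y. -/
theorem result {S : Scheme.{u}} {Z Y X : AlgSp.Space S} (a : Z ⟶ Y) (b : Y ⟶ X) :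
    ((AlgSp.Representable (a ≫ b).hom ∧ AlgSp.RepWith @LocallyOfFiniteType (a ≫ b).hom ∧
        AlgSp.RepWith (@LocallyQuasiFinite ⊓ @LocallyOfFiniteType) (a ≫ b).hom ∧
        AlgSp.RepWith @IsSeparated (a ≫ b).hom ∧
        AlgSp.RepWith (MorphismProperty.monomorphisms Scheme.{u}) (a ≫ b).hom) →
      (AlgSp.Representable a.hom ∧ AlgSp.RepWith @LocallyOfFiniteType a.hom ∧
        AlgSp.RepWith (@LocallyQuasiFinite ⊓ @LocallyOfFiniteType) a.hom ∧
        AlgSp.RepWith @IsSeparated a.hom ∧
        AlgSp.RepWith (MorphismProperty.monomorphisms Scheme.{u}) a.hom)) ∧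
    (AlgSp.RepWith @IsClosedImmersion (a ≫ b).hom → AlgSp.IsSeparatedMor b.hom →
      AlgSp.RepWith @IsClosedImmersion a.hom) := by
  have sq0 := pullback_lift_diagonal_isPullback a.hom b.hom
  obtain ⟨d1, d2, d3, d4, d5, d6, d7⟩ :=
    Groth.Agent.Lib.H15.AS.diagonal_base_change_props Y.property b.hom sq0
  have sq1 := IsPullback.of_hasPullback (a.hom ≫ b.hom) b.hom
  have e : a.hom = pullback.lift (𝟙 Z.obj) a.hom (by simp) ≫ pullback.snd (a.hom ≫ b.hom) b.hom := by
    rw [pullback.lift_snd]
  have hab : (a ≫ b).hom = a.hom ≫ b.hom := rfl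
  constructor
  · rintro ⟨c1, c2, c3, c4, c5⟩
    rw [hab] at c1 c2 c3 c4 c5
    rw [e]
    refine ⟨?_, ?_, ?_, ?_, ?_⟩
    · exact MorphismProperty.comp_mem _ _ _ d1 (MorphismProperty.of_isPullback sq1 c1)
    · exact MorphismProperty.comp_mem _ _ _ d2 (MorphismProperty.of_isPullback sq1 c2)
    · exact MorphismProperty.comp_mem _ _ _ d3 (MorphismProperty.of_isPullback sq1 c3)
    · exact MorphismProperty.comp_mem _ _ _ d4 (MorphismProperty.of_isPullback sq1 c4)
    · exact MorphismProperty.comp_mem _ _ _ d5 (MorphismProperty.of_isPullback sq1 c5)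
  · intro c hs
    rw [hab] at c
    rw [e]
    exact MorphismProperty.comp_mem _ _ _ (d6 hs) (MorphismProperty.of_isPullback sq1 c)

end Groth.Agent.S9933
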