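import Groth.Statements.S9944
import Groth.Agent.Lib.helper15.AlgSpAffine
import Groth.Agent.Lib.helper15.AlgSpPoints2

set_option autoImplicit false
universe u
open CategoryTheory CategoryTheory.Limits AlgebraicGeometry
open AlgSp

namespace Groth.Agent.S9944

/-- Let g : X -> Y be a morphism over a base algebraic space B with X affine over B. Then g is affine as
soon as the diagonal of Y over B is affine, and in particular as soon as Y is B-separated. (The
published lemma also has two versions with the absolute diagonal of Y; this row states the versions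
over B.) -/
theorem result {S : Scheme.{u}} {X Y B : AlgSp.Space S} (g : X ⟶ Y) (p : X ⟶ B)
    (q : Y ⟶ B) (comm : g ≫ q = p) (hp : AlgSp.IsAffineMor p.hom) :
    (AlgSp.IsAffineMor (pullback.diagonal q.hom) → AlgSp.IsAffineMor g.hom) ∧
    (AlgSp.IsSeparatedMor q.hom → AlgSp.IsAffineMor g.hom) := by
  have key : AlgSp.IsAffineMor (pullback.diagonal q.hom) → AlgSp.IsAffineMor g.hom := by
    intro hd
    have hpq : AlgSp.IsAffineMor (g.hom ≫ q.hom) := by
      have : g.hom ≫ q.hom = p.hom := by rw [← comm]; rfl
      rw [this]; exact hp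
    have h1 : AlgSp.IsAffineMor (pullback.lift (𝟙 X.obj) g.hom (by simp) :
        X.obj ⟶ pullback (g.hom ≫ q.hom) q.hom) :=
      Groth.Agent.Lib.H15.AS.isAffineMor_of_isPullback
        (pullback_lift_diagonal_isPullback g.hom q.hom) hd
    have h2 : AlgSp.IsAffineMor (pullback.snd (g.hom ≫ q.hom) q.hom) :=
      Groth.Agent.Lib.H15.AS.isAffineMor_of_isPullback
        (IsPullback.of_hasPullback (g.hom ≫ q.hom) q.hom) hpq
    have h3 := Groth.Agent.Lib.H15.AS.isAffineMor_comp h1 h2
    rwa [pullback.lift_snd] at h3
  refine ⟨key, fun hs => key ?_⟩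
  apply Groth.Agent.Lib.H15.AS.isAffineMor_of_repWith_isAffineHom
  exact Groth.Agent.Lib.H15.AS.repWith_mono (fun _ _ f hf => by
    have : IsClosedImmersion f := hf
    infer_instance) hs

end Groth.Agent.S9944
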