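import Groth.Statements.S9950
import Mathlib
import Groth.Agent.Lib.helper15.AlgSpLocP4

set_option autoImplicit false
universe u
open CategoryTheory CategoryTheory.Limits AlgebraicGeometry
open AlgSp

namespace Groth.Agent.S9950

/-- (6) ⇒ (1): if f ∘ φ is locally of finite type for one surjective etale chart φ of the source, then f
is locally of finite type. -/
theorem result {S : Scheme.{u}} {X Y : AlgSp.Space S} (f : X ⟶ Y) (U : Over S)
    (φ : (AlgSp.yon S).obj U ⟶ X.obj) (hφ : AlgSp.RepWith @Etale φ) (hφs : AlgSp.RepWith @Surjective φ)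
    (h : AlgSp.LocP @LocallyOfFiniteType (φ ≫ f.hom)) : AlgSp.LocP @LocallyOfFiniteType f.hom := by
  obtain ⟨V, b, hbe, hbs⟩ := Y.property.atlas
  have hk : AlgSp.Representable (φ ≫ f.hom) := Y.property.representable_from_yon _
  have sq := hk.isPullback' b
  have h1e : Etale (hk.fst' b).left :=
    ((AlgSp.repWith_iff _ _).1 hbe).2 (φ ≫ f.hom) ((AlgSp.yon S).map (hk.snd b)) (hk.fst' b) sq.flip
  have h1s : Surjective (hk.fst' b).left :=
    ((AlgSp.repWith_iff _ _).1 hbs).2 (φ ≫ f.hom) ((AlgSp.yon S).map (hk.snd b)) (hk.fst' b) sq.flip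
  have hl : LocallyOfFiniteType (hk.snd b).left :=
    h ((AlgSp.yon S).map (hk.fst' b)) b (hk.snd b) ((AlgSp.repWith_yon_map_iff _ _).2 h1e) hbe sq.w
  exact Groth.Agent.Lib.H15.AS.locP_lft_of_chart ((AlgSp.yon S).map (hk.fst' b) ≫ φ) b (hk.snd b)
    (Groth.Agent.Lib.H15.AS.repWith_yon_map_comp @Etale _ φ h1e hφ)
    (Groth.Agent.Lib.H15.AS.repWith_yon_map_comp @Surjective _ φ h1s hφs) hbe
    (by rw [Category.assoc]; exact sq.w) hl

end Groth.Agent.S9950
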