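import Groth.Statements.S9952
import Mathlib
import Groth.Agent.Lib.helper15.AlgSpLocP2

set_option autoImplicit false
universe u
open CategoryTheory CategoryTheory.Limits AlgebraicGeometry
open AlgSp

namespace Groth.Agent.S9952

/-- If g ∘ f is locally of finite type then f is locally of finite type. -/
theorem result {S : Scheme.{u}} {X Y Z : AlgSp.Space S} (f : X ⟶ Y) (g : Y ⟶ Z)
    (h : AlgSp.LocP @LocallyOfFiniteType (f ≫ g).hom) : AlgSp.LocP @LocallyOfFiniteType f.hom := by
  intro U V a b hh ha hb w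
  have hk : AlgSp.RepWith @LocallyOfFiniteType (a ≫ (f ≫ g).hom) :=
    Groth.Agent.Lib.H15.AS.repWith_comp_of_locP @LocallyOfFiniteType Z.property h a ha
  have e : a ≫ (f ≫ g).hom = (AlgSp.yon S).map hh ≫ (b ≫ g.hom) := by
    change a ≫ f.hom ≫ g.hom = _
    rw [← Category.assoc, w, Category.assoc]
  rw [e] at hk
  exact Groth.Agent.Lib.H15.AS.prop_of_repWith_yon_map_comp @LocallyOfFiniteType
    (fun A B i (hi : IsImmersion i) => (inferInstance : LocallyOfFiniteType i)) hh (b ≫ g.hom) hk

end Groth.Agent.S9952
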