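import Groth.Statements.S9954
import Groth.Agent.Lib.helper15.AlgSpFibreChart
import Groth.Agent.Lib.helper15.AlgSpEtale2
open Groth.Agent.Lib.H15 Groth.Agent.Lib.H15.AS

set_option autoImplicit false
universe u
open CategoryTheory CategoryTheory.Limits AlgebraicGeometry
open AlgSp

namespace Groth.Agent.S9954

/-- A morphism locally of finite type is surjective if and only if it is surjective on k-valued points
for every algebraically closed field k over the base. -/
theorem result {S : Scheme.{u}} {X Y : AlgSp.Space S} (f : X ⟶ Y)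
    (hf : AlgSp.LocP @LocallyOfFiniteType f.hom) :
    AlgSp.IsSurjectiveMor f.hom ↔
      ∀ (k : Type u) [Field k] [IsAlgClosed k] (str : Spec (CommRingCat.of k) ⟶ S)
        (y : (AlgSp.yon S).obj (Over.mk str) ⟶ Y.obj),
        ∃ x : (AlgSp.yon S).obj (Over.mk str) ⟶ X.obj, x ≫ f.hom = y := by
  classical
  constructor
  · intro hs k _ _ str y
    have sq := IsPullback.of_hasPullback f.hom y
    have hF : AlgSp.IsAlgSpace (pullback f.hom y) :=
      isAlgSpace_of_isPullback Y.property.diag X.property (AlgSp.IsAlgSpace.yon_obj _) sq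
    have hsnd := locP_of_isPullback_gen goodP_lft X.property Y.property
      (AlgSp.IsAlgSpace.yon_obj _) sq hf
    let pt : ↥(Over.mk str).left := (show ↥(Over.mk str).left from
      (default : ↥(Spec (CommRingCat.of k))))
    obtain ⟨x0, hx0⟩ := hs (AlgSp.Points.map y (AlgSp.Points.ofScheme _ pt))
    obtain ⟨p, -, -⟩ := points_exists_of_isPullback sq x0 _ hx0
    obtain ⟨U', c, hce, hcs⟩ := hF.atlas
    obtain ⟨u', -⟩ := surjective_ofPt c hcs p
    obtain ⟨g, hg⟩ := (AlgSp.yon S).map_surjective (c ≫ pullback.snd f.hom y)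
    have hPg : LocallyOfFiniteType g.left :=
      hsnd c (𝟙 _) g hce (AlgSp.repWith_id _ _) (by rw [hg, Category.comp_id])
    let g0 : U'.left ⟶ Spec (CommRingCat.of k) := g.left
    haveI : LocallyOfFiniteType g0 := hPg
    haveI : JacobsonSpace ↥U'.left := LocallyOfFiniteType.jacobsonSpace g0
    obtain ⟨x1, -, hx1⟩ := nonempty_inter_closedPoints (X := ↥U'.left) (Z := Set.univ) ⟨u', trivial⟩
      isOpen_univ.isLocallyClosed
    have hσ : pointOfClosedPoint g0 x1 hx1 ≫ g0 = 𝟙 _ := pointOfClosedPoint_comp g0 x1 hx1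
    have hw : g0 ≫ str = U'.hom := Over.w g
    let σ' : Over.mk str ⟶ U' := Over.homMk (pointOfClosedPoint g0 x1 hx1) (by
      change _ ≫ U'.hom = str
      rw [← hw, ← Category.assoc, hσ, Category.id_comp])
    have hσ' : σ' ≫ g = 𝟙 _ := Over.OverMorphism.ext hσ
    refine ⟨(AlgSp.yon S).map σ' ≫ c ≫ pullback.fst f.hom y, ?_⟩
    rw [Category.assoc, Category.assoc, sq.w, ← Category.assoc c, ← hg, ← Category.assoc,
      ← Functor.map_comp, hσ', CategoryTheory.Functor.map_id, Category.id_comp]
  · intro H y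
    induction y using AlgSp.Points.ind with
    | h p =>
    let K' : Type u := AlgebraicClosure p.K
    let φ : CommRingCat.of p.K ⟶ CommRingCat.of K' := CommRingCat.ofHom (algebraMap p.K K')
    let str' : Spec (CommRingCat.of K') ⟶ S := Spec.map φ ≫ p.str
    let e : Over.mk str' ⟶ p.pt := Over.homMk (Spec.map φ) rfl
    obtain ⟨x, hx⟩ := H K' str' ((AlgSp.yon S).map e ≫ fieldPtHom p)
    let pt' : ↥(Over.mk str').left := (show ↥(Over.mk str').left from
      (default : ↥(Spec (CommRingCat.of K'))))
    refine ⟨AlgSp.Points.ofPt x pt', ?_⟩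
    rw [AlgSp.Points.map_ofPt, hx, ofPt_yon_map_comp, points_eq_ofPt]

end Groth.Agent.S9954
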