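import Groth.Statements.S9955
import Groth.Agent.Lib.helper15.AlgSpFibreChart
import Groth.Agent.Lib.helper15.DiscreteFibre
import Groth.Agent.Lib.helper15.MonoClosedImm
import Groth.Agent.Lib.helper15.AlgSpDimStalk
open Groth.Agent.Lib.H15 Groth.Agent.Lib.H15.AS

set_option autoImplicit false
universe u
open CategoryTheory CategoryTheory.Limits AlgebraicGeometry
open AlgSp

namespace Groth.Agent.S9955

/-- A morphism locally of finite type is locally quasi-finite if and only if all its fibres over
field-valued points have discrete spaces of points. -/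
theorem result {S : Scheme.{u}} {X Y : AlgSp.Space S} (f : X ⟶ Y)
    (hf : AlgSp.LocP @LocallyOfFiniteType f.hom) :
    AlgSp.LocP ((@LocallyQuasiFinite : MorphismProperty Scheme.{u}) ⊓ @LocallyOfFiniteType) f.hom ↔
      ∀ (k : Type u) [Field k] (str : Spec (CommRingCat.of k) ⟶ S) (y : (AlgSp.yon S).obj (Over.mk str) ⟶ Y.obj)
        (P : AlgSp.Sp S) (fst : P ⟶ X.obj) (snd : P ⟶ (AlgSp.yon S).obj (Over.mk str)),
        IsPullback fst snd f.hom y → DiscreteTopology (AlgSp.Points P) := by
  classical
  constructor
  · intro hloc k _ str y P fst snd sq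
    have hP : AlgSp.IsAlgSpace P :=
      isAlgSpace_of_isPullback Y.property.diag X.property (AlgSp.IsAlgSpace.yon_obj _) sq
    have hsnd := locP_of_isPullback_gen goodP_lqf_lft X.property Y.property
      (AlgSp.IsAlgSpace.yon_obj _) sq hloc
    obtain ⟨U', c, hce, hcs⟩ := hP.atlas
    obtain ⟨g, hg⟩ := (AlgSp.yon S).map_surjective (c ≫ snd)
    have hPg := hsnd c (𝟙 _) g hce (AlgSp.repWith_id _ _) (by rw [hg, Category.comp_id])
    let g0 : U'.left ⟶ Spec (CommRingCat.of k) := g.left
    haveI : LocallyQuasiFinite g0 := hPg.1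
    haveI hdisc : DiscreteTopology ↥U'.left := discreteTopology_of_lqf_field g0
    rw [discreteTopology_iff_isOpen_singleton]
    intro x
    obtain ⟨u', rfl⟩ := surjective_ofPt c hcs x
    have := isOpenMap_ofPt c (repWith_universallyOpen_of_etale hce) {u'} (isOpen_discrete _)
    rwa [Set.image_singleton] at this
  · intro H U V a b h hae hbe wh
    haveI hlft : LocallyOfFiniteType h.left := hf a b h hae hbe wh
    refine ⟨?_, hlft⟩
    rw [← Scheme.Hom.quasiFiniteLocus_eq_top_iff]
    refine top_le_iff.1 fun u _ => ?_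
    change h.left.QuasiFiniteAt u
    -- the field point
    let k : Type u := U.left.residueField u
    let str : Spec (CommRingCat.of k) ⟶ S := U.left.fromSpecResidueField u ≫ U.hom
    let ιk : Over.mk str ⟶ U := Over.homMk (U.left.fromSpecResidueField u) rfl
    let pt : ↥(Over.mk str).left := (show ↥(Over.mk str).left from
      (default : ↥(Spec (CommRingCat.of k))))
    have hpt : ιk.left pt = u := Scheme.fromSpecResidueField_apply _ _
    let y : (AlgSp.yon S).obj (Over.mk str) ⟶ Y.obj := (AlgSp.yon S).map ιk ≫ a ≫ f.hom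
    have sqF := IsPullback.of_hasPullback f.hom y
    have hF : AlgSp.IsAlgSpace (pullback f.hom y) :=
      isAlgSpace_of_isPullback Y.property.diag X.property (AlgSp.IsAlgSpace.yon_obj _) sqF
    haveI hdiscF : DiscreteTopology (AlgSp.Points (pullback f.hom y)) := H k str y _ _ _ sqF
    have hb : AlgSp.Representable b := hbe.rep
    obtain ⟨c, sqc, hcq⟩ := exists_fibre_chart sqF a b h hb wh
    have hce : AlgSp.RepWith @Etale c := MorphismProperty.of_isPullback sqc.flip hae
    have e : AlgSp.Points.ofPt b (h.left u) = AlgSp.Points.ofPt y pt := by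
      change _ = AlgSp.Points.ofPt ((AlgSp.yon S).map ιk ≫ a ≫ f.hom) pt
      rw [ofPt_yon_map_comp, hpt, wh, ofPt_yon_map_comp]
    obtain ⟨v', hv'1, hv'2⟩ := exists_point_of_ofPt_eq (hb.isPullback' y) (h.left u) pt e
    have sqU'S := isPullback_left_pullback h (hb.fst' y)
    obtain ⟨p2, hp21, hp22⟩ := exists_preimage_of_isPullback sqU'S u v' hv'1.symm
    have hpr2lft : LocallyOfFiniteType (pullback.snd h (hb.fst' y)).left :=
      MorphismProperty.of_isPullback (P := @LocallyOfFiniteType) sqU'S hlft
    have hψe : Etale (hb.snd y).left := hbe.property_snd y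
    let g0 : (pullback h (hb.fst' y)).left ⟶ Spec (CommRingCat.of k) :=
      (pullback.snd h (hb.fst' y)).left ≫ (hb.snd y).left
    have hg0 : LocallyOfFiniteType g0 := inferInstance
    haveI hN : IsLocallyNoetherian (pullback h (hb.fst' y)).left :=
      isLocallyNoetherian_of_lft_field g0
    -- the open set of points of the chart over the point `z`
    let O : (pullback h (hb.fst' y)).left.Opens :=
      ⟨AlgSp.Points.ofPt c ⁻¹' {AlgSp.Points.ofPt c p2},
        (isOpen_discrete _).preimage (AlgSp.Points.continuous_ofPt c)⟩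
    have hopen : IsOpen ({p2} : Set ↥(pullback h (hb.fst' y)).left) := by
      refine isOpen_singleton_of_forall_ringKrullDim_eq O p2 rfl ?_
      intro x' hx'
      exact ringKrullDim_stalk_eq_of_charts hF c c hce hce x' p2 hx'
    have hqf2 : (pullback.snd h (hb.fst' y)).left.QuasiFiniteAt p2 :=
      (quasiFiniteAt_iff_exists_isOpen _ p2).2 ⟨{p2}, hopen, rfl, fun x' hx' _ => hx'⟩
    have hqf := quasiFiniteAt_of_isPullback sqU'S p2 hqf2
    rw [hp21] at hqf
    exact hqf

end Groth.Agent.S9955
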