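import Groth.Statements.S9957
import Groth.Agent.Lib.helper15.AlgSpNoeth2
import Groth.Agent.Lib.helper15.AlgSpQCProd
import Groth.Agent.Lib.helper15.AlgSpEtale

set_option autoImplicit false
universe u
open CategoryTheory CategoryTheory.Limits AlgebraicGeometry
open AlgSp

namespace Groth.Agent.S9957

/-- The source of a morphism of finite presentation whose target is Noetherian is itself Noetherian,
Noetherian meaning quasi-compact, quasi-separated over S and locally Noetherian. (The published
statement uses quasi-separatedness in the absolute sense; this row uses quasi-separatedness over S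
in hypothesis and conclusion.) -/
theorem result {S : Scheme.{u}} {X Y : AlgSp.Space S} (f : X ⟶ Y)
    (hf : AlgSp.IsFinitePresentationMor f.hom)
    (hY : AlgSp.IsQuasiCompactSp Y.obj ∧ AlgSp.IsQuasiSeparatedSp Y.obj ∧ AlgSp.IsLocNoethSp Y.obj) :
    AlgSp.IsQuasiCompactSp X.obj ∧ AlgSp.IsQuasiSeparatedSp X.obj ∧ AlgSp.IsLocNoethSp X.obj := by
  obtain ⟨hlfp, hqc, hqs⟩ := hf
  obtain ⟨hYqc, hYqs, hYn⟩ := hY
  refine ⟨?_, ?_, ?_⟩
  · exact hqc Y.property hYqc (𝟙 Y.obj) (𝟙 X.obj) f.hom (IsPullback.of_horiz_isIso ⟨by simp⟩)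
  · exact Groth.Agent.Lib.H15.AS.repWith_diag_of_repWith_diagonal @QuasiCompact f.hom hqs hYqs
  · refine Groth.Agent.Lib.H15.AS.isLocNoethSp_of_locP_lft X.property
      (Groth.Agent.Lib.H15.AS.locP_mono ?_ hlfp) hYn
    intro A B g hg
    have : LocallyOfFinitePresentation g := hg
    exact (inferInstance : LocallyOfFiniteType g)

end Groth.Agent.S9957
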