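import Groth.Statements.S9959
import Mathlib
import Groth.Agent.Lib.helper15.AlgSpLocP3

set_option autoImplicit false
universe u
open CategoryTheory CategoryTheory.Limits AlgebraicGeometry
open AlgSp

namespace Groth.Agent.S9959

/-- Given X -> Y -> Z with X -> Z locally finitely presented and Y -> Z locally of finite type, X -> Y
is locally finitely presented (all three etale locally on source and target). -/
theorem result {S : Scheme.{u}} {X Y Z : AlgSp.Space S} (f : X ⟶ Y) (g : Y ⟶ Z)
    (hX : AlgSp.LocP @LocallyOfFinitePresentation (f ≫ g).hom) (hY : AlgSp.LocP @LocallyOfFiniteType g.hom) :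
    AlgSp.LocP @LocallyOfFinitePresentation f.hom := by
  intro U V a b hh ha hb w
  have hk : AlgSp.RepWith @LocallyOfFinitePresentation (a ≫ (f ≫ g).hom) :=
    Groth.Agent.Lib.H15.AS.repWith_comp_of_locP @LocallyOfFinitePresentation Z.property hX a ha
  have hr : AlgSp.RepWith @LocallyOfFiniteType (b ≫ g.hom) :=
    Groth.Agent.Lib.H15.AS.repWith_comp_of_locP @LocallyOfFiniteType Z.property hY b hb
  have e : a ≫ (f ≫ g).hom = (AlgSp.yon S).map hh ≫ (b ≫ g.hom) := by
    change a ≫ f.hom ≫ g.hom = _
    rw [← Category.assoc, w, Category.assoc]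
  rw [e] at hk
  exact Groth.Agent.Lib.H15.AS.lfp_of_repWith_yon_map_comp hh (b ≫ g.hom) hr hk

end Groth.Agent.S9959
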