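import Groth.Statements.S9960
import Mathlib
import Groth.Agent.Lib.helper15.AlgSpLocP5
import Groth.Agent.Lib.helper15.AlgSpRepIff
import Groth.Agent.Lib.helper15.AlgSpImm

set_option autoImplicit false
universe u
open CategoryTheory CategoryTheory.Limits AlgebraicGeometry
open AlgSp

namespace Groth.Agent.S9960

/-- The diagonal of a morphism locally of finite type is locally of finite presentation, and of finite
presentation when the morphism is also quasi-separated. -/
theorem result {S : Scheme.{u}} {X Y : AlgSp.Space S} (f : X ⟶ Y)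
    (hf : AlgSp.LocP @LocallyOfFiniteType f.hom) :
    AlgSp.LocP @LocallyOfFinitePresentation (pullback.diagonal f.hom) ∧
    (AlgSp.IsQuasiSeparatedMor f.hom → AlgSp.IsFinitePresentationMor (pullback.diagonal f.hom)) := by
  have hXX : AlgSp.IsAlgSpace (pullback f.hom f.hom) :=
    Groth.Agent.Lib.H15.AS.isAlgSpace_of_isPullback Y.property.diag X.property X.property
      (IsPullback.of_hasPullback f.hom f.hom)
  have hpr : AlgSp.LocP @LocallyOfFiniteType (pullback.snd f.hom f.hom) :=
    Groth.Agent.Lib.H15.AS.locP_lft_of_isPullback X.property Y.property X.property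
      (IsPullback.of_hasPullback f.hom f.hom) hf
  have hlfp : AlgSp.LocP @LocallyOfFinitePresentation (pullback.diagonal f.hom) := by
    intro U V a b hh ha hb w
    have hr : AlgSp.RepWith @LocallyOfFiniteType (b ≫ pullback.snd f.hom f.hom) :=
      Groth.Agent.Lib.H15.AS.repWith_comp_of_locP @LocallyOfFiniteType X.property hpr b hb
    have e : (AlgSp.yon S).map hh ≫ b ≫ pullback.snd f.hom f.hom = a := by
      rw [← Category.assoc, ← w, Category.assoc, pullback.diagonal_snd, Category.comp_id]
    have hk : AlgSp.RepWith @LocallyOfFinitePresentation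
        ((AlgSp.yon S).map hh ≫ b ≫ pullback.snd f.hom f.hom) := by
      rw [e]
      exact Groth.Agent.Lib.H15.AS.repWith_mono
        (fun _ _ g (hg : Etale g) => (inferInstance : LocallyOfFinitePresentation g)) ha
    exact Groth.Agent.Lib.H15.AS.lfp_of_repWith_yon_map_comp hh _ hr hk
  refine ⟨hlfp, fun hqs => ⟨hlfp, ?_, ?_⟩⟩
  · exact (Groth.Agent.Lib.H15.AS.repWith_quasiCompact_iff X.property hXX hqs.rep).1 hqs
  · exact Groth.Agent.Lib.H15.AS.repWith_of_isIso _
      (fun _ _ g (hg : IsIso g) => (inferInstance : QuasiCompact g)) _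

end Groth.Agent.S9960
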