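import Groth.Statements.S9962
import Mathlib
import Groth.Agent.Lib.helper15.AlgSpLocP2
import Groth.Agent.Lib.helper15.AlgSpOpen

set_option autoImplicit false
universe u
open CategoryTheory CategoryTheory.Limits AlgebraicGeometry
open AlgSp

namespace Groth.Agent.S9962

/-- A flat morphism locally of finite presentation between algebraic spaces is universally open. -/
theorem result {S : Scheme.{u}} {X Y : AlgSp.Space S} (f : X ⟶ Y)
    (hfl : AlgSp.LocP @Flat f.hom) (hfp : AlgSp.LocP @LocallyOfFinitePresentation f.hom) :
    AlgSp.IsUnivOpenMor f.hom := by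
  obtain ⟨U, a, hae, has⟩ := X.property.atlas
  have hloc : AlgSp.LocP @UniversallyOpen f.hom := fun U V a b h ha hb w => by
    have : Flat h.left := hfl a b h ha hb w
    have : LocallyOfFinitePresentation h.left := hfp a b h ha hb w
    exact (inferInstance : UniversallyOpen h.left)
  exact Groth.Agent.Lib.H15.AS.isUnivOpenMor_of_chart a has
    (Groth.Agent.Lib.H15.AS.repWith_comp_of_locP @UniversallyOpen Y.property hloc a hae)

end Groth.Agent.S9962
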