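import Groth.Statements.S9972
import Groth.Agent.Lib.helper15.AlgSpDiag2
import Groth.Agent.Lib.helper15.AlgSpFibre
open Groth.Agent.Lib.H15 Groth.Agent.Lib.H15.AS

set_option autoImplicit false
universe u
open CategoryTheory CategoryTheory.Limits AlgebraicGeometry
open AlgSp

namespace Groth.Agent.S9972

/-- Two morphisms to an algebraic space separated over B that agree on an open subspace whose scheme
theoretic closure is everything are equal. -/
theorem result {S : Scheme.{u}} {U X Y B : AlgSp.Space S} (q : Y ⟶ B)
    (hq : AlgSp.IsSeparatedMor q.hom) (f g : X ⟶ Y) (hfg : f ≫ q = g ≫ q) (j : U ⟶ X)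
    (hj : AlgSp.RepWith @IsOpenImmersion j.hom) (hcl : AlgSp.IsSchImage j.hom (𝟙 X.obj)) (heq : j ≫ f = j ≫ g) :
    f = g := by
  have hfg' : f.hom ≫ q.hom = g.hom ≫ q.hom := congrArg (fun k => k.hom) hfg
  have heq' : j.hom ≫ f.hom = j.hom ≫ g.hom := congrArg (fun k => k.hom) heq
  have e1 : pullback.lift f.hom g.hom hfg' ≫ pullback.fst q.hom q.hom = f.hom :=
    pullback.lift_fst _ _ _
  have e2 : pullback.lift f.hom g.hom hfg' ≫ pullback.snd q.hom q.hom = g.hom :=
    pullback.lift_snd _ _ _
  have sqE : IsPullback (equalizer.ι f.hom g.hom ≫ f.hom) (equalizer.ι f.hom g.hom)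
      (pullback.diagonal q.hom) (pullback.lift f.hom g.hom hfg') := by
    have key : ∀ s : PullbackCone (pullback.diagonal q.hom) (pullback.lift f.hom g.hom hfg'),
        s.snd ≫ f.hom = s.fst ∧ s.snd ≫ g.hom = s.fst := by
      intro s
      have h1 := congr($s.condition ≫ pullback.fst q.hom q.hom)
      have h2 := congr($s.condition ≫ pullback.snd q.hom q.hom)
      rw [Category.assoc, Category.assoc, e1, pullback.diagonal_fst, Category.comp_id] at h1
      rw [Category.assoc, Category.assoc, e2, pullback.diagonal_snd, Category.comp_id] at h2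
      exact ⟨h1.symm, h2.symm⟩
    refine ⟨⟨?_⟩, ⟨PullbackCone.IsLimit.mk _ ?_ ?_ ?_ ?_⟩⟩
    · apply pullback.hom_ext
      · rw [Category.assoc, Category.assoc, Category.assoc, e1, pullback.diagonal_fst,
          Category.comp_id]
      · rw [Category.assoc, Category.assoc, Category.assoc, e2, pullback.diagonal_snd,
          Category.comp_id, equalizer.condition f.hom g.hom]
    · exact fun s => equalizer.lift s.snd ((key s).1.trans (key s).2.symm)
    · intro s
      rw [← Category.assoc, equalizer.lift_ι]
      exact (key s).1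
    · intro s
      exact equalizer.lift_ι _ _
    · intro s m _ hm
      apply equalizer.hom_ext
      rw [equalizer.lift_ι]
      exact hm
  have hP : AlgSp.IsAlgSpace (pullback q.hom q.hom) :=
    isAlgSpace_of_isPullback B.property.diag Y.property Y.property (IsPullback.of_hasPullback q.hom q.hom)
  have hE : AlgSp.IsAlgSpace (equalizer f.hom g.hom) :=
    isAlgSpace_of_isPullback hP.diag Y.property X.property sqE
  have hi' : AlgSp.RepWith @IsClosedImmersion (equalizer.ι f.hom g.hom) :=
    (diagonal_base_change_props Y.property q.hom sqE).2.2.2.2.2.1 hq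
  obtain ⟨k, hk⟩ := hcl.2.2 (equalizer.ι f.hom g.hom) hE hi'
    ⟨equalizer.lift j.hom heq', equalizer.lift_ι _ _⟩
  have hfin : f.hom = g.hom := by
    calc f.hom = (k ≫ equalizer.ι f.hom g.hom) ≫ f.hom := by rw [hk, Category.id_comp]
      _ = (k ≫ equalizer.ι f.hom g.hom) ≫ g.hom := by
          rw [Category.assoc, Category.assoc, equalizer.condition]
      _ = g.hom := by rw [hk, Category.id_comp]
  exact ObjectProperty.hom_ext _ hfin

end Groth.Agent.S9972
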