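import Groth.Statements.S9981
import Groth.Agent.Lib.helper15.LocConstr
import Groth.Agent.Lib.helper15.AlgSpPoints3
open Groth.Agent.Lib.H15 Groth.Agent.Lib.H15.AS

set_option autoImplicit false
universe u
open CategoryTheory CategoryTheory.Limits AlgebraicGeometry
open AlgSp

namespace Groth.Agent.S9981

/-- The inverse image of an etale locally constructible subset under a morphism of algebraic spaces is
etale locally constructible. -/
theorem result {S : Scheme.{u}} {X Y : AlgSp.Space S} (f : X ⟶ Y)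
    (E : Set (AlgSp.Points Y.obj))
    (hE : (∀ (U : Over S) (φ : (AlgSp.yon S).obj U ⟶ Y.obj), AlgSp.RepWith @Etale φ →
        Topology.IsLocallyConstructible (AlgSp.Points.ofPt φ ⁻¹' E))) :
    (∀ (U : Over S) (φ : (AlgSp.yon S).obj U ⟶ X.obj), AlgSp.RepWith @Etale φ →
        Topology.IsLocallyConstructible (AlgSp.Points.ofPt φ ⁻¹' (AlgSp.Points.map f.hom ⁻¹' E))) := by
  intro U φ hφ
  obtain ⟨V, b, hbe, hbs⟩ := Y.property.atlas
  have hrep : AlgSp.Representable b := hbe.rep
  have sq := hrep.isPullback' (φ ≫ f.hom)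
  haveI hsnde : Etale (hrep.snd (φ ≫ f.hom)).left := hbe.property_snd _
  haveI hsnds : Surjective (hrep.snd (φ ≫ f.hom)).left := hbs.property_snd _
  have key : (hrep.snd (φ ≫ f.hom)).left ⁻¹'
        (AlgSp.Points.ofPt φ ⁻¹' (AlgSp.Points.map f.hom ⁻¹' E)) =
      (hrep.fst' (φ ≫ f.hom)).left ⁻¹' (AlgSp.Points.ofPt b ⁻¹' E) := by
    ext t
    simp only [Set.mem_preimage]
    rw [AlgSp.Points.map_ofPt, ← ofPt_yon_map_comp, ← ofPt_yon_map_comp, sq.w]
  refine isLocallyConstructible_of_preimage (hrep.snd (φ ≫ f.hom)).left ?_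
  rw [key]
  exact isLocallyConstructible_preimage _ (hE V b hbe)

end Groth.Agent.S9981
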