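import Groth.Statements.S9982
import Groth.Agent.Lib.helper15.LocConstr
import Groth.Agent.Lib.helper15.AlgSpPoints3
import Groth.Agent.Lib.helper15.AlgSpQC
open Groth.Agent.Lib.H15 Groth.Agent.Lib.H15.AS
open scoped Set.Notation

set_option autoImplicit false
universe u
open CategoryTheory CategoryTheory.Limits AlgebraicGeometry
open AlgSp

namespace Groth.Agent.S9982

/-- A quasi-compact morphism locally of finite presentation between algebraic spaces maps etale locally
constructible sets to etale locally constructible sets. -/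
theorem result {S : Scheme.{u}} {X Y : AlgSp.Space S} (f : X ⟶ Y)
    (hq : AlgSp.IsQuasiCompactMor f.hom) (hfp : AlgSp.LocP @LocallyOfFinitePresentation f.hom)
    (E : Set (AlgSp.Points X.obj))
    (hE : (∀ (U : Over S) (φ : (AlgSp.yon S).obj U ⟶ X.obj), AlgSp.RepWith @Etale φ →
        Topology.IsLocallyConstructible (AlgSp.Points.ofPt φ ⁻¹' E))) :
    (∀ (U : Over S) (φ : (AlgSp.yon S).obj U ⟶ Y.obj), AlgSp.RepWith @Etale φ →
        Topology.IsLocallyConstructible (AlgSp.Points.ofPt φ ⁻¹' (AlgSp.Points.map f.hom '' E))) := by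
  -- the affine case
  have affine_case : ∀ (V : Over S) (φ : (AlgSp.yon S).obj V ⟶ Y.obj), AlgSp.RepWith @Etale φ →
      IsAffine V.left →
      Topology.IsLocallyConstructible (AlgSp.Points.ofPt φ ⁻¹' (AlgSp.Points.map f.hom '' E)) := by
    intro V φ hφ hV
    haveI := hV
    have hZ : AlgSp.IsAlgSpace ((AlgSp.yon S).obj V) := AlgSp.IsAlgSpace.yon_obj V
    have hZq : AlgSp.IsQuasiCompactSp ((AlgSp.yon S).obj V) := isQuasiCompactSp_yon V
    have sq := IsPullback.of_hasPullback f.hom φ
    obtain ⟨W, c, hce, hcs, hWc⟩ := hq hZ hZq φ (pullback.fst f.hom φ) (pullback.snd f.hom φ) sq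
    haveI := hWc
    have hfst : AlgSp.RepWith @Etale (pullback.fst f.hom φ) :=
      MorphismProperty.of_isPullback sq.flip hφ
    have hae : AlgSp.RepWith @Etale (c ≫ pullback.fst f.hom φ) :=
      MorphismProperty.comp_mem _ _ _ hce hfst
    obtain ⟨h, hh⟩ := (AlgSp.yon S).map_surjective (c ≫ pullback.snd f.hom φ)
    have hw : (c ≫ pullback.fst f.hom φ) ≫ f.hom = (AlgSp.yon S).map h ≫ φ := by
      rw [Category.assoc, sq.w, ← Category.assoc, hh]
    haveI hlfp : LocallyOfFinitePresentation h.left := hfp _ φ h hae hφ hw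
    haveI : QuasiCompact h.left := HasAffineProperty.iff_of_isAffine.mpr
      (inferInstanceAs (CompactSpace ↥W.left))
    have hEW := hE W (c ≫ pullback.fst f.hom φ) hae
    have key : AlgSp.Points.ofPt φ ⁻¹' (AlgSp.Points.map f.hom '' E) =
        h.left '' (AlgSp.Points.ofPt (c ≫ pullback.fst f.hom φ) ⁻¹' E) := by
      ext v
      constructor
      · rintro ⟨e, heE, hev⟩
        rw [AlgSp.Points.ofPt_eq_map_ofScheme φ v] at hev
        obtain ⟨z, hz1, hz2⟩ := points_exists_of_isPullback sq e _ hev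
        obtain ⟨w, rfl⟩ := surjective_ofPt c hcs z
        refine ⟨w, ?_, ?_⟩
        · change AlgSp.Points.ofPt (c ≫ pullback.fst f.hom φ) w ∈ E
          rw [← AlgSp.Points.map_ofPt, hz1]
          exact heE
        · rw [AlgSp.Points.map_ofPt, ← hh, AlgSp.Points.ofPt_eq_map_ofScheme] at hz2
          have hz3 : AlgSp.Points.map ((AlgSp.yon S).map h) (AlgSp.Points.schemeHomeo W w) =
              AlgSp.Points.schemeHomeo V v := hz2
          rw [AlgSp.Points.map_yon_map_apply] at hz3
          exact (AlgSp.Points.schemeHomeo V).injective hz3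
      · rintro ⟨w, hwE, rfl⟩
        refine ⟨_, hwE, ?_⟩
        rw [AlgSp.Points.map_ofPt, hw, ofPt_yon_map_comp]
    rw [key]
    exact h.left.isLocallyConstructible_image hEW
  intro V φ hφ
  refine Topology.IsLocallyConstructible.of_isOpenCover (U := fun i : V.left.affineOpens => i.1)
    (iSup_affineOpens_eq_top V.left) fun i => ?_
  have hφi : AlgSp.RepWith @Etale ((AlgSp.yon S).map (overOpenι V i.1) ≫ φ) :=
    repWith_yon_map_comp @Etale (overOpenι V i.1) φ (by change Etale i.1.ι; infer_instance) hφ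
  have h1 := affine_case (overOpen V i.1) _ hφi i.2
  have h2 : ((i.1 : Set ↥V.left) ↓∩ (AlgSp.Points.ofPt φ ⁻¹' (AlgSp.Points.map f.hom '' E))) =
      AlgSp.Points.ofPt ((AlgSp.yon S).map (overOpenι V i.1) ≫ φ) ⁻¹' (AlgSp.Points.map f.hom '' E) := by
    ext y
    change AlgSp.Points.ofPt φ y.1 ∈ AlgSp.Points.map f.hom '' E ↔
      AlgSp.Points.ofPt ((AlgSp.yon S).map (overOpenι V i.1) ≫ φ) y ∈ AlgSp.Points.map f.hom '' E
    rw [ofPt_yon_map_comp]
    rfl
  rw [h2]
  exact h1

end Groth.Agent.S9982
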