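import Groth.Statements.S9993
import Groth.Agent.Lib.helper15.AlgSpOpenSub3
import Groth.Agent.Lib.helper15.AlgSpSeven2

set_option autoImplicit false
universe u
open CategoryTheory CategoryTheory.Limits AlgebraicGeometry
open AlgSp

namespace Groth.Agent.S9993

/-- A morphism f : X ⟶ Y of algebraic spaces has P at the point x in the neighbourhood sense (some chart
diagram through x whose top arrow has P on an open neighbourhood of the chosen point) if and only if
some open subspace X' of X through x has its restriction X' ⟶ Y in the class P etale locally on the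
source and target. -/
theorem result {S : Scheme.{u}} (P : MorphismProperty Scheme.{u})
    (hP : P = @LocallyOfFiniteType ∨ P = @LocallyOfFinitePresentation ∨ P = @Flat ∨ P = @Smooth ∨ P = @Etale ∨
      (∀ ⦃A B : Scheme.{u}⦄ (g : A ⟶ B), P g ↔ (LocallyQuasiFinite g ∧ LocallyOfFiniteType g)) ∨
      (∀ ⦃A B : Scheme.{u}⦄ (g : A ⟶ B), P g ↔ (LocallyOfFiniteType g ∧ FormallyUnramified g)))
    {X Y : AlgSp.Space S} (f : X ⟶ Y) (x : AlgSp.Points X.obj) :
    AlgSp.HasAtMor (fun U _ h u => ∃ W : U.Opens, u ∈ W ∧ P (W.ι ≫ h)) f.hom x ↔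
      ∃ (X' : AlgSp.Space S) (j : X' ⟶ X), AlgSp.RepWith @IsOpenImmersion j.hom ∧
        x ∈ Set.range (AlgSp.Points.map j.hom) ∧ AlgSp.LocP P (j ≫ f).hom := by
  have hG := Groth.Agent.Lib.H15.AS.goodP_of_seven P hP
  have := hG.mul
  constructor
  · rintro ⟨U, V, a, b, h, u, hae, hbe, w, hu, W, huW, hPW⟩
    obtain ⟨hΩ, a', ha', hae', has'⟩ := Groth.Agent.Lib.H15.AS.exists_chart_openSub a hae W
    refine ⟨⟨Groth.Agent.Lib.H15.AS.openSub X.obj (AlgSp.Points.ofPt a '' (W : Set U.left)),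
      Groth.Agent.Lib.H15.AS.isAlgSpace_openSub X.property hΩ⟩,
      ObjectProperty.homMk (Groth.Agent.Lib.H15.AS.openSubι X.obj _),
      Groth.Agent.Lib.H15.AS.repWith_isOpenImmersion_openSubι X.obj hΩ, ?_, ?_⟩
    · change x ∈ Set.range (AlgSp.Points.map (Groth.Agent.Lib.H15.AS.openSubι X.obj _))
      rw [Groth.Agent.Lib.H15.AS.range_map_openSubι]
      exact ⟨u, huW, hu⟩
    · change AlgSp.LocP P (Groth.Agent.Lib.H15.AS.openSubι X.obj _ ≫ f.hom)
      refine Groth.Agent.Lib.H15.AS.locP_of_chart_gen hG a' b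
        (Groth.Agent.Lib.H15.AS.overOpenι U W ≫ h) hae' has' hbe ?_ hPW
      rw [← Category.assoc, ha', Category.assoc, w, Functor.map_comp, Category.assoc]
  · rintro ⟨X', j, hj, ⟨x', rfl⟩, hloc⟩
    obtain ⟨U, V, a, b, h, u, hae, hbe, w, hu, W, huW, hPW⟩ :=
      Groth.Agent.Lib.H15.AS.hasAtMor_of_locP hG X'.property Y.property hloc x'
    have hje : AlgSp.RepWith @Etale j.hom :=
      Groth.Agent.Lib.H15.AS.repWith_mono
        (fun _ _ g (hg : IsOpenImmersion g) => (inferInstance : Etale g)) hj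
    refine ⟨U, V, a ≫ j.hom, b, h, u, MorphismProperty.comp_mem _ _ _ hae hje, hbe, ?_, ?_,
      W, huW, hPW⟩
    · rw [Category.assoc]
      exact w
    · rw [← AlgSp.Points.map_ofPt, hu]

end Groth.Agent.S9993
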