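import Groth.Statements.S9995
import Groth.Agent.Lib.helper15.AlgSpChartIndep
import Groth.Agent.Lib.helper15.QfFibreFinite
import Groth.Agent.Lib.helper15.AlgSpQC
open Groth.Agent.Lib.H15 Groth.Agent.Lib.H15.AS

set_option autoImplicit false
universe u
open CategoryTheory CategoryTheory.Limits AlgebraicGeometry
open AlgSp

namespace Groth.Agent.S9995

/-- For a morphism f : X ⟶ Y of algebraic spaces of finite type and a point y of |Y|, the set of points
of |X| over y where f is quasi-finite is finite (in the neighbourhood sense, through some chart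
diagram). -/
theorem result {S : Scheme.{u}} {X Y : AlgSp.Space S} (f : X ⟶ Y)
    (hf : AlgSp.IsFiniteTypeMor f.hom) (y : AlgSp.Points Y.obj) :
    {x : AlgSp.Points X.obj | AlgSp.Points.map f.hom x = y ∧
      AlgSp.HasAtMor (fun U _ h u => ∃ W : U.Opens, u ∈ W ∧ LocallyQuasiFinite (W.ι ≫ h) ∧
        LocallyOfFiniteType (W.ι ≫ h)) f.hom x}.Finite := by
  classical
  obtain ⟨hlft, hqc⟩ := hf
  obtain ⟨V, b, hbe, hbs⟩ := Y.property.atlas
  obtain ⟨v, rfl⟩ := surjective_ofPt b hbs y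
  obtain ⟨V0, hV0, hvV0⟩ : ∃ V0 : V.left.Opens, IsAffineOpen V0 ∧ v ∈ V0 := by
    obtain ⟨_, ⟨V0, hV0, rfl⟩, hvV0, -⟩ :=
      V.left.isBasis_affineOpens.exists_subset_of_mem_open (Set.mem_univ v) isOpen_univ
    exact ⟨V0, hV0, hvV0⟩
  haveI : IsAffine (overOpen V V0).left := hV0
  have hb0e : AlgSp.RepWith @Etale ((AlgSp.yon S).map (overOpenι V V0) ≫ b) :=
    repWith_yon_map_comp @Etale (overOpenι V V0) b (by change Etale V0.ι; infer_instance) hbe
  have hv0 : AlgSp.Points.ofPt ((AlgSp.yon S).map (overOpenι V V0) ≫ b)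
      (⟨v, hvV0⟩ : ↥(overOpen V V0).left) = AlgSp.Points.ofPt b v := by
    rw [ofPt_yon_map_comp]
    rfl
  rw [← hv0]
  generalize (⟨v, hvV0⟩ : ↥(overOpen V V0).left) = v0
  generalize (AlgSp.yon S).map (overOpenι V V0) ≫ b = b0 at hb0e
  have sqP := IsPullback.of_hasPullback f.hom b0
  have hqcP : AlgSp.IsQuasiCompactSp (pullback f.hom b0) :=
    hqc (AlgSp.IsAlgSpace.yon_obj _) (isQuasiCompactSp_yon _) b0 _ _ sqP
  obtain ⟨U, c, hUaff, hce, hcs⟩ := exists_affine_chart_of_isQuasiCompactSp hqcP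
  obtain ⟨h, hh⟩ := (AlgSp.yon S).map_surjective (c ≫ pullback.snd f.hom b0)
  have hfe : AlgSp.RepWith @Etale (pullback.fst f.hom b0) :=
    MorphismProperty.of_isPullback sqP.flip hb0e
  have hae : AlgSp.RepWith @Etale (c ≫ pullback.fst f.hom b0) :=
    MorphismProperty.comp_mem _ _ _ hce hfe
  have w : (c ≫ pullback.fst f.hom b0) ≫ f.hom = (AlgSp.yon S).map h ≫ b0 := by
    rw [Category.assoc, sqP.w, ← Category.assoc, hh]
  haveI hlfth : LocallyOfFiniteType h.left := hlft _ b0 h hae hb0e w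
  haveI : QuasiCompact h.left := by
    rw [HasAffineProperty.iff_of_isAffine (P := @QuasiCompact)]
    infer_instance
  have hD := finite_setOf_quasiFiniteAt_fibre h.left v0
  refine (hD.image (AlgSp.Points.ofPt (c ≫ pullback.fst f.hom b0))).subset ?_
  rintro x ⟨hx1, U2, V2, a2, b2, h2, u2, ha2e, hb2e, w2, hu2, hQ⟩
  have e : AlgSp.Points.map f.hom x = AlgSp.Points.map b0 (AlgSp.Points.ofScheme _ v0) := by
    rw [hx1, AlgSp.Points.ofPt_eq_map_ofScheme]
  obtain ⟨p, hp1, hp2⟩ := points_exists_of_isPullback sqP x _ e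
  obtain ⟨u, rfl⟩ := surjective_ofPt c hcs p
  have hu1 : AlgSp.Points.ofPt (c ≫ pullback.fst f.hom b0) u = x := hp1
  have hu2' : h.left u = v0 := by
    rw [AlgSp.Points.map_ofPt, ← hh] at hp2
    have := congrArg (AlgSp.Points.toScheme _) hp2
    rw [AlgSp.Points.toScheme_ofPt, AlgSp.Points.toScheme_ofScheme] at this
    exact this
  refine ⟨u, ⟨hu2', ?_⟩, hu1⟩
  obtain ⟨W, huW, hPW⟩ := nbhd_chart_indep goodP_lqf_lft
    (fun A B C f' g' _ hfg => by
      have h1 : LocallyQuasiFinite (f' ≫ g') := hfg.1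
      have h2 : LocallyOfFiniteType (f' ≫ g') := hfg.2
      exact ⟨LocallyQuasiFinite.of_comp f' g', locallyOfFiniteType_of_comp f' g'⟩)
    a2 b2 h2 (c ≫ pullback.fst f.hom b0) b0 h ha2e hb2e hae hb0e w2 w u2 u (hu2.trans hu1.symm) hQ
  have hlqf : LocallyQuasiFinite (W.ι ≫ h.left) := hPW.1
  have := Scheme.Hom.quasiFiniteAt (W.ι ≫ h.left) ⟨u, huW⟩
  rw [Scheme.Hom.quasiFiniteAt_comp_iff_of_isOpenImmersion] at this
  exact this

end Groth.Agent.S9995
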